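import Groth.Statements.S15325
import Groth.Agent.Lib.Helper7.PowSerCRing

set_option autoImplicit false
universe u
open ArLef ArLef.NodeAlg

namespace Groth.Agent.S15325

open MvPowerSeries

section general

variable {R : Type*} [CommRing R] {M : Type*} [AddCommGroup M] [Module R M]

theorem length_quot_add (N₁ N₂ N₀ N₃ : Submodule R M) (hinf : N₁ ⊓ N₂ = N₀)
    (hsup : N₁ ⊔ N₂ = N₃) :
    Module.length R (M ⧸ N₀) + Module.length R (M ⧸ N₃) =
      Module.length R (M ⧸ N₁) + Module.length R (M ⧸ N₂) := by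
  subst hinf hsup
  let f : (M ⧸ (N₁ ⊓ N₂)) →ₗ[R] (M ⧸ N₁) × (M ⧸ N₂) :=
    LinearMap.prod (Submodule.factor inf_le_left) (Submodule.factor inf_le_right)
  let g : (M ⧸ N₁) × (M ⧸ N₂) →ₗ[R] M ⧸ (N₁ ⊔ N₂) :=
    (Submodule.factor le_sup_left).comp (LinearMap.fst R _ _) -
      (Submodule.factor le_sup_right).comp (LinearMap.snd R _ _)
  have hf : Function.Injective f := by
    rw [injective_iff_map_eq_zero]
    intro z hz
    obtain ⟨x, rfl⟩ := Submodule.mkQ_surjective _ z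
    have h1 : (N₁.mkQ x, N₂.mkQ x) = (0 : (M ⧸ N₁) × (M ⧸ N₂)) := hz
    have ha : N₁.mkQ x = 0 := congrArg Prod.fst h1
    have hb : N₂.mkQ x = 0 := congrArg Prod.snd h1
    have hx1 : x ∈ N₁ := (Submodule.Quotient.mk_eq_zero N₁).mp ha
    have hx2 : x ∈ N₂ := (Submodule.Quotient.mk_eq_zero N₂).mp hb
    exact (Submodule.Quotient.mk_eq_zero _).mpr ⟨hx1, hx2⟩
  have hg : Function.Surjective g := by
    intro w
    obtain ⟨x, rfl⟩ := Submodule.mkQ_surjective _ w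
    refine ⟨(N₁.mkQ x, 0), ?_⟩
    show Submodule.factor le_sup_left (N₁.mkQ x) - Submodule.factor le_sup_right (0 : M ⧸ N₂) = _
    rw [map_zero, sub_zero]
    rfl
  have H : Function.Exact f g := by
    intro y
    obtain ⟨y1, y2⟩ := y
    obtain ⟨x1, rfl⟩ := Submodule.mkQ_surjective _ y1
    obtain ⟨x2, rfl⟩ := Submodule.mkQ_surjective _ y2
    constructor
    · intro hy
      have h1 : (N₁ ⊔ N₂).mkQ x1 - (N₁ ⊔ N₂).mkQ x2 = 0 := hy
      rw [← map_sub, Submodule.mkQ_apply, Submodule.Quotient.mk_eq_zero, Submodule.mem_sup] at h1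
      obtain ⟨n1, hn1, n2, hn2, hsum⟩ := h1
      refine ⟨(N₁ ⊓ N₂).mkQ (x1 - n1), ?_⟩
      show (N₁.mkQ (x1 - n1), N₂.mkQ (x1 - n1)) = (N₁.mkQ x1, N₂.mkQ x2)
      refine Prod.ext ?_ ?_
      · show N₁.mkQ (x1 - n1) = N₁.mkQ x1
        rw [Submodule.mkQ_apply, Submodule.mkQ_apply, Submodule.Quotient.eq]
        have : x1 - n1 - x1 = -n1 := by abel
        rw [this]; exact N₁.neg_mem hn1
      · show N₂.mkQ (x1 - n1) = N₂.mkQ x2
        rw [Submodule.mkQ_apply, Submodule.mkQ_apply, Submodule.Quotient.eq]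
        have : x1 - n1 - x2 = n2 := by
          calc x1 - n1 - x2 = (x1 - x2) - n1 := by abel
            _ = n2 := by rw [← hsum]; abel
        rw [this]; exact hn2
    · rintro ⟨z, hz⟩
      obtain ⟨x, rfl⟩ := Submodule.mkQ_surjective _ z
      have h1 : (N₁.mkQ x, N₂.mkQ x) = (N₁.mkQ x1, N₂.mkQ x2) := hz
      obtain ⟨h2, h3⟩ := Prod.mk.inj h1
      rw [← h2, ← h3]
      show (N₁ ⊔ N₂).mkQ x - (N₁ ⊔ N₂).mkQ x = 0
      exact sub_self _
  have := Module.length_eq_add_of_exact f g hf hg H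
  rw [Module.length_prod] at this
  exact this.symm

theorem mem_fixIdeal {B : Type u} [Ring B] (σ : B → B) (x : B) : σ x - x ∈ ArLef.fixIdeal σ :=
  Ideal.subset_span ⟨x, rfl⟩

end general

section node

variable (k : Type u) [Field k]

local notation "PS" => MvPowerSeries (Fin 2) k
local notation "AA" => ArLef.NodeAlg k (0 : k)
local notation "𝔱" => ArLef.NodeAlg.t (0 : k)
local notation "𝔢" => ArLef.NodeAlg.e (0 : k)

theorem t_mul_e : 𝔱 * 𝔢 = 0 := by
  have h : (X 0 * X 1 : PS) ∈ Ideal.span {(X 0 * X 1 - C (0:k) : PS)} :=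
    Ideal.mem_span_singleton'.mpr ⟨1, by rw [one_mul, map_zero, sub_zero]⟩
  show Ideal.Quotient.mk (Ideal.span {(X 0 * X 1 - C (0:k) : PS)}) (X 0) *
    Ideal.Quotient.mk (Ideal.span {(X 0 * X 1 - C (0:k) : PS)}) (X 1) = 0
  rw [← map_mul]
  exact Ideal.Quotient.eq_zero_iff_mem.mpr h

/-- the augmentation -/
noncomputable def eps : AA →+* k :=
  Ideal.Quotient.lift _ (constantCoeff (σ := Fin 2) (R := k)) (by
    intro a ha
    have hle : Ideal.span {(X 0 * X 1 - C (0:k) : PS)} ≤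
        RingHom.ker (constantCoeff (σ := Fin 2) (R := k)) := by
      rw [Ideal.span_le, Set.singleton_subset_iff, SetLike.mem_coe, RingHom.mem_ker]
      simp
    exact hle ha)

theorem eps_mk (f : PS) : eps k (Ideal.Quotient.mk _ f) = constantCoeff f := rfl

theorem algebraMap_eq_mk_C (c : k) : algebraMap k AA c = Ideal.Quotient.mk _ (C c) := by
  rw [← Ideal.Quotient.mk_algebraMap, MvPowerSeries.algebraMap_apply, Algebra.algebraMap_self_apply]

theorem eps_algebraMap (c : k) : eps k (algebraMap k AA c) = c := by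
  rw [algebraMap_eq_mk_C, eps_mk, constantCoeff_C]

theorem eps_t : eps k 𝔱 = 0 := by
  show constantCoeff (X 0 : PS) = 0
  exact constantCoeff_X _

theorem eps_e : eps k 𝔢 = 0 := by
  show constantCoeff (X 1 : PS) = 0
  exact constantCoeff_X _

theorem isUnit_of_eps_ne_zero (z : AA) (hz : eps k z ≠ 0) : IsUnit z := by
  obtain ⟨g, rfl⟩ := Ideal.Quotient.mk_surjective z
  have hz' : constantCoeff g ≠ 0 := hz
  have : IsUnit g := by
    rw [MvPowerSeries.isUnit_iff_constantCoeff]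
    exact IsUnit.mk0 _ hz'
  exact this.map _

theorem exists_decomp (r : AA) :
    ∃ (c : k) (r1 r2 : AA), r = algebraMap k AA c + 𝔱 * r1 + 𝔢 * r2 := by
  obtain ⟨f, rfl⟩ := Ideal.Quotient.mk_surjective r
  obtain ⟨h, -, hf⟩ := Groth.Agent.Lib.Helper7.PowSerCRing.decomp (⊤ : Ideal k) 0 f
    (Groth.Agent.Lib.Helper7.PowSerCRing.mem_W_top 1 f)
  rw [Fin.sum_univ_two] at hf
  refine ⟨constantCoeff f, Ideal.Quotient.mk _ (h 0), Ideal.Quotient.mk _ (h 1), ?_⟩
  rw [algebraMap_eq_mk_C]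
  show Ideal.Quotient.mk _ f = Ideal.Quotient.mk _ (C (constantCoeff f)) +
    Ideal.Quotient.mk _ (X 0) * Ideal.Quotient.mk _ (h 0) +
    Ideal.Quotient.mk _ (X 1) * Ideal.Quotient.mk _ (h 1)
  rw [← map_mul, ← map_mul, ← map_add, ← map_add, add_assoc]
  exact congrArg _ hf

theorem span_te_le_ker : Ideal.span {𝔱, 𝔢} ≤ RingHom.ker (eps k) := by
  rw [Ideal.span_le]
  intro x hx
  simp only [Set.mem_insert_iff, Set.mem_singleton_iff] at hx
  rw [SetLike.mem_coe, RingHom.mem_ker]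
  rcases hx with rfl | rfl
  · exact eps_t k
  · exact eps_e k

theorem span_te_eq_ker : Ideal.span {𝔱, 𝔢} = RingHom.ker (eps k) := by
  apply le_antisymm (span_te_le_ker k)
  intro x hx
  rw [RingHom.mem_ker] at hx
  obtain ⟨c, r1, r2, hr⟩ := exists_decomp k x
  have hc : c = 0 := by
    have h1 := congrArg (eps k) hr
    rw [hx, map_add, map_add, map_mul, map_mul, eps_t, eps_e, zero_mul, zero_mul, add_zero,
      add_zero, eps_algebraMap] at h1
    exact h1.symm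
  rw [hr, hc, map_zero (algebraMap k AA), zero_add]
  exact Ideal.add_mem _ (Ideal.mul_mem_right _ _ (Ideal.subset_span (by simp)))
    (Ideal.mul_mem_right _ _ (Ideal.subset_span (by simp)))

theorem span_te_isMaximal : (Ideal.span {𝔱, 𝔢}).IsMaximal := by
  rw [span_te_eq_ker]
  exact RingHom.ker_isMaximal_of_surjective (eps k) (fun c => ⟨algebraMap k AA c, eps_algebraMap k c⟩)

theorem span_te_le_jacobson : Ideal.span {𝔱, 𝔢} ≤ Ideal.jacobson (⊥ : Ideal AA) := by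
  intro x hx
  rw [Ideal.mem_jacobson_bot]
  intro y
  apply isUnit_of_eps_ne_zero
  have hx0 : eps k x = 0 := span_te_le_ker k hx
  rw [map_add, map_mul, hx0, zero_mul, zero_add, map_one]
  exact one_ne_zero

theorem X0_dvd_of_dvd_X1_mul (Z : PS) (h : (X 0 : PS) ∣ X 1 * Z) : (X 0 : PS) ∣ Z := by
  rw [MvPowerSeries.X_dvd_iff] at h ⊢
  intro m hm
  have h1 : coeff (Finsupp.single 1 1 + m) (X 1 * Z) = coeff m Z := by
    rw [MvPowerSeries.X_def, MvPowerSeries.coeff_add_monomial_mul, one_mul]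
  rw [← h1]
  apply h
  rw [Finsupp.add_apply, hm, add_zero, Finsupp.single_apply, if_neg (by decide)]

theorem t_mul_eq_e_mul (y z : AA) (h : 𝔱 * y = 𝔢 * z) : 𝔱 * y = 0 := by
  obtain ⟨Y, rfl⟩ := Ideal.Quotient.mk_surjective y
  obtain ⟨Z, rfl⟩ := Ideal.Quotient.mk_surjective z
  have h1 : Ideal.Quotient.mk (Ideal.span {(X 0 * X 1 - C (0:k) : PS)}) (X 0 * Y - X 1 * Z) = 0 := by
    rw [map_sub, map_mul, map_mul]; exact sub_eq_zero.mpr h
  rw [Ideal.Quotient.eq_zero_iff_mem, Ideal.mem_span_singleton'] at h1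
  obtain ⟨W, hW⟩ := h1
  rw [map_zero, sub_zero] at hW
  have hdvd : (X 0 : PS) ∣ X 1 * Z := ⟨Y - W * X 1, by linear_combination hW⟩
  obtain ⟨Z', rfl⟩ := X0_dvd_of_dvd_X1_mul k Z hdvd
  rw [h]
  have h3 : 𝔢 * Ideal.Quotient.mk (Ideal.span {(X 0 * X 1 - C (0:k) : PS)}) (X 0 * Z') =
      (𝔱 * 𝔢) * Ideal.Quotient.mk _ Z' := by
    rw [map_mul]; ring
  rw [h3, t_mul_e, zero_mul]

theorem fixIdeal_eq (σ : AA ≃ₐ[k] AA) (α β : (AA)ˣ) (ht : σ 𝔱 = (α : AA) * 𝔱)
    (he : σ 𝔢 = (β : AA) * 𝔢) :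
    ArLef.fixIdeal σ = Ideal.span {((α : AA) - 1) * 𝔱, ((β : AA) - 1) * 𝔢} := by
  apply le_antisymm
  · have hFG : (ArLef.fixIdeal σ).FG := IsNoetherian.noetherian _
    refine Submodule.le_of_le_smul_of_le_jacobson_bot (I := Ideal.span {𝔱, 𝔢}) hFG
      (span_te_le_jacobson k) ?_
    have hmem : ∀ r : AA, σ r - r ∈
        Ideal.span {((α : AA) - 1) * 𝔱, ((β : AA) - 1) * 𝔢} ⊔
          Ideal.span {𝔱, 𝔢} • ArLef.fixIdeal σ := by
      intro r
      obtain ⟨c, r1, r2, hr⟩ := exists_decomp k r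
      have key : σ r - r = (σ r1 * (((α : AA) - 1) * 𝔱) + σ r2 * (((β : AA) - 1) * 𝔢)) +
          (𝔱 * (σ r1 - r1) + 𝔢 * (σ r2 - r2)) := by
        rw [hr, map_add, map_add, map_mul, map_mul, AlgEquiv.commutes, ht, he]
        ring
      rw [key]
      refine Submodule.add_mem _ (Submodule.mem_sup_left ?_) (Submodule.mem_sup_right ?_)
      · exact Ideal.add_mem _ (Ideal.mul_mem_left _ _ (Ideal.subset_span (by simp)))
          (Ideal.mul_mem_left _ _ (Ideal.subset_span (by simp)))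
      · refine Submodule.add_mem _ ?_ ?_
        · exact Submodule.smul_mem_smul (Ideal.subset_span (by simp)) (mem_fixIdeal σ r1)
        · exact Submodule.smul_mem_smul (Ideal.subset_span (by simp)) (mem_fixIdeal σ r2)
    exact Ideal.span_le.mpr (by rintro _ ⟨r, rfl⟩; exact hmem r)
  · rw [Ideal.span_le]
    intro x hx
    simp only [Set.mem_insert_iff, Set.mem_singleton_iff] at hx
    rcases hx with rfl | rfl
    · have : ((α : AA) - 1) * 𝔱 = σ 𝔱 - 𝔱 := by rw [ht]; ring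
      rw [this]; exact mem_fixIdeal σ _
    · have : ((β : AA) - 1) * 𝔢 = σ 𝔢 - 𝔢 := by rw [he]; ring
      rw [this]; exact mem_fixIdeal σ _

theorem main (σ : AA ≃ₐ[k] AA) (α β : (AA)ˣ) (ht : σ 𝔱 = (α : AA) * 𝔱)
    (he : σ 𝔢 = (β : AA) * 𝔢) :
    Module.length AA (AA ⧸ ArLef.fixIdeal σ) + 1 =
      Module.length AA (AA ⧸ (ArLef.fixIdeal σ ⊔ Ideal.span ({𝔱} : Set AA))) +
        Module.length AA (AA ⧸ (ArLef.fixIdeal σ ⊔ Ideal.span ({𝔢} : Set AA))) := by
  have hF := fixIdeal_eq k σ α β ht he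
  rw [hF]
  set a : AA := (α : AA) - 1
  set b : AA := (β : AA) - 1
  have hJM : Ideal.span {a * 𝔱, b * 𝔢} ≤ Ideal.span {𝔱, 𝔢} := by
    rw [Ideal.span_le]
    intro x hx
    simp only [Set.mem_insert_iff, Set.mem_singleton_iff] at hx
    rcases hx with rfl | rfl
    · exact Ideal.mul_mem_left _ _ (Ideal.subset_span (by simp))
    · exact Ideal.mul_mem_left _ _ (Ideal.subset_span (by simp))
  have hinf : (Ideal.span {a * 𝔱, b * 𝔢} ⊔ Ideal.span {𝔱}) ⊓
      (Ideal.span {a * 𝔱, b * 𝔢} ⊔ Ideal.span {𝔢}) = Ideal.span {a * 𝔱, b * 𝔢} := by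
    apply le_antisymm
    · rintro x ⟨hx1, hx2⟩
      obtain ⟨j1, hj1, s1, hs1, rfl⟩ := Submodule.mem_sup.mp hx1
      obtain ⟨j2, hj2, s2, hs2, h2⟩ := Submodule.mem_sup.mp hx2
      obtain ⟨u1, v1, rfl⟩ := Ideal.mem_span_pair.mp hj1
      obtain ⟨u2, v2, rfl⟩ := Ideal.mem_span_pair.mp hj2
      obtain ⟨w1, rfl⟩ := Ideal.mem_span_singleton'.mp hs1
      obtain ⟨w2, rfl⟩ := Ideal.mem_span_singleton'.mp hs2
      have h3 : 𝔱 * (u1 * a + w1 - u2 * a) = 𝔢 * (v2 * b + w2 - v1 * b) := by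
        linear_combination (-1 : AA) * h2
      have h4 := t_mul_eq_e_mul k _ _ h3
      have h5 : u1 * (a * 𝔱) + v1 * (b * 𝔢) + w1 * 𝔱 = u2 * (a * 𝔱) + v1 * (b * 𝔢) := by
        linear_combination h4
      rw [h5]
      exact Ideal.mem_span_pair.mpr ⟨u2, v1, rfl⟩
    · exact le_inf le_sup_left le_sup_left
  have hsup : (Ideal.span {a * 𝔱, b * 𝔢} ⊔ Ideal.span {𝔱}) ⊔
      (Ideal.span {a * 𝔱, b * 𝔢} ⊔ Ideal.span {𝔢}) = Ideal.span {𝔱, 𝔢} := by
    apply le_antisymm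
    · refine sup_le (sup_le hJM ?_) (sup_le hJM ?_)
      · rw [Ideal.span_le, Set.singleton_subset_iff]; exact Ideal.subset_span (by simp)
      · rw [Ideal.span_le, Set.singleton_subset_iff]; exact Ideal.subset_span (by simp)
    · rw [Ideal.span_le]
      intro x hx
      simp only [Set.mem_insert_iff, Set.mem_singleton_iff] at hx
      rcases hx with rfl | rfl
      · exact Ideal.mem_sup_left (Ideal.mem_sup_right (Ideal.subset_span (Set.mem_singleton _)))
      · exact Ideal.mem_sup_right (Ideal.mem_sup_right (Ideal.subset_span (Set.mem_singleton _)))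
  have hlen := length_quot_add (R := AA) (M := AA) _ _ _ _ hinf hsup
  have h1 : Module.length AA (AA ⧸ Ideal.span {𝔱, 𝔢}) = 1 := by
    rw [Module.length_eq_one_iff]
    exact isSimpleModule_iff_quot_maximal.mpr ⟨_, span_te_isMaximal k, ⟨LinearEquiv.refl _ _⟩⟩
  rw [h1] at hlen
  exact hlen

end node

theorem result (k : Type u) [Field k]
    (σ : ArLef.NodeAlg k 0 ≃ₐ[k] ArLef.NodeAlg k 0) (α β : (ArLef.NodeAlg k 0)ˣ)
    (ht : σ (ArLef.NodeAlg.t (0 : k)) = (α : ArLef.NodeAlg k 0) * ArLef.NodeAlg.t (0 : k)) (he : σ (ArLef.NodeAlg.e (0 : k)) = (β : ArLef.NodeAlg k 0) * ArLef.NodeAlg.e (0 : k)) :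
    Module.length (ArLef.NodeAlg k 0) (ArLef.NodeAlg k 0 ⧸ ArLef.fixIdeal σ) + 1 =
      Module.length (ArLef.NodeAlg k 0) (ArLef.NodeAlg k 0 ⧸ (ArLef.fixIdeal σ ⊔ Ideal.span ({ArLef.NodeAlg.t (0 : k)} : Set (ArLef.NodeAlg k 0)))) +
        Module.length (ArLef.NodeAlg k 0) (ArLef.NodeAlg k 0 ⧸ (ArLef.fixIdeal σ ⊔ Ideal.span ({ArLef.NodeAlg.e (0 : k)} : Set (ArLef.NodeAlg k 0)))) := by
  exact main k σ α β ht he

end Groth.Agent.S15325
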