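import Groth.Statements.S15326
-- import your own Groth.Agent.* helpers here
import Mathlib

set_option autoImplicit false
universe u
open ArLef

namespace Groth.Agent.S15326

/-- Let A be a commutative ring, t an element generating a prime ideal (a local equation of an
irreducible component C of the closed fibre), v an element outside (t) with π = vt the uniformizer,
and σ a ring automorphism of A with σ(vt) = vt whose fixed-point ideal is contained in (t^i) for
some i ≥ 1 (C has multiplicity at least i in the fixed locus). Then σ(t) - t lies in t^(i+1) A_(t),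
the localization at the prime (t): σ - 1 vanishes on (t)/(t^(i+1)) at the generic point of C. -/
theorem result (A : Type u) [CommRing A] (t v : A)
    [ht : (Ideal.span ({t} : Set A)).IsPrime] (hv : v ∉ Ideal.span ({t} : Set A))
    (σ : A ≃+* A) (hσ : σ (v * t) = v * t) (i : ℕ) (hi : 1 ≤ i)
    (hI : ArLef.fixIdeal σ ≤ Ideal.span ({t ^ i} : Set A)) :
    algebraMap A (Localization.AtPrime (Ideal.span ({t} : Set A))) (σ t - t) ∈
      Ideal.span ({algebraMap A (Localization.AtPrime (Ideal.span ({t} : Set A))) (t ^ (i + 1))} :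
        Set (Localization.AtPrime (Ideal.span ({t} : Set A)))) := by
  set α : A := σ v - v with hα
  set β : A := σ t - t with hβ
  have hαI : α ∈ Ideal.span ({t ^ i} : Set A) :=
    hI (Ideal.subset_span ⟨v, rfl⟩)
  have hβI : β ∈ Ideal.span ({t ^ i} : Set A) :=
    hI (Ideal.subset_span ⟨t, rfl⟩)
  obtain ⟨a, ha⟩ := Ideal.mem_span_singleton'.mp hαI
  obtain ⟨b, hb⟩ := Ideal.mem_span_singleton'.mp hβI
  -- the key identity v * β = - α * σ t
  have hkey : v * β = - (α * σ t) := by
    have h1 : σ v * σ t = v * t := by rw [← map_mul, hσ]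
    have h2 : σ v = v + α := by rw [hα]; ring
    have h3 : σ t = t + β := by rw [hβ]; ring
    rw [h2] at h1
    have : v * β = v * σ t - v * t := by rw [h3]; ring
    rw [this, ← h1]; ring
  -- σ t is a multiple of t
  obtain ⟨j, rfl⟩ : ∃ j, i = j + 1 := ⟨i - 1, by omega⟩
  have hσt : σ t = t * (1 + b * t ^ j) := by
    have h3 : σ t = t + β := by rw [hβ]; ring
    rw [h3, ← hb]; ring
  have hvβ : v * β = t ^ (j + 1 + 1) * (- (a * (1 + b * t ^ j))) := by
    rw [hkey, ← ha, hσt]; ring
  -- pass to the localization, where v is a unit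
  have hvu : IsUnit (algebraMap A (Localization.AtPrime (Ideal.span ({t} : Set A))) v) :=
    IsLocalization.map_units (Localization.AtPrime (Ideal.span ({t} : Set A)))
      (⟨v, hv⟩ : (Ideal.span ({t} : Set A)).primeCompl)
  obtain ⟨u, hu⟩ := hvu
  rw [Ideal.mem_span_singleton']
  refine ⟨(↑u⁻¹ : Localization.AtPrime (Ideal.span ({t} : Set A))) *
    algebraMap A _ (- (a * (1 + b * t ^ j))), ?_⟩
  have h4 := congrArg (algebraMap A (Localization.AtPrime (Ideal.span ({t} : Set A)))) hvβ
  rw [map_mul, map_mul, ← hu] at h4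
  calc (↑u⁻¹ : Localization.AtPrime (Ideal.span ({t} : Set A))) *
        algebraMap A _ (- (a * (1 + b * t ^ j))) * algebraMap A _ (t ^ (j + 1 + 1))
      = ↑u⁻¹ * (algebraMap A _ (t ^ (j + 1 + 1)) * algebraMap A _ (- (a * (1 + b * t ^ j)))) := by ring
    _ = ↑u⁻¹ * (↑u * algebraMap A _ β) := by rw [h4]
    _ = algebraMap A _ β := by rw [← mul_assoc, Units.inv_mul, one_mul]

end Groth.Agent.S15326
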