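import Groth.Statements.S15328
-- import your own Groth.Agent.* helpers here
import Groth.Agent.Lib.Helper23.Twist

set_option autoImplicit false
open CategoryTheory AlgebraicGeometry CategoryTheory.Limits
open VBCurve

namespace Groth.Agent.S15328

open Groth.Agent.Lib.Helper23.Twist Groth.Agent.Lib.Helper23.VBMaps Groth.Agent.Lib.Helper7.TwFun
open Groth.Agent.Lib.Helper23.Sat Groth.Agent.Lib.Helper23.Curve

/-- Let X be a smooth proper integral curve over the complex numbers, L an invertible module on X and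
(E, φ) an L-valued Higgs bundle on X: E finite locally free of rank r ≥ 1 and φ : E → E ⊗ L. A
submodule j : G → E (a monomorphism) is a Higgs submodule when φ restricts to it, that is, some ψ :
G → G ⊗ L followed by j ⊗ L equals j followed by φ; (E, φ) is semistable when deg G · r ≤ deg E · r'
for every finite locally free Higgs submodule G of rank r' ≥ 1, degrees being χ − rank · χ(O).
Suppose (E, φ) is semistable and F is a finite locally free Higgs submodule of rank r' ≥ 1 with the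
same slope, deg F · r = deg E · r'. Then the quotient E/F is finite locally free of rank r − r' and
is semistable of the same slope for its induced Higgs field: for every φ' : E/F → (E/F) ⊗ L
compatible with φ along the projection and every finite locally free submodule G of E/F of rank s ≥
1 to which φ' restricts, deg G · (r − r') ≤ deg(E/F) · s. (The published statement also assumes F
semistable, which the published argument does not use; this row omits it.) -/
theorem result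
    (X : Scheme.{0}) [X.Over (Spec (CommRingCat.of ℂ))] [IsIntegral X]
    [IsProper (X ↘ Spec (CommRingCat.of ℂ))] [Smooth (X ↘ Spec (CommRingCat.of ℂ))]
    (hdim : topologicalKrullDim X = 1)
    (L : X.Modules) (hL : PicF.IsInvertible L)
    (r : ℕ) (hr : 0 < r) (E : X.Modules) (hE : FlatMod.IsFinLocFreeOfRank r E)
    (φ : E ⟶ CohB1.tensorMod E L)
    (hss : ∀ (G : X.Modules) (s : ℕ) (j : G ⟶ E) (ψ : G ⟶ CohB1.tensorMod G L), Mono j → 0 < s →
      FlatMod.IsFinLocFreeOfRank s G →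
      ψ ≫ (CohB1.sheafifyMod X).map (MonoidalCategoryStruct.whiskerRight (C := CohB1.PMod X) j.val (CohB1.toPMod L)) = j ≫ φ →
      Curv2.deg ℂ X G s * (r : ℤ) ≤ Curv2.deg ℂ X E r * (s : ℤ))
    (F : X.Modules) (r' : ℕ) (hr' : 0 < r') (hF : FlatMod.IsFinLocFreeOfRank r' F)
    (i : F ⟶ E) [Mono i] (ψF : F ⟶ CohB1.tensorMod F L)
    (hψF : ψF ≫ (CohB1.sheafifyMod X).map (MonoidalCategoryStruct.whiskerRight (C := CohB1.PMod X) i.val (CohB1.toPMod L)) = i ≫ φ)
    (hslope : Curv2.deg ℂ X F r' * (r : ℤ) = Curv2.deg ℂ X E r * (r' : ℤ)) :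
    FlatMod.IsFinLocFreeOfRank (r - r') (cokernel i) ∧
    ∀ (φ' : cokernel i ⟶ CohB1.tensorMod (cokernel i) L),
      cokernel.π i ≫ φ' = φ ≫ (CohB1.sheafifyMod X).map (MonoidalCategoryStruct.whiskerRight (C := CohB1.PMod X) (cokernel.π i).val (CohB1.toPMod L)) →
      ∀ (G : X.Modules) (s : ℕ) (j : G ⟶ cokernel i) (ψ : G ⟶ CohB1.tensorMod G L), Mono j → 0 < s →
        FlatMod.IsFinLocFreeOfRank s G →
        ψ ≫ (CohB1.sheafifyMod X).map (MonoidalCategoryStruct.whiskerRight (C := CohB1.PMod X) j.val (CohB1.toPMod L)) = j ≫ φ' →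
        Curv2.deg ℂ X G s * ((r - r' : ℕ) : ℤ) ≤ Curv2.deg ℂ X (cokernel i) (r - r') * (s : ℤ) := by
  have hd1 : topologicalKrullDim X ≤ 1 := hdim.le
  have hss' : ∀ (G : X.Modules) (s : ℕ) (j : G ⟶ E), Mono j → 0 < s →
      FlatMod.IsFinLocFreeOfRank s G → Inv L (show E ⟶ (twR L).obj E from φ) j →
      Curv2.deg ℂ X G s * (r : ℤ) ≤ Curv2.deg ℂ X E r * (s : ℤ) := by
    intro G s j hj hs hG hinv
    obtain ⟨ψ, hψ⟩ := (inv_iff L φ j).mp hinv
    exact hss G s j ψ hj hs hG hψ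
  have hFinv : Inv L (show E ⟶ (twR L).obj E from φ) i := (inv_iff L φ i).mpr ⟨ψF, hψF⟩
  obtain ⟨G', C', i', p, w, u, c, hS, hu, hG', hC', hrc, hdle, hdE, hiso, hinv'⟩ :=
    sat_step ℂ hL hd1 hF hE i _ hFinv
  haveI : Mono i' := hS.mono_f
  have h1 := hss' G' r' i' inferInstance hr' hG' hinv'
  have hrZ : (0 : ℤ) < (r : ℤ) := by exact_mod_cast hr
  have hdeq : Curv2.deg ℂ X F r' = Curv2.deg ℂ X G' r' := by
    have h2 : Curv2.deg ℂ X G' r' * (r : ℤ) ≤ Curv2.deg ℂ X F r' * (r : ℤ) := by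
      rw [hslope]; exact h1
    have h3 := le_of_mul_le_mul_right h2 hrZ
    exact le_antisymm hdle h3
  haveI : IsIso u := hiso hdeq
  obtain ⟨e, he⟩ := exists_cokernel_iso_of_epi_fac i i' p w hS u hu
  have hcr : r - r' = c := by omega
  have hC : FlatMod.IsFinLocFreeOfRank c (cokernel i) := isFinLocFreeOfRank_of_iso e.symm hC'
  have hdC : Curv2.deg ℂ X (cokernel i) c = Curv2.deg ℂ X C' c := deg_eq_of_iso ℂ hd1 e hC
  rw [hcr]
  refine ⟨hC, ?_⟩
  intro φ' hφ' G s j ψ hj hs hG hψ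
  haveI := hj
  have hT : (cokerSC i).ShortExact := cokerSC_shortExact i
  obtain ⟨hmono, hP, hdP⟩ := preimage_data' ℂ hd1 (cokerSC i) hT hF hE
    (isCoh_of_isFinLocFreeOfRank hC) hG j
  have hπ : cokernel.π i ≫ (show cokernel i ⟶ (twR L).obj (cokernel i) from φ') =
      (show E ⟶ (twR L).obj E from φ) ≫ (twR L).map (cokernel.π i) :=
    hφ'.trans (congrArg (fun m => φ ≫ m) (wr_eq L (cokernel.π i)))
  have hPinv : Inv L (show E ⟶ (twR L).obj E from φ) (pullback.fst (cokernel.π i) j) :=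
    inv_pullback hL (cokernel.π i) j _ _ hπ ((inv_iff L φ' j).mpr ⟨ψ, hψ⟩)
  have h2 := hss' _ (r' + s) _ hmono (by omega) hP hPinv
  rw [hdP] at h2
  have hr3 : (r : ℤ) = (r' : ℤ) + (c : ℤ) := by exact_mod_cast hrc
  have hcnn : (0 : ℤ) ≤ (c : ℤ) := Int.natCast_nonneg _
  have e1 : Curv2.deg ℂ X E r = Curv2.deg ℂ X F r' + Curv2.deg ℂ X (cokernel i) c := by
    rw [hdE, hdeq, hdC]
  push_cast at h2
  have h3 : Curv2.deg ℂ X G s * (r : ℤ) ≤ Curv2.deg ℂ X E r * (s : ℤ) := by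
    have h2' : (Curv2.deg ℂ X F r' + Curv2.deg ℂ X G s) * (r : ℤ) =
        Curv2.deg ℂ X F r' * (r : ℤ) + Curv2.deg ℂ X G s * (r : ℤ) := by ring
    have h2'' : Curv2.deg ℂ X E r * ((r' : ℤ) + (s : ℤ)) =
        Curv2.deg ℂ X E r * (r' : ℤ) + Curv2.deg ℂ X E r * (s : ℤ) := by ring
    have h2a : (Curv2.deg ℂ X F r' + Curv2.deg ℂ X G s) * (r : ℤ) ≤
        Curv2.deg ℂ X E r * ((r' : ℤ) + (s : ℤ)) := h2
    rw [h2', h2'', hslope] at h2a
    linarith
  have hdCr : Curv2.deg ℂ X (cokernel i) c * (r : ℤ) = Curv2.deg ℂ X E r * (c : ℤ) := by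
    linear_combination (-1 : ℤ) * hslope - (r : ℤ) * e1 + Curv2.deg ℂ X E r * hr3
  have h5 : (Curv2.deg ℂ X G s * (c : ℤ)) * (r : ℤ) ≤
      (Curv2.deg ℂ X (cokernel i) c * (s : ℤ)) * (r : ℤ) :=
    calc (Curv2.deg ℂ X G s * (c : ℤ)) * (r : ℤ)
        = (Curv2.deg ℂ X G s * (r : ℤ)) * (c : ℤ) := by ring
      _ ≤ (Curv2.deg ℂ X E r * (s : ℤ)) * (c : ℤ) := mul_le_mul_of_nonneg_right h3 hcnn
      _ = (Curv2.deg ℂ X E r * (c : ℤ)) * (s : ℤ) := by ring
      _ = (Curv2.deg ℂ X (cokernel i) c * (r : ℤ)) * (s : ℤ) := by rw [hdCr]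
      _ = (Curv2.deg ℂ X (cokernel i) c * (s : ℤ)) * (r : ℤ) := by ring
  exact le_of_mul_le_mul_right h5 hrZ

end Groth.Agent.S15328
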