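import Groth.Statements.S15329
-- import your own Groth.Agent.* helpers here
import Mathlib

set_option autoImplicit false
open TensorProduct LaurentPolynomial
universe u v
open CAlg

namespace Groth.Agent.S15329

lemma neg_one_coeff (k : Type u) [Field k] (c : k) (q : Polynomial k)
    (h : Polynomial.toLaurent q = C c * T (-1)) : c = 0 := by
  have h1 := congrArg (fun f => f.coeff (-1)) h
  simp only [coeff_toLaurent] at h1
  rw [Finsupp.mapDomain_of_notMem_range, ← single_eq_C_mul_T] at h1
  · simpa [-single_eq_C_mul_T] using h1.symm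
  · rintro ⟨n, hn⟩
    simp at hn

lemma gen_val (k : Type u) [Field k] (E : Type v) [AddCommGroup E] [Module k E]
    (α : Module.Dual k E) (p n : ℤ) (v : E) :
    T p * (TensorProduct.AlgebraTensorModule.rid k k[T;T⁻¹] k[T;T⁻¹])
      (LinearMap.baseChange k[T;T⁻¹] α (T n ⊗ₜ[k] v)) = C (α v) * T (p + n) := by
  simp only [LinearMap.baseChange_tmul, TensorProduct.AlgebraTensorModule.rid_tmul]
  rw [LaurentPolynomial.smul_eq_C_mul, T_add]
  ring

/-- Let k be a field, E a k-vector space and F an increasing ℤ-indexed filtration of E by subspaces. In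
E[T, T⁻¹] = k[T, T⁻¹] ⊗ E the Rees module of (E, F) is the k-span of the elements T^n ⊗ v with v ∈ F
n; it is the module of global sections of the equivariant bundle on the affine line attached to (E,
F), and E[T, T⁻¹] that of its sections away from the origin. For a linear form α on E and an integer
p, the k[T, T⁻¹]-linear form m ↦ T^p · (id ⊗ α)(m) is the invariant section α of the dual bundle
away from the origin multiplied by T^p, and it extends over the origin exactly when it maps the Rees
module into the polynomial subring k[T]. This happens if and only if α vanishes on F(−p − 1); so the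
dual equivariant bundle corresponds to the dual space filtered by the annihilators of the F(−p − 1).
(The published statement has the annihilator of F(−p + 1), over the complex numbers; for E = k with
F n = 0 for n < 0 and F n = E for n ≥ 0 the form with p = 0 and α ≠ 0 maps the Rees module into k[T]
although α does not vanish on F(1) = E, and the published argument gives the index −p − 1, which
this row states, over any field.) -/
theorem result
    (k : Type u) [Field k] (E : Type v) [AddCommGroup E] [Module k E]
    (F : ℤ → Submodule k E) (hF : Monotone F)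
    (α : Module.Dual k E) (p : ℤ) :
    (∀ m ∈ Submodule.span k {x : k[T;T⁻¹] ⊗[k] E | ∃ (n : ℤ) (v : E), v ∈ F n ∧ x = T n ⊗ₜ[k] v},
      T p * (TensorProduct.AlgebraTensorModule.rid k k[T;T⁻¹] k[T;T⁻¹]) (LinearMap.baseChange k[T;T⁻¹] α m)
        ∈ (Polynomial.toLaurent : Polynomial k →+* k[T;T⁻¹]).range) ↔
    ∀ v ∈ F (-p - 1), α v = 0 := by
  constructor
  · intro h v hv
    have hm := h (T (-p - 1) ⊗ₜ[k] v) (Submodule.subset_span ⟨-p - 1, v, hv, rfl⟩)
    rw [gen_val] at hm
    have e : p + (-p - 1) = -1 := by ring
    rw [e] at hm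
    obtain ⟨q, hq⟩ := hm
    exact neg_one_coeff k (α v) q hq
  · intro h m hm
    refine Submodule.span_induction (p := fun m _ =>
      T p * (TensorProduct.AlgebraTensorModule.rid k k[T;T⁻¹] k[T;T⁻¹])
        (LinearMap.baseChange k[T;T⁻¹] α m)
        ∈ (Polynomial.toLaurent : Polynomial k →+* k[T;T⁻¹]).range) ?_ ?_ ?_ ?_ hm
    · rintro _ ⟨n, v, hv, rfl⟩
      rw [gen_val]
      rcases le_or_gt 0 (p + n) with hpn | hpn
      · obtain ⟨N, hN⟩ := Int.eq_ofNat_of_zero_le hpn
        rw [hN]
        exact ⟨Polynomial.C (α v) * Polynomial.X ^ N, Polynomial.toLaurent_C_mul_X_pow N (α v)⟩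
      · have hv' : v ∈ F (-p - 1) := hF (by omega) hv
        rw [h v hv', map_zero, zero_mul]
        exact Subring.zero_mem _
    · simp only [map_zero, mul_zero]
      exact Subring.zero_mem _
    · intro x y _ _ hx hy
      simp only [map_add, mul_add]
      exact Subring.add_mem _ hx hy
    · intro c x _ hx
      rw [LinearMap.map_smul_of_tower]
      have e2 : (TensorProduct.AlgebraTensorModule.rid k k[T;T⁻¹] k[T;T⁻¹])
          (c • (LinearMap.baseChange k[T;T⁻¹] α) x) =
          c • (TensorProduct.AlgebraTensorModule.rid k k[T;T⁻¹] k[T;T⁻¹])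
            ((LinearMap.baseChange k[T;T⁻¹] α) x) :=
        LinearMap.map_smul_of_tower
          (TensorProduct.AlgebraTensorModule.rid k k[T;T⁻¹] k[T;T⁻¹]).toLinearMap c _
      rw [e2, mul_smul_comm]
      obtain ⟨q, hq⟩ := hx
      refine ⟨Polynomial.C c * q, ?_⟩
      rw [Polynomial.toLaurent_C_mul_eq, hq, LaurentPolynomial.smul_eq_C_mul]

end Groth.Agent.S15329
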