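import Groth.Statements.S15330
-- import your own Groth.Agent.* helpers here
import Groth.Agent.Lib.Helper23.Twist

set_option autoImplicit false
open CategoryTheory AlgebraicGeometry CategoryTheory.Limits
open VBCurve

namespace Groth.Agent.S15330

open Groth.Agent.Lib.Helper23.Twist Groth.Agent.Lib.Helper23.VBMaps Groth.Agent.Lib.Helper7.TwFun
open Groth.Agent.Lib.Helper23.Sat Groth.Agent.Lib.Helper23.Curve Groth.Agent.Lib.Helper23.StableEnd
open Groth.Agent.Lib.Helper23.T2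

/-- a twisted endomorphism, typed through `twR`. -/
abbrev tw {X : Scheme.{0}} {L : X.Modules} {E : X.Modules} (φ : E ⟶ CohB1.tensorMod E L) :
    E ⟶ (twR L).obj E := φ

theorem main
    (X : Scheme.{0}) [X.Over (Spec (CommRingCat.of ℂ))] [IsIntegral X]
    [IsProper (X ↘ Spec (CommRingCat.of ℂ))] [Smooth (X ↘ Spec (CommRingCat.of ℂ))]
    (L : X.Modules) (r : ℕ) (d : ℤ)
    (E : X.Modules) (φE : E ⟶ (twR L).obj E)
    (hEd : Curv2.deg ℂ X E r = d)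
    (hEss : ∀ (G : X.Modules) (s : ℕ) (j : G ⟶ E), Mono j → 0 < s →
        FlatMod.IsFinLocFreeOfRank s G → Inv L φE j →
        Curv2.deg ℂ X G s * (r : ℤ) ≤ Curv2.deg ℂ X E r * (s : ℤ))
    (F : X.Modules) (φF : F ⟶ (twR L).obj F)
    (hFd : Curv2.deg ℂ X F r = d)
    (hFss : ∀ (G : X.Modules) (s : ℕ) (j : G ⟶ F), Mono j → 0 < s →
        FlatMod.IsFinLocFreeOfRank s G → Inv L φF j →
        Curv2.deg ℂ X G s * (r : ℤ) ≤ Curv2.deg ℂ X F r * (s : ℤ))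
    (n : ℕ)
    (Es : ℕ → X.Modules) (rE : ℕ → ℕ) (hEs : ∀ i, FlatMod.IsFinLocFreeOfRank (rE i) (Es i))
    (ιE : ∀ i, Es i ⟶ E) (hιE : ∀ i, Mono (ιE i))
    (ψE : ∀ i, Es i ⟶ (twR L).obj (Es i))
    (hψE : ∀ i, ψE i ≫ (twR L).map (ιE i) = ιE i ≫ φE)
    (a : ∀ i, Es i ⟶ Es (i + 1)) (ha : ∀ i, a i ≫ ιE (i + 1) = ιE i)
    (hE0 : IsZero (Es 0))
    (Fs : ℕ → X.Modules) (rF : ℕ → ℕ) (hFs : ∀ i, FlatMod.IsFinLocFreeOfRank (rF i) (Fs i))
    (ιF : ∀ i, Fs i ⟶ F) (hιF : ∀ i, Mono (ιF i))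
    (ψF : ∀ i, Fs i ⟶ (twR L).obj (Fs i))
    (hψF : ∀ i, ψF i ≫ (twR L).map (ιF i) = ιF i ≫ φF)
    (b : ∀ i, Fs (i + 1) ⟶ Fs i) (hb : ∀ i, b i ≫ ιF i = ιF (i + 1))
    (hF0 : IsIso (ιF 0))
    (hrk : ∀ i, i ≤ n → rE i + rF i = r)
    (hopp : ∀ i, i < n → Nonempty (cokernel (a i) ≅ cokernel (b i))) :
    (∀ i, i ≤ n → Curv2.deg ℂ X (Es i) (rE i) * (r : ℤ) = d * (rE i : ℤ)) ∧
    (∀ i, i ≤ n → Curv2.deg ℂ X (Fs i) (rF i) * (r : ℤ) = d * (rF i : ℤ)) := by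
  haveI := isNoetherian_of_isProper ℂ X
  have hcE : ∀ i, Coh.IsCoh (Es i) := fun i => isCoh_of_isFinLocFreeOfRank (hEs i)
  have hcF : ∀ i, Coh.IsCoh (Fs i) := fun i => isCoh_of_isFinLocFreeOfRank (hFs i)
  have hma : ∀ i, Mono (a i) := fun i => by
    haveI := hιE i
    exact mono_of_mono_fac (ha i)
  have hmb : ∀ i, Mono (b i) := fun i => by
    haveI := hιF (i + 1)
    exact mono_of_mono_fac (hb i)
  have hstep : ∀ i, i < n → Curv2.euler ℂ X (Es (i + 1)) + Curv2.euler ℂ X (Fs (i + 1)) =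
      Curv2.euler ℂ X (Es i) + Curv2.euler ℂ X (Fs i) := by
    intro i hi
    haveI := hma i
    haveI := hmb i
    have h1 := euler_cokernel ℂ (a i) (hcE i) (hcE (i + 1))
    have h2 := euler_cokernel ℂ (b i) (hcF (i + 1)) (hcF i)
    obtain ⟨e⟩ := hopp i hi
    have h3 := euler_eq_of_iso ℂ e (Groth.Agent.S9514.result X (hcE i) (hcE (i + 1)) (a i)).2
    linarith
  have hsum : ∀ i, i ≤ n → Curv2.euler ℂ X (Es i) + Curv2.euler ℂ X (Fs i) =
      Curv2.euler ℂ X (Fs 0) := by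
    intro i
    induction i with
    | zero =>
      intro _
      rw [euler_eq_zero_of_isZero ℂ X _ hE0, zero_add]
    | succ i ih =>
      intro hi
      rw [hstep i (Nat.lt_of_succ_le hi)]
      exact ih (Nat.le_of_succ_le hi)
  have hF0e : Curv2.euler ℂ X (Fs 0) = Curv2.euler ℂ X F := by
    haveI := hF0
    exact euler_eq_of_iso ℂ (asIso (ιF 0)) (hcF 0)
  have hdsum : ∀ i, i ≤ n →
      Curv2.deg ℂ X (Es i) (rE i) + Curv2.deg ℂ X (Fs i) (rF i) = d := by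
    intro i hi
    have h1 := hsum i hi
    have h3 : ((rE i : ℕ) : ℤ) + (rF i : ℤ) = (r : ℤ) := by exact_mod_cast hrk i hi
    rw [← hFd]
    unfold Curv2.deg
    have h3' : (r : ℤ) * Curv2.euler ℂ X (Coh.structureModule X) =
        (rE i : ℤ) * Curv2.euler ℂ X (Coh.structureModule X) +
          (rF i : ℤ) * Curv2.euler ℂ X (Coh.structureModule X) := by
      rw [← h3]; ring
    linarith
  have hleE : ∀ i, i ≤ n → Curv2.deg ℂ X (Es i) (rE i) * (r : ℤ) ≤ d * (rE i : ℤ) := by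
    intro i _
    rcases Nat.eq_zero_or_pos (rE i) with h0 | hpos
    · have hz : IsZero (Es i) := isZero_of_rank_zero (h0 ▸ hEs i)
      have h1 : Curv2.deg ℂ X (Es i) (rE i) = 0 := by
        rw [h0]; exact deg_zero_of_isZero ℂ hz
      rw [h1, h0]; simp
    · have h1 := hEss (Es i) (rE i) (ιE i) (hιE i) hpos (hEs i) ⟨ψE i, hψE i⟩
      rw [hEd] at h1
      exact h1
  have hleF : ∀ i, i ≤ n → Curv2.deg ℂ X (Fs i) (rF i) * (r : ℤ) ≤ d * (rF i : ℤ) := by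
    intro i _
    rcases Nat.eq_zero_or_pos (rF i) with h0 | hpos
    · have hz : IsZero (Fs i) := isZero_of_rank_zero (h0 ▸ hFs i)
      have h1 : Curv2.deg ℂ X (Fs i) (rF i) = 0 := by
        rw [h0]; exact deg_zero_of_isZero ℂ hz
      rw [h1, h0]; simp
    · have h1 := hFss (Fs i) (rF i) (ιF i) (hιF i) hpos (hFs i) ⟨ψF i, hψF i⟩
      rw [hFd] at h1
      exact h1
  have hboth : ∀ i, i ≤ n →
      Curv2.deg ℂ X (Es i) (rE i) * (r : ℤ) = d * (rE i : ℤ) ∧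
      Curv2.deg ℂ X (Fs i) (rF i) * (r : ℤ) = d * (rF i : ℤ) := by
    intro i hi
    have h1 := hleE i hi
    have h2 := hleF i hi
    have h3 := hdsum i hi
    have h4 : ((rE i : ℕ) : ℤ) + (rF i : ℤ) = (r : ℤ) := by exact_mod_cast hrk i hi
    have h5 : (Curv2.deg ℂ X (Es i) (rE i) + Curv2.deg ℂ X (Fs i) (rF i)) * (r : ℤ) =
        d * ((rE i : ℤ) + (rF i : ℤ)) := by rw [h3, h4]
    rw [add_mul, mul_add] at h5
    constructor
    · exact le_antisymm h1 (by linarith)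
    · exact le_antisymm h2 (by linarith)
  exact ⟨fun i hi => (hboth i hi).1, fun i hi => (hboth i hi).2⟩

/-- Let X be a smooth proper integral curve over the complex numbers, L an invertible module on X, and
(E, φ_E), (F, φ_F) two L-valued Higgs bundles on X of the same rank r ≥ 1 and the same degree d
(degree = χ − rank · χ(O)), each semistable: deg G · r ≤ d · s for every finite locally free
submodule G of rank s ≥ 1 to which the Higgs field restricts. Let E_0 ⊂ E_1 ⊂ … ⊂ E_n = E with E_0 =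
0 and F = F_0 ⊃ F_1 ⊃ … ⊃ F_n = 0 be chains of finite locally free submodules to which the Higgs
fields restrict, of ranks with rk E_i + rk F_i = r, which are opposite: E_{i+1}/E_i ≅ F_i/F_{i+1} as
O-modules for i < n. Then every E_i of positive rank and every F_i of positive rank has slope d/r,
that is deg · r = d · rank, and is semistable for its restricted Higgs field; and each graded piece
E_{i+1}/E_i of positive rank is finite locally free of rank rk E_{i+1} − rk E_i, of slope d/r, and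
semistable for every Higgs field on it compatible with that of E_{i+1} along the projection. (The
published statement indexes the second chain so that F_i/F_{i+1} matches E_i/E_{i−1} and takes the
isomorphisms of graded pieces as Higgs bundles; here they are assumed as O-modules only, together
with the rank bookkeeping rk E_i + rk F_i = r that they imply.) -/
theorem result
    (X : Scheme.{0}) [X.Over (Spec (CommRingCat.of ℂ))] [IsIntegral X]
    [IsProper (X ↘ Spec (CommRingCat.of ℂ))] [Smooth (X ↘ Spec (CommRingCat.of ℂ))]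
    (hdim : topologicalKrullDim X = 1)
    (L : X.Modules) (hL : PicF.IsInvertible L) (r : ℕ) (hr : 0 < r) (d : ℤ)
    (E : X.Modules) (hE : FlatMod.IsFinLocFreeOfRank r E) (φE : E ⟶ CohB1.tensorMod E L)
    (hEd : Curv2.deg ℂ X E r = d)
    (hEss : (∀ (G : X.Modules) (s : ℕ) (j : G ⟶ E) (χ : G ⟶ CohB1.tensorMod G L), Mono j → 0 < s →
        FlatMod.IsFinLocFreeOfRank s G →
        χ ≫ (CohB1.sheafifyMod X).map (MonoidalCategoryStruct.whiskerRight (C := CohB1.PMod X) j.val (CohB1.toPMod L)) = j ≫ φE →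
        Curv2.deg ℂ X G s * (r : ℤ) ≤ Curv2.deg ℂ X E r * (s : ℤ)))
    (F : X.Modules) (hF : FlatMod.IsFinLocFreeOfRank r F) (φF : F ⟶ CohB1.tensorMod F L)
    (hFd : Curv2.deg ℂ X F r = d)
    (hFss : (∀ (G : X.Modules) (s : ℕ) (j : G ⟶ F) (χ : G ⟶ CohB1.tensorMod G L), Mono j → 0 < s →
        FlatMod.IsFinLocFreeOfRank s G →
        χ ≫ (CohB1.sheafifyMod X).map (MonoidalCategoryStruct.whiskerRight (C := CohB1.PMod X) j.val (CohB1.toPMod L)) = j ≫ φF →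
        Curv2.deg ℂ X G s * (r : ℤ) ≤ Curv2.deg ℂ X F r * (s : ℤ)))
    (n : ℕ)
    (Es : ℕ → X.Modules) (rE : ℕ → ℕ) (hEs : ∀ i, FlatMod.IsFinLocFreeOfRank (rE i) (Es i))
    (ιE : ∀ i, Es i ⟶ E) (hιE : ∀ i, Mono (ιE i))
    (ψE : ∀ i, Es i ⟶ CohB1.tensorMod (Es i) L)
    (hψE : ∀ i, ψE i ≫ (CohB1.sheafifyMod X).map (MonoidalCategoryStruct.whiskerRight (C := CohB1.PMod X) (ιE i).val (CohB1.toPMod L)) = ιE i ≫ φE)
    (a : ∀ i, Es i ⟶ Es (i + 1)) (ha : ∀ i, a i ≫ ιE (i + 1) = ιE i)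
    (hE0 : IsZero (Es 0)) (hEn : IsIso (ιE n))
    (Fs : ℕ → X.Modules) (rF : ℕ → ℕ) (hFs : ∀ i, FlatMod.IsFinLocFreeOfRank (rF i) (Fs i))
    (ιF : ∀ i, Fs i ⟶ F) (hιF : ∀ i, Mono (ιF i))
    (ψF : ∀ i, Fs i ⟶ CohB1.tensorMod (Fs i) L)
    (hψF : ∀ i, ψF i ≫ (CohB1.sheafifyMod X).map (MonoidalCategoryStruct.whiskerRight (C := CohB1.PMod X) (ιF i).val (CohB1.toPMod L)) = ιF i ≫ φF)
    (b : ∀ i, Fs (i + 1) ⟶ Fs i) (hb : ∀ i, b i ≫ ιF i = ιF (i + 1))
    (hF0 : IsIso (ιF 0)) (hFn : IsZero (Fs n))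
    (hrk : ∀ i, i ≤ n → rE i + rF i = r)
    (hopp : ∀ i, i < n → Nonempty (cokernel (a i) ≅ cokernel (b i))) :
    (∀ i, i ≤ n → 0 < rE i →
      Curv2.deg ℂ X (Es i) (rE i) * (r : ℤ) = d * (rE i : ℤ) ∧
      (∀ (G : X.Modules) (s : ℕ) (j : G ⟶ (Es i)) (χ : G ⟶ CohB1.tensorMod G L), Mono j → 0 < s →
        FlatMod.IsFinLocFreeOfRank s G →
        χ ≫ (CohB1.sheafifyMod X).map (MonoidalCategoryStruct.whiskerRight (C := CohB1.PMod X) j.val (CohB1.toPMod L)) = j ≫ ψE i →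
        Curv2.deg ℂ X G s * (rE i : ℤ) ≤ Curv2.deg ℂ X (Es i) (rE i) * (s : ℤ))) ∧
    (∀ i, i ≤ n → 0 < rF i →
      Curv2.deg ℂ X (Fs i) (rF i) * (r : ℤ) = d * (rF i : ℤ) ∧
      (∀ (G : X.Modules) (s : ℕ) (j : G ⟶ (Fs i)) (χ : G ⟶ CohB1.tensorMod G L), Mono j → 0 < s →
        FlatMod.IsFinLocFreeOfRank s G →
        χ ≫ (CohB1.sheafifyMod X).map (MonoidalCategoryStruct.whiskerRight (C := CohB1.PMod X) j.val (CohB1.toPMod L)) = j ≫ ψF i →
        Curv2.deg ℂ X G s * (rF i : ℤ) ≤ Curv2.deg ℂ X (Fs i) (rF i) * (s : ℤ))) ∧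
    (∀ i, i < n → rE i < rE (i + 1) →
      FlatMod.IsFinLocFreeOfRank (rE (i + 1) - rE i) (cokernel (a i)) ∧
      Curv2.deg ℂ X (cokernel (a i)) (rE (i + 1) - rE i) * (r : ℤ) = d * ((rE (i + 1) - rE i : ℕ) : ℤ) ∧
      ∀ (φ' : cokernel (a i) ⟶ CohB1.tensorMod (cokernel (a i)) L),
        cokernel.π (a i) ≫ φ' = ψE (i + 1) ≫ (CohB1.sheafifyMod X).map (MonoidalCategoryStruct.whiskerRight (C := CohB1.PMod X) (cokernel.π (a i)).val (CohB1.toPMod L)) →
        (∀ (G : X.Modules) (s : ℕ) (j : G ⟶ cokernel (a i)) (χ : G ⟶ CohB1.tensorMod G L), Mono j → 0 < s →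
        FlatMod.IsFinLocFreeOfRank s G →
        χ ≫ (CohB1.sheafifyMod X).map (MonoidalCategoryStruct.whiskerRight (C := CohB1.PMod X) j.val (CohB1.toPMod L)) = j ≫ φ' →
        Curv2.deg ℂ X G s * ((rE (i + 1) - rE i : ℕ) : ℤ) ≤ Curv2.deg ℂ X (cokernel (a i)) (rE (i + 1) - rE i) * (s : ℤ))) := by
  have hd1 : topologicalKrullDim X ≤ 1 := hdim.le
  have hrZ : (0 : ℤ) < (r : ℤ) := by exact_mod_cast hr
  have hEss' : ∀ (G : X.Modules) (s : ℕ) (j : G ⟶ E), Mono j → 0 < s →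
      FlatMod.IsFinLocFreeOfRank s G → Inv L (tw φE) j →
      Curv2.deg ℂ X G s * (r : ℤ) ≤ Curv2.deg ℂ X E r * (s : ℤ) := by
    intro G s j hj hs hG hinv
    obtain ⟨χ, hχ⟩ := (inv_iff L φE j).mp hinv
    exact hEss G s j χ hj hs hG hχ
  have hFss' : ∀ (G : X.Modules) (s : ℕ) (j : G ⟶ F), Mono j → 0 < s →
      FlatMod.IsFinLocFreeOfRank s G → Inv L (tw φF) j →
      Curv2.deg ℂ X G s * (r : ℤ) ≤ Curv2.deg ℂ X F r * (s : ℤ) := by
    intro G s j hj hs hG hinv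
    obtain ⟨χ, hχ⟩ := (inv_iff L φF j).mp hinv
    exact hFss G s j χ hj hs hG hχ
  have hψE' : ∀ i, tw (ψE i) ≫ (twR L).map (ιE i) = ιE i ≫ tw φE := fun i =>
    (congrArg (fun m => ψE i ≫ m) (wr_eq L (ιE i))).symm.trans (hψE i)
  have hψF' : ∀ i, tw (ψF i) ≫ (twR L).map (ιF i) = ιF i ≫ tw φF := fun i =>
    (congrArg (fun m => ψF i ≫ m) (wr_eq L (ιF i))).symm.trans (hψF i)
  obtain ⟨hslE, hslF⟩ := main X L r d E (tw φE) hEd hEss' F (tw φF) hFd hFss' n Es rE hEs ιE hιE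
    (fun i => tw (ψE i)) hψE' a ha hE0 Fs rF hFs ιF hιF (fun i => tw (ψF i)) hψF' b hb hF0 hrk hopp
  refine ⟨?_, ?_, ?_⟩
  · intro i hi hpos
    refine ⟨hslE i hi, ?_⟩
    intro G s j χ hj hs hG hχ
    haveI := hιE i
    exact sub_semistable_of_slope_eq ℂ hr (tw φE) hEss' (ιE i) (tw (ψE i)) (hψE' i)
      (by rw [hEd]; exact hslE i hi) G s j hj hs hG ((inv_iff L (ψE i) j).mpr ⟨χ, hχ⟩)
  · intro i hi hpos
    refine ⟨hslF i hi, ?_⟩
    intro G s j χ hj hs hG hχ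
    haveI := hιF i
    exact sub_semistable_of_slope_eq ℂ hr (tw φF) hFss' (ιF i) (tw (ψF i)) (hψF' i)
      (by rw [hFd]; exact hslF i hi) G s j hj hs hG ((inv_iff L (ψF i) j).mpr ⟨χ, hχ⟩)
  · intro i hi hlt
    have hpos : 0 < rE (i + 1) := by omega
    haveI := hιE (i + 1)
    have hss1 := sub_semistable_of_slope_eq ℂ hr (tw φE) hEss' (ιE (i + 1)) (tw (ψE (i + 1)))
      (hψE' (i + 1)) (by rw [hEd]; exact hslE (i + 1) hi)
    haveI : Mono (a i) := by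
      haveI := hιE i
      exact mono_of_mono_fac (ha i)
    have hainv : Inv L (tw (ψE (i + 1))) (a i) := by
      refine ⟨tw (ψE i), ?_⟩
      haveI : Mono ((twR L).map (ιE (i + 1))) := mono_tw hL _
      have h1 : (tw (ψE i) ≫ (twR L).map (a i)) ≫ (twR L).map (ιE (i + 1)) =
          (a i ≫ tw (ψE (i + 1))) ≫ (twR L).map (ιE (i + 1)) :=
        calc (tw (ψE i) ≫ (twR L).map (a i)) ≫ (twR L).map (ιE (i + 1))
            = tw (ψE i) ≫ (twR L).map (a i ≫ ιE (i + 1)) := by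
              rw [Category.assoc, CategoryTheory.Functor.map_comp]
          _ = tw (ψE i) ≫ (twR L).map (ιE i) := by rw [ha i]
          _ = ιE i ≫ tw φE := hψE' i
          _ = (a i ≫ ιE (i + 1)) ≫ tw φE := by rw [ha i]
          _ = a i ≫ (ιE (i + 1) ≫ tw φE) := Category.assoc _ _ _
          _ = a i ≫ (tw (ψE (i + 1)) ≫ (twR L).map (ιE (i + 1))) := by rw [hψE' (i + 1)]
          _ = (a i ≫ tw (ψE (i + 1))) ≫ (twR L).map (ιE (i + 1)) := (Category.assoc _ _ _).symm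
      exact (cancel_mono _).mp h1
    have hs1 := hslE i (Nat.le_of_lt hi)
    have hs2 := hslE (i + 1) hi
    have hslope : Curv2.deg ℂ X (Es i) (rE i) * (rE (i + 1) : ℤ) =
        Curv2.deg ℂ X (Es (i + 1)) (rE (i + 1)) * (rE i : ℤ) := by
      have h3 : (Curv2.deg ℂ X (Es i) (rE i) * (rE (i + 1) : ℤ)) * (r : ℤ) =
          (Curv2.deg ℂ X (Es (i + 1)) (rE (i + 1)) * (rE i : ℤ)) * (r : ℤ) :=
        calc (Curv2.deg ℂ X (Es i) (rE i) * (rE (i + 1) : ℤ)) * (r : ℤ)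
            = (Curv2.deg ℂ X (Es i) (rE i) * (r : ℤ)) * (rE (i + 1) : ℤ) := by ring
          _ = (d * (rE i : ℤ)) * (rE (i + 1) : ℤ) := by rw [hs1]
          _ = (d * (rE (i + 1) : ℤ)) * (rE i : ℤ) := by ring
          _ = (Curv2.deg ℂ X (Es (i + 1)) (rE (i + 1)) * (r : ℤ)) * (rE i : ℤ) := by rw [hs2]
          _ = (Curv2.deg ℂ X (Es (i + 1)) (rE (i + 1)) * (rE i : ℤ)) * (r : ℤ) := by ring
      exact mul_right_cancel₀ hrZ.ne' h3
    obtain ⟨hC, hdadd, hCss⟩ := higgs_quotient ℂ hL hd1 hpos (hEs (i + 1)) (tw (ψE (i + 1))) hss1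
      (hEs i) (a i) hainv hslope
    refine ⟨hC, ?_, ?_⟩
    · have hcast : ((rE (i + 1) - rE i : ℕ) : ℤ) = (rE (i + 1) : ℤ) - (rE i : ℤ) :=
        Nat.cast_sub (Nat.le_of_lt hlt)
      rw [hcast]
      have h4 : Curv2.deg ℂ X (cokernel (a i)) (rE (i + 1) - rE i) =
          Curv2.deg ℂ X (Es (i + 1)) (rE (i + 1)) - Curv2.deg ℂ X (Es i) (rE i) := by linarith
      rw [h4, sub_mul, mul_sub, hs1, hs2]
    · intro φ' hφ' G s j χ hj hs hG hχ
      have hφ'' : cokernel.π (a i) ≫ tw φ' =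
          tw (ψE (i + 1)) ≫ (twR L).map (cokernel.π (a i)) :=
        hφ'.trans (congrArg (fun m => ψE (i + 1) ≫ m) (wr_eq L (cokernel.π (a i))))
      exact hCss (tw φ') hφ'' G s j hj hs hG ((inv_iff L φ' j).mpr ⟨χ, hχ⟩)

end Groth.Agent.S15330
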