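import Groth.Statements.S15332
-- import your own Groth.Agent.* helpers here
import Groth.Agent.Lib.Helper23.VBMaps

set_option autoImplicit false
universe u
open CategoryTheory CategoryTheory.Limits AlgebraicGeometry
open VBCurve

namespace Groth.Agent.S15332

/-- Let X be a smooth proper integral curve (integral, smooth and proper of dimension one) over an
algebraically closed field k. Let E be a finite locally free O_X-module of rank r ≥ 1 which is
slope-semistable (deg G · r ≤ deg E · r' for every finite locally free submodule G of rank r' ≥ 1,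
degrees being χ − rank·χ(O_X)), and F a finite locally free O_X-module of rank s ≥ 1 all of whose
finite locally free submodules G of rank r' ≥ 1 have slope strictly below that of E: deg G · r < deg
E · r' (the maximal slope of F is below the slope of E). Then every homomorphism E → F is zero. -/
theorem result (k : Type u) [Field k] [IsAlgClosed k] (X : Scheme.{u}) [X.Over (Spec (CommRingCat.of k))]
    [IsIntegral X] [IsProper (X ↘ Spec (CommRingCat.of k))] [Smooth (X ↘ Spec (CommRingCat.of k))]
    (hdim : topologicalKrullDim X = 1)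
    (r s : ℕ) (hr : 0 < r) (hs : 0 < s) (E F : X.Modules)
    (hE : FlatMod.IsFinLocFreeOfRank r E) (hF : FlatMod.IsFinLocFreeOfRank s F)
    (hEss : ModFun.IsSlopeSemistable k X E r)
    (hmax : ∀ (G : X.Modules) (r' : ℕ) (i : G ⟶ F), Mono i → 0 < r' → FlatMod.IsFinLocFreeOfRank r' G →
      Curv2.deg k X G r' * (r : ℤ) < Curv2.deg k X E r * (r' : ℤ))
    (f : E ⟶ F) : f = 0 := by
  by_contra hf
  obtain ⟨a, b, hK, hI, hrank, hdeg, hb0, ha0, hiso, hble⟩ :=
    Groth.Agent.Lib.Helper23.VBMaps.map_analysis k hdim.le hE hF f
  have hbpos : 0 < b := Nat.pos_of_ne_zero (fun h => hf (hb0 h))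
  set dE := Curv2.deg k X E r with hdE
  set dK := Curv2.deg k X (kernel f) a with hdK
  set dI := Curv2.deg k X (Abelian.coimage f) b with hdI
  have hr' : (r : ℤ) = (a : ℤ) + (b : ℤ) := by exact_mod_cast hrank
  have h1 : dI * (r : ℤ) < dE * (b : ℤ) :=
    hmax _ b (Abelian.factorThruCoimage f) inferInstance hbpos hI
  have h2 : dE * (b : ℤ) ≤ dI * (r : ℤ) := by
    rcases Nat.eq_zero_or_pos a with ha | hapos
    · obtain ⟨-, hdK0⟩ := ha0 ha
      have hbr : b = r := by omega
      have : dI = dE := by rw [hdeg, hdK0, zero_add]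
      rw [this, hbr]
    · have h3 : dK * (r : ℤ) ≤ dE * (a : ℤ) := hEss _ a (kernel.ι f) inferInstance hapos hK
      have : dK = dE - dI := by rw [hdeg]; ring
      rw [this, hr'] at h3
      rw [hr']
      linarith
  exact lt_irrefl _ (lt_of_lt_of_le h1 h2)

end Groth.Agent.S15332
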