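import Groth.Statements.S15333
-- import your own Groth.Agent.* helpers here
import Groth.Agent.Lib.Helper23.VBMaps

set_option autoImplicit false
universe u
open CategoryTheory CategoryTheory.Limits AlgebraicGeometry
open VBCurve

namespace Groth.Agent.S15333

/-- Let X be a smooth proper integral curve (integral, smooth and proper of dimension one) over an
algebraically closed field k. Let E and F be finite locally free O_X-modules of ranks r ≥ 1 and s ≥
1 which are slope-semistable and slope-stable (deg G · r ≤ deg E · r' for every finite locally free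
submodule G ⊂ E of rank r' ≥ 1, with strict inequality when r' < r, and likewise for F; degree = χ −
rank·χ(O_X)) and which have the same slope, deg E · s = deg F · r. Then either there is no nonzero
homomorphism E → F or E ≅ F; precisely, every nonzero homomorphism E → F is an isomorphism. -/
theorem result (k : Type u) [Field k] [IsAlgClosed k] (X : Scheme.{u}) [X.Over (Spec (CommRingCat.of k))]
    [IsIntegral X] [IsProper (X ↘ Spec (CommRingCat.of k))] [Smooth (X ↘ Spec (CommRingCat.of k))]
    (hdim : topologicalKrullDim X = 1)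
    (r s : ℕ) (hr : 0 < r) (hs : 0 < s) (E F : X.Modules)
    (hE : FlatMod.IsFinLocFreeOfRank r E) (hF : FlatMod.IsFinLocFreeOfRank s F)
    (hEss : ModFun.IsSlopeSemistable k X E r) (hEst : ModFun.IsSlopeStable k X E r)
    (hFss : ModFun.IsSlopeSemistable k X F s) (hFst : ModFun.IsSlopeStable k X F s)
    (hμ : Curv2.deg k X E r * (s : ℤ) = Curv2.deg k X F s * (r : ℤ))
    (f : E ⟶ F) (hf : f ≠ 0) : IsIso f := by
  obtain ⟨a, b, hK, hI, hrank, hdeg, hb0, ha0, hiso, hble⟩ :=
    Groth.Agent.Lib.Helper23.VBMaps.map_analysis k hdim.le hE hF f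
  have hbpos : 0 < b := Nat.pos_of_ne_zero (fun h => hf (hb0 h))
  set dE := Curv2.deg k X E r with hdE
  set dF := Curv2.deg k X F s with hdF
  set dK := Curv2.deg k X (kernel f) a with hdK
  set dI := Curv2.deg k X (Abelian.coimage f) b with hdI
  have hr' : (r : ℤ) = (a : ℤ) + (b : ℤ) := by exact_mod_cast hrank
  have hrpos : (0 : ℤ) < r := by exact_mod_cast hr
  have hspos : (0 : ℤ) < s := by exact_mod_cast hs
  have hbpos' : (0 : ℤ) < b := by exact_mod_cast hbpos
  -- F semistable on the image
  have hB : dI * (s : ℤ) ≤ dF * (b : ℤ) :=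
    hFss _ b (Abelian.factorThruCoimage f) inferInstance hbpos hI
  -- a = 0
  have ha : a = 0 := by
    by_contra ha
    have hapos : 0 < a := Nat.pos_of_ne_zero ha
    have h1 : dK * (r : ℤ) < dE * (a : ℤ) :=
      hEst _ a (kernel.ι f) inferInstance hapos (by omega) hK
    -- dE * b < dI * r
    have h2 : dE * (b : ℤ) < dI * (r : ℤ) := by
      have : dK = dE - dI := by rw [hdeg]; ring
      rw [this, hr'] at h1
      rw [hr']
      linarith
    have h3 : dE * (b : ℤ) * (s : ℤ) < dI * (r : ℤ) * (s : ℤ) := mul_lt_mul_of_pos_right h2 hspos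
    have h4 : dI * (s : ℤ) * (r : ℤ) ≤ dF * (b : ℤ) * (r : ℤ) :=
      mul_le_mul_of_nonneg_right hB hrpos.le
    have h5 : dF * (b : ℤ) * (r : ℤ) = dE * (b : ℤ) * (s : ℤ) := by
      have : dF * (r : ℤ) = dE * (s : ℤ) := hμ.symm
      calc dF * (b : ℤ) * (r : ℤ) = (dF * (r : ℤ)) * (b : ℤ) := by ring
        _ = dE * (s : ℤ) * (b : ℤ) := by rw [this]
        _ = dE * (b : ℤ) * (s : ℤ) := by ring
    nlinarith
  obtain ⟨hmono, hdK0⟩ := ha0 ha
  have hbr : b = r := by omega
  have hdIE : dI = dE := by rw [hdeg, hdK0, zero_add]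
  -- b = s
  have hbs : b = s := by
    by_contra hbs
    have hlt : b < s := lt_of_le_of_ne hble hbs
    have h1 : dI * (s : ℤ) < dF * (b : ℤ) :=
      hFst _ b (Abelian.factorThruCoimage f) inferInstance hbpos hlt hI
    rw [hdIE, hbr, hμ] at h1
    exact lt_irrefl _ h1
  apply hiso ha hbs
  have h1 : dE * (s : ℤ) = dF * (r : ℤ) := hμ
  rw [← hbs, hbr] at h1
  have : dE = dF := by
    have := mul_right_cancel₀ (ne_of_gt hrpos) h1
    exact this
  rw [hdIE, this]

end Groth.Agent.S15333
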