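import Groth.Statements.S15335
-- import your own Groth.Agent.* helpers here
import Groth.Agent.Lib.Helper23.VBMaps

set_option autoImplicit false
universe u
open CategoryTheory CategoryTheory.Limits AlgebraicGeometry
open VBCurve

namespace Groth.Agent.S15335

/-- Let X be a smooth proper integral curve (integral, smooth and proper of dimension one) over an
algebraically closed field k, and E₁, E₂ finite locally free O_X-modules of ranks r₁ ≥ 1, r₂ ≥ 1.
The maximal slope of E₁ ⊕ E₂ is at most the larger of the maximal slopes of E₁ and E₂: if m₁, m₂ are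
rational numbers such that every finite locally free submodule of positive rank of E₁ (resp. E₂) has
slope deg/rank ≤ m₁ (resp. ≤ m₂), degree meaning χ − rank·χ(O_X), then every finite locally free
submodule F of the biproduct E₁ ⊞ E₂ of rank r' ≥ 1 has slope deg F / r' ≤ max(m₁, m₂). -/
theorem result (k : Type u) [Field k] [IsAlgClosed k] (X : Scheme.{u}) [X.Over (Spec (CommRingCat.of k))]
    [IsIntegral X] [IsProper (X ↘ Spec (CommRingCat.of k))] [Smooth (X ↘ Spec (CommRingCat.of k))]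
    (hdim : topologicalKrullDim X = 1)
    (r₁ r₂ : ℕ) (hr₁ : 0 < r₁) (hr₂ : 0 < r₂) (E₁ E₂ : X.Modules)
    (hE₁ : FlatMod.IsFinLocFreeOfRank r₁ E₁) (hE₂ : FlatMod.IsFinLocFreeOfRank r₂ E₂) (m₁ m₂ : ℚ)
    (h₁ : ∀ (G : X.Modules) (r' : ℕ) (i : G ⟶ E₁), Mono i → 0 < r' → FlatMod.IsFinLocFreeOfRank r' G →
      (Curv2.deg k X G r' : ℚ) / r' ≤ m₁)
    (h₂ : ∀ (G : X.Modules) (r' : ℕ) (i : G ⟶ E₂), Mono i → 0 < r' → FlatMod.IsFinLocFreeOfRank r' G →
      (Curv2.deg k X G r' : ℚ) / r' ≤ m₂)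
    (F : X.Modules) (r' : ℕ) (i : F ⟶ E₁ ⊞ E₂) (hi : Mono i) (hr' : 0 < r')
    (hF : FlatMod.IsFinLocFreeOfRank r' F) :
    (Curv2.deg k X F r' : ℚ) / r' ≤ max m₁ m₂ := by
  classical
  obtain ⟨a, b, hK, hI, hab, hdeg, hb0, ha0, _, _⟩ :=
    Groth.Agent.Lib.Helper23.VBMaps.map_analysis k hdim.le hF hE₁ (i ≫ biprod.fst)
  -- the kernel maps injectively to E₂
  have hmonoK : Mono (kernel.ι (i ≫ biprod.fst) ≫ i ≫ (biprod.snd : E₁ ⊞ E₂ ⟶ E₂)) := by
    constructor
    intro Z g₁ g₂ hg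
    have h0 : ∀ g : Z ⟶ kernel (i ≫ (biprod.fst : E₁ ⊞ E₂ ⟶ E₁)),
        (g ≫ kernel.ι (i ≫ biprod.fst) ≫ i) ≫ (biprod.fst : E₁ ⊞ E₂ ⟶ E₁) = 0 := by
      intro g
      rw [Category.assoc, Category.assoc, kernel.condition, comp_zero]
    have h1 : g₁ ≫ kernel.ι (i ≫ biprod.fst) ≫ i = g₂ ≫ kernel.ι (i ≫ biprod.fst) ≫ i := by
      apply biprod.hom_ext
      · rw [h0, h0]
      · simpa [Category.assoc] using hg
    have h2 : (g₁ ≫ kernel.ι (i ≫ biprod.fst)) ≫ i = (g₂ ≫ kernel.ι (i ≫ biprod.fst)) ≫ i := by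
      simpa [Category.assoc] using h1
    have h3 := (cancel_mono i).1 h2
    exact (cancel_mono _).1 h3
  haveI : Mono (Abelian.factorThruCoimage (i ≫ (biprod.fst : E₁ ⊞ E₂ ⟶ E₁))) := inferInstance
  -- bounds
  have hKb : (Curv2.deg k X (kernel (i ≫ (biprod.fst : E₁ ⊞ E₂ ⟶ E₁))) a : ℚ) ≤ a * max m₁ m₂ := by
    rcases Nat.eq_zero_or_pos a with ha | ha
    · have := (ha0 ha).2
      rw [this, ha]; simp
    · have h := h₂ _ a _ hmonoK ha hK
      have ha' : (0 : ℚ) < a := by exact_mod_cast ha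
      rw [div_le_iff₀ ha'] at h
      calc _ ≤ m₂ * a := h
        _ ≤ a * max m₁ m₂ := by
          rw [mul_comm]; exact mul_le_mul_of_nonneg_left (le_max_right _ _) ha'.le
  have hIb : (Curv2.deg k X (Abelian.coimage (i ≫ (biprod.fst : E₁ ⊞ E₂ ⟶ E₁))) b : ℚ)
      ≤ b * max m₁ m₂ := by
    rcases Nat.eq_zero_or_pos b with hb | hb
    · subst hb
      have hz := Groth.Agent.Lib.Helper23.StableEnd.isZero_of_rank_zero hI
      rw [Groth.Agent.Lib.Helper23.VBMaps.deg_zero_of_isZero k hz]; simp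
    · have h := h₁ _ b (Abelian.factorThruCoimage (i ≫ (biprod.fst : E₁ ⊞ E₂ ⟶ E₁)))
        inferInstance hb hI
      have hb' : (0 : ℚ) < b := by exact_mod_cast hb
      rw [div_le_iff₀ hb'] at h
      calc _ ≤ m₁ * b := h
        _ ≤ b * max m₁ m₂ := by
          rw [mul_comm]; exact mul_le_mul_of_nonneg_left (le_max_left _ _) hb'.le
  have hr'' : (0 : ℚ) < r' := by exact_mod_cast hr'
  rw [div_le_iff₀ hr'', hdeg, hab]
  push_cast
  linarith

end Groth.Agent.S15335
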