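import Groth.Statements.S15339
import Mathlib
import Groth.Agent.S13693
import Groth.Agent.Lib.Helper17.WeilFinA

set_option autoImplicit false
universe u
open CategoryTheory CategoryTheory.Limits AlgebraicGeometry
open VBCurve

namespace Groth.Agent.S15339

variable {X : Scheme.{u}}

/-- the sigma type indexing the summands of `P(L)`. -/
abbrev SIdx (P : Polynomial ℕ) : Type := Σ i : Fin (P.natDegree + 1), Fin (P.coeff ↑i)

/-- `P(L)` as a coproduct over the sigma type. -/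
noncomputable def flatIso (L : X.Modules) (P : Polynomial ℕ) :
    (∐ fun i : Fin (P.natDegree + 1) => ∐ fun _ : Fin (P.coeff ↑i) => CohB1.tensorPow L ↑i) ≅
      ∐ fun σ : SIdx P => CohB1.tensorPow L (σ.1 : ℕ) :=
  sigmaSigmaIso (fun i : Fin (P.natDegree + 1) => Fin (P.coeff ↑i))
    (fun i _ => CohB1.tensorPow L ↑i)

/-- `P(L)` as a coproduct over `Fin n`. -/
noncomputable def finIso (L : X.Modules) (P : Polynomial ℕ) :
    (∐ fun i : Fin (P.natDegree + 1) => ∐ fun _ : Fin (P.coeff ↑i) => CohB1.tensorPow L ↑i) ≅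
      ∐ fun j : Fin (Fintype.card (SIdx P)) =>
        CohB1.tensorPow L (((Fintype.equivFin (SIdx P)).symm j).1 : ℕ) :=
  flatIso L P ≪≫ (Sigma.reindex (Fintype.equivFin (SIdx P)).symm
    (fun σ : SIdx P => CohB1.tensorPow L (σ.1 : ℕ))).symm

/-- for a monomial `X^m`, `P(L) ≅ L^m`. -/
theorem mono_iso (L : X.Modules) (m : ℕ) :
    Nonempty ((∐ fun i : Fin ((Polynomial.monomial m (1 : ℕ)).natDegree + 1) =>
      ∐ fun _ : Fin ((Polynomial.monomial m (1 : ℕ)).coeff ↑i) => CohB1.tensorPow L ↑i) ≅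
        CohB1.tensorPow L m) := by
  classical
  set P : Polynomial ℕ := Polynomial.monomial m (1 : ℕ) with hP
  have hdeg : P.natDegree = m := Polynomial.natDegree_monomial_eq m one_ne_zero
  have hcoeff : ∀ i : ℕ, P.coeff i = if m = i then 1 else 0 := fun i =>
    Polynomial.coeff_monomial
  have key : ∀ σ : SIdx P, (σ.1 : ℕ) = m := by
    rintro ⟨i, j⟩
    have hpos : 0 < P.coeff ↑i := j.pos
    rw [hcoeff] at hpos
    by_contra hne
    rw [if_neg (fun h => hne h.symm)] at hpos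
    exact lt_irrefl _ hpos
  let σ₀ : SIdx P := ⟨⟨m, by omega⟩, ⟨0, by rw [hcoeff]; simp⟩⟩
  have huniq : ∀ σ : SIdx P, σ = σ₀ := by
    rintro ⟨⟨i, hi⟩, ⟨j, hj⟩⟩
    have h1 : i = m := key ⟨⟨i, hi⟩, ⟨j, hj⟩⟩
    subst h1
    have h2 : j = 0 := by
      have h3 : P.coeff i = 1 := by rw [hcoeff]; simp
      have hj' : j < P.coeff i := hj
      omega
    subst h2
    rfl
  letI : Unique (SIdx P) := ⟨⟨σ₀⟩, huniq⟩
  exact ⟨flatIso L P ≪≫ coproductUniqueIso (fun σ : SIdx P => CohB1.tensorPow L (σ.1 : ℕ))⟩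

/-- Krull--Schmidt step: if no positive power of `L` is trivial then `P(L) ≅ Q(L)` forces `P = Q`. -/
theorem aux (k : Type u) [Field k] (X : Scheme.{u}) [X.Over (Spec (CommRingCat.of k))]
    [IsIntegral X] [IsProper (X ↘ Spec (CommRingCat.of k))]
    (L : X.Modules) (hL : PicF.IsInvertible L)
    (hnt : ∀ m : ℕ, 0 < m → ¬ Nonempty (CohB1.tensorPow L m ≅ Coh.structureModule X))
    (P Q : Polynomial ℕ)
    (eF : (∐ fun i : Fin (P.natDegree + 1) => ∐ fun _ : Fin (P.coeff ↑i) => CohB1.tensorPow L ↑i) ≅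
      (∐ fun i : Fin (Q.natDegree + 1) => ∐ fun _ : Fin (Q.coeff ↑i) => CohB1.tensorPow L ↑i)) :
    P = Q := by
  classical
  have hinv : ∀ n : ℕ, PicF.IsInvertible (CohB1.tensorPow L n) := fun n =>
    Groth.Agent.Lib.Helper3.InvTensor.isInvertible_tensorPow hL n
  have hcoh : ∀ n : ℕ, Coh.IsCoh (CohB1.tensorPow L n) := fun n =>
    Groth.Agent.Lib.Helper7.TorsFree.isCoh_of_isFinLocFreeOfRank'
      (Groth.Agent.Lib.Helper7.TorsFree.isFinLocFreeOfRank_one_of_isInvertible' (hinv n))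
  let eP := Fintype.equivFin (SIdx P)
  let eQ := Fintype.equivFin (SIdx Q)
  let Fs : Fin (Fintype.card (SIdx P)) → X.Modules := fun j =>
    CohB1.tensorPow L ((eP.symm j).1 : ℕ)
  let Gs : Fin (Fintype.card (SIdx Q)) → X.Modules := fun j =>
    CohB1.tensorPow L ((eQ.symm j).1 : ℕ)
  have hFcoh : Coh.IsCoh (∐ Fs) :=
    Groth.Agent.Lib.Helper17.WeilFinA.isCoh_sigma Fs (fun _ => hcoh _)
  obtain ⟨-, huni⟩ := Groth.Agent.S13693.result k (X ↘ Spec (CommRingCat.of k)) (∐ Fs) hFcoh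
  obtain ⟨e, he⟩ := huni _ _ Fs Gs
    (fun _ => Groth.Agent.Lib.Helper17.WeilFinA.indec_of_isInvertible (hinv _))
    (fun _ => Groth.Agent.Lib.Helper17.WeilFinA.indec_of_isInvertible (hinv _))
    ⟨Iso.refl _⟩ ⟨(finIso L P).symm ≪≫ eF ≪≫ finIso L Q⟩
  let E : SIdx P ≃ SIdx Q := eP.trans (e.trans eQ.symm)
  have hE : ∀ σ : SIdx P, ((E σ).1 : ℕ) = (σ.1 : ℕ) := by
    intro σ
    have h1 := he (eP σ)
    have h2 : Fs (eP σ) = CohB1.tensorPow L (σ.1 : ℕ) := by
      simp only [Fs, Equiv.symm_apply_apply]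
    have h3 : Gs (e (eP σ)) = CohB1.tensorPow L ((E σ).1 : ℕ) := rfl
    rw [h2, h3] at h1
    exact (Groth.Agent.Lib.Helper17.WeilFinA.pow_injective hL hnt h1).symm
  rw [Groth.Agent.Lib.Helper17.WeilFinA.poly_eq_sum P, Groth.Agent.Lib.Helper17.WeilFinA.poly_eq_sum Q]
  refine Fintype.sum_equiv E _ _ (fun σ => ?_)
  rw [hE σ]

/-- Let X be a smooth proper integral curve (integral, smooth and proper of dimension one) over an
algebraically closed field k and L an invertible O_X-module. Then L is finite in the sense of Weil: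
there are two distinct polynomials P ≠ Q with natural-number coefficients such that P(L) ≅ Q(L),
where P(L) denotes the direct sum over i of P_i copies of the i-th tensor power L^{⊗ i} (L^{⊗ 0} =
O_X) if and only if L^{⊗ m} ≅ O_X for some m > 0. -/
theorem result (k : Type u) [Field k] [IsAlgClosed k] (X : Scheme.{u}) [X.Over (Spec (CommRingCat.of k))]
    [IsIntegral X] [IsProper (X ↘ Spec (CommRingCat.of k))] [Smooth (X ↘ Spec (CommRingCat.of k))]
    (hdim : topologicalKrullDim X = 1)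
    (L : X.Modules) (hL : PicF.IsInvertible L) :
    (∃ P Q : Polynomial ℕ, P ≠ Q ∧ Nonempty ((∐ fun i : Fin (P.natDegree + 1) => ∐ fun _ : Fin (P.coeff ↑i) => CohB1.tensorPow L ↑i) ≅
      (∐ fun i : Fin (Q.natDegree + 1) => ∐ fun _ : Fin (Q.coeff ↑i) => CohB1.tensorPow L ↑i))) ↔
    ∃ m : ℕ, 0 < m ∧ Nonempty (CohB1.tensorPow L m ≅ Coh.structureModule X)  := by
  classical
  constructor
  · rintro ⟨P, Q, hPQ, ⟨eF⟩⟩
    by_contra hnt
    have hnt' : ∀ m : ℕ, 0 < m → ¬ Nonempty (CohB1.tensorPow L m ≅ Coh.structureModule X) :=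
      fun m hm hn => hnt ⟨m, hm, hn⟩
    apply hPQ
    exact Groth.Agent.S15339.aux k X L hL hnt' P Q eF
  · rintro ⟨m, hm, ⟨e⟩⟩
    refine ⟨Polynomial.monomial m 1, Polynomial.monomial 0 1, ?_, ?_⟩
    · intro h
      rw [Polynomial.monomial_left_inj one_ne_zero] at h
      omega
    · obtain ⟨e1⟩ := Groth.Agent.S15339.mono_iso L m
      obtain ⟨e2⟩ := Groth.Agent.S15339.mono_iso L 0
      exact ⟨e1 ≪≫ e ≪≫ e2.symm⟩

end Groth.Agent.S15339
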