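import Groth.Statements.S15340
-- import your own Groth.Agent.* helpers here
import Groth.Agent.Lib.Helper23.StableEnd

set_option autoImplicit false
universe u
open CategoryTheory CategoryTheory.Limits AlgebraicGeometry
open VBCurve

namespace Groth.Agent.S15340

/-- Let X be a smooth proper integral curve (integral, smooth and proper of dimension one) over an
algebraically closed field k and E a finite locally free O_X-module of rank r ≥ 1 which is
slope-semistable and slope-stable (deg G · r ≤ deg E · r' for finite locally free submodules G of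
rank r' ≥ 1, strictly when r' < r; degree = χ − rank·χ(O_X)). Then E is indecomposable: it is
nonzero and whenever E ≅ E₁ ⊞ E₂ as O_X-modules, one of E₁, E₂ is zero. -/
theorem result (k : Type u) [Field k] [IsAlgClosed k] (X : Scheme.{u}) [X.Over (Spec (CommRingCat.of k))]
    [IsIntegral X] [IsProper (X ↘ Spec (CommRingCat.of k))] [Smooth (X ↘ Spec (CommRingCat.of k))]
    (hdim : topologicalKrullDim X = 1)
    (r : ℕ) (hr : 0 < r) (E : X.Modules) (hE : FlatMod.IsFinLocFreeOfRank r E)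
    (hEss : ModFun.IsSlopeSemistable k X E r) (hEst : ModFun.IsSlopeStable k X E r) :
    ¬ IsZero E ∧ ∀ (E₁ E₂ : X.Modules), Nonempty (E ≅ E₁ ⊞ E₂) → IsZero E₁ ∨ IsZero E₂ := by
  have hst' : ∀ (G : X.Modules) (s : ℕ) (ι : G ⟶ E), Mono ι → FlatMod.IsFinLocFreeOfRank s G →
      0 < s → s < r → Curv2.deg k X G s * (r : ℤ) < Curv2.deg k X E r * (s : ℤ) :=
    fun G s ι hι hG h0 hs => hEst G s ι hι h0 hs hG
  have hiso : ∀ φ : E ⟶ E, φ ≠ 0 → IsIso φ := fun φ hφ =>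
    Groth.Agent.Lib.Helper23.StableEnd.isIso_of_stable k hdim.le r E hE hst' φ hφ
  constructor
  · intro hz
    obtain ⟨x⟩ : Nonempty X := inferInstance
    obtain ⟨U, e, hxU, hb⟩ := Groth.Agent.Lib.Helper3.FreeBasis.isFinLocFreeOfRank_iff.mp hE x
    haveI : Nonempty U := ⟨⟨x, hxU⟩⟩
    haveI : Nontrivial Γ(X, U) := Scheme.component_nontrivial X U
    obtain ⟨eE⟩ := Groth.Agent.Lib.Helper23.Curve.free_of_isBasisAt hb.self
    have hzero : ∀ m : Γ(E, U), m = 0 := by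
      intro m
      have h1 : (𝟙 E : E ⟶ E) = 0 := hz.eq_of_src _ _
      have h2 : (𝟙 E : E ⟶ E).app U m = m := rfl
      rw [h1] at h2
      exact h2.symm
    have h3 : (fun _ : Fin r => (1 : Γ(X, U))) = 0 := by
      apply eE.injective
      rw [hzero (eE _), hzero (eE 0)]
    have h4 := congrFun h3 ⟨0, hr⟩
    exact one_ne_zero h4
  · rintro E₁ E₂ ⟨e⟩
    by_cases hp : e.hom ≫ biprod.fst ≫ biprod.inl ≫ e.inv = 0
    · left
      rw [IsZero.iff_id_eq_zero]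
      have h1 : (biprod.fst : E₁ ⊞ E₂ ⟶ E₁) ≫ (biprod.inl : E₁ ⟶ E₁ ⊞ E₂) = 0 := by
        have := congrArg (fun t => e.inv ≫ t ≫ e.hom) hp
        simpa using this
      calc 𝟙 E₁ = (biprod.inl : E₁ ⟶ E₁ ⊞ E₂) ≫ ((biprod.fst : E₁ ⊞ E₂ ⟶ E₁) ≫
            (biprod.inl : E₁ ⟶ E₁ ⊞ E₂)) ≫ (biprod.fst : E₁ ⊞ E₂ ⟶ E₁) := by simp
        _ = 0 := by rw [h1]; simp
    · right
      haveI := hiso _ hp
      set p := e.hom ≫ biprod.fst ≫ biprod.inl ≫ e.inv with hpdef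
      have hpp : p ≫ p = p := by
        rw [hpdef]; simp
      have hp1 : p = 𝟙 E := by
        have := congrArg (fun t => inv p ≫ t) hpp
        simpa using this
      have h1 : (biprod.fst : E₁ ⊞ E₂ ⟶ E₁) ≫ (biprod.inl : E₁ ⟶ E₁ ⊞ E₂) = 𝟙 _ := by
        have := congrArg (fun t => e.inv ≫ t ≫ e.hom) hp1
        simpa [hpdef] using this
      rw [IsZero.iff_id_eq_zero]
      calc 𝟙 E₂ = (biprod.inr : E₂ ⟶ E₁ ⊞ E₂) ≫ (𝟙 (E₁ ⊞ E₂)) ≫ (biprod.snd : E₁ ⊞ E₂ ⟶ E₂) := by simp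
        _ = (biprod.inr : E₂ ⟶ E₁ ⊞ E₂) ≫ ((biprod.fst : E₁ ⊞ E₂ ⟶ E₁) ≫
            (biprod.inl : E₁ ⟶ E₁ ⊞ E₂)) ≫ (biprod.snd : E₁ ⊞ E₂ ⟶ E₂) := by rw [h1]
        _ = 0 := by simp

end Groth.Agent.S15340
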