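import Groth.Statements.S15341
import Mathlib
import Groth.Agent.Lib.Helper17.WeilFinF

set_option autoImplicit false
universe u
open CategoryTheory CategoryTheory.Limits AlgebraicGeometry
open VBCurve

namespace Groth.Agent.S15341

/-- Let X be a smooth proper integral curve (integral, smooth and proper of dimension one) over an
algebraically closed field k, and E₁, E₂ finite locally free O_X-modules of ranks r₁, r₂, each
finite in the sense of Weil: for E = E₁ and E = E₂ there are distinct polynomials P ≠ Q with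
natural-number coefficients and P(E) ≅ Q(E), where P(E) is the direct sum over i of P_i copies of
E^{⊗ i} (E^{⊗ 0} = O_X). Then the direct sum E₁ ⊞ E₂ and the tensor product E₁ ⊗ E₂ are finite in
the same sense. -/
theorem result (k : Type u) [Field k] [IsAlgClosed k] (X : Scheme.{u}) [X.Over (Spec (CommRingCat.of k))]
    [IsIntegral X] [IsProper (X ↘ Spec (CommRingCat.of k))] [Smooth (X ↘ Spec (CommRingCat.of k))]
    (hdim : topologicalKrullDim X = 1)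
    (r₁ r₂ : ℕ) (E₁ E₂ : X.Modules) (hE₁ : FlatMod.IsFinLocFreeOfRank r₁ E₁) (hE₂ : FlatMod.IsFinLocFreeOfRank r₂ E₂)
    (h₁ : (∃ P₁ Q₁ : Polynomial ℕ, P₁ ≠ Q₁ ∧ Nonempty ((∐ fun i : Fin (P₁.natDegree + 1) => ∐ fun _ : Fin (P₁.coeff ↑i) => CohB1.tensorPow E₁ ↑i) ≅
      (∐ fun i : Fin (Q₁.natDegree + 1) => ∐ fun _ : Fin (Q₁.coeff ↑i) => CohB1.tensorPow E₁ ↑i))))
    (h₂ : (∃ P₂ Q₂ : Polynomial ℕ, P₂ ≠ Q₂ ∧ Nonempty ((∐ fun i : Fin (P₂.natDegree + 1) => ∐ fun _ : Fin (P₂.coeff ↑i) => CohB1.tensorPow E₂ ↑i) ≅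
      (∐ fun i : Fin (Q₂.natDegree + 1) => ∐ fun _ : Fin (Q₂.coeff ↑i) => CohB1.tensorPow E₂ ↑i)))) :
    (∃ P Q : Polynomial ℕ, P ≠ Q ∧ Nonempty ((∐ fun i : Fin (P.natDegree + 1) => ∐ fun _ : Fin (P.coeff ↑i) => CohB1.tensorPow (E₁ ⊞ E₂) ↑i) ≅
      (∐ fun i : Fin (Q.natDegree + 1) => ∐ fun _ : Fin (Q.coeff ↑i) => CohB1.tensorPow (E₁ ⊞ E₂) ↑i))) ∧
    (∃ P' Q' : Polynomial ℕ, P' ≠ Q' ∧ Nonempty ((∐ fun i : Fin (P'.natDegree + 1) => ∐ fun _ : Fin (P'.coeff ↑i) => CohB1.tensorPow (CohB1.tensorMod E₁ E₂) ↑i) ≅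
      (∐ fun i : Fin (Q'.natDegree + 1) => ∐ fun _ : Fin (Q'.coeff ↑i) => CohB1.tensorPow (CohB1.tensorMod E₁ E₂) ↑i)))  := by
  classical
  haveI : IsLocallyNoetherian X :=
    Groth.Agent.Lib.Helper17.WeilFinD.isLocallyNoetherian_of_proper (X := X) k
  have hc₁ : Coh.IsCoh E₁ := Groth.Agent.Lib.Helper7.TorsFree.isCoh_of_isFinLocFreeOfRank' hE₁
  have hc₂ : Coh.IsCoh E₂ := Groth.Agent.Lib.Helper7.TorsFree.isCoh_of_isFinLocFreeOfRank' hE₂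
  have hW : Coh.IsCoh (E₁ ⊞ E₂) := Groth.Agent.Lib.Helper17.DevPow.isCoh_biprod E₁ E₂ hc₁ hc₂
  have hV : Coh.IsCoh (CohB1.tensorMod E₁ E₂) :=
    Groth.Agent.Lib.Helper17.WeilFinF.isCoh_tensor' k hc₁ hc₂
  obtain ⟨P₁, Q₁, hPQ₁, ⟨e₁⟩⟩ := h₁
  obtain ⟨P₂, Q₂, hPQ₂, ⟨e₂⟩⟩ := h₂
  obtain ⟨T₁, hT₁⟩ :=
    Groth.Agent.Lib.Helper17.WeilFinE.finite_support_of_weilFinite k hc₁ P₁ Q₁ hPQ₁ e₁
  obtain ⟨T₂, hT₂⟩ :=
    Groth.Agent.Lib.Helper17.WeilFinE.finite_support_of_weilFinite k hc₂ P₂ Q₂ hPQ₂ e₂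
  constructor
  · exact Groth.Agent.Lib.Helper17.WeilFinE.weilFinite_of_finite_support k hW
      (Groth.Agent.Lib.Helper17.WeilFinF.tprod k T₁ T₂)
      (Groth.Agent.Lib.Helper17.WeilFinF.support_pow_biprod k hc₁ hc₂ T₁ T₂ hT₁ hT₂)
  · exact Groth.Agent.Lib.Helper17.WeilFinE.weilFinite_of_finite_support k hV
      (Groth.Agent.Lib.Helper17.WeilFinF.tprod k T₁ T₂)
      (Groth.Agent.Lib.Helper17.WeilFinF.support_pow_tensor k hc₁ hc₂ T₁ T₂ hT₁ hT₂)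

end Groth.Agent.S15341
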