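import Groth.Statements.S15344
import Mathlib
import Groth.Agent.Lib.Helper17.ValDense
import Groth.Agent.Lib.Helper16.MonoPt

set_option autoImplicit false
universe u
open CategoryTheory CategoryTheory.Limits AlgebraicGeometry
open Mor

namespace Groth.Agent.S15344

/-- Let f : Y ⟶ X be a monomorphism of schemes, X quasi-separated. Then the projection Y ×_X X' ⟶ X'
reflects specializations (if the image of y₁ specializes to the image of y₀ then y₁ specializes to
y₀) after every base change X' ⟶ X if and only if, for every valuation ring A with fraction field K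
and every commutative square Spec K ⟶ Y, Spec A ⟶ X over f such that, in addition, some morphism
from the spectrum of the residue field of A to Y lies over Spec A ⟶ X, the square admits a lift Spec
A ⟶ Y. -/
theorem result {X Y : Scheme.{u}} [QuasiSeparatedSpace ↥X]
    (f : Y ⟶ X) [Mono f] :
    (∀ (X' : Scheme.{u}) (g : X' ⟶ X) (y₀ y₁ : ↥(pullback f g)),
        (pullback.snd f g).base y₁ ⤳ (pullback.snd f g).base y₀ → y₁ ⤳ y₀) ↔
      ∀ S : ValuativeCommSq f,
        (∃ l₀ : Spec (CommRingCat.of (IsLocalRing.ResidueField S.R)) ⟶ Y,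
            l₀ ≫ f = Spec.map (CommRingCat.ofHom (IsLocalRing.residue S.R)) ≫ S.i₂) →
          S.commSq.HasLift := by
  constructor
  · -- (A) ⇒ (B)
    intro HA S hl
    obtain ⟨l₀, hl₀⟩ := hl
    obtain ⟨g, hg⟩ : ∃ g : Spec (.of S.R) ⟶ X, g = S.i₂ := ⟨_, rfl⟩
    rw [← hg] at hl₀
    have hw : S.i₁ ≫ f = Spec.map (CommRingCat.ofHom (algebraMap S.R S.K)) ≫ g := by
      rw [hg]; exact S.commSq.w
    let tK : Spec (.of S.K) ⟶ pullback f g :=
      pullback.lift S.i₁ (Spec.map (CommRingCat.ofHom (algebraMap S.R S.K))) hw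
    let tk : Spec (.of (IsLocalRing.ResidueField S.R)) ⟶ pullback f g :=
      pullback.lift l₀ (Spec.map (CommRingCat.ofHom (IsLocalRing.residue S.R))) hl₀
    have htK : tK ≫ pullback.snd f g = Spec.map (CommRingCat.ofHom (algebraMap S.R S.K)) :=
      pullback.lift_snd _ _ _
    have htk : tk ≫ pullback.snd f g = Spec.map (CommRingCat.ofHom (IsLocalRing.residue S.R)) :=
      pullback.lift_snd _ _ _
    set y₁ := tK (IsLocalRing.closedPoint S.K) with hy₁
    set y₀ := tk (IsLocalRing.closedPoint (IsLocalRing.ResidueField S.R)) with hy₀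
    have hπy₀ : (pullback.snd f g) y₀ = IsLocalRing.closedPoint S.R := by
      change (tk ≫ pullback.snd f g) (IsLocalRing.closedPoint (IsLocalRing.ResidueField S.R)) = _
      rw [htk]
      exact IsLocalRing.comap_closedPoint (IsLocalRing.residue S.R)
    have hsp : y₁ ⤳ y₀ := by
      apply HA (Spec (.of S.R)) g y₀ y₁
      change (pullback.snd f g) y₁ ⤳ (pullback.snd f g) y₀
      rw [hπy₀]
      exact IsLocalRing.specializes_closedPoint _
    -- ring maps
    let P := pullback f g
    let βK : P.presheaf.stalk y₁ ⟶ .of S.K := Scheme.stalkClosedPointTo tK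
    have hβK : Spec.map βK ≫ P.fromSpecStalk y₁ = tK := Scheme.Spec_stalkClosedPointTo_fromSpecStalk _
    let β : P.presheaf.stalk y₀ ⟶ .of S.K := P.presheaf.stalkSpecializes hsp ≫ βK
    have hβ : Spec.map β ≫ P.fromSpecStalk y₀ = tK := by
      rw [Spec.map_comp, Category.assoc, Scheme.SpecMap_stalkSpecializes_fromSpecStalk, hβK]
    let ψ : CommRingCat.of S.R ⟶ P.presheaf.stalk y₀ :=
      Spec.preimage (P.fromSpecStalk y₀ ≫ pullback.snd f g)
    have hψ : Spec.map ψ = P.fromSpecStalk y₀ ≫ pullback.snd f g := Spec.map_preimage _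
    have hψβ : ψ ≫ β = CommRingCat.ofHom (algebraMap S.R S.K) := by
      apply Spec.map_injective
      rw [Spec.map_comp, hψ, ← Category.assoc, hβ, htK]
    have hψloc : IsLocalHom ψ.hom := by
      rw [IsLocalRing.isLocalHom_iff_comap_closedPoint]
      change (Spec.map ψ) (IsLocalRing.closedPoint (P.presheaf.stalk y₀)) = _
      rw [hψ]
      change (pullback.snd f g) ((P.fromSpecStalk y₀) (IsLocalRing.closedPoint _)) = _
      rw [Scheme.fromSpecStalk_closedPoint, hπy₀]
    have hbij := bijective_rangeRestrict_comp_of_valuationRing (R := S.R) (K := S.K) ψ.hom β.hom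
      (by rw [← CommRingCat.hom_comp, hψβ]; rfl)
    have hinj : Function.Injective (algebraMap S.R S.K) := IsFractionRing.injective S.R S.K
    have hmem : ∀ b : P.presheaf.stalk y₀, ∃ r : S.R, algebraMap S.R S.K r = β.hom b := by
      intro b
      obtain ⟨r, hr⟩ := hbij.2 (β.hom.rangeRestrict b)
      refine ⟨r, ?_⟩
      have h1 := congrArg Subtype.val hr
      have h2 : β.hom (ψ.hom r) = algebraMap S.R S.K r :=
        congrArg (fun φ => φ.hom r) hψβ
      rw [← h2]
      exact h1
    obtain ⟨μ, hμ⟩ := Groth.Agent.Lib.Helper17.ValDense.exists_ringHom_of_forall_mem hinj β.hom hmem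
    have hμψ : ψ ≫ CommRingCat.ofHom μ = 𝟙 _ := by
      ext r
      apply hinj
      have h1 : algebraMap S.R S.K (μ (ψ.hom r)) = β.hom (ψ.hom r) :=
        congrArg (fun φ => φ (ψ.hom r)) hμ
      have h2 : β.hom (ψ.hom r) = algebraMap S.R S.K r :=
        congrArg (fun φ => φ.hom r) hψβ
      exact h1.trans h2
    obtain ⟨s, hs⟩ : ∃ s : Spec (.of S.R) ⟶ P,
      s = Spec.map (CommRingCat.ofHom μ) ≫ P.fromSpecStalk y₀ := ⟨_, rfl⟩
    have hsπ : s ≫ pullback.snd f g = 𝟙 _ := by
      rw [hs, Category.assoc, ← hψ, ← Spec.map_comp]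
      exact (congrArg Spec.map hμψ).trans (Spec.map_id _)
    have h2 : (s ≫ pullback.fst f g) ≫ f = S.i₂ := by
      rw [Category.assoc, pullback.condition, ← Category.assoc, hsπ, Category.id_comp, hg]
    refine ⟨⟨⟨s ≫ pullback.fst f g, ?_, h2⟩⟩⟩
    rw [← cancel_mono f, Category.assoc, h2]
    exact S.commSq.w.symm
  · -- (B) ⇒ (A)
    intro HB X' g y₀ y₁ hsp
    have hπinj : Function.Injective (pullback.snd f g) := (pullback.snd f g).injective
    have key : ∀ (x : X') (y : ↥(pullback f g)), (pullback.snd f g) y = x →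
        ∃ t : Spec (.of (X'.residueField x)) ⟶
        pullback f g, t ≫ pullback.snd f g = X'.fromSpecResidueField x := by
      rintro _ y rfl
      have hne : Nonempty ↥(pullback (pullback.snd f g)
          (X'.fromSpecResidueField ((pullback.snd f g) y))) := by
        obtain ⟨z, -, -⟩ := Scheme.Pullback.exists_preimage_pullback
          (f := pullback.snd f g) (g := X'.fromSpecResidueField ((pullback.snd f g) y)) y
          (IsLocalRing.closedPoint (X'.residueField ((pullback.snd f g) y)))
          (by rw [Scheme.fromSpecResidueField_apply])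
        exact ⟨z⟩
      have hiso : IsIso (pullback.snd (pullback.snd f g)
          (X'.fromSpecResidueField ((pullback.snd f g) y))) :=
        Groth.Agent.Lib.Helper16.isIso_of_mono_of_nonempty_of_field
          (K := X'.residueField ((pullback.snd f g) y)) _
      refine ⟨inv (pullback.snd (pullback.snd f g)
          (X'.fromSpecResidueField ((pullback.snd f g) y))) ≫ pullback.fst _ _, ?_⟩
      rw [Category.assoc, pullback.condition, IsIso.inv_hom_id_assoc]
    obtain ⟨x₀, hx₀⟩ : ∃ x₀ : X', x₀ = (pullback.snd f g) y₀ := ⟨_, rfl⟩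
    obtain ⟨x₁, hx₁⟩ : ∃ x₁ : X', x₁ = (pullback.snd f g) y₁ := ⟨_, rfl⟩
    rw [← hx₀, ← hx₁] at hsp
    obtain ⟨t₀, ht₀⟩ := key x₀ y₀ hx₀.symm
    obtain ⟨t₁, ht₁⟩ := key x₁ y₁ hx₁.symm
    let φ : X'.presheaf.stalk x₀ →+* X'.residueField x₁ :=
      (X'.presheaf.stalkSpecializes hsp ≫ X'.residue x₁).hom
    obtain ⟨A, hA, hloc⟩ := IsLocalRing.exists_factor_valuationRing φ
    let φA : X'.presheaf.stalk x₀ →+* A := φ.codRestrict A.toSubring hA
    obtain ⟨s, hs⟩ : ∃ s : Spec (.of A) ⟶ X',
      s = Spec.map (CommRingCat.ofHom φA) ≫ X'.fromSpecStalk x₀ := ⟨_, rfl⟩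
    have e1 : CommRingCat.ofHom φA ≫ CommRingCat.ofHom A.subtype =
        X'.presheaf.stalkSpecializes hsp ≫ X'.residue x₁ := by
      ext a; rfl
    have hsgen : Spec.map (CommRingCat.ofHom A.subtype) ≫ s = X'.fromSpecResidueField x₁ := by
      rw [hs, ← Category.assoc, ← Spec.map_comp, e1, Spec.map_comp, Category.assoc,
        Scheme.SpecMap_stalkSpecializes_fromSpecStalk]
      rfl
    let Sq : ValuativeCommSq f :=
      { R := A, K := X'.residueField x₁, i₁ := t₁ ≫ pullback.fst f g, i₂ := s ≫ g
        commSq := ⟨by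
          rw [Category.assoc, pullback.condition, ← Category.assoc, ht₁, ← hsgen, Category.assoc]
          rfl⟩ }
    let ρ : X'.residueField x₀ →+* IsLocalRing.ResidueField A := IsLocalRing.ResidueField.map φA
    have e2 : X'.residue x₀ ≫ CommRingCat.ofHom ρ =
        CommRingCat.ofHom φA ≫ CommRingCat.ofHom (IsLocalRing.residue A) := by
      ext a; rfl
    have hl₀ : (Spec.map (CommRingCat.ofHom ρ) ≫ t₀ ≫ pullback.fst f g) ≫ f =
        Spec.map (CommRingCat.ofHom (IsLocalRing.residue A)) ≫ Sq.i₂ := by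
      change _ = Spec.map (CommRingCat.ofHom (IsLocalRing.residue A)) ≫ s ≫ g
      rw [Category.assoc, Category.assoc, pullback.condition, ← Category.assoc t₀, ht₀, hs]
      have : X'.fromSpecResidueField x₀ = Spec.map (X'.residue x₀) ≫ X'.fromSpecStalk x₀ := rfl
      rw [this]
      simp only [← Category.assoc]
      rw [← Spec.map_comp, ← Spec.map_comp]
      exact congrArg (fun z => (Spec.map z ≫ X'.fromSpecStalk x₀) ≫ g) e2
    obtain ⟨⟨l, hl1, hl2⟩⟩ := HB Sq ⟨_, hl₀⟩
    let m : Spec (.of A) ⟶ pullback f g := pullback.lift l s hl2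
    have hm : m ≫ pullback.snd f g = s := pullback.lift_snd _ _ _
    have hmcl : m (IsLocalRing.closedPoint A) = y₀ := by
      apply hπinj
      rw [← hx₀]
      change (m ≫ pullback.snd f g) (IsLocalRing.closedPoint A) = x₀
      rw [hm, hs]
      change (X'.fromSpecStalk x₀) ((Spec.map (CommRingCat.ofHom φA)) (IsLocalRing.closedPoint A)) = x₀
      have : (Spec.map (CommRingCat.ofHom φA)) (IsLocalRing.closedPoint A) =
          IsLocalRing.closedPoint (X'.presheaf.stalk x₀) := IsLocalRing.comap_closedPoint φA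
      rw [this, Scheme.fromSpecStalk_closedPoint]
    have hmgen : m ((Spec.map (CommRingCat.ofHom A.subtype))
        (IsLocalRing.closedPoint (X'.residueField x₁))) = y₁ := by
      apply hπinj
      rw [← hx₁]
      change (Spec.map (CommRingCat.ofHom A.subtype) ≫ m ≫ pullback.snd f g)
        (IsLocalRing.closedPoint (X'.residueField x₁)) = x₁
      rw [hm, hsgen]
      obtain ⟨z, hz⟩ : ∃ z : Spec (X'.residueField x₁),
        z = IsLocalRing.closedPoint (X'.residueField x₁) := ⟨_, rfl⟩
      rw [← hz, Scheme.fromSpecResidueField_apply]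
    rw [← hmcl, ← hmgen]
    exact (IsLocalRing.specializes_closedPoint _).map m.continuous

end Groth.Agent.S15344
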