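import Groth.Statements.S15345
import Mathlib

set_option autoImplicit false
universe u
open CategoryTheory CategoryTheory.Limits AlgebraicGeometry
open Mor

namespace Groth.Agent.S15345

namespace H15345

open CategoryTheory CategoryTheory.Limits AlgebraicGeometry TensorProduct

section alg
variable (A B C : Type u) [CommRing A] [CommRing B] [CommRing C] [Algebra A B] [Algebra A C]

lemma map_incl {B₁ B₂ : Subalgebra A B} (hle : B₁ ≤ B₂) (x : C ⊗[A] B₁) :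
    Algebra.TensorProduct.map (AlgHom.id A C) B₂.val
      (Algebra.TensorProduct.map (AlgHom.id A C) (Subalgebra.inclusion hle) x) =
    Algebra.TensorProduct.map (AlgHom.id A C) B₁.val x := by
  induction x using TensorProduct.induction_on with
  | zero => simp
  | tmul c b => simp
  | add x y hx hy => simp only [map_add, hx, hy]

lemma exists_fg (h : C ⊗[A] B) : ∃ B₀ : Subalgebra A B, B₀.FG ∧
    ∃ h₀ : C ⊗[A] B₀, Algebra.TensorProduct.map (AlgHom.id A C) B₀.val h₀ = h := by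
  induction h using TensorProduct.induction_on with
  | zero => exact ⟨⊥, Subalgebra.fg_bot, 0, map_zero _⟩
  | tmul c b =>
    refine ⟨Algebra.adjoin A {b}, ⟨{b}, by rw [Finset.coe_singleton]⟩,
      c ⊗ₜ[A] ⟨b, Algebra.subset_adjoin (Set.mem_singleton b)⟩, ?_⟩
    simp
  | add x y hx hy =>
    obtain ⟨B₁, hB₁, x₀, hx₀⟩ := hx
    obtain ⟨B₂, hB₂, y₀, hy₀⟩ := hy
    refine ⟨B₁ ⊔ B₂, hB₁.sup hB₂,
      Algebra.TensorProduct.map (AlgHom.id A C) (Subalgebra.inclusion le_sup_left) x₀ +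
      Algebra.TensorProduct.map (AlgHom.id A C) (Subalgebra.inclusion le_sup_right) y₀, ?_⟩
    rw [map_add, map_incl, map_incl, hx₀, hy₀]

lemma spec_basis {R : Type u} [CommRing R] (x : PrimeSpectrum R) (U : Set (PrimeSpectrum R))
    (hU : IsOpen U) (hx : x ∈ U) :
    ∃ h : R, h ∉ x.asIdeal ∧ ∀ y : PrimeSpectrum R, h ∉ y.asIdeal → y ∈ U := by
  obtain ⟨_, ⟨h, rfl⟩, hxh, hhU⟩ :=
    PrimeSpectrum.isTopologicalBasis_basic_opens.exists_subset_of_mem_open hx hU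
  exact ⟨h, hxh, fun y hy => hhU hy⟩

lemma compat2 (B₀ : Subalgebra A B)
    (e₁ : Spec.map (CommRingCat.ofHom (algebraMap A C)) ≫ 𝟙 _ =
      𝟙 _ ≫ Spec.map (CommRingCat.ofHom (algebraMap A C)))
    (e₂ : Spec.map (CommRingCat.ofHom (algebraMap A B)) ≫ 𝟙 _ =
      Spec.map (CommRingCat.ofHom (algebraMap B₀ B)) ≫
        Spec.map (CommRingCat.ofHom (algebraMap A B₀))) :
    (pullbackSpecIso A C B).inv ≫ pullback.map (Spec.map (CommRingCat.ofHom (algebraMap A C)))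
      (Spec.map (CommRingCat.ofHom (algebraMap A B)))
      (Spec.map (CommRingCat.ofHom (algebraMap A C)))
      (Spec.map (CommRingCat.ofHom (algebraMap A B₀))) (𝟙 _)
      (Spec.map (CommRingCat.ofHom (algebraMap B₀ B))) (𝟙 _) e₁ e₂ =
    Spec.map (CommRingCat.ofHom
      (Algebra.TensorProduct.map (AlgHom.id A C) B₀.val).toRingHom) ≫
      (pullbackSpecIso A C B₀).inv := by
  apply pullback.hom_ext
  · simp only [Category.assoc, pullback.lift_fst, pullbackSpecIso_inv_fst, Category.comp_id]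
    rw [← Spec.map_comp]
    congr 1
  · simp only [Category.assoc, pullback.lift_snd, pullbackSpecIso_inv_snd,
      pullbackSpecIso_inv_snd_assoc]
    rw [← Spec.map_comp, ← Spec.map_comp]
    congr 1
end alg

theorem core {X Y : Scheme.{u}} (f : Y ⟶ X)
    (h : ∀ (X' : Scheme.{u}) (g : X' ⟶ X) [LocallyOfFiniteType g] (y₀ y₁ : ↥(pullback f g)),
      (pullback.snd f g).base y₁ ⤳ (pullback.snd f g).base y₀ → y₁ ⤳ y₀)
    (A B C : Type u) [CommRing A] [CommRing B] [CommRing C] [Algebra A B] [Algebra A C]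
    (a : Spec (CommRingCat.of A) ⟶ X) [IsOpenImmersion a]
    (c : Spec (CommRingCat.of C) ⟶ Y) [IsOpenImmersion c]
    (hc : Spec.map (CommRingCat.ofHom (algebraMap A C)) ≫ a = c ≫ f)
    (y₀ y₁ : ↥(pullback f (Spec.map (CommRingCat.ofHom (algebraMap A B)) ≫ a)))
    (hy₀ : (pullback.fst f (Spec.map (CommRingCat.ofHom (algebraMap A B)) ≫ a)) y₀ ∈ Set.range c)
    (hs : (pullback.snd f (Spec.map (CommRingCat.ofHom (algebraMap A B)) ≫ a)) y₁ ⤳
      (pullback.snd f (Spec.map (CommRingCat.ofHom (algebraMap A B)) ≫ a)) y₀) : y₁ ⤳ y₀ := by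
  classical
  let β : Spec (CommRingCat.of B) ⟶ Spec (CommRingCat.of A) :=
    Spec.map (CommRingCat.ofHom (algebraMap A B))
  let γ : Spec (CommRingCat.of C) ⟶ Spec (CommRingCat.of A) :=
    Spec.map (CommRingCat.ofHom (algebraMap A C))
  let ι : pullback γ β ⟶ pullback f (β ≫ a) :=
    pullback.map γ β f (β ≫ a) c (𝟙 _) a hc (Category.id_comp _).symm
  have hιrange : Set.range ι = (pullback.fst f (β ≫ a)) ⁻¹' Set.range c := by
    rw [Scheme.Pullback.range_map]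
    ext z
    constructor
    · exact fun hz => hz.1
    · exact fun hz => ⟨hz, ⟨(pullback.snd f (β ≫ a)) z, rfl⟩⟩
  have hι_fst : ι ≫ pullback.fst f (β ≫ a) = pullback.fst γ β ≫ c := pullback.lift_fst _ _ _
  rw [specializes_iff_forall_open]
  intro O hO hy₀O
  obtain ⟨z₀, hz₀⟩ : y₀ ∈ Set.range ι := by rw [hιrange]; exact hy₀
  let e := pullbackSpecIso A C B
  let O' : Set (PrimeSpectrum (C ⊗[A] B)) := (e.inv ≫ ι) ⁻¹' O
  have hO' : IsOpen O' := hO.preimage (e.inv ≫ ι).continuous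
  have hpt : ∀ z : ↥(pullback γ β), (e.inv ≫ ι) (e.hom z) = ι z := by
    intro z
    rw [← Scheme.Hom.comp_apply, Iso.hom_inv_id_assoc]
  obtain ⟨hh, hh₀, hhO⟩ := spec_basis (e.hom z₀) O' hO' (by
    show (e.inv ≫ ι) (e.hom z₀) ∈ O
    rw [hpt, hz₀]; exact hy₀O)
  obtain ⟨B₀, hB₀, h₀, hh₀'⟩ := exists_fg A B C hh
  have : Algebra.FiniteType A B₀ := (Subalgebra.fg_iff_finiteType B₀).mp hB₀
  let β₀ : Spec (CommRingCat.of B₀) ⟶ Spec (CommRingCat.of A) :=
    Spec.map (CommRingCat.ofHom (algebraMap A B₀))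
  let r : Spec (CommRingCat.of B) ⟶ Spec (CommRingCat.of B₀) :=
    Spec.map (CommRingCat.ofHom (algebraMap B₀ B))
  have hrβ : r ≫ β₀ = β := by
    show Spec.map (CommRingCat.ofHom (algebraMap B₀ B)) ≫
      Spec.map (CommRingCat.ofHom (algebraMap A B₀)) = Spec.map (CommRingCat.ofHom (algebraMap A B))
    rw [← Spec.map_comp, ← CommRingCat.ofHom_comp, ← IsScalarTower.algebraMap_eq]
  have : LocallyOfFiniteType β₀ := by
    rw [HasRingHomProperty.Spec_iff (P := @LocallyOfFiniteType)]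
    exact RingHom.finiteType_algebraMap.mpr inferInstance
  have e1ρ : f ≫ 𝟙 X = 𝟙 Y ≫ f := by simp
  have e2ρ : (β ≫ a) ≫ 𝟙 X = r ≫ (β₀ ≫ a) := by rw [Category.comp_id, ← Category.assoc, hrβ]
  let ρ : pullback f (β ≫ a) ⟶ pullback f (β₀ ≫ a) :=
    pullback.map f (β ≫ a) f (β₀ ≫ a) (𝟙 _) r (𝟙 _) e1ρ e2ρ
  have e1Q : γ ≫ 𝟙 _ = 𝟙 _ ≫ γ := by simp
  have e2Q : β ≫ 𝟙 _ = r ≫ β₀ := by rw [Category.comp_id, hrβ]
  let ρQ : pullback γ β ⟶ pullback γ β₀ := pullback.map γ β γ β₀ (𝟙 _) r (𝟙 _) e1Q e2Q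
  let ι₀ : pullback γ β₀ ⟶ pullback f (β₀ ≫ a) :=
    pullback.map γ β₀ f (β₀ ≫ a) c (𝟙 _) a hc (Category.id_comp _).symm
  have hι_snd : ι ≫ pullback.snd f (β ≫ a) = pullback.snd γ β ≫ 𝟙 _ := pullback.lift_snd _ _ _
  have hρ_fst : ρ ≫ pullback.fst f (β₀ ≫ a) = pullback.fst f (β ≫ a) ≫ 𝟙 _ :=
    pullback.lift_fst _ _ _
  have hρ_snd : ρ ≫ pullback.snd f (β₀ ≫ a) = pullback.snd f (β ≫ a) ≫ r :=
    pullback.lift_snd _ _ _
  have hρQ_fst : ρQ ≫ pullback.fst γ β₀ = pullback.fst γ β ≫ 𝟙 _ := pullback.lift_fst _ _ _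
  have hρQ_snd : ρQ ≫ pullback.snd γ β₀ = pullback.snd γ β ≫ r := pullback.lift_snd _ _ _
  have hι₀_fst : ι₀ ≫ pullback.fst f (β₀ ≫ a) = pullback.fst γ β₀ ≫ c := pullback.lift_fst _ _ _
  have hι₀_snd : ι₀ ≫ pullback.snd f (β₀ ≫ a) = pullback.snd γ β₀ ≫ 𝟙 _ :=
    pullback.lift_snd _ _ _
  have compat1 : ι ≫ ρ = ρQ ≫ ι₀ := by
    apply pullback.hom_ext
    · rw [Category.assoc, hρ_fst, Category.comp_id, hι_fst, Category.assoc, hι₀_fst,
        ← Category.assoc, hρQ_fst, Category.comp_id]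
    · rw [Category.assoc, hρ_snd, ← Category.assoc, hι_snd, Category.comp_id, Category.assoc,
        hι₀_snd, Category.comp_id, hρQ_snd]
  have hι₀oi : IsOpenImmersion ι₀ :=
    Scheme.pullback_map_isOpenImmersion γ β₀ f (β₀ ≫ a) c (𝟙 _) a hc (Category.id_comp _).symm
  let e₀ := pullbackSpecIso A C B₀
  let T := Algebra.TensorProduct.map (AlgHom.id A C) B₀.val
  let S : Spec (CommRingCat.of (C ⊗[A] B)) ⟶ Spec (CommRingCat.of (C ⊗[A] B₀)) :=
    Spec.map (CommRingCat.ofHom T.toRingHom)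
  have c2 : e.inv ≫ ρQ = S ≫ e₀.inv := compat2 A B C B₀ e1Q e2Q
  have c2' : ρQ ≫ e₀.hom = e.hom ≫ S := by
    rw [← Iso.inv_comp_eq, ← Category.assoc, c2, Category.assoc, Iso.inv_hom_id, Category.comp_id]
  have p1 : ∀ z : ↥(pullback γ β), ρ (ι z) = ι₀ (ρQ z) := by
    intro z
    rw [← Scheme.Hom.comp_apply, ← Scheme.Hom.comp_apply, compat1]
  have p2 : ∀ z : ↥(pullback γ β), e₀.hom (ρQ z) = S (e.hom z) := by
    intro z
    rw [← Scheme.Hom.comp_apply, ← Scheme.Hom.comp_apply, c2']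
  have p3 : ∀ x : PrimeSpectrum (C ⊗[A] B),
      (h₀ ∉ PrimeSpectrum.asIdeal (S x) ↔ hh ∉ x.asIdeal) := by
    intro x
    rw [← hh₀']
    exact Iff.rfl
  have hsnd : ∀ y, (pullback.snd f (β₀ ≫ a)) (ρ y) = r ((pullback.snd f (β ≫ a)) y) := by
    intro y
    rw [← Scheme.Hom.comp_apply, ← Scheme.Hom.comp_apply, hρ_snd]
  have hspec₀ : ρ y₁ ⤳ ρ y₀ := by
    apply h (Spec (CommRingCat.of B₀)) (β₀ ≫ a) (ρ y₀) (ρ y₁)
    show (pullback.snd f (β₀ ≫ a)) (ρ y₁) ⤳ (pullback.snd f (β₀ ≫ a)) (ρ y₀)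
    rw [hsnd, hsnd]
    exact hs.map r.continuous
  let D₀ : Set (PrimeSpectrum (C ⊗[A] B₀)) := {p | h₀ ∉ p.asIdeal}
  have hD₀ : IsOpen D₀ := (PrimeSpectrum.basicOpen h₀).isOpen
  let O₀ : Set ↥(pullback f (β₀ ≫ a)) := ι₀ '' (e₀.hom ⁻¹' D₀)
  have hO₀ : IsOpen O₀ := ι₀.isOpenEmbedding.isOpenMap _ (hD₀.preimage e₀.hom.continuous)
  have hmem₀ : ρ y₀ ∈ O₀ := by
    refine ⟨ρQ z₀, ?_, ?_⟩
    · show h₀ ∉ PrimeSpectrum.asIdeal (e₀.hom (ρQ z₀))
      rw [p2]
      exact (p3 _).mpr hh₀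
    · rw [← p1, hz₀]
  obtain ⟨w, hwD, hw⟩ := hspec₀.mem_open hO₀ hmem₀
  obtain ⟨z₁, hz₁⟩ : y₁ ∈ Set.range ι := by
    rw [hιrange]
    show (pullback.fst f (β ≫ a)) y₁ ∈ Set.range c
    have h1 : (pullback.fst f (β₀ ≫ a)) (ρ y₁) = (pullback.fst f (β ≫ a)) y₁ := by
      rw [← Scheme.Hom.comp_apply, hρ_fst, Category.comp_id]
    rw [← h1, ← hw, ← Scheme.Hom.comp_apply, hι₀_fst, Scheme.Hom.comp_apply]
    exact ⟨_, rfl⟩
  have hwz : ρQ z₁ = w := by
    apply ι₀.isOpenEmbedding.injective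
    rw [← p1, hz₁, hw]
  have hz₁O' : e.hom z₁ ∈ O' := by
    apply hhO
    refine (p3 (e.hom z₁)).mp ?_
    rw [← p2, hwz]
    exact hwD
  have h2 : (e.inv ≫ ι) (e.hom z₁) ∈ O := hz₁O'
  rwa [hpt, hz₁] at h2

theorem main {X Y : Scheme.{u}} (f : Y ⟶ X)
    (h : ∀ (X' : Scheme.{u}) (g : X' ⟶ X) [LocallyOfFiniteType g] (y₀ y₁ : ↥(pullback f g)),
      (pullback.snd f g).base y₁ ⤳ (pullback.snd f g).base y₀ → y₁ ⤳ y₀)
    (X' : Scheme.{u}) (g : X' ⟶ X) (y₀ y₁ : ↥(pullback f g))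
    (hs : (pullback.snd f g).base y₁ ⤳ (pullback.snd f g).base y₀) : y₁ ⤳ y₀ := by
  obtain ⟨RA, a, ha, hxa, -⟩ := Scheme.exists_affine_mem_range_and_range_subset
    (show g ((pullback.snd f g) y₀) ∈ (⊤ : X.Opens) from trivial)
  have := ha
  obtain ⟨RB, b, hb, hxb, hbsub⟩ := Scheme.exists_affine_mem_range_and_range_subset
    (show (pullback.snd f g) y₀ ∈ g ⁻¹ᵁ a.opensRange from hxa)
  have := hb
  have hcond : f ((pullback.fst f g) y₀) = g ((pullback.snd f g) y₀) := by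
    rw [← Scheme.Hom.comp_apply, ← Scheme.Hom.comp_apply, pullback.condition]
  obtain ⟨RC, c, hc', hxc, hcsub⟩ := Scheme.exists_affine_mem_range_and_range_subset
    (show (pullback.fst f g) y₀ ∈ f ⁻¹ᵁ a.opensRange from by
      show f ((pullback.fst f g) y₀) ∈ Set.range a
      rw [hcond]; exact hxa)
  have := hc'
  have hbr : Set.range (b ≫ g) ⊆ Set.range a := by
    rintro _ ⟨t, rfl⟩
    rw [Scheme.Hom.comp_apply]
    exact hbsub ⟨t, rfl⟩
  have hcr : Set.range (c ≫ f) ⊆ Set.range a := by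
    rintro _ ⟨t, rfl⟩
    rw [Scheme.Hom.comp_apply]
    exact hcsub ⟨t, rfl⟩
  let β' := IsOpenImmersion.lift a (b ≫ g) hbr
  have hβ' : β' ≫ a = b ≫ g := IsOpenImmersion.lift_fac _ _ _
  let γ' := IsOpenImmersion.lift a (c ≫ f) hcr
  have hγ' : γ' ≫ a = c ≫ f := IsOpenImmersion.lift_fac _ _ _
  let φB : RA ⟶ RB := Spec.preimage β'
  have hφB : Spec.map φB = β' := Spec.map_preimage β'
  let φC : RA ⟶ RC := Spec.preimage γ'
  have hφC : Spec.map φC = γ' := Spec.map_preimage γ'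
  letI : Algebra RA RB := φB.hom.toAlgebra
  letI : Algebra RA RC := φC.hom.toAlgebra
  have hB : Spec.map (CommRingCat.ofHom (algebraMap RA RB)) = β' := hφB
  have hC : Spec.map (CommRingCat.ofHom (algebraMap RA RC)) = γ' := hφC
  have hc : Spec.map (CommRingCat.ofHom (algebraMap RA RC)) ≫ a = c ≫ f := by rw [hC, hγ']
  have e2j : (Spec.map (CommRingCat.ofHom (algebraMap RA RB)) ≫ a) ≫ 𝟙 X = b ≫ g := by
    rw [Category.comp_id, hB, hβ']
  let j : pullback f (Spec.map (CommRingCat.ofHom (algebraMap RA RB)) ≫ a) ⟶ pullback f g :=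
    pullback.map f (Spec.map (CommRingCat.ofHom (algebraMap RA RB)) ≫ a) f g (𝟙 Y) b (𝟙 X)
      (by simp) e2j
  have hjrange : Set.range j = (pullback.snd f g) ⁻¹' Set.range b := by
    rw [Scheme.Pullback.range_map]
    ext z
    constructor
    · exact fun hz => hz.2
    · exact fun hz => ⟨⟨(pullback.fst f g) z, rfl⟩, hz⟩
  have hj_fst : j ≫ pullback.fst f g = pullback.fst f _ ≫ 𝟙 _ := pullback.lift_fst _ _ _
  have hj_snd : j ≫ pullback.snd f g = pullback.snd f _ ≫ b := pullback.lift_snd _ _ _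
  obtain ⟨z₀, hz₀⟩ : y₀ ∈ Set.range j := by rw [hjrange]; exact hxb
  have hy₁b : (pullback.snd f g) y₁ ∈ Set.range b :=
    hs.mem_open b.isOpenEmbedding.isOpen_range hxb
  obtain ⟨z₁, hz₁⟩ : y₁ ∈ Set.range j := by rw [hjrange]; exact hy₁b
  have hz : z₁ ⤳ z₀ := by
    apply core f h RA RB RC a c hc z₀ z₁
    · have h1 : (pullback.fst f g) (j z₀) = (pullback.fst f _) z₀ := by
        rw [← Scheme.Hom.comp_apply, hj_fst, Category.comp_id]
      rw [← h1, hz₀]; exact hxc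
    · rw [← b.isOpenEmbedding.isInducing.specializes_iff]
      have hb' : ∀ z, b ((pullback.snd f _) z) = (pullback.snd f g) (j z) := by
        intro z; rw [← Scheme.Hom.comp_apply, ← Scheme.Hom.comp_apply, hj_snd]
      rw [hb', hb', hz₀, hz₁]; exact hs
  rw [← hz₀, ← hz₁]
  exact hz.map j.continuous

end H15345

/-- Let f : Y ⟶ X be a morphism of schemes, X quasi-separated. If for every morphism X' ⟶ X locally of
finite type the projection Y ×_X X' ⟶ X' reflects specializations (the image of y₁ specializing to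
the image of y₀ forces y₁ to specialize to y₀), then the same holds for every morphism X' ⟶ X. (The
published statement assumes moreover that f is a monomorphism; this row does not.) -/
theorem result {X Y : Scheme.{u}} [QuasiSeparatedSpace ↥X]
    (f : Y ⟶ X)
    (h : ∀ (X' : Scheme.{u}) (g : X' ⟶ X) [LocallyOfFiniteType g] (y₀ y₁ : ↥(pullback f g)),
      (pullback.snd f g).base y₁ ⤳ (pullback.snd f g).base y₀ → y₁ ⤳ y₀) :
    ∀ (X' : Scheme.{u}) (g : X' ⟶ X) (y₀ y₁ : ↥(pullback f g)),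
        (pullback.snd f g).base y₁ ⤳ (pullback.snd f g).base y₀ → y₁ ⤳ y₀ := by
  exact fun X' g y₀ y₁ hs => H15345.main f h X' g y₀ y₁ hs

end Groth.Agent.S15345
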