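import Groth.Statements.S15347
-- import your own Groth.Agent.* helpers here
import Mathlib

set_option autoImplicit false
universe u
open CategoryTheory CategoryTheory.Limits AlgebraicGeometry
open Mor

namespace Groth.Agent.S15347

/-- Let f : Y ⟶ X be an immersion of schemes. Then: for every valuation ring A with fraction field K and
every commutative square Spec K ⟶ Y, Spec A ⟶ X over f such that some morphism from the spectrum of
the residue field of A to Y lies over Spec A ⟶ X, the square admits a lift; and for every integral
domain A and every morphism s : Spec A ⟶ X such that the points of a dense subset of Spec A lift to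
Y (the residue field of each such point maps to Y over s), there is a nonempty open subscheme U of
Spec A with a morphism U ⟶ Y over s. (The published statement is for a representable, locally
finitely presented morphism of algebraic stacks with locally Noetherian target and a quasi-compact
immersion, and also lists that f is a monomorphism; this row is the case of schemes, for any
immersion and any target.) -/
theorem result {X Y : Scheme.{u}} (f : Y ⟶ X) [IsImmersion f] :
    (∀ S : ValuativeCommSq f,
        (∃ l₀ : Spec (CommRingCat.of (IsLocalRing.ResidueField S.R)) ⟶ Y,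
            l₀ ≫ f = Spec.map (CommRingCat.ofHom (IsLocalRing.residue S.R)) ≫ S.i₂) →
          S.commSq.HasLift) ∧
      ∀ (A : Type u) [CommRing A] [IsDomain A] (s : Spec (CommRingCat.of A) ⟶ X) (D : Set ↥(Spec (CommRingCat.of A))),
        Dense D →
        (∀ p ∈ D, ∃ l : Spec ((Spec (CommRingCat.of A)).residueField p) ⟶ Y,
            l ≫ f = (Spec (CommRingCat.of A)).fromSpecResidueField p ≫ s) →
          ∃ U : (Spec (CommRingCat.of A)).Opens, (U : Set ↥(Spec (CommRingCat.of A))).Nonempty ∧
            ∃ l : (U : Scheme.{u}) ⟶ Y, l ≫ f = U.ι ≫ s := by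
  refine ⟨?_, ?_⟩
  · -- valuative lift
    intro S hl
    obtain ⟨l₀, hl₀⟩ := hl
    let U := f.coborderRange
    let c : Y ⟶ U := f.liftCoborder
    have hc : c ≫ U.ι = f := f.liftCoborder_ι
    -- the closed point of Spec R lands in U
    have hloc : IsLocalRing S.R := inferInstance
    let x₀ : ↥(Spec (CommRingCat.of (IsLocalRing.ResidueField S.R))) :=
      IsLocalRing.closedPoint (IsLocalRing.ResidueField S.R)
    have hcp : (Spec.map (CommRingCat.ofHom (IsLocalRing.residue S.R))) x₀ =
        (IsLocalRing.closedPoint S.R : ↥(Spec (CommRingCat.of S.R))) :=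
      IsLocalRing.PrimeSpectrum.comap_residue S.R _
    have hmem : S.i₂ (IsLocalRing.closedPoint S.R : ↥(Spec (CommRingCat.of S.R))) ∈ U := by
      have h1 : (l₀ ≫ f) x₀ = (Spec.map (CommRingCat.ofHom (IsLocalRing.residue S.R)) ≫ S.i₂) x₀ := by
        rw [hl₀]
      rw [Scheme.Hom.comp_apply, Scheme.Hom.comp_apply, hcp] at h1
      rw [← h1]
      exact subset_coborder ⟨_, rfl⟩
    have htop : S.i₂ ⁻¹ᵁ U = ⊤ := Scheme.preimage_eq_top_of_closedPoint_mem S.i₂ hmem
    have hr : Set.range S.i₂ ⊆ Set.range U.ι := by
      rintro _ ⟨x, rfl⟩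
      have h5 : x ∈ S.i₂ ⁻¹ᵁ U := by rw [htop]; trivial
      rw [Scheme.Opens.range_ι]
      exact h5
    let i₂' : Spec (CommRingCat.of S.R) ⟶ U := IsOpenImmersion.lift U.ι S.i₂ hr
    have hi₂' : i₂' ≫ U.ι = S.i₂ := IsOpenImmersion.lift_fac _ _ _
    have hex : ValuativeCriterion.Existence c := by
      have : UniversallyClosed c := inferInstance
      rw [UniversallyClosed.eq_valuativeCriterion] at this
      exact this.1
    let S' : ValuativeCommSq c :=
      { R := S.R
        K := S.K
        i₁ := S.i₁
        i₂ := i₂'
        commSq := ⟨by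
          rw [← cancel_mono U.ι, Category.assoc, Category.assoc, hc, hi₂']
          exact S.commSq.w⟩ }
    obtain ⟨l, hl₁, hl₂⟩ := (hex S').exists_lift
    refine ⟨⟨⟨l, hl₁, ?_⟩⟩⟩
    have h3 : l ≫ c = i₂' := hl₂
    calc l ≫ f = (l ≫ c) ≫ U.ι := by rw [Category.assoc, hc]
      _ = S.i₂ := by rw [h3, hi₂']
  · -- dense lift
    intro A _ _ s D hD hlift
    let U := f.coborderRange
    let c : Y ⟶ U := f.liftCoborder
    have hc : c ≫ U.ι = f := f.liftCoborder_ι
    have hne : Nonempty ↥(Spec (CommRingCat.of A)) := inferInstance
    obtain ⟨p, hp⟩ := hD.nonempty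
    let W : (Spec (CommRingCat.of A)).Opens := s ⁻¹ᵁ U
    have hDW : ∀ q ∈ D, q ∈ W := by
      intro q hq
      obtain ⟨l, hl⟩ := hlift q hq
      obtain ⟨t⟩ : Nonempty ↥(Spec ((Spec (CommRingCat.of A)).residueField q)) := inferInstance
      have h1 : (l ≫ f) t = ((Spec (CommRingCat.of A)).fromSpecResidueField q ≫ s) t := by rw [hl]
      rw [Scheme.Hom.comp_apply, Scheme.Hom.comp_apply, Scheme.fromSpecResidueField_apply] at h1
      show s q ∈ U
      rw [← h1]
      exact subset_coborder ⟨_, rfl⟩
    refine ⟨W, ⟨p, hDW p hp⟩, ?_⟩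
    have hr : Set.range (W.ι ≫ s) ⊆ Set.range U.ι := by
      rintro _ ⟨x, rfl⟩
      rw [Scheme.Opens.range_ι]
      exact x.2
    let s' : (W : Scheme.{u}) ⟶ U := IsOpenImmersion.lift U.ι (W.ι ≫ s) hr
    have hs' : s' ≫ U.ι = W.ι ≫ s := IsOpenImmersion.lift_fac _ _ _
    -- the base change of the closed immersion `c` along `s'` is a surjective closed immersion
    have hsurj : Surjective (pullback.snd c s') := by
      constructor
      have hcl : IsClosed (Set.range (pullback.snd c s')) :=
        (pullback.snd c s').isClosedEmbedding.isClosed_range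
      have hdense : Dense (W.ι ⁻¹' D) := hD.preimage W.ι.isOpenEmbedding.isOpenMap
      have hsub : W.ι ⁻¹' D ⊆ Set.range (pullback.snd c s') := by
        intro x hx
        obtain ⟨l, hl⟩ := hlift (W.ι x) hx
        let t : Spec ((W : Scheme.{u}).residueField x) ⟶ Y := Spec.map (W.ι.residueFieldMap x) ≫ l
        have ht : t ≫ c = (W : Scheme.{u}).fromSpecResidueField x ≫ s' := by
          rw [← cancel_mono U.ι]
          calc (t ≫ c) ≫ U.ι = t ≫ f := by rw [Category.assoc, hc]
            _ = Spec.map (W.ι.residueFieldMap x) ≫ (l ≫ f) := by rw [← Category.assoc]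
            _ = Spec.map (W.ι.residueFieldMap x) ≫
                  ((Spec (CommRingCat.of A)).fromSpecResidueField (W.ι x) ≫ s) := by rw [hl]
            _ = ((W : Scheme.{u}).fromSpecResidueField x ≫ W.ι) ≫ s := by
                  rw [← Category.assoc, Scheme.Hom.SpecMap_residueFieldMap_fromSpecResidueField]
            _ = ((W : Scheme.{u}).fromSpecResidueField x ≫ s') ≫ U.ι := by
                  rw [Category.assoc, Category.assoc, hs']
        obtain ⟨z⟩ : Nonempty ↥(Spec ((W : Scheme.{u}).residueField x)) := inferInstance
        refine ⟨(pullback.lift t ((W : Scheme.{u}).fromSpecResidueField x) ht) z, ?_⟩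
        rw [← Scheme.Hom.comp_apply, pullback.lift_snd, Scheme.fromSpecResidueField_apply]
      intro x
      have : Set.range (pullback.snd c s') = Set.univ := by
        apply Set.eq_univ_of_univ_subset
        rw [← hdense.closure_eq]
        exact hcl.closure_subset_iff.mpr hsub
      rw [Set.eq_univ_iff_forall] at this
      exact this x
    have hiso : IsIso (pullback.snd c s') := isIso_of_isClosedImmersion_of_surjective _
    refine ⟨inv (pullback.snd c s') ≫ pullback.fst c s', ?_⟩
    rw [← hc, Category.assoc, ← Category.assoc (pullback.fst c s'), pullback.condition,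
      Category.assoc, hs', IsIso.inv_hom_id_assoc]

end Groth.Agent.S15347
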