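import Groth.Statements.S15352
import Mathlib
import Groth.Agent.Lib.Helper11.GrpG

set_option autoImplicit false
universe u
open CategoryTheory CategoryTheory.Limits MonoidalCategory CartesianMonoidalCategory MonObj GrpObj AlgebraicGeometry
open GrpSch

namespace Groth.Agent.S15352

/-- Let k be an algebraically closed field, G a group scheme locally of finite type over k, G⁰ ⊆ G the
connected component of the unit point, and U a nonempty open subscheme of G contained in G⁰. Then
every point of G⁰ is in the image of the morphism U ×_k U ⟶ G, (g, h) ↦ g·h⁻¹. (The published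
statement writes U as an open of G mapping to G⁰ × G⁰; this row makes the containment U ⊆ G⁰
explicit.) -/
theorem result (k : Type u) [Field k] [IsAlgClosed k]
    (G : Over (Spec (CommRingCat.of k))) [GrpObj G] [LocallyOfFiniteType G.hom] (U : G.left.Opens)
    (hne : (U : Set ↥G.left).Nonempty)
    (hU : (U : Set ↥G.left) ⊆ connectedComponent (η[G].left.base (IsLocalRing.closedPoint k))) :
    connectedComponent (η[G].left.base (IsLocalRing.closedPoint k)) ⊆ Set.range
      ((((Over.homMk U.ι rfl : Over.mk (U.ι ≫ G.hom) ⟶ G) ⊗ₘ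
          ((Over.homMk U.ι rfl : Over.mk (U.ι ≫ G.hom) ⟶ G) ≫ ι[G])) ≫ μ[G]).left.base) := by

  intro g hg
  have hZ := irreducibleComponent_mem_irreducibleComponents (η[G].left (IsLocalRing.closedPoint k))
  have hcc := Groth.Agent.Lib.Helper11.GrpE.connectedComponent_unit_eq G (IsLocalRing.closedPoint k)
    _ hZ mem_irreducibleComponent
  have hcc' : connectedComponent (η[G].left.base (IsLocalRing.closedPoint k)) =
      irreducibleComponent (η[G].left (IsLocalRing.closedPoint k)) := hcc
  rw [hcc'] at hg hU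
  obtain ⟨u, hu⟩ := hne
  obtain ⟨ζ, h1, h2, h3⟩ := Groth.Agent.Lib.Helper11.GrpG.exists_div_eq_of_mem_unit_component G
    (IsLocalRing.closedPoint k) _ hZ mem_irreducibleComponent U ⟨u, hu, hU hu⟩ g hg
  set j : Over.mk (U.ι ≫ G.hom) ⟶ G := Over.homMk U.ι rfl with hj
  have hrange : Set.range (j ⊗ₘ j).left =
      (fst G G).left ⁻¹' (U : Set ↥G.left) ∩ (snd G G).left ⁻¹' (U : Set ↥G.left) := by
    rw [Over.tensorHom_left]
    have h := Scheme.Pullback.range_map (U.ι ≫ G.hom) (U.ι ≫ G.hom) G.hom G.hom U.ι U.ι (𝟙 _)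
      (by simp) (by simp)
    rw [Scheme.Opens.range_ι] at h
    exact h
  obtain ⟨w, hw⟩ : ζ ∈ Set.range (j ⊗ₘ j).left := by
    rw [hrange]; exact ⟨h1, h2⟩
  have hfac : (j ⊗ₘ (j ≫ ι[G])) ≫ μ[G] = (j ⊗ₘ j) ≫ (fst G G * (snd G G)⁻¹) := by
    rw [Hom.mul_def, Hom.inv_def, ← Category.assoc]
    congr 1
    apply CartesianMonoidalCategory.hom_ext <;> simp
  refine ⟨w, ?_⟩
  rw [hfac]
  show (fst G G * (snd G G)⁻¹).left ((j ⊗ₘ j).left w) = g
  rw [hw]
  exact h3

end Groth.Agent.S15352
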