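import Groth.Statements.S15353
import Mathlib.RingTheory.PicardGroup
import Mathlib.RingTheory.Nakayama
import Mathlib.LinearAlgebra.TensorProduct.Quotient
import Mathlib.RingTheory.Idempotents
import Mathlib.RingTheory.TensorProduct.Basic

set_option autoImplicit false
universe u
open CAlg

namespace Groth.Agent.S15353

section aux
open TensorProduct

variable {R : Type u} [CommRing R] (I : Ideal R)

/-- `1 ⊗ z = 0` in `(R/I) ⊗ P` iff `z ∈ I P`. -/
lemma one_tmul_eq_zero_iff {P : Type u} [AddCommGroup P] [Module R P] (z : P) :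
    (1 : R ⧸ I) ⊗ₜ[R] z = 0 ↔ z ∈ (I • ⊤ : Submodule R P) := by
  rw [← (quotTensorEquivQuotSMul P I).map_eq_zero_iff, quotTensorEquivQuotSMul_mk_one_tmul,
    Submodule.Quotient.mk_eq_zero]

/-- **L1'**: a finite projective module which is free of rank one modulo a nilpotent ideal is free
of rank one. -/
lemma nonempty_equiv_of_quot (hI : IsNilpotent I) (P : Type u) [AddCommGroup P] [Module R P]
    [Module.Finite R P] [Module.Projective R P]
    (e : (R ⧸ I) ⊗[R] P ≃ₗ[R ⧸ I] (R ⧸ I)) : Nonempty (P ≃ₗ[R] R) := by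
  obtain ⟨N, hN⟩ := hI
  have hmk : Function.Surjective (TensorProduct.mk R (R ⧸ I) P 1) :=
    TensorProduct.mk_surjective R P (R ⧸ I) Ideal.Quotient.mk_surjective
  obtain ⟨x, hx⟩ := hmk (e.symm 1)
  change (1 : R ⧸ I) ⊗ₜ[R] x = e.symm 1 at hx
  let g : R →ₗ[R] P := LinearMap.toSpanSingleton R P x
  have hg : ∀ r, g r = r • x := fun r => rfl
  -- key: e.symm (mk r) = 1 ⊗ (r • x)
  have hkey : ∀ r : R, e.symm (Ideal.Quotient.mk I r) = (1 : R ⧸ I) ⊗ₜ[R] (r • x) := by
    intro r
    have : (Ideal.Quotient.mk I r : R ⧸ I) = (Ideal.Quotient.mk I r : R ⧸ I) • (1 : R ⧸ I) := by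
      rw [smul_eq_mul, mul_one]
    rw [this, map_smul, ← hx, TensorProduct.smul_tmul', smul_eq_mul, mul_one,
      ← Ideal.Quotient.algebraMap_eq, Algebra.algebraMap_eq_smul_one, TensorProduct.smul_tmul]
  -- g is surjective (Nakayama)
  have hInil : I ≤ Ideal.jacobson ⊥ := by
    intro a ha
    have : a ∈ nilradical R := by
      rw [mem_nilradical]
      exact ⟨N, by
        have := Ideal.pow_mem_pow ha N
        rw [hN] at this
        exact this⟩
    exact (Ideal.radical_le_jacobson (I := (⊥ : Ideal R))) this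
  have hsurj : Function.Surjective g := by
    rw [← LinearMap.range_eq_top, eq_top_iff]
    refine Submodule.le_of_le_smul_of_le_jacobson_bot (Module.Finite.fg_top) hInil ?_
    intro y _
    obtain ⟨r, hr⟩ := Ideal.Quotient.mk_surjective (e ((1 : R ⧸ I) ⊗ₜ[R] y))
    have h1 : (1 : R ⧸ I) ⊗ₜ[R] y = (1 : R ⧸ I) ⊗ₜ[R] (r • x) := by
      rw [← hkey, hr, LinearEquiv.symm_apply_apply]
    have h2 : (1 : R ⧸ I) ⊗ₜ[R] (y - r • x) = 0 := by
      rw [TensorProduct.tmul_sub, h1, sub_self]
    rw [one_tmul_eq_zero_iff] at h2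
    have : y = r • x + (y - r • x) := by abel
    rw [this]
    exact Submodule.add_mem_sup ⟨r, rfl⟩ h2
  -- splitting
  obtain ⟨s, hs⟩ := Module.projective_lifting_property g LinearMap.id hsurj
  have hs' : ∀ y, g (s y) = y := fun y => LinearMap.congr_fun hs y
  set ε : R := s x with hε
  have hεx : ε • x = x := hs' x
  have hεε : ε * ε = ε := by
    have : s (ε • x) = ε * s x := by rw [map_smul, smul_eq_mul]
    rw [hεx] at this
    exact this.symm
  -- kernel of g is contained in I
  have hker : ∀ k : R, k • x = 0 → k ∈ I := by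
    intro k hk
    have := hkey k
    rw [hk, TensorProduct.tmul_zero] at this
    have h0 : Ideal.Quotient.mk I k = 0 := by
      have := congrArg e this
      rwa [LinearEquiv.apply_symm_apply, map_zero] at this
    exact Ideal.Quotient.eq_zero_iff_mem.1 h0
  have h1ε : (1 - ε) = 0 := by
    have hmem : (1 - ε) ∈ I := hker _ (by rw [sub_smul, one_smul, hεx, sub_self])
    have hidem : IsIdempotentElem (1 - ε) := by
      change (1 - ε) * (1 - ε) = 1 - ε
      ring_nf
      rw [pow_two, hεε]; ring
    have hpow : (1 - ε) ^ N ∈ I ^ N := Ideal.pow_mem_pow hmem N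
    rw [hN] at hpow
    by_cases hN0 : N = 0
    · subst hN0
      rw [pow_zero] at hN
      have : (1 : R) ∈ (0 : Ideal R) := by rw [← hN, Ideal.one_eq_top]; exact Submodule.mem_top
      have h10 : (1 : R) = 0 := this
      calc (1 - ε) = (1 - ε) * 1 := (mul_one _).symm
        _ = 0 := by rw [h10, mul_zero]
    · rw [hidem.pow_eq hN0] at hpow
      exact hpow
  have hinj : Function.Injective g := by
    rw [injective_iff_map_eq_zero]
    intro k hk
    have hkε : k * ε = 0 := by
      have : s (k • x) = k * s x := by rw [map_smul, smul_eq_mul]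
      rw [hg k] at hk
      rw [hk, map_zero] at this
      exact this.symm
    have : ε = 1 := by linear_combination -h1ε
    rw [this, mul_one] at hkε
    exact hkε
  exact ⟨(LinearEquiv.ofBijective g ⟨hinj, hsurj⟩).symm⟩

/-- matrices with entries in a nilpotent ideal are nilpotent -/
lemma nilpotent_of_entries {n : ℕ} (x : Matrix (Fin n) (Fin n) R) (hx : ∀ i j, x i j ∈ I)
    (N : ℕ) (hN : I ^ N = 0) : x ^ N = 0 := by
  have key : ∀ k : ℕ, ∀ i j, (x ^ k) i j ∈ I ^ k := by
    intro k
    induction k with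
    | zero => intro i j; rw [pow_zero, Ideal.one_eq_top]; exact Submodule.mem_top
    | succ k ih =>
      intro i j
      rw [pow_succ, pow_succ, Matrix.mul_apply]
      exact Ideal.sum_mem _ fun l _ => Ideal.mul_mem_mul (ih i l) (hx l j)
  ext i j
  have := key N i j
  rw [hN] at this
  exact this

/-- **L2**: finite projective modules lift along nilpotent quotients. -/
lemma exists_lift_projective (hI : IsNilpotent I) (N : Type u) [AddCommGroup N]
    [Module (R ⧸ I) N] [Module.Finite (R ⧸ I) N] [Module.Projective (R ⧸ I) N] :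
    ∃ (P : Type u) (_ : AddCommGroup P) (_ : Module R P), Module.Finite R P ∧
      Module.Projective R P ∧ Nonempty ((R ⧸ I) ⊗[R] P ≃ₗ[R ⧸ I] N) := by
  classical
  obtain ⟨N0, hN0⟩ := hI
  letI : Module R N := Module.compHom N (Ideal.Quotient.mk I)
  haveI : IsScalarTower R (R ⧸ I) N := ⟨fun r s y => by
    change (r • s) • y = Ideal.Quotient.mk I r • (s • y)
    rw [Algebra.smul_def, mul_smul]; rfl⟩
  obtain ⟨n, q, j, hq, hj, hqj⟩ := Module.Finite.exists_comp_eq_id_of_projective (R ⧸ I) N
  have hqj' : ∀ y, q (j y) = y := fun y => LinearMap.congr_fun hqj y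
  set E : Matrix (Fin n) (Fin n) (R ⧸ I) := LinearMap.toMatrix' (j ∘ₗ q) with hE
  have hEidem : IsIdempotentElem E := by
    change E * E = E
    rw [hE, ← LinearMap.toMatrix'_comp]
    congr 1
    refine LinearMap.ext fun v => ?_
    simp only [LinearMap.comp_apply, hqj']
  have hElin : ∀ v, E.mulVec v = j (q v) := by
    intro v
    rw [hE, LinearMap.toMatrix'_mulVec]; rfl
  let φ : Matrix (Fin n) (Fin n) R →+* Matrix (Fin n) (Fin n) (R ⧸ I) :=
    RingHom.mapMatrix (Ideal.Quotient.mk I)
  have hker : ∀ x ∈ RingHom.ker φ, IsNilpotent x := by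
    intro x hx
    refine ⟨N0, nilpotent_of_entries I x (fun i j => ?_) N0 hN0⟩
    rw [RingHom.mem_ker] at hx
    have := congrFun (congrFun hx i) j
    exact Ideal.Quotient.eq_zero_iff_mem.1 this
  have hrange : E ∈ φ.range := by
    refine ⟨Matrix.of fun i j => (Ideal.Quotient.mk_surjective (E i j)).choose, ?_⟩
    ext i j
    exact (Ideal.Quotient.mk_surjective (E i j)).choose_spec
  obtain ⟨E', hE'idem, hE'⟩ := exists_isIdempotentElem_eq_of_ker_isNilpotent φ hker E hrange hEidem
  have hE'E : E'.map (Ideal.Quotient.mk I) = E := hE'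
  have hE'mul : ∀ v, E'.mulVec (E'.mulVec v) = E'.mulVec v := by
    intro v
    rw [Matrix.mulVec_mulVec, hE'idem.eq]
  -- the lifted module
  let P : Submodule R (Fin n → R) := LinearMap.range (Matrix.toLin' E')
  have hPmem : ∀ w : Fin n → R, w ∈ P ↔ E'.mulVec w = w := by
    intro w
    constructor
    · rintro ⟨v, rfl⟩
      rw [Matrix.toLin'_apply, hE'mul]
    · intro h
      exact ⟨w, by rw [Matrix.toLin'_apply, h]⟩
  let red : (Fin n → R) →ₗ[R] (Fin n → R ⧸ I) :=
    (Ideal.Quotient.mkₐ R I).toLinearMap.compLeft (Fin n)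
  have hred : ∀ v i, red v i = Ideal.Quotient.mk I (v i) := fun v i => rfl
  have hredE : ∀ v, red (E'.mulVec v) = E.mulVec (red v) := by
    intro v
    ext i
    rw [hred, RingHom.map_mulVec, hE'E]
    rfl
  have hredsurj : Function.Surjective red := by
    intro v
    refine ⟨fun i => (Ideal.Quotient.mk_surjective (v i)).choose, ?_⟩
    ext i
    exact (Ideal.Quotient.mk_surjective (v i)).choose_spec
  let π : P →ₗ[R] N := (q.restrictScalars R) ∘ₗ red ∘ₗ P.subtype
  have hπ : ∀ w : P, π w = q (red w.1) := fun w => rfl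
  have hπsurj : Function.Surjective π := by
    intro y
    obtain ⟨v, hv⟩ := hredsurj (j y)
    refine ⟨⟨E'.mulVec v, (hPmem _).2 (hE'mul v)⟩, ?_⟩
    rw [hπ, hredE, hv, hElin, hqj', hqj']
  have hπker : LinearMap.ker π = I • ⊤ := by
    apply le_antisymm
    · intro w hw
      rw [LinearMap.mem_ker, hπ] at hw
      have hw1 : E'.mulVec w.1 = w.1 := (hPmem _).1 w.2
      have h0 : red w.1 = 0 := by
        rw [← hw1, hredE, hElin, hw, map_zero]
      have hwI : ∀ k, w.1 k ∈ I := fun k =>
        Ideal.Quotient.eq_zero_iff_mem.1 ((hred w.1 k).symm.trans (congrFun h0 k))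
      have hsum : w = ∑ k, w.1 k • (⟨E'.mulVec (Pi.single k 1),
          (hPmem _).2 (hE'mul _)⟩ : P) := by
        apply Subtype.ext
        rw [Submodule.coe_sum]
        simp only [Submodule.coe_smul]
        conv_lhs => rw [← hw1, pi_eq_sum_univ' w.1]
        rw [Matrix.mulVec_sum]
        refine Finset.sum_congr rfl fun k _ => ?_
        rw [Matrix.mulVec_smul]
      rw [hsum]
      exact Submodule.sum_mem _ fun k _ => Submodule.smul_mem_smul (hwI k) Submodule.mem_top
    · rw [Submodule.smul_le]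
      intro a ha w _
      rw [LinearMap.mem_ker, map_smul]
      change Ideal.Quotient.mk I a • π w = 0
      rw [Ideal.Quotient.eq_zero_iff_mem.2 ha, zero_smul]
  haveI : Module.Finite R P := Module.Finite.range _
  haveI : Module.Projective R P := by
    refine Module.Projective.of_split P.subtype (Matrix.toLin' E').rangeRestrict ?_
    ext w : 1
    apply Subtype.ext
    change E'.mulVec w.1 = w.1
    exact (hPmem _).1 w.2
  refine ⟨P, inferInstance, inferInstance, inferInstance, inferInstance, ?_⟩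
  let e0 : (R ⧸ I) ⊗[R] P ≃ₗ[R] N :=
    (quotTensorEquivQuotSMul P I).trans
      ((Submodule.quotEquivOfEq _ _ hπker.symm).trans (π.quotKerEquivOfSurjective hπsurj))
  exact ⟨e0.extendScalarsOfSurjective Ideal.Quotient.mk_surjective⟩

open CommRing in
theorem bijective_quot (hI : IsNilpotent I) :
    Function.Bijective (CommRing.Pic.mapAlgebra R (R ⧸ I)) := by
  constructor
  · rw [injective_iff_map_eq_one]
    intro M hM
    rw [Pic.mapAlgebra_apply, Pic.mk_eq_one_iff] at hM
    obtain ⟨e⟩ := hM
    obtain ⟨e'⟩ := nonempty_equiv_of_quot I hI M e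
    rw [← Pic.mk_eq_self (M := M), Pic.mk_eq_one_iff]
    exact ⟨e'⟩
  · intro N
    obtain ⟨P, _, _, hPf, hPp, ⟨eP⟩⟩ := exists_lift_projective I hI N
    obtain ⟨P', _, _, hP'f, hP'p, ⟨eP'⟩⟩ :=
      exists_lift_projective I hI (Module.Dual (R ⧸ I) N)
    have eT : (R ⧸ I) ⊗[R] (P' ⊗[R] P) ≃ₗ[R ⧸ I] (R ⧸ I) :=
      (AlgebraTensorModule.distribBaseChange R (R ⧸ I) P' P) ≪≫ₗ
        (TensorProduct.congr eP' eP) ≪≫ₗ Module.Invertible.linearEquiv (R ⧸ I) N
    obtain ⟨eT'⟩ := nonempty_equiv_of_quot I hI (P' ⊗[R] P) eT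
    haveI : Module.Invertible R P := Module.Invertible.right eT'
    refine ⟨Pic.mk R P, ?_⟩
    rw [Pic.mapAlgebra_apply, Pic.mk_eq_iff]
    exact ⟨(AlgebraTensorModule.congr (.refl _ _) (Pic.mk.linearEquiv R P)) ≪≫ₗ eP⟩

end aux


/-- Let f : A' → A be a surjective ring homomorphism whose kernel is a nilpotent ideal. Then the induced
homomorphism of Picard groups Pic(A') → Pic(A), base change of invertible modules along f, is
bijective. -/
theorem result {A' A : Type u} [CommRing A'] [CommRing A]
    (f : A' →+* A) (hf : Function.Surjective f) (hker : IsNilpotent (RingHom.ker f)) :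
    Function.Bijective (CommRing.Pic.mapRingHom f) := by
  let e : (A' ⧸ RingHom.ker f) ≃+* A := RingHom.quotientKerEquivOfSurjective hf
  have hcomp : f = (e : (A' ⧸ RingHom.ker f) →+* A).comp (Ideal.Quotient.mk (RingHom.ker f)) := by
    ext x; rfl
  rw [hcomp, ← CommRing.Pic.mapRingHom_comp_mapRingHom]
  have h1 : Function.Bijective (CommRing.Pic.mapRingHom (Ideal.Quotient.mk (RingHom.ker f))) := by
    have := bijective_quot (RingHom.ker f) hker
    rwa [← CommRing.Pic.mapRingHom_algebraMap] at this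
  have h2 : Function.Bijective (CommRing.Pic.mapRingHom (e : (A' ⧸ RingHom.ker f) →+* A)) := by
    have hl : (CommRing.Pic.mapRingHom (e.symm : A →+* (A' ⧸ RingHom.ker f))).comp
        (CommRing.Pic.mapRingHom (e : (A' ⧸ RingHom.ker f) →+* A)) = MonoidHom.id _ := by
      rw [CommRing.Pic.mapRingHom_comp_mapRingHom]
      have : (e.symm : A →+* (A' ⧸ RingHom.ker f)).comp (e : (A' ⧸ RingHom.ker f) →+* A) =
          RingHom.id _ := by ext x; simp
      rw [this, CommRing.Pic.mapRingHom_id]
    have hr : (CommRing.Pic.mapRingHom (e : (A' ⧸ RingHom.ker f) →+* A)).comp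
        (CommRing.Pic.mapRingHom (e.symm : A →+* (A' ⧸ RingHom.ker f))) = MonoidHom.id _ := by
      rw [CommRing.Pic.mapRingHom_comp_mapRingHom]
      have : (e : (A' ⧸ RingHom.ker f) →+* A).comp (e.symm : A →+* (A' ⧸ RingHom.ker f)) =
          RingHom.id _ := by ext x; simp
      rw [this, CommRing.Pic.mapRingHom_id]
    refine Function.bijective_iff_has_inverse.2
      ⟨CommRing.Pic.mapRingHom (e.symm : A →+* (A' ⧸ RingHom.ker f)), ?_, ?_⟩
    · intro x; exact DFunLike.congr_fun hl x
    · intro x; exact DFunLike.congr_fun hr x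
  rw [MonoidHom.coe_comp]
  exact h2.comp h1

end Groth.Agent.S15353
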