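import Groth.Statements.S15354
-- import your own Groth.Agent.* helpers here
import Mathlib

set_option autoImplicit false
universe u
open CategoryTheory CategoryTheory.Limits AlgebraicGeometry
open Mor

namespace Groth.Agent.S15354

/-- A morphism `Spec A ⟶ Y` from a local scheme lands in every open containing the image of the closed point,
and two such morphisms agreeing after restriction along an injective ring map `A → K` are equal as soon as they
send the closed point to the same point. -/
lemma eq_of_local {Y : Scheme.{u}} (A K : CommRingCat.{u}) [IsLocalRing A] (j : A ⟶ K)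
    (hj : Function.Injective j.hom) (ξ η : Spec A ⟶ Y)
    (hcp : ξ (IsLocalRing.closedPoint A) = η (IsLocalRing.closedPoint A))
    (hK : Spec.map j ≫ ξ = Spec.map j ≫ η) : ξ = η := by
  obtain ⟨_, ⟨V, hV, rfl⟩, hyV, -⟩ := Y.isBasis_affineOpens.exists_subset_of_mem_open
    (Set.mem_univ (ξ (IsLocalRing.closedPoint A))) isOpen_univ
  change Y.Opens at V
  have hξ : ξ ⁻¹ᵁ V = ⊤ := Scheme.preimage_eq_top_of_closedPoint_mem ξ hyV
  have hη : η ⁻¹ᵁ V = ⊤ := Scheme.preimage_eq_top_of_closedPoint_mem η (hcp ▸ hyV)
  have hξr : Set.range ξ ⊆ Set.range V.ι := by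
    rintro _ ⟨x, rfl⟩
    have : x ∈ ξ ⁻¹ᵁ V := by rw [hξ]; trivial
    simpa using this
  have hηr : Set.range η ⊆ Set.range V.ι := by
    rintro _ ⟨x, rfl⟩
    have : x ∈ η ⁻¹ᵁ V := by rw [hη]; trivial
    simpa using this
  let ξ' : Spec A ⟶ V := IsOpenImmersion.lift V.ι ξ hξr
  let η' : Spec A ⟶ V := IsOpenImmersion.lift V.ι η hηr
  have eξ : ξ' ≫ V.ι = ξ := IsOpenImmersion.lift_fac _ _ _
  have eη : η' ≫ V.ι = η := IsOpenImmersion.lift_fac _ _ _
  rw [← eξ, ← eη]
  congr 1
  haveI : IsAffine (V : Scheme.{u}) := hV
  apply ext_of_isAffine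
  have hK' : Spec.map j ≫ ξ' = Spec.map j ≫ η' := by
    rw [← cancel_mono V.ι, Category.assoc, Category.assoc, eξ, eη, hK]
  have h1 := congrArg Scheme.Hom.appTop hK'
  rw [Scheme.Hom.comp_appTop, Scheme.Hom.comp_appTop] at h1
  -- (Spec.map j).appTop is injective
  have hinj : Function.Injective (Spec.map j).appTop.hom := by
    have hnat := Scheme.ΓSpecIso_naturality j
    have : (Spec.map j).appTop = (Scheme.ΓSpecIso A).hom ≫ j ≫ (Scheme.ΓSpecIso K).inv := by
      rw [← Category.assoc, ← hnat, Category.assoc, Iso.hom_inv_id, Category.comp_id]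
    rw [this]
    simp only [CommRingCat.hom_comp, RingHom.coe_comp]
    exact ((ConcreteCategory.bijective_of_isIso (Scheme.ΓSpecIso K).inv).injective.comp hj).comp
      (ConcreteCategory.bijective_of_isIso (Scheme.ΓSpecIso A).hom).injective
  ext x
  apply hinj
  have := congrArg (fun φ => φ.hom x) h1
  simpa using this

/-- Let f : Y ⟶ X be a morphism of schemes, A a valuation ring with fraction field K and residue field
k, and ξ, η : Spec A ⟶ Y two A-points of Y over the same A-point of X. If ξ and η restrict to the
same K-point and to the same k-point of Y, then ξ = η. (The published statement is an equivalence,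
for algebraic spaces locally of finite presentation over a Noetherian scheme, between local
separatedness of f and conditions (a), (b); this row is the necessity of (a) in the case of schemes,
where no hypothesis on f is needed.) -/
theorem result {X Y : Scheme.{u}} (f : Y ⟶ X)
    (A : Type u) [CommRing A] [IsDomain A] [ValuationRing A] (K : Type u) [Field K] [Algebra A K]
    [IsFractionRing A K] (ξ η : Spec (CommRingCat.of A) ⟶ Y) (hf : ξ ≫ f = η ≫ f)
    (hK : Spec.map (CommRingCat.ofHom (algebraMap A K)) ≫ ξ = Spec.map (CommRingCat.ofHom (algebraMap A K)) ≫ η)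
    (hk : Spec.map (CommRingCat.ofHom (IsLocalRing.residue A)) ≫ ξ =
      Spec.map (CommRingCat.ofHom (IsLocalRing.residue A)) ≫ η) :
    ξ = η := by
  have hloc : IsLocalRing A := inferInstance
  refine eq_of_local (CommRingCat.of A) (CommRingCat.of K) (CommRingCat.ofHom (algebraMap A K))
    (IsFractionRing.injective A K) ξ η ?_ hK
  -- the closed points agree, by evaluating `hk` at the unique point of `Spec k`
  let x₀ : ↥(Spec (CommRingCat.of (IsLocalRing.ResidueField A))) :=
    IsLocalRing.closedPoint (IsLocalRing.ResidueField A)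
  have hpt : (Spec.map (CommRingCat.ofHom (IsLocalRing.residue A)) ≫ ξ) x₀ =
      (Spec.map (CommRingCat.ofHom (IsLocalRing.residue A)) ≫ η) x₀ := by rw [hk]
  rw [Scheme.Hom.comp_apply, Scheme.Hom.comp_apply] at hpt
  have hc : (Spec.map (CommRingCat.ofHom (IsLocalRing.residue A))) x₀ =
      (IsLocalRing.closedPoint A : ↥(Spec (CommRingCat.of A))) :=
    IsLocalRing.PrimeSpectrum.comap_residue A _
  rw [hc] at hpt
  exact hpt

end Groth.Agent.S15354
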