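import Groth.Statements.S15355
-- import your own Groth.Agent.* helpers here
import Mathlib

set_option autoImplicit false
universe u
open CategoryTheory CategoryTheory.Limits AlgebraicGeometry
open Mor

namespace Groth.Agent.S15355

/-- Let f : Y ⟶ X be a morphism of schemes, A an integral domain and ξ, η : Spec A ⟶ Y two A-points of Y
over the same A-point of X. If ξ and η induce the same κ(p)-point of Y at every point p of some
dense subset of Spec A, then ξ and η agree on a nonempty open subscheme of Spec A. (The published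
statement is an equivalence, for algebraic spaces locally of finite presentation over a Noetherian
scheme, between local separatedness of f and conditions (a), (b); this row is the necessity of (b)
in the case of schemes, where no hypothesis on f is needed.) -/
theorem result {X Y : Scheme.{u}} (f : Y ⟶ X)
    (A : Type u) [CommRing A] [IsDomain A] (ξ η : Spec (CommRingCat.of A) ⟶ Y) (hf : ξ ≫ f = η ≫ f)
    (D : Set ↥(Spec (CommRingCat.of A))) (hD : Dense D)
    (hpt : ∀ p ∈ D, (Spec (CommRingCat.of A)).fromSpecResidueField p ≫ ξ =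
      (Spec (CommRingCat.of A)).fromSpecResidueField p ≫ η) :
    ∃ U : (Spec (CommRingCat.of A)).Opens, (U : Set ↥(Spec (CommRingCat.of A))).Nonempty ∧ U.ι ≫ ξ = U.ι ≫ η := by
  classical
  -- pick a point of D
  haveI : Nonempty ↥(Spec (CommRingCat.of A)) := inferInstance
  obtain ⟨p, hp⟩ := hD.nonempty
  have hy : ξ p = η p := by
    have h1 := hpt p hp
    obtain ⟨s⟩ : Nonempty ↥(Spec ((Spec (CommRingCat.of A)).residueField p)) := inferInstance
    have h2 := congrArg (fun φ => φ s) h1
    simp only [Scheme.Hom.comp_apply, Scheme.fromSpecResidueField_apply] at h2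
    exact h2
  obtain ⟨_, ⟨V, hV, rfl⟩, hyV, -⟩ := Y.isBasis_affineOpens.exists_subset_of_mem_open
    (Set.mem_univ (ξ p)) isOpen_univ
  change Y.Opens at V
  let U : (Spec (CommRingCat.of A)).Opens := ξ ⁻¹ᵁ V ⊓ η ⁻¹ᵁ V
  have hpU : p ∈ U := ⟨hyV, by show η p ∈ V; rw [← hy]; exact hyV⟩
  refine ⟨U, ⟨p, hpU⟩, ?_⟩
  have hξr : Set.range (U.ι ≫ ξ) ⊆ Set.range V.ι := by
    rintro _ ⟨x, rfl⟩
    have : (U.ι x) ∈ ξ ⁻¹ᵁ V := x.2.1
    simpa using this
  have hηr : Set.range (U.ι ≫ η) ⊆ Set.range V.ι := by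
    rintro _ ⟨x, rfl⟩
    have : (U.ι x) ∈ η ⁻¹ᵁ V := x.2.2
    simpa using this
  let ξ' : (U : Scheme.{u}) ⟶ V := IsOpenImmersion.lift V.ι (U.ι ≫ ξ) hξr
  let η' : (U : Scheme.{u}) ⟶ V := IsOpenImmersion.lift V.ι (U.ι ≫ η) hηr
  have eξ : ξ' ≫ V.ι = U.ι ≫ ξ := IsOpenImmersion.lift_fac _ _ _
  have eη : η' ≫ V.ι = U.ι ≫ η := IsOpenImmersion.lift_fac _ _ _
  rw [← eξ, ← eη]
  congr 1
  haveI : IsAffine (V : Scheme.{u}) := hV
  refine ext_of_fromSpecResidueField_eq ξ' η' (terminal.from (V : Scheme.{u})) (U.ι ⁻¹' D)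
    (hD.preimage U.ι.isOpenEmbedding.isOpenMap) ?_ (terminal.hom_ext _ _)
  intro x hx
  rw [← cancel_mono V.ι, Category.assoc, Category.assoc, eξ, eη,
    ← Scheme.Hom.SpecMap_residueFieldMap_fromSpecResidueField_assoc,
    ← Scheme.Hom.SpecMap_residueFieldMap_fromSpecResidueField_assoc, hpt _ hx]

end Groth.Agent.S15355
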