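import Groth.Statements.S15361
import Mathlib

set_option autoImplicit false
open GalCoh

namespace Groth.Agent.S15361


section aux
variable {p : ℕ} [Fact p.Prime]
open Matrix

local notation "M2" => Matrix (Fin 2) (Fin 2) (ZMod p)
local notation "G2" => GL (Fin 2) (ZMod p)

lemma mk_eq {a b c d a' b' c' d' : ZMod p} (h1 : a = a') (h2 : b = b') (h3 : c = c')
    (h4 : d = d') : (!![a, b; c, d] : M2) = !![a', b'; c', d'] := by
  subst h1 h2 h3 h4; rfl

/-- upper unipotent -/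
def Up (x : ZMod p) : G2 :=
  ⟨!![1, x; 0, 1], !![1, -x; 0, 1],
    by rw [Matrix.mul_fin_two, Matrix.one_fin_two]; exact mk_eq (by ring) (by ring) (by ring) (by ring),
    by rw [Matrix.mul_fin_two, Matrix.one_fin_two]; exact mk_eq (by ring) (by ring) (by ring) (by ring)⟩

/-- lower unipotent -/
def Um (x : ZMod p) : G2 :=
  ⟨!![1, 0; x, 1], !![1, 0; -x, 1],
    by rw [Matrix.mul_fin_two, Matrix.one_fin_two]; exact mk_eq (by ring) (by ring) (by ring) (by ring),
    by rw [Matrix.mul_fin_two, Matrix.one_fin_two]; exact mk_eq (by ring) (by ring) (by ring) (by ring)⟩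

lemma Up_val (x : ZMod p) : ((Up x : G2) : M2) = !![1, x; 0, 1] := rfl
lemma Um_val (x : ZMod p) : ((Um x : G2) : M2) = !![1, 0; x, 1] := rfl

lemma Up_zero : (Up (0 : ZMod p)) = 1 :=
  Units.ext (by rw [Up_val, Units.val_one, Matrix.one_fin_two])
lemma Um_zero : (Um (0 : ZMod p)) = 1 :=
  Units.ext (by rw [Um_val, Units.val_one, Matrix.one_fin_two])

lemma Up_mul (x y : ZMod p) : Up x * Up y = Up (x + y) := by
  apply Units.ext
  rw [Units.val_mul, Up_val, Up_val, Up_val, Matrix.mul_fin_two]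
  exact mk_eq (by ring) (by ring) (by ring) (by ring)
lemma Um_mul (x y : ZMod p) : Um x * Um y = Um (x + y) := by
  apply Units.ext
  rw [Units.val_mul, Um_val, Um_val, Um_val, Matrix.mul_fin_two]
  exact mk_eq (by ring) (by ring) (by ring) (by ring)

lemma Up_pow (x : ZMod p) (n : ℕ) : Up x ^ n = Up ((n : ZMod p) * x) := by
  induction n with
  | zero => rw [pow_zero, Nat.cast_zero, zero_mul, Up_zero]
  | succ n ih =>
    rw [pow_succ, ih, Up_mul]
    congr 1
    push_cast; ring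
lemma Um_pow (x : ZMod p) (n : ℕ) : Um x ^ n = Um ((n : ZMod p) * x) := by
  induction n with
  | zero => rw [pow_zero, Nat.cast_zero, zero_mul, Um_zero]
  | succ n ih =>
    rw [pow_succ, ih, Um_mul]
    congr 1
    push_cast; ring

lemma Up_all (H : Subgroup G2) (μ : ZMod p) (hμ : μ ≠ 0) (h : Up μ ∈ H) (x : ZMod p) :
    Up x ∈ H := by
  haveI : NeZero p := ⟨(Fact.out : p.Prime).ne_zero⟩
  have : Up x = Up μ ^ (x / μ).val := by
    rw [Up_pow, ZMod.natCast_zmod_val, div_mul_cancel₀ _ hμ]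
  rw [this]; exact H.pow_mem h _
lemma Um_all (H : Subgroup G2) (μ : ZMod p) (hμ : μ ≠ 0) (h : Um μ ∈ H) (x : ZMod p) :
    Um x ∈ H := by
  haveI : NeZero p := ⟨(Fact.out : p.Prime).ne_zero⟩
  have : Um x = Um μ ^ (x / μ).val := by
    rw [Um_pow, ZMod.natCast_zmod_val, div_mul_cancel₀ _ hμ]
  rw [this]; exact H.pow_mem h _

lemma det_eq_one_of_pow (T : G2) (hTp : T ^ p = 1) : (T : M2).det = 1 := by
  have hdet : (T : M2).det ^ p = 1 := by
    rw [← Matrix.det_pow, ← Units.val_pow_eq_pow_val, hTp, Units.val_one, Matrix.det_one]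
  rwa [ZMod.pow_card] at hdet

lemma eq_Up_of_fix (T : G2) (hT1 : T ≠ 1) (hTp : T ^ p = 1)
    (hfix : (T : M2) *ᵥ ![1, 0] = ![1, 0]) : ∃ μ : ZMod p, μ ≠ 0 ∧ T = Up μ := by
  have h00 : (T : M2) 0 0 = 1 := by
    have := congrFun hfix 0
    simpa [Matrix.mulVec, dotProduct, Fin.sum_univ_two] using this
  have h10 : (T : M2) 1 0 = 0 := by
    have := congrFun hfix 1
    simpa [Matrix.mulVec, dotProduct, Fin.sum_univ_two] using this
  have hdet := det_eq_one_of_pow T hTp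
  rw [Matrix.det_fin_two, h00, h10] at hdet
  have h11 : (T : M2) 1 1 = 1 := by simpa using hdet
  refine ⟨(T : M2) 0 1, ?_, ?_⟩
  · intro h01
    apply hT1
    apply Units.ext
    calc (T : M2) = !![(T : M2) 0 0, (T : M2) 0 1; (T : M2) 1 0, (T : M2) 1 1] :=
          Matrix.eta_fin_two _
      _ = !![1, 0; 0, 1] := mk_eq h00 h01 h10 h11
      _ = 1 := Matrix.one_fin_two.symm
  · apply Units.ext
    calc (T : M2) = !![(T : M2) 0 0, (T : M2) 0 1; (T : M2) 1 0, (T : M2) 1 1] :=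
          Matrix.eta_fin_two _
      _ = !![1, (T : M2) 0 1; 0, 1] := mk_eq h00 rfl h10 h11

lemma eq_Um_of_fix (T : G2) (hT1 : T ≠ 1) (hTp : T ^ p = 1)
    (hfix : (T : M2) *ᵥ ![0, 1] = ![0, 1]) : ∃ μ : ZMod p, μ ≠ 0 ∧ T = Um μ := by
  have h01 : (T : M2) 0 1 = 0 := by
    have := congrFun hfix 0
    simpa [Matrix.mulVec, dotProduct, Fin.sum_univ_two] using this
  have h11 : (T : M2) 1 1 = 1 := by
    have := congrFun hfix 1
    simpa [Matrix.mulVec, dotProduct, Fin.sum_univ_two] using this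
  have hdet := det_eq_one_of_pow T hTp
  rw [Matrix.det_fin_two, h01, h11] at hdet
  have h00 : (T : M2) 0 0 = 1 := by simpa using hdet
  refine ⟨(T : M2) 1 0, ?_, ?_⟩
  · intro h10
    apply hT1
    apply Units.ext
    calc (T : M2) = !![(T : M2) 0 0, (T : M2) 0 1; (T : M2) 1 0, (T : M2) 1 1] :=
          Matrix.eta_fin_two _
      _ = !![1, 0; 0, 1] := mk_eq h00 h01 h10 h11
      _ = 1 := Matrix.one_fin_two.symm
  · apply Units.ext
    calc (T : M2) = !![(T : M2) 0 0, (T : M2) 0 1; (T : M2) 1 0, (T : M2) 1 1] :=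
          Matrix.eta_fin_two _
      _ = !![1, 0; (T : M2) 1 0, 1] := mk_eq h00 h01 rfl h11

lemma mem_of_det_one (H : Subgroup G2) (hU : ∀ x, Up x ∈ H) (hL : ∀ x, Um x ∈ H)
    (g : G2) (hdet : (g : M2).det = 1) : g ∈ H := by
  have main : ∀ g : G2, (g : M2).det = 1 → (g : M2) 1 0 ≠ 0 → g ∈ H := by
    intro g hdet hc
    rw [Matrix.det_fin_two] at hdet
    obtain ⟨x, hx⟩ : ∃ x, x * (g : M2) 1 0 = (g : M2) 0 0 - 1 := ⟨_, div_mul_cancel₀ _ hc⟩
    obtain ⟨y, hy⟩ : ∃ y, y * (g : M2) 1 0 = (g : M2) 1 1 - 1 := ⟨_, div_mul_cancel₀ _ hc⟩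
    have hg : g = Up x * Um ((g : M2) 1 0) * Up y := by
      apply Units.ext
      rw [Units.val_mul, Units.val_mul, Up_val, Um_val, Up_val, Matrix.mul_fin_two,
        Matrix.mul_fin_two]
      refine (Matrix.eta_fin_two _).trans (mk_eq ?_ ?_ ?_ ?_)
      · linear_combination -hx
      · apply mul_left_cancel₀ hc
        linear_combination (-(1 + x * (g : M2) 1 0)) * hy - (g : M2) 1 1 * hx - hdet
      · ring
      · linear_combination -hy
    rw [hg]; exact H.mul_mem (H.mul_mem (hU _) (hL _)) (hU _)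
  by_cases hc : (g : M2) 1 0 = 0
  · have hg' : Um 1 * g ∈ H := by
      have h10 : ((Um 1 * g : G2) : M2) 1 0 = (g : M2) 0 0 + (g : M2) 1 0 := by
        rw [Units.val_mul, Um_val, Matrix.mul_apply, Fin.sum_univ_two]
        simp
      apply main
      · rw [Units.val_mul, Matrix.det_mul, hdet, Um_val, Matrix.det_fin_two]
        simp
      · rw [h10, hc, add_zero]
        intro h00
        rw [Matrix.det_fin_two, hc, h00] at hdet
        simp at hdet
    have : g = (Um 1)⁻¹ * (Um 1 * g) := by group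
    rw [this]; exact H.mul_mem (H.inv_mem (hL 1)) hg'
  · exact main g hdet hc

lemma CH2 (x : M2) : x * x = x.trace • x - x.det • (1 : M2) := by
  rw [Matrix.trace_fin_two, Matrix.det_fin_two]
  conv_lhs => rw [Matrix.eta_fin_two x]
  rw [Matrix.mul_fin_two]
  have e : (x 0 0 + x 1 1) • x - (x 0 0 * x 1 1 - x 0 1 * x 1 0) • (1 : M2) =
      !![(x 0 0 + x 1 1) * x 0 0 - (x 0 0 * x 1 1 - x 0 1 * x 1 0),
         (x 0 0 + x 1 1) * x 0 1;
         (x 0 0 + x 1 1) * x 1 0,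
         (x 0 0 + x 1 1) * x 1 1 - (x 0 0 * x 1 1 - x 0 1 * x 1 0)] := by
    ext i j
    fin_cases i <;> fin_cases j <;> simp
  rw [e]
  exact mk_eq (by ring) (by ring) (by ring) (by ring)

lemma E_facts (C : Subgroup G2) (E : Subring M2) (hEf : IsField E)
    (hEC : (E : Set M2) = insert 0 ((fun g : G2 => (g : M2)) '' (C : Set G2))) :
    (∀ x : M2, x ∈ E → x ≠ 0 → ∃ g ∈ C, (g : M2) = x) ∧ (∀ g ∈ C, (g : M2) ∈ E) ∧
      (∀ x y : M2, x ∈ E → y ∈ E → x * y = y * x) := by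
  refine ⟨?_, ?_, ?_⟩
  · intro x hx hx0
    have : x ∈ (E : Set M2) := hx
    rw [hEC] at this
    rcases this with h | ⟨g, hg, rfl⟩
    · exact absurd h hx0
    · exact ⟨g, hg, rfl⟩
  · intro g hg
    have : (g : M2) ∈ (E : Set M2) := by
      rw [hEC]; exact Set.mem_insert_of_mem _ ⟨g, hg, rfl⟩
    exact this
  · intro x y hx hy
    exact congrArg Subtype.val (hEf.mul_comm ⟨x, hx⟩ ⟨y, hy⟩)

lemma root_sum (C : Subgroup G2) (E : Subring M2)
    (hEC1 : ∀ x : M2, x ∈ E → x ≠ 0 → ∃ g ∈ C, (g : M2) = x)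
    (hEcomm : ∀ x y : M2, x ∈ E → y ∈ E → x * y = y * x)
    (t : ZMod p) (x y : M2) (hx : x ∈ E) (hy : y ∈ E) (hne : x ≠ y)
    (hx2 : x * x = t • x - 1) (hy2 : y * y = t • y - 1) : x + y = t • (1 : M2) := by
  obtain ⟨g, -, hg⟩ := hEC1 (x - y) (E.sub_mem hx hy) (sub_ne_zero.2 hne)
  have hxy := hEcomm x y hx hy
  have h1 : (x - y) * (x + y - t • (1 : M2)) = (x * x - t • x) - (y * y - t • y) + (x * y - y * x) := by
    simp only [sub_mul, mul_sub, mul_add, mul_smul_comm, mul_one, smul_sub]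
    abel
  rw [hx2, hy2, hxy] at h1
  have h2 : (x - y) * (x + y - t • (1 : M2)) = 0 := by
    rw [h1]; abel
  rw [← hg, Units.mul_right_eq_zero] at h2
  exact sub_eq_zero.1 h2

lemma det_surj (C : Subgroup G2) (E : Subring M2) (hEf : IsField E) (hEcard : Nat.card E = p ^ 2)
    (hEC : (E : Set M2) = insert 0 ((fun g : G2 => (g : M2)) '' (C : Set G2)))
    (δ : (ZMod p)ˣ) : ∃ c ∈ C, Matrix.GeneralLinearGroup.det c = δ := by
  classical
  haveI : NeZero p := ⟨(Fact.out : p.Prime).ne_zero⟩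
  obtain ⟨hEC1, hEC2, hEcomm⟩ := E_facts C E hEf hEC
  have hp2 : 2 ≤ p := (Fact.out : p.Prime).two_le
  have hcardC : Nat.card C + 1 = p ^ 2 := by
    have h1 : Nat.card E = (E : Set M2).ncard := rfl
    have h2 : Nat.card C = (C : Set G2).ncard := rfl
    rw [← hEcard, h1, h2, hEC, Set.ncard_insert_of_notMem, Set.ncard_image_of_injective _ (fun a b h => Units.ext h)]
    rintro ⟨g, -, hg⟩
    exact g.ne_zero hg
  obtain ⟨d, hd⟩ : ∃ d : C →* (ZMod p)ˣ, ∀ c : C, ((d c : (ZMod p)ˣ) : ZMod p) =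
      ((c : G2) : M2).det := ⟨Matrix.GeneralLinearGroup.det.comp C.subtype, fun c => rfl⟩
  have hidx : Nat.card d.ker * Nat.card d.range = Nat.card C := by
    rw [← Subgroup.index_ker]; exact Subgroup.card_mul_index _
  have hrange : Nat.card d.range ∣ p - 1 := by
    have := Subgroup.card_subgroup_dvd_card d.range
    rwa [Nat.card_eq_fintype_card (α := (ZMod p)ˣ), ZMod.card_units] at this
  have hdet : ∀ k : d.ker, ((((k : C) : G2) : M2)).det = 1 := by
    intro k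
    have h := (MonoidHom.mem_ker).1 k.2
    rw [← hd, h, Units.val_one]
  have hker : Nat.card d.ker ≤ 2 * p := by
    haveI : Fintype d.ker := Fintype.ofFinite _
    rw [Nat.card_eq_fintype_card, ← Finset.card_univ]
    obtain ⟨τ, hτ⟩ : ∃ τ : d.ker → ZMod p, ∀ k, τ k = Matrix.trace (((k : C) : G2) : M2) :=
      ⟨_, fun _ => rfl⟩
    have hfibre : ∀ t ∈ (Finset.univ : Finset d.ker).image τ,
        ((Finset.univ : Finset d.ker).filter (fun k => τ k = t)).card ≤ 2 := by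
      intro t _
      by_contra hlt
      push Not at hlt
      obtain ⟨k₁, hk₁, k₂, hk₂, k₃, hk₃, h12, h13, h23⟩ := Finset.two_lt_card.1 hlt
      simp only [Finset.mem_filter, Finset.mem_univ, true_and] at hk₁ hk₂ hk₃
      have hsq : ∀ k : d.ker, τ k = t → (((k : C) : G2) : M2) * (((k : C) : G2) : M2) =
          t • (((k : C) : G2) : M2) - 1 := by
        intro k hk
        rw [CH2, hdet k, one_smul, ← hτ, hk]
      have hmem : ∀ k : d.ker, (((k : C) : G2) : M2) ∈ E := fun k => hEC2 _ (k : C).2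
      have hneq : ∀ k k' : d.ker, k ≠ k' → (((k : C) : G2) : M2) ≠ (((k' : C) : G2) : M2) :=
        fun k k' hkk h => hkk (Subtype.ext (Subtype.ext (Units.ext h)))
      have e12 := root_sum C E hEC1 hEcomm t _ _ (hmem k₁) (hmem k₂) (hneq _ _ h12)
        (hsq k₁ hk₁) (hsq k₂ hk₂)
      have e13 := root_sum C E hEC1 hEcomm t _ _ (hmem k₁) (hmem k₃) (hneq _ _ h13)
        (hsq k₁ hk₁) (hsq k₃ hk₃)
      exact hneq _ _ h23 (add_left_cancel (e12.trans e13.symm))
    calc (Finset.univ : Finset d.ker).card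
        ≤ 2 * ((Finset.univ : Finset d.ker).image τ).card :=
          Finset.card_le_mul_card_image _ 2 hfibre
      _ ≤ 2 * Fintype.card (ZMod p) := Nat.mul_le_mul_left _ (Finset.card_le_univ _)
      _ = 2 * p := by rw [ZMod.card]
  have hr : Nat.card d.range = p - 1 := by
    by_contra hne
    obtain ⟨m, hm⟩ := hrange
    obtain ⟨q, hq⟩ : ∃ q, p = q + 1 := ⟨p - 1, by omega⟩
    have hq' : p - 1 = q := by omega
    rw [hq'] at hm hne
    have hq1 : 1 ≤ q := by omega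
    have hm0 : m ≠ 0 := by
      rintro rfl
      rw [mul_zero] at hm; omega
    have hm1 : m ≠ 1 := by
      rintro rfl
      rw [mul_one] at hm; exact hne hm.symm
    have hm2 : 2 ≤ m := by omega
    have h1 : Nat.card d.ker * Nat.card d.range + 1 = (q + 1) ^ 2 := by
      rw [hidx, hcardC, hq]
    have h2 : Nat.card d.ker ≤ 2 * (q + 1) := by rw [← hq]; exact hker
    have h3 : 2 * Nat.card d.range ≤ q := by
      rw [hm, mul_comm]; exact Nat.mul_le_mul_left _ hm2
    nlinarith [Nat.mul_le_mul_right (Nat.card d.range) h2, Nat.mul_le_mul_left (q + 1) h3]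
  have htop : d.range = ⊤ := Subgroup.eq_top_of_card_eq _ (by
    rw [hr, Nat.card_eq_fintype_card, ZMod.card_units])
  have hδ : δ ∈ d.range := by rw [htop]; trivial
  obtain ⟨c, hc⟩ := hδ
  refine ⟨c.1, c.2, Units.ext ?_⟩
  rw [← hc, hd]
  rfl

lemma construct (E : Subring M2) (hEf : IsField E) (hcard : Nat.card E = p ^ 2) :
    ∃ (C : Subgroup G2) (E : Subring M2), C ≤ ⊤ ∧ IsField E ∧ Nat.card E = p ^ 2 ∧
      (E : Set M2) = insert 0 ((fun g : G2 => (g : M2)) '' (C : Set G2)) := by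
  have hinv : ∀ x : M2, x ∈ E → x ≠ 0 → ∃ y ∈ E, x * y = 1 ∧ y * x = 1 := by
    intro x hx hx0
    obtain ⟨y, hy⟩ := hEf.mul_inv_cancel (a := ⟨x, hx⟩) (fun h => hx0 (congrArg Subtype.val h))
    refine ⟨y, y.2, congrArg Subtype.val hy, ?_⟩
    have := hEf.mul_comm ⟨x, hx⟩ y
    rw [this] at hy
    exact congrArg Subtype.val hy
  refine ⟨{ carrier := {g | (g : M2) ∈ E}, mul_mem' := ?_, one_mem' := ?_, inv_mem' := ?_ }, E,
    le_top, hEf, hcard, ?_⟩
  · intro a b ha hb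
    show ((a * b : G2) : M2) ∈ E
    rw [Units.val_mul]; exact E.mul_mem ha hb
  · show ((1 : G2) : M2) ∈ E
    rw [Units.val_one]; exact E.one_mem
  · intro g hg
    show ((g⁻¹ : G2) : M2) ∈ E
    obtain ⟨y, hyE, hxy, -⟩ := hinv _ hg g.ne_zero
    have : ((g⁻¹ : G2) : M2) = y := by
      calc ((g⁻¹ : G2) : M2) = ((g⁻¹ : G2) : M2) * ((g : M2) * y) := by rw [hxy, mul_one]
        _ = y := by rw [← mul_assoc, Units.inv_mul, one_mul]
    rw [this]; exact hyE
  · ext x
    simp only [SetLike.mem_coe, Set.mem_insert_iff, Set.mem_image]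
    constructor
    · intro hx
      by_cases hx0 : x = 0
      · exact Or.inl hx0
      · obtain ⟨y, hyE, hxy, hyx⟩ := hinv x hx hx0
        exact Or.inr ⟨⟨x, y, hxy, hyx⟩, hx, rfl⟩
    · rintro (rfl | ⟨g, hg, rfl⟩)
      · exact E.zero_mem
      · exact hg

lemma forward : (∃ (C : Subgroup G2) (E : Subring M2), C ≤ (⊤ : Subgroup G2) ∧ IsField E ∧ Nat.card E = p ^ 2 ∧
      (E : Set M2) = insert 0 ((fun g : G2 => (g : M2)) '' (C : Set G2))) ∧
    p ∣ Nat.card (⊤ : Subgroup G2) := by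
  classical
  haveI : NeZero p := ⟨(Fact.out : p.Prime).ne_zero⟩
  refine ⟨?_, ?_⟩
  · obtain ⟨b⟩ : Nonempty (Module.Basis (Fin 2) (ZMod p) (GaloisField p 2)) :=
      ⟨Module.finBasisOfFinrankEq _ _ (GaloisField.finrank p two_ne_zero)⟩
    obtain ⟨f, hf⟩ : ∃ f : GaloisField p 2 →+* Matrix (Fin 2) (Fin 2) (ZMod p),
        Function.Injective f :=
      ⟨(Algebra.leftMulMatrix b).toRingHom, Algebra.leftMulMatrix_injective b⟩
    have e : GaloisField p 2 ≃+* f.range := RingEquiv.ofBijective f.rangeRestrict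
      ⟨fun x y h => hf (congrArg Subtype.val h), f.rangeRestrict_surjective⟩
    have hEf : IsField f.range := e.symm.toMulEquiv.isField (Field.toIsField _)
    have hcard : Nat.card f.range = p ^ 2 := by
      rw [← Nat.card_congr e.toEquiv]; exact GaloisField.card p 2 two_ne_zero
    exact construct f.range hEf hcard
  · rw [Subgroup.card_top, Matrix.card_GL_field, Fin.prod_univ_two, ZMod.card]
    apply Dvd.dvd.mul_left
    have : p ^ 2 - p ^ ((1 : Fin 2) : ℕ) = p * (p - 1) := by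
      simp [pow_two, Nat.mul_sub_one]
    rw [this]; exact dvd_mul_right _ _


lemma backward (H : Subgroup G2) (C : Subgroup G2) (E : Subring M2) (hCH : C ≤ H) (hEf : IsField E)
    (hEcard : Nat.card E = p ^ 2)
    (hEC : (E : Set M2) = insert 0 ((fun g : G2 => (g : M2)) '' (C : Set G2)))
    (hpH : p ∣ Nat.card H) : H = ⊤ := by
  classical
  haveI : NeZero p := ⟨(Fact.out : p.Prime).ne_zero⟩
  obtain ⟨hEC1, hEC2, hEcomm⟩ := E_facts C E hEf hEC
  obtain ⟨u, hu⟩ := exists_prime_orderOf_dvd_card' (G := H) p hpH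
  have hup : u ^ p = 1 := by
    have := pow_orderOf_eq_one u
    rwa [hu] at this
  have hu1 : u ≠ 1 := by
    rintro rfl
    rw [orderOf_one] at hu
    exact (Fact.out : p.Prime).one_lt.ne hu
  obtain ⟨T, hTdef⟩ : ∃ T : GL (Fin 2) (ZMod p), T = (u : GL (Fin 2) (ZMod p)) := ⟨_, rfl⟩
  have hTH : T ∈ H := hTdef ▸ u.2
  have hTp : T ^ p = 1 := by
    have := congrArg Subtype.val hup
    rw [hTdef]
    simpa using this
  have hT1 : T ≠ 1 := fun h => hu1 (Subtype.ext (hTdef ▸ h))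
  obtain ⟨v, hv0, hv⟩ : ∃ v : Fin 2 → ZMod p, v ≠ 0 ∧
      (T : Matrix (Fin 2) (Fin 2) (ZMod p)) *ᵥ v = v := by
    have hN : ((T : Matrix (Fin 2) (Fin 2) (ZMod p)) - 1) ^ p = 0 := by
      rw [sub_pow_char_of_commute (p := p) (Commute.one_right _), one_pow,
        ← Units.val_pow_eq_pow_val, hTp, Units.val_one, sub_self]
    have hdet0 : ((T : Matrix (Fin 2) (Fin 2) (ZMod p)) - 1).det = 0 := by
      have := congrArg Matrix.det hN
      rw [Matrix.det_pow, Matrix.det_zero] at this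
      exact (pow_eq_zero_iff (Fact.out : p.Prime).ne_zero).1 this
    obtain ⟨v, hv0, hv⟩ := Matrix.exists_mulVec_eq_zero_iff.2 hdet0
    refine ⟨v, hv0, ?_⟩
    rw [Matrix.sub_mulVec, Matrix.one_mulVec, sub_eq_zero] at hv
    exact hv
  have htrans : ∀ w : Fin 2 → ZMod p, ∃ x ∈ E, x *ᵥ v = w := by
    have hinj : Function.Injective
        (fun x : E => (x : Matrix (Fin 2) (Fin 2) (ZMod p)) *ᵥ v) := by
      intro x y hxy
      by_contra hne
      have hz : (x : Matrix (Fin 2) (Fin 2) (ZMod p)) - (y : Matrix (Fin 2) (Fin 2) (ZMod p)) ≠ 0 :=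
        sub_ne_zero.2 (fun h => hne (Subtype.ext h))
      obtain ⟨g, hg, hgz⟩ := hEC1 _ (E.sub_mem x.2 y.2) hz
      have h0 : (g : Matrix (Fin 2) (Fin 2) (ZMod p)) *ᵥ v = 0 := by
        rw [hgz, Matrix.sub_mulVec]; exact sub_eq_zero.2 hxy
      have h1 := congrArg (fun w => ((g⁻¹ : GL (Fin 2) (ZMod p)) :
        Matrix (Fin 2) (Fin 2) (ZMod p)) *ᵥ w) h0
      simp only [Matrix.mulVec_mulVec, Units.inv_mul, Matrix.one_mulVec,
        Matrix.mulVec_zero] at h1
      exact hv0 h1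
    have hbij := hinj.bijective_of_nat_card_le (by
      rw [hEcard]; simp [Nat.card_eq_fintype_card, ZMod.card])
    intro w
    obtain ⟨x, hx⟩ := hbij.2 w
    exact ⟨x, x.2, hx⟩
  have hconj : ∀ w : Fin 2 → ZMod p, w ≠ 0 → ∃ T' ∈ H, T' ≠ 1 ∧ T' ^ p = 1 ∧
      (T' : Matrix (Fin 2) (Fin 2) (ZMod p)) *ᵥ w = w := by
    intro w hw
    obtain ⟨x, hxE, hxv⟩ := htrans w
    have hx0 : x ≠ 0 := by
      rintro rfl
      rw [Matrix.zero_mulVec] at hxv
      exact hw hxv.symm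
    obtain ⟨g, hgC, rfl⟩ := hEC1 x hxE hx0
    refine ⟨g * T * g⁻¹, H.mul_mem (H.mul_mem (hCH hgC) hTH) (H.inv_mem (hCH hgC)), ?_, ?_, ?_⟩
    · rw [Ne, conj_eq_one_iff]; exact hT1
    · rw [conj_pow, hTp, mul_one, mul_inv_cancel]
    · have hginv : ((g⁻¹ : GL (Fin 2) (ZMod p)) : Matrix (Fin 2) (Fin 2) (ZMod p)) *ᵥ w = v := by
        rw [← hxv, Matrix.mulVec_mulVec, Units.inv_mul, Matrix.one_mulVec]
      rw [Units.val_mul, Units.val_mul, ← Matrix.mulVec_mulVec, ← Matrix.mulVec_mulVec, hginv,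
        hv, hxv]
  obtain ⟨T₁, hT₁H, hT₁1, hT₁p, hT₁f⟩ := hconj ![1, 0] (by
    intro h; have := congrFun h 0; simp at this)
  obtain ⟨μ, hμ, rfl⟩ := eq_Up_of_fix T₁ hT₁1 hT₁p hT₁f
  obtain ⟨T₂, hT₂H, hT₂1, hT₂p, hT₂f⟩ := hconj ![0, 1] (by
    intro h; have := congrFun h 1; simp at this)
  obtain ⟨μ', hμ', rfl⟩ := eq_Um_of_fix T₂ hT₂1 hT₂p hT₂f
  have hSL := mem_of_det_one H (Up_all H μ hμ hT₁H) (Um_all H μ' hμ' hT₂H)
  rw [eq_top_iff]
  intro g _
  obtain ⟨c, hcC, hc⟩ := det_surj C E hEf hEcard hEC (Matrix.GeneralLinearGroup.det g)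
  have h1 : g * c⁻¹ ∈ H := by
    apply hSL
    have h2 : Matrix.GeneralLinearGroup.det (g * c⁻¹) = 1 := by
      rw [map_mul, map_inv, hc, mul_inv_cancel]
    have h3 := congrArg Units.val h2
    rw [Units.val_one] at h3
    rw [← h3]; rfl
  have : g = (g * c⁻¹) * c := by group
  rw [this]; exact H.mul_mem h1 (hCH hcC)

end aux

/-- Let p be a prime and H a subgroup of GL₂(𝔽_p). Then H = GL₂(𝔽_p) if and only if (i) some non-split
Cartan subgroup lies in H, i.e. some subgroup C ≤ H such that C ∪ {0} is a subfield of the matrix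
algebra M₂(𝔽_p) with p² elements, and (ii) p divides the order of H. -/
theorem result (p : ℕ) [Fact p.Prime]
    (H : Subgroup (GL (Fin 2) (ZMod p))) :
    H = ⊤ ↔
      (∃ (C : Subgroup (GL (Fin 2) (ZMod p))) (E : Subring (Matrix (Fin 2) (Fin 2) (ZMod p))),
          C ≤ H ∧ IsField E ∧ Nat.card E = p ^ 2 ∧
            (E : Set (Matrix (Fin 2) (Fin 2) (ZMod p))) =
              insert 0 ((fun g : GL (Fin 2) (ZMod p) => (g : Matrix (Fin 2) (Fin 2) (ZMod p))) ''
                (C : Set (GL (Fin 2) (ZMod p))))) ∧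
        p ∣ Nat.card H := by
  constructor
  · rintro rfl
    exact forward
  · rintro ⟨⟨C, E, hCH, hEf, hEcard, hEC⟩, hpH⟩
    exact backward H C E hCH hEf hEcard hEC hpH

end Groth.Agent.S15361
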