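import Groth.Statements.S15362
import Mathlib

set_option autoImplicit false
universe u v w
open CAlg

namespace Groth.Agent.S15362


namespace H15362
open Polynomial

variable {L : Type*} [Field L]

noncomputable def Pseq (p : ℕ) (c w : ℕ → L) : ℕ → Polynomial L
  | 0 => C (c 0) * X - C (w 0)
  | (i + 1) => (Pseq p c w i) ^ p + C (c (i + 1)) * X - C (w (i + 1))

theorem exists_seq [IsAlgClosed L] (p : ℕ) [Fact p.Prime] [CharP L p] (c w : ℕ → L) (m' : ℕ) :
    ∃ (x : ℕ → L) (y : L), x 0 = c 0 * y - w 0 ∧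
      (∀ i, x (i + 1) = (x i) ^ p + c (i + 1) * y - w (i + 1)) ∧ (x m') ^ p = y := by
  obtain ⟨Q, hQdef⟩ : ∃ Q : Polynomial L, Q = (Pseq p c w m') ^ p - X := ⟨_, rfl⟩
  have hder : derivative Q = -1 := by
    rw [hQdef, derivative_sub, derivative_pow, derivative_X, CharP.cast_eq_zero, C_0, zero_mul,
      zero_mul, zero_sub]
  have hdeg : Q.degree ≠ 0 := by
    intro h
    have hC := eq_C_of_degree_eq_zero h
    rw [hC, derivative_C] at hder
    exact one_ne_zero (neg_eq_zero.1 hder.symm)
  obtain ⟨y, hy⟩ := IsAlgClosed.exists_root Q hdeg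
  refine ⟨fun i => (Pseq p c w i).eval y, y, ?_, ?_, ?_⟩
  · simp [Pseq]
  · intro i; simp [Pseq]
  · rw [IsRoot.def, hQdef, eval_sub, eval_pow, eval_X, sub_eq_zero] at hy
    exact hy

theorem cyclic_solve [IsAlgClosed L] (p : ℕ) [Fact p.Prime] [CharP L p] {V : Type*}
    [AddCommGroup V] [Module L V]
    (φ : V →ₛₗ[frobenius L p] V) (e : ℕ → V)
    (he : ∀ i, φ (e i) = e (i + 1)) (m' : ℕ) (c : ℕ → L)
    (hc : e (m' + 1) = ∑ i ∈ Finset.range (m' + 1), c i • e i) (w : ℕ → L) :
    ∃ x : ℕ → L, φ (∑ i ∈ Finset.range (m' + 1), x i • e i)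
        - ∑ i ∈ Finset.range (m' + 1), x i • e i
      = ∑ i ∈ Finset.range (m' + 1), w i • e i := by
  obtain ⟨x, y, hx0, hxs, hy⟩ := exists_seq p c w m'
  refine ⟨x, ?_⟩
  have hφ : φ (∑ i ∈ Finset.range (m' + 1), x i • e i)
      = ∑ i ∈ Finset.range m', (x i) ^ p • e (i + 1)
        + y • ∑ i ∈ Finset.range (m' + 1), c i • e i := by
    rw [map_sum, Finset.sum_range_succ]
    congr 1
    · refine Finset.sum_congr rfl fun i _ => ?_
      rw [map_smulₛₗ, he, frobenius_def]
    · rw [map_smulₛₗ, he, frobenius_def, hy, hc]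
  rw [hφ, Finset.sum_range_succ', Finset.sum_range_succ', Finset.sum_range_succ']
  have hAB : ∑ i ∈ Finset.range m', (x i) ^ p • e (i + 1)
      + y • ∑ i ∈ Finset.range m', c (i + 1) • e (i + 1)
      - ∑ i ∈ Finset.range m', x (i + 1) • e (i + 1)
      - ∑ i ∈ Finset.range m', w (i + 1) • e (i + 1) = 0 := by
    rw [Finset.smul_sum, ← Finset.sum_add_distrib, ← Finset.sum_sub_distrib,
      ← Finset.sum_sub_distrib]
    apply Finset.sum_eq_zero
    intro i _
    rw [hxs i]
    module
  rw [hx0]
  have key : ∀ (A B U Wt E : V) (y c0 w0 : L), A + y • B - U - Wt = 0 →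
      (A + y • (B + c0 • E)) - (U + (c0 * y - w0) • E) = Wt + w0 • E := by
    intro A B U Wt E y c0 w0 h
    have hA : A = U + Wt - y • B := by
      have := sub_eq_zero.1 h
      rw [← this]; abel
    rw [hA]; module
  exact key _ _ _ _ _ _ _ _ hAB

theorem mem_span_Iio {V : Type*} [AddCommGroup V] [Module L V] (e : ℕ → V) (m : ℕ) (x : V) :
    x ∈ Submodule.span L (e '' Set.Iio m) ↔
      ∃ w : ℕ → L, x = ∑ i ∈ Finset.range m, w i • e i := by
  constructor
  · intro hx
    obtain ⟨l, hl, rfl⟩ := (Finsupp.mem_span_image_iff_linearCombination L).1 hx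
    refine ⟨l, ?_⟩
    rw [Finsupp.linearCombination_apply]
    apply Finsupp.sum_of_support_subset
    · intro i hi
      have := (Finsupp.mem_supported L l).1 hl (Finset.mem_coe.2 hi)
      exact Finset.mem_range.2 this
    · intro i _; exact zero_smul _ _
  · rintro ⟨w, rfl⟩
    apply Submodule.sum_mem
    intro i hi
    exact Submodule.smul_mem _ _ (Submodule.subset_span ⟨i, Finset.mem_range.1 hi, rfl⟩)

theorem lang_fd [IsAlgClosed L] (p : ℕ) [Fact p.Prime] [CharP L p] :
    ∀ n : ℕ, ∀ (V : Type*) [AddCommGroup V] [Module L V] [FiniteDimensional L V],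
      Module.finrank L V = n → ∀ φ : V →ₛₗ[frobenius L p] V,
      Function.Surjective fun v : V => φ v - v := by
  intro n
  induction n using Nat.strong_induction_on with
  | _ n ih =>
    intro V _ _ _ hn φ t
    by_cases hV : Subsingleton V
    · exact ⟨0, Subsingleton.elim _ _⟩
    · rw [not_subsingleton_iff_nontrivial] at hV
      obtain ⟨v, hv⟩ := exists_ne (0 : V)
      obtain ⟨e, he_def⟩ : ∃ e : ℕ → V, ∀ i, e i = φ^[i] v := ⟨_, fun _ => rfl⟩
      have he0 : e 0 = v := by rw [he_def]; rfl
      have he : ∀ i, φ (e i) = e (i + 1) := by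
        intro i; rw [he_def, he_def, Function.iterate_succ_apply']
      obtain ⟨j, hj⟩ := monotone_stabilizes_iff_noetherian.2 (inferInstance : IsNoetherian L V)
        ⟨fun j => Submodule.span L (e '' Set.Iio j), fun a b hab =>
          Submodule.span_mono (Set.image_mono (Set.Iio_subset_Iio hab))⟩
      have hj1 : Submodule.span L (e '' Set.Iio j) = Submodule.span L (e '' Set.Iio (j + 1)) :=
        hj (j + 1) (Nat.le_succ j)
      have hej : e j ∈ Submodule.span L (e '' Set.Iio j) := by
        rw [hj1]; exact Submodule.subset_span ⟨j, Set.mem_Iio.2 (Nat.lt_succ_self j), rfl⟩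
      obtain ⟨m', rfl⟩ : ∃ m', j = m' + 1 := by
        cases j with
        | zero =>
          exfalso
          obtain ⟨w, hw⟩ := (mem_span_Iio e 0 (e 0)).1 hej
          rw [Finset.range_zero, Finset.sum_empty, he0] at hw
          exact hv hw
        | succ m' => exact ⟨m', rfl⟩
      obtain ⟨c, hc⟩ := (mem_span_Iio e (m' + 1) (e (m' + 1))).1 hej
      obtain ⟨W, hWdef⟩ : ∃ W : Submodule L V,
        W = Submodule.span L (e '' Set.Iio (m' + 1)) := ⟨_, rfl⟩
      have hWe : ∀ i, i ≤ m' + 1 → e i ∈ W := by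
        intro i hi
        rcases Nat.lt_or_eq_of_le hi with h | h
        · rw [hWdef]; exact Submodule.subset_span ⟨i, h, rfl⟩
        · rw [h, hWdef]; exact hej
      have hWstable : W ≤ W.comap φ := by
        intro x hx
        rw [hWdef] at hx
        obtain ⟨w, rfl⟩ := (mem_span_Iio e (m' + 1) x).1 hx
        rw [Submodule.mem_comap, map_sum]
        apply Submodule.sum_mem
        intro i hi
        rw [map_smulₛₗ, he]
        exact Submodule.smul_mem _ _
          (hWe (i + 1) (by have := Finset.mem_range.1 hi; omega))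
      have hWsolve : ∀ d ∈ W, ∃ u : V, φ u - u = d := by
        intro d hd
        rw [hWdef] at hd
        obtain ⟨w, rfl⟩ := (mem_span_Iio e (m' + 1) d).1 hd
        obtain ⟨x, hx⟩ := cyclic_solve p φ e he m' c hc w
        exact ⟨_, hx⟩
      have hvW : v ∈ W := by rw [← he0]; exact hWe 0 (Nat.zero_le _)
      have hlt : Module.finrank L (V ⧸ W) < n := by
        have h1 := Submodule.finrank_quotient_add_finrank W
        haveI : Nontrivial W := ⟨⟨⟨v, hvW⟩, 0, fun h => hv (congrArg Subtype.val h)⟩⟩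
        have h2 : 0 < Module.finrank L W := Module.finrank_pos
        omega
      have hq := ih (Module.finrank L (V ⧸ W)) hlt (V ⧸ W) rfl (W.mapQ W φ hWstable)
      obtain ⟨ubar, hubar⟩ := hq (W.mkQ t)
      obtain ⟨u, rfl⟩ := W.mkQ_surjective ubar
      have hd : t - (φ u - u) ∈ W := by
        rw [← Submodule.Quotient.mk_eq_zero, Submodule.Quotient.mk_sub, Submodule.Quotient.mk_sub]
        have : (W.mapQ W φ hWstable) (W.mkQ u) - W.mkQ u = W.mkQ t := hubar
        rw [Submodule.mkQ_apply, Submodule.mkQ_apply, Submodule.mapQ_apply] at this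
        rw [this, sub_self]
      obtain ⟨u', hu'⟩ := hWsolve _ hd
      refine ⟨u + u', ?_⟩
      show φ (u + u') - (u + u') = t
      rw [map_add]
      have : φ u + φ u' - (u + u') = (φ u - u) + (φ u' - u') := by abel
      rw [this, hu']; abel

noncomputable def frobMat (p : ℕ) [Fact p.Prime] [CharP L p] {R : Type*} [CommRing R]
    [Algebra L R] [ExpChar R p]
    (R₀ : Subalgebra L R) {k : ℕ} (ρ : Fin k → Fin k → R₀) :
    (Fin k → R₀) →ₛₗ[frobenius L p] (Fin k → R₀) where
  toFun a j := ∑ i, (a i) ^ p * ρ i j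
  map_add' a b := by
    funext j
    simp only [Pi.add_apply]
    rw [← Finset.sum_add_distrib]
    refine Finset.sum_congr rfl fun i _ => ?_
    have : (a i + b i) ^ p = a i ^ p + b i ^ p := by
      apply Subtype.ext
      push_cast
      exact add_pow_expChar _ _ p
    rw [this, add_mul]
  map_smul' c a := by
    funext j
    simp only [Pi.smul_apply, frobenius_def, Finset.smul_sum]
    refine Finset.sum_congr rfl fun i _ => ?_
    rw [_root_.smul_pow, smul_mul_assoc]

theorem main (p : ℕ) [Fact p.Prime] (L : Type*) [Field L] [IsAlgClosed L] [CharP L p]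
    (R : Type*) [CommRing R] [Algebra L R] [Algebra.IsIntegral L R] [ExpChar R p]
    (M : Type*) [AddCommGroup M] [Module R M] [Module.Finite R M]
    (φ : M →ₛₗ[frobenius R p] M) : Function.Surjective fun m : M => φ m - m := by
  intro t
  obtain ⟨k, g, hg⟩ := Module.Finite.exists_fin (R := R) (M := M)
  have hall : ∀ x : M, ∃ a : Fin k → R, ∑ i, a i • g i = x := by
    intro x
    have : x ∈ Submodule.span R (Set.range g) := by rw [hg]; trivial
    exact (Submodule.mem_span_range_iff_exists_fun R).1 this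
  choose r hr using fun i => hall (φ (g i))
  obtain ⟨s, hs⟩ := hall t
  obtain ⟨R₀, hR₀def⟩ : ∃ R₀ : Subalgebra L R, R₀ = Algebra.adjoin L
      ((Set.range fun ij : Fin k × Fin k => r ij.1 ij.2) ∪ Set.range s) := ⟨_, rfl⟩
  have hr_mem : ∀ i j, r i j ∈ R₀ := by
    intro i j; rw [hR₀def]; exact Algebra.subset_adjoin (Or.inl ⟨(i, j), rfl⟩)
  have hs_mem : ∀ j, s j ∈ R₀ := by
    intro j; rw [hR₀def]; exact Algebra.subset_adjoin (Or.inr ⟨j, rfl⟩)
  haveI : Module.Finite L R₀ := by
    rw [hR₀def]
    exact Algebra.finite_adjoin_of_finite_of_isIntegral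
      ((Set.finite_range _).union (Set.finite_range _))
      (fun x _ => Algebra.IsIntegral.isIntegral x)
  have hT : ∀ a : Fin k → R₀, φ (∑ i, (a i : R) • g i)
      = ∑ j, ((frobMat p R₀ (fun i j => (⟨r i j, hr_mem i j⟩ : R₀)) a j : R₀) : R) • g j := by
    intro a
    rw [map_sum]
    have h1 : ∀ i, φ ((a i : R) • g i) = ∑ j, ((a i : R) ^ p * r i j) • g j := by
      intro i
      rw [map_smulₛₗ, frobenius_def, ← hr i, Finset.smul_sum]
      refine Finset.sum_congr rfl fun j _ => ?_
      rw [smul_smul]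
    simp only [h1]
    rw [Finset.sum_comm]
    refine Finset.sum_congr rfl fun j _ => ?_
    rw [← Finset.sum_smul]
    congr 1
    show _ = ((∑ i, (a i) ^ p * (⟨r i j, hr_mem i j⟩ : R₀) : R₀) : R)
    push_cast
    rfl
  obtain ⟨a, ha⟩ := lang_fd p _ (Fin k → R₀) rfl
    (frobMat p R₀ (fun i j => (⟨r i j, hr_mem i j⟩ : R₀))) (fun j => ⟨s j, hs_mem j⟩)
  refine ⟨∑ i, (a i : R) • g i, ?_⟩
  show φ (∑ i, (a i : R) • g i) - ∑ i, (a i : R) • g i = t
  rw [hT a, ← Finset.sum_sub_distrib, ← hs]
  refine Finset.sum_congr rfl fun j _ => ?_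
  rw [← sub_smul]
  congr 1
  have h2 := congrArg Subtype.val (congrFun ha j)
  simpa using h2

end H15362

/-- For an algebraically closed field L of characteristic p > 0, a commutative L-algebra R integral over
L, and a finitely presented R-module M carrying an additive endomorphism φ with φ(r·m) = r^p·φ(m)
for r ∈ R, m ∈ M, the map m ↦ φ(m) − m is onto. (R is taken of exponential characteristic p so that
its Frobenius is a ring endomorphism; for a non-zero L-algebra this is automatic.) -/
theorem result (p : ℕ) [Fact p.Prime]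
    (L : Type u) [Field L] [IsAlgClosed L] [CharP L p]
    (R : Type v) [CommRing R] [Algebra L R] [Algebra.IsIntegral L R] [ExpChar R p]
    (M : Type w) [AddCommGroup M] [Module R M] [Module.FinitePresentation R M]
    (φ : M →ₛₗ[frobenius R p] M) :
    Function.Surjective fun m : M => φ m - m := by
  exact H15362.main p L R M φ

end Groth.Agent.S15362
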