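import Groth.Statements.S15364
import Groth.Agent.Lib.Helper13.Rigid6
import Groth.Agent.Lib.Helper29.IsogFib

set_option autoImplicit false
universe u
open CategoryTheory CategoryTheory.Limits MonoidalCategory CartesianMonoidalCategory AlgebraicGeometry
open AbSch

namespace Groth.Agent.S15364

/-- For an abelian scheme f : A → T (a commutative T-group scheme, proper and smooth over T with
geometrically connected fibres) and a commutative group scheme H finite and locally free over T, the
adjunction map H → f_* f^* H of fppf sheaves on T is an isomorphism, i.e. for every T-scheme U the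
map H(U) → H(A ×_T U), s ↦ s ∘ pr, is bijective. This row states the case U = T, to which the
general case reduces by base change: composition with the structure morphism A → T is a bijection
from the sections of H over T onto the T-morphisms A → H. The group structure of H plays no role and
is not assumed. (The published statement has an arbitrary base T; the published argument rests on
the rigidity lemma in its form for Noetherian schemes, so T is taken locally Noetherian here.) -/
theorem result {T : Scheme.{u}} [IsLocallyNoetherian T]
    (A : Over T) [GrpObj A] [IsCommMonObj A] [IsProper A.hom] [Smooth A.hom] [GeometricallyConnected A.hom]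
    (H : Over T) [IsFinite H.hom] [Flat H.hom] [LocallyOfFinitePresentation H.hom] :
    Function.Bijective fun s : (𝟙_ (Over T) ⟶ H) => toUnit A ≫ s := by
  haveI : Flat A.hom := inferInstance
  haveI : GeometricallyReduced A.hom := Groth.Agent.Lib.Helper29.IsogFib.geomRed_of_smooth A.hom
  have h0 := Groth.Agent.Lib.Helper13.Rigid.finrank_eq_one_of_geomRed_geomConn A.hom
  have hone : (MonObj.one : 𝟙_ (Over T) ⟶ A) ≫ toUnit A = 𝟙 _ := toUnit_unique _ _
  constructor
  · intro s₁ s₂ h
    have h2 := congrArg (fun φ => (MonObj.one : 𝟙_ (Over T) ⟶ A) ≫ φ) h
    simp only [← Category.assoc, hone, Category.id_comp] at h2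
    exact h2
  · intro ψ
    have hall := Groth.Agent.Lib.Helper13.Rigid.collapsed_eq_univ_of_locallyQuasiFinite A.hom
      (fun t => A.hom.isConnected_preimage_singleton t) H.hom ψ.left (Over.w ψ)
    obtain ⟨σ, hσ1, hσ2⟩ := Groth.Agent.Lib.Helper13.Rigid.exists_section_factor_of_forall A.hom h0
      H.hom ψ.left (Over.w ψ) hall
    refine ⟨Over.homMk σ hσ1, ?_⟩
    apply Over.OverMorphism.ext
    show (toUnit A ≫ Over.homMk σ hσ1).left = ψ.left
    rw [Over.comp_left, hσ2]
    rfl

end Groth.Agent.S15364
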