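import Groth.Statements.S15365
import Mathlib

set_option autoImplicit false
universe u
open scoped BigOperators TensorProduct
open CAlg

namespace Groth.Agent.S15365

open MvPolynomial

section
variable (p : ℕ) [Fact p.Prime] (A : Type u) [CommRing A] [CharP A p] (n : ℕ)
  (h : Matrix (Fin n) (Fin n) A)

/-- the relations `X_j^p - ∑ h_ij X_i` -/
noncomputable def rel (j : Fin n) : MvPolynomial (Fin n) A :=
  (X j : MvPolynomial (Fin n) A) ^ p - ∑ i : Fin n, C (h i j) * X i

lemma natCast_eq_zero : ((p : ℕ) : MvPolynomial (Fin n) A) = 0 := by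
  rw [← map_natCast (C (σ := Fin n) (R := A)), CharP.cast_eq_zero, map_zero]

lemma pderiv_rel (k j : Fin n) : pderiv k (rel p A n h j) = - C (h k j) := by
  classical
  unfold rel
  rw [map_sub, Derivation.leibniz_pow, map_sum]
  have h1 : (p • (X j : MvPolynomial (Fin n) A) ^ (p - 1) •
      (pderiv k) (X j : MvPolynomial (Fin n) A)) = 0 := by
    rw [nsmul_eq_mul, natCast_eq_zero p A n, zero_mul]
  rw [h1, zero_sub]
  congr 1
  have h2 : ∀ i : Fin n, pderiv k (C (h i j) * X i : MvPolynomial (Fin n) A) =
      C (h i j) * Pi.single (M := fun _ => MvPolynomial (Fin n) A) k 1 i := by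
    intro i
    rw [pderiv_C_mul, pderiv_X]
  rw [Finset.sum_congr rfl (fun i _ => h2 i)]
  rw [Finset.sum_eq_single k]
  · simp
  · intro i _ hik
    rw [Pi.single_eq_of_ne hik, mul_zero]
  · intro hk; exact absurd (Finset.mem_univ k) hk

local notation "PP" => MvPolynomial (Fin n) A
local notation "II" => Ideal.span (Set.range (rel p A n h))
local notation "BB" => MvPolynomial (Fin n) A ⧸ Ideal.span (Set.range (rel p A n h))

theorem etale_of_isUnit (hdet : IsUnit h.det) : Algebra.Etale A BB := by
  classical
  let Q : Algebra.PreSubmersivePresentation A BB (Fin n) (Fin n) :=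
    Algebra.PreSubmersivePresentation.naive (v := rel p A n h) id Function.injective_id
  have hjm : Q.jacobiMatrix = - (h.map (C : A →+* MvPolynomial (Fin n) A)) := by
    refine Matrix.ext fun i j => ?_
    rw [Algebra.PreSubmersivePresentation.jacobiMatrix_apply]
    show pderiv i (rel p A n h j) = _
    rw [pderiv_rel]
    simp
  have hC : C h.det = (h.map (C : A →+* MvPolynomial (Fin n) A)).det := by
    rw [RingHom.map_det, RingHom.mapMatrix_apply]
  have hju : IsUnit Q.jacobian := by
    rw [Algebra.PreSubmersivePresentation.jacobian_eq_jacobiMatrix_det, hjm, Matrix.det_neg]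
    apply IsUnit.map
    refine IsUnit.mul (IsUnit.pow _ isUnit_one.neg) ?_
    rw [← hC]
    exact hdet.map C
  let Q' : Algebra.SubmersivePresentation A BB (Fin n) (Fin n) :=
    { toPreSubmersivePresentation := Q, jacobian_isUnit := hju }
  have : Algebra.IsStandardSmoothOfRelativeDimension 0 A BB :=
    Q'.isStandardSmoothOfRelativeDimension (by simp [Algebra.Presentation.dimension])
  infer_instance

theorem isUnit_of_etale (hE : Algebra.Etale A BB) : IsUnit h.det := by
  classical
  have hU : Algebra.FormallyUnramified A BB :=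
    (Algebra.Etale.iff_formallyUnramified_and_smooth.mp hE).1
  have : Subsingleton (KaehlerDifferential A BB) := hU.subsingleton_kaehlerDifferential
  have hsurj : Function.Surjective (algebraMap PP BB) := Ideal.Quotient.mk_surjective
  have hker : ∀ f : PP, algebraMap PP BB f = 0 ↔ f ∈ II := fun f => by
    rw [Ideal.Quotient.algebraMap_eq]; exact Ideal.Quotient.eq_zero_iff_mem
  have halgC : ∀ a : A, algebraMap PP BB (C a) = algebraMap A BB a := fun a => by
    rw [IsScalarTower.algebraMap_apply A PP BB, MvPolynomial.algebraMap_eq]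
  -- coefficient functionals
  let Dk : Fin n → Derivation A PP BB := fun k => (Algebra.linearMap PP BB).compDer (pderiv k)
  have hDk : ∀ k f, Dk k f = algebraMap PP BB (pderiv k f) := fun k f => rfl
  let ℓ : Fin n → (BB ⊗[PP] KaehlerDifferential A PP →ₗ[BB] BB) := fun k =>
    LinearMap.liftBaseChange BB (Dk k).liftKaehlerDifferential
  have hℓ : ∀ k f, ℓ k ((1 : BB) ⊗ₜ[PP] KaehlerDifferential.D A PP f) =
      algebraMap PP BB (pderiv k f) := by
    intro k f
    show LinearMap.liftBaseChange BB (Dk k).liftKaehlerDifferential _ = _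
    rw [LinearMap.liftBaseChange_tmul, Derivation.liftKaehlerDifferential_comp_D, one_smul, hDk]
  -- span lemma
  have hspan : ∀ f ∈ II, ∃ b : Fin n → BB, ∀ k,
      algebraMap PP BB (pderiv k f) = ∑ j, b j * (- algebraMap A BB (h k j)) := by
    intro f hf
    obtain ⟨g, rfl⟩ := (Submodule.mem_span_range_iff_exists_fun PP).mp hf
    refine ⟨fun j => algebraMap PP BB (g j), fun k => ?_⟩
    rw [map_sum, map_sum]
    refine Finset.sum_congr rfl fun j _ => ?_
    rw [smul_eq_mul, Derivation.leibniz, map_add, smul_eq_mul, smul_eq_mul, map_mul, map_mul,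
      (hker (rel p A n h j)).mpr (Ideal.subset_span ⟨j, rfl⟩), zero_mul, add_zero, pderiv_rel,
      map_neg, halgC]
  have key : ∀ i : Fin n, ∃ b : Fin n → BB, ∀ k,
      (if i = k then (1 : BB) else 0) = ∑ j, b j * (- algebraMap A BB (h k j)) := by
    intro i
    have hy : KaehlerDifferential.mapBaseChange A PP BB
        ((1 : BB) ⊗ₜ[PP] KaehlerDifferential.D A PP (X i)) = 0 :=
      Subsingleton.elim _ _
    obtain ⟨c, hc⟩ :=
      (KaehlerDifferential.exact_kerCotangentToTensor_mapBaseChange A PP BB hsurj _).mp hy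
    obtain ⟨f, rfl⟩ := Ideal.toCotangent_surjective _ c
    rw [KaehlerDifferential.kerCotangentToTensor_toCotangent] at hc
    have hfI : (f : PP) ∈ II := (hker _).mp (RingHom.mem_ker.mp f.2)
    obtain ⟨b, hb⟩ := hspan _ hfI
    refine ⟨b, fun k => ?_⟩
    rw [← hb k, ← hℓ k, hc, hℓ k, pderiv_X]
    by_cases hik : i = k
    · subst hik; simp
    · rw [if_neg hik, Pi.single_eq_of_ne hik, map_zero]
  choose bb hbb using key
  let Bm : Matrix (Fin n) (Fin n) BB := fun j i => - bb i j
  have hmul : (h.map (algebraMap A BB)) * Bm = 1 := by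
    ext k i
    rw [Matrix.mul_apply, Matrix.one_apply]
    have hswap : (if k = i then (1 : BB) else 0) = (if i = k then (1 : BB) else 0) := by
      by_cases hki : k = i
      · subst hki; rfl
      · rw [if_neg hki, if_neg (fun e => hki e.symm)]
    rw [hswap, hbb i k]
    refine Finset.sum_congr rfl fun j _ => ?_
    show algebraMap A BB (h k j) * (- bb i j) = bb i j * (- algebraMap A BB (h k j))
    ring
  have hu : IsUnit (algebraMap A BB h.det) := by
    have := Matrix.isUnit_det_of_right_inverse hmul
    rwa [← RingHom.mapMatrix_apply, ← RingHom.map_det] at this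
  -- augmentation
  have hε : ∀ a ∈ II, (aeval (fun _ : Fin n => (0 : A))) a = 0 := by
    intro a ha
    refine Submodule.span_induction ?_ ?_ ?_ ?_ ha
    · rintro _ ⟨j, rfl⟩
      have hp : p ≠ 0 := (Fact.out : p.Prime).ne_zero
      simp [rel, hp]
    · simp
    · intro x y _ _ hx hy; rw [map_add, hx, hy, add_zero]
    · intro c x _ hx; rw [smul_eq_mul, map_mul, hx, mul_zero]
  let ε : BB →ₐ[A] A := Ideal.Quotient.liftₐ II (aeval (fun _ : Fin n => (0 : A))) hε
  simpa using hu.map ε

end

/-- Let A be a commutative ring of characteristic p > 0 and (h_{ij})_{1 ≤ i,j ≤ n} a square matrix over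
A, the matrix of a commutative p-Lie algebra (L, φ) with L free with basis e_1, …, e_n and φ(e_j) =
Σ_i h_{ij} e_i. The associated finite group scheme Spec A[X_1, …, X_n]/(X_j^p − Σ_i h_{ij} X_i)_{1 ≤
j ≤ n} is étale over A if and only if the matrix (h_{ij}) is invertible, i.e. its determinant is a
unit of A. Only the algebra structure enters this assertion. -/
theorem result (p : ℕ) [Fact p.Prime]
    (A : Type u) [CommRing A] [CharP A p] (n : ℕ) (h : Matrix (Fin n) (Fin n) A) :
    Algebra.Etale A (MvPolynomial (Fin n) A ⧸ Ideal.span (Set.range fun j : Fin n =>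
        (MvPolynomial.X j : MvPolynomial (Fin n) A) ^ p -
          ∑ i : Fin n, MvPolynomial.C (h i j) * MvPolynomial.X i)) ↔
      IsUnit h.det := by
  constructor
  · intro hE; exact isUnit_of_etale p A n h hE
  · intro hd; exact etale_of_isUnit p A n h hd

end Groth.Agent.S15365
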