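import Groth.Statements.S15368
import Mathlib

set_option autoImplicit false
universe u v
open TensorProduct
open CAlg

namespace Groth.Agent.S15368


open TensorProduct

section

theorem main (R : Type u) [CommRing R] [IsDomain R] [IsDiscreteValuationRing R]
    (M : Type v) [AddCommGroup M] [Module R M] [Module.Finite R M] (N : Submodule R M) :
    Module.finrank (IsLocalRing.ResidueField R) (IsLocalRing.ResidueField R ⊗[R] N) ≤
      Module.finrank (IsLocalRing.ResidueField R) (IsLocalRing.ResidueField R ⊗[R] M) := by
  classical
  let k := IsLocalRing.ResidueField R
  let b := Module.finBasis k (k ⊗[R] M)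
  have hsurj : Function.Surjective (TensorProduct.mk R k M 1) :=
    TensorProduct.mk_surjective R M k IsLocalRing.residue_surjective
  choose f hf using fun i => hsurj (b i)
  have hspan : Submodule.span R (Set.range f) = ⊤ :=
    IsLocalRing.span_eq_top_of_tmul_eq_basis f b hf
  let p : (Fin (Module.finrank k (k ⊗[R] M)) → R) →ₗ[R] M := Fintype.linearCombination R f
  have hp : Function.Surjective p :=
    (span_range_eq_top_iff_surjective_fintypeLinearCombination R f).mp hspan
  let N' : Submodule R (Fin (Module.finrank k (k ⊗[R] M)) → R) := N.comap p
  let q : N' →ₗ[R] N := p.restrict (p := N') (q := N) (fun x hx => hx)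
  have hq : Function.Surjective q := by
    rintro ⟨n, hn⟩
    obtain ⟨x, rfl⟩ := hp n
    exact ⟨⟨x, hn⟩, rfl⟩
  have hq' : Function.Surjective (q.baseChange k) := by
    rw [LinearMap.baseChange_eq_ltensor]
    exact LinearMap.lTensor_surjective k hq
  calc Module.finrank k (k ⊗[R] N)
      ≤ Module.finrank k (k ⊗[R] N') := LinearMap.finrank_le_finrank_of_surjective hq'
    _ = Module.finrank R N' := Module.finrank_baseChange
    _ ≤ Module.finrank R (Fin (Module.finrank k (k ⊗[R] M)) → R) := Submodule.finrank_le N'
    _ = Module.finrank k (k ⊗[R] M) := Module.finrank_fin_fun R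

end

/-- Let R be a discrete valuation ring with uniformizer π and residue field k, n ≥ 0, M₀ a finitely
generated R-module killed by πⁿ and N₀ a submodule of M₀. Then dim_k(N₀/πN₀) ≤ dim_k(M₀/πM₀). The
published lemma is stated for a finitely presented submodule N of a finitely presented module M over
the quotient of the ring of integers of an algebraic closure of K by the elements of valuation ≥ t,
and the published proof reduces it by descent to exactly this statement over the valuation ring of a
finite extension of K (comparing π-torsion with π-cotorsion by additivity of length); the row states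
that step. -/
theorem result
    (R : Type u) [CommRing R] [IsDomain R] [IsDiscreteValuationRing R] (ϖ : R) (hϖ : Irreducible ϖ) (n : ℕ)
    (M : Type v) [AddCommGroup M] [Module R M] [Module.Finite R M] (hM : ∀ m : M, ϖ ^ n • m = 0)
    (N : Submodule R M) :
    Module.finrank (IsLocalRing.ResidueField R) (IsLocalRing.ResidueField R ⊗[R] N) ≤
      Module.finrank (IsLocalRing.ResidueField R) (IsLocalRing.ResidueField R ⊗[R] M) := by
  exact main R M N

end Groth.Agent.S15368
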