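import Groth.Statements.S15367
import Groth.Agent.S15368

set_option autoImplicit false
universe u v
open TensorProduct
open CAlg

namespace Groth.Agent.S15367

open scoped DirectSum

universe w

lemma exists_sep (R : Type u) [CommRing R] [IsDomain R] [IsPrincipalIdealRing R] (c : R)
    (hc : c ≠ 0)
    (M : Type v) [AddCommGroup M] [Module R M] [Module.Finite R M] (hM : ∀ m : M, c • m = 0)
    (m : M) (hm : m ≠ 0) : ∃ f : M →ₗ[R] (R ⧸ Ideal.span {c}), f m ≠ 0 := by
  classical
  have htors : Module.IsTorsion R M := by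
    intro x
    exact ⟨⟨c, mem_nonZeroDivisors_of_ne_zero hc⟩, hM x⟩
  obtain ⟨ι, _, p, hp, e, ⟨φ⟩⟩ := Module.equiv_directSum_of_isTorsion htors
  have hx0 : φ m ≠ 0 := by
    intro h; exact hm (φ.injective (h.trans (map_zero φ).symm))
  obtain ⟨i, hi⟩ : ∃ i, (φ m) i ≠ 0 := by
    by_contra h
    push Not at h
    exact hx0 (DFinsupp.ext h)
  set q : R := p i ^ e i with hq
  -- c ∈ span {q}
  have hci : c ∈ Submodule.span R {q} := by
    have h1 : c • (φ.symm (DirectSum.lof R ι (fun i => R ⧸ Submodule.span R {p i ^ e i}) i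
        (Submodule.Quotient.mk 1))) = 0 := hM _
    have h2 := congrArg φ h1
    rw [map_smul, LinearEquiv.apply_symm_apply, map_zero, ← map_smul] at h2
    have h3 := congrArg (DirectSum.component R ι (fun i => R ⧸ Submodule.span R {p i ^ e i}) i) h2
    rw [DirectSum.component.lof_self, map_zero, ← Submodule.Quotient.mk_smul,
      Submodule.Quotient.mk_eq_zero] at h3
    simpa using h3
  obtain ⟨d, hd⟩ := Submodule.mem_span_singleton.mp hci
  have hd' : d * q = c := by simpa [smul_eq_mul] using hd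
  have hd0 : d ≠ 0 := by
    rintro rfl; rw [zero_mul] at hd'; exact hc hd'.symm
  -- the injection R/(q) → R/(c), x ↦ d x
  let g0 : R →ₗ[R] (R ⧸ Ideal.span {c}) :=
    (Ideal.Quotient.mkₐ R (Ideal.span {c})).toLinearMap ∘ₗ (d • (LinearMap.id : R →ₗ[R] R))
  have hg0 : ∀ x : R, g0 x = Ideal.Quotient.mk (Ideal.span {c}) (d * x) := fun x => rfl
  have hle : Submodule.span R {q} ≤ LinearMap.ker g0 := by
    rw [Submodule.span_le, Set.singleton_subset_iff, SetLike.mem_coe, LinearMap.mem_ker, hg0,
      Ideal.Quotient.eq_zero_iff_mem, hd']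
    exact Ideal.subset_span rfl
  let g : (R ⧸ Submodule.span R {q}) →ₗ[R] (R ⧸ Ideal.span {c}) :=
    Submodule.liftQ _ g0 hle
  have hg : Function.Injective g := by
    rw [← LinearMap.ker_eq_bot]
    apply Submodule.ker_liftQ_eq_bot
    intro x hx
    rw [LinearMap.mem_ker, hg0, Ideal.Quotient.eq_zero_iff_mem, Ideal.mem_span_singleton'] at hx
    obtain ⟨a, ha⟩ := hx
    rw [← hd', ← mul_assoc, mul_comm a d, mul_assoc] at ha
    have := mul_left_cancel₀ hd0 ha
    rw [Submodule.mem_span_singleton]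
    exact ⟨a, by rw [smul_eq_mul, this]⟩
  refine ⟨g ∘ₗ (DirectSum.component R ι (fun i => R ⧸ Submodule.span R {p i ^ e i}) i) ∘ₗ
    φ.toLinearMap, ?_⟩
  intro h
  apply hi
  have : g ((φ m) i) = 0 := h
  exact hg (this.trans (map_zero g).symm)

lemma dual_le (R : Type u) [CommRing R] [IsDomain R] [IsDiscreteValuationRing R] (I : Ideal R)
    (X : Type w) [AddCommGroup X] [Module R X] [Module.Finite R X] :
    Module.Finite R (X →ₗ[R] (R ⧸ I)) ∧
    Module.finrank (IsLocalRing.ResidueField R)
        (IsLocalRing.ResidueField R ⊗[R] (X →ₗ[R] (R ⧸ I))) ≤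
      Module.finrank (IsLocalRing.ResidueField R) (IsLocalRing.ResidueField R ⊗[R] X) := by
  classical
  let k := IsLocalRing.ResidueField R
  let b := Module.finBasis k (k ⊗[R] X)
  have hsurj : Function.Surjective (TensorProduct.mk R k X 1) :=
    TensorProduct.mk_surjective R X k IsLocalRing.residue_surjective
  choose f hf using fun i => hsurj (b i)
  have hspan : Submodule.span R (Set.range f) = ⊤ :=
    IsLocalRing.span_eq_top_of_tmul_eq_basis f b hf
  let j : (X →ₗ[R] (R ⧸ I)) →ₗ[R] (Fin (Module.finrank k (k ⊗[R] X)) → (R ⧸ I)) :=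
    LinearMap.pi (fun i => LinearMap.applyₗ (f i))
  have hj : Function.Injective j := by
    intro φ ψ h
    apply LinearMap.ext_on hspan
    rintro _ ⟨i, rfl⟩
    exact congrFun h i
  let N : Submodule R (Fin (Module.finrank k (k ⊗[R] X)) → (R ⧸ I)) := LinearMap.range j
  let e : (X →ₗ[R] (R ⧸ I)) ≃ₗ[R] N := LinearEquiv.ofInjective j hj
  have hfin : Module.Finite R (X →ₗ[R] (R ⧸ I)) := Module.Finite.equiv e.symm
  refine ⟨hfin, ?_⟩
  have h1 : Module.finrank k (k ⊗[R] (Fin (Module.finrank k (k ⊗[R] X)) → (R ⧸ I))) ≤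
      Module.finrank k (k ⊗[R] X) := by
    let q : (Fin (Module.finrank k (k ⊗[R] X)) → R) →ₗ[R]
        (Fin (Module.finrank k (k ⊗[R] X)) → (R ⧸ I)) :=
      LinearMap.pi (fun i => (Ideal.Quotient.mkₐ R I).toLinearMap ∘ₗ LinearMap.proj i)
    have hq : Function.Surjective q := by
      intro y
      choose z hz using fun i => Ideal.Quotient.mk_surjective (y i)
      exact ⟨z, funext hz⟩
    have hq' : Function.Surjective (q.baseChange k) := by
      rw [LinearMap.baseChange_eq_ltensor]
      exact LinearMap.lTensor_surjective k hq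
    calc Module.finrank k (k ⊗[R] (Fin (Module.finrank k (k ⊗[R] X)) → (R ⧸ I)))
        ≤ Module.finrank k (k ⊗[R] (Fin (Module.finrank k (k ⊗[R] X)) → R)) :=
          LinearMap.finrank_le_finrank_of_surjective hq'
      _ = Module.finrank R (Fin (Module.finrank k (k ⊗[R] X)) → R) := Module.finrank_baseChange
      _ = Module.finrank k (k ⊗[R] X) := Module.finrank_fin_fun R
  calc Module.finrank k (k ⊗[R] (X →ₗ[R] (R ⧸ I)))
      = Module.finrank k (k ⊗[R] N) := LinearEquiv.finrank_eq (LinearEquiv.baseChange R k _ _ e)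
    _ ≤ Module.finrank k (k ⊗[R] (Fin (Module.finrank k (k ⊗[R] X)) → (R ⧸ I))) :=
        Groth.Agent.S15368.main R _ N
    _ ≤ Module.finrank k (k ⊗[R] X) := h1

/-- Let R be a discrete valuation ring with uniformizer π and residue field k, n ≥ 0, and M₀ a finitely
generated module over R/πⁿR, viewed as an R-module killed by πⁿ; put M₀* = Hom_R(M₀, R/πⁿR). Then
dim_k(M₀*/πM₀*) = dim_k(M₀/πM₀). The published lemma is stated for a finitely presented module over
the quotient of the ring of integers of an algebraic closure of K by the elements of valuation ≥ t,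
with its dual into that quotient ring, and the published proof reduces it by descent to exactly this
statement over the valuation ring of a finite extension of K; the row states that step. -/
theorem result
    (R : Type u) [CommRing R] [IsDomain R] [IsDiscreteValuationRing R] (ϖ : R) (hϖ : Irreducible ϖ) (n : ℕ)
    (M : Type v) [AddCommGroup M] [Module R M] [Module.Finite R M] (hM : ∀ m : M, ϖ ^ n • m = 0) :
    Module.finrank (IsLocalRing.ResidueField R)
        (IsLocalRing.ResidueField R ⊗[R] (M →ₗ[R] (R ⧸ Ideal.span {ϖ ^ n}))) =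
      Module.finrank (IsLocalRing.ResidueField R) (IsLocalRing.ResidueField R ⊗[R] M) := by
  classical
  have hA := dual_le R (Ideal.span {ϖ ^ n}) M
  haveI := hA.1
  have hA2 := dual_le R (Ideal.span {ϖ ^ n}) (M →ₗ[R] (R ⧸ Ideal.span {ϖ ^ n}))
  haveI := hA2.1
  refine le_antisymm hA.2 ?_
  let ev : M →ₗ[R] ((M →ₗ[R] (R ⧸ Ideal.span {ϖ ^ n})) →ₗ[R] (R ⧸ Ideal.span {ϖ ^ n})) :=
    LinearMap.id.flip
  have hev : Function.Injective ev := by
    rw [← LinearMap.ker_eq_bot, LinearMap.ker_eq_bot']
    intro m hm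
    by_contra h0
    obtain ⟨f, hf⟩ := exists_sep R (ϖ ^ n) (pow_ne_zero n hϖ.ne_zero) M hM m h0
    exact hf (LinearMap.congr_fun hm f)
  let N := LinearMap.range ev
  let e : M ≃ₗ[R] N := LinearEquiv.ofInjective ev hev
  calc Module.finrank (IsLocalRing.ResidueField R) (IsLocalRing.ResidueField R ⊗[R] M)
      = Module.finrank (IsLocalRing.ResidueField R) (IsLocalRing.ResidueField R ⊗[R] N) :=
        LinearEquiv.finrank_eq (LinearEquiv.baseChange R (IsLocalRing.ResidueField R) _ _ e)
    _ ≤ Module.finrank (IsLocalRing.ResidueField R) (IsLocalRing.ResidueField R ⊗[R]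
          ((M →ₗ[R] (R ⧸ Ideal.span {ϖ ^ n})) →ₗ[R] (R ⧸ Ideal.span {ϖ ^ n}))) :=
        Groth.Agent.S15368.main R _ N
    _ ≤ _ := hA2.2

end Groth.Agent.S15367
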