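import Groth.Statements.S15383
import Mathlib
import Groth.Agent.Lib.Helper10.NM4

set_option autoImplicit false
universe u
open GmDual

namespace Groth.Agent.S15383

open CategoryTheory AlgebraicGeometry in
/-- Let f : X' ⟶ X be a finite flat morphism of Noetherian schemes (so finite locally free). A morphism
of abelian sheaves N : f_* 𝔾_{m,X'} ⟶ 𝔾_{m,X} on the big fppf site of X is called a norm map of f
when, on every affine test scheme T over X for which the functions of T ×_X X' form a finite free
algebra over those of T, it sends an invertible function on T ×_X X' to the determinant of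
multiplication by it. Two norm maps of f are equal: a norm map is determined by its affine-local
description by determinants. -/
theorem result (X X' : Scheme.{u}) (f : X' ⟶ X) [IsFinite f] [Flat f]
    [AlgebraicGeometry.IsNoetherian X]
    (N N' : CGrpSh3.pushGm Scheme.fppfPrecoverage f ⟶ CGrpSh2.Gm Scheme.fppfPrecoverage X)
    (hN : CGrpSh3.IsNormMap Scheme.fppfPrecoverage f N) (hN' : CGrpSh3.IsNormMap Scheme.fppfPrecoverage f N') :
    N = N' := by
  haveI : LocallyOfFiniteType f := inferInstance
  haveI : LocallyOfFinitePresentation f := inferInstance
  refine H10NM.hom_ext_normPt Scheme.fppfPrecoverage f N N' fun T t' => ?_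
  apply Groth.Agent.Lib.Helper13.gmFn_injective
  refine H16FNorm.eq_of_good (CategoryTheory.Limits.pullback.fst T.hom f) ⊤ _ _ fun V hV i => ?_
  exact H10NM.eq_of_appTop_eq T V i _ _
    (H10NM.gmFn_normPt_restrict f T V Scheme.fppfPrecoverage N N' hN hN' hV t')

end Groth.Agent.S15383
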