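import Groth.Statements.S1539
import Mathlib
import Groth.Agent.Lib.Helper11.GeomSep

set_option autoImplicit false
universe u
open CategoryTheory CategoryTheory.Limits AlgebraicGeometry
open Variety

namespace Groth.Agent.S1539

open Groth.Agent.Lib.Helper11.FBaseLib Groth.Agent.Lib.Helper11.FBaseLib2
  Groth.Agent.Lib.Helper11.BcLevels Groth.Agent.Lib.Helper11.GeomSep

/-- If X_{k'} is irreducible for every finite separable field extension k' of k, then X is geometrically
irreducible over k. -/
theorem result (k : Type u) [Field k] (X : Scheme.{u}) [X.Over (Spec (CommRingCat.of k))]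
    (h : ∀ (k' : Type u) [Field k'] [Algebra k k'] [FiniteDimensional k k'] [Algebra.IsSeparable k k'],
      IrreducibleSpace (Curv2.bc k X k')) :
    GeometricallyIrreducible (X ↘ (Spec (CommRingCat.of k))) := by

  haveI : IrreducibleSpace ↥(FBase.bc (X ↘ Spec (CommRingCat.of k)) (SeparableClosure k)) := by
    refine irreducibleSpace_of_levels (X ↘ Spec (CommRingCat.of k)) (SeparableClosure k) ?_
    intro L hL
    haveI : Algebra.IsSeparable k ↥L :=
      Algebra.isSeparable_tower_bot_of_isSeparable k ↥L (SeparableClosure k)
    exact h ↥L
  exact geometricallyIrreducible_of_sepClosure (X ↘ Spec (CommRingCat.of k))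

end Groth.Agent.S1539
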