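import Groth.Statements.S15391
-- import your own Groth.Agent.* helpers here
import Mathlib

set_option autoImplicit false
universe u
open TensorProduct
open TorFree

namespace Groth.Agent.S15391

theorem exists_smul_eq_zero_of_minimal (R : Type u) [CommRing R] [IsReduced R]
    (M : Type u) [AddCommGroup M] [Module R M]
    (p : PrimeSpectrum R) (hp : p.asIdeal ∈ minimalPrimes R) (t : M)
    (ht : (1 : p.asIdeal.ResidueField) ⊗ₜ[R] t = (0 : p.asIdeal.ResidueField ⊗[R] M)) :
    ∃ s : R, s ∉ p.asIdeal ∧ s • t = 0 := by
  have hmax : IsLocalRing.maximalIdeal (Localization.AtPrime p.asIdeal) = ⊥ := by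
    have h1 := IsLocalization.AtPrime.radical_map_of_mem_minimalPrimes
      (A := Localization.AtPrime p.asIdeal) p.asIdeal ⊥ hp
    rw [Ideal.map_bot, IsLocalization.AtPrime.map_eq_maximalIdeal p.asIdeal
      (Localization.AtPrime p.asIdeal)] at h1
    rw [← h1]
    exact nilradical_eq_zero _
  have hbij : Function.Bijective
      (algebraMap (Localization.AtPrime p.asIdeal) p.asIdeal.ResidueField) := by
    constructor
    · rw [RingHom.injective_iff_ker_eq_bot]
      exact (IsLocalRing.ker_residue (R := Localization.AtPrime p.asIdeal)).trans hmax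
    · exact IsLocalRing.residue_surjective
  let e : Localization.AtPrime p.asIdeal ≃ₐ[R] p.asIdeal.ResidueField :=
    AlgEquiv.ofBijective
      (IsScalarTower.toAlgHom R (Localization.AtPrime p.asIdeal) p.asIdeal.ResidueField) hbij
  haveI : IsLocalization p.asIdeal.primeCompl p.asIdeal.ResidueField :=
    IsLocalization.isLocalization_of_algEquiv p.asIdeal.primeCompl e
  haveI : IsLocalizedModule p.asIdeal.primeCompl
      (TensorProduct.mk R p.asIdeal.ResidueField M 1) :=
    (isLocalizedModule_iff_isBaseChange p.asIdeal.primeCompl p.asIdeal.ResidueField _).mpr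
      (TensorProduct.isBaseChange R M p.asIdeal.ResidueField)
  obtain ⟨s, hs⟩ := (IsLocalizedModule.eq_zero_iff p.asIdeal.primeCompl
    (TensorProduct.mk R p.asIdeal.ResidueField M 1) (m := t)).mp ht
  exact ⟨s.1, s.2, hs⟩

/-- Let R be a reduced Noetherian commutative ring, M a finitely generated torsion-free R-module (no
non-zero element of M is annihilated by a non-zero-divisor of R), and t an element of M whose image
1 ⊗ t in the fibre κ(p) ⊗_R M vanishes for every prime ideal p of R, κ(p) being the residue field at
p. Then t = 0. This is the affine form of the claim that a global section of a coherent torsion-free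
module on a reduced Noetherian scheme which vanishes in every fibre is zero. -/
theorem result (R : Type u) [CommRing R] [IsReduced R] [IsNoetherianRing R]
    (M : Type u) [AddCommGroup M] [Module R M] [Module.Finite R M] [Module.IsTorsionFree R M]
    (t : M) (ht : ∀ p : PrimeSpectrum R, (1 : p.asIdeal.ResidueField) ⊗ₜ[R] t = (0 : p.asIdeal.ResidueField ⊗[R] M)) :
    t = 0 := by
  classical
  have hfin := minimalPrimes.finite_of_isNoetherianRing R
  have hprime : ∀ q ∈ hfin.toFinset, q ≠ (⊥ : Ideal R) → q ≠ (⊥ : Ideal R) →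
      (id q : Ideal R).IsPrime := by
    intro q hq _ _
    exact ((Set.Finite.mem_toFinset hfin).mp hq).1.1
  have hnot : ¬ ((Ideal.torsionOf R M t : Set R) ⊆
      ⋃ q ∈ (↑hfin.toFinset : Set (Ideal R)), ((id q : Ideal R) : Set R)) := by
    rw [Ideal.subset_union_prime (f := id) ⊥ ⊥ hprime]
    rintro ⟨q, hq, hle⟩
    have hqmin : q ∈ minimalPrimes R := (Set.Finite.mem_toFinset hfin).mp hq
    haveI := hqmin.1.1
    obtain ⟨s, hs, hst⟩ := exists_smul_eq_zero_of_minimal R M ⟨q, hqmin.1.1⟩ hqmin t
      (ht ⟨q, hqmin.1.1⟩)
    exact hs (hle ((Ideal.mem_torsionOf_iff _ _).mpr hst))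
  rw [Set.not_subset] at hnot
  obtain ⟨s, hsI, hsnot⟩ := hnot
  have hst : s • t = 0 := (Ideal.mem_torsionOf_iff _ _).mp hsI
  have hsmin : ∀ q ∈ minimalPrimes R, s ∉ q := by
    intro q hq hsq
    apply hsnot
    simp only [Set.mem_iUnion]
    exact ⟨q, by simpa using hq, hsq⟩
  have hreg : IsRegular s := by
    rw [isRegular_iff_mem_nonZeroDivisors, mem_nonZeroDivisors_iff_right]
    intro x hx
    have hx' : x ∈ sInf (minimalPrimes R) := by
      rw [Ideal.mem_sInf]
      intro q hq
      have hxs : x * s ∈ q := by
        rw [hx]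
        exact q.zero_mem
      exact (hq.1.1.mem_or_mem hxs).resolve_right (hsmin q hq)
    have hbot : sInf (minimalPrimes R) = ⊥ := by
      rw [minimalPrimes, Ideal.sInf_minimalPrimes]
      exact nilradical_eq_zero R
    rw [hbot] at hx'
    exact hx'
  exact (hreg.smul_eq_zero_iff_right).mp hst

end Groth.Agent.S15391
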