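import Groth.Statements.S1540
import Mathlib
import Groth.Agent.S1537
import Groth.Agent.Lib.Helper11.FibreCount

set_option autoImplicit false
universe u
open CategoryTheory CategoryTheory.Limits AlgebraicGeometry
attribute [local instance] Curv2.resAlgebra Curv2.stalkAlgebra
open Variety

namespace Groth.Agent.S1540

open Groth.Agent.Lib.Helper11.FBaseLib Groth.Agent.Lib.Helper11.FBaseLib2
  Groth.Agent.Lib.Helper11.BcLevels Groth.Agent.Lib.Helper11.SepFibre
  Groth.Agent.Lib.Helper11.SepFibre2 Groth.Agent.Lib.Helper11.FibreCount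
  Groth.Agent.Lib.Helper11.GeomSep
open TensorProduct
open scoped IntermediateField

theorem card_primeSpectrum_tensor_ge {k : Type*} [Field k] (k' F K : Type*) [Field k'] [Field F]
    [Field K] [Algebra k k'] [Algebra k' F] [Algebra k F] [IsScalarTower k k' F] [Algebra k K] :
    ENat.card (PrimeSpectrum (K ⊗[k] k')) ≤ ENat.card (PrimeSpectrum (F ⊗[k] K)) := by
  have hsurj := comap_includeRight_surjective k' F (k' ⊗[k] K)
  let e : F ⊗[k'] (k' ⊗[k] K) ≃ₐ[k'] F ⊗[k] K :=
    Algebra.TensorProduct.cancelBaseChange k k' k' F K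
  have h1 : ENat.card (PrimeSpectrum (F ⊗[k] K)) =
      ENat.card (PrimeSpectrum (F ⊗[k'] (k' ⊗[k] K))) :=
    ENat.card_congr (PrimeSpectrum.comapEquiv e.toRingEquiv).toEquiv.symm
  have h2 : ENat.card (PrimeSpectrum (k' ⊗[k] K)) ≤
      ENat.card (PrimeSpectrum (F ⊗[k'] (k' ⊗[k] K))) :=
    ENat.card_le_card_of_injective (Function.injective_surjInv hsurj)
  let c : k' ⊗[k] K ≃ₐ[k] K ⊗[k] k' := Algebra.TensorProduct.comm k k' K
  have h3 : ENat.card (PrimeSpectrum (k' ⊗[k] K)) = ENat.card (PrimeSpectrum (K ⊗[k] k')) :=
    ENat.card_congr (PrimeSpectrum.comapEquiv c.toRingEquiv).toEquiv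
  rw [h1, ← h3]
  exact h2

/-- An irreducible scheme X over k with generic point ξ is geometrically irreducible if and only if the
separable algebraic closure of k in the residue field of ξ is k itself. -/
theorem result (k : Type u) [Field k] (X : Scheme.{u}) [X.Over (Spec (CommRingCat.of k))] [IrreducibleSpace X] :
    GeometricallyIrreducible (X ↘ (Spec (CommRingCat.of k))) ↔
      ∀ a : X.residueField (genericPoint X), IsSeparable k a → a ∈ Set.range (algebraMap k (X.residueField (genericPoint X))) := by

  classical
  set f := X ↘ Spec (CommRingCat.of k) with hf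
  set ξ := genericPoint X with hξ
  have hφ := Groth.Agent.S1537.specMap_resMap k X ξ
  have h1 := card_irreducibleComponents_eq_fibre f (SeparableClosure k)
  have h2 := encard_fibre_eq f ξ (Curv2.resMap k X ξ) hφ (SeparableClosure k)
  constructor
  · intro hgi a ha
    by_contra hna
    haveI : IrreducibleSpace ↥(FBase.bc f (SeparableClosure k)) :=
      pullback_of_geometrically hgi.1 (SeparableClosure k)
        (Spec.map (CommRingCat.ofHom (algebraMap k (SeparableClosure k))))
    have hone : ENat.card ↥(irreducibleComponents ↥(FBase.bc f (SeparableClosure k))) = 1 := by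
      rw [irreducibleComponents_eq_singleton]
      show ({Set.univ} : Set (Set ↥(FBase.bc f (SeparableClosure k)))).encard = 1
      exact Set.encard_singleton _
    have hint : IsIntegral k a := ha.isIntegral
    haveI : FiniteDimensional k ↥k⟮a⟯ := IntermediateField.adjoin.finiteDimensional hint
    haveI : Algebra.IsSeparable k ↥k⟮a⟯ :=
      (IntermediateField.isSeparable_adjoin_simple_iff_isSeparable k (X.residueField ξ)).mpr ha
    let τ₀ : ↥k⟮a⟯ →ₐ[k] SeparableClosure k := IsSepClosed.lift
    have h4 := card_primeSpectrum_tensor_of_normal (k := k) ↥k⟮a⟯ (SeparableClosure k) τ₀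
    have h3 := card_primeSpectrum_tensor_ge (k := k) ↥k⟮a⟯ (X.residueField ξ) (SeparableClosure k)
    have h5 : (Module.finrank k ↥k⟮a⟯ : ℕ∞) ≤ 1 := by
      rw [← h4, ← hone, h1, h2]
      exact h3
    have h6 : Module.finrank k ↥k⟮a⟯ ≤ 1 := by exact_mod_cast h5
    have h7 : Module.finrank k ↥k⟮a⟯ = 1 := le_antisymm h6 Module.finrank_pos
    have h8 := IntermediateField.finrank_adjoin_simple_eq_one_iff.mp h7
    exact hna (IntermediateField.mem_bot.mp h8)
  · intro hsc
    haveI := subsingleton_primeSpectrum_tensor hsc (SeparableClosure k)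
    have hfs := fibre_subsingleton f ξ (Curv2.resMap k X ξ) hφ (SeparableClosure k) inferInstance
    have hle : ENat.card ↥(irreducibleComponents ↥(FBase.bc f (SeparableClosure k))) ≤ 1 := by
      rw [h1, Set.encard_le_one_iff]
      intro y z hy hz
      exact hfs hy hz
    haveI hsub : Subsingleton ↥(irreducibleComponents ↥(FBase.bc f (SeparableClosure k))) :=
      (ENat.card_le_one_iff_subsingleton _).mp hle
    obtain ⟨x₀⟩ : Nonempty ↥X := inferInstance
    obtain ⟨z₀, -⟩ := (FBase.bcπ f (SeparableClosure k)).surjective x₀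
    obtain ⟨T', hT', -⟩ := exists_mem_irreducibleComponents_subset_of_isIrreducible {z₀}
      isIrreducible_singleton
    haveI : IrreducibleSpace ↥(FBase.bc f (SeparableClosure k)) := by
      have huniv : (Set.univ : Set ↥(FBase.bc f (SeparableClosure k))) = T' := by
        rw [← sUnion_irreducibleComponents]
        apply Set.Subset.antisymm
        · rintro z ⟨T'', hT'', hz⟩
          have : (⟨T'', hT''⟩ : ↥(irreducibleComponents ↥(FBase.bc f (SeparableClosure k)))) =
              ⟨T', hT'⟩ := Subsingleton.elim _ _
          have h9 : T'' = T' := congrArg Subtype.val this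
          rw [← h9]
          exact hz
        · intro z hz
          exact ⟨T', hT', hz⟩
      haveI : Nonempty ↥(FBase.bc f (SeparableClosure k)) := ⟨z₀⟩
      rw [irreducibleSpace_def]
      show IsIrreducible (Set.univ : Set ↥(FBase.bc f (SeparableClosure k)))
      rw [huniv]
      exact hT'.1
    exact geometricallyIrreducible_of_sepClosure f

end Groth.Agent.S1540
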