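import Groth.Statements.S15411
import Groth.Agent.Lib.Helper19.HopfDesc

set_option autoImplicit false
universe u
open scoped TensorProduct
open Hopf

namespace Groth.Agent.S15411

/-- Let K be a field and let finitely many commutative K-algebras be given in two layers, K_i for each
vertex i and K_k for each edge k, with K-algebra maps from K_{l k} and from K_{r k} into K_k for
every edge k, such that K is the equalizer of the system: every family (x_i) whose two images in K_k
agree for every k comes from exactly one element of K. Let A and B be commutative K-bialgebras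
(coordinate rings of affine group or monoid schemes over K) and let u_i : K_i ⊗ B ≅ K_i ⊗ A be
isomorphisms of K_i-bialgebras such that, for every edge k, the base changes of u_{l k} and u_{r k}
to K_k agree. Then there is exactly one isomorphism of K-bialgebras v : B ≅ A inducing every u_i,
that is with u_i (1 ⊗ b) = 1 ⊗ v b. (The published statement is for the system obtained from a
finite inverse factorization system of fields by base change to a finite separable extension K, and
for linear algebraic groups; this row keeps from that setting only what the argument uses: K is a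
field and is the equalizer of the finite system, and the group schemes are affine.) -/
theorem result
    (K : Type u) [Field K] (ιv ιe : Type u) [Finite ιv] [Finite ιe]
    (Kv : ιv → Type u) [∀ i, CommRing (Kv i)] [∀ i, Algebra K (Kv i)]
    (Ke : ιe → Type u) [∀ k, CommRing (Ke k)] [∀ k, Algebra K (Ke k)]
    (l r : ιe → ιv) (ρl : ∀ k, Kv (l k) →ₐ[K] Ke k) (ρr : ∀ k, Kv (r k) →ₐ[K] Ke k)
    (hlim : ∀ x : (∀ i, Kv i), (∀ k, ρl k (x (l k)) = ρr k (x (r k))) →
      ∃! a : K, ∀ i, algebraMap K (Kv i) a = x i)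
    (A B : Type u) [CommRing A] [CommRing B] [Bialgebra K A] [Bialgebra K B]
    (u : ∀ i, (Kv i ⊗[K] B) ≃ₐc[Kv i] (Kv i ⊗[K] A))
    (hu : ∀ (k : ιe) (b : B),
      Algebra.TensorProduct.map (ρl k) (AlgHom.id K A) (u (l k) (1 ⊗ₜ[K] b)) =
        Algebra.TensorProduct.map (ρr k) (AlgHom.id K A) (u (r k) (1 ⊗ₜ[K] b))) :
    ∃! v : B ≃ₐc[K] A, ∀ (i : ιv) (b : B), u i (1 ⊗ₜ[K] b) = 1 ⊗ₜ[K] v b := by
  classical
  have hv₀ := Groth.Agent.Lib.Helper19.HopfDesc.descend_algHom hlim
    (fun i => ((u i).toAlgEquiv : (Kv i ⊗[K] B) →ₐ[Kv i] (Kv i ⊗[K] A))) hu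
  obtain ⟨v, hv⟩ := hv₀
  have hv' : ∀ (i : ιv) (b : B), u i ((1 : Kv i) ⊗ₜ[K] b) = (1 : Kv i) ⊗ₜ[K] v b := hv
  have hu' : ∀ (k : ιe) (a : A),
      Algebra.TensorProduct.map (ρl k) (AlgHom.id K B) ((u (l k)).symm ((1 : Kv (l k)) ⊗ₜ[K] a)) =
      Algebra.TensorProduct.map (ρr k) (AlgHom.id K B) ((u (r k)).symm ((1 : Kv (r k)) ⊗ₜ[K] a)) := by
    intro k a
    exact Groth.Agent.Lib.Helper19.HopfDesc.compat_symm (ρl k) (ρr k)
      (u (l k)).toCoalgEquiv.toCoalgHom.toLinearMap
      (u (l k)).symm.toCoalgEquiv.toCoalgHom.toLinearMap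
      (u (r k)).toCoalgEquiv.toCoalgHom.toLinearMap
      (u (r k)).symm.toCoalgEquiv.toCoalgHom.toLinearMap
      (fun z => (u (l k)).symm_apply_apply z) (fun z => (u (l k)).apply_symm_apply z)
      (fun z => (u (r k)).apply_symm_apply z) (fun x => hu k x) a
  have hw₀ := Groth.Agent.Lib.Helper19.HopfDesc.descend_algHom hlim
    (fun i => ((u i).symm.toAlgEquiv : (Kv i ⊗[K] A) →ₐ[Kv i] (Kv i ⊗[K] B))) hu'
  obtain ⟨w, hw⟩ := hw₀
  have hw' : ∀ (i : ιv) (a : A), (u i).symm ((1 : Kv i) ⊗ₜ[K] a) = (1 : Kv i) ⊗ₜ[K] w a := hw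
  have hvw : ∀ a : A, v (w a) = a := by
    intro a
    apply Groth.Agent.Lib.Helper19.HopfDesc.tmul_inj hlim
    intro i
    rw [← hv' i (w a), ← hw' i a]
    exact (u i).apply_symm_apply _
  have hwv : ∀ b : B, w (v b) = b := by
    intro b
    apply Groth.Agent.Lib.Helper19.HopfDesc.tmul_inj hlim
    intro i
    rw [← hw' i (v b), ← hv' i b]
    exact (u i).symm_apply_apply _
  have hcounit : (Bialgebra.counitAlgHom K A).comp v = Bialgebra.counitAlgHom K B := by
    apply AlgHom.ext
    intro b
    apply Groth.Agent.Lib.Helper19.HopfDesc.scalar_inj hlim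
    intro i
    show algebraMap K (Kv i) (Coalgebra.counit (R := K) (v b)) =
      algebraMap K (Kv i) (Coalgebra.counit (R := K) b)
    rw [← Groth.Agent.Lib.Helper19.HopfDesc.counit_one_tmul,
      ← Groth.Agent.Lib.Helper19.HopfDesc.counit_one_tmul, ← hv' i b]
    exact LinearMap.congr_fun (u i).toCoalgEquiv.toCoalgHom.counit_comp _
  have hcm : ∀ b : B, TensorProduct.map v.toLinearMap v.toLinearMap (Coalgebra.comul (R := K) b) =
      Coalgebra.comul (R := K) (v b) := by
    intro b
    apply Groth.Agent.Lib.Helper19.HopfDesc.tmul_inj hlim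
    intro i
    apply (Groth.Agent.Lib.Helper19.HopfDesc.Psi (Kv i) A).injective
    rw [← Groth.Agent.Lib.Helper19.HopfDesc.map_Psi (u i).toCoalgEquiv.toCoalgHom.toLinearMap
      v.toLinearMap (hv' i), ← Groth.Agent.Lib.Helper19.HopfDesc.comul_one_tmul,
      ← Groth.Agent.Lib.Helper19.HopfDesc.comul_one_tmul, ← hv' i b]
    exact LinearMap.congr_fun (u i).toCoalgEquiv.toCoalgHom.map_comp_comul _
  have hcomul : (Algebra.TensorProduct.map v v).comp (Bialgebra.comulAlgHom K B) =
      (Bialgebra.comulAlgHom K A).comp v := by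
    apply AlgHom.ext
    intro b
    show Algebra.TensorProduct.map v v (Coalgebra.comul (R := K) b) = Coalgebra.comul (R := K) (v b)
    rw [Groth.Agent.Lib.Helper19.HopfDesc.algMap_eq, hcm]
  have hbij : Function.Bijective (BialgHom.ofAlgHom v hcounit hcomul) :=
    Function.bijective_iff_has_inverse.mpr ⟨w, hwv, hvw⟩
  refine ⟨BialgEquiv.ofBijective (BialgHom.ofAlgHom v hcounit hcomul) hbij, fun i b => hv' i b,
    fun v' hv'' => BialgEquiv.ext fun b => ?_⟩
  apply Groth.Agent.Lib.Helper19.HopfDesc.tmul_inj hlim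
  intro i
  rw [← hv'' i b]
  exact hv' i b

end Groth.Agent.S15411
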