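import Groth.Statements.S15412
-- import your own Groth.Agent.* helpers here
import Mathlib

set_option autoImplicit false
universe w v u
open CategoryTheory Opposite
open Bitors

namespace Groth.Agent.S15412

variable {C : Type u} [Category.{v} C] {J : GrothendieckTopology C}

/-- cancellation in a pseudo-torsor -/
lemma smul_cancel {G : Sheaf J GrpCat.{w}} (P : NonAbH1.GSheaf G) (hP : P.IsPseudoTorsor)
    {U : Cᵒᵖ} (p : P.P.obj.obj U) (g g' : G.obj.obj U) (h : P.smul g p = P.smul g' p) : g = g' := by
  obtain ⟨g₀, _, hg₀⟩ := hP U p (P.smul g p)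
  rw [hg₀ g rfl, hg₀ g' h.symm]

lemma isomFamily_ext {G H : Sheaf J GrpCat.{w}} (P : NonAbH1.GSheaf G) (φ φ' : Bitors.IsomFamily P H)
    (h : ∀ (U : Cᵒᵖ) (p : P.P.obj.obj U) (x : H.obj.obj U), φ.φ p x = φ'.φ p x) : φ = φ' := by
  cases φ with
  | mk f h1 h2 =>
    cases φ' with
    | mk f' h1' h2' =>
      have : @f = @f' := by
        funext U p
        exact MulEquiv.ext (h U p)
      subst this
      rfl

lemma rightStr_ext {G H : Sheaf J GrpCat.{w}} (P : NonAbH1.GSheaf G) (ρ ρ' : Bitors.RightStr P H)
    (h : ∀ (U : Cᵒᵖ) (p : P.P.obj.obj U) (x : H.obj.obj U), ρ.rsmul p x = ρ'.rsmul p x) : ρ = ρ' := by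
  cases ρ with
  | mk r a1 a2 a3 a4 a5 =>
    cases ρ' with
    | mk r' b1 b2 b3 b4 b5 =>
      have : @r = @r' := by
        funext U p x
        exact h U p x
      subst this
      rfl

/-- On a site, let G and H be sheaves of groups and P a sheaf of sets with a left G-action which is
simply transitive on every set of sections P(U). The right H-actions on P that are compatible with
restriction, commute with the G-action and are simply transitive on every P(U) (for P a G-torsor:
the structures of (G, H)-bitorsor on P) correspond exactly to the families of group isomorphisms φ_p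
: H(U) ≃ G(U), one for each section p of P over each U, compatible with restriction and with φ_{g·p}
= g φ_p g⁻¹ (the equivariant maps from P to the sheaf of isomorphisms from H to G); the
correspondence is the rule p · h = φ_p(h) · p, and the statement is that every right structure
arises by this rule from exactly one family and every family from exactly one right structure. (The
published statement takes P a left G-torsor; only the simple transitivity of the G-action on
sections enters, so local existence of sections is not assumed.) -/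
theorem result
    {C : Type u} [Category.{v} C] {J : GrothendieckTopology C}
    (G H : Sheaf J GrpCat.{w}) (P : NonAbH1.GSheaf G) (hP : P.IsPseudoTorsor) :
    (∀ ρ : Bitors.RightStr P H, ∃! φ : Bitors.IsomFamily P H,
        ∀ (U : Cᵒᵖ) (p : P.P.obj.obj U) (h : H.obj.obj U), ρ.rsmul p h = P.smul (φ.φ p h) p) ∧
    (∀ φ : Bitors.IsomFamily P H, ∃! ρ : Bitors.RightStr P H,
        ∀ (U : Cᵒᵖ) (p : P.P.obj.obj U) (h : H.obj.obj U), ρ.rsmul p h = P.smul (φ.φ p h) p) := by
  classical
  refine ⟨?_, ?_⟩
  · intro ρ
    -- the element of G carrying p to p · h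
    have hex : ∀ (U : Cᵒᵖ) (p : P.P.obj.obj U) (h : H.obj.obj U), ∃ g : G.obj.obj U, P.smul g p = ρ.rsmul p h :=
      fun U p h => (hP U p (ρ.rsmul p h)).exists
    choose ψ hψ using hex
    have hmul : ∀ (U : Cᵒᵖ) (p : P.P.obj.obj U) (h h' : H.obj.obj U), ψ U p (h * h') = ψ U p h * ψ U p h' := by
      intro U p h h'
      apply smul_cancel P hP p
      rw [hψ, ρ.rsmul_mul, ← hψ U p h, ρ.smul_rsmul, ← hψ U p h', P.mul_smul]
    have hinj : ∀ (U : Cᵒᵖ) (p : P.P.obj.obj U), Function.Injective (ψ U p) := by
      intro U p h h' hh
      have h1 : ρ.rsmul p h = ρ.rsmul p h' := by rw [← hψ, ← hψ, hh]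
      obtain ⟨h₀, _, hh₀⟩ := ρ.existsUnique_rsmul p (ρ.rsmul p h)
      rw [hh₀ h rfl, hh₀ h' h1.symm]
    have hsurj : ∀ (U : Cᵒᵖ) (p : P.P.obj.obj U), Function.Surjective (ψ U p) := by
      intro U p g
      obtain ⟨h, hh⟩ := (ρ.existsUnique_rsmul p (P.smul g p)).exists
      refine ⟨h, ?_⟩
      apply smul_cancel P hP p
      rw [hψ, hh]
    let Φ : Bitors.IsomFamily P H :=
      { φ := fun {U} p => MulEquiv.ofBijective (MonoidHom.mk' (ψ U p) (hmul U p)) ⟨hinj U p, hsurj U p⟩
        map_φ := by
          intro U V f p h
          show G.obj.map f (ψ U p h) = ψ V (P.P.obj.map f p) (H.obj.map f h)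
          apply smul_cancel P hP (P.P.obj.map f p)
          rw [← P.map_smul, hψ, hψ, ρ.map_rsmul]
        φ_smul := by
          intro U g p h
          show ψ U (P.smul g p) h = g * ψ U p h * g⁻¹
          apply smul_cancel P hP (P.smul g p)
          rw [hψ, ← P.mul_smul, inv_mul_cancel_right, ρ.smul_rsmul, P.mul_smul, hψ] }
    refine ⟨Φ, ?_, ?_⟩
    · intro U p h
      exact (hψ U p h).symm
    · intro φ' hφ'
      apply isomFamily_ext
      intro U p x
      apply smul_cancel P hP p
      show P.smul (φ'.φ p x) p = P.smul (ψ U p x) p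
      rw [← hφ', hψ]
  · intro φ
    let R : Bitors.RightStr P H :=
      { rsmul := fun {U} p h => P.smul (φ.φ p h) p
        rsmul_one := by
          intro U p
          rw [map_one, P.one_smul]
        rsmul_mul := by
          intro U p h h'
          rw [φ.φ_smul, ← P.mul_smul, inv_mul_cancel_right, map_mul]
        map_rsmul := by
          intro U V f p h
          rw [P.map_smul, φ.map_φ]
        smul_rsmul := by
          intro U g p h
          rw [φ.φ_smul, ← P.mul_smul, inv_mul_cancel_right, P.mul_smul]
        existsUnique_rsmul := by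
          intro U p q
          obtain ⟨g, hg, hguniq⟩ := hP U p q
          refine ⟨(φ.φ p).symm g, ?_, ?_⟩
          · show P.smul (φ.φ p ((φ.φ p).symm g)) p = q
            rw [MulEquiv.apply_symm_apply]; exact hg
          · intro h' hh'
            have : φ.φ p h' = g := hguniq _ hh'
            rw [← this, MulEquiv.symm_apply_apply] }
    refine ⟨R, ?_, ?_⟩
    · intro U p h
      rfl
    · intro ρ' hρ'
      apply rightStr_ext
      intro U p x
      rw [hρ']

end Groth.Agent.S15412
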