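import Groth.Statements.S15414
-- import your own Groth.Agent.* helpers here
import Mathlib
import Groth.Agent.S15413

set_option autoImplicit false
universe w v u
open CategoryTheory Opposite
open Bitors

namespace Groth.Agent.S15414

variable {C : Type u} [Category.{v} C] {J : GrothendieckTopology C}

/-- cancellation in a pseudo-torsor -/
lemma smul_cancel' {G : Sheaf J GrpCat.{w}} (P : NonAbH1.GSheaf G) (hP : P.IsPseudoTorsor)
    {U : Cᵒᵖ} (p : P.P.obj.obj U) (g g' : G.obj.obj U) (h : P.smul g p = P.smul g' p) : g = g' := by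
  obtain ⟨g₀, _, hg₀⟩ := hP U p (P.smul g p)
  rw [hg₀ g rfl, hg₀ g' h.symm]

/-- a sheaf of groups is separated -/
lemma grp_sep (G : Sheaf J GrpCat.{w}) (X : C) (S : J.Cover X) (x y : G.obj.obj (op X))
    (h : ∀ I : S.Arrow, G.obj.map I.f.op x = G.obj.map I.f.op y) : x = y := by
  let Γ := G.obj.obj (op X)
  let e : Γ → (ULift.{w} (Multiplicative ℤ) →* Γ) := fun z =>
    (zpowersHom Γ z).comp (MulEquiv.ulift (α := Multiplicative ℤ)).toMonoidHom
  have he : ∀ z : Γ, e z (ULift.up (Multiplicative.ofAdd 1)) = z := by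
    intro z
    show z ^ Multiplicative.toAdd (Multiplicative.ofAdd (1 : ℤ)) = z
    simp
  have key : (GrpCat.ofHom (e x) : GrpCat.of (ULift.{w} (Multiplicative ℤ)) ⟶ G.obj.obj (op X)) =
      GrpCat.ofHom (e y) := by
    refine G.2.hom_ext S _ _ ?_
    intro I
    ext n
    show G.obj.map I.f.op (e x n) = G.obj.map I.f.op (e y n)
    simp only [e, MonoidHom.comp_apply, zpowersHom_apply, map_zpow, h I]
  have := congrArg (fun φ => φ.hom (ULift.up (Multiplicative.ofAdd 1))) key
  simpa [he] using this

/-- On a site, let G and H be sheaves of groups and P, P' sheaves of sets with left G-actions, simply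
transitive on every set of sections, carrying right H-actions ρ, ρ' (compatible with restriction,
commuting with G, simply transitive section-wise) given by families of group isomorphisms φ, φ'
through p · h = φ_p(h) · p and p' · h = φ'_{p'}(h) · p'. Let Y be an object that covers the site
(for every object U the arrows V → U whose source admits a morphism to Y form a covering sieve), let
p and p' be sections of P and P' over Y, let f : P → P' be a G-equivariant morphism of sheaves and g
a section of G over Y with f(p) = g · p'. Then f commutes with the right H-actions if and only if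
φ_{p|V}(h) = g|_V φ'_{p'|V}(h) (g|_V)⁻¹ for every object V with a morphism to Y, along which p, p'
and g are restricted, and every section h of H over V; that is, the isomorphism family of p equals
the conjugate by g of the isomorphism family of p', as isomorphisms between the sheaves H and G
restricted over Y. (The published statement takes P and P' to be (G, H)-bitorsors trivialised by a
section over a cover Y → S; only the simple transitivity of the G-actions on sections and the
covering property of Y enter.) -/
theorem result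
    {C : Type u} [Category.{v} C] {J : GrothendieckTopology C}
    (G H : Sheaf J GrpCat.{w}) (P P' : NonAbH1.GSheaf G)
    (hP : P.IsPseudoTorsor) (hP' : P'.IsPseudoTorsor)
    (ρ : Bitors.RightStr P H) (ρ' : Bitors.RightStr P' H)
    (φ : Bitors.IsomFamily P H) (φ' : Bitors.IsomFamily P' H)
    (hρ : ∀ (U : Cᵒᵖ) (q : P.P.obj.obj U) (h : H.obj.obj U), ρ.rsmul q h = P.smul (φ.φ q h) q)
    (hρ' : ∀ (U : Cᵒᵖ) (q : P'.P.obj.obj U) (h : H.obj.obj U), ρ'.rsmul q h = P'.smul (φ'.φ q h) q)
    (Y : C) (hY : J.CoversTop (fun _ : PUnit.{w + 1} => Y))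
    (p : P.P.obj.obj (op Y)) (p' : P'.P.obj.obj (op Y)) (f : P ⟶ P') (g : G.obj.obj (op Y))
    (hg : f.hom.hom.app (op Y) p = P'.smul g p') :
    (∀ (U : Cᵒᵖ) (q : P.P.obj.obj U) (h : H.obj.obj U),
        f.hom.hom.app U (ρ.rsmul q h) = ρ'.rsmul (f.hom.hom.app U q) h) ↔
      ∀ (V : C) (t : V ⟶ Y) (h : H.obj.obj (op V)),
        φ.φ (P.P.obj.map t.op p) h =
          G.obj.map t.op g * φ'.φ (P'.P.obj.map t.op p') h * (G.obj.map t.op g)⁻¹ := by
  rw [Groth.Agent.S15413.result G H P P' hP' ρ ρ' φ φ' hρ hρ' f]
  constructor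
  · intro hφ V t h
    rw [hφ]
    have hnat : f.hom.hom.app (op V) (P.P.obj.map t.op p) = P'.P.obj.map t.op (f.hom.hom.app (op Y) p) :=
      NatTrans.naturality_apply f.hom.hom t.op p
    rw [hnat, hg, P'.map_smul, φ'.φ_smul]
  · intro hconj U q h
    obtain ⟨X⟩ := U
    refine grp_sep G X (hY.cover X) _ _ ?_
    rintro ⟨V, s, ⟨i, ⟨t⟩⟩⟩
    show G.obj.map s.op (φ.φ q h) = G.obj.map s.op (φ'.φ (f.hom.hom.app (op X) q) h)
    rw [φ.map_φ, φ'.map_φ]
    have hnat : P'.P.obj.map s.op (f.hom.hom.app (op X) q) = f.hom.hom.app (op V) (P.P.obj.map s.op q) :=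
      (NatTrans.naturality_apply f.hom.hom s.op q).symm
    rw [hnat]
    -- compare q|V with p|V
    obtain ⟨a, ha⟩ := (hP (op V) (P.P.obj.map t.op p) (P.P.obj.map s.op q)).exists
    have hnat2 : f.hom.hom.app (op V) (P.P.obj.map t.op p) = P'.P.obj.map t.op (f.hom.hom.app (op Y) p) :=
      NatTrans.naturality_apply f.hom.hom t.op p
    rw [← ha, f.map_smul, hnat2, hg, P'.map_smul, φ.φ_smul, φ'.φ_smul, φ'.φ_smul, hconj]

end Groth.Agent.S15414
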