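import Mathlib
import Groth.Agent.Lib.Helper20.GrWeakReg2
import Groth.Statements.S15419
-- import your own Groth.Agent.* helpers here

set_option autoImplicit false
universe u
open GrLC

open Groth.Agent.Lib.Helper20.GrConv Groth.Agent.Lib.Helper20.GrWeakReg Groth.Agent.Lib.Helper20.GrWeakReg2

namespace Groth.Agent.S15419

/-- Let k be a field, S = k[x_0, …, x_r] graded by degree, 𝔪 = (x_0, …, x_r), M a finitely generated
ℤ-graded S-module and x a linear form (x ∈ S_1) that is quasi-regular on M: the submodule of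
elements of M killed by x has finite length. Let N = M/xM, given as a graded module with a
surjective degree-preserving S-linear map π : M → N whose kernel is xM; graded local cohomology of M
and of N is computed from *injective resolutions in the graded category. If M is weakly d-regular,
that is H^i_𝔪(M) vanishes in degree d − i + 1 for every i > 0, then N is weakly d-regular. -/
theorem result (k : Type u) [Field k] (r : ℕ)
    (M : Type u) [AddCommGroup M] [Module k M] [Module (MvPolynomial (Fin (r + 1)) k) M]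
    [IsScalarTower k (MvPolynomial (Fin (r + 1)) k) M] [Module.Finite (MvPolynomial (Fin (r + 1)) k) M]
    (ℳ : ℤ → Submodule k M) [DirectSum.Decomposition ℳ] [SetLike.GradedSMul (GrSyz.stdGr k (Fin (r + 1))) ℳ]
    (x : MvPolynomial (Fin (r + 1)) k) (hx : x ∈ GrSyz.stdGr k (Fin (r + 1)) 1)
    (hq : IsFiniteLength (MvPolynomial (Fin (r + 1)) k) ↥(Submodule.torsionBy (MvPolynomial (Fin (r + 1)) k) M x))
    (N : Type u) [AddCommGroup N] [Module k N] [Module (MvPolynomial (Fin (r + 1)) k) N]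
    [IsScalarTower k (MvPolynomial (Fin (r + 1)) k) N] [Module.Finite (MvPolynomial (Fin (r + 1)) k) N]
    (𝒩 : ℤ → Submodule k N) [DirectSum.Decomposition 𝒩] [SetLike.GradedSMul (GrSyz.stdGr k (Fin (r + 1))) 𝒩]
    (π : M →ₗ[MvPolynomial (Fin (r + 1)) k] N) (hπ : Function.Surjective π) (hπg : GrLC.IsGrHom ℳ 𝒩 π)
    (hker : LinearMap.ker π = LinearMap.range (x • (LinearMap.id : M →ₗ[MvPolynomial (Fin (r + 1)) k] M)))
    (E : GrLC.StarInjRes (GrSyz.stdGr k (Fin (r + 1))) ℳ) (E' : GrLC.StarInjRes (GrSyz.stdGr k (Fin (r + 1))) 𝒩) (d : ℤ)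
    (hM : ∀ i : ℕ, 0 < i → E.Hcomp (GrSyz.irrel (GrSyz.stdGr k (Fin (r + 1)))) i (d - (i : ℤ) + 1) = ⊥) (i : ℕ) (hi : 0 < i) :
    E'.Hcomp (GrSyz.irrel (GrSyz.stdGr k (Fin (r + 1)))) i (d - (i : ℤ) + 1) = ⊥ := by
  classical
  have hpos : ∀ n : ℤ, n < 0 → toAS (GrSyz.stdGr k (Fin (r + 1))) n = ⊥ := by
    intro n hn
    rw [eq_bot_iff]
    intro p hp
    rw [AddSubgroup.mem_bot]
    exact stdGr_eq_bot k (Fin (r + 1)) n hn p hp
  have hKtors : ∀ m : M, x • m = 0 →
      m ∈ GrLC.gam (idealTo (GrSyz.stdGr k (Fin (r + 1)))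
        (GrSyz.irrel (GrSyz.stdGr k (Fin (r + 1))))).toIdeal M :=
    fun m hm => mem_gam_of_isFiniteLength (toAS (GrSyz.stdGr k (Fin (r + 1)))) (toAS ℳ) hpos _ rfl
      x hx hq m hm
  have hπg' : GrLC.IsGrHom (toAS ℳ) (toAS 𝒩) π := fun n m hm => hπg n m hm
  have hker' : LinearMap.ker π =
      LinearMap.range (LinearMap.lsmul (MvPolynomial (Fin (r + 1)) k) M x) := by
    rw [hker]
    rfl
  refine (Hcomp_eq_bot_iff (GrSyz.stdGr k (Fin (r + 1))) 𝒩 E' _ i _).1 ?_
  exact Hcomp_quotient_eq_bot_of_weaklyRegular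
    (idealTo (GrSyz.stdGr k (Fin (r + 1))) (GrSyz.irrel (GrSyz.stdGr k (Fin (r + 1)))))
    x hx hKtors π hπ hπg' hker' (resTo (GrSyz.stdGr k (Fin (r + 1))) ℳ E)
    (resTo (GrSyz.stdGr k (Fin (r + 1))) 𝒩 E') d
    (fun j hj => (Hcomp_eq_bot_iff (GrSyz.stdGr k (Fin (r + 1))) ℳ E _ j _).2 (hM j hj)) i hi

end Groth.Agent.S15419
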