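import Mathlib
import Groth.Agent.Lib.Helper20.GrPolyStd
import Groth.Agent.S15419
import Groth.Statements.S15420
-- import your own Groth.Agent.* helpers here

set_option autoImplicit false
universe u
open GrLC

open Groth.Agent.Lib.Helper20.GrConv Groth.Agent.Lib.Helper20.GrWeakReg2 Groth.Agent.Lib.Helper20.GrPolyStd Groth.Agent.Lib.Helper20.GrReg1

namespace Groth.Agent.S15420

/-- Let k be a field, S = k[x_0, …, x_r] graded by degree, 𝔪 = (x_0, …, x_r), M a finitely generated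
ℤ-graded S-module, x ∈ S_1 a linear form quasi-regular on M (the elements of M killed by x form a
submodule of finite length), and N = M/xM, given as a graded module with a surjective
degree-preserving S-linear map π : M → N with kernel xM; graded local cohomology is computed from
*injective resolutions in the graded category. Call a module d-regular when H^0_𝔪 of it has no
nonzero piece in degrees above d and H^i_𝔪 of it vanishes in degree d − i + 1 for every i > 0. Then
M is d-regular if and only if N is d-regular and H^0_𝔪(M) has no nonzero piece in degrees above d. -/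
theorem result (k : Type u) [Field k] (r : ℕ)
    (M : Type u) [AddCommGroup M] [Module k M] [Module (MvPolynomial (Fin (r + 1)) k) M]
    [IsScalarTower k (MvPolynomial (Fin (r + 1)) k) M] [Module.Finite (MvPolynomial (Fin (r + 1)) k) M]
    (ℳ : ℤ → Submodule k M) [DirectSum.Decomposition ℳ] [SetLike.GradedSMul (GrSyz.stdGr k (Fin (r + 1))) ℳ]
    (x : MvPolynomial (Fin (r + 1)) k) (hx : x ∈ GrSyz.stdGr k (Fin (r + 1)) 1)
    (hq : IsFiniteLength (MvPolynomial (Fin (r + 1)) k) ↥(Submodule.torsionBy (MvPolynomial (Fin (r + 1)) k) M x))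
    (N : Type u) [AddCommGroup N] [Module k N] [Module (MvPolynomial (Fin (r + 1)) k) N]
    [IsScalarTower k (MvPolynomial (Fin (r + 1)) k) N] [Module.Finite (MvPolynomial (Fin (r + 1)) k) N]
    (𝒩 : ℤ → Submodule k N) [DirectSum.Decomposition 𝒩] [SetLike.GradedSMul (GrSyz.stdGr k (Fin (r + 1))) 𝒩]
    (π : M →ₗ[MvPolynomial (Fin (r + 1)) k] N) (hπ : Function.Surjective π) (hπg : GrLC.IsGrHom ℳ 𝒩 π)
    (hker : LinearMap.ker π = LinearMap.range (x • (LinearMap.id : M →ₗ[MvPolynomial (Fin (r + 1)) k] M)))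
    (E : GrLC.StarInjRes (GrSyz.stdGr k (Fin (r + 1))) ℳ) (E' : GrLC.StarInjRes (GrSyz.stdGr k (Fin (r + 1))) 𝒩) (d : ℤ) :
    (GrLC.endDeg (E.Hgr (GrSyz.irrel (GrSyz.stdGr k (Fin (r + 1)))) 0) ≤ ((d : WithTop ℤ) : WithBot (WithTop ℤ)) ∧ ∀ i : ℕ, 0 < i → E.Hcomp (GrSyz.irrel (GrSyz.stdGr k (Fin (r + 1)))) i (d - (i : ℤ) + 1) = ⊥) ↔
      ((GrLC.endDeg (E'.Hgr (GrSyz.irrel (GrSyz.stdGr k (Fin (r + 1)))) 0) ≤ ((d : WithTop ℤ) : WithBot (WithTop ℤ)) ∧ ∀ i : ℕ, 0 < i → E'.Hcomp (GrSyz.irrel (GrSyz.stdGr k (Fin (r + 1)))) i (d - (i : ℤ) + 1) = ⊥) ∧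
        GrLC.endDeg (E.Hgr (GrSyz.irrel (GrSyz.stdGr k (Fin (r + 1)))) 0) ≤ ((d : WithTop ℤ) : WithBot (WithTop ℤ))) := by
  classical
  have hpos := stdAS_neg k r
  have hKtors : ∀ m : M, x • m = 0 → m ∈ GrLC.gam (irrelAS k r).toIdeal M :=
    fun m hm => mem_gam_of_isFiniteLength (stdAS k r) (toAS ℳ) hpos _ rfl x hx hq m hm
  have hπg' : GrLC.IsGrHom (toAS ℳ) (toAS 𝒩) π := fun n m hm => hπg n m hm
  have hker' : LinearMap.ker π =
      LinearMap.range (LinearMap.lsmul (MvPolynomial (Fin (r + 1)) k) M x) := by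
    rw [hker]
    rfl
  have hl := irrel_eq_span k r
  have hxa := mem_irrel_of_mem_one k r hx
  have hx' : x ∈ stdAS k r 1 := hx
  constructor
  · rintro ⟨h0, hM⟩
    refine ⟨⟨?_, ?_⟩, h0⟩
    · rw [endDeg_le_iff_std k r 𝒩 E' 0 d]
      intro e he
      exact van_zero_quotient (irrelAS k r) (varList k r) hl x hx' hKtors π hπ hπg' hker' d
        (fun i hi => (van_iff_std k r ℳ E i _).2 (hM i hi)) e he
        ((endDeg_le_iff_std k r ℳ E 0 d).1 h0 e he)
    · exact Groth.Agent.S15419.result k r M ℳ x hx hq N 𝒩 π hπ hπg hker E E' d hM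
  · rintro ⟨⟨h0', hN⟩, h0⟩
    refine ⟨h0, fun i hi => (van_iff_std k r ℳ E i _).1 ?_⟩
    exact van_of_quotient (irrelAS k r) (varList k r) hl x hx' hxa hKtors π hπ hπg' hker' d
      ((endDeg_le_iff_std k r 𝒩 E' 0 d).1 h0')
      (fun i hi => (van_iff_std k r 𝒩 E' i _).2 (hN i hi)) i hi _ le_rfl

end Groth.Agent.S15420
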