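import Mathlib
import Groth.Agent.Lib.Helper20.GrPolyReg2
import Groth.Statements.S15421
-- import your own Groth.Agent.* helpers here

set_option autoImplicit false
universe u
open GrSyz

open Groth.Agent.Lib.Helper20.GrPolyStd Groth.Agent.Lib.Helper20.GrPolyReg Groth.Agent.Lib.Helper20.GrPolyReg2 Groth.Agent.Lib.Helper20.GrReg3

namespace Groth.Agent.S15421

/-- Let k be a field, S = k[x_0, …, x_r] graded by degree, 𝔪 = (x_0, …, x_r), M a finitely generated
ℤ-graded S-module, x ∈ S_1 a linear form quasi-regular on M (the elements of M killed by x form a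
submodule of finite length) and N = M/xM, given as a graded module with a surjective
degree-preserving S-linear map π : M → N with kernel xM. Then reg M = max(end H^0_𝔪(M), reg N),
where reg is the Castelnuovo–Mumford regularity in the sense of minimal graded free resolutions (as
an extended integer, −∞ for the zero module) and end H^0_𝔪(M) is the largest degree of a nonzero
piece of the graded local cohomology H^0_𝔪(M), computed from any *injective resolution of M in the
graded category. (The published statement takes x quasi-regular without repeating that it is a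
linear form; a linear form is meant, as in the proposition it rests on.) -/
theorem result (k : Type u) [Field k] (r : ℕ)
    (M : Type u) [AddCommGroup M] [Module k M] [Module (MvPolynomial (Fin (r + 1)) k) M]
    [IsScalarTower k (MvPolynomial (Fin (r + 1)) k) M] [Module.Finite (MvPolynomial (Fin (r + 1)) k) M]
    (ℳ : ℤ → Submodule k M) [DirectSum.Decomposition ℳ] [SetLike.GradedSMul (GrSyz.stdGr k (Fin (r + 1))) ℳ]
    (x : MvPolynomial (Fin (r + 1)) k) (hx : x ∈ GrSyz.stdGr k (Fin (r + 1)) 1)
    (hq : IsFiniteLength (MvPolynomial (Fin (r + 1)) k) ↥(Submodule.torsionBy (MvPolynomial (Fin (r + 1)) k) M x))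
    (N : Type u) [AddCommGroup N] [Module k N] [Module (MvPolynomial (Fin (r + 1)) k) N]
    [IsScalarTower k (MvPolynomial (Fin (r + 1)) k) N] [Module.Finite (MvPolynomial (Fin (r + 1)) k) N]
    (𝒩 : ℤ → Submodule k N) [DirectSum.Decomposition 𝒩] [SetLike.GradedSMul (GrSyz.stdGr k (Fin (r + 1))) 𝒩]
    (π : M →ₗ[MvPolynomial (Fin (r + 1)) k] N) (hπ : Function.Surjective π) (hπg : GrLC.IsGrHom ℳ 𝒩 π)
    (hker : LinearMap.ker π = LinearMap.range (x • (LinearMap.id : M →ₗ[MvPolynomial (Fin (r + 1)) k] M)))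
    (E : GrLC.StarInjRes (GrSyz.stdGr k (Fin (r + 1))) ℳ) :
    GrSyz.reg (GrSyz.stdGr k (Fin (r + 1))) ℳ (GrSyz.irrel (GrSyz.stdGr k (Fin (r + 1)))).toIdeal =
      GrLC.endDeg (E.Hgr (GrSyz.irrel (GrSyz.stdGr k (Fin (r + 1)))) 0) ⊔ GrSyz.reg (GrSyz.stdGr k (Fin (r + 1))) 𝒩 (GrSyz.irrel (GrSyz.stdGr k (Fin (r + 1)))).toIdeal := by
  classical
  have hpos := stdAS_neg k r
  have hKtors : ∀ m : M, x • m = 0 → m ∈ GrLC.gam (irrelAS k r).toIdeal M :=
    fun m hm => Groth.Agent.Lib.Helper20.GrWeakReg2.mem_gam_of_isFiniteLength (stdAS k r)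
      (Groth.Agent.Lib.Helper20.GrConv.toAS ℳ) hpos _ rfl x hx hq m hm
  have hπg' : GrLC.IsGrHom (Groth.Agent.Lib.Helper20.GrConv.toAS ℳ)
      (Groth.Agent.Lib.Helper20.GrConv.toAS 𝒩) π := fun n m hm => hπg n m hm
  have hker' : LinearMap.ker π =
      LinearMap.range (LinearMap.lsmul (MvPolynomial (Fin (r + 1)) k) M x) := by
    rw [hker]
    rfl
  have hl := irrel_eq_span k r
  have hxa := mem_irrel_of_mem_one k r hx
  have hx' : x ∈ stdAS k r 1 := hx
  apply Groth.Agent.Lib.Helper20.GrPolyReg2.eq_of_forall_le_iff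
  intro m
  rw [sup_le_iff, reg_le_iff_reg2 k r ℳ m, reg_le_iff_reg2 k r 𝒩 m,
    endDeg_le_iff_std k r ℳ E 0 m,
    reg2_iff_quotient (irrelAS k r) (varList k r) hl x hx' hxa hKtors π hπ hπg' hker' m]
  exact and_comm

end Groth.Agent.S15421
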