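import Mathlib
import Groth.Agent.Lib.Helper20.GrPolyReg2
import Groth.Agent.Lib.Helper20.GrReg4
import Groth.Statements.S15425
-- import your own Groth.Agent.* helpers here

set_option autoImplicit false
universe u
open GrSyz

open Groth.Agent.Lib.Helper20.GrPolyStd Groth.Agent.Lib.Helper20.GrPolyReg Groth.Agent.Lib.Helper20.GrPolyReg2 Groth.Agent.Lib.Helper20.GrReg3

namespace Groth.Agent.S15425

/-- Let k be a field, S = k[x_0, …, x_r] graded by degree, 𝔪 = (x_0, …, x_r), M a finitely generated
ℤ-graded S-module and y_1, …, y_t linear forms that form a weakly regular sequence on M (each y_j is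
a non-zerodivisor on M/(y_1, …, y_{j−1})M) with N = M/(y_1, …, y_t)M of finite length; N is given as
a graded module with a surjective degree-preserving S-linear map π : M → N whose kernel is (y_1, …,
y_t)M. Then the Castelnuovo–Mumford regularity of M in the sense of minimal graded free resolutions
equals the largest degree d with N_d ≠ 0 (−∞ when N = 0). (The published statement assumes M
Cohen–Macaulay and the regular sequence maximal; for a regular sequence of linear forms this is the
same as the quotient having finite length, the form used here.) -/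
theorem result (k : Type u) [Field k] (r : ℕ)
    (M : Type u) [AddCommGroup M] [Module k M] [Module (MvPolynomial (Fin (r + 1)) k) M]
    [IsScalarTower k (MvPolynomial (Fin (r + 1)) k) M] [Module.Finite (MvPolynomial (Fin (r + 1)) k) M]
    (ℳ : ℤ → Submodule k M) [DirectSum.Decomposition ℳ] [SetLike.GradedSMul (GrSyz.stdGr k (Fin (r + 1))) ℳ]
    (ys : List (MvPolynomial (Fin (r + 1)) k)) (hys : ∀ y ∈ ys, y ∈ GrSyz.stdGr k (Fin (r + 1)) 1)
    (hreg : RingTheory.Sequence.IsWeaklyRegular M ys)
    (N : Type u) [AddCommGroup N] [Module k N] [Module (MvPolynomial (Fin (r + 1)) k) N]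
    [IsScalarTower k (MvPolynomial (Fin (r + 1)) k) N] [Module.Finite (MvPolynomial (Fin (r + 1)) k) N]
    (𝒩 : ℤ → Submodule k N) [DirectSum.Decomposition 𝒩] [SetLike.GradedSMul (GrSyz.stdGr k (Fin (r + 1))) 𝒩]
    (π : M →ₗ[MvPolynomial (Fin (r + 1)) k] N) (hπ : Function.Surjective π) (hπg : GrLC.IsGrHom ℳ 𝒩 π)
    (hker : LinearMap.ker π = Ideal.ofList ys • (⊤ : Submodule (MvPolynomial (Fin (r + 1)) k) M))
    (hN : IsFiniteLength (MvPolynomial (Fin (r + 1)) k) N) :
    GrSyz.reg (GrSyz.stdGr k (Fin (r + 1))) ℳ (GrSyz.irrel (GrSyz.stdGr k (Fin (r + 1)))).toIdeal = GrLC.endDeg (fun n => (𝒩 n).toAddSubgroup) := by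
  classical
  have hπg' : GrLC.IsGrHom (Groth.Agent.Lib.Helper20.GrConv.toAS ℳ)
      (Groth.Agent.Lib.Helper20.GrConv.toAS 𝒩) π := fun n m hm => hπg n m hm
  apply Groth.Agent.Lib.Helper20.GrPolyReg2.eq_of_forall_le_iff
  intro m
  rw [reg_le_iff_reg2 k r ℳ m, endDeg_toAddSubgroup_le_iff k 𝒩 m]
  exact Groth.Agent.Lib.Helper20.GrReg4.reg2_iff_of_regularSequence (irrelAS k r) (varList k r)
    (irrel_eq_span k r) ys (fun y hy => hys y hy)
    (fun y hy => mem_irrel_of_mem_one k r (hys y hy)) M
    (Groth.Agent.Lib.Helper20.GrConv.toAS ℳ) hreg N (Groth.Agent.Lib.Helper20.GrConv.toAS 𝒩)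
    π hπ hπg' hker (mem_gam_of_isFiniteLength k r 𝒩 hN) m

end Groth.Agent.S15425
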