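import Groth.Statements.S15426
-- import your own Groth.Agent.* helpers here
import Mathlib
import Groth.Agent.Lib.Helper23.ExtLinear

set_option autoImplicit false
universe u
open LocCoh

namespace Groth.Agent.S15426

open CategoryTheory CategoryTheory.Limits Opposite

/-- Let A be a commutative ring, I an ideal, M an A-module and i ≥ 0. Every element of the local
cohomology module H^i_I(M), the direct limit over n of Ext^i_A(A/I^n, M), is annihilated by some
power of I. -/
theorem result (A : Type u) [CommRing A] (I : Ideal A) (i : ℕ)
    (M : Type u) [AddCommGroup M] [Module A M] :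
    LocCoh.IsPowerTorsion I (LocCoh.H I i M) := by
  classical
  intro m
  let F := localCohomology.diagram (localCohomology.idealPowersDiagram I) i
  let X := ModuleCat.of A M
  have hcolim : IsColimit (((evaluation _ _).obj X).mapCocone (colimit.cocone F)) :=
    isColimitOfPreserves _ (colimit.isColimit F)
  have : PreservesFilteredColimitsOfSize.{0, 0} (forget (ModuleCat.{u} A)) :=
    preservesSmallestFilteredColimits_of_preservesFilteredColimits.{u, u} _
  have : PreservesColimitsOfShape ℕᵒᵖᵒᵖ (forget (ModuleCat.{u} A)) :=
    PreservesFilteredColimitsOfSize.preserves_filtered_colimits _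
  obtain ⟨j, y, hy⟩ := Concrete.isColimit_exists_rep (F ⋙ (evaluation _ _).obj X) hcolim m
  refine ⟨j.unop.unop, fun a ha => ?_⟩
  have hy0 : a • y = 0 :=
    Groth.Agent.Lib.Helper23.ExtLinear.ext_quotient_smul_eq_zero (I ^ j.unop.unop) X i a ha y
  subst hy
  exact (map_smul (ConcreteCategory.hom
    ((((evaluation _ _).obj X).mapCocone (colimit.cocone F)).ι.app j)) a y).symm.trans
      (by rw [hy0, map_zero]; rfl)

end Groth.Agent.S15426
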