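import Groth.Statements.S15427
-- import your own Groth.Agent.* helpers here
import Mathlib

set_option autoImplicit false
universe u
open GrSyz

namespace Groth.Agent.S15427

theorem L1 {R N ι : Type*} [CommRing R] [AddCommGroup N] [Module R N] [Fintype ι] [DecidableEq ι]
    (w : ι → N) (x : ι → R) (a : ι) (hx : IsUnit (x a)) (h : ∑ a', x a' • w a' = 0) :
    w a ∈ Submodule.span R (w '' {a' | a' ≠ a}) := by
  obtain ⟨u, hu⟩ := hx
  have h1 : x a • w a = - ∑ a' ∈ Finset.univ.erase a, x a' • w a' := by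
    rw [eq_neg_iff_add_eq_zero]
    have := Finset.add_sum_erase Finset.univ (fun a' => x a' • w a') (Finset.mem_univ a)
    rw [this]
    exact h
  have h2 : w a = (↑u⁻¹ : R) • (x a • w a) := by
    rw [← hu, smul_smul, Units.inv_mul, one_smul]
  rw [h2, h1]
  apply Submodule.smul_mem
  apply Submodule.neg_mem
  apply Submodule.sum_mem
  intro a' ha'
  apply Submodule.smul_mem
  apply Submodule.subset_span
  exact ⟨a', Finset.ne_of_mem_erase ha', rfl⟩

theorem L2 {R N ι : Type*} [CommRing R] [AddCommGroup N] [Module R N] [Fintype ι] [DecidableEq ι]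
    (w : ι → N) (b : ι) (h : w b ∈ Submodule.span R (w '' {b' | b' ≠ b})) :
    ∃ v : ι → R, v b = 1 ∧ ∑ b', v b' • w b' = 0 := by
  rw [Finsupp.mem_span_image_iff_linearCombination] at h
  obtain ⟨l, hl, hlw⟩ := h
  have hlb : l b = 0 := by
    by_contra hne
    have hb : b ∈ l.support := Finsupp.mem_support_iff.mpr hne
    exact ((Finsupp.mem_supported _ _).mp hl hb) rfl
  refine ⟨fun b' => (Pi.single b 1 : ι → R) b' - l b', by simp [hlb], ?_⟩
  rw [Finsupp.linearCombination_apply, Finsupp.sum_fintype _ _ (by simp)] at hlw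
  simp only [sub_smul, Finset.sum_sub_distrib, hlw]
  simp [Pi.single_apply]

theorem mulVec_eq_sum_cols {R m n : Type*} [CommRing R] [Fintype n] (A : Matrix m n R) (v : n → R) :
    A.mulVec v = ∑ j, v j • (fun i => A i j) := by
  ext i
  simp [Matrix.mulVec, dotProduct, Finset.sum_apply, mul_comm]

theorem weight_le_zero (r : ℕ) (m : Fin (r + 1) →₀ ℕ)
    (h : Finsupp.weight (fun _ : Fin (r + 1) => (1 : ℤ)) m ≤ 0) : m = 0 := by
  have hsum : Finsupp.weight (fun _ : Fin (r + 1) => (1 : ℤ)) m = ∑ j, (m j : ℤ) := by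
    rw [Finsupp.weight_apply, Finsupp.sum_fintype _ _ (by simp)]
    simp
  have hge : (0 : ℤ) ≤ ∑ j, (m j : ℤ) := Finset.sum_nonneg (fun j _ => by positivity)
  have hw0 : ∑ j, (m j : ℤ) = 0 := by
    rw [hsum] at h
    omega
  ext j
  have := (Finset.sum_eq_zero_iff_of_nonneg (fun j _ => by positivity)).mp hw0 j (Finset.mem_univ j)
  simpa using this

theorem hcc (k : Type u) [Field k] (r : ℕ) :
    ∀ p ∈ (GrSyz.irrel (GrSyz.stdGr k (Fin (r + 1)))).toIdeal,
      MvPolynomial.constantCoeff p = 0 := by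
  intro p hp
  have hle : (GrSyz.irrel (GrSyz.stdGr k (Fin (r + 1)))).toIdeal ≤
      RingHom.ker (MvPolynomial.constantCoeff (R := k) (σ := Fin (r + 1))) := by
    change Ideal.span {q : MvPolynomial (Fin (r + 1)) k |
      ∃ n : ℤ, 0 < n ∧ q ∈ GrSyz.stdGr k (Fin (r + 1)) n} ≤ _
    rw [Ideal.span_le]
    rintro q ⟨n, hn, hq⟩
    rw [SetLike.mem_coe, RingHom.mem_ker]
    rw [GrSyz.mem_stdGr_iff] at hq
    rw [MvPolynomial.constantCoeff_eq]
    apply hq.coeff_eq_zero
    simp only [map_zero]
    exact hn.ne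
  exact hle hp

theorem one_not_mem (k : Type u) [Field k] (r : ℕ) :
    (1 : MvPolynomial (Fin (r + 1)) k) ∉ (GrSyz.irrel (GrSyz.stdGr k (Fin (r + 1)))).toIdeal := by
  intro h1
  have h0 := hcc k r 1 h1
  simp at h0

theorem L4 (k : Type u) [Field k] (r : ℕ) (n : ℤ) (p : MvPolynomial (Fin (r + 1)) k)
    (hp : p ∈ GrSyz.stdGr k (Fin (r + 1)) n)
    (hnot : p ∉ (GrSyz.irrel (GrSyz.stdGr k (Fin (r + 1)))).toIdeal) : IsUnit p := by
  have hn : n ≤ 0 := by
    by_contra hn
    push Not at hn
    apply hnot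
    change p ∈ Ideal.span {q : MvPolynomial (Fin (r + 1)) k |
      ∃ n : ℤ, 0 < n ∧ q ∈ GrSyz.stdGr k (Fin (r + 1)) n}
    exact Ideal.subset_span ⟨n, hn, hp⟩
  rw [GrSyz.mem_stdGr_iff] at hp
  have hpC : p = MvPolynomial.C (MvPolynomial.coeff 0 p) := by
    ext m
    rw [MvPolynomial.coeff_C]
    split_ifs with hm
    · rw [← hm]
    · by_contra hne
      have hw := hp hne
      apply hm
      symm
      apply weight_le_zero
      rw [hw]
      exact hn
  have hc : MvPolynomial.coeff 0 p ≠ 0 := by
    intro h0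
    apply hnot
    rw [hpC, h0, map_zero]
    exact Submodule.zero_mem _
  rw [hpC]
  exact (isUnit_iff_ne_zero.mpr hc).map MvPolynomial.C

/-- Let k be a field, S = k[x_0, …, x_r] graded by degree, 𝔪 = (x_0, …, x_r), M a finitely generated
ℤ-graded S-module and F a graded free resolution of M by free modules of finite rank with chosen
homogeneous bases, written as matrices d_i : F_{i+1} → F_i together with the images aug b ∈ M of the
basis of F_0. Then F is a minimal complex (every matrix entry lies in 𝔪) if and only if every map of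
the resolution carries its basis to an irredundant (minimal) family of generators of its image: for
each b, aug b is not in the S-span of the remaining aug b', and for each i and each column of d_i,
that column is not in the S-span of the remaining columns. -/
theorem result (k : Type u) [Field k] (r : ℕ)
    (M : Type u) [AddCommGroup M] [Module k M] [Module (MvPolynomial (Fin (r + 1)) k) M]
    [IsScalarTower k (MvPolynomial (Fin (r + 1)) k) M] [Module.Finite (MvPolynomial (Fin (r + 1)) k) M]
    (ℳ : ℤ → Submodule k M) [DirectSum.Decomposition ℳ] [SetLike.GradedSMul (GrSyz.stdGr k (Fin (r + 1))) ℳ]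
    (F : GrSyz.FreeRes (GrSyz.stdGr k (Fin (r + 1))) ℳ) :
    F.IsMinimal (GrSyz.irrel (GrSyz.stdGr k (Fin (r + 1)))).toIdeal ↔
      ((∀ b : Fin (F.rk 0), F.aug b ∉ Submodule.span (MvPolynomial (Fin (r + 1)) k) (F.aug '' {b' | b' ≠ b})) ∧
        ∀ (i : ℕ) (b : Fin (F.rk (i + 1))),
          (fun a => F.d i a b) ∉ Submodule.span (MvPolynomial (Fin (r + 1)) k) ((fun b' a => F.d i a b') '' {b' | b' ≠ b})) := by
  classical
  constructor
  · intro hF
    refine ⟨fun b hb => ?_, fun i b hb => ?_⟩
    · obtain ⟨v, hvb, hv⟩ := L2 F.aug b hb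
      have hker : v ∈ LinearMap.ker
          (Fintype.linearCombination (MvPolynomial (Fin (r + 1)) k) F.aug) := by
        rw [LinearMap.mem_ker, Fintype.linearCombination_apply]
        exact hv
      rw [F.exact_zero] at hker
      obtain ⟨u, hu⟩ := hker
      have hmem : v b ∈ (GrSyz.irrel (GrSyz.stdGr k (Fin (r + 1)))).toIdeal := by
        rw [← hu, Matrix.mulVecLin_apply]
        simp only [Matrix.mulVec, dotProduct]
        exact Ideal.sum_mem _ (fun c _ => Ideal.mul_mem_right _ _ (hF 0 b c))
      rw [hvb] at hmem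
      exact one_not_mem k r hmem
    · obtain ⟨v, hvb, hv⟩ := L2 (fun b' a => F.d i a b') b hb
      have hker : v ∈ LinearMap.ker (Matrix.mulVecLin (F.d i)) := by
        rw [LinearMap.mem_ker, Matrix.mulVecLin_apply, mulVec_eq_sum_cols]
        exact hv
      rw [F.exact_succ i] at hker
      obtain ⟨u, hu⟩ := hker
      have hmem : v b ∈ (GrSyz.irrel (GrSyz.stdGr k (Fin (r + 1)))).toIdeal := by
        rw [← hu, Matrix.mulVecLin_apply]
        simp only [Matrix.mulVec, dotProduct]
        exact Ideal.sum_mem _ (fun c _ => Ideal.mul_mem_right _ _ (hF (i + 1) b c))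
      rw [hvb] at hmem
      exact one_not_mem k r hmem
  · rintro ⟨h0, h1⟩ i a b
    by_contra hnot
    have hunit := L4 k r _ _ (F.d_mem i a b) hnot
    have hcol : (fun a' => F.d i a' b) ∈ LinearMap.range (Matrix.mulVecLin (F.d i)) :=
      ⟨Pi.single b 1, by rw [Matrix.mulVecLin_apply, Matrix.mulVec_single_one]; rfl⟩
    cases i with
    | zero =>
      rw [← F.exact_zero, LinearMap.mem_ker, Fintype.linearCombination_apply] at hcol
      exact h0 a (L1 F.aug (fun a' => F.d 0 a' b) a hunit hcol)
    | succ j =>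
      rw [← F.exact_succ j, LinearMap.mem_ker, Matrix.mulVecLin_apply, mulVec_eq_sum_cols] at hcol
      exact h1 j a (L1 (fun b' a'' => F.d j a'' b') (fun a' => F.d (j + 1) a' b) a hunit hcol)

end Groth.Agent.S15427
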