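import Groth.Statements.S15431
-- import your own Groth.Agent.* helpers here
import Mathlib

set_option autoImplicit false
universe u
open GrSyz

namespace Groth.Agent.S15431



/-- Let k be a field, S = k[x_0, …, x_r] graded by degree, 𝔪 = (x_0, …, x_r), M a finitely generated
ℤ-graded S-module and F a minimal graded free resolution of M by free modules of finite rank with
homogeneous bases (all matrix entries in 𝔪), so that its basis degrees give the graded Betti
numbers. If for some i the graded Betti numbers β_{i,j} vanish for all j < d, that is every basis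
vector of F_i has degree at least d, then β_{i+1,j+1} = 0 for all j < d: every basis vector of
F_{i+1} has degree at least d + 1. -/
theorem result (k : Type u) [Field k] (r : ℕ)
    (M : Type u) [AddCommGroup M] [Module k M] [Module (MvPolynomial (Fin (r + 1)) k) M]
    [IsScalarTower k (MvPolynomial (Fin (r + 1)) k) M] [Module.Finite (MvPolynomial (Fin (r + 1)) k) M]
    (ℳ : ℤ → Submodule k M) [DirectSum.Decomposition ℳ] [SetLike.GradedSMul (GrSyz.stdGr k (Fin (r + 1))) ℳ]
    (F : GrSyz.FreeRes (GrSyz.stdGr k (Fin (r + 1))) ℳ) (hF : F.IsMinimal (GrSyz.irrel (GrSyz.stdGr k (Fin (r + 1)))).toIdeal) (i : ℕ) (d : ℤ)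
    (h : ∀ a : Fin (F.rk i), d ≤ F.deg i a) (b : Fin (F.rk (i + 1))) :
    d + 1 ≤ F.deg (i + 1) b := by
  classical
  have hcc : ∀ p ∈ (GrSyz.irrel (GrSyz.stdGr k (Fin (r + 1)))).toIdeal,
      MvPolynomial.constantCoeff p = 0 := by
    intro p hp
    have hle : (GrSyz.irrel (GrSyz.stdGr k (Fin (r + 1)))).toIdeal ≤
        RingHom.ker (MvPolynomial.constantCoeff (R := k) (σ := Fin (r + 1))) := by
      change Ideal.span {q : MvPolynomial (Fin (r + 1)) k |
        ∃ n : ℤ, 0 < n ∧ q ∈ GrSyz.stdGr k (Fin (r + 1)) n} ≤ _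
      rw [Ideal.span_le]
      rintro q ⟨n, hn, hq⟩
      rw [SetLike.mem_coe, RingHom.mem_ker]
      rw [GrSyz.mem_stdGr_iff] at hq
      rw [MvPolynomial.constantCoeff_eq]
      apply hq.coeff_eq_zero
      simp only [map_zero]
      exact hn.ne
    exact hle hp
  have hcol : ∃ a, F.d i a b ≠ 0 := by
    by_contra hne
    push_neg at hne
    have hker : (Pi.single b (1 : MvPolynomial (Fin (r + 1)) k) :
        Fin (F.rk (i + 1)) → MvPolynomial (Fin (r + 1)) k) ∈
        LinearMap.ker (Matrix.mulVecLin (F.d i)) := by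
      rw [LinearMap.mem_ker, Matrix.mulVecLin_apply, Matrix.mulVec_single_one]
      ext a
      simp [hne a]
    rw [F.exact_succ i] at hker
    obtain ⟨v, hv⟩ := hker
    have h1 : (1 : MvPolynomial (Fin (r + 1)) k) ∈
        (GrSyz.irrel (GrSyz.stdGr k (Fin (r + 1)))).toIdeal := by
      have hb := congrFun hv b
      rw [Matrix.mulVecLin_apply, Pi.single_eq_same] at hb
      rw [← hb]
      simp only [Matrix.mulVec, dotProduct]
      exact Ideal.sum_mem _ (fun c _ => Ideal.mul_mem_right _ _ (hF (i + 1) b c))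
    have h0 := hcc 1 h1
    simp at h0
  obtain ⟨a, ha⟩ := hcol
  have hmem := F.d_mem i a b
  rw [GrSyz.mem_stdGr_iff] at hmem
  obtain ⟨m, hm⟩ := MvPolynomial.ne_zero_iff.mp ha
  have hw := hmem hm
  have hsum : Finsupp.weight (fun _ : Fin (r + 1) => (1 : ℤ)) m = ∑ j, (m j : ℤ) := by
    rw [Finsupp.weight_apply, Finsupp.sum_fintype _ _ (by simp)]
    simp
  by_contra hlt
  push_neg at hlt
  have hn : F.deg (i + 1) b - F.deg i a ≤ 0 := by
    have := h a
    omega
  have hge : (0 : ℤ) ≤ ∑ j, (m j : ℤ) := Finset.sum_nonneg (fun j _ => by positivity)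
  have hw0 : ∑ j, (m j : ℤ) = 0 := by
    rw [hsum] at hw
    omega
  have hm0 : m = 0 := by
    ext j
    have := (Finset.sum_eq_zero_iff_of_nonneg (fun j _ => by positivity)).mp hw0 j (Finset.mem_univ j)
    simpa using this
  have hc := hcc _ (hF i a b)
  rw [MvPolynomial.constantCoeff_eq] at hc
  rw [hm0] at hm
  exact hm hc

end Groth.Agent.S15431
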