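import Mathlib
import Groth.Agent.Lib.Helper20.HilbBurchDeg
import Groth.Agent.Lib.Helper20.HilbBurchPts
import Groth.Statements.S15432
-- import your own Groth.Agent.* helpers here

set_option autoImplicit false
universe u
open GrSyz

namespace Groth.Agent.S15432

/-- Let k be a field, Z a nonempty finite set of nonzero vectors of k^3, regarded as points of the
projective plane, I ⊆ S = k[x_0, x_1, x_2] the homogeneous vanishing ideal of Z (a polynomial lies
in I exactly when each of its homogeneous components vanishes at every vector of Z), M = S/I given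
as a ℤ-graded S-module with a surjective degree-preserving S-linear map π : S → M with kernel I, and
F a minimal graded free resolution of M of length at most 2 whose terms F_1 and F_2 have ranks t + 1
and t, with basis degrees a_1 ≥ … ≥ a_{t+1} for F_1 and b_1 ≥ … ≥ b_t for F_2 (non-increasing along
the chosen bases), so that the (i, j) entry of the matrix F_2 → F_1 has degree b_j − a_i. Put e_i =
b_i − a_i and f_i = b_i − a_{i+1}. Then e_i ≥ 1 and f_i ≥ 1 for every i, and Σ_i a_i = Σ_j b_j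
(equivalently a_i = Σ_{j < i} e_j + Σ_{j ≥ i} f_j for every i). (The ordering of both bases is the
standing assumption under which the published statement is made; this row carries it as the
hypotheses on the basis degrees. The further inequalities f_i ≥ e_i and f_i ≥ e_{i+1} follow at once
from the ordering and are not restated.) -/
theorem result (k : Type u) [Field k]
    (Z : Finset (Fin 3 → k)) (hZ : ∀ p ∈ Z, p ≠ 0) (hZne : Z.Nonempty) (I : Ideal (MvPolynomial (Fin 3) k))
    (hI : ∀ f : MvPolynomial (Fin 3) k, f ∈ I ↔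
      ∀ p ∈ Z, ∀ j : ℕ, MvPolynomial.eval p (MvPolynomial.homogeneousComponent j f) = 0)
    (M : Type u) [AddCommGroup M] [Module k M] [Module (MvPolynomial (Fin 3) k) M] [IsScalarTower k (MvPolynomial (Fin 3) k) M]
    (ℳ : ℤ → Submodule k M) [DirectSum.Decomposition ℳ] [SetLike.GradedSMul (GrSyz.stdGr k (Fin 3)) ℳ]
    (π : MvPolynomial (Fin 3) k →ₗ[MvPolynomial (Fin 3) k] M) (hπ : Function.Surjective π)
    (hπg : GrLC.IsGrHom (GrSyz.stdGr k (Fin 3)) ℳ π) (hker : LinearMap.ker π = I)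
    (F : GrSyz.FreeRes (GrSyz.stdGr k (Fin 3)) ℳ) (hF : F.IsMinimal (GrSyz.irrel (GrSyz.stdGr k (Fin 3))).toIdeal) (hlen : F.HasLengthLE 2)
    (t : ℕ) (h1 : F.rk 1 = t + 1) (h2 : F.rk 2 = t)
    (ha : ∀ i j : Fin (t + 1), i ≤ j → F.deg 1 (Fin.cast h1.symm j) ≤ F.deg 1 (Fin.cast h1.symm i))
    (hb : ∀ i j : Fin t, i ≤ j → F.deg 2 (Fin.cast h2.symm j) ≤ F.deg 2 (Fin.cast h2.symm i)) :
    (∀ i : Fin t, 1 ≤ F.deg 2 (Fin.cast h2.symm i) - F.deg 1 (Fin.cast h1.symm i.castSucc) ∧
        1 ≤ F.deg 2 (Fin.cast h2.symm i) - F.deg 1 (Fin.cast h1.symm i.succ)) ∧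
      ∑ i : Fin (t + 1), F.deg 1 (Fin.cast h1.symm i) = ∑ j : Fin t, F.deg 2 (Fin.cast h2.symm j) := by
  have hrk : F.rk 1 = F.rk 2 + 1 := by rw [h1, h2]
  have ha' : ∀ i j : Fin (F.rk 1), i ≤ j → F.deg 1 j ≤ F.deg 1 i := by
    intro i j hij
    have := ha (Fin.cast h1 i) (Fin.cast h1 j) (Fin.le_def.2 (Fin.le_def.1 hij))
    simpa using this
  have hb' : ∀ i j : Fin (F.rk 2), i ≤ j → F.deg 2 j ≤ F.deg 2 i := by
    intro i j hij
    have := hb (Fin.cast h2 i) (Fin.cast h2 j) (Fin.le_def.2 (Fin.le_def.1 hij))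
    simpa using this
  refine ⟨fun i => ⟨?_, ?_⟩, ?_⟩
  · exact Groth.Agent.Lib.Helper20.HilbBurchDeg.one_le_e k 2 ℳ F hF hlen hrk ha' hb' i.val
      (by rw [h2]; exact i.2)
  · exact Groth.Agent.Lib.Helper20.HilbBurchDeg.one_le_f k 2 ℳ F hF hlen hrk ha' hb' i.val
      (by rw [h2]; exact i.2)
  · have hsum := Groth.Agent.Lib.Helper20.HilbBurchPts.sum_deg_eq k Z hZne I hI ℳ π hπ hπg hker F
      hlen hrk
    rw [Fintype.sum_equiv (finCongr h1.symm) (fun i : Fin (t + 1) => F.deg 1 (Fin.cast h1.symm i))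
      (fun b : Fin (F.rk 1) => F.deg 1 b) (fun i => rfl),
      Fintype.sum_equiv (finCongr h2.symm) (fun i : Fin t => F.deg 2 (Fin.cast h2.symm i))
      (fun b : Fin (F.rk 2) => F.deg 2 b) (fun i => rfl)]
    exact hsum

end Groth.Agent.S15432
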