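import Mathlib
import Groth.Agent.Lib.Helper20.GrLenCount2
import Groth.Statements.S15433
-- import your own Groth.Agent.* helpers here

set_option autoImplicit false
universe u
open GrSyz

open Groth.Agent.Lib.Helper20.GrPolyStd Groth.Agent.Lib.Helper20.GrPolyReg Groth.Agent.Lib.Helper20.GrPolyReg2 Groth.Agent.Lib.Helper20.GrReg3

namespace Groth.Agent.S15433

/-- Let k be a field, S = k[x_0, …, x_r] graded by degree, 𝔪 = (x_0, …, x_r), and M = S/I a graded
quotient of S, given with a surjective degree-preserving S-linear map π : S → M whose kernel I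
contains no nonzero linear form. Let y_0, …, y_t be linear forms forming a weakly regular sequence
on M (each a non-zerodivisor modulo the previous ones) and N = M/(y_0, …, y_t)M, given as a graded
module with a surjective degree-preserving S-linear map σ : M → N with kernel (y_0, …, y_t)M, and
suppose N has finite length ℓ. Then reg M + (r − t) ≤ ℓ, reg being the Castelnuovo–Mumford
regularity of M in the sense of minimal graded free resolutions. (The published statement is reg S_X
≤ deg X − codim X for an arithmetically Cohen–Macaulay subvariety X of P^r not contained in a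
hyperplane; this row is the algebraic statement its proof establishes, with S_X any graded quotient
of S by an ideal without linear forms, the maximal regular sequence of linear forms given, deg X
replaced by the length of S_X/(y_0, …, y_t)S_X and codim X by r − t, which agree with the degree and
the codimension in that situation.) -/
theorem result (k : Type u) [Field k] (r : ℕ)
    (M : Type u) [AddCommGroup M] [Module k M] [Module (MvPolynomial (Fin (r + 1)) k) M]
    [IsScalarTower k (MvPolynomial (Fin (r + 1)) k) M] [Module.Finite (MvPolynomial (Fin (r + 1)) k) M]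
    (ℳ : ℤ → Submodule k M) [DirectSum.Decomposition ℳ] [SetLike.GradedSMul (GrSyz.stdGr k (Fin (r + 1))) ℳ]
    (π : MvPolynomial (Fin (r + 1)) k →ₗ[MvPolynomial (Fin (r + 1)) k] M) (hπ : Function.Surjective π)
    (hπg : GrLC.IsGrHom (GrSyz.stdGr k (Fin (r + 1))) ℳ π)
    (hlin : ∀ x : MvPolynomial (Fin (r + 1)) k, x ∈ GrSyz.stdGr k (Fin (r + 1)) 1 → π x = 0 → x = 0)
    (ys : List (MvPolynomial (Fin (r + 1)) k)) (hys : ∀ y ∈ ys, y ∈ GrSyz.stdGr k (Fin (r + 1)) 1)
    (hreg : RingTheory.Sequence.IsWeaklyRegular M ys)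
    (N : Type u) [AddCommGroup N] [Module k N] [Module (MvPolynomial (Fin (r + 1)) k) N]
    [IsScalarTower k (MvPolynomial (Fin (r + 1)) k) N]
    (𝒩 : ℤ → Submodule k N) [DirectSum.Decomposition 𝒩] [SetLike.GradedSMul (GrSyz.stdGr k (Fin (r + 1))) 𝒩]
    (σ : M →ₗ[MvPolynomial (Fin (r + 1)) k] N) (hσ : Function.Surjective σ) (hσg : GrLC.IsGrHom ℳ 𝒩 σ)
    (hker : LinearMap.ker σ = Ideal.ofList ys • (⊤ : Submodule (MvPolynomial (Fin (r + 1)) k) M))
    (ℓ : ℕ) (hℓ : Module.length (MvPolynomial (Fin (r + 1)) k) N = (ℓ : ℕ∞)) :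
    GrSyz.reg (GrSyz.stdGr k (Fin (r + 1))) ℳ (GrSyz.irrel (GrSyz.stdGr k (Fin (r + 1)))).toIdeal + ((((r : ℤ) + 1 - (ys.length : ℤ) : ℤ) : WithTop ℤ) : WithBot (WithTop ℤ)) ≤
      (((ℓ : ℤ) : WithTop ℤ) : WithBot (WithTop ℤ)) := by
  classical
  have hl := irrel_eq_span k r
  have hNfin : IsFiniteLength (MvPolynomial (Fin (r + 1)) k) N :=
    Module.length_ne_top_iff.1 (by rw [hℓ]; exact ENat.natCast_ne_top ℓ)
  have htors : ∀ n : N, n ∈ GrLC.gam (irrelAS k r).toIdeal N :=
    mem_gam_of_isFiniteLength k r 𝒩 hNfin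
  obtain ⟨hfin, hrank⟩ := Groth.Agent.Lib.Helper20.GrLenCount.finite_and_finrank_le_of_length_le
    (k := k) (GrSyz.irrel (GrSyz.stdGr k (Fin (r + 1)))).toIdeal
    (Groth.Agent.Lib.Helper20.GrLenCount2.sub_C_mem_irrel k r) ℓ N (fun n => htors n) (le_of_eq hℓ)
  have := hfin
  have hρ : Function.Surjective (σ.comp π) := hσ.comp hπ
  have hρg : GrLC.IsGrHom (GrSyz.stdGr k (Fin (r + 1))) 𝒩 (σ.comp π) :=
    fun j s hs => hσg j _ (hπg j s hs)
  have hker1 : ∀ x : MvPolynomial (Fin (r + 1)) k, x ∈ GrSyz.stdGr k (Fin (r + 1)) 1 →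
      (σ.comp π) x = 0 → x ∈ Submodule.span k {y | y ∈ ys} := by
    intro x hx h0
    apply Groth.Agent.Lib.Helper20.GrLenCount2.mem_span_of_map_mem_smul_top k r ℳ π hπ hπg hlin ys
      hys x hx
    rw [← hker]
    exact h0
  have hσg' : GrLC.IsGrHom (Groth.Agent.Lib.Helper20.GrConv.toAS ℳ)
      (Groth.Agent.Lib.Helper20.GrConv.toAS 𝒩) σ := fun n m hm => hσg n m hm
  have hys1 : ∀ y ∈ ys, y ∈ stdAS k r 1 := hys
  have hysa : ∀ y ∈ ys, y ∈ (irrelAS k r).toIdeal := fun y hy => mem_irrel_of_mem_one k r (hys y hy)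
  rw [Groth.Agent.Lib.Helper20.GrPolyReg.add_le_iff, reg_le_iff_reg2 k r ℳ,
    Groth.Agent.Lib.Helper20.GrReg4.reg2_iff_of_regularSequence (irrelAS k r) (varList k r) hl ys
      hys1 hysa M (Groth.Agent.Lib.Helper20.GrConv.toAS ℳ) hreg N
      (Groth.Agent.Lib.Helper20.GrConv.toAS 𝒩) σ hσ hσg' hker htors]
  intro e he
  by_contra hne
  have hne' : 𝒩 e ≠ ⊥ := by
    intro h
    apply hne
    rw [eq_bot_iff]
    intro z hz
    have hz' : z ∈ 𝒩 e := hz
    rw [h] at hz'
    exact (AddSubgroup.mem_bot).2 ((Submodule.mem_bot _).1 hz')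
  have := Groth.Agent.Lib.Helper20.GrLenCount2.add_le_finrank k r 𝒩 (σ.comp π) hρ hρg ys hker1 e hne'
  omega

end Groth.Agent.S15433
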