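import Groth.Statements.S1544
import Groth.Agent.Lib.Helper14.GeomRedGeneric
import Groth.Agent.Lib.Helper14.GeomRedAtCurv

set_option autoImplicit false
universe u
open CategoryTheory CategoryTheory.Limits AlgebraicGeometry
attribute [local instance] Curv2.resAlgebra Curv2.stalkAlgebra
open Variety

namespace Groth.Agent.S1544

/-- For an integral scheme over k, geometric reducedness of the scheme is equivalent to geometric
reducedness over k of the function field (the local ring at the generic point), i.e. a separable
extension of k in the sense of commutative algebra. The source states this for varieties;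
integrality is what the proof uses. -/
theorem result (k : Type u) [Field k] (X : Scheme.{u}) [X.Over (Spec (CommRingCat.of k))] [IsIntegral X] :
    GeometricallyReduced (X ↘ (Spec (CommRingCat.of k))) ↔ Algebra.IsGeometricallyReduced k X.functionField := by
  constructor
  · intro h
    have h1 := (Groth.Agent.Lib.Helper14.GeomRedAt.geometricallyReduced_iff_forall_isGeomReducedAt
      (X ↘ (Spec (CommRingCat.of k)))).mp h (genericPoint X)
    exact (Groth.Agent.Lib.Helper14.GeomRedAtCurv.isGeomReducedAt_iff_stalk k X (genericPoint X)).mp h1
  · intro h
    apply Groth.Agent.Lib.Helper14.GeomRedGeneric.geometricallyReduced_of_generic_points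
    intro Z hZ η hη
    have hZ' : Z = Set.univ := by
      have := irreducibleComponents_eq_singleton (X := (X : Type u))
      rw [this] at hZ
      exact hZ
    have hgen : IsGenericPoint (genericPoint X) (Set.univ : Set X) := genericPoint_spec X
    rw [hZ'] at hη
    have : η = genericPoint X := hη.eq hgen
    rw [this]
    exact (Groth.Agent.Lib.Helper14.GeomRedAtCurv.isGeomReducedAt_iff_stalk k X (genericPoint X)).mpr h

end Groth.Agent.S1544
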