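import Groth.Statements.S15442
-- import your own Groth.Agent.* helpers here
import Mathlib

set_option autoImplicit false
universe u v
open CategoryTheory AlgebraicGeometry
open WeilCoh

namespace Groth.Agent.S15442



/-- Let H^* be a Weil cohomology theory, with coefficient field K of characteristic zero, on nonsingular
connected projective varieties over the algebraically closed field k, and X such a variety. Then the
structure morphism K → H^0(X) is an isomorphism: c ↦ c · 1 is a bijection from K onto the degree-0
part of the cohomology ring. -/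
theorem result (k : Type u) [Field k] [IsAlgClosed k] (K : Type v) [Field K] [CharZero K]
    (T : WeilCoh.Theory k K) (X : WeilCoh.Var k) :
    Function.Bijective (fun c : K =>
      (⟨c • (1 : T.H X), (T.gr X 0).smul_mem c (SetLike.one_mem_graded (T.gr X))⟩ : ↥(T.gr X 0))) := by
  classical
  have hperf : (WeilCoh.pairing K (T.gr X 0) (T.gr X (2 * (WeilCoh.dim X.obj.left : ℤ)))
      (T.tr X)).IsPerfPair :=
    T.duality X 0 (2 * (WeilCoh.dim X.obj.left : ℤ)) (by omega)
  have hfr : Module.finrank K (T.gr X 0) =
      Module.finrank K (T.gr X (2 * (WeilCoh.dim X.obj.left : ℤ))) :=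
    Module.finrank_of_isPerfPair
      (WeilCoh.pairing K (T.gr X 0) (T.gr X (2 * (WeilCoh.dim X.obj.left : ℤ))) (T.tr X))
  have hbij := T.tr_bijective X
  let e : T.gr X (2 * (WeilCoh.dim X.obj.left : ℤ)) ≃ₗ[K] K := LinearEquiv.ofBijective _ hbij
  have hfr2 : Module.finrank K (T.gr X (2 * (WeilCoh.dim X.obj.left : ℤ))) = 1 := by
    rw [e.finrank_eq, Module.finrank_self]
  have h1 : (1 : T.H X) ≠ 0 := by
    intro h10
    obtain ⟨a, ha⟩ := hbij.2 1
    have ha0 : (a : T.H X) = 0 := by rw [← mul_one (a : T.H X), h10, mul_zero]
    have h2 : (T.tr X).domRestrict (T.gr X (2 * (WeilCoh.dim X.obj.left : ℤ))) a = 0 := by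
      rw [LinearMap.domRestrict_apply, ha0, map_zero]
    rw [ha] at h2
    exact one_ne_zero h2
  let φ : K →ₗ[K] T.gr X 0 :=
    { toFun := fun c => ⟨c • (1 : T.H X),
        (T.gr X 0).smul_mem c (SetLike.one_mem_graded (T.gr X))⟩
      map_add' := fun a b => by
        apply Subtype.ext
        simp [add_smul]
      map_smul' := fun a b => by
        apply Subtype.ext
        simp [mul_smul] }
  change Function.Bijective φ
  have hinj : Function.Injective φ := by
    rw [injective_iff_map_eq_zero]
    intro c hc
    have hc0 : c • (1 : T.H X) = 0 := congrArg Subtype.val hc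
    rcases smul_eq_zero.mp hc0 with h | h
    · exact h
    · exact absurd h h1
  have hfr3 : Module.finrank K K = Module.finrank K (T.gr X 0) := by
    rw [Module.finrank_self, hfr, hfr2]
  exact ⟨hinj, (LinearMap.injective_iff_surjective_of_finrank_eq_finrank hfr3).mp hinj⟩

end Groth.Agent.S15442
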