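import Groth.Statements.S15449
-- import your own Groth.Agent.* helpers here
import Mathlib
import Groth.Agent.Lib.Helper23.WeilCohBasic

set_option autoImplicit false
universe u v
open CategoryTheory AlgebraicGeometry
open WeilCoh

namespace Groth.Agent.S15449



/-- For a Weil cohomology theory H^* (coefficients in K of characteristic zero, on nonsingular connected
projective varieties over an algebraically closed field k), such varieties X and Y with product X ×
Y and projections p, q, and α ∈ H^i(Y): p_*(q^*(α)) = Tr_Y(α) (as a multiple of 1 ∈ H^0(X)) if i = 2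
dim Y, and p_*(q^*(α)) = 0 otherwise. The product is any object Q with morphisms p : Q → X, q : Q →
Y forming a cartesian square over Spec k; both sides are read in the total cohomology ring of X. -/
theorem result (k : Type u) [Field k] [IsAlgClosed k] (K : Type v) [Field K] [CharZero K]
    (T : WeilCoh.Theory k K) (X Y Q : WeilCoh.Var k) (p : Q ⟶ X) (q : Q ⟶ Y)
    (hQ : WeilCoh.IsProd p q) (i : ℤ) (a : ↥(T.gr Y i)) :
    (i = 2 * (WeilCoh.dim Y.obj.left : ℤ) →
      (T.push p i ⟨T.pull q a, T.pull_mem q i a a.2⟩ : T.H X) = algebraMap K (T.H X) (T.tr Y a)) ∧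
    (i ≠ 2 * (WeilCoh.dim Y.obj.left : ℤ) →
      (T.push p i ⟨T.pull q a, T.pull_mem q i a a.2⟩ : T.H X) = 0) := by
  classical
  have hdim : 2 * (WeilCoh.dim X.obj.left : ℤ) + 2 * (WeilCoh.dim Y.obj.left : ℤ) =
      2 * (WeilCoh.dim Q.obj.left : ℤ) := by
    obtain ⟨a0, ha0⟩ := (T.tr_bijective X).2 1
    obtain ⟨b0, hb0⟩ := (T.tr_bijective Y).2 1
    by_contra hne
    have h1 := T.tr_prod p q hQ a0 b0 a0.2 b0.2
    have h2 := T.tr_vanish Q _ (T.pull p a0 * T.pull q b0)
      (SetLike.mul_mem_graded (T.pull_mem p _ _ a0.2) (T.pull_mem q _ _ b0.2)) hne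
    rw [h2] at h1
    have ha1 : T.tr X a0 = 1 := ha0
    have hb1 : T.tr Y b0 = 1 := hb0
    rw [ha1, hb1, mul_one] at h1
    exact zero_ne_one h1
  constructor
  · intro hi
    subst hi
    apply Groth.Agent.Lib.Helper23.WeilCohBasic.eq_of_forall_tr_mul_eq T X 0
      (2 * (WeilCoh.dim X.obj.left : ℤ)) (by omega)
    · have hmem := (T.push p (2 * (WeilCoh.dim Y.obj.left : ℤ))
        ⟨T.pull q a, T.pull_mem q _ a a.2⟩).2
      rw [show (0 : ℤ) = 2 * (WeilCoh.dim Y.obj.left : ℤ) + 2 * (WeilCoh.dim X.obj.left : ℤ) -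
        2 * (WeilCoh.dim Q.obj.left : ℤ) by omega]
      exact hmem
    · rw [Algebra.algebraMap_eq_smul_one]
      exact (T.gr X 0).smul_mem _ (SetLike.one_mem_graded (T.gr X))
    · intro β hβ
      rw [Groth.Agent.Lib.Helper23.WeilCohBasic.tr_push_mul T p _ _ β
        (2 * (WeilCoh.dim X.obj.left : ℤ)) (by omega) hβ]
      change T.tr Q (T.pull q (a : T.H Y) * T.pull p β) = _
      have hev : Even ((2 * (WeilCoh.dim Y.obj.left : ℤ)).natAbs *
          (2 * (WeilCoh.dim X.obj.left : ℤ)).natAbs) := by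
        rw [Int.natAbs_mul]
        exact ((by decide : Even (2 : ℤ).natAbs).mul_right _).mul_right _
      rw [T.gradedComm Q _ _ (T.pull q (a : T.H Y)) (T.pull p β) (T.pull_mem q _ _ a.2)
        (T.pull_mem p _ _ hβ), hev.neg_one_pow, one_smul]
      rw [T.tr_prod p q hQ β a hβ a.2]
      rw [Algebra.algebraMap_eq_smul_one, smul_mul_assoc, one_mul, map_smul, smul_eq_mul, mul_comm]
  · intro hi
    rcases lt_or_gt_of_ne hi with hlt | hgt
    · apply Groth.Agent.Lib.Helper23.WeilCohBasic.eq_of_forall_tr_mul_eq T X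
        (i + 2 * (WeilCoh.dim X.obj.left : ℤ) - 2 * (WeilCoh.dim Q.obj.left : ℤ))
        (2 * (WeilCoh.dim Q.obj.left : ℤ) - i) (by omega)
      · exact Subtype.property _
      · exact Submodule.zero_mem _
      · intro β hβ
        have hbot := T.vanish X (2 * (WeilCoh.dim Q.obj.left : ℤ) - i) (Or.inr (by omega))
        rw [hbot, Submodule.mem_bot] at hβ
        rw [hβ, mul_zero, mul_zero]
    · have hbot := T.vanish Y i (Or.inr hgt)
      have h' : ∀ (S : Submodule K (T.H Y)), S = ⊥ → ∀ x ∈ S, x = 0 := by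
        intro S hS x hx
        rw [hS, Submodule.mem_bot] at hx
        exact hx
      have ha0 : (a : T.H Y) = 0 := h' _ hbot _ a.2
      have harg : (⟨T.pull q a, T.pull_mem q i a a.2⟩ : T.gr Q i) = 0 := by
        apply Subtype.ext
        change T.pull q (a : T.H Y) = 0
        rw [ha0, map_zero]
      rw [harg, map_zero]
      rfl

end Groth.Agent.S15449
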