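import Groth.Statements.S15465
-- import your own Groth.Agent.* helpers here
import Mathlib

set_option autoImplicit false
universe v u
open HomAlg

namespace Groth.Agent.S15465



open CategoryTheory CategoryTheory.Limits in
/-- In an abelian category let 0 → A₂ → B₂ → C₂ → 0 (maps i₂, π₂), 0 → A₁ → A₂ → A₃ → 0 (maps i₁, p₁)
and 0 → C₁ → C₂ → C₃ → 0 (maps j, q) be short exact sequences, let α = i₁ ≫ i₂ : A₁ → B₂ and β = π₂
≫ q : B₂ → C₃, and let K = ker β / im α be the homology object of the complex A₁ → B₂ → C₃. Let f :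
A₃ → K be the map induced by i₂ (the unique map whose composite with p₁ is the homology class of the
cycle i₂) and g : K → C₁ the map induced by π₂ (the unique map whose composite with j is the map K →
C₂ induced by π₂). Then 0 → A₃ → K → C₁ → 0, with maps f and g, is a short exact sequence. (The
hypotheses w, h₂, h₃ are consequences of i₂ ≫ π₂ = 0, carried so that the maps can be named; the
published statement assumes in addition that the category has enough injective objects, which plays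
no role in this assertion.) -/
theorem result
    {C : Type u} [Category.{v} C] [Abelian C] {A₁ A₂ A₃ B₂ C₁ C₂ C₃ : C}
    (i₁ : A₁ ⟶ A₂) (p₁ : A₂ ⟶ A₃) (wA : i₁ ≫ p₁ = 0) (hA : (ShortComplex.mk i₁ p₁ wA).ShortExact)
    (i₂ : A₂ ⟶ B₂) (π₂ : B₂ ⟶ C₂) (wB : i₂ ≫ π₂ = 0) (hB : (ShortComplex.mk i₂ π₂ wB).ShortExact)
    (j : C₁ ⟶ C₂) (q : C₂ ⟶ C₃) (wC : j ≫ q = 0) (hC : (ShortComplex.mk j q wC).ShortExact)
    (w : (i₁ ≫ i₂) ≫ (π₂ ≫ q) = 0) (h₂ : i₂ ≫ (π₂ ≫ q) = 0) (h₃ : (i₁ ≫ i₂) ≫ π₂ = 0)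
    (f : A₃ ⟶ (CategoryTheory.ShortComplex.mk (i₁ ≫ i₂) (π₂ ≫ q) w).homology)
    (g : (CategoryTheory.ShortComplex.mk (i₁ ≫ i₂) (π₂ ≫ q) w).homology ⟶ C₁)
    (hf : p₁ ≫ f = (CategoryTheory.ShortComplex.mk (i₁ ≫ i₂) (π₂ ≫ q) w).liftCycles i₂ h₂ ≫ (CategoryTheory.ShortComplex.mk (i₁ ≫ i₂) (π₂ ≫ q) w).homologyπ)
    (hg : g ≫ j = (CategoryTheory.ShortComplex.mk (i₁ ≫ i₂) (π₂ ≫ q) w).homologyι ≫ (CategoryTheory.ShortComplex.mk (i₁ ≫ i₂) (π₂ ≫ q) w).descOpcycles π₂ h₃) :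
    ∃ wfg : f ≫ g = 0, (ShortComplex.mk f g wfg).ShortExact := by
  have hMi₂ : Mono i₂ := hB.mono_f
  have hEπ₂ : Epi π₂ := hB.epi_g
  have hMj : Mono j := hC.mono_f
  have hEp₁ : Epi p₁ := hA.epi_g
  have key : ∀ {T : C} (c : T ⟶ (ShortComplex.mk (i₁ ≫ i₂) (π₂ ≫ q) w).cycles),
      c ≫ (ShortComplex.mk (i₁ ≫ i₂) (π₂ ≫ q) w).homologyπ ≫ g ≫ j =
        c ≫ (ShortComplex.mk (i₁ ≫ i₂) (π₂ ≫ q) w).iCycles ≫ π₂ := by
    intro T c
    rw [hg, ShortComplex.homology_π_ι_assoc, ShortComplex.p_descOpcycles]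
  have wfg : f ≫ g = 0 := by
    rw [← cancel_epi p₁, ← cancel_mono j]
    simp only [Category.assoc, comp_zero, zero_comp]
    rw [← Category.assoc p₁ f, hf, Category.assoc, key, ShortComplex.liftCycles_i_assoc, wB]
  refine ⟨wfg, ?_⟩
  have hMf : Mono f := by
    rw [Preadditive.mono_iff_cancel_zero]
    intro T x hx
    obtain ⟨T', π, hπ, y, hy⟩ := surjective_up_to_refinements_of_epi p₁ x
    have hyc : (y ≫ i₂) ≫ (ShortComplex.mk (i₁ ≫ i₂) (π₂ ≫ q) w).g = 0 := by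
      change (y ≫ i₂) ≫ (π₂ ≫ q) = 0
      rw [Category.assoc, h₂, comp_zero]
    have h1 : (ShortComplex.mk (i₁ ≫ i₂) (π₂ ≫ q) w).liftCycles (y ≫ i₂) hyc ≫
        (ShortComplex.mk (i₁ ≫ i₂) (π₂ ≫ q) w).homologyπ = 0 := by
      have h3 : (ShortComplex.mk (i₁ ≫ i₂) (π₂ ≫ q) w).liftCycles (y ≫ i₂) hyc =
          y ≫ (ShortComplex.mk (i₁ ≫ i₂) (π₂ ≫ q) w).liftCycles i₂ h₂ := by
        rw [← cancel_mono (ShortComplex.mk (i₁ ≫ i₂) (π₂ ≫ q) w).iCycles]
        simp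
      rw [h3, Category.assoc, ← hf, ← Category.assoc, ← hy, Category.assoc, hx, comp_zero]
    rw [ShortComplex.liftCycles_comp_homologyπ_eq_zero_iff_up_to_refinements] at h1
    obtain ⟨T'', π', hπ', z, hz⟩ := h1
    have h2 : π' ≫ y = z ≫ i₁ := by
      rw [← cancel_mono i₂]
      simpa using hz
    rw [← cancel_epi π, ← cancel_epi π', comp_zero, comp_zero, hy, ← Category.assoc, h2,
      Category.assoc, wA, comp_zero]
  have hEg : Epi g := by
    rw [epi_iff_surjective_up_to_refinements]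
    intro T x
    obtain ⟨T', π, hπ, y, hy⟩ := surjective_up_to_refinements_of_epi π₂ (x ≫ j)
    have hyc : y ≫ (ShortComplex.mk (i₁ ≫ i₂) (π₂ ≫ q) w).g = 0 := by
      change y ≫ π₂ ≫ q = 0
      rw [← Category.assoc, ← hy, Category.assoc, Category.assoc, wC, comp_zero, comp_zero]
    refine ⟨T', π, hπ, (ShortComplex.mk (i₁ ≫ i₂) (π₂ ≫ q) w).liftCycles y hyc ≫
      (ShortComplex.mk (i₁ ≫ i₂) (π₂ ≫ q) w).homologyπ, ?_⟩
    rw [← cancel_mono j, Category.assoc, Category.assoc, Category.assoc, key,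
      ShortComplex.liftCycles_i_assoc, hy]
  refine { exact := ?_, mono_f := hMf, epi_g := hEg }
  rw [ShortComplex.exact_iff_exact_up_to_refinements]
  intro T x hx
  change x ≫ g = 0 at hx
  obtain ⟨T', π, hπ, z, hz, hzx⟩ := ShortComplex.eq_liftCycles_homologyπ_up_to_refinements x
  have h1 : z ≫ π₂ = 0 := by
    have h4 := key ((ShortComplex.mk (i₁ ≫ i₂) (π₂ ≫ q) w).liftCycles z hz)
    rw [ShortComplex.liftCycles_i_assoc] at h4
    rw [← h4, ← Category.assoc, ← hzx, Category.assoc, ← Category.assoc x, hx, zero_comp,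
      comp_zero]
  obtain ⟨T'', π', hπ', y, hy⟩ := hB.exact.exact_up_to_refinements z h1
  change π' ≫ z = y ≫ i₂ at hy
  refine ⟨T'', π' ≫ π, epi_comp _ _, y ≫ p₁, ?_⟩
  change (π' ≫ π) ≫ x = (y ≫ p₁) ≫ f
  rw [Category.assoc, hzx, Category.assoc, hf, ← Category.assoc π', ← Category.assoc y]
  congr 1
  rw [← cancel_mono (ShortComplex.mk (i₁ ≫ i₂) (π₂ ≫ q) w).iCycles]
  simp [hy]

end Groth.Agent.S15465
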