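import Groth.Statements.S1547
import Mathlib
import Groth.Agent.S1546
import Groth.Agent.Lib.Helper11.GeomSep

set_option autoImplicit false
universe u
open CategoryTheory CategoryTheory.Limits AlgebraicGeometry
open Variety

namespace Groth.Agent.S1547

open Groth.Agent.Lib.Helper11.FBaseLib Groth.Agent.Lib.Helper11.FBaseLib2
  Groth.Agent.Lib.Helper11.BcLevels Groth.Agent.Lib.Helper11.GeomSep
  Groth.Agent.Lib.Helper11.PurInsep

/-- Let k be a separably closed field, X a scheme over k and K any field extension of k. Then taking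
images along the projection X_K → X is injective on irreducible components: two irreducible
components of X_K with the same image in X are equal. (Together with surjectivity on irreducible
components, stated separately, this gives a bijection of irreducible components.) -/
theorem result (k : Type u) [Field k] (X : Scheme.{u}) [X.Over (Spec (CommRingCat.of k))] [IsSepClosed k] (K : Type u) [Field K] [Algebra k K]
    (T T' : Set (Curv2.bc k X K : Type u)) (hT : T ∈ irreducibleComponents (Curv2.bc k X K : Type u))
    (hT' : T' ∈ irreducibleComponents (Curv2.bc k X K : Type u))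
    (h : (Curv2.bcFst k X K).base '' T = (Curv2.bcFst k X K).base '' T') : T = T' := by

  classical
  let a : X ⟶ Spec (CommRingCat.of k) := X ↘ Spec (CommRingCat.of k)
  let φK : K →ₐ[k] AlgebraicClosure K := IsScalarTower.toAlgHom k K (AlgebraicClosure K)
  let φb : AlgebraicClosure k →ₐ[k] AlgebraicClosure K := IsAlgClosed.lift
  let r := bcHom a φK
  let s := bcHom a φb
  let pb := FBase.bcπ a (AlgebraicClosure k)
  haveI : IsIntegralHom r := by
    refine bcHom_of a φK @IsIntegralHom ?_
    rw [IsIntegralHom.SpecMap_iff]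
    exact (algebraMap_isIntegral_iff.mpr inferInstance : (algebraMap K (AlgebraicClosure K)).IsIntegral)
  haveI : Flat r := by
    refine bcHom_of a φK @Flat ?_
    rw [Flat.SpecMap_iff]
    show (algebraMap K (AlgebraicClosure K)).Flat
    rw [RingHom.flat_algebraMap_iff]
    infer_instance
  have hr : Groth.Agent.S1546.CompP ⇑r :=
    Groth.Agent.S1546.compP_of_closed _ r.continuous r.isClosedMap r.surjective
      (Flat.generalizingMap r)
  obtain ⟨T₁, hT₁, hT₁T⟩ := hr.2 T hT
  obtain ⟨T₂, hT₂, hT₂T⟩ := hr.2 T' hT'
  haveI := geomIrred_bcHom a φb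
  have hsW : ∀ W ∈ irreducibleComponents ↥(FBase.bc a (AlgebraicClosure K)),
      ⇑s ⁻¹' (⇑s '' W) = W := by
    intro W hW
    have := (Scheme.Hom.irreducibleComponentsEquiv s s.isOpenMap).symm_apply_apply ⟨W, hW⟩
    exact congrArg Subtype.val this
  haveI : IsPurelyInseparable k (AlgebraicClosure k) := inferInstance
  have hpb := isHomeomorph_bcπ a (AlgebraicClosure k)
  have himg : ∀ W : Set ↥(FBase.bc a (AlgebraicClosure K)),
      ⇑(FBase.bcπ a K) '' (⇑r '' W) = ⇑pb '' (⇑s '' W) := by
    intro W
    rw [← Set.image_comp, ← Set.image_comp]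
    congr 1
    funext z
    show (FBase.bcπ a K) (r z) = pb (s z)
    rw [bcHom_π_apply, bcHom_π_apply]
  have hs : ⇑s '' T₁ = ⇑s '' T₂ := by
    apply hpb.bijective.1.image_injective
    rw [← himg, ← himg, hT₁T, hT₂T]
    exact h
  have hTT : T₁ = T₂ := by rw [← hsW T₁ hT₁, ← hsW T₂ hT₂, hs]
  rw [← hT₁T, ← hT₂T, hTT]

end Groth.Agent.S1547
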