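import Groth.Statements.S15487
import Mathlib
-- import your own Groth.Agent.* helpers here

set_option autoImplicit false
universe u
open CategoryTheory AlgebraicGeometry
open IsoNat

namespace Groth.Agent.S15487


section Helpers

variable {S : Scheme.{u}}

/-- The fibre object of a field-valued point. -/
def fpFib {𝒳 : AlgSt.Cat S} (p : AlgSt.FPt 𝒳) : 𝒳.p.Fiber (Over.mk p.str) := ⟨p.obj, p.lies⟩

/-- Transport of a field-valued point along an isomorphism of presheaves of isomorphism classes. -/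
noncomputable def theta {𝒴 𝒴' : AlgSt.Cat S} (φ : IsoNat.FIso 𝒴 𝒴') (q : AlgSt.FPt 𝒴) :
    AlgSt.FPt 𝒴' :=
  { K := q.K
    str := q.str
    obj := (Quotient.out (φ.toEquiv (Over.mk q.str) (IsoNat.cls (fpFib q)))).1
    lies := (Quotient.out (φ.toEquiv (Over.mk q.str) (IsoNat.cls (fpFib q)))).2 }

lemma theta_cls {𝒴 𝒴' : AlgSt.Cat S} (φ : IsoNat.FIso 𝒴 𝒴') (q : AlgSt.FPt 𝒴) :
    IsoNat.cls (fpFib (theta φ q)) = φ.toEquiv (Over.mk q.str) (IsoNat.cls (fpFib q)) :=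
  Quotient.out_eq (φ.toEquiv (Over.mk q.str) (IsoNat.cls (fpFib q)))

lemma mk_eq_of_cls_eq {𝒴 : AlgSt.Cat S} (K : Type u) [Field K]
    (str : Spec (CommRingCat.of K) ⟶ S) (a b : 𝒴.p.Fiber (Over.mk str))
    (h : IsoNat.cls a = IsoNat.cls b) :
    AlgSt.Points.mk (⟨K, str, a.1, a.2⟩ : AlgSt.FPt 𝒴) = AlgSt.Points.mk ⟨K, str, b.1, b.2⟩ := by
  obtain ⟨e⟩ : Nonempty (a ≅ b) := Quotient.exact h
  exact AlgSt.Points.sound ⟨⟨K, str, a.1, a.2⟩, 𝟙 _, e.hom.1, trivial⟩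

lemma exists_hom_theta {𝒴 𝒴' : AlgSt.Cat S} (φ : IsoNat.FIso 𝒴 𝒴') (r q₁ : AlgSt.FPt 𝒴)
    (m : r.obj ⟶ q₁.obj) : Nonempty ((theta φ r).obj ⟶ (theta φ q₁).obj) := by
  obtain ⟨g, hg0⟩ : ∃ g : Over.mk r.str ⟶ Over.mk q₁.str,
      g = eqToHom r.lies.symm ≫ 𝒴.p.map m ≫ eqToHom q₁.lies := ⟨_, rfl⟩
  have hg : 𝒴.p.IsHomLift g m := IsHomLift.of_fac 𝒴.p g m r.lies q₁.lies hg0
  obtain ⟨y', y, b, hb, h1, h2⟩ := φ.natural g (fpFib r) (fpFib q₁) m hg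
  have e1 : IsoNat.cls (fpFib (theta φ r)) = IsoNat.cls y' := (theta_cls φ r).trans h1
  have e2 : IsoNat.cls (fpFib (theta φ q₁)) = IsoNat.cls y := (theta_cls φ q₁).trans h2
  obtain ⟨i1⟩ : Nonempty (fpFib (theta φ r) ≅ y') := Quotient.exact e1
  obtain ⟨i2⟩ : Nonempty (fpFib (theta φ q₁) ≅ y) := Quotient.exact e2
  exact ⟨i1.hom.1 ≫ b ≫ i2.inv.1⟩

lemma theta_rel {𝒴 𝒴' : AlgSt.Cat S} (φ : IsoNat.FIso 𝒴 𝒴') {q₁ q₂ : AlgSt.FPt 𝒴}
    (h : AlgSt.FPt.Rel q₁ q₂) : AlgSt.FPt.Rel (theta φ q₁) (theta φ q₂) := by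
  obtain ⟨r, m₁, m₂, -⟩ := h
  obtain ⟨n₁⟩ := exists_hom_theta φ r q₁ m₁
  obtain ⟨n₂⟩ := exists_hom_theta φ r q₂ m₂
  exact ⟨theta φ r, n₁, n₂, trivial⟩

lemma eqvGen_theta {𝒴 𝒴' : AlgSt.Cat S} (φ : IsoNat.FIso 𝒴 𝒴') {q₁ q₂ : AlgSt.FPt 𝒴}
    (h : Relation.EqvGen AlgSt.FPt.Rel q₁ q₂) :
    AlgSt.Points.mk (theta φ q₁) = AlgSt.Points.mk (theta φ q₂) := by
  induction h with
  | rel a b hab => exact AlgSt.Points.sound (theta_rel φ hab)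
  | refl a => rfl
  | symm a b _ ih => exact ih.symm
  | trans a b c _ _ ih1 ih2 => exact ih1.trans ih2

/-- Surjectivity on points is detected on presheaves of isomorphism classes. -/
theorem surj_of_fIsoSq {𝒳 𝒴 𝒳' 𝒴' : AlgSt.Cat S} (f : 𝒳 ⥤ᵇ 𝒴) (f' : 𝒳' ⥤ᵇ 𝒴')
    (φ : IsoNat.FIsoSq f f') (hf : AlgSt.IsSurjective f) : AlgSt.IsSurjective f' := by
  intro P'
  obtain ⟨q', rfl⟩ := AlgSt.Points.mk_surjective P'
  obtain ⟨y, hy⟩ : ∃ y : 𝒴.p.Fiber (Over.mk q'.str),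
      IsoNat.cls y = (φ.tgt.toEquiv (Over.mk q'.str)).symm (IsoNat.cls (fpFib q')) :=
    ⟨Quotient.out _, Quotient.out_eq _⟩
  obtain ⟨P, hP⟩ := hf (AlgSt.Points.mk (⟨q'.K, q'.str, y.1, y.2⟩ : AlgSt.FPt 𝒴))
  obtain ⟨p, rfl⟩ := AlgSt.Points.mk_surjective P
  have h1 : Relation.EqvGen AlgSt.FPt.Rel (p.map f) (⟨q'.K, q'.str, y.1, y.2⟩ : AlgSt.FPt 𝒴) :=
    Quot.eqvGen_exact hP
  have h2 := eqvGen_theta φ.tgt h1
  obtain ⟨x', hx'⟩ : ∃ x' : 𝒳'.p.Fiber (Over.mk p.str),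
      IsoNat.cls x' = φ.src.toEquiv (Over.mk p.str) (IsoNat.cls (fpFib p)) :=
    ⟨Quotient.out _, Quotient.out_eq _⟩
  refine ⟨AlgSt.Points.mk (⟨p.K, p.str, x'.1, x'.2⟩ : AlgSt.FPt 𝒳'), ?_⟩
  have h3 : AlgSt.Points.mk ((⟨p.K, p.str, x'.1, x'.2⟩ : AlgSt.FPt 𝒳').map f') =
      AlgSt.Points.mk (theta φ.tgt (p.map f)) := by
    refine mk_eq_of_cls_eq p.K p.str
      (fpFib ((⟨p.K, p.str, x'.1, x'.2⟩ : AlgSt.FPt 𝒳').map f')) (fpFib (theta φ.tgt (p.map f))) ?_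
    refine Eq.trans ?_ (theta_cls φ.tgt (p.map f)).symm
    have hc := φ.comm (Over.mk p.str) (IsoNat.cls (fpFib p))
    calc IsoNat.cls (fpFib ((⟨p.K, p.str, x'.1, x'.2⟩ : AlgSt.FPt 𝒳').map f'))
        = IsoNat.mapCls f' (Over.mk p.str) (IsoNat.cls x') := rfl
      _ = IsoNat.mapCls f' (Over.mk p.str)
            (φ.src.toEquiv (Over.mk p.str) (IsoNat.cls (fpFib p))) := by rw [hx']
      _ = φ.tgt.toEquiv (Over.mk p.str)
            (IsoNat.mapCls f (Over.mk p.str) (IsoNat.cls (fpFib p))) := hc.symm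
      _ = φ.tgt.toEquiv (Over.mk p.str) (IsoNat.cls (fpFib (p.map f))) := rfl
  have h4 : AlgSt.Points.mk (theta φ.tgt (⟨q'.K, q'.str, y.1, y.2⟩ : AlgSt.FPt 𝒴)) =
      AlgSt.Points.mk q' := by
    refine mk_eq_of_cls_eq q'.K q'.str
      (fpFib (theta φ.tgt (⟨q'.K, q'.str, y.1, y.2⟩ : AlgSt.FPt 𝒴))) (fpFib q') ?_
    refine (theta_cls φ.tgt (⟨q'.K, q'.str, y.1, y.2⟩ : AlgSt.FPt 𝒴)).trans ?_
    calc φ.tgt.toEquiv (Over.mk q'.str)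
          (IsoNat.cls (fpFib (⟨q'.K, q'.str, y.1, y.2⟩ : AlgSt.FPt 𝒴)))
        = φ.tgt.toEquiv (Over.mk q'.str) (IsoNat.cls y) := rfl
      _ = φ.tgt.toEquiv (Over.mk q'.str)
            ((φ.tgt.toEquiv (Over.mk q'.str)).symm (IsoNat.cls (fpFib q'))) := by rw [hy]
      _ = IsoNat.cls (fpFib q') := Equiv.apply_symm_apply _ _
  exact h3.trans (h2.trans h4)

end Helpers

/-- Surjectivity of a morphism of algebraic stacks is detected by the induced map of presheaves of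
isomorphism classes. Let f : 𝒳 → 𝒴 and f' : 𝒳' → 𝒴' be morphisms of algebraic stacks over a
quasi-separated scheme S with isomorphisms of the presheaves of isomorphism classes of 𝒳 with 𝒳' and
of 𝒴 with 𝒴' under which the induced maps correspond. If f induces a surjective map on spaces of
points, so does f'. Here an algebraic stack over a quasi-separated scheme S means a stack in
groupoids for the fppf topology with a smooth surjective atlas from a scheme, whose diagonal is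
representable by separated quasi-compact morphisms of algebraic spaces and whose inertia is locally
of finite presentation over it. -/
theorem result
    (S : Scheme.{u}) [QuasiSeparatedSpace S]
    (𝒳 𝒴 : AlgSt.Cat S)
    (h𝒳 : AlgSt.IsAlgStack Scheme.fppfPrecoverage 𝒳)
    (h𝒳d : AlgSt.RepByAlgSpWith (AlgSp.IsSeparatedMor ⊓ AlgSp.IsQuasiCompactMor)
      (FibCat.diag (FibCat.toSelf 𝒳)))
    (h𝒳i : AlgSt.RepByAlgSpWith (AlgSp.LocP @LocallyOfFinitePresentation)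
      (FibCat.inertiaToBase (FibCat.toSelf 𝒳)))
    (h𝒴 : AlgSt.IsAlgStack Scheme.fppfPrecoverage 𝒴)
    (h𝒴d : AlgSt.RepByAlgSpWith (AlgSp.IsSeparatedMor ⊓ AlgSp.IsQuasiCompactMor)
      (FibCat.diag (FibCat.toSelf 𝒴)))
    (h𝒴i : AlgSt.RepByAlgSpWith (AlgSp.LocP @LocallyOfFinitePresentation)
      (FibCat.inertiaToBase (FibCat.toSelf 𝒴)))
    (𝒳' 𝒴' : AlgSt.Cat S)
    (h𝒳' : AlgSt.IsAlgStack Scheme.fppfPrecoverage 𝒳')
    (h𝒳'd : AlgSt.RepByAlgSpWith (AlgSp.IsSeparatedMor ⊓ AlgSp.IsQuasiCompactMor)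
      (FibCat.diag (FibCat.toSelf 𝒳')))
    (h𝒳'i : AlgSt.RepByAlgSpWith (AlgSp.LocP @LocallyOfFinitePresentation)
      (FibCat.inertiaToBase (FibCat.toSelf 𝒳')))
    (h𝒴' : AlgSt.IsAlgStack Scheme.fppfPrecoverage 𝒴')
    (h𝒴'd : AlgSt.RepByAlgSpWith (AlgSp.IsSeparatedMor ⊓ AlgSp.IsQuasiCompactMor)
      (FibCat.diag (FibCat.toSelf 𝒴')))
    (h𝒴'i : AlgSt.RepByAlgSpWith (AlgSp.LocP @LocallyOfFinitePresentation)
      (FibCat.inertiaToBase (FibCat.toSelf 𝒴')))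
    (f : 𝒳 ⥤ᵇ 𝒴) (f' : 𝒳' ⥤ᵇ 𝒴') (φ : IsoNat.FIsoSq f f')
    (hf : AlgSt.IsSurjective f) :
    AlgSt.IsSurjective f' := by
  exact surj_of_fIsoSq f f' φ hf

end Groth.Agent.S15487
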