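import Groth.Statements.S15488
-- import your own Groth.Agent.* helpers here
import Mathlib

set_option autoImplicit false
universe u
open IsoNat

namespace Groth.Agent.S15488

theorem pow_congr_of_pow_eq {G A : Type*} [Group G] [Monoid A] (g : G) (l : A)
    (hl : l ^ orderOf g = 1) {a b : ℕ} (h : g ^ a = g ^ b) : l ^ a = l ^ b := by
  rw [pow_eq_pow_iff_modEq] at h
  rw [pow_eq_pow_mod a hl, pow_eq_pow_mod b hl]
  exact congrArg _ h

/-- Let A be a nontrivial commutative ring, G a finite group, g an element of G of order ν and l an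
element of A with l ^ ν = 1. In the free A-module of functions G → A (the regular representation, g
acting by translation v ↦ v(g·)), the submodule of v with v(g h) = l v(h) for all h is a direct
summand, free of rank |G| / ν (stated as: free, rank · ν = |G|, and a complementary submodule
exists). (The published statement is over an arbitrary ring and also covers Hom(A^N, −) of the
regular representation, which follows; nontriviality of A is needed for the rank to be meaningful.) -/
theorem result
    (A : Type u) [CommRing A] [Nontrivial A] (G : Type u) [Group G] [Finite G]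
    (g : G) (l : A) (hl : l ^ orderOf g = 1) :
    Module.Free A (LinearMap.ker (LinearMap.funLeft A A (fun h : G => g * h) - l • LinearMap.id)) ∧
      Module.finrank A (LinearMap.ker (LinearMap.funLeft A A (fun h : G => g * h) - l • LinearMap.id)) * orderOf g = Nat.card G ∧
      ∃ E' : Submodule A (G → A), IsCompl (LinearMap.ker (LinearMap.funLeft A A (fun h : G => g * h) - l • LinearMap.id)) E' := by
  classical
  haveI : Fintype G := Fintype.ofFinite G
  let H : Subgroup G := Subgroup.zpowers g
  let q : G → G ⧸ H := fun h => (QuotientGroup.mk h⁻¹ : G ⧸ H)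
  let s : G ⧸ H → G := fun c => (Quotient.out c)⁻¹
  have hA : ∀ h : G, ∃ i : ℕ, h = g ^ i * s (q h) := by
    intro h
    obtain ⟨η, hη⟩ := QuotientGroup.mk_out_eq_mul H h⁻¹
    have hηm : (η : G) ∈ Submonoid.powers g := by
      rw [mem_powers_iff_mem_zpowers]
      exact η.2
    obtain ⟨i, hi⟩ := hηm
    refine ⟨i, ?_⟩
    change h = g ^ i * (Quotient.out (QuotientGroup.mk h⁻¹ : G ⧸ H))⁻¹
    have hi' : g ^ i = (η : G) := hi
    rw [hη, hi', mul_inv_rev, inv_inv, ← mul_assoc, mul_inv_cancel, one_mul]
  choose n hn using hA
  have hB : ∀ h : G, q (g * h) = q h := by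
    intro h
    change (QuotientGroup.mk (g * h)⁻¹ : G ⧸ H) = QuotientGroup.mk h⁻¹
    rw [QuotientGroup.eq]
    simp only [inv_inv, mul_inv_cancel_right]
    exact Subgroup.mem_zpowers g
  have hC : ∀ c : G ⧸ H, q (s c) = c := by
    intro c
    change (QuotientGroup.mk ((Quotient.out c)⁻¹)⁻¹ : G ⧸ H) = c
    rw [inv_inv]
    exact QuotientGroup.out_eq' c
  have hn1 : ∀ h : G, l ^ n (g * h) = l * l ^ n h := by
    intro h
    have h1 : g ^ n (g * h) = g ^ (n h + 1) := by
      have e1 := hn (g * h)
      rw [hB h] at e1
      have e2 : g * h = g ^ (n h + 1) * s (q h) := by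
        conv_lhs => rw [hn h]
        rw [pow_succ', mul_assoc]
      exact mul_right_cancel (e1.symm.trans e2)
    rw [pow_congr_of_pow_eq g l hl h1, pow_succ']
  have hn2 : ∀ c : G ⧸ H, l ^ n (s c) = 1 := by
    intro c
    have h1 : g ^ n (s c) = g ^ 0 := by
      have e1 := hn (s c)
      rw [hC c] at e1
      rw [pow_zero]
      exact (mul_eq_right.mp e1.symm)
    rw [pow_congr_of_pow_eq g l hl h1, pow_zero]
  let ext' : (G ⧸ H → A) →ₗ[A] (G → A) :=
    { toFun := fun w h => l ^ n h * w (q h)
      map_add' := fun w w' => by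
        funext h
        simp [mul_add]
      map_smul' := fun a w => by
        funext h
        simp [mul_left_comm] }
  let res : (G → A) →ₗ[A] (G ⧸ H → A) := LinearMap.funLeft A A s
  have memE : ∀ v : G → A, v ∈ LinearMap.ker (LinearMap.funLeft A A (fun h : G => g * h) -
      l • LinearMap.id) ↔ ∀ h, v (g * h) = l * v h := by
    intro v
    rw [LinearMap.mem_ker, LinearMap.sub_apply, sub_eq_zero, funext_iff]
    rfl
  have hext_mem : ∀ w, ext' w ∈ LinearMap.ker (LinearMap.funLeft A A (fun h : G => g * h) -
      l • LinearMap.id) := by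
    intro w
    rw [memE]
    intro h
    change l ^ n (g * h) * w (q (g * h)) = l * (l ^ n h * w (q h))
    rw [hn1, hB, mul_assoc]
  have hres_ext : ∀ w, res (ext' w) = w := by
    intro w
    funext c
    change l ^ n (s c) * w (q (s c)) = w c
    rw [hn2, hC, one_mul]
  have hE_pow : ∀ v : G → A, (∀ h, v (g * h) = l * v h) → ∀ (i : ℕ) (x : G),
      v (g ^ i * x) = l ^ i * v x := by
    intro v hv i
    induction i with
    | zero =>
      intro x
      simp
    | succ i ih =>
      intro x
      rw [pow_succ', mul_assoc, hv, ih, pow_succ', mul_assoc]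
  have hext_res : ∀ v ∈ LinearMap.ker (LinearMap.funLeft A A (fun h : G => g * h) -
      l • LinearMap.id), ext' (res v) = v := by
    intro v hv
    rw [memE] at hv
    funext h
    change l ^ n h * v (s (q h)) = v h
    conv_rhs => rw [hn h]
    rw [hE_pow v hv]
  let e : LinearMap.ker (LinearMap.funLeft A A (fun h : G => g * h) - l • LinearMap.id) ≃ₗ[A]
      (G ⧸ H → A) :=
    LinearEquiv.ofLinear (res.domRestrict _) (ext'.codRestrict _ hext_mem)
      (LinearMap.ext fun w => hres_ext w)
      (LinearMap.ext fun v => Subtype.ext (hext_res v.1 v.2))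
  refine ⟨Module.Free.of_equiv e.symm, ?_, ?_⟩
  · rw [e.finrank_eq, Module.finrank_fintype_fun_eq_card, ← Nat.card_eq_fintype_card,
      Subgroup.card_eq_card_quotient_mul_card_subgroup H, Nat.card_zpowers]
  · let f : (G → A) →ₗ[A] LinearMap.ker (LinearMap.funLeft A A (fun h : G => g * h) -
        l • LinearMap.id) :=
      (ext'.comp res).codRestrict _ (fun v => hext_mem _)
    exact ⟨LinearMap.ker f, LinearMap.isCompl_of_proj (f := f)
      (fun x => Subtype.ext (hext_res x.1 x.2))⟩

end Groth.Agent.S15488
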