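import Groth.Statements.S15491
import Mathlib
-- import your own Groth.Agent.* helpers here

set_option autoImplicit false
universe v u
open CategoryTheory CategoryTheory.Functor
open IsoNat

namespace Groth.Agent.S15491


section Paste

set_option linter.style.haveILetI false

open CategoryTheory.Limits

variable {A B A' B' A'' B'' : Type u} [Category.{v} A] [Category.{v} B] [Category.{v} A']
  [Category.{v} B'] [Category.{v} A''] [Category.{v} B'']

/-- The comparison functor of a 2-commutative square. -/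
abbrev cmpF {X A D B : Type u} [Category.{v} X] [Category.{v} A] [Category.{v} D] [Category.{v} B]
    (T : X ⥤ A) (L : X ⥤ D) (F : A ⥤ B) (G : D ⥤ B) (e : T ⋙ F ≅ L ⋙ G) :
    X ⥤ CategoricalPullback F G :=
  (CategoricalPullback.CatCommSqOver.toFunctorToCategoricalPullback F G X).obj ⟨T, L, e⟩

variable (r : B ⥤ B') (t' : A' ⥤ B') (l' : A' ⥤ A'') (r' : B' ⥤ B'') (t'' : A'' ⥤ B'')
  (e₂ : t' ⋙ r' ≅ l' ⋙ t'')

/-- The pasting functor `B ×_{B'} A' ⥤ B ×_{B''} A''`. -/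
def pasteF : CategoricalPullback r t' ⥤ CategoricalPullback (r ⋙ r') t'' where
  obj x := ⟨x.fst, l'.obj x.snd, r'.mapIso x.iso ≪≫ e₂.app x.snd⟩
  map {x y} f := ⟨f.fst, l'.map f.snd, by
    show r'.map (r.map f.fst) ≫ (r'.map y.iso.hom ≫ e₂.hom.app y.snd) =
      (r'.map x.iso.hom ≫ e₂.hom.app x.snd) ≫ t''.map (l'.map f.snd)
    have h1 : r'.map (r.map f.fst) ≫ r'.map y.iso.hom =
        r'.map x.iso.hom ≫ r'.map (t'.map f.snd) := by
      rw [← r'.map_comp, ← r'.map_comp, f.w]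
    have h2 : r'.map (t'.map f.snd) ≫ e₂.hom.app y.snd =
        e₂.hom.app x.snd ≫ t''.map (l'.map f.snd) := e₂.hom.naturality f.snd
    calc r'.map (r.map f.fst) ≫ (r'.map y.iso.hom ≫ e₂.hom.app y.snd)
        = (r'.map (r.map f.fst) ≫ r'.map y.iso.hom) ≫ e₂.hom.app y.snd :=
          (Category.assoc _ _ _).symm
      _ = (r'.map x.iso.hom ≫ r'.map (t'.map f.snd)) ≫ e₂.hom.app y.snd := by rw [h1]
      _ = r'.map x.iso.hom ≫ (r'.map (t'.map f.snd) ≫ e₂.hom.app y.snd) :=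
          Category.assoc _ _ _
      _ = r'.map x.iso.hom ≫ (e₂.hom.app x.snd ≫ t''.map (l'.map f.snd)) := by rw [h2]
      _ = (r'.map x.iso.hom ≫ e₂.hom.app x.snd) ≫ t''.map (l'.map f.snd) :=
          (Category.assoc _ _ _).symm⟩
  map_id x := by
    apply CategoricalPullback.hom_ext
    · rfl
    · exact l'.map_id _
  map_comp f g := by
    apply CategoricalPullback.hom_ext
    · rfl
    · exact l'.map_comp _ _

theorem pasteF_faithful (h₂ : FibCat.IsTwoCart t' l' r' t'' e₂) :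
    (pasteF r t' l' r' t'' e₂).Faithful := by
  haveI : (cmpF t' l' r' t'' e₂).IsEquivalence := h₂
  refine ⟨fun {x y} f g hfg => ?_⟩
  have h1 : f.fst = g.fst := congrArg (fun s => s.fst) hfg
  have h2 : l'.map f.snd = l'.map g.snd := congrArg (fun s => s.snd) hfg
  have h3 : t'.map f.snd = t'.map g.snd := by
    have hf : t'.map f.snd = x.iso.inv ≫ r.map f.fst ≫ y.iso.hom := by
      rw [f.w, Iso.inv_hom_id_assoc]
    have hg : t'.map g.snd = x.iso.inv ≫ r.map g.fst ≫ y.iso.hom := by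
      rw [g.w, Iso.inv_hom_id_assoc]
    rw [hf, hg, h1]
  have h4 : f.snd = g.snd := by
    apply (cmpF t' l' r' t'' e₂).map_injective
    apply CategoricalPullback.hom_ext
    · exact h3
    · exact h2
  exact CategoricalPullback.hom_ext h1 h4

theorem pasteF_full (h₂ : FibCat.IsTwoCart t' l' r' t'' e₂) :
    (pasteF r t' l' r' t'' e₂).Full := by
  haveI : (cmpF t' l' r' t'' e₂).IsEquivalence := h₂
  refine ⟨fun {x y} n => ?_⟩
  obtain ⟨n₁, hn₁⟩ : ∃ n₁ : x.fst ⟶ y.fst, n₁ = n.fst := ⟨_, rfl⟩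
  obtain ⟨n₂, hn₂⟩ : ∃ n₂ : l'.obj x.snd ⟶ l'.obj y.snd, n₂ = n.snd := ⟨_, rfl⟩
  have nw : r'.map (r.map n₁) ≫ (r'.map y.iso.hom ≫ e₂.hom.app y.snd) =
      (r'.map x.iso.hom ≫ e₂.hom.app x.snd) ≫ t''.map n₂ := by
    rw [hn₁, hn₂]
    exact n.w
  have e1 : r'.map x.iso.inv ≫ r'.map x.iso.hom = 𝟙 _ := by
    rw [← r'.map_comp, Iso.inv_hom_id, r'.map_id]
  have hδ : r'.map (x.iso.inv ≫ r.map n₁ ≫ y.iso.hom) ≫ e₂.hom.app y.snd =
      e₂.hom.app x.snd ≫ t''.map n₂ := by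
    calc r'.map (x.iso.inv ≫ r.map n₁ ≫ y.iso.hom) ≫ e₂.hom.app y.snd
        = r'.map x.iso.inv ≫ (r'.map (r.map n₁) ≫
            (r'.map y.iso.hom ≫ e₂.hom.app y.snd)) := by
          rw [r'.map_comp, r'.map_comp]
          simp only [Category.assoc]
      _ = r'.map x.iso.inv ≫ ((r'.map x.iso.hom ≫ e₂.hom.app x.snd) ≫ t''.map n₂) :=
          congrArg (fun s => r'.map x.iso.inv ≫ s) nw
      _ = (r'.map x.iso.inv ≫ r'.map x.iso.hom) ≫ e₂.hom.app x.snd ≫ t''.map n₂ := by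
          simp only [Category.assoc]
      _ = e₂.hom.app x.snd ≫ t''.map n₂ := by rw [e1, Category.id_comp]
  let m' : (cmpF t' l' r' t'' e₂).obj x.snd ⟶ (cmpF t' l' r' t'' e₂).obj y.snd :=
    ⟨x.iso.inv ≫ r.map n₁ ≫ y.iso.hom, n₂, hδ⟩
  obtain ⟨α, hα⟩ := (cmpF t' l' r' t'' e₂).map_surjective m'
  have hα1 : t'.map α = x.iso.inv ≫ r.map n₁ ≫ y.iso.hom := congrArg (fun s => s.fst) hα
  have hα2 : l'.map α = n₂ := congrArg (fun s => s.snd) hα
  have hw : r.map n₁ ≫ y.iso.hom = x.iso.hom ≫ t'.map α := by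
    rw [hα1]
    exact (Iso.hom_inv_id_assoc _ _).symm
  refine ⟨⟨n₁, α, hw⟩, ?_⟩
  apply CategoricalPullback.hom_ext
  · exact hn₁
  · exact hα2.trans hn₂

theorem pasteF_essSurj (h₂ : FibCat.IsTwoCart t' l' r' t'' e₂) :
    (pasteF r t' l' r' t'' e₂).EssSurj := by
  haveI : (cmpF t' l' r' t'' e₂).IsEquivalence := h₂
  refine ⟨fun y => ?_⟩
  let y' : CategoricalPullback r' t'' := ⟨r.obj y.fst, y.snd, y.iso⟩
  let a' : A' := (cmpF t' l' r' t'' e₂).objPreimage y'
  let ι : (cmpF t' l' r' t'' e₂).obj a' ≅ y' := (cmpF t' l' r' t'' e₂).objObjPreimageIso y'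
  let u : t'.obj a' ≅ r.obj y.fst := (CategoricalPullback.π₁ r' t'').mapIso ι
  let w : l'.obj a' ≅ y.snd := (CategoricalPullback.π₂ r' t'').mapIso ι
  have hι : r'.map u.hom ≫ y.iso.hom = e₂.hom.app a' ≫ t''.map w.hom := ι.hom.w
  have e1 : r'.map u.inv ≫ r'.map u.hom = 𝟙 _ := by
    rw [← r'.map_comp, Iso.inv_hom_id, r'.map_id]
  let x : CategoricalPullback r t' := ⟨y.fst, a', u.symm⟩
  refine ⟨x, ⟨CategoricalPullback.mkIso (Iso.refl _) w ?_⟩⟩
  show (r ⋙ r').map (𝟙 y.fst) ≫ y.iso.hom =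
    (r'.map u.inv ≫ e₂.hom.app a') ≫ t''.map w.hom
  calc (r ⋙ r').map (𝟙 y.fst) ≫ y.iso.hom = y.iso.hom := by
        rw [CategoryTheory.Functor.map_id, Category.id_comp]
    _ = (r'.map u.inv ≫ r'.map u.hom) ≫ y.iso.hom := by rw [e1, Category.id_comp]
    _ = r'.map u.inv ≫ (r'.map u.hom ≫ y.iso.hom) := Category.assoc _ _ _
    _ = r'.map u.inv ≫ (e₂.hom.app a' ≫ t''.map w.hom) := by rw [hι]
    _ = (r'.map u.inv ≫ e₂.hom.app a') ≫ t''.map w.hom := (Category.assoc _ _ _).symm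

theorem key (t : A ⥤ B) (l : A ⥤ A') (e₁ : t ⋙ r ≅ l ⋙ t')
    (E : t ⋙ (r ⋙ r') ≅ (l ⋙ l') ⋙ t'')
    (hE : ∀ a, E.hom.app a = r'.map (e₁.hom.app a) ≫ e₂.hom.app (l.obj a))
    (h₂ : FibCat.IsTwoCart t' l' r' t'' e₂) :
    FibCat.IsTwoCart t l r t' e₁ ↔ FibCat.IsTwoCart t (l ⋙ l') (r ⋙ r') t'' E := by
  haveI hΨ : (pasteF r t' l' r' t'' e₂).IsEquivalence :=
    { faithful := pasteF_faithful r t' l' r' t'' e₂ h₂
      full := pasteF_full r t' l' r' t'' e₂ h₂
      essSurj := pasteF_essSurj r t' l' r' t'' e₂ h₂ }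
  have iso : cmpF t l r t' e₁ ⋙ pasteF r t' l' r' t'' e₂ ≅
      cmpF t (l ⋙ l') (r ⋙ r') t'' E :=
    NatIso.ofComponents
      (fun a => CategoricalPullback.mkIso (Iso.refl _) (Iso.refl _) (by
        show (r ⋙ r').map (𝟙 (t.obj a)) ≫ E.hom.app a =
          (r'.map (e₁.hom.app a) ≫ e₂.hom.app (l.obj a)) ≫ t''.map (𝟙 ((l ⋙ l').obj a))
        have h1 : (r ⋙ r').map (𝟙 (t.obj a)) = 𝟙 _ := (r ⋙ r').map_id _
        have h2 : t''.map (𝟙 ((l ⋙ l').obj a)) = 𝟙 _ := t''.map_id _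
        rw [hE a, h1, h2, Category.id_comp]
        exact (Category.comp_id _).symm))
      (fun {a a'} f => by
        apply CategoricalPullback.hom_ext
        · exact (Category.comp_id _).trans (Category.id_comp _).symm
        · exact (Category.comp_id _).trans (Category.id_comp _).symm)
  constructor
  · intro h
    haveI : (cmpF t l r t' e₁).IsEquivalence := h
    exact Functor.isEquivalence_of_iso iso
  · intro h
    haveI : (cmpF t (l ⋙ l') (r ⋙ r') t'' E).IsEquivalence := h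
    haveI : (cmpF t l r t' e₁ ⋙ pasteF r t' l' r' t'' e₂).IsEquivalence :=
      Functor.isEquivalence_of_iso iso.symm
    exact Functor.isEquivalence_of_comp_right (cmpF t l r t' e₁) (pasteF r t' l' r' t'' e₂)

end Paste

/-- Pasting of 2-cartesian squares, stated in the 2-category of categories. Consider functors t : A → B,
t' : A' → B', t'' : A'' → B'' and l : A → A', r : B → B', l' : A' → A'', r' : B' → B'' with natural
isomorphisms e₁ : t ⋙ r ≅ l ⋙ t' and e₂ : t' ⋙ r' ≅ l' ⋙ t''. If the lower square (t', l', r', t'',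
e₂) is 2-cartesian (its comparison functor to the 2-fibre product is an equivalence), then the upper
square (t, l, r, t', e₁) is 2-cartesian if and only if the outer rectangle (t, l ⋙ l', r ⋙ r', t'')
with the pasted isomorphism is. (The published statement is for an arbitrary 2-category whose
2-morphisms are invertible; this row is the case of categories, functors and natural isomorphisms.) -/
theorem result
    {A B A' B' A'' B'' : Type u} [Category.{v} A] [Category.{v} B] [Category.{v} A'] [Category.{v} B']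
    [Category.{v} A''] [Category.{v} B'']
    (t : A ⥤ B) (l : A ⥤ A') (r : B ⥤ B') (t' : A' ⥤ B') (l' : A' ⥤ A'') (r' : B' ⥤ B'') (t'' : A'' ⥤ B'')
    (e₁ : t ⋙ r ≅ l ⋙ t') (e₂ : t' ⋙ r' ≅ l' ⋙ t'')
    (h₂ : FibCat.IsTwoCart t' l' r' t'' e₂) :
    FibCat.IsTwoCart t l r t' e₁ ↔
      FibCat.IsTwoCart t (l ⋙ l') (r ⋙ r') t''
        ((Functor.associator t r r').symm ≪≫ isoWhiskerRight e₁ r' ≪≫ Functor.associator l t' r' ≪≫
          isoWhiskerLeft l e₂ ≪≫ (Functor.associator l l' t'').symm) := by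
  exact key r t' l' r' t'' e₂ t l e₁ _ (fun a => by simp) h₂

end Groth.Agent.S15491
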