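import Groth.Statements.S15492
import Mathlib
import Groth.Agent.Lib.Helper10.AlgStOpenSub

set_option autoImplicit false
universe u
open CategoryTheory AlgebraicGeometry
open IsoNat

namespace Groth.Agent.S15492



/-- Open subfunctors of the presheaf of isomorphism classes come from open substacks. Let 𝒴 be an
algebraic stack over a quasi-separated scheme S and W a subfunctor of its presheaf of isomorphism
classes — a set W(T) of isomorphism classes over each T, stable under pullback — which is open: for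
every object x over T there is an open subscheme V of T such that a pullback of x along g : T' → T
has class in W(T') exactly when g factors through V. Then the strictly full subcategory of 𝒴 on the
objects whose class lies in W is an open substack (the converse direction, that an open substack
gives an open subfunctor, is immediate from the definitions, and the two constructions are mutually
inverse). Here an algebraic stack over a quasi-separated scheme S means a stack in groupoids for the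
fppf topology with a smooth surjective atlas from a scheme, whose diagonal is representable by
separated quasi-compact morphisms of algebraic spaces and whose inertia is locally of finite
presentation over it. (The published statement is for an arbitrary stack; this row takes 𝒴
algebraic.) -/
theorem result
    (S : Scheme.{u}) [QuasiSeparatedSpace S]
    (𝒴 : AlgSt.Cat S)
    (h𝒴 : AlgSt.IsAlgStack Scheme.fppfPrecoverage 𝒴)
    (h𝒴d : AlgSt.RepByAlgSpWith (AlgSp.IsSeparatedMor ⊓ AlgSp.IsQuasiCompactMor)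
      (FibCat.diag (FibCat.toSelf 𝒴)))
    (h𝒴i : AlgSt.RepByAlgSpWith (AlgSp.LocP @LocallyOfFinitePresentation)
      (FibCat.inertiaToBase (FibCat.toSelf 𝒴)))
    (W : ∀ T : Over S, Set (IsoNat.IsoCl 𝒴 T))
    (hWpull : ∀ (T' T : Over S) (g : T' ⟶ T) (x' : 𝒴.p.Fiber T') (x : 𝒴.p.Fiber T) (a : x'.1 ⟶ x.1),
      𝒴.p.IsHomLift g a → IsoNat.cls x ∈ W T → IsoNat.cls x' ∈ W T')
    (hWopen : ∀ (T : Over S) (x : 𝒴.p.Fiber T), ∃ V : T.left.Opens,
      ∀ (T' : Over S) (g : T' ⟶ T) (x' : 𝒴.p.Fiber T') (a : x'.1 ⟶ x.1), 𝒴.p.IsHomLift g a →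
        (IsoNat.cls x' ∈ W T' ↔ ∃ g' : T'.left ⟶ ↑V, g' ≫ V.ι = g.left)) :
    AlgSt.IsOpenSubstack 𝒴 (fun η => IsoNat.cls (⟨η, rfl⟩ : 𝒴.p.Fiber (𝒴.p.obj η)) ∈ W (𝒴.p.obj η))
      Scheme.fppfPrecoverage := by
  obtain ⟨Q, hQdef⟩ : ∃ Q : 𝒴.obj → Prop,
      Q = fun η => IsoNat.cls (⟨η, rfl⟩ : 𝒴.p.Fiber (𝒴.p.obj η)) ∈ W (𝒴.p.obj η) := ⟨_, rfl⟩
  rw [← hQdef]
  have hmem : ∀ (η : 𝒴.obj) (T : Over S) (h : 𝒴.p.obj η = T),
      Q η ↔ IsoNat.cls (⟨η, h⟩ : 𝒴.p.Fiber T) ∈ W T := by
    intro η T h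
    subst h
    rw [hQdef]
  have hpull : ∀ ⦃y x : 𝒴.obj⦄ (φ : y ⟶ x), Q x → Q y := by
    intro y x φ hx
    rw [hmem _ _ rfl] at hx ⊢
    exact hWpull (𝒴.p.obj y) (𝒴.p.obj x) (𝒴.p.map φ) ⟨y, rfl⟩ ⟨x, rfl⟩ φ inferInstance hx
  have hQiso : ObjectProperty.IsClosedUnderIsomorphisms Q := ⟨fun e hX => hpull e.inv hX⟩
  have hfib : FibCat.IsFibGrpd (AlgSt.fullSub 𝒴 Q).p :=
    Groth.Agent.Lib.Helper10.StkSub.isFibGrpd_sub Q h𝒴.isStack.1
      (fun y _ φ hx => ⟨y, Iso.refl y, hpull φ hx,
        (show 𝒴.p.IsHomLift (𝟙 (𝒴.p.obj y)) (𝟙 y) from inferInstance)⟩)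
  have hI : AlgSt.IsOpenImm (AlgSt.subIncl 𝒴 Q) := by
    refine H10PT.repByAlgSpWith_subIncl_of_charts Q _
      Groth.Agent.Lib.Helper28.AlgSt.PropInst.good_openImm hQiso ?_
    intro U y
    obtain ⟨V, hV⟩ := hWopen U ⟨y.obj (Over.mk (𝟙 U)), y.w_obj _⟩
    haveI : Mono (Groth.Agent.Lib.Helper16.overOpenι U V).left := show Mono V.ι from inferInstance
    refine ⟨Groth.Agent.Lib.Helper16.overOpen U V, Groth.Agent.Lib.Helper16.overOpenι U V,
      inferInstance, ?_, ?_⟩
    · rw [AlgSp.repWith_yon_map_iff]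
      show IsOpenImmersion V.ι
      infer_instance
    · intro a
      obtain ⟨k, hk0⟩ : ∃ k : a ⟶ (Over.mk (𝟙 U) : Over U),
          a.hom = (FibCat.overCat U).p.map k := ⟨Over.homMk a.hom (by simp), rfl⟩
      haveI hlk : (FibCat.overCat U).p.IsHomLift a.hom k :=
        Groth.Agent.Lib.Helper10.Fib.isHomLift_of_eq (FibCat.overCat U).p
          (a := a) (b := (Over.mk (𝟙 U) : Over U)) a.hom k hk0
      haveI hφ : 𝒴.p.IsHomLift a.hom (y.map k) := inferInstance
      have h1 := hV a.left a.hom ⟨y.obj a, y.w_obj a⟩ (y.map k) hφ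
      rw [hmem _ _ (y.w_obj a)]
      refine h1.trans ⟨?_, ?_⟩
      · rintro ⟨g', hg'⟩
        refine ⟨Over.homMk g' ?_, ?_⟩
        · show g' ≫ (V.ι ≫ U.hom) = a.left.hom
          rw [← Category.assoc, hg']
          exact Over.w a.hom
        · apply Over.OverMorphism.ext
          exact hg'
      · rintro ⟨b, hb⟩
        exact ⟨b.left, congrArg (fun m => m.left) hb⟩
  refine ⟨hQiso, ?_, hI⟩
  exact Groth.Agent.S12768.result hfib h𝒴 (AlgSt.subIncl 𝒴 Q) (fun U y => by
    obtain ⟨F, e, he, -⟩ := hI U y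
    exact ⟨F, e, he⟩)

end Groth.Agent.S15492
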