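import Groth.Statements.S15493
import Groth.Agent.S12774
import Groth.Agent.Lib.Helper28.AlgSt.Key
import Groth.Agent.Lib.Helper16.Rep

set_option autoImplicit false
universe u
open CategoryTheory AlgebraicGeometry
open IsoNat

namespace Groth.Agent.S15493

/-- The presheaf of isomorphism classes commutes with fibre products along an open immersion. Let f : 𝒳
→ 𝒴 be a morphism of algebraic stacks over a quasi-separated scheme S and i : 𝒴' → 𝒴 an open
immersion of algebraic stacks (representable by open immersions of algebraic spaces). If two objects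
of the 2-fibre product 𝒳 ×_𝒴 𝒴' over a scheme T have isomorphic images in 𝒳 over T and isomorphic
images in 𝒴' over T, then they are isomorphic over T. (Together with the evident surjectivity this
says that the natural map from the presheaf of isomorphism classes of 𝒳 ×_𝒴 𝒴' to the fibre product
of the presheaves of 𝒳 and 𝒴' over that of 𝒴 is an isomorphism; the published statement is for
arbitrary stacks, this row takes them algebraic.) -/
theorem result
    (S : Scheme.{u}) [QuasiSeparatedSpace S]
    (𝒳 𝒴 𝒴' : AlgSt.Cat S)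
    (h𝒳 : AlgSt.IsAlgStack Scheme.fppfPrecoverage 𝒳) (h𝒴 : AlgSt.IsAlgStack Scheme.fppfPrecoverage 𝒴)
    (h𝒴' : AlgSt.IsAlgStack Scheme.fppfPrecoverage 𝒴')
    (f : 𝒳 ⥤ᵇ 𝒴) (i : 𝒴' ⥤ᵇ 𝒴) (hi : AlgSt.IsOpenImm i)
    (T : Over S) (z₁ z₂ : (FibCat.fp f i).p.Fiber T)
    (h₁ : IsoNat.mapCls (FibCat.fpFst f i) T (IsoNat.cls z₁) = IsoNat.mapCls (FibCat.fpFst f i) T (IsoNat.cls z₂))
    (h₂ : IsoNat.mapCls (FibCat.fpSnd f i) T (IsoNat.cls z₁) = IsoNat.mapCls (FibCat.fpSnd f i) T (IsoNat.cls z₂)) :
    IsoNat.cls z₁ = IsoNat.cls z₂ := by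
  have hmono : AlgSt.IsMono i :=
    Groth.Agent.Lib.Helper28.AlgSt.Key.repByAlgSpWith_mono i (fun F U g hg =>
      Groth.Agent.Lib.Helper16.mono_of_repWith
        (fun X Y k (hk : IsOpenImmersion k) => (inferInstance : Mono k)) g hg) hi
  obtain ⟨hfull, hfaith⟩ := Groth.Agent.S12774.result h𝒴'.isStack.1 h𝒴.isStack.1 i hmono
  haveI := hfull
  haveI := hfaith
  -- the iso of first components
  obtain ⟨β⟩ : Nonempty ((IsoNat.fibFun (FibCat.fpFst f i) T).obj z₁ ≅
      (IsoNat.fibFun (FibCat.fpFst f i) T).obj z₂) := Quotient.exact h₁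
  -- the underlying morphism of `𝒳`
  let b : z₁.1.obj.fst ⟶ z₂.1.obj.fst := β.hom.1
  have hb : 𝒳.p.IsHomLift (𝟙 T) b := β.hom.2
  haveI hbiso : IsIso b := by
    refine ⟨β.inv.1, ?_, ?_⟩
    · exact congrArg Subtype.val β.hom_inv_id
    · exact congrArg Subtype.val β.inv_hom_id
  -- the second component
  let c : z₁.1.obj.snd ⟶ z₂.1.obj.snd :=
    i.toFunctor.preimage (z₁.1.obj.iso.inv ≫ f.map b ≫ z₂.1.obj.iso.hom)
  have hc : i.map c = z₁.1.obj.iso.inv ≫ f.map b ≫ z₂.1.obj.iso.hom :=
    i.toFunctor.map_preimage _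
  haveI hciso : IsIso c := by
    haveI : IsIso (i.toFunctor.map c) := by
      change IsIso (i.map c)
      rw [hc]
      haveI : IsIso (f.map b) := inferInstanceAs (IsIso (f.toFunctor.map b))
      infer_instance
    exact isIso_of_fully_faithful i.toFunctor c
  let m : z₁.1 ⟶ z₂.1 := ObjectProperty.homMk
    { fst := b
      snd := c
      w := by
        change f.map b ≫ z₂.1.obj.iso.hom = z₁.1.obj.iso.hom ≫ i.map c
        rw [hc]; simp }
  haveI hmiso : IsIso m := by
    refine ⟨ObjectProperty.homMk
      { fst := inv b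
        snd := inv c
        w := by
          change f.map (inv b) ≫ z₁.1.obj.iso.hom = z₂.1.obj.iso.hom ≫ i.map (inv c)
          have e1 : f.map (inv b) = inv (f.map b) := by
            change f.toFunctor.map (inv b) = inv (f.toFunctor.map b)
            simp
          have e2 : i.map (inv c) = inv (i.map c) := by
            change i.toFunctor.map (inv c) = inv (i.toFunctor.map c)
            simp
          rw [e1, e2, IsIso.inv_comp_eq, ← Category.assoc, IsIso.eq_comp_inv, hc]
          simp }, ?_, ?_⟩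
    · apply ObjectProperty.hom_ext
      apply CategoryTheory.Limits.CategoricalPullback.hom_ext
      · change b ≫ inv b = 𝟙 _
        simp
      · change c ≫ inv c = 𝟙 _
        simp
    · apply ObjectProperty.hom_ext
      apply CategoryTheory.Limits.CategoricalPullback.hom_ext
      · change inv b ≫ b = 𝟙 _
        simp
      · change inv c ≫ c = 𝟙 _
        simp
  have hm : (FibCat.fp f i).p.IsHomLift (𝟙 T) m := by
    change 𝒳.p.IsHomLift (𝟙 T) b at hb
    have : (FibCat.fp f i).p.map m = 𝒳.p.map b := rfl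
    apply IsHomLift.of_fac' _ _ _ z₁.2 z₂.2
    rw [this]
    exact (IsHomLift.fac' 𝒳.p (𝟙 T) b)
  refine Quotient.sound ⟨?_⟩
  exact
    { hom := ⟨m, hm⟩
      inv := ⟨inv m, by
        haveI := hm
        exact IsHomLift.lift_id_inv_isIso _ _ m⟩
      hom_inv_id := by
        apply Subtype.ext
        change m ≫ inv m = 𝟙 _
        simp
      inv_hom_id := by
        apply Subtype.ext
        change inv m ≫ m = 𝟙 _
        simp }

end Groth.Agent.S15493
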