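import Groth.Statements.S15494
-- import your own Groth.Agent.* helpers here
import Mathlib

set_option autoImplicit false
universe u v
open Dieud

namespace Groth.Agent.S15494



/-- Let W be a commutative ring with a ring endomorphism σ, p a natural number, M a W-module and F an
additive self-map of M with F (w • m) = σ w • F m. Let d ≥ 1, c ≥ 1, h = d + c, and let e_1, …, e_h,
… be vectors of M on which F acts through a display matrix in normal form: F e_i = e_{i+1} for 1 ≤ i
< d; F e_d = Σ_{i=1}^{d} a_{i,d} e_i + e_{d+1}; F e_j = Σ_{i=1}^{d} p a_{i,j} e_i + p e_{j+1} for d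
< j < h; F e_h = Σ_{i=1}^{d} p a_{i,h} e_i. Then F^h e_1 = Σ_{i=1}^{d} Σ_{j=d}^{h} p^{j-d}
σ^{h-j}(a_{i,j}) F^{h+i-j-1} e_1. (The published statement is for the Dieudonné module of a
p-divisible group of dimension d and height h over the Witt ring of a field of characteristic p,
with σ the Frobenius and e_1, …, e_h a basis; this row keeps only the relations which the printed
computation uses, so W, σ, p and the vectors are arbitrary.) -/
theorem result
    (W : Type u) [CommRing W] (σ : W →+* W) (p : ℕ)
    (M : Type v) [AddCommGroup M] [Module W M]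
    (F : M →+ M) (hF : ∀ (w : W) (m : M), F (w • m) = σ w • F m)
    (d c : ℕ) (hd : 0 < d) (hc : 0 < c)
    (a : ℕ → ℕ → W) (e : ℕ → M)
    (h1 : ∀ i : ℕ, 1 ≤ i → i < d → F (e i) = e (i + 1))
    (h2 : F (e d) = (∑ i ∈ Finset.Icc 1 d, a i d • e i) + e (d + 1))
    (h3 : ∀ j : ℕ, d < j → j < d + c →
      F (e j) = (∑ i ∈ Finset.Icc 1 d, ((p : W) * a i j) • e i) + (p : W) • e (j + 1))
    (h4 : F (e (d + c)) = ∑ i ∈ Finset.Icc 1 d, ((p : W) * a i (d + c)) • e i) :
    (⇑F)^[d + c] (e 1) = ∑ i ∈ Finset.Icc 1 d, ∑ j ∈ Finset.Icc d (d + c),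
      ((p : W) ^ (j - d) * (⇑σ)^[d + c - j] (a i j)) • (⇑F)^[d + c + i - j - 1] (e 1) := by
  classical
  have hE : ∀ i, 1 ≤ i → i ≤ d → e i = (⇑F)^[i - 1] (e 1) := by
    intro i hi1
    induction i, hi1 using Nat.le_induction with
    | base =>
      intro _
      simp
    | succ i hi ih =>
      intro hid
      have h5 := ih (by omega)
      rw [← h1 i hi (by omega), h5, ← Function.iterate_succ_apply' (⇑F)]
      congr 1
      omega
  have hFe : ∀ t, t + 1 ≤ c → F (e (d + t + 1)) =
      (∑ i ∈ Finset.Icc 1 d, ((p : W) * a i (d + t + 1)) • e i) +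
        (if t + 1 < c then (p : W) • e (d + t + 1 + 1) else 0) := by
    intro t ht
    by_cases h : t + 1 < c
    · rw [if_pos h]
      exact h3 (d + t + 1) (by omega) (by omega)
    · have h6 : d + t + 1 = d + c := by omega
      rw [if_neg h, h6, add_zero]
      exact h4
  have key : ∀ t, t ≤ c → (⇑F)^[d + t] (e 1) =
      (∑ i ∈ Finset.Icc 1 d, ∑ j ∈ Finset.Icc d (d + t),
        ((p : W) ^ (j - d) * (⇑σ)^[d + t - j] (a i j)) • (⇑F)^[d + t + i - j - 1] (e 1)) +
        (if t < c then (p : W) ^ t • e (d + t + 1) else 0) := by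
    intro t
    induction t with
    | zero =>
      intro _
      rw [if_pos hc]
      have h7 : (⇑F)^[d + 0] (e 1) = F (e d) := by
        rw [hE d hd le_rfl, ← Function.iterate_succ_apply' (⇑F)]
        congr 1
        omega
      rw [h7, h2]
      congr 1
      · refine Finset.sum_congr rfl (fun i hi => ?_)
        rw [Finset.mem_Icc] at hi
        simp only [add_zero, Finset.Icc_self, Finset.sum_singleton, Nat.sub_self, pow_zero,
          Function.iterate_zero, id_eq, one_mul]
        rw [hE i hi.1 hi.2]
        congr 2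
        omega
      · simp
    | succ t ih =>
      intro ht
      have iht := ih (by omega)
      rw [if_pos (by omega : t < c)] at iht
      rw [show d + (t + 1) = (d + t) + 1 by omega, Function.iterate_succ_apply' (⇑F), iht, map_add,
        map_sum]
      have hpart1 : ∀ i ∈ Finset.Icc 1 d,
          F (∑ j ∈ Finset.Icc d (d + t),
            ((p : W) ^ (j - d) * (⇑σ)^[d + t - j] (a i j)) • (⇑F)^[d + t + i - j - 1] (e 1)) =
          ∑ j ∈ Finset.Icc d (d + t),
            ((p : W) ^ (j - d) * (⇑σ)^[d + t + 1 - j] (a i j)) •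
              (⇑F)^[d + t + 1 + i - j - 1] (e 1) := by
        intro i hi
        rw [Finset.mem_Icc] at hi
        rw [map_sum]
        refine Finset.sum_congr rfl (fun j hj => ?_)
        rw [Finset.mem_Icc] at hj
        rw [hF, map_mul, map_pow, map_natCast, ← Function.iterate_succ_apply' (⇑σ),
          ← Function.iterate_succ_apply' (⇑F)]
        have e1 : (d + t - j).succ = d + t + 1 - j := by omega
        have e2 : (d + t + i - j - 1).succ = d + t + 1 + i - j - 1 := by omega
        rw [e1, e2]
      rw [Finset.sum_congr rfl hpart1, hF, map_pow, map_natCast, hFe t ht, smul_add, Finset.smul_sum]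
      have hsplit : ∀ i ∈ Finset.Icc 1 d,
          ∑ j ∈ Finset.Icc d (d + t + 1),
            ((p : W) ^ (j - d) * (⇑σ)^[d + t + 1 - j] (a i j)) •
              (⇑F)^[d + t + 1 + i - j - 1] (e 1) =
          (∑ j ∈ Finset.Icc d (d + t),
            ((p : W) ^ (j - d) * (⇑σ)^[d + t + 1 - j] (a i j)) •
              (⇑F)^[d + t + 1 + i - j - 1] (e 1)) +
            (p : W) ^ t • ((p : W) * a i (d + t + 1)) • e i := by
        intro i hi
        rw [Finset.mem_Icc] at hi
        rw [Finset.sum_Icc_succ_top (by omega : d ≤ d + t + 1)]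
        congr 1
        have e3 : d + t + 1 - d = t + 1 := by omega
        have e4 : d + t + 1 - (d + t + 1) = 0 := by omega
        have e5 : d + t + 1 + i - (d + t + 1) - 1 = i - 1 := by omega
        rw [e3, e4, e5, Function.iterate_zero, id_eq, ← hE i hi.1 hi.2, smul_smul, pow_succ,
          mul_assoc]
      rw [Finset.sum_congr rfl hsplit, Finset.sum_add_distrib]
      have hassoc : ∀ (X Y Z T : M), Z = T → X + (Y + Z) = (X + Y) + T := by
        intro X Y Z T h
        rw [h, add_assoc]
      apply hassoc
      by_cases h : t + 1 < c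
      · rw [if_pos h, if_pos h, smul_smul, pow_succ]
      · rw [if_neg h, if_neg h, smul_zero]
  have hfin := key c le_rfl
  rw [if_neg (lt_irrefl c), add_zero] at hfin
  exact hfin

end Groth.Agent.S15494
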