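import Groth.Statements.S15495
-- import your own Groth.Agent.* helpers here
import Mathlib

set_option autoImplicit false
universe u
open CAlg

namespace Groth.Agent.S15495

theorem key {R : Type*} [CommRing R] (I J : Ideal R) (hJI : J ≤ I) (p : ℕ) (hp : (p : R) ∈ I)
    (y : R) (hy : y ∈ J) : (1 + y) ^ p - 1 ∈ I * J := by
  have h1 : (1 + y) ^ p - 1 = (∑ i ∈ Finset.range p, (1 + y) ^ i) * y := by
    have := geom_sum_mul (1 + y) p
    rw [add_sub_cancel_left] at this
    exact this.symm
  rw [h1]
  apply Ideal.mul_mem_mul _ hy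
  rw [← Ideal.Quotient.eq_zero_iff_mem]
  have hy0 : Ideal.Quotient.mk I y = 0 := Ideal.Quotient.eq_zero_iff_mem.mpr (hJI hy)
  have hp0 : Ideal.Quotient.mk I (p : R) = 0 := Ideal.Quotient.eq_zero_iff_mem.mpr hp
  simp only [map_sum, map_pow, map_add, map_one, hy0, add_zero, one_pow, Finset.sum_const,
    Finset.card_range, nsmul_eq_mul, mul_one]
  rw [← map_natCast (Ideal.Quotient.mk I) p]
  exact hp0

/-- In an Artinian local ring R whose maximal ideal m contains the prime number p, the multiplicative
group 1 + m is annihilated under some power of p: there is n with (1 + x)^(p^n) = 1 for every x in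
m. (The published text makes this assertion inside a proof, for Artinian local algebras over the
Witt ring of a perfect field of characteristic p; only p ∈ m and the nilpotence of m are used.) -/
theorem result
    (R : Type u) [CommRing R] [IsLocalRing R] [IsArtinianRing R]
    (p : ℕ) (hp : p.Prime) (hpm : (p : R) ∈ IsLocalRing.maximalIdeal R) :
    ∃ n : ℕ, ∀ x ∈ IsLocalRing.maximalIdeal R, (1 + x) ^ (p ^ n) = 1 := by
  have hnil : IsNilpotent (IsLocalRing.maximalIdeal R) := by
    rw [← IsLocalRing.jacobson_eq_maximalIdeal ⊥ bot_ne_top]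
    exact IsArtinianRing.isNilpotent_jacobson_bot
  obtain ⟨N, hN⟩ := hnil
  have hP : ∀ n : ℕ, ∀ x ∈ IsLocalRing.maximalIdeal R,
      (1 + x) ^ (p ^ n) - 1 ∈ (IsLocalRing.maximalIdeal R) ^ (n + 1) := by
    intro n
    induction n with
    | zero =>
      intro x hx
      simpa using hx
    | succ n ih =>
      intro x hx
      have hy := ih x hx
      have h2 := key (IsLocalRing.maximalIdeal R) ((IsLocalRing.maximalIdeal R) ^ (n + 1))
        (Ideal.pow_le_self (by omega)) p hpm _ hy
      rw [add_sub_cancel, ← pow_mul, ← pow_succ, ← pow_succ'] at h2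
      exact h2
  refine ⟨N, fun x hx => ?_⟩
  have h := hP N x hx
  have hle : (IsLocalRing.maximalIdeal R) ^ (N + 1) ≤ (IsLocalRing.maximalIdeal R) ^ N :=
    Ideal.pow_le_pow_right (Nat.le_succ N)
  have h0 := hle h
  rw [hN] at h0
  have h3 : (1 + x) ^ (p ^ N) - 1 = 0 := by simpa using h0
  exact sub_eq_zero.mp h3

end Groth.Agent.S15495
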