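import Groth.Statements.S15496
-- import your own Groth.Agent.* helpers here
import Mathlib

set_option autoImplicit false
universe u
open CAlg

namespace Groth.Agent.S15496



/-- Let R be a local ring with maximal ideal m, p a prime number lying in m, and suppose the residue
field of R is perfect, i.e. every element is a p-th power; let n ≥ 0. Then every unit of R is the
product of a p^n-th power of a unit and an element of 1 + m, and an element of 1 + m which is a
p^n-th power of a unit is a p^n-th power of an element of 1 + m; so the inclusion of 1 + m in the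
unit group induces a bijection between (1 + m)/(1 + m)^(p^n) and Rˣ/(Rˣ)^(p^n). (The published text
derives this equality of quotients, inside a proof, from perfectness of the base field K for all
Artinian local algebras over its Witt ring, whose residue fields need not be perfect; this row
assumes the residue field of R perfect of characteristic p, which the equality needs, and does not
assume R Artinian.) -/
theorem result
    (R : Type u) [CommRing R] [IsLocalRing R] (p : ℕ) (hp : p.Prime)
    (hpm : (p : R) ∈ IsLocalRing.maximalIdeal R)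
    (hperf : ∀ a : IsLocalRing.ResidueField R, ∃ b : IsLocalRing.ResidueField R, b ^ p = a)
    (n : ℕ) :
    (∀ u : Rˣ, ∃ v : Rˣ, ∃ x ∈ IsLocalRing.maximalIdeal R, (u : R) = (v : R) ^ (p ^ n) * (1 + x)) ∧
    (∀ x ∈ IsLocalRing.maximalIdeal R, (∃ v : Rˣ, (v : R) ^ (p ^ n) = 1 + x) →
      ∃ y ∈ IsLocalRing.maximalIdeal R, (1 + y) ^ (p ^ n) = 1 + x) := by
  classical
  have hpκ : (p : IsLocalRing.ResidueField R) = 0 := by
    have h0 : IsLocalRing.residue R (p : R) = 0 := (IsLocalRing.residue_eq_zero_iff _).mpr hpm
    simpa using h0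
  haveI : Fact p.Prime := ⟨hp⟩
  haveI : CharP (IsLocalRing.ResidueField R) p := (CharP.charP_iff_prime_eq_zero hp).mpr hpκ
  have hpos : p ^ n ≠ 0 := pow_ne_zero n hp.ne_zero
  have hroot : ∀ (n : ℕ) (a : IsLocalRing.ResidueField R), ∃ b, b ^ (p ^ n) = a := by
    intro n
    induction n with
    | zero =>
      intro a
      exact ⟨a, by simp⟩
    | succ n ih =>
      intro a
      obtain ⟨b, hb⟩ := hperf a
      obtain ⟨c, hc⟩ := ih b
      exact ⟨c, by rw [pow_succ, pow_mul, hc, hb]⟩
  have hinj : ∀ a : IsLocalRing.ResidueField R, a ^ (p ^ n) = 1 → a = 1 := by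
    intro a ha
    have h1 : (a - 1) ^ (p ^ n) = 0 := by
      rw [sub_pow_char_pow, ha, one_pow, sub_self]
    exact sub_eq_zero.mp ((pow_eq_zero_iff hpos).mp h1)
  have hunit_res : ∀ u : Rˣ, IsLocalRing.residue R (u : R) ≠ 0 := by
    intro u h0
    have h1 := (IsLocalRing.residue_eq_zero_iff _).mp h0
    exact ((IsLocalRing.mem_maximalIdeal _).mp h1) u.isUnit
  constructor
  · intro u
    obtain ⟨b', hb'⟩ := hroot n (IsLocalRing.residue R u)
    obtain ⟨b, rfl⟩ := IsLocalRing.residue_surjective b'
    have hbu : IsUnit b := by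
      by_contra hnu
      have h0 : IsLocalRing.residue R b = 0 :=
        (IsLocalRing.residue_eq_zero_iff b).mpr ((IsLocalRing.mem_maximalIdeal b).mpr hnu)
      rw [h0, zero_pow hpos] at hb'
      exact hunit_res u hb'.symm
    obtain ⟨v, rfl⟩ := hbu
    refine ⟨v, (↑((v ^ (p ^ n))⁻¹) : R) * u - 1, ?_, ?_⟩
    · rw [← IsLocalRing.residue_eq_zero_iff]
      have h2 : IsLocalRing.residue R (↑((v ^ (p ^ n))⁻¹) : R) *
          IsLocalRing.residue R ((v : R) ^ (p ^ n)) = 1 := by
        rw [← map_mul, ← Units.val_pow_eq_pow_val, Units.inv_mul, map_one]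
      rw [map_sub, map_mul, map_one, ← hb', ← map_pow, h2, sub_self]
    · rw [add_sub_cancel, ← Units.val_pow_eq_pow_val, Units.mul_inv_cancel_left]
  · rintro x hx ⟨v, hv⟩
    have h1 : IsLocalRing.residue R (v : R) = 1 := by
      apply hinj
      rw [← map_pow, hv, map_add, map_one, (IsLocalRing.residue_eq_zero_iff x).mpr hx, add_zero]
    refine ⟨(v : R) - 1, ?_, ?_⟩
    · rw [← IsLocalRing.residue_eq_zero_iff, map_sub, map_one, h1, sub_self]
    · rw [add_sub_cancel, hv]

end Groth.Agent.S15496
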