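import Groth.Statements.S15498
-- import your own Groth.Agent.* helpers here
import Mathlib

set_option autoImplicit false
open NewtonPoly

namespace Groth.Agent.S15498

theorem divsum_lemma (m n x y : ℕ) (hm : 0 < m) (hxy : x + y = m * n) (hx : ¬ m ∣ x) :
    x / m + y / m + 1 = n := by
  have h1 := Nat.div_add_mod x m
  have h2 := Nat.div_add_mod y m
  have h3 : x % m < m := Nat.mod_lt _ hm
  have h4 : y % m < m := Nat.mod_lt _ hm
  have h5 : x % m ≠ 0 := fun h => hx (Nat.dvd_of_mod_eq_zero h)
  have hr : 1 ≤ x % m := Nat.pos_of_ne_zero h5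
  generalize x / m = a at *
  generalize y / m = b at *
  generalize x % m = r at *
  generalize y % m = s at *
  have h6 : m * (a + b) < m * n := by nlinarith
  have h7 : m * n < m * (a + b + 2) := by nlinarith
  have h8 := Nat.lt_of_mul_lt_mul_left h6
  have h9 := Nat.lt_of_mul_lt_mul_left h7
  omega

theorem floor_sum (m n : ℕ) (hm : 0 < m) (hmn : Nat.Coprime m n) :
    2 * ∑ j ∈ Finset.range m, j * n / m = (m - 1) * (n - 1) := by
  have h0 : ∑ j ∈ Finset.range m, j * n / m = ∑ j ∈ Finset.Ico 1 m, j * n / m := by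
    rw [Finset.range_eq_Ico, Finset.sum_eq_sum_Ico_succ_bot hm]
    simp
  have h1 : ∑ j ∈ Finset.Ico 1 m, (m - j) * n / m = ∑ j ∈ Finset.Ico 1 m, j * n / m := by
    have := Finset.sum_Ico_reflect (fun j => j * n / m) 1 (Nat.le_succ m)
    simpa using this
  have h2 : ∑ j ∈ Finset.Ico 1 m, (j * n / m + (m - j) * n / m) =
      ∑ j ∈ Finset.Ico 1 m, (n - 1) := by
    refine Finset.sum_congr rfl fun j hj => ?_
    obtain ⟨hj1, hj2⟩ := Finset.mem_Ico.mp hj
    have hxy : j * n + (m - j) * n = m * n := by
      rw [← Nat.add_mul, Nat.add_sub_of_le hj2.le]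
    have hnd : ¬ m ∣ j * n := by
      intro hd
      have := Nat.le_of_dvd hj1 (hmn.dvd_of_dvd_mul_right hd)
      omega
    have := divsum_lemma m n _ _ hm hxy hnd
    generalize j * n / m = a at this ⊢
    generalize (m - j) * n / m = b at this ⊢
    omega
  have h3 : 2 * ∑ j ∈ Finset.Ico 1 m, j * n / m =
      ∑ j ∈ Finset.Ico 1 m, (j * n / m + (m - j) * n / m) := by
    rw [Finset.sum_add_distrib, h1, two_mul]
  rw [h0, h3, h2, Finset.sum_const, Nat.card_Ico, smul_eq_mul]

/-- Let m, n ≥ 1 be coprime, h = m + n, δ the segment from (0,0) to (h,m) (the isoclinic Newton polygon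
of slope m/h) and ρ the ordinary polygon with n slopes 0 followed with m slopes 1, so ρ(i) = max(0,
i − n). The integer points (i,j), 0 ≤ i ≤ h, on or above ρ and strictly below δ — that is max(0, i −
n) ≤ j and j·h < i·m — are (m−1)(n−1)/2 + (m+n−1) in number (which equals mn − r for r =
(m−1)(n−1)/2). (The published text works under m ≥ n > 0 coprime; the inequality m ≥ n is not used
and not assumed.) -/
theorem result
    (m n : ℕ) (hm : 0 < m) (hn : 0 < n) (hmn : Nat.Coprime m n) :
    ((Finset.range (m + n + 1) ×ˢ Finset.range (m + 1)).filter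
      (fun ij : ℕ × ℕ => ij.1 ≤ ij.2 + n ∧ ij.2 * (m + n) < ij.1 * m)).card
      = (m - 1) * (n - 1) / 2 + (m + n - 1) := by
  have step1 : ((Finset.range (m + n + 1) ×ˢ Finset.range (m + 1)).filter
      (fun ij : ℕ × ℕ => ij.1 ≤ ij.2 + n ∧ ij.2 * (m + n) < ij.1 * m)).card =
      ∑ j ∈ Finset.range (m + 1), ((Finset.range (m + n + 1)).filter
        (fun i => i ≤ j + n ∧ j * (m + n) < i * m)).card := by
    rw [Finset.card_filter, Finset.sum_product_right]
    refine Finset.sum_congr rfl fun j _ => ?_
    rw [Finset.card_filter]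
  have step2 : ∀ j ∈ Finset.range (m + 1), ((Finset.range (m + n + 1)).filter
      (fun i => i ≤ j + n ∧ j * (m + n) < i * m)).card = n - j * n / m := by
    intro j hj
    have hj' : j ≤ m := Nat.lt_succ_iff.mp (Finset.mem_range.mp hj)
    have hset : (Finset.range (m + n + 1)).filter
        (fun i => i ≤ j + n ∧ j * (m + n) < i * m) = Finset.Ioc (j * (m + n) / m) (j + n) := by
      ext i
      simp only [Finset.mem_filter, Finset.mem_range, Finset.mem_Ioc]
      rw [Nat.div_lt_iff_lt_mul hm]
      constructor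
      · rintro ⟨_, h1, h2⟩; exact ⟨h2, h1⟩
      · rintro ⟨h2, h1⟩; exact ⟨by omega, h1, h2⟩
    have hdiv : j * (m + n) / m = j * n / m + j := by
      rw [Nat.mul_add, add_comm, Nat.add_mul_div_right _ _ hm]
    rw [hset, Nat.card_Ioc, hdiv]
    omega
  have step3 : ∑ j ∈ Finset.range (m + 1), (n - j * n / m) =
      ∑ j ∈ Finset.range m, (n - j * n / m) := by
    rw [Finset.sum_range_succ, Nat.mul_div_cancel_left _ hm, Nat.sub_self, add_zero]
  have step4 : ∑ j ∈ Finset.range m, (n - j * n / m) + ∑ j ∈ Finset.range m, j * n / m =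
      m * n := by
    rw [← Finset.sum_add_distrib]
    rw [show ∑ j ∈ Finset.range m, (n - j * n / m + j * n / m) = ∑ j ∈ Finset.range m, n from ?_]
    · rw [Finset.sum_const, Finset.card_range, smul_eq_mul]
    · refine Finset.sum_congr rfl fun j hj => ?_
      have hj' : j < m := Finset.mem_range.mp hj
      have : j * n / m ≤ n := by
        calc j * n / m ≤ m * n / m := Nat.div_le_div_right (Nat.mul_le_mul_right n hj'.le)
          _ = n := Nat.mul_div_cancel_left _ hm
      omega
  have step5 := floor_sum m n hm hmn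
  have step6 : m * n = (m - 1) * (n - 1) + (m + n - 1) := by
    obtain ⟨a, rfl⟩ := Nat.exists_eq_succ_of_ne_zero hm.ne'
    obtain ⟨b, rfl⟩ := Nat.exists_eq_succ_of_ne_zero hn.ne'
    simp only [Nat.succ_eq_add_one, Nat.add_sub_cancel]
    have : a + 1 + (b + 1) - 1 = a + b + 1 := by omega
    rw [this]
    ring
  rw [step1, Finset.sum_congr rfl step2, step3]
  generalize ∑ j ∈ Finset.range m, (n - j * n / m) = A at *
  generalize ∑ j ∈ Finset.range m, j * n / m = T at *
  generalize (m - 1) * (n - 1) = P at *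
  generalize m * n = B at *
  omega

end Groth.Agent.S15498
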