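import Groth.Statements.S15504
-- import your own Groth.Agent.* helpers here
import Mathlib

set_option autoImplicit false
universe u v
open FrobAlg

namespace Groth.Agent.S15504

theorem isArtinian_of_torsion (R M : Type*) [CommRing R] [IsDomain R] [IsNoetherianRing R]
    [Ring.KrullDimLE 1 R] [AddCommGroup M] [Module R M] [Module.Finite R M]
    (hM : Module.IsTorsion R M) : IsArtinian R M := by
  obtain ⟨a, ha_ann, ha_nzd⟩ := Submodule.annihilator_top_inter_nonZeroDivisors hM
  have hMa : Module.IsTorsionBySet R M (Ideal.span {a} : Ideal R) := by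
    rw [Module.isTorsionBySet_span_singleton_iff]
    intro x
    exact Submodule.mem_annihilator.mp ha_ann x Submodule.mem_top
  letI := hMa.module
  haveI : IsScalarTower R (R ⧸ Ideal.span {a}) M := Module.IsTorsionBySet.isScalarTower hMa
  haveI : IsArtinianRing (R ⧸ Ideal.span {a}) :=
    isArtinian_of_tower R (isFiniteLength_iff_isNoetherian_isArtinian.mp
      (isFiniteLength_quotient_span_singleton R ha_nzd)).2
  haveI : Module.Finite (R ⧸ Ideal.span {a}) M := Module.Finite.of_restrictScalars_finite R _ M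
  haveI : IsArtinian (R ⧸ Ideal.span {a}) M := inferInstance
  exact isArtinian_of_surjective_algebraMap (R := R ⧸ Ideal.span {a}) (S := R) (M := M)
    Ideal.Quotient.mk_surjective

theorem fitting_semilinear {R M : Type*} [CommRing R] [AddCommGroup M] [Module R M]
    [IsNoetherian R M] [IsArtinian R M]
    (σ : R ≃+* R) (φ : M →ₛₗ[(σ : R →+* R)] M) :
    ∃ Ms Mn : Submodule R M, IsCompl Ms Mn ∧ Set.MapsTo φ Ms Ms ∧ Set.MapsTo φ Mn Mn ∧
      Set.BijOn φ Ms Ms ∧ ∃ r : ℕ, ∀ x ∈ Mn, (⇑φ)^[r] x = 0 := by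
  have hsmul : ∀ (n : ℕ) (a : R) (x : M), (⇑φ)^[n] (a • x) = (⇑σ)^[n] a • (⇑φ)^[n] x := by
    intro n
    induction n with
    | zero => intro a x; rfl
    | succ n ih =>
      intro a x
      rw [Function.iterate_succ_apply', Function.iterate_succ_apply',
        Function.iterate_succ_apply', ih, map_smulₛₗ]
      rfl
  have hadd : ∀ (n : ℕ) (x y : M), (⇑φ)^[n] (x + y) = (⇑φ)^[n] x + (⇑φ)^[n] y :=
    fun n x y => iterate_map_add φ n x y
  have hzero : ∀ n : ℕ, (⇑φ)^[n] 0 = 0 := fun n => iterate_map_zero φ n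
  have hsub : ∀ (n : ℕ) (x y : M), (⇑φ)^[n] (x - y) = (⇑φ)^[n] x - (⇑φ)^[n] y :=
    fun n x y => iterate_map_sub φ n x y
  let K : ℕ → Submodule R M := fun n =>
    { carrier := {x | (⇑φ)^[n] x = 0}
      add_mem' := by
        intro x y hx hy
        simp only [Set.mem_setOf_eq] at *
        rw [hadd, hx, hy, add_zero]
      zero_mem' := hzero n
      smul_mem' := by
        intro a x hx
        simp only [Set.mem_setOf_eq] at *
        rw [hsmul, hx, smul_zero] }
  let Rg : ℕ → Submodule R M := fun n =>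
    { carrier := Set.range (⇑φ)^[n]
      add_mem' := by
        rintro _ _ ⟨x, rfl⟩ ⟨y, rfl⟩
        exact ⟨x + y, hadd n x y⟩
      zero_mem' := ⟨0, hzero n⟩
      smul_mem' := by
        rintro a _ ⟨x, rfl⟩
        refine ⟨(⇑σ.symm)^[n] a • x, ?_⟩
        rw [hsmul, (Function.LeftInverse.iterate σ.apply_symm_apply n) a] }
  have hKmem : ∀ n x, x ∈ K n ↔ (⇑φ)^[n] x = 0 := fun n x => Iff.rfl
  have hRmem : ∀ n x, x ∈ Rg n ↔ ∃ y, (⇑φ)^[n] y = x := fun n x => Iff.rfl
  have hKmono : Monotone K := by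
    apply monotone_nat_of_le_succ
    intro n x hx
    rw [hKmem] at hx ⊢
    rw [Function.iterate_succ_apply', hx, map_zero]
  have hRanti : Antitone Rg := by
    apply antitone_nat_of_succ_le
    intro n x hx
    rw [hRmem] at hx ⊢
    obtain ⟨y, rfl⟩ := hx
    exact ⟨φ y, (Function.iterate_succ_apply _ _ _).symm⟩
  obtain ⟨n₁, hn₁⟩ := monotone_stabilizes_iff_noetherian.mpr ‹IsNoetherian R M› ⟨K, hKmono⟩
  obtain ⟨n₂, hn₂⟩ := IsArtinian.monotone_stabilizes (R := R) (M := M)
    ⟨fun n => OrderDual.toDual (Rg n), fun a b hab => hRanti hab⟩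
  set n := max n₁ n₂ with hn
  have hK : ∀ m, n ≤ m → K n = K m := fun m hm => by
    have h1 : K n₁ = K n := hn₁ n (le_max_left _ _)
    have h2 : K n₁ = K m := hn₁ m (le_trans (le_max_left _ _) hm)
    exact h1.symm.trans h2
  have hR : ∀ m, n ≤ m → Rg n = Rg m := fun m hm => by
    have h1 : Rg n₂ = Rg n := hn₂ n (le_max_right _ _)
    have h2 : Rg n₂ = Rg m := hn₂ m (le_trans (le_max_right _ _) hm)
    exact h1.symm.trans h2
  have hdisj : Disjoint (Rg n) (K n) := by
    rw [Submodule.disjoint_def]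
    intro x hxR hxK
    obtain ⟨y, rfl⟩ := hxR
    have hy : y ∈ K (n + n) := by
      rw [hKmem, Function.iterate_add_apply]; exact hxK
    rw [← hK (n + n) (Nat.le_add_right n n)] at hy
    exact hy
  have hcodisj : Codisjoint (Rg n) (K n) := by
    rw [codisjoint_iff, eq_top_iff]
    intro x _
    have h1 : (⇑φ)^[n] x ∈ Rg n := ⟨x, rfl⟩
    rw [hR (n + n) (Nat.le_add_right n n)] at h1
    obtain ⟨y, hy⟩ := h1
    rw [Function.iterate_add_apply] at hy
    rw [Submodule.mem_sup]
    refine ⟨(⇑φ)^[n] y, ⟨y, rfl⟩, x - (⇑φ)^[n] y, ?_, by abel⟩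
    rw [hKmem, hsub, hy, sub_self]
  have hmapsR : Set.MapsTo φ (Rg n) (Rg n) := by
    rintro _ ⟨y, rfl⟩
    exact ⟨φ y, (Function.iterate_succ_apply _ _ _).symm.trans
      (Function.iterate_succ_apply' _ _ _)⟩
  have hmapsK : Set.MapsTo φ (K n) (K n) := by
    intro x hx
    show (⇑φ)^[n] (φ x) = 0
    rw [← Function.iterate_succ_apply, Function.iterate_succ_apply',
      (hx : (⇑φ)^[n] x = 0), map_zero]
  refine ⟨Rg n, K n, ⟨hdisj, hcodisj⟩, hmapsR, hmapsK, ⟨hmapsR, ?_, ?_⟩, n, fun x hx => hx⟩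
  · intro x hx x' hx' hxx'
    have h1 : x - x' ∈ K n := by
      rw [hK (n + 1) (Nat.le_succ n)]
      rw [hKmem, Function.iterate_succ_apply, map_sub, hxx', sub_self, hzero]
    have h2 : x - x' ∈ Rg n := (Rg n).sub_mem hx hx'
    have := (Submodule.disjoint_def.mp hdisj) _ h2 h1
    exact sub_eq_zero.mp this
  · intro y hy
    have hy' : y ∈ Rg (n + 1) := by rw [← hR (n + 1) (Nat.le_succ n)]; exact hy
    obtain ⟨z, rfl⟩ := hy'
    exact ⟨(⇑φ)^[n] z, ⟨z, rfl⟩, (Function.iterate_succ_apply' _ _ _).symm⟩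

/-- Let k be an algebraically closed field of characteristic p, W = W(k) the ring of p-typical Witt
vectors, M a finitely generated torsion W-module and φ a p⁻¹-linear endomorphism of M (additive,
with φ(a·m) = σ⁻¹(a)·φ(m) for the Frobenius automorphism σ of W). Then M = M_s ⊕ M_n for two
φ-stable submodules, with φ bijective on M_s and nilpotent on M_n (one iterate of φ kills M_n). -/
theorem result (p : ℕ) [Fact p.Prime]
    (k : Type u) [Field k] [CharP k p] [IsAlgClosed k]
    (M : Type v) [AddCommGroup M] [Module (WittVector p k) M] [Module.Finite (WittVector p k) M]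
    (hM : Module.IsTorsion (WittVector p k) M)
    (φ : M →ₛₗ[((WittVector.frobeniusEquiv p k).symm : WittVector p k →+* WittVector p k)] M) :
    ∃ Ms Mn : Submodule (WittVector p k) M, IsCompl Ms Mn ∧
      Set.MapsTo φ Ms Ms ∧ Set.MapsTo φ Mn Mn ∧ Set.BijOn φ Ms Ms ∧
      ∃ r : ℕ, ∀ x ∈ Mn, (⇑φ)^[r] x = 0 := by
  haveI : IsArtinian (WittVector p k) M := isArtinian_of_torsion _ _ hM
  haveI : IsNoetherian (WittVector p k) M := inferInstance
  exact fitting_semilinear ((WittVector.frobeniusEquiv p k).symm) φ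

end Groth.Agent.S15504
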