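import Groth.Statements.S15505
-- import your own Groth.Agent.* helpers here
import Mathlib

set_option autoImplicit false
universe u v w
open FrobAlg

namespace Groth.Agent.S15505



/-- Let k be an algebraically closed field of characteristic p, V a k-vector space, φ a p⁻¹-linear
endomorphism of V (additive, φ(a·v) = a^{1/p}·φ(v)) and b a finite basis of V consisting of vectors
fixed by φ. Then the vectors fixed by φ are exactly the combinations of the b_i with coefficients in
the prime field: v is fixed if and only if v = Σ c_i·b_i with all c_i in the image of ℤ/p. -/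
theorem result (p : ℕ) [Fact p.Prime]
    (k : Type u) [Field k] [CharP k p] [IsAlgClosed k]
    (V : Type v) [AddCommGroup V] [Module k V]
    (φ : V →ₛₗ[((frobeniusEquiv k p).symm : k →+* k)] V)
    {ι : Type w} [Fintype ι] (b : Module.Basis ι k V) (hb : ∀ i, φ (b i) = b i) (v : V) :
    φ v = v ↔ ∃ c : ι → ZMod p, v = ∑ i, (ZMod.castHom (dvd_refl p) k (c i)) • b i := by
  classical
  have hτ : ∀ x : k, ((frobeniusEquiv k p).symm : k →+* k) x = x ↔ x ^ p = x := by
    intro x
    constructor
    · intro h
      have h1 := frobeniusEquiv_symm_pow_p k p x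
      have h2 : (frobeniusEquiv k p).symm x = x := h
      rw [h2] at h1
      exact h1
    · intro h
      have h1 := frobeniusEquiv_symm_pow k p x
      rw [h] at h1
      exact h1
  have hφsum : ∀ c : ι → k, φ (∑ i, c i • b i) =
      ∑ i, ((frobeniusEquiv k p).symm : k →+* k) (c i) • b i := by
    intro c
    rw [map_sum]
    refine Finset.sum_congr rfl (fun i _ => ?_)
    rw [φ.map_smulₛₗ, hb]
  have hcast : ∀ c : ZMod p,
      (ZMod.castHom (dvd_refl p) k c) ^ p = ZMod.castHom (dvd_refl p) k c := by
    intro c
    rw [← map_pow, ZMod.pow_card]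
  constructor
  · intro hv
    have hrepr : ∀ i, ((frobeniusEquiv k p).symm : k →+* k) (b.repr v i) = b.repr v i := by
      have h1 : φ (∑ i, b.repr v i • b i) = ∑ i, b.repr v i • b i := by
        rw [b.sum_repr]
        exact hv
      rw [hφsum] at h1
      intro i
      have h2 := congrArg (fun w => (b.repr w : ι → k)) h1
      simp only [Module.Basis.repr_sum_self] at h2
      exact congrFun h2 i
    have hmem : ∀ i, b.repr v i ∈ (ZMod.castHom (m := p) dvd_rfl k).fieldRange := by
      intro i
      rw [ZMod.fieldRange_castHom_eq_bot p]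
      exact (Subfield.mem_bot_iff_pow_eq_self k p).mpr ((hτ _).mp (hrepr i))
    choose c hc using hmem
    refine ⟨c, ?_⟩
    conv_lhs => rw [← b.sum_repr v]
    refine Finset.sum_congr rfl (fun i _ => ?_)
    rw [← hc i]
  · rintro ⟨c, rfl⟩
    rw [hφsum]
    refine Finset.sum_congr rfl (fun i _ => ?_)
    rw [(hτ _).mpr (hcast (c i))]

end Groth.Agent.S15505
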