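import Groth.Statements.S15506
-- import your own Groth.Agent.* helpers here
import Mathlib

set_option autoImplicit false
universe u
open CategoryTheory AlgebraicGeometry
open EtBase

namespace Groth.Agent.S15506

open AlgebraicGeometry CategoryTheory

theorem surj_beta (k : Type u) [Field k] (y : Spec (CommRingCat.of k)) :
    ∃ β : CommRingCat.of k ⟶ (Spec (CommRingCat.of k)).residueField y,
      Spec.map β = (Spec (CommRingCat.of k)).fromSpecResidueField y ∧
        Function.Surjective β.hom := by
  have h0 : y.asIdeal = ⊥ := @Ideal.eq_bot_of_prime _ _ y.asIdeal y.isPrime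
  haveI : y.asIdeal.IsMaximal := h0 ▸ Ideal.bot_isMaximal
  refine ⟨CommRingCat.ofHom (algebraMap k y.asIdeal.ResidueField) ≫
    (Scheme.Spec.residueFieldIso (CommRingCat.of k) y).inv, ?_, ?_⟩
  · rw [Spec.map_comp]
    exact Scheme.Spec.map_residueFieldIso_inv_eq_fromSpecResidueField _ _
  · rw [CommRingCat.hom_comp]
    exact ((ConcreteCategory.bijective_of_isIso
      (Scheme.Spec.residueFieldIso (CommRingCat.of k) y).inv).surjective).comp
      (Ideal.algebraMap_residueField_surjective _)

theorem alg_of {k F E Ω : Type*} [Field k] [Field F] [Field E] [Field Ω] [Algebra k Ω]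
    (β : k →+* F) (hβ : Function.Surjective β) (ρ : F →+* E) (ψ : E →+* Ω)
    (hcomp : ψ.comp (ρ.comp β) = algebraMap k Ω)
    (hint : ∀ a : E, ∃ P : Polynomial F, P ≠ 0 ∧ P.eval₂ ρ a = 0) (a : E) :
    IsAlgebraic k (ψ a) := by
  obtain ⟨P, hP0, hP⟩ := hint a
  obtain ⟨Q, rfl⟩ := Polynomial.map_surjective β hβ P
  refine ⟨Q, fun h => hP0 (by rw [h, Polynomial.map_zero]), ?_⟩
  rw [Polynomial.aeval_def, ← hcomp, ← Polynomial.hom_eval₂, ← Polynomial.eval₂_map, hP, map_zero]

theorem mem_range_of_isAlgebraic' {k K Ω : Type*} [Field k] [Field K] [Field Ω] [Algebra k K]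
    [IsAlgClosed K] [Algebra K Ω] [Algebra k Ω] [IsScalarTower k K Ω] (ω : Ω)
    (hω : IsAlgebraic k ω) : ω ∈ (algebraMap K Ω).range := by
  have h1 : IsAlgebraic K ω := hω.tower_top K
  have h2 : IsIntegral K ω := h1.isIntegral
  apply minpoly.mem_range_of_degree_eq_one
  exact IsAlgClosed.degree_eq_one_of_irreducible K (minpoly.irreducible h2)

theorem factor_through' {K E Ω : Type*} [Field K] [Field E] [Field Ω] (j : K →+* Ω) (ψ : E →+* Ω)
    (h : ∀ a, ψ a ∈ j.range) : ∃ ψ' : E →+* K, j.comp ψ' = ψ := by
  have hj : Function.Injective j := j.injective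
  choose g hg using fun a => RingHom.mem_range.mp (h a)
  refine ⟨{ toFun := g
            map_one' := hj (by rw [hg, map_one, map_one])
            map_mul' := fun a b => hj (by rw [hg, map_mul, map_mul, hg, hg])
            map_zero' := hj (by rw [hg, map_zero, map_zero])
            map_add' := fun a b => hj (by rw [hg, map_add, map_add, hg, hg]) }, ?_⟩
  ext a
  exact hg a

/-- Let k be a field, K an algebraic closure of k (an algebraically closed field algebraic over k), Ω a
field containing K, and Z a scheme étale over Spec k. Composition with Spec Ω → Spec K is a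
bijection from the k-morphisms Spec K → Z onto the k-morphisms Spec Ω → Z: two k-morphisms Spec K →
Z that agree on Spec Ω are equal, and every k-morphism Spec Ω → Z factors through Spec K. (The
published statement is the case where k has characteristic zero with a chosen embedding of its
algebraic closure into the complex numbers, Ω = ℂ, and Z is the scheme of isomorphisms between two
K3 surfaces over k, known there to be étale over k; this row states the fact about an arbitrary
étale k-scheme that the argument establishes.) -/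
theorem result
    (k K Ω : Type u) [Field k] [Field K] [Field Ω] [Algebra k K] [IsAlgClosed K] [Algebra.IsAlgebraic k K]
    [Algebra K Ω] [Algebra k Ω] [IsScalarTower k K Ω]
    (Z : Scheme.{u}) (f : Z ⟶ Spec (CommRingCat.of k)) [AlgebraicGeometry.Etale f] :
    (∀ g₁ g₂ : Spec (CommRingCat.of K) ⟶ Z,
        g₁ ≫ f = Spec.map (CommRingCat.ofHom (algebraMap k K)) →
        g₂ ≫ f = Spec.map (CommRingCat.ofHom (algebraMap k K)) →
        Spec.map (CommRingCat.ofHom (algebraMap K Ω)) ≫ g₁ = Spec.map (CommRingCat.ofHom (algebraMap K Ω)) ≫ g₂ →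
        g₁ = g₂) ∧
    (∀ h : Spec (CommRingCat.of Ω) ⟶ Z, h ≫ f = Spec.map (CommRingCat.ofHom (algebraMap k Ω)) →
        ∃ g : Spec (CommRingCat.of K) ⟶ Z, g ≫ f = Spec.map (CommRingCat.ofHom (algebraMap k K)) ∧
          Spec.map (CommRingCat.ofHom (algebraMap K Ω)) ≫ g = h) := by
  constructor
  · intro g₁ g₂ _ _ h12
    haveI : Flat (Spec.map (CommRingCat.ofHom (algebraMap K Ω))) := by
      rw [HasRingHomProperty.Spec_iff (P := @Flat)]
      simp only [CommRingCat.hom_ofHom]
      rw [RingHom.flat_algebraMap_iff]
      infer_instance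
    haveI : Surjective (Spec.map (CommRingCat.ofHom (algebraMap K Ω))) :=
      ⟨fun y => ⟨default, Subsingleton.elim _ _⟩⟩
    haveI : Epi (Spec.map (CommRingCat.ofHom (algebraMap K Ω))) :=
      Flat.epi_of_flat_of_surjective _
    exact (cancel_epi _).mp h12
  · intro h hh
    obtain ⟨z, ψ, hh'⟩ : ∃ z, ∃ ψ : Z.residueField z ⟶ CommRingCat.of Ω,
        Spec.map ψ ≫ Z.fromSpecResidueField z = h :=
      ⟨_, _, Scheme.descResidueField_stalkClosedPointTo_fromSpecResidueField Ω Z h⟩
    obtain ⟨β, hβ, hβsurj⟩ := surj_beta k (f z)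
    have hα : Spec.map (β ≫ f.residueFieldMap z) = Z.fromSpecResidueField z ≫ f := by
      rw [Spec.map_comp, hβ]
      exact Scheme.Hom.SpecMap_residueFieldMap_fromSpecResidueField f z
    have hcomp : (β ≫ f.residueFieldMap z) ≫ ψ = CommRingCat.ofHom (algebraMap k Ω) := by
      apply Spec.map_injective
      rw [Spec.map_comp, hα, ← Category.assoc, hh', hh]
    have hint : ∀ a : Z.residueField z,
        ∃ P : Polynomial ((Spec (CommRingCat.of k)).residueField (f z)),
          P ≠ 0 ∧ P.eval₂ (f.residueFieldMap z).hom a = 0 := by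
      letI alg : Algebra ((Spec (CommRingCat.of k)).residueField (f z)) (Z.residueField z) :=
        (f.residueFieldMap z).hom.toAlgebra
      haveI hsep : Algebra.IsSeparable ((Spec (CommRingCat.of k)).residueField (f z))
        (Z.residueField z) := inferInstance
      intro a
      obtain ⟨P, hPm, hP⟩ := Algebra.IsSeparable.isIntegral
        ((Spec (CommRingCat.of k)).residueField (f z)) a
      exact ⟨P, hPm.ne_zero, hP⟩
    have hcomp' : ψ.hom.comp ((f.residueFieldMap z).hom.comp β.hom) = algebraMap k Ω := by
      have := congrArg (fun t => t.hom) hcomp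
      simpa [CommRingCat.hom_comp, RingHom.comp_assoc] using this
    have halg : ∀ a : Z.residueField z, ψ.hom a ∈ (algebraMap K Ω).range := fun a =>
      mem_range_of_isAlgebraic' (k := k) _
        (alg_of β.hom hβsurj (f.residueFieldMap z).hom ψ.hom hcomp' hint a)
    obtain ⟨ψ', hψ'⟩ := factor_through' (algebraMap K Ω) ψ.hom halg
    have hψ'' : CommRingCat.ofHom ψ' ≫ CommRingCat.ofHom (algebraMap K Ω) = ψ := by
      ext a
      exact congrArg (fun t => t a) hψ'
    refine ⟨Spec.map (CommRingCat.ofHom ψ') ≫ Z.fromSpecResidueField z, ?_, ?_⟩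
    · rw [Category.assoc, ← hα, ← Spec.map_comp]
      congr 1
      ext a
      apply (algebraMap K Ω).injective
      have h1 := congrArg (fun t => t a) hcomp'
      have h2 := congrArg (fun t => t ((f.residueFieldMap z).hom (β.hom a))) hψ'
      simp only [RingHom.comp_apply] at h1 h2
      simp only [CommRingCat.hom_comp, CommRingCat.hom_ofHom, RingHom.comp_apply]
      rw [h2, h1]
      exact (IsScalarTower.algebraMap_apply k K Ω a)
    · rw [← Category.assoc, ← Spec.map_comp, hψ'', hh']

end Groth.Agent.S15506
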