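import Groth.Statements.S15522
import Groth.Agent.Lib.Helper13.CBCRank
import Groth.Agent.Lib.Helper13.CBCTransfer
import Groth.Agent.S2381

set_option autoImplicit false
universe u
attribute [local instance] HasDerivedCategory.standard
open Coherent

namespace Groth.Agent.S15522

open AlgebraicGeometry CategoryTheory in
/-- Let A be a reduced Noetherian ring, X a proper scheme over Spec A with structure morphism f, F a
coherent O_X-module flat over Spec A, and p a natural number such that the function y ↦ dim_{κ(y)}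
H^p(X_y, F_y) is locally constant on Spec A. For each q write T^q for the functor M ↦ H^q(X, f^*(M~)
⊗ F) from A-modules to abelian groups. Then T^p takes surjections to surjections, and so does
T^(p-1) when p ≥ 1; equivalently, every base-change map H^q(X, F) ⊗_A M → H^q(X, F ⊗_A M) is
bijective for q = p and q = p - 1. (The published statement also asserts that R^p f_*F is locally
free of finite rank; this row states the two exchange properties only, over an affine base.) -/
theorem result (A : Type u) [CommRing A]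
    [IsNoetherianRing A] [IsReduced A] (X : Scheme.{u}) [X.Over (Spec (CommRingCat.of A))]
    [IsProper (X ↘ Spec (CommRingCat.of A))] (F : X.Modules) (hF : Coh.IsCoh F)
    (hfl : FlatMod.IsFlatOver (X ↘ Spec (CommRingCat.of A)) F) (p : ℕ)
    (hconst : IsLocallyConstant (CohIII.fiberRank (X ↘ Spec (CommRingCat.of A)) F p)) :
    (CohIII.tensorAFunctor A F ⋙ CohIII.HAb X p).PreservesEpimorphisms ∧
      ∀ q : ℕ, q + 1 = p → (CohIII.tensorAFunctor A F ⋙ CohIII.HAb X q).PreservesEpimorphisms := by
  haveI : F.IsQuasicoherent := hF.1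
  obtain ⟨Q, hQ, -, -, hν⟩ := Groth.Agent.Lib.Helper13.CBCMain.bridge A X F hF hfl
  obtain ⟨ν⟩ := hν p
  have hQ' : ∀ i, Module.Finite A (Q.X i) ∧ Module.Flat A (Q.X i) := fun i =>
    ⟨(hQ i).1, haveI := (hQ i).2; inferInstance⟩
  have hfun : CohIII.fiberRank (X ↘ Spec (CommRingCat.of A)) F p =
      fun y => CohIII.dRank Q (-(p : ℤ)) y :=
    funext (fun y => Groth.Agent.Lib.Helper13.CBCRank.fiberRank_eq_dRank A X F p Q ν y)
  have hd : IsLocallyConstant (CohIII.dRank Q (-(p : ℤ))) := by
    rw [hfun] at hconst
    exact hconst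
  obtain ⟨hm, he⟩ := (Groth.Agent.S2381.result Q hQ' (-(p : ℤ))).2 inferInstance hd
  refine ⟨(Groth.Agent.Lib.Helper13.CBCTransfer.preservesEpi_iff ν).2 he, ?_⟩
  intro q hq
  obtain ⟨νq⟩ := hν q
  have hrel : (ComplexShape.down ℤ).Rel (-(q : ℤ)) (-(p : ℤ)) := by
    show -(p : ℤ) + 1 = -(q : ℤ)
    rw [← hq]
    push_cast
    ring
  have heq := (Groth.Agent.Lib.Helper7.TFun_preservesMono_iff_preservesEpi Q (fun i => (hQ' i).2)
    (-(q : ℤ)) (-(p : ℤ)) hrel).1 hm
  exact (Groth.Agent.Lib.Helper13.CBCTransfer.preservesEpi_iff νq).2 heq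

end Groth.Agent.S15522
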