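import Groth.Statements.S15524
-- import your own Groth.Agent.* helpers here
import Mathlib

set_option autoImplicit false
open Finset
open Zeta

namespace Groth.Agent.S15524

theorem powersum_bound {n : ℕ} (β : Fin n → ℂ) (R : ℝ) (hR : 0 < R) (C : ℝ)
    (h : ∀ N : ℕ, 1 ≤ N → ‖∑ i, β i ^ N‖ ≤ C * R ^ N) (i₀ : Fin n) : ‖β i₀‖ ≤ R := by
  classical
  by_contra hcon
  push_neg at hcon
  obtain ⟨γ₀, hγ₀⟩ : ∃ γ₀ : ℂ, γ₀ = β i₀ := ⟨_, rfl⟩
  rw [← hγ₀] at hcon
  obtain ⟨L, hL⟩ : ∃ L : Polynomial ℂ,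
      L = ∏ γ ∈ (Finset.univ.image β).erase γ₀, (Polynomial.X - Polynomial.C γ) := ⟨_, rfl⟩
  obtain ⟨lam, hlam⟩ : ∃ lam : ℂ, lam = L.eval γ₀ := ⟨_, rfl⟩
  have hlam_ne : lam ≠ 0 := by
    rw [hlam, hL, Polynomial.eval_prod, Finset.prod_ne_zero_iff]
    intro γ hγ
    simp only [Polynomial.eval_sub, Polynomial.eval_X, Polynomial.eval_C]
    exact sub_ne_zero.mpr (Finset.ne_of_mem_erase hγ).symm
  have hLeval : ∀ i, L.eval (β i) = if β i = γ₀ then lam else 0 := by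
    intro i
    split_ifs with hi
    · rw [hi, hlam]
    · rw [hL, Polynomial.eval_prod]
      apply Finset.prod_eq_zero (i := β i)
      · exact Finset.mem_erase.mpr ⟨hi, Finset.mem_image_of_mem β (Finset.mem_univ i)⟩
      · simp
  obtain ⟨m, hm⟩ : ∃ m : ℕ, m = (Finset.univ.filter (fun i => β i = γ₀)).card := ⟨_, rfl⟩
  have hm1 : 1 ≤ m := by
    rw [hm]
    exact Finset.card_pos.mpr ⟨i₀, Finset.mem_filter.mpr ⟨Finset.mem_univ _, hγ₀.symm⟩⟩
  have hident : ∀ N : ℕ,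
      ∑ a ∈ Finset.range (L.natDegree + 1), L.coeff a * ∑ i, β i ^ (N + a) =
        (m : ℂ) * (γ₀ ^ N * lam) := by
    intro N
    calc ∑ a ∈ Finset.range (L.natDegree + 1), L.coeff a * ∑ i, β i ^ (N + a)
        = ∑ i, β i ^ N * L.eval (β i) := by
          simp_rw [Polynomial.eval_eq_sum_range, Finset.mul_sum]
          rw [Finset.sum_comm]
          refine Finset.sum_congr rfl fun i _ => Finset.sum_congr rfl fun a _ => ?_
          rw [pow_add]; ring
      _ = ∑ i, if β i = γ₀ then γ₀ ^ N * lam else 0 := by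
          refine Finset.sum_congr rfl fun i _ => ?_
          rw [hLeval]
          split_ifs with hi
          · rw [hi]
          · rw [mul_zero]
      _ = _ := by
          rw [← Finset.sum_filter, Finset.sum_const, nsmul_eq_mul, hm]
  obtain ⟨K, hK⟩ : ∃ K : ℝ,
      K = ∑ a ∈ Finset.range (L.natDegree + 1), ‖L.coeff a‖ * (C * R ^ a) := ⟨_, rfl⟩
  obtain ⟨μ, hμ⟩ : ∃ μ : ℝ, μ = (m : ℝ) * ‖lam‖ := ⟨_, rfl⟩
  have hμpos : 0 < μ := by
    rw [hμ]
    exact mul_pos (by exact_mod_cast hm1) (norm_pos_iff.mpr hlam_ne)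
  have hρ : 1 < ‖γ₀‖ / R := (one_lt_div hR).mpr hcon
  obtain ⟨N, hN⟩ := pow_unbounded_of_one_lt (max (K / μ) 1) hρ
  have hN1 : 1 ≤ N := by
    rcases Nat.eq_zero_or_pos N with h0 | h0
    · rw [h0, pow_zero] at hN
      exact absurd (le_max_right _ _) (not_le.mpr hN)
    · exact h0
  have hbound : ‖γ₀‖ ^ N * μ ≤ R ^ N * K := by
    have e1 := congrArg norm (hident N)
    rw [norm_mul, norm_mul, norm_pow, Complex.norm_natCast] at e1
    have e2 : ‖∑ a ∈ Finset.range (L.natDegree + 1), L.coeff a * ∑ i, β i ^ (N + a)‖ ≤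
        R ^ N * K := by
      calc _ ≤ ∑ a ∈ Finset.range (L.natDegree + 1), ‖L.coeff a * ∑ i, β i ^ (N + a)‖ :=
            norm_sum_le _ _
        _ ≤ ∑ a ∈ Finset.range (L.natDegree + 1), ‖L.coeff a‖ * (C * R ^ (N + a)) := by
            refine Finset.sum_le_sum fun a _ => ?_
            rw [norm_mul]
            exact mul_le_mul_of_nonneg_left (h (N + a) (by omega)) (norm_nonneg _)
        _ = R ^ N * K := by
            rw [hK, Finset.mul_sum]
            refine Finset.sum_congr rfl fun a _ => ?_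
            rw [pow_add]; ring
    rw [e1] at e2
    calc ‖γ₀‖ ^ N * μ = (m : ℝ) * (‖γ₀‖ ^ N * ‖lam‖) := by rw [hμ]; ring
      _ ≤ R ^ N * K := e2
  have hRN : 0 < R ^ N := pow_pos hR N
  have h1 : (‖γ₀‖ / R) ^ N * μ ≤ K := by
    rw [div_pow, div_mul_eq_mul_div, div_le_iff₀ hRN]
    linarith [hbound]
  have h2 : (‖γ₀‖ / R) ^ N ≤ K / μ := (le_div_iff₀ hμpos).mpr h1
  exact absurd h2 (not_le.mpr (lt_of_le_of_lt (le_max_left _ _) hN))

/-- Let q ≥ 1 and let α_1, …, α_{2g} be complex numbers permuted by α ↦ q/α, i.e. α_{σ(i)} α_i = q for a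
permutation σ of the indices; these play the role of the inverse roots of the numerator of the zeta
function of a curve over a field with q elements, for which #X(F_{q^N}) = q^N + 1 − Σ_i α_i^N. If
for some d ≥ 1 and real C one has |Σ_i α_i^{dN}| ≤ C q^{dN/2} for every N ≥ 1, then |α_i|^2 = q for
every i (the Riemann hypothesis for the curve). -/
theorem result {g : ℕ} (q : ℕ) (hq : 0 < q)
    (α : Fin (2 * g) → ℂ) (σ : Equiv.Perm (Fin (2 * g))) (hσ : ∀ i, α (σ i) * α i = q)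
    (d : ℕ) (hd : 0 < d) (C : ℝ)
    (hC : ∀ N : ℕ, 1 ≤ N → ‖∑ i, α i ^ (d * N)‖ ≤ C * (q : ℝ) ^ ((d : ℝ) * N / 2))
    (i : Fin (2 * g)) : ‖α i‖ ^ 2 = q := by
  have hq0 : (0:ℝ) < q := Nat.cast_pos.mpr hq
  obtain ⟨s, hs⟩ : ∃ s : ℝ, s = (q:ℝ) ^ ((1:ℝ)/2) := ⟨_, rfl⟩
  have hs0 : 0 < s := by rw [hs]; exact Real.rpow_pos_of_pos hq0 _
  have hs2 : s ^ 2 = q := by
    rw [hs, ← Real.rpow_natCast, ← Real.rpow_mul hq0.le]; norm_num
  have hle : ∀ j, ‖α j‖ ≤ s := by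
    intro j
    have hR : (0:ℝ) < (q:ℝ) ^ ((d:ℝ)/2) := Real.rpow_pos_of_pos hq0 _
    have hmain := powersum_bound (fun i => α i ^ d) ((q:ℝ) ^ ((d:ℝ)/2)) hR C ?_ j
    · simp only [norm_pow] at hmain
      have : (q:ℝ) ^ ((d:ℝ)/2) = s ^ d := by
        rw [hs, ← Real.rpow_natCast, ← Real.rpow_mul hq0.le]; congr 1; ring
      rw [this] at hmain
      exact (pow_le_pow_iff_left₀ (norm_nonneg _) hs0.le hd.ne').mp hmain
    · intro N hN
      have h1 := hC N hN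
      have h2 : ((q:ℝ) ^ ((d:ℝ)/2)) ^ N = (q:ℝ) ^ ((d:ℝ) * N / 2) := by
        rw [← Real.rpow_natCast, ← Real.rpow_mul hq0.le]; congr 1; ring
      rw [h2]
      show ‖∑ i, (α i ^ d) ^ N‖ ≤ _
      simp only [← pow_mul]
      exact h1
  have hprod : ‖α (σ i)‖ * ‖α i‖ = s ^ 2 := by
    rw [← norm_mul, hσ i, Complex.norm_natCast, hs2]
  have h1 := hle i
  have h2 := hle (σ i)
  have h3 : ‖α i‖ = s := by
    by_contra hne
    have hlt : ‖α i‖ < s := lt_of_le_of_ne h1 hne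
    nlinarith [mul_nonneg (sub_nonneg.mpr h2) (norm_nonneg (α i)), mul_pos hs0 (sub_pos.mpr hlt)]
  rw [h3, hs2]

end Groth.Agent.S15524
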