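import Groth.Statements.S15525
-- import your own Groth.Agent.* helpers here
import Mathlib

set_option autoImplicit false
universe u
open Zeta

namespace Groth.Agent.S15525

open Polynomial in
theorem reverse_prod_unit (s : Multiset ℂ) (hs : ∀ z ∈ s, ‖z‖ = 1) :
    ((s.map (fun z => (X : ℂ[X]) - C z)).prod).reverse =
      C ((s.map (fun z => -z)).prod) *
        (s.map (fun z => (X : ℂ[X]) - C ((starRingEnd ℂ) z))).prod := by
  induction s using Multiset.induction_on with
  | empty =>
    simp only [Multiset.map_zero, Multiset.prod_zero, C_1, one_mul]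
    rw [← C_1, reverse_C]
  | cons a s ih =>
    have ha : ‖a‖ = 1 := hs a (Multiset.mem_cons_self a s)
    have hs' : ∀ z ∈ s, ‖z‖ = 1 := fun z hz => hs z (Multiset.mem_cons_of_mem hz)
    rw [Multiset.map_cons, Multiset.prod_cons, reverse_mul_of_domain, ih hs', Multiset.map_cons,
      Multiset.prod_cons, Multiset.map_cons, Multiset.prod_cons]
    have h1 : (X - C a : ℂ[X]).reverse = C (-a) * (X - C ((starRingEnd ℂ) a)) := by
      have h2 : a * (starRingEnd ℂ) a = 1 := by
        rw [Complex.mul_conj, Complex.normSq_eq_norm_sq, ha]; simp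
      have h3 : (X - C a : ℂ[X]) = X + C (-a) := by simp [sub_eq_add_neg]
      have h4 : (X : ℂ[X]).reverse = 1 := by
        have := reverse_mul_X (1 : ℂ[X])
        rw [one_mul] at this
        rw [this]
        simpa using reverse_C (1 : ℂ)
      rw [h3, reverse_add_C, h4, natDegree_X, pow_one, mul_sub, ← C_mul]
      have h5 : -a * (starRingEnd ℂ) a = -1 := by rw [neg_mul, h2]
      rw [h5]
      simp
      ring
    rw [h1, C_mul]
    ring

open Polynomial in
theorem key (P : ℂ[X]) (hPm : P.Monic) (hroots : ∀ z ∈ P.roots, ‖z‖ = 1) (c : ℂ)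
    (hq : (C c * P.reverse).Monic) :
    C c * P.reverse = P.map (starRingEnd ℂ) := by
  have hsplit : P.Splits := IsAlgClosed.splits P
  have hprod := hsplit.eq_prod_roots_of_monic hPm
  have hrev := reverse_prod_unit P.roots hroots
  rw [← hprod] at hrev
  have hconj : P.map (starRingEnd ℂ) =
      (P.roots.map (fun z => (X : ℂ[X]) - C ((starRingEnd ℂ) z))).prod := by
    conv_lhs => rw [hprod]
    rw [Polynomial.map_multiset_prod, Multiset.map_map]
    congr 1
    apply Multiset.map_congr rfl
    intro z _
    simp
  rw [hrev, ← hconj, ← mul_assoc, ← C_mul] at hq ⊢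
  have hmon : (P.map (starRingEnd ℂ)).Monic := hPm.map _
  have hcd := hq.leadingCoeff
  rw [leadingCoeff_mul, leadingCoeff_C, hmon.leadingCoeff, mul_one] at hcd
  rw [hcd, C_1, one_mul]
open Polynomial in
theorem hfix' (P : ℂ[X]) :
    (P * P.map (starRingEnd ℂ)).map (starRingEnd ℂ) = P * P.map (starRingEnd ℂ) := by
  rw [Polynomial.map_mul, Polynomial.map_map]
  have : (starRingEnd ℂ).comp (starRingEnd ℂ) = RingHom.id ℂ := by ext <;> simp
  rw [this, Polynomial.map_id, mul_comm]
open Polynomial

/-- Let L be a field with a ring embedding ι into ℂ and M an r × r matrix over L all of whose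
eigenvalues, the complex roots of its characteristic polynomial mapped along ι, have absolute value
1. Then every coefficient of the characteristic polynomial of the block-diagonal matrix with blocks
M and the inverse transpose of M is mapped by ι into ℝ. This is the pointwise content of the
assertion that for a lisse sheaf F pure of weight 0 the sum of F and its dual is real, the Frobenius
of the dual acting by the inverse transpose. -/
theorem result (L : Type u) [Field L] (ι : L →+* ℂ)
    {r : ℕ} (M : Matrix (Fin r) (Fin r) L)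
    (hM : ∀ z ∈ ((Matrix.charpoly M).map ι).roots, ‖z‖ = 1) (n : ℕ) :
    (ι ((Matrix.fromBlocks M 0 0 (M⁻¹).transpose).charpoly.coeff n)).im = 0 := by
  classical
  set p := M.charpoly with hp
  have hpm : p.Monic := M.charpoly_monic
  set P := p.map ι with hP
  have hPm : P.Monic := hpm.map ι
  have hdet : M.det ≠ 0 := by
    intro h0
    have h1 : p.coeff 0 = 0 := by
      have := M.det_eq_sign_charpoly_coeff
      rw [h0] at this
      have h2 : ((-1 : L) ^ Fintype.card (Fin r)) ≠ 0 := pow_ne_zero _ (by simp)
      exact (mul_eq_zero.mp this.symm).resolve_left h2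
    have h3 : P.IsRoot 0 := by
      rw [IsRoot.def, ← coeff_zero_eq_eval_zero, hP, coeff_map, h1, map_zero]
    have h4 : (0:ℂ) ∈ P.roots := (mem_roots hPm.ne_zero).mpr h3
    have := hM 0 h4
    simp at this
  have hunit : IsUnit M := (Matrix.isUnit_iff_isUnit_det M).mpr (IsUnit.mk0 _ hdet)
  have hblock : (Matrix.fromBlocks M 0 0 (M⁻¹).transpose).charpoly = p * (M⁻¹).charpoly := by
    rw [Matrix.charpoly_fromBlocks_zero₁₂, Matrix.charpoly_transpose]
  have hrevmap : p.reverse.map ι = P.reverse := by
    rw [reverse, reverse, hP, hpm.natDegree_map ι]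
    exact (reflect_map ι p _).symm
  obtain ⟨c, hc⟩ : ∃ c : ℂ, ((M⁻¹).charpoly).map ι = C c * P.reverse := by
    refine ⟨(-1) ^ Fintype.card (Fin r) * ι (Ring.inverse M.det), ?_⟩
    rw [Matrix.charpoly_inv M hunit, ← Matrix.reverse_charpoly, Polynomial.map_mul, hrevmap]
    congr 1
    simp [Polynomial.map_mul, Polynomial.map_pow]
  have hqm : (C c * P.reverse).Monic := by rw [← hc]; exact (Matrix.charpoly_monic _).map ι
  have hkey := key P hPm hM c hqm
  have hT : ((Matrix.fromBlocks M 0 0 (M⁻¹).transpose).charpoly).map ι =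
      P * P.map (starRingEnd ℂ) := by
    rw [hblock, Polynomial.map_mul, hc, hkey]
  have hfix := hfix' P
  have hcoef := congrArg (fun f => f.coeff n) hfix
  simp only [coeff_map] at hcoef
  rw [← coeff_map, hT]
  exact Complex.conj_eq_iff_im.mp hcoef

end Groth.Agent.S15525
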