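import Groth.Statements.S15526
-- import your own Groth.Agent.* helpers here
import Mathlib

set_option autoImplicit false
universe u
open MvPolynomial
open CAlg

namespace Groth.Agent.S15526

theorem span_closed {R A : Type*} [CommRing R] [CommRing A] [Algebra R A] (g : ℕ)
    (P : Polynomial R) (hP : P.Monic) (hdeg : P.natDegree = 2 * g + 1) (x y z : A)
    (hy2 : y ^ 2 = Polynomial.aeval x P) (hyz : y * z = 1) :
    (1 : A) ∈ Submodule.span R
        {a : A | ∃ i n : ℕ, i ≤ 2 * g ∧ (a = x ^ i * y ^ n ∨ a = x ^ i * z ^ n)} ∧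
      (∀ s ∈ Submodule.span R
        {a : A | ∃ i n : ℕ, i ≤ 2 * g ∧ (a = x ^ i * y ^ n ∨ a = x ^ i * z ^ n)},
        x * s ∈ Submodule.span R
          {a : A | ∃ i n : ℕ, i ≤ 2 * g ∧ (a = x ^ i * y ^ n ∨ a = x ^ i * z ^ n)}) ∧
      (∀ s ∈ Submodule.span R
        {a : A | ∃ i n : ℕ, i ≤ 2 * g ∧ (a = x ^ i * y ^ n ∨ a = x ^ i * z ^ n)},
        y * s ∈ Submodule.span R
          {a : A | ∃ i n : ℕ, i ≤ 2 * g ∧ (a = x ^ i * y ^ n ∨ a = x ^ i * z ^ n)}) ∧
      (∀ s ∈ Submodule.span R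
        {a : A | ∃ i n : ℕ, i ≤ 2 * g ∧ (a = x ^ i * y ^ n ∨ a = x ^ i * z ^ n)},
        z * s ∈ Submodule.span R
          {a : A | ∃ i n : ℕ, i ≤ 2 * g ∧ (a = x ^ i * y ^ n ∨ a = x ^ i * z ^ n)}) := by
  set S := Submodule.span R
    {a : A | ∃ i n : ℕ, i ≤ 2 * g ∧ (a = x ^ i * y ^ n ∨ a = x ^ i * z ^ n)} with hS
  have hxy : ∀ i n, i ≤ 2 * g → x ^ i * y ^ n ∈ S :=
    fun i n hi => Submodule.subset_span ⟨i, n, hi, Or.inl rfl⟩
  have hxz : ∀ i n, i ≤ 2 * g → x ^ i * z ^ n ∈ S :=
    fun i n hi => Submodule.subset_span ⟨i, n, hi, Or.inr rfl⟩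
  have hy : ∀ n, y ^ n ∈ S := fun n => by simpa using hxy 0 n (Nat.zero_le _)
  have hz : ∀ n, z ^ n ∈ S := fun n => by simpa using hxz 0 n (Nat.zero_le _)
  have hzy : z * y = 1 := by rw [mul_comm]; exact hyz
  have hxtop : x ^ (2 * g + 1) = y ^ 2 - ∑ k ∈ Finset.range (2 * g + 1), P.coeff k • x ^ k := by
    have h1 := hP.as_sum
    rw [hdeg] at h1
    have h2 : Polynomial.aeval x P =
        x ^ (2 * g + 1) + ∑ k ∈ Finset.range (2 * g + 1), P.coeff k • x ^ k := by
      conv_lhs => rw [h1]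
      simp [Algebra.smul_def]
    rw [hy2, h2, add_sub_cancel_right]
  have hy2z : ∀ n, y ^ 2 * z ^ n ∈ S := by
    intro n
    match n with
    | 0 => simpa using hy 2
    | 1 =>
      have h3 : y ^ 2 * z ^ 1 = y ^ 1 := by
        rw [pow_one, pow_one, sq, mul_assoc, hyz, mul_one]
      rw [h3]
      exact hy 1
    | (m + 2) =>
      have h3 : y ^ 2 * z ^ (m + 2) = z ^ m := by
        rw [pow_add z m 2, mul_comm (z ^ m), ← mul_assoc, ← mul_pow, hyz, one_pow, one_mul]
      rw [h3]
      exact hz m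
  have hxstep : ∀ (w : A), (∀ k, k ≤ 2 * g → x ^ k * w ∈ S) → y ^ 2 * w ∈ S →
      ∀ i, i ≤ 2 * g → x * (x ^ i * w) ∈ S := by
    intro w hw hyw i hi
    rcases Nat.lt_or_ge i (2 * g) with hlt | hge
    · rw [← mul_assoc, ← pow_succ']
      exact hw (i + 1) hlt
    · have hi2 : i = 2 * g := le_antisymm hi hge
      rw [hi2, ← mul_assoc, ← pow_succ', hxtop, sub_mul, Finset.sum_mul]
      refine S.sub_mem hyw (S.sum_mem fun k hk => ?_)
      rw [smul_mul_assoc]
      exact S.smul_mem _ (hw k (by have := Finset.mem_range.mp hk; omega))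
  refine ⟨by simpa using hxy 0 0 (Nat.zero_le _), ?_, ?_, ?_⟩
  · intro s hs
    induction hs using Submodule.span_induction with
    | mem a ha =>
      obtain ⟨i, n, hi, rfl | rfl⟩ := ha
      · exact hxstep (y ^ n) (fun k hk => hxy k n hk) (by rw [← pow_add]; exact hy (2 + n)) i hi
      · exact hxstep (z ^ n) (fun k hk => hxz k n hk) (hy2z n) i hi
    | zero => simp
    | add a b _ _ ha hb =>
      rw [mul_add]
      exact S.add_mem ha hb
    | smul r a _ ha =>
      rw [mul_smul_comm]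
      exact S.smul_mem r ha
  · intro s hs
    induction hs using Submodule.span_induction with
    | mem a ha =>
      obtain ⟨i, n, hi, rfl | rfl⟩ := ha
      · have h3 : y * (x ^ i * y ^ n) = x ^ i * y ^ (n + 1) := by ring
        rw [h3]
        exact hxy i (n + 1) hi
      · cases n with
        | zero =>
          have h3 : y * (x ^ i * z ^ 0) = x ^ i * y ^ 1 := by ring
          rw [h3]
          exact hxy i 1 hi
        | succ m =>
          have h3 : y * (x ^ i * z ^ (m + 1)) = x ^ i * z ^ m := by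
            calc y * (x ^ i * z ^ (m + 1)) = x ^ i * z ^ m * (y * z) := by ring
              _ = x ^ i * z ^ m := by rw [hyz, mul_one]
          rw [h3]
          exact hxz i m hi
    | zero => simp
    | add a b _ _ ha hb =>
      rw [mul_add]
      exact S.add_mem ha hb
    | smul r a _ ha =>
      rw [mul_smul_comm]
      exact S.smul_mem r ha
  · intro s hs
    induction hs using Submodule.span_induction with
    | mem a ha =>
      obtain ⟨i, n, hi, rfl | rfl⟩ := ha
      · cases n with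
        | zero =>
          have h3 : z * (x ^ i * y ^ 0) = x ^ i * z ^ 1 := by ring
          rw [h3]
          exact hxz i 1 hi
        | succ m =>
          have h3 : z * (x ^ i * y ^ (m + 1)) = x ^ i * y ^ m := by
            calc z * (x ^ i * y ^ (m + 1)) = x ^ i * y ^ m * (z * y) := by ring
              _ = x ^ i * y ^ m := by rw [hzy, mul_one]
          rw [h3]
          exact hxy i m hi
      · have h3 : z * (x ^ i * z ^ n) = x ^ i * z ^ (n + 1) := by ring
        rw [h3]
        exact hxz i (n + 1) hi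
    | zero => simp
    | add a b _ _ ha hb =>
      rw [mul_add]
      exact S.add_mem ha hb
    | smul r a _ ha =>
      rw [mul_smul_comm]
      exact S.smul_mem r ha

/-- Let R be a commutative ring, P ∈ R[x] a monic polynomial of degree 2g + 1, and A = R[x, y, z]/(y^2 −
P(x), yz − 1). Then every element of A is a finite sum Σ_n Q_n(x) y^n over integers n, negative
powers of y meaning powers of z, with each Q_n ∈ R[x] of degree at most 2g: the R-submodule of A
spanned by the classes of x^i y^n and x^i z^n with i ≤ 2g and n ≥ 0 is all of A. (The published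
statement takes for R the ring of Witt vectors of a finite field and for P a lift of a separable
polynomial; the argument uses only that P is monic of degree 2g + 1.) -/
theorem result (R : Type u) [CommRing R] (g : ℕ)
    (P : Polynomial R) (hP : P.Monic) (hdeg : P.natDegree = 2 * g + 1) :
    Submodule.span R {a : MvPolynomial (Fin 3) R ⧸
        Ideal.span ({X 1 ^ 2 - Polynomial.aeval (X 0 : MvPolynomial (Fin 3) R) P, X 1 * X 2 - 1} :
          Set (MvPolynomial (Fin 3) R)) |
        ∃ i n : ℕ, i ≤ 2 * g ∧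
          (a = Ideal.Quotient.mk _ (X 0 ^ i * X 1 ^ n) ∨ a = Ideal.Quotient.mk _ (X 0 ^ i * X 2 ^ n))} =
      ⊤ := by
  classical
  have hyz : (Ideal.Quotient.mk (Ideal.span ({X 1 ^ 2 - Polynomial.aeval
      (X 0 : MvPolynomial (Fin 3) R) P, X 1 * X 2 - 1} : Set (MvPolynomial (Fin 3) R))) (X 1)) *
      (Ideal.Quotient.mk _ (X 2)) = 1 := by
    rw [← map_mul, ← sub_eq_zero, ← map_one (Ideal.Quotient.mk _), ← map_sub,
      Ideal.Quotient.eq_zero_iff_mem]
    exact Ideal.subset_span (by simp)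
  have hy2 : (Ideal.Quotient.mk (Ideal.span ({X 1 ^ 2 - Polynomial.aeval
      (X 0 : MvPolynomial (Fin 3) R) P, X 1 * X 2 - 1} : Set (MvPolynomial (Fin 3) R))) (X 1)) ^ 2 =
      Polynomial.aeval (Ideal.Quotient.mk _ (X 0)) P := by
    have h0 : Ideal.Quotient.mk (Ideal.span ({X 1 ^ 2 - Polynomial.aeval
        (X 0 : MvPolynomial (Fin 3) R) P, X 1 * X 2 - 1} : Set (MvPolynomial (Fin 3) R)))
        (X 1 ^ 2 - Polynomial.aeval (X 0 : MvPolynomial (Fin 3) R) P) = 0 :=
      Ideal.Quotient.eq_zero_iff_mem.mpr (Ideal.subset_span (by simp))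
    rw [map_sub, sub_eq_zero, map_pow] at h0
    rw [h0]
    exact (Polynomial.aeval_algHom_apply (Ideal.Quotient.mkₐ R (Ideal.span ({X 1 ^ 2 - Polynomial.aeval
        (X 0 : MvPolynomial (Fin 3) R) P, X 1 * X 2 - 1} : Set (MvPolynomial (Fin 3) R)))) (X 0) P).symm
  obtain ⟨h1, hx, hy, hz⟩ := span_closed g P hP hdeg _ _ _ hy2 hyz
  have hset : {a : MvPolynomial (Fin 3) R ⧸
        Ideal.span ({X 1 ^ 2 - Polynomial.aeval (X 0 : MvPolynomial (Fin 3) R) P, X 1 * X 2 - 1} :
          Set (MvPolynomial (Fin 3) R)) |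
        ∃ i n : ℕ, i ≤ 2 * g ∧
          (a = Ideal.Quotient.mk _ (X 0 ^ i * X 1 ^ n) ∨ a = Ideal.Quotient.mk _ (X 0 ^ i * X 2 ^ n))} =
      {a | ∃ i n : ℕ, i ≤ 2 * g ∧ (a = (Ideal.Quotient.mk _ (X 0)) ^ i * (Ideal.Quotient.mk _ (X 1)) ^ n ∨
        a = (Ideal.Quotient.mk _ (X 0)) ^ i * (Ideal.Quotient.mk _ (X 2)) ^ n)} := by
    ext a
    simp only [map_mul, map_pow]
  rw [hset, eq_top_iff]
  intro a _
  obtain ⟨f, rfl⟩ := Ideal.Quotient.mk_surjective a
  have key : ∀ f : MvPolynomial (Fin 3) R, ∀ s ∈ Submodule.span R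
      {a | ∃ i n : ℕ, i ≤ 2 * g ∧ (a = (Ideal.Quotient.mk (Ideal.span ({X 1 ^ 2 - Polynomial.aeval
        (X 0 : MvPolynomial (Fin 3) R) P, X 1 * X 2 - 1} : Set (MvPolynomial (Fin 3) R))) (X 0)) ^ i *
          (Ideal.Quotient.mk _ (X 1)) ^ n ∨
        a = (Ideal.Quotient.mk _ (X 0)) ^ i * (Ideal.Quotient.mk _ (X 2)) ^ n)},
      Ideal.Quotient.mk _ f * s ∈ Submodule.span R
      {a | ∃ i n : ℕ, i ≤ 2 * g ∧ (a = (Ideal.Quotient.mk (Ideal.span ({X 1 ^ 2 - Polynomial.aeval
        (X 0 : MvPolynomial (Fin 3) R) P, X 1 * X 2 - 1} : Set (MvPolynomial (Fin 3) R))) (X 0)) ^ i *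
          (Ideal.Quotient.mk _ (X 1)) ^ n ∨
        a = (Ideal.Quotient.mk _ (X 0)) ^ i * (Ideal.Quotient.mk _ (X 2)) ^ n)} := by
    intro f
    induction f using MvPolynomial.induction_on with
    | C r =>
      intro s hs
      have h3 : Ideal.Quotient.mk (Ideal.span ({X 1 ^ 2 - Polynomial.aeval
        (X 0 : MvPolynomial (Fin 3) R) P, X 1 * X 2 - 1} : Set (MvPolynomial (Fin 3) R))) (C r) * s =
          r • s := (Algebra.smul_def r s).symm
      rw [h3]
      exact Submodule.smul_mem _ r hs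
    | add p q hp hq =>
      intro s hs
      rw [map_add, add_mul]
      exact Submodule.add_mem _ (hp s hs) (hq s hs)
    | mul_X p i hp =>
      intro s hs
      rw [map_mul, mul_assoc]
      apply hp
      fin_cases i
      · exact hx s hs
      · exact hy s hs
      · exact hz s hs
  have hfin := key f 1 h1
  rwa [mul_one] at hfin

end Groth.Agent.S15526
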