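import Groth.Statements.S1553
-- import your own Groth.Agent.* helpers here
import Mathlib
import Groth.Agent.Lib.Helper12.LocalBase

set_option autoImplicit false
universe u
open CategoryTheory CategoryTheory.Limits AlgebraicGeometry
open Variety

namespace Groth.Agent.S1553

open Groth.Agent.Lib.Helper12.SchemeDimIneq in

/-- Let f : X → Y be locally of finite type, x a point with image y such that the local ring of Y at y
is Noetherian, and d a natural number such that at the generic points η of the irreducible
components of X passing through x we have f(η) ≠ y and local fibre dimension d. Then the local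
dimension at x of the fibre over y is at most d + dim O_{Y,y} - 1 (written additively). -/
theorem result {X Y : Scheme.{u}} (f : X ⟶ Y) [LocallyOfFiniteType f]
    (x : X) [IsNoetherianRing (Y.presheaf.stalk (f.base x))] (d : ℕ)
    (hgen : ∀ Z ∈ irreducibleComponents (X : Type u), x ∈ Z → ∀ η : X, IsGenericPoint η Z →
      f.base η ≠ f.base x ∧ FlatMor.fibreDimAt f η = d) :
    FlatMor.fibreDimAt f x + 1 ≤ (d : WithBot ℕ∞) + ringKrullDim (Y.presheaf.stalk (f.base x)) := by
  obtain ⟨z, hz, hzx, hle⟩ :=
    Groth.Agent.Lib.Helper12.ClosedSub.exists_generization_trn_eq_fibreDimAt f x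
  obtain ⟨η, hη, hηz⟩ := Groth.Agent.Lib.Helper12.SchemeDimFT.exists_isMaxPt_specializes z
  have hηx : η ⤳ x := hηz.trans hzx
  have hcomp : closure ({η} : Set X) ∈ irreducibleComponents (X : Type u) :=
    (Groth.Agent.Lib.Helper12.SchemeDimFT.closure_singleton_mem_irreducibleComponents_iff η).mpr hη
  have hxη : x ∈ closure ({η} : Set X) := specializes_iff_mem_closure.mp hηx
  obtain ⟨hne, hd⟩ := hgen _ hcomp hxη η isGenericPoint_closure
  have htη : ((trn f η : ℕ∞) : WithBot ℕ∞) ≤ (d : WithBot ℕ∞) := by
    rw [← hd]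
    exact Groth.Agent.Lib.Helper12.FibreMax.trn_le_fibreDimAt_of_specializes f η η rfl
      specializes_rfl
  haveI : IsNoetherianRing (Y.presheaf.stalk (f z)) := by rw [hz]; infer_instance
  have key := Groth.Agent.Lib.Helper12.LocalBase.scheme_dimIneq_stalk_le f z η hηz
  rw [hz] at key
  have hzη : z ≠ η := by
    intro h
    apply hne
    rw [← h, hz]
  have h1 : (1 : WithBot ℕ∞) ≤ Order.krullDim (Set.Icc z η) := by
    have hlt : (⟨z, le_refl z, hηz⟩ : Set.Icc z η) < ⟨η, hηz, le_refl η⟩ := by
      rw [lt_iff_le_not_ge]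
      refine ⟨hηz, fun h => hzη ?_⟩
      exact ((show z ⤳ η from h).antisymm (show η ⤳ z from hηz)).eq
    let l : LTSeries (Set.Icc z η) :=
      { length := 1
        toFun := ![⟨z, le_refl z, hηz⟩, ⟨η, hηz, le_refl η⟩]
        step := fun i => by
          have hi : i = 0 := Subsingleton.elim _ _
          subst hi
          exact hlt }
    have := Order.LTSeries.length_le_krullDim l
    exact_mod_cast this
  calc FlatMor.fibreDimAt f x + 1 ≤ ((trn f z : ℕ∞) : WithBot ℕ∞) + 1 :=
        by gcongr
    _ = 1 + ((trn f z : ℕ∞) : WithBot ℕ∞) := add_comm _ _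
    _ ≤ Order.krullDim (Set.Icc z η) + ((trn f z : ℕ∞) : WithBot ℕ∞) :=
        by gcongr
    _ ≤ _ := key
    _ ≤ ringKrullDim (Y.presheaf.stalk (f x)) + (d : WithBot ℕ∞) := by gcongr
    _ = _ := add_comm _ _

end Groth.Agent.S1553
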