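import Groth.Statements.S15533
-- import your own Groth.Agent.* helpers here
import Mathlib
import Groth.Agent.S5005
import Groth.Agent.Lib.Helper1.DerFin
import Groth.Agent.Lib.Helper22.SmoothIntD

set_option autoImplicit false
universe u
open OmegaSh
open Groth.Agent.Lib.Helper1 CategoryTheory AlgebraicGeometry

namespace Groth.Agent.S15533

open CategoryTheory AlgebraicGeometry in
/-- For a field k and a smooth proper k-scheme X with structure morphism f, the derivation d : O_X →
Ω_{X/k} of f vanishes on global functions: d(s) = 0 in Γ(X, Ω_{X/k}) for every s ∈ Γ(X, O_X). -/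
theorem result (k : Type u) [Field k] (X : Scheme.{u})
    (f : X ⟶ Spec (CommRingCat.of k)) [IsProper f] [Smooth f] (s : Γ(X, ⊤)) :
    (OmegaSh.dOmega f).app ⊤ s = 0 := by
  have hd := Groth.Agent.S5005.result f
  let Ω := Omega.sheaf f
  let Ms : TopCat.Sheaf Ab X := ⟨Ω.presheaf, Ω.isSheaf⟩
  have hint : f.appTop.hom.IsIntegral := isIntegral_appTop_of_universallyClosed f
  refine Ms.eq_of_locally_eq' (fun i : X.affineOpens => i.1) ⊤ (fun i => homOfLE le_top) ?_ _ _
    (fun i => ?_)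
  · intro x _
    obtain ⟨_, ⟨U, hU, rfl⟩, hxU, -⟩ :=
      X.isBasis_affineOpens.exists_subset_of_mem_open (Set.mem_univ x) isOpen_univ
    exact TopologicalSpace.Opens.mem_iSup.mpr ⟨⟨U, hU⟩, hxU⟩
  · obtain ⟨U, hU⟩ := i
    have hle : U ≤ f ⁻¹ᵁ (⊤ : (Spec (CommRingCat.of k)).Opens) := le_top
    set b : Γ(X, U) := DerAff.resR X (le_top : U ≤ ⊤) s with hb
    have h1 : (OmegaSh.dOmega f).app U b =
        DerAff.resM Ω (le_top : U ≤ ⊤) ((OmegaSh.dOmega f).app ⊤ s) :=
      (OmegaSh.dOmega f).d_map (homOfLE (le_top : U ≤ ⊤)).op s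
    have hfield : IsField Γ(Spec (CommRingCat.of k), ⊤) :=
      (Scheme.ΓSpecIso (CommRingCat.of k)).commRingCatIsoToRingEquiv.toMulEquiv.isField
        (Field.toIsField k)
    have hsm : (f.appLE ⊤ U hle).hom.Smooth := f.smooth_appLE (isAffineOpen_top _) hU hle
    have hbint : (f.appLE ⊤ U hle).hom.IsIntegralElem b := by
      obtain ⟨p, hp, hp0⟩ := hint s
      refine ⟨p, hp, ?_⟩
      have e : (f.appLE ⊤ U hle).hom = (DerAff.resR X (le_top : U ≤ ⊤)).comp f.appTop.hom := by
        rw [Scheme.Hom.appLE]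
        rfl
      rw [e, hb, ← Polynomial.hom_eval₂, hp0, map_zero]
    have key : CommRingCat.KaehlerDifferential.d (f := f.appLE ⊤ U hle) b = 0 :=
      Groth.Agent.Lib.Helper22.SmoothIntD.D_eq_zero_of_ringHom (f.appLE ⊤ U hle).hom hfield hsm b hbint
    have h2 := DerStruct.toSect_d f (OmegaSh.dOmega f) ⊤ U hle b
    rw [key, map_zero] at h2
    change DerAff.resM Ω (le_top : U ≤ ⊤) ((OmegaSh.dOmega f).app ⊤ s) =
      DerAff.resM Ω (le_top : U ≤ ⊤) 0
    rw [← h1, ← h2, map_zero]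

end Groth.Agent.S15533
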