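import Groth.Statements.S15539
import Groth.Agent.Lib.Helper25.ExtPowPull
import Groth.Agent.Lib.Helper25.ExtPowIso
import Groth.Agent.S5005
import Groth.Agent.S9386
import Groth.Agent.Lib.Helper1.DerCompat
import Groth.Agent.Lib.Helper1.DerSmooth
set_option linter.style.haveILetI false

set_option autoImplicit false
universe u
open OmegaSh

namespace Groth.Agent.S15539

open CategoryTheory AlgebraicGeometry in
/-- For a cartesian square of schemes with quasi-separated vertical maps f : X → S, f' : X' → S' and
horizontal maps g : X' → X, h : S' → S, and an O_X-module L which is a p-th exterior power of the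
sheaf of differentials Ω_{X/S}, the pulled-back module g^*L is a p-th exterior power of Ω_{X'/S'}.
(The published statement is that the canonical base-change map g^*Ω^p_{X/S} → Ω^p_{X'/S'} is an
isomorphism; only the resulting identification of g^*Ω^p_{X/S} as an exterior power, i.e. existence
of compatible affine-local isomorphisms, is stated here. The published statement is for arbitrary
morphisms; quasi-separatedness of f and f′ is assumed here.) -/
theorem result (X S X' S' : Scheme.{u}) (f : X ⟶ S) (f' : X' ⟶ S')
    (g : X' ⟶ X) (h : S' ⟶ S) (sq : IsPullback g f' f h) [QuasiSeparated f] [QuasiSeparated f']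
    (p : ℕ) (L : X.Modules) (hL : ExtPow.IsExtPow p (Omega.sheaf f) L) :
    ExtPow.IsExtPow p (Omega.sheaf f') ((Scheme.Modules.pullback g).obj L) := by
  have hd := Groth.Agent.S5005.result f
  have hd' := Groth.Agent.S5005.result f'
  obtain ⟨c, hc, -⟩ := Groth.Agent.Lib.Helper1.DerCompat.existsUnique_isDiffCompat f f' g h sq.w.symm
    (OmegaSh.dOmega f) (OmegaSh.dOmega f') hd
  haveI : CategoryTheory.IsIso c := Groth.Agent.Lib.Helper1.OmBCApp.isIso_of_isPullback f h g f' sq _
    (OmegaSh.dOmega f) hd _ (OmegaSh.dOmega f') hd' c hc
  haveI : (Omega.sheaf f).IsQuasicoherent :=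
    Groth.Agent.Lib.Helper1.DerSmooth.isQuasicoherent f (OmegaSh.dOmega f) hd
  exact Groth.Agent.Lib.Helper25.ExtPowIso.isExtPow_of_iso (CategoryTheory.asIso c)
    (CategoryTheory.Iso.refl _)
    (Groth.Agent.Lib.Helper25.ExtPowPull.isExtPow_pullback g p hL)

end Groth.Agent.S15539
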