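import Groth.Statements.S1554
-- import your own Groth.Agent.* helpers here
import Mathlib
import Groth.Agent.Lib.Helper12.LocalBase

set_option autoImplicit false
universe u
open CategoryTheory CategoryTheory.Limits AlgebraicGeometry
open Variety

namespace Groth.Agent.S1554

open Groth.Agent.Lib.Helper12.SchemeDimIneq in

/-- Let f : X → Y be locally of finite type, x a point with image y such that the local ring of Y at y
is Noetherian of dimension at most one, and d a natural number such that the local fibre dimension
is d at the generic points of the irreducible components of X passing through x. Then the local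
dimension at x of the fibre over y equals d. -/
theorem result {X Y : Scheme.{u}} (f : X ⟶ Y) [LocallyOfFiniteType f]
    (x : X) [IsNoetherianRing (Y.presheaf.stalk (f.base x))] (hdimY : ringKrullDim (Y.presheaf.stalk (f.base x)) ≤ 1) (d : ℕ)
    (hgen : ∀ Z ∈ irreducibleComponents (X : Type u), x ∈ Z → ∀ η : X, IsGenericPoint η Z → FlatMor.fibreDimAt f η = d) :
    FlatMor.fibreDimAt f x = d := by
  apply le_antisymm
  · obtain ⟨z, hz, hzx, hle⟩ :=
      Groth.Agent.Lib.Helper12.ClosedSub.exists_generization_trn_eq_fibreDimAt f x
    obtain ⟨η, hη, hηz⟩ := Groth.Agent.Lib.Helper12.SchemeDimFT.exists_isMaxPt_specializes z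
    have hηx : η ⤳ x := hηz.trans hzx
    have hcomp : closure ({η} : Set X) ∈ irreducibleComponents (X : Type u) :=
      (Groth.Agent.Lib.Helper12.SchemeDimFT.closure_singleton_mem_irreducibleComponents_iff η).mpr
        hη
    have hxη : x ∈ closure ({η} : Set X) := specializes_iff_mem_closure.mp hηx
    have hd := hgen _ hcomp hxη η isGenericPoint_closure
    have htη : ((trn f η : ℕ∞) : WithBot ℕ∞) ≤ (d : WithBot ℕ∞) := by
      rw [← hd]
      exact Groth.Agent.Lib.Helper12.FibreMax.trn_le_fibreDimAt_of_specializes f η η rfl
        specializes_rfl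
    have htη' : trn f η ≤ (d : ℕ∞) := by exact_mod_cast htη
    haveI : IsNoetherianRing (Y.presheaf.stalk (f z)) := by rw [hz]; infer_instance
    refine hle.trans ?_
    have hgoal : trn f z ≤ (d : ℕ∞) := by
      by_cases hne : f η = f x
      · have key := Groth.Agent.Lib.Helper12.LocalBase.scheme_dimIneq_stalk f z η hηz
        rw [hz, hne] at key
        have h0 : Order.krullDim (Set.Icc (f x) (f x)) ≤ 0 := by
          haveI : Subsingleton (Set.Icc (f x) (f x)) := by
            refine ⟨fun a b => Subtype.ext ?_⟩
            have ha : a.1 = f x :=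
              ((show a.1 ⤳ f x from a.2.1).antisymm (show f x ⤳ a.1 from a.2.2)).eq
            have hb : b.1 = f x :=
              ((show b.1 ⤳ f x from b.2.1).antisymm (show f x ⤳ b.1 from b.2.2)).eq
            rw [ha, hb]
          exact Order.krullDim_nonpos_of_subsingleton
        replace key := key.trans (add_le_add_left h0 _)
        rw [zero_add] at key
        have h1 : (0 : WithBot ℕ∞) ≤ Order.krullDim (Set.Icc z η) := by
          haveI : Nonempty (Set.Icc z η) := ⟨⟨z, le_refl z, hηz⟩⟩
          exact Order.krullDim_nonneg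
        have h2 : ((trn f z : ℕ∞) : WithBot ℕ∞) ≤ ((trn f η : ℕ∞) : WithBot ℕ∞) := by
          calc ((trn f z : ℕ∞) : WithBot ℕ∞) = 0 + ((trn f z : ℕ∞) : WithBot ℕ∞) := (zero_add _).symm
            _ ≤ Order.krullDim (Set.Icc z η) + ((trn f z : ℕ∞) : WithBot ℕ∞) := by gcongr
            _ ≤ _ := key
        have h3 : trn f z ≤ trn f η := by exact_mod_cast h2
        exact h3.trans htη'
      · have key := Groth.Agent.Lib.Helper12.LocalBase.scheme_dimIneq_stalk_le f z η hηz
        rw [hz] at key
        have hzη : z ≠ η := by
          intro h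
          apply hne
          rw [← h, hz]
        have h1 : (1 : WithBot ℕ∞) ≤ Order.krullDim (Set.Icc z η) := by
          have hlt : (⟨z, le_refl z, hηz⟩ : Set.Icc z η) < ⟨η, hηz, le_refl η⟩ := by
            rw [lt_iff_le_not_ge]
            refine ⟨hηz, fun h => hzη ?_⟩
            exact ((show z ⤳ η from h).antisymm (show η ⤳ z from hηz)).eq
          let l : LTSeries (Set.Icc z η) :=
            { length := 1
              toFun := ![⟨z, le_refl z, hηz⟩, ⟨η, hηz, le_refl η⟩]
              step := fun i => by
                have hi : i = 0 := Subsingleton.elim _ _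
                subst hi
                exact hlt }
          have := Order.LTSeries.length_le_krullDim l
          exact_mod_cast this
        have h2 : (1 : WithBot ℕ∞) + ((trn f z : ℕ∞) : WithBot ℕ∞) ≤ 1 + ((d : ℕ∞) : WithBot ℕ∞) := by
          calc (1 : WithBot ℕ∞) + ((trn f z : ℕ∞) : WithBot ℕ∞)
              ≤ Order.krullDim (Set.Icc z η) + ((trn f z : ℕ∞) : WithBot ℕ∞) := by gcongr
            _ ≤ _ := key
            _ ≤ 1 + ((d : ℕ∞) : WithBot ℕ∞) := add_le_add hdimY (by exact_mod_cast htη')
        have h3 : (1 : ℕ∞) + trn f z ≤ 1 + (d : ℕ∞) := by exact_mod_cast h2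
        exact (ENat.add_le_add_iff_left (by simp)).mp h3
    exact_mod_cast hgoal
  · obtain ⟨η, hη, hηx⟩ := Groth.Agent.Lib.Helper12.SchemeDimFT.exists_isMaxPt_specializes x
    have hcomp : closure ({η} : Set X) ∈ irreducibleComponents (X : Type u) :=
      (Groth.Agent.Lib.Helper12.SchemeDimFT.closure_singleton_mem_irreducibleComponents_iff η).mpr
        hη
    have hxη : x ∈ closure ({η} : Set X) := specializes_iff_mem_closure.mp hηx
    have hd := hgen _ hcomp hxη η isGenericPoint_closure
    have hcl := Groth.Agent.Lib.Helper12.FibreDimConstr.isClosed_setOf_le_fibreDimAt f d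
    have hmem : η ∈ {x : X | (d : WithBot ℕ∞) ≤ FlatMor.fibreDimAt f x} := by
      show (d : WithBot ℕ∞) ≤ FlatMor.fibreDimAt f η
      rw [hd]
    exact hηx.mem_closed hcl hmem

end Groth.Agent.S1554
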