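-- Statement S9776.
import Groth.Statements.S9776
import Mathlib
import Groth.Agent.Lib.Helper1.OmBC
import Groth.Agent.Lib.Helper1.QcIso
import Groth.Agent.Lib.Helper1.DerSmooth
import Groth.Agent.Lib.Helper17.PbStalk
set_option linter.style.haveILetI false

set_option autoImplicit false
universe u
open OmegaSh

namespace Groth.Agent.S9776

open CategoryTheory CategoryTheory.Limits AlgebraicGeometry TopologicalSpace Opposite TensorProduct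
open Groth.Agent.Lib.Helper1

theorem liftBaseChange_bijective_of_etale (A₁ A₂ B₁ B₂ : Type u) [CommRing A₁] [CommRing A₂]
    [CommRing B₁] [CommRing B₂] [Algebra A₁ B₁] [Algebra A₂ B₂] [Algebra B₁ B₂] [Algebra A₁ A₂]
    [Algebra A₁ B₂] [IsScalarTower A₁ B₁ B₂] [IsScalarTower A₁ A₂ B₂]
    [Algebra.FormallyEtale B₁ B₂] [Algebra.FormallyUnramified A₁ A₂] :
    Function.Bijective ((KaehlerDifferential.map A₁ A₂ B₁ B₂).liftBaseChange B₂) := by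
  have h1 : Function.Bijective (KaehlerDifferential.map A₁ A₂ B₂ B₂) := by
    refine ⟨?_, KaehlerDifferential.map_surjective A₁ A₂ B₂⟩
    rw [injective_iff_map_eq_zero]
    intro x hx
    obtain ⟨y, rfl⟩ := (KaehlerDifferential.exact_mapBaseChange_map A₁ A₂ B₂ x).mp hx
    rw [Subsingleton.elim y 0, map_zero]
  have key : ((KaehlerDifferential.map A₁ A₂ B₁ B₂).liftBaseChange B₂ : _ → _) =
      (KaehlerDifferential.map A₁ A₂ B₂ B₂) ∘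
        (KaehlerDifferential.tensorKaehlerEquivOfFormallyEtale A₁ B₁ B₂) := by
    funext z
    induction z using TensorProduct.induction_on with
    | zero => simp only [map_zero, Function.comp_apply]
    | add x y hx hy => simp only [map_add, hx, hy, Function.comp_apply]
    | tmul b ω =>
      simp only [Function.comp_apply, LinearMap.liftBaseChange_tmul,
        KaehlerDifferential.tensorKaehlerEquivOfFormallyEtale_apply,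
        KaehlerDifferential.mapBaseChange_tmul, map_smul]
      congr 1
      obtain ⟨x, rfl⟩ := KaehlerDifferential.linearCombination_surjective _ _ ω
      induction x using Finsupp.induction_linear with
      | zero => simp
      | add f g hf hg => simp only [map_add, hf, hg]
      | single a b => simp
  rw [key]
  exact h1.comp (KaehlerDifferential.tensorKaehlerEquivOfFormallyEtale A₁ B₁ B₂).bijective

open AlgebraicGeometry CategoryTheory Limits in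
/-- Consider a commutative square of schemes with vertical maps p₁ : X₁ ⟶ S₁, p₂ : X₂ ⟶ S₂ and
horizontal maps f : X₂ ⟶ X₁, g : S₂ ⟶ S₁, where f and g are étale. Let d₁ : O_{X₁} → Ω₁ and d₂ :
O_{X₂} → Ω₂ be universal derivations over S₁ and S₂ (sheaves of differentials) and c : f^*Ω₁ ⟶ Ω₂
the O_{X₂}-linear map compatible with d₁ and d₂ (the canonical map c_f). Then c is an isomorphism. -/
theorem result {X₁ S₁ X₂ S₂ : Scheme.{u}} (p₁ : X₁ ⟶ S₁) (p₂ : X₂ ⟶ S₂) (f : X₂ ⟶ X₁) (g : S₂ ⟶ S₁)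
    [Etale f] [Etale g] (hsq : f ≫ p₁ = p₂ ≫ g)
    (Ω₁ : X₁.Modules) (d₁ : OmegaSh.Der p₁ Ω₁) (hd₁ : OmegaSh.IsUniversal d₁)
    (Ω₂ : X₂.Modules) (d₂ : OmegaSh.Der p₂ Ω₂) (hd₂ : OmegaSh.IsUniversal d₂)
    (c : (Scheme.Modules.pullback f).obj Ω₁ ⟶ Ω₂) (hc : OmegaSh.IsDiffCompat f d₁ d₂ c) : IsIso c := by
  haveI : Ω₁.IsQuasicoherent := DerSmooth.isQuasicoherent p₁ d₁ hd₁
  haveI : Ω₂.IsQuasicoherent := DerSmooth.isQuasicoherent p₂ d₂ hd₂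
  haveI : ((Scheme.Modules.pullback f).obj Ω₁).IsQuasicoherent :=
    Groth.Agent.Lib.Helper17.PbStalk.isQuasicoherent_pullback f Ω₁
  apply QcIso.isIso_of_bijective_on_affine_cover
  intro x₂
  obtain ⟨_, ⟨V₁ : S₁.Opens, hV₁, rfl⟩, hsV₁, -⟩ := S₁.isBasis_affineOpens.exists_subset_of_mem_open
    (Set.mem_univ (p₁ (f x₂))) isOpen_univ
  have hs' : g (p₂ x₂) ∈ V₁ := by
    have : g (p₂ x₂) = p₁ (f x₂) := by
      rw [← Scheme.Hom.comp_apply, ← Scheme.Hom.comp_apply, hsq]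
    rw [this]; exact hsV₁
  obtain ⟨_, ⟨V₂ : S₂.Opens, hV₂, rfl⟩, hxV₂, hV₂V₁⟩ :=
    S₂.isBasis_affineOpens.exists_subset_of_mem_open
      (show p₂ x₂ ∈ ((g ⁻¹ᵁ V₁ : S₂.Opens) : Set S₂) from hs') (g ⁻¹ᵁ V₁).2
  obtain ⟨_, ⟨U₁ : X₁.Opens, hU₁, rfl⟩, hxU₁, hU₁V₁⟩ :=
    X₁.isBasis_affineOpens.exists_subset_of_mem_open
      (show f x₂ ∈ ((p₁ ⁻¹ᵁ V₁ : X₁.Opens) : Set X₁) from hsV₁) (p₁ ⁻¹ᵁ V₁).2
  obtain ⟨_, ⟨U₂ : X₂.Opens, hU₂, rfl⟩, hxU₂, hU₂le⟩ :=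
    X₂.isBasis_affineOpens.exists_subset_of_mem_open
      (show x₂ ∈ ((f ⁻¹ᵁ U₁ ⊓ p₂ ⁻¹ᵁ V₂ : X₂.Opens) : Set X₂) from ⟨hxU₁, hxV₂⟩)
      (f ⁻¹ᵁ U₁ ⊓ p₂ ⁻¹ᵁ V₂).2
  have eg : V₂ ≤ g ⁻¹ᵁ V₁ := hV₂V₁
  have e₁ : U₁ ≤ p₁ ⁻¹ᵁ V₁ := hU₁V₁
  have e : U₂ ≤ f ⁻¹ᵁ U₁ := fun y hy => (hU₂le hy).1
  have e₂ : U₂ ≤ p₂ ⁻¹ᵁ V₂ := fun y hy => (hU₂le hy).2
  refine ⟨U₂, hU₂, hxU₂, ?_⟩
  have hw : p₁.appLE V₁ U₁ e₁ ≫ f.appLE U₁ U₂ e = g.appLE V₁ V₂ eg ≫ p₂.appLE V₂ U₂ e₂ := by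
    rw [Scheme.Hom.appLE_comp_appLE, Scheme.Hom.appLE_comp_appLE]
    congr 1
  letI alg₁ : Algebra Γ(S₁, V₁) Γ(X₁, U₁) := (p₁.appLE V₁ U₁ e₁).hom.toAlgebra
  letI alg₂ : Algebra Γ(S₂, V₂) Γ(X₂, U₂) := (p₂.appLE V₂ U₂ e₂).hom.toAlgebra
  letI alg₃ : Algebra Γ(X₁, U₁) Γ(X₂, U₂) := (f.appLE U₁ U₂ e).hom.toAlgebra
  letI alg₄ : Algebra Γ(S₁, V₁) Γ(S₂, V₂) := (g.appLE V₁ V₂ eg).hom.toAlgebra
  letI alg₅ : Algebra Γ(S₁, V₁) Γ(X₂, U₂) :=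
    ((f.appLE U₁ U₂ e).hom.comp (p₁.appLE V₁ U₁ e₁).hom).toAlgebra
  haveI t₁ : IsScalarTower Γ(S₁, V₁) Γ(X₁, U₁) Γ(X₂, U₂) :=
    IsScalarTower.of_algebraMap_eq fun _ => rfl
  haveI t₂ : IsScalarTower Γ(S₁, V₁) Γ(S₂, V₂) Γ(X₂, U₂) :=
    IsScalarTower.of_algebraMap_eq fun a => congr($hw a)
  haveI : Algebra.FormallyEtale Γ(X₁, U₁) Γ(X₂, U₂) := by
    have h := HasRingHomProperty.appLE @Etale f inferInstance ⟨U₁, hU₁⟩ ⟨U₂, hU₂⟩ e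
    have h' : Algebra.Etale Γ(X₁, U₁) Γ(X₂, U₂) := h
    infer_instance
  haveI : Algebra.FormallyUnramified Γ(S₁, V₁) Γ(S₂, V₂) := by
    have h := HasRingHomProperty.appLE @Etale g inferInstance ⟨V₁, hV₁⟩ ⟨V₂, hV₂⟩ eg
    have h' : Algebra.Etale Γ(S₁, V₁) Γ(S₂, V₂) := h
    infer_instance
  obtain ⟨E, T, hET⟩ := OmBC.exists_equivs (p₁ := p₁) (p₂ := p₂) (f := f) (d₁ := d₁) (d₂ := d₂)
    (c := c) hc hd₁ hd₂ hU₁ hU₂ hV₁ hV₂ e e₁ e₂ rfl rfl rfl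
  have hb := liftBaseChange_bijective_of_etale Γ(S₁, V₁) Γ(S₂, V₂) Γ(X₁, U₁) Γ(X₂, U₂)
  have : (c.app U₂ : _ → _) = T ∘ ((KaehlerDifferential.map Γ(S₁, V₁) Γ(S₂, V₂) Γ(X₁, U₁)
      Γ(X₂, U₂)).liftBaseChange Γ(X₂, U₂)) ∘ E.symm := by
    funext y
    obtain ⟨z, rfl⟩ := E.surjective y
    rw [hET]
    simp only [Function.comp_apply, AddEquiv.symm_apply_apply]
  rw [this]
  exact T.bijective.comp (hb.comp E.symm.bijective)

end Groth.Agent.S9776
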