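import Groth.Statements.S15546
import Mathlib

set_option autoImplicit false
open scoped TensorProduct
universe u
open Unram

namespace Groth.Agent.S15546

/-- Let E be a finite extension of a field k which is not separable over k, and K an algebraic closure
of k. Then E ⊗_k K has a nonzero nilpotent element. -/
theorem result (k E K : Type u) [Field k] [Field E]
    [Algebra k E] [FiniteDimensional k E] [Field K] [Algebra k K] [IsAlgClosure k K]
    (h : ¬ Algebra.IsSeparable k E) : ∃ x : E ⊗[k] K, x ≠ 0 ∧ IsNilpotent x := by

  classical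
  by_contra hcon
  push_neg at hcon
  apply h
  haveI : IsAlgClosed K := IsAlgClosure.isAlgClosed k
  haveI hred' : IsReduced (E ⊗[k] K) := ⟨fun x hx => by
    by_contra hx0
    exact hcon x hx0 hx⟩
  haveI hred : IsReduced (K ⊗[k] E) :=
    isReduced_of_injective (Algebra.TensorProduct.comm k K E).toAlgHom
      (Algebra.TensorProduct.comm k K E).injective
  haveI : IsArtinianRing (K ⊗[k] E) := IsArtinianRing.of_finite K (K ⊗[k] E)
  haveI hunr : Algebra.FormallyUnramified K (K ⊗[k] E) := by
    haveI : ∀ m : MaximalSpectrum (K ⊗[k] E),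
        Algebra.FormallyUnramified K ((K ⊗[k] E) ⧸ m.asIdeal) := by
      intro m
      haveI := m.isMaximal
      haveI : Module.Finite K ((K ⊗[k] E) ⧸ m.asIdeal) :=
        Module.Finite.of_surjective (Ideal.Quotient.mkₐ K m.asIdeal).toLinearMap
          (Ideal.Quotient.mkₐ_surjective K m.asIdeal)
      have hbij : Function.Bijective (algebraMap K ((K ⊗[k] E) ⧸ m.asIdeal)) :=
        IsAlgClosed.algebraMap_bijective_of_isIntegral
      exact Algebra.FormallyUnramified.of_surjective (Algebra.ofId K _) hbij.2
    exact Algebra.FormallyUnramified.of_equiv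
      ((IsArtinianRing.equivPi (K ⊗[k] E)).restrictScalars K).symm
  rw [← Algebra.FormallyUnramified.iff_isSeparable]
  constructor
  letI : Algebra E (K ⊗[k] E) := Algebra.TensorProduct.rightAlgebra
  haveI h1 : Subsingleton (KaehlerDifferential K (K ⊗[k] E)) :=
    hunr.subsingleton_kaehlerDifferential
  haveI h2 : Subsingleton (K ⊗[k] KaehlerDifferential k E) :=
    (KaehlerDifferential.tensorKaehlerEquivBase k K E (K ⊗[k] E)).toEquiv.subsingleton
  exact Module.FaithfullyFlat.lTensor_reflects_triviality k K (KaehlerDifferential k E)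

end Groth.Agent.S15546
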