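import Groth.Statements.S15551
import Groth.Agent.Lib.Helper11.ZsConnF

set_option autoImplicit false
universe u
open CategoryTheory CategoryTheory.Limits AlgebraicGeometry
open Pi1

namespace Groth.Agent.S15551

/-- Let k be an algebraically closed field and X an integral normal scheme (all local rings integrally
closed domains), proper over k and of dimension at least 2, with an ample invertible module L; let s
be a nonzero global section of L, given as a monomorphism O_X → L, and D = Z(s) ⊆ X its zero scheme
(the support of an effective ample divisor). Then for every finite étale cover Y → X with Y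
connected, the fibre product Y ×_X D is connected. This is the statement that the étale fundamental
group of D maps onto that of X. (The published statement takes X projective over k; this row takes X
proper over k with an ample invertible module, which is equivalent.) -/
theorem result (k : Type u) [Field k] [IsAlgClosed k]
    (X : Scheme.{u}) (f : X ⟶ Spec (CommRingCat.of k)) [IsProper f] [IsIntegral X] (hN : Pi1.IsNormalScheme X)
    (hdim : (2 : WithBot ℕ∞) ≤ topologicalKrullDim X)
    (L : X.Modules) (hL : CohB1.IsAmple L) (s : Coh.structureModule X ⟶ L) (hs : Mono s)
    (Y : FEt.Cat X) [ConnectedSpace Y.left] :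
    ConnectedSpace ↥(pullback Y.hom (PicF2.zeroScheme L s).subschemeι) := by
  have hY : IsFinite Y.hom ∧ Etale Y.hom := Y.prop
  obtain ⟨hYint, hYnorm⟩ := Groth.Agent.Lib.Helper24.FEtNormal.main hN Y
  obtain ⟨π, hπ⟩ : ∃ π : Y.left ⟶ X, π = Y.hom := ⟨_, rfl⟩
  haveI : IsFinite π := hπ ▸ hY.1
  haveI : Etale π := hπ ▸ hY.2
  haveI := hYint
  rw [← hπ]
  exact Groth.Agent.Lib.Helper11.ZsConnF.connectedSpace_pullback_aux k X f hdim L hL s hs π hYnorm

end Groth.Agent.S15551
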