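import Groth.Statements.S15560
-- import your own Groth.Agent.* helpers here
import Mathlib
import Groth.Agent.Lib.Helper23.KronMod

set_option autoImplicit false
universe u v w
open KronMod

namespace Groth.Agent.S15560

open Groth.Agent.Lib.Helper23.KronModAux Module

/-- Let f be a Kronecker module with n arrows over a field K, from a space V of dimension d₋₁ > 0 to a
space W of dimension d₀ > 0. If n·d₋₁ < d₀ or n·d₀ < d₋₁, then f is not semistable; that is, there
are no semistable Kronecker modules of dimension vector (d₋₁, d₀). (The published statement assumes
K algebraically closed of characteristic zero and n ≥ 2; this row allows any field K and any number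
n of arrows.) -/
theorem result (K : Type u) [Field K] (V : Type v) (W : Type w)
    [AddCommGroup V] [Module K V] [FiniteDimensional K V]
    [AddCommGroup W] [Module K W] [FiniteDimensional K W]
    (n : ℕ) (f : Fin n → (V →ₗ[K] W))
    (hV : 0 < Module.finrank K V) (hW : 0 < Module.finrank K W)
    (h : n * Module.finrank K V < Module.finrank K W ∨ n * Module.finrank K W < Module.finrank K V) :
    ¬ KronMod.IsSemistable f := by
  intro hs
  rcases h with h | h
  · have hsub : KronMod.IsSubrep f ⊤ (LinearMap.range (sumMap f)) :=
      (isSubrep_iff _ _ _).mpr (fun j v _ => ⟨Pi.single j v, sumMap_single f j v⟩)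
    have hle : finrank K (LinearMap.range (sumMap f)) ≤ n * finrank K V := by
      have := LinearMap.finrank_range_le (sumMap f)
      rwa [finrank_fin_pi] at this
    have hne : LinearMap.range (sumMap f) ≠ ⊤ := by
      intro htop
      rw [htop, finrank_top] at hle
      omega
    have h1 := hs.2 ⊤ _ hsub (fun h' => top_ne_bot_of_finrank_pos hV h'.1) (fun h' => hne h'.2)
    rw [finrank_top] at h1
    have h3 : finrank K V * finrank K (LinearMap.range (sumMap f)) <
        finrank K V * finrank K W := Nat.mul_lt_mul_of_pos_left (by omega) hV
    rw [Nat.mul_comm (finrank K W)] at h1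
    omega
  · have hsub : KronMod.IsSubrep f (LinearMap.ker (tupleMap f)) ⊥ := by
      refine (isSubrep_iff _ _ _).mpr (fun j v hv => ?_)
      rw [Submodule.mem_bot]
      exact congrFun (LinearMap.mem_ker.mp hv) j
    have hrn := LinearMap.finrank_range_add_finrank_ker (tupleMap f)
    have hle : finrank K (LinearMap.range (tupleMap f)) ≤ n * finrank K W := by
      have := Submodule.finrank_le (LinearMap.range (tupleMap f))
      rwa [finrank_fin_pi] at this
    have hker : 0 < finrank K (LinearMap.ker (tupleMap f)) := by omega
    have hne : LinearMap.ker (tupleMap f) ≠ ⊥ := by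
      intro hbot
      rw [hbot, finrank_bot] at hker
      omega
    have h1 := hs.2 _ ⊥ hsub (fun h' => hne h'.1)
      (fun h' => top_ne_bot_of_finrank_pos hW h'.2.symm)
    rw [finrank_bot, Nat.mul_zero] at h1
    have h3 := Nat.mul_pos hW hker
    omega

end Groth.Agent.S15560
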