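import Groth.Statements.S15563
-- import your own Groth.Agent.* helpers here
import Mathlib
import Groth.Agent.Lib.Helper23.KronMod

set_option autoImplicit false
universe u v w
open KronMod

namespace Groth.Agent.S15563

open Groth.Agent.Lib.Helper23.KronModAux Module

/-- Let f be a Kronecker module with n arrows over a field K, from V of dimension d₋₁ > 0 to W of
dimension n·d₋₁. Then f is stable if and only if f is semistable and d₋₁ = 1: for d₋₁ = 1 every
semistable module is stable (so the stable locus of K(n; 1, n) is the one point), while for d₋₁ > 1
no module is stable. (The published statement assumes K algebraically closed of characteristic zero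
and n ≥ 2; this row allows any field K and any number n of arrows.) -/
theorem result (K : Type u) [Field K] (V : Type v) (W : Type w)
    [AddCommGroup V] [Module K V] [FiniteDimensional K V]
    [AddCommGroup W] [Module K W] [FiniteDimensional K W]
    (n : ℕ) (f : Fin n → (V →ₗ[K] W))
    (hV : 0 < Module.finrank K V) (hW : Module.finrank K W = n * Module.finrank K V) :
    KronMod.IsStable f ↔ (KronMod.IsSemistable f ∧ Module.finrank K V = 1) := by
  constructor
  · intro hst
    have hss := IsStable.isSemistable hst
    refine ⟨hss, ?_⟩
    by_contra hne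
    have hV2 : 2 ≤ finrank K V := by omega
    haveI : Nontrivial V := Module.nontrivial_of_finrank_pos hV
    obtain ⟨v, hv⟩ := exists_ne (0 : V)
    have hV'1 : finrank K (K ∙ v) = 1 := finrank_span_singleton hv
    have hW'n : finrank K (Submodule.span K (Set.range (fun j => f j v))) ≤ n := by
      have := finrank_range_le_card (R := K) (fun j => f j v)
      rwa [Fintype.card_fin] at this
    have hsub : KronMod.IsSubrep f (K ∙ v) (Submodule.span K (Set.range (fun j => f j v))) := by
      refine (isSubrep_iff _ _ _).mpr (fun j v' hv' => ?_)
      obtain ⟨c, rfl⟩ := Submodule.mem_span_singleton.mp hv'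
      rw [map_smul]
      exact Submodule.smul_mem _ _ (Submodule.subset_span ⟨j, rfl⟩)
    have h1 := hst.2 _ _ hsub
      (fun h => by have := hV'1; rw [h.1, finrank_bot] at this; omega)
      (fun h => by have := hV'1; rw [h.1, finrank_top] at this; omega)
    rw [hV'1, hW, Nat.mul_one] at h1
    have h2 : finrank K V * finrank K (Submodule.span K (Set.range (fun j => f j v))) ≤
        finrank K V * n := Nat.mul_le_mul_left _ hW'n
    rw [Nat.mul_comm n] at h1
    omega
  · rintro ⟨hss, h1⟩
    have hb := sumMap_bijective_of_isSemistable f hV hW hss
    refine ⟨hss.1, fun V' W' hsub hnb hnt => ?_⟩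
    have hle := card_mul_finrank_le f hb.1 hsub
    have hV'le : finrank K V' ≤ finrank K V := Submodule.finrank_le V'
    have hW'le : finrank K W' ≤ finrank K W := Submodule.finrank_le W'
    rw [h1, Nat.mul_one] at hW
    rw [hW, h1, Nat.one_mul]
    rcases Nat.eq_zero_or_pos (finrank K V') with h0 | hpos
    · have hV'bot : V' = ⊥ := Submodule.finrank_eq_zero.mp h0
      have hW'ne : W' ≠ ⊥ := fun h => hnb ⟨hV'bot, h⟩
      have : 0 < finrank K W' :=
        Nat.pos_of_ne_zero (fun h => hW'ne (Submodule.finrank_eq_zero.mp h))
      rw [h0, Nat.mul_zero]
      exact this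
    · have hfv : finrank K V' = 1 := by omega
      have hV'top : V' = ⊤ := Submodule.eq_top_of_finrank_eq (by omega)
      rw [hfv, Nat.mul_one] at hle
      have hW'top : W' = ⊤ := Submodule.eq_top_of_finrank_eq (by omega)
      exact absurd ⟨hV'top, hW'top⟩ hnt

end Groth.Agent.S15563
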