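import Groth.Statements.S15564
-- import your own Groth.Agent.* helpers here
import Mathlib
import Groth.Agent.Lib.Helper23.KronMod

set_option autoImplicit false
universe u v w
open KronMod

namespace Groth.Agent.S15564

open Groth.Agent.Lib.Helper23.KronModAux Module

/-- For a Kronecker module f with n arrows over a field K between one-dimensional spaces V and W,
semistability, stability and f ≠ 0 are equivalent: the semistable locus and the stable locus of
dimension vector (1, 1) are both the complement of the zero module. (The published statement assumes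
K algebraically closed of characteristic zero and n ≥ 2; this row allows any field K and any n.) -/
theorem result (K : Type u) [Field K] (V : Type v) (W : Type w)
    [AddCommGroup V] [Module K V] [FiniteDimensional K V]
    [AddCommGroup W] [Module K W] [FiniteDimensional K W]
    (n : ℕ) (f : Fin n → (V →ₗ[K] W))
    (hV : Module.finrank K V = 1) (hW : Module.finrank K W = 1) :
    (KronMod.IsSemistable f ↔ f ≠ 0) ∧ (KronMod.IsStable f ↔ f ≠ 0) := by
  have hV0 : 0 < finrank K V := by omega
  have hW0 : 0 < finrank K W := by omega
  have key1 : KronMod.IsSemistable f → f ≠ 0 := by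
    intro hs hf0
    have hsub : KronMod.IsSubrep f ⊤ ⊥ := by
      refine (isSubrep_iff _ _ _).mpr (fun j v _ => ?_)
      rw [hf0]
      simp
    have := hs.2 ⊤ ⊥ hsub (fun h => top_ne_bot_of_finrank_pos hV0 h.1)
      (fun h => top_ne_bot_of_finrank_pos hW0 h.2.symm)
    rw [finrank_top, finrank_bot, hV, hW] at this
    omega
  have key2 : f ≠ 0 → KronMod.IsStable f := by
    intro hf
    refine ⟨by omega, fun V' W' hsub hnb hnt => ?_⟩
    rw [hV, hW, one_mul, one_mul]
    have hV'le : finrank K V' ≤ 1 := by have := Submodule.finrank_le V'; omega
    have hW'le : finrank K W' ≤ 1 := by have := Submodule.finrank_le W'; omega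
    by_contra hcon
    rw [not_lt] at hcon
    rcases Nat.eq_zero_or_pos (finrank K W') with h0 | hpos
    · have hW'bot : W' = ⊥ := Submodule.finrank_eq_zero.mp h0
      have hV'ne : V' ≠ ⊥ := fun h => hnb ⟨h, hW'bot⟩
      have hV'pos : 0 < finrank K V' :=
        Nat.pos_of_ne_zero (fun h => hV'ne (Submodule.finrank_eq_zero.mp h))
      have hV'top : V' = ⊤ := Submodule.eq_top_of_finrank_eq (by omega)
      apply hf
      funext j
      refine LinearMap.ext fun v => ?_
      have := (isSubrep_iff _ _ _).mp hsub j v (by rw [hV'top]; trivial)
      rw [hW'bot, Submodule.mem_bot] at this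
      simpa using this
    · have hW'top : W' = ⊤ := Submodule.eq_top_of_finrank_eq (by omega)
      have hV'top : V' = ⊤ := Submodule.eq_top_of_finrank_eq (by omega)
      exact hnt ⟨hV'top, hW'top⟩
  exact ⟨⟨key1, fun h => IsStable.isSemistable (key2 h)⟩,
    ⟨fun h => key1 (IsStable.isSemistable h), key2⟩⟩

end Groth.Agent.S15564
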