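import Groth.Statements.S15565
-- import your own Groth.Agent.* helpers here
import Mathlib
import Groth.Agent.Lib.Helper23.KronMod

set_option autoImplicit false
universe u v w
open KronMod

namespace Groth.Agent.S15565

open Groth.Agent.Lib.Helper23.KronModAux Module

/-- Over an algebraically closed field K, a Kronecker module with two arrows between spaces V and W of
the same dimension k ≥ 2 is never stable: the stable locus of dimension vector (k, k) for the
Kronecker quiver with two arrows is empty. (The published statement also assumes characteristic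
zero; this row does not.) -/
theorem result (K : Type u) [Field K] [IsAlgClosed K] (V : Type v) (W : Type w)
    [AddCommGroup V] [Module K V] [FiniteDimensional K V]
    [AddCommGroup W] [Module K W] [FiniteDimensional K W]
    (f : Fin 2 → (V →ₗ[K] W)) (k : ℕ) (hk : 2 ≤ k)
    (hV : Module.finrank K V = k) (hW : Module.finrank K W = k) :
    ¬ KronMod.IsStable f := by
  intro hst
  have hV0 : 0 < finrank K V := by omega
  haveI : Nontrivial V := Module.nontrivial_of_finrank_pos hV0
  have hclaim : ∃ v : V, v ≠ 0 ∧ ∃ w : W, (∀ j, f j v ∈ (K ∙ w)) := by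
    by_cases hinj : Function.Injective (f 0)
    · have hbij : Function.Bijective (f 0) :=
        ⟨hinj, (LinearMap.injective_iff_surjective_of_finrank_eq_finrank
          (by rw [hV, hW])).mp hinj⟩
      let e := LinearEquiv.ofBijective (f 0) hbij
      obtain ⟨μ, hμ⟩ := Module.End.exists_eigenvalue
        ((e.symm : W →ₗ[K] V).comp (f 1) : Module.End K V)
      obtain ⟨v, hv⟩ := hμ.exists_hasEigenvector
      refine ⟨v, hv.2, f 0 v, ?_⟩
      have h1 : ((e.symm : W →ₗ[K] V).comp (f 1) : Module.End K V) v = μ • v :=
        hv.apply_eq_smul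
      have h2 : f 1 v = μ • f 0 v := by
        have h3 := congrArg e h1
        rw [LinearMap.comp_apply, LinearEquiv.coe_coe, LinearEquiv.apply_symm_apply,
          map_smul] at h3
        exact h3
      refine Fin.forall_fin_two.mpr ⟨Submodule.mem_span_singleton_self _, ?_⟩
      rw [h2]
      exact Submodule.smul_mem _ _ (Submodule.mem_span_singleton_self _)
    · rw [← LinearMap.ker_eq_bot] at hinj
      obtain ⟨v, hv, hv0⟩ := Submodule.exists_mem_ne_zero_of_ne_bot hinj
      refine ⟨v, hv0, f 1 v, Fin.forall_fin_two.mpr ⟨?_, Submodule.mem_span_singleton_self _⟩⟩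
      rw [LinearMap.mem_ker.mp hv]
      exact Submodule.zero_mem _
  obtain ⟨v, hv0, w, hw⟩ := hclaim
  have hsub : KronMod.IsSubrep f (K ∙ v) (K ∙ w) := by
    refine (isSubrep_iff _ _ _).mpr (fun j v' hv' => ?_)
    obtain ⟨c, rfl⟩ := Submodule.mem_span_singleton.mp hv'
    rw [map_smul]
    exact Submodule.smul_mem _ _ (hw j)
  have hV'1 : finrank K (K ∙ v) = 1 := finrank_span_singleton hv0
  have hW'1 : finrank K (K ∙ w) ≤ 1 := by
    by_cases hw0 : w = 0
    · subst hw0
      have h0 : (K ∙ (0 : W)) = ⊥ := Submodule.span_zero_singleton K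
      rw [h0, finrank_bot]
      omega
    · rw [finrank_span_singleton hw0]
  have h1 := hst.2 _ _ hsub
    (fun h => by have := hV'1; rw [h.1, finrank_bot] at this; omega)
    (fun h => by have := hV'1; rw [h.1, finrank_top, hV] at this; omega)
  rw [hV'1, hV, hW] at h1
  have := Nat.mul_le_mul_left k hW'1
  omega

end Groth.Agent.S15565
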