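import Groth.Statements.S15566
-- import your own Groth.Agent.* helpers here
import Mathlib
import Groth.Agent.Lib.Helper23.KronMod

set_option autoImplicit false
universe u v w
open KronMod

namespace Groth.Agent.S15566

open Groth.Agent.Lib.Helper23.KronModAux Module

theorem pair_spans {K V : Type*} [Field K] [AddCommGroup V] [Module K V] [FiniteDimensional K V]
    (hV : finrank K V = 2) (v u : V)
    (hli : ∀ s t : K, s • v + t • u = 0 → s = 0 ∧ t = 0) (x : V) :
    ∃ a b : K, a • v + b • u = x := by
  have hli' : LinearIndependent K ![v, u] := LinearIndependent.pair_iff.mpr hli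
  let bas := basisOfLinearIndependentOfCardEqFinrank hli' (by simp [hV])
  refine ⟨bas.repr x 0, bas.repr x 1, ?_⟩
  have := bas.sum_repr x
  rw [Fin.sum_univ_two] at this
  simpa [bas] using this

theorem finrank_span_singleton_le_one {K W : Type*} [Field K] [AddCommGroup W] [Module K W]
    (w : W) : finrank K (K ∙ w) ≤ 1 := by
  by_cases hw0 : w = 0
  · subst hw0
    have h0 : (K ∙ (0 : W)) = ⊥ := Submodule.span_zero_singleton K
    rw [h0, finrank_bot]
    omega
  · rw [finrank_span_singleton hw0]

theorem lemmaC {K V W : Type*} [Field K] [AddCommGroup V] [Module K V] [FiniteDimensional K V]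
    [AddCommGroup W] [Module K W] [FiniteDimensional K W]
    (hV : finrank K V = 2) (hW : finrank K W = 2) (A B : V →ₗ[K] W) (v u : V)
    (hv : v ≠ 0) (hAv : A v = 0) (hAu : A u ≠ 0) (hB : B v ∉ K ∙ (A u)) :
    ∃ c : K, Function.Injective (c • A + B) := by
  have hliV : ∀ s t : K, s • v + t • u = 0 → s = 0 ∧ t = 0 := by
    intro s t h
    have h1 := congrArg A h
    rw [map_add, map_smul, map_smul, hAv, smul_zero, zero_add, map_zero] at h1
    have ht : t = 0 := (smul_eq_zero.mp h1).resolve_right hAu
    rw [ht, zero_smul, add_zero] at h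
    exact ⟨(smul_eq_zero.mp h).resolve_right hv, ht⟩
  have hliW : ∀ s t : K, s • A u + t • B v = 0 → s = 0 ∧ t = 0 := by
    intro s t h
    have ht : t = 0 := by
      by_contra ht
      apply hB
      rw [Submodule.mem_span_singleton]
      refine ⟨-(t⁻¹ * s), ?_⟩
      have h2 : t • B v = -(s • A u) := eq_neg_of_add_eq_zero_right h
      calc -(t⁻¹ * s) • A u = t⁻¹ • (-(s • A u)) := by rw [neg_smul, mul_smul, smul_neg]
        _ = t⁻¹ • (t • B v) := by rw [h2]
        _ = B v := by rw [smul_smul, inv_mul_cancel₀ ht, one_smul]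
    rw [ht, zero_smul, add_zero] at h
    exact ⟨(smul_eq_zero.mp h).resolve_right hAu, ht⟩
  obtain ⟨p, q, hpq⟩ := pair_spans hW (A u) (B v) hliW (B u)
  refine ⟨1 - p, (injective_iff_map_eq_zero _).mpr (fun x hx => ?_)⟩
  obtain ⟨a, b, rfl⟩ := pair_spans hV v u hliV x
  have h0 : ((1 - p) • A + B) (a • v + b • u) = b • A u + (a + b * q) • B v := by
    simp only [LinearMap.add_apply, LinearMap.smul_apply, map_add, map_smul, hAv]
    rw [← hpq]
    module
  rw [h0] at hx
  obtain ⟨hb, hab⟩ := hliW _ _ hx
  rw [hb, zero_mul, add_zero] at hab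
  rw [hb, hab, zero_smul, zero_smul, add_zero]

/-- Case of dimension vector (2, 2). Over an algebraically closed field K, if a Kronecker module f with
n arrows between two-dimensional spaces V and W is semistable, then some linear combination Σ_j z_j
f_j of its arrows is a linear isomorphism V → W (equivalently, the determinant of the generic
combination is not identically zero): the semistable locus of dimension vector (2, 2) lies in the
open set of modules whose generic combination is invertible. (The published statement, over an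
algebraically closed field of characteristic zero, covers dimension vectors (1, 1) and (2, 2) for
every n ≥ 2 and (k, k) for two arrows; this row states the (2, 2) case, for any n and without the
characteristic assumption.) -/
theorem result (K : Type u) [Field K] [IsAlgClosed K] (V : Type v) (W : Type w)
    [AddCommGroup V] [Module K V] [FiniteDimensional K V]
    [AddCommGroup W] [Module K W] [FiniteDimensional K W]
    (n : ℕ) (f : Fin n → (V →ₗ[K] W))
    (hV : Module.finrank K V = 2) (hW : Module.finrank K W = 2)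
    (hf : KronMod.IsSemistable f) :
    ∃ z : Fin n → K, Function.Bijective ((∑ j, z j • f j : V →ₗ[K] W) : V → W) := by
  classical
  have hz : ∀ (c : K) (a b : Fin n), ∃ z : Fin n → K,
      (∑ j, z j • f j) = c • f a + f b := by
    intro c a b
    refine ⟨fun j => (if j = a then c else 0) + (if j = b then 1 else 0), ?_⟩
    simp only [add_smul, Finset.sum_add_distrib, ite_smul, zero_smul, one_smul,
      Finset.sum_ite_eq', Finset.mem_univ, if_true]
  have hbij_of_inj : ∀ g : V →ₗ[K] W, Function.Injective g → Function.Bijective g :=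
    fun g hg => ⟨hg, (LinearMap.injective_iff_surjective_of_finrank_eq_finrank
      (by rw [hV, hW])).mp hg⟩
  suffices h : ∃ (c : K) (a b : Fin n), Function.Injective (c • f a + f b) by
    obtain ⟨c, a, b, hinj⟩ := h
    obtain ⟨z, hz'⟩ := hz c a b
    exact ⟨z, by rw [hz']; exact hbij_of_inj _ hinj⟩
  have hi : ∀ v : V, v ≠ 0 → ∃ j, f j v ≠ 0 := by
    intro v hv
    by_contra hcon
    push_neg at hcon
    have hsub : KronMod.IsSubrep f (K ∙ v) ⊥ := (isSubrep_iff _ _ _).mpr (fun j x hx => by
      obtain ⟨c, rfl⟩ := Submodule.mem_span_singleton.mp hx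
      rw [map_smul, hcon j, smul_zero]
      exact Submodule.zero_mem _)
    have h1 := hf.2 _ _ hsub
      (fun h => by
        have := finrank_span_singleton (K := K) hv
        rw [h.1, finrank_bot] at this
        omega)
      (fun h => by
        have := finrank_span_singleton (K := K) hv
        rw [h.1, finrank_top, hV] at this
        omega)
    rw [finrank_span_singleton hv, finrank_bot, hV, hW] at h1
    omega
  have hii : ∀ w : W, ∃ j x, f j x ∉ K ∙ w := by
    intro w
    by_contra hcon
    push_neg at hcon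
    have hsub : KronMod.IsSubrep f ⊤ (K ∙ w) :=
      (isSubrep_iff _ _ _).mpr (fun j x _ => hcon j x)
    have hle : finrank K (K ∙ w) ≤ 1 := finrank_span_singleton_le_one w
    have h1 := hf.2 _ _ hsub (fun h => top_ne_bot_of_finrank_pos (by omega) h.1)
      (fun h => by
        have := hle
        rw [h.2, finrank_top, hW] at this
        omega)
    rw [finrank_top, hV, hW] at h1
    omega
  haveI : Nontrivial V := Module.nontrivial_of_finrank_pos (R := K) (by omega)
  obtain ⟨v₀, hv₀⟩ := exists_ne (0 : V)
  obtain ⟨j₀, hj₀⟩ := hi v₀ hv₀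
  by_cases hA : Function.Injective (f j₀)
  · exact ⟨0, j₀, j₀, by simpa using hA⟩
  rw [← LinearMap.ker_eq_bot] at hA
  obtain ⟨v, hvker, hv⟩ := Submodule.exists_mem_ne_zero_of_ne_bot hA
  have hAv : f j₀ v = 0 := LinearMap.mem_ker.mp hvker
  obtain ⟨j₁, hj₁⟩ := hi v hv
  by_cases hB : f j₁ v ∈ K ∙ (f j₀ v₀)
  swap
  · obtain ⟨c, hc⟩ := lemmaC hV hW (f j₀) (f j₁) v v₀ hv hAv hj₀ hB
    exact ⟨c, j₀, j₁, hc⟩
  by_cases hB0 : Function.Injective (f j₁)
  · exact ⟨0, j₁, j₁, by simpa using hB0⟩
  rw [← LinearMap.ker_eq_bot] at hB0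
  obtain ⟨v', hv'ker, hv'⟩ := Submodule.exists_mem_ne_zero_of_ne_bot hB0
  have hBv' : f j₁ v' = 0 := LinearMap.mem_ker.mp hv'ker
  obtain ⟨r, hr⟩ := Submodule.mem_span_singleton.mp hB
  have hr0 : r ≠ 0 := by
    rintro rfl
    rw [zero_smul] at hr
    exact hj₁ hr.symm
  have hline : (K ∙ (f j₁ v)) = K ∙ (f j₀ v₀) := by
    rw [← hr]
    exact Submodule.span_singleton_smul_eq (IsUnit.mk0 r hr0) _
  obtain ⟨j₂, x, hx⟩ := hii (f j₀ v₀)
  have hliV : ∀ s t : K, s • v + t • v' = 0 → s = 0 ∧ t = 0 := by
    intro s t h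
    have h1 := congrArg (f j₁) h
    rw [map_add, map_smul, map_smul, hBv', smul_zero, add_zero, map_zero] at h1
    have hs : s = 0 := (smul_eq_zero.mp h1).resolve_right hj₁
    rw [hs, zero_smul, zero_add] at h
    exact ⟨hs, (smul_eq_zero.mp h).resolve_right hv'⟩
  obtain ⟨α, β, rfl⟩ := pair_spans hV v v' hliV x
  by_cases hCv : f j₂ v ∈ K ∙ (f j₀ v₀)
  · have hCv' : f j₂ v' ∉ K ∙ (f j₁ v) := by
      intro hmem
      apply hx
      rw [map_add, map_smul, map_smul]
      rw [hline] at hmem
      exact Submodule.add_mem _ (Submodule.smul_mem _ _ hCv) (Submodule.smul_mem _ _ hmem)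
    obtain ⟨c, hc⟩ := lemmaC hV hW (f j₁) (f j₂) v' v hv' hBv' hj₁ hCv'
    exact ⟨c, j₁, j₂, hc⟩
  · obtain ⟨c, hc⟩ := lemmaC hV hW (f j₀) (f j₂) v v₀ hv hAv hj₀ hCv
    exact ⟨c, j₀, j₂, hc⟩

end Groth.Agent.S15566
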