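import Groth.Statements.S15567
-- import your own Groth.Agent.* helpers here
import Mathlib
import Groth.Agent.Lib.Helper23.KronMod

set_option autoImplicit false
universe u v w
open KronMod

namespace Groth.Agent.S15567

open Groth.Agent.Lib.Helper23.KronModAux Module

theorem dual_iff {K : Type*} [Field K] {V W : Type*}
    [AddCommGroup V] [Module K V] [FiniteDimensional K V]
    [AddCommGroup W] [Module K W] [FiniteDimensional K W] {n : ℕ}
    (R : ℕ → ℕ → Prop)
    (hR : ∀ a b c : ℕ, a ≤ c → b ≤ c → (R a b ↔ R (c - b) (c - a)))
    (f : Fin n → (V →ₗ[K] W)) :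
    (0 < finrank K V + finrank K W ∧
      ∀ (V' : Submodule K V) (W' : Submodule K W), KronMod.IsSubrep f V' W' →
        ¬ (V' = ⊥ ∧ W' = ⊥) → ¬ (V' = ⊤ ∧ W' = ⊤) →
        R (finrank K W * finrank K V') (finrank K V * finrank K W')) ↔
    (0 < finrank K (Dual K W) + finrank K (Dual K V) ∧
      ∀ (A : Submodule K (Dual K W)) (B : Submodule K (Dual K V)),
        KronMod.IsSubrep (fun j => (f j).dualMap) A B →
        ¬ (A = ⊥ ∧ B = ⊥) → ¬ (A = ⊤ ∧ B = ⊤) →
        R (finrank K (Dual K V) * finrank K A) (finrank K (Dual K W) * finrank K B)) := by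
  have hdV : finrank K (Dual K V) = finrank K V := Subspace.dual_finrank_eq
  have hdW : finrank K (Dual K W) = finrank K W := Subspace.dual_finrank_eq
  rw [hdV, hdW]
  constructor
  · rintro ⟨h0, h⟩
    refine ⟨by omega, fun A B hsub hnb hnt => ?_⟩
    have hsubA := (isSubrep_iff _ _ _).mp hsub
    have hsub' : KronMod.IsSubrep f B.dualCoannihilator A.dualCoannihilator := by
      refine (isSubrep_iff _ _ _).mpr (fun j v hv => ?_)
      rw [Submodule.mem_dualCoannihilator]
      intro ψ hψ
      have h1 : (f j).dualMap ψ ∈ B := hsubA j ψ hψ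
      exact (Submodule.mem_dualCoannihilator v).mp hv _ h1
    have hA := Subspace.finrank_add_finrank_dualCoannihilator_eq A
    have hB := Subspace.finrank_add_finrank_dualCoannihilator_eq B
    have h1 := h _ _ hsub' ?_ ?_
    · have hv : finrank K B.dualCoannihilator = finrank K V - finrank K B := by omega
      have hw : finrank K A.dualCoannihilator = finrank K W - finrank K A := by omega
      rw [hv, hw, Nat.mul_sub, Nat.mul_sub, Nat.mul_comm (finrank K W) (finrank K V)] at h1
      refine (hR _ _ (finrank K V * finrank K W) ?_ ?_).mpr h1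
      · exact Nat.mul_le_mul_left _ (by omega)
      · rw [Nat.mul_comm (finrank K V) (finrank K W)]
        exact Nat.mul_le_mul_left _ (by omega)
    · rintro ⟨hb1, hb2⟩
      apply hnt
      rw [hb1, finrank_bot] at hB
      rw [hb2, finrank_bot] at hA
      exact ⟨Submodule.eq_top_of_finrank_eq (by omega), Submodule.eq_top_of_finrank_eq (by omega)⟩
    · rintro ⟨hb1, hb2⟩
      apply hnb
      rw [hb1, finrank_top] at hB
      rw [hb2, finrank_top] at hA
      exact ⟨Submodule.finrank_eq_zero.mp (by omega), Submodule.finrank_eq_zero.mp (by omega)⟩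
  · rintro ⟨h0, h⟩
    refine ⟨by omega, fun V' W' hsub hnb hnt => ?_⟩
    have hsubV := (isSubrep_iff _ _ _).mp hsub
    have hsub' : KronMod.IsSubrep (fun j => (f j).dualMap) W'.dualAnnihilator
        V'.dualAnnihilator := by
      refine (isSubrep_iff _ _ _).mpr (fun j ψ hψ => ?_)
      rw [Submodule.mem_dualAnnihilator]
      intro v hv
      exact (Submodule.mem_dualAnnihilator ψ).mp hψ (f j v) (hsubV j v hv)
    have hV' := Subspace.finrank_add_finrank_dualAnnihilator_eq V'
    have hW' := Subspace.finrank_add_finrank_dualAnnihilator_eq W'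
    have h1 := h _ _ hsub' ?_ ?_
    · have hb : finrank K V'.dualAnnihilator = finrank K V - finrank K V' := by omega
      have ha : finrank K W'.dualAnnihilator = finrank K W - finrank K W' := by omega
      rw [hb, ha, Nat.mul_sub, Nat.mul_sub, Nat.mul_comm (finrank K W) (finrank K V)] at h1
      refine (hR _ _ (finrank K V * finrank K W) ?_ ?_).mpr h1
      · rw [Nat.mul_comm (finrank K V) (finrank K W)]
        exact Nat.mul_le_mul_left _ (by omega)
      · exact Nat.mul_le_mul_left _ (by omega)
    · rintro ⟨hb1, hb2⟩
      apply hnt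
      rw [hb1, finrank_bot] at hW'
      rw [hb2, finrank_bot] at hV'
      exact ⟨Submodule.eq_top_of_finrank_eq (by omega), Submodule.eq_top_of_finrank_eq (by omega)⟩
    · rintro ⟨hb1, hb2⟩
      apply hnb
      rw [hb1, finrank_top, hdW] at hW'
      rw [hb2, finrank_top, hdV] at hV'
      exact ⟨Submodule.finrank_eq_zero.mp (by omega), Submodule.finrank_eq_zero.mp (by omega)⟩

/-- Duality of Kronecker modules. Let f be a Kronecker module with n arrows over a field K, from V to W,
both finite-dimensional. The dual module has arrows the transposes f_j^∨ : W^∨ → V^∨, so its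
dimension vector is (d₀, d₋₁). Then f is semistable if and only if its dual is, and f is stable if
and only if its dual is. This is the module-level content of the isomorphism K(n; d₋₁, d₀) ≅ K(n;
d₀, d₋₁) of moduli spaces, stated here without the moduli spaces. (The published statement assumes K
algebraically closed of characteristic zero and n ≥ 2; this row allows any field K and any number n
of arrows.) -/
theorem result (K : Type u) [Field K] (V : Type v) (W : Type w)
    [AddCommGroup V] [Module K V] [FiniteDimensional K V]
    [AddCommGroup W] [Module K W] [FiniteDimensional K W]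
    (n : ℕ) (f : Fin n → (V →ₗ[K] W)) :
    (KronMod.IsSemistable f ↔ KronMod.IsSemistable (fun j => (f j).dualMap)) ∧
    (KronMod.IsStable f ↔ KronMod.IsStable (fun j => (f j).dualMap)) := by
  constructor
  · exact dual_iff (· ≤ ·) (fun a b c ha hb => by omega) f
  · exact dual_iff (· < ·) (fun a b c ha hb => by omega) f

end Groth.Agent.S15567
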