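import Groth.Statements.S15568
-- import your own Groth.Agent.* helpers here
import Mathlib

set_option autoImplicit false
universe u
open QuiverStab

namespace Groth.Agent.S15568

theorem dot_combo {I : Type*} [Fintype I] (a b : ℝ) (θ₁ θ₂ : I → ℝ) (d' : I → ℕ) :
    ∑ i, (a • θ₁ + b • θ₂) i * (d' i : ℝ) =
      a • (∑ i, θ₁ i * (d' i : ℝ)) + b • (∑ i, θ₂ i * (d' i : ℝ)) := by
  rw [smul_eq_mul, smul_eq_mul, Finset.mul_sum, Finset.mul_sum, ← Finset.sum_add_distrib]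
  refine Finset.sum_congr rfl fun i _ => ?_
  simp only [Pi.add_apply, Pi.smul_apply, smul_eq_mul]
  ring

/-- Walls and chambers for stability weights of a quiver. Let I be the finite vertex set, d ∈ ℕ^I a
dimension vector, and call two weights θ₁, θ₂ ∈ ℝ^I orthogonal to d numerically equivalent when, for
every d′ ≤ d in ℕ^I, the numbers θ₁·d′ and θ₂·d′ are both positive, both negative or both zero. The
walls are the hyperplanes W(d′) = {θ ⊥ d : θ·d′ = 0} of d^⊥ for d′ ≤ d such that d is not a multiple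
of d′. Then θ₁ and θ₂ are numerically equivalent if and only if there is a set J₁ of such d′ for
which θ₁ and θ₂ lie in the same connected component of the locally closed subset of d^⊥ consisting
of the weights lying on W(d₁) for every d₁ ∈ J₁ and off W(d₂) for every other wall W(d₂). (Only the
quiver's vertex set enters; multiples are taken with natural-number factors.) -/
theorem result
    (I : Type u) [Fintype I] (d : I → ℕ) (θ₁ θ₂ : I → ℝ)
    (h₁ : ∑ i, θ₁ i * (d i : ℝ) = 0) (h₂ : ∑ i, θ₂ i * (d i : ℝ) = 0) :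
    (∀ d' : I → ℕ, d' ≤ d →
        SignType.sign (∑ i, θ₁ i * (d' i : ℝ)) = SignType.sign (∑ i, θ₂ i * (d' i : ℝ))) ↔
    ∃ J₁ : Set (I → ℕ), J₁ ⊆ {d' | d' ≤ d ∧ ¬ ∃ m : ℕ, d = m • d'} ∧
      θ₂ ∈ connectedComponentIn
        {θ : I → ℝ | ∑ i, θ i * (d i : ℝ) = 0 ∧ (∀ d₁ ∈ J₁, ∑ i, θ i * (d₁ i : ℝ) = 0) ∧
          ∀ d₂ : I → ℕ, d₂ ≤ d → (¬ ∃ m : ℕ, d = m • d₂) → d₂ ∉ J₁ →
            ∑ i, θ i * (d₂ i : ℝ) ≠ 0} θ₁ := by
  constructor
  · intro hsign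
    refine ⟨{d' | (d' ≤ d ∧ ¬ ∃ m : ℕ, d = m • d') ∧ ∑ i, θ₁ i * (d' i : ℝ) = 0},
      fun d' h => h.1, ?_⟩
    refine (convex_segment θ₁ θ₂).isPreconnected.subset_connectedComponentIn
      (left_mem_segment ℝ θ₁ θ₂) ?_ (right_mem_segment ℝ θ₁ θ₂)
    rintro θ ⟨a, b, ha, hb, hab, rfl⟩
    refine ⟨?_, fun d₁ hd₁ => ?_, fun d₂ hd₂ hnm hnJ => ?_⟩
    · rw [dot_combo, h₁, h₂]; simp
    · have h1 := hd₁.2
      have h2 : ∑ i, θ₂ i * (d₁ i : ℝ) = 0 := by
        have := hsign d₁ hd₁.1.1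
        rw [h1, sign_zero] at this
        exact sign_eq_zero_iff.mp this.symm
      rw [dot_combo, h1, h2]; simp
    · have h1 : ∑ i, θ₁ i * (d₂ i : ℝ) ≠ 0 := fun h0 => hnJ ⟨⟨hd₂, hnm⟩, h0⟩
      have hs := hsign d₂ hd₂
      rw [dot_combo]
      rcases lt_or_gt_of_ne h1 with hneg | hpos
      · have h2 : ∑ i, θ₂ i * (d₂ i : ℝ) < 0 := by
          rw [sign_neg hneg] at hs
          exact sign_eq_neg_one_iff.mp hs.symm
        have := (convex_Iio (0:ℝ)) hneg h2 ha hb hab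
        exact (Set.mem_Iio.mp this).ne
      · have h2 : 0 < ∑ i, θ₂ i * (d₂ i : ℝ) := by
          rw [sign_pos hpos] at hs
          exact sign_eq_one_iff.mp hs.symm
        have := (convex_Ioi (0:ℝ)) hpos h2 ha hb hab
        exact (Set.mem_Ioi.mp this).ne'
  · rintro ⟨J₁, hJ₁, hmem⟩
    intro d' hd'
    have hθ₁ : θ₁ ∈ {θ : I → ℝ | ∑ i, θ i * (d i : ℝ) = 0 ∧
        (∀ d₁ ∈ J₁, ∑ i, θ i * (d₁ i : ℝ) = 0) ∧
          ∀ d₂ : I → ℕ, d₂ ≤ d → (¬ ∃ m : ℕ, d = m • d₂) → d₂ ∉ J₁ →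
            ∑ i, θ i * (d₂ i : ℝ) ≠ 0} := by
      by_contra hcon
      rw [connectedComponentIn_eq_empty hcon] at hmem
      exact hmem
    have hθ₂ := connectedComponentIn_subset _ _ hmem
    by_cases hW : ∃ m : ℕ, d = m • d'
    · obtain ⟨m, hm⟩ := hW
      have key : ∀ θ : I → ℝ, ∑ i, θ i * (d i : ℝ) = 0 → ∑ i, θ i * (d' i : ℝ) = 0 := by
        intro θ hθ
        rcases Nat.eq_zero_or_pos m with h0 | hpos
        · have hd0 : d = 0 := by rw [hm, h0, zero_smul]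
          have hd'0 : d' = 0 := by
            funext i
            have := hd' i
            rw [hd0] at this
            exact Nat.le_zero.mp this
          simp [hd'0]
        · have h3 : ∑ i, θ i * (d i : ℝ) = m * ∑ i, θ i * (d' i : ℝ) := by
            rw [Finset.mul_sum]
            refine Finset.sum_congr rfl fun i _ => ?_
            have : d i = m * d' i := by rw [hm]; simp
            rw [this]
            push_cast
            ring
          rw [h3] at hθ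
          exact (mul_eq_zero.mp hθ).resolve_left (by positivity)
      rw [key θ₁ h₁, key θ₂ h₂]
    · by_cases hJ : d' ∈ J₁
      · rw [hθ₁.2.1 d' hJ, hθ₂.2.1 d' hJ]
      · have hC : IsPreconnected (connectedComponentIn {θ : I → ℝ | ∑ i, θ i * (d i : ℝ) = 0 ∧
            (∀ d₁ ∈ J₁, ∑ i, θ i * (d₁ i : ℝ) = 0) ∧
              ∀ d₂ : I → ℕ, d₂ ≤ d → (¬ ∃ m : ℕ, d = m • d₂) → d₂ ∉ J₁ →
                ∑ i, θ i * (d₂ i : ℝ) ≠ 0} θ₁) := isPreconnected_connectedComponentIn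
        have hcont : Continuous (fun θ : I → ℝ => ∑ i, θ i * (d' i : ℝ)) :=
          continuous_finset_sum _ (fun i _ => (continuous_apply i).mul continuous_const)
        have himg := hC.image _ hcont.continuousOn
        have hx₁ := hθ₁.2.2 d' hd' hW hJ
        have hx₂ := hθ₂.2.2 d' hd' hW hJ
        have hnozero : (0:ℝ) ∉ (fun θ : I → ℝ => ∑ i, θ i * (d' i : ℝ)) ''
            connectedComponentIn {θ : I → ℝ | ∑ i, θ i * (d i : ℝ) = 0 ∧
            (∀ d₁ ∈ J₁, ∑ i, θ i * (d₁ i : ℝ) = 0) ∧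
              ∀ d₂ : I → ℕ, d₂ ≤ d → (¬ ∃ m : ℕ, d = m • d₂) → d₂ ∉ J₁ →
                ∑ i, θ i * (d₂ i : ℝ) ≠ 0} θ₁ := by
          rintro ⟨θ, hθ, h0⟩
          exact (connectedComponentIn_subset _ _ hθ).2.2 d' hd' hW hJ h0
        have hm₁ : (∑ i, θ₁ i * (d' i : ℝ)) ∈ (fun θ : I → ℝ => ∑ i, θ i * (d' i : ℝ)) ''
            connectedComponentIn {θ : I → ℝ | ∑ i, θ i * (d i : ℝ) = 0 ∧
            (∀ d₁ ∈ J₁, ∑ i, θ i * (d₁ i : ℝ) = 0) ∧
              ∀ d₂ : I → ℕ, d₂ ≤ d → (¬ ∃ m : ℕ, d = m • d₂) → d₂ ∉ J₁ →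
                ∑ i, θ i * (d₂ i : ℝ) ≠ 0} θ₁ := ⟨θ₁, mem_connectedComponentIn hθ₁, rfl⟩
        have hm₂ : (∑ i, θ₂ i * (d' i : ℝ)) ∈ (fun θ : I → ℝ => ∑ i, θ i * (d' i : ℝ)) ''
            connectedComponentIn {θ : I → ℝ | ∑ i, θ i * (d i : ℝ) = 0 ∧
            (∀ d₁ ∈ J₁, ∑ i, θ i * (d₁ i : ℝ) = 0) ∧
              ∀ d₂ : I → ℕ, d₂ ≤ d → (¬ ∃ m : ℕ, d = m • d₂) → d₂ ∉ J₁ →
                ∑ i, θ i * (d₂ i : ℝ) ≠ 0} θ₁ := ⟨θ₂, hmem, rfl⟩
        rcases lt_or_gt_of_ne hx₁ with h1 | h1 <;> rcases lt_or_gt_of_ne hx₂ with h2' | h2'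
        · rw [sign_neg h1, sign_neg h2']
        · exact absurd (himg.Icc_subset hm₁ hm₂ ⟨h1.le, h2'.le⟩) hnozero
        · exact absurd (himg.Icc_subset hm₂ hm₁ ⟨h2'.le, h1.le⟩) hnozero
        · rw [sign_pos h1, sign_pos h2']

end Groth.Agent.S15568
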