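import Groth.Statements.S15570
-- import your own Groth.Agent.* helpers here
import Mathlib
import Groth.Agent.Lib.Helper23.KronMod

set_option autoImplicit false
universe u v w
open KronMod

namespace Groth.Agent.S15570

open Groth.Agent.Lib.Helper23.KronModAux Module

/-- Let f be a Kronecker module with n arrows over a field K, from V of dimension n·d₀ to W of dimension
d₀ > 0. Then f is stable if and only if f is semistable and d₀ = 1: for d₀ = 1 every semistable
module is stable (the stable locus of K(n; n, 1) is the one point), while for d₀ > 1 no module is
stable. This is the case dual to dimension vector (d₋₁, n·d₋₁). (The published statement assumes K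
algebraically closed of characteristic zero and n ≥ 2; this row allows any field K and any number n
of arrows.) -/
theorem result (K : Type u) [Field K] (V : Type v) (W : Type w)
    [AddCommGroup V] [Module K V] [FiniteDimensional K V]
    [AddCommGroup W] [Module K W] [FiniteDimensional K W]
    (n : ℕ) (f : Fin n → (V →ₗ[K] W))
    (hW : 0 < Module.finrank K W) (hV : Module.finrank K V = n * Module.finrank K W) :
    KronMod.IsStable f ↔ (KronMod.IsSemistable f ∧ Module.finrank K W = 1) := by
  constructor
  · intro hst
    have hss := IsStable.isSemistable hst
    refine ⟨hss, ?_⟩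
    by_contra hne
    have hW2 : 2 ≤ finrank K W := by omega
    have hb := tupleMap_bijective_of_isSemistable f hW hV hss
    haveI : Nontrivial W := Module.nontrivial_of_finrank_pos hW
    obtain ⟨w, hw⟩ := exists_ne (0 : W)
    have hW'1 : finrank K (K ∙ w) = 1 := finrank_span_singleton hw
    let E := LinearEquiv.ofBijective (tupleMap f) hb
    obtain ⟨V', hV'def⟩ : ∃ V' : Submodule K V, V' =
        Submodule.comap (tupleMap f) (Submodule.pi Set.univ (fun _ => (K ∙ w))) := ⟨_, rfl⟩
    have hmemV' : ∀ x : V, x ∈ V' ↔ ∀ j, f j x ∈ (K ∙ w) := by
      intro x
      rw [hV'def, Submodule.mem_comap, Submodule.mem_pi]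
      simp
    have hsub : KronMod.IsSubrep f V' (K ∙ w) :=
      (isSubrep_iff _ _ _).mpr (fun j x hx => (hmemV' x).mp hx j)
    have hV'n : n ≤ finrank K V' := by
      let θ : (Fin n → (K ∙ w : Submodule K W)) →ₗ[K] V' :=
        LinearMap.codRestrict V'
          ((E.symm : (Fin n → W) →ₗ[K] V).comp
            (LinearMap.pi (fun j => (K ∙ w : Submodule K W).subtype.comp (LinearMap.proj j))))
          (by
            intro u
            rw [hmemV']
            intro j
            have h1 : tupleMap f (E.symm (fun i => ((u i : W)))) = fun i => ((u i : W)) :=
              E.apply_symm_apply _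
            have h2 := congrFun h1 j
            rw [tupleMap_apply] at h2
            show f j (E.symm (fun i => ((u i : W)))) ∈ _
            rw [h2]
            exact (u j).2)
      have hinj : Function.Injective θ := by
        intro a b hab
        have h1 : E.symm (fun i => ((a i : W))) = E.symm (fun i => ((b i : W))) :=
          congrArg Subtype.val hab
        have h2 := E.symm.injective h1
        funext i
        exact Subtype.ext (congrFun h2 i)
      have := LinearMap.finrank_le_finrank_of_injective hinj
      rwa [finrank_fin_pi, hW'1, Nat.mul_one] at this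
    have h1 := hst.2 _ _ hsub
      (fun h => by have := hW'1; rw [h.2, finrank_bot] at this; omega)
      (fun h => by have := hW'1; rw [h.2, finrank_top] at this; omega)
    rw [hW'1, hV, Nat.mul_one] at h1
    have h2 : finrank K W * n ≤ finrank K W * finrank K V' := Nat.mul_le_mul_left _ hV'n
    rw [Nat.mul_comm n] at h1
    omega
  · rintro ⟨hss, h1⟩
    have hb := tupleMap_bijective_of_isSemistable f hW hV hss
    refine ⟨hss.1, fun V' W' hsub hnb hnt => ?_⟩
    have hle := finrank_le_card_mul f hb.1 hsub
    have hV'le : finrank K V' ≤ finrank K V := Submodule.finrank_le V'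
    have hW'le : finrank K W' ≤ finrank K W := Submodule.finrank_le W'
    rw [h1, Nat.mul_one] at hV
    rw [hV, h1, Nat.one_mul]
    rcases Nat.eq_zero_or_pos (finrank K W') with h0 | hpos
    · have hW'bot : W' = ⊥ := Submodule.finrank_eq_zero.mp h0
      rw [h0, Nat.mul_zero] at hle
      have hV'bot : V' = ⊥ := Submodule.finrank_eq_zero.mp (by omega)
      exact absurd ⟨hV'bot, hW'bot⟩ hnb
    · have hfw : finrank K W' = 1 := by omega
      have hW'top : W' = ⊤ := Submodule.eq_top_of_finrank_eq (by omega)
      have hV'ne : V' ≠ ⊤ := fun h => hnt ⟨h, hW'top⟩
      have := Submodule.finrank_lt hV'ne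
      rw [hfw, Nat.mul_one]
      omega

end Groth.Agent.S15570
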