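import Groth.Statements.S15575
import Mathlib
import Groth.Agent.Lib.Helper26.InvBaseChange
import Groth.Agent.S15574
import Groth.Agent.S15573

set_option autoImplicit false
universe u v
open scoped TensorProduct
open RInv

namespace Groth.Agent.S15575

open Groth.Agent.Lib.Helper26.InvLocal Groth.Agent.Lib.Helper26.InvBaseChange

/-- Let `R` be a commutative ring with an involution `lam` and fixed ring `S` (no finiteness assumed).
If the localisation of `R` at a prime `p` of `S` is quadratic etale over `S_p`, then there is `s ∉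
p` with `R[1/s]` quadratic etale over `S[1/s]`; in particular the set of such primes is open in
`Spec S`. Localisations of `R` are written as base changes `S_p ⊗ R` and `S_s ⊗ R`. -/
theorem result (S : Type u) (R : Type v) [CommRing S] [CommRing R]
    [Algebra S R] (lam : R ≃+* R) (hlam : Function.Involutive lam) (hS : RInv.IsFixedRing S R lam)
    (p : PrimeSpectrum S)
    (hp : RInv.IsQuadEtale (Localization.AtPrime p.asIdeal) (Localization.AtPrime p.asIdeal ⊗[S] R)) :
    ∃ s : S, s ∉ p.asIdeal ∧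
      RInv.IsQuadEtale (Localization.Away s) (Localization.Away s ⊗[S] R) := by
  have hfix := isFixedRing_baseChange (Localization.AtPrime p.asIdeal) hS
  have hinv := lamBC_involutive (Localization.AtPrime p.asIdeal) hlam hS
  obtain ⟨ρ, hρ⟩ := Groth.Agent.S15574.result (Localization.AtPrime p.asIdeal)
    (Localization.AtPrime p.asIdeal ⊗[S] R) (lamBC (Localization.AtPrime p.asIdeal) hS) hinv hfix hp
  obtain ⟨w, hw⟩ := hρ.exists_right_inv
  have hloc : IsLocalizedModule p.asIdeal.primeCompl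
      (TensorProduct.mk S (Localization.AtPrime p.asIdeal) R 1) :=
    (isLocalizedModule_iff_isBaseChange p.asIdeal.primeCompl (Localization.AtPrime p.asIdeal) _).2
      (TensorProduct.isBaseChange S R (Localization.AtPrime p.asIdeal))
  obtain ⟨⟨r, s₁⟩, h1⟩ := IsLocalizedModule.surj p.asIdeal.primeCompl
    (TensorProduct.mk S (Localization.AtPrime p.asIdeal) R 1) ρ
  obtain ⟨⟨r', s₂⟩, h2⟩ := IsLocalizedModule.surj p.asIdeal.primeCompl
    (TensorProduct.mk S (Localization.AtPrime p.asIdeal) R 1) w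
  have h1' : (1 : Localization.AtPrime p.asIdeal) ⊗ₜ[S] r =
      algebraMap S (Localization.AtPrime p.asIdeal ⊗[S] R) (s₁ : S) * ρ := by
    rw [← Algebra.smul_def]; exact h1.symm
  have h2' : (1 : Localization.AtPrime p.asIdeal) ⊗ₜ[S] r' =
      algebraMap S (Localization.AtPrime p.asIdeal ⊗[S] R) (s₂ : S) * w := by
    rw [← Algebra.smul_def]; exact h2.symm
  have h1'' : (1 : Localization.AtPrime p.asIdeal) ⊗ₜ[S] lam r =
      algebraMap S (Localization.AtPrime p.asIdeal ⊗[S] R) (s₁ : S) *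
        lamBC (Localization.AtPrime p.asIdeal) hS ρ := by
    rw [← lamBC_tmul _ hS, h1', map_mul, lamBC_algebraMap]
  have h3 : (1 : Localization.AtPrime p.asIdeal) ⊗ₜ[S] ((r - lam r) * r') =
      (1 : Localization.AtPrime p.asIdeal) ⊗ₜ[S] (algebraMap S R ((s₁ : S) * (s₂ : S))) := by
    calc (1 : Localization.AtPrime p.asIdeal) ⊗ₜ[S] ((r - lam r) * r')
        = ((1 : Localization.AtPrime p.asIdeal) ⊗ₜ[S] r -
            (1 : Localization.AtPrime p.asIdeal) ⊗ₜ[S] lam r) *
            ((1 : Localization.AtPrime p.asIdeal) ⊗ₜ[S] r') := by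
          rw [← TensorProduct.tmul_sub, Algebra.TensorProduct.tmul_mul_tmul, one_mul]
      _ = algebraMap S (Localization.AtPrime p.asIdeal ⊗[S] R) (s₁ : S) *
            algebraMap S (Localization.AtPrime p.asIdeal ⊗[S] R) (s₂ : S) *
            ((ρ - lamBC (Localization.AtPrime p.asIdeal) hS ρ) * w) := by
          rw [h1', h1'', h2']; ring
      _ = algebraMap S (Localization.AtPrime p.asIdeal ⊗[S] R) ((s₁ : S) * (s₂ : S)) := by
          rw [hw, mul_one, map_mul]
      _ = (1 : Localization.AtPrime p.asIdeal) ⊗ₜ[S] (algebraMap S R ((s₁ : S) * (s₂ : S))) :=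
          algebraMap_base _ _
  obtain ⟨s₃, h4⟩ := IsLocalizedModule.exists_of_eq (S := p.asIdeal.primeCompl)
    (f := TensorProduct.mk S (Localization.AtPrime p.asIdeal) R 1) h3
  have h4' : (s₃ : S) • ((r - lam r) * r') = (s₃ : S) • algebraMap S R ((s₁ : S) * (s₂ : S)) := h4
  refine ⟨(s₁ : S) * s₂ * s₃, (s₁ * s₂ * s₃).2, ?_⟩
  apply Groth.Agent.S15573.result (Localization.Away ((s₁ : S) * s₂ * s₃))
    (Localization.Away ((s₁ : S) * s₂ * s₃) ⊗[S] R)
    (lamBC (Localization.Away ((s₁ : S) * s₂ * s₃)) hS)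
    (lamBC_involutive _ hlam hS) (isFixedRing_baseChange _ hS)
  refine ⟨(1 : Localization.Away ((s₁ : S) * s₂ * s₃)) ⊗ₜ[S] r, ?_⟩
  have hmul : ((1 : Localization.Away ((s₁ : S) * s₂ * s₃)) ⊗ₜ[S] r -
      lamBC (Localization.Away ((s₁ : S) * s₂ * s₃)) hS
        ((1 : Localization.Away ((s₁ : S) * s₂ * s₃)) ⊗ₜ[S] r)) *
      ((1 : Localization.Away ((s₁ : S) * s₂ * s₃)) ⊗ₜ[S] ((s₃ : S) • r')) =
      (algebraMap S (Localization.Away ((s₁ : S) * s₂ * s₃)) ((s₁ : S) * s₂ * s₃)) ⊗ₜ[S] (1 : R) := by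
    rw [lamBC_tmul, ← TensorProduct.tmul_sub, Algebra.TensorProduct.tmul_mul_tmul, one_mul,
      mul_smul_comm, h4', Algebra.smul_def, ← map_mul]
    have : (s₃ : S) * ((s₁ : S) * (s₂ : S)) = (s₁ : S) * s₂ * s₃ := by ring
    rw [this, Algebra.algebraMap_eq_smul_one, Algebra.algebraMap_eq_smul_one,
      TensorProduct.tmul_smul, TensorProduct.smul_tmul']
  have hunit : IsUnit ((algebraMap S (Localization.Away ((s₁ : S) * s₂ * s₃))
      ((s₁ : S) * s₂ * s₃)) ⊗ₜ[S] (1 : R)) := by
    have := (IsLocalization.Away.algebraMap_isUnit (S := Localization.Away ((s₁ : S) * s₂ * s₃))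
      ((s₁ : S) * s₂ * s₃)).map
      (algebraMap (Localization.Away ((s₁ : S) * s₂ * s₃))
        (Localization.Away ((s₁ : S) * s₂ * s₃) ⊗[S] R))
    rwa [algebraMap_eq] at this
  rw [← hmul] at hunit
  exact isUnit_of_mul_isUnit_left hunit

end Groth.Agent.S15575
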