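import Groth.Statements.S15576
import Mathlib
import Groth.Agent.Lib.Helper26.InvLocal

set_option autoImplicit false
universe u v
open RInv

namespace Groth.Agent.S15576

open Groth.Agent.Lib.Helper26.InvLocal

/-- Let `R` be a commutative ring with an involution `lam` whose fixed ring `S` is local. If the
automorphism induced by `lam` on `R` modulo its Jacobson radical is not the identity, then `R` is a
quadratic etale `S`-algebra. -/
theorem result (S : Type u) (R : Type v) [CommRing S] [CommRing R]
    [Algebra S R] (lam : R ≃+* R) (hlam : Function.Involutive lam) (hS : RInv.IsFixedRing S R lam)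
    [IsLocalRing S] (h : ∃ r : R, lam r - r ∉ Ring.jacobson R) : RInv.IsQuadEtale S R := by
  obtain ⟨r, hr⟩ := h
  have hu : IsUnit (lam r - r) := isUnit_lam_sub_of_not_mem_jacobson hlam hS hr
  have hu' : IsUnit (r - lam r) := by
    have : r - lam r = -(lam r - r) := by ring
    rw [this]; exact hu.neg
  obtain ⟨w, hw⟩ := hu'.exists_right_inv
  let e : (Fin 2 → S) ≃ₗ[S] R := equiv hlam hS hw
  haveI : Module.Finite S R := Module.Finite.equiv e
  haveI : Module.Free S R := Module.Free.of_equiv e
  refine ⟨inferInstance, inferInstance, formallyUnramified hlam hS hw, fun p => ?_⟩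
  rw [← Module.rankAtStalk_eq_of_equiv e, Module.rankAtStalk_eq_finrank_of_free]
  simp

end Groth.Agent.S15576
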