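import Groth.Statements.S15578
import Mathlib
import Groth.Agent.Lib.Helper26.InvLocal
import Groth.Agent.Lib.Helper8.Hzl.IntegralHens
import Groth.Agent.S15577

set_option autoImplicit false
universe u v
open RInv

namespace Groth.Agent.S15578

open Groth.Agent.Lib.Helper26.InvLocal Polynomial IsLocalRing RInv

theorem isSepClosed_of_ringEquiv {K L : Type*} [Field K] [Field L] (e : K ≃+* L) [IsSepClosed K] :
    IsSepClosed L := by
  refine ⟨fun p hp => ?_⟩
  have h1 : (p.map (e.symm : L →+* K)).Separable := hp.map
  have h2 := (IsSepClosed.splits_of_separable _ h1).map (e : K →+* L)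
  rwa [Polynomial.map_map, show (e : K →+* L).comp (e.symm : L →+* K) = RingHom.id L from
    RingHom.ext fun x => e.apply_symm_apply x, Polynomial.map_id] at h2

theorem henselianLocalRing_of_ringEquiv {S S' : Type*} [CommRing S] [CommRing S'] (e : S ≃+* S')
    [HenselianLocalRing S] : HenselianLocalRing S' := by
  have hloc : IsLocalRing S' := e.isLocalRing
  have hmem : ∀ x : S', x ∈ maximalIdeal S' ↔ e.symm x ∈ maximalIdeal S := fun x => by
    rw [mem_maximalIdeal, mem_nonunits_iff, mem_maximalIdeal, mem_nonunits_iff]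
    exact not_congr (MulEquiv.isUnit_map (e.symm : S' ≃* S)).symm
  refine { hloc with is_henselian := ?_ }
  intro F hF a₀ h₁ h₂
  have e1 : ∀ p : S'[X], (p.map (e.symm : S' →+* S)).eval (e.symm a₀) = e.symm (p.eval a₀) :=
    fun p => by
      rw [Polynomial.eval_map, ← RingHom.coe_coe e.symm, Polynomial.eval₂_at_apply]
  obtain ⟨a, ha, ha'⟩ := HenselianLocalRing.is_henselian (F.map (e.symm : S' →+* S))
    (hF.map _) (e.symm a₀) (by rw [e1]; exact (hmem _).mp h₁)
    (by
      rw [Polynomial.derivative_map, e1]
      exact (MulEquiv.isUnit_map (e.symm : S' ≃* S)).mpr h₂)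
  refine ⟨e a, ?_, ?_⟩
  · have h3 : (F.map (e.symm : S' →+* S)).eval a = e.symm (F.eval (e a)) := by
      rw [Polynomial.eval_map]
      have := Polynomial.hom_eval₂ F (RingHom.id S') (e.symm : S' →+* S) (e a)
      simp only [RingHom.comp_id, Polynomial.eval₂_id, RingHom.coe_coe,
        RingEquiv.symm_apply_apply] at this
      exact this.symm
    rw [Polynomial.IsRoot.def] at ha ⊢
    rw [h3] at ha
    exact e.symm.injective (by rw [ha, map_zero])
  · rw [hmem, map_sub, RingEquiv.symm_apply_apply]
    exact ha'

section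

variable {S R : Type v} [CommRing S] [CommRing R] [Algebra S R] {lam : R ≃+* R}

theorem isIntegral_of_fixed (hlam : Function.Involutive lam) (hS : IsFixedRing S R lam) :
    Algebra.IsIntegral S R := by
  refine ⟨fun x => ?_⟩
  obtain ⟨c, hc⟩ := exists_trace hlam hS x
  obtain ⟨d, hd⟩ := exists_norm hlam hS x
  refine ⟨X ^ 2 + (C (-c) * X + C d),
    monic_X_pow_add (lt_of_le_of_lt degree_linear_le (by norm_num)), ?_⟩
  simp only [eval₂_add, eval₂_pow, eval₂_X, eval₂_mul, eval₂_C, map_neg, eval₂_neg, hc, hd]
  ring

theorem isUnit_of_isUnit_algebraMap (hS : IsFixedRing S R lam) {s : S}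
    (h : IsUnit (algebraMap S R s)) : IsUnit s := by
  obtain ⟨y, hy⟩ := h.exists_right_inv
  have hly : lam y = y := by
    have h1 : algebraMap S R s * lam y = 1 := by
      have := congrArg lam hy
      rwa [map_mul, lam_algebraMap hS, map_one] at this
    calc lam y = (algebraMap S R s * y) * lam y := by rw [hy, one_mul]
      _ = (algebraMap S R s * lam y) * y := by ring
      _ = y := by rw [h1, one_mul]
  obtain ⟨t, ht⟩ := exists_of_fixed hS hly
  refine IsUnit.of_mul_eq_one t (hS.1 ?_)
  rw [map_mul, ht, hy, map_one]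

theorem case_local (hlam : Function.Involutive lam) (hS : IsFixedRing S R lam)
    [HenselianLocalRing S] [IsSepClosed (ResidueField S)]
    (h : ∀ r : R, lam r - r ∈ Ring.jacobson R) :
    ∃ (_ : HenselianLocalRing R), IsSepClosed (ResidueField R) := by
  haveI : Algebra.IsIntegral S R := isIntegral_of_fixed hlam hS
  haveI : IsLocalRing R := (Groth.Agent.S15577.result S R lam hlam hS h).1
  haveI hH : HenselianLocalRing R :=
    Groth.Agent.Lib.Helper8.Hzl.henselianLocalRing_of_isIntegral S R
  refine ⟨hH, ?_⟩
  haveI : IsLocalHom (algebraMap S R) := ⟨fun s h => isUnit_of_isUnit_algebraMap hS h⟩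
  haveI : Algebra.IsIntegral (ResidueField S) (ResidueField R) := by
    refine ⟨fun y => ?_⟩
    obtain ⟨x, rfl⟩ := residue_surjective y
    have h1 : IsIntegral S (algebraMap R (ResidueField R) x) :=
      (Algebra.IsIntegral.isIntegral x).algebraMap
    exact IsIntegral.tower_top h1
  exact Algebra.IsAlgebraic.isSepClosed (F := ResidueField S) (E := ResidueField R)

theorem case_split (hlam : Function.Involutive lam) (hS : IsFixedRing S R lam)
    [HenselianLocalRing S] [IsSepClosed (ResidueField S)]
    {r : R} (hr : lam r - r ∉ Ring.jacobson R) : Nonempty (R ≃+* S × S) := by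
  have hu : IsUnit (lam r - r) := isUnit_lam_sub_of_not_mem_jacobson hlam hS hr
  have hu' : IsUnit (r - lam r) := by
    have : r - lam r = -(lam r - r) := by ring
    rw [this]; exact hu.neg
  obtain ⟨w, hw⟩ := hu'.exists_right_inv
  have hlw : lam w = -w := lam_inv_eq_neg hlam hw
  obtain ⟨c, hc⟩ := exists_trace hlam hS r
  obtain ⟨d, hd⟩ := exists_norm hlam hS r
  have hdisc : algebraMap S R (c ^ 2 - 4 * d) = (r - lam r) ^ 2 := by
    rw [map_sub, map_pow, map_mul, hc, hd, map_ofNat]; ring
  have hδ : IsUnit (c ^ 2 - 4 * d) :=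
    isUnit_of_isUnit_algebraMap hS (by rw [hdisc]; exact hu'.pow 2)
  obtain ⟨δ', hδ'⟩ := hδ.exists_right_inv
  have hlin : degree (C (-c) * X + C d) < ((2 : ℕ) : WithBot ℕ) :=
    lt_of_le_of_lt degree_linear_le (by norm_num)
  set f : S[X] := X ^ 2 + (C (-c) * X + C d) with hf
  have hmonic : f.Monic := monic_X_pow_add hlin
  have hder : derivative f = C 2 * X + C (-c) := by
    rw [hf, derivative_add, derivative_add, derivative_X_sq, derivative_C_mul, derivative_X,
      derivative_C, mul_one, add_zero]
  have hident : derivative f * derivative f - C 4 * f = C (c ^ 2 - 4 * d) := by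
    rw [hder]
    simp only [hf, map_neg, map_sub, map_mul, map_pow, map_ofNat]
    ring
  have hsep : f.Separable := by
    rw [separable_def']
    refine ⟨C (-(4 * δ')), C δ' * derivative f, ?_⟩
    have : C (-(4 * δ')) * f + C δ' * derivative f * derivative f =
        C δ' * (derivative f * derivative f - C 4 * f) := by
      simp only [map_neg, map_mul, map_ofNat]; ring
    rw [this, hident, ← C_mul, mul_comm, hδ', C_1]
  have hsepk : (f.map (residue S)).Separable := hsep.map
  have hdeg : f.degree = ((2 : ℕ) : WithBot ℕ) := by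
    rw [hf, degree_add_eq_left_of_degree_lt, degree_X_pow]
    rw [degree_X_pow]; exact hlin
  have hdegk : (f.map (residue S)).degree ≠ 0 := by
    rw [hmonic.degree_map, hdeg]; simp
  obtain ⟨abar, habar⟩ := IsSepClosed.exists_root (f.map (residue S)) hdegk hsepk
  obtain ⟨a₀, rfl⟩ := residue_surjective abar
  have h₁ : f.eval a₀ ∈ maximalIdeal S := by
    rw [IsRoot.def, eval_map_apply] at habar
    exact (residue_eq_zero_iff _).mp habar
  have hder_eval : (derivative f).eval a₀ * (derivative f).eval a₀ - 4 * f.eval a₀ =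
      c ^ 2 - 4 * d := by
    have := congrArg (eval a₀) hident
    simpa only [eval_sub, eval_mul, eval_C, eval_ofNat] using this
  have h₂ : IsUnit ((derivative f).eval a₀) := by
    have hsq : IsUnit ((derivative f).eval a₀ * (derivative f).eval a₀) := by
      have : (derivative f).eval a₀ * (derivative f).eval a₀ =
          (c ^ 2 - 4 * d) + 4 * f.eval a₀ := by rw [← hder_eval]; ring
      rw [this]
      by_contra hnu
      have hmem : (c ^ 2 - 4 * d) + 4 * f.eval a₀ ∈ maximalIdeal S :=
        (mem_maximalIdeal _).mpr hnu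
      have : c ^ 2 - 4 * d ∈ maximalIdeal S := by
        have h4 := (maximalIdeal S).mul_mem_left 4 h₁
        have := (maximalIdeal S).sub_mem hmem h4
        simpa using this
      exact (mem_maximalIdeal _).mp this hδ
    exact isUnit_of_mul_isUnit_left hsq
  obtain ⟨a, ha, -⟩ := HenselianLocalRing.is_henselian f hmonic a₀ h₁ h₂
  have haeq : a ^ 2 + (-c * a + d) = 0 := by
    have := ha
    rw [IsRoot.def, hf] at this
    simpa only [eval_add, eval_pow, eval_X, eval_mul, eval_C] using this
  set α := algebraMap S R a with hα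
  have hroot : (α - r) * (α - lam r) = 0 := by
    have : (α - r) * (α - lam r) = algebraMap S R (a ^ 2 + (-c * a + d)) := by
      rw [map_add, map_add, map_pow, map_mul, map_neg, hc, hd]; ring
    rw [this, haeq, map_zero]
  obtain ⟨e, he⟩ : ∃ e : R, e = (α - lam r) * w := ⟨_, rfl⟩
  obtain ⟨e', he'⟩ : ∃ e' : R, e' = (r - α) * w := ⟨_, rfl⟩
  have hee' : e + e' = 1 := by rw [he, he', ← hw]; ring
  have hmul : e * e' = 0 := by
    have : e * e' = -((α - r) * (α - lam r)) * (w * w) := by rw [he, he']; ring
    rw [this, hroot]; ring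
  have hlame : lam e = e' := by
    rw [he, he', map_mul, map_sub, hlam r, hlw, hα, lam_algebraMap hS]; ring
  have hlame' : lam e' = e := by rw [← hlame, hlam e]
  have hidem : e * e = e := by
    calc e * e = e * (e + e') - e * e' := by ring
      _ = e := by rw [hee', hmul, mul_one, sub_zero]
  have hidem' : e' * e' = e' := by
    calc e' * e' = (e + e') * e' - e * e' := by ring
      _ = e' := by rw [hee', hmul, one_mul, sub_zero]
  let ψ : S × S →+* R :=
    { toFun := fun p => algebraMap S R p.1 * e + algebraMap S R p.2 * e'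
      map_one' := by simp [hee']
      map_mul' := by
        intro p q
        simp only [Prod.fst_mul, Prod.snd_mul, map_mul]
        linear_combination (-(algebraMap S R p.1 * algebraMap S R q.1)) * hidem -
          (algebraMap S R p.1 * algebraMap S R q.2 + algebraMap S R p.2 * algebraMap S R q.1) * hmul
          - (algebraMap S R p.2 * algebraMap S R q.2) * hidem'
      map_zero' := by simp
      map_add' := by
        intro p q
        simp only [Prod.fst_add, Prod.snd_add, map_add]; ring }
  have hψ : ∀ p : S × S, ψ p = algebraMap S R p.1 * e + algebraMap S R p.2 * e' := fun p => rfl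
  have hinj : Function.Injective ψ := by
    rw [injective_iff_map_eq_zero]
    rintro ⟨s₁, s₂⟩ h0
    have h0' : algebraMap S R s₁ * e + algebraMap S R s₂ * e' = 0 := h0
    have h1 : algebraMap S R s₁ * e = 0 := by
      linear_combination e * h0' - algebraMap S R s₁ * hidem - algebraMap S R s₂ * hmul
    have h1' : algebraMap S R s₁ * e' = 0 := by
      have := congrArg lam h1
      rwa [map_mul, lam_algebraMap hS, hlame, map_zero] at this
    have h2 : algebraMap S R s₂ * e' = 0 := by
      linear_combination e' * h0' - algebraMap S R s₁ * hmul - algebraMap S R s₂ * hidem'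
    have h2' : algebraMap S R s₂ * e = 0 := by
      have := congrArg lam h2
      rwa [map_mul, lam_algebraMap hS, hlame', map_zero] at this
    have hA : algebraMap S R s₁ = 0 := by
      calc algebraMap S R s₁ = algebraMap S R s₁ * (e + e') := by rw [hee', mul_one]
        _ = algebraMap S R s₁ * e + algebraMap S R s₁ * e' := by ring
        _ = 0 := by rw [h1, h1', add_zero]
    have hB : algebraMap S R s₂ = 0 := by
      calc algebraMap S R s₂ = algebraMap S R s₂ * (e + e') := by rw [hee', mul_one]
        _ = algebraMap S R s₂ * e + algebraMap S R s₂ * e' := by ring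
        _ = 0 := by rw [h2', h2, add_zero]
    have e1 : s₁ = 0 := hS.1 (by rw [hA, map_zero])
    have e2 : s₂ = 0 := hS.1 (by rw [hB, map_zero])
    rw [e1, e2]; rfl
  have hsurj : Function.Surjective ψ := by
    intro x
    have hf1 : lam (x * e + lam x * e') = x * e + lam x * e' := by
      rw [map_add, map_mul, map_mul, hlam x, hlame, hlame']; ring
    have hf2 : lam (x * e' + lam x * e) = x * e' + lam x * e := by
      rw [map_add, map_mul, map_mul, hlam x, hlame, hlame']; ring
    obtain ⟨s₁, hs₁⟩ := exists_of_fixed hS hf1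
    obtain ⟨s₂, hs₂⟩ := exists_of_fixed hS hf2
    refine ⟨(s₁, s₂), ?_⟩
    rw [hψ]
    simp only []
    rw [hs₁, hs₂]
    linear_combination x * hidem + x * hidem' + (2 * lam x) * hmul + x * hee'
  exact ⟨(RingEquiv.ofBijective ψ ⟨hinj, hsurj⟩).symm⟩

theorem aux (S R : Type v) [CommRing S] [CommRing R] [Algebra S R] (lam : R ≃+* R)
    (hlam : Function.Involutive lam) (hS : IsFixedRing S R lam)
    [HenselianLocalRing S] [IsSepClosed (ResidueField S)] :
    ∃ (ι : Type) (_ : Fintype ι) (T : ι → Type v) (_ : ∀ i, CommRing (T i))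
      (_ : ∀ i, HenselianLocalRing (T i)),
      (∀ i, IsSepClosed (IsLocalRing.ResidueField (T i))) ∧ Nonempty (R ≃+* (∀ i, T i)) := by
  by_cases h : ∀ r : R, lam r - r ∈ Ring.jacobson R
  · obtain ⟨hH, hsep⟩ := case_local hlam hS h
    exact ⟨Unit, inferInstance, fun _ => R, fun _ => inferInstance, fun _ => hH, fun _ => hsep,
      ⟨(RingEquiv.piUnique (fun _ : Unit => R)).symm⟩⟩
  · push_neg at h
    obtain ⟨r, hr⟩ := h
    obtain ⟨e⟩ := case_split hlam hS hr
    exact ⟨Fin 2, inferInstance, fun _ => S, fun _ => inferInstance, fun _ => inferInstance,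
      fun _ => inferInstance, ⟨e.trans (RingEquiv.piFinTwo (fun _ => S)).symm⟩⟩

end

/-- Let `R` be a commutative ring with an involution `lam` whose fixed ring `S` is strictly henselian
(henselian local with separably closed residue field). Then `R` is isomorphic to a product of
finitely many strictly henselian local rings (existence of a ring isomorphism with such a product). -/
theorem result (S : Type u) (R : Type v) [CommRing S] [CommRing R]
    [Algebra S R] (lam : R ≃+* R) (hlam : Function.Involutive lam) (hS : RInv.IsFixedRing S R lam)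
    [HenselianLocalRing S] [IsSepClosed (IsLocalRing.ResidueField S)] :
    ∃ (ι : Type) (_ : Fintype ι) (T : ι → Type v) (_ : ∀ i, CommRing (T i))
      (_ : ∀ i, HenselianLocalRing (T i)),
      (∀ i, IsSepClosed (IsLocalRing.ResidueField (T i))) ∧ Nonempty (R ≃+* (∀ i, T i)) := by
  let S₀ : Subring R := (algebraMap S R).range
  let e₀ : S ≃+* S₀ := RingEquiv.ofBijective (algebraMap S R).rangeRestrict
    ⟨fun a b hab => hS.1 (congrArg Subtype.val hab), (algebraMap S R).rangeRestrict_surjective⟩
  haveI : HenselianLocalRing S₀ := henselianLocalRing_of_ringEquiv e₀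
  haveI : IsSepClosed (ResidueField S₀) :=
    isSepClosed_of_ringEquiv (IsLocalRing.ResidueField.mapEquiv e₀)
  have hS₀ : RInv.IsFixedRing S₀ R lam := by
    refine ⟨Subtype.val_injective, fun r => ?_⟩
    rw [hS.2 r]
    constructor
    · rintro ⟨s, rfl⟩
      exact ⟨⟨algebraMap S R s, RingHom.mem_range_self _ s⟩, rfl⟩
    · rintro ⟨⟨x, hx⟩, rfl⟩
      obtain ⟨s, rfl⟩ := RingHom.mem_range.mp hx
      exact ⟨s, rfl⟩
  exact aux S₀ R lam hlam hS₀

end Groth.Agent.S15578
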