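import Groth.Statements.S15579
-- import your own Groth.Agent.* helpers here
import Mathlib

set_option autoImplicit false
universe u v
open RInv

namespace Groth.Agent.S15579



/-- For a local ring `S` with maximal ideal `m` and a quadratic etale `S`-algebra `R`, the Jacobson
radical of `R` is `mR`. -/
theorem result (S : Type u) (R : Type v) [CommRing S]
    [CommRing R] [Algebra S R] [IsLocalRing S] (hq : RInv.IsQuadEtale S R) :
    Ring.jacobson R = (IsLocalRing.maximalIdeal S).map (algebraMap S R) := by
  obtain ⟨hfin, hproj, hunr, hrank⟩ := hq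
  haveI := hfin
  haveI := hunr
  haveI : Algebra.IsIntegral S R := Algebra.IsIntegral.of_finite S R
  have hjac : Ring.jacobson R = sInf {I : Ideal R | I.IsMaximal} :=
    Ring.jacobson_eq_sInf_isMaximal R
  apply le_antisymm
  · have hrad : ((IsLocalRing.maximalIdeal S).map (algebraMap S R)).IsRadical :=
      Algebra.FormallyUnramified.isRadical_map_isMaximal (A := S) (B := R) (p := IsLocalRing.maximalIdeal S)
    rw [← hrad.radical, Ideal.radical_eq_sInf, hjac]
    apply le_sInf
    rintro J ⟨hJle, hJprime⟩
    apply sInf_le
    have hcomap : J.comap (algebraMap S R) = IsLocalRing.maximalIdeal S := by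
      have hle : IsLocalRing.maximalIdeal S ≤ J.comap (algebraMap S R) :=
        Ideal.map_le_iff_le_comap.mp hJle
      exact ((IsLocalRing.maximalIdeal.isMaximal S).eq_of_le
        (Ideal.comap_ne_top _ hJprime.ne_top) hle).symm
    have hmax : (J.comap (algebraMap S R)).IsMaximal :=
      hcomap ▸ IsLocalRing.maximalIdeal.isMaximal S
    exact Ideal.isMaximal_of_isIntegral_of_isMaximal_comap J hmax
  · rw [hjac]
    apply le_sInf
    intro M hM
    haveI : M.IsMaximal := hM
    have h1 : (M.comap (algebraMap S R)).IsMaximal :=
      Ideal.isMaximal_comap_of_isIntegral_of_isMaximal M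
    have h2 : M.comap (algebraMap S R) = IsLocalRing.maximalIdeal S :=
      IsLocalRing.eq_maximalIdeal h1
    rw [Ideal.map_le_iff_le_comap, h2]

end Groth.Agent.S15579
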