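import Groth.Statements.S15580
import Mathlib
import Groth.Agent.Lib.Helper26.InvLocal
import Groth.Agent.S15574

set_option autoImplicit false
universe u v
open RInv

namespace Groth.Agent.S15580

open Groth.Agent.Lib.Helper26.InvLocal

/-- Let `S` be a local ring, `R` a quadratic etale `S`-algebra and `lam` an involution of `R` with fixed
ring `S`. Then every unit `r` of `R` with `lam r * r = 1` can be written `a⁻¹ * lam a` for a unit
`a` of `R`. -/
theorem result (S : Type u) (R : Type v) [CommRing S] [CommRing R]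
    [Algebra S R] (lam : R ≃+* R) (hlam : Function.Involutive lam) (hS : RInv.IsFixedRing S R lam)
    [IsLocalRing S] (hq : RInv.IsQuadEtale S R) (r : Rˣ) (hr : lam r * r = 1) :
    ∃ a : Rˣ, (r : R) = (a⁻¹ : Rˣ) * lam a := by
  have hkey : ∀ y : R, lam (y + lam y * lam (r : R)) = (y + lam y * lam (r : R)) * r := by
    intro y
    rw [map_add, map_mul, hlam, hlam]
    have : (y + lam y * lam (r : R)) * r = y * r + lam y * (lam (r : R) * r) := by ring
    rw [this, hr, mul_one, add_comm]
  suffices h : ∃ y : R, IsUnit (y + lam y * lam (r : R)) by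
    obtain ⟨y, hy⟩ := h
    obtain ⟨a, ha⟩ := hy
    refine ⟨a, ?_⟩
    have h1 : lam (a : R) = a * r := by rw [ha]; exact hkey y
    rw [h1, Units.inv_mul_cancel_left]
  haveI : Nontrivial R := hS.1.nontrivial
  obtain ⟨n, hn⟩ := Ideal.exists_maximal R
  have hrn : (r : R) ∉ n := fun h => hn.ne_top (Ideal.eq_top_of_isUnit_mem _ h r.isUnit)
  have hunit : ∀ y : R, y + lam y * lam (r : R) ∉ n → IsUnit (y + lam y * lam (r : R)) := by
    intro y hy
    refine isUnit_of_not_mem hlam hS hn hy ?_
    rw [hkey y]
    exact fun h => (hn.isPrime.mem_or_mem h).elim hy hrn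
  by_cases h1 : 1 + lam (r : R) ∈ n
  · obtain ⟨z, hz⟩ := Groth.Agent.S15574.result S R lam hlam hS hq
    refine ⟨z, hunit z ?_⟩
    intro ha
    apply hn.ne_top
    apply Ideal.eq_top_of_isUnit_mem _ _ hz
    have : z - lam z = (z + lam z * lam (r : R)) - lam z * (1 + lam (r : R)) := by ring
    rw [this]
    exact n.sub_mem ha (n.mul_mem_left _ h1)
  · refine ⟨1, hunit 1 ?_⟩
    rwa [map_one, one_mul]

end Groth.Agent.S15580
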