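import Groth.Statements.S15581
-- import your own Groth.Agent.* helpers here
import Mathlib

set_option autoImplicit false
universe u v
open RInv

namespace Groth.Agent.S15581



/-- Let `A` be a commutative ring with an involution `lam` whose fixed ring `B` is local with `2`
invertible. Then `Jac(A)^2 ⊆ Jac(B) A`. -/
theorem result (B : Type u) (A : Type v) [CommRing B]
    [CommRing A] [Algebra B A] (lam : A ≃+* A) (hlam : Function.Involutive lam)
    (hB : RInv.IsFixedRing B A lam) [IsLocalRing B] (h2 : IsUnit (2 : B)) :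
    (Ring.jacobson A) ^ 2 ≤ (IsLocalRing.maximalIdeal B).map (algebraMap B A) := by
  have hJ : ∀ x : A, x ∈ Ring.jacobson A ↔ ∀ y, IsUnit (x * y + 1) := fun x => by
    rw [← Ideal.jacobson_bot, Ideal.mem_jacobson_bot]
  have hlamJ : ∀ x ∈ Ring.jacobson A, lam x ∈ Ring.jacobson A := by
    intro x hx
    rw [hJ] at hx ⊢
    intro y
    have := (hx (lam.symm y)).map lam
    simpa using this
  haveI : Nontrivial A := hB.1.nontrivial
  have hkey : ∀ b : B, algebraMap B A b ∈ Ring.jacobson A → b ∈ IsLocalRing.maximalIdeal B := by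
    intro b hb
    rw [IsLocalRing.mem_maximalIdeal, mem_nonunits_iff]
    intro hu
    have h1 : IsUnit (algebraMap B A b) := hu.map _
    have h2 := (hJ _).mp hb (-(↑(h1.unit⁻¹) : A))
    have h3 : algebraMap B A b * (-(↑(h1.unit⁻¹) : A)) + 1 = 0 := by
      rw [mul_neg, IsUnit.mul_val_inv, neg_add_cancel]
    rw [h3] at h2
    exact not_isUnit_zero h2
  have hsq : ∀ x ∈ Ring.jacobson A, x * x ∈ (IsLocalRing.maximalIdeal B).map (algebraMap B A) := by
    intro x hx
    have hlx := hlamJ x hx
    obtain ⟨t, ht⟩ := (hB.2 (x + lam x)).mp (by rw [map_add, hlam x, add_comm])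
    obtain ⟨n, hn⟩ := (hB.2 (x * lam x)).mp (by rw [map_mul, hlam x, mul_comm])
    have htm : t ∈ IsLocalRing.maximalIdeal B :=
      hkey t (by rw [ht]; exact Ideal.add_mem _ hx hlx)
    have hnm : n ∈ IsLocalRing.maximalIdeal B :=
      hkey n (by rw [hn]; exact Ideal.mul_mem_right _ _ hx)
    have : x * x = algebraMap B A t * x - algebraMap B A n := by rw [ht, hn]; ring
    rw [this]
    exact Ideal.sub_mem _ (Ideal.mul_mem_right _ _ (Ideal.mem_map_of_mem _ htm))
      (Ideal.mem_map_of_mem _ hnm)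
  rw [sq, Ideal.mul_le]
  intro x hx y hy
  obtain ⟨c, hc⟩ := h2.exists_left_inv
  have h3 : x * y = algebraMap B A c * ((x + y) * (x + y) - x * x - y * y) := by
    have h4 : algebraMap B A c * 2 = 1 := by
      rw [← map_ofNat (algebraMap B A) 2, ← map_mul, hc, map_one]
    calc x * y = (algebraMap B A c * 2) * (x * y) := by rw [h4, one_mul]
      _ = _ := by ring
  rw [h3]
  exact Ideal.mul_mem_left _ _ (Ideal.sub_mem _ (Ideal.sub_mem _
    (hsq _ (Ideal.add_mem _ hx hy)) (hsq _ hx)) (hsq _ hy))

end Groth.Agent.S15581
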