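import Groth.Statements.S15582
import Mathlib

set_option autoImplicit false
universe u
open CategoryTheory TopologicalSpace
open CohTop

namespace Groth.Agent.S15582

/-- Let `π : X → Y` be a continuous map such that every open set containing a fibre `π⁻¹(y)` contains
the preimage of an open neighbourhood of `y`, and such that every fibre is finite with its points
separated by pairwise disjoint open sets of `X`. Then the direct image of sheaves of sets along `π`
preserves epimorphisms. -/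
theorem result
    {X Y : TopCat.{u}} (π : X ⟶ Y)
    (h1 : ∀ (y : Y) (U : Set X), IsOpen U → π ⁻¹' {y} ⊆ U →
      ∃ V : Set Y, IsOpen V ∧ y ∈ V ∧ π ⁻¹' V ⊆ U)
    (h2 : ∀ y : Y, (π ⁻¹' {y}).Finite ∧ ∃ U : X → Set X,
      (∀ x ∈ π ⁻¹' {y}, IsOpen (U x) ∧ x ∈ U x) ∧ (π ⁻¹' {y}).PairwiseDisjoint U) :
    (TopCat.Sheaf.pushforward (Type u) π).PreservesEpimorphisms := by
  constructor
  intro F G α hα
  have hα2 : CategoryTheory.Sheaf.IsLocallySurjective α :=
    (CategoryTheory.Sheaf.isLocallySurjective_iff_epi α).mpr hα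
  refine (CategoryTheory.Sheaf.isLocallySurjective_iff_epi _).mp ?_
  have hα' := (TopCat.Presheaf.isLocallySurjective_iff α.hom).mp hα2
  refine (TopCat.Presheaf.isLocallySurjective_iff _).mpr ?_
  intro V t y hyV
  obtain ⟨hfin, U, hU, hdisj⟩ := h2 y
  let PV : Opens X := (Opens.map π).obj V
  let t' : ToType (G.obj.obj (Opposite.op PV)) := t
  have hx_mem : ∀ x : X, x ∈ π ⁻¹' {y} → x ∈ PV := by
    intro x hx
    show π x ∈ V
    rw [Set.mem_preimage, Set.mem_singleton_iff] at hx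
    rw [hx]; exact hyV
  have hloc : ∀ x : (π ⁻¹' {y} : Set X), ∃ W : Opens X, ∃ hW : W ≤ PV, (x : X) ∈ W ∧
      (W : Set X) ⊆ U x ∧ ∃ s : ToType (F.obj.obj (Opposite.op W)),
        α.hom.app (Opposite.op W) s = G.obj.map (homOfLE hW).op t' := by
    rintro ⟨x, hx⟩
    obtain ⟨W, hW, ⟨s, hs⟩, hxW⟩ := hα' PV t' x (hx_mem x hx)
    let W' : Opens X := W ⊓ ⟨U x, (hU x hx).1⟩
    have hW'W : W' ≤ W := inf_le_left
    refine ⟨W', hW'W.trans hW, ⟨hxW, (hU x hx).2⟩, fun z hz => hz.2,
      F.obj.map (homOfLE hW'W).op s, ?_⟩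
    rw [NatTrans.naturality_apply, hs]
    show G.obj.map (homOfLE hW'W).op (G.obj.map (homOfLE hW).op t') = _
    rw [← ConcreteCategory.comp_apply, ← Functor.map_comp]
    rfl
  choose W hWPV hxW hWU s hs using hloc
  let Wtot : Opens X := iSup W
  have hcompat : TopCat.Presheaf.IsCompatible F.obj W s := by
    intro i j
    by_cases hij : i = j
    · subst hij; rfl
    · have hbot : W i ⊓ W j = ⊥ := by
        apply le_antisymm _ bot_le
        rintro z ⟨hzi, hzj⟩
        exact (Set.disjoint_left.mp (hdisj i.2 j.2 (fun h => hij (Subtype.ext h)))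
          (hWU i hzi) (hWU j hzj)).elim
      exact F.eq_of_locally_eq' (fun e : PEmpty.{1} => e.elim) _ (fun e => e.elim)
        (by rw [hbot]; exact bot_le) _ _ (fun e => e.elim)
  obtain ⟨sg, hsg, -⟩ := F.existsUnique_gluing' W Wtot (fun i => Opens.leSupr W i) le_rfl s hcompat
  have hWtotPV : Wtot ≤ PV := iSup_le hWPV
  have hαsg : α.hom.app (Opposite.op Wtot) sg = G.obj.map (homOfLE hWtotPV).op t' := by
    refine G.eq_of_locally_eq' W Wtot (fun i => Opens.leSupr W i) le_rfl _ _ (fun i => ?_)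
    rw [← NatTrans.naturality_apply, hsg i, hs i, ← ConcreteCategory.comp_apply,
      ← Functor.map_comp]
    rfl
  have hfibre : π ⁻¹' {y} ⊆ (Wtot : Set X) := by
    intro x hx
    exact Opens.mem_iSup.mpr ⟨⟨x, hx⟩, hxW ⟨x, hx⟩⟩
  obtain ⟨V'', hV''o, hyV'', hV''sub⟩ := h1 y Wtot Wtot.isOpen hfibre
  let V' : Opens Y := V ⊓ ⟨V'', hV''o⟩
  have hV'V : V' ≤ V := inf_le_left
  have hPV' : (Opens.map π).obj V' ≤ Wtot := fun z hz => hV''sub hz.2
  have hPV'PV : (Opens.map π).obj V' ≤ PV := hPV'.trans hWtotPV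
  refine ⟨V', hV'V, ⟨F.obj.map (homOfLE hPV').op sg, ?_⟩, ⟨hyV, hyV''⟩⟩
  show α.hom.app (Opposite.op ((Opens.map π).obj V')) (F.obj.map (homOfLE hPV').op sg) =
    G.obj.map (homOfLE hPV'PV).op t'
  rw [NatTrans.naturality_apply, hαsg, ← ConcreteCategory.comp_apply, ← Functor.map_comp]
  rfl

end Groth.Agent.S15582
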