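import Groth.Statements.S15583
import Mathlib
import Groth.Agent.Lib.Helper26.HermSemilocal

set_option autoImplicit false
universe u v
open RInv

namespace Groth.Agent.S15583

open Matrix
open Groth.Agent.Lib.Helper26.HermCong Groth.Agent.Lib.Helper26.HermSemilocal
  Groth.Agent.Lib.Helper26.InvLocal

/-- Let `A` be a commutative ring with an involution `lam` whose fixed ring `B` is local, let `ε = ±1`,
and let `h` be an invertible `n × n` matrix over `A` that is `(ε, lam)`-hermitian: `h` equals `ε`
times the transpose of `lam` applied entrywise to `h`. If `lam` is not the identity modulo the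
Jacobson radical of `A`, or `ε ≠ -1` modulo that radical, or `n` is odd, then `h` is congruent to a
diagonal matrix: there is an invertible `v` with `(lam v)ᵀ h v` diagonal. -/
theorem result (B : Type u) (A : Type v) [CommRing B] [CommRing A]
    [Algebra B A] (lam : A ≃+* A) (hlam : Function.Involutive lam) (hB : RInv.IsFixedRing B A lam)
    [IsLocalRing B] (n : ℕ) (ε : A) (hε : ε = 1 ∨ ε = -1) (h : Matrix (Fin n) (Fin n) A)
    (hh : IsUnit h) (herm : ε • (h.map lam).transpose = h)
    (hcase : (∃ a : A, lam a - a ∉ Ring.jacobson A) ∨ ε + 1 ∉ Ring.jacobson A ∨ Odd n) :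
    ∃ v : Matrix (Fin n) (Fin n) A, IsUnit v ∧
      ∃ d : Fin n → A, (v.map lam).transpose * h * v = Matrix.diagonal d := by
  suffices hC : ∃ d : Fin n → A, Cong lam h (Matrix.diagonal d) by
    obtain ⟨d, v, hv, hveq⟩ := hC
    exact ⟨v, hv, d, hveq⟩
  have hherm : IsHerm lam ε h := herm
  have hεu : IsUnit ε := by
    rcases hε with rfl | rfl
    · exact isUnit_one
    · exact isUnit_one.neg
  have hε2 : ε * ε = 1 := by rcases hε with rfl | rfl <;> ring
  rcases Nat.eq_zero_or_pos n with rfl | hn
  · exact ⟨fun _ => 0, 1, isUnit_one, Subsingleton.elim _ _⟩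
  haveI : Nonempty (Fin n) := ⟨⟨0, hn⟩⟩
  by_cases hloc : IsLocalRing A
  · haveI := hloc
    have hstep : StepProp lam ε := step_local hlam hεu
    have hjac : ∀ x : A, x ∉ Ring.jacobson A → IsUnit x := by
      intro x hx
      rw [← Ideal.jacobson_bot, IsLocalRing.jacobson_eq_maximalIdeal ⊥ bot_ne_top] at hx
      exact IsLocalRing.notMem_maximalIdeal.mp hx
    have hfirst : ∃ g, Cong lam h g ∧ ∃ j, IsUnit (g j j) := by
      by_cases hz : ∃ z, IsUnit (z + ε * lam z)
      · obtain ⟨z, hz⟩ := hz
        exact tv_local hz (Fin n) h hh hherm
      · push_neg at hz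
        have h1ε : ¬ IsUnit (ε + 1) := by
          have := hz 1
          rwa [map_one, mul_one, add_comm] at this
        have hodd : Odd n := by
          rcases hcase with ⟨a, ha⟩ | hb | hc
          · exfalso
            have hu := hjac _ ha
            have h1 : ¬ IsUnit (a + ε * lam a) := hz a
            have h2 : ¬ IsUnit (-((ε + 1) * lam a)) := by
              intro hcon
              have := hcon.neg
              rw [neg_neg] at this
              exact h1ε (isUnit_of_mul_isUnit_left this)
            have h3 := not_isUnit_add h1 h2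
            have e : a + ε * lam a + -((ε + 1) * lam a) = -(lam a - a) := by ring
            rw [e] at h3
            exact h3 hu.neg
          · exact absurd (hjac _ hb) h1ε
          · exact hc
        refine ⟨h, Cong.refl _, ?_⟩
        by_contra hd
        push_neg at hd
        -- the matrix is alternating modulo the maximal ideal
        have hdet : IsUnit h.det := (Matrix.isUnit_iff_isUnit_det _).mp hh
        have hdet' : IsUnit ((h.map (Ideal.Quotient.mk (IsLocalRing.maximalIdeal A))).det) := by
          have := RingHom.map_det (Ideal.Quotient.mk (IsLocalRing.maximalIdeal A)) h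
          rw [RingHom.mapMatrix_apply] at this
          rw [← this]
          exact hdet.map _
        have hzero : (h.map (Ideal.Quotient.mk (IsLocalRing.maximalIdeal A))).det = 0 := by
          apply det_eq_zero_of_alternating_of_odd
          · intro i j
            simp only [Matrix.map_apply]
            rw [eq_neg_iff_add_eq_zero, ← map_add, Ideal.Quotient.eq_zero_iff_mem,
              IsLocalRing.mem_maximalIdeal, mem_nonunits_iff, ← hherm.entry j i, add_comm]
            exact hz (h i j)
          · intro i
            simp only [Matrix.map_apply]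
            rw [Ideal.Quotient.eq_zero_iff_mem, IsLocalRing.mem_maximalIdeal, mem_nonunits_iff]
            exact hd i
          · rw [Fintype.card_fin]; exact hodd
        rw [hzero] at hdet'
        exact not_isUnit_zero hdet'
    obtain ⟨g, hcg, hj⟩ := hfirst
    obtain ⟨d, hd⟩ := diag_of_unit_entry hlam hstep n (Fin n) (Fintype.card_fin n) g
      (hcg.isUnit hh) (hcg.isHerm hlam hherm) hj
    exact ⟨d, hcg.trans hd⟩
  · have htv := fun (ι : Type) [Fintype ι] [DecidableEq ι] [Nonempty ι] (g : Matrix ι ι A)
        (hg : IsUnit g) (hgh : IsHerm lam ε g) => tv_nonlocal hlam hB hloc hε2 ι g hg hgh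
    have hstep : StepProp lam ε := step_of_tv htv
    obtain ⟨g, hcg, hj⟩ := htv (Fin n) h hh hherm
    obtain ⟨d, hd⟩ := diag_of_unit_entry hlam hstep n (Fin n) (Fintype.card_fin n) g
      (hcg.isUnit hh) (hcg.isHerm hlam hherm) hj
    exact ⟨d, hcg.trans hd⟩

end Groth.Agent.S15583
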