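import Groth.Statements.S15584
import Mathlib
import Groth.Agent.Lib.Helper26.HermSympl
import Groth.Agent.S15577

set_option autoImplicit false
universe u v
open RInv

namespace Groth.Agent.S15584

open Matrix
open Groth.Agent.Lib.Helper26.HermCong Groth.Agent.Lib.Helper26.HermSemilocal
  Groth.Agent.Lib.Helper26.HermSympl

/-- Let `A` be a commutative ring with an involution `lam` whose fixed ring `B` is local; assume `lam`
is the identity modulo the Jacobson radical of `A`, that `2` is invertible in `A`, and that `h` is
an invertible `n × n` matrix with `h = -(lam h)ᵀ`. Then `n` is even and there is an invertible `v`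
such that `(lam v)ᵀ h v` is a block sum of `2 × 2` blocks on the index pairs `{2k, 2k+1}`, each
congruent to `[[0,1],[-1,0]]` modulo the Jacobson radical. (The published statement writes the
congruence with the plain transpose `vᵀ h v`; its proof computes the Gram matrix of the hermitian
form `(x, y) ↦ (lam x)ᵀ h y` in a new basis, which is `(lam v)ᵀ h v`, and that is what is stated
here.) -/
theorem result (B : Type u) (A : Type v) [CommRing B] [CommRing A]
    [Algebra B A] (lam : A ≃+* A) (hlam : Function.Involutive lam) (hB : RInv.IsFixedRing B A lam)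
    [IsLocalRing B] (n : ℕ) (hid : ∀ a : A, lam a - a ∈ Ring.jacobson A) (h2 : IsUnit (2 : A))
    (h : Matrix (Fin n) (Fin n) A) (hh : IsUnit h) (herm : -(h.map lam).transpose = h) :
    Even n ∧ ∃ v : Matrix (Fin n) (Fin n) A, IsUnit v ∧
      ∀ i j : Fin n,
        (i.val / 2 ≠ j.val / 2 → ((v.map lam).transpose * h * v) i j = 0) ∧
        (i.val / 2 = j.val / 2 → (Even i.val ↔ Even j.val) →
          ((v.map lam).transpose * h * v) i j ∈ Ring.jacobson A) ∧
        (i.val / 2 = j.val / 2 → Even i.val → ¬ Even j.val →
          ((v.map lam).transpose * h * v) i j - 1 ∈ Ring.jacobson A) ∧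
        (i.val / 2 = j.val / 2 → ¬ Even i.val → Even j.val →
          ((v.map lam).transpose * h * v) i j + 1 ∈ Ring.jacobson A) := by
  haveI hloc : IsLocalRing A := (Groth.Agent.S15577.result B A lam hlam hB hid).1
  have hjac : Ring.jacobson A = IsLocalRing.maximalIdeal A := by
    rw [← Ideal.jacobson_bot]
    exact IsLocalRing.jacobson_eq_maximalIdeal ⊥ bot_ne_top
  have hherm : IsHerm lam (-1) h := by
    show (-1 : A) • (h.map lam).transpose = h
    rw [neg_one_smul]
    exact herm
  have hdiag : ∀ a : A, lam a = -a → ¬ IsUnit a := by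
    intro a ha hu
    have h1 := hid a
    rw [ha, hjac] at h1
    have h3 : (2 : A) * a ∈ IsLocalRing.maximalIdeal A := by
      have : (2 : A) * a = -(-a - a) := by ring
      rw [this]
      exact (IsLocalRing.maximalIdeal A).neg_mem h1
    exact (IsLocalRing.mem_maximalIdeal _).mp h3 (h2.mul hu)
  have heven : Even n := by
    by_contra hodd
    rw [Nat.not_even_iff_odd] at hodd
    have hdet : IsUnit h.det := (Matrix.isUnit_iff_isUnit_det _).mp hh
    have hdet' : IsUnit ((h.map (Ideal.Quotient.mk (IsLocalRing.maximalIdeal A))).det) := by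
      have := RingHom.map_det (Ideal.Quotient.mk (IsLocalRing.maximalIdeal A)) h
      rw [RingHom.mapMatrix_apply] at this
      rw [← this]
      exact hdet.map _
    have hzero : (h.map (Ideal.Quotient.mk (IsLocalRing.maximalIdeal A))).det = 0 := by
      apply det_eq_zero_of_alternating_of_odd
      · intro i j
        simp only [Matrix.map_apply]
        rw [eq_neg_iff_add_eq_zero, ← map_add, Ideal.Quotient.eq_zero_iff_mem, ← hherm.entry j i]
        have h1 := hid (h i j)
        rw [hjac] at h1
        have e : -1 * lam (h i j) + h i j = -(lam (h i j) - h i j) := by ring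
        rw [e]
        exact (IsLocalRing.maximalIdeal A).neg_mem h1
      · intro i
        simp only [Matrix.map_apply]
        rw [Ideal.Quotient.eq_zero_iff_mem, IsLocalRing.mem_maximalIdeal, mem_nonunits_iff]
        exact not_isUnit_diag hdiag h hherm i
      · rw [Fintype.card_fin]; exact hodd
    rw [hzero] at hdet'
    exact not_isUnit_zero hdet'
  refine ⟨heven, ?_⟩
  obtain ⟨k, rfl⟩ : ∃ k, n = k * 2 := by
    obtain ⟨r, hr⟩ := heven
    exact ⟨r, by omega⟩
  have hu' : IsUnit (h.submatrix (finProdFinEquiv (m := k) (n := 2))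
      (finProdFinEquiv (m := k) (n := 2))) := by
    rw [Matrix.isUnit_iff_isUnit_det, Matrix.det_submatrix_equiv_self]
    exact (Matrix.isUnit_iff_isUnit_det _).mp hh
  have hh' : IsHerm lam (-1) (h.submatrix (finProdFinEquiv (m := k) (n := 2))
      (finProdFinEquiv (m := k) (n := 2))) := by
    ext i j
    have := hherm.entry (finProdFinEquiv i) (finProdFinEquiv j)
    simpa using this
  obtain ⟨g', hcg', hS'⟩ := sympl hlam hdiag k (Fin k) (Fintype.card_fin k) _ hu' hh'
  have hfin := hcg'.submatrix (finProdFinEquiv (m := k) (n := 2)).symm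
  rw [Matrix.submatrix_submatrix, Equiv.self_comp_symm, Matrix.submatrix_id_id] at hfin
  obtain ⟨v, hv, hveq⟩ := hfin
  refine ⟨v, hv, fun i j => ?_⟩
  rw [hveq, Matrix.submatrix_apply]
  obtain ⟨t1, t2, t3, t4⟩ := hS' ((finProdFinEquiv (m := k) (n := 2)).symm i)
    ((finProdFinEquiv (m := k) (n := 2)).symm j)
  have hd1 : ∀ i : Fin (k * 2), (((finProdFinEquiv (m := k) (n := 2)).symm i).1 : ℕ) = i.val / 2 :=
    fun i => rfl
  have hd2 : ∀ i : Fin (k * 2), (((finProdFinEquiv (m := k) (n := 2)).symm i).2 : ℕ) = i.val % 2 :=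
    fun i => rfl
  refine ⟨?_, ?_, ?_, ?_⟩
  · intro hne
    apply t1
    intro heq
    apply hne
    rw [← hd1, ← hd1, heq]
  · intro heq hpar
    have e1 : ((finProdFinEquiv (m := k) (n := 2)).symm i).1 =
        ((finProdFinEquiv (m := k) (n := 2)).symm j).1 := Fin.ext (by rw [hd1, hd1]; exact heq)
    have e2 : ((finProdFinEquiv (m := k) (n := 2)).symm i).2 =
        ((finProdFinEquiv (m := k) (n := 2)).symm j).2 := by
      apply Fin.ext
      rw [hd2, hd2]
      rw [Nat.even_iff, Nat.even_iff] at hpar
      omega
    rw [hjac]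
    exact (IsLocalRing.mem_maximalIdeal _).mpr (t2 e1 e2)
  · intro heq hi hj
    have e1 : ((finProdFinEquiv (m := k) (n := 2)).symm i).1 =
        ((finProdFinEquiv (m := k) (n := 2)).symm j).1 := Fin.ext (by rw [hd1, hd1]; exact heq)
    have e0 : ((finProdFinEquiv (m := k) (n := 2)).symm i).2 = 0 := by
      apply Fin.ext
      rw [hd2]
      exact Nat.even_iff.mp hi
    have e2 : ((finProdFinEquiv (m := k) (n := 2)).symm j).2 = 1 := by
      apply Fin.ext
      rw [hd2]
      exact Nat.not_even_iff.mp hj
    rw [t3 e1 e0 e2, sub_self]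
    exact zero_mem _
  · intro heq hi hj
    have e1 : ((finProdFinEquiv (m := k) (n := 2)).symm i).1 =
        ((finProdFinEquiv (m := k) (n := 2)).symm j).1 := Fin.ext (by rw [hd1, hd1]; exact heq)
    have e0 : ((finProdFinEquiv (m := k) (n := 2)).symm i).2 = 1 := by
      apply Fin.ext
      rw [hd2]
      exact Nat.not_even_iff.mp hi
    have e2 : ((finProdFinEquiv (m := k) (n := 2)).symm j).2 = 0 := by
      apply Fin.ext
      rw [hd2]
      exact Nat.even_iff.mp hj
    rw [t4 e1 e0 e2, neg_add_cancel]
    exact zero_mem _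

end Groth.Agent.S15584
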