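import Groth.Statements.S15585
import Mathlib

set_option autoImplicit false
universe u v
open RInv

namespace Groth.Agent.S15585


lemma S15585_two_dim (k : Type u) (A : Type v) [Field k] [CommRing A] [Algebra k A] [IsReduced A]
    (h2 : Module.finrank k A = 2) : IsField A ∨ Nonempty (A ≃ₐ[k] k × k) := by
  classical
  haveI : FiniteDimensional k A := Module.finite_of_finrank_pos (by omega)
  haveI : Nontrivial A := Module.nontrivial_of_finrank_pos (R := k) (by omega)
  by_cases hA : IsField A
  · exact Or.inl hA
  right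
  have hx : ∃ x : A, x ≠ 0 ∧ ¬ IsUnit x := by
    by_contra h
    push Not at h
    exact hA ⟨⟨0, 1, zero_ne_one⟩, mul_comm, fun {a} ha => (h a ha).exists_right_inv⟩
  obtain ⟨x, hx0, hxu⟩ := hx
  -- the ideal generated by x has dimension one
  set N : Submodule k A := (Ideal.span {x}).restrictScalars k with hN
  have hxN : x ∈ N := Ideal.subset_span (Set.mem_singleton x)
  have hNtop : N ≠ ⊤ := by
    intro h
    have h1 : (1 : A) ∈ N := by rw [h]; trivial
    have h2' : (1 : A) ∈ Ideal.span {x} := h1
    rw [← Ideal.eq_top_iff_one, Ideal.span_singleton_eq_top] at h2'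
    exact hxu h2'
  have h1 : Module.finrank k N < 2 := by
    rw [← h2]
    exact Submodule.finrank_lt hNtop
  have h0 : 0 < Module.finrank k N :=
    Module.finrank_pos_iff_exists_ne_zero.mpr ⟨⟨x, hxN⟩, fun h => hx0 (congrArg Subtype.val h)⟩
  have hone : Module.finrank k N = 1 := by omega
  have hxx : x * x ∈ N := (Ideal.span {x}).mul_mem_left x (Ideal.subset_span (Set.mem_singleton x))
  obtain ⟨a, ha⟩ := (finrank_eq_one_iff_of_nonzero' (⟨x, hxN⟩ : N)
    (fun h => hx0 (congrArg Subtype.val h))).mp hone ⟨x * x, hxx⟩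
  have ha' : a • x = x * x := congrArg Subtype.val ha
  have ha0 : a ≠ 0 := by
    rintro rfl
    rw [zero_smul] at ha'
    have : IsNilpotent x := ⟨2, by rw [pow_two, ← ha']⟩
    exact hx0 this.eq_zero
  set e : A := a⁻¹ • x with he
  have hee : e * e = e := by
    rw [he, smul_mul_smul_comm, ← ha', smul_smul, mul_assoc, inv_mul_cancel₀ ha0, mul_one]
  have he0 : e ≠ 0 := smul_ne_zero (inv_ne_zero ha0) hx0
  have he1 : 1 - e ≠ 0 := by
    intro h
    have h1 : e = 1 := (sub_eq_zero.mp h).symm
    have h2 : x = a • (1 : A) := by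
      rw [← h1, he, smul_smul, mul_inv_cancel₀ ha0, one_smul]
    apply hxu
    rw [h2, ← Algebra.algebraMap_eq_smul_one]
    exact (isUnit_iff_ne_zero.mpr ha0).map (algebraMap k A)
  let ψl : (k × k) →ₗ[k] A :=
    (LinearMap.fst k k k).smulRight e + (LinearMap.snd k k k).smulRight (1 - e)
  have hψl : ∀ p : k × k, ψl p = p.1 • e + p.2 • (1 - e) := fun p => rfl
  let ψ : (k × k) →ₐ[k] A := AlgHom.ofLinearMap ψl
    (by rw [hψl]; simp)
    (by
      intro p q
      rw [hψl, hψl, hψl]
      simp only [Prod.fst_mul, Prod.snd_mul, Algebra.smul_def, map_mul]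
      linear_combination (-(algebraMap k A p.1 * algebraMap k A q.1)
        + algebraMap k A p.1 * algebraMap k A q.2 + algebraMap k A p.2 * algebraMap k A q.1
        - algebraMap k A p.2 * algebraMap k A q.2) * hee)
  have hinj : Function.Injective ψl := by
    rw [← LinearMap.ker_eq_bot, LinearMap.ker_eq_bot']
    intro p hp
    rw [hψl] at hp
    have h1 : p.1 • e = 0 := by
      have := congrArg (fun z => z * e) hp
      simp only [add_mul, smul_mul_assoc, zero_mul, sub_mul, one_mul, hee, sub_self, smul_zero,
        add_zero] at this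
      exact this
    have h2 : p.2 • (1 - e) = 0 := by
      have := congrArg (fun z => z * (1 - e)) hp
      simp only [add_mul, smul_mul_assoc, zero_mul, mul_sub, mul_one, sub_mul, one_mul, hee,
        sub_self, smul_zero, zero_add] at this
      simpa using this
    have h3 : p.1 = 0 := (smul_eq_zero.mp h1).resolve_right he0
    have h4 : p.2 = 0 := (smul_eq_zero.mp h2).resolve_right he1
    exact Prod.ext h3 h4
  have hsurj : Function.Surjective ψl := by
    have hfr : Module.finrank k (k × k) = Module.finrank k A := by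
      rw [h2, Module.finrank_prod, Module.finrank_self]
    exact (LinearMap.injective_iff_surjective_of_finrank_eq_finrank hfr).mp hinj
  exact ⟨(AlgEquiv.ofBijective ψ ⟨hinj, hsurj⟩).symm⟩

/-- For a local ring `S` (maximal ideal `m`, residue field `k`) and a quadratic etale `S`-algebra `R`,
the ring `R/mR` is a field that is a separable extension of `k` of degree 2, or else it is
isomorphic as a `k`-algebra to `k × k`. -/
theorem result (S : Type u) (R : Type v) [CommRing S]
    [CommRing R] [Algebra S R] [IsLocalRing S] (hq : RInv.IsQuadEtale S R) :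
    (IsField (R ⧸ (IsLocalRing.maximalIdeal S).map (algebraMap S R)) ∧
      Module.finrank (S ⧸ IsLocalRing.maximalIdeal S)
        (R ⧸ (IsLocalRing.maximalIdeal S).map (algebraMap S R)) = 2 ∧
      Algebra.IsSeparable (S ⧸ IsLocalRing.maximalIdeal S)
        (R ⧸ (IsLocalRing.maximalIdeal S).map (algebraMap S R))) ∨
    Nonempty ((R ⧸ (IsLocalRing.maximalIdeal S).map (algebraMap S R)) ≃ₐ[S ⧸ IsLocalRing.maximalIdeal S]
      ((S ⧸ IsLocalRing.maximalIdeal S) × (S ⧸ IsLocalRing.maximalIdeal S))) := by
  obtain ⟨hfin, hproj, hunr, hrank⟩ := hq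
  letI : Field (S ⧸ IsLocalRing.maximalIdeal S) := Ideal.Quotient.field _
  haveI : Module.Free S R := Module.free_of_flat_of_isLocalRing
  have hfr : Module.finrank S R = 2 := by
    have := hrank (IsLocalRing.closedPoint S)
    rw [Module.rankAtStalk_eq_finrank_of_free] at this
    exact_mod_cast this
  have h2 : Module.finrank (S ⧸ IsLocalRing.maximalIdeal S)
      (R ⧸ (IsLocalRing.maximalIdeal S).map (algebraMap S R)) = 2 := by
    rw [IsLocalRing.finrank_quotient_map, hfr]
  haveI : Algebra.FormallyUnramified S (R ⧸ (IsLocalRing.maximalIdeal S).map (algebraMap S R)) :=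
    Algebra.FormallyUnramified.of_surjective (Ideal.Quotient.mkₐ S _)
      (Ideal.Quotient.mkₐ_surjective S _)
  haveI : Algebra.FormallyUnramified (S ⧸ IsLocalRing.maximalIdeal S)
      (R ⧸ (IsLocalRing.maximalIdeal S).map (algebraMap S R)) :=
    Algebra.FormallyUnramified.of_restrictScalars S _ _
  haveI : Module.Finite (S ⧸ IsLocalRing.maximalIdeal S)
      (R ⧸ (IsLocalRing.maximalIdeal S).map (algebraMap S R)) :=
    Module.Finite.of_restrictScalars_finite S _ _
  haveI : IsReduced (R ⧸ (IsLocalRing.maximalIdeal S).map (algebraMap S R)) :=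
    Algebra.FormallyUnramified.isReduced_of_field (S ⧸ IsLocalRing.maximalIdeal S) _
  rcases S15585_two_dim (S ⧸ IsLocalRing.maximalIdeal S)
    (R ⧸ (IsLocalRing.maximalIdeal S).map (algebraMap S R)) h2 with hA | hA
  · left
    refine ⟨hA, h2, ?_⟩
    letI := hA.toField
    exact Algebra.FormallyUnramified.isSeparable (S ⧸ IsLocalRing.maximalIdeal S) _
  · right
    exact hA

end Groth.Agent.S15585
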