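import Groth.Statements.S15586
-- import your own Groth.Agent.* helpers here
import Mathlib

set_option autoImplicit false
universe u v w
open scoped TensorProduct
open RInv

namespace Groth.Agent.S15586



/-- Let `R` be a commutative ring with an involution `lam` and fixed ring `S`, and let `S'` be a
commutative `S`-algebra. If `S'` is flat over `S`, or if `2` is invertible in `S`, then `S'` is the
fixed ring of the base-changed involution `id ⊗ lam` of `S' ⊗_S R`: the structure map `S' → S' ⊗_S
R` is injective with image the fixed elements. (In general the fixed ring does not commute with base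
change.) -/
theorem result (S : Type u) (R : Type v) (S' : Type w)
    [CommRing S] [CommRing R] [Algebra S R] [CommRing S'] [Algebra S S']
    (lam : R ≃ₐ[S] R) (hlam : Function.Involutive lam)
    (hS : RInv.IsFixedRing S R lam.toRingEquiv)
    (h : Module.Flat S S' ∨ IsUnit (2 : S)) :
    RInv.IsFixedRing S' (S' ⊗[S] R)
      (Algebra.TensorProduct.congr (AlgEquiv.refl : S' ≃ₐ[S] S') lam).toRingEquiv := by
  have hιinj : Function.Injective (Algebra.linearMap S R) := hS.1
  have hΛ : ∀ x : S' ⊗[S] R,
      (Algebra.TensorProduct.congr (AlgEquiv.refl : S' ≃ₐ[S] S') lam).toRingEquiv x =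
        (lam.toLinearMap.lTensor S') x := by
    intro x
    induction x using TensorProduct.induction_on with
    | zero => simp
    | tmul a r =>
      show (Algebra.TensorProduct.congr (AlgEquiv.refl : S' ≃ₐ[S] S') lam) (a ⊗ₜ[S] r) = _
      simp
    | add x y hx hy => rw [map_add, map_add, hx, hy]
  have halg : ∀ s' : S', algebraMap S' (S' ⊗[S] R) s' =
      ((Algebra.linearMap S R).lTensor S') (s' ⊗ₜ[S] (1 : S)) := by
    intro s'
    rw [Algebra.TensorProduct.algebraMap_apply, LinearMap.lTensor_tmul]
    simp
  have hrange : ∀ y : S' ⊗[S] S, ((Algebra.linearMap S R).lTensor S') y =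
      algebraMap S' (S' ⊗[S] R) (TensorProduct.rid S S' y) := by
    intro y
    induction y using TensorProduct.induction_on with
    | zero => simp
    | tmul a s =>
      rw [LinearMap.lTensor_tmul, TensorProduct.rid_tmul, Algebra.TensorProduct.algebraMap_apply,
        Algebra.linearMap_apply, Algebra.algebraMap_eq_smul_one, TensorProduct.tmul_smul,
        TensorProduct.smul_tmul']
      simp
    | add x y hx hy => rw [map_add, map_add, map_add, hx, hy]
  have key : Function.Injective ((Algebra.linearMap S R).lTensor S') ∧
      ∀ x : S' ⊗[S] R, (lam.toLinearMap.lTensor S') x = x →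
        x ∈ LinearMap.range ((Algebra.linearMap S R).lTensor S') := by
    rcases h with hflat | h2
    · haveI := hflat
      refine ⟨Module.Flat.lTensor_preserves_injective_linearMap _ hιinj, fun x hx => ?_⟩
      have hex : Function.Exact (Algebra.linearMap S R)
          (lam.toLinearMap - LinearMap.id : R →ₗ[S] R) := by
        intro r
        rw [LinearMap.sub_apply, LinearMap.id_apply, sub_eq_zero]
        exact hS.2 r
      have hex' := Module.Flat.lTensor_exact S' hex
      have h0 : ((lam.toLinearMap - LinearMap.id : R →ₗ[S] R).lTensor S') x = 0 := by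
        rw [LinearMap.lTensor_sub, LinearMap.sub_apply, LinearMap.lTensor_id,
          LinearMap.id_apply, hx, sub_self]
      exact (hex' x).mp h0
    · obtain ⟨c, hc⟩ := h2.exists_left_inv
      have hπrange : ∀ r, (c • (LinearMap.id + lam.toLinearMap) : R →ₗ[S] R) r ∈
          LinearMap.range (Algebra.linearMap S R) := by
        intro r
        have hfix : lam ((c • (LinearMap.id + lam.toLinearMap) : R →ₗ[S] R) r) =
            (c • (LinearMap.id + lam.toLinearMap) : R →ₗ[S] R) r := by
          simp only [LinearMap.smul_apply, LinearMap.add_apply, LinearMap.id_apply,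
            AlgEquiv.toLinearMap_apply, map_smul, map_add, hlam r]
          rw [add_comm]
        exact (hS.2 _).mp hfix
      let e := LinearEquiv.ofInjective (Algebra.linearMap S R) hιinj
      let ρ : R →ₗ[S] S := (e.symm : LinearMap.range (Algebra.linearMap S R) →ₗ[S] S).comp
        ((c • (LinearMap.id + lam.toLinearMap) : R →ₗ[S] R).codRestrict
          (LinearMap.range (Algebra.linearMap S R)) hπrange)
      have hιρ : ∀ r, Algebra.linearMap S R (ρ r) =
          (c • (LinearMap.id + lam.toLinearMap) : R →ₗ[S] R) r := by
        intro r
        have h1 := e.apply_symm_apply ((c • (LinearMap.id + lam.toLinearMap) :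
          R →ₗ[S] R).codRestrict (LinearMap.range (Algebra.linearMap S R)) hπrange r)
        exact congrArg Subtype.val h1
      have hπι : ∀ s, (c • (LinearMap.id + lam.toLinearMap) : R →ₗ[S] R)
          (Algebra.linearMap S R s) = Algebra.linearMap S R s := by
        intro s
        have hfix : lam (Algebra.linearMap S R s) = Algebra.linearMap S R s :=
          (hS.2 _).mpr ⟨s, rfl⟩
        simp only [LinearMap.smul_apply, LinearMap.add_apply, LinearMap.id_apply,
          AlgEquiv.toLinearMap_apply, hfix]
        rw [← two_smul S (Algebra.linearMap S R s), smul_smul, hc, one_smul]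
      have hρι : ∀ s, ρ (Algebra.linearMap S R s) = s :=
        fun s => hιinj ((hιρ _).trans (hπι s))
      refine ⟨?_, fun x hx => ?_⟩
      · have hli : ∀ y, (ρ.lTensor S') (((Algebra.linearMap S R).lTensor S') y) = y := by
          intro y
          rw [← LinearMap.comp_apply, ← LinearMap.lTensor_comp]
          have : ρ.comp (Algebra.linearMap S R) = LinearMap.id := LinearMap.ext hρι
          rw [this, LinearMap.lTensor_id, LinearMap.id_apply]
        exact Function.LeftInverse.injective hli
      · have hπx : ((c • (LinearMap.id + lam.toLinearMap) : R →ₗ[S] R).lTensor S') x = x := by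
          rw [LinearMap.lTensor_smul, LinearMap.lTensor_add, LinearMap.lTensor_id,
            LinearMap.smul_apply, LinearMap.add_apply, LinearMap.id_apply, hx, ← two_smul S x,
            smul_smul, hc, one_smul]
        have hfac : (c • (LinearMap.id + lam.toLinearMap) : R →ₗ[S] R) =
            (Algebra.linearMap S R).comp ρ := LinearMap.ext (fun r => (hιρ r).symm)
        rw [hfac, LinearMap.lTensor_comp, LinearMap.comp_apply] at hπx
        exact ⟨_, hπx⟩
  obtain ⟨hinj, hfixed⟩ := key
  refine ⟨?_, fun x => ⟨fun hx => ?_, ?_⟩⟩
  · intro a b hab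
    rw [halg, halg] at hab
    have h2 := congrArg (TensorProduct.rid S S') (hinj hab)
    simpa using h2
  · have hx' : (lam.toLinearMap.lTensor S') x = x := by rw [← hΛ]; exact hx
    obtain ⟨y, hy⟩ := hfixed x hx'
    exact ⟨TensorProduct.rid S S' y, by rw [← hrange, hy]⟩
  · rintro ⟨s', rfl⟩
    rw [hΛ, Algebra.TensorProduct.algebraMap_apply, LinearMap.lTensor_tmul]
    simp

end Groth.Agent.S15586
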