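import Groth.Statements.S15587
import Mathlib
import Groth.Agent.Lib.Helper26.InvBranch
import Groth.Agent.S15576
import Groth.Agent.S15577

set_option autoImplicit false
universe u v
open scoped TensorProduct
open RInv

namespace Groth.Agent.S15587

open Groth.Agent.Lib.Helper26.InvLocal Groth.Agent.Lib.Helper26.InvBaseChange
  Groth.Agent.Lib.Helper26.InvBranch

/-- (b) ⇔ (d): let `R` be a commutative ring with an involution `lam` and fixed ring `S`, so that `Spec
R → Spec S` is a good quotient by the involution, and let `p` be a prime of `S`. Then `p` is a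
branch point, i.e. the localisation `S_p ⊗_S R` is not quadratic etale over `S_p`, if and only if
exactly one prime `q` of `R` lies over `p` and `lam` induces the identity on the residue field of
`q` (equivalently `lam r - r ∈ q` for all `r`). This is the affine-local form of the statement for a
good quotient of schemes, to which the general case reduces since such quotients are affine
morphisms. -/
theorem result (S : Type u) (R : Type v) [CommRing S] [CommRing R]
    [Algebra S R] (lam : R ≃+* R) (hlam : Function.Involutive lam) (hS : RInv.IsFixedRing S R lam)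
    (p : PrimeSpectrum S) :
    ¬ RInv.IsQuadEtale (Localization.AtPrime p.asIdeal) (Localization.AtPrime p.asIdeal ⊗[S] R) ↔
      ∃ q : PrimeSpectrum R, q.asIdeal.comap (algebraMap S R) = p.asIdeal ∧
        (∀ q' : PrimeSpectrum R, q'.asIdeal.comap (algebraMap S R) = p.asIdeal → q' = q) ∧
        ∀ r : R, lam r - r ∈ q.asIdeal := by
  have hfix := isFixedRing_baseChange (Localization.AtPrime p.asIdeal) hS
  have hinv := lamBC_involutive (Localization.AtPrime p.asIdeal) hlam hS
  constructor
  · intro hnQE
    have hJ : ∀ ρ : Localization.AtPrime p.asIdeal ⊗[S] R,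
        lamBC (Localization.AtPrime p.asIdeal) hS ρ - ρ ∈
          Ring.jacobson (Localization.AtPrime p.asIdeal ⊗[S] R) := by
      intro ρ
      by_contra h
      exact hnQE (Groth.Agent.S15576.result _ _ _ hinv hfix ⟨ρ, h⟩)
    haveI hloc : IsLocalRing (Localization.AtPrime p.asIdeal ⊗[S] R) :=
      (Groth.Agent.S15577.result _ _ _ hinv hfix hJ).1
    have hn : (IsLocalRing.maximalIdeal (Localization.AtPrime p.asIdeal ⊗[S] R)).IsMaximal :=
      IsLocalRing.maximalIdeal.isMaximal _
    let ι : R →+* Localization.AtPrime p.asIdeal ⊗[S] R :=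
      (Algebra.TensorProduct.includeRight :
        R →ₐ[S] Localization.AtPrime p.asIdeal ⊗[S] R).toRingHom
    let q : PrimeSpectrum R :=
      ⟨(IsLocalRing.maximalIdeal (Localization.AtPrime p.asIdeal ⊗[S] R)).comap ι, inferInstance⟩
    have hqmem : ∀ x : R, x ∈ q.asIdeal ↔ (1 : Localization.AtPrime p.asIdeal) ⊗ₜ[S] x ∈
        IsLocalRing.maximalIdeal (Localization.AtPrime p.asIdeal ⊗[S] R) := fun x => Iff.rfl
    have hq1 : ∀ s : S, algebraMap S R s ∈ q.asIdeal ↔ s ∈ p.asIdeal := by
      intro s
      rw [hqmem, ← algebraMap_base, IsScalarTower.algebraMap_apply S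
        (Localization.AtPrime p.asIdeal) (Localization.AtPrime p.asIdeal ⊗[S] R)]
      constructor
      · intro h
        have := mem_maximalIdeal_of_mem hn h
        exact (IsLocalization.AtPrime.to_map_mem_maximal_iff (Localization.AtPrime p.asIdeal)
          p.asIdeal s).mp this
      · intro h
        exact algebraMap_mem_of_mem_maximalIdeal hinv hfix hn
          ((IsLocalization.AtPrime.to_map_mem_maximal_iff (Localization.AtPrime p.asIdeal)
            p.asIdeal s).mpr h)
    refine ⟨q, ?_, ?_, ?_⟩
    · ext s
      exact hq1 s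
    · intro q' hq'
      have hq'1 : ∀ s : S, algebraMap S R s ∈ q'.asIdeal ↔ s ∈ p.asIdeal := fun s => by
        rw [← hq']; exact Iff.rfl
      have hle : q'.asIdeal ≤ q.asIdeal := by
        intro x hx
        rw [hqmem]
        by_contra hxn
        have hu : IsUnit ((1 : Localization.AtPrime p.asIdeal) ⊗ₜ[S] x) :=
          IsLocalRing.notMem_maximalIdeal.mp hxn
        obtain ⟨y, s, hs, h⟩ := exists_mul_eq_of_isUnit_tmul p hu
        apply hs
        rw [← hq'1, ← h]
        exact q'.asIdeal.mul_mem_right _ hx
      apply PrimeSpectrum.ext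
      apply le_antisymm hle
      intro x hx
      obtain ⟨t, ht⟩ := exists_norm hlam hS x
      obtain ⟨c, hc⟩ := exists_trace hlam hS x
      have h1 : algebraMap S R t ∈ q'.asIdeal := by
        rw [hq'1, ← hq1, ht]
        exact q.asIdeal.mul_mem_right _ hx
      rw [ht] at h1
      rcases q'.isPrime.mem_or_mem h1 with h2 | h2
      · exact h2
      · have h3 : algebraMap S R c ∈ q'.asIdeal := by
          rw [hq'1, ← hq1, hc]
          exact q.asIdeal.add_mem hx (hle h2)
        have : x = algebraMap S R c - lam x := by rw [hc]; ring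
        rw [this]
        exact q'.asIdeal.sub_mem h3 h2
    · intro r
      rw [hqmem, TensorProduct.tmul_sub, ← lamBC_tmul _ hS]
      have hle : Ring.jacobson (Localization.AtPrime p.asIdeal ⊗[S] R) ≤
          IsLocalRing.maximalIdeal _ := by
        rw [← Ideal.jacobson_bot]
        exact sInf_le ⟨bot_le, hn⟩
      exact hle (hJ _)
  · rintro ⟨q, hq, -, hd⟩ hQE
    obtain ⟨r, y, s, hs, h⟩ := (isQuadEtale_iff hlam hS p).1 hQE
    apply hs
    have hq1 : algebraMap S R s ∈ q.asIdeal ↔ s ∈ p.asIdeal := by rw [← hq]; exact Iff.rfl
    rw [← hq1, ← h]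
    apply q.asIdeal.mul_mem_right
    have : r - lam r = -(lam r - r) := by ring
    rw [this]
    exact q.asIdeal.neg_mem (hd r)

end Groth.Agent.S15587
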