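import Groth.Statements.S15588
import Mathlib
import Groth.Agent.Lib.Helper26.InvBranch
import Groth.Agent.S15587

set_option autoImplicit false
universe u v
open scoped TensorProduct
open RInv

namespace Groth.Agent.S15588

open Groth.Agent.Lib.Helper26.InvLocal Groth.Agent.Lib.Helper26.InvBaseChange
  Groth.Agent.Lib.Helper26.InvBranch

/-- Let `R` be a commutative ring with an involution `lam` and fixed ring `S`, let `W ⊆ Spec S` be the
branch locus (the primes `p` with `S_p ⊗_S R` not quadratic etale over `S_p`) and `I` its vanishing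
ideal. Then `lam` is the identity on `R/rad(IR)`, i.e. on the reduced closed subscheme `π⁻¹(W)` of
`Spec R`: `lam r - r ∈ rad(IR)` for all `r`. Affine-local form of the statement for a good quotient
of schemes by an involution. -/
theorem result (S : Type u) (R : Type v) [CommRing S] [CommRing R]
    [Algebra S R] (lam : R ≃+* R) (hlam : Function.Involutive lam) (hS : RInv.IsFixedRing S R lam)
    (W : Set (PrimeSpectrum S))
    (hW : W = {p : PrimeSpectrum S | ¬ RInv.IsQuadEtale (Localization.AtPrime p.asIdeal) (Localization.AtPrime p.asIdeal ⊗[S] R)})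
    (r : R) :
    lam r - r ∈ ((PrimeSpectrum.vanishingIdeal W).map (algebraMap S R)).radical := by
  subst hW
  rw [Ideal.radical_eq_sInf, Submodule.mem_sInf]
  rintro (Q : Ideal R) ⟨hIQ, hQ⟩
  haveI : Q.IsPrime := hQ
  let P : PrimeSpectrum S := ⟨Ideal.comap (algebraMap S R) Q, Ideal.comap_isPrime _ _⟩
  have hIP : PrimeSpectrum.vanishingIdeal {p : PrimeSpectrum S | ¬ RInv.IsQuadEtale
      (Localization.AtPrime p.asIdeal) (Localization.AtPrime p.asIdeal ⊗[S] R)} ≤ P.asIdeal :=
    Ideal.map_le_iff_le_comap.mp hIQ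
  have hPW : ¬ RInv.IsQuadEtale (Localization.AtPrime P.asIdeal)
      (Localization.AtPrime P.asIdeal ⊗[S] R) := by
    intro hQE
    obtain ⟨r₀, y, s, hs, h⟩ := (isQuadEtale_iff hlam hS P).1 hQE
    apply hs
    apply hIP
    rw [PrimeSpectrum.mem_vanishingIdeal]
    intro p' hp'
    by_contra hsp'
    exact hp' ((isQuadEtale_iff hlam hS p').2 ⟨r₀, y, s, hsp', h⟩)
  obtain ⟨q, hq, huniq, hd⟩ := (Groth.Agent.S15587.result S R lam hlam hS P).1 hPW
  have : (⟨Q, hQ⟩ : PrimeSpectrum R) = q := huniq ⟨Q, hQ⟩ rfl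
  have hQq : Q = q.asIdeal := congrArg PrimeSpectrum.asIdeal this
  rw [hQq]
  exact hd r

end Groth.Agent.S15588
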