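import Groth.Statements.S15589
import Mathlib
import Groth.Agent.Lib.Helper26.InvBranch
import Groth.Agent.S15587
import Groth.Agent.S15588

set_option autoImplicit false
universe u v
open scoped TensorProduct
open RInv

namespace Groth.Agent.S15589

open Groth.Agent.Lib.Helper26.InvLocal Groth.Agent.Lib.Helper26.InvBaseChange
  Groth.Agent.Lib.Helper26.InvBranch

/-- Let `R` be a commutative ring with an involution `lam` and fixed ring `S`, `W ⊆ Spec S` the branch
locus (primes `p` with `S_p ⊗_S R` not quadratic etale over `S_p`), `I` its vanishing ideal and `J =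
rad(IR)`. Then `Spec(R/J) → Spec(S/I)` is a homeomorphism; if `2` is a unit of `S`, the ring map
`S/I → R/J` is moreover bijective, so the reduced preimage of the branch locus maps isomorphically
onto it. Affine-local form of the statement for a good quotient of schemes by an involution (the
hypothesis `I ≤ J ∩ S` holds automatically and only serves to write down the map). -/
theorem result (S : Type u) (R : Type v) [CommRing S] [CommRing R]
    [Algebra S R] (lam : R ≃+* R) (hlam : Function.Involutive lam) (hS : RInv.IsFixedRing S R lam)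
    (W : Set (PrimeSpectrum S))
    (hW : W = {p : PrimeSpectrum S | ¬ RInv.IsQuadEtale (Localization.AtPrime p.asIdeal) (Localization.AtPrime p.asIdeal ⊗[S] R)})
    (J : Ideal R) (hJ : J = ((PrimeSpectrum.vanishingIdeal W).map (algebraMap S R)).radical)
    (hIJ : PrimeSpectrum.vanishingIdeal W ≤ J.comap (algebraMap S R)) :
    IsHomeomorph (PrimeSpectrum.comap (Ideal.quotientMap J (algebraMap S R) hIJ)) ∧
      (IsUnit (2 : S) → Function.Bijective (Ideal.quotientMap J (algebraMap S R) hIJ)) := by
  have hd : ∀ r : R, lam r - r ∈ J := fun r => by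
    rw [hJ]; exact Groth.Agent.S15588.result S R lam hlam hS W hW r
  have hcomap : J.comap (algebraMap S R) ≤ PrimeSpectrum.vanishingIdeal W := by
    intro s hs
    rw [PrimeSpectrum.mem_vanishingIdeal]
    intro p hp
    have hp' : ¬ RInv.IsQuadEtale (Localization.AtPrime p.asIdeal)
        (Localization.AtPrime p.asIdeal ⊗[S] R) := by
      rw [hW] at hp; exact hp
    obtain ⟨q, hq, -, -⟩ := (Groth.Agent.S15587.result S R lam hlam hS p).1 hp'
    have hIq : (PrimeSpectrum.vanishingIdeal W).map (algebraMap S R) ≤ q.asIdeal := by
      rw [Ideal.map_le_iff_le_comap, hq]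
      intro t ht
      exact (PrimeSpectrum.mem_vanishingIdeal _ _).1 ht p hp
    have hJq : J ≤ q.asIdeal := by
      rw [hJ]
      exact (q.isPrime.radical_le_iff).2 hIq
    have : algebraMap S R s ∈ q.asIdeal := hJq hs
    rw [← hq]
    exact this
  have hinj : Function.Injective (Ideal.quotientMap J (algebraMap S R) hIJ) :=
    Ideal.quotientMap_injective' hcomap
  constructor
  · apply PrimeSpectrum.isHomeomorph_comap
    · intro y
      obtain ⟨x, rfl⟩ := Ideal.Quotient.mk_surjective y
      obtain ⟨t, ht⟩ := exists_norm hlam hS x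
      refine ⟨2, by norm_num, RingHom.mem_range.mpr ⟨Ideal.Quotient.mk _ t, ?_⟩⟩
      rw [Ideal.quotientMap_mk, ht, ← map_pow, Ideal.Quotient.eq]
      have : x * lam x - x ^ 2 = x * (lam x - x) := by ring
      rw [this]
      exact J.mul_mem_left _ (hd x)
    · rw [(RingHom.injective_iff_ker_eq_bot _).1 hinj]
      exact bot_le
  · intro h2
    refine ⟨hinj, ?_⟩
    intro y
    obtain ⟨x, rfl⟩ := Ideal.Quotient.mk_surjective y
    obtain ⟨c, hc⟩ := exists_trace hlam hS x
    obtain ⟨u, hu⟩ := h2.exists_right_inv
    refine ⟨Ideal.Quotient.mk _ (u * c), ?_⟩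
    rw [Ideal.quotientMap_mk, Ideal.Quotient.eq, map_mul, hc]
    have h2u : algebraMap S R u * 2 = 1 := by
      have := congrArg (algebraMap S R) hu
      rw [map_mul, map_one, map_ofNat] at this
      rw [mul_comm]; exact this
    have : algebraMap S R u * (x + lam x) - x = algebraMap S R u * (lam x - x) := by
      linear_combination x * h2u
    rw [this]
    exact J.mul_mem_left _ (hd x)

end Groth.Agent.S15589
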