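import Groth.Statements.S15590
import Mathlib

set_option autoImplicit false
universe u v
open CAlg

namespace Groth.Agent.S15590

/-- Let A → B be an injective homomorphism of commutative rings which makes B a finite flat A-module,
and suppose B is a Dedekind domain (Noetherian, integrally closed, of Krull dimension at most one; a
field is allowed). Then A is a Dedekind domain. -/
theorem result (A : Type u) (B : Type v)
    [CommRing A] [CommRing B] [Algebra A B] [IsDedekindDomain B]
    (hinj : Function.Injective (algebraMap A B)) [Module.Finite A B] [Module.Flat A B] :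
    IsDedekindDomain A := by
  haveI : IsDomain A := hinj.isDomain (algebraMap A B)
  haveI : FaithfulSMul A B := (faithfulSMul_iff_algebraMap_injective A B).mpr hinj
  haveI : Algebra.IsIntegral A B := inferInstance
  have hsurj := Algebra.IsIntegral.comap_surjective A B
  haveI : Module.FaithfullyFlat A B := Module.FaithfullyFlat.of_comap_surjective hsurj
  have hcm : ∀ I : Ideal A, (I.map (algebraMap A B)).comap (algebraMap A B) = I :=
    Ideal.comap_map_eq_self_of_faithfullyFlat
  have hN : IsNoetherianRing A := by
    have hinj' : Function.Injective (fun I : Ideal A => I.map (algebraMap A B)) := by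
      intro I J h
      have := congrArg (Ideal.comap (algebraMap A B)) h
      simpa [hcm] using this
    have hmono' : Monotone (fun I : Ideal A => I.map (algebraMap A B)) :=
      fun I J h => Ideal.map_mono h
    have hmono : StrictMono (fun I : Ideal A => I.map (algebraMap A B)) :=
      hmono'.strictMono_of_injective hinj'
    haveI : WellFoundedGT (Ideal B) := inferInstance
    haveI : WellFoundedGT (Ideal A) := hmono.wellFoundedGT
    exact isNoetherian_iff'.mpr inferInstance
  have hD : Ring.DimensionLEOne A := by
    refine ⟨fun {p} hp0 hp => ?_⟩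
    obtain ⟨⟨q, hq⟩, hqp⟩ := hsurj ⟨p, hp⟩
    have hqp' : q.comap (algebraMap A B) = p := congrArg PrimeSpectrum.asIdeal hqp
    have hq0 : q ≠ ⊥ := by
      rintro rfl
      apply hp0
      rw [← hqp', Ideal.comap_bot_of_injective _ hinj]
    haveI : q.IsMaximal := hq.isMaximal hq0
    rw [← hqp']
    exact Ideal.isMaximal_comap_of_isIntegral_of_isMaximal q
  refine { toIsDomain := inferInstance,
           toIsDedekindRing := (isDedekindRing_iff (A := A) (FractionRing A)).mpr ⟨hN, hD, ?_⟩ }
  intro x hx
  have hginj : Function.Injective ((algebraMap B (FractionRing B)).comp (algebraMap A B)) :=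
    (IsFractionRing.injective B (FractionRing B)).comp hinj
  let φ : FractionRing A →+* FractionRing B := IsFractionRing.lift hginj
  have hφ : ∀ a, φ (algebraMap A (FractionRing A) a) =
      algebraMap B (FractionRing B) (algebraMap A B a) :=
    fun a => IsFractionRing.lift_algebraMap hginj a
  have hint : IsIntegral B (φ x) :=
    hx.map_of_comp_eq (algebraMap A B) φ (RingHom.ext fun a => (hφ a).symm)
  obtain ⟨b, hb⟩ := (isIntegrallyClosed_iff (FractionRing B)).mp inferInstance hint
  obtain ⟨a, s, hs, rfl⟩ := IsFractionRing.div_surjective (A := A) x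
  have hs0 : s ≠ 0 := nonZeroDivisors.ne_zero hs
  have hgs0 : algebraMap B (FractionRing B) (algebraMap A B s) ≠ 0 := by
    intro h
    apply hs0
    apply hginj
    simpa using h
  rw [map_div₀, hφ, hφ, eq_div_iff hgs0, ← map_mul] at hb
  have hb' : b * algebraMap A B s = algebraMap A B a :=
    IsFractionRing.injective B (FractionRing B) hb
  have hmem : a ∈ (Ideal.span {s} : Ideal A) := by
    rw [← hcm (Ideal.span {s}), Ideal.mem_comap, ← hb', Ideal.map_span, Set.image_singleton]
    exact Ideal.mul_mem_left _ _ (Ideal.subset_span rfl)
  obtain ⟨c, hc⟩ := Ideal.mem_span_singleton'.mp hmem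
  refine ⟨c, ?_⟩
  have hs1 : algebraMap A (FractionRing A) s ≠ 0 := by
    intro h
    apply hs0
    apply IsFractionRing.injective A (FractionRing A)
    simpa using h
  rw [← hc, map_mul, mul_div_assoc, div_self hs1, mul_one]

end Groth.Agent.S15590
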