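import Groth.Statements.S15595
import Mathlib
import Groth.Agent.Lib.Helper21.RatPtReg

set_option autoImplicit false
universe u
open TensorProduct
attribute [local instance] RingHom.ker_isPrime
open CAlg

namespace Groth.Agent.S15595

/-- Let k ⊆ K be a field extension and A a Noetherian local k-algebra with residue field k, recorded by
a k-algebra map π : A → k whose kernel is the maximal ideal. Let π_K : K ⊗_k A → K be the induced
K-algebra map, m' its kernel, and A' the localization of K ⊗_k A at m'. Assume A' is Noetherian.
Then A is a regular local ring if and only if A' is a regular local ring. -/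
theorem result (k K A : Type u) [Field k] [Field K]
    [Algebra k K] [CommRing A] [Algebra k A] [IsLocalRing A] [IsNoetherianRing A]
    (π : A →ₐ[k] k) (hπ : RingHom.ker π = IsLocalRing.maximalIdeal A)
    [IsNoetherianRing (Localization.AtPrime (RingHom.ker
      ((Algebra.TensorProduct.rid k K K).toAlgHom.comp (Algebra.TensorProduct.map (AlgHom.id K K) π))))] :
    IsRegularLocalRing A ↔ IsRegularLocalRing (Localization.AtPrime (RingHom.ker
      ((Algebra.TensorProduct.rid k K K).toAlgHom.comp (Algebra.TensorProduct.map (AlgHom.id K K) π)))) := by
  apply Groth.Agent.Lib.Helper21.RatPtReg.regular_iff k A K π hπ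
  ext a
  rw [Ideal.mem_comap, RingHom.mem_ker, ← hπ, RingHom.mem_ker]
  show (Algebra.TensorProduct.rid k K K)
    (Algebra.TensorProduct.map (AlgHom.id K K) π ((1 : K) ⊗ₜ[k] a)) = 0 ↔ π a = 0
  rw [Algebra.TensorProduct.map_tmul, Algebra.TensorProduct.rid_tmul]
  simp

end Groth.Agent.S15595
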