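import Groth.Statements.S15596
-- import your own Groth.Agent.* helpers here
import Mathlib

set_option autoImplicit false
universe u
open CategoryTheory MonoidalCategory CartesianMonoidalCategory MonObj GrpObj AlgebraicGeometry
open AlgGrp

namespace Groth.Agent.S15596

/-- Let k be an algebraically closed field, H a smooth k-group scheme of finite type, and U a dense open
subset of H. Then every k-rational point h of H is of the form u₂ · u₁⁻¹ for k-rational points u₁,
u₂ of H whose underlying points lie in U. -/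
theorem result (k : Type u) [Field k] [IsAlgClosed k]
    (H : Over (Spec (CommRingCat.of k))) [GrpObj H] [Smooth H.hom] [QuasiCompact H.hom]
    (U : H.left.Opens) (hU : Dense (U : Set ↥H.left)) (h : 𝟙_ (Over (Spec (CommRingCat.of k))) ⟶ H) :
    ∃ u₁ u₂ : 𝟙_ (Over (Spec (CommRingCat.of k))) ⟶ H,
      u₁.left.base (IsLocalRing.closedPoint k) ∈ U ∧ u₂.left.base (IsLocalRing.closedPoint k) ∈ U ∧
        h = u₂ * u₁⁻¹ := by
  classical
  -- translation by a point
  let t : (𝟙_ (Over (Spec (CommRingCat.of k))) ⟶ H) → (H ⟶ H) := fun a => (toUnit H ≫ a) * 𝟙 H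
  have ht_pt : ∀ (a u : 𝟙_ (Over (Spec (CommRingCat.of k))) ⟶ H), u ≫ t a = a * u := by
    intro a u
    show u ≫ ((toUnit H ≫ a) * 𝟙 H) = a * u
    rw [MonObj.comp_mul, Category.comp_id, ← Category.assoc,
      toUnit_unique (u ≫ toUnit H) (𝟙 _), Category.id_comp]
  have ht_mul : ∀ a b, t b ≫ t a = t (a * b) := by
    intro a b
    show t b ≫ ((toUnit H ≫ a) * 𝟙 H) = (toUnit H ≫ (a * b)) * 𝟙 H
    rw [MonObj.comp_mul, Category.comp_id, ← Category.assoc,
      toUnit_unique (t b ≫ toUnit H) (toUnit H)]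
    show (toUnit H ≫ a) * ((toUnit H ≫ b) * 𝟙 H) = _
    rw [← _root_.mul_assoc, ← MonObj.comp_mul]
  have ht_one : t 1 = 𝟙 H := by
    show (toUnit H ≫ 1) * 𝟙 H = 𝟙 H
    rw [MonObj.comp_one, _root_.one_mul]
  have hiso : ∀ a, IsIso (t a) := fun a =>
    ⟨t a⁻¹, by rw [ht_mul, inv_mul_cancel, ht_one], by rw [ht_mul, mul_inv_cancel, ht_one]⟩
  haveI := hiso h
  haveI : IsIso (t h).left := (Over.forget _).map_isIso (t h)
  -- the open set
  let V : H.left.Opens := U ⊓ ((t h).left ⁻¹ᵁ U)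
  have hne : (V : Set ↥H.left).Nonempty := by
    have hpt : Nonempty ↥H.left := ⟨h.left.base (IsLocalRing.closedPoint k)⟩
    obtain ⟨x, hx⟩ : (U : Set ↥H.left).Nonempty := hU.nonempty
    obtain ⟨y, hy⟩ := (t h).left.surjective x
    have hopen : IsOpen (((t h).left ⁻¹ᵁ U : H.left.Opens) : Set ↥H.left) :=
      ((t h).left ⁻¹ᵁ U).isOpen
    have hne' : (((t h).left ⁻¹ᵁ U : H.left.Opens) : Set ↥H.left).Nonempty :=
      ⟨y, by show (t h).left y ∈ U; rw [hy]; exact hx⟩
    obtain ⟨z, hz1, hz2⟩ := hU.inter_open_nonempty _ hopen hne'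
    exact ⟨z, hz2, hz1⟩
  haveI : Nonempty ↥(V : Scheme.{u}) := ⟨⟨hne.some, hne.some_mem⟩⟩
  haveI : LocallyOfFiniteType (V.ι ≫ H.hom) := inferInstance
  -- a rational point
  have hJ : JacobsonSpace ↥(V : Scheme.{u}) := LocallyOfFiniteType.jacobsonSpace (V.ι ≫ H.hom)
  obtain ⟨z, -, hz⟩ := nonempty_inter_closedPoints (X := ↥(V : Scheme.{u})) Set.univ_nonempty
    isOpen_univ.isLocallyClosed
  let s : Spec (CommRingCat.of k) ⟶ (V : Scheme.{u}) := pointOfClosedPoint (V.ι ≫ H.hom) z hz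
  have hs : s ≫ V.ι ≫ H.hom = 𝟙 _ := pointOfClosedPoint_comp (V.ι ≫ H.hom) z hz
  let u₁ : 𝟙_ (Over (Spec (CommRingCat.of k))) ⟶ H :=
    Over.homMk (s ≫ V.ι) (by rw [Category.assoc]; exact hs)
  have hu₁ : u₁.left.base (IsLocalRing.closedPoint k) ∈ V := by
    show (s ≫ V.ι).base (IsLocalRing.closedPoint k) ∈ V
    rw [Scheme.Hom.comp_base, TopCat.comp_app]
    exact (s.base (IsLocalRing.closedPoint k)).2
  refine ⟨u₁, h * u₁, hu₁.1, ?_, ?_⟩
  · rw [← ht_pt h u₁]
    show (u₁.left ≫ (t h).left).base (IsLocalRing.closedPoint k) ∈ U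
    rw [Scheme.Hom.comp_base, TopCat.comp_app]
    exact hu₁.2
  · rw [mul_inv_cancel_right]

end Groth.Agent.S15596
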