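import Groth.Statements.S15601
import Groth.Agent.Lib.Helper19.LieKolchin

set_option autoImplicit false
universe u v
open HopfRep
open scoped commutatorElement
open Groth.Agent.Lib.Helper19 Groth.Agent.Lib.Helper19.Reynolds Groth.Agent.Lib.Helper19.PtsSolv
  Groth.Agent.Lib.Helper19.FlagGrp Groth.Agent.Lib.Helper19.Flag

namespace Groth.Agent.S15601

/-- Let k be an algebraically closed field and G = Spec A a smooth connected affine k-group: A is a
finitely generated commutative Hopf algebra over k which is reduced and has no idempotents other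
than 0 and 1. Suppose G is solvable, i.e. the group G(k) of k-algebra maps A → k under convolution
is solvable. Then the derived group of G is unipotent: every element of the commutator subgroup of
G(k) acts in every finite-dimensional A-comodule by an operator u with u − 1 nilpotent. (Stated over
an algebraically closed field, where the derived group is determined by the commutators of k-points;
the case of a general field reduces to this one.) -/
theorem result (k : Type u) [Field k] [IsAlgClosed k]
    (A : Type v) [CommRing A] [HopfAlgebra k A] [Algebra.FiniteType k A] [IsReduced A]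
    (hconn : ∀ e : A, IsIdempotentElem e → e = 0 ∨ e = 1)
    [Group.IsSolvable (WithConv (A →ₐ[k] k))]
    (g : WithConv (A →ₐ[k] k)) (hg : g ∈ commutator (WithConv (A →ₐ[k] k)))
    (V : Type v) [AddCommGroup V] [Module k V] [HopfRep.Comod k A V] [Module.Finite k V] :
    IsNilpotent (HopfRep.Comod.act k A V g.ofConv - 1) := by
  classical
  have hT : HopfRep.IsTrigonalizable k A := by
    intro W _ _ _ hfin hs
    haveI := hfin
    exact LieKolchin.finrank_eq_one_of_simple hconn hs
  obtain ⟨F, hFmono, hFsub, hFdim⟩ := exists_flag hT (Module.finrank k V) V rfl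
  have hF0 : F 0 = ⊥ := Submodule.finrank_eq_zero.mp (hFdim 0 (Nat.zero_le _))
  have hFn : F (Module.finrank k V) = ⊤ := Submodule.eq_top_of_finrank_eq (hFdim _ le_rfl)
  have hfilt := isRingFilt_flagIdeal F hFmono _ hF0 hFn
  have h0 : ∀ x : WithConv (A →ₐ[k] k), actHom V x ∈ flagIdeal F 0 := by
    intro x t v hv
    exact (isSubcomod_iff (F t)).1 (hFsub t) x.ofConv.toLinearMap v hv
  have hcomm : ∀ x y : Module.End k V, x ∈ flagIdeal F 0 → y ∈ flagIdeal F 0 →
      x * y - y * x ∈ flagIdeal F 1 := by
    intro x y hx hy
    exact comm_mem_flagIdeal F hFmono _ hFdim hFn x y hx hy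
  have hle : commutator (WithConv (A →ₐ[k] k)) ≤ FlagGrp.congr hfilt (actHom (K := k) (A := A) V) h0 1 := by
    rw [commutator_def, Subgroup.commutator_le]
    intro x _ y _
    show actHom V ⁅x, y⁆ - 1 ∈ flagIdeal F 1
    rw [rho_comm_sub_one]
    have hx' : actHom V x - 1 ∈ flagIdeal F 0 := sub_mem (h0 x) hfilt.one
    have hy' : actHom V y - 1 ∈ flagIdeal F 0 := sub_mem (h0 y) hfilt.one
    exact hfilt.mul 1 0 _ _ (hcomm _ _ hx' hy') (h0 _)
  have hg1 : actHom V g - 1 ∈ flagIdeal F 1 := hle hg
  have hpow : ∀ m : ℕ, (actHom V g - 1) ^ m ∈ flagIdeal F m := by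
    intro m
    induction m with
    | zero =>
      rw [pow_zero]
      exact hfilt.one
    | succ m ih =>
      rw [pow_succ]
      exact hfilt.mul m 1 _ _ ih hg1
  have hfinal : IsNilpotent (actHom V g - 1) := by
    refine ⟨Module.finrank k V, ?_⟩
    have h1 := hpow (Module.finrank k V)
    rw [hfilt.top, AddSubgroup.mem_bot] at h1
    exact h1
  exact hfinal

end Groth.Agent.S15601
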