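import Groth.Statements.S15605
import Mathlib

set_option autoImplicit false
universe u
open TensorProduct
open AGF

namespace Groth.Agent.S15605


open TensorProduct in
lemma sep (k : Type u) [Field k] (V W : Type u) [AddCommGroup V] [Module k V] [AddCommGroup W]
    [Module k W] (F : Set (V →ₗ[k] k)) (F' : Set (W →ₗ[k] k))
    (hF : ∀ v, (∀ φ ∈ F, φ v = 0) → v = 0) (hF' : ∀ w, (∀ φ ∈ F', φ w = 0) → w = 0)
    (z : V ⊗[k] W)
    (hz : ∀ φ ∈ F, ∀ φ' ∈ F', TensorProduct.lid k k (TensorProduct.map φ φ' z) = 0) : z = 0 := by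
  classical
  let b := Module.Basis.ofVectorSpace k V
  apply (TensorProduct.equivFinsuppOfBasisLeft (N := W) b).injective
  rw [map_zero]
  ext i
  rw [Finsupp.zero_apply]
  apply hF'
  intro φ' hφ'
  have hw : TensorProduct.rid k V (LinearMap.lTensor V φ' z) = 0 := by
    apply hF
    intro φ hφ
    have h1 := hz φ hφ φ' hφ'
    have key1 : ∀ z : V ⊗[k] W, φ (TensorProduct.rid k V (LinearMap.lTensor V φ' z)) =
        TensorProduct.lid k k (TensorProduct.map φ φ' z) := by
      intro z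
      induction z using TensorProduct.induction_on with
      | zero => simp
      | tmul v w => simp [mul_comm]
      | add x y hx hy => simp only [map_add, hx, hy]
    rw [key1, h1]
  have key : ∀ z : V ⊗[k] W, φ' (TensorProduct.equivFinsuppOfBasisLeft (N := W) b z i) =
      b.repr (TensorProduct.rid k V (LinearMap.lTensor V φ' z)) i := by
    intro z
    induction z using TensorProduct.induction_on with
    | zero => simp
    | tmul v w => simp [TensorProduct.equivFinsuppOfBasisLeft_apply_tmul_apply, mul_comm]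
    | add x y hx hy => simp only [map_add, Finsupp.add_apply, hx, hy]
  rw [key, hw, map_zero, Finsupp.zero_apply]

/-- Affine form. Let k be a field, A and A' finitely generated commutative k-algebras and S, S' sets of
k-algebra homomorphisms A → k, A' → k. The closure of a set of rational points of Spec A is cut out
by the intersection of their kernels. Compatibility of these closures with products: in A ⊗_k A',
the intersection over (σ, σ') ∈ S × S' of the kernels of σ ⊗ σ' : A ⊗_k A' → k equals the ideal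
generated by the images of ⋂_{σ} ker σ and of ⋂_{σ'} ker σ'. -/
theorem result (k A A' : Type u) [Field k] [CommRing A] [Algebra k A]
    [Algebra.FiniteType k A] [CommRing A'] [Algebra k A'] [Algebra.FiniteType k A']
    (S : Set (A →ₐ[k] k)) (S' : Set (A' →ₐ[k] k)) :
    (⨅ σ ∈ S, ⨅ σ' ∈ S', RingHom.ker ((Algebra.TensorProduct.lmul' (S := k) k).comp
        (Algebra.TensorProduct.map σ σ'))) =
      Ideal.map (Algebra.TensorProduct.includeLeft : A →ₐ[k] A ⊗[k] A') (⨅ σ ∈ S, RingHom.ker σ) ⊔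
        Ideal.map (Algebra.TensorProduct.includeRight : A' →ₐ[k] A ⊗[k] A') (⨅ σ' ∈ S', RingHom.ker σ') := by
  classical
  set I : Ideal A := ⨅ σ ∈ S, RingHom.ker σ with hI
  set I' : Ideal A' := ⨅ σ' ∈ S', RingHom.ker σ' with hI'
  have hq : Function.Surjective (Ideal.Quotient.mkₐ k I) := Ideal.Quotient.mkₐ_surjective k I
  have hq' : Function.Surjective (Ideal.Quotient.mkₐ k I') := Ideal.Quotient.mkₐ_surjective k I'
  have hker := Algebra.TensorProduct.map_ker (Ideal.Quotient.mkₐ k I) (Ideal.Quotient.mkₐ k I') hq hq'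
  have e1 : RingHom.ker (Ideal.Quotient.mkₐ k I) = I := by
    ext x; rw [RingHom.mem_ker, Ideal.Quotient.mkₐ_eq_mk, Ideal.Quotient.eq_zero_iff_mem]
  have e2 : RingHom.ker (Ideal.Quotient.mkₐ k I') = I' := by
    ext x; rw [RingHom.mem_ker, Ideal.Quotient.mkₐ_eq_mk, Ideal.Quotient.eq_zero_iff_mem]
  rw [e1, e2] at hker
  rw [← hker]
  have hI_le : ∀ σ ∈ S, I ≤ RingHom.ker σ := fun σ hσ => iInf₂_le σ hσ
  have hI'_le : ∀ σ' ∈ S', I' ≤ RingHom.ker σ' := fun σ hσ => iInf₂_le σ hσ
  let Lσ : S → (A ⧸ I →ₐ[k] k) := fun σ =>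
    Ideal.Quotient.liftₐ I σ.1 (fun a ha => RingHom.mem_ker.mp (hI_le σ.1 σ.2 ha))
  let Lσ' : S' → (A' ⧸ I' →ₐ[k] k) := fun σ =>
    Ideal.Quotient.liftₐ I' σ.1 (fun a ha => RingHom.mem_ker.mp (hI'_le σ.1 σ.2 ha))
  have hid : ∀ (σ : S) (σ' : S') (z : A ⊗[k] A'),
      TensorProduct.lid k k (TensorProduct.map (Lσ σ).toLinearMap (Lσ' σ').toLinearMap
        (Algebra.TensorProduct.map (Ideal.Quotient.mkₐ k I) (Ideal.Quotient.mkₐ k I') z)) =
      ((Algebra.TensorProduct.lmul' (S := k) k).comp (Algebra.TensorProduct.map σ.1 σ'.1)) z := by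
    intro σ σ' z
    induction z using TensorProduct.induction_on with
    | zero => simp
    | tmul a a' => simp [Lσ, Lσ']
    | add x y hx hy => simp only [map_add, hx, hy]
  apply le_antisymm
  · intro z hz
    rw [RingHom.mem_ker]
    let F : Set ((A ⧸ I) →ₗ[k] k) := Set.range fun σ : S => (Lσ σ).toLinearMap
    let F' : Set ((A' ⧸ I') →ₗ[k] k) := Set.range fun σ : S' => (Lσ' σ).toLinearMap
    have hF : ∀ v, (∀ φ ∈ F, φ v = 0) → v = 0 := by
      intro v hv
      obtain ⟨a, rfl⟩ := Ideal.Quotient.mk_surjective v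
      rw [Ideal.Quotient.eq_zero_iff_mem, hI, Ideal.mem_iInf]
      intro σ
      rw [Ideal.mem_iInf]
      intro hσ
      rw [RingHom.mem_ker]
      have := hv _ ⟨⟨σ, hσ⟩, rfl⟩
      simpa [Lσ] using this
    have hF' : ∀ v, (∀ φ ∈ F', φ v = 0) → v = 0 := by
      intro v hv
      obtain ⟨a, rfl⟩ := Ideal.Quotient.mk_surjective v
      rw [Ideal.Quotient.eq_zero_iff_mem, hI', Ideal.mem_iInf]
      intro σ
      rw [Ideal.mem_iInf]
      intro hσ
      rw [RingHom.mem_ker]
      have := hv _ ⟨⟨σ, hσ⟩, rfl⟩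
      simpa [Lσ'] using this
    apply sep k (A ⧸ I) (A' ⧸ I') F F' hF hF'
    rintro _ ⟨σ, rfl⟩ _ ⟨σ', rfl⟩
    have hz' : z ∈ RingHom.ker ((Algebra.TensorProduct.lmul' (S := k) k).comp
        (Algebra.TensorProduct.map σ.1 σ'.1)) := by
      have := hz
      simp only [Ideal.mem_iInf] at this
      exact this σ.1 σ.2 σ'.1 σ'.2
    rw [RingHom.mem_ker] at hz'
    rw [← hz']
    exact hid σ σ' z
  · intro z hz
    rw [RingHom.mem_ker] at hz
    simp only [Ideal.mem_iInf]
    intro σ hσ σ' hσ'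
    rw [RingHom.mem_ker]
    have := hid ⟨σ, hσ⟩ ⟨σ', hσ'⟩ z
    rw [← this]
    have hz0 : (Algebra.TensorProduct.map (Ideal.Quotient.mkₐ k I) (Ideal.Quotient.mkₐ k I')) z = 0 := hz
    rw [hz0, map_zero, map_zero]

end Groth.Agent.S15605
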