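import Groth.Statements.S15608
import Groth.Agent.Lib.Helper11.ClosSub

set_option autoImplicit false
universe u
open CategoryTheory MonoidalCategory CartesianMonoidalCategory MonObj GrpObj AlgebraicGeometry
open AlgGrp

namespace Groth.Agent.S15608

/-- Let k be a field, G a smooth k-group scheme of finite type and Σ a subgroup of the abstract group
G(k) of k-rational points. Then the Zariski closure of Σ in G, with its reduced structure, is a
smooth closed k-subgroup: there are a smooth k-group scheme H and a homomorphism H ⟶ G which is a
closed immersion whose image is the closure of the set of points of G underlying the elements of Σ.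
(The published statement also asserts that forming this closure commutes with extension of the
ground field; that clause is not stated here, its affine form being stated separately.) -/
theorem result (k : Type u) [Field k]
    (G : Over (Spec (CommRingCat.of k))) [GrpObj G] [Smooth G.hom] [QuasiCompact G.hom]
    (S : Subgroup (𝟙_ (Over (Spec (CommRingCat.of k))) ⟶ G)) :
    ∃ (H : Over (Spec (CommRingCat.of k))) (_ : GrpObj H) (i : H ⟶ G), IsMonHom i ∧ IsClosedImmersion i.left ∧ Smooth H.hom ∧
      Set.range i.left.base =
        closure ((fun s : (𝟙_ (Over (Spec (CommRingCat.of k))) ⟶ G) => s.left.base (IsLocalRing.closedPoint k)) '' (S : Set _)) := by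

  let Cl : TopologicalSpace.Closeds G.left :=
    ⟨closure ((fun s : (𝟙_ (Over (Spec (CommRingCat.of k))) ⟶ G) =>
      s.left.base (IsLocalRing.closedPoint k)) '' (S : Set _)), isClosed_closure⟩
  let j := (Scheme.IdealSheafData.vanishingIdeal Cl).subschemeι
  let H : Over (Spec (CommRingCat.of k)) := Over.mk (j ≫ G.hom)
  let jo : H ⟶ G := Over.homMk j rfl
  haveI hci : IsClosedImmersion jo.left := inferInstanceAs (IsClosedImmersion j)
  haveI : IsReduced H.left := Groth.Agent.Lib.Helper7.isReduced_vanishingIdeal_subscheme Cl
  have hjr : Set.range jo.left.base =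
      closure ((fun s : (𝟙_ (Over (Spec (CommRingCat.of k))) ⟶ G) =>
        s.left.base (IsLocalRing.closedPoint k)) '' (S : Set _)) :=
    Groth.Agent.Lib.Helper2.range_vanishingIdeal_subschemeι Cl
  obtain ⟨inst, hmon, hsm⟩ := Groth.Agent.Lib.Helper11.ClosSub.main' G S H jo hjr
  exact ⟨H, inst, jo, hmon, hci, hsm, hjr⟩

end Groth.Agent.S15608
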