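import Groth.Statements.S15610
import Mathlib

set_option autoImplicit false
universe u
open SchFin SchFin.RSpace

namespace Groth.Agent.S15610

section helpers

theorem idem_zero_or_one {R : Type*} [CommRing R] [ConnectedSpace (PrimeSpectrum R)] (a : R)
    (ha : IsIdempotentElem a) : a = 0 ∨ a = 1 := by
  have hcl : IsClopen (PrimeSpectrum.basicOpen a : Set (PrimeSpectrum R)) :=
    PrimeSpectrum.isClopen_basicOpen_of_mul_add a (1 - a)
      (by rw [mul_sub, mul_one, ha.eq, sub_self]) (by ring)
  rcases isClopen_iff.mp hcl with h | h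
  · left
    refine PrimeSpectrum.basicOpen_injOn_isIdempotentElem ha IsIdempotentElem.zero ?_
    apply TopologicalSpace.Opens.ext
    rw [h, PrimeSpectrum.basicOpen_zero]; rfl
  · right
    refine PrimeSpectrum.basicOpen_injOn_isIdempotentElem ha IsIdempotentElem.one ?_
    apply TopologicalSpace.Opens.ext
    rw [h, PrimeSpectrum.basicOpen_one]; rfl

theorem connectedSpace_of_idem {R : Type*} [CommRing R] [Nontrivial R]
    (h : ∀ a : R, IsIdempotentElem a → a = 0 ∨ a = 1) : ConnectedSpace (PrimeSpectrum R) := by
  have hpre : PreconnectedSpace (PrimeSpectrum R) := by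
    rw [preconnectedSpace_iff_clopen]
    intro s hs
    obtain ⟨e, he, rfl⟩ := PrimeSpectrum.isClopen_iff.mp hs
    rcases h e he with rfl | rfl
    · left; rw [PrimeSpectrum.basicOpen_zero]; rfl
    · right; rw [PrimeSpectrum.basicOpen_one]; rfl
  exact { toPreconnectedSpace := hpre, toNonempty := inferInstance }

end helpers


open SchFin in
/-- A schematic finite space is well-connected (the prime spectrum of its ring of global sections is
connected and the prime spectrum of the ring of each point is connected) if and only if its poset of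
points is non-empty and connected and the prime spectrum of the ring of each point is connected. -/
theorem result (X : RSpace.{u})
    (hX : X.IsSchematic) : X.IsWellConnected ↔ (X.IsTopConnected ∧ X.IsPwConnected) := by
  classical
  constructor
  · rintro ⟨hconn, hpw⟩
    refine ⟨?_, hpw⟩
    haveI : ConnectedSpace (PrimeSpectrum (X.sectRing Set.univ)) := hconn
    have hnt : ∀ p : X.pt, Nontrivial (X.ring p) := fun p => by
      haveI : ConnectedSpace (PrimeSpectrum (X.ring p)) := hpw p
      exact (PrimeSpectrum.nonempty_iff_nontrivial).mp inferInstance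
    have hne : Nonempty X.pt := by
      by_contra hemp
      rw [not_nonempty_iff] at hemp
      have hsub : Subsingleton (X.sectRing Set.univ) :=
        ⟨fun a b => Subtype.ext (funext fun q => (hemp.false q.1).elim)⟩
      have hnt' : Nontrivial (X.sectRing Set.univ) :=
        (PrimeSpectrum.nonempty_iff_nontrivial).mp inferInstance
      exact not_subsingleton _ hsub
    refine ⟨hne, fun p q => ?_⟩
    have hle : ∀ q1 q2 : X.pt, q1 ≤ q2 →
        (Relation.EqvGen (fun a b : X.pt => a ≤ b) p q1 ↔
          Relation.EqvGen (fun a b : X.pt => a ≤ b) p q2) := by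
      intro q1 q2 h
      constructor
      · intro h1; exact h1.trans _ _ _ (Relation.EqvGen.rel _ _ h)
      · intro h2; exact h2.trans _ _ _ ((Relation.EqvGen.rel _ _ h).symm _ _)
    have hsmem : (fun q' : (Set.univ : Set X.pt) =>
        if Relation.EqvGen (fun a b : X.pt => a ≤ b) p q'.1 then (1 : X.ring q'.1) else 0) ∈
        X.sectRing Set.univ := by
      change ∀ (q1 q2 : (Set.univ : Set X.pt)) (h : q1.1 ≤ q2.1),
        X.res h (if Relation.EqvGen (fun a b : X.pt => a ≤ b) p q1.1 then (1 : X.ring q1.1) else 0) =
          if Relation.EqvGen (fun a b : X.pt => a ≤ b) p q2.1 then (1 : X.ring q2.1) else 0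
      intro q1 q2 h
      by_cases h1 : Relation.EqvGen (fun a b : X.pt => a ≤ b) p q1.1
      · rw [if_pos h1, if_pos ((hle _ _ h).mp h1), map_one]
      · rw [if_neg h1, if_neg (fun h2 => h1 ((hle _ _ h).mpr h2)), map_zero]
    let s : X.sectRing Set.univ := ⟨_, hsmem⟩
    have hs : IsIdempotentElem s := by
      apply Subtype.ext
      funext q'
      show (if Relation.EqvGen (fun a b : X.pt => a ≤ b) p q'.1 then (1 : X.ring q'.1) else 0) *
          (if Relation.EqvGen (fun a b : X.pt => a ≤ b) p q'.1 then (1 : X.ring q'.1) else 0) =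
        if Relation.EqvGen (fun a b : X.pt => a ≤ b) p q'.1 then (1 : X.ring q'.1) else 0
      split_ifs <;> simp
    rcases idem_zero_or_one s hs with h0 | h1'
    · exfalso
      have h4 := congrArg (fun t : X.sectRing Set.univ => t.1 ⟨p, trivial⟩) h0
      have h5 : (if Relation.EqvGen (fun a b : X.pt => a ≤ b) p p then (1 : X.ring p) else 0) = 0 := h4
      rw [if_pos (Relation.EqvGen.refl p)] at h5
      haveI := hnt p
      exact one_ne_zero h5
    · have h4 := congrArg (fun t : X.sectRing Set.univ => t.1 ⟨q, trivial⟩) h1'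
      have h5 : (if Relation.EqvGen (fun a b : X.pt => a ≤ b) p q then (1 : X.ring q) else 0) = 1 := h4
      by_contra hne'
      rw [if_neg hne'] at h5
      haveI := hnt q
      exact zero_ne_one h5
  · rintro ⟨⟨⟨p0⟩, hzig⟩, hpw⟩
    refine ⟨?_, hpw⟩
    have hnt : ∀ p : X.pt, Nontrivial (X.ring p) := fun p => by
      haveI : ConnectedSpace (PrimeSpectrum (X.ring p)) := hpw p
      exact (PrimeSpectrum.nonempty_iff_nontrivial).mp inferInstance
    haveI : Nontrivial (X.sectRing Set.univ) := by
      refine ⟨⟨0, 1, fun h => ?_⟩⟩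
      have h4 := congrArg (fun t : X.sectRing Set.univ => t.1 ⟨p0, trivial⟩) h
      have h5 : (0 : X.ring p0) = 1 := h4
      haveI := hnt p0
      exact zero_ne_one h5
    show ConnectedSpace (PrimeSpectrum (X.sectRing Set.univ))
    apply connectedSpace_of_idem
    intro a ha
    have hpt : ∀ q : X.pt, a.1 ⟨q, trivial⟩ = 0 ∨ a.1 ⟨q, trivial⟩ = 1 := by
      intro q
      haveI : ConnectedSpace (PrimeSpectrum (X.ring q)) := hpw q
      apply idem_zero_or_one
      have h4 := congrArg (fun t : X.sectRing Set.univ => t.1 ⟨q, trivial⟩) ha.eq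
      exact h4
    have hle : ∀ q1 q2 : X.pt, q1 ≤ q2 →
        (a.1 ⟨q1, trivial⟩ = 1 ↔ a.1 ⟨q2, trivial⟩ = 1) := by
      intro q1 q2 h
      have h6 : X.res h (a.1 ⟨q1, trivial⟩) = a.1 ⟨q2, trivial⟩ :=
        a.2 ⟨q1, trivial⟩ ⟨q2, trivial⟩ h
      constructor
      · intro h1; rw [← h6, h1, map_one]
      · intro h2
        rcases hpt q1 with h0 | h1
        · exfalso
          rw [h0, map_zero] at h6
          haveI := hnt q2
          exact zero_ne_one (h6.trans h2)
        · exact h1
    have hall : ∀ p q : X.pt, Relation.EqvGen (fun a b : X.pt => a ≤ b) p q →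
        (a.1 ⟨p, trivial⟩ = 1 ↔ a.1 ⟨q, trivial⟩ = 1) := by
      intro p q h
      induction h with
      | rel x y h => exact hle x y h
      | refl x => exact Iff.rfl
      | symm x y _ ih => exact ih.symm
      | trans x y z _ _ ih1 ih2 => exact ih1.trans ih2
    by_cases h1 : a.1 ⟨p0, trivial⟩ = 1
    · right
      apply Subtype.ext
      funext q
      exact (hall p0 q.1 (hzig p0 q.1)).mp h1
    · left
      apply Subtype.ext
      funext q
      rcases hpt q.1 with h0 | h1'
      · exact h0
      · exact absurd ((hall p0 q.1 (hzig p0 q.1)).mpr h1') h1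

end Groth.Agent.S15610
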