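import Groth.Statements.S15634
import Mathlib

set_option autoImplicit false
universe u
open SchFin SchFin.RSpace

namespace Groth.Agent.S15634

open SchFin in
/-- In a schematic finite space the restriction maps of rings along x ≤ y are epimorphisms of rings: two
ring maps out of the ring of y into a commutative ring which agree after composition with the
restriction map from the ring of x are equal. (The published statement also asserts flatness of the
restriction maps, which here is part of the standing finite-space condition, and a second clause for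
affine spaces recalled without proof; only the epimorphism clause, the degree-zero case of the
schematic condition, is stated.) -/
theorem result (X : RSpace.{u}) (hX : X.IsSchematic) {x y : X.pt} (h : x ≤ y)
    {T : Type u} [CommRing T] (g₁ g₂ : X.ring y →+* T) (hg : g₁.comp (X.res h) = g₂.comp (X.res h)) :
    g₁ = g₂ := by
  classical
  obtain ⟨_, _, hsch⟩ := hX
  have hbc := (hsch 0 x y h y y (le_refl y)).1
  let U : Set X.pt := (Hom.id X).wedge x y
  let U' : Set X.pt := (Hom.id X).wedge y y
  let φ : Coef X U (X.ring x) := Coef.ofLE x U ((Hom.id X).wedge_subset_up x y)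
  let φ' : Coef X U' (X.ring y) := Coef.ofLE y U' ((Hom.id X).wedge_subset_up y y)
  let sb : Coef.Sub φ φ' := (Hom.id X).subSrc h y
  have hyU : y ∈ U := ⟨h, le_refl y⟩
  let σy : Chain U 0 := OrderEmbedding.ofMapLEIff (fun _ : Fin 1 => (⟨y, hyU⟩ : U))
    (fun a b => ⟨fun _ => le_of_eq (Fin.ext (by have := a.isLt; have := b.isLt; omega)),
      fun _ => le_refl _⟩)
  let c : X.ring y → Cochain φ X.str 0 := fun b σ =>
    (X.res (show y ≤ (σ (Fin.last 0)).1 from (σ (Fin.last 0)).2.2) b : X.ring (σ (Fin.last 0)).1)
  have hc : ∀ b, c b ∈ cocycles φ X.str 0 := by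
    intro b
    show diff φ X.str 0 (c b) = 0
    funext τ
    show (∑ j : Fin 2, ((-1 : ℤ) ^ (j : ℕ)) • (c b).faceVal τ j) = 0
    rw [Fin.sum_univ_two]
    have e0 : (c b).faceVal τ 0 =
        X.res (show y ≤ (τ (Fin.last 1)).1 from (τ (Fin.last 1)).2.2) b := by
      show X.res _ (X.res _ b) = _
      exact X.res_comp _ _ b
    have e1 : (c b).faceVal τ 1 =
        X.res (show y ≤ (τ (Fin.last 1)).1 from (τ (Fin.last 1)).2.2) b := by
      show X.res _ (X.res _ b) = _
      exact X.res_comp _ _ b
    rw [e0, e1]
    simp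
  let v : X.ring y → H φ X.str 0 := fun b => H.mk φ X.str 0 ⟨c b, hc b⟩
  let ev : Cochain φ X.str 0 → X.ring y := fun cc => cc σy
  have hev_add : ∀ a b : Cochain φ X.str 0, ev (a + b) = ev a + ev b := fun _ _ => rfl
  have hev_smul : ∀ (r : X.ring x) (a : Cochain φ X.str 0), ev (r • a) = X.res h r * ev a :=
    fun _ _ => rfl
  have hev_zero : ev 0 = 0 := rfl
  have hev_c : ∀ b, ev (c b) = b := fun b => X.res_self y b
  letI : Algebra (X.ring x) (X.ring y) := (X.res h).toAlgebra
  letI instRW : Module (X.ring x) (H φ' X.str 0) := Module.compHom (H φ' X.str 0) (X.res h)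
  haveI : IsScalarTower (X.ring x) (X.ring y) (H φ' X.str 0) :=
    IsScalarTower.of_algebraMap_smul fun _ _ => rfl
  have hbc' : IsBaseChange (X.ring y)
      ({ toFun := resH X.str sb 0, map_add' := (resH X.str sb 0).map_add,
         map_smul' := (resH X.str sb 0).map_smulₛₗ } : H φ X.str 0 →ₗ[X.ring x] H φ' X.str 0) := hbc
  letI instST : Module (X.ring y) T := Module.compHom T g₁
  letI instRT : Module (X.ring x) T := Module.compHom T (g₁.comp (X.res h))
  haveI : IsScalarTower (X.ring x) (X.ring y) T :=
    IsScalarTower.of_algebraMap_smul fun _ _ => rfl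
  let lam' : ↥(cocycles φ X.str 0) →ₗ[X.ring x] T :=
    { toFun := fun cc => g₂ (ev cc.1)
      map_add' := fun a b => by
        show g₂ (ev (a.1 + b.1)) = g₂ (ev a.1) + g₂ (ev b.1)
        rw [hev_add, map_add]
      map_smul' := fun r cc => by
        show g₂ (ev (r • cc.1)) = (g₁.comp (X.res h)) r * g₂ (ev cc.1)
        rw [hev_smul, map_mul]
        congr 1
        exact (RingHom.congr_fun hg r).symm }
  let lam : H φ X.str 0 →ₗ[X.ring x] T :=
    Submodule.liftQ ((cobdry φ X.str 0).comap (cocycles φ X.str 0).subtype) lam' (by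
      intro cc hcc
      have h0 : cc.1 = 0 := by
        have h00 : cc.1 ∈ (⊥ : Submodule (X.ring x) (Cochain φ X.str 0)) := hcc
        exact (Submodule.mem_bot _).mp h00
      show g₂ (ev cc.1) = 0
      rw [h0, hev_zero, map_zero])
  have hrel : ∀ b : X.ring y, resH X.str sb 0 (v b) = b • resH X.str sb 0 (v 1) := by
    intro b
    have e1 : ∀ b' : X.ring y, resH X.str sb 0 (v b') =
        H.mk φ' X.str 0 ⟨Cochain.restr X.str sb 0 (c b'), (by
          show diff φ' X.str 0 (resCochain X.str sb 0 (c b')) = 0
          rw [diff_resCochain, show diff φ X.str 0 (c b') = 0 from hc b', map_zero])⟩ :=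
      fun b' => rfl
    rw [e1 b, e1 1, ← map_smul]
    refine congrArg (H.mk φ' X.str 0) ?_
    apply Subtype.ext
    funext σ
    have hq : y ≤ (σ (Fin.last 0)).1 := (σ (Fin.last 0)).2.2
    show (X.res hq b : X.ring (σ (Fin.last 0)).1) =
      (X.res hq b : X.ring (σ (Fin.last 0)).1) * (X.res hq (1 : X.ring y) : X.ring (σ (Fin.last 0)).1)
    rw [map_one, mul_one]
  have hΛ1 : ∀ b, hbc'.lift lam (resH X.str sb 0 (v b)) = g₂ b := by
    intro b
    have h2 := hbc'.lift_eq lam (v b)
    refine h2.trans ?_
    show g₂ (ev (c b)) = g₂ b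
    rw [hev_c]
  ext b
  have h1 := hΛ1 b
  rw [hrel b, map_smul, hΛ1 1, map_one] at h1
  rw [← h1]
  show g₁ b = g₁ b * 1
  rw [mul_one]

end Groth.Agent.S15634
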