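import Groth.Statements.S15611
import Mathlib
import Groth.Agent.S15634

set_option autoImplicit false
universe u
open SchFin SchFin.RSpace

namespace Groth.Agent.S15611

section helpers

open TensorProduct in
theorem flatEpi_localRingHom_bijective {A B : Type u} [CommRing A] [CommRing B] (φ : A →+* B)
    (hflat : φ.Flat)
    (hepi : ∀ {T : Type u} [CommRing T] (g₁ g₂ : B →+* T), g₁.comp φ = g₂.comp φ → g₁ = g₂)
    (P : Ideal B) [P.IsPrime] :
    Function.Bijective (Localization.localRingHom (P.comap φ) P φ rfl) := by
  have hψflat : (Localization.localRingHom (P.comap φ) P φ rfl).Flat :=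
    RingHom.Flat.localRingHom hflat P (P.comap φ) rfl
  letI : Algebra (Localization.AtPrime (P.comap φ)) (Localization.AtPrime P) :=
    (Localization.localRingHom (P.comap φ) P φ rfl).toAlgebra
  haveI : Module.Flat (Localization.AtPrime (P.comap φ)) (Localization.AtPrime P) := hψflat
  haveI : IsLocalHom (algebraMap (Localization.AtPrime (P.comap φ)) (Localization.AtPrime P)) :=
    Localization.isLocalHom_localRingHom (P.comap φ) P φ rfl
  haveI : Module.FaithfullyFlat (Localization.AtPrime (P.comap φ)) (Localization.AtPrime P) :=
    Module.FaithfullyFlat.of_flat_of_isLocalHom
  have hg : (Algebra.TensorProduct.includeLeft :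
        Localization.AtPrime P →ₐ[Localization.AtPrime (P.comap φ)]
          Localization.AtPrime P ⊗[Localization.AtPrime (P.comap φ)] Localization.AtPrime P).toRingHom =
      (Algebra.TensorProduct.includeRight :
        Localization.AtPrime P →ₐ[Localization.AtPrime (P.comap φ)]
          Localization.AtPrime P ⊗[Localization.AtPrime (P.comap φ)] Localization.AtPrime P).toRingHom := by
    apply IsLocalization.ringHom_ext P.primeCompl
    apply hepi
    ext a
    have e : algebraMap B (Localization.AtPrime P) (φ a) =
        algebraMap (Localization.AtPrime (P.comap φ)) (Localization.AtPrime P)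
          (algebraMap A (Localization.AtPrime (P.comap φ)) a) :=
      (Localization.localRingHom_to_map (P.comap φ) P φ rfl a).symm
    show (Algebra.TensorProduct.includeLeft :
        Localization.AtPrime P →ₐ[Localization.AtPrime (P.comap φ)]
          Localization.AtPrime P ⊗[Localization.AtPrime (P.comap φ)] Localization.AtPrime P)
          (algebraMap B (Localization.AtPrime P) (φ a)) =
      (Algebra.TensorProduct.includeRight :
        Localization.AtPrime P →ₐ[Localization.AtPrime (P.comap φ)]
          Localization.AtPrime P ⊗[Localization.AtPrime (P.comap φ)] Localization.AtPrime P)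
          (algebraMap B (Localization.AtPrime P) (φ a))
    rw [e, AlgHom.commutes, AlgHom.commutes]
  have key : ∀ c : Localization.AtPrime P,
      c ⊗ₜ[Localization.AtPrime (P.comap φ)] (1 : Localization.AtPrime P) =
        (1 : Localization.AtPrime P) ⊗ₜ[Localization.AtPrime (P.comap φ)] c :=
    fun c => RingHom.congr_fun hg c
  constructor
  · exact FaithfulSMul.algebraMap_injective (Localization.AtPrime (P.comap φ)) (Localization.AtPrime P)
  · have hs : Function.Surjective
        (Algebra.linearMap (Localization.AtPrime (P.comap φ)) (Localization.AtPrime P)) := by
      rw [← Module.FaithfullyFlat.lTensor_surjective_iff_surjective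
        (Localization.AtPrime (P.comap φ)) (Localization.AtPrime P)]
      intro t
      induction t using TensorProduct.induction_on with
      | zero => exact ⟨0, map_zero _⟩
      | tmul c c' =>
        refine ⟨(c * c') ⊗ₜ 1, ?_⟩
        rw [LinearMap.lTensor_tmul, Algebra.linearMap_apply, map_one]
        have h1 : c ⊗ₜ[Localization.AtPrime (P.comap φ)] c' =
            (c ⊗ₜ[Localization.AtPrime (P.comap φ)] (1 : Localization.AtPrime P)) *
              ((1 : Localization.AtPrime P) ⊗ₜ[Localization.AtPrime (P.comap φ)] c') := by
          rw [Algebra.TensorProduct.tmul_mul_tmul, mul_one, one_mul]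
        rw [h1, ← key c', Algebra.TensorProduct.tmul_mul_tmul, mul_one]
      | add a b ha hb =>
        obtain ⟨a', rfl⟩ := ha
        obtain ⟨b', rfl⟩ := hb
        exact ⟨a' + b', map_add _ _ _⟩
    exact hs

end helpers


open SchFin in
/-- In a schematic finite space, for points x ≤ y and a prime P of the ring of y, with Q its contraction
to the ring of x, the restriction map induces a bijection from the localization of the ring of x at
Q onto the localization of the ring of y at P. (Stated for the rings of the space themselves; the
published statement is the corresponding identification of localizations for the values of any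
quasi-coherent algebra, which follows from this case by base change.) -/
theorem result (X : RSpace.{u}) (hX : X.IsSchematic)
    {x y : X.pt} (h : x ≤ y) (P : Ideal (X.ring y)) [P.IsPrime] :
    Function.Bijective (Localization.localRingHom (P.comap (X.res h)) P (X.res h) rfl) := by
  have hflat : (X.res h).Flat := hX.1.2 x y h
  exact flatEpi_localRingHom_bijective (X.res h) hflat
    (fun g₁ g₂ hg => Groth.Agent.S15634.result X hX h g₁ g₂ hg) P

end Groth.Agent.S15611
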