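import Groth.Statements.S15612
import Mathlib
import Groth.Agent.S15611

set_option autoImplicit false
universe u
open SchFin SchFin.RSpace SchFin.RSpace.Pair

namespace Groth.Agent.S15612

section helpers

theorem residueField_map_bijective {R S : Type*} [CommRing R] [CommRing S] [IsLocalRing R]
    [IsLocalRing S] (f : R →+* S) [IsLocalHom f] (hf : Function.Surjective f) :
    Function.Bijective (IsLocalRing.ResidueField.map f) := by
  refine ⟨(IsLocalRing.ResidueField.map f).injective, fun z => ?_⟩
  obtain ⟨s, rfl⟩ := IsLocalRing.residue_surjective z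
  obtain ⟨r, rfl⟩ := hf s
  exact ⟨IsLocalRing.residue R r, IsLocalRing.ResidueField.map_residue f r⟩

end helpers


open SchFin in
/-- In a schematic finite space, for a pair (x, P) below a pair (y, Q) (x ≤ y and P the contraction of
the prime Q along the restriction map of rings) the induced map of residue fields from that of (x,
P) to that of (y, Q) is bijective. -/
theorem result (X : RSpace.{u}) (hX : X.IsSchematic) (a b : X.Pair)
    (h : a.1 ≤ b.1) (hp : PrimeSpectrum.comap (X.res h) b.2 = a.2) :
    Function.Bijective (RSpace.Pair.κMap a b h hp) := by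
  obtain ⟨p, Q⟩ := a
  obtain ⟨q, P⟩ := b
  revert h hp
  change ∀ (h : p ≤ q) (hp : PrimeSpectrum.comap (X.res h) P = Q),
    Function.Bijective (RSpace.Pair.κMap (⟨p, Q⟩ : X.Pair) (⟨q, P⟩ : X.Pair) h hp)
  intro h hp
  subst hp
  have hb := Groth.Agent.S15611.result X hX h P.asIdeal
  unfold RSpace.Pair.κMap
  exact residueField_map_bijective _ hb.2

end Groth.Agent.S15612
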