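import Groth.Statements.S15613
import Mathlib

set_option autoImplicit false
universe u
open SchFin SchFin.GeomPt

namespace Groth.Agent.S15613

section helpers

open TensorProduct in
theorem exists_compat_field {A B Ω : Type u} [CommRing A] [CommRing B] [Field Ω] (φ : A →+* B)
    (θ : A →+* Ω) (P : Ideal B) [P.IsPrime] (heq : P.comap φ = RingHom.ker θ) :
    ∃ (T : Type u) (_ : CommRing T) (_ : Nontrivial T) (ι₁ : B →+* T) (ι₂ : Ω →+* T),
      ι₁.comp φ = ι₂.comp θ := by
  haveI hker : (RingHom.ker θ).IsPrime := RingHom.ker_isPrime θ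
  have hunit : (RingHom.ker θ).primeCompl ≤ (IsUnit.submonoid Ω).comap θ := by
    intro a ha
    show IsUnit (θ a)
    exact IsUnit.mk0 _ (fun h0 => ha h0)
  letI : Algebra (RingHom.ker θ).ResidueField P.ResidueField :=
    (Ideal.ResidueField.map (RingHom.ker θ) P φ heq.symm).toAlgebra
  letI : Algebra (RingHom.ker θ).ResidueField Ω :=
    (Ideal.ResidueField.lift (I := RingHom.ker θ) θ le_rfl hunit).toAlgebra
  haveI : Nontrivial (P.ResidueField ⊗[(RingHom.ker θ).ResidueField] Ω) := inferInstance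
  refine ⟨P.ResidueField ⊗[(RingHom.ker θ).ResidueField] Ω, inferInstance, inferInstance,
    (Algebra.TensorProduct.includeLeft : P.ResidueField →ₐ[(RingHom.ker θ).ResidueField]
      P.ResidueField ⊗[(RingHom.ker θ).ResidueField] Ω).toRingHom.comp
        (algebraMap B P.ResidueField),
    (Algebra.TensorProduct.includeRight : Ω →ₐ[(RingHom.ker θ).ResidueField]
      P.ResidueField ⊗[(RingHom.ker θ).ResidueField] Ω).toRingHom, ?_⟩
  ext a
  show (Algebra.TensorProduct.includeLeft : P.ResidueField →ₐ[(RingHom.ker θ).ResidueField]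
      P.ResidueField ⊗[(RingHom.ker θ).ResidueField] Ω) (algebraMap B P.ResidueField (φ a)) =
    (Algebra.TensorProduct.includeRight : Ω →ₐ[(RingHom.ker θ).ResidueField]
      P.ResidueField ⊗[(RingHom.ker θ).ResidueField] Ω) (θ a)
  have e1 : algebraMap B P.ResidueField (φ a) =
      algebraMap (RingHom.ker θ).ResidueField P.ResidueField
        (algebraMap A (RingHom.ker θ).ResidueField a) :=
    (Ideal.ResidueField.map_algebraMap (RingHom.ker θ) P φ heq.symm a).symm
  have e2 : θ a = algebraMap (RingHom.ker θ).ResidueField Ω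
      (algebraMap A (RingHom.ker θ).ResidueField a) :=
    (Ideal.ResidueField.lift_algebraMap (I := RingHom.ker θ) θ le_rfl hunit a).symm
  rw [e1, e2, AlgHom.commutes, AlgHom.commutes]

end helpers


open SchFin in
/-- For a geometric point of a schematic finite space with values in an algebraically closed field,
hitting the point x with ring map from the ring of x to the field, the kernel of that ring map does
not lift to any point strictly above x: no prime of the ring of such a point contracts to it along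
the restriction map. -/
theorem result (X : RSpace.{u}) (hX : X.IsSchematic) {Ω : Type u} [Field Ω]
    [IsAlgClosed Ω] (ξ : GeomPt X Ω) {x' : X.pt} (hx : ξ.base < x') (P : Ideal (X.ring x')) [P.IsPrime] :
    P.comap (X.res hx.le) ≠ RingHom.ker ξ.toField := by
  intro heq
  classical
  obtain ⟨T, instT, instNT, ι₁, ι₂, hcompat⟩ :=
    exists_compat_field (X.res hx.le) ξ.toField P heq
  have hbc := (ξ.isSchematic.2.2 0 PUnit.unit PUnit.unit (le_refl _) ξ.base x' hx.le).2
  let S0 : RSpace.{u} := RSpace.point Ω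
  let U : Set S0.pt := ξ.hom.wedge PUnit.unit ξ.base
  let U' : Set S0.pt := ξ.hom.wedge PUnit.unit x'
  let φc : Coef S0 U (X.ring ξ.base) :=
    Coef.ofHom ξ.hom ξ.base U (ξ.hom.wedge_subset_pre PUnit.unit ξ.base)
  let φc' : Coef S0 U' (X.ring x') :=
    Coef.ofHom ξ.hom x' U' (ξ.hom.wedge_subset_pre PUnit.unit x')
  let sb : Coef.Sub φc φc' := ξ.hom.subTgt PUnit.unit hx.le
  have hU : (PUnit.unit : S0.pt) ∈ U := ⟨le_refl _, le_refl _⟩
  have hU'empty : ∀ q : U', False := by
    rintro ⟨⟨⟩, hq⟩
    exact absurd hq.2 (not_le_of_gt hx)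
  let σ0 : Chain U 0 := OrderEmbedding.ofMapLEIff (fun _ : Fin 1 => (⟨PUnit.unit, hU⟩ : U))
    (fun a b => ⟨fun _ => le_of_eq (Fin.ext (by have := a.isLt; have := b.isLt; omega)),
      fun _ => le_refl _⟩)
  let c1 : Cochain φc S0.str 0 := fun σ => (1 : Ω)
  have hc1 : c1 ∈ cocycles φc S0.str 0 := by
    show diff φc S0.str 0 c1 = 0
    funext τ
    show (∑ j : Fin 2, ((-1 : ℤ) ^ (j : ℕ)) • c1.faceVal τ j) = 0
    rw [Fin.sum_univ_two]
    have e0 : c1.faceVal τ 0 = (1 : Ω) := rfl
    have e1 : c1.faceVal τ 1 = (1 : Ω) := rfl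
    rw [e0, e1]
    simp
  let v1 : H φc S0.str 0 := H.mk φc S0.str 0 ⟨c1, hc1⟩
  let ev : Cochain φc S0.str 0 → Ω := fun cc => cc σ0
  have hev_add : ∀ a b : Cochain φc S0.str 0, ev (a + b) = ev a + ev b := fun _ _ => rfl
  have hev_smul : ∀ (r : X.ring ξ.base) (a : Cochain φc S0.str 0),
      ev (r • a) = ξ.toField (X.res (le_refl ξ.base) r) * ev a := fun _ _ => rfl
  have hev_zero : ev 0 = 0 := rfl
  have hev_c1 : ev c1 = 1 := rfl
  letI : Algebra (X.ring ξ.base) (X.ring x') := (X.res hx.le).toAlgebra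
  letI instRW : Module (X.ring ξ.base) (H φc' S0.str 0) :=
    Module.compHom (H φc' S0.str 0) (X.res hx.le)
  haveI : IsScalarTower (X.ring ξ.base) (X.ring x') (H φc' S0.str 0) :=
    IsScalarTower.of_algebraMap_smul fun _ _ => rfl
  let fV : H φc S0.str 0 →ₗ[X.ring ξ.base] H φc' S0.str 0 :=
    { toFun := resH S0.str sb 0, map_add' := (resH S0.str sb 0).map_add,
      map_smul' := (resH S0.str sb 0).map_smulₛₗ }
  have hbc' : IsBaseChange (X.ring x') fV := hbc
  letI instST : Module (X.ring x') T := Module.compHom T ι₁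
  letI instRT : Module (X.ring ξ.base) T := Module.compHom T (ι₁.comp (X.res hx.le))
  haveI : IsScalarTower (X.ring ξ.base) (X.ring x') T :=
    IsScalarTower.of_algebraMap_smul fun _ _ => rfl
  let lam' : ↥(cocycles φc S0.str 0) →ₗ[X.ring ξ.base] T :=
    { toFun := fun cc => ι₂ (ev cc.1)
      map_add' := fun a b => by
        show ι₂ (ev (a.1 + b.1)) = ι₂ (ev a.1) + ι₂ (ev b.1)
        rw [hev_add, map_add]
      map_smul' := fun r cc => by
        show ι₂ (ev (r • cc.1)) = (ι₁.comp (X.res hx.le)) r * ι₂ (ev cc.1)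
        rw [hev_smul, map_mul, X.res_self]
        congr 1
        exact (RingHom.congr_fun hcompat r).symm }
  let lam : H φc S0.str 0 →ₗ[X.ring ξ.base] T :=
    Submodule.liftQ ((cobdry φc S0.str 0).comap (cocycles φc S0.str 0).subtype) lam' (by
      intro cc hcc
      have h0 : cc.1 = 0 := by
        have h00 : cc.1 ∈ (⊥ : Submodule (X.ring ξ.base) (Cochain φc S0.str 0)) := hcc
        exact (Submodule.mem_bot _).mp h00
      show ι₂ (ev cc.1) = 0
      rw [h0, hev_zero, map_zero])
  have hW : ∀ w : H φc' S0.str 0, w = 0 := by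
    intro w
    obtain ⟨cc, rfl⟩ := Submodule.mkQ_surjective _ w
    have hcc : cc = 0 := Subtype.ext (funext fun σ => (hU'empty (σ (Fin.last 0))).elim)
    subst hcc
    exact map_zero _
  have h2 := hbc'.lift_eq lam v1
  have h3 : lam v1 = 1 := by
    show ι₂ (ev c1) = 1
    rw [hev_c1, map_one]
  rw [h3] at h2
  have h4 : fV v1 = 0 := hW _
  rw [h4, map_zero] at h2
  exact zero_ne_one h2

end Groth.Agent.S15613
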