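import Groth.Statements.S15614
import Mathlib
import Groth.Agent.Lib.Helper25.SchFinH0

set_option autoImplicit false
universe u
open SchFin SchFin.RSpace

namespace Groth.Agent.S15614

section helpers

open TensorProduct Groth.Agent.Lib.Helper25.SchFinH0 in
theorem pairRel_main (X : RSpace.{u}) (hX : X.IsSchematic)
    (hff : ∀ s a b : X.pt, s ≤ a → s ≤ b → (X.up a ∩ X.up b).Nonempty →
      Module.FaithfullyFlat (X.sectRing (X.up a ∩ X.up b)) ((q : ↥(X.up a ∩ X.up b)) → X.ring q.1))
    {s x y : X.pt} (hx : s ≤ x) (hy : s ≤ y) (P : PrimeSpectrum (X.ring x)) (Q : PrimeSpectrum (X.ring y))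
    (hPQ : PrimeSpectrum.comap (X.res hx) P = PrimeSpectrum.comap (X.res hy) Q) :
    X.PairRel ⟨x, P⟩ ⟨y, Q⟩ := by
  classical
  obtain ⟨hfin, _, hsch⟩ := hX
  have hbc := (hsch 0 s x hx y y (le_refl y)).1
  let UV : Set X.pt := (Hom.id X).wedge s y
  let UW : Set X.pt := (Hom.id X).wedge x y
  let φV : Coef X UV (X.ring s) := Coef.ofLE s UV ((Hom.id X).wedge_subset_up s y)
  let φW : Coef X UW (X.ring x) := Coef.ofLE x UW ((Hom.id X).wedge_subset_up x y)
  let sb : Coef.Sub φV φW := (Hom.id X).subSrc hx y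
  have hyV : y ∈ UV := ⟨hy, le_refl y⟩
  have hUVy : UV ⊆ X.up y := fun q hq => hq.2
  have hUWx : UW ⊆ X.up x := fun q hq => hq.1
  have hUWy : UW ⊆ X.up y := fun q hq => hq.2
  have hUWs : UW ⊆ X.up s := fun q hq => hx.trans hq.1
  letI algAB : Algebra (X.ring s) (X.ring x) := (X.res hx).toAlgebra
  letI algAC : Algebra (X.ring s) (X.ring y) := (X.res hy).toAlgebra
  letI algAΓ : Algebra (X.ring s) (X.sectRing UW) := (X.resSect s UW hUWs).toAlgebra
  let fB : X.ring x →ₐ[X.ring s] X.sectRing UW :=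
    { X.resSect x UW hUWx with
      commutes' := fun a => Subtype.ext (funext fun q => X.res_comp _ _ a) }
  let fC : X.ring y →ₐ[X.ring s] X.sectRing UW :=
    { X.resSect y UW hUWy with
      commutes' := fun a => Subtype.ext (funext fun q => X.res_comp _ _ a) }
  let μ : X.ring x ⊗[X.ring s] X.ring y →ₐ[X.ring s] X.sectRing UW :=
    Algebra.TensorProduct.productMap fB fC
  -- the V side
  let α : X.ring y →ₗ[X.ring s] H φV X.str 0 :=
    { toFun := fun c => w φV (X.resSect y UV hUVy c)
      map_add' := fun c c' => by rw [map_add, map_add]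
      map_smul' := fun a c => by
        show w φV (X.resSect y UV hUVy (X.res hy a * c)) = a • w φV (X.resSect y UV hUVy c)
        rw [smul_w]
        refine congrArg (w φV) (Subtype.ext (funext fun q => ?_))
        show X.res _ (X.res hy a * c) = X.res _ a * X.res _ c
        rw [map_mul, X.res_comp] }
  have hα : Function.Bijective α :=
    (w_bijective φV).comp (resSect_bijective X y UV hUVy hyV)
  let αe : X.ring y ≃ₗ[X.ring s] H φV X.str 0 := LinearEquiv.ofBijective α hα
  letI instRW : Module (X.ring s) (H φW X.str 0) := Module.compHom (H φW X.str 0) (X.res hx)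
  haveI : IsScalarTower (X.ring s) (X.ring x) (H φW X.str 0) :=
    IsScalarTower.of_algebraMap_smul fun _ _ => rfl
  let fV : H φV X.str 0 →ₗ[X.ring s] H φW X.str 0 :=
    { toFun := resH X.str sb 0, map_add' := (resH X.str sb 0).map_add,
      map_smul' := (resH X.str sb 0).map_smulₛₗ }
  have hbc' : IsBaseChange (X.ring x) fV := hbc
  have hres : ∀ c : X.ring y, fV (α c) = w φW (X.resSect y UW hUWy c) := by
    intro c
    have e1 : fV (α c) = H.mk φW X.str 0
        ⟨Cochain.restr X.str sb 0 (ofSect φV (X.resSect y UV hUVy c)).1, (by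
          show diff φW X.str 0 (resCochain X.str sb 0 (ofSect φV (X.resSect y UV hUVy c)).1) = 0
          rw [diff_resCochain,
            show diff φV X.str 0 (ofSect φV (X.resSect y UV hUVy c)).1 = 0 from
              (ofSect φV (X.resSect y UV hUVy c)).2, map_zero])⟩ := rfl
    rw [e1, w_apply]
    refine congrArg (H.mk φW X.str 0) (Subtype.ext (funext fun σ => ?_))
    rfl
  have hΨμ : ∀ t : X.ring x ⊗[X.ring s] X.ring y,
      hbc'.equiv (αe.lTensor (X.ring x) t) = w φW (μ t) := by
    intro t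
    induction t using TensorProduct.induction_on with
    | zero => rw [map_zero, map_zero, map_zero, map_zero]
    | tmul b c =>
      rw [LinearEquiv.lTensor_tmul, IsBaseChange.equiv_tmul]
      show b • fV (α c) = w φW (μ (b ⊗ₜ c))
      rw [hres, smul_w, Algebra.TensorProduct.productMap_apply_tmul]
      refine congrArg (w φW) (Subtype.ext (funext fun q => ?_))
      rfl
    | add t t' ht ht' => rw [map_add, map_add, map_add, map_add, ht, ht']
  have hμbij : Function.Bijective μ := by
    have hΨ : Function.Bijective (fun t => hbc'.equiv (αe.lTensor (X.ring x) t)) :=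
      hbc'.equiv.bijective.comp (αe.lTensor (X.ring x)).bijective
    constructor
    · intro t t' h
      apply hΨ.1
      show hbc'.equiv (αe.lTensor (X.ring x) t) = hbc'.equiv (αe.lTensor (X.ring x) t')
      rw [hΨμ, hΨμ, h]
    · intro g
      obtain ⟨t, ht⟩ := hΨ.2 (w φW g)
      refine ⟨t, w_injective φW ?_⟩
      rw [← hΨμ]
      exact ht
  let μe : (X.ring x ⊗[X.ring s] X.ring y) ≃ₐ[X.ring s] X.sectRing UW :=
    AlgEquiv.ofBijective μ hμbij
  obtain ⟨𝔯', hP', hQ'⟩ := exists_prime_tensor (A := X.ring s) P Q hPQ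
  let 𝔯 : PrimeSpectrum (X.sectRing UW) := PrimeSpectrum.comap μe.symm.toAlgHom.toRingHom 𝔯'
  have hne : UW.Nonempty := by
    by_contra hemp
    rw [Set.not_nonempty_iff_eq_empty] at hemp
    have hsub : ∀ g g' : X.sectRing UW, g = g' := fun g g' =>
      Subtype.ext (funext fun q => (Set.eq_empty_iff_forall_notMem.mp hemp q.1 q.2).elim)
    apply 𝔯.2.ne_top
    rw [Ideal.eq_top_iff_one, hsub 1 0]
    exact zero_mem _
  obtain ⟨q0, hq0⟩ := hne
  have hff' : Module.FaithfullyFlat (X.sectRing UW) ((q : UW) → X.ring q.1) :=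
    hff s x y hx hy ⟨q0, ⟨hq0.1, hq0.2⟩⟩
  obtain ⟨𝔮, h𝔮⟩ := PrimeSpectrum.comap_surjective_of_faithfullyFlat
    (A := X.sectRing UW) (B := (q : UW) → X.ring q.1) 𝔯
  obtain ⟨z0, r, hr⟩ := PrimeSpectrum.exists_comap_evalRingHom_eq 𝔮
  have hmem : ∀ t : X.ring x ⊗[X.ring s] X.ring y,
      t ∈ 𝔯'.asIdeal ↔ (μ t).1 z0 ∈ r.asIdeal := by
    intro t
    have e1 : (μ t) ∈ 𝔯.asIdeal ↔ t ∈ 𝔯'.asIdeal := by
      show μe.symm (μ t) ∈ 𝔯'.asIdeal ↔ _
      rw [show μe.symm (μ t) = t from μe.symm_apply_apply t]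
    have e2 : (μ t) ∈ 𝔯.asIdeal ↔ (μ t).1 ∈ 𝔮.asIdeal := by rw [← h𝔮]; rfl
    have e3 : (μ t).1 ∈ 𝔮.asIdeal ↔ (μ t).1 z0 ∈ r.asIdeal := by rw [← hr]; rfl
    rw [← e1, e2, e3]
  refine ⟨z0.1, z0.2.1, z0.2.2, r, ?_, ?_⟩
  · apply PrimeSpectrum.ext
    ext b
    show X.res z0.2.1 b ∈ r.asIdeal ↔ b ∈ P.asIdeal
    have e4 : b ∈ P.asIdeal ↔ (b ⊗ₜ[X.ring s] (1 : X.ring y)) ∈ 𝔯'.asIdeal := by
      rw [← hP']; rfl
    rw [e4, hmem]
    have e5 : (μ (b ⊗ₜ[X.ring s] (1 : X.ring y))).1 z0 = X.res z0.2.1 b := by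
      rw [Algebra.TensorProduct.productMap_apply_tmul, map_one, mul_one]
      rfl
    rw [e5]
  · apply PrimeSpectrum.ext
    ext c
    show X.res z0.2.2 c ∈ r.asIdeal ↔ c ∈ Q.asIdeal
    have e4 : c ∈ Q.asIdeal ↔ ((1 : X.ring x) ⊗ₜ[X.ring s] c) ∈ 𝔯'.asIdeal := by
      rw [← hQ']; rfl
    rw [e4, hmem]
    have e5 : (μ ((1 : X.ring x) ⊗ₜ[X.ring s] c)).1 z0 = X.res z0.2.2 c := by
      rw [Algebra.TensorProduct.productMap_apply_tmul, map_one, one_mul]
      rfl
    rw [e5]
    exact Iff.rfl

end helpers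


open SchFin in
/-- In a schematic finite space, let x and y be points above a common point s, P a prime of the ring of
x and Q a prime of the ring of y whose contractions to the ring of s agree. Then the pairs (x, P)
and (y, Q) are related: some point above both x and y carries a prime contracting to P and to Q.
(The published statement does not carry the hypothesis that, for every two points that lie above a
common point and whose minimal open sets meet, the product of the rings over the intersection of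
these minimal open sets is faithfully flat over the ring of sections on it; the published proof
obtains this fact from properties of affine schematic spaces recalled there without proof, and this
row carries it explicitly.) -/
theorem result (X : RSpace.{u}) (hX : X.IsSchematic)
    (hff : ∀ s a b : X.pt, s ≤ a → s ≤ b → (X.up a ∩ X.up b).Nonempty →
      Module.FaithfullyFlat (X.sectRing (X.up a ∩ X.up b)) ((q : ↥(X.up a ∩ X.up b)) → X.ring q.1))
    {s x y : X.pt} (hx : s ≤ x) (hy : s ≤ y) (P : PrimeSpectrum (X.ring x)) (Q : PrimeSpectrum (X.ring y))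
    (hPQ : PrimeSpectrum.comap (X.res hx) P = PrimeSpectrum.comap (X.res hy) Q) :
    X.PairRel ⟨x, P⟩ ⟨y, Q⟩ := by
  exact pairRel_main X hX hff hx hy P Q hPQ

end Groth.Agent.S15614
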