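import Groth.Statements.S15615
import Mathlib
import Groth.Agent.S15614

set_option autoImplicit false
universe u
open SchFin SchFin.RSpace

namespace Groth.Agent.S15615

open SchFin in
/-- In a schematic finite space, the relation on pairs (a point together with a prime of its ring) under
which two pairs are related when some pair at a point above both restricts to each of them is an
equivalence relation. (The published statement does not carry the hypothesis that, for every two
points that lie above a common point and whose minimal open sets meet, the product of the rings over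
the intersection of these minimal open sets is faithfully flat over the ring of sections on it; the
published proof obtains this fact from properties of affine schematic spaces recalled there without
proof, and this row carries it explicitly.) -/
theorem result (X : RSpace.{u}) (hX : X.IsSchematic)
    (hff : ∀ s a b : X.pt, s ≤ a → s ≤ b → (X.up a ∩ X.up b).Nonempty →
      Module.FaithfullyFlat (X.sectRing (X.up a ∩ X.up b)) ((q : ↥(X.up a ∩ X.up b)) → X.ring q.1)) :
    Equivalence X.PairRel := by
  refine ⟨?_, ?_, ?_⟩
  · intro a
    refine ⟨a.1, le_refl _, le_refl _, a.2, ?_, ?_⟩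
    · apply PrimeSpectrum.ext
      ext b
      show X.res (le_refl a.1) b ∈ a.2.asIdeal ↔ b ∈ a.2.asIdeal
      rw [X.res_self]
    · apply PrimeSpectrum.ext
      ext b
      show X.res (le_refl a.1) b ∈ a.2.asIdeal ↔ b ∈ a.2.asIdeal
      rw [X.res_self]
  · rintro a b ⟨z, hx, hy, r, h1, h2⟩
    exact ⟨z, hy, hx, r, h2, h1⟩
  · rintro a b c ⟨z1, ha1, hb1, r1, h1a, h1b⟩ ⟨z2, hb2, hc2, r2, h2b, h2c⟩
    have hrel := Groth.Agent.S15614.result X hX hff hb1 hb2 r1 r2 (h1b.trans h2b.symm)
    obtain ⟨z, hz1, hz2, r, hr1, hr2⟩ := hrel
    have hr1' : PrimeSpectrum.comap (X.res hz1) r = r1 := hr1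
    have hr2' : PrimeSpectrum.comap (X.res hz2) r = r2 := hr2
    refine ⟨z, ha1.trans hz1, hc2.trans hz2, r, ?_, ?_⟩
    · rw [← h1a, ← hr1']
      apply PrimeSpectrum.ext
      ext t
      show X.res (ha1.trans hz1) t ∈ r.asIdeal ↔ X.res hz1 (X.res ha1 t) ∈ r.asIdeal
      rw [X.res_comp]
    · rw [← h2c, ← hr2']
      apply PrimeSpectrum.ext
      ext t
      show X.res (hc2.trans hz2) t ∈ r.asIdeal ↔ X.res hz2 (X.res hc2 t) ∈ r.asIdeal
      rw [X.res_comp]

end Groth.Agent.S15615
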