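import Groth.Statements.S15616
import Mathlib
import Groth.Agent.S15615

set_option autoImplicit false
universe u
open SchFin SchFin.RSpace

namespace Groth.Agent.S15616

open SchFin in
/-- In a schematic finite space every schematic point, that is, every class of pairs (a point with a
prime of its ring), has exactly one representative whose point lies above the points of all
representatives of the class. (The published statement does not carry the hypothesis that, for every
two points that lie above a common point and whose minimal open sets meet, the product of the rings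
over the intersection of these minimal open sets is faithfully flat over the ring of sections on it;
the published proof obtains this fact from properties of affine schematic spaces recalled there
without proof, and this row carries it explicitly.) -/
theorem result (X : RSpace.{u}) (hX : X.IsSchematic)
    (hff : ∀ s a b : X.pt, s ≤ a → s ≤ b → (X.up a ∩ X.up b).Nonempty →
      Module.FaithfullyFlat (X.sectRing (X.up a ∩ X.up b)) ((q : ↥(X.up a ∩ X.up b)) → X.ring q.1))
    (c : X.SchPt) :
    ∃! a : X.Pair, Quot.mk X.PairRel a = c ∧ ∀ b : X.Pair, Quot.mk X.PairRel b = c → b.1 ≤ a.1 := by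
  classical
  have hE := Groth.Agent.S15615.result X hX hff
  have hQ : ∀ a b : X.Pair, Quot.mk X.PairRel a = Quot.mk X.PairRel b ↔ X.PairRel a b := by
    intro a b
    rw [Quot.eq, hE.eqvGen_iff]
  have hup : ∀ (a : X.Pair) (z' : X.pt) (h : a.1 ≤ z') (r' : PrimeSpectrum (X.ring z')),
      PrimeSpectrum.comap (X.res h) r' = a.2 → X.PairRel ⟨z', r'⟩ a := by
    intro a z' h r' hr
    refine ⟨z', le_refl _, h, r', ?_, hr⟩
    apply PrimeSpectrum.ext
    ext t
    show X.res (le_refl z') t ∈ r'.asIdeal ↔ t ∈ r'.asIdeal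
    rw [X.res_self]
  obtain ⟨a0, ha0⟩ := Quot.exists_rep c
  let T : Set X.pt := {p | ∃ b : X.Pair, Quot.mk X.PairRel b = c ∧ b.1 = p}
  have hTne : T.Nonempty := ⟨a0.1, a0, ha0, rfl⟩
  obtain ⟨z, hzT, hzmax⟩ := (Set.toFinite T).exists_maximal hTne
  obtain ⟨a, hac, haz⟩ := hzT
  have hmaxa : ∀ b : X.Pair, Quot.mk X.PairRel b = c → b.1 ≤ a.1 := by
    intro b hb
    have hrel : X.PairRel a b := (hQ a b).mp (hac.trans hb.symm)
    obtain ⟨z', h1, h2, r', hr1, hr2⟩ := hrel
    have hz'c : Quot.mk X.PairRel (⟨z', r'⟩ : X.Pair) = c :=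
      ((hQ _ _).mpr (hup a z' h1 r' hr1)).trans hac
    have hz' : z' ∈ T := ⟨⟨z', r'⟩, hz'c, rfl⟩
    have h3 : z' ≤ z := hzmax hz' ((le_of_eq haz.symm).trans h1)
    exact h2.trans (h3.trans (le_of_eq haz.symm))
  refine ⟨a, ⟨hac, hmaxa⟩, ?_⟩
  rintro a' ⟨ha'c, hmaxa'⟩
  have h1 : a'.1 ≤ a.1 := hmaxa a' ha'c
  have h2 : a.1 ≤ a'.1 := hmaxa' a hac
  have hrel : X.PairRel a a' := (hQ a a').mp (hac.trans ha'c.symm)
  obtain ⟨z', k1, k2, r', hr1, hr2⟩ := hrel
  have hz'c : Quot.mk X.PairRel (⟨z', r'⟩ : X.Pair) = c :=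
    ((hQ _ _).mpr (hup a z' k1 r' hr1)).trans hac
  have k3 : z' ≤ a.1 := hmaxa ⟨z', r'⟩ hz'c
  clear hmaxa hmaxa' hac ha'c hz'c haz hzmax
  obtain ⟨p, r⟩ := a
  obtain ⟨p', r2⟩ := a'
  have e1 : p = z' := le_antisymm k1 k3
  have e2 : p' = p := le_antisymm h1 h2
  subst e2
  subst e1
  have hrr : r = r2 := by
    have hr1' : PrimeSpectrum.comap (X.res k1) r' = r := hr1
    have hr2' : PrimeSpectrum.comap (X.res k2) r' = r2 := hr2
    rw [← hr1', ← hr2']
  rw [hrr]

end Groth.Agent.S15616
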