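import Groth.Statements.S15627
import Mathlib
import Groth.Agent.S15614
import Groth.Agent.S15634
import Groth.Agent.Lib.Helper25.SchFinBC

set_option autoImplicit false
universe u
open SchFin SchFin.GeomPt

namespace Groth.Agent.S15627

section helpers

open TensorProduct Groth.Agent.Lib.Helper25.SchFinH0 Groth.Agent.Lib.Helper25.SchFinBC

lemma point_pt_eq (Ω : Type u) [Field Ω] (p q : (RSpace.point Ω).pt) : p = q := by
  cases p; cases q; rfl

lemma chain_isEmpty_point (Ω : Type u) [Field Ω] (U : Set (RSpace.point Ω).pt) (n : ℕ) :
    IsEmpty (Chain U (n + 1)) := by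
  constructor
  intro σ
  have h01 : σ 0 = σ 1 := Subtype.ext (point_pt_eq Ω _ _)
  exact absurd (σ.injective h01) Fin.zero_ne_one

/-- the morphism from the one-point space -/
def gpHom (X : RSpace.{u}) (Ω : Type u) [Field Ω] (x : X.pt) (θ : X.ring x →+* Ω) :
    Hom (RSpace.point Ω) X where
  fn := fun _ => x
  mono := fun _ _ _ => le_refl _
  app := fun _ => θ
  compat := fun h b => by
    show θ b = θ (X.res (le_refl x) b)
    rw [X.res_self]

theorem gpHom_isSchematic (X : RSpace.{u}) (hX : X.IsSchematic)
    (hff : ∀ s a b : X.pt, s ≤ a → s ≤ b → (X.up a ∩ X.up b).Nonempty →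
      Module.FaithfullyFlat (X.sectRing (X.up a ∩ X.up b)) ((q : ↥(X.up a ∩ X.up b)) → X.ring q.1))
    (Ω : Type u) [Field Ω] (a : X.Pair) (ha : ∀ b : X.Pair, X.PairRel a b → b.1 ≤ a.1)
    (φ : a.κ →+* Ω) :
    (gpHom X Ω a.1 (φ.comp (algebraMap (X.ring a.1) a.κ))).IsSchematic := by
  classical
  refine ⟨⟨fun p => (inferInstance : IsNoetherianRing Ω), fun p q h => RingHom.Flat.id Ω⟩, hX.1, ?_⟩
  intro n x x' hx y y' hy
  obtain ⟨⟩ := x
  obtain ⟨⟩ := x'
  set hom := gpHom X Ω a.1 (φ.comp (algebraMap (X.ring a.1) a.κ)) with hhom
  constructor
  · -- source direction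
    cases n with
    | zero =>
      refine isBCAlong_of_epi _ _ (fun g₁ g₂ hg => ?_) ?_
      · ext s
        exact RingHom.congr_fun hg s
      · exact resH_bijective _ subset_rfl
    | succ n =>
      haveI := chain_isEmpty_point Ω (hom.wedge PUnit.unit y) n
      haveI := H_subsingleton_of_isEmpty
        (Coef.ofLE PUnit.unit (hom.wedge PUnit.unit y) (hom.wedge_subset_up PUnit.unit y))
        (RSpace.point Ω).str (n + 1)
      exact isBCAlong_of_subsingleton _ _
  · -- target direction
    cases n with
    | succ n =>
      haveI := chain_isEmpty_point Ω (hom.wedge PUnit.unit y) n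
      haveI := chain_isEmpty_point Ω (hom.wedge PUnit.unit y') n
      haveI := H_subsingleton_of_isEmpty
        (Coef.ofHom hom y (hom.wedge PUnit.unit y) (hom.wedge_subset_pre PUnit.unit y))
        (RSpace.point Ω).str (n + 1)
      haveI := H_subsingleton_of_isEmpty
        (Coef.ofHom hom y' (hom.wedge PUnit.unit y') (hom.wedge_subset_pre PUnit.unit y'))
        (RSpace.point Ω).str (n + 1)
      exact isBCAlong_of_subsingleton _ _
    | zero =>
      by_cases h1 : y ≤ a.1
      · by_cases h2 : y' ≤ a.1
        · refine isBCAlong_of_epi _ _
            (fun g₁ g₂ hg => Groth.Agent.S15634.result X hX hy g₁ g₂ hg) ?_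
          exact resH_bijective _ (fun q hq => ⟨hq.1, h2⟩)
        · haveI : IsEmpty (Chain (hom.wedge PUnit.unit y') 0) := ⟨fun σ => h2 (σ 0).2.2⟩
          haveI := H_subsingleton_of_isEmpty
            (Coef.ofHom hom y' (hom.wedge PUnit.unit y') (hom.wedge_subset_pre PUnit.unit y'))
            (RSpace.point Ω).str 0
          refine isBCAlong_of_tensor_subsingleton _ _ ?_
          let θ : X.ring a.1 →+* Ω := φ.comp (algebraMap (X.ring a.1) a.κ)
          let θy : X.ring y →+* Ω := θ.comp (X.res h1)
          letI algRS : Algebra (X.ring y) (X.ring y') := (X.res hy).toAlgebra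
          letI algRΩ : Algebra (X.ring y) Ω := θy.toAlgebra
          have hT : Subsingleton (X.ring y' ⊗[X.ring y] Ω) := by
            by_contra hT
            rw [not_subsingleton_iff_nontrivial] at hT
            obtain ⟨𝔱, h𝔱⟩ := Ideal.exists_maximal (X.ring y' ⊗[X.ring y] Ω)
            let P' : PrimeSpectrum (X.ring y') :=
              PrimeSpectrum.comap (Algebra.TensorProduct.includeLeft :
                X.ring y' →ₐ[X.ring y] X.ring y' ⊗[X.ring y] Ω).toRingHom ⟨𝔱, h𝔱.isPrime⟩
            have hPQ : PrimeSpectrum.comap (X.res hy) P' = PrimeSpectrum.comap (X.res h1) a.2 := by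
              apply PrimeSpectrum.ext
              ext r
              show (X.res hy r) ⊗ₜ[X.ring y] (1 : Ω) ∈ 𝔱 ↔ X.res h1 r ∈ a.2.asIdeal
              have e1 : (X.res hy r) ⊗ₜ[X.ring y] (1 : Ω) =
                  (1 : X.ring y') ⊗ₜ[X.ring y] (θy r) := by
                have e3 : X.res hy r = r • (1 : X.ring y') := by
                  show X.res hy r = X.res hy r * 1
                  rw [mul_one]
                have e4 : r • (1 : Ω) = θy r := by
                  show θy r * 1 = θy r
                  rw [mul_one]
                rw [e3, TensorProduct.smul_tmul, e4]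
              rw [e1]
              have e2 : X.res h1 r ∈ a.2.asIdeal ↔ θy r = 0 := by
                show _ ↔ φ (algebraMap (X.ring a.1) a.κ (X.res h1 r)) = 0
                rw [map_eq_zero_iff φ φ.injective]
                exact Ideal.algebraMap_residueField_eq_zero.symm
              rw [e2]
              constructor
              · intro hmem
                by_contra hne
                have hu : IsUnit (θy r) := IsUnit.mk0 _ hne
                have hu' : IsUnit ((1 : X.ring y') ⊗ₜ[X.ring y] (θy r)) :=
                  hu.map (Algebra.TensorProduct.includeRight :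
                    Ω →ₐ[X.ring y] X.ring y' ⊗[X.ring y] Ω)
                exact h𝔱.ne_top (Ideal.eq_top_of_isUnit_mem _ hmem hu')
              · intro h0
                rw [h0, TensorProduct.tmul_zero]
                exact zero_mem _
            have hrel := Groth.Agent.S15614.result X hX hff hy h1 P' a.2 hPQ
            obtain ⟨z, k1, k2, r, e1, e2⟩ := hrel
            exact h2 (ha ⟨y', P'⟩ ⟨z, k2, k1, r, e2, e1⟩)
          have hstarU : (PUnit.unit : (RSpace.point Ω).pt) ∈ hom.wedge PUnit.unit y :=
            ⟨le_refl _, h1⟩
          let cs : Ω → (RSpace.point Ω).sectRing (hom.wedge PUnit.unit y) :=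
            fun ω => ⟨fun _ => ω, fun _ _ _ => rfl⟩
          let lam : Ω →ₗ[X.ring y]
              H (Coef.ofHom hom y (hom.wedge PUnit.unit y) (hom.wedge_subset_pre PUnit.unit y))
                (RSpace.point Ω).str 0 :=
            { toFun := fun ω => w _ (cs ω)
              map_add' := fun ω ω' => by
                rw [← map_add]
                exact congrArg (w _) (Subtype.ext (funext fun _ => rfl))
              map_smul' := fun r ω => by
                rw [RingHom.id_apply, smul_w]
                exact congrArg (w _) (Subtype.ext (funext fun _ => rfl)) }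
          have hlam : Function.Surjective lam := by
            intro v
            obtain ⟨g, rfl⟩ := w_surjective _ v
            refine ⟨g.1 ⟨PUnit.unit, hstarU⟩, ?_⟩
            show w _ (cs _) = w _ g
            refine congrArg (w _) (Subtype.ext (funext fun q => ?_))
            obtain ⟨⟨⟩, hq⟩ := q
            rfl
          haveI := hT
          exact (LinearMap.lTensor_surjective (X.ring y') hlam).subsingleton
      · have h2 : ¬ y' ≤ a.1 := fun h => h1 (hy.trans h)
        haveI : IsEmpty (Chain (hom.wedge PUnit.unit y) 0) := ⟨fun σ => h1 (σ 0).2.2⟩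
        haveI : IsEmpty (Chain (hom.wedge PUnit.unit y') 0) := ⟨fun σ => h2 (σ 0).2.2⟩
        haveI := H_subsingleton_of_isEmpty
          (Coef.ofHom hom y (hom.wedge PUnit.unit y) (hom.wedge_subset_pre PUnit.unit y))
          (RSpace.point Ω).str 0
        haveI := H_subsingleton_of_isEmpty
          (Coef.ofHom hom y' (hom.wedge PUnit.unit y') (hom.wedge_subset_pre PUnit.unit y'))
          (RSpace.point Ω).str 0
        exact isBCAlong_of_subsingleton _ _

end helpers


open SchFin in
/-- Let X be a schematic finite space and Ω an algebraically closed field. Given a pair (x, P) of a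
point and a prime of its ring which is the maximal representative of its class (every related pair
sits at a point below x) and a ring map φ from the residue field of P to Ω, there is exactly one
geometric point of X with values in Ω that hits x and whose ring map from the ring of x to Ω is φ
composed with the passage to the residue field. (The published statement is the resulting bijection
between geometric points with values in Ω and schematic points equipped with an embedding of their
residue field into Ω.) (The published statement does not carry the hypothesis that, for every two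
points that lie above a common point and whose minimal open sets meet, the product of the rings over
the intersection of these minimal open sets is faithfully flat over the ring of sections on it; the
published proof obtains this fact from properties of affine schematic spaces recalled there without
proof, and this row carries it explicitly.) -/
theorem result (X : RSpace.{u}) (hX : X.IsSchematic)
    (hff : ∀ s a b : X.pt, s ≤ a → s ≤ b → (X.up a ∩ X.up b).Nonempty →
      Module.FaithfullyFlat (X.sectRing (X.up a ∩ X.up b)) ((q : ↥(X.up a ∩ X.up b)) → X.ring q.1))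
    (Ω : Type u) [Field Ω] [IsAlgClosed Ω] (a : X.Pair) (ha : ∀ b : X.Pair, X.PairRel a b → b.1 ≤ a.1)
    (φ : a.κ →+* Ω) :
    ∃! ξ : GeomPt X Ω, (⟨ξ.base, ξ.toField⟩ : Σ x : X.pt, (X.ring x →+* Ω)) =
      ⟨a.1, φ.comp (algebraMap (X.ring a.1) a.κ)⟩ := by
  refine ⟨⟨gpHom X Ω a.1 _, gpHom_isSchematic X hX hff Ω a ha φ⟩, rfl, ?_⟩
  intro ξ' h'
  obtain ⟨⟨fn', mono', app', compat'⟩, hs'⟩ := ξ'
  have hfn : fn' = fun _ => a.1 := funext (fun q => by cases q; exact congrArg Sigma.fst h')
  subst hfn
  have happ : app' = fun _ => φ.comp (algebraMap (X.ring a.1) a.κ) :=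
    funext (fun q => by cases q; exact eq_of_heq (Sigma.mk.inj h').2)
  subst happ
  rfl

end Groth.Agent.S15627
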