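import Groth.Statements.S1563
import Groth.Agent.S7606
import Groth.Agent.Lib.Helper14.GeomRegularFlat
attribute [local instance] Curv2.stalkAlgebra

set_option autoImplicit false
universe u
open CategoryTheory CategoryTheory.Limits AlgebraicGeometry
open Variety

namespace Groth.Agent.S1563

/-- Geometric regularity descends along a morphism f of locally Noetherian k-schemes which is flat at
the point x (the map of local rings at x is flat): if X has it at x then Y has it at f(x). -/
theorem result (k : Type u) [Field k] (X Y : Scheme.{u}) [X.Over (Spec (CommRingCat.of k))] [Y.Over (Spec (CommRingCat.of k))]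
    [IsLocallyNoetherian X] [IsLocallyNoetherian Y] (f : X ⟶ Y) (hf : f ≫ (Y ↘ (Spec (CommRingCat.of k))) = X ↘ (Spec (CommRingCat.of k)))
    (x : X) (hflat : (f.stalkMap x).hom.Flat) (hx : Curv2.IsGeomRegularAt k X x) :
    Curv2.IsGeomRegularAt k Y (f.base x) := by
  have hX := Groth.Agent.S7606.result k X x
  have hY := Groth.Agent.S7606.result k Y (f.base x)
  have hx3 : CAlg.IsGeometricallyRegular k (X.presheaf.stalk x) := hX.2.mp (hX.1.mp hx)
  refine hY.1.mpr (hY.2.mpr ?_)
  letI : Algebra (Y.presheaf.stalk (f.base x)) (X.presheaf.stalk x) := (f.stalkMap x).hom.toAlgebra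
  haveI : IsScalarTower k (Y.presheaf.stalk (f.base x)) (X.presheaf.stalk x) :=
    IsScalarTower.of_algebraMap_eq' (by
      show Curv2.stalkMap k X x = (f.stalkMap x).hom.comp (Curv2.stalkMap k Y (f.base x))
      unfold Curv2.stalkMap Coh.toGlobal
      rw [← hf]
      ext a
      simp only [RingHom.comp_apply, Scheme.Hom.comp_appTop, CommRingCat.hom_comp]
      have := Scheme.Hom.germ_stalkMap_apply f ⊤ x trivial
      exact (this _).symm)
  haveI : Module.Flat (Y.presheaf.stalk (f.base x)) (X.presheaf.stalk x) := hflat
  haveI : IsLocalHom (algebraMap (Y.presheaf.stalk (f.base x)) (X.presheaf.stalk x)) :=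
    inferInstanceAs (IsLocalHom (f.stalkMap x).hom)
  haveI : Module.FaithfullyFlat (Y.presheaf.stalk (f.base x)) (X.presheaf.stalk x) :=
    Module.FaithfullyFlat.of_flat_of_isLocalHom
  exact Groth.Agent.Lib.Helper14.GeomRegularFlat.isGeometricallyRegular_of_faithfullyFlat k _ _ hx3

end Groth.Agent.S1563
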