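import Groth.Statements.S1567
import Mathlib.RingTheory.Ideal.KrullsHeightTheorem

set_option autoImplicit false
universe u
open CategoryTheory CategoryTheory.Limits AlgebraicGeometry
open Divisors

namespace Groth.Agent.S1567

/-- Let X be locally Noetherian and D a locally principal closed subscheme. At a point ξ of D that is
maximal in D under generisation (a generic point of a component of D), the local ring of X has
dimension at most one. -/
theorem result (X : Scheme.{u}) [IsLocallyNoetherian X]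
    (D : X.IdealSheafData) (hD : Curv2.IsLocPrincipal D) (ξ : X)
    (hξ : ξ ∈ (D.support : Set X)) (hgen : ∀ y ∈ (D.support : Set X), y ⤳ ξ → y = ξ) :
    ringKrullDim (X.presheaf.stalk ξ) ≤ 1 := by
  obtain ⟨U, hξU, f, hf⟩ := hD ξ hξ
  have hU := U.2
  have : IsNoetherianRing Γ(X, U.1) := IsLocallyNoetherian.component_noetherian U
  set p := hU.primeIdealOf ⟨ξ, hξU⟩ with hp
  have hpξ : hU.fromSpec p = ξ := hU.fromSpec_primeIdealOf ⟨ξ, hξU⟩
  let _ : Algebra Γ(X, U.1) (X.presheaf.stalk ξ) :=
    TopCat.Presheaf.algebra_section_stalk X.presheaf (U := U.1) ⟨ξ, hξU⟩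
  have hloc : IsLocalization.AtPrime (X.presheaf.stalk ξ) p.asIdeal :=
    hU.isLocalization_stalk ⟨ξ, hξU⟩
  rw [IsLocalization.AtPrime.ringKrullDim_eq_height p.asIdeal (X.presheaf.stalk ξ)]
  have hmem : ∀ q : PrimeSpectrum Γ(X, U.1), hU.fromSpec q ∈ D.support ↔ f ∈ q.asIdeal := by
    intro q
    have hqU : hU.fromSpec q ∈ U.1 := by
      have := hU.range_fromSpec
      rw [← SetLike.mem_coe, ← this]
      exact ⟨q, rfl⟩
    rw [Scheme.IdealSheafData.mem_support_iff_of_mem (U := U) hqU, hf, Scheme.zeroLocus_span,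
      Scheme.zeroLocus_singleton, Set.mem_compl_iff, SetLike.mem_coe]
    have : hU.fromSpec q ∈ X.basicOpen f ↔ q ∈ hU.fromSpec ⁻¹ᵁ X.basicOpen f := Iff.rfl
    rw [this, hU.fromSpec_preimage_basicOpen]
    exact not_not
  have hmin : p.asIdeal ∈ (Ideal.span {f}).minimalPrimes := by
    refine ⟨⟨p.2, ?_⟩, ?_⟩
    · rw [Ideal.span_singleton_le_iff_mem]
      rw [← hmem p, hpξ]
      exact hξ
    · rintro q ⟨hq, hfq⟩ hqp
      have hy : hU.fromSpec ⟨q, hq⟩ ∈ D.support := by
        rw [hmem]
        exact (Ideal.span_singleton_le_iff_mem _).mp hfq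
      have hspec : hU.fromSpec ⟨q, hq⟩ ⤳ ξ := by
        rw [← hpξ]
        apply Specializes.map _ hU.fromSpec.continuous
        exact (PrimeSpectrum.le_iff_specializes (⟨q, hq⟩ : PrimeSpectrum Γ(X, U.1)) p).mp hqp
      have := hgen _ hy hspec
      rw [← hpξ] at this
      have hoi : IsOpenImmersion hU.fromSpec := IsAffineOpen.isOpenImmersion_fromSpec hU
      have := hU.fromSpec.isOpenEmbedding.injective this
      rw [← this]
  have : WithBot.some (p.asIdeal.height) ≤ ((1 : ℕ∞) : WithBot ℕ∞) := by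
    exact_mod_cast Ideal.height_le_one_of_isPrincipal_of_mem_minimalPrimes _ _ hmin
  exact this

end Groth.Agent.S1567
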