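import Groth.Statements.S1568
import Groth.Agent.S1567
import Mathlib.RingTheory.KrullDimension.Zero

set_option autoImplicit false
universe u
open CategoryTheory CategoryTheory.Limits AlgebraicGeometry
open Divisors

namespace Groth.Agent.S1568

/-- Let X be locally Noetherian and D an effective Cartier divisor. At a point ξ of D that is maximal in
D under generisation (a generic point of a component of D), the local ring of X has dimension
exactly one. -/
theorem result (X : Scheme.{u}) [IsLocallyNoetherian X]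
    (D : X.IdealSheafData) (hD : BlowUp.IsEffCartierIdeal D) (ξ : X)
    (hξ : ξ ∈ (D.support : Set X)) (hgen : ∀ y ∈ (D.support : Set X), y ⤳ ξ → y = ξ) :
    ringKrullDim (X.presheaf.stalk ξ) = 1 := by
  have hLP : Curv2.IsLocPrincipal D := by
    intro x _
    obtain ⟨U, hxU, f, _, hfD⟩ := hD x
    exact ⟨U, hxU, f, hfD⟩
  have hle : ringKrullDim (X.presheaf.stalk ξ) ≤ 1 := Groth.Agent.S1567.result X D hLP ξ hξ hgen
  refine le_antisymm hle ?_
  by_contra hlt
  have h0 : ringKrullDim (X.presheaf.stalk ξ) ≤ 0 := by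
    have hlt' : ringKrullDim (X.presheaf.stalk ξ) < 1 := lt_of_not_ge hlt
    generalize ringKrullDim (X.presheaf.stalk ξ) = d at hlt'
    induction d using WithBot.recBotCoe with
    | bot => exact bot_le
    | coe n =>
      have : n < 1 := by exact_mod_cast hlt'
      rw [Order.lt_one_iff] at this
      rw [this]
      rfl
  have hK : Ring.KrullDimLE 0 (X.presheaf.stalk ξ) := (Ring.krullDimLE_iff).mpr h0
  obtain ⟨U, hξU, f, hf, hfD⟩ := hD ξ
  have hU := U.2
  let _ : Algebra Γ(X, U.1) (X.presheaf.stalk ξ) :=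
    TopCat.Presheaf.algebra_section_stalk X.presheaf (U := U.1) ⟨ξ, hξU⟩
  have hloc : IsLocalization.AtPrime (X.presheaf.stalk ξ) (hU.primeIdealOf ⟨ξ, hξU⟩).asIdeal :=
    hU.isLocalization_stalk ⟨ξ, hξU⟩
  have hnzd : algebraMap Γ(X, U.1) (X.presheaf.stalk ξ) f ∈ nonZeroDivisors (X.presheaf.stalk ξ) :=
    IsLocalization.map_nonZeroDivisors_le (hU.primeIdealOf ⟨ξ, hξU⟩).asIdeal.primeCompl _
      (Submonoid.mem_map_of_mem _ hf)
  have hmax : algebraMap Γ(X, U.1) (X.presheaf.stalk ξ) f ∈
      IsLocalRing.maximalIdeal (X.presheaf.stalk ξ) := by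
    rw [IsLocalRing.mem_maximalIdeal, mem_nonunits_iff]
    change ¬ IsUnit (X.presheaf.germ U.1 ξ hξU f)
    rw [← Scheme.mem_basicOpen]
    have h1 : ξ ∈ D.support := hξ
    rw [Scheme.IdealSheafData.mem_support_iff_of_mem (U := U) hξU, hfD, Scheme.zeroLocus_span,
      Scheme.zeroLocus_singleton] at h1
    exact h1
  rw [← Ring.KrullDimLE.isNilpotent_iff_mem_maximalIdeal] at hmax
  obtain ⟨n, hn⟩ := hmax
  have : (1 : X.presheaf.stalk ξ) = 0 := by
    have := (pow_mem hnzd n).2 1
    rw [hn] at this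
    exact this (by simp)
  exact one_ne_zero this

end Groth.Agent.S1568
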