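import Groth.Statements.S1569
import Groth.Agent.Lib.Helper3.DVR

set_option autoImplicit false
universe u
open CategoryTheory CategoryTheory.Limits AlgebraicGeometry
open Divisors

namespace Groth.Agent.S1569

/-- On a Noetherian scheme, an effective Cartier divisor which is integral as a closed subscheme has a
discrete valuation ring as the local ring of the ambient scheme at its generic point. -/
theorem result (X : Scheme.{u}) [IsNoetherian X]
    (D : X.IdealSheafData) (hD : BlowUp.IsEffCartierIdeal D) [IsIntegral D.subscheme]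
    (ξ : X) (hξ : IsGenericPoint ξ (D.support : Set X)) :
    ∃ _ : IsDomain (X.presheaf.stalk ξ), IsDiscreteValuationRing (X.presheaf.stalk ξ) := by
  obtain ⟨U, hξU, f, hf, hfD⟩ := hD ξ
  have hU := U.2
  have hξD : ξ ∈ D.support := hξ.mem
  have hNoeth : IsNoetherianRing Γ(X, U.1) := IsLocallyNoetherian.component_noetherian U
  -- (f) is prime
  have hprime : (D.ideal U).IsPrime := by
    have hne : Nonempty ↥(D.subschemeι ⁻¹ᵁ U.1) := by
      obtain ⟨z, hz⟩ : ξ ∈ Set.range D.subschemeι := by
        rw [D.range_subschemeι]; exact hξD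
      exact ⟨⟨z, by change D.subschemeι z ∈ U.1; rw [hz]; exact hξU⟩⟩
    have h1 : IsDomain Γ(D.subscheme, D.subschemeι ⁻¹ᵁ U.1) :=
      @IsIntegral.component_integral _ _ (D.subschemeι ⁻¹ᵁ U.1) hne
    have h2 : IsDomain (Γ(X, U.1) ⧸ D.ideal U) :=
      (D.subschemeObjIso U).commRingCatIsoToRingEquiv.symm.toMulEquiv.isDomain _
    exact (Ideal.Quotient.isDomain_iff_prime (I := D.ideal U)).mp h2
  set p := hU.primeIdealOf ⟨ξ, hξU⟩ with hp
  have hpξ : hU.fromSpec p = ξ := hU.fromSpec_primeIdealOf ⟨ξ, hξU⟩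
  let _ : Algebra Γ(X, U.1) (X.presheaf.stalk ξ) :=
    TopCat.Presheaf.algebra_section_stalk X.presheaf (U := U.1) ⟨ξ, hξU⟩
  have hloc : IsLocalization.AtPrime (X.presheaf.stalk ξ) p.asIdeal :=
    hU.isLocalization_stalk ⟨ξ, hξU⟩
  have hmem : ∀ q : PrimeSpectrum Γ(X, U.1), hU.fromSpec q ∈ D.support ↔ f ∈ q.asIdeal := by
    intro q
    have hqU : hU.fromSpec q ∈ U.1 := by
      have := hU.range_fromSpec
      rw [← SetLike.mem_coe, ← this]
      exact ⟨q, rfl⟩
    rw [Scheme.IdealSheafData.mem_support_iff_of_mem (U := U) hqU, hfD, Scheme.zeroLocus_span,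
      Scheme.zeroLocus_singleton, Set.mem_compl_iff, SetLike.mem_coe]
    have : hU.fromSpec q ∈ X.basicOpen f ↔ q ∈ hU.fromSpec ⁻¹ᵁ X.basicOpen f := Iff.rfl
    rw [this, hU.fromSpec_preimage_basicOpen]
    exact not_not
  -- p = (f)
  have hpf : p.asIdeal = Ideal.span {f} := by
    apply le_antisymm
    · -- ξ specializes to the point of (f)
      let q : PrimeSpectrum Γ(X, U.1) := ⟨D.ideal U, hprime⟩
      have hq : hU.fromSpec q ∈ D.support := by
        rw [hmem]; change f ∈ D.ideal U; rw [hfD]; exact Ideal.mem_span_singleton_self f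
      have hspec : ξ ⤳ hU.fromSpec q := hξ.specializes hq
      rw [← hpξ] at hspec
      have hoi : IsOpenImmersion hU.fromSpec := IsAffineOpen.isOpenImmersion_fromSpec hU
      have hspec' : p ⤳ q := (hU.fromSpec.isOpenEmbedding.isInducing.specializes_iff).mp hspec
      have := (PrimeSpectrum.le_iff_specializes p q).mpr hspec'
      rw [← hfD]
      exact this
    · rw [Ideal.span_singleton_le_iff_mem, ← hmem p, hpξ]
      exact hξD
  have hNoeth' : IsNoetherianRing (X.presheaf.stalk ξ) :=
    IsLocalization.isNoetherianRing p.asIdeal.primeCompl _ hNoeth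
  have hmax : IsLocalRing.maximalIdeal (X.presheaf.stalk ξ) =
      Ideal.span {algebraMap Γ(X, U.1) (X.presheaf.stalk ξ) f} := by
    rw [← IsLocalization.AtPrime.map_eq_maximalIdeal p.asIdeal (X.presheaf.stalk ξ), hpf,
      Ideal.map_span, Set.image_singleton]
  have hnzd : algebraMap Γ(X, U.1) (X.presheaf.stalk ξ) f ∈ nonZeroDivisors (X.presheaf.stalk ξ) :=
    IsLocalization.map_nonZeroDivisors_le p.asIdeal.primeCompl _
      (Submonoid.mem_map_of_mem _ hf)
  exact Groth.Agent.Lib.Helper3.isDiscreteValuationRing_of_maximalIdeal_eq_span _ hnzd hmax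

end Groth.Agent.S1569
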