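import Groth.Statements.S15701


set_option autoImplicit false
universe u
open CategoryTheory AlgebraicGeometry
open RatVar

namespace Groth.Agent.S15701

/-- A faithful action of a finite group on a geometrically integral variety is almost free. Here k is a
field of characteristic zero, X is an integral separated scheme of finite type over k, and the
finite group G acts on X by k-automorphisms through an injective homomorphism to Aut X; the
conclusion is a non-empty G-stable open subscheme U of X such that for every field K and every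
morphism Spec K → X whose image lies in U, an element of G fixing that K-point is the identity. (X
is taken separated: for the affine line with a doubled origin and the involution exchanging the two
origins the action is faithful while every point off the origins is fixed, so no such U exists;
integrality replaces geometric integrality, which is all the codimension argument uses.) -/
theorem result (k : Type u) [Field k] [CharZero k]
    (X : Scheme.{u}) (f : X ⟶ Spec (CommRingCat.of k)) [IsIntegral X] [LocallyOfFiniteType f]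
    [QuasiCompact f] [IsSeparated f]
    (G : Type u) [Group G] [Finite G] (ρ : G →* Aut X)
    (hρ : ∀ g : G, (ρ g).hom ≫ f = f) (hfaith : Function.Injective ρ) :
    ∃ U : X.Opens, (U : Set X).Nonempty ∧ (∀ g : G, (ρ g).hom ⁻¹ᵁ U = U) ∧
      ∀ (K : Type u) [Field K] (x : Spec (CommRingCat.of K) ⟶ X),
        Set.range x.base ⊆ (U : Set X) → ∀ g : G, x ≫ (ρ g).hom = x → g = 1 := by
  classical
  have : X.IsSeparated := by
    constructor
    have : Limits.terminal.from X = f ≫ Limits.terminal.from _ := Subsingleton.elim _ _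
    rw [this]; infer_instance
  -- fixed loci
  let F : G → Set X := fun g => Set.range (Limits.equalizer.ι (ρ g).hom (𝟙 X))
  have hFcl : ∀ g, IsClosed (F g) := fun g =>
    (Limits.equalizer.ι (ρ g).hom (𝟙 X)).isClosedEmbedding.isClosed_range
  have hmul : ∀ a b : G, (ρ (a * b)).hom = (ρ b).hom ≫ (ρ a).hom := by
    intro a b; rw [map_mul]; rfl
  have hone : (ρ 1).hom = 𝟙 X := by rw [map_one]; rfl
  -- transport of fixed loci
  have htr : ∀ (g h : G) (y : X), y ∈ F g → (ρ h).hom y ∈ F (h * g * h⁻¹) := by
    rintro g h _ ⟨e, rfl⟩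
    have hcond : (Limits.equalizer.ι (ρ g).hom (𝟙 X) ≫ (ρ h).hom) ≫ (ρ (h * g * h⁻¹)).hom =
        (Limits.equalizer.ι (ρ g).hom (𝟙 X) ≫ (ρ h).hom) ≫ 𝟙 X := by
      rw [Category.assoc, ← hmul, Category.comp_id]
      have : h * g * h⁻¹ * h = h * g := by group
      rw [this, hmul, ← Category.assoc, Limits.equalizer.condition, Category.comp_id]
    refine ⟨Limits.equalizer.lift _ hcond e, ?_⟩
    rw [← Scheme.Hom.comp_apply, Limits.equalizer.lift_ι, Scheme.Hom.comp_apply]
  have hfin : (Set.univ : Set G).Finite := Set.finite_univ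
  have hcl : IsClosed (⋃ g ∈ {g : G | g ≠ 1}, F g) :=
    (Set.toFinite {g : G | g ≠ 1}).isClosed_biUnion (fun g _ => hFcl g)
  let U : X.Opens := ⟨(⋃ g ∈ {g : G | g ≠ 1}, F g)ᶜ, hcl.isOpen_compl⟩
  have hUmem : ∀ x : X, x ∈ U ↔ ∀ g : G, g ≠ 1 → x ∉ F g := by
    intro x
    change x ∈ (⋃ g ∈ {g : G | g ≠ 1}, F g)ᶜ ↔ _
    simp only [Set.mem_compl_iff, Set.mem_iUnion, Set.mem_ofPred_eq, not_exists]
  have hFne : ∀ g : G, g ≠ 1 → genericPoint X ∉ F g := by
    intro g hg hξ
    have huniv : F g = Set.univ := by
      have h1 : closure {genericPoint X} ⊆ F g :=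
        (hFcl g).closure_subset_iff.mpr (Set.singleton_subset_iff.mpr hξ)
      have h0 : closure {genericPoint X} = Set.univ := genericPoint_spec X
      rw [h0] at h1
      exact Set.univ_subset_iff.mp h1
    have : Surjective (Limits.equalizer.ι (ρ g).hom (𝟙 X)) := ⟨Set.range_eq_univ.mp huniv⟩
    have : IsIso (Limits.equalizer.ι (ρ g).hom (𝟙 X)) :=
      isIso_of_isClosedImmersion_of_surjective _
    have h2 : (ρ g).hom = 𝟙 X := by
      rw [← cancel_epi (Limits.equalizer.ι (ρ g).hom (𝟙 X))]
      exact Limits.equalizer.condition _ _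
    apply hg
    apply hfaith
    rw [map_one]
    ext1
    exact h2
  have hsub : ∀ h : G, U ≤ (ρ h).hom ⁻¹ᵁ U := by
    intro h x hx
    change (ρ h).hom x ∈ U
    rw [hUmem] at hx ⊢
    intro g hg hmem
    have h3 := htr g h⁻¹ _ hmem
    rw [← Scheme.Hom.comp_apply, ← hmul, inv_mul_cancel, hone] at h3
    replace h3 : x ∈ F (h⁻¹ * g * h⁻¹⁻¹) := h3
    refine hx (h⁻¹ * g * h⁻¹⁻¹) ?_ h3
    intro h4
    apply hg
    have : g = h * (h⁻¹ * g * h⁻¹⁻¹) * h⁻¹ := by group
    rw [this, h4]; group
  refine ⟨U, ⟨genericPoint X, (hUmem _).mpr hFne⟩, ?_, ?_⟩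
  · intro g
    refine le_antisymm ?_ (hsub g)
    intro x hx
    have h5 := hsub g⁻¹ hx
    change (ρ g⁻¹).hom ((ρ g).hom x) ∈ U at h5
    rw [← Scheme.Hom.comp_apply, ← hmul, inv_mul_cancel, hone] at h5
    exact h5
  · intro K _ x hx g hxg
    by_contra hg
    have hcond : x ≫ (ρ g).hom = x ≫ 𝟙 X := by rw [hxg, Category.comp_id]
    let pt : Spec (CommRingCat.of K) := default
    have h6 : x pt ∈ F g := by
      refine ⟨Limits.equalizer.lift x hcond pt, ?_⟩
      rw [← Scheme.Hom.comp_apply, Limits.equalizer.lift_ι]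
    exact (hUmem _).mp (hx ⟨pt, rfl⟩) g hg h6

end Groth.Agent.S15701
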