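import Groth.Statements.S15705
import Mathlib
import Groth.Agent.Lib.Helper17.InvFracA
import Groth.Agent.Lib.Helper17.InvFracB
import Groth.Agent.Lib.Helper21.RLr

set_option autoImplicit false
universe u
open GLin

namespace Groth.Agent.S15705

/-- Let k be algebraically closed of characteristic zero, G a linear algebraic group and X a factorial
affine G-variety with k[X]* = k*; then there is a G-invariant affine open U of X such that the field
of G-invariant rational functions is the fraction field of k[U]^G. In coordinate-ring form: A is a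
commutative Hopf algebra of finite type over k coacting by an algebra map on B, a finitely generated
k-algebra which is a domain and a unique factorisation monoid all of whose units are scalars;
k-points φ : A →ₐ[k] k of G act on B through the coaction. Conclusion: there is h ≠ 0 in B with D(h)
stable under every φ (φ·h divides a power of h) such that whenever a, b ∈ B, b ≠ 0, satisfy (φ·a) b
= a (φ·b) for all φ (the fraction a/b is invariant), there are c, d ∈ B and exponents r, t with d ≠
0, with c/h^r and d/h^t invariant in B[1/h] — that is (φ·c) h^r = c (φ·h)^r and (φ·d) h^t = d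
(φ·h)^t for all φ — and a d h^r = b c h^t (so a/b = (c/h^r)/(d/h^t)). -/
theorem result (k : Type u) [Field k] [IsAlgClosed k] [CharZero k]
    (A : Type u) [CommRing A] [HopfAlgebra k A] [Algebra.FiniteType k A]
    (B : Type u) [CommRing B] [Algebra k B] [Algebra.FiniteType k B] [IsDomain B] [UniqueFactorizationMonoid B]
    (hunits : ∀ u : Bˣ, ∃ c : k, algebraMap k B c = u)
    [HopfRep.Comod k A B] [GLin.IsCoactAlg k A B] :
    ∃ h : B, h ≠ 0 ∧ (∀ φ : A →ₐ[k] k, ∃ (N : ℕ) (u : B), HopfRep.Comod.act k A B φ h * u = h ^ N) ∧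
      ∀ a b : B, b ≠ 0 → (∀ φ : A →ₐ[k] k, HopfRep.Comod.act k A B φ a * b = a * HopfRep.Comod.act k A B φ b) →
        ∃ (c d : B) (r t : ℕ), d ≠ 0 ∧
          (∀ φ : A →ₐ[k] k, HopfRep.Comod.act k A B φ c * h ^ r = c * (HopfRep.Comod.act k A B φ h) ^ r) ∧
          (∀ φ : A →ₐ[k] k, HopfRep.Comod.act k A B φ d * h ^ t = d * (HopfRep.Comod.act k A B φ h) ^ t) ∧
          a * d * h ^ r = b * c * h ^ t := by
  classical
  have hfgtop : (⊤ : IntermediateField k (FractionRing B)).FG :=
    IntermediateField.fg_top k (FractionRing B)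
  have hfg : ∀ L : IntermediateField k (FractionRing B), L.FG :=
    fun L => Groth.Agent.Lib.Helper21.RLr.fg_of_fg_top hfgtop L
  obtain ⟨h, hh0, hstab, hmain⟩ :=
    Groth.Agent.Lib.Helper17.InvFrac.main_abstract (k := k) (B := B)
      (fun φ : A →ₐ[k] k => Groth.Agent.Lib.Helper17.InvFrac.actEquiv k A B φ)
      (fun φ => ⟨Groth.Agent.Lib.Helper17.InvFrac.invPt k A φ,
        Groth.Agent.Lib.Helper17.InvFrac.actEquiv_symm k A B φ⟩) hfg
  simp only [Groth.Agent.Lib.Helper17.InvFrac.actEquiv_apply] at hstab hmain
  refine ⟨h, hh0, fun φ => ?_, hmain⟩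
  obtain ⟨u, hu⟩ := hstab φ
  exact ⟨1, u, by rw [hu, pow_one]⟩

end Groth.Agent.S15705
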