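import Groth.Statements.S1571
-- import your own Groth.Agent.* helpers here

set_option autoImplicit false
universe u
open CategoryTheory CategoryTheory.Limits AlgebraicGeometry
open Divisors

namespace Groth.Agent.S1571

theorem compl_inf_eq_basicOpen (S : Scheme.{u}) (D : S.IdealSheafData) (U : S.affineOpens)
    (f : Γ(S, U.1)) (hf : D.ideal U = Ideal.span {f}) :
    (D.support.compl : S.Opens) ⊓ U.1 = S.basicOpen f := by
  ext x
  simp only [TopologicalSpace.Opens.coe_inf, Set.mem_inter_iff, SetLike.mem_coe]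
  constructor
  · rintro ⟨hx, hxU⟩
    by_contra hxf
    apply hx
    change x ∈ D.support
    rw [Scheme.IdealSheafData.mem_support_iff_of_mem (U := U) hxU, hf, Scheme.zeroLocus_span,
      Scheme.zeroLocus_singleton]
    exact hxf
  · intro hxf
    have hxU : x ∈ U.1 := S.basicOpen_le f hxf
    refine ⟨?_, hxU⟩
    intro hx
    change x ∈ D.support at hx
    rw [Scheme.IdealSheafData.mem_support_iff_of_mem (U := U) hxU, hf, Scheme.zeroLocus_span,
      Scheme.zeroLocus_singleton] at hx
    exact hx hxf

/-- The open complement of an effective Cartier divisor is an affine open immersion and is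
scheme-theoretically dense. -/
theorem result (S : Scheme.{u}) (D : S.IdealSheafData) (hD : BlowUp.IsEffCartierIdeal D) :
    IsAffineHom (Scheme.Opens.ι (X := S) D.support.compl) ∧ IsSchemeTheoreticallyDominant (Scheme.Opens.ι (X := S) D.support.compl) := by
  set W : S.Opens := D.support.compl with hW
  have key : ∀ (U : S.affineOpens) (f : Γ(S, U.1)), D.ideal U = Ideal.span {f} →
      W.ι ''ᵁ (W.ι ⁻¹ᵁ U.1) = S.basicOpen f := by
    intro U f hf
    rw [Scheme.Hom.image_preimage_eq_opensRange_inf, Scheme.Opens.opensRange_ι]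
    exact compl_inf_eq_basicOpen S D U f hf
  have h1 : IsAffineHom W.ι := by
    apply isAffineHom_of_forall_exists_isAffineOpen
    intro x
    obtain ⟨U, hxU, f, hf, hfD⟩ := hD x
    refine ⟨U.1, hxU, U.2, ?_⟩
    rw [← (W.ι).isAffineOpen_iff_of_isOpenImmersion, key U f hfD]
    exact U.2.basicOpen f
  refine ⟨h1, ?_⟩
  rw [isSchemeTheoreticallyDominant_iff]
  choose U hxU f hf hfD using hD
  refine Scheme.IdealSheafData.ext_of_iSup_eq_top U ?_ ?_
  · exact top_le_iff.mp (fun x _ ↦ by simpa using ⟨x, hxU x⟩)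
  · intro x
    rw [Scheme.Hom.ker_apply, Scheme.IdealSheafData.ideal_bot]
    simp only [Pi.bot_apply]
    rw [← RingHom.injective_iff_ker_eq_bot, injective_iff_map_eq_zero]
    intro s hs
    have hk := key (U x) (f x) (hfD x)
    have hle : S.basicOpen (f x) ≤ W.ι ''ᵁ (W.ι ⁻¹ᵁ (U x).1) := hk.ge
    have hle' : W.ι ''ᵁ (W.ι ⁻¹ᵁ (U x).1) ≤ (U x).1 := hk.le.trans (S.basicOpen_le _)
    have hs' : (S.presheaf.map (homOfLE hle').op).hom s = 0 := hs
    have h2 : algebraMap Γ(S, (U x).1) Γ(S, S.basicOpen (f x)) s = 0 := by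
      have : algebraMap Γ(S, (U x).1) Γ(S, S.basicOpen (f x)) s =
          (S.presheaf.map (homOfLE hle).op).hom ((S.presheaf.map (homOfLE hle').op).hom s) := by
        change (S.presheaf.map (homOfLE (S.basicOpen_le (f x))).op).hom s = _
        rw [← CommRingCat.comp_apply, ← Functor.map_comp]
        rfl
      rw [this, hs', map_zero]
    have := (U x).2.isLocalization_basicOpen (f x)
    rw [IsLocalization.map_eq_zero_iff (Submonoid.powers (f x))] at h2
    obtain ⟨⟨_, n, rfl⟩, hn⟩ := h2
    exact (pow_mem (hf x) n).1 s hn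

end Groth.Agent.S1571
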