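import Groth.Statements.S15712
import Mathlib
import Groth.Agent.Lib.Helper17.S1Dense

set_option autoImplicit false
universe u
open CategoryTheory AlgebraicGeometry TopologicalSpace
open RatSing

namespace Groth.Agent.S15712

/-- Let X be a locally Noetherian scheme with Serre's property (S_1), i.e. every local ring O_{X,x} has
depth at least min(1, dim O_{X,x}) (for instance X Cohen–Macaulay), and let U ⊆ X be open. Then
scheme-theoretic density of U in X is equivalent to U being dense as a subset. (The published
statement assumes every scheme excellent, in particular locally Noetherian.) -/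
theorem result (X : Scheme.{u}) [IsLocallyNoetherian X]
    (hS1 : ∀ x : X, min (1 : WithBot ℕ∞) (ringKrullDim (X.presheaf.stalk x)) ≤
      ((LocCoh.depth (X.presheaf.stalk x) (X.presheaf.stalk x) : ℕ∞) : WithBot ℕ∞))
    (U : X.Opens) : CInt.IsSchematicallyDense U ↔ Dense (U : Set X) := by
  constructor
  · exact Groth.Agent.Lib.Helper17.S1Dense.dense_of_isSchematicallyDense U
  · intro hU W
    refine Groth.Agent.Lib.Helper17.AffRes.res_injective_of_affine (Coh.structureModule X) U ?_ W
    intro V hV
    obtain ⟨ι, hι, a, haU, hcov⟩ :=
      Groth.Agent.Lib.Helper17.FlatHartogs.exists_finite_basicOpen_cover hV U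
    haveI := hι
    haveI : (Coh.structureModule X).IsQuasicoherent :=
      Groth.Agent.Lib.Helper3.QCOpen.isQuasicoherent_structureModule X
    exact Groth.Agent.Lib.Helper17.SecClosed.res_injective_of_pure (Coh.structureModule X) hV a
      inf_le_left haU
      (Groth.Agent.Lib.Helper17.S1Dense.pure_of_dense_of_S1 hV hS1 U hU a hcov)

end Groth.Agent.S15712
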