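import Groth.Statements.S15715
import Mathlib
import Groth.Agent.Lib.Helper17.PureNZD
import Groth.Agent.Lib.Helper17.FlatHartogs
import Groth.Agent.Lib.Helper17.PbFlat

set_option autoImplicit false
universe u
open CategoryTheory AlgebraicGeometry TopologicalSpace
open RatSing

namespace Groth.Agent.S15715

/-- Let X be a locally Noetherian scheme, φ : F → G a homomorphism of O_X-modules with F quasi-coherent
and torsion-free (over every affine open V, no nonzero section of F is killed by a regular element
of O_X(V)), and U a scheme-theoretically dense open subset of X such that the restriction of φ to U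
is injective. Then φ is injective. (The published statement allows an arbitrary O_X-module F; for
the skyscraper sheaf on the affine line over a field, placed at a closed point with value the local
ring at that point, which is torsion-free in this sense, the zero map to the zero module is
injective over the dense open complement of the point but not injective. This row takes F
quasi-coherent.) -/
theorem result (X : Scheme.{u})
    [IsLocallyNoetherian X] (F G : X.Modules) (hF : Coh.IsQCoh F)
    (htf : ∀ V : X.affineOpens, Submodule.torsion Γ(X, V.1) (F.val.obj (Opposite.op V.1)) = ⊥)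
    (φ : F ⟶ G) (U : X.Opens) (hU : CInt.IsSchematicallyDense U)
    (hφU : ∀ V : X.Opens, V ≤ U → Function.Injective ⇑(ConcreteCategory.hom (φ.val.app (Opposite.op V)))) (V : X.Opens) :
    Function.Injective ⇑(ConcreteCategory.hom (φ.val.app (Opposite.op V))) := by
  haveI : F.IsQuasicoherent := hF
  have hmono : Mono φ := by
    apply Groth.Agent.Lib.Helper17.PbFlat.mono_of_injective_on_basis
    intro W x hx
    obtain ⟨V, hV, hxV, hVW⟩ := Groth.Agent.Lib.Helper17.ZClosKit.exists_affine_nbhd_le x W hx
    refine ⟨V, hxV, hVW, ?_⟩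
    intro s₁ s₂ h12
    obtain ⟨ι, hι, a, haU, hcov⟩ :=
      Groth.Agent.Lib.Helper17.FlatHartogs.exists_finite_basicOpen_cover hV U
    haveI := hι
    haveI : IsNoetherianRing Γ(X, V) := IsLocallyNoetherian.component_noetherian ⟨V, hV⟩
    have hpure : Groth.Agent.Lib.Helper17.FlatClosedAlg.Pure a Γ(X, V) :=
      Groth.Agent.Lib.Helper17.SecClosed.pure_of_res_injective (Coh.structureModule X) hV a
        inf_le_left haU hcov (hU V)
    obtain ⟨b, hbI, hb⟩ := Groth.Agent.Lib.Helper17.PureNZD.exists_nonZeroDivisor_of_pure a hpure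
    have h1 : Groth.Agent.Lib.Helper3.QCSec.res F (inf_le_left : V ⊓ U ≤ V) s₁ =
        Groth.Agent.Lib.Helper3.QCSec.res F (inf_le_left : V ⊓ U ≤ V) s₂ := by
      apply hφU (V ⊓ U) inf_le_right
      have e1 := Groth.Agent.Lib.Helper3.QCExact.app_res' φ (inf_le_left : V ⊓ U ≤ V) s₁
      have e2 := Groth.Agent.Lib.Helper3.QCExact.app_res' φ (inf_le_left : V ⊓ U ≤ V) s₂
      exact e1.trans ((congrArg _ h12).trans e2.symm)
    have h2 : ∀ i, ∃ k : ℕ, a i ^ k • (s₁ - s₂) = 0 := fun i =>
      (Groth.Agent.Lib.Helper17.SecClosed.res_basicOpen_eq_zero_iff F hV (a i) (s₁ - s₂)).1 (by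
        rw [← Groth.Agent.Lib.Helper3.QCSec.res_res F (haU i) inf_le_left,
          Groth.Agent.Lib.Helper3.QCSec.res_sub, h1, sub_self,
          Groth.Agent.Lib.Helper3.QCSec.res_zero])
    obtain ⟨N, hN⟩ :=
      Groth.Agent.Lib.Helper17.PureNZD.exists_pow_smul_eq_zero a (s₁ - s₂) h2 b hbI
    have h3 : (s₁ - s₂) ∈ Submodule.torsion Γ(X, V) Γ(F, V) :=
      (Submodule.mem_torsion_iff _).2 ⟨⟨b ^ N, pow_mem hb N⟩, hN⟩
    have h4 := htf ⟨V, hV⟩
    have h5 : (s₁ - s₂) ∈ Submodule.torsion Γ(X, (⟨V, hV⟩ : X.affineOpens).1)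
        (F.val.obj (Opposite.op (⟨V, hV⟩ : X.affineOpens).1)) := h3
    rw [h4] at h5
    exact sub_eq_zero.1 ((Submodule.mem_bot _).1 h5)
  exact (Groth.Agent.Lib.Helper3.QCProps.mono_iff_app_injective φ).1 hmono V

end Groth.Agent.S15715
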