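import Groth.Statements.S15717
import Groth.Agent.Lib.Helper4.CMChain
import Groth.Agent.Lib.Helper4.CM2

set_option autoImplicit false
universe u
open CAlg

namespace Groth.Agent.S15717

/-- Let R be a Cohen–Macaulay local ring and I an ideal of R with R/I equidimensional (all minimal
primes p over I have the same dim R/p). Then there is a regular sequence r_1, ..., r_n in I such
that the closed subscheme V(r_1, ..., r_n) of Spec R, a local complete intersection, contains V(I),
has the same dimension as V(I), and has the irreducible components of V(I) among its irreducible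
components: dim R/(r_1, ..., r_n) = dim R/I and every minimal prime over I is a minimal prime over
(r_1, ..., r_n). The sequence is asked to be weakly regular (each r_i a non-zero-divisor modulo the
previous ones), which for I proper is the same as regular and which also covers I = R with the
sequence (1). -/
theorem result (R : Type u) [CommRing R]
    [LocCoh.IsCohenMacaulayLocalRing R] (I : Ideal R)
    (hI : ∀ p ∈ I.minimalPrimes, ringKrullDim (R ⧸ p) = ringKrullDim (R ⧸ I)) :
    ∃ rs : List R, RingTheory.Sequence.IsWeaklyRegular R rs ∧ Ideal.ofList rs ≤ I ∧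
      ringKrullDim (R ⧸ Ideal.ofList rs) = ringKrullDim (R ⧸ I) ∧
      I.minimalPrimes ⊆ (Ideal.ofList rs).minimalPrimes := by
  by_cases htop : I = ⊤
  · subst htop
    refine ⟨[1], ?_, le_top, ?_, ?_⟩
    · rw [RingTheory.Sequence.isWeaklyRegular_singleton_iff]
      exact IsSMulRegular.one _
    · have : Ideal.ofList ([1] : List R) = ⊤ := by
        rw [Ideal.ofList_singleton, Ideal.span_singleton_one]
      rw [this]
    · rw [Ideal.minimalPrimes_top]
      exact Set.empty_subset _
  · have hM : LocCoh.IsCohenMacaulayModule R R :=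
      LocCoh.IsCohenMacaulayLocalRing.supportDim_eq_depth
    have hsupp : Module.support R R = Set.univ := by
      rw [Module.support_of_algebra]
      have hk : RingHom.ker (algebraMap R R) = ⊥ :=
        (RingHom.injective_iff_ker_eq_bot _).mp (fun a b h => h)
      rw [hk]
      simp
    have hIM : I • (⊤ : Submodule R R) ≠ ⊤ := by
      rw [smul_eq_mul, Ideal.mul_top]
      exact htop
    obtain ⟨n, hn⟩ := ENat.ne_top_iff_exists.mp (Groth.Agent.Lib.Helper4.idealDepth_ne_top I hIM)
    obtain ⟨rs, hlen, hmem, hreg⟩ :=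
      Groth.Agent.Lib.Helper4.exists_isWeaklyRegular_of_le_idealDepth I hIM n hn.le
    have hrsI : Ideal.ofList rs ≤ I := Ideal.span_le.mpr (fun r hr => hmem r hr)
    have hIm : I ≤ IsLocalRing.maximalIdeal R := IsLocalRing.le_maximalIdeal htop
    have hregular : RingTheory.Sequence.IsRegular R rs :=
      Groth.Agent.Lib.Helper4.isRegular_of_isWeaklyRegular_of_mem I hIM hreg hmem
    have h1 := Groth.Agent.Lib.Helper4.cm_supportDim_eq_add_idealDepth I htop hM
    have h2 := Module.supportDim_add_length_eq_supportDim_of_isRegular rs hregular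
    have eI : ∀ J : Ideal R, Module.supportDim R (R ⧸ J • (⊤ : Submodule R R)) =
        ringKrullDim (R ⧸ J) := fun J => by
      rw [show J • (⊤ : Submodule R R) = J from by rw [smul_eq_mul, Ideal.mul_top]]
      exact Module.supportDim_quotient_eq_ringKrullDim J
    have hnat : ∀ J : Ideal R, J ≠ ⊤ → ∃ d : ℕ, ringKrullDim (R ⧸ J) = ((d : ℕ∞) : WithBot ℕ∞) := by
      intro J hJ
      haveI : Nontrivial (R ⧸ J) := Ideal.Quotient.nontrivial_iff.mpr hJ
      obtain ⟨d, hd⟩ := Groth.Agent.Lib.Helper4.exists_nat_supportDim (R := R) (M := R ⧸ J)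
      rw [Module.supportDim_quotient_eq_ringKrullDim] at hd
      exact ⟨d, hd⟩
    obtain ⟨D, hD⟩ := Groth.Agent.Lib.Helper4.exists_nat_supportDim (R := R) (M := R)
    obtain ⟨dI, hdI⟩ := hnat I htop
    have hrstop : Ideal.ofList rs ≠ ⊤ := fun e => htop (top_le_iff.mp (e ▸ hrsI))
    obtain ⟨drs, hdrs⟩ := hnat _ hrstop
    rw [eI, hD, hdI, ← hn] at h1
    rw [eI, hD, hdrs, hlen] at h2
    have e1 : D = dI + n := by exact_mod_cast h1
    have e2 : drs + n = D := by exact_mod_cast h2
    have hDR : ringKrullDim R = ((D : ℕ∞) : WithBot ℕ∞) := by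
      rw [← Module.supportDim_self_eq_ringKrullDim]
      exact hD
    have hht : ∀ (q : Ideal R) (hq : q.IsPrime) (dq : ℕ),
        ringKrullDim (R ⧸ q) = ((dq : ℕ∞) : WithBot ℕ∞) → ∃ h : ℕ, q.height = h ∧ h + dq = D := by
      intro q hq dq hdq
      have h3 := Groth.Agent.Lib.Helper4.cm_height_add_ringKrullDim_quotient hM hsupp ⟨q, hq⟩
      obtain ⟨h, hh⟩ := ENat.ne_top_iff_exists.mp (Ideal.height_ne_top hq.ne_top)
      refine ⟨h, hh.symm, ?_⟩
      simp only at h3
      rw [hdq, hDR, ← hh] at h3
      exact_mod_cast h3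
    refine ⟨rs, hreg, hrsI, ?_, ?_⟩
    · rw [hdrs, hdI]
      have : drs = dI := by omega
      rw [this]
    · intro p hp
      have hpp : p.IsPrime := hp.1.1
      have hdp : ringKrullDim (R ⧸ p) = ((dI : ℕ∞) : WithBot ℕ∞) := (hI p hp).trans hdI
      obtain ⟨hp_n, hph, hpe⟩ := hht p hpp dI hdp
      refine ⟨⟨hpp, hrsI.trans hp.1.2⟩, fun q hq hqp => ?_⟩
      by_contra hnle
      have hlt : q < p := lt_of_le_of_ne hqp (fun e => hnle (e ▸ le_rfl))
      haveI := hq.1
      haveI := hpp
      have hlt' : q.height < p.height := Ideal.height_strict_mono_of_isPrime hlt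
      obtain ⟨dq, hdq⟩ := hnat q hq.1.ne_top
      obtain ⟨hq_n, hqh, hqe⟩ := hht q hq.1 dq hdq
      have hle : ringKrullDim (R ⧸ q) ≤ ringKrullDim (R ⧸ Ideal.ofList rs) :=
        ringKrullDim_le_of_surjective (Ideal.Quotient.factor hq.2)
          (Ideal.Quotient.factor_surjective hq.2)
      rw [hdq, hdrs] at hle
      have hle' : dq ≤ drs := by exact_mod_cast hle
      rw [hph, hqh] at hlt'
      have : hq_n < hp_n := by exact_mod_cast hlt'
      omega

end Groth.Agent.S15717
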