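import Groth.Statements.S15723
import Mathlib
import Groth.Agent.Lib.Helper26.AwayPrimes
import Groth.Agent.Lib.Helper23.CosetAvoid


set_option autoImplicit false
universe u v
open CAlg

namespace Groth.Agent.S15723

open Groth.Agent.Lib.Helper26.AwayPrimes

/-- Let A be a Noetherian commutative ring graded by the natural numbers, J a homogeneous ideal of
uniform geometric height h (the height of the homogeneous localization J_(f) in the degree-zero ring
A_(f) is h for every homogeneous f of positive degree outside the radical of J), and q_1, ..., q_t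
finitely many prime ideals none of which contains J or the irrelevant ideal A_+. Then there are
homogeneous elements z_1, ..., z_h of positive degree, lying in J and in no q_i, such that for every
homogeneous f of positive degree outside the radical of J and every 1 ≤ j ≤ h the ideal (z_1, ...,
z_j) has geometric height j with respect to f. (The published statement lets f range over all
homogeneous elements outside the radical of J, degree 0 included; then it fails: in A = k[t][x] with
t of degree 0 and x of degree 1, the ideal J = (t) has geometric height 1 with respect to every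
homogeneous f outside its radical, f = 1 included, while (z)_(1) = 0 has height 0 for every
homogeneous z of positive degree. This row takes f of positive degree, in the hypothesis and in the
conclusion.) -/
theorem result {R : Type u} {A : Type v} [CommRing R] [CommRing A]
    [Algebra R A] [IsNoetherianRing A] (𝒜 : ℕ → Submodule R A) [GradedRing 𝒜]
    (J : Ideal A) (hJ : J.IsHomogeneous 𝒜) (h : ℕ) (hJh : W4c2ratsingkovacs.HasUniformGeomHeight 𝒜 J h)
    (P : Finset (Ideal A)) (hP : ∀ q ∈ P, q.IsPrime ∧ ¬ J ≤ q ∧ ¬ (HomogeneousIdeal.irrelevant 𝒜).toIdeal ≤ q) :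
    ∃ zs : List A, zs.length = h ∧
      (∀ z ∈ zs, (∃ n : ℕ, 0 < n ∧ z ∈ 𝒜 n) ∧ z ∈ J ∧ ∀ q ∈ P, z ∉ q) ∧
      ∀ (f : A) (n : ℕ), 0 < n → f ∈ 𝒜 n → f ∉ J.radical →
        ∀ j : ℕ, 1 ≤ j → j ≤ h → W4c2ratsingkovacs.geomHeight 𝒜 (Ideal.ofList (zs.take j)) f = j := by
  classical
  have hbuild : ∀ n : ℕ, ∃ ws : List A, ws.length = n ∧
      GoodR 𝒜 J (HomogeneousIdeal.irrelevant 𝒜).toIdeal ws ∧
      ∀ z ∈ ws, z ∈ J ∧ ∀ q ∈ P, z ∉ q := by
    intro n
    induction n with
    | zero => exact ⟨[], rfl, trivial, fun z hz => absurd hz List.not_mem_nil⟩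
    | succ n ih =>
      obtain ⟨ws, hlen, hg, hz⟩ := ih
      have hfin := Ideal.finite_minimalPrimes_of_isNoetherianRing A (Ideal.ofList ws)
      let Q : Finset (Ideal A) := P ∪ hfin.toFinset.filter
        (fun p' => ¬ J ≤ p' ∧ ¬ (HomogeneousIdeal.irrelevant 𝒜).toIdeal ≤ p')
      have hQ : ∀ p ∈ Q, p.IsPrime ∧ ¬ (HomogeneousIdeal.irrelevant 𝒜).toIdeal ≤ p ∧ ¬ J ≤ p := by
        intro p hp
        rcases Finset.mem_union.mp hp with hp | hp
        · obtain ⟨h1, h2, h3⟩ := hP p hp
          exact ⟨h1, h3, h2⟩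
        · rw [Finset.mem_filter, Set.Finite.mem_toFinset] at hp
          exact ⟨hp.1.1.1, hp.2.2, hp.2.1⟩
      obtain ⟨z, k, hk, hzk, hzJ, hzQ⟩ :=
        Groth.Agent.Lib.Helper23.CosetAvoid.exists_homogeneous_posDeg_mem_avoid_primes 𝒜 J hJ Q hQ
      refine ⟨z :: ws, by rw [List.length_cons, hlen], ⟨hg, ⟨k, hk, hzk⟩, ?_⟩, ?_⟩
      · intro p' hp' hzp'
        by_contra hcon
        exact hzQ p' (Finset.mem_union_right _ (Finset.mem_filter.mpr
          ⟨hfin.mem_toFinset.mpr hp', not_or.mp hcon⟩)) hzp'
      · intro w hw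
        rcases List.mem_cons.mp hw with rfl | hw
        · exact ⟨hzJ, fun q hq => hzQ q (Finset.mem_union_left _ hq)⟩
        · exact hz w hw
  obtain ⟨ws, hlen, hg, hz⟩ := hbuild h
  refine ⟨ws.reverse, by rw [List.length_reverse, hlen], ?_, ?_⟩
  · intro z hzm
    rw [List.mem_reverse] at hzm
    exact ⟨GoodR.homog hg z hzm, hz z hzm⟩
  · intro f n hn hf hfJ j hj1 hjh
    have hset : Ideal.ofList (ws.reverse.take j) = Ideal.ofList (ws.drop (ws.length - j)) := by
      rw [List.take_reverse]
      exact congrArg Ideal.span (Set.ext fun x => List.mem_reverse)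
    show (locI 𝒜 (Ideal.ofList (ws.reverse.take j)) f).height = (j : ℕ∞)
    rw [hset]
    have hg' := GoodR.drop hg (ws.length - j)
    have hlen' : (ws.drop (ws.length - j)).length = j := by
      rw [List.length_drop]
      omega
    apply le_antisymm
    · have h1 := height_locI_ofList_le 𝒜 hf hn J hfJ (ws.drop (ws.length - j))
        (fun z hzm => ⟨GoodR.homog hg' z hzm, (hz z (List.mem_of_mem_drop hzm)).1⟩)
      rw [hlen'] at h1
      exact h1
    · rw [Ideal.height_eq_inf_minimalPrimes]
      refine le_iInf₂ fun 𝔓 h𝔓 => ?_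
      have h2 := le_height_of_goodR 𝒜 hf hn J h (hJh f n hn hf hfJ) _ hg'
        (by rw [hlen']; exact hjh) 𝔓 h𝔓.1.1 h𝔓.1.2
      rw [hlen'] at h2
      exact h2

end Groth.Agent.S15723
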