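import Groth.Statements.S15724
-- import your own Groth.Agent.* helpers here
import Mathlib
import Groth.Agent.Lib.Helper23.W5

set_option autoImplicit false
universe u
open W4c2invhilbsl2

namespace Groth.Agent.S15724

open MvPolynomial Groth.Agent.Lib.Helper23 in
theorem aux1 (k : Type u) [Field k] (p q m : ℕ) (hp : 0 < p) (hpq : p < q) (d : Fin 5 →₀ ℕ) (cf : k)
    (hd : Finsupp.weight (W4c2invhilbsl2.wt5 p q m) d = W4c2invhilbsl2.wt5 p q m 1) :
    ∃ a b : MvPolynomial (Fin 5) k,
      a ∈ weightedHomogeneousSubmodule k (W4c2invhilbsl2.wt5 p q m) 0 ∧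
      b ∈ weightedHomogeneousSubmodule k (W4c2invhilbsl2.wt5 p q m) 0 ∧
      monomial d cf = a * X (1 : Fin 5) + b * X (2 : Fin 5) := by
  have hd' := hd
  rw [W5.aux_weight5, W5.wt5_one, Prod.ext_iff] at hd'
  obtain ⟨hd1, -⟩ := hd'
  simp only at hd1
  have hpq' : (p : ℤ) < q := by exact_mod_cast hpq
  have hp' : (0 : ℤ) < p := by exact_mod_cast hp
  have h12 : 1 ≤ d 1 ∨ 1 ≤ d 2 := by
    by_contra hcon
    push Not at hcon
    have h1 : d 1 = 0 := by omega
    have h2 : d 2 = 0 := by omega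
    rw [h1, h2] at hd1
    have hq3 : (0 : ℤ) ≤ (q : ℤ) * ((d 3 : ℤ) + d 4) := by positivity
    have hd0 : (0 : ℤ) ≤ d 0 := Int.natCast_nonneg _
    simp only [Nat.cast_zero, add_zero, mul_zero, sub_zero] at hd1
    linarith
  rcases h12 with h | h
  · obtain ⟨hw, hfac⟩ := W5.aux_div (k := k) (W4c2invhilbsl2.wt5 p q m) (Finsupp.single (1 : Fin 5) 1) d cf
      (by intro j; fin_cases j <;> simp [h])
    refine ⟨monomial (d - Finsupp.single 1 1) cf, 0, W5.monomial_mem_zero _ _ _ ?_, Submodule.zero_mem _, ?_⟩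
    · rw [hw, hd, Finsupp.weight_single, one_smul, sub_self]
    · rw [zero_mul, add_zero]; exact hfac
  · obtain ⟨hw, hfac⟩ := W5.aux_div (k := k) (W4c2invhilbsl2.wt5 p q m) (Finsupp.single (2 : Fin 5) 1) d cf
      (by intro j; fin_cases j <;> simp [h])
    refine ⟨0, monomial (d - Finsupp.single 2 1) cf, Submodule.zero_mem _, W5.monomial_mem_zero _ _ _ ?_, ?_⟩
    · rw [hw, hd, Finsupp.weight_single, one_smul, W5.wt5_one, W5.wt5_two, sub_self]
    · rw [zero_mul, zero_add]; exact hfac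

open MvPolynomial Groth.Agent.Lib.Helper23 in
theorem aux2 (k : Type u) [Field k] (p q m : ℕ) (hp : 0 < p) (hpq : p < q) (d : Fin 5 →₀ ℕ) (cf : k)
    (hd : Finsupp.weight (W4c2invhilbsl2.wt5 p q m) d = W4c2invhilbsl2.wt5 p q m 3) :
    ∃ a b : MvPolynomial (Fin 5) k,
      a ∈ weightedHomogeneousSubmodule k (W4c2invhilbsl2.wt5 p q m) 0 ∧
      b ∈ weightedHomogeneousSubmodule k (W4c2invhilbsl2.wt5 p q m) 0 ∧
      monomial d cf - (a * X (3 : Fin 5) + b * X (4 : Fin 5)) ∈
        Ideal.span {X (0 : Fin 5) ^ (q - p) - X 1 * X 4 + X 2 * X 3} := by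
  have hd' := hd
  rw [W5.aux_weight5, W5.wt5_three, Prod.ext_iff] at hd'
  obtain ⟨hd1, -⟩ := hd'
  simp only at hd1
  have hpq' : (p : ℤ) < q := by exact_mod_cast hpq
  have hp' : (0 : ℤ) < p := by exact_mod_cast hp
  by_cases h3 : 1 ≤ d 3
  · obtain ⟨hw, hfac⟩ := W5.aux_div (k := k) (W4c2invhilbsl2.wt5 p q m) (Finsupp.single (3 : Fin 5) 1) d cf
      (by intro j; fin_cases j <;> simp [h3])
    refine ⟨monomial (d - Finsupp.single 3 1) cf, 0, W5.monomial_mem_zero _ _ _ ?_, Submodule.zero_mem _, ?_⟩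
    · rw [hw, hd, Finsupp.weight_single, one_smul, sub_self]
    · have h0 : monomial d cf - (monomial (d - Finsupp.single 3 1) cf * X (3 : Fin 5) + 0 * X (4 : Fin 5)) = 0 := by
        rw [zero_mul, add_zero, sub_eq_zero]; exact hfac
      rw [h0]; exact Ideal.zero_mem _
  · by_cases h4 : 1 ≤ d 4
    · obtain ⟨hw, hfac⟩ := W5.aux_div (k := k) (W4c2invhilbsl2.wt5 p q m) (Finsupp.single (4 : Fin 5) 1) d cf
        (by intro j; fin_cases j <;> simp [h4])
      refine ⟨0, monomial (d - Finsupp.single 4 1) cf, Submodule.zero_mem _, W5.monomial_mem_zero _ _ _ ?_, ?_⟩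
      · rw [hw, hd, Finsupp.weight_single, one_smul, W5.wt5_three, W5.wt5_four, sub_self]
      · have h0 : monomial d cf - (0 * X (3 : Fin 5) + monomial (d - Finsupp.single 4 1) cf * X (4 : Fin 5)) = 0 := by
          rw [zero_mul, zero_add, sub_eq_zero]; exact hfac
        rw [h0]; exact Ideal.zero_mem _
    · have h30 : d 3 = 0 := by omega
      have h40 : d 4 = 0 := by omega
      rw [h30, h40] at hd1
      have h0 : q - p ≤ d 0 := by
        have hp12 : (0 : ℤ) ≤ (p : ℤ) * ((d 1 : ℤ) + d 2) := by positivity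
        simp only [Nat.cast_zero, add_zero, mul_zero] at hd1
        have : ((q - p : ℕ) : ℤ) ≤ d 0 := by rw [Nat.cast_sub hpq.le]; linarith
        exact_mod_cast this
      obtain ⟨hw, hfac⟩ := W5.aux_div (k := k) (W4c2invhilbsl2.wt5 p q m) (Finsupp.single (0 : Fin 5) (q - p)) d cf
        (by intro j; fin_cases j <;> simp [h0])
      have hws : Finsupp.weight (W4c2invhilbsl2.wt5 p q m) (d - Finsupp.single (0 : Fin 5) (q - p))
          = ((p : ℤ), (1 : ZMod m)) := by
        rw [hw, hd, Finsupp.weight_single, W5.wt5_three, W5.wt5_zero]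
        ext <;> simp [Nat.cast_sub hpq.le]
      have hM' : IsWeightedHomogeneous (W4c2invhilbsl2.wt5 p q m)
          (monomial (d - Finsupp.single (0 : Fin 5) (q - p)) cf) ((p : ℤ), (1 : ZMod m)) :=
        isWeightedHomogeneous_monomial _ _ _ hws
      have hz : ((p : ℤ), (1 : ZMod m)) + (-(p : ℤ), (-1 : ZMod m)) = 0 := by
        ext <;> simp
      have hA : monomial (d - Finsupp.single (0 : Fin 5) (q - p)) cf * X (2 : Fin 5)
          ∈ weightedHomogeneousSubmodule k (W4c2invhilbsl2.wt5 p q m) 0 := by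
        rw [mem_weightedHomogeneousSubmodule]
        have := hM'.mul (isWeightedHomogeneous_X (R := k) (W4c2invhilbsl2.wt5 p q m) 2)
        rwa [W5.wt5_two, hz] at this
      have hB : monomial (d - Finsupp.single (0 : Fin 5) (q - p)) cf * X (1 : Fin 5)
          ∈ weightedHomogeneousSubmodule k (W4c2invhilbsl2.wt5 p q m) 0 := by
        rw [mem_weightedHomogeneousSubmodule]
        have := hM'.mul (isWeightedHomogeneous_X (R := k) (W4c2invhilbsl2.wt5 p q m) 1)
        rwa [W5.wt5_one, hz] at this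
      refine ⟨-(monomial (d - Finsupp.single (0 : Fin 5) (q - p)) cf * X (2 : Fin 5)),
        monomial (d - Finsupp.single (0 : Fin 5) (q - p)) cf * X (1 : Fin 5),
        Submodule.neg_mem _ hA, hB, ?_⟩
      rw [hfac, ← X_pow_eq_monomial]
      have hring : monomial (d - Finsupp.single (0 : Fin 5) (q - p)) cf * X (0 : Fin 5) ^ (q - p)
          - (-(monomial (d - Finsupp.single (0 : Fin 5) (q - p)) cf * X (2 : Fin 5)) * X (3 : Fin 5)
            + monomial (d - Finsupp.single (0 : Fin 5) (q - p)) cf * X (1 : Fin 5) * X (4 : Fin 5))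
          = monomial (d - Finsupp.single (0 : Fin 5) (q - p)) cf
            * (X (0 : Fin 5) ^ (q - p) - X 1 * X 4 + X 2 * X 3) := by ring
      rw [hring]
      exact Ideal.mul_mem_left _ _ (Ideal.subset_span rfl)

/-- Grade the polynomial ring k[X₀,…,X₄] over a field k by ℤ × ℤ/m, giving X₀ weight (1,0), X₁ and X₂
weight (−p,−1), and X₃ and X₄ weight (q,1), where 0 < p < q are coprime integers and m ≥ 1, and let
P be the principal ideal generated by the weight-zero element X₀^(q−p) − X₁X₄ + X₂X₃ (the equation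
of an affine hypersurface). Then every polynomial homogeneous of the weight of X₁ is congruent
modulo P to some a·X₁ + b·X₂ with a and b homogeneous of weight zero, and every polynomial
homogeneous of the weight of X₃ is congruent modulo P to some a·X₃ + b·X₄ with a and b homogeneous
of weight zero. Equivalently, in the coordinate ring of the hypersurface the weight pieces of the
weights of X₁ and of X₃ are generated over the weight-zero subring (the ring of invariants of the
diagonal action of a one-dimensional torus times the group of m-th roots of unity with these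
weights) by X₁, X₂ and by X₃, X₄ respectively. (For the weight of X₁ the congruence is already an
equality in the polynomial ring; for the weight of X₃ the hypersurface equation is needed, e.g.
X₀^(q+p)X₁ has that weight when m divides 2.) -/
theorem result (k : Type u) [Field k] (p q m : ℕ) (hp : 0 < p) (hpq : p < q) (hcop : Nat.Coprime p q) (hm : 0 < m) (f : MvPolynomial (Fin 5) k) :
    (f ∈ MvPolynomial.weightedHomogeneousSubmodule k (W4c2invhilbsl2.wt5 p q m) (W4c2invhilbsl2.wt5 p q m 1) →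
      ∃ a b : MvPolynomial (Fin 5) k, a ∈ MvPolynomial.weightedHomogeneousSubmodule k (W4c2invhilbsl2.wt5 p q m) 0 ∧ b ∈ MvPolynomial.weightedHomogeneousSubmodule k (W4c2invhilbsl2.wt5 p q m) 0 ∧
        f - (a * MvPolynomial.X (1 : Fin 5) + b * MvPolynomial.X (2 : Fin 5)) ∈ Ideal.span {MvPolynomial.X (0 : Fin 5) ^ (q - p) - MvPolynomial.X 1 * MvPolynomial.X 4 + MvPolynomial.X 2 * MvPolynomial.X 3}) ∧
    (f ∈ MvPolynomial.weightedHomogeneousSubmodule k (W4c2invhilbsl2.wt5 p q m) (W4c2invhilbsl2.wt5 p q m 3) →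
      ∃ a b : MvPolynomial (Fin 5) k, a ∈ MvPolynomial.weightedHomogeneousSubmodule k (W4c2invhilbsl2.wt5 p q m) 0 ∧ b ∈ MvPolynomial.weightedHomogeneousSubmodule k (W4c2invhilbsl2.wt5 p q m) 0 ∧
        f - (a * MvPolynomial.X (3 : Fin 5) + b * MvPolynomial.X (4 : Fin 5)) ∈ Ideal.span {MvPolynomial.X (0 : Fin 5) ^ (q - p) - MvPolynomial.X 1 * MvPolynomial.X 4 + MvPolynomial.X 2 * MvPolynomial.X 3}) := by
  refine ⟨fun hf => ?_, fun hf => ?_⟩
  · obtain ⟨a, b, ha, hb, heq⟩ := Groth.Agent.Lib.Helper23.W5.hom_induction (W4c2invhilbsl2.wt5 p q m)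
      (W4c2invhilbsl2.wt5 p q m 1)
      (fun g => ∃ a b : MvPolynomial (Fin 5) k,
        a ∈ MvPolynomial.weightedHomogeneousSubmodule k (W4c2invhilbsl2.wt5 p q m) 0 ∧
        b ∈ MvPolynomial.weightedHomogeneousSubmodule k (W4c2invhilbsl2.wt5 p q m) 0 ∧
        g = a * MvPolynomial.X (1 : Fin 5) + b * MvPolynomial.X (2 : Fin 5))
      ⟨0, 0, Submodule.zero_mem _, Submodule.zero_mem _, by simp⟩
      (by
        rintro g1 g2 ⟨a1, b1, ha1, hb1, rfl⟩ ⟨a2, b2, ha2, hb2, rfl⟩
        exact ⟨a1 + a2, b1 + b2, Submodule.add_mem _ ha1 ha2, Submodule.add_mem _ hb1 hb2, by ring⟩)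
      (fun d c hd => aux1 k p q m hp hpq d c hd) f hf
    refine ⟨a, b, ha, hb, ?_⟩
    rw [heq, sub_self]
    exact Ideal.zero_mem _
  · exact Groth.Agent.Lib.Helper23.W5.hom_induction (W4c2invhilbsl2.wt5 p q m)
      (W4c2invhilbsl2.wt5 p q m 3)
      (fun g => ∃ a b : MvPolynomial (Fin 5) k,
        a ∈ MvPolynomial.weightedHomogeneousSubmodule k (W4c2invhilbsl2.wt5 p q m) 0 ∧
        b ∈ MvPolynomial.weightedHomogeneousSubmodule k (W4c2invhilbsl2.wt5 p q m) 0 ∧
        g - (a * MvPolynomial.X (3 : Fin 5) + b * MvPolynomial.X (4 : Fin 5)) ∈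
          Ideal.span {MvPolynomial.X (0 : Fin 5) ^ (q - p) - MvPolynomial.X 1 * MvPolynomial.X 4 + MvPolynomial.X 2 * MvPolynomial.X 3})
      ⟨0, 0, Submodule.zero_mem _, Submodule.zero_mem _, by simp⟩
      (by
        rintro g1 g2 ⟨a1, b1, ha1, hb1, h1⟩ ⟨a2, b2, ha2, hb2, h2⟩
        refine ⟨a1 + a2, b1 + b2, Submodule.add_mem _ ha1 ha2, Submodule.add_mem _ hb1 hb2, ?_⟩
        have := Ideal.add_mem _ h1 h2
        convert this using 1
        ring)
      (fun d c hd => aux2 k p q m hp hpq d c hd) f hf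

end Groth.Agent.S15724
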