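import Groth.Statements.S15725
-- import your own Groth.Agent.* helpers here
import Mathlib

set_option autoImplicit false
universe u
open W4c2invhilbsl2

namespace Groth.Agent.S15725

open MvPolynomial in
theorem aux_weight (p q m : ℕ) (d : Fin 3 →₀ ℕ) :
    Finsupp.weight (W4c2invhilbsl2.wt3 p q m) d
      = ((d 0 : ℤ) - p * d 1 + q * d 2, ((d 2 : ZMod m) - d 1)) := by
  rw [Finsupp.weight_eq_sum, Fin.sum_univ_three]
  simp only [W4c2invhilbsl2.wt3]
  ext
  · simp <;> ring
  · simp <;> ring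

open MvPolynomial in
theorem aux_mono (k : Type u) [Field k] (p q m : ℕ) (hp : 0 < p) (hpq : p < q) (d : Fin 3 →₀ ℕ) (c : k)
    (hd : Finsupp.weight (W4c2invhilbsl2.wt3 p q m) d = ((q : ℤ) - (p : ℤ), (0 : ZMod m))) :
    ∃ a b : MvPolynomial (Fin 3) k,
      a ∈ weightedHomogeneousSubmodule k (W4c2invhilbsl2.wt3 p q m) 0 ∧
      b ∈ weightedHomogeneousSubmodule k (W4c2invhilbsl2.wt3 p q m) 0 ∧
      monomial d c = a * X (0 : Fin 3) ^ (q - p) + b * (X (1 : Fin 3) * X (2 : Fin 3)) := by
  classical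
  have hd' := hd
  rw [aux_weight, Prod.ext_iff] at hd'
  obtain ⟨hd1, hd2⟩ := hd'
  simp only at hd1 hd2
  have hpq' : (p : ℤ) < q := by exact_mod_cast hpq
  have hp' : (0 : ℤ) < p := by exact_mod_cast hp
  by_cases h0 : q - p ≤ d 0
  · have hsum : (d - Finsupp.single 0 (q - p)) + Finsupp.single 0 (q - p) = d := by
      ext i
      fin_cases i <;> simp [Finsupp.tsub_apply] <;> omega
    have hws : Finsupp.weight (W4c2invhilbsl2.wt3 p q m) (Finsupp.single (0 : Fin 3) (q - p))
        = ((q : ℤ) - p, (0 : ZMod m)) := by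
      rw [aux_weight]
      ext <;> simp [Nat.cast_sub hpq.le]
    have hw0 : Finsupp.weight (W4c2invhilbsl2.wt3 p q m) (d - Finsupp.single 0 (q - p)) = 0 := by
      have h := map_add (Finsupp.weight (W4c2invhilbsl2.wt3 p q m)) (d - Finsupp.single 0 (q - p))
        (Finsupp.single 0 (q - p))
      rw [hsum, hws, hd] at h
      exact add_eq_right.mp h.symm
    refine ⟨monomial (d - Finsupp.single 0 (q - p)) c, 0, ?_, Submodule.zero_mem _, ?_⟩
    · rw [mem_weightedHomogeneousSubmodule]
      exact isWeightedHomogeneous_monomial _ _ _ hw0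
    · rw [X_pow_eq_monomial, monomial_mul, hsum, mul_one, zero_mul, add_zero]
  · have h0' : (d 0 : ℤ) < q - p := by omega
    have hd0 : (0 : ℤ) ≤ d 0 := Int.natCast_nonneg _
    have h2 : 1 ≤ d 2 := by
      by_contra hcon
      have h20 : d 2 = 0 := by omega
      rw [h20] at hd1
      have : (0 : ℤ) ≤ (p : ℤ) * d 1 := by positivity
      simp only [Nat.cast_zero, mul_zero, add_zero] at hd1
      linarith
    have h1 : 1 ≤ d 1 := by
      by_contra hcon
      have h10 : d 1 = 0 := by omega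
      rw [h10] at hd1
      have h2' : (1 : ℤ) ≤ d 2 := by exact_mod_cast h2
      have := mul_le_mul_of_nonneg_left h2' (hp'.trans hpq').le
      simp only [Nat.cast_zero, mul_zero, sub_zero] at hd1
      linarith
    have hsum : (d - (Finsupp.single 1 1 + Finsupp.single 2 1)) + (Finsupp.single 1 1 + Finsupp.single 2 1) = d := by
      ext i
      fin_cases i <;> simp [Finsupp.tsub_apply] <;> omega
    have hws : Finsupp.weight (W4c2invhilbsl2.wt3 p q m)
        (Finsupp.single (1 : Fin 3) 1 + Finsupp.single (2 : Fin 3) 1) = ((q : ℤ) - p, (0 : ZMod m)) := by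
      rw [aux_weight]
      ext <;> simp <;> ring
    have hw0 : Finsupp.weight (W4c2invhilbsl2.wt3 p q m)
        (d - (Finsupp.single 1 1 + Finsupp.single 2 1)) = 0 := by
      have h := map_add (Finsupp.weight (W4c2invhilbsl2.wt3 p q m))
        (d - (Finsupp.single 1 1 + Finsupp.single 2 1)) (Finsupp.single 1 1 + Finsupp.single 2 1)
      rw [hsum, hws, hd] at h
      exact add_eq_right.mp h.symm
    refine ⟨0, monomial (d - (Finsupp.single 1 1 + Finsupp.single 2 1)) c, Submodule.zero_mem _, ?_, ?_⟩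
    · rw [mem_weightedHomogeneousSubmodule]
      exact isWeightedHomogeneous_monomial _ _ _ hw0
    · have hX : (X (1 : Fin 3) * X (2 : Fin 3) : MvPolynomial (Fin 3) k)
          = monomial (Finsupp.single 1 1 + Finsupp.single 2 1) 1 := by
        rw [X, X, monomial_mul, mul_one]
      rw [hX, monomial_mul, hsum, mul_one, zero_mul, zero_add]

/-- Grade the polynomial ring k[X₀,X₁,X₂] over a field k by ℤ × ℤ/m, giving X₀ weight (1,0), X₁ weight
(−p,−1) and X₂ weight (q,1), where 0 < p < q are coprime integers and m ≥ 1 (this three-variable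
ring stands for the subring k[X₀,X₁,Xⱼ], j = 3 or 4, of the five-variable ring with the same
weights). Then every polynomial homogeneous of weight (q−p, 0) can be written a·X₀^(q−p) + b·X₁X₂
with a and b homogeneous of weight zero; in other words the weight-(q−p, 0) piece is generated by
X₀^(q−p) and X₁X₂ as a module over the weight-zero subring. -/
theorem result (k : Type u) [Field k] (p q m : ℕ) (hp : 0 < p) (hpq : p < q) (hcop : Nat.Coprime p q) (hm : 0 < m) (f : MvPolynomial (Fin 3) k)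
    (hf : f ∈ MvPolynomial.weightedHomogeneousSubmodule k (W4c2invhilbsl2.wt3 p q m) ((q : ℤ) - (p : ℤ), (0 : ZMod m))) :
    ∃ a b : MvPolynomial (Fin 3) k, a ∈ MvPolynomial.weightedHomogeneousSubmodule k (W4c2invhilbsl2.wt3 p q m) 0 ∧ b ∈ MvPolynomial.weightedHomogeneousSubmodule k (W4c2invhilbsl2.wt3 p q m) 0 ∧
      f = a * MvPolynomial.X (0 : Fin 3) ^ (q - p) + b * (MvPolynomial.X (1 : Fin 3) * MvPolynomial.X (2 : Fin 3)) := by
  classical
  have hf' : f.IsWeightedHomogeneous (W4c2invhilbsl2.wt3 p q m) ((q : ℤ) - (p : ℤ), (0 : ZMod m)) :=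
    (MvPolynomial.mem_weightedHomogeneousSubmodule _ _ _ _).mp hf
  have key : ∃ a b : MvPolynomial (Fin 3) k,
      a ∈ MvPolynomial.weightedHomogeneousSubmodule k (W4c2invhilbsl2.wt3 p q m) 0 ∧
      b ∈ MvPolynomial.weightedHomogeneousSubmodule k (W4c2invhilbsl2.wt3 p q m) 0 ∧
      (∑ v ∈ f.support, MvPolynomial.monomial v (MvPolynomial.coeff v f))
        = a * MvPolynomial.X (0 : Fin 3) ^ (q - p) + b * (MvPolynomial.X (1 : Fin 3) * MvPolynomial.X (2 : Fin 3)) := by
    refine Finset.sum_induction _ (fun g => ∃ a b : MvPolynomial (Fin 3) k,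
      a ∈ MvPolynomial.weightedHomogeneousSubmodule k (W4c2invhilbsl2.wt3 p q m) 0 ∧
      b ∈ MvPolynomial.weightedHomogeneousSubmodule k (W4c2invhilbsl2.wt3 p q m) 0 ∧
      g = a * MvPolynomial.X (0 : Fin 3) ^ (q - p) + b * (MvPolynomial.X (1 : Fin 3) * MvPolynomial.X (2 : Fin 3))) ?_ ?_ ?_
    · rintro g1 g2 ⟨a1, b1, ha1, hb1, rfl⟩ ⟨a2, b2, ha2, hb2, rfl⟩
      exact ⟨a1 + a2, b1 + b2, Submodule.add_mem _ ha1 ha2, Submodule.add_mem _ hb1 hb2, by ring⟩
    · exact ⟨0, 0, Submodule.zero_mem _, Submodule.zero_mem _, by simp⟩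
    · intro d hd
      exact aux_mono k p q m hp hpq d _ (hf' (MvPolynomial.mem_support_iff.mp hd))
  rwa [MvPolynomial.support_sum_monomial_coeff] at key

end Groth.Agent.S15725
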