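import Groth.Statements.S15726
-- import your own Groth.Agent.* helpers here
import Mathlib
import Groth.Agent.Lib.Helper23.W5

set_option autoImplicit false
universe u
open W4c2invhilbsl2

namespace Groth.Agent.S15726

open MvPolynomial Groth.Agent.Lib.Helper23 in
theorem auxA (k : Type u) [Field k] (p q m : ℕ) (d : Fin 5 →₀ ℕ) (cf : k)
    (hd : Finsupp.weight (W4c2invhilbsl2.wt5 p q m) d = ((q : ℤ) - (p : ℤ), (0 : ZMod m)))
    (i j : Fin 5) (hi : W4c2invhilbsl2.wt5 p q m i = (-(p : ℤ), (-1 : ZMod m)))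
    (hj : W4c2invhilbsl2.wt5 p q m j = ((q : ℤ), (1 : ZMod m))) (hij : i ≠ j)
    (h1 : 1 ≤ d i) (h2 : 1 ≤ d j) :
    ∃ a : MvPolynomial (Fin 5) k,
      a ∈ weightedHomogeneousSubmodule k (W4c2invhilbsl2.wt5 p q m) 0 ∧
      monomial d cf = a * (X i * X j) := by
  classical
  obtain ⟨hw, hfac⟩ := W5.aux_div (k := k) (W4c2invhilbsl2.wt5 p q m)
    (Finsupp.single i 1 + Finsupp.single j 1) d cf
    (by
      intro t
      simp only [Finsupp.coe_add, Pi.add_apply, Finsupp.single_apply]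
      split_ifs with e1 e2 e2
      · exact absurd (e1.trans e2.symm) hij
      · subst e1; omega
      · subst e2; omega
      · omega)
  refine ⟨monomial (d - (Finsupp.single i 1 + Finsupp.single j 1)) cf, W5.monomial_mem_zero _ _ _ ?_, ?_⟩
  · rw [hw, hd, map_add, Finsupp.weight_single, Finsupp.weight_single, one_smul, one_smul, hi, hj]
    ext
    · simp only [Prod.fst_sub, Prod.fst_add, Prod.fst_zero]
      ring
    · simp
  · have hX : (X i * X j : MvPolynomial (Fin 5) k) = monomial (Finsupp.single i 1 + Finsupp.single j 1) 1 := by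
      rw [X, X, monomial_mul, mul_one]
    rw [hX]; exact hfac

open MvPolynomial Groth.Agent.Lib.Helper23 in
theorem aux_mono (k : Type u) [Field k] (p q m : ℕ) (hp : 0 < p) (hpq : p < q) (d : Fin 5 →₀ ℕ) (cf : k)
    (hd : Finsupp.weight (W4c2invhilbsl2.wt5 p q m) d = ((q : ℤ) - (p : ℤ), (0 : ZMod m))) :
    ∃ a₁₃ a₁₄ a₂₃ a₂₄ : MvPolynomial (Fin 5) k,
      a₁₃ ∈ weightedHomogeneousSubmodule k (W4c2invhilbsl2.wt5 p q m) 0 ∧
      a₁₄ ∈ weightedHomogeneousSubmodule k (W4c2invhilbsl2.wt5 p q m) 0 ∧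
      a₂₃ ∈ weightedHomogeneousSubmodule k (W4c2invhilbsl2.wt5 p q m) 0 ∧
      a₂₄ ∈ weightedHomogeneousSubmodule k (W4c2invhilbsl2.wt5 p q m) 0 ∧
      monomial d cf - (a₁₃ * (X (1 : Fin 5) * X 3) + a₁₄ * (X (1 : Fin 5) * X 4) +
          a₂₃ * (X (2 : Fin 5) * X 3) + a₂₄ * (X (2 : Fin 5) * X 4)) ∈
        Ideal.span {X (0 : Fin 5) ^ (q - p) - X 1 * X 4 + X 2 * X 3} := by
  have hd' := hd
  rw [W5.aux_weight5, Prod.ext_iff] at hd'
  obtain ⟨hd1, -⟩ := hd'
  simp only at hd1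
  have hpq' : (p : ℤ) < q := by exact_mod_cast hpq
  have hp' : (0 : ℤ) < p := by exact_mod_cast hp
  have z := Submodule.zero_mem (weightedHomogeneousSubmodule k (W4c2invhilbsl2.wt5 p q m) 0)
  by_cases hA : (1 ≤ d 1 ∨ 1 ≤ d 2) ∧ (1 ≤ d 3 ∨ 1 ≤ d 4)
  · obtain ⟨h12, h34⟩ := hA
    rcases h12 with h1 | h2
    · rcases h34 with h3 | h4
      · obtain ⟨a, ha, hfac⟩ := auxA k p q m d cf hd 1 3 (W5.wt5_one p q m) (W5.wt5_three p q m) (by decide) h1 h3
        refine ⟨a, 0, 0, 0, ha, z, z, z, ?_⟩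
        rw [hfac]
        have : a * (X (1 : Fin 5) * X 3) - (a * (X (1 : Fin 5) * X 3) + 0 * (X (1 : Fin 5) * X 4) +
          0 * (X (2 : Fin 5) * X 3) + 0 * (X (2 : Fin 5) * X 4)) = 0 := by ring
        rw [this]; exact Ideal.zero_mem _
      · obtain ⟨a, ha, hfac⟩ := auxA k p q m d cf hd 1 4 (W5.wt5_one p q m) (W5.wt5_four p q m) (by decide) h1 h4
        refine ⟨0, a, 0, 0, z, ha, z, z, ?_⟩
        rw [hfac]
        have : a * (X (1 : Fin 5) * X 4) - (0 * (X (1 : Fin 5) * X 3) + a * (X (1 : Fin 5) * X 4) +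
          0 * (X (2 : Fin 5) * X 3) + 0 * (X (2 : Fin 5) * X 4)) = 0 := by ring
        rw [this]; exact Ideal.zero_mem _
    · rcases h34 with h3 | h4
      · obtain ⟨a, ha, hfac⟩ := auxA k p q m d cf hd 2 3 (W5.wt5_two p q m) (W5.wt5_three p q m) (by decide) h2 h3
        refine ⟨0, 0, a, 0, z, z, ha, z, ?_⟩
        rw [hfac]
        have : a * (X (2 : Fin 5) * X 3) - (0 * (X (1 : Fin 5) * X 3) + 0 * (X (1 : Fin 5) * X 4) +
          a * (X (2 : Fin 5) * X 3) + 0 * (X (2 : Fin 5) * X 4)) = 0 := by ring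
        rw [this]; exact Ideal.zero_mem _
      · obtain ⟨a, ha, hfac⟩ := auxA k p q m d cf hd 2 4 (W5.wt5_two p q m) (W5.wt5_four p q m) (by decide) h2 h4
        refine ⟨0, 0, 0, a, z, z, z, ha, ?_⟩
        rw [hfac]
        have : a * (X (2 : Fin 5) * X 4) - (0 * (X (1 : Fin 5) * X 3) + 0 * (X (1 : Fin 5) * X 4) +
          0 * (X (2 : Fin 5) * X 3) + a * (X (2 : Fin 5) * X 4)) = 0 := by ring
        rw [this]; exact Ideal.zero_mem _
  · have h0 : q - p ≤ d 0 := by
      have hd0 : (0 : ℤ) ≤ d 0 := Int.natCast_nonneg _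
      have key : ((q - p : ℕ) : ℤ) ≤ d 0 := by
        rw [Nat.cast_sub hpq.le]
        by_cases h12 : 1 ≤ d 1 ∨ 1 ≤ d 2
        · have h34 : d 3 = 0 ∧ d 4 = 0 := by
            constructor <;> · by_contra h; exact hA ⟨h12, by omega⟩
          rw [h34.1, h34.2] at hd1
          have hp12 : (0 : ℤ) ≤ (p : ℤ) * ((d 1 : ℤ) + d 2) := by positivity
          simp only [Nat.cast_zero, add_zero, mul_zero] at hd1
          linarith
        · have h1 : d 1 = 0 := by omega
          have h2 : d 2 = 0 := by omega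
          rw [h1, h2] at hd1
          simp only [Nat.cast_zero, add_zero, mul_zero, sub_zero] at hd1
          have h34 : (d 3 : ℤ) + d 4 ≤ 0 := by
            by_contra h
            have h' : (1 : ℤ) ≤ (d 3 : ℤ) + d 4 := by omega
            have := mul_le_mul_of_nonneg_left h' (hp'.trans hpq').le
            linarith
          have h34' : (d 3 : ℤ) + d 4 = 0 := by
            have := Int.natCast_nonneg (d 3); have := Int.natCast_nonneg (d 4); omega
          rw [h34'] at hd1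
          linarith
      exact_mod_cast key
    obtain ⟨hw, hfac⟩ := W5.aux_div (k := k) (W4c2invhilbsl2.wt5 p q m) (Finsupp.single (0 : Fin 5) (q - p)) d cf
      (by intro j; fin_cases j <;> simp [h0])
    have hws : Finsupp.weight (W4c2invhilbsl2.wt5 p q m) (d - Finsupp.single (0 : Fin 5) (q - p)) = 0 := by
      rw [hw, hd, Finsupp.weight_single, W5.wt5_zero]
      ext <;> simp [Nat.cast_sub hpq.le]
    have hM := W5.monomial_mem_zero (k := k) (W4c2invhilbsl2.wt5 p q m) _ cf hws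
    refine ⟨0, monomial (d - Finsupp.single (0 : Fin 5) (q - p)) cf, -(monomial (d - Finsupp.single (0 : Fin 5) (q - p)) cf), 0,
      z, hM, Submodule.neg_mem _ hM, z, ?_⟩
    rw [hfac, ← X_pow_eq_monomial]
    have hring : monomial (d - Finsupp.single (0 : Fin 5) (q - p)) cf * X (0 : Fin 5) ^ (q - p)
        - (0 * (X (1 : Fin 5) * X 3) + monomial (d - Finsupp.single (0 : Fin 5) (q - p)) cf * (X (1 : Fin 5) * X 4) +
          -(monomial (d - Finsupp.single (0 : Fin 5) (q - p)) cf) * (X (2 : Fin 5) * X 3) + 0 * (X (2 : Fin 5) * X 4))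
        = monomial (d - Finsupp.single (0 : Fin 5) (q - p)) cf
          * (X (0 : Fin 5) ^ (q - p) - X 1 * X 4 + X 2 * X 3) := by ring
    rw [hring]
    exact Ideal.mul_mem_left _ _ (Ideal.subset_span rfl)

/-- Grade the polynomial ring k[X₀,…,X₄] over a field k by ℤ × ℤ/m, giving X₀ weight (1,0), X₁ and X₂
weight (−p,−1), and X₃ and X₄ weight (q,1), where 0 < p < q are coprime integers and m ≥ 1. Then
modulo the principal ideal generated by the weight-zero element X₀^(q−p) − X₁X₄ + X₂X₃ (the equation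
of an affine hypersurface), every polynomial homogeneous of weight (q−p, 0) is congruent to a
combination a₁₃X₁X₃ + a₁₄X₁X₄ + a₂₃X₂X₃ + a₂₄X₂X₄ whose four coefficients are homogeneous of weight
zero. Equivalently, in the coordinate ring of the hypersurface the weight-(q−p, 0) piece is
generated over the weight-zero subring (the invariant ring of the diagonal action with these
weights) by the span of the four products XₐX_b with a ∈ {1,2} and b ∈ {3,4}. (The published
statement is over the complex numbers; this row takes any field.) -/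
theorem result (k : Type u) [Field k] (p q m : ℕ) (hp : 0 < p) (hpq : p < q) (hcop : Nat.Coprime p q) (hm : 0 < m) (f : MvPolynomial (Fin 5) k)
    (hf : f ∈ MvPolynomial.weightedHomogeneousSubmodule k (W4c2invhilbsl2.wt5 p q m) ((q : ℤ) - (p : ℤ), (0 : ZMod m))) :
    ∃ a₁₃ a₁₄ a₂₃ a₂₄ : MvPolynomial (Fin 5) k,
      a₁₃ ∈ MvPolynomial.weightedHomogeneousSubmodule k (W4c2invhilbsl2.wt5 p q m) 0 ∧ a₁₄ ∈ MvPolynomial.weightedHomogeneousSubmodule k (W4c2invhilbsl2.wt5 p q m) 0 ∧ a₂₃ ∈ MvPolynomial.weightedHomogeneousSubmodule k (W4c2invhilbsl2.wt5 p q m) 0 ∧ a₂₄ ∈ MvPolynomial.weightedHomogeneousSubmodule k (W4c2invhilbsl2.wt5 p q m) 0 ∧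
      f - (a₁₃ * (MvPolynomial.X (1 : Fin 5) * MvPolynomial.X 3) + a₁₄ * (MvPolynomial.X (1 : Fin 5) * MvPolynomial.X 4) +
          a₂₃ * (MvPolynomial.X (2 : Fin 5) * MvPolynomial.X 3) + a₂₄ * (MvPolynomial.X (2 : Fin 5) * MvPolynomial.X 4)) ∈
        Ideal.span {MvPolynomial.X (0 : Fin 5) ^ (q - p) - MvPolynomial.X 1 * MvPolynomial.X 4 + MvPolynomial.X 2 * MvPolynomial.X 3} := by
  exact Groth.Agent.Lib.Helper23.W5.hom_induction (W4c2invhilbsl2.wt5 p q m)
    ((q : ℤ) - (p : ℤ), (0 : ZMod m))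
    (fun g => ∃ a₁₃ a₁₄ a₂₃ a₂₄ : MvPolynomial (Fin 5) k,
      a₁₃ ∈ MvPolynomial.weightedHomogeneousSubmodule k (W4c2invhilbsl2.wt5 p q m) 0 ∧ a₁₄ ∈ MvPolynomial.weightedHomogeneousSubmodule k (W4c2invhilbsl2.wt5 p q m) 0 ∧ a₂₃ ∈ MvPolynomial.weightedHomogeneousSubmodule k (W4c2invhilbsl2.wt5 p q m) 0 ∧ a₂₄ ∈ MvPolynomial.weightedHomogeneousSubmodule k (W4c2invhilbsl2.wt5 p q m) 0 ∧
      g - (a₁₃ * (MvPolynomial.X (1 : Fin 5) * MvPolynomial.X 3) + a₁₄ * (MvPolynomial.X (1 : Fin 5) * MvPolynomial.X 4) +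
          a₂₃ * (MvPolynomial.X (2 : Fin 5) * MvPolynomial.X 3) + a₂₄ * (MvPolynomial.X (2 : Fin 5) * MvPolynomial.X 4)) ∈
        Ideal.span {MvPolynomial.X (0 : Fin 5) ^ (q - p) - MvPolynomial.X 1 * MvPolynomial.X 4 + MvPolynomial.X 2 * MvPolynomial.X 3})
    ⟨0, 0, 0, 0, Submodule.zero_mem _, Submodule.zero_mem _, Submodule.zero_mem _, Submodule.zero_mem _, by simp⟩
    (by
      rintro g1 g2 ⟨a1, b1, c1, d1, ha1, hb1, hc1, hd1, h1⟩ ⟨a2, b2, c2, d2, ha2, hb2, hc2, hd2, h2⟩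
      refine ⟨a1 + a2, b1 + b2, c1 + c2, d1 + d2, Submodule.add_mem _ ha1 ha2, Submodule.add_mem _ hb1 hb2,
        Submodule.add_mem _ hc1 hc2, Submodule.add_mem _ hd1 hd2, ?_⟩
      have := Ideal.add_mem _ h1 h2
      convert this using 1
      ring)
    (fun d c hd => aux_mono k p q m hp hpq d c hd) f hf

end Groth.Agent.S15726
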