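import Groth.Statements.S15727
-- import your own Groth.Agent.* helpers here
import Mathlib
import Groth.Agent.Lib.Helper23.W5
import Groth.Agent.Lib.Helper23.Mono3

set_option autoImplicit false
universe u
open W4c2invhilbsl2

namespace Groth.Agent.S15727

open MvPolynomial Groth.Agent.Lib.Helper23 W4c2invhilbsl2 in
theorem main (k : Type u) [Field k] (p q m : ℕ) (hp : 0 < p) (hpq : p < q) (hm : 0 < m) (s : k)
    (ν : ℤ × ZMod m) :
    Module.rank k (piece k (wt5 p q m) (idealI k p q m s) ν) ≤ 1 := by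
  classical
  rw [rank_submodule_le_one_iff']
  have hpq' : (p : ℤ) < q := by exact_mod_cast hpq
  have hp' : (0 : ℤ) < p := by exact_mod_cast hp
  have hm' : (0 : ℤ) < m := by exact_mod_cast hm
  have hX2 : (X 2 : MvPolynomial (Fin 5) k) ∈ idealI k p q m s := Ideal.subset_span (by simp)
  have hX3 : (X 3 : MvPolynomial (Fin 5) k) ∈ idealI k p q m s := Ideal.subset_span (by simp)
  have hsub : Ideal.span {X (0 : Fin 5) ^ (q - p) - X 1 * X 4,
      C s - X (0 : Fin 5) ^ (m * p) * X 1 ^ m} ≤ idealI k p q m s := by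
    apply Ideal.span_mono
    intro x hx
    simp only [Set.mem_insert_iff, Set.mem_singleton_iff] at hx ⊢
    rcases hx with rfl | rfl <;> simp
  have hdie : ∀ (d : Fin 5 →₀ ℕ) (c : k), (d 2 ≠ 0 ∨ d 3 ≠ 0) → monomial d c ∈ idealI k p q m s := by
    intro d c h
    rcases h with h | h
    · obtain ⟨-, hfac⟩ := W5.aux_div (k := k) (wt5 p q m) (Finsupp.single (2 : Fin 5) 1) d c
        (by intro j; fin_cases j <;> simp <;> omega)
      rw [hfac]; exact Ideal.mul_mem_left _ _ hX2
    · obtain ⟨-, hfac⟩ := W5.aux_div (k := k) (wt5 p q m) (Finsupp.single (3 : Fin 5) 1) d c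
        (by intro j; fin_cases j <;> simp <;> omega)
      rw [hfac]; exact Ideal.mul_mem_left _ _ hX3
  by_cases hS : ∃ d : Fin 5 →₀ ℕ, Finsupp.weight (wt5 p q m) d = ν ∧ d 2 = 0 ∧ d 3 = 0
  swap
  · refine ⟨0, ?_⟩
    rintro _ ⟨f, hf, rfl⟩
    have hfI : f ∈ idealI k p q m s := W5.hom_induction (wt5 p q m) ν (fun g => g ∈ idealI k p q m s)
      (Ideal.zero_mem _) (fun a b ha hb => Ideal.add_mem _ ha hb)
      (fun d c hd => hdie d c (by
        by_contra h
        push Not at h
        exact hS ⟨d, hd, h.1, h.2⟩)) f hf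
    have : (Ideal.Quotient.mkₐ k (idealI k p q m s)).toLinearMap f = 0 :=
      Ideal.Quotient.eq_zero_iff_mem.mpr hfI
    rw [this]
    exact Submodule.zero_mem _
  · obtain ⟨d₁, hd₁w, hd₁2, hd₁3⟩ := hS
    have hbdd : ∃ b : ℤ, ∀ z : ℤ, (∃ d : Fin 5 →₀ ℕ,
        (Finsupp.weight (wt5 p q m) d = ν ∧ d 2 = 0 ∧ d 3 = 0) ∧ (d 1 : ℤ) - d 4 = z) → b ≤ z := by
      refine ⟨-|ν.1|, ?_⟩
      rintro z ⟨d, ⟨hw, h2, h3⟩, rfl⟩
      have h1 := congrArg Prod.fst hw
      rw [W5.aux_weight5] at h1
      simp only [h2, h3, Nat.cast_zero, add_zero, zero_add] at h1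
      by_contra hcon
      push Not at hcon
      have habs := abs_nonneg ν.1
      have habs' := le_abs_self ν.1
      have hc0 : (d 1 : ℤ) - d 4 < 0 := by linarith
      have h4 : (0 : ℤ) ≤ d 4 := Int.natCast_nonneg _
      have h0 : (0 : ℤ) ≤ d 0 := Int.natCast_nonneg _
      nlinarith [mul_nonneg (sub_nonneg.mpr (Int.add_one_le_iff.mpr hp')) (neg_pos.mpr hc0).le,
        mul_nonneg (sub_pos.mpr hpq').le h4]
    obtain ⟨lb, ⟨d', ⟨hw', h2', h3'⟩, hc'⟩, hmin⟩ :=
      Int.exists_least_of_bdd hbdd ⟨_, d₁, ⟨hd₁w, hd₁2, hd₁3⟩, rfl⟩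
    refine ⟨Ideal.Quotient.mkₐ k (idealI k p q m s) (X 0 ^ d' 0 * X 1 ^ d' 1 * X 4 ^ d' 4), ?_⟩
    rintro _ ⟨f, hf, rfl⟩
    rw [AlgHom.toLinearMap_apply]
    refine W5.hom_induction (wt5 p q m) ν
      (fun g => Ideal.Quotient.mkₐ k (idealI k p q m s) g ∈
        Submodule.span k {Ideal.Quotient.mkₐ k (idealI k p q m s) (X 0 ^ d' 0 * X 1 ^ d' 1 * X 4 ^ d' 4)})
      (by rw [map_zero (Ideal.Quotient.mkₐ k (idealI k p q m s))]; exact Submodule.zero_mem _)
      (fun a b ha hb => by rw [map_add]; exact Submodule.add_mem _ ha hb) ?_ f hf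
    intro d c hd
    by_cases h23 : d 2 ≠ 0 ∨ d 3 ≠ 0
    · have : Ideal.Quotient.mkₐ k (idealI k p q m s) (monomial d c) = 0 :=
        Ideal.Quotient.eq_zero_iff_mem.mpr (hdie d c h23)
      rw [this]
      exact Submodule.zero_mem _
    · push Not at h23
      obtain ⟨h2, h3⟩ := h23
      have hcd := hmin _ ⟨d, ⟨hd, h2, h3⟩, rfl⟩
      have e1 := congrArg Prod.fst hd
      have e1' := congrArg Prod.fst hw'
      have e2 := congrArg Prod.snd hd
      have e2' := congrArg Prod.snd hw'
      rw [W5.aux_weight5] at e1 e1' e2 e2'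
      simp only [h2, h3, h2', h3', Nat.cast_zero, add_zero, zero_add] at e1 e1' e2 e2'
      have hdvd : (m : ℤ) ∣ ((d 1 : ℤ) - d 4) - ((d' 1 : ℤ) - d' 4) := by
        rw [← ZMod.intCast_zmod_eq_zero_iff_dvd]
        push_cast
        linear_combination (-1 : ZMod m) * e2 + e2'
      obtain ⟨z, hz⟩ := hdvd
      have hz0 : 0 ≤ z := by
        by_contra h
        push Not at h
        nlinarith [mul_pos hm' (neg_pos.mpr h)]
      obtain ⟨j, rfl⟩ := Int.eq_ofNat_of_zero_le hz0
      have key := hsub (Mono3.gen_iii (X (0 : Fin 5)) (X (1 : Fin 5)) (X (4 : Fin 5)) (C s : MvPolynomial (Fin 5) k)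
        p q m hp hpq j (d 0) (d 1) (d 4) (d' 0) (d' 1) (d' 4) (by rw [e1, e1']) (by rw [hz]; ring))
      have hmono : monomial d c = c • (X (0 : Fin 5) ^ d 0 * X (1 : Fin 5) ^ d 1 * X (4 : Fin 5) ^ d 4) := by
        rw [W5.monomial_eq5, h2, h3, pow_zero, pow_zero, mul_one, mul_one, C_mul']
      have hsj : (C s : MvPolynomial (Fin 5) k) ^ j * (X (0 : Fin 5) ^ d' 0 * X (1 : Fin 5) ^ d' 1 * X (4 : Fin 5) ^ d' 4)
          = (s ^ j) • (X (0 : Fin 5) ^ d' 0 * X (1 : Fin 5) ^ d' 1 * X (4 : Fin 5) ^ d' 4) := by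
        rw [← C_pow, C_mul']
      rw [hsj] at key
      have h5 : Ideal.Quotient.mkₐ k (idealI k p q m s) (X (0 : Fin 5) ^ d 0 * X (1 : Fin 5) ^ d 1 * X (4 : Fin 5) ^ d 4)
          = Ideal.Quotient.mkₐ k (idealI k p q m s)
            ((s ^ j) • (X (0 : Fin 5) ^ d' 0 * X (1 : Fin 5) ^ d' 1 * X (4 : Fin 5) ^ d' 4)) :=
        Ideal.Quotient.eq.mpr key
      rw [hmono, map_smul, h5, map_smul, smul_smul]
      exact Submodule.smul_mem _ _ (Submodule.mem_span_singleton_self _)

/-- Let k be an algebraically closed field, 0 < p < q coprime integers and m ≥ 1, and grade k[X₀,…,X₄]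
by ℤ × ℤ/m, giving X₀ weight (1,0), X₁ and X₂ weight (−p,−1), and X₃ and X₄ weight (q,1). For s ∈ k
let I_s be the ideal (X₀^(q−p) − X₁X₄, X₂, X₃, s − X₀^(mp)X₁^m), whose generators are homogeneous
(the last one of weight zero). Then for every weight ν the image in k[X₀,…,X₄]/I_s of the
homogeneous polynomials of weight ν is a k-vector space of dimension at most 1. (The published
statement asserts that this dimension equals 1 for every ν and every s, namely that the quotient has
the Hilbert function of the regular representation of the grading group; this row states the upper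
bound, the half obtained from the monomial analysis of the weight pieces, while the lower bound
there is drawn from the moduli interpretation of these ideals. The published statement is over the
complex numbers; this row takes any algebraically closed field, which is what the reduction to s =
0, 1 by rescaling the variables uses.) -/
theorem result (k : Type u) [Field k] [IsAlgClosed k] (p q m : ℕ) (hp : 0 < p) (hpq : p < q) (hcop : Nat.Coprime p q) (hm : 0 < m) (s : k) (ν : ℤ × ZMod m) :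
    Module.rank k (W4c2invhilbsl2.piece k (W4c2invhilbsl2.wt5 p q m) (W4c2invhilbsl2.idealI k p q m s) ν) ≤ 1 := by
  exact main k p q m hp hpq hm s ν

end Groth.Agent.S15727
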