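import Groth.Statements.S15728
-- import your own Groth.Agent.* helpers here
import Mathlib
import Groth.Agent.Lib.Helper23.W5

set_option autoImplicit false
universe u
open W4c2invhilbsl2

namespace Groth.Agent.S15728

theorem aux_nt (p q m : ℕ) (hp : 0 < p) (hpq : p < q) (hcop : Nat.Coprime p q) (hm : 0 < m)
    (d0 d1 d3 e0 e1 e3 : ℕ) (hd0 : d0 < Nat.gcd m (q - p)) (he0 : e0 < Nat.gcd m (q - p))
    (h1 : (d0 : ℤ) - p * d1 + q * d3 = (e0 : ℤ) - p * e1 + q * e3)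
    (h2 : ((d3 : ZMod m) - d1) = ((e3 : ZMod m) - e1)) (hle : e1 ≤ d1) :
    ∃ j : ℕ, d0 = e0 ∧ d1 = e1 + j * (m / Nat.gcd m (q - p) * q) ∧
      d3 = e3 + j * (m / Nat.gcd m (q - p) * p) := by
  have hga : Nat.gcd m (q - p) * (m / Nat.gcd m (q - p)) = m :=
    Nat.mul_div_cancel' (Nat.gcd_dvd_left _ _)
  have hgb : Nat.gcd m (q - p) * ((q - p) / Nat.gcd m (q - p)) = q - p :=
    Nat.mul_div_cancel' (Nat.gcd_dvd_right _ _)
  have hg : 0 < Nat.gcd m (q - p) := Nat.gcd_pos_of_pos_left _ hm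
  have hcopab : Nat.Coprime (m / Nat.gcd m (q - p)) ((q - p) / Nat.gcd m (q - p)) :=
    Nat.coprime_div_gcd_div_gcd hg
  generalize Nat.gcd m (q - p) = g at *
  generalize hadef : m / g = a at *
  generalize hbdef : (q - p) / g = b at *
  have ha : 0 < a := by
    rcases Nat.eq_zero_or_pos a with h | h
    · rw [h] at hga; omega
    · exact h
  have hpq' : (p : ℤ) < q := by exact_mod_cast hpq
  have hp' : (0 : ℤ) < p := by exact_mod_cast hp
  have hgZ : (0 : ℤ) < g := by exact_mod_cast hg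
  have haZ : (0 : ℤ) < a := by exact_mod_cast ha
  have hgaZ : (g : ℤ) * a = m := by exact_mod_cast hga
  have hgbZ : (g : ℤ) * b = (q : ℤ) - p := by
    rw [← Nat.cast_sub hpq.le]; exact_mod_cast hgb
  have hmdvd : (m : ℤ) ∣ ((d3 : ℤ) - e3) - ((d1 : ℤ) - e1) := by
    rw [← ZMod.intCast_zmod_eq_zero_iff_dvd]
    push_cast
    linear_combination h2
  have hgm : (g : ℤ) ∣ m := ⟨a, hgaZ.symm⟩
  have hgqp : (g : ℤ) ∣ (q : ℤ) - p := ⟨b, hgbZ.symm⟩
  have hδ0 : (d0 : ℤ) - e0 = (p : ℤ) * (((d1 : ℤ) - e1) - ((d3 : ℤ) - e3)) - ((q : ℤ) - p) * ((d3 : ℤ) - e3) := by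
    linarith
  have hgdvd0 : (g : ℤ) ∣ (d0 : ℤ) - e0 := by
    rw [hδ0]
    refine dvd_sub (dvd_mul_of_dvd_right ?_ _) (dvd_mul_of_dvd_left hgqp _)
    have := hgm.trans hmdvd
    have h3 : ((d1 : ℤ) - e1) - ((d3 : ℤ) - e3) = -(((d3 : ℤ) - e3) - ((d1 : ℤ) - e1)) := by ring
    rw [h3]; exact (dvd_neg).mpr this
  have habs : |(d0 : ℤ) - e0| < g := by
    rw [abs_lt]; constructor <;> omega
  have h00 : (d0 : ℤ) - e0 = 0 := Int.eq_zero_of_abs_lt_dvd hgdvd0 habs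
  have hd0e0 : d0 = e0 := by omega
  have hpq1 : (p : ℤ) * ((d1 : ℤ) - e1) = q * ((d3 : ℤ) - e3) := by linarith
  have hcopZ : IsCoprime (q : ℤ) (p : ℤ) := Nat.isCoprime_iff_coprime.mpr hcop.symm
  have hq1 : (q : ℤ) ∣ (d1 : ℤ) - e1 := hcopZ.dvd_of_dvd_mul_left ⟨(d3 : ℤ) - e3, hpq1⟩
  obtain ⟨t, ht⟩ := hq1
  have hq0 : (q : ℤ) ≠ 0 := by linarith
  have ht3 : (d3 : ℤ) - e3 = p * t := by
    have : (q : ℤ) * ((d3 : ℤ) - e3) = q * (p * t) := by rw [← hpq1, ht]; ring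
    exact mul_left_cancel₀ hq0 this
  have hm2 : (g : ℤ) * a ∣ (g : ℤ) * (b * t) := by
    rw [hgaZ, ← mul_assoc, hgbZ]
    have h4 : ((q : ℤ) - p) * t = -(((d3 : ℤ) - e3) - ((d1 : ℤ) - e1)) := by rw [ht3, ht]; ring
    rw [h4]; exact (dvd_neg).mpr hmdvd
  have hat : (a : ℤ) ∣ (b : ℤ) * t := (mul_dvd_mul_iff_left hgZ.ne').mp hm2
  have hcopZ2 : IsCoprime (a : ℤ) (b : ℤ) := Nat.isCoprime_iff_coprime.mpr hcopab
  obtain ⟨j', hj'⟩ := hcopZ2.dvd_of_dvd_mul_left hat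
  have hd1e1 : (0 : ℤ) ≤ (d1 : ℤ) - e1 := by
    have : (e1 : ℤ) ≤ d1 := by exact_mod_cast hle
    linarith
  have hj0 : 0 ≤ j' := by
    by_contra h
    push Not at h
    have : (q : ℤ) * (a * j') < 0 := by
      have h5 : (0:ℤ) < (q : ℤ) * a := mul_pos (by linarith) haZ
      nlinarith [mul_pos h5 (neg_pos.mpr h)]
    rw [ht, hj'] at hd1e1
    linarith
  obtain ⟨j, rfl⟩ := Int.eq_ofNat_of_zero_le hj0
  refine ⟨j, hd0e0, ?_, ?_⟩
  · have : (d1 : ℤ) = ((e1 + j * (a * q) : ℕ) : ℤ) := by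
      push_cast
      have : (d1 : ℤ) - e1 = q * (a * j) := by rw [ht, hj']
      linarith
    exact_mod_cast this
  · have : (d3 : ℤ) = ((e3 + j * (a * p) : ℕ) : ℤ) := by
      push_cast
      have : (d3 : ℤ) - e3 = p * (a * j) := by rw [ht3, hj']
      linarith
    exact_mod_cast this

open MvPolynomial Groth.Agent.Lib.Helper23 W4c2invhilbsl2 in
theorem main (k : Type u) [Field k] (p q m : ℕ) (hp : 0 < p) (hpq : p < q) (hcop : Nat.Coprime p q)
    (hm : 0 < m) (s : k) (ν : ℤ × ZMod m) :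
    Module.rank k (piece k (wt5 p q m) (idealJ k p q m s) ν) ≤ 1 := by
  classical
  rw [rank_submodule_le_one_iff']
  have hX2 : (X 2 : MvPolynomial (Fin 5) k) ∈ idealJ k p q m s := Ideal.subset_span (by simp)
  have hX4 : (X 4 : MvPolynomial (Fin 5) k) ∈ idealJ k p q m s := Ideal.subset_span (by simp)
  have hX0 : (X 0 ^ Nat.gcd m (q - p) : MvPolynomial (Fin 5) k) ∈ idealJ k p q m s :=
    Ideal.subset_span (by simp)
  have hrel : (C s - X 1 ^ (m / Nat.gcd m (q - p) * q) * X 3 ^ (m / Nat.gcd m (q - p) * p) :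
      MvPolynomial (Fin 5) k) ∈ idealJ k p q m s := Ideal.subset_span (by simp)
  have hdie : ∀ (d : Fin 5 →₀ ℕ) (c : k), (d 2 ≠ 0 ∨ d 4 ≠ 0 ∨ Nat.gcd m (q - p) ≤ d 0) →
      monomial d c ∈ idealJ k p q m s := by
    intro d c h
    rcases h with h | h | h
    · obtain ⟨-, hfac⟩ := W5.aux_div (k := k) (wt5 p q m) (Finsupp.single (2 : Fin 5) 1) d c
        (by intro j; fin_cases j <;> simp <;> omega)
      rw [hfac]; exact Ideal.mul_mem_left _ _ hX2
    · obtain ⟨-, hfac⟩ := W5.aux_div (k := k) (wt5 p q m) (Finsupp.single (4 : Fin 5) 1) d c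
        (by intro j; fin_cases j <;> simp <;> omega)
      rw [hfac]; exact Ideal.mul_mem_left _ _ hX4
    · obtain ⟨-, hfac⟩ := W5.aux_div (k := k) (wt5 p q m)
        (Finsupp.single (0 : Fin 5) (Nat.gcd m (q - p))) d c
        (by intro j; fin_cases j <;> simp [h])
      rw [hfac, ← X_pow_eq_monomial]; exact Ideal.mul_mem_left _ _ hX0
  by_cases hS : ∃ d : Fin 5 →₀ ℕ, Finsupp.weight (wt5 p q m) d = ν ∧ d 2 = 0 ∧ d 4 = 0 ∧
      d 0 < Nat.gcd m (q - p)
  swap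
  · refine ⟨0, ?_⟩
    rintro _ ⟨f, hf, rfl⟩
    have hfI : f ∈ idealJ k p q m s := W5.hom_induction (wt5 p q m) ν (fun g => g ∈ idealJ k p q m s)
      (Ideal.zero_mem _) (fun a b ha hb => Ideal.add_mem _ ha hb)
      (fun d c hd => hdie d c (by
        by_contra h
        push Not at h
        exact hS ⟨d, hd, h.1, h.2.1, h.2.2⟩)) f hf
    have : (Ideal.Quotient.mkₐ k (idealJ k p q m s)).toLinearMap f = 0 :=
      Ideal.Quotient.eq_zero_iff_mem.mpr hfI
    rw [this]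
    exact Submodule.zero_mem _
  · obtain ⟨d₁, hd₁w, hd₁2, hd₁4, hd₁0⟩ := hS
    have hbdd : ∃ b : ℤ, ∀ z : ℤ, (∃ d : Fin 5 →₀ ℕ,
        (Finsupp.weight (wt5 p q m) d = ν ∧ d 2 = 0 ∧ d 4 = 0 ∧ d 0 < Nat.gcd m (q - p)) ∧
          (d 1 : ℤ) = z) → b ≤ z := by
      refine ⟨0, ?_⟩
      rintro z ⟨d, -, rfl⟩
      exact Int.natCast_nonneg _
    obtain ⟨lb, ⟨d', ⟨hw', h2', h4', h0'⟩, hc'⟩, hmin⟩ :=
      Int.exists_least_of_bdd hbdd ⟨_, d₁, ⟨hd₁w, hd₁2, hd₁4, hd₁0⟩, rfl⟩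
    refine ⟨Ideal.Quotient.mkₐ k (idealJ k p q m s) (X 0 ^ d' 0 * X 1 ^ d' 1 * X 3 ^ d' 3), ?_⟩
    rintro _ ⟨f, hf, rfl⟩
    rw [AlgHom.toLinearMap_apply]
    refine W5.hom_induction (wt5 p q m) ν
      (fun g => Ideal.Quotient.mkₐ k (idealJ k p q m s) g ∈
        Submodule.span k {Ideal.Quotient.mkₐ k (idealJ k p q m s) (X 0 ^ d' 0 * X 1 ^ d' 1 * X 3 ^ d' 3)})
      (by rw [map_zero (Ideal.Quotient.mkₐ k (idealJ k p q m s))]; exact Submodule.zero_mem _)
      (fun a b ha hb => by rw [map_add]; exact Submodule.add_mem _ ha hb) ?_ f hf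
    intro d c hd
    by_cases h23 : d 2 ≠ 0 ∨ d 4 ≠ 0 ∨ Nat.gcd m (q - p) ≤ d 0
    · have : Ideal.Quotient.mkₐ k (idealJ k p q m s) (monomial d c) = 0 :=
        Ideal.Quotient.eq_zero_iff_mem.mpr (hdie d c h23)
      rw [this]
      exact Submodule.zero_mem _
    · push Not at h23
      obtain ⟨h2, h4, h0⟩ := h23
      have hcd := hmin _ ⟨d, ⟨hd, h2, h4, h0⟩, rfl⟩
      have hle : d' 1 ≤ d 1 := by rw [← hc'] at hcd; exact_mod_cast hcd
      have e1 := congrArg Prod.fst hd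
      have e1' := congrArg Prod.fst hw'
      have e2 := congrArg Prod.snd hd
      have e2' := congrArg Prod.snd hw'
      rw [W5.aux_weight5] at e1 e1' e2 e2'
      simp only [h2, h4, h2', h4', Nat.cast_zero, add_zero, zero_add] at e1 e1' e2 e2'
      obtain ⟨j, hj0, hj1, hj3⟩ := aux_nt p q m hp hpq hcop hm (d 0) (d 1) (d 3) (d' 0) (d' 1) (d' 3)
        h0 h0' (by rw [e1, e1']) (by rw [e2, e2']) hle
      have hmono : monomial d c = c • (X (0 : Fin 5) ^ d 0 * X (1 : Fin 5) ^ d 1 * X (3 : Fin 5) ^ d 3) := by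
        rw [W5.monomial_eq5, h2, h4, pow_zero, pow_zero, mul_one, mul_one, C_mul']
      obtain ⟨w, hw⟩ := sub_dvd_pow_sub_pow
        (X (1 : Fin 5) ^ (m / Nat.gcd m (q - p) * q) * X (3 : Fin 5) ^ (m / Nat.gcd m (q - p) * p) : MvPolynomial (Fin 5) k)
        (C s) j
      have key : (X (0 : Fin 5) ^ d 0 * X (1 : Fin 5) ^ d 1 * X (3 : Fin 5) ^ d 3 : MvPolynomial (Fin 5) k)
          - (s ^ j) • (X (0 : Fin 5) ^ d' 0 * X (1 : Fin 5) ^ d' 1 * X (3 : Fin 5) ^ d' 3) ∈ idealJ k p q m s := by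
        have h6 : (X (0 : Fin 5) ^ d 0 * X (1 : Fin 5) ^ d 1 * X (3 : Fin 5) ^ d 3 : MvPolynomial (Fin 5) k)
          - (s ^ j) • (X (0 : Fin 5) ^ d' 0 * X (1 : Fin 5) ^ d' 1 * X (3 : Fin 5) ^ d' 3)
          = (C s - X (1 : Fin 5) ^ (m / Nat.gcd m (q - p) * q) * X (3 : Fin 5) ^ (m / Nat.gcd m (q - p) * p))
            * (-(X (0 : Fin 5) ^ d' 0 * X (1 : Fin 5) ^ d' 1 * X (3 : Fin 5) ^ d' 3 * w)) := by
          rw [smul_eq_C_mul, C_pow, hj0, hj1, hj3]
          have h7 : (X (0 : Fin 5) ^ d' 0 * X (1 : Fin 5) ^ (d' 1 + j * (m / Nat.gcd m (q - p) * q))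
              * X (3 : Fin 5) ^ (d' 3 + j * (m / Nat.gcd m (q - p) * p)) : MvPolynomial (Fin 5) k)
              - C s ^ j * (X (0 : Fin 5) ^ d' 0 * X (1 : Fin 5) ^ d' 1 * X (3 : Fin 5) ^ d' 3)
              = (X (0 : Fin 5) ^ d' 0 * X (1 : Fin 5) ^ d' 1 * X (3 : Fin 5) ^ d' 3)
                * ((X (1 : Fin 5) ^ (m / Nat.gcd m (q - p) * q) * X (3 : Fin 5) ^ (m / Nat.gcd m (q - p) * p)) ^ j - C s ^ j) := by
            ring
          rw [h7, hw]; ring
        rw [h6]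
        exact Ideal.mul_mem_right _ _ hrel
      have h5 : Ideal.Quotient.mkₐ k (idealJ k p q m s) (X (0 : Fin 5) ^ d 0 * X (1 : Fin 5) ^ d 1 * X (3 : Fin 5) ^ d 3)
          = Ideal.Quotient.mkₐ k (idealJ k p q m s)
            ((s ^ j) • (X (0 : Fin 5) ^ d' 0 * X (1 : Fin 5) ^ d' 1 * X (3 : Fin 5) ^ d' 3)) :=
        Ideal.Quotient.eq.mpr key
      rw [hmono, map_smul, h5, map_smul, smul_smul]
      exact Submodule.smul_mem _ _ (Submodule.mem_span_singleton_self _)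

/-- Let k be an algebraically closed field, 0 < p < q coprime integers and m ≥ 1; put g = gcd(m, q−p)
and a = m/g, and grade k[X₀,…,X₄] by ℤ × ℤ/m, giving X₀ weight (1,0), X₁ and X₂ weight (−p,−1), and
X₃ and X₄ weight (q,1). For s ∈ k let J_s be the ideal (X₀^g, X₂, X₄, s − X₁^(aq)X₃^(ap)), whose
generators are homogeneous (the last one of weight zero). Then for every weight ν the image in
k[X₀,…,X₄]/J_s of the homogeneous polynomials of weight ν is a k-vector space of dimension at most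
1. (The published statement asserts that this dimension equals 1 for every ν and every s; this row
states the upper bound, the half obtained from the monomial analysis of the weight pieces, while the
lower bound there is drawn from the moduli interpretation of these ideals. The published statement
is over the complex numbers; this row takes any algebraically closed field, which is what the
reduction to s = 0, 1 by rescaling the variables uses.) -/
theorem result (k : Type u) [Field k] [IsAlgClosed k] (p q m : ℕ) (hp : 0 < p) (hpq : p < q) (hcop : Nat.Coprime p q) (hm : 0 < m) (s : k) (ν : ℤ × ZMod m) :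
    Module.rank k (W4c2invhilbsl2.piece k (W4c2invhilbsl2.wt5 p q m) (W4c2invhilbsl2.idealJ k p q m s) ν) ≤ 1 := by
  exact main k p q m hp hpq hcop hm s ν

end Groth.Agent.S15728
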