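import Groth.Statements.S15729
-- import your own Groth.Agent.* helpers here
import Mathlib
import Groth.Agent.Lib.Helper23.HJ
import Groth.Agent.S15733

set_option autoImplicit false
universe u
open W4c2invhilbsl2

namespace Groth.Agent.S15729

open MvPolynomial in
theorem aux_weight (p q m : ℕ) (d : Fin 3 →₀ ℕ) :
    Finsupp.weight (W4c2invhilbsl2.wt3 p q m) d
      = ((d 0 : ℤ) - p * d 1 + q * d 2, ((d 2 : ZMod m) - d 1)) := by
  rw [Finsupp.weight_eq_sum, Fin.sum_univ_three]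
  simp only [W4c2invhilbsl2.wt3]
  ext
  · simp <;> ring
  · simp <;> ring

open MvPolynomial in
theorem aux_div (k : Type u) [Field k] (p q m : ℕ) (s d : Fin 3 →₀ ℕ) (c : k)
    (hle : ∀ j, s j ≤ d j)
    (hw : Finsupp.weight (W4c2invhilbsl2.wt3 p q m) s = Finsupp.weight (W4c2invhilbsl2.wt3 p q m) d) :
    monomial (d - s) c ∈ weightedHomogeneousSubmodule k (W4c2invhilbsl2.wt3 p q m) 0 ∧
      monomial d c = monomial (d - s) c * monomial s 1 := by
  have hsum : (d - s) + s = d := by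
    ext j
    have := hle j
    simp only [Finsupp.coe_add, Finsupp.coe_tsub, Pi.add_apply, Pi.sub_apply]
    omega
  constructor
  · rw [mem_weightedHomogeneousSubmodule]
    apply isWeightedHomogeneous_monomial
    have h := map_add (Finsupp.weight (W4c2invhilbsl2.wt3 p q m)) (d - s) s
    rw [hsum, hw] at h
    exact add_eq_right.mp h.symm
  · rw [monomial_mul, hsum, mul_one]

open MvPolynomial Groth.Agent.Lib.Helper23 in
theorem aux_mono (k : Type u) [Field k] (p q m : ℕ) (hp : 0 < p) (hpq : p < q) (hcop : Nat.Coprime p q)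
    (hm : 0 < m) (hnt : ¬ (q - p ∣ m)) (c : List ℤ) (hc : W4c2invhilbsl2.IsHJDigits p q m c) (i : ℕ)
    (hi : 1 ≤ i) (hir : i ≤ c.length) (d : Fin 3 →₀ ℕ) (cf : k)
    (hd : Finsupp.weight (W4c2invhilbsl2.wt3 p q m) d = (W4c2invhilbsl2.nN p q m c i, (0 : ZMod m))) :
    ∃ a b : MvPolynomial (Fin 3) k,
      a ∈ weightedHomogeneousSubmodule k (W4c2invhilbsl2.wt3 p q m) 0 ∧
      b ∈ weightedHomogeneousSubmodule k (W4c2invhilbsl2.wt3 p q m) 0 ∧
      monomial d cf = a * X (0 : Fin 3) ^ (W4c2invhilbsl2.nN p q m c i).toNat +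
        b * (X (1 : Fin 3) ^ (W4c2invhilbsl2.eE p q m c i).toNat * X (2 : Fin 3) ^ (W4c2invhilbsl2.lL p q m c i).toNat) := by
  classical
  obtain ⟨hI1, hI2, hn0, hnD, hP1⟩ := HJ.basic_i hp hpq hcop hm hnt c hc i hi hir
  have hd' := hd
  rw [aux_weight, Prod.ext_iff] at hd'
  obtain ⟨hd1, hd2⟩ := hd'
  simp only at hd1 hd2
  have hpq' : (p : ℤ) < q := by exact_mod_cast hpq
  have hp' : (0 : ℤ) < p := by exact_mod_cast hp
  have hm' : (0 : ℤ) < m := by exact_mod_cast hm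
  have hmP : (0 : ℤ) ≤ (m : ℤ) * W4c2invhilbsl2.hjP c i := mul_nonneg hm'.le (by linarith)
  have hpmP : (0 : ℤ) ≤ (p : ℤ) * m * W4c2invhilbsl2.hjP c i :=
    mul_nonneg (mul_nonneg hp'.le hm'.le) (by linarith)
  have hl0 : 0 < W4c2invhilbsl2.lL p q m c i := by
    by_contra h
    push Not at h
    nlinarith [mul_nonneg (sub_pos.mpr hpq').le (neg_nonneg.mpr h)]
  have he0 : 0 < W4c2invhilbsl2.eE p q m c i := by rw [hI2]; linarith
  have hNc : (((W4c2invhilbsl2.nN p q m c i).toNat : ℕ) : ℤ) = W4c2invhilbsl2.nN p q m c i :=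
    Int.toNat_of_nonneg hn0.le
  have hEc : (((W4c2invhilbsl2.eE p q m c i).toNat : ℕ) : ℤ) = W4c2invhilbsl2.eE p q m c i :=
    Int.toNat_of_nonneg he0.le
  have hLc : (((W4c2invhilbsl2.lL p q m c i).toNat : ℕ) : ℤ) = W4c2invhilbsl2.lL p q m c i :=
    Int.toNat_of_nonneg hl0.le
  have hnN : W4c2invhilbsl2.nN p q m c i
      = -(p : ℤ) * W4c2invhilbsl2.eE p q m c i + (q : ℤ) * W4c2invhilbsl2.lL p q m c i := rfl
  by_cases h0 : (W4c2invhilbsl2.nN p q m c i).toNat ≤ d 0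
  · have hwN : Finsupp.weight (W4c2invhilbsl2.wt3 p q m)
        (Finsupp.single (0 : Fin 3) (W4c2invhilbsl2.nN p q m c i).toNat)
        = (W4c2invhilbsl2.nN p q m c i, (0 : ZMod m)) := by
      rw [aux_weight]
      ext
      · simp [hNc]
      · simp
    obtain ⟨hmem, hfac⟩ := aux_div k p q m (Finsupp.single (0 : Fin 3) (W4c2invhilbsl2.nN p q m c i).toNat)
      d cf (by intro j; fin_cases j <;> simp [h0]) (by rw [hwN, hd])
    refine ⟨_, 0, hmem, Submodule.zero_mem _, ?_⟩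
    rw [X_pow_eq_monomial, zero_mul, add_zero]
    exact hfac
  · have hd0lt : (d 0 : ℤ) < W4c2invhilbsl2.nN p q m c i := by omega
    -- x with d1 - d2 = m x
    have hdvd : (m : ℤ) ∣ (d 2 : ℤ) - d 1 := by
      rw [← ZMod.intCast_zmod_eq_zero_iff_dvd]
      push_cast
      exact hd2
    obtain ⟨y, hy⟩ := hdvd
    have hx : (d 1 : ℤ) - d 2 = m * (-y) := by linarith
    have H : ∀ z, 0 < z → z < W4c2invhilbsl2.hjP c i →
        W4c2invhilbsl2.nN p q m c i + ((p : ℤ) * m * z) % ((q : ℤ) - p) < (q : ℤ) - p := by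
      intro z hz0 hz
      rcases Nat.lt_or_ge 1 i with hi1 | hi1
      · have h33 := Groth.Agent.S15733.result p q m hp hpq hcop hm hnt c hc i hi1 hir z hz0 hz
        have h34 : ((p : ℤ) * m * z + W4c2invhilbsl2.nN p q m c i) % ((q : ℤ) - p)
            = W4c2invhilbsl2.nN p q m c i + ((p : ℤ) * m * z) % ((q : ℤ) - p) := h33
        rw [← h34]
        exact Int.emod_lt_of_pos _ (sub_pos.mpr hpq')
      · exfalso
        have hi' : i = 1 := by omega
        subst hi'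
        have : W4c2invhilbsl2.hjP c 1 = 1 := rfl
        omega
    have hnum := HJ.aux_num ((q : ℤ) - p) (W4c2invhilbsl2.nN p q m c i) (W4c2invhilbsl2.lL p q m c i)
      (W4c2invhilbsl2.hjP c i) ((p : ℤ) * m) m (-y) (d 0) (d 2) (sub_pos.mpr hpq') hn0 hnD
      (mul_pos hp' hm') hm' hI1 hP1 H (by linear_combination hd1 + (p : ℤ) * hx)
      (Int.natCast_nonneg _) hd0lt (Int.natCast_nonneg _)
      (by rw [← hx]; have := Int.natCast_nonneg (d 1); linarith)
    obtain ⟨hPx, hld2⟩ := hnum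
    have hL : (W4c2invhilbsl2.lL p q m c i).toNat ≤ d 2 := by omega
    have hE : (W4c2invhilbsl2.eE p q m c i).toNat ≤ d 1 := by
      have h3 : (m : ℤ) * W4c2invhilbsl2.hjP c i ≤ m * (-y) := mul_le_mul_of_nonneg_left hPx hm'.le
      have h4 : W4c2invhilbsl2.eE p q m c i ≤ d 1 := by rw [hI2]; linarith
      omega
    have hwEL : Finsupp.weight (W4c2invhilbsl2.wt3 p q m)
        (Finsupp.single (1 : Fin 3) (W4c2invhilbsl2.eE p q m c i).toNat
          + Finsupp.single (2 : Fin 3) (W4c2invhilbsl2.lL p q m c i).toNat)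
        = (W4c2invhilbsl2.nN p q m c i, (0 : ZMod m)) := by
      rw [aux_weight]
      ext
      · simp [hEc, hLc, hnN]
      · have h5 : ((W4c2invhilbsl2.lL p q m c i).toNat : ℤ) - ((W4c2invhilbsl2.eE p q m c i).toNat : ℤ)
            = -((m : ℤ) * W4c2invhilbsl2.hjP c i) := by rw [hEc, hLc, hI2]; ring
        have h6 := congrArg (Int.cast : ℤ → ZMod m) h5
        push_cast at h6
        simpa [ZMod.natCast_self] using h6
    obtain ⟨hmem, hfac⟩ := aux_div k p q m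
      (Finsupp.single (1 : Fin 3) (W4c2invhilbsl2.eE p q m c i).toNat
          + Finsupp.single (2 : Fin 3) (W4c2invhilbsl2.lL p q m c i).toNat)
      d cf (by intro j; fin_cases j <;> simp [hE, hL]) (by rw [hwEL, hd])
    refine ⟨0, _, Submodule.zero_mem _, hmem, ?_⟩
    have hX : (X (1 : Fin 3) ^ (W4c2invhilbsl2.eE p q m c i).toNat * X (2 : Fin 3) ^ (W4c2invhilbsl2.lL p q m c i).toNat : MvPolynomial (Fin 3) k)
        = monomial (Finsupp.single (1 : Fin 3) (W4c2invhilbsl2.eE p q m c i).toNat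
          + Finsupp.single (2 : Fin 3) (W4c2invhilbsl2.lL p q m c i).toNat) 1 := by
      rw [X_pow_eq_monomial, X_pow_eq_monomial, monomial_mul, mul_one]
    rw [hX, zero_mul, zero_add]
    exact hfac

/-- Let 0 < p < q be coprime integers and m ≥ 1 such that q − p does not divide m; put g = gcd(m, q−p),
b = (q−p)/g, α = ⌊mp/(q−p)⌋, β = the remainder of mp modulo q−p and t = (q−p−β)/g, so that 1 ≤ t <
b, and let b/t = c₁ − 1/(c₂ − 1/(⋯ − 1/c_r)) be the negative-regular (Hirzebruch–Jung) continued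
fraction expansion with every cᵢ ≥ 2; set P₀ = 0, P₁ = 1, Q₀ = −1, Q₁ = 0, Pᵢ = cᵢ₋₁Pᵢ₋₁ − Pᵢ₋₂, Qᵢ
= cᵢ₋₁Qᵢ₋₁ − Qᵢ₋₂ for 2 ≤ i ≤ r+1, and eᵢ = (α+1+m)Pᵢ − Qᵢ, lᵢ = (α+1)Pᵢ − Qᵢ, nᵢ = q·lᵢ − p·eᵢ,
which are non-negative integers for 0 ≤ i ≤ r+1. Grade the polynomial ring k[X₀,X₁,X₂] over a field
k by ℤ × ℤ/m with weights (1,0), (−p,−1), (q,1) (it stands for k[X₀,X₁,Xⱼ], j = 3 or 4, inside the
five-variable ring). Then for every 1 ≤ i ≤ r, every polynomial homogeneous of weight (nᵢ, 0) can be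
written a·X₀^(nᵢ) + b·X₁^(eᵢ)X₂^(lᵢ) with a and b homogeneous of weight zero; that is, the
weight-(nᵢ,0) piece is generated over the weight-zero subring by X₀^(nᵢ) and X₁^(eᵢ)X₂^(lᵢ). -/
theorem result (k : Type u) [Field k] (p q m : ℕ) (hp : 0 < p) (hpq : p < q) (hcop : Nat.Coprime p q) (hm : 0 < m) (hnt : ¬ (q - p ∣ m)) (c : List ℤ) (hc : W4c2invhilbsl2.IsHJDigits p q m c) (i : ℕ) (hi : 1 ≤ i) (hir : i ≤ c.length)
    (f : MvPolynomial (Fin 3) k) (hf : f ∈ MvPolynomial.weightedHomogeneousSubmodule k (W4c2invhilbsl2.wt3 p q m) (W4c2invhilbsl2.nN p q m c i, (0 : ZMod m))) :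
    ∃ a b : MvPolynomial (Fin 3) k, a ∈ MvPolynomial.weightedHomogeneousSubmodule k (W4c2invhilbsl2.wt3 p q m) 0 ∧ b ∈ MvPolynomial.weightedHomogeneousSubmodule k (W4c2invhilbsl2.wt3 p q m) 0 ∧
      f = a * MvPolynomial.X (0 : Fin 3) ^ (W4c2invhilbsl2.nN p q m c i).toNat +
        b * (MvPolynomial.X (1 : Fin 3) ^ (W4c2invhilbsl2.eE p q m c i).toNat * MvPolynomial.X (2 : Fin 3) ^ (W4c2invhilbsl2.lL p q m c i).toNat) := by
  classical
  have hf' : f.IsWeightedHomogeneous (W4c2invhilbsl2.wt3 p q m) (W4c2invhilbsl2.nN p q m c i, (0 : ZMod m)) :=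
    (MvPolynomial.mem_weightedHomogeneousSubmodule _ _ _ _).mp hf
  have key : ∃ a b : MvPolynomial (Fin 3) k,
      a ∈ MvPolynomial.weightedHomogeneousSubmodule k (W4c2invhilbsl2.wt3 p q m) 0 ∧
      b ∈ MvPolynomial.weightedHomogeneousSubmodule k (W4c2invhilbsl2.wt3 p q m) 0 ∧
      (∑ v ∈ f.support, MvPolynomial.monomial v (MvPolynomial.coeff v f))
        = a * MvPolynomial.X (0 : Fin 3) ^ (W4c2invhilbsl2.nN p q m c i).toNat +
        b * (MvPolynomial.X (1 : Fin 3) ^ (W4c2invhilbsl2.eE p q m c i).toNat * MvPolynomial.X (2 : Fin 3) ^ (W4c2invhilbsl2.lL p q m c i).toNat) := by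
    refine Finset.sum_induction _ (fun g => ∃ a b : MvPolynomial (Fin 3) k,
      a ∈ MvPolynomial.weightedHomogeneousSubmodule k (W4c2invhilbsl2.wt3 p q m) 0 ∧
      b ∈ MvPolynomial.weightedHomogeneousSubmodule k (W4c2invhilbsl2.wt3 p q m) 0 ∧
      g = a * MvPolynomial.X (0 : Fin 3) ^ (W4c2invhilbsl2.nN p q m c i).toNat +
        b * (MvPolynomial.X (1 : Fin 3) ^ (W4c2invhilbsl2.eE p q m c i).toNat * MvPolynomial.X (2 : Fin 3) ^ (W4c2invhilbsl2.lL p q m c i).toNat)) ?_ ?_ ?_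
    · rintro g1 g2 ⟨a1, b1, ha1, hb1, rfl⟩ ⟨a2, b2, ha2, hb2, rfl⟩
      exact ⟨a1 + a2, b1 + b2, Submodule.add_mem _ ha1 ha2, Submodule.add_mem _ hb1 hb2, by ring⟩
    · exact ⟨0, 0, Submodule.zero_mem _, Submodule.zero_mem _, by simp⟩
    · intro d hd
      exact aux_mono k p q m hp hpq hcop hm hnt c hc i hi hir d _ (hf' (MvPolynomial.mem_support_iff.mp hd))
  rwa [MvPolynomial.support_sum_monomial_coeff] at key

end Groth.Agent.S15729
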