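import Groth.Statements.S15732
-- import your own Groth.Agent.* helpers here
import Mathlib
import Groth.Agent.Lib.Helper23.W5
import Groth.Agent.Lib.Helper23.HJ2

set_option autoImplicit false
universe u
open W4c2invhilbsl2

namespace Groth.Agent.S15732

open MvPolynomial Groth.Agent.Lib.Helper23 in
theorem aux_mono (k : Type u) [Field k] (p q m : ℕ) (hp : 0 < p) (hpq : p < q) (hcop : Nat.Coprime p q)
    (hm : 0 < m) (hnt : ¬ (q - p ∣ m)) (c : List ℤ) (hc : W4c2invhilbsl2.IsHJDigits p q m c) (i : ℕ)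
    (hi : 1 ≤ i) (hir : i ≤ c.length) (d : Fin 5 →₀ ℕ) (cf : k)
    (hd : Finsupp.weight (W4c2invhilbsl2.wt5 p q m) d = (W4c2invhilbsl2.nN p q m c i, (0 : ZMod m))) :
    ∃ (a₀ : MvPolynomial (Fin 5) k) (a : ℕ → ℕ → MvPolynomial (Fin 5) k),
      a₀ ∈ weightedHomogeneousSubmodule k (W4c2invhilbsl2.wt5 p q m) 0 ∧
      (∀ e l : ℕ, a e l ∈ weightedHomogeneousSubmodule k (W4c2invhilbsl2.wt5 p q m) 0) ∧
      monomial d cf = a₀ * X (0 : Fin 5) ^ (W4c2invhilbsl2.nN p q m c i).toNat +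
          ∑ e ∈ Finset.range ((W4c2invhilbsl2.eE p q m c i).toNat + 1), ∑ l ∈ Finset.range ((W4c2invhilbsl2.lL p q m c i).toNat + 1),
            a e l * (X (1 : Fin 5) ^ ((W4c2invhilbsl2.eE p q m c i).toNat - e) * X (2 : Fin 5) ^ e *
              X (3 : Fin 5) ^ ((W4c2invhilbsl2.lL p q m c i).toNat - l) * X (4 : Fin 5) ^ l) := by
  classical
  obtain ⟨hNc, hEc, hLc, hLE, hcore⟩ := HJ.core hp hpq hcop hm hnt c hc i hi hir
  have hd' := hd
  rw [W5.aux_weight5, Prod.ext_iff] at hd'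
  obtain ⟨hd1, hd2⟩ := hd'
  simp only at hd1 hd2
  have z := Submodule.zero_mem (weightedHomogeneousSubmodule k (W4c2invhilbsl2.wt5 p q m) 0)
  have hnN : W4c2invhilbsl2.nN p q m c i
      = -(p : ℤ) * W4c2invhilbsl2.eE p q m c i + (q : ℤ) * W4c2invhilbsl2.lL p q m c i := rfl
  generalize hN : (W4c2invhilbsl2.nN p q m c i).toNat = N at *
  generalize hE' : (W4c2invhilbsl2.eE p q m c i).toNat = E at *
  generalize hL' : (W4c2invhilbsl2.lL p q m c i).toNat = L at *
  rcases hcore (d 0) (d 1 + d 2) (d 3 + d 4) (by push_cast; exact hd1) (by push_cast; exact hd2)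
    with h0 | ⟨hE, hL⟩
  · obtain ⟨hw, hfac⟩ := W5.aux_div (k := k) (W4c2invhilbsl2.wt5 p q m)
      (Finsupp.single (0 : Fin 5) N) d cf (by intro j; fin_cases j <;> simp [h0])
    refine ⟨monomial (d - Finsupp.single (0 : Fin 5) N) cf, fun _ _ => 0,
      W5.monomial_mem_zero _ _ _ ?_, fun _ _ => z, ?_⟩
    · rw [hw, hd, Finsupp.weight_single, W5.wt5_zero]
      ext <;> simp [hNc]
    · rw [hfac, ← X_pow_eq_monomial]
      simp
  · have he₀E : min (d 2) E ≤ E := min_le_right _ _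
    have hl₀L : min (d 4) L ≤ L := min_le_right _ _
    obtain ⟨hw, hfac⟩ := W5.aux_div (k := k) (W4c2invhilbsl2.wt5 p q m)
      (Finsupp.single (1 : Fin 5) (E - min (d 2) E) + Finsupp.single (2 : Fin 5) (min (d 2) E)
        + Finsupp.single (3 : Fin 5) (L - min (d 4) L) + Finsupp.single (4 : Fin 5) (min (d 4) L)) d cf
      (by intro j; fin_cases j <;> simp <;> omega)
    have hws : Finsupp.weight (W4c2invhilbsl2.wt5 p q m)
        (Finsupp.single (1 : Fin 5) (E - min (d 2) E) + Finsupp.single (2 : Fin 5) (min (d 2) E)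
        + Finsupp.single (3 : Fin 5) (L - min (d 4) L) + Finsupp.single (4 : Fin 5) (min (d 4) L))
        = (W4c2invhilbsl2.nN p q m c i, (0 : ZMod m)) := by
      rw [map_add, map_add, map_add, Finsupp.weight_single, Finsupp.weight_single,
        Finsupp.weight_single, Finsupp.weight_single, W5.wt5_one, W5.wt5_two, W5.wt5_three,
        W5.wt5_four, ← add_smul, add_assoc, ← add_smul, Nat.sub_add_cancel he₀E,
        Nat.sub_add_cancel hl₀L]
      ext
      · show (E : ℕ) • (-(p : ℤ)) + (L : ℕ) • (q : ℤ) = W4c2invhilbsl2.nN p q m c i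
        rw [nsmul_eq_mul, nsmul_eq_mul, hEc, hLc, hnN]
        ring
      · show (E : ℕ) • (-1 : ZMod m) + (L : ℕ) • (1 : ZMod m) = 0
        rw [nsmul_eq_mul, nsmul_eq_mul, mul_neg, mul_one, mul_one]
        linear_combination hLE
    have hM := W5.monomial_mem_zero (k := k) (W4c2invhilbsl2.wt5 p q m)
      (d - (Finsupp.single (1 : Fin 5) (E - min (d 2) E) + Finsupp.single (2 : Fin 5) (min (d 2) E)
        + Finsupp.single (3 : Fin 5) (L - min (d 4) L) + Finsupp.single (4 : Fin 5) (min (d 4) L))) cf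
      (by rw [hw, hd, hws, sub_self])
    have hX : (X (1 : Fin 5) ^ (E - min (d 2) E) * X (2 : Fin 5) ^ (min (d 2) E) *
        X (3 : Fin 5) ^ (L - min (d 4) L) * X (4 : Fin 5) ^ (min (d 4) L) : MvPolynomial (Fin 5) k)
        = monomial (Finsupp.single (1 : Fin 5) (E - min (d 2) E) + Finsupp.single (2 : Fin 5) (min (d 2) E)
        + Finsupp.single (3 : Fin 5) (L - min (d 4) L) + Finsupp.single (4 : Fin 5) (min (d 4) L)) 1 := by
      rw [X_pow_eq_monomial, X_pow_eq_monomial, X_pow_eq_monomial, X_pow_eq_monomial,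
        monomial_mul, monomial_mul, monomial_mul, mul_one, mul_one, mul_one]
    refine ⟨0, fun e l => if e = min (d 2) E then (if l = min (d 4) L then
      monomial (d - (Finsupp.single (1 : Fin 5) (E - min (d 2) E) + Finsupp.single (2 : Fin 5) (min (d 2) E)
        + Finsupp.single (3 : Fin 5) (L - min (d 4) L) + Finsupp.single (4 : Fin 5) (min (d 4) L))) cf
      else 0) else 0, z, ?_, ?_⟩
    · intro e l
      dsimp only
      split_ifs
      · exact hM
      · exact z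
      · exact z
    · rw [zero_mul, zero_add,
        Finset.sum_eq_single_of_mem (min (d 2) E) (Finset.mem_range.mpr (by omega))]
      · rw [Finset.sum_eq_single_of_mem (min (d 4) L) (Finset.mem_range.mpr (by omega))]
        · dsimp only
          rw [if_pos rfl, if_pos rfl, hX]
          exact hfac
        · intro l _ hl
          simp [hl]
      · intro e _ he
        simp [he]

/-- Let 0 < p < q be coprime integers and m ≥ 1 such that q − p does not divide m; put g = gcd(m, q−p),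
b = (q−p)/g, α = ⌊mp/(q−p)⌋, β = the remainder of mp modulo q−p and t = (q−p−β)/g, so that 1 ≤ t <
b, and let b/t = c₁ − 1/(c₂ − 1/(⋯ − 1/c_r)) be the negative-regular (Hirzebruch–Jung) continued
fraction expansion with every cᵢ ≥ 2; set P₀ = 0, P₁ = 1, Q₀ = −1, Q₁ = 0, Pᵢ = cᵢ₋₁Pᵢ₋₁ − Pᵢ₋₂, Qᵢ
= cᵢ₋₁Qᵢ₋₁ − Qᵢ₋₂ for 2 ≤ i ≤ r+1, and eᵢ = (α+1+m)Pᵢ − Qᵢ, lᵢ = (α+1)Pᵢ − Qᵢ, nᵢ = q·lᵢ − p·eᵢ,
which are non-negative integers for 0 ≤ i ≤ r+1. Grade the polynomial ring k[X₀,…,X₄] over a field k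
by ℤ × ℤ/m, giving X₀ weight (1,0), X₁ and X₂ weight (−p,−1), and X₃ and X₄ weight (q,1). Then for
every 1 ≤ i ≤ r, modulo the principal ideal generated by the weight-zero element X₀^(q−p) − X₁X₄ +
X₂X₃, every polynomial homogeneous of weight (nᵢ, 0) is congruent to a combination a₀·X₀^(nᵢ) + Σ
a_{e,l}·X₁^(eᵢ−e)X₂^e X₃^(lᵢ−l)X₄^l (sum over 0 ≤ e ≤ eᵢ, 0 ≤ l ≤ lᵢ) whose coefficients a₀, a_{e,l}
are homogeneous of weight zero. Equivalently, in the coordinate ring of the hypersurface the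
weight-(nᵢ,0) piece is generated over the weight-zero subring (the invariant ring) by X₀^(nᵢ)
together with the products of a degree-eᵢ monomial in X₁, X₂ and a degree-lᵢ monomial in X₃, X₄.
(The published statement is over the complex numbers; this row takes any field.) -/
theorem result (k : Type u) [Field k] (p q m : ℕ) (hp : 0 < p) (hpq : p < q) (hcop : Nat.Coprime p q) (hm : 0 < m) (hnt : ¬ (q - p ∣ m)) (c : List ℤ) (hc : W4c2invhilbsl2.IsHJDigits p q m c) (i : ℕ) (hi : 1 ≤ i) (hir : i ≤ c.length)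
    (f : MvPolynomial (Fin 5) k) (hf : f ∈ MvPolynomial.weightedHomogeneousSubmodule k (W4c2invhilbsl2.wt5 p q m) (W4c2invhilbsl2.nN p q m c i, (0 : ZMod m))) :
    ∃ (a₀ : MvPolynomial (Fin 5) k) (a : ℕ → ℕ → MvPolynomial (Fin 5) k),
      a₀ ∈ MvPolynomial.weightedHomogeneousSubmodule k (W4c2invhilbsl2.wt5 p q m) 0 ∧ (∀ e l : ℕ, a e l ∈ MvPolynomial.weightedHomogeneousSubmodule k (W4c2invhilbsl2.wt5 p q m) 0) ∧
      f - (a₀ * MvPolynomial.X (0 : Fin 5) ^ (W4c2invhilbsl2.nN p q m c i).toNat +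
          ∑ e ∈ Finset.range ((W4c2invhilbsl2.eE p q m c i).toNat + 1), ∑ l ∈ Finset.range ((W4c2invhilbsl2.lL p q m c i).toNat + 1),
            a e l * (MvPolynomial.X (1 : Fin 5) ^ ((W4c2invhilbsl2.eE p q m c i).toNat - e) * MvPolynomial.X (2 : Fin 5) ^ e *
              MvPolynomial.X (3 : Fin 5) ^ ((W4c2invhilbsl2.lL p q m c i).toNat - l) * MvPolynomial.X (4 : Fin 5) ^ l)) ∈
        Ideal.span {MvPolynomial.X (0 : Fin 5) ^ (q - p) - MvPolynomial.X 1 * MvPolynomial.X 4 + MvPolynomial.X 2 * MvPolynomial.X 3} := by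
  obtain ⟨a₀, a, ha₀, ha, heq⟩ := Groth.Agent.Lib.Helper23.W5.hom_induction (W4c2invhilbsl2.wt5 p q m)
    (W4c2invhilbsl2.nN p q m c i, (0 : ZMod m))
    (fun g => ∃ (a₀ : MvPolynomial (Fin 5) k) (a : ℕ → ℕ → MvPolynomial (Fin 5) k),
      a₀ ∈ MvPolynomial.weightedHomogeneousSubmodule k (W4c2invhilbsl2.wt5 p q m) 0 ∧ (∀ e l : ℕ, a e l ∈ MvPolynomial.weightedHomogeneousSubmodule k (W4c2invhilbsl2.wt5 p q m) 0) ∧
      g = a₀ * MvPolynomial.X (0 : Fin 5) ^ (W4c2invhilbsl2.nN p q m c i).toNat +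
          ∑ e ∈ Finset.range ((W4c2invhilbsl2.eE p q m c i).toNat + 1), ∑ l ∈ Finset.range ((W4c2invhilbsl2.lL p q m c i).toNat + 1),
            a e l * (MvPolynomial.X (1 : Fin 5) ^ ((W4c2invhilbsl2.eE p q m c i).toNat - e) * MvPolynomial.X (2 : Fin 5) ^ e *
              MvPolynomial.X (3 : Fin 5) ^ ((W4c2invhilbsl2.lL p q m c i).toNat - l) * MvPolynomial.X (4 : Fin 5) ^ l))
    ⟨0, fun _ _ => 0, Submodule.zero_mem _, fun _ _ => Submodule.zero_mem _, by simp⟩
    (by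
      rintro g1 g2 ⟨a1, b1, ha1, hb1, rfl⟩ ⟨a2, b2, ha2, hb2, rfl⟩
      refine ⟨a1 + a2, fun e l => b1 e l + b2 e l, Submodule.add_mem _ ha1 ha2,
        fun e l => Submodule.add_mem _ (hb1 e l) (hb2 e l), ?_⟩
      simp only [add_mul, Finset.sum_add_distrib]
      ring)
    (fun d cf hd => aux_mono k p q m hp hpq hcop hm hnt c hc i hi hir d cf hd) f hf
  refine ⟨a₀, a, ha₀, ha, ?_⟩
  have h0 := Ideal.zero_mem (Ideal.span {MvPolynomial.X (0 : Fin 5) ^ (q - p) - MvPolynomial.X 1 * MvPolynomial.X 4 + MvPolynomial.X 2 * MvPolynomial.X 3} : Ideal (MvPolynomial (Fin 5) k))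
  convert h0 using 1
  exact sub_eq_zero.mpr heq

end Groth.Agent.S15732
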