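import Groth.Statements.S15734
-- import your own Groth.Agent.* helpers here
import Mathlib
import Groth.Agent.Lib.Helper23.HJ

set_option autoImplicit false
open W4c2invhilbsl2

namespace Groth.Agent.S15734

/-- Let 0 < p < q be coprime integers and m ≥ 1 such that q − p does not divide m; put g = gcd(m, q−p),
b = (q−p)/g, α = ⌊mp/(q−p)⌋, β = the remainder of mp modulo q−p and t = (q−p−β)/g, so that 1 ≤ t <
b, and let b/t = c₁ − 1/(c₂ − 1/(⋯ − 1/c_r)) be the negative-regular (Hirzebruch–Jung) continued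
fraction expansion with every cᵢ ≥ 2; set P₀ = 0, P₁ = 1, Q₀ = −1, Q₁ = 0, Pᵢ = cᵢ₋₁Pᵢ₋₁ − Pᵢ₋₂, Qᵢ
= cᵢ₋₁Qᵢ₋₁ − Qᵢ₋₂ for 2 ≤ i ≤ r+1, and eᵢ = (α+1+m)Pᵢ − Qᵢ, lᵢ = (α+1)Pᵢ − Qᵢ, nᵢ = q·lᵢ − p·eᵢ,
which are non-negative integers for 0 ≤ i ≤ r+1; moreover g divides every nᵢ, and write tᵢ = nᵢ/g
(so t₁ = t). Then (a) for every 1 ≤ i ≤ r the remainder of t·Pᵢ on division by b equals tᵢ, and (b)
for every 1 < i ≤ r and every integer x with 0 < x < Pᵢ the remainder ρ of t·x on division by b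
satisfies tᵢ₋₁ ≤ ρ ≤ b + tᵢ − tᵢ₋₁. -/
theorem result (p q m : ℕ) (hp : 0 < p) (hpq : p < q) (hcop : Nat.Coprime p q) (hm : 0 < m) (hnt : ¬ (q - p ∣ m)) (c : List ℤ) (hc : W4c2invhilbsl2.IsHJDigits p q m c) :
    (∀ i : ℕ, 1 ≤ i → i ≤ c.length →
      Int.emod ((W4c2invhilbsl2.tT p q m : ℤ) * W4c2invhilbsl2.hjP c i) (W4c2invhilbsl2.bB p q m : ℤ) = W4c2invhilbsl2.nN p q m c i / (W4c2invhilbsl2.gcdK p q m : ℤ)) ∧
    (∀ i : ℕ, 1 < i → i ≤ c.length → ∀ x : ℤ, 0 < x → x < W4c2invhilbsl2.hjP c i →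
      W4c2invhilbsl2.nN p q m c (i - 1) / (W4c2invhilbsl2.gcdK p q m : ℤ) ≤ Int.emod ((W4c2invhilbsl2.tT p q m : ℤ) * x) (W4c2invhilbsl2.bB p q m : ℤ) ∧
      Int.emod ((W4c2invhilbsl2.tT p q m : ℤ) * x) (W4c2invhilbsl2.bB p q m : ℤ) ≤
        (W4c2invhilbsl2.bB p q m : ℤ) + W4c2invhilbsl2.nN p q m c i / (W4c2invhilbsl2.gcdK p q m : ℤ) - W4c2invhilbsl2.nN p q m c (i - 1) / (W4c2invhilbsl2.gcdK p q m : ℤ)) := by
  obtain ⟨hG, hGB, hGT, hT0, hTB, hn, hdec, hone, hzero⟩ :=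
    Groth.Agent.Lib.Helper23.HJ.hj_facts hp hpq hcop hm hnt c hc
  have hdiv : ∀ i, W4c2invhilbsl2.nN p q m c i / (W4c2invhilbsl2.gcdK p q m : ℤ) =
      Groth.Agent.Lib.Helper23.HJ.sq c (W4c2invhilbsl2.bB p q m) (W4c2invhilbsl2.tT p q m) i := by
    intro i
    rw [hn i, Int.mul_ediv_cancel_left _ hG.ne']
  constructor
  · intro i hi1 hir
    rw [hdiv]
    have e := Groth.Agent.Lib.Helper23.HJ.lin_eq_sq c (W4c2invhilbsl2.bB p q m) (W4c2invhilbsl2.tT p q m) i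
    have h0 : 0 < Groth.Agent.Lib.Helper23.HJ.sq c (W4c2invhilbsl2.bB p q m) (W4c2invhilbsl2.tT p q m) i := by
      have := Groth.Agent.Lib.Helper23.HJ.sq_antitone hdec i (c.length + 1) (by omega) le_rfl
      rwa [hzero] at this
    have h1 : Groth.Agent.Lib.Helper23.HJ.sq c (W4c2invhilbsl2.bB p q m) (W4c2invhilbsl2.tT p q m) i < (W4c2invhilbsl2.bB p q m : ℤ) :=
      Groth.Agent.Lib.Helper23.HJ.sq_antitone hdec 0 i (by omega) (by omega)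
    exact Groth.Agent.Lib.Helper23.HJ.emod_eq_of_repr (k := W4c2invhilbsl2.hjQ c i) (by linarith) h0.le h1
  · intro i hi hir x hx0 hx
    rw [hdiv, hdiv]
    exact Groth.Agent.Lib.Helper23.HJ.emod_bounds hc.1 hdec hzero i hi hir x hx0 hx

end Groth.Agent.S15734
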