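import Groth.Statements.S15738
-- import your own Groth.Agent.* helpers here
import Mathlib

set_option autoImplicit false
universe u
open W4c2invhilbsl2

namespace Groth.Agent.S15738

open MvPolynomial in
theorem aux_i (k : Type u) [Field k] (p q : ℕ) (hpq : p < q) :
    ∀ d0 d1 d2 e0 e1 e2 : ℕ,
      (e0 : ℤ) - (p : ℤ) * e1 + (q : ℤ) * e2 = (d0 : ℤ) - (p : ℤ) * d1 + (q : ℤ) * d2 →
      (d1 : ℤ) - d2 = (e1 : ℤ) - e2 →
      (X (0 : Fin 3) ^ d0 * X (1 : Fin 3) ^ d1 * X (2 : Fin 3) ^ d2 - X (0 : Fin 3) ^ e0 * X (1 : Fin 3) ^ e1 * X (2 : Fin 3) ^ e2 : MvPolynomial (Fin 3) k) ∈ Ideal.span {X (0 : Fin 3) ^ (q - p) - X (1 : Fin 3) * X (2 : Fin 3)} := by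
  have key : ∀ a0 a1 a2 j : ℕ, (X (0 : Fin 3) ^ (a0 + (q - p) * j) * X (1 : Fin 3) ^ a1 * X (2 : Fin 3) ^ a2 - X (0 : Fin 3) ^ a0 * X (1 : Fin 3) ^ (a1 + j) * X (2 : Fin 3) ^ (a2 + j) : MvPolynomial (Fin 3) k) ∈ Ideal.span {X (0 : Fin 3) ^ (q - p) - X (1 : Fin 3) * X (2 : Fin 3)} := by
    intro a0 a1 a2 j
    obtain ⟨w, hw⟩ := sub_dvd_pow_sub_pow (X (0 : Fin 3) ^ (q - p) : MvPolynomial (Fin 3) k) (X (1 : Fin 3) * X (2 : Fin 3)) j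
    rw [Ideal.mem_span_singleton]
    refine ⟨X (0 : Fin 3) ^ a0 * X (1 : Fin 3) ^ a1 * X (2 : Fin 3) ^ a2 * w, ?_⟩
    have h1 : (X (0 : Fin 3) ^ (a0 + (q - p) * j) * X (1 : Fin 3) ^ a1 * X (2 : Fin 3) ^ a2 - X (0 : Fin 3) ^ a0 * X (1 : Fin 3) ^ (a1 + j) * X (2 : Fin 3) ^ (a2 + j) : MvPolynomial (Fin 3) k) = X (0 : Fin 3) ^ a0 * X (1 : Fin 3) ^ a1 * X (2 : Fin 3) ^ a2 * ((X (0 : Fin 3) ^ (q - p)) ^ j - (X (1 : Fin 3) * X (2 : Fin 3)) ^ j) := by ring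
    rw [h1, hw]; ring
  intro d0 d1 d2 e0 e1 e2 hn hc
  have hpq' : (p : ℤ) < q := by exact_mod_cast hpq
  rcases le_total d1 e1 with h | h
  · obtain ⟨j, rfl⟩ := Nat.exists_eq_add_of_le h
    have h2 : e2 = d2 + j := by push_cast at hc; omega
    subst h2
    have h0 : d0 = e0 + (q - p) * j := by
      zify [hpq.le]; push_cast at hn; linarith
    subst h0
    exact key e0 d1 d2 j
  · obtain ⟨j, rfl⟩ := Nat.exists_eq_add_of_le h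
    have h2 : d2 = e2 + j := by push_cast at hc; omega
    subst h2
    have h0 : e0 = d0 + (q - p) * j := by
      zify [hpq.le]; push_cast at hn; linarith
    subst h0
    have := key d0 e1 e2 j
    have h3 := neg_mem this
    rwa [neg_sub] at h3

open MvPolynomial in
theorem aux_ii (k : Type u) [Field k] (p q m : ℕ) (hp : 0 < p) (hpq : p < q) :
    ∀ d0 d1 d2 e0 e1 e2 : ℕ,
      (e0 : ℤ) - (p : ℤ) * e1 + (q : ℤ) * e2 = (d0 : ℤ) - (p : ℤ) * d1 + (q : ℤ) * d2 →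
      (e1 : ℤ) - e2 + m ≤ (d1 : ℤ) - d2 →
      ∃ a0 a1 a2 : ℕ, (a0 : ℤ) - (p : ℤ) * a1 + (q : ℤ) * a2 = (d0 : ℤ) - (p : ℤ) * d1 + (q : ℤ) * d2 ∧
        (a1 : ℤ) - a2 = (d1 : ℤ) - d2 - m ∧
        (X (0 : Fin 3) ^ d0 * X (1 : Fin 3) ^ d1 * X (2 : Fin 3) ^ d2 - X (0 : Fin 3) ^ (a0 + m * p) * X (1 : Fin 3) ^ (a1 + m) * X (2 : Fin 3) ^ a2 : MvPolynomial (Fin 3) k) ∈ Ideal.span {X (0 : Fin 3) ^ (q - p) - X (1 : Fin 3) * X (2 : Fin 3)} := by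
  intro d0 d1 d2 e0 e1 e2 hn hc
  have hpq' : (p : ℤ) < q := by exact_mod_cast hpq
  have hp' : (0 : ℤ) < p := by exact_mod_cast hp
  have he0 : (0 : ℤ) ≤ e0 := Int.natCast_nonneg _
  have he1 : (0 : ℤ) ≤ e1 := Int.natCast_nonneg _
  have he2 : (0 : ℤ) ≤ e2 := Int.natCast_nonneg _
  rcases le_or_gt ((d1 : ℤ) - d2) m with hA | hB
  · have h1 : (0 : ℤ) ≤ (d0 : ℤ) - p * d1 + q * d2 - q * (m - ((d1 : ℤ) - d2)) := by
      nlinarith [mul_nonneg (sub_pos.mpr hpq').le he1, mul_nonneg (hp'.trans hpq').le (sub_nonneg.mpr hc)]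
    have h2 : (0 : ℤ) ≤ m - ((d1 : ℤ) - d2) := by linarith
    obtain ⟨a0, ha0⟩ := Int.eq_ofNat_of_zero_le h1
    obtain ⟨a2, ha2⟩ := Int.eq_ofNat_of_zero_le h2
    refine ⟨a0, 0, a2, ?_, ?_, ?_⟩
    · push_cast; rw [← ha0, ← ha2]; ring
    · push_cast; rw [← ha2]; ring
    · apply aux_i k p q hpq
      · push_cast; rw [← ha0, ← ha2]; ring
      · push_cast; rw [← ha2]; ring
  · have h1 : (0 : ℤ) ≤ (d0 : ℤ) - p * d1 + q * d2 + p * ((d1 : ℤ) - d2) - m * p := by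
      nlinarith [mul_nonneg (sub_pos.mpr hpq').le he2, mul_nonneg hp'.le (sub_nonneg.mpr hc)]
    have h2 : (0 : ℤ) ≤ (d1 : ℤ) - d2 - m := by linarith
    obtain ⟨a0, ha0⟩ := Int.eq_ofNat_of_zero_le h1
    obtain ⟨a1, ha1⟩ := Int.eq_ofNat_of_zero_le h2
    refine ⟨a0, a1, 0, ?_, ?_, ?_⟩
    · push_cast; rw [← ha0, ← ha1]; ring
    · push_cast; rw [← ha1]; ring
    · apply aux_i k p q hpq
      · push_cast; rw [← ha0, ← ha1]; ring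
      · push_cast; rw [← ha1]; ring

open MvPolynomial in
theorem aux_iii (k : Type u) [Field k] (p q m : ℕ) (hp : 0 < p) (hpq : p < q) :
    ∀ j : ℕ, ∀ d0 d1 d2 e0 e1 e2 : ℕ,
      (e0 : ℤ) - (p : ℤ) * e1 + (q : ℤ) * e2 = (d0 : ℤ) - (p : ℤ) * d1 + (q : ℤ) * d2 →
      ((d1 : ℤ) - d2) - ((e1 : ℤ) - e2) = (j : ℤ) * m →
      (X (0 : Fin 3) ^ d0 * X (1 : Fin 3) ^ d1 * X (2 : Fin 3) ^ d2 - X (0 : Fin 3) ^ e0 * X (1 : Fin 3) ^ e1 * X (2 : Fin 3) ^ e2 : MvPolynomial (Fin 3) k) ∈ Ideal.span {X (0 : Fin 3) ^ (q - p) - X (1 : Fin 3) * X (2 : Fin 3), 1 - X (0 : Fin 3) ^ (m * p) * X (1 : Fin 3) ^ m} := by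
  intro j
  induction j with
  | zero =>
    intro d0 d1 d2 e0 e1 e2 hn hc
    refine Ideal.span_mono ?_ (aux_i k p q hpq d0 d1 d2 e0 e1 e2 hn (by push_cast at hc; linarith))
    simp
  | succ j ih =>
    intro d0 d1 d2 e0 e1 e2 hn hc
    obtain ⟨a0, a1, a2, han, hac, hmem⟩ := aux_ii k p q m hp hpq d0 d1 d2 e0 e1 e2 hn (by
      push_cast at hc
      have : (0 : ℤ) ≤ (j : ℤ) * m := by positivity
      linarith)
    have h2 := ih a0 a1 a2 e0 e1 e2 (hn.trans han.symm) (by push_cast at hc; linarith)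
    have h1 := Ideal.span_mono (show ({X (0 : Fin 3) ^ (q - p) - X (1 : Fin 3) * X (2 : Fin 3)} : Set (MvPolynomial (Fin 3) k)) ⊆ {X (0 : Fin 3) ^ (q - p) - X (1 : Fin 3) * X (2 : Fin 3), 1 - X (0 : Fin 3) ^ (m * p) * X (1 : Fin 3) ^ m} by simp) hmem
    have h3 : (1 - X (0 : Fin 3) ^ (m * p) * X (1 : Fin 3) ^ m : MvPolynomial (Fin 3) k) ∈ Ideal.span {X (0 : Fin 3) ^ (q - p) - X (1 : Fin 3) * X (2 : Fin 3), 1 - X (0 : Fin 3) ^ (m * p) * X (1 : Fin 3) ^ m} := Ideal.subset_span (by simp)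
    have h4 := Ideal.mul_mem_left _ (X (0 : Fin 3) ^ a0 * X (1 : Fin 3) ^ a1 * X (2 : Fin 3) ^ a2 : MvPolynomial (Fin 3) k) h3
    have := Ideal.sub_mem _ (Ideal.add_mem _ h1 h2) h4
    convert this using 1
    ring

/-- Let k be a field and m ≥ 1; for a monomial X₀^d₀X₁^d₁X₂^d₂ of the polynomial ring in X₀, X₁, X₂ (X₂
standing for Xⱼ, j = 3 or 4, of the five-variable ring) put n = d₀ − p·d₁ + q·d₂ (its weight for the
torus diag(t, t^(−p), t^q)), c = d₁ − d₂ and ω = p·d₁ − q·d₂, so that d₀ = n + ω; here 0 < p < q are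
coprime integers. Take two monomials X₀^d₀X₁^d₁X₂^d₂ and X₀^e₀X₁^e₁X₂^e₂ with the same n and with
values c, c' of c congruent modulo m (so both lie in the same ℤ × ℤ/m-weight piece for the weights
(1,0), (−p,−1), (q,1)). Then: (i) if c = c', the difference of the two monomials lies in the
principal ideal (X₀^(q−p) − X₁X₂); (ii) if c' < c, the monomial X₀^d₀X₁^d₁X₂^d₂ lies in the ideal
(X₀^(q−p) − X₁X₂, X₀^(mp)X₁^m); (iii) in all cases the difference lies in the ideal (X₀^(q−p) −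
X₁X₂, 1 − X₀^(mp)X₁^m). -/
theorem result (k : Type u) [Field k] (p q m : ℕ) (hp : 0 < p) (hpq : p < q) (hcop : Nat.Coprime p q) (hm : 0 < m)
    (d0 d1 d2 e0 e1 e2 : ℕ) (hn : (e0 : ℤ) - (p : ℤ) * e1 + (q : ℤ) * e2 = (d0 : ℤ) - (p : ℤ) * d1 + (q : ℤ) * d2)
    (hc : (m : ℤ) ∣ ((d1 : ℤ) - d2) - ((e1 : ℤ) - e2)) :
    ((d1 : ℤ) - d2 = (e1 : ℤ) - e2 →
      (MvPolynomial.X (0 : Fin 3) ^ d0 * MvPolynomial.X (1 : Fin 3) ^ d1 * MvPolynomial.X (2 : Fin 3) ^ d2 - MvPolynomial.X (0 : Fin 3) ^ e0 * MvPolynomial.X (1 : Fin 3) ^ e1 * MvPolynomial.X (2 : Fin 3) ^ e2 : MvPolynomial (Fin 3) k) ∈ Ideal.span {MvPolynomial.X (0 : Fin 3) ^ (q - p) - MvPolynomial.X (1 : Fin 3) * MvPolynomial.X (2 : Fin 3)}) ∧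
    ((e1 : ℤ) - e2 < (d1 : ℤ) - d2 →
      (MvPolynomial.X (0 : Fin 3) ^ d0 * MvPolynomial.X (1 : Fin 3) ^ d1 * MvPolynomial.X (2 : Fin 3) ^ d2 : MvPolynomial (Fin 3) k) ∈ Ideal.span {MvPolynomial.X (0 : Fin 3) ^ (q - p) - MvPolynomial.X (1 : Fin 3) * MvPolynomial.X (2 : Fin 3), MvPolynomial.X (0 : Fin 3) ^ (m * p) * MvPolynomial.X (1 : Fin 3) ^ m}) ∧
    ((MvPolynomial.X (0 : Fin 3) ^ d0 * MvPolynomial.X (1 : Fin 3) ^ d1 * MvPolynomial.X (2 : Fin 3) ^ d2 - MvPolynomial.X (0 : Fin 3) ^ e0 * MvPolynomial.X (1 : Fin 3) ^ e1 * MvPolynomial.X (2 : Fin 3) ^ e2 : MvPolynomial (Fin 3) k) ∈ Ideal.span {MvPolynomial.X (0 : Fin 3) ^ (q - p) - MvPolynomial.X (1 : Fin 3) * MvPolynomial.X (2 : Fin 3), 1 - MvPolynomial.X (0 : Fin 3) ^ (m * p) * MvPolynomial.X (1 : Fin 3) ^ m}) := by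
  refine ⟨fun h => aux_i k p q hpq d0 d1 d2 e0 e1 e2 hn h, fun h => ?_, ?_⟩
  · obtain ⟨a0, a1, a2, han, hac, hmem⟩ := aux_ii k p q m hp hpq d0 d1 d2 e0 e1 e2 hn (by
      have := Int.le_of_dvd (by linarith) hc
      linarith)
    have h1 := Ideal.span_mono (show ({MvPolynomial.X (0 : Fin 3) ^ (q - p) - MvPolynomial.X (1 : Fin 3) * MvPolynomial.X (2 : Fin 3)} : Set (MvPolynomial (Fin 3) k)) ⊆ {MvPolynomial.X (0 : Fin 3) ^ (q - p) - MvPolynomial.X (1 : Fin 3) * MvPolynomial.X (2 : Fin 3), MvPolynomial.X (0 : Fin 3) ^ (m * p) * MvPolynomial.X (1 : Fin 3) ^ m} by simp) hmem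
    have h3 : (MvPolynomial.X (0 : Fin 3) ^ (m * p) * MvPolynomial.X (1 : Fin 3) ^ m : MvPolynomial (Fin 3) k) ∈ Ideal.span {MvPolynomial.X (0 : Fin 3) ^ (q - p) - MvPolynomial.X (1 : Fin 3) * MvPolynomial.X (2 : Fin 3), MvPolynomial.X (0 : Fin 3) ^ (m * p) * MvPolynomial.X (1 : Fin 3) ^ m} := Ideal.subset_span (by simp)
    have h4 := Ideal.mul_mem_left _ (MvPolynomial.X (0 : Fin 3) ^ a0 * MvPolynomial.X (1 : Fin 3) ^ a1 * MvPolynomial.X (2 : Fin 3) ^ a2 : MvPolynomial (Fin 3) k) h3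
    have := Ideal.add_mem _ h1 h4
    convert this using 1
    ring
  · obtain ⟨z, hz⟩ := hc
    rcases le_total 0 z with hz0 | hz0
    · obtain ⟨j, rfl⟩ := Int.eq_ofNat_of_zero_le hz0
      exact aux_iii k p q m hp hpq j d0 d1 d2 e0 e1 e2 hn (by rw [hz]; ring)
    · obtain ⟨j, hj⟩ := Int.eq_ofNat_of_zero_le (neg_nonneg.mpr hz0)
      have := aux_iii k p q m hp hpq j e0 e1 e2 d0 d1 d2 hn.symm (by rw [← hj]; linarith)
      have h3 := neg_mem this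
      rwa [neg_sub] at h3

end Groth.Agent.S15738
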