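import Groth.Statements.S15739
-- import your own Groth.Agent.* helpers here
import Mathlib
import Groth.Agent.Lib.Helper23.NT

set_option autoImplicit false
universe u
open W4c2invhilbsl2

namespace Groth.Agent.S15739

open MvPolynomial Groth.Agent.Lib.Helper23 in
theorem main (k : Type u) [Field k] (p q m : ℕ) (hp : 0 < p) (hpq : p < q) (hcop : Nat.Coprime p q) (hm : 0 < m)
    (d0 d1 d2 e0 e1 e2 : ℕ) (hn : (e0 : ℤ) - (p : ℤ) * e1 + (q : ℤ) * e2 = (d0 : ℤ) - (p : ℤ) * d1 + (q : ℤ) * d2)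
    (hcd : (m : ℤ) ∣ (d1 : ℤ) - d2) (hce : (m : ℤ) ∣ (e1 : ℤ) - e2)
    (hd0 : d0 < Nat.gcd m (q - p)) (he0 : e0 < Nat.gcd m (q - p)) :
    (d0 = e0 ∧ ((m : ℤ) * ((q - p) / Nat.gcd m (q - p) : ℕ)) ∣ ((d1 : ℤ) - d2) - ((e1 : ℤ) - e2)) ∧
    ((d1 : ℤ) - d2 < (e1 : ℤ) - e2 →
      (X (0 : Fin 3) ^ d0 * X (1 : Fin 3) ^ d1 * X (2 : Fin 3) ^ d2 * (X (1 : Fin 3) ^ (m / Nat.gcd m (q - p) * q) * X (2 : Fin 3) ^ (m / Nat.gcd m (q - p) * p)) : MvPolynomial (Fin 3) k) ∣ X (0 : Fin 3) ^ e0 * X (1 : Fin 3) ^ e1 * X (2 : Fin 3) ^ e2) ∧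
    ((X (0 : Fin 3) ^ e0 * X (1 : Fin 3) ^ e1 * X (2 : Fin 3) ^ e2 - X (0 : Fin 3) ^ d0 * X (1 : Fin 3) ^ d1 * X (2 : Fin 3) ^ d2 : MvPolynomial (Fin 3) k) ∈
      Ideal.span {(1 : MvPolynomial (Fin 3) k) - X (1 : Fin 3) ^ (m / Nat.gcd m (q - p) * q) * X (2 : Fin 3) ^ (m / Nat.gcd m (q - p) * p)}) := by
  have hga : Nat.gcd m (q - p) * (m / Nat.gcd m (q - p)) = m :=
    Nat.mul_div_cancel' (Nat.gcd_dvd_left _ _)
  have hgb : Nat.gcd m (q - p) * ((q - p) / Nat.gcd m (q - p)) = q - p :=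
    Nat.mul_div_cancel' (Nat.gcd_dvd_right _ _)
  have hgaZ : ((Nat.gcd m (q - p) : ℕ) : ℤ) * ((m / Nat.gcd m (q - p) : ℕ) : ℤ) = m := by
    exact_mod_cast hga
  have hgbZ : ((Nat.gcd m (q - p) : ℕ) : ℤ) * (((q - p) / Nat.gcd m (q - p) : ℕ) : ℤ) = (q : ℤ) - p := by
    rw [← Nat.cast_sub hpq.le]; exact_mod_cast hgb
  have hm' : (0 : ℤ) < m := by exact_mod_cast hm
  rcases le_total e1 d1 with h | h
  · obtain ⟨j, h0, h1, h2⟩ := NT.aux_nt p q m hp hpq hcop hm d0 d1 d2 e0 e1 e2 hd0 he0 hn.symm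
      (by
        have h3 : ((d2 : ℤ) - e2) - ((d1 : ℤ) - e1) = ((e1 : ℤ) - e2) - ((d1 : ℤ) - d2) := by ring
        rw [h3]; exact dvd_sub hce hcd) h
    have hcc : ((d1 : ℤ) - d2) - ((e1 : ℤ) - e2)
        = (m : ℤ) * (((q - p) / Nat.gcd m (q - p) : ℕ) : ℤ) * j := by
      rw [h1, h2]
      simp only [Nat.cast_add, Nat.cast_mul]
      linear_combination (-((j : ℤ) * ((m / Nat.gcd m (q - p) : ℕ) : ℤ))) * hgbZ
        + ((((q - p) / Nat.gcd m (q - p) : ℕ) : ℤ) * j) * hgaZ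
    refine ⟨⟨h0, ⟨j, hcc⟩⟩, ?_, ?_⟩
    · intro hlt
      exfalso
      have : (0 : ℤ) ≤ (m : ℤ) * (((q - p) / Nat.gcd m (q - p) : ℕ) : ℤ) * j := by positivity
      linarith
    · obtain ⟨w, hw⟩ := sub_dvd_pow_sub_pow (1 : MvPolynomial (Fin 3) k)
        (X (1 : Fin 3) ^ (m / Nat.gcd m (q - p) * q) * X (2 : Fin 3) ^ (m / Nat.gcd m (q - p) * p)) j
      rw [one_pow] at hw
      rw [Ideal.mem_span_singleton]
      refine ⟨X (0 : Fin 3) ^ e0 * X (1 : Fin 3) ^ e1 * X (2 : Fin 3) ^ e2 * w, ?_⟩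
      rw [h0, h1, h2]
      have h7 : (X (0 : Fin 3) ^ e0 * X (1 : Fin 3) ^ e1 * X (2 : Fin 3) ^ e2 : MvPolynomial (Fin 3) k)
          - X (0 : Fin 3) ^ e0 * X (1 : Fin 3) ^ (e1 + j * (m / Nat.gcd m (q - p) * q))
            * X (2 : Fin 3) ^ (e2 + j * (m / Nat.gcd m (q - p) * p))
          = X (0 : Fin 3) ^ e0 * X (1 : Fin 3) ^ e1 * X (2 : Fin 3) ^ e2
            * (1 - (X (1 : Fin 3) ^ (m / Nat.gcd m (q - p) * q) * X (2 : Fin 3) ^ (m / Nat.gcd m (q - p) * p)) ^ j) := by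
        ring
      rw [h7, hw]; ring
  · obtain ⟨j, h0, h1, h2⟩ := NT.aux_nt p q m hp hpq hcop hm e0 e1 e2 d0 d1 d2 he0 hd0 hn
      (by
        have h3 : ((e2 : ℤ) - d2) - ((e1 : ℤ) - d1) = ((d1 : ℤ) - d2) - ((e1 : ℤ) - e2) := by ring
        rw [h3]; exact dvd_sub hcd hce) h
    have hcc : ((d1 : ℤ) - d2) - ((e1 : ℤ) - e2)
        = (m : ℤ) * (((q - p) / Nat.gcd m (q - p) : ℕ) : ℤ) * (-(j : ℤ)) := by
      rw [h1, h2]
      simp only [Nat.cast_add, Nat.cast_mul]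
      linear_combination (((j : ℤ) * ((m / Nat.gcd m (q - p) : ℕ) : ℤ))) * hgbZ
        - ((((q - p) / Nat.gcd m (q - p) : ℕ) : ℤ) * j) * hgaZ
    refine ⟨⟨h0.symm, ⟨-(j : ℤ), hcc⟩⟩, ?_, ?_⟩
    · intro hlt
      have hj : 1 ≤ j := by
        rcases Nat.eq_zero_or_pos j with hj0 | hj0
        · exfalso
          rw [hj0] at hcc
          simp at hcc
          linarith
        · exact hj0
      obtain ⟨j', rfl⟩ : ∃ j', j = j' + 1 := ⟨j - 1, by omega⟩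
      rw [h0, h1, h2]
      refine Dvd.intro ((X (1 : Fin 3) ^ (m / Nat.gcd m (q - p) * q) * X (2 : Fin 3) ^ (m / Nat.gcd m (q - p) * p)) ^ j') ?_
      ring
    · obtain ⟨w, hw⟩ := sub_dvd_pow_sub_pow (1 : MvPolynomial (Fin 3) k)
        (X (1 : Fin 3) ^ (m / Nat.gcd m (q - p) * q) * X (2 : Fin 3) ^ (m / Nat.gcd m (q - p) * p)) j
      rw [one_pow] at hw
      rw [Ideal.mem_span_singleton]
      refine ⟨-(X (0 : Fin 3) ^ d0 * X (1 : Fin 3) ^ d1 * X (2 : Fin 3) ^ d2 * w), ?_⟩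
      rw [h0, h1, h2]
      have h7 : (X (0 : Fin 3) ^ d0 * X (1 : Fin 3) ^ (d1 + j * (m / Nat.gcd m (q - p) * q))
            * X (2 : Fin 3) ^ (d2 + j * (m / Nat.gcd m (q - p) * p)) : MvPolynomial (Fin 3) k)
          - X (0 : Fin 3) ^ d0 * X (1 : Fin 3) ^ d1 * X (2 : Fin 3) ^ d2
          = -(X (0 : Fin 3) ^ d0 * X (1 : Fin 3) ^ d1 * X (2 : Fin 3) ^ d2
            * (1 - (X (1 : Fin 3) ^ (m / Nat.gcd m (q - p) * q) * X (2 : Fin 3) ^ (m / Nat.gcd m (q - p) * p)) ^ j)) := by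
        ring
      rw [h7, hw]; ring

/-- Let k be a field and m ≥ 1, put g = gcd(m, q−p), a = m/g and b = (q−p)/g; for a monomial
X₀^d₀X₁^d₁X₂^d₂ of the polynomial ring in X₀, X₁, X₂ (X₂ standing for Xⱼ, j = 3 or 4, of the
five-variable ring) put n = d₀ − p·d₁ + q·d₂ (its weight for the torus diag(t, t^(−p), t^q)), c = d₁
− d₂ and ω = p·d₁ − q·d₂, so that d₀ = n + ω; here 0 < p < q are coprime integers. Take two
monomials X₀^d₀X₁^d₁X₂^d₂ and X₀^e₀X₁^e₁X₂^e₂ with the same n, where 0 ≤ n < q − p, whose values c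
and c' of c are both divisible by m, and with d₀ < g and e₀ < g (so each has the least ω for its
pair (n, c), as g ≤ q − p). Then: (i) d₀ = e₀, i.e. the two values of ω agree, and m·b divides c −
c'; (ii) if c < c', then X₀^e₀X₁^e₁X₂^e₂ is a multiple of X₀^d₀X₁^d₁X₂^d₂ · X₁^(aq)X₂^(ap); (iii)
the difference of the two monomials lies in the principal ideal (1 − X₁^(aq)X₂^(ap)). -/
theorem result (k : Type u) [Field k] (p q m : ℕ) (hp : 0 < p) (hpq : p < q) (hcop : Nat.Coprime p q) (hm : 0 < m)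
    (d0 d1 d2 e0 e1 e2 : ℕ) (hn : (e0 : ℤ) - (p : ℤ) * e1 + (q : ℤ) * e2 = (d0 : ℤ) - (p : ℤ) * d1 + (q : ℤ) * d2)
    (hn0 : 0 ≤ (d0 : ℤ) - (p : ℤ) * d1 + (q : ℤ) * d2) (hnq : (d0 : ℤ) - (p : ℤ) * d1 + (q : ℤ) * d2 < (q : ℤ) - p)
    (hcd : (m : ℤ) ∣ (d1 : ℤ) - d2) (hce : (m : ℤ) ∣ (e1 : ℤ) - e2)
    (hd0 : d0 < Nat.gcd m (q - p)) (he0 : e0 < Nat.gcd m (q - p)) :
    (d0 = e0 ∧ ((m : ℤ) * ((q - p) / Nat.gcd m (q - p) : ℕ)) ∣ ((d1 : ℤ) - d2) - ((e1 : ℤ) - e2)) ∧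
    ((d1 : ℤ) - d2 < (e1 : ℤ) - e2 →
      (MvPolynomial.X (0 : Fin 3) ^ d0 * MvPolynomial.X (1 : Fin 3) ^ d1 * MvPolynomial.X (2 : Fin 3) ^ d2 * (MvPolynomial.X (1 : Fin 3) ^ (m / Nat.gcd m (q - p) * q) * MvPolynomial.X (2 : Fin 3) ^ (m / Nat.gcd m (q - p) * p)) : MvPolynomial (Fin 3) k) ∣ MvPolynomial.X (0 : Fin 3) ^ e0 * MvPolynomial.X (1 : Fin 3) ^ e1 * MvPolynomial.X (2 : Fin 3) ^ e2) ∧
    ((MvPolynomial.X (0 : Fin 3) ^ e0 * MvPolynomial.X (1 : Fin 3) ^ e1 * MvPolynomial.X (2 : Fin 3) ^ e2 - MvPolynomial.X (0 : Fin 3) ^ d0 * MvPolynomial.X (1 : Fin 3) ^ d1 * MvPolynomial.X (2 : Fin 3) ^ d2 : MvPolynomial (Fin 3) k) ∈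
      Ideal.span {(1 : MvPolynomial (Fin 3) k) - MvPolynomial.X (1 : Fin 3) ^ (m / Nat.gcd m (q - p) * q) * MvPolynomial.X (2 : Fin 3) ^ (m / Nat.gcd m (q - p) * p)}) := by
  exact main k p q m hp hpq hcop hm d0 d1 d2 e0 e1 e2 hn hcd hce hd0 he0

end Groth.Agent.S15739
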