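import Groth.Statements.S15744
import Groth.Agent.Lib.Helper3.InvTwist

set_option autoImplicit false
universe u
open QCohSup

namespace Groth.Agent.S15744

open Groth.Agent.Lib.Helper3 Groth.Agent.Lib.Helper3.InvGen Groth.Agent.Lib.Helper3.InvTensor Groth.Agent.Lib.Helper3.InvTwist Groth.Agent.Lib.Helper3.QCSec in
open AlgebraicGeometry in
open CategoryTheory in
open Opposite in

open AlgebraicGeometry in
open CategoryTheory in
open Opposite in
/-- Let `X` be a scheme whose underlying space is quasi-compact and quasi-separated, `L` an invertible
`O_X`-module, `s` a global section of `L` and `X_s` the open where `s` generates `L`, `F` a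
quasi-coherent `O_X`-module and `t` a section of `F` over `X_s`. Then for some integer `n > 0` there
is a global section of `F ⊗ L^{⊗ n}` whose restriction to `X_s` is `t ⊗ s^{⊗ n}`. (The published
statement assumes the underlying space Noetherian, or the scheme separated with quasi-compact
underlying space; the published proof uses a finite affine open cover with quasi-compact pairwise
intersections, which is what quasi-compactness and quasi-separatedness provide, and both published
cases have them.) -/
theorem result
    (X : Scheme.{u}) [CompactSpace X] [QuasiSeparatedSpace X] (L : X.Modules)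
    (hL : PicF.IsInvertible L) (s : Coh.structureModule X ⟶ L) (F : X.Modules) [Coh.IsQCoh F]
    (t : F.val.obj (op (CohB1.genLocus L s))) :
    ∃ n : ℕ, 0 < n ∧ ∃ t' : (CohB1.tensorMod F (CohB1.tensorPow L n)).val.obj (op ⊤),
      (CohB1.tensorMod F (CohB1.tensorPow L n)).val.map
          (homOfLE (le_top : CohB1.genLocus L s ≤ ⊤)).op t' =
        SecTwist.twist s n F (CohB1.genLocus L s) t := by
  obtain ⟨n₀, hn₀⟩ := exists_tm_lpow_extension hL s F ⊤ (by simpa using isCompact_univ)
    (fun U U' hU hU' _ _ => QuasiSeparatedSpace.inter_isCompact U.1 U'.1 U.2 hU.isCompact U'.2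
      hU'.isCompact)
    (CohB1.genLocus L s) le_top le_rfl inf_le_right (show Γ(F, CohB1.genLocus L s) from t)
  obtain ⟨t', ht'⟩ := hn₀ (n₀ + 1) (Nat.le_succ _)
  refine ⟨n₀ + 1, Nat.succ_pos _, t', ?_⟩
  unfold SecTwist.twist
  rw [pow_eq_lpow]
  exact ht'

end Groth.Agent.S15744
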