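import Groth.Statements.S15749
-- import your own Groth.Agent.* helpers here
import Mathlib

set_option autoImplicit false
universe u
open CAlg

namespace Groth.Agent.S15749

theorem aux_red {S : Type*} [CommRing S] [IsReduced S] (x : LaurentSeries S) (hx : IsIdempotentElem x)
    (n : ℤ) (hn : n < 0) : x.coeff n = 0 := by
  by_cases h0 : x = 0
  · rw [h0]; rfl
  have hlc : x.leadingCoeff ≠ 0 := HahnSeries.leadingCoeff_ne_zero.mpr h0
  have hord : 0 ≤ x.order := by
    by_contra hneg
    push Not at hneg
    have h1 := HahnSeries.coeff_mul_order_add_order x x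
    rw [hx.eq] at h1
    have h2 : x.coeff (x.order + x.order) = 0 :=
      HahnSeries.coeff_eq_zero_of_lt_order (by omega)
    rw [h2] at h1
    have h3 : x.leadingCoeff ^ 2 = 0 := by rw [sq]; exact h1.symm
    exact hlc (IsNilpotent.eq_zero ⟨2, h3⟩)
  exact HahnSeries.coeff_eq_zero_of_lt_order (lt_of_lt_of_le hn hord)

theorem aux_nil {R : Type*} [CommRing R] (e : LaurentSeries R) (he : IsIdempotentElem e)
    (n : ℤ) (hn : n < 0) : IsNilpotent (e.coeff n) := by
  have hred : IsReduced (R ⧸ nilradical R) :=
    (Ideal.isRadical_iff_quotient_reduced _).mp (Ideal.radical_isRadical ⊥)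
  have hx : IsIdempotentElem
      (e.map (Ideal.Quotient.mk (nilradical R)).toNonUnitalRingHom :
        LaurentSeries (R ⧸ nilradical R)) := by
    unfold IsIdempotentElem
    rw [← HahnSeries.map_mul, he.eq]
  have h1 := aux_red _ hx n hn
  rw [HahnSeries.map_coeff] at h1
  exact mem_nilradical.mp (Ideal.Quotient.eq_zero_iff_mem.mp h1)

/-- For an arbitrary commutative ring R, every idempotent of the ring of formal Laurent series R((t)) is
the constant series attached to a unique idempotent of R. Equivalently, the structure map R → R((t))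
induces a bijection on idempotents, so that the spectrum of R((t)) is connected if and only if the
spectrum of R is. No reducedness is assumed. -/
theorem result (R : Type u) [CommRing R]
    (e : LaurentSeries R) (he : IsIdempotentElem e) :
    ∃! r : R, IsIdempotentElem r ∧ HahnSeries.C r = e := by
  obtain ⟨N, hN⟩ : ∃ N : ℕ, ∀ n : ℤ, n < -(N:ℤ) → e.coeff n = 0 := by
    refine ⟨(-e.order).toNat, fun n hn => HahnSeries.coeff_eq_zero_of_lt_order ?_⟩
    omega
  set eneg : LaurentSeries R :=
    ∑ n ∈ Finset.Ico (-(N:ℤ)) 0, HahnSeries.single n (e.coeff n) with heneg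
  have hnil : IsNilpotent eneg := by
    apply isNilpotent_sum
    intro n hn
    rw [Finset.mem_Ico] at hn
    obtain ⟨k, hk⟩ := aux_nil e he n hn.2
    refine ⟨k, ?_⟩
    rw [HahnSeries.single_pow, hk, HahnSeries.single_eq_zero]
  set g : PowerSeries R := PowerSeries.mk fun k => e.coeff (k : ℤ) with hg
  have hsplit : e = eneg + HahnSeries.ofPowerSeries ℤ R g := by
    ext m
    rw [HahnSeries.coeff_add, heneg, HahnSeries.coeff_sum, PowerSeries.coeff_coe]
    by_cases hm : m < 0
    · rw [if_pos hm, add_zero]
      by_cases hm2 : -(N:ℤ) ≤ m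
      · rw [Finset.sum_eq_single_of_mem m (Finset.mem_Ico.mpr ⟨hm2, hm⟩)
          (fun b _ hb => HahnSeries.coeff_single_of_ne (Ne.symm hb)), HahnSeries.coeff_single_same]
      · rw [hN m (by omega)]
        symm
        apply Finset.sum_eq_zero
        intro x hx
        apply HahnSeries.coeff_single_of_ne
        intro h
        rw [h] at hm2
        exact hm2 (Finset.mem_Ico.mp hx).1
    · rw [if_neg hm, Finset.sum_eq_zero, zero_add, hg, PowerSeries.coeff_mk]
      · congr 1
        omega
      · intro x hx
        apply HahnSeries.coeff_single_of_ne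
        intro h
        rw [h] at hm
        exact hm (Finset.mem_Ico.mp hx).2
  let φ : PowerSeries R →+* (LaurentSeries R ⧸ nilradical (LaurentSeries R)) :=
    (Ideal.Quotient.mk _).comp (HahnSeries.ofPowerSeries ℤ R)
  have hker : ∀ x ∈ RingHom.ker φ, IsNilpotent x := by
    intro x hx
    rw [RingHom.mem_ker] at hx
    have h1 : HahnSeries.ofPowerSeries ℤ R x ∈ nilradical (LaurentSeries R) :=
      Ideal.Quotient.eq_zero_iff_mem.mp hx
    obtain ⟨k, hk⟩ := mem_nilradical.mp h1
    refine ⟨k, HahnSeries.ofPowerSeries_injective (Γ := ℤ) ?_⟩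
    rw [map_pow, hk, map_zero]
  have hφg : φ g = Ideal.Quotient.mk _ e := by
    show Ideal.Quotient.mk _ (HahnSeries.ofPowerSeries ℤ R g) = _
    rw [Ideal.Quotient.eq]
    have h1 : HahnSeries.ofPowerSeries ℤ R g - e = -eneg := by
      linear_combination -hsplit
    rw [h1]
    exact neg_mem (mem_nilradical.mpr hnil)
  obtain ⟨g', hg'idem, hg'⟩ := exists_isIdempotentElem_eq_of_ker_isNilpotent φ hker
    (Ideal.Quotient.mk _ e) ⟨g, hφg⟩ (he.map _)
  have hF : HahnSeries.ofPowerSeries ℤ R g' = e := by
    apply eq_of_isNilpotent_sub_of_isIdempotentElem (hg'idem.map _) he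
    have h1 : Ideal.Quotient.mk (nilradical (LaurentSeries R))
        (HahnSeries.ofPowerSeries ℤ R g') = Ideal.Quotient.mk _ e := hg'
    exact mem_nilradical.mp (Ideal.Quotient.eq.mp h1)
  have hE : g' = PowerSeries.C (PowerSeries.constantCoeff g') := by
    have hc : IsIdempotentElem (PowerSeries.C (PowerSeries.constantCoeff g')) :=
      (hg'idem.map _).map _
    have hd3 : (g' - PowerSeries.C (PowerSeries.constantCoeff g'))
        * (1 - (g' - PowerSeries.C (PowerSeries.constantCoeff g')) ^ 2) = 0 := by
      have h1 := hg'idem.eq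
      have h2 := hc.eq
      linear_combination (-(g' + 1 - 3 * PowerSeries.C (PowerSeries.constantCoeff g'))) * h1
        + (-(3 * g' - PowerSeries.C (PowerSeries.constantCoeff g') - 1)) * h2
    have hunit : IsUnit (1 - (g' - PowerSeries.C (PowerSeries.constantCoeff g')) ^ 2) := by
      rw [PowerSeries.isUnit_iff_constantCoeff]
      have h0 : PowerSeries.constantCoeff
          (g' - PowerSeries.C (PowerSeries.constantCoeff g')) = 0 := by
        rw [map_sub, PowerSeries.constantCoeff_C, sub_self]
      rw [map_sub, map_pow, h0, map_one]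
      simp
    exact sub_eq_zero.mp ((hunit.mul_left_eq_zero).mp hd3)
  refine ⟨PowerSeries.constantCoeff g', ⟨hg'idem.map _, ?_⟩, ?_⟩
  · rw [← HahnSeries.ofPowerSeries_C, ← hE, hF]
  · rintro r ⟨_, hr⟩
    apply HahnSeries.C_injective (Γ := ℤ)
    rw [hr, ← HahnSeries.ofPowerSeries_C, ← hE, hF]

end Groth.Agent.S15749
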