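import Groth.Statements.S15750
-- import your own Groth.Agent.* helpers here
import Mathlib

set_option autoImplicit false
universe u
open CAlg

namespace Groth.Agent.S15750

theorem aux_prime {R : Type*} [CommRing R] (f g : LaurentSeries R) (hfg : f * g = 1)
    (p : Ideal R) (hp : p.IsPrime) :
    ∃ n : ℤ, (∀ i < n, f.coeff i ∈ p) ∧ (∀ j < -n, g.coeff j ∈ p)
      ∧ f.coeff n * g.coeff (-n) - 1 ∈ p := by
  have hone0 : (1 : LaurentSeries R).coeff 0 = 1 := by rw [HahnSeries.coeff_one, if_pos rfl]
  have hone_ne : ∀ k : ℤ, k ≠ 0 → (1 : LaurentSeries R).coeff k = 0 := fun k hk => by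
    rw [HahnSeries.coeff_one, if_neg hk]
  have h1p : (1 : R) ∉ p := fun h => hp.ne_top ((Ideal.eq_top_iff_one _).mpr h)
  have key : ∀ x : LaurentSeries R, (∃ i, x.coeff i ∉ p) →
      ∃ n, x.coeff n ∉ p ∧ ∀ i < n, x.coeff i ∈ p := by
    intro x hx
    obtain ⟨n, hn, hmin⟩ := Int.exists_least_of_bdd (P := fun i => x.coeff i ∉ p)
      ⟨x.order, fun z hz => by
        by_contra h
        push Not at h
        exact hz (by rw [HahnSeries.coeff_eq_zero_of_lt_order h]; exact p.zero_mem)⟩ hx
    refine ⟨n, hn, fun i hi => ?_⟩
    by_contra hni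
    have := hmin i hni
    omega
  have hf_ex : ∃ i, f.coeff i ∉ p := by
    by_contra hall
    push Not at hall
    have h1 : (f * g).coeff 0 ∈ p := by
      rw [HahnSeries.coeff_mul]
      exact Ideal.sum_mem _ (fun ij _ => p.mul_mem_right _ (hall _))
    rw [hfg, hone0] at h1
    exact h1p h1
  have hg_ex : ∃ i, g.coeff i ∉ p := by
    by_contra hall
    push Not at hall
    have h1 : (f * g).coeff 0 ∈ p := by
      rw [HahnSeries.coeff_mul]
      exact Ideal.sum_mem _ (fun ij _ => p.mul_mem_left _ (hall _))
    rw [hfg, hone0] at h1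
    exact h1p h1
  obtain ⟨n, hn, hnmin⟩ := key f hf_ex
  obtain ⟨m, hm, hmmin⟩ := key g hg_ex
  have hmem : (n, m) ∈ Finset.antidiagonal f.isPWO_support g.isPWO_support (n + m) := by
    rw [Finset.mem_antidiagonal]
    refine ⟨?_, ?_, rfl⟩
    · exact (HahnSeries.mem_support _ _).mpr (fun h0 => hn (by rw [h0]; exact p.zero_mem))
    · exact (HahnSeries.mem_support _ _).mpr (fun h0 => hm (by rw [h0]; exact p.zero_mem))
  have hsum : (f * g).coeff (n + m) - f.coeff n * g.coeff m ∈ p := by
    have h1 := Finset.add_sum_erase
      (Finset.antidiagonal f.isPWO_support g.isPWO_support (n + m))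
      (fun ij => f.coeff ij.1 * g.coeff ij.2) hmem
    dsimp only at h1
    rw [HahnSeries.coeff_mul, ← h1, add_sub_cancel_left]
    apply Ideal.sum_mem
    intro ij hij
    rw [Finset.mem_erase, Finset.mem_antidiagonal] at hij
    obtain ⟨hne, -, -, hs⟩ := hij
    by_cases h1 : ij.1 < n
    · exact p.mul_mem_right _ (hnmin _ h1)
    · by_cases h2 : ij.2 < m
      · exact p.mul_mem_left _ (hmmin _ h2)
      · exfalso
        apply hne
        apply Prod.ext
        · show ij.1 = n
          omega
        · show ij.2 = m
          omega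
  have hprod : f.coeff n * g.coeff m ∉ p := fun h => (hp.mem_or_mem h).elim hn hm
  have hnm : n + m = 0 := by
    by_contra hne
    rw [hfg, hone_ne _ hne, zero_sub] at hsum
    exact hprod (neg_mem_iff.mp hsum)
  have hm' : m = -n := by omega
  subst hm'
  refine ⟨n, hnmin, hmmin, ?_⟩
  rw [hfg, hnm, hone0] at hsum
  have h2 := p.neg_mem hsum
  rwa [neg_sub] at h2

/-- Let R be a nonzero reduced commutative ring with no idempotents other than 0 and 1. Then every unit
of the Laurent series ring R((t)) is t^n · u for a unique integer n and a unique unit u of the power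
series ring R[[t]]. (The published statement is for an arbitrary torus T over a reduced ring R, with
n replaced by a locally constant integer-valued function on Spec R, i.e. a point of the cocharacter
lattice; this row is the case where T is the multiplicative group and Spec R is connected, to which
the published proof reduces.) -/
theorem result (R : Type u) [CommRing R]
    [IsReduced R] [Nontrivial R] (hconn : ∀ e : R, IsIdempotentElem e → e = 0 ∨ e = 1)
    (f : (LaurentSeries R)ˣ) :
    ∃! p : ℤ × (PowerSeries R)ˣ,
      (f : LaurentSeries R) = HahnSeries.single p.1 (1 : R) * HahnSeries.ofPowerSeries ℤ R (p.2 : PowerSeries R) := by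
  obtain ⟨F, G, hFG, hGF⟩ := f
  simp only
  have hzero : ∀ x : R, (∀ q : Ideal R, q.IsPrime → x ∈ q) → x = 0 := by
    intro x hx
    have h1 : x ∈ nilradical R := by
      rw [nilradical_eq_sInf]
      exact Ideal.mem_sInf.mpr (fun {q} hq => hx q hq)
    exact (mem_nilradical.mp h1).eq_zero
  have hidem : ∀ i : ℤ, IsIdempotentElem (F.coeff i * G.coeff (-i)) := by
    intro i
    unfold IsIdempotentElem
    rw [← sub_eq_zero]
    apply hzero
    intro q hq
    obtain ⟨n, h1, h2, h3⟩ := aux_prime F G hFG q hq
    rcases lt_trichotomy i n with h | h | h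
    · have h4 : F.coeff i * (G.coeff (-i) * (F.coeff i * G.coeff (-i)) - G.coeff (-i)) ∈ q :=
        q.mul_mem_right _ (h1 i h)
      convert h4 using 1
      ring
    · subst h
      have h4 : (F.coeff i * G.coeff (-i)) * (F.coeff i * G.coeff (-i) - 1) ∈ q :=
        q.mul_mem_left _ h3
      convert h4 using 1
      ring
    · have h4 : G.coeff (-i) * (F.coeff i * (F.coeff i * G.coeff (-i)) - F.coeff i) ∈ q :=
        q.mul_mem_right _ (h2 (-i) (by omega))
      convert h4 using 1
      ring
  obtain ⟨p0, hp0⟩ := Ideal.exists_maximal R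
  obtain ⟨n, h1, h2, h3⟩ := aux_prime F G hFG p0 hp0.isPrime
  have hen : F.coeff n * G.coeff (-n) = 1 := by
    rcases hconn _ (hidem n) with h | h
    · exfalso
      rw [h, zero_sub] at h3
      exact hp0.ne_top ((Ideal.eq_top_iff_one _).mpr (neg_mem_iff.mp h3))
    · exact h
  have hlow : ∀ i < n, F.coeff i = 0 := by
    intro i hi
    apply hzero
    intro q hq
    obtain ⟨n', h1', h2', h3'⟩ := aux_prime F G hFG q hq
    have hnn : n' = n := by
      rcases lt_trichotomy n n' with h | h | h
      · exfalso
        have h5 := h1' n h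
        have h6 : (1 : R) ∈ q := by
          rw [← hen]
          exact q.mul_mem_right _ h5
        exact hq.ne_top ((Ideal.eq_top_iff_one _).mpr h6)
      · exact h.symm
      · exfalso
        have h5 := h2' (-n) (by omega)
        have h6 : (1 : R) ∈ q := by
          rw [← hen]
          exact q.mul_mem_left _ h5
        exact hq.ne_top ((Ideal.eq_top_iff_one _).mpr h6)
    rw [hnn] at h1'
    exact h1' i hi
  have hcoef : ∀ (m : ℤ) (v : PowerSeries R) (k : ℤ),
      (HahnSeries.single m (1 : R) * HahnSeries.ofPowerSeries ℤ R v).coeff k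
        = if k - m < 0 then 0 else PowerSeries.coeff (k - m).natAbs v := by
    intro m v k
    obtain ⟨j, rfl⟩ : ∃ j, k = j + m := ⟨k - m, by ring⟩
    rw [HahnSeries.coeff_single_mul_add, one_mul, PowerSeries.coeff_coe, add_sub_cancel_right]
  have hu : IsUnit (PowerSeries.mk fun k : ℕ => F.coeff (n + k)) := by
    rw [PowerSeries.isUnit_iff_constantCoeff, ← PowerSeries.coeff_zero_eq_constantCoeff_apply,
      PowerSeries.coeff_mk, Nat.cast_zero, add_zero]
    exact IsUnit.of_mul_eq_one _ hen
  refine ⟨(n, hu.unit), ?_, ?_⟩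
  · show F = HahnSeries.single n (1 : R) * HahnSeries.ofPowerSeries ℤ R (hu.unit : PowerSeries R)
    rw [IsUnit.unit_spec]
    ext k
    rw [hcoef]
    by_cases hkn : k - n < 0
    · rw [if_pos hkn]
      exact hlow k (by omega)
    · rw [if_neg hkn, PowerSeries.coeff_mk]
      congr 1
      omega
  · rintro ⟨m, v⟩ hv
    simp only at hv
    have hvunit : IsUnit (PowerSeries.constantCoeff (v : PowerSeries R)) :=
      PowerSeries.isUnit_iff_constantCoeff.mp v.isUnit
    have hFk : ∀ k : ℤ, F.coeff k
        = if k - m < 0 then 0 else PowerSeries.coeff (k - m).natAbs (v : PowerSeries R) := by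
      intro k
      rw [← hcoef, ← hv]
    have hmn : m = n := by
      rcases lt_trichotomy m n with h | h | h
      · exfalso
        have e1 := hlow m h
        rw [hFk, if_neg (by omega)] at e1
        have e2 : (m - m).natAbs = 0 := by omega
        rw [e2, PowerSeries.coeff_zero_eq_constantCoeff_apply] at e1
        exact hvunit.ne_zero e1
      · exact h
      · exfalso
        have e1 : F.coeff n = 0 := by rw [hFk, if_pos (by omega)]
        rw [e1, zero_mul] at hen
        exact zero_ne_one hen
    subst hmn
    refine Prod.ext rfl ?_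
    apply Units.ext
    show (v : PowerSeries R) = (hu.unit : PowerSeries R)
    rw [IsUnit.unit_spec]
    ext k
    rw [PowerSeries.coeff_mk, hFk, if_neg (by omega)]
    have e3 : (m + (k : ℤ) - m).natAbs = k := by omega
    rw [e3]

end Groth.Agent.S15750
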