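import Groth.Statements.S15755
import Groth.Agent.Lib.Helper27.PtF
import Groth.Agent.Lib.Helper27.PtH
import Groth.Agent.S6824

set_option autoImplicit false
universe u
open CategoryTheory CategoryTheory.Limits
open CAlg

namespace Groth.Agent.S15755

/-- Let (A, I) be a Henselian pair with A Noetherian whose map to the I-adic completion Â is a regular
ring homomorphism, and let F be a set-valued functor on commutative A-algebras preserving filtered
colimits. Then F(A) → F(Â) is injective, and an element of F(A/I) is in the image of F(A) if and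
only if it is in the image of F(Â) under the canonical A-algebra map Â → A/I. -/
theorem result (A : Type u) [CommRing A]
    [IsNoetherianRing A] (I : Ideal A) [HenselianRing A I]
    (hreg : CAlg.IsRegularHom A (AdicCompletion I A))
    (F : CommAlgCat.{u} A ⥤ Type u) [PreservesFilteredColimitsOfSize.{u, u} F] :
    Function.Injective (F.map (CommAlgCat.ofHom (Algebra.ofId A (AdicCompletion I A)))) ∧
    ∀ xbar : F.obj (CommAlgCat.of A (A ⧸ I)),
      (∃ x : F.obj (CommAlgCat.of A A), F.map (CommAlgCat.ofHom (Ideal.Quotient.mkₐ A I)) x = xbar) ↔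
      (∃ y : F.obj (CommAlgCat.of A (AdicCompletion I A)),
        F.map (CommAlgCat.ofHom (AdicCompletion.evalOneₐ I)) y = xbar) := by
  classical
  have H : Groth.Agent.Lib.Helper27.PtC.CharPCase.{u} := by
    intro k A' Λ' _ p _ _ _ _ _ _ _ _ hreg' φ 𝔮 _ hmin
    exact Groth.Agent.S6824.result p hreg' φ 𝔮 hmin
  have hP := Groth.Agent.Lib.Helper27.PtF.popescu H hreg
  -- the colimit presentation
  let Â := AdicCompletion I A
  have hyp := Groth.Agent.Lib.Helper27.PtH.hyp A Â
  haveI := Groth.Agent.Lib.Helper11.GenColim.isFiltered hyp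
  obtain ⟨hc⟩ := Groth.Agent.Lib.Helper27.PtH.isColimitD A Â
  haveI : PreservesColimitsOfShape
      (Groth.Agent.Lib.Helper11.GenColim.Idx A Â (Groth.Agent.Lib.Helper27.PtH.PT A)) F :=
    PreservesFilteredColimitsOfSize.preserves_filtered_colimits _
  have hc' := isColimitOfPreserves F hc
  -- approximation maps
  have happrox : ∀ s : Groth.Agent.Lib.Helper11.GenColim.Idx A Â
      (Groth.Agent.Lib.Helper27.PtH.PT A), ∃ h : s.Q →ₐ[A] A,
      (Ideal.Quotient.mkₐ A I).comp h = (AdicCompletion.evalOneₐ I).comp s.g := by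
    intro s
    obtain ⟨h, hh⟩ := Groth.Agent.Lib.Helper27.PtH.exists_algHom_approx A I hP 1 le_rfl s.Q
      inferInstance s.g
    refine ⟨h, ?_⟩
    ext x
    show Ideal.Quotient.mk I (h x) = AdicCompletion.evalOneₐ I (s.g x)
    rw [← AdicCompletion.factorₐ_evalₐ_one, ← hh x, Ideal.Quotient.factor_mk]
  have hidA : ∀ φ : A →ₐ[A] A, φ = AlgHom.id A A := by
    intro φ
    ext
  have hofId : ∀ (T : Type u) [CommRing T] [Algebra A T] (φ ψ : A →ₐ[A] T), φ = ψ := by
    intro T _ _ φ ψ
    ext
  have hcomp : ∀ {X Y Z : Type u} [CommRing X] [CommRing Y] [CommRing Z] [Algebra A X]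
      [Algebra A Y] [Algebra A Z] (f : X →ₐ[A] Y) (g : Y →ₐ[A] Z) (x : F.obj (CommAlgCat.of A X)),
      F.map (CommAlgCat.ofHom g) (F.map (CommAlgCat.ofHom f) x) =
        F.map (CommAlgCat.ofHom (g.comp f)) x := by
    intro X Y Z _ _ _ _ _ _ f g x
    rw [CommAlgCat.ofHom_comp, Functor.map_comp_apply]
  refine ⟨?_, ?_⟩
  · -- injectivity
    intro x y hxy
    obtain ⟨s₀, e, he⟩ := Groth.Agent.Lib.Helper11.GenColim.exists_idx hyp A (Algebra.ofId A Â)
      inferInstance trivial
    have hx' : (F.mapCocone (Groth.Agent.Lib.Helper27.PtH.coconeD A Â)).ι.app s₀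
        (F.map (CommAlgCat.ofHom e.toAlgHom) x) =
        (F.mapCocone (Groth.Agent.Lib.Helper27.PtH.coconeD A Â)).ι.app s₀
        (F.map (CommAlgCat.ofHom e.toAlgHom) y) := by
      show F.map (CommAlgCat.ofHom s₀.g) (F.map (CommAlgCat.ofHom e.toAlgHom) x) =
        F.map (CommAlgCat.ofHom s₀.g) (F.map (CommAlgCat.ofHom e.toAlgHom) y)
      rw [hcomp, hcomp, hofId _ (s₀.g.comp e.toAlgHom) (Algebra.ofId A Â)]
      exact hxy
    obtain ⟨k, f, g, hfg⟩ := (Types.FilteredColimit.isColimit_eq_iff _ hc').mp hx'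
    obtain ⟨h, -⟩ := happrox k
    have h1 := congrArg (F.map (CommAlgCat.ofHom h)) hfg
    change F.map (CommAlgCat.ofHom h) (F.map (CommAlgCat.ofHom f.1)
        (F.map (CommAlgCat.ofHom e.toAlgHom) x)) =
      F.map (CommAlgCat.ofHom h) (F.map (CommAlgCat.ofHom g.1)
        (F.map (CommAlgCat.ofHom e.toAlgHom) y)) at h1
    rw [hcomp, hcomp, hcomp, hcomp, hidA ((h.comp f.1).comp e.toAlgHom),
      hidA ((h.comp g.1).comp e.toAlgHom)] at h1
    have hid : ∀ z : F.obj (CommAlgCat.of A A),
        F.map (CommAlgCat.ofHom (AlgHom.id A A)) z = z := by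
      intro z
      rw [CommAlgCat.ofHom_id, FunctorToTypes.map_id_apply]
    rw [hid, hid] at h1
    exact h1
  · intro xbar
    constructor
    · rintro ⟨x, rfl⟩
      refine ⟨F.map (CommAlgCat.ofHom (Algebra.ofId A (AdicCompletion I A))) x, ?_⟩
      rw [hcomp, hofId _ ((AdicCompletion.evalOneₐ I).comp (Algebra.ofId A (AdicCompletion I A)))
        (Ideal.Quotient.mkₐ A I)]
    · rintro ⟨y, rfl⟩
      obtain ⟨s, ys, hys⟩ := Types.jointly_surjective_of_isColimit hc' y
      change F.map (CommAlgCat.ofHom s.g) ys = y at hys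
      obtain ⟨h, hh⟩ := happrox s
      refine ⟨F.map (CommAlgCat.ofHom h) ys, ?_⟩
      rw [hcomp, hh, ← hys, hcomp]

end Groth.Agent.S15755
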