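import Groth.Statements.S15759
import Mathlib
import Groth.Agent.Lib.Helper26.LoopApprox

set_option autoImplicit false
universe u
open Polynomial TensorProduct
open CAlg

namespace Groth.Agent.S15759

/-- polynomials with constant term `1` -/
def M1 (R : Type u) [CommRing R] : Submonoid R[X] where
  carrier := {f | f.coeff 0 = 1}
  one_mem' := by simp
  mul_mem' := by
    intro a b ha hb
    simp only [Set.mem_setOf_eq] at ha hb ⊢
    rw [Polynomial.mul_coeff_zero, ha, hb, mul_one]

theorem M1_le (R : Type u) [CommRing R] :
    M1 R ≤ Submonoid.closure ({f : R[X] | f.coeff 0 = 1} ∪ {X}) :=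
  fun _ hf => Submonoid.subset_closure (Or.inl hf)

open Groth.Agent.Lib.Helper26.LoopApprox in
/-- the instance `R(t) → R((t))` of the abstract setting -/
theorem setup2 (R : Type u) [CommRing R] (A : Type u) [CommRing A] [Algebra R[X] A]
    [IsLocalization (M1 R) A]
    (L : Type u) [CommRing L] [Algebra R[X] L] [Algebra A L] [IsScalarTower R[X] A L]
    [IsLocalization (Submonoid.closure ({f : R[X] | f.coeff 0 = 1} ∪ {X})) L]
    [Algebra A (PowerSeries R)]
    (hψ : ∀ p : R[X], algebraMap A (PowerSeries R) (algebraMap R[X] A p) = (p : PowerSeries R))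
    (L' : Type u) [CommRing L'] [Algebra L L'] [Algebra (PowerSeries R) L']
    (hloc : IsLocalization.Away (PowerSeries.X : PowerSeries R) L')
    (hcompat : ∀ p : R[X], algebraMap L L' (algebraMap R[X] L p) =
      algebraMap (PowerSeries R) L' (p : PowerSeries R)) :
    Setup A (PowerSeries R) L L' (algebraMap R[X] A X) := by
  have hth : algebraMap A (PowerSeries R) (algebraMap R[X] A X) = PowerSeries.X := by
    rw [hψ, Polynomial.coe_X]
  have hunitA : ∀ s : R[X], s.coeff 0 = 1 → IsUnit (algebraMap R[X] A s) := fun s hs =>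
    IsLocalization.map_units A (⟨s, hs⟩ : M1 R)
  refine ⟨?locT, by rw [hth]; exact hloc, ?hφ, ?HJ, ?H2, ?H3, ?H4⟩
  case locT =>
    haveI h1 : IsLocalization ((Submonoid.closure ({f : R[X] | f.coeff 0 = 1} ∪ {X})).map
        (algebraMap R[X] A)) L :=
      IsLocalization.isLocalization_of_submonoid_le A L (M1 R) _ (M1_le R)
    haveI h2 : IsLocalization ((Submonoid.closure ({f : R[X] | f.coeff 0 = 1} ∪ {X})).map
        (algebraMap R[X] A)) (Localization.Away (algebraMap R[X] A X)) := by
      refine IsLocalization.isLocalization_of_is_exists_mul_mem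
        (S := Localization.Away (algebraMap R[X] A X))
        (M := Submonoid.powers (algebraMap R[X] A X)) (N := _) ?_ ?_
      · rw [Submonoid.powers_le]
        exact ⟨X, Submonoid.subset_closure (Or.inr rfl), rfl⟩
      · rintro ⟨_, n, hn, rfl⟩
        show ∃ m : A, m * algebraMap R[X] A n ∈ Submonoid.powers (algebraMap R[X] A X)
        induction hn using Submonoid.closure_induction with
        | mem x hx =>
          rcases hx with hx | hx
          · obtain ⟨u, hu⟩ := hunitA x hx
            refine ⟨↑u⁻¹, 0, ?_⟩
            show algebraMap R[X] A X ^ 0 = _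
            rw [pow_zero, ← hu, Units.inv_mul]
          · rw [Set.mem_singleton_iff] at hx
            subst hx
            refine ⟨1, 1, ?_⟩
            show algebraMap R[X] A X ^ 1 = _
            rw [pow_one, one_mul]
        | one => exact ⟨1, 0, by simp⟩
        | mul x y _ _ hx hy =>
          obtain ⟨m₁, a, ha⟩ := hx
          obtain ⟨m₂, b, hb⟩ := hy
          exact ⟨m₁ * m₂, a + b, by
            show algebraMap R[X] A X ^ (a + b) = _
            have ha' : algebraMap R[X] A X ^ a = m₁ * algebraMap R[X] A x := ha
            have hb' : algebraMap R[X] A X ^ b = m₂ * algebraMap R[X] A y := hb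
            rw [pow_add, ha', hb', map_mul]; ring⟩
    exact IsLocalization.isLocalization_of_algEquiv (Submonoid.powers (algebraMap R[X] A X))
      (IsLocalization.algEquiv ((Submonoid.closure ({f : R[X] | f.coeff 0 = 1} ∪ {X})).map
        (algebraMap R[X] A)) (Localization.Away (algebraMap R[X] A X)) L)
  case hφ =>
    intro a
    have h : (algebraMap L L').comp (algebraMap A L) =
        (algebraMap (PowerSeries R) L').comp (algebraMap A (PowerSeries R)) := by
      apply IsLocalization.ringHom_ext (M1 R)
      refine RingHom.ext fun p => ?_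
      show algebraMap L L' (algebraMap A L (algebraMap R[X] A p)) =
        algebraMap (PowerSeries R) L' (algebraMap A (PowerSeries R) (algebraMap R[X] A p))
      rw [← IsScalarTower.algebraMap_apply R[X] A L, hcompat, hψ]
    exact RingHom.congr_fun h a
  case HJ =>
    rw [Ideal.mem_jacobson_bot]
    intro y
    obtain ⟨p, s, rfl⟩ := IsLocalization.exists_mk'_eq (M1 R) y
    have h1 : (algebraMap R[X] A X * IsLocalization.mk' A p s + 1) * algebraMap R[X] A s =
        algebraMap R[X] A (X * p + (s : R[X])) := by
      rw [add_mul, mul_assoc, IsLocalization.mk'_spec, one_mul, map_add, map_mul]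
    have h2 : IsUnit (algebraMap R[X] A (X * p + (s : R[X]))) := hunitA _ (by
      rw [Polynomial.coeff_add, Polynomial.mul_coeff_zero, Polynomial.coeff_X_zero, zero_mul,
        zero_add]
      exact s.2)
    rw [← h1] at h2
    exact isUnit_of_mul_isUnit_left h2
  case H2 =>
    intro x N
    obtain ⟨r, hr⟩ : (PowerSeries.X : PowerSeries R) ^ N ∣
        x - ((PowerSeries.trunc N x : R[X]) : PowerSeries R) := by
      rw [PowerSeries.X_pow_dvd_iff]
      intro m hm
      rw [map_sub, Polynomial.coeff_coe, PowerSeries.coeff_trunc, if_pos hm, sub_self]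
    refine ⟨algebraMap R[X] A (PowerSeries.trunc N x), r, ?_⟩
    rw [hψ, hth, ← hr]
    ring
  case H3 =>
    rintro a N ⟨r, hr⟩
    rw [hth] at hr
    obtain ⟨p, s, rfl⟩ := IsLocalization.exists_mk'_eq (M1 R) a
    have h1 : (p : PowerSeries R) = PowerSeries.X ^ N * r * ((s : R[X]) : PowerSeries R) := by
      have := congrArg (algebraMap A (PowerSeries R)) (IsLocalization.mk'_spec A p s)
      rw [map_mul, hψ, hψ, hr] at this
      exact this.symm
    have h3 : (PowerSeries.X : PowerSeries R) ^ N ∣ (p : PowerSeries R) :=
      ⟨r * ((s : R[X]) : PowerSeries R), by rw [h1]; ring⟩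
    rw [PowerSeries.X_pow_dvd_iff] at h3
    have h4 : (X : R[X]) ^ N ∣ p := by
      rw [Polynomial.X_pow_dvd_iff]
      intro d hd
      have := h3 d hd
      rwa [Polynomial.coeff_coe] at this
    obtain ⟨p', rfl⟩ := h4
    refine ⟨IsLocalization.mk' A p' s, ?_⟩
    rw [IsLocalization.mk'_eq_iff_eq_mul, mul_assoc, IsLocalization.mk'_spec, map_mul, map_pow]
  case H4 =>
    rw [hth, Ideal.mem_jacobson_bot]
    intro y
    rw [PowerSeries.isUnit_iff_constantCoeff]
    simp

/-- Let R be a ring, L = R(t) the localisation of R[t] at the monoid generated by t and the polynomials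
with constant term 1 (that is, (R[t]_{1+tR[t]})[1/t]), and L' an L-algebra identified with R((t))
compatibly with R[t] → R((t)). Then (b) finitely generated projective L-modules that become
isomorphic over L' are isomorphic, and (c) every stably free L'-module is the base change of a
stably free L-module. -/
theorem result (R : Type u) [CommRing R]
    (L : Type u) [CommRing L] [Algebra R[X] L]
    [IsLocalization (Submonoid.closure ({f : R[X] | f.coeff 0 = 1} ∪ {X})) L]
    (L' : Type u) [CommRing L'] [Algebra L L'] (e : L' ≃+* LaurentSeries R)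
    (he : ∀ p : R[X], e (algebraMap L L' (algebraMap R[X] L p)) =
      HahnSeries.ofPowerSeries ℤ R (Polynomial.coeToPowerSeries.ringHom p)) :
    (∀ (M N : Type u) [AddCommGroup M] [Module L M] [Module.Finite L M] [Module.Projective L M]
        [AddCommGroup N] [Module L N] [Module.Finite L N] [Module.Projective L N],
        Nonempty (L' ⊗[L] M ≃ₗ[L'] L' ⊗[L] N) → Nonempty (M ≃ₗ[L] N)) ∧
    (∀ (M' : Type u) [AddCommGroup M'] [Module L' M'] [Module.Finite L' M'],
        (∃ n m : ℕ, Nonempty ((M' × (Fin n → L')) ≃ₗ[L'] (Fin m → L'))) →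
        ∃ (M : Type u) (_ : AddCommGroup M) (_ : Module L M), Module.Finite L M ∧
          (∃ n m : ℕ, Nonempty ((M × (Fin n → L)) ≃ₗ[L] (Fin m → L))) ∧
          Nonempty (L' ⊗[L] M ≃ₗ[L'] M')) := by
  classical
  letI algAL : Algebra (Localization (M1 R)) L :=
    (IsLocalization.lift (M := M1 R) (g := algebraMap R[X] L)
      (fun y => IsLocalization.map_units L
        (⟨y.1, M1_le R y.2⟩ : Submonoid.closure ({f : R[X] | f.coeff 0 = 1} ∪ {X})))).toAlgebra
  haveI hst := IsScalarTower.of_algebraMap_eq (R := R[X]) (S := Localization (M1 R)) (A := L)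
    (fun p => (IsLocalization.lift_eq _ p).symm)
  letI algAAh : Algebra (Localization (M1 R)) (PowerSeries R) :=
    (IsLocalization.lift (M := M1 R)
      (g := (Polynomial.coeToPowerSeries.ringHom : R[X] →+* PowerSeries R))
      (fun y => by
        rw [Polynomial.coeToPowerSeries.ringHom_apply, PowerSeries.isUnit_iff_constantCoeff,
          ← PowerSeries.coeff_zero_eq_constantCoeff_apply, Polynomial.coeff_coe,
          show (y : R[X]).coeff 0 = 1 from y.2]
        exact isUnit_one)).toAlgebra
  letI algAhLh : Algebra (PowerSeries R) L' :=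
    (e.symm.toRingHom.comp (HahnSeries.ofPowerSeries ℤ R)).toAlgebra
  have hloc : IsLocalization.Away (PowerSeries.X : PowerSeries R) L' :=
    IsLocalization.isLocalization_of_algEquiv (Submonoid.powers (PowerSeries.X : PowerSeries R))
      (AlgEquiv.ofRingEquiv (f := e.symm) (fun x => rfl) :
        LaurentSeries R ≃ₐ[PowerSeries R] L')
  have S := setup2 R (Localization (M1 R)) L (fun p => IsLocalization.lift_eq _ p) L' hloc
    (fun p => by
      show _ = e.symm (HahnSeries.ofPowerSeries ℤ R (p : PowerSeries R))
      have h0 := he p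
      rw [Polynomial.coeToPowerSeries.ringHom_apply] at h0
      rw [← h0, e.symm_apply_apply])
  exact ⟨fun M N _ _ _ _ _ _ _ _ h => S.part1 M N h,
    fun M' _ _ _ ⟨n, m, ⟨ε⟩⟩ => S.part2 M' n m ε⟩

end Groth.Agent.S15759
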