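import Groth.Statements.S15765
import Mathlib

set_option autoImplicit false
universe u
open CategoryTheory AlgebraicGeometry
open CAlg

namespace Groth.Agent.S15765

section helpers
open TopologicalSpace

lemma exists_isUnit_of_denseRange {B B₀ : Type*} [CommRing B] [TopologicalSpace B]
    [IsTopologicalRing B]
    (hB : IsOpen {b : B | IsUnit b}) [CommRing B₀] (φ : B₀ →+* B) (hφ : DenseRange φ)
    {ι : Type*} [DecidableEq ι] (T : Finset ι) (b m : ι → B) (e : B)
    (h : IsUnit (e + ∑ i ∈ T, b i * m i)) :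
    ∃ c : ι → B₀, IsUnit (e + ∑ i ∈ T, φ (c i) * m i) := by
  induction T using Finset.induction_on generalizing e with
  | empty => exact ⟨fun _ => 0, by simpa using h⟩
  | insert a T ha ih =>
    rw [Finset.sum_insert ha] at h
    let g : B → B := fun z => e + (z * m a + ∑ i ∈ T, b i * m i)
    have hg : Continuous g := by
      exact continuous_const.add ((continuous_id.mul continuous_const).add continuous_const)
    have hopen : IsOpen (g ⁻¹' {b : B | IsUnit b}) := hB.preimage hg
    obtain ⟨ca, hca⟩ := hφ.exists_mem_open hopen ⟨b a, h⟩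
    have h' : IsUnit ((e + φ ca * m a) + ∑ i ∈ T, b i * m i) := by
      have : IsUnit (g (φ ca)) := hca
      rw [add_assoc]
      exact this
    obtain ⟨c', hc'⟩ := ih (e + φ ca * m a) h'
    refine ⟨Function.update c' a ca, ?_⟩
    rw [Finset.sum_insert ha, Function.update_self]
    have hsum : ∑ i ∈ T, φ (Function.update c' a ca i) * m i = ∑ i ∈ T, φ (c' i) * m i := by
      refine Finset.sum_congr rfl fun i hi => ?_
      rw [Function.update_of_ne (by rintro rfl; exact ha hi)]
    rw [hsum, ← add_assoc]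
    exact hc'

end helpers


/-- Let B be a topological ring in which the units form an open subset, B₀ → B a ring map with dense
image and X a quasi-affine scheme over B₀. Then the image of any B-point Spec B → X over B₀ is
contained in an affine open of X. (The published statement allows X ind-quasi-affine, i.e. with all
quasi-compact opens quasi-affine; since a B-point lands in a quasi-compact open, this row's
quasi-affine case carries the content.) -/
theorem result (B : Type u) [CommRing B] [TopologicalSpace B]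
    [IsTopologicalRing B] (hB : IsOpen {b : B | IsUnit b})
    (B₀ : Type u) [CommRing B₀] (φ : B₀ →+* B) (hφ : DenseRange φ)
    (X : Scheme.{u}) [X.IsQuasiAffine] (p : X ⟶ Spec (CommRingCat.of B₀))
    (f : Spec (CommRingCat.of B) ⟶ X) (hf : f ≫ p = Spec.map (CommRingCat.ofHom φ)) :
    ∃ U : X.Opens, IsAffineOpen U ∧ Set.range f.base ⊆ (U : Set X) := by
  classical
  let j := X.toSpecΓ
  let fS : Γ(X, ⊤) →+* B :=
    ((Scheme.ΓSpecIso (CommRingCat.of B)).hom.hom).comp f.appTop.hom
  let pS : B₀ →+* Γ(X, ⊤) :=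
    p.appTop.hom.comp (Scheme.ΓSpecIso (CommRingCat.of B₀)).inv.hom
  have hfp : ∀ c, fS (pS c) = φ c := by
    intro c
    have h1 : p.appTop ≫ f.appTop = (Spec.map (CommRingCat.ofHom φ)).appTop := by
      rw [← Scheme.Hom.comp_appTop, hf]
    have h2 := Scheme.ΓSpecIso_naturality (CommRingCat.ofHom φ)
    have h3 : (Scheme.ΓSpecIso (CommRingCat.of B₀)).inv ≫ (p.appTop ≫ f.appTop) ≫
        (Scheme.ΓSpecIso (CommRingCat.of B)).hom = CommRingCat.ofHom φ := by
      rw [h1, h2, Iso.inv_hom_id_assoc]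
    exact congrArg (fun t => t.hom c) h3
  let Z : Set (PrimeSpectrum Γ(X, ⊤)) := (Set.range j.base)ᶜ
  have hZ : IsClosed Z := j.isOpenEmbedding.isOpen_range.isClosed_compl
  let 𝔞 : Ideal Γ(X, ⊤) := PrimeSpectrum.vanishingIdeal Z
  have haff : ∀ s ∈ 𝔞, IsAffineOpen (X.basicOpen s) := by
    intro s hs
    have hsub : (PrimeSpectrum.basicOpen s : Set (PrimeSpectrum Γ(X, ⊤))) ⊆ Set.range j.base := by
      intro q hq
      by_contra hqr
      exact hq ((PrimeSpectrum.mem_vanishingIdeal _ _).mp hs q hqr)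
    rw [← Scheme.toSpecΓ_preimage_basicOpen,
      ← Scheme.Hom.isAffineOpen_iff_of_isOpenImmersion X.toSpecΓ]
    convert IsAffineOpen.Spec_basicOpen s
    exact SetLike.coe_injective (Set.image_preimage_eq_of_subset hsub)
  have htop : Ideal.map fS 𝔞 = ⊤ := by
    by_contra hne
    obtain ⟨M, hM, hle⟩ := Ideal.exists_le_maximal _ hne
    let y : Spec (CommRingCat.of B) := ⟨M, hM.isPrime⟩
    have hjf : f ≫ X.toSpecΓ = Spec.map (CommRingCat.ofHom fS) := by
      rw [Scheme.toSpecΓ_naturality, ← SpecMap_ΓSpecIso_hom, ← Spec.map_comp]; rfl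
    have hpt : j.base (f.base y) = (Spec.map (CommRingCat.ofHom fS)).base y := by
      rw [← hjf]; rfl
    let q : PrimeSpectrum Γ(X, ⊤) := j.base (f.base y)
    have hq : q = (Spec.map (CommRingCat.ofHom fS)).base y := hpt
    have hmemZ : q ∈ PrimeSpectrum.zeroLocus (𝔞 : Set Γ(X, ⊤)) := by
      rw [PrimeSpectrum.mem_zeroLocus]
      intro r hr
      rw [hq]
      show r ∈ Ideal.comap fS M
      exact hle (Ideal.mem_map_of_mem fS hr)
    rw [PrimeSpectrum.zeroLocus_vanishingIdeal_eq_closure, hZ.closure_eq] at hmemZ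
    exact hmemZ ⟨f.base y, rfl⟩
  have h1 : (1 : B) ∈ Ideal.span (fS '' (𝔞 : Set Γ(X, ⊤))) := by
    have : Ideal.span (fS '' (𝔞 : Set Γ(X, ⊤))) = Ideal.map fS 𝔞 := rfl
    rw [this, htop]
    trivial
  obtain ⟨n, bcoef, gen, hsum⟩ := Submodule.mem_span_set'.mp h1
  have hgen : ∀ i, ∃ r ∈ 𝔞, fS r = (gen i : B) := fun i => (gen i).2
  choose r hr hfr using hgen
  obtain ⟨c, hc⟩ := exists_isUnit_of_denseRange hB φ hφ (Finset.univ : Finset (Fin n)) bcoef
    (fun i => fS (r i)) 0 (by
      have : ∑ i, bcoef i * fS (r i) = 1 := by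
        rw [← hsum]
        refine Finset.sum_congr rfl fun i _ => ?_
        rw [hfr, smul_eq_mul]
      rw [zero_add, this]; exact isUnit_one)
  let s : Γ(X, ⊤) := ∑ i, pS (c i) * r i
  have hs𝔞 : s ∈ 𝔞 := Ideal.sum_mem _ fun i _ => Ideal.mul_mem_left _ _ (hr i)
  have hfs : IsUnit (fS s) := by
    have : fS s = 0 + ∑ i, φ (c i) * fS (r i) := by
      simp only [s, map_sum, map_mul, hfp, zero_add]
    rw [this]; exact hc
  refine ⟨X.basicOpen s, haff s hs𝔞, ?_⟩
  rintro _ ⟨y, rfl⟩
  have hu : IsUnit (f.appTop s) := by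
    have h5 := hfs.map (Scheme.ΓSpecIso (CommRingCat.of B)).inv.hom
    have h6 : (Scheme.ΓSpecIso (CommRingCat.of B)).inv.hom (fS s) = f.appTop s := by
      show (Scheme.ΓSpecIso (CommRingCat.of B)).inv
        ((Scheme.ΓSpecIso (CommRingCat.of B)).hom (f.appTop s)) = f.appTop s
      exact Iso.hom_inv_id_apply _ _
    rw [h6] at h5
    exact h5
  have htop' : f ⁻¹ᵁ X.basicOpen s = ⊤ := by
    rw [Scheme.preimage_basicOpen_top]
    exact Scheme.basicOpen_of_isUnit _ hu
  have hy : y ∈ f ⁻¹ᵁ X.basicOpen s := by rw [htop']; trivial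
  exact hy

end Groth.Agent.S15765
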