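import Groth.Statements.S15774
import Mathlib
import Groth.Agent.Lib.Helper8.Hzl.Noeth

set_option autoImplicit false
universe u
open CAlg

namespace Groth.Agent.S15774

open Polynomial in
/-- abstract form -/
theorem lemmaG {A Ah Lt Lh : Type u} [CommRing A] [CommRing Ah] [Algebra A Ah] (t : A)
    [CommRing Lt] [CommRing Lh] [Algebra A Lt] [IsLocalization.Away t Lt]
    [Algebra Ah Lh] [IsLocalization.Away (algebraMap A Ah t) Lh]
    (φ : Lt →+* Lh) (hφ : ∀ a, φ (algebraMap A Lt a) = algebraMap Ah Lh (algebraMap A Ah a))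
    [HenselianRing A (Ideal.span {t})]
    (H2 : ∀ (x : Ah) (N : ℕ), ∃ a r, x = algebraMap A Ah a + (algebraMap A Ah t) ^ N * r)
    (H3 : ∀ (a : A) (N : ℕ), (∃ r, algebraMap A Ah a = (algebraMap A Ah t) ^ N * r) →
      ∃ c, a = t ^ N * c)
    (H4 : algebraMap A Ah t ∈ Ideal.jacobson (⊥ : Ideal Ah))
    (e : Lh) (he : IsIdempotentElem e) :
    ∃! e₀ : Lt, IsIdempotentElem e₀ ∧ φ e₀ = e := by
  classical
  have hJ : t ∈ Ideal.jacobson (⊥ : Ideal A) :=
    HenselianRing.jac (Ideal.subset_span (Set.mem_singleton t))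
  have hut : IsUnit (algebraMap A Lt t) := IsLocalization.Away.algebraMap_isUnit t
  have huth : IsUnit (algebraMap Ah Lh (algebraMap A Ah t)) :=
    IsLocalization.Away.algebraMap_isUnit _
  have hU : ∀ z : A, IsUnit (algebraMap A Lt (1 + t * z)) := fun z => by
    have := (Ideal.mem_jacobson_bot.mp hJ) z
    rw [add_comm]; exact this.map _
  have hUh : ∀ z : Ah, IsUnit (algebraMap Ah Lh (1 + algebraMap A Ah t * z)) := fun z => by
    have := (Ideal.mem_jacobson_bot.mp H4) z
    rw [add_comm]; exact this.map _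
  -- idempotent difference
  have hK : ∀ {R : Type u} [CommRing R] (p q : R), p * p = p → q * q = q →
      (p - q) * (p - q) * (p - q) = p - q := by
    intro R _ p q hp hq
    linear_combination (p + 1 - 3 * q) * hp + (3 * p - q - 1) * hq
  -- uniqueness
  have huniq : ∀ p q : Lt, IsIdempotentElem p → IsIdempotentElem q → φ p = φ q → p = q := by
    intro p q hp hq hpq
    have hd3 := hK p q hp.eq hq.eq
    obtain ⟨b, ⟨_, m, rfl⟩, hb⟩ := IsLocalization.exists_mk'_eq (Submonoid.powers t) (p - q)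
    have hspec : (p - q) * algebraMap A Lt (t ^ m) = algebraMap A Lt b := by
      rw [← hb]; exact IsLocalization.mk'_spec _ _ _
    have h1 : algebraMap Ah Lh (algebraMap A Ah b) = 0 := by
      rw [← hφ, ← hspec, map_mul, map_sub, hpq, sub_self, zero_mul]
    obtain ⟨⟨_, j, rfl⟩, hj⟩ :=
      (IsLocalization.map_eq_zero_iff (Submonoid.powers (algebraMap A Ah t)) Lh _).mp h1
    obtain ⟨c, hc⟩ := H3 (t ^ j * b) (2 * (m + j) + 1) ⟨0, by
      rw [map_mul, map_pow, mul_zero]; exact hj⟩
    -- p - q = algebraMap (t * (t^(m+j) c))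
    have h2 : p - q = algebraMap A Lt (t * (t ^ (m + j) * c)) := by
      have hu : IsUnit (algebraMap A Lt (t ^ (m + j))) := by rw [map_pow]; exact hut.pow _
      apply hu.mul_right_cancel
      have h3 := congrArg (algebraMap A Lt) hc
      simp only [map_mul, map_pow] at h3 hspec ⊢
      linear_combination (algebraMap A Lt t) ^ j * hspec + h3
    have h4 : (p - q) * (1 - (p - q) * (p - q)) = 0 := by linear_combination -hd3
    have h5 : IsUnit (1 - (p - q) * (p - q)) := by
      have := hU (-((t ^ (m + j) * c) * (t * (t ^ (m + j) * c))))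
      convert this using 1
      rw [h2]
      simp only [map_add, map_mul, map_neg, map_one, map_pow]
      ring
    have h6 := h5.mul_left_eq_zero.mp h4
    exact sub_eq_zero.mp h6
  -- existence
  obtain ⟨e', ⟨_, n, rfl⟩, he'⟩ :=
    IsLocalization.exists_mk'_eq (Submonoid.powers (algebraMap A Ah t)) e
  have hspec : e * algebraMap Ah Lh ((algebraMap A Ah t) ^ n) = algebraMap Ah Lh e' := by
    rw [← he']; exact IsLocalization.mk'_spec _ _ _
  have h1 : algebraMap Ah Lh (e' * e' - (algebraMap A Ah t) ^ n * e') = 0 := by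
    rw [map_sub, map_mul, map_mul, ← hspec]
    have := he.eq
    linear_combination (algebraMap Ah Lh ((algebraMap A Ah t) ^ n)) ^ 2 * this
  obtain ⟨⟨_, j, rfl⟩, hj⟩ :=
    (IsLocalization.map_eq_zero_iff (Submonoid.powers (algebraMap A Ah t)) Lh _).mp h1
  obtain ⟨a, r, har⟩ := H2 e' (3 * n + 1)
  obtain ⟨c, hc⟩ := H3 (t ^ j * (a * a - t ^ n * a)) (3 * n + 1 + j)
    ⟨-(r * (2 * algebraMap A Ah a + (algebraMap A Ah t) ^ (3 * n + 1) * r -
      (algebraMap A Ah t) ^ n)), by
      simp only [map_mul, map_sub, map_pow]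
      rw [har] at hj
      change (algebraMap A Ah t) ^ j * _ = 0 at hj
      linear_combination hj⟩
  obtain ⟨y, hy⟩ : ∃ y : Lt, y * algebraMap A Lt (t ^ n) = algebraMap A Lt a :=
    ⟨IsLocalization.mk' Lt a (⟨t ^ n, n, rfl⟩ : Submonoid.powers t),
      IsLocalization.mk'_spec _ _ _⟩
  have hs : y * y - y = algebraMap A Lt (t ^ (n + 1) * c) := by
    have hu : IsUnit (algebraMap A Lt (t ^ (2 * n + j))) := by rw [map_pow]; exact hut.pow _
    apply hu.mul_right_cancel
    have h2 := congrArg (algebraMap A Lt) hc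
    simp only [map_mul, map_sub, map_pow] at h2 hy ⊢
    rw [← hy] at h2
    linear_combination h2
  obtain ⟨u, hu⟩ : IsUnit (1 + 4 * (t ^ (n + 1) * c)) := by
    have := (Ideal.mem_jacobson_bot.mp hJ) (4 * (t ^ n * c))
    convert this using 1; ring
  have huv : (u : A) * ((u⁻¹ : Aˣ) : A) = 1 := Units.mul_inv u
  have hfm : (X ^ 2 + (X + C (((u⁻¹ : Aˣ) : A) * (t ^ (n + 1) * c))) : A[X]).Monic := by
    apply monic_X_pow_add
    refine lt_of_le_of_lt (degree_add_le _ _) ?_
    refine max_lt (lt_of_le_of_lt degree_X_le (by norm_num))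
      (lt_of_le_of_lt degree_C_le (by norm_num))
  obtain ⟨η, hroot, hη⟩ := HenselianRing.is_henselian
    (X ^ 2 + (X + C (((u⁻¹ : Aˣ) : A) * (t ^ (n + 1) * c))) : A[X]) hfm 0
    (by
      simp only [eval_add, eval_pow, eval_X, eval_C]
      have h0 : (0 : A) ^ 2 + (0 + ((u⁻¹ : Aˣ) : A) * (t ^ (n + 1) * c)) =
          (((u⁻¹ : Aˣ) : A) * t ^ n * c) * t := by ring
      rw [h0]
      exact Ideal.mul_mem_left _ _ (Ideal.subset_span (Set.mem_singleton t)))
    (by
      have h0 : eval 0 (derivative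
          (X ^ 2 + (X + C (((u⁻¹ : Aˣ) : A) * (t ^ (n + 1) * c))) : A[X])) = 1 := by
        rw [derivative_add, derivative_add, derivative_X_pow, derivative_X, derivative_C,
          eval_add, eval_add, eval_mul, eval_pow, eval_X, eval_one, eval_zero]
        norm_num
      rw [h0, map_one]
      exact isUnit_one)
  rw [sub_zero] at hη
  rw [IsRoot.def] at hroot
  simp only [eval_add, eval_pow, eval_X, eval_C] at hroot
  have hroot' : (u : A) * (η * η + η) + t ^ (n + 1) * c = 0 := by
    linear_combination (u : A) * hroot - (t ^ (n + 1) * c) * huv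
  -- η = t^(n+1) η''
  obtain ⟨w, hw⟩ : IsUnit (η * 1 + 1) :=
    (Ideal.mem_jacobson_bot.mp (HenselianRing.jac hη)) 1
  have hwinv : (η + 1) * ((w⁻¹ : Aˣ) : A) = 1 := by
    have := Units.mul_inv w
    rw [hw, mul_one] at this
    exact this
  have hη'' : η = t ^ (n + 1) * (-(((u⁻¹ : Aˣ) : A) * c * ((w⁻¹ : Aˣ) : A))) := by
    linear_combination (-η) * hwinv + ((w⁻¹ : Aˣ) : A) * hroot
  -- the idempotent
  have hidem : IsIdempotentElem (y + (2 * y - 1) * algebraMap A Lt η) := by
    have h2 := congrArg (algebraMap A Lt) hroot'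
    rw [hu] at h2
    simp only [map_add, map_mul, map_one, map_ofNat, map_zero] at h2
    rw [← map_mul] at h2
    change _ * _ = _
    linear_combination (1 + 4 * (algebraMap A Lt η * algebraMap A Lt η + algebraMap A Lt η)) * hs + h2
  have hφe : φ (y + (2 * y - 1) * algebraMap A Lt η) = e := by
    have hφy : φ y * algebraMap Ah Lh ((algebraMap A Ah t) ^ n) =
        algebraMap Ah Lh (algebraMap A Ah a) := by
      have h0 := congrArg φ hy
      rw [map_mul, hφ, hφ, map_pow] at h0
      exact h0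
    have hidem' : IsIdempotentElem (φ (y + (2 * y - 1) * algebraMap A Lt η)) := hidem.map φ
    have hd3 := hK _ _ hidem'.eq he.eq
    set d := φ (y + (2 * y - 1) * algebraMap A Lt η) - e with hd
    have h2 : d = algebraMap Ah Lh (algebraMap A Ah t *
        ((2 * algebraMap A Ah a - (algebraMap A Ah t) ^ n) *
          algebraMap A Ah (-(((u⁻¹ : Aˣ) : A) * c * ((w⁻¹ : Aˣ) : A))) -
          (algebraMap A Ah t) ^ (2 * n) * r)) := by
      have hun : IsUnit (algebraMap Ah Lh ((algebraMap A Ah t) ^ n)) := by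
        rw [map_pow]; exact huth.pow _
      apply hun.mul_right_cancel
      rw [hd, map_add, map_mul, map_sub, map_mul, map_one, map_ofNat, hφ]
      have h3 : algebraMap A Ah η = (algebraMap A Ah t) ^ (n + 1) *
          algebraMap A Ah (-(((u⁻¹ : Aˣ) : A) * c * ((w⁻¹ : Aˣ) : A))) := by
        conv_lhs => rw [hη'']
        rw [map_mul, map_pow]
      rw [h3]
      have h4 := hspec
      rw [har] at h4
      simp only [map_add, map_mul, map_sub, map_pow, map_ofNat] at h4 hφy ⊢
      linear_combination (1 + 2 * (algebraMap Ah Lh (algebraMap A Ah t)) ^ (n + 1) *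
        algebraMap Ah Lh (algebraMap A Ah (-(((u⁻¹ : Aˣ) : A) * c * ((w⁻¹ : Aˣ) : A))))) * hφy - h4
    have h4 : d * (1 - d * d) = 0 := by linear_combination -hd3
    have h5 : IsUnit (1 - d * d) := by
      have := hUh (-(((2 * algebraMap A Ah a - (algebraMap A Ah t) ^ n) *
          algebraMap A Ah (-(((u⁻¹ : Aˣ) : A) * c * ((w⁻¹ : Aˣ) : A))) -
          (algebraMap A Ah t) ^ (2 * n) * r) * (algebraMap A Ah t *
        ((2 * algebraMap A Ah a - (algebraMap A Ah t) ^ n) *
          algebraMap A Ah (-(((u⁻¹ : Aˣ) : A) * c * ((w⁻¹ : Aˣ) : A))) -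
          (algebraMap A Ah t) ^ (2 * n) * r))))
      convert this using 1
      rw [h2, ← map_mul, ← map_one (algebraMap Ah Lh), ← map_sub]
      congr 1
      ring
    have h6 := h5.mul_left_eq_zero.mp h4
    exact sub_eq_zero.mp h6
  refine ⟨_, ⟨hidem, hφe⟩, ?_⟩
  rintro e₁ ⟨he₁, hφe₁⟩
  exact huniq _ _ he₁ hidem (hφe₁.trans hφe.symm)

/-- The instance A[1/t] → Â[1/t]: if (A, tA) is a Henselian pair and the t-power torsion of A is
bounded, then every idempotent of Â[1/t] (Â the t-adic completion) comes from a unique idempotent of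
A[1/t]. -/
theorem result (A : Type u) [CommRing A] (t : A) [HenselianRing A (Ideal.span {t})]
    (hbd : ∃ N : ℕ, ∀ a : A, (∃ m : ℕ, t ^ m * a = 0) → t ^ N * a = 0)
    (e : Localization.Away (algebraMap A (AdicCompletion (Ideal.span {t}) A) t)) (he : IsIdempotentElem e) :
    ∃! e₀ : Localization.Away t, IsIdempotentElem e₀ ∧ Localization.awayMap (algebraMap A (AdicCompletion (Ideal.span {t}) A)) t e₀ = e := by
  have hfg : (Ideal.span {t}).FG := ⟨{t}, by simp⟩
  have hpow : ∀ N : ℕ, (Ideal.span {t} ^ N).map (algebraMap A (AdicCompletion (Ideal.span {t}) A)) =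
      Ideal.span {(algebraMap A (AdicCompletion (Ideal.span {t}) A) t) ^ N} := by
    intro N
    rw [Ideal.span_singleton_pow, Ideal.map_span, Set.image_singleton, map_pow]
  refine lemmaG (A := A) (Ah := AdicCompletion (Ideal.span {t}) A) (Lt := Localization.Away t)
    (Lh := Localization.Away (algebraMap A (AdicCompletion (Ideal.span {t}) A) t)) t
    (Localization.awayMap (algebraMap A (AdicCompletion (Ideal.span {t}) A)) t)
    (fun a => IsLocalization.map_eq _ a) ?_ ?_ ?_ e he
  · intro x N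
    obtain ⟨a, ha⟩ := Groth.Agent.Lib.Helper8.Hzl.compl_exists_sub_mem (Ideal.span {t}) hfg N x
    rw [hpow, Ideal.mem_span_singleton'] at ha
    obtain ⟨r, hr⟩ := ha
    exact ⟨a, r, by rw [mul_comm, hr]; ring⟩
  · rintro a N ⟨r, hr⟩
    have h1 : algebraMap A (AdicCompletion (Ideal.span {t}) A) a ∈
        (Ideal.span {t} ^ N).map (algebraMap A (AdicCompletion (Ideal.span {t}) A)) := by
      rw [hpow, Ideal.mem_span_singleton']
      exact ⟨r, by rw [hr, mul_comm]⟩
    have h2 := Groth.Agent.Lib.Helper8.Hzl.compl_mem_of_map_mem (Ideal.span {t}) hfg N a h1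
    rw [Ideal.span_singleton_pow, Ideal.mem_span_singleton'] at h2
    obtain ⟨c, hc⟩ := h2
    exact ⟨c, by rw [← hc, mul_comm]⟩
  · haveI := AdicCompletion.isAdicComplete_self (Ideal.span {t}) hfg
    have hJ := IsAdicComplete.le_jacobson_bot
      ((Ideal.span {t}).map (algebraMap A (AdicCompletion (Ideal.span {t}) A)))
    exact hJ (Ideal.mem_map_of_mem _ (Ideal.subset_span (Set.mem_singleton t)))

end Groth.Agent.S15774
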