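import Groth.Statements.S15768
import Mathlib
import Groth.Agent.S15774
import Groth.Agent.Lib.Helper26.PairHensNbhd

set_option autoImplicit false
universe u
open Polynomial
open CAlg

namespace Groth.Agent.S15768

theorem cube_eq {S : Type u} [CommRing S] (p q : S) (hp : p * p = p) (hq : q * q = q) :
    (p - q) * (p - q) * (p - q) = p - q := by
  linear_combination (p + 1 - 3 * q) * hp + (3 * p - q - 1) * hq

theorem eq_of_isUnit {S : Type u} [CommRing S] (p q : S) (hp : p * p = p) (hq : q * q = q)
    (hu : IsUnit (1 - (p - q) * (p - q))) : p = q := by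
  have h3 := cube_eq p q hp hq
  have h4 : (p - q) * (1 - (p - q) * (p - q)) = 0 := by linear_combination -h3
  exact sub_eq_zero.mp (hu.mul_left_eq_zero.mp h4)

theorem alg_inj {R : Type u} [CommRing R] {Lh : Type u} [CommRing Lh] [Algebra (PowerSeries R) Lh]
    [IsLocalization.Away (PowerSeries.X : PowerSeries R) Lh] (y : PowerSeries R)
    (hy : algebraMap (PowerSeries R) Lh y = 0) : y = 0 := by
  obtain ⟨⟨_, j, rfl⟩, hj⟩ := (IsLocalization.map_eq_zero_iff
    (Submonoid.powers (PowerSeries.X : PowerSeries R)) Lh y).mp hy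
  have : (PowerSeries.X : PowerSeries R) ^ j * y = PowerSeries.X ^ j * 0 := by
    rw [mul_zero]; exact hj
  exact PowerSeries.X_pow_mul_cancel this

/-- idempotents of `R((X))` are constants -/
theorem idem_laurent {R : Type u} [CommRing R] {Lh : Type u} [CommRing Lh]
    [Algebra (PowerSeries R) Lh]
    [IsLocalization.Away (PowerSeries.X : PowerSeries R) Lh] (e : Lh) (he : IsIdempotentElem e) :
    ∃ r : R, IsIdempotentElem r ∧ algebraMap (PowerSeries R) Lh (PowerSeries.C r) = e := by
  classical
  have hXu : IsUnit (algebraMap (PowerSeries R) Lh PowerSeries.X) :=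
    IsLocalization.Away.algebraMap_isUnit _
  obtain ⟨g, ⟨_, n, rfl⟩, hg⟩ := IsLocalization.exists_mk'_eq
    (Submonoid.powers (PowerSeries.X : PowerSeries R)) e
  have hspec : e * algebraMap (PowerSeries R) Lh (PowerSeries.X ^ n) =
      algebraMap (PowerSeries R) Lh g := by
    rw [← hg]; exact IsLocalization.mk'_spec _ _ _
  have hgg : g * g = PowerSeries.X ^ n * g := by
    have h1 : algebraMap (PowerSeries R) Lh (g * g - PowerSeries.X ^ n * g) = 0 := by
      rw [map_sub, map_mul, map_mul, ← hspec]
      have := he.eq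
      linear_combination (algebraMap (PowerSeries R) Lh (PowerSeries.X ^ n)) ^ 2 * this
    exact sub_eq_zero.mp (alg_inj _ h1)
  have hnil : ∀ i, i < n → PowerSeries.coeff i g ∈ nilradical R := by
    intro i
    induction i using Nat.strong_induction_on with
    | _ i ih =>
      intro hi
      have h1 := congrArg (PowerSeries.coeff (2 * i)) hgg
      rw [PowerSeries.coeff_mul, PowerSeries.coeff_X_pow_mul'] at h1
      have hmem : (i, i) ∈ Finset.HasAntidiagonal.antidiagonal (2 * i) := by simp [two_mul]
      rw [← Finset.add_sum_erase _ _ hmem] at h1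
      have h2 : ∑ p ∈ (Finset.HasAntidiagonal.antidiagonal (2 * i)).erase (i, i),
          PowerSeries.coeff p.1 g * PowerSeries.coeff p.2 g ∈ nilradical R := by
        refine Ideal.sum_mem _ (fun p hp => ?_)
        rw [Finset.mem_erase, Finset.HasAntidiagonal.mem_antidiagonal] at hp
        obtain ⟨hne, hsum⟩ := hp
        have : p.1 < i ∨ p.2 < i := by
          by_contra hcon
          push_neg at hcon
          exact hne (Prod.ext (show p.1 = i by omega) (show p.2 = i by omega))
        rcases this with h | h
        · exact Ideal.mul_mem_right _ _ (ih _ h (h.trans hi))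
        · exact Ideal.mul_mem_left _ _ (ih _ h (h.trans hi))
      have h3 : (if n ≤ 2 * i then PowerSeries.coeff (2 * i - n) g else 0) ∈ nilradical R := by
        split_ifs with hle
        · exact ih _ (by omega) (by omega)
        · exact Ideal.zero_mem _
      have h4 : PowerSeries.coeff i g * PowerSeries.coeff i g ∈ nilradical R := by
        have : PowerSeries.coeff i g * PowerSeries.coeff i g =
            (if n ≤ 2 * i then PowerSeries.coeff (2 * i - n) g else 0) -
            ∑ p ∈ (Finset.HasAntidiagonal.antidiagonal (2 * i)).erase (i, i),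
              PowerSeries.coeff p.1 g * PowerSeries.coeff p.2 g := by
          rw [← h1]; ring
        rw [this]; exact sub_mem h3 h2
      rw [mem_nilradical] at h4 ⊢
      rw [← pow_two] at h4
      exact IsNilpotent.of_pow h4
  obtain ⟨h, hh⟩ : ∃ h : PowerSeries R, h = PowerSeries.mk (fun i => PowerSeries.coeff (i + n) g) :=
    ⟨_, rfl⟩
  have hsplit : g - PowerSeries.X ^ n * h =
      ((PowerSeries.trunc n g : Polynomial R) : PowerSeries R) := by
    rw [sub_eq_iff_eq_add', hh]
    exact PowerSeries.eq_X_pow_mul_shift_add_trunc n g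
  have hlo : IsNilpotent ((PowerSeries.trunc n g : Polynomial R) : PowerSeries R) := by
    have h1 : IsNilpotent (PowerSeries.trunc n g) := by
      rw [Polynomial.isNilpotent_iff]
      intro i
      rw [PowerSeries.coeff_trunc]
      split_ifs with hi
      · exact mem_nilradical.mp (hnil i hi)
      · exact IsNilpotent.zero
    exact h1.map (Polynomial.coeToPowerSeries.ringHom)
  have hν : e - algebraMap (PowerSeries R) Lh h ∈ nilradical Lh := by
    rw [mem_nilradical]
    obtain ⟨k, hk⟩ := hlo
    refine ⟨k, ?_⟩
    have hu : IsUnit ((algebraMap (PowerSeries R) Lh (PowerSeries.X ^ n)) ^ k) := by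
      rw [map_pow]; exact (hXu.pow n).pow k
    apply hu.mul_left_eq_zero.mp
    rw [← mul_pow]
    have : (e - algebraMap (PowerSeries R) Lh h) * algebraMap (PowerSeries R) Lh (PowerSeries.X ^ n) =
        algebraMap (PowerSeries R) Lh ((PowerSeries.trunc n g : Polynomial R) : PowerSeries R) := by
      rw [sub_mul, hspec, ← map_mul, ← map_sub, mul_comm h, hsplit]
    rw [this, ← map_pow, hk, map_zero]
  have hh2 : h * h - h ∈ nilradical (PowerSeries R) := by
    rw [mem_nilradical]
    have h1 : algebraMap (PowerSeries R) Lh (h * h - h) ∈ nilradical Lh := by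
      have : algebraMap (PowerSeries R) Lh (h * h - h) =
          (e - algebraMap (PowerSeries R) Lh h) *
            ((e - algebraMap (PowerSeries R) Lh h) - (2 * e - 1)) := by
        rw [map_sub, map_mul]; linear_combination he.eq
      rw [this]; exact Ideal.mul_mem_right _ _ hν
    obtain ⟨k, hk⟩ := mem_nilradical.mp h1
    exact ⟨k, alg_inj _ ((map_pow (algebraMap (PowerSeries R) Lh) (h * h - h) k).trans hk)⟩
  obtain ⟨h₂, hh₂, hfh₂⟩ := exists_isIdempotentElem_eq_of_ker_isNilpotent
    (Ideal.Quotient.mk (nilradical (PowerSeries R)))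
    (fun x hx => by rw [Ideal.mk_ker] at hx; exact mem_nilradical.mp hx)
    (Ideal.Quotient.mk _ h) ⟨h, rfl⟩ (by
      change _ * _ = _
      rw [← map_mul, Ideal.Quotient.eq]; exact hh2)
  have hh₂h : h₂ - h ∈ nilradical (PowerSeries R) := Ideal.Quotient.eq.mp hfh₂
  -- α h₂ = e
  have h5 : algebraMap (PowerSeries R) Lh h₂ = e := by
    apply eq_of_isUnit _ _ (by rw [← map_mul, hh₂.eq]) he.eq
    have hd : algebraMap (PowerSeries R) Lh h₂ - e ∈ nilradical Lh := by
      have : algebraMap (PowerSeries R) Lh h₂ - e =
          algebraMap (PowerSeries R) Lh (h₂ - h) - (e - algebraMap (PowerSeries R) Lh h) := by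
        rw [map_sub]; ring
      rw [this]
      exact sub_mem (mem_nilradical.mpr ((mem_nilradical.mp hh₂h).map _)) hν
    exact (mem_nilradical.mp (Ideal.mul_mem_left _ _ hd)).isUnit_one_sub
  -- h₂ = C r
  have hr : IsIdempotentElem (PowerSeries.constantCoeff h₂) := by
    change _ * _ = _
    rw [← map_mul, hh₂.eq]
  have h6 : h₂ = PowerSeries.C (PowerSeries.constantCoeff h₂) := by
    apply eq_of_isUnit _ _ hh₂.eq (by rw [← map_mul, hr.eq])
    have hX : (PowerSeries.X : PowerSeries R) ∣ h₂ - PowerSeries.C (PowerSeries.constantCoeff h₂) := by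
      rw [PowerSeries.X_dvd_iff, map_sub, PowerSeries.constantCoeff_C, sub_self]
    obtain ⟨w, hw⟩ := hX
    rw [PowerSeries.isUnit_iff_constantCoeff, hw]
    simp
  exact ⟨PowerSeries.constantCoeff h₂, hr, by rw [← h6, h5]⟩

/-- For any ring R and a henselization B of R[t] along (t), every idempotent of B[1/t] comes from a
unique idempotent of R under R → R[t] → B → B[1/t]. -/
theorem result (R : Type u) [CommRing R]
    (B : Type u) [CommRing B] [Algebra R[X] B] (hB : Hens2.IsPairHenselization R[X] (Ideal.span {(X : R[X])}) B)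
    (e : Localization.Away (algebraMap R[X] B X)) (he : IsIdempotentElem e) :
    ∃! r : R, IsIdempotentElem r ∧
      algebraMap B (Localization.Away (algebraMap R[X] B X)) (algebraMap R[X] B (Polynomial.C r)) = e := by
  classical
  have hI : (Ideal.span {(X : R[X])}).map (algebraMap R[X] B) =
      Ideal.span {algebraMap R[X] B X} := by
    rw [Ideal.map_span, Set.image_singleton]
  haveI hHB : HenselianRing B (Ideal.span {algebraMap R[X] B X}) := hI ▸ hB.1
  have hPS : HenselianRing (PowerSeries R) (Ideal.span {(PowerSeries.X : PowerSeries R)}) :=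
    inferInstance
  obtain ⟨ι, hι, -⟩ := hB.2 (PowerSeries R) (Ideal.span {PowerSeries.X})
    (Polynomial.coeToPowerSeries.ringHom) hPS (by
      rw [Ideal.map_span, Set.image_singleton, Polynomial.coeToPowerSeries.ringHom_apply,
        Polynomial.coe_X])
  have hιp : ∀ p : R[X], ι (algebraMap R[X] B p) = (p : PowerSeries R) := fun p =>
    RingHom.congr_fun hι p
  have hιt : ι (algebraMap R[X] B X) = PowerSeries.X := by rw [hιp, Polynomial.coe_X]
  letI : Algebra B (PowerSeries R) := ι.toAlgebra
  haveI : IsLocalization.Away (algebraMap B (PowerSeries R) (algebraMap R[X] B X))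
      (Localization.Away (PowerSeries.X : PowerSeries R)) := by
    have : algebraMap B (PowerSeries R) (algebraMap R[X] B X) = PowerSeries.X := hιt
    rw [this]; infer_instance
  have hu : IsUnit (((algebraMap (PowerSeries R)
      (Localization.Away (PowerSeries.X : PowerSeries R))).comp ι) (algebraMap R[X] B X)) := by
    rw [RingHom.comp_apply, hιt]; exact IsLocalization.Away.algebraMap_isUnit _
  let φ : Localization.Away (algebraMap R[X] B X) →+*
      Localization.Away (PowerSeries.X : PowerSeries R) :=
    IsLocalization.Away.lift (algebraMap R[X] B X) hu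
  have hφ : ∀ b : B, φ (algebraMap B _ b) = algebraMap (PowerSeries R)
      (Localization.Away (PowerSeries.X : PowerSeries R)) (algebraMap B (PowerSeries R) b) :=
    fun b => IsLocalization.Away.lift_eq (algebraMap R[X] B X) hu b
  have H2 : ∀ (x : PowerSeries R) (N : ℕ), ∃ (a : B) (r : PowerSeries R),
      x = algebraMap B (PowerSeries R) a +
        (algebraMap B (PowerSeries R) (algebraMap R[X] B X)) ^ N * r := by
    intro x N
    refine ⟨algebraMap R[X] B (PowerSeries.trunc N x),
      PowerSeries.mk (fun i => PowerSeries.coeff (i + N) x), ?_⟩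
    change x = ι _ + (ι _) ^ N * _
    rw [hιp, hιt, add_comm]
    exact PowerSeries.eq_X_pow_mul_shift_add_trunc N x
  have H3 : ∀ (b : B) (N : ℕ), (∃ r, algebraMap B (PowerSeries R) b =
      (algebraMap B (PowerSeries R) (algebraMap R[X] B X)) ^ N * r) →
      ∃ c, b = (algebraMap R[X] B X) ^ N * c := by
    rintro b N ⟨r, hr⟩
    change ι b = (ι _) ^ N * r at hr
    rw [hιt] at hr
    obtain ⟨hsurj, -⟩ := (Groth.Agent.Lib.Helper26.PairHensNbhd.quotBij_iff
      (Ideal.span {(X : R[X])} ^ N) B).mp
      (Groth.Agent.Lib.Helper26.PairHensNbhd.quotBij_pow hB N)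
    obtain ⟨p, hp⟩ := hsurj b
    rw [Ideal.span_singleton_pow, Ideal.map_span, Set.image_singleton, map_pow,
      Ideal.mem_span_singleton'] at hp
    obtain ⟨z, hz⟩ := hp
    -- ι b = ↑p + X^N ι z
    have h1 : (p : PowerSeries R) = PowerSeries.X ^ N * (r - ι z) := by
      have h2 := congrArg ι hz
      rw [map_mul, map_pow, hιt, map_sub, hιp, hr] at h2
      linear_combination h2
    have h3 : (X : R[X]) ^ N ∣ p := by
      rw [Polynomial.X_pow_dvd_iff]
      intro d hd
      rw [← Polynomial.coeff_coe, h1]
      exact (PowerSeries.X_pow_dvd_iff.mp (Dvd.intro _ rfl)) d hd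
    obtain ⟨p', rfl⟩ := h3
    refine ⟨algebraMap R[X] B p' + z, ?_⟩
    rw [map_mul, map_pow] at hz
    linear_combination -hz
  have H4 : algebraMap B (PowerSeries R) (algebraMap R[X] B X) ∈
      Ideal.jacobson (⊥ : Ideal (PowerSeries R)) := by
    change ι _ ∈ _
    rw [hιt]
    exact IsAdicComplete.le_jacobson_bot (Ideal.span {(PowerSeries.X : PowerSeries R)})
      (Ideal.subset_span (Set.mem_singleton _))
  have key := fun ê hê => Groth.Agent.S15774.lemmaG (A := B) (Ah := PowerSeries R)
    (Lt := Localization.Away (algebraMap R[X] B X))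
    (Lh := Localization.Away (PowerSeries.X : PowerSeries R)) (algebraMap R[X] B X) φ hφ H2 H3 H4
    ê hê
  have hφC : ∀ r : R, φ (algebraMap B _ (algebraMap R[X] B (Polynomial.C r))) =
      algebraMap (PowerSeries R) (Localization.Away (PowerSeries.X : PowerSeries R))
        (PowerSeries.C r) := by
    intro r
    rw [hφ]
    change algebraMap _ _ (ι _) = _
    rw [hιp, Polynomial.coe_C]
  obtain ⟨r, hr, hrê⟩ := idem_laurent (R := R)
    (Lh := Localization.Away (PowerSeries.X : PowerSeries R)) (φ e) (he.map φ)
  obtain ⟨e₀, -, huniq⟩ := key (φ e) (he.map φ)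
  have hCidem : ∀ r : R, IsIdempotentElem r → IsIdempotentElem
      (algebraMap B (Localization.Away (algebraMap R[X] B X))
        (algebraMap R[X] B (Polynomial.C r))) := by
    intro r hr
    change _ * _ = _
    rw [← map_mul, ← map_mul, ← map_mul, hr.eq]
  have h1 : e = e₀ := huniq e ⟨he, rfl⟩
  have h2 : algebraMap B (Localization.Away (algebraMap R[X] B X))
      (algebraMap R[X] B (Polynomial.C r)) = e₀ :=
    huniq _ ⟨hCidem r hr, by rw [hφC, hrê]⟩
  refine ⟨r, ⟨hr, h2.trans h1.symm⟩, ?_⟩
  rintro r' ⟨hr', hr'e⟩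
  have h3 := congrArg φ hr'e
  rw [hφC, ← hrê, ← sub_eq_zero, ← map_sub] at h3
  have h4 := alg_inj (R := R)
    (Lh := Localization.Away (PowerSeries.X : PowerSeries R)) _ h3
  rw [← map_sub] at h4
  have h5 : r' - r = 0 := PowerSeries.C_injective (by rw [h4, map_zero])
  exact sub_eq_zero.mp h5

end Groth.Agent.S15768
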