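import Groth.Statements.S15770
-- import your own Groth.Agent.* helpers here
import Mathlib

set_option autoImplicit false
universe u
open CAlg

namespace Groth.Agent.S15770

/-- Let B be a topological ring with Bˣ ⊂ B open and M, M' finitely generated projective B-modules, and
endow Hom_B(M, M') with the module topology (the canonical topology of a finite module). Then the
set of surjective B-linear maps M → M' is open. -/
theorem result (B : Type u) [CommRing B] [TopologicalSpace B]
    [IsTopologicalRing B] (hB : IsOpen {b : B | IsUnit b})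
    (M M' : Type u) [AddCommGroup M] [Module B M] [Module.Finite B M] [Module.Projective B M]
    [AddCommGroup M'] [Module B M'] [Module.Finite B M'] [Module.Projective B M']
    [TopologicalSpace (M →ₗ[B] M')] [IsModuleTopology B (M →ₗ[B] M')] :
    IsOpen {f : M →ₗ[B] M' | Function.Surjective f} := by
  classical
  obtain ⟨n, π, ι, hπ, hι, hπι⟩ := Module.Finite.exists_comp_eq_id_of_projective B M'
  let L : (M' →ₗ[B] M) → (M →ₗ[B] M') →ₗ[B] Matrix (Fin n) (Fin n) B := fun g =>
    { toFun := fun f' => LinearMap.toMatrix' (ι ∘ₗ f' ∘ₗ g ∘ₗ π)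
      map_add' := fun f₁ f₂ => by
        rw [LinearMap.add_comp, LinearMap.comp_add, map_add]
      map_smul' := fun c f₁ => by
        rw [LinearMap.smul_comp, LinearMap.comp_smul, map_smul]
        rfl }
  let C : Matrix (Fin n) (Fin n) B := LinearMap.toMatrix' (LinearMap.id - ι ∘ₗ π)
  have hLC : ∀ g f', L g f' + C
      = LinearMap.toMatrix' (ι ∘ₗ f' ∘ₗ g ∘ₗ π + (LinearMap.id - ι ∘ₗ π)) := by
    intro g f'
    rw [map_add]
    rfl
  have hset : {f : M →ₗ[B] M' | Function.Surjective f}
      = ⋃ g : M' →ₗ[B] M, {f' : M →ₗ[B] M' | IsUnit ((L g f' + C).det)} := by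
    ext f
    simp only [Set.mem_setOf_eq, Set.mem_iUnion]
    constructor
    · intro hf
      obtain ⟨g, hg⟩ := Module.projective_lifting_property f LinearMap.id hf
      refine ⟨g, ?_⟩
      rw [hLC]
      have h1 : ι ∘ₗ f ∘ₗ g ∘ₗ π + (LinearMap.id - ι ∘ₗ π) = LinearMap.id := by
        rw [← LinearMap.comp_assoc π g f, hg, LinearMap.id_comp]
        abel
      rw [h1, LinearMap.toMatrix'_id, Matrix.det_one]
      exact isUnit_one
    · rintro ⟨g, hu⟩
      rw [hLC, LinearMap.det_toMatrix', ← LinearMap.isUnit_iff_isUnit_det] at hu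
      have hbij := (Module.End.isUnit_iff _).mp hu
      intro y
      obtain ⟨v, hv⟩ := hbij.2 (ι y)
      refine ⟨g (π v), ?_⟩
      have h2 := congrArg π hv
      have h3 : π (ι y) = y := LinearMap.congr_fun hπι y
      have h4 : π (ι (π v)) = π v := LinearMap.congr_fun hπι (π v)
      have h5 : π (ι (f (g (π v)))) = f (g (π v)) := LinearMap.congr_fun hπι _
      rw [h3] at h2
      rw [← h2]
      simp only [LinearMap.add_apply, LinearMap.sub_apply, LinearMap.comp_apply,
        LinearMap.id_apply, map_add, map_sub, h4, h5]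
      abel
  rw [hset]
  apply isOpen_iUnion
  intro g
  have hcont : Continuous fun f' : M →ₗ[B] M' => (L g f' + C).det :=
    Continuous.matrix_det ((IsModuleTopology.continuous_of_linearMap (L g)).add continuous_const)
  exact hB.preimage hcont

end Groth.Agent.S15770
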