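import Groth.Statements.S15771
-- import your own Groth.Agent.* helpers here
import Mathlib

set_option autoImplicit false
universe u
open TensorProduct
open CAlg

namespace Groth.Agent.S15771

/-- For a ring map B₀ → B with dense image into a topological ring B, a finitely generated B₀-module M₀
and any topological B-module structure on M = B ⊗_{B₀} M₀, the natural map M₀ → M has dense image. -/
theorem result (B₀ B : Type u) [CommRing B₀] [CommRing B] [Algebra B₀ B]
    [TopologicalSpace B] [IsTopologicalRing B] (hφ : DenseRange (algebraMap B₀ B))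
    (M₀ : Type u) [AddCommGroup M₀] [Module B₀ M₀] [Module.Finite B₀ M₀]
    [TopologicalSpace (B ⊗[B₀] M₀)] [IsTopologicalAddGroup (B ⊗[B₀] M₀)] [ContinuousSMul B (B ⊗[B₀] M₀)] :
    DenseRange (fun m : M₀ => (1 : B) ⊗ₜ[B₀] m) := by
  classical
  obtain ⟨n, s, hs⟩ := Module.Finite.exists_fin (R := B₀) (M := M₀)
  have htop : Submodule.span B (Set.range fun i => (1 : B) ⊗ₜ[B₀] s i) = ⊤ := by
    have h1 := Submodule.baseChange_span (R := B₀) (A := B) (M := M₀) (Set.range s)
    rw [hs, Submodule.baseChange_top, ← Set.range_comp] at h1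
    rw [h1]
    rfl
  have key : ∀ (b₀ : B₀) (m : M₀),
      algebraMap B₀ B b₀ • ((1 : B) ⊗ₜ[B₀] m) = (1 : B) ⊗ₜ[B₀] (b₀ • m) := by
    intro b₀ m
    rw [TensorProduct.smul_tmul', smul_eq_mul, mul_one, Algebra.algebraMap_eq_smul_one,
      TensorProduct.smul_tmul]
  have hψc : Continuous (fun b : Fin n → B => ∑ i, b i • ((1 : B) ⊗ₜ[B₀] s i)) :=
    continuous_finsetSum _ fun i _ => by fun_prop
  have hψs : Function.Surjective (fun b : Fin n → B => ∑ i, b i • ((1 : B) ⊗ₜ[B₀] s i)) := by
    intro x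
    have hx : x ∈ Submodule.span B (Set.range fun i => (1 : B) ⊗ₜ[B₀] s i) := htop ▸ Submodule.mem_top
    obtain ⟨c, hc⟩ := (Submodule.mem_span_range_iff_exists_fun B).mp hx
    exact ⟨c, hc⟩
  have hd : DenseRange ((fun b : Fin n → B => ∑ i, b i • ((1 : B) ⊗ₜ[B₀] s i)) ∘
      Pi.map (fun _ : Fin n => algebraMap B₀ B)) :=
    hψs.denseRange.comp (DenseRange.piMap fun _ => hφ) hψc
  refine Dense.mono ?_ hd
  rintro _ ⟨c, rfl⟩
  refine ⟨∑ i, c i • s i, ?_⟩
  simp only [Function.comp, Pi.map_apply]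
  rw [TensorProduct.tmul_sum]
  exact Finset.sum_congr rfl fun i _ => (key (c i) (s i)).symm

end Groth.Agent.S15771
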