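import Groth.Statements.S15778
import Mathlib
import Groth.Agent.Lib.Helper8.Hzl.Noeth
import Groth.Agent.Lib.Helper26.LoopApprox

set_option autoImplicit false
universe u
open TensorProduct
open CAlg

namespace Groth.Agent.S15778

open Groth.Agent.Lib.Helper26.LoopApprox in
/-- the concrete instance of the abstract setting -/
theorem setup (A : Type u) [CommRing A]
    (t : A) (ht : t ∈ (⊥ : Ideal A).jacobson)
    [Algebra (Localization.Away t) (Localization.Away (algebraMap A (AdicCompletion (Ideal.span {t}) A) t))]
    (halg : algebraMap (Localization.Away t) (Localization.Away (algebraMap A (AdicCompletion (Ideal.span {t}) A) t)) = Localization.awayMap (algebraMap A (AdicCompletion (Ideal.span {t}) A)) t) :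
    Setup A (AdicCompletion (Ideal.span {t}) A) (Localization.Away t)
      (Localization.Away (algebraMap A (AdicCompletion (Ideal.span {t}) A) t)) t := by
  have hfg : (Ideal.span {t}).FG := ⟨{t}, by simp⟩
  have hpow : ∀ N : ℕ, (Ideal.span {t} ^ N).map (algebraMap A (AdicCompletion (Ideal.span {t}) A)) =
      Ideal.span {(algebraMap A (AdicCompletion (Ideal.span {t}) A) t) ^ N} := by
    intro N
    rw [Ideal.span_singleton_pow, Ideal.map_span, Set.image_singleton, map_pow]
  refine ⟨inferInstance, inferInstance, ?_, ht, ?_, ?_, ?_⟩
  · intro a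
    rw [halg]
    exact IsLocalization.map_eq _ a
  · intro x N
    obtain ⟨a, ha⟩ := Groth.Agent.Lib.Helper8.Hzl.compl_exists_sub_mem (Ideal.span {t}) hfg N x
    rw [hpow, Ideal.mem_span_singleton'] at ha
    obtain ⟨r, hr⟩ := ha
    exact ⟨a, r, by rw [mul_comm, hr]; ring⟩
  · rintro a N ⟨r, hr⟩
    have h1 : algebraMap A (AdicCompletion (Ideal.span {t}) A) a ∈
        (Ideal.span {t} ^ N).map (algebraMap A (AdicCompletion (Ideal.span {t}) A)) := by
      rw [hpow, Ideal.mem_span_singleton']
      exact ⟨r, by rw [hr, mul_comm]⟩
    have h2 := Groth.Agent.Lib.Helper8.Hzl.compl_mem_of_map_mem (Ideal.span {t}) hfg N a h1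
    rw [Ideal.span_singleton_pow, Ideal.mem_span_singleton'] at h2
    obtain ⟨c, hc⟩ := h2
    exact ⟨c, by rw [← hc, mul_comm]⟩
  · haveI := AdicCompletion.isAdicComplete_self (Ideal.span {t}) hfg
    have hJ := IsAdicComplete.le_jacobson_bot
      ((Ideal.span {t}).map (algebraMap A (AdicCompletion (Ideal.span {t}) A)))
    exact hJ (Ideal.mem_map_of_mem _ (Ideal.subset_span (Set.mem_singleton t)))

/-- The instance A[1/t] → Â[1/t] for modules: let t lie in the Jacobson radical of A (a Zariski pair (A,
tA)) with bounded t-power torsion, Â the t-adic completion, and give Â[1/t] the A[1/t]-algebra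
structure of the canonical map. Then finitely generated projective A[1/t]-modules isomorphic over
Â[1/t] are isomorphic, and every stably free Â[1/t]-module is extended from a stably free
A[1/t]-module. (The published statement also asserts injectivity on H¹ for inner forms of GL_n; this
row omits that clause.) -/
theorem result (A : Type u) [CommRing A]
    (t : A) (ht : t ∈ (⊥ : Ideal A).jacobson)
    (hbd : ∃ N : ℕ, ∀ a : A, (∃ m : ℕ, t ^ m * a = 0) → t ^ N * a = 0)
    [Algebra (Localization.Away t) (Localization.Away (algebraMap A (AdicCompletion (Ideal.span {t}) A) t))]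
    (halg : algebraMap (Localization.Away t) (Localization.Away (algebraMap A (AdicCompletion (Ideal.span {t}) A) t)) = Localization.awayMap (algebraMap A (AdicCompletion (Ideal.span {t}) A)) t) :
    (∀ (M N : Type u) [AddCommGroup M] [Module (Localization.Away t) M] [Module.Finite (Localization.Away t) M] [Module.Projective (Localization.Away t) M]
        [AddCommGroup N] [Module (Localization.Away t) N] [Module.Finite (Localization.Away t) N] [Module.Projective (Localization.Away t) N],
        Nonempty ((Localization.Away (algebraMap A (AdicCompletion (Ideal.span {t}) A) t)) ⊗[Localization.Away t] M ≃ₗ[Localization.Away (algebraMap A (AdicCompletion (Ideal.span {t}) A) t)] (Localization.Away (algebraMap A (AdicCompletion (Ideal.span {t}) A) t)) ⊗[Localization.Away t] N) → Nonempty (M ≃ₗ[Localization.Away t] N)) ∧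
    (∀ (M' : Type u) [AddCommGroup M'] [Module (Localization.Away (algebraMap A (AdicCompletion (Ideal.span {t}) A) t)) M'] [Module.Finite (Localization.Away (algebraMap A (AdicCompletion (Ideal.span {t}) A) t)) M'],
        (∃ n m : ℕ, Nonempty ((M' × (Fin n → Localization.Away (algebraMap A (AdicCompletion (Ideal.span {t}) A) t))) ≃ₗ[Localization.Away (algebraMap A (AdicCompletion (Ideal.span {t}) A) t)] (Fin m → Localization.Away (algebraMap A (AdicCompletion (Ideal.span {t}) A) t)))) →
        ∃ (M : Type u) (_ : AddCommGroup M) (_ : Module (Localization.Away t) M), Module.Finite (Localization.Away t) M ∧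
          (∃ n m : ℕ, Nonempty ((M × (Fin n → Localization.Away t)) ≃ₗ[Localization.Away t] (Fin m → Localization.Away t))) ∧
          Nonempty ((Localization.Away (algebraMap A (AdicCompletion (Ideal.span {t}) A) t)) ⊗[Localization.Away t] M ≃ₗ[Localization.Away (algebraMap A (AdicCompletion (Ideal.span {t}) A) t)] M')) := by
  have S := setup A t ht halg
  refine ⟨?_, ?_⟩
  · intro M N _ _ _ _ _ _ _ _ h
    exact S.part1 M N h
  · rintro M' _ _ _ ⟨n, m, ⟨ε⟩⟩
    exact S.part2 M' n m ε

end Groth.Agent.S15778
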