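import Groth.Statements.S1578
import Mathlib.RingTheory.Ideal.AssociatedPrime.Localization

set_option autoImplicit false
universe u
open CategoryTheory CategoryTheory.Limits AlgebraicGeometry
open Divisors

namespace Groth.Agent.S1578

/-- Let M be a module over a ring A, F the associated quasi-coherent module on Spec A, and p a prime of
A. If p is an associated prime of M then p is an associated point of F; the converse holds when p is
finitely generated. -/
theorem result (A : CommRingCat.{u}) (M : ModuleCat.{u} A)
    (p : Spec A) :
    (p.asIdeal ∈ associatedPrimes A M → Curv2.IsAssPoint (tilde M) p) ∧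
    (p.asIdeal.FG → Curv2.IsAssPoint (tilde M) p → p.asIdeal ∈ associatedPrimes A M) := by
  let q : PrimeSpectrum.Top A := p
  have hq : p.asIdeal.IsPrime := q.2
  let _ : Algebra A ((Spec A).presheaf.stalk p) := StructureSheaf.stalkAlgebra (R := A) q
  have hloc : IsLocalization.AtPrime ((Spec A).presheaf.stalk p) p.asIdeal :=
    StructureSheaf.IsLocalization.to_stalk (R := A) q
  let _ : Module A ((tilde M).presheaf.stalk p) :=
    inferInstanceAs (Module A ((tilde M).presheaf.stalk q))
  have hst : IsScalarTower A ((Spec A).presheaf.stalk p) ((tilde M).presheaf.stalk p) :=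
    inferInstanceAs (IsScalarTower A ((structurePresheafInCommRingCat A).stalk q)
      ↑(TopCat.Presheaf.stalk (moduleStructurePresheaf A M).presheaf q))
  have hcomap : (IsLocalRing.maximalIdeal ((Spec A).presheaf.stalk p)).comap
      (algebraMap A ((Spec A).presheaf.stalk p)) = p.asIdeal :=
    IsLocalization.AtPrime.under_maximalIdeal _ _
  let f : M →ₗ[A] ((tilde M).presheaf.stalk p) := (tilde.toStalk M q).hom
  have hf : IsLocalizedModule p.asIdeal.primeCompl f :=
    inferInstanceAs (IsLocalizedModule q.asIdeal.primeCompl (tilde.toStalk M q).hom)
  constructor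
  · intro h
    unfold Curv2.IsAssPoint
    refine Module.associatedPrimes.mem_associatedPrimes_of_comap_mem_associatedPrimes_of_isLocalizedModule
      p.asIdeal.primeCompl f _ ?_
    rw [hcomap]
    exact h
  · intro hfg h
    have := Module.associatedPrimes.comap_mem_associatedPrimes_of_mem_associatedPrimes_of_isLocalizedModule_of_fg
      p.asIdeal.primeCompl f _ h (by rw [hcomap]; exact hfg)
    rw [hcomap] at this
    exact this

end Groth.Agent.S1578
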