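import Groth.Statements.S15784
-- import your own Groth.Agent.* helpers here
import Mathlib

set_option autoImplicit false
universe u
open Neron

namespace Groth.Agent.S15784

theorem aux_val {O L : Type u} [CommRing O] [IsDomain O] [Field L] [Algebra O L] [IsFractionRing O L]
    (ϖ' : O) (hϖ' : Irreducible ϖ') (ε : Oˣ) (z : ℤ)
    (h : (algebraMap O L ϖ') ^ z = algebraMap O L ε) : z = 0 := by
  have hinj : Function.Injective (algebraMap O L) := IsFractionRing.injective O L
  have hπ : algebraMap O L ϖ' ≠ 0 := fun h0 => hϖ'.ne_zero (hinj (by rw [h0, map_zero]))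
  rcases lt_trichotomy z 0 with hz | hz | hz
  · exfalso
    obtain ⟨k, hk⟩ : ∃ k : ℕ, z = -(k : ℤ) := ⟨(-z).toNat, by omega⟩
    have hk1 : k ≠ 0 := by omega
    rw [hk, zpow_neg, zpow_natCast] at h
    have h1 : algebraMap O L (ε * ϖ' ^ k) = 1 := by
      rw [map_mul, map_pow, ← h, inv_mul_cancel₀ (pow_ne_zero _ hπ)]
    have h2 : (ε : O) * ϖ' ^ k = 1 := hinj (by rw [h1, map_one])
    have h3 : IsUnit (ϖ' ^ k) := IsUnit.of_mul_eq_one (ε : O) (by rw [mul_comm]; exact h2)
    exact hϖ'.not_isUnit ((isUnit_pow_iff hk1).mp h3)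
  · exact hz
  · exfalso
    obtain ⟨k, hk⟩ : ∃ k : ℕ, z = (k : ℤ) := ⟨z.toNat, by omega⟩
    have hk1 : k ≠ 0 := by omega
    rw [hk, zpow_natCast, ← map_pow] at h
    have h2 : ϖ' ^ k = ε := hinj h
    have h3 : IsUnit (ϖ' ^ k) := h2 ▸ ε.isUnit
    exact hϖ'.not_isUnit ((isUnit_pow_iff hk1).mp h3)

/-- Let O be a discrete valuation ring with fraction field L and uniformizer ϖ', let ϖ be an element of
the maximal ideal of O, let q = u·ϖ'^n with u a unit of O and n ≥ 1, and let m ≥ 1 be a divisor of
n. Then the following are equivalent: (i) there is a nonzero element z = w·ϖ'^a of L, with w a unit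
of O and a an integer congruent to n/m modulo n, and an integer j such that z^m·q^j lies in 1 + ϖO;
(ii) ϖ'^n/q is an m-th power in the group of units of O/ϖO, that is, u·(y^m + ϖ·r) = 1 for some y, r
∈ O. (The published statement phrases (i) geometrically, as the existence of a point of order m in
the special fibre of the Néron model of the Weil restriction of the Tate curve with parameter q from
L down to a subfield over which L is totally ramified with ϖ a uniformizer of the subfield, whose
image in the component group also has order m; this row states the equivalence between (i) and (ii)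
that the printed argument establishes.) -/
theorem result
    (O : Type u) [CommRing O] [IsDomain O] [IsDiscreteValuationRing O]
    (L : Type u) [Field L] [Algebra O L] [IsFractionRing O L]
    (ϖ' : O) (hϖ' : Irreducible ϖ') (ϖ : O) (hϖ : ϖ ∈ IsLocalRing.maximalIdeal O)
    (n : ℕ) (hn : 1 ≤ n) (u : Oˣ) (q : O) (hq : q = u * ϖ' ^ n)
    (m : ℕ) (hm : 1 ≤ m) (hmn : m ∣ n) :
    (∃ (w : Oˣ) (a j t : ℤ) (r : O), a = (n / m : ℕ) + t * n ∧
        (algebraMap O L w * algebraMap O L ϖ' ^ a) ^ m * algebraMap O L q ^ j = algebraMap O L (1 + ϖ * r)) ↔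
      ∃ y r : O, (u : O) * (y ^ m + ϖ * r) = 1 := by
  have hinj : Function.Injective (algebraMap O L) := IsFractionRing.injective O L
  have hπ : algebraMap O L ϖ' ≠ 0 := fun h0 => hϖ'.ne_zero (hinj (by rw [h0, map_zero]))
  have hnm : n / m * m = n := Nat.div_mul_cancel hmn
  have hq' : algebraMap O L q = algebraMap O L u * algebraMap O L ϖ' ^ n := by
    rw [hq, map_mul, map_pow]
  constructor
  · rintro ⟨w, a, j, t, r, ha, heq⟩
    have hvu : IsUnit (1 + ϖ * r) := by
      apply IsLocalRing.isUnit_of_mem_nonunits_one_sub_self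
      have h1 : 1 - (1 + ϖ * r) = -(ϖ * r) := by ring
      rw [h1]
      exact (IsLocalRing.mem_maximalIdeal _).mp (neg_mem (Ideal.mul_mem_right _ _ hϖ))
    obtain ⟨v, hv⟩ := hvu
    have heqU : (Units.map (algebraMap O L : O →* L) w * (Units.mk0 _ hπ) ^ a) ^ m
        * (Units.map (algebraMap O L : O →* L) u * (Units.mk0 _ hπ) ^ (n : ℤ)) ^ j
        = Units.map (algebraMap O L : O →* L) v := by
      apply Units.ext
      simp only [Units.val_mul, Units.val_pow_eq_pow_val, Units.val_zpow_eq_zpow_val,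
        Units.coe_map, Units.val_mk0, MonoidHom.coe_coe, zpow_natCast]
      rw [← hq', hv]
      exact heq
    have hcomp : (Units.map (algebraMap O L : O →* L) w * (Units.mk0 _ hπ) ^ a) ^ m
        * (Units.map (algebraMap O L : O →* L) u * (Units.mk0 _ hπ) ^ (n : ℤ)) ^ j
        = (Units.map (algebraMap O L : O →* L) w ^ m * Units.map (algebraMap O L : O →* L) u ^ j)
          * (Units.mk0 _ hπ) ^ (a * m + n * j) := by
      rw [← zpow_natCast (Units.map (algebraMap O L : O →* L) w * (Units.mk0 _ hπ) ^ a) m,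
        mul_zpow, mul_zpow, ← zpow_mul, ← zpow_mul, zpow_natCast, mul_mul_mul_comm, ← zpow_add]
    have hPz : (Units.mk0 _ hπ : Lˣ) ^ (a * m + n * j)
        = Units.map (algebraMap O L : O →* L) (v * (w ^ m * u ^ j)⁻¹) := by
      rw [map_mul, map_inv, map_mul, map_pow, map_zpow, ← heqU, hcomp,
        mul_comm (Units.map (algebraMap O L : O →* L) w ^ m * Units.map (algebraMap O L : O →* L) u ^ j),
        mul_inv_cancel_right]
    have hz : a * m + n * j = 0 := by
      apply aux_val (L := L) ϖ' hϖ' (v * (w ^ m * u ^ j)⁻¹)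
      have := congrArg Units.val hPz
      rw [Units.val_zpow_eq_zpow_val] at this
      exact this
    have hj : j = -(1 + t * m) := by
      have h1 : (n : ℤ) * (1 + t * m + j) = 0 := by
        have h2 : ((n / m : ℕ) : ℤ) * m = n := by exact_mod_cast hnm
        have h3 : a * m = n + t * n * m := by
          rw [ha]; linear_combination h2
        linear_combination hz - h3
      have hn0 : (n : ℤ) ≠ 0 := by omega
      rcases mul_eq_zero.mp h1 with h | h
      · exact absurd h hn0
      · linarith
    have hveq : v = w ^ m * u ^ j := by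
      have h1 : Units.map (algebraMap O L : O →* L) v
          = Units.map (algebraMap O L : O →* L) (w ^ m * u ^ j) := by
        rw [← heqU, hcomp, hz, zpow_zero, mul_one, map_mul, map_pow, map_zpow]
      exact Units.map_injective (f := (algebraMap O L : O →* L)) hinj h1
    have hY : v = (w * u ^ (-t)) ^ m * u⁻¹ := by
      rw [hveq, hj, mul_pow, mul_assoc]
      congr 1
      rw [← zpow_natCast (u ^ (-t)) m, ← zpow_mul, ← zpow_neg_one, ← zpow_add]
      congr 1
      ring
    have hU : u * (v * ((w * u ^ (-t))⁻¹) ^ m) = 1 := by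
      rw [hY, inv_pow, mul_right_comm, mul_inv_cancel, one_mul, mul_inv_cancel]
    have h5 : (u : O) * ((v : O) * (((w * u ^ (-t))⁻¹ : Oˣ) : O) ^ m) = 1 := by
      have := congrArg Units.val hU
      simpa only [Units.val_mul, Units.val_pow_eq_pow_val, Units.val_one] using this
    rw [hv] at h5
    refine ⟨(((w * u ^ (-t))⁻¹ : Oˣ) : O), r * (((w * u ^ (-t))⁻¹ : Oˣ) : O) ^ m, ?_⟩
    linear_combination h5
  · rintro ⟨y, r, hyr⟩
    have hyu : IsUnit y := by
      by_contra hy
      have hy' : y ∈ IsLocalRing.maximalIdeal O := (IsLocalRing.mem_maximalIdeal _).mpr hy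
      have h1 : y ^ m + ϖ * r ∈ IsLocalRing.maximalIdeal O :=
        Ideal.add_mem _ (Ideal.pow_mem_of_mem _ hy' m (by omega)) (Ideal.mul_mem_right _ _ hϖ)
      have h2 : IsUnit (y ^ m + ϖ * r) := IsUnit.of_mul_eq_one u (by rw [mul_comm]; exact hyr)
      exact (IsLocalRing.mem_maximalIdeal _).mp h1 h2
    obtain ⟨yu, rfl⟩ := hyu
    refine ⟨yu⁻¹, (n / m : ℕ), -1, 0, r * ((yu⁻¹ : Oˣ) : O) ^ m, by simp, ?_⟩
    have hu_inv : (algebraMap O L u)⁻¹ = algebraMap O L ((yu : O) ^ m + ϖ * r) :=
      inv_eq_of_mul_eq_one_right (by rw [← map_mul, hyr, map_one])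
    have h1 : ((yu⁻¹ : Oˣ) : O) ^ m * (yu : O) ^ m = 1 := by
      rw [← mul_pow, Units.inv_mul, one_pow]
    rw [zpow_natCast, zpow_neg_one, mul_pow, ← pow_mul, hnm, hq', mul_inv, hu_inv]
    have h2 : algebraMap O L ((yu⁻¹ : Oˣ) : O) ^ m * algebraMap O L ϖ' ^ n
        * (algebraMap O L ((yu : O) ^ m + ϖ * r) * (algebraMap O L ϖ' ^ n)⁻¹)
        = algebraMap O L ((yu⁻¹ : Oˣ) : O) ^ m * algebraMap O L ((yu : O) ^ m + ϖ * r) := by
      field_simp
    rw [h2, ← map_pow, ← map_mul]
    congr 1
    linear_combination h1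

end Groth.Agent.S15784
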