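import Groth.Statements.S1579
import Groth.Agent.Lib.Helper3.WeakAssPush
import Groth.Agent.Lib.Helper3.WeakAssFinite
import Mathlib.AlgebraicGeometry.Morphisms.Finite

set_option autoImplicit false
universe u
open CategoryTheory CategoryTheory.Limits AlgebraicGeometry
open Divisors

namespace Groth.Agent.S1579

open Groth.Agent.Lib.Helper3

theorem isWeakAssPoint_pushforward_finite_aux {X S : Scheme.{u}} (f : X ⟶ S) [IsFinite f]
    (F : X.Modules) [F.IsQuasicoherent] (x : X) (h : Curv2.IsWeakAssPoint F x) :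
    Curv2.IsWeakAssPoint ((Scheme.Modules.pushforward f).obj F) (f x) := by
  haveI : ((Scheme.Modules.pushforward f).obj F).IsQuasicoherent :=
    QCSec.isQuasicoherent_pushforward f F
  obtain ⟨V, hV, hsV⟩ := QCProps.exists_affine_nbhd (f x)
  have hU : IsAffineOpen (f ⁻¹ᵁ V) := hV.preimage f
  have hxU : x ∈ f ⁻¹ᵁ V := hsV
  obtain ⟨m, hm⟩ := QS.exists_mem_minimalPrimes_of_isWeakAssPoint F hU x hxU h
  obtain ⟨y, hy⟩ := WAF.exists_smul_mem_minimalPrimes_comap (f.app V).hom
    (IsFinite.finite_app f V hV) m _ hm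
  have h1 := IsAffineOpen.comap_primeIdealOf_appLE (f := f) V hV (f ⁻¹ᵁ V) hU le_rfl hxU
  have h2 : (hV.primeIdealOf ⟨f x, hsV⟩).asIdeal =
      Ideal.comap (f.app V).hom (hU.primeIdealOf ⟨x, hxU⟩).asIdeal := by
    rw [← h1, Scheme.Hom.app_eq_appLE]
    rfl
  have key : ∀ (m1 : Γ(F, f ⁻¹ᵁ V)) (m2 : Γ((Scheme.Modules.pushforward f).obj F, V)), m2 = m1 →
      (LinearMap.ker (LinearMap.toSpanSingleton Γ(S, V)
        Γ((Scheme.Modules.pushforward f).obj F, V) m2) : Ideal Γ(S, V)) =
      Ideal.comap (f.app V).hom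
        (LinearMap.ker (LinearMap.toSpanSingleton Γ(X, f ⁻¹ᵁ V) Γ(F, f ⁻¹ᵁ V) m1)) := by
    intro m1 m2 h12
    subst h12
    ext a
    rw [Ideal.mem_comap, LinearMap.mem_ker, LinearMap.mem_ker, LinearMap.toSpanSingleton_apply,
      LinearMap.toSpanSingleton_apply]
    rfl
  apply QS.isWeakAssPoint_of_mem_minimalPrimes _ hV (f x) hsV (y • m)
  rw [h2, key (y • m) (y • m) rfl]
  exact hy

/-- Let f : X → S be finite and F quasi-coherent on X. Then the weakly associated points of f_* F are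
precisely the images under f of the weakly associated points of F. -/
theorem result {X S : Scheme.{u}} (f : X ⟶ S) [IsFinite f] (F : X.Modules) (hF : Coh.IsQCoh F) :
    {s : S | Curv2.IsWeakAssPoint ((Coh.push f).obj F) s} = f.base '' {x : X | Curv2.IsWeakAssPoint F x} := by
  have : F.IsQuasicoherent := hF
  ext s
  constructor
  · intro hs
    obtain ⟨x, hx, hxF⟩ := QS.exists_weakAssPoint_of_pushforward f F s hs
    exact ⟨x, hxF, hx⟩
  · rintro ⟨x, hxF, rfl⟩
    exact isWeakAssPoint_pushforward_finite_aux f F x hxF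

end Groth.Agent.S1579
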