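import Groth.Statements.S15795
-- import your own Groth.Agent.* helpers here
import Mathlib
import Groth.Agent.Lib.Helper23.KrullGen

set_option autoImplicit false
universe u v
open WildQuot

namespace Groth.Agent.S15795

/-- Let `A` be a regular local ring of Krull dimension `n` with maximal ideal `m`, let a finite group
`G` act on `A` by ring automorphisms inducing the identity on the residue field, and let `u_1, …,
u_n` generate `m`. Suppose that for every `σ ∈ G` and every `i`, `σ u_i ∈ (u_1, …, u_i) + m ^ 2`,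
i.e. the induced linear maps of `m / m ^ 2` are upper triangular in the basis given by the `u_i`.
Then the system `u` is admissible: for every choice `σ_1, …, σ_n ∈ G` the elements `σ_1 u_1, …, σ_n
u_n` generate `m`. (The published statement is for a complete regular local ring containing a
`G`-fixed field of representatives; this row drops completeness and asks only that `G` act trivially
on the residue field.) -/
theorem result
    (A : Type u) [CommRing A] [IsRegularLocalRing A]
    (G : Type v) [Group G] [Finite G] [MulSemiringAction G A]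
    (hres : ∀ (σ : G) (a : A), σ • a - a ∈ IsLocalRing.maximalIdeal A)
    (n : ℕ) (hn : ringKrullDim A = n) (u : Fin n → A)
    (hu : Ideal.span (Set.range u) = IsLocalRing.maximalIdeal A)
    (htri : ∀ (σ : G) (i : Fin n),
      σ • u i ∈ Ideal.span (u '' {j | j ≤ i}) ⊔ IsLocalRing.maximalIdeal A ^ 2) :
    ∀ τ : Fin n → G,
      Ideal.span (Set.range fun i => τ i • u i) = IsLocalRing.maximalIdeal A := by
  classical
  intro τ
  have hsm := fun (σ : G) (x : A) (hx : x ∈ IsLocalRing.maximalIdeal A) =>
    Groth.Agent.Lib.Helper23.KrullGen.smul_mem_maximalIdeal σ x hx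
  have hsm2 := fun (σ : G) (x : A) (hx : x ∈ IsLocalRing.maximalIdeal A ^ 2) =>
    Groth.Agent.Lib.Helper23.KrullGen.smul_mem_maximalIdeal_pow σ 2 x hx
  have hum : ∀ i, u i ∈ IsLocalRing.maximalIdeal A := fun i => by
    rw [← hu]
    exact Ideal.subset_span ⟨i, rfl⟩
  -- stability of the filtration
  have hstab : ∀ (σ : G) (i : Fin n) (x : A),
      x ∈ Ideal.span (u '' {j | j < i}) ⊔ IsLocalRing.maximalIdeal A ^ 2 →
      σ • x ∈ Ideal.span (u '' {j | j < i}) ⊔ IsLocalRing.maximalIdeal A ^ 2 := by
    intro σ i x hx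
    have h1 : Ideal.span (u '' {j | j < i}) ⊔ IsLocalRing.maximalIdeal A ^ 2 ≤
        Ideal.comap (MulSemiringAction.toRingHom G A σ)
          (Ideal.span (u '' {j | j < i}) ⊔ IsLocalRing.maximalIdeal A ^ 2) := by
      apply sup_le
      · rw [Ideal.span_le]
        rintro _ ⟨j, hj, rfl⟩
        rw [SetLike.mem_coe, Ideal.mem_comap, MulSemiringAction.toRingHom_apply]
        have h2 := htri σ j
        have hsub : u '' {l | l ≤ j} ⊆ u '' {l | l < i} := by
          rintro _ ⟨l, hl, rfl⟩
          have hl' : l ≤ j := hl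
          have hj' : j < i := hj
          exact ⟨l, (lt_of_le_of_lt hl' hj' : l < i), rfl⟩
        have hspan : Ideal.span (u '' {l | l ≤ j}) ≤ Ideal.span (u '' {l | l < i}) :=
          Ideal.span_mono hsub
        rcases Submodule.mem_sup.mp h2 with ⟨y, hy, z, hz, hyz⟩
        rw [← hyz]
        exact Ideal.add_mem _ (Ideal.mem_sup_left (hspan hy)) (Ideal.mem_sup_right hz)
      · intro y hy
        rw [Ideal.mem_comap, MulSemiringAction.toRingHom_apply]
        exact Ideal.mem_sup_right (hsm2 σ y hy)
    have h3 := h1 hx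
    rwa [Ideal.mem_comap, MulSemiringAction.toRingHom_apply] at h3
  -- u i is not in the previous step of the filtration
  have hnot : ∀ i : Fin n,
      u i ∉ Ideal.span (u '' {j | j < i}) ⊔ IsLocalRing.maximalIdeal A ^ 2 := by
    intro i hi
    have hle : IsLocalRing.maximalIdeal A ≤
        Ideal.span (((Finset.univ.erase i).image u : Finset A) : Set A)
          ⊔ IsLocalRing.maximalIdeal A ^ 2 := by
      have hle0 : Ideal.span (Set.range u) ≤
          Ideal.span (((Finset.univ.erase i).image u : Finset A) : Set A)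
            ⊔ IsLocalRing.maximalIdeal A ^ 2 := ?_
      · rwa [hu] at hle0
      rw [Ideal.span_le]
      rintro _ ⟨j, rfl⟩
      by_cases hj : j = i
      · subst hj
        have hsub : u '' {l | l < j} ⊆ (((Finset.univ.erase j).image u : Finset A) : Set A) := by
          rintro _ ⟨l, hl, rfl⟩
          rw [Finset.mem_coe, Finset.mem_image]
          exact ⟨l, Finset.mem_erase.mpr ⟨ne_of_lt hl, Finset.mem_univ _⟩, rfl⟩
        have hspan : Ideal.span (u '' {l | l < j})
            ≤ Ideal.span (((Finset.univ.erase j).image u : Finset A) : Set A) :=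
          Ideal.span_mono hsub
        rcases Submodule.mem_sup.mp hi with ⟨y, hy, z, hz, hyz⟩
        rw [← hyz]
        exact Ideal.add_mem _ (Ideal.mem_sup_left (hspan hy)) (Ideal.mem_sup_right hz)
      · apply Ideal.mem_sup_left
        apply Ideal.subset_span
        rw [Finset.mem_coe, Finset.mem_image]
        exact ⟨j, Finset.mem_erase.mpr ⟨hj, Finset.mem_univ _⟩, rfl⟩
    have hle2 := Groth.Agent.Lib.Helper23.KrullGen.maximalIdeal_le_of_le_sup_sq _ hle
    have hcard := Groth.Agent.Lib.Helper23.KrullGen.le_card_of_maximalIdeal_le_radical n hn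
      ((Finset.univ.erase i).image u)
      (fun x hx => by
        obtain ⟨j, -, rfl⟩ := Finset.mem_image.mp hx
        exact hum j)
      (hle2.trans Ideal.le_radical)
    have h2 : ((Finset.univ.erase i).image u).card ≤ n - 1 := by
      refine Finset.card_image_le.trans ?_
      rw [Finset.card_erase_of_mem (Finset.mem_univ _), Finset.card_univ, Fintype.card_fin]
    have h3 : 0 < n := Fin.pos i
    omega
  -- main induction
  have hτJ : ∀ i, τ i • u i ∈
      Ideal.span (Set.range fun i => τ i • u i) ⊔ IsLocalRing.maximalIdeal A ^ 2 :=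
    fun i => Ideal.mem_sup_left (Ideal.subset_span ⟨i, rfl⟩)
  have hind : ∀ k : ℕ, ∀ hk : k < n, u ⟨k, hk⟩ ∈
      Ideal.span (Set.range fun i => τ i • u i) ⊔ IsLocalRing.maximalIdeal A ^ 2 := by
    intro k
    induction k using Nat.strong_induction_on with
    | _ k ih =>
      intro hk
      have hprev : Ideal.span (u '' {j | j < (⟨k, hk⟩ : Fin n)})
            ⊔ IsLocalRing.maximalIdeal A ^ 2
          ≤ Ideal.span (Set.range fun i => τ i • u i) ⊔ IsLocalRing.maximalIdeal A ^ 2 := by
        apply sup_le _ le_sup_right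
        rw [Ideal.span_le]
        rintro _ ⟨j, hj, rfl⟩
        exact ih j.val (Fin.lt_def.mp hj) j.isLt
      have hsplit : {j : Fin n | j ≤ ⟨k, hk⟩} = {j | j < (⟨k, hk⟩ : Fin n)} ∪ {⟨k, hk⟩} := by
        ext j
        simp only [Set.mem_ofPred_eq, Set.mem_union, Set.mem_singleton_iff]
        exact le_iff_lt_or_eq
      have h1 := htri (τ ⟨k, hk⟩) ⟨k, hk⟩
      rw [hsplit, Set.image_union, Set.image_singleton, Ideal.span_union, sup_assoc,
        sup_comm (Ideal.span {u ⟨k, hk⟩}), ← sup_assoc] at h1
      obtain ⟨y, hy, z, hz, hyz⟩ := Submodule.mem_sup.mp h1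
      obtain ⟨c, rfl⟩ := Ideal.mem_span_singleton'.mp hz
      by_cases hc : IsUnit c
      · have h2 : c * u ⟨k, hk⟩ ∈
            Ideal.span (Set.range fun i => τ i • u i) ⊔ IsLocalRing.maximalIdeal A ^ 2 := by
          have h3 : c * u ⟨k, hk⟩ = τ ⟨k, hk⟩ • u ⟨k, hk⟩ - y := by rw [← hyz]; ring
          rw [h3]
          exact Ideal.sub_mem _ (hτJ _) (hprev hy)
        exact (Ideal.unit_mul_mem_iff_mem _ hc).mp h2
      · exfalso
        have hcm : c ∈ IsLocalRing.maximalIdeal A := (IsLocalRing.mem_maximalIdeal _).mpr hc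
        have h2 : c * u ⟨k, hk⟩ ∈ IsLocalRing.maximalIdeal A ^ 2 := by
          rw [pow_two]
          exact Ideal.mul_mem_mul hcm (hum _)
        have h3 : τ ⟨k, hk⟩ • u ⟨k, hk⟩ ∈
            Ideal.span (u '' {j | j < (⟨k, hk⟩ : Fin n)}) ⊔ IsLocalRing.maximalIdeal A ^ 2 := by
          rw [← hyz]
          exact Ideal.add_mem _ hy (Ideal.mem_sup_right h2)
        have h4 := hstab (τ ⟨k, hk⟩)⁻¹ ⟨k, hk⟩ _ h3
        rw [inv_smul_smul] at h4
        exact hnot _ h4
  apply le_antisymm
  · rw [Ideal.span_le]
    rintro _ ⟨i, rfl⟩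
    exact hsm _ _ (hum i)
  · apply Groth.Agent.Lib.Helper23.KrullGen.maximalIdeal_le_of_le_sup_sq
    have hle0 : Ideal.span (Set.range u) ≤
        Ideal.span (Set.range fun i => τ i • u i) ⊔ IsLocalRing.maximalIdeal A ^ 2 := by
      rw [Ideal.span_le]
      rintro _ ⟨i, rfl⟩
      exact hind i.val i.isLt
    rwa [hu] at hle0

end Groth.Agent.S15795
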