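import Groth.Statements.S15792
import Mathlib
import Groth.Agent.S15795
import Groth.Agent.Lib.Helper23.KrullGen

set_option autoImplicit false
universe u v
open WildQuot

namespace Groth.Agent.S15792


namespace H15792

open IsLocalRing

section Quot

variable {A : Type*} [CommRing A] {G : Type*} [Group G] [MulSemiringAction G A]

/-- the ring endomorphism of `A ⧸ I` induced by `σ` -/
noncomputable def qmap (I : Ideal A) (hI : ∀ (σ : G) (a : A), a ∈ I → σ • a ∈ I) (σ : G) :
    A ⧸ I →+* A ⧸ I :=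
  Ideal.quotientMap I (MulSemiringAction.toRingHom G A σ) (fun a ha => by
    rw [Ideal.mem_comap, MulSemiringAction.toRingHom_apply]
    exact hI σ a ha)

theorem qmap_mk (I : Ideal A) (hI : ∀ (σ : G) (a : A), a ∈ I → σ • a ∈ I) (σ : G) (a : A) :
    qmap I hI σ (Ideal.Quotient.mk I a) = Ideal.Quotient.mk I (σ • a) := by
  unfold qmap
  rw [Ideal.quotientMap_mk, MulSemiringAction.toRingHom_apply]

theorem qmap_one (I : Ideal A) (hI : ∀ (σ : G) (a : A), a ∈ I → σ • a ∈ I) (y : A ⧸ I) :
    qmap I hI (1 : G) y = y := by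
  obtain ⟨a, rfl⟩ := Ideal.Quotient.mk_surjective y
  rw [qmap_mk, one_smul]

theorem qmap_mul (I : Ideal A) (hI : ∀ (σ : G) (a : A), a ∈ I → σ • a ∈ I) (σ τ : G)
    (y : A ⧸ I) : qmap I hI (σ * τ) y = qmap I hI σ (qmap I hI τ y) := by
  obtain ⟨a, rfl⟩ := Ideal.Quotient.mk_surjective y
  rw [qmap_mk, qmap_mk, qmap_mk, mul_smul]

/-- additive subgroup of `A ⧸ I` generated by the orbit of `x` -/
def Wsub (G : Type*) [Group G] [MulSemiringAction G A] (I : Ideal A) (x : A) :
    AddSubgroup (A ⧸ I) :=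
  AddSubgroup.closure (Set.range fun σ : G => Ideal.Quotient.mk I (σ • x))

theorem Wsub_stable (I : Ideal A) (hI : ∀ (σ : G) (a : A), a ∈ I → σ • a ∈ I) (x : A) (σ : G)
    (y : A ⧸ I) (hy : y ∈ Wsub G I x) : qmap I hI σ y ∈ Wsub G I x := by
  unfold Wsub at hy ⊢
  induction hy using AddSubgroup.closure_induction with
  | mem z hz =>
    obtain ⟨τ, rfl⟩ := hz
    apply AddSubgroup.subset_closure
    refine ⟨σ * τ, ?_⟩
    show Ideal.Quotient.mk I ((σ * τ) • x) = qmap I hI σ (Ideal.Quotient.mk I (τ • x))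
    rw [qmap_mk, mul_smul]
  | zero => rw [map_zero]; exact AddSubgroup.zero_mem _
  | add a b _ _ iha ihb => rw [map_add]; exact AddSubgroup.add_mem _ iha ihb
  | neg a _ iha => rw [map_neg]; exact AddSubgroup.neg_mem _ iha

theorem Wsub_lift [IsLocalRing A] (I : Ideal A) (x : A) (hx : x ∈ maximalIdeal A) (y : A ⧸ I)
    (hy : y ∈ Wsub G I x) : ∃ a ∈ maximalIdeal A, Ideal.Quotient.mk I a = y := by
  unfold Wsub at hy
  induction hy using AddSubgroup.closure_induction with
  | mem z hz =>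
    obtain ⟨τ, rfl⟩ := hz
    exact ⟨τ • x, Groth.Agent.Lib.Helper23.KrullGen.smul_mem_maximalIdeal τ x hx, rfl⟩
  | zero => exact ⟨0, Ideal.zero_mem _, map_zero _⟩
  | add a b _ _ iha ihb =>
    obtain ⟨a', ha', rfl⟩ := iha
    obtain ⟨b', hb', rfl⟩ := ihb
    exact ⟨a' + b', Ideal.add_mem _ ha' hb', map_add _ _ _⟩
  | neg a _ iha =>
    obtain ⟨a', ha', rfl⟩ := iha
    exact ⟨-a', (Ideal.neg_mem_iff _).mpr ha', map_neg _ _⟩

theorem Wsub_nsmul (p : ℕ) [CharP A p] (I : Ideal A) (x : A) (y : Wsub G I x) : p • y = 0 := by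
  apply Subtype.ext
  rw [AddSubgroup.coe_nsmul, AddSubgroup.coe_zero, nsmul_eq_mul]
  have h : ((p : ℕ) : A ⧸ I) = 0 := by
    rw [← map_natCast (Ideal.Quotient.mk I), CharP.cast_eq_zero A p, map_zero]
  rw [h, zero_mul]

theorem Wsub_finite [Finite G] (p : ℕ) [Fact p.Prime] [CharP A p] (I : Ideal A) (x : A) :
    Finite (Wsub G I x) := by
  haveI : AddGroup.FG (Wsub G I x) := by
    unfold Wsub
    infer_instance
  apply AddCommGroup.finite_of_fg_isAddTorsion
  intro y
  rw [isOfFinAddOrder_iff_nsmul_eq_zero]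
  exact ⟨p, (Fact.out : p.Prime).pos, Wsub_nsmul p I x y⟩

theorem Wsub_card [Finite G] (p : ℕ) [Fact p.Prime] [CharP A p] (I : Ideal A) (x : A)
    (hx : x ∉ I) : p ∣ Nat.card (Wsub G I x) := by
  haveI := Wsub_finite (G := G) p I x
  have hpg : IsPGroup p (Multiplicative (Wsub G I x)) := by
    intro g
    refine ⟨1, ?_⟩
    rw [pow_one]
    apply Multiplicative.toAdd.injective
    rw [toAdd_pow, toAdd_one]
    exact Wsub_nsmul p I x _
  obtain ⟨d, hd⟩ := IsPGroup.iff_card.mp hpg
  rw [Nat.card_congr Multiplicative.toAdd] at hd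
  rcases Nat.eq_zero_or_pos d with h0 | hpos
  · exfalso
    rw [h0, pow_zero] at hd
    have hsub : Subsingleton (Wsub G I x) := (Nat.card_eq_one_iff_unique.mp hd).1
    have hmem : Ideal.Quotient.mk I x ∈ Wsub G I x := by
      apply AddSubgroup.subset_closure
      refine ⟨1, ?_⟩
      show Ideal.Quotient.mk I ((1 : G) • x) = _
      rw [one_smul]
    have h1 := Subsingleton.elim (⟨_, hmem⟩ : Wsub G I x) 0
    have h2 : Ideal.Quotient.mk I x = 0 := congrArg Subtype.val h1
    exact hx (Ideal.Quotient.eq_zero_iff_mem.mp h2)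
  · rw [hd]
    exact dvd_pow_self p (by omega)

theorem fixed_vec [IsLocalRing A] [Finite G] (p : ℕ) [Fact p.Prime] [CharP A p]
    (hG : IsPGroup p G) (I : Ideal A) (hI : ∀ (σ : G) (a : A), a ∈ I → σ • a ∈ I)
    (hnot : ¬ maximalIdeal A ≤ I) :
    ∃ u ∈ maximalIdeal A, u ∉ I ∧ ∀ σ : G, σ • u - u ∈ I := by
  classical
  obtain ⟨x, hxm, hxI⟩ := SetLike.not_le_iff_exists.mp hnot
  haveI := Wsub_finite (G := G) p I x
  letI act : MulAction G (Wsub G I x) :=
    { smul := fun σ y => ⟨qmap I hI σ y.1, Wsub_stable I hI x σ y.1 y.2⟩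
      one_smul := fun y => Subtype.ext (qmap_one I hI y.1)
      mul_smul := fun σ τ y => Subtype.ext (qmap_mul I hI σ τ y.1) }
  have hval : ∀ (σ : G) (y : Wsub G I x), (σ • y).1 = qmap I hI σ y.1 := fun σ y => rfl
  have h0 : (0 : Wsub G I x) ∈ MulAction.fixedPoints G (Wsub G I x) := by
    rw [MulAction.mem_fixedPoints]
    intro σ
    apply Subtype.ext
    rw [hval, AddSubgroup.coe_zero, map_zero]
  obtain ⟨b, hb, hne⟩ := hG.exists_fixed_point_of_prime_dvd_card_of_fixed_point (Wsub G I x)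
    (Wsub_card (G := G) p I x hxI) h0
  obtain ⟨u, hum, hub⟩ := Wsub_lift (G := G) I x hxm b.1 b.2
  refine ⟨u, hum, ?_, ?_⟩
  · intro huI
    apply hne
    apply Subtype.ext
    rw [AddSubgroup.coe_zero, ← hub]
    exact (Ideal.Quotient.eq_zero_iff_mem.mpr huI).symm
  · intro σ
    have h1 : σ • b = b := (MulAction.mem_fixedPoints.mp hb) σ
    have h2 : qmap I hI σ b.1 = b.1 := by rw [← hval, h1]
    rw [← hub, qmap_mk] at h2
    exact Ideal.Quotient.eq.mp h2

theorem exchange [IsLocalRing A] [DecidableEq A] (I : Ideal A) (hsq : maximalIdeal A ^ 2 ≤ I) (s : Finset A)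
    (hs : ∀ v ∈ s, v ∈ maximalIdeal A) (hgen : maximalIdeal A ≤ I ⊔ Ideal.span (s : Set A))
    (u : A) (hum : u ∈ maximalIdeal A) (huI : u ∉ I) :
    ∃ v ∈ s, maximalIdeal A ≤
      (I ⊔ Ideal.span {u}) ⊔ Ideal.span ((s.erase v : Finset A) : Set A) := by
  classical
  obtain ⟨i, hi, t, ht, hit⟩ := Submodule.mem_sup.mp (hgen hum)
  obtain ⟨f, -, hf⟩ := (Submodule.mem_span_finset (R := A)).mp ht
  simp only [smul_eq_mul] at hf
  by_contra hall
  apply huI
  have hfm : ∀ v ∈ s, f v ∈ maximalIdeal A := by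
    intro v hv
    by_contra hunit
    have hu' : IsUnit (f v) := by
      by_contra h
      exact hunit ((IsLocalRing.mem_maximalIdeal _).mpr h)
    apply hall
    refine ⟨v, hv, ?_⟩
    have hvJ : v ∈ (I ⊔ Ideal.span {u}) ⊔ Ideal.span ((s.erase v : Finset A) : Set A) := by
      have hsum : f v * v + ∑ w ∈ s.erase v, f w * w = ∑ w ∈ s, f w * w :=
        Finset.add_sum_erase s (fun a => f a * a) hv
      have h3 : f v * v = u - i - ∑ w ∈ s.erase v, f w * w := by
        linear_combination hsum + hf + hit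
      have h4 : f v * v ∈
          (I ⊔ Ideal.span {u}) ⊔ Ideal.span ((s.erase v : Finset A) : Set A) := by
        rw [h3]
        refine Ideal.sub_mem _ (Ideal.sub_mem _ ?_ ?_) ?_
        · exact Ideal.mem_sup_left (Ideal.mem_sup_right (Ideal.subset_span (Set.mem_singleton u)))
        · exact Ideal.mem_sup_left (Ideal.mem_sup_left hi)
        · apply Ideal.mem_sup_right
          apply Ideal.sum_mem
          intro w hw
          exact Ideal.mul_mem_left _ _ (Ideal.subset_span (Finset.mem_coe.mpr hw))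
      exact (Ideal.unit_mul_mem_iff_mem _ hu').mp h4
    refine hgen.trans (sup_le (le_sup_left.trans le_sup_left) ?_)
    rw [Ideal.span_le]
    intro w hw
    by_cases hwv : w = v
    · rw [hwv]; exact hvJ
    · exact Ideal.mem_sup_right (Ideal.subset_span
        (Finset.mem_coe.mpr (Finset.mem_erase.mpr ⟨hwv, Finset.mem_coe.mp hw⟩)))
  have ht2 : t ∈ maximalIdeal A ^ 2 := by
    rw [← hf]
    apply Ideal.sum_mem
    intro v hv
    rw [pow_two]
    exact Ideal.mul_mem_mul (hfm v hv) (hs v hv)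
  rw [← hit]
  exact Ideal.add_mem _ hi (hsq ht2)

theorem flag_trivial [IsLocalRing A] (I : Ideal A) (k : ℕ) (h : maximalIdeal A ≤ I) :
    ∃ u : ℕ → A, (∀ i, u i ∈ maximalIdeal A) ∧
      (∀ i, i < k → ∀ σ : G, σ • u i ∈ I ⊔ Ideal.span (u '' {l | l ≤ i})) ∧
      maximalIdeal A ≤ I ⊔ Ideal.span (u '' {l | l < k}) :=
  ⟨fun _ => 0, fun _ => Ideal.zero_mem _,
    fun i _ σ => by simp only [smul_zero]; exact Ideal.zero_mem _, h.trans le_sup_left⟩

theorem stable_sup_span (I : Ideal A) (hI : ∀ (σ : G) (a : A), a ∈ I → σ • a ∈ I) (u : A)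
    (hfix : ∀ σ : G, σ • u - u ∈ I) :
    ∀ (σ : G) (a : A), a ∈ I ⊔ Ideal.span {u} → σ • a ∈ I ⊔ Ideal.span {u} := by
  intro σ a ha
  obtain ⟨i, hi, z, hz, rfl⟩ := Submodule.mem_sup.mp ha
  obtain ⟨c, rfl⟩ := Ideal.mem_span_singleton'.mp hz
  have h : σ • (i + c * u) = (σ • i + σ • c * (σ • u - u)) + σ • c * u := by
    rw [smul_add, smul_mul']; ring
  rw [h]
  refine Ideal.add_mem _ (Ideal.mem_sup_left (Ideal.add_mem _ (hI σ i hi)
    (Ideal.mul_mem_left _ _ (hfix σ)))) ?_
  exact Ideal.mem_sup_right (Ideal.mul_mem_left _ _ (Ideal.subset_span (Set.mem_singleton u)))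

/-- prepend an element to a sequence -/
def consSeq (a : A) (u : ℕ → A) : ℕ → A
  | 0 => a
  | (j + 1) => u j

theorem flag [IsLocalRing A] [Finite G] (p : ℕ) [Fact p.Prime] [CharP A p] (hG : IsPGroup p G) :
    ∀ (k : ℕ) (I : Ideal A), (∀ (σ : G) (a : A), a ∈ I → σ • a ∈ I) → maximalIdeal A ^ 2 ≤ I →
    (∃ s : Finset A, s.card ≤ k ∧ (∀ v ∈ s, v ∈ maximalIdeal A) ∧
        maximalIdeal A ≤ I ⊔ Ideal.span (s : Set A)) →
    ∃ u : ℕ → A, (∀ i, u i ∈ maximalIdeal A) ∧
      (∀ i, i < k → ∀ σ : G, σ • u i ∈ I ⊔ Ideal.span (u '' {l | l ≤ i})) ∧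
      maximalIdeal A ≤ I ⊔ Ideal.span (u '' {l | l < k}) := by
  classical
  intro k
  induction k with
  | zero =>
    rintro I hI hsq ⟨s, hcard, hs, hgen⟩
    apply flag_trivial
    have h0 : s = ∅ := Finset.card_eq_zero.mp (Nat.le_zero.mp hcard)
    rw [h0, Finset.coe_empty, Ideal.span_empty, sup_bot_eq] at hgen
    exact hgen
  | succ k ih =>
    rintro I hI hsq ⟨s, hcard, hs, hgen⟩
    by_cases hmI : maximalIdeal A ≤ I
    · exact flag_trivial I (k + 1) hmI
    · obtain ⟨u₀, hu₀m, hu₀I, hfix⟩ := fixed_vec p hG I hI hmI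
      obtain ⟨v, hv, hgen'⟩ := exchange I hsq s hs hgen u₀ hu₀m hu₀I
      have hcard' : (s.erase v).card ≤ k := by
        rw [Finset.card_erase_of_mem hv]; omega
      obtain ⟨u', h1, h2, h3⟩ := ih (I ⊔ Ideal.span {u₀}) (stable_sup_span I hI u₀ hfix)
        (hsq.trans le_sup_left)
        ⟨s.erase v, hcard', fun w hw => hs w (Finset.mem_of_mem_erase hw), hgen'⟩
      refine ⟨consSeq u₀ u', ?_, ?_, ?_⟩
      · intro i
        cases i with
        | zero => exact hu₀m
        | succ j => exact h1 j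
      · intro i hi σ
        cases i with
        | zero =>
          have h : σ • consSeq u₀ u' 0 = (σ • u₀ - u₀) + u₀ := by
            show σ • u₀ = _
            ring
          rw [h]
          exact Ideal.add_mem _ (Ideal.mem_sup_left (hfix σ))
            (Ideal.mem_sup_right (Ideal.subset_span ⟨0, (le_refl 0 : (0 : ℕ) ≤ 0), rfl⟩))
        | succ j =>
          have hj := h2 j (by omega) σ
          have hle : (I ⊔ Ideal.span {u₀}) ⊔ Ideal.span (u' '' {l | l ≤ j}) ≤
              I ⊔ Ideal.span (consSeq u₀ u' '' {l | l ≤ j + 1}) := by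
            refine sup_le (sup_le le_sup_left ?_) ?_
            · refine le_sup_of_le_right (Ideal.span_mono ?_)
              intro y hy
              rw [Set.mem_singleton_iff] at hy
              rw [hy]
              exact ⟨0, (Nat.zero_le _ : (0 : ℕ) ≤ j + 1), rfl⟩
            · refine le_sup_of_le_right (Ideal.span_mono ?_)
              rintro _ ⟨l, hl, rfl⟩
              have hl' : l ≤ j := hl
              exact ⟨l + 1, (Nat.succ_le_succ hl' : l + 1 ≤ j + 1), rfl⟩
          exact hle hj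
      · refine h3.trans ?_
        refine sup_le (sup_le le_sup_left ?_) ?_
        · refine le_sup_of_le_right (Ideal.span_mono ?_)
          intro y hy
          rw [Set.mem_singleton_iff] at hy
          rw [hy]
          exact ⟨0, (Nat.succ_pos _ : (0 : ℕ) < k + 1), rfl⟩
        · refine le_sup_of_le_right (Ideal.span_mono ?_)
          rintro _ ⟨l, hl, rfl⟩
          have hl' : l < k := hl
          exact ⟨l + 1, (Nat.succ_lt_succ hl' : l + 1 < k + 1), rfl⟩

end Quot

theorem main (p : ℕ) [Fact p.Prime] (A : Type*) [CommRing A] [IsRegularLocalRing A] [CharP A p]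
    (G : Type*) [Group G] [Finite G] [MulSemiringAction G A] (hG : IsPGroup p G)
    (n : ℕ) (hn : ringKrullDim A = n) :
    ∃ u : Fin n → A, Ideal.span (Set.range u) = maximalIdeal A ∧
      ∀ (σ : G) (i : Fin n),
        σ • u i ∈ Ideal.span (u '' {j | j ≤ i}) ⊔ maximalIdeal A ^ 2 := by
  classical
  have hfg : (maximalIdeal A).FG := IsNoetherian.noetherian _
  obtain ⟨s, hscard, hsspan⟩ := Submodule.FG.exists_span_finset_card_eq_spanFinrank hfg
  have hrank : (maximalIdeal A).spanFinrank = n := by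
    have h := IsRegularLocalRing.spanFinrank_maximalIdeal (R := A)
    rw [hn] at h
    exact_mod_cast h
  have hstab2 : ∀ (σ : G) (a : A), a ∈ maximalIdeal A ^ 2 → σ • a ∈ maximalIdeal A ^ 2 :=
    fun σ a ha => Groth.Agent.Lib.Helper23.KrullGen.smul_mem_maximalIdeal_pow σ 2 a ha
  have hsm : ∀ v ∈ s, v ∈ maximalIdeal A := by
    intro v hv
    have h := Submodule.subset_span (R := A) (Finset.mem_coe.mpr hv)
    rwa [hsspan] at h
  have hsgen : maximalIdeal A ≤ maximalIdeal A ^ 2 ⊔ Ideal.span (s : Set A) := by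
    have h : maximalIdeal A ≤ Ideal.span (s : Set A) := hsspan.ge
    exact h.trans le_sup_right
  obtain ⟨u, h1, h2, h3⟩ := flag p hG n (maximalIdeal A ^ 2) hstab2 le_rfl
    ⟨s, by rw [hscard, hrank], hsm, hsgen⟩
  refine ⟨fun i => u i, ?_, ?_⟩
  · apply le_antisymm
    · rw [Ideal.span_le]
      rintro _ ⟨i, rfl⟩
      exact h1 i
    · apply Groth.Agent.Lib.Helper23.KrullGen.maximalIdeal_le_of_le_sup_sq
      refine h3.trans ?_
      rw [sup_comm (maximalIdeal A ^ 2)]
      refine sup_le_sup_right (Ideal.span_mono ?_) _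
      rintro _ ⟨l, hl, rfl⟩
      exact ⟨⟨l, hl⟩, rfl⟩
  · intro σ i
    have h := h2 i i.isLt σ
    rw [sup_comm] at h
    have hsub : u '' {l | l ≤ (i : ℕ)} ⊆ (fun i : Fin n => u i) '' {j | j ≤ i} := by
      rintro _ ⟨l, hl, rfl⟩
      have hl' : l ≤ (i : ℕ) := hl
      exact ⟨⟨l, lt_of_le_of_lt hl' i.isLt⟩, (Fin.le_def.mpr hl' : (⟨l, _⟩ : Fin n) ≤ i), rfl⟩
    have hle := sup_le_sup_right (Ideal.span_mono hsub) (maximalIdeal A ^ 2)
    exact hle h

end H15792

/-- Let `A` be a regular local ring of Krull dimension `n` and prime characteristic `p`, and let a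
finite `p`-group `G` act on `A` by ring automorphisms inducing the identity on the residue field.
Then there is an admissible regular system of parameters: `u_1, …, u_n ∈ A` such that for every
choice `σ_1, …, σ_n ∈ G` the elements `σ_1 u_1, …, σ_n u_n` generate the maximal ideal. (The
published statement is for a complete regular local ring containing a field of representatives fixed
by `G`; this row drops completeness and asks only that `G` act trivially on the residue field.) -/
theorem result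
    (p : ℕ) [Fact p.Prime] (A : Type u) [CommRing A] [IsRegularLocalRing A] [CharP A p]
    (G : Type v) [Group G] [Finite G] [MulSemiringAction G A] (hG : IsPGroup p G)
    (hres : ∀ (σ : G) (a : A), σ • a - a ∈ IsLocalRing.maximalIdeal A)
    (n : ℕ) (hn : ringKrullDim A = n) :
    ∃ u : Fin n → A, ∀ τ : Fin n → G,
      Ideal.span (Set.range fun i => τ i • u i) = IsLocalRing.maximalIdeal A := by
  obtain ⟨u, hu, htri⟩ := H15792.main p A G hG n hn
  exact ⟨u, Groth.Agent.S15795.result A G hres n hn u hu htri⟩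

end Groth.Agent.S15792
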