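import Groth.Statements.S15793
import Mathlib
import Groth.Agent.Lib.Helper5.RegQuot

set_option autoImplicit false
universe u v w
open WildQuot

namespace Groth.Agent.S15793


namespace H15793
open IsLocalRing

section
variable (A : Type u) [CommRing A] [IsRegularLocalRing A]

/-- generators of the maximal ideal containing `v`. -/
theorem exists_gens (v : A) (hv : v ∈ maximalIdeal A) (hv2 : v ∉ maximalIdeal A ^ 2) :
    ∃ S : Finset A, ((S.card : ℕ∞) + 1 ≤ (maximalIdeal A).height) ∧
      maximalIdeal A = Ideal.span {v} ⊔ Ideal.span (S : Set A) := by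
  classical
  obtain ⟨hreg, hrank⟩ := Groth.Agent.Lib.Helper5.RegQuot.quotient_singleton A v hv hv2
  haveI := hreg
  obtain ⟨W, hWc, hWs⟩ := Submodule.FG.exists_span_finset_card_eq_spanFinrank
    (IsNoetherian.noetherian (maximalIdeal (A ⧸ Ideal.span {v})))
  have hsurj : Function.Surjective (Ideal.Quotient.mk (Ideal.span {v})) :=
    Ideal.Quotient.mk_surjective
  obtain ⟨g, hg⟩ : ∃ g : (A ⧸ Ideal.span {v}) → A,
      ∀ w, Ideal.Quotient.mk (Ideal.span {v}) (g w) = w :=
    ⟨Function.surjInv hsurj, Function.surjInv_eq hsurj⟩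
  refine ⟨W.image g, ?_, ?_⟩
  · have hht : (maximalIdeal A).height = (((maximalIdeal A).spanFinrank : ℕ) : ℕ∞) := by
      have h1 := IsLocalRing.maximalIdeal_height_eq_ringKrullDim (R := A)
      have h2 := IsRegularLocalRing.spanFinrank_maximalIdeal (R := A)
      rw [← h2] at h1
      exact_mod_cast h1
    rw [hht]
    have h3 : (W.image g).card + 1 ≤ (maximalIdeal A).spanFinrank := by
      have := Finset.card_image_le (s := W) (f := g)
      omega
    exact_mod_cast h3
  · have hWm : ∀ w ∈ W, w ∈ maximalIdeal (A ⧸ Ideal.span {v}) := fun w hw => by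
      rw [← hWs]
      exact Submodule.subset_span hw
    apply le_antisymm
    · intro a ha
      have hmka : Ideal.Quotient.mk (Ideal.span {v}) a ∈ maximalIdeal (A ⧸ Ideal.span {v}) := by
        rw [IsLocalRing.mem_maximalIdeal, mem_nonunits_iff]
        intro hu
        obtain ⟨y, hy⟩ := isUnit_iff_exists_inv.mp hu
        obtain ⟨b, rfl⟩ := hsurj y
        rw [← map_mul, ← map_one (Ideal.Quotient.mk (Ideal.span {v})), Ideal.Quotient.eq] at hy
        have h1 : a * b - 1 ∈ maximalIdeal A :=
          (Ideal.span_le.mpr (Set.singleton_subset_iff.mpr hv)) hy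
        have h2 : a * b ∈ maximalIdeal A := Ideal.mul_mem_right _ _ ha
        have h3 : (1 : A) ∈ maximalIdeal A := by
          have := (maximalIdeal A).sub_mem h2 h1
          rwa [sub_sub_cancel] at this
        exact (maximalIdeal.isMaximal A).ne_top ((Ideal.eq_top_iff_one _).mpr h3)
      have himg : (Ideal.span ((W.image g : Finset A) : Set A)).map
          (Ideal.Quotient.mk (Ideal.span {v})) = maximalIdeal (A ⧸ Ideal.span {v}) := by
        rw [Ideal.map_span, Finset.coe_image, Set.image_image]
        have : (fun x => Ideal.Quotient.mk (Ideal.span {v}) (g x)) = id := funext hg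
        rw [this, Set.image_id]
        exact hWs
      rw [← himg, Ideal.mem_map_iff_of_surjective _ hsurj] at hmka
      obtain ⟨s', hs', hs'a⟩ := hmka
      have h4 : a - s' ∈ Ideal.span {v} := by
        rw [← Ideal.Quotient.eq]
        exact hs'a.symm
      have : a = (a - s') + s' := by ring
      rw [this]
      exact Submodule.add_mem_sup h4 hs'
    · refine sup_le (Ideal.span_le.mpr (Set.singleton_subset_iff.mpr hv)) ?_
      rw [Ideal.span_le]
      intro s hs
      rw [Finset.coe_image] at hs
      obtain ⟨w, hw, rfl⟩ := hs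
      show g w ∈ maximalIdeal A
      rw [IsLocalRing.mem_maximalIdeal, mem_nonunits_iff]
      intro hu
      have h1 : IsUnit (Ideal.Quotient.mk (Ideal.span {v}) (g w)) := hu.map _
      rw [hg] at h1
      have h2 := hWm w hw
      rw [IsLocalRing.mem_maximalIdeal, mem_nonunits_iff] at h2
      exact h2 h1

theorem main (k : Type v) [Field k] [Algebra k A]
    (hk : Function.Surjective (IsLocalRing.residue A ∘ algebraMap k A))
    (G : Type w) [Group G] [MulSemiringAction G A]
    (hGk : ∀ (σ : G) (c : k), σ • algebraMap k A c = algebraMap k A c)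
    (hram : ∀ P : Ideal A, P.IsPrime → P ≠ maximalIdeal A → P.inertia G = ⊥)
    (v : A) (hv : v ∈ maximalIdeal A) (hv2 : v ∉ maximalIdeal A ^ 2)
    (σ : G) (hσ : σ ≠ 1) (hfix : σ • v = v) : False := by
  classical
  obtain ⟨S, hcard, hgen⟩ := exists_gens A v hv hv2
  have hsm : ∀ x ∈ maximalIdeal A, σ • x ∈ maximalIdeal A := by
    intro x hx
    rw [IsLocalRing.mem_maximalIdeal, mem_nonunits_iff] at hx ⊢
    intro hunit
    apply hx
    obtain ⟨y, hy⟩ := isUnit_iff_exists_inv.mp hunit
    refine isUnit_iff_exists_inv.mpr ⟨σ⁻¹ • y, ?_⟩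
    have h2 := congrArg (fun z => σ⁻¹ • z) hy
    simp only [smul_mul', inv_smul_smul, smul_one] at h2
    exact h2
  obtain ⟨Iσ, hIσ⟩ : ∃ I : Ideal A, I = Ideal.span (Set.range fun a : A => σ • a - a) :=
    ⟨_, rfl⟩
  obtain ⟨T, hT⟩ : ∃ T : Finset A, T = S.image (fun w => σ • w - w) := ⟨_, rfl⟩
  obtain ⟨J, hJ⟩ : ∃ J : Ideal A, J = Ideal.span (T : Set A) := ⟨_, rfl⟩
  have hmemI : ∀ a : A, σ • a - a ∈ Iσ := fun a => by
    rw [hIσ]; exact Ideal.subset_span ⟨a, rfl⟩
  have hSm : ∀ s ∈ S, s ∈ maximalIdeal A := fun s hs => by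
    rw [hgen]
    exact Submodule.mem_sup_right (Ideal.subset_span hs)
  have step1 : ∀ x ∈ maximalIdeal A, σ • x - x ∈ J ⊔ maximalIdeal A • Iσ := by
    intro x hx
    rw [hgen, ← Submodule.span_union] at hx
    have key : x ∈ maximalIdeal A ∧ σ • x - x ∈ J ⊔ maximalIdeal A • Iσ := by
      refine Submodule.span_induction
        (p := fun x _ => x ∈ maximalIdeal A ∧ σ • x - x ∈ J ⊔ maximalIdeal A • Iσ)
        ?_ ?_ ?_ ?_ hx
      · intro y hy
        rcases hy with hy | hy
        · rw [Set.mem_singleton_iff.mp hy]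
          refine ⟨hv, ?_⟩
          rw [hfix, sub_self]
          exact zero_mem _
        · refine ⟨hSm y hy, Submodule.mem_sup_left ?_⟩
          rw [hJ]
          refine Ideal.subset_span ?_
          rw [hT, Finset.coe_image]
          exact ⟨y, hy, rfl⟩
      · refine ⟨zero_mem _, ?_⟩
        rw [smul_zero, sub_zero]
        exact zero_mem _
      · intro y z _ _ hy hz
        refine ⟨add_mem hy.1 hz.1, ?_⟩
        have : σ • (y + z) - (y + z) = (σ • y - y) + (σ • z - z) := by
          rw [smul_add]; ring
        rw [this]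
        exact add_mem hy.2 hz.2
      · intro a y _ hy
        refine ⟨Ideal.mul_mem_left _ _ hy.1, ?_⟩
        have : σ • (a • y) - a • y = (σ • a) * (σ • y - y) + y • (σ • a - a) := by
          rw [smul_eq_mul, smul_eq_mul, smul_mul']; ring
        rw [this]
        refine add_mem (Ideal.mul_mem_left _ _ hy.2) (Submodule.mem_sup_right ?_)
        exact Submodule.smul_mem_smul hy.1 (hmemI a)
    exact key.2
  have step2 : Iσ ≤ J ⊔ maximalIdeal A • Iσ := by
    rw [hIσ, Ideal.span_le]
    rintro _ ⟨a, rfl⟩
    obtain ⟨c, hc⟩ := hk (IsLocalRing.residue A a)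
    have hx : a - algebraMap k A c ∈ maximalIdeal A := by
      rw [← IsLocalRing.residue_eq_zero_iff, map_sub, sub_eq_zero]
      exact hc.symm
    have h1 := step1 _ hx
    rw [smul_sub, hGk] at h1
    have e : σ • a - algebraMap k A c - (a - algebraMap k A c) = σ • a - a := by ring
    rw [e, hIσ] at h1
    exact h1
  have step3 : Iσ ≤ J := Submodule.le_of_le_smul_of_le_jacobson_bot
    (IsNoetherian.noetherian Iσ) (IsLocalRing.maximalIdeal_le_jacobson ⊥) step2
  have hJm : J ≤ maximalIdeal A := by
    rw [hJ, Ideal.span_le]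
    intro t ht
    rw [hT, Finset.coe_image] at ht
    obtain ⟨s, hs, rfl⟩ := ht
    exact (maximalIdeal A).sub_mem (hsm s (hSm s hs)) (hSm s hs)
  obtain ⟨P, hPmin, hPm⟩ := Ideal.exists_minimalPrimes_le hJm
  haveI hPprime : P.IsPrime := hPmin.1.1
  have hht : P.height ≤ (T.card : ℕ∞) := by
    rw [hJ] at hPmin
    exact Ideal.height_le_card_of_mem_minimalPrimes_span_finset hPmin
  have hTS : T.card ≤ S.card := by
    rw [hT]; exact Finset.card_image_le
  have hPne : P ≠ maximalIdeal A := by
    intro h
    rw [h] at hht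
    have h1 : ((S.card : ℕ∞) + 1) ≤ (S.card : ℕ∞) :=
      hcard.trans (hht.trans (by exact_mod_cast hTS))
    have h2 : S.card + 1 ≤ S.card := by exact_mod_cast h1
    omega
  have hin : σ ∈ P.inertia G := by
    intro x
    exact hPmin.1.2 (step3 (hmemI x))
  rw [hram P hPprime hPne, Subgroup.mem_bot] at hin
  exact hσ hin

end
end H15793

/-- Let `A` be a complete regular local ring of Krull dimension at least `2` and prime characteristic
`p`, with maximal ideal `m`; let `k` be a field with a ring map `k → A` whose composite with `A →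
A/m` is onto (a field of representatives); let `G` be a group of order `p` acting on `A` by ring
automorphisms that fix the image of `k`, ramified precisely at the origin: for every prime `P ≠ m`,
the inertia subgroup of `P` (the elements of `G` fixing every element of `A` modulo `P`) is trivial.
Then no element of `m` outside `m ^ 2` is fixed by every element of `G`; in particular the action is
not linear in any regular system of parameters. -/
theorem result
    (p : ℕ) [Fact p.Prime] (A : Type u) [CommRing A] [IsRegularLocalRing A] [CharP A p]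
    [IsAdicComplete (IsLocalRing.maximalIdeal A) A] (hdim : 2 ≤ ringKrullDim A)
    (k : Type v) [Field k] [Algebra k A]
    (hk : Function.Surjective (IsLocalRing.residue A ∘ algebraMap k A))
    (G : Type w) [Group G] [Finite G] [MulSemiringAction G A] (hcard : Nat.card G = p)
    (hGk : ∀ (σ : G) (c : k), σ • algebraMap k A c = algebraMap k A c)
    (hram : ∀ P : Ideal A, P.IsPrime → P ≠ IsLocalRing.maximalIdeal A → P.inertia G = ⊥)
    (v : A) (hv : v ∈ IsLocalRing.maximalIdeal A) (hv2 : v ∉ IsLocalRing.maximalIdeal A ^ 2) :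
    ∃ σ : G, σ • v ≠ v := by
  by_contra hcon
  push Not at hcon
  haveI : Nontrivial G := by
    rw [← Finite.one_lt_card_iff_nontrivial, hcard]
    exact (Fact.out : p.Prime).one_lt
  obtain ⟨σ, hσ⟩ := exists_ne (1 : G)
  exact H15793.main A k hk G hGk hram v hv hv2 σ hσ (hcon σ)

end Groth.Agent.S15793
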