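import Groth.Statements.S15794
import Groth.Agent.Lib.Helper19.WildA
import Groth.Agent.Lib.Helper9.RegLocal

set_option autoImplicit false
universe u v w
open WildQuot

namespace Groth.Agent.S15794

/-- Let `A` be a complete regular local ring of Krull dimension at least `2` and prime characteristic
`p`, with maximal ideal `m`; let `k` be a field with a ring map `k → A` whose composite with `A →
A/m` is onto; let `G` be a group of order `p` acting on `A` by ring automorphisms fixing the image
of `k` and ramified precisely at the origin (for every prime `P ≠ m`, the inertia subgroup of `P`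
(the elements of `G` fixing every element modulo `P`) is trivial). Then `A` is not a flat module
over the ring of invariants `A^G`. (The published statement also asserts that `A^G ⊂ A` is local and
finite of degree `p` with trivial residue field extension; this row omits those clauses.) -/
theorem result
    (p : ℕ) [Fact p.Prime] (A : Type u) [CommRing A] [IsRegularLocalRing A] [CharP A p]
    [IsAdicComplete (IsLocalRing.maximalIdeal A) A] (hdim : 2 ≤ ringKrullDim A)
    (k : Type v) [Field k] [Algebra k A]
    (hk : Function.Surjective (IsLocalRing.residue A ∘ algebraMap k A))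
    (G : Type w) [Group G] [Finite G] [MulSemiringAction G A] (hcard : Nat.card G = p)
    (hGk : ∀ (σ : G) (c : k), σ • algebraMap k A c = algebraMap k A c)
    (hram : ∀ P : Ideal A, P.IsPrime → P ≠ IsLocalRing.maximalIdeal A → P.inertia G = ⊥) :
    ¬ Module.Flat (FixedPoints.subring A G) A := by
  haveI : IsDomain A := Groth.Agent.Lib.Helper9.RegLocal.isDomain_of_isRegularLocalRing A
  haveI : Algebra.IsInvariant (FixedPoints.subring A G) A G := ⟨fun b hb => ⟨⟨b, hb⟩, rfl⟩⟩
  have hsmul_mem : ∀ (g : G) (x : A), x ∈ IsLocalRing.maximalIdeal A →
      g • x ∈ IsLocalRing.maximalIdeal A := by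
    intro g x hx
    rw [IsLocalRing.mem_maximalIdeal, mem_nonunits_iff] at hx ⊢
    intro hu
    apply hx
    have h1 := hu.map (MulSemiringAction.toRingHom G A g⁻¹)
    simpa using h1
  have htriv : ∀ (g : G) (a : A), g • a - a ∈ IsLocalRing.maximalIdeal A := by
    intro g a
    obtain ⟨c, hc⟩ := hk (IsLocalRing.residue A a)
    have h1 : a - algebraMap k A c ∈ IsLocalRing.maximalIdeal A := by
      rw [← IsLocalRing.residue_eq_zero_iff, map_sub, sub_eq_zero]
      exact hc.symm
    have h2 := hsmul_mem g _ h1
    rw [smul_sub, hGk] at h2
    have h3 := Ideal.sub_mem _ h2 h1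
    have h4 : g • a - algebraMap k A c - (a - algebraMap k A c) = g • a - a := by ring
    rwa [h4] at h3
  refine Groth.Agent.Lib.Helper19.Wild.not_flat_of_ramifiedAtOrigin
    (C := FixedPoints.subring A G) (G := G) ?_ hdim ?_ htriv hram
  · exact Subtype.val_injective
  · rw [← Finite.one_lt_card_iff_nontrivial, hcard]
    exact (Fact.out : p.Prime).one_lt

end Groth.Agent.S15794
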