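import Groth.Statements.S15796
-- import your own Groth.Agent.* helpers here
import Mathlib
import Groth.Agent.Lib.Helper23.KrullGen

set_option autoImplicit false
universe u v
open WildQuot

namespace Groth.Agent.S15796

/-- Let `A` be a Noetherian local ring of Krull dimension `n` whose maximal ideal `m` is generated by
`u_1, …, u_n`, and let a finite group `G` act on `A` by ring automorphisms. If some `σ ∈ G` maps
some `u_i` into the ideal generated by the `u_j` with `j ≠ i`, then the system `u` is not weakly
admissible: for some choice `σ_1, …, σ_n ∈ G` the radical of `(σ_1 u_1, …, σ_n u_n)` does not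
contain `m`. (The published statement is for a linear action on `k[[u_1, …, u_n]]` whose matrix has
a zero diagonal entry; this row assumes instead that some `σ u_i` lies in the ideal generated by the
other `u_j`.) -/
theorem result
    (A : Type u) [CommRing A] [IsLocalRing A] [IsNoetherianRing A]
    (G : Type v) [Group G] [Finite G] [MulSemiringAction G A]
    (n : ℕ) (hn : ringKrullDim A = n) (u : Fin n → A)
    (hu : Ideal.span (Set.range u) = IsLocalRing.maximalIdeal A)
    (σ : G) (i : Fin n) (hσ : σ • u i ∈ Ideal.span (u '' {j | j ≠ i})) :
    ∃ τ : Fin n → G,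
      ¬ IsLocalRing.maximalIdeal A ≤ (Ideal.span (Set.range fun j => τ j • u j)).radical := by
  classical
  refine ⟨Function.update (fun _ => (1 : G)) i σ, fun hrad => ?_⟩
  have hum : ∀ j, u j ∈ IsLocalRing.maximalIdeal A := fun j => by
    rw [← hu]
    exact Ideal.subset_span ⟨j, rfl⟩
  have hle : Ideal.span (Set.range fun j => (Function.update (fun _ => (1 : G)) i σ) j • u j)
      ≤ Ideal.span (((Finset.univ.erase i).image u : Finset A) : Set A) := by
    have hsub : u '' {j | j ≠ i} ⊆ (((Finset.univ.erase i).image u : Finset A) : Set A) := by
      rintro _ ⟨j, hj, rfl⟩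
      rw [Finset.mem_coe, Finset.mem_image]
      exact ⟨j, Finset.mem_erase.mpr ⟨hj, Finset.mem_univ _⟩, rfl⟩
    rw [Ideal.span_le]
    rintro _ ⟨j, rfl⟩
    by_cases hj : j = i
    · subst hj
      simp only [Function.update_self]
      exact Ideal.span_mono hsub hσ
    · simp only [Function.update_of_ne hj, one_smul]
      exact Ideal.subset_span (hsub ⟨j, hj, rfl⟩)
  have hcard := Groth.Agent.Lib.Helper23.KrullGen.le_card_of_maximalIdeal_le_radical n hn
    ((Finset.univ.erase i).image u)
    (fun x hx => by
      obtain ⟨j, -, rfl⟩ := Finset.mem_image.mp hx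
      exact hum j)
    (hrad.trans (Ideal.radical_mono hle))
  have h2 : ((Finset.univ.erase i).image u).card ≤ n - 1 := by
    refine Finset.card_image_le.trans ?_
    rw [Finset.card_erase_of_mem (Finset.mem_univ _), Finset.card_univ, Fintype.card_fin]
  have h3 : 0 < n := Fin.pos i
  omega

end Groth.Agent.S15796
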