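import Groth.Statements.S15797
import Mathlib
import Groth.Agent.Lib.Helper4.Unmixed
import Groth.Agent.S0616

set_option autoImplicit false
universe u v
open WildQuot

namespace Groth.Agent.S15797


namespace H15797
open IsLocalRing RingTheory.Sequence

section
variable (A : Type u) [CommRing A] [IsRegularLocalRing A]

theorem add_len (J : Ideal A) (c b : A)
    (hb : Ideal.Quotient.mk J b ∈ nonZeroDivisors (A ⧸ J)) :
    Module.length A (A ⧸ (J ⊔ Ideal.span {c * b})) =
      Module.length A (A ⧸ (J ⊔ Ideal.span {c})) +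
        Module.length A (A ⧸ (J ⊔ Ideal.span {b})) := by
  have key := Ring.ord_mul (A ⧸ J) (a := Ideal.Quotient.mk J c) hb
  rw [← map_mul, Groth.Agent.S0616.H0616.ord_eq, Groth.Agent.S0616.H0616.ord_eq,
    Groth.Agent.S0616.H0616.ord_eq] at key
  exact key

theorem nzd_of_reg (J : Ideal A) (b : A)
    (h : IsSMulRegular (A ⧸ (J • (⊤ : Submodule A A))) b) :
    Ideal.Quotient.mk J b ∈ nonZeroDivisors (A ⧸ J) := by
  have hJ : J • (⊤ : Submodule A A) = J := by rw [smul_eq_mul, Ideal.mul_top]
  rw [mem_nonZeroDivisors_iff_right]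
  intro y hy
  obtain ⟨a, rfl⟩ := Ideal.Quotient.mk_surjective y
  rw [← map_mul, Ideal.Quotient.eq_zero_iff_mem] at hy
  have h0 : (Submodule.Quotient.mk a : A ⧸ (J • (⊤ : Submodule A A))) = 0 := by
    apply h
    show b • (Submodule.Quotient.mk a : A ⧸ (J • (⊤ : Submodule A A))) = b • 0
    rw [smul_zero, ← Submodule.Quotient.mk_smul, Submodule.Quotient.mk_eq_zero, hJ, smul_eq_mul,
      mul_comm]
    exact hy
  rw [Submodule.Quotient.mk_eq_zero, hJ] at h0
  exact Ideal.Quotient.eq_zero_iff_mem.mpr h0

theorem ofList_insert (cs rest : List A) (z : A) :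
    Ideal.ofList (cs ++ z :: rest) = Ideal.ofList (cs ++ rest) ⊔ Ideal.span {z} := by
  rw [Ideal.ofList_append, Ideal.ofList_cons, Ideal.ofList_append]
  apply le_antisymm
  · refine sup_le (le_sup_of_le_left le_sup_left) (sup_le le_sup_right
      (le_sup_of_le_left le_sup_right))
  · refine sup_le (sup_le le_sup_left (le_sup_of_le_right le_sup_right))
      (le_sup_of_le_right le_sup_left)

theorem one_le_len (xs : List A) (hxs : ∀ x ∈ xs, x ∈ maximalIdeal A) :
    1 ≤ Module.length A (A ⧸ Ideal.ofList xs) := by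
  have hle : Ideal.ofList xs ≤ maximalIdeal A := by
    change Ideal.span {x | x ∈ xs} ≤ _
    exact Ideal.span_le.2 (fun x hx => hxs x hx)
  have hne : Ideal.ofList xs ≠ ⊤ := fun h =>
    (IsLocalRing.maximalIdeal.isMaximal A).ne_top (top_le_iff.1 (h ▸ hle))
  haveI : Nontrivial (A ⧸ Ideal.ofList xs) := Ideal.Quotient.nontrivial_iff.mpr hne
  exact Order.one_le_iff_pos.mpr Module.length_pos

theorem prime_list (P : Ideal A) (hP : P.IsPrime) :
    ∀ ℓ : List A, ℓ.prod ∈ P → ∃ x ∈ ℓ, x ∈ P := by
  intro ℓ
  induction ℓ with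
  | nil =>
    intro h
    rw [List.prod_nil] at h
    exact absurd ((Ideal.eq_top_iff_one P).mpr h) hP.ne_top
  | cons c ℓ ih =>
    intro h
    rw [List.prod_cons] at h
    rcases hP.mem_or_mem h with h1 | h1
    · exact ⟨c, List.mem_cons_self, h1⟩
    · obtain ⟨x, hx, hxP⟩ := ih h1
      exact ⟨x, List.mem_cons_of_mem _ hx, hxP⟩

theorem prod_mem_max (ℓ : List A) (hne : ℓ ≠ []) (h : ∀ x ∈ ℓ, x ∈ maximalIdeal A) :
    ℓ.prod ∈ maximalIdeal A := by
  cases ℓ with
  | nil => exact absurd rfl hne
  | cons c ℓ' =>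
    rw [List.prod_cons]
    exact Ideal.mul_mem_right _ _ (h c List.mem_cons_self)

theorem reg_of_prime_cond (n : ℕ) (hn : ringKrullDim A = n) (xs : List A) (hlen : xs.length = n)
    (hxs : ∀ x ∈ xs, x ∈ maximalIdeal A)
    (hP : ∀ P : Ideal A, P.IsPrime → (∀ x ∈ xs, x ∈ P) → maximalIdeal A ≤ P) :
    IsWeaklyRegular A xs := by
  refine (Groth.Agent.Lib.Helper4.Unmixed.unmixed_local A xs hxs ?_).1
  have hm : (maximalIdeal A).height = (n : ℕ∞) := by
    have h := IsLocalRing.maximalIdeal_height_eq_ringKrullDim (R := A)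
    rw [hn] at h
    exact_mod_cast h
  rw [Ideal.height_eq_inf_minimalPrimes, hlen]
  refine le_iInf₂ fun P hPmin => ?_
  haveI : P.IsPrime := hPmin.1.1
  have hle : Ideal.ofList xs ≤ P := hPmin.1.2
  have hmP : maximalIdeal A ≤ P :=
    hP P inferInstance (fun x hx => hle (Ideal.subset_span hx))
  have hPm : P = maximalIdeal A := le_antisymm (IsLocalRing.le_maximalIdeal_of_isPrime P) hmP
  rw [hPm, hm]

theorem key (n : ℕ) (hn : ringKrullDim A = n) :
    ∀ (L : List (List A)) (cs : List A), cs.length + L.length = n →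
      (∀ x ∈ cs, x ∈ maximalIdeal A) → (∀ ℓ ∈ L, ∀ x ∈ ℓ, x ∈ maximalIdeal A) →
      (∀ ℓ ∈ L, ℓ ≠ []) →
      (∀ P : Ideal A, P.IsPrime → (∀ x ∈ cs, x ∈ P) → (∀ ℓ ∈ L, ∃ x ∈ ℓ, x ∈ P) →
        maximalIdeal A ≤ P) →
      (((L.map List.length).prod : ℕ) : ℕ∞) ≤
        Module.length A (A ⧸ Ideal.ofList (cs ++ L.map List.prod)) := by
  intro L
  induction L with
  | nil =>
    intro cs _ hcs _ _ _
    rw [List.map_nil, List.map_nil, List.prod_nil, List.append_nil, Nat.cast_one]
    exact one_le_len A cs hcs
  | cons ℓ L' ihL =>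
    induction ℓ with
    | nil =>
      intro cs _ _ _ hne _
      exact absurd rfl (hne [] List.mem_cons_self)
    | cons c ℓ' ihℓ =>
      intro cs hlen hcs hL hne hP
      have hlen' : cs.length + (L'.length + 1) = n := by
        rw [List.length_cons] at hlen
        exact hlen
      have hcm : c ∈ maximalIdeal A := hL _ List.mem_cons_self c List.mem_cons_self
      have hL' : ∀ ℓ ∈ L', ∀ x ∈ ℓ, x ∈ maximalIdeal A :=
        fun ℓ hℓ => hL ℓ (List.mem_cons_of_mem _ hℓ)
      have hne' : ∀ ℓ ∈ L', ℓ ≠ [] := fun ℓ hℓ => hne ℓ (List.mem_cons_of_mem _ hℓ)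
      have hℓ'm : ∀ x ∈ ℓ', x ∈ maximalIdeal A := fun x hx =>
        hL _ List.mem_cons_self x (List.mem_cons_of_mem _ hx)
      -- the single-factor bound
      have hS : (((L'.map List.length).prod : ℕ) : ℕ∞) ≤
          Module.length A (A ⧸ Ideal.ofList (cs ++ c :: L'.map List.prod)) := by
        have h1 := ihL (cs ++ [c])
          (by rw [List.length_append, List.length_singleton]; omega)
          (fun x hx => by
            rcases List.mem_append.mp hx with h | h
            · exact hcs x h
            · rw [List.mem_singleton.mp h]; exact hcm) hL' hne'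
          (fun P hPp hcsP hLP => hP P hPp (fun x hx => hcsP x (List.mem_append_left _ hx))
            (fun ℓ hℓ => by
              rcases List.mem_cons.mp hℓ with h | h
              · rw [h]
                exact ⟨c, List.mem_cons_self,
                  hcsP c (List.mem_append_right _ (List.mem_singleton.mpr rfl))⟩
              · exact hLP ℓ h))
        rw [List.append_assoc, List.singleton_append] at h1
        exact h1
      rw [List.map_cons, List.map_cons, List.prod_cons, List.prod_cons, List.length_cons]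
      by_cases hnil : ℓ' = []
      · subst hnil
        rw [List.length_nil, List.prod_nil, mul_one, zero_add, one_mul]
        exact hS
      · have hbm : ℓ'.prod ∈ maximalIdeal A := prod_mem_max A ℓ' hnil hℓ'm
        have hP2 : ∀ P : Ideal A, P.IsPrime → (∀ x ∈ cs, x ∈ P) →
            (∀ ℓ ∈ ℓ' :: L', ∃ x ∈ ℓ, x ∈ P) → maximalIdeal A ≤ P :=
          fun P hPp hcsP hLP => hP P hPp hcsP (fun ℓ hℓ => by
            rcases List.mem_cons.mp hℓ with h | h
            · obtain ⟨x, hx, hxP⟩ := hLP ℓ' List.mem_cons_self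
              rw [h]
              exact ⟨x, List.mem_cons_of_mem _ hx, hxP⟩
            · exact hLP ℓ (List.mem_cons_of_mem _ h))
        have hI := ihℓ cs (by rw [List.length_cons]; exact hlen') hcs
          (fun ℓ hℓ => by
            rcases List.mem_cons.mp hℓ with h | h
            · rw [h]; exact hℓ'm
            · exact hL' ℓ h)
          (fun ℓ hℓ => by
            rcases List.mem_cons.mp hℓ with h | h
            · rw [h]; exact hnil
            · exact hne' ℓ h) hP2
        rw [List.map_cons, List.map_cons, List.prod_cons] at hI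
        have hreg : IsWeaklyRegular A ((cs ++ L'.map List.prod) ++ [ℓ'.prod]) := by
          refine reg_of_prime_cond A n hn _ ?_ ?_ ?_
          · rw [List.length_append, List.length_append, List.length_singleton, List.length_map]
            omega
          · intro x hx
            rcases List.mem_append.mp hx with h | h
            · rcases List.mem_append.mp h with h | h
              · exact hcs x h
              · obtain ⟨ℓ, hℓ, rfl⟩ := List.mem_map.mp h
                exact prod_mem_max A ℓ (hne' ℓ hℓ) (hL' ℓ hℓ)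
            · rw [List.mem_singleton.mp h]; exact hbm
          · intro P hPp hxsP
            refine hP P hPp (fun x hx =>
              hxsP x (List.mem_append_left _ (List.mem_append_left _ hx))) (fun ℓ hℓ => ?_)
            rcases List.mem_cons.mp hℓ with h | h
            · have hb : ℓ'.prod ∈ P :=
                hxsP _ (List.mem_append_right _ (List.mem_singleton.mpr rfl))
              obtain ⟨x, hx, hxP⟩ := prime_list A P hPp ℓ' hb
              rw [h]
              exact ⟨x, List.mem_cons_of_mem _ hx, hxP⟩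
            · have hb : ℓ.prod ∈ P :=
                hxsP _ (List.mem_append_left _ (List.mem_append_right _
                  (List.mem_map.mpr ⟨ℓ, h, rfl⟩)))
              exact prime_list A P hPp ℓ hb
        have hb : Ideal.Quotient.mk (Ideal.ofList (cs ++ L'.map List.prod)) ℓ'.prod ∈
            nonZeroDivisors (A ⧸ Ideal.ofList (cs ++ L'.map List.prod)) := by
          have h1 := ((isWeaklyRegular_append_iff A (cs ++ L'.map List.prod) [ℓ'.prod]).mp hreg).2
          exact nzd_of_reg A _ _ ((isWeaklyRegular_singleton_iff _ _).mp h1)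
        have hadd := add_len A (Ideal.ofList (cs ++ L'.map List.prod)) c ℓ'.prod hb
        rw [← ofList_insert A cs (L'.map List.prod) (c * ℓ'.prod),
          ← ofList_insert A cs (L'.map List.prod) c,
          ← ofList_insert A cs (L'.map List.prod) ℓ'.prod] at hadd
        rw [hadd]
        have hcast : (((ℓ'.length + 1) * (L'.map List.length).prod : ℕ) : ℕ∞) =
            (((L'.map List.length).prod : ℕ) : ℕ∞) +
              ((ℓ'.length * (L'.map List.length).prod : ℕ) : ℕ∞) := by
          push_cast
          ring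
        rw [hcast]
        exact add_le_add hS hI

theorem main (G : Type v) [Group G] [Fintype G] [MulSemiringAction G A]
    (n : ℕ) (hn : ringKrullDim A = n) (u : Fin n → A)
    (hu : Ideal.span (Set.range u) = maximalIdeal A)
    (hwa : ∀ τ : Fin n → G,
      maximalIdeal A ≤ (Ideal.span (Set.range fun i => τ i • u i)).radical) :
    ((Fintype.card G ^ n : ℕ) : ℕ∞) ≤
      Module.length A (A ⧸ Ideal.span (Set.range fun i => ∏ σ : G, σ • u i)) := by
  classical
  obtain ⟨L, hLdef⟩ : ∃ L : List (List A), L = List.ofFn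
      (fun i : Fin n => (Finset.univ : Finset G).toList.map (fun σ => σ • u i)) := ⟨_, rfl⟩
  have hmemL : ∀ ℓ ∈ L, ∃ i : Fin n,
      ℓ = (Finset.univ : Finset G).toList.map (fun σ => σ • u i) := by
    intro ℓ hℓ
    rw [hLdef, List.mem_ofFn] at hℓ
    obtain ⟨i, rfl⟩ := hℓ
    exact ⟨i, rfl⟩
  have hLmem : ∀ i : Fin n,
      (Finset.univ : Finset G).toList.map (fun σ => σ • u i) ∈ L := by
    intro i
    rw [hLdef, List.mem_ofFn]
    exact ⟨i, rfl⟩
  have hsmul_mem : ∀ (σ : G) (x : A), x ∈ maximalIdeal A → σ • x ∈ maximalIdeal A := by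
    intro σ x hx
    rw [IsLocalRing.mem_maximalIdeal, mem_nonunits_iff] at hx ⊢
    intro hunit
    apply hx
    obtain ⟨y, hy⟩ := isUnit_iff_exists_inv.mp hunit
    refine isUnit_iff_exists_inv.mpr ⟨σ⁻¹ • y, ?_⟩
    have h2 := congrArg (fun z => σ⁻¹ • z) hy
    simp only [smul_mul', inv_smul_smul, smul_one] at h2
    exact h2
  have hum : ∀ i, u i ∈ maximalIdeal A := fun i => hu ▸ Ideal.subset_span ⟨i, rfl⟩
  have h1 : ([] : List A).length + L.length = n := by
    rw [hLdef, List.length_nil, zero_add, List.length_ofFn]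
  have h2 : ∀ x ∈ ([] : List A), x ∈ maximalIdeal A := fun x hx => absurd hx List.not_mem_nil
  have h3 : ∀ ℓ ∈ L, ∀ x ∈ ℓ, x ∈ maximalIdeal A := by
    intro ℓ hℓ x hx
    obtain ⟨i, rfl⟩ := hmemL ℓ hℓ
    obtain ⟨σ, -, rfl⟩ := List.mem_map.mp hx
    exact hsmul_mem σ (u i) (hum i)
  have h4 : ∀ ℓ ∈ L, ℓ ≠ [] := by
    intro ℓ hℓ h
    obtain ⟨i, rfl⟩ := hmemL ℓ hℓ
    rw [List.map_eq_nil_iff, Finset.toList_eq_nil] at h
    exact Finset.univ_nonempty.ne_empty h
  have h5 : ∀ P : Ideal A, P.IsPrime → (∀ x ∈ ([] : List A), x ∈ P) →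
      (∀ ℓ ∈ L, ∃ x ∈ ℓ, x ∈ P) → maximalIdeal A ≤ P := by
    intro P hPp _ hLP
    have hex : ∀ i : Fin n, ∃ σ : G, σ • u i ∈ P := by
      intro i
      obtain ⟨x, hx, hxP⟩ := hLP _ (hLmem i)
      obtain ⟨σ, -, rfl⟩ := List.mem_map.mp hx
      exact ⟨σ, hxP⟩
    choose τ hτ using hex
    refine (hwa τ).trans ((Ideal.IsPrime.radical_le_iff hPp).mpr ?_)
    rw [Ideal.span_le]
    rintro _ ⟨i, rfl⟩
    exact hτ i
  have hkey := key A n hn L [] h1 h2 h3 h4 h5
  have e1 : (L.map List.length).prod = Fintype.card G ^ n := by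
    rw [hLdef, List.map_ofFn, List.prod_ofFn]
    simp
  have e2 : Ideal.ofList ([] ++ L.map List.prod) =
      Ideal.span (Set.range fun i => ∏ σ : G, σ • u i) := by
    rw [List.nil_append, hLdef, List.map_ofFn]
    have hfun : (List.prod ∘ fun i : Fin n =>
        (Finset.univ : Finset G).toList.map (fun σ => σ • u i)) =
        fun i => ∏ σ : G, σ • u i := by
      funext i
      exact Finset.prod_map_toList _ _
    rw [hfun]
    show Ideal.span {x | x ∈ List.ofFn _} = _
    congr 1
    ext x
    simp only [Set.mem_setOf_eq, List.mem_ofFn, Set.mem_range]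
  rw [e1, e2] at hkey
  exact hkey

end
end H15797

/-- Let `A` be a regular local ring of Krull dimension `n` with maximal ideal `m` generated by `u_1, …,
u_n`, let a finite group `G` of order `g` act on `A` by ring automorphisms, and suppose `u` is
weakly admissible: for every choice `σ_1, …, σ_n ∈ G` the radical of `(σ_1 u_1, …, σ_n u_n)`
contains `m`. With `x_i = ∏_{σ ∈ G} σ u_i` the norms, the length of `A / (x_1, …, x_n)` is at least
`g ^ n` (so the finite flat map from `k[[x_1, …, x_n]]` has degree at least `g ^ n`). (The published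
statement is for a complete regular local ring containing a `G`-fixed field of representatives; this
row does not assume those.) -/
theorem result
    (A : Type u) [CommRing A] [IsRegularLocalRing A]
    (G : Type v) [Group G] [Fintype G] [MulSemiringAction G A]
    (n : ℕ) (hn : ringKrullDim A = n) (u : Fin n → A)
    (hu : Ideal.span (Set.range u) = IsLocalRing.maximalIdeal A)
    (hwa : ∀ τ : Fin n → G,
      IsLocalRing.maximalIdeal A ≤ (Ideal.span (Set.range fun i => τ i • u i)).radical) :
    ((Fintype.card G ^ n : ℕ) : ℕ∞) ≤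
      Module.length A (A ⧸ Ideal.span (Set.range fun i => ∏ σ : G, σ • u i)) := by
  exact H15797.main A G n hn u hu hwa

end Groth.Agent.S15797
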