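import Groth.Statements.S15811
-- import your own Groth.Agent.* helpers here
import Mathlib

set_option autoImplicit false
universe u
open WildQuot

namespace Groth.Agent.S15811

open Polynomial in
theorem aux_split (p : ℕ) [Fact p.Prime] (K : Type*) [Field K] [CharP K p] (c : K) (hc : c ≠ 0) :
    (X ^ p - C (c ^ (p - 1)) * X : K[X]).Splits := by
  have hp : p.Prime := Fact.out
  have hsplitZ : (X ^ p - X : (ZMod p)[X]).Splits := by
    rw [splits_iff_card_roots, FiniteField.X_pow_card_sub_X_natDegree_eq (ZMod p) hp.one_lt]
    have h1 := FiniteField.roots_X_pow_card_sub_X (ZMod p)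
    rw [ZMod.card] at h1
    rw [h1]
    show Finset.univ.card = p
    rw [Finset.card_univ, ZMod.card]
  have hK := hsplitZ.map (ZMod.castHom (dvd_refl p) K)
  rw [Polynomial.map_sub, Polynomial.map_pow, Polynomial.map_X] at hK
  have hcomp := (hK.comp_of_degree_le_one (g := C c⁻¹ * X) (degree_C_mul_X_le _)).C_mul (c ^ p)
  have e1 : c ^ p * (c⁻¹) ^ p = 1 := by rw [← mul_pow, mul_inv_cancel₀ hc, one_pow]
  have e2 : c ^ p * c⁻¹ = c ^ (p - 1) := by
    obtain ⟨k, hk⟩ : ∃ k, p = k + 1 := ⟨p - 1, by have := hp.two_le; omega⟩
    rw [hk, pow_succ, mul_assoc, mul_inv_cancel₀ hc, mul_one, Nat.add_sub_cancel]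
  convert hcomp using 1
  rw [sub_comp, X_pow_comp, X_comp, mul_pow, mul_sub, ← mul_assoc, ← mul_assoc, ← C_pow, ← C_mul,
    ← C_mul, e1, e2, C_1, one_mul]

/-- Let `R` be an integrally closed domain of prime characteristic `p` with fraction field `K`, and `α ∈
R`. Then `α ≠ 0` and the polynomial `T ^ p - α T` splits into linear factors over `K` — which says
that the finite flat group scheme `Spec R[T]/(T ^ p - α T)` of order `p` has constant generic fibre
(its `p` roots are then distinct) — if and only if `α = a ^ (p-1)` for some nonzero `a ∈ R`. (The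
published statement is that the generic fibre of the finite flat group scheme of order `p` with
parameters `α, β` satisfying `α β = 0`, whose underlying scheme is `Spec R[T]/(T ^ p - α T)`, is
constant if and only if `β = 0` and `α` is the `(p-1)`-th power of a nonzero element of `R`; this
row states the polynomial condition, in which `α ≠ 0` already forces `β = 0` over a domain.) -/
theorem result
    (p : ℕ) [Fact p.Prime] (R : Type u) [CommRing R] [IsDomain R] [IsIntegrallyClosed R]
    [CharP R p] (α : R) :
    (α ≠ 0 ∧ (Polynomial.map (algebraMap R (FractionRing R))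
        (Polynomial.X ^ p - Polynomial.C α * Polynomial.X)).Splits) ↔
      ∃ a : R, a ≠ 0 ∧ α = a ^ (p - 1) := by
  have hp : p.Prime := Fact.out
  have hinj : Function.Injective (algebraMap R (FractionRing R)) := IsFractionRing.injective R _
  haveI : CharP (FractionRing R) p := charP_of_injective_algebraMap hinj p
  have hmap : Polynomial.map (algebraMap R (FractionRing R))
        (Polynomial.X ^ p - Polynomial.C α * Polynomial.X)
      = Polynomial.X ^ p - Polynomial.C (algebraMap R (FractionRing R) α) * Polynomial.X := by
    rw [Polynomial.map_sub, Polynomial.map_pow, Polynomial.map_mul, Polynomial.map_X,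
      Polynomial.map_C]
  rw [hmap]
  have hp1 : p - 1 ≠ 0 := by
    have := hp.two_le
    omega
  constructor
  · rintro ⟨hα, hs⟩
    have hfac : (Polynomial.X ^ p - Polynomial.C (algebraMap R (FractionRing R) α) * Polynomial.X :
          Polynomial (FractionRing R))
        = Polynomial.X * (Polynomial.X ^ (p - 1)
            - Polynomial.C (algebraMap R (FractionRing R) α)) := by
      obtain ⟨k, hk⟩ : ∃ k, p = k + 1 := ⟨p - 1, by omega⟩
      rw [hk, Nat.add_sub_cancel, pow_succ]
      ring
    rw [hfac] at hs
    have hg := hs.of_X_mul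
    obtain ⟨b, hb⟩ := hg.exists_eval_eq_zero (by
      rw [Polynomial.degree_X_pow_sub_C (Nat.pos_of_ne_zero hp1)]
      exact_mod_cast hp1)
    rw [Polynomial.eval_sub, Polynomial.eval_pow, Polynomial.eval_X, Polynomial.eval_C,
      sub_eq_zero] at hb
    have hint : IsIntegral R b := ⟨Polynomial.X ^ (p - 1) - Polynomial.C α,
      Polynomial.monic_X_pow_sub_C _ hp1, by
        rw [Polynomial.eval₂_sub, Polynomial.eval₂_pow, Polynomial.eval₂_X, Polynomial.eval₂_C,
          hb, sub_self]⟩
    obtain ⟨a, rfl⟩ := IsIntegrallyClosed.algebraMap_eq_of_integral hint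
    rw [← map_pow] at hb
    have hαa : α = a ^ (p - 1) := (hinj hb).symm
    refine ⟨a, ?_, hαa⟩
    rintro rfl
    rw [zero_pow hp1] at hαa
    exact hα hαa
  · rintro ⟨a, ha, rfl⟩
    refine ⟨pow_ne_zero _ ha, ?_⟩
    rw [map_pow]
    exact aux_split p (FractionRing R) _ (fun h => ha (hinj (by rw [h, map_zero])))

end Groth.Agent.S15811
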