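import Groth.Statements.S15813
import Groth.Agent.Lib.Helper27.ASC
open Groth.Agent.Lib.Helper27

set_option autoImplicit false
universe u
open WildQuot

namespace Groth.Agent.S15813

/-- Let `k` be a field of characteristic `p > 0`, `A = k[[u]]`, and `σ` a `k`-algebra automorphism of
`A` of order exactly `p`, with ramification break `m`: `σ u - u` has order `m + 1`. Let `x = ∏_{i <
p} σ^i u` be the norm of `u`, let `f ∈ A` be `σ`-invariant with nonzero constant term (a unit of the
invariant ring `k[[x]]`), let `μ > 0` be prime to `p`, and let `z ∈ Frac(A)` satisfy the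
Artin–Schreier equation `z ^ p - z = f / x ^ μ`. Then `μ = m`. (The published statement also records
that `Frac(A) = Frac(A^σ)(z)`; that follows from the equation since `p` does not divide `μ`, so it
is not repeated as a hypothesis.) -/
theorem result
    (p : ℕ) [Fact p.Prime] (k : Type u) [Field k] [CharP k p]
    (σ : PowerSeries k ≃ₐ[k] PowerSeries k) (hσp : σ ^ p = 1) (hσ1 : σ ≠ 1)
    (m : ℕ) (hm : (σ PowerSeries.X - PowerSeries.X).order = ((m + 1 : ℕ) : ℕ∞))
    (f : PowerSeries k) (hfσ : σ f = f) (hf0 : PowerSeries.constantCoeff f ≠ 0)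
    (μ : ℕ) (hμ : 0 < μ) (hpμ : ¬ p ∣ μ)
    (z : FractionRing (PowerSeries k))
    (hz : z ^ p - z = algebraMap (PowerSeries k) (FractionRing (PowerSeries k)) f /
      algebraMap (PowerSeries k) (FractionRing (PowerSeries k))
        (∏ i ∈ Finset.range p, (σ ^ i) PowerSeries.X) ^ μ) :
    μ = m := by
  classical
  have hp : p.Prime := Fact.out
  haveI : CharP (PowerSeries k) p :=
    charP_of_injective_algebraMap (algebraMap k (PowerSeries k)).injective p
  -- the break datum
  have hD0 : σ PowerSeries.X - PowerSeries.X ≠ 0 := by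
    intro h0
    rw [h0, PowerSeries.order_zero] at hm
    exact absurd hm (ENat.top_ne_coe _)
  have hDn : (σ PowerSeries.X - PowerSeries.X).order.toNat = m + 1 := by
    rw [hm, ENat.toNat_coe]
  obtain ⟨g', hg'0, hDg⟩ : ∃ g' : PowerSeries k, PowerSeries.constantCoeff g' ≠ 0 ∧
      σ PowerSeries.X - PowerSeries.X = PowerSeries.X ^ (m + 1) * g' := by
    refine ⟨PowerSeries.divXPowOrder (σ PowerSeries.X - PowerSeries.X), ?_, ?_⟩
    · rw [PowerSeries.constantCoeff_divXPowOrder]
      exact PowerSeries.coeff_order hD0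
    · rw [← hDn]
      exact PowerSeries.X_pow_order_mul_divXPowOrder.symm
  obtain ⟨G, hGdef⟩ : ∃ G : PowerSeries k, G = 1 + PowerSeries.X ^ m * g' := ⟨_, rfl⟩
  have hG : σ PowerSeries.X = PowerSeries.X * G := by
    rw [hGdef]
    linear_combination hDg
  have ha : PowerSeries.constantCoeff G = 1 := by
    have h1 := ASC.constCoeff_pow_eq_one σ hG hσp
    have h2 : (PowerSeries.constantCoeff G - 1) ^ p = 0 := by
      rw [sub_pow_char, h1, one_pow, sub_self]
    exact sub_eq_zero.mp ((pow_eq_zero_iff hp.ne_zero).mp h2)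
  have hGu : IsUnit G := PowerSeries.isUnit_iff_constantCoeff.mpr (by rw [ha]; exact isUnit_one)
  have hG1 : G - 1 = PowerSeries.X ^ m * g' := by rw [hGdef]; ring
  -- the norm of `u`
  obtain ⟨x, hxdef⟩ : ∃ x : PowerSeries k,
      x = ∏ i ∈ Finset.range p, (σ ^ i) PowerSeries.X := ⟨_, rfl⟩
  rw [← hxdef] at hz
  obtain ⟨e, he, hx⟩ := ASC.prod_eq σ hG hGu p
  rw [← hxdef] at hx
  have hσx : σ x = x := by rw [hxdef]; exact ASC.sigma_prod σ hσp
  -- the fraction field
  obtain ⟨σ', hσ'⟩ : ∃ σ' : FractionRing (PowerSeries k) ≃+* FractionRing (PowerSeries k),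
      ∀ h : PowerSeries k, σ' (algebraMap _ _ h) = algebraMap _ _ (σ h) :=
    ⟨IsFractionRing.ringEquivOfRingEquiv (σ : PowerSeries k ≃+* PowerSeries k),
      fun h => IsFractionRing.ringEquivOfRingEquiv_algebraMap _ h⟩
  obtain ⟨v, hv1, hvX⟩ : ∃ v : Valuation (FractionRing (PowerSeries k)) (WithZero (Multiplicative ℤ)),
      (∀ h : PowerSeries k, v (algebraMap _ _ h) ≤ 1) ∧
        v (algebraMap _ _ (PowerSeries.X : PowerSeries k)) = WithZero.exp (-1 : ℤ) :=
    ⟨(PowerSeries.idealX k).valuation _,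
      fun h => IsDedekindDomain.HeightOneSpectrum.valuation_le_one _ h,
      by rw [IsDedekindDomain.HeightOneSpectrum.valuation_of_algebraMap, PowerSeries.intValuation_X]⟩
  have hfu : IsUnit f := PowerSeries.isUnit_iff_constantCoeff.mpr (isUnit_iff_ne_zero.mpr hf0)
  have hvx : v (algebraMap _ _ x) = WithZero.exp (-(p : ℤ)) := by
    rw [hx, map_mul, map_pow, map_mul, map_pow, hvX, ASC.val_unit v hv1 he, mul_one,
      ← WithZero.exp_nsmul]
    congr 1
    simp
  have hvr : v (algebraMap _ _ f / algebraMap _ _ x ^ μ) = WithZero.exp ((μ : ℤ) * p) := by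
    rw [map_div₀, map_pow, hvx, ASC.val_unit v hv1 hfu, ← WithZero.exp_nsmul, one_div,
      ← WithZero.exp_neg]
    congr 1
    rw [nsmul_eq_mul]
    ring
  have hpos : (0 : ℤ) < (μ : ℤ) * p :=
    mul_pos (by exact_mod_cast hμ) (by exact_mod_cast hp.pos)
  have hz1 : 1 < v z := by
    by_contra hcon
    rw [not_lt] at hcon
    have h1 : v (z ^ p - z) ≤ 1 :=
      (Valuation.map_sub _ _ _).trans
        (max_le (by rw [map_pow]; exact pow_le_one' hcon p) hcon)
    rw [hz, hvr, ← WithZero.exp_zero, WithZero.exp_le_exp] at h1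
    omega
  have hz2 : v (z ^ p - z) = v z ^ p := by
    rw [Valuation.map_sub_eq_of_lt_left, map_pow]
    rw [map_pow]
    exact lt_self_pow₀ hz1 hp.one_lt
  have hne : v z ≠ 0 := (zero_lt_one.trans hz1).ne'
  have hz0 : z ≠ 0 := by
    rintro rfl
    exact hne (map_zero v)
  have hvz : v z = WithZero.exp (μ : ℤ) := by
    rw [hz, hvr, ← WithZero.exp_log hne, ← WithZero.exp_nsmul, WithZero.exp_inj,
      nsmul_eq_mul] at hz2
    rw [← WithZero.exp_log hne, WithZero.exp_inj]
    have hp0 : (p : ℤ) ≠ 0 := by exact_mod_cast hp.ne_zero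
    have h3 : (p : ℤ) * (WithZero.log (v z) - μ) = 0 := by
      rw [mul_sub, ← hz2]
      ring
    rcases mul_eq_zero.mp h3 with h | h
    · exact absurd h hp0
    · linarith
  obtain ⟨w, hw, hzw⟩ := ASC.exists_unit_rep v hv1 hvX hz0 hvz
  -- `c = σ z - z` satisfies `c ^ p = c`
  have hc : (σ' z - z) ^ p = σ' z - z := by
    have h1 : σ' (z ^ p - z) = z ^ p - z := by
      rw [hz, map_div₀, map_pow, hσ', hσ', hfσ, hσx]
    rw [sub_pow_char, ← map_pow]
    rw [map_sub] at h1
    linear_combination h1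
  -- the key identity
  obtain ⟨q, r, e1⟩ := ASC.sigma_sub_decomp σ (m + 1) w
  obtain ⟨S, hSdef⟩ : ∃ S : PowerSeries k, S = ∑ j ∈ Finset.range μ, G ^ j := ⟨_, rfl⟩
  have hgeom : S * (G - 1) = G ^ μ - 1 := by rw [hSdef]; exact geom_sum_mul G μ
  have hS0 : PowerSeries.constantCoeff S = (μ : k) := by
    rw [hSdef, map_sum]
    simp [ha]
  have hμk : (μ : k) ≠ 0 := fun h => hpμ ((CharP.cast_eq_zero_iff k p μ).mp h)
  obtain ⟨E, hEdef⟩ : ∃ E : PowerSeries k,
      E = PowerSeries.X * (g' * q + r) - S * g' * w := ⟨_, rfl⟩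
  have hE0 : PowerSeries.constantCoeff E
      = -((μ : k) * PowerSeries.constantCoeff g' * PowerSeries.constantCoeff w) := by
    rw [hEdef]
    simp only [map_sub, map_mul, PowerSeries.constantCoeff_X, zero_mul, zero_sub, hS0]
  have hw0 : PowerSeries.constantCoeff w ≠ 0 :=
    (PowerSeries.isUnit_iff_constantCoeff.mp hw).ne_zero
  have hE : IsUnit E := by
    rw [PowerSeries.isUnit_iff_constantCoeff, isUnit_iff_ne_zero, hE0]
    exact neg_ne_zero.mpr (mul_ne_zero (mul_ne_zero hμk hg'0) hw0)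
  have hA : σ w - G ^ μ * w = PowerSeries.X ^ m * E := by
    rw [hEdef]
    linear_combination e1 + q * hDg + w * hgeom - (S * w) * hG1
  have hK : (σ' z - z) * algebraMap _ _ (PowerSeries.X : PowerSeries k) ^ μ * algebraMap _ _ G ^ μ
      = algebraMap _ _ (PowerSeries.X : PowerSeries k) ^ m * algebraMap _ _ E := by
    have h1 : σ' z * (algebraMap _ _ (PowerSeries.X : PowerSeries k) * algebraMap _ _ G) ^ μ
        = algebraMap _ _ (σ w) := by
      rw [← hσ' w, ← hzw, map_mul, map_pow, hσ', hG, map_mul]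
    have h2 : algebraMap _ (FractionRing (PowerSeries k)) (PowerSeries.X : PowerSeries k) ^ m
        * algebraMap _ _ E = algebraMap _ _ (σ w) - algebraMap _ _ G ^ μ * algebraMap _ _ w := by
      rw [← map_pow, ← map_mul, ← hA, map_sub, map_mul, map_pow]
    rw [h2, ← h1, ← hzw]
    ring
  have hvc : v (σ' z - z) = WithZero.exp ((μ : ℤ) - m) := by
    have h1 := congrArg v hK
    simp only [map_mul, map_pow, hvX, ASC.val_unit v hv1 hGu, ASC.val_unit v hv1 hE, one_pow,
      mul_one] at h1
    rw [← WithZero.exp_nsmul, ← WithZero.exp_nsmul, ← eq_div_iff WithZero.exp_ne_zero,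
      ← WithZero.exp_sub] at h1
    rw [h1]
    congr 1
    simp only [nsmul_eq_mul]
    ring
  have hc0 : σ' z - z ≠ 0 := by
    intro h0
    rw [h0, map_zero] at hvc
    exact WithZero.exp_ne_zero hvc.symm
  have hc1 : (σ' z - z) ^ (p - 1) = 1 := by
    have h1 : (σ' z - z) ^ (p - 1) * (σ' z - z) = 1 * (σ' z - z) := by
      rw [← pow_succ, Nat.sub_add_cancel hp.one_le, hc, one_mul]
    exact mul_right_cancel₀ hc0 h1
  have h4 := congrArg v hc1
  rw [map_pow, map_one, hvc, ← WithZero.exp_nsmul, ← WithZero.exp_zero, WithZero.exp_inj,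
    nsmul_eq_mul] at h4
  rcases mul_eq_zero.mp h4 with h | h
  · have h5 : p - 1 ≠ 0 := by
      have := hp.two_le
      omega
    exact absurd (by exact_mod_cast h) h5
  · omega

end Groth.Agent.S15813
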