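import Groth.Statements.S15818
-- import your own Groth.Agent.* helpers here
import Mathlib

set_option autoImplicit false
universe u
open CategoryTheory
open Koszul

namespace Groth.Agent.S15818

/-- Let A be a commutative ring, f = (f_1, …, f_n) a finite sequence in A with Koszul complex K = K(f)
(mapping-cone model) and differentials ∂, q an integer, Z = Ker(∂^q) and B = Im(∂^{q-1}), so B ⊆ Z
inside K^q (this inclusion is carried as the hypothesis hBZ). Let x be a non-zero-divisor of A which
moreover acts injectively on the cohomology module Z/B (for Noetherian A this says that x lies in no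
associated prime of Z/B, which is how the published statement phrases it; the published argument
uses exactly the injectivity). Then the commuting square of quotient projections with corners Z/xB
(top left; it is isomorphic to the q-th cohomology of the Koszul complex of (x f_1, …, x f_n)), Z/xZ
= Z ⊗ A/(x) (top right), Z/B (bottom left) and Z/(B + xZ) = (Z/B) ⊗ A/(x) (bottom right) is
cartesian in the category of A-modules. All four corners are written as quotients of Z by the
preimages of the submodules xB, xZ, B, B + xZ of K^q. -/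
theorem result (A : Type u) [CommRing A] (l : List A) (q : ℤ)
    (K : CochainComplex (ModuleCat.{u} A) ℤ) (hK : K = Koszul.koszul A l)
    (hBZ : LinearMap.range (K.d (q - 1) q).hom ≤ LinearMap.ker (K.d q (q + 1)).hom)
    (x : A) (hx : x ∈ nonZeroDivisors A)
    (hxH : IsSMulRegular (↥(LinearMap.ker (K.d q (q + 1)).hom) ⧸ Submodule.comap (LinearMap.ker (K.d q (q + 1)).hom).subtype (LinearMap.range (K.d (q - 1) q).hom)) x) :
    IsPullback
      (ModuleCat.ofHom (Submodule.factor (Submodule.comap_mono (Submodule.smul_mono le_rfl hBZ) :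
        Submodule.comap (LinearMap.ker (K.d q (q + 1)).hom).subtype (Ideal.span {x} • LinearMap.range (K.d (q - 1) q).hom) ≤
          Submodule.comap (LinearMap.ker (K.d q (q + 1)).hom).subtype (Ideal.span {x} • LinearMap.ker (K.d q (q + 1)).hom))))
      (ModuleCat.ofHom (Submodule.factor (Submodule.comap_mono (Submodule.smul_le_right) :
        Submodule.comap (LinearMap.ker (K.d q (q + 1)).hom).subtype (Ideal.span {x} • LinearMap.range (K.d (q - 1) q).hom) ≤
          Submodule.comap (LinearMap.ker (K.d q (q + 1)).hom).subtype (LinearMap.range (K.d (q - 1) q).hom))))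
      (ModuleCat.ofHom (Submodule.factor (Submodule.comap_mono le_sup_right :
        Submodule.comap (LinearMap.ker (K.d q (q + 1)).hom).subtype (Ideal.span {x} • LinearMap.ker (K.d q (q + 1)).hom) ≤
          Submodule.comap (LinearMap.ker (K.d q (q + 1)).hom).subtype (LinearMap.range (K.d (q - 1) q).hom ⊔ Ideal.span {x} • LinearMap.ker (K.d q (q + 1)).hom))))
      (ModuleCat.ofHom (Submodule.factor (Submodule.comap_mono le_sup_left :
        Submodule.comap (LinearMap.ker (K.d q (q + 1)).hom).subtype (LinearMap.range (K.d (q - 1) q).hom) ≤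
          Submodule.comap (LinearMap.ker (K.d q (q + 1)).hom).subtype (LinearMap.range (K.d (q - 1) q).hom ⊔ Ideal.span {x} • LinearMap.ker (K.d q (q + 1)).hom)))) := by
  set Z := LinearMap.ker (K.d q (q + 1)).hom with hZ
  set B := LinearMap.range (K.d (q - 1) q).hom with hB
  apply IsPullback.of_map_of_faithful (forget (ModuleCat.{u} A))
  rw [CategoryTheory.Limits.Types.isPullback_iff]
  refine ⟨?_, ?_, ?_⟩
  · ext y
    obtain ⟨m, rfl⟩ := Submodule.Quotient.mk_surjective _ y
    rfl
  · rintro y y' ⟨h1, h2⟩
    obtain ⟨m, rfl⟩ := Submodule.Quotient.mk_surjective _ y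
    obtain ⟨m', rfl⟩ := Submodule.Quotient.mk_surjective _ y'
    have h1' : (Submodule.Quotient.mk m :
        ↥Z ⧸ Submodule.comap Z.subtype (Ideal.span {x} • Z)) = Submodule.Quotient.mk m' := h1
    have h2' : (Submodule.Quotient.mk m :
        ↥Z ⧸ Submodule.comap Z.subtype B) = Submodule.Quotient.mk m' := h2
    rw [Submodule.Quotient.eq, Submodule.mem_comap] at h1' h2' ⊢
    rw [Submodule.ideal_span_singleton_smul, Submodule.mem_smul_pointwise_iff_exists] at h1'
    obtain ⟨z0, hz0, hz0eq⟩ := h1'
    have hz0B : z0 ∈ B := by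
      have h3 : x • (Submodule.Quotient.mk ⟨z0, hz0⟩ :
          ↥Z ⧸ Submodule.comap Z.subtype B) = 0 := by
        rw [← Submodule.Quotient.mk_smul, Submodule.Quotient.mk_eq_zero, Submodule.mem_comap]
        have h5 : Z.subtype (x • (⟨z0, hz0⟩ : ↥Z)) = x • z0 := rfl
        rw [h5, hz0eq]
        exact h2'
      have h4 : (Submodule.Quotient.mk ⟨z0, hz0⟩ :
          ↥Z ⧸ Submodule.comap Z.subtype B) = 0 := hxH (by
        show x • _ = x • (0 : ↥Z ⧸ Submodule.comap Z.subtype B)
        rw [h3, smul_zero])
      rwa [Submodule.Quotient.mk_eq_zero, Submodule.mem_comap] at h4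
    rw [Submodule.ideal_span_singleton_smul, Submodule.mem_smul_pointwise_iff_exists]
    exact ⟨z0, hz0B, hz0eq⟩
  · intro a b hab
    obtain ⟨z1, rfl⟩ := Submodule.Quotient.mk_surjective _ a
    obtain ⟨z2, rfl⟩ := Submodule.Quotient.mk_surjective _ b
    have hab' : (Submodule.Quotient.mk z1 :
        ↥Z ⧸ Submodule.comap Z.subtype (B ⊔ Ideal.span {x} • Z)) = Submodule.Quotient.mk z2 := hab
    rw [Submodule.Quotient.eq, Submodule.mem_comap] at hab'
    obtain ⟨β, hβ, ζ, hζ, hβζ⟩ := Submodule.mem_sup.mp hab'
    have hζZ : ζ ∈ Z := Submodule.smul_le_right hζ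
    refine ⟨Submodule.Quotient.mk (z1 - ⟨ζ, hζZ⟩), ?_, ?_⟩
    · show (Submodule.Quotient.mk (z1 - ⟨ζ, hζZ⟩) :
        ↥Z ⧸ Submodule.comap Z.subtype (Ideal.span {x} • Z)) = Submodule.Quotient.mk z1
      rw [Submodule.Quotient.eq, Submodule.mem_comap]
      have h3 : z1 - ⟨ζ, hζZ⟩ - z1 = -(⟨ζ, hζZ⟩ : ↥Z) := by abel
      rw [h3, map_neg]
      exact Submodule.neg_mem _ hζ
    · show (Submodule.Quotient.mk (z1 - ⟨ζ, hζZ⟩) :
        ↥Z ⧸ Submodule.comap Z.subtype B) = Submodule.Quotient.mk z2
      rw [Submodule.Quotient.eq, Submodule.mem_comap]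
      have h3 : Z.subtype (z1 - ⟨ζ, hζZ⟩ - z2) = β := by
        have h4 : Z.subtype (z1 - ⟨ζ, hζZ⟩ - z2) = Z.subtype (z1 - z2) - ζ := by
          simp only [map_sub, Submodule.subtype_apply]
          abel
        rw [h4, ← hβζ]
        abel
      rw [h3]
      exact hβ

end Groth.Agent.S15818
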