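import Groth.Statements.S1582
import Groth.Agent.Lib.Helper11.FBaseLib

set_option autoImplicit false
universe u
open CategoryTheory CategoryTheory.Limits AlgebraicGeometry
open Variety

namespace Groth.Agent.S1582

open Groth.Agent.Lib.Helper11 in
theorem isReduced_pullback_Spec {k : Type u} [Field k] [IsAlgClosed k] (A B : CommRingCat.{u})
    [IsDomain A] [IsDomain B] (u : Spec A ⟶ Spec (CommRingCat.of k))
    (v : Spec B ⟶ Spec (CommRingCat.of k)) : IsReduced (pullback u v) := by
  obtain ⟨φ, rfl⟩ := Spec.map_surjective u
  obtain ⟨ψ, rfl⟩ := Spec.map_surjective v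
  letI := φ.hom.toAlgebra
  letI := ψ.hom.toAlgebra
  haveI : IsDomain (TensorProduct k A B) := TensorDomain.isDomain_tensorProduct
  have e : pullback (Spec.map φ) (Spec.map ψ) ≅ Spec (.of (TensorProduct k A B)) :=
    pullbackSpecIso k A B
  exact isReduced_of_isOpenImmersion e.hom

theorem isReduced_pullback_of_openImmersion {k : Type u} [Field k] [IsAlgClosed k]
    {X Y : Scheme.{u}} [IsIntegral X] [IsIntegral Y] (A B : CommRingCat.{u})
    (i : Spec A ⟶ X) (j : Spec B ⟶ Y) [IsOpenImmersion i] [IsOpenImmersion j]
    (u : Spec A ⟶ Spec (CommRingCat.of k))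
    (v : Spec B ⟶ Spec (CommRingCat.of k)) : IsReduced (pullback u v) := by
  by_cases hA : Nonempty (Spec A)
  · by_cases hB : Nonempty (Spec B)
    · haveI : IsIntegral (Spec A) := isIntegral_of_isOpenImmersion i
      haveI : IsIntegral (Spec B) := isIntegral_of_isOpenImmersion j
      haveI : IsDomain A := (affine_isIntegral_iff A).mp inferInstance
      haveI : IsDomain B := (affine_isIntegral_iff B).mp inferInstance
      exact isReduced_pullback_Spec A B u v
    · haveI : IsEmpty (Spec B) := not_nonempty_iff.mp hB
      haveI : IsEmpty ↥(pullback u v) := Function.isEmpty (pullback.snd u v).base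
      haveI : ∀ x : ↥(pullback u v), _root_.IsReduced ((pullback u v).presheaf.stalk x) :=
        fun x => (IsEmpty.false x).elim
      exact isReduced_of_isReduced_stalk _
  · haveI : IsEmpty (Spec A) := not_nonempty_iff.mp hA
    haveI : IsEmpty ↥(pullback u v) := Function.isEmpty (pullback.fst u v).base
    haveI : ∀ x : ↥(pullback u v), _root_.IsReduced ((pullback u v).presheaf.stalk x) :=
      fun x => (IsEmpty.false x).elim
    exact isReduced_of_isReduced_stalk _

/-- Let k be algebraically closed and X, Y varieties over k (integral, separated, of finite type). Then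
the fibre product X ×_k Y is integral (and so again a variety over k). -/
theorem result (k : Type u) [Field k] [IsAlgClosed k] (X Y : Scheme.{u})
    (f : X ⟶ Spec (CommRingCat.of k)) (g : Y ⟶ Spec (CommRingCat.of k))
    [IsIntegral X] [IsIntegral Y] [IsSeparated f] [IsSeparated g]
    [LocallyOfFiniteType f] [LocallyOfFiniteType g] [QuasiCompact f] [QuasiCompact g] :
    IsIntegral (pullback f g) := by

  haveI : GeometricallyIrreducible g :=
    Groth.Agent.Lib.Helper11.FBaseLib.geometricallyIrreducible_of_irreducibleSpace g
  haveI : UniversallyOpen g := inferInstance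
  haveI : IrreducibleSpace ↥(pullback f g) := inferInstance
  haveI : IsReduced (pullback f g) := by
    let 𝒰 := Scheme.Pullback.openCoverOfLeftRight X.affineOpenCover.openCover
      Y.affineOpenCover.openCover f g
    haveI : ∀ i, IsReduced (𝒰.X i) := by
      rintro ⟨i, j⟩
      exact isReduced_pullback_of_openImmersion (X.affineOpenCover.X i) (Y.affineOpenCover.X j)
        (X.affineOpenCover.f i) (Y.affineOpenCover.f j) _ _
    exact IsReduced.of_openCover _ 𝒰
  exact isIntegral_of_irreducibleSpace_of_isReduced _

end Groth.Agent.S1582
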