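import Groth.Statements.S15832
import Mathlib

set_option autoImplicit false
universe u
open TopGrp

namespace Groth.Agent.S15832


theorem key (T : Type u) [Group T] (𝓗 : Set (Subgroup T))
    (hconj : ∀ H ∈ 𝓗, ∀ g : T, Subgroup.comap (MulAut.conj g).toMonoidHom H ∈ 𝓗) :
    @NonarchimedeanGroup T _ (TopologicalSpace.generateFrom
      {S : Set T | ∃ H ∈ 𝓗, ∃ a : T, S = {z | a⁻¹ * z ∈ H}}) := by
  letI τ' : TopologicalSpace T := TopologicalSpace.generateFrom
      {S : Set T | ∃ H ∈ 𝓗, ∃ a : T, S = {z | a⁻¹ * z ∈ H}}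
  have hopen : ∀ H ∈ 𝓗, ∀ a : T, IsOpen {z : T | a⁻¹ * z ∈ H} := fun H hH a =>
    TopologicalSpace.isOpen_generateFrom_of_mem ⟨H, hH, a, rfl⟩
  have hinv : Continuous (fun x : T => x⁻¹) := by
    refine continuous_generateFrom_iff.mpr ?_
    rintro _ ⟨H, hH, a, rfl⟩
    have e : (fun x : T => x⁻¹) ⁻¹' {z | a⁻¹ * z ∈ H} =
        {z | (a⁻¹)⁻¹ * z ∈ Subgroup.comap (MulAut.conj a⁻¹).toMonoidHom H} := by
      ext x
      show (a⁻¹ * x⁻¹ ∈ H) ↔ (a⁻¹ * ((a⁻¹)⁻¹ * x) * (a⁻¹)⁻¹ ∈ H)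
      have e1 : a⁻¹ * ((a⁻¹)⁻¹ * x) * (a⁻¹)⁻¹ = (a⁻¹ * x⁻¹)⁻¹ := by group
      rw [e1, H.inv_mem_iff]
    rw [e]
    exact hopen _ (hconj H hH a⁻¹) _
  have hmul : Continuous (fun p : T × T => p.1 * p.2) := by
    refine continuous_generateFrom_iff.mpr ?_
    rintro _ ⟨H, hH, a, rfl⟩
    rw [isOpen_prod_iff]
    intro p q hpq
    refine ⟨{z | p⁻¹ * z ∈ Subgroup.comap (MulAut.conj q⁻¹).toMonoidHom H},
      {z | q⁻¹ * z ∈ H}, hopen _ (hconj H hH q⁻¹) p, hopen H hH q, ?_, ?_, ?_⟩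
    · show p⁻¹ * p ∈ Subgroup.comap (MulAut.conj q⁻¹).toMonoidHom H
      rw [inv_mul_cancel]; exact Subgroup.one_mem _
    · show q⁻¹ * q ∈ H
      rw [inv_mul_cancel]; exact H.one_mem
    · rintro ⟨p', q'⟩ ⟨hp', hq'⟩
      show a⁻¹ * (p' * q') ∈ H
      have h1 : q⁻¹ * (p⁻¹ * p') * (q⁻¹)⁻¹ ∈ H := hp'
      have h2 : q⁻¹ * q' ∈ H := hq'
      have h3 : a⁻¹ * (p * q) ∈ H := hpq
      have : a⁻¹ * (p' * q') =
          (a⁻¹ * (p * q)) * ((q⁻¹ * (p⁻¹ * p') * (q⁻¹)⁻¹) * (q⁻¹ * q')) := by group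
      rw [this]
      exact H.mul_mem h3 (H.mul_mem h1 h2)
  haveI hgrp : IsTopologicalGroup T := { continuous_mul := hmul, continuous_inv := hinv }
  refine @NonarchimedeanGroup.mk T _ τ' hgrp ?_
  intro U hU
  let F : Filter T :=
    { sets := {U | ∃ V : OpenSubgroup T, (V : Set T) ⊆ U}
      univ_sets := ⟨⊤, Set.subset_univ _⟩
      sets_of_superset := fun ⟨V, hV⟩ h => ⟨V, hV.trans h⟩
      inter_sets := fun ⟨V, hV⟩ ⟨V', hV'⟩ => ⟨V ⊓ V', fun x hx => by
        rw [OpenSubgroup.coe_inf] at hx; exact ⟨hV hx.1, hV' hx.2⟩⟩ }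
  have hle : F ≤ nhds (1 : T) := by
    have hn : nhds (1 : T) = ⨅ s ∈ {s | (1 : T) ∈ s ∧
        s ∈ {S : Set T | ∃ H ∈ 𝓗, ∃ a : T, S = {z | a⁻¹ * z ∈ H}}}, Filter.principal s :=
      TopologicalSpace.nhds_generateFrom
    rw [hn]
    refine le_iInf₂ (fun s hs => Filter.le_principal_iff.mpr ?_)
    obtain ⟨h1, H, hH, a, rfl⟩ := hs
    have ha : a⁻¹ ∈ H := by simpa using h1
    have hHopen : IsOpen (H : Set T) := by
      have := hopen H hH 1
      simpa using this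
    refine ⟨⟨H, hHopen⟩, fun x hx => ?_⟩
    exact H.mul_mem ha hx
  exact hle hU

/-- For a group T with a topology, let B be the family of two-sided translates x Γ y, where Γ runs over
the subgroups of T open in the given topology and x, y over T; the topology generated by B makes T a
topological group in which every neighbourhood of the identity contains a subgroup open for that
topology. (The published statement is for the free topological product of two Noohi groups whose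
open subgroups form a basis of neighbourhoods of the identity; the argument uses only the group
structure and the chosen family of subgroups, so the row is stated for an arbitrary group with a
topology. The published conventions include Hausdorffness in the word topological group; this row
does not assert it, and the published argument does not prove it.) -/
theorem result (T : Type u) [Group T]
    [TopologicalSpace T] :
    @NonarchimedeanGroup T _ (TopologicalSpace.generateFrom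
      {S : Set T | ∃ (Γ : OpenSubgroup T) (x y : T), S = (fun g : T => x * g * y) '' (Γ : Set T)}) := by
  have himg : ∀ (Γ : OpenSubgroup T) (x y z : T),
      z ∈ (fun g : T => x * g * y) '' (Γ : Set T) ↔ x⁻¹ * z * y⁻¹ ∈ Γ := by
    intro Γ x y z
    constructor
    · rintro ⟨γ, hγ, rfl⟩
      have : x⁻¹ * (x * γ * y) * y⁻¹ = γ := by group
      show x⁻¹ * (x * γ * y) * y⁻¹ ∈ Γ
      rw [this]; exact hγ
    · intro h
      refine ⟨x⁻¹ * z * y⁻¹, h, ?_⟩
      show x * (x⁻¹ * z * y⁻¹) * y = z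
      group
  have hconj : ∀ H ∈ {H : Subgroup T | ∃ (Γ : OpenSubgroup T) (y : T),
      H = Subgroup.comap (MulAut.conj y).toMonoidHom (Γ : Subgroup T)}, ∀ g : T,
      Subgroup.comap (MulAut.conj g).toMonoidHom H ∈ {H : Subgroup T |
        ∃ (Γ : OpenSubgroup T) (y : T),
          H = Subgroup.comap (MulAut.conj y).toMonoidHom (Γ : Subgroup T)} := by
    rintro _ ⟨Γ, y, rfl⟩ g
    refine ⟨Γ, y * g, Subgroup.ext fun x => ?_⟩
    show y * (g * x * g⁻¹) * y⁻¹ ∈ (Γ : Subgroup T) ↔ (y * g) * x * (y * g)⁻¹ ∈ (Γ : Subgroup T)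
    have : (y * g) * x * (y * g)⁻¹ = y * (g * x * g⁻¹) * y⁻¹ := by group
    rw [this]
  have hfam : {S : Set T | ∃ (Γ : OpenSubgroup T) (x y : T),
      S = (fun g : T => x * g * y) '' (Γ : Set T)} =
      {S : Set T | ∃ H ∈ {H : Subgroup T | ∃ (Γ : OpenSubgroup T) (y : T),
        H = Subgroup.comap (MulAut.conj y).toMonoidHom (Γ : Subgroup T)},
        ∃ a : T, S = {z | a⁻¹ * z ∈ H}} := by
    ext S
    constructor
    · rintro ⟨Γ, x, y, rfl⟩
      refine ⟨Subgroup.comap (MulAut.conj y).toMonoidHom (Γ : Subgroup T), ⟨Γ, y, rfl⟩,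
        x * y, ?_⟩
      ext z
      rw [himg]
      show x⁻¹ * z * y⁻¹ ∈ Γ ↔ y * ((x * y)⁻¹ * z) * y⁻¹ ∈ (Γ : Subgroup T)
      have : y * ((x * y)⁻¹ * z) * y⁻¹ = x⁻¹ * z * y⁻¹ := by group
      rw [this]; rfl
    · rintro ⟨H, ⟨Γ, y, rfl⟩, a, rfl⟩
      refine ⟨Γ, a * y⁻¹, y, ?_⟩
      ext z
      rw [himg]
      show y * (a⁻¹ * z) * y⁻¹ ∈ (Γ : Subgroup T) ↔ (a * y⁻¹)⁻¹ * z * y⁻¹ ∈ Γ
      have : (a * y⁻¹)⁻¹ * z * y⁻¹ = y * (a⁻¹ * z) * y⁻¹ := by group
      rw [this]; rfl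
  rw [hfam]
  exact key T _ hconj

end Groth.Agent.S15832
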