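import Groth.Statements.S15833
-- import your own Groth.Agent.* helpers here
import Mathlib

set_option autoImplicit false
universe u
open EtBase

namespace Groth.Agent.S15833

open CategoryTheory CategoryTheory.Limits AlgebraicGeometry in
/-- Let i : X₀ ⟶ X be a surjective closed immersion of schemes and f : Y ⟶ X a morphism. Then f
satisfies the valuative criterion (existence and uniqueness of a lift in every valuative square,
over arbitrary valuation rings) if and only if its base change Y ×_X X₀ ⟶ X₀ does. (The published
statement takes X locally Noetherian and connected, X₀ the reduced closed subscheme with the same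
underlying space and f étale, and combines this step with the equivalence between étale schemes over
X and over X₀ to identify the geometric coverings, i.e. the étale morphisms satisfying the valuative
criterion, of X and of X₀; the argument for this step uses only that X₀ ⟶ X is a surjective closed
immersion and that valuation rings are reduced.) -/
theorem result {X X₀ Y : Scheme.{u}} (i : X₀ ⟶ X)
    [IsClosedImmersion i] [Surjective i] (f : Y ⟶ X) :
    ValuativeCriterion f ↔ ValuativeCriterion (pullback.snd f i) := by
  -- factorisation of morphisms from reduced schemes through `i`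
  have hfac : ∀ (T : Scheme.{u}) [IsReduced T] (t : T ⟶ X), ∃ t₀ : T ⟶ X₀, t₀ ≫ i = t := by
    intro T _ t
    haveI : IsIso (pullback.fst t i) := isIso_of_isClosedImmersion_of_surjective _
    exact ⟨inv (pullback.fst t i) ≫ pullback.snd t i, by
      rw [Category.assoc, ← pullback.condition, IsIso.inv_hom_id_assoc]⟩
  haveI : Mono i := inferInstance
  constructor
  · intro H S
    let S' : ValuativeCommSq f :=
      { R := S.R
        K := S.K
        i₁ := S.i₁ ≫ pullback.fst f i
        i₂ := S.i₂ ≫ i
        commSq := ⟨by
          rw [Category.assoc, pullback.condition, ← Category.assoc, S.commSq.w, Category.assoc]⟩ }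
    obtain ⟨hu⟩ := H S'
    have key : ∀ l : S.commSq.LiftStruct, l.l ≫ pullback.fst f i = hu.default.l := by
      intro l
      let l' : S'.commSq.LiftStruct :=
        ⟨l.l ≫ pullback.fst f i, by
          show Spec.map _ ≫ l.l ≫ pullback.fst f i = S.i₁ ≫ pullback.fst f i
          rw [← Category.assoc, l.fac_left], by
          show (l.l ≫ pullback.fst f i) ≫ f = S.i₂ ≫ i
          rw [Category.assoc, pullback.condition, ← Category.assoc, l.fac_right]⟩
      have := hu.uniq l'
      exact congrArg CommSq.LiftStruct.l this
    have hr : hu.default.l ≫ f = S.i₂ ≫ i := hu.default.fac_right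
    refine ⟨{ default := ⟨pullback.lift hu.default.l S.i₂ hr, ?_, ?_⟩, uniq := ?_ }⟩
    · apply pullback.hom_ext
      · rw [Category.assoc, pullback.lift_fst]
        exact hu.default.fac_left
      · rw [Category.assoc, pullback.lift_snd]
        exact S.commSq.w.symm
    · exact pullback.lift_snd _ _ _
    · intro l
      have h1 := key l
      apply CommSq.LiftStruct.ext
      apply pullback.hom_ext
      · rw [pullback.lift_fst]; exact h1
      · rw [pullback.lift_snd]; exact l.fac_right
  · intro H S
    haveI : IsReduced (Spec (.of S.R)) := inferInstance
    obtain ⟨j₂, hj₂⟩ := hfac (Spec (.of S.R)) S.i₂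
    have hw : S.i₁ ≫ f = (Spec.map (CommRingCat.ofHom (algebraMap S.R S.K)) ≫ j₂) ≫ i := by
      rw [Category.assoc, hj₂]; exact S.commSq.w
    let S' : ValuativeCommSq (pullback.snd f i) :=
      { R := S.R
        K := S.K
        i₁ := pullback.lift S.i₁ (Spec.map (CommRingCat.ofHom (algebraMap S.R S.K)) ≫ j₂) hw
        i₂ := j₂
        commSq := ⟨by rw [pullback.lift_snd]⟩ }
    obtain ⟨hu⟩ := H S'
    have key : ∀ l : S.commSq.LiftStruct,
        pullback.lift l.l j₂ (by rw [hj₂]; exact l.fac_right) = hu.default.l := by
      intro l
      let l' : S'.commSq.LiftStruct :=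
        ⟨pullback.lift l.l j₂ (by rw [hj₂]; exact l.fac_right), by
          apply pullback.hom_ext
          · rw [Category.assoc, pullback.lift_fst]
            show _ = pullback.lift S.i₁ _ hw ≫ pullback.fst f i
            rw [pullback.lift_fst]
            exact l.fac_left
          · rw [Category.assoc, pullback.lift_snd]
            show _ = pullback.lift S.i₁ _ hw ≫ pullback.snd f i
            rw [pullback.lift_snd], pullback.lift_snd _ _ _⟩
      have := hu.uniq l'
      exact congrArg CommSq.LiftStruct.l this
    have h1 : Spec.map (CommRingCat.ofHom (algebraMap S.R S.K)) ≫ hu.default.l =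
        pullback.lift S.i₁ (Spec.map (CommRingCat.ofHom (algebraMap S.R S.K)) ≫ j₂) hw :=
      hu.default.fac_left
    have h2 : hu.default.l ≫ pullback.snd f i = j₂ := hu.default.fac_right
    refine ⟨{ default := ⟨hu.default.l ≫ pullback.fst f i, ?_, ?_⟩, uniq := ?_ }⟩
    · rw [← Category.assoc, h1, pullback.lift_fst]
    · rw [Category.assoc, pullback.condition, ← Category.assoc, h2, hj₂]
    · intro l
      apply CommSq.LiftStruct.ext
      show l.l = hu.default.l ≫ pullback.fst f i
      rw [← key l, pullback.lift_fst]

end Groth.Agent.S15833
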