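import Groth.Statements.S15835
-- import your own Groth.Agent.* helpers here
import Mathlib

set_option autoImplicit false
universe u
open SprIso

namespace Groth.Agent.S15835

open Polynomial in
theorem aux_charpoly {R : Type*} [CommRing R] {n : ℕ} (M : Matrix (Fin n) (Fin n) R) (a : R) :
    (M + Matrix.scalar (Fin n) a).charpoly = M.charpoly.comp (X - C a) := by
  have h1 : Matrix.charmatrix (M + Matrix.scalar (Fin n) a)
      = (Polynomial.compRingHom (X - C a)).mapMatrix (Matrix.charmatrix M) := by
    ext i j : 1
    rw [RingHom.mapMatrix_apply, Matrix.map_apply, Matrix.charmatrix_apply,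
      Matrix.charmatrix_apply, Polynomial.coe_compRingHom_apply]
    by_cases h : i = j
    · subst h
      simp only [Matrix.diagonal_apply_eq, Matrix.add_apply, Matrix.scalar_apply, sub_comp,
        X_comp, C_comp, C_add]
      ring
    · simp only [Matrix.diagonal_apply_ne _ h, Matrix.add_apply, Matrix.scalar_apply, sub_comp,
        zero_comp, C_comp, add_zero]
  unfold Matrix.charpoly
  rw [h1, ← RingHom.map_det, Polynomial.coe_compRingHom_apply]

/-- Over a commutative ring R of prime characteristic p, let n ≥ 1 and let p^m be the largest power of p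
dividing n. The locus of n × n matrices with characteristic polynomial t^n is stable under adding a
scalar matrix a·1 with n·a = 0 exactly when a^(p^m) = 0: for X with characteristic polynomial t^n
and such an a, the matrix X + a·1 has characteristic polynomial t^n if and only if a^(p^m) = 0.
(Stated on points with values in an arbitrary ring of characteristic p; the scheme-theoretic
assertion about the nilpotent scheme of SL_n is this statement for all such rings.) -/
theorem result (p : ℕ) [Fact p.Prime] (R : Type u) [CommRing R]
    [CharP R p] (n : ℕ) (hn : 0 < n) (X : Matrix (Fin n) (Fin n) R) (hX : X.charpoly = Polynomial.X ^ n)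
    (a : R) (ha : (n : R) * a = 0) :
    (X + Matrix.scalar (Fin n) a).charpoly = Polynomial.X ^ n ↔ a ^ (p ^ padicValNat p n) = 0 := by
  have hp : p.Prime := Fact.out
  have hn0 : n ≠ 0 := by omega
  obtain ⟨n', hn'⟩ := (pow_padicValNat_dvd : p ^ padicValNat p n ∣ n)
  have hpn' : ¬ p ∣ n' := by
    intro hdvd
    obtain ⟨c, hc⟩ := hdvd
    apply pow_succ_padicValNat_not_dvd (p := p) hn0
    exact ⟨c, by conv_lhs => rw [hn', hc]
                 ring⟩
  have hn'pos : n' ≠ 0 := by
    rintro rfl
    rw [mul_zero] at hn'
    exact hn0 hn'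
  have hunit : ∃ u : R, (n' : R) * u = 1 := by
    have hcop : IsCoprime (n' : ℤ) (p : ℤ) :=
      Nat.isCoprime_iff_coprime.mpr ((Nat.Prime.coprime_iff_not_dvd hp).mpr hpn').symm
    obtain ⟨u, v, huv⟩ := hcop
    have h1 := congrArg (Int.cast : ℤ → R) huv
    push_cast at h1
    have hp0 : (p : R) = 0 := CharP.cast_eq_zero R p
    exact ⟨(u : R), by linear_combination h1 - (v : R) * hp0⟩
  obtain ⟨k, rfl⟩ := Nat.exists_eq_succ_of_ne_zero hn'pos
  rw [aux_charpoly, hX, Polynomial.X_pow_comp]
  have hq : 0 < p ^ padicValNat p n := pow_pos hp.pos _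
  have hexp : (Polynomial.X - Polynomial.C a) ^ n
      = Polynomial.expand R (p ^ padicValNat p n)
        ((Polynomial.X - Polynomial.C (a ^ p ^ padicValNat p n)) ^ (k + 1)) := by
    conv_lhs => rw [hn']
    rw [pow_mul, sub_pow_char_pow, map_pow, map_sub, Polynomial.expand_X, Polynomial.expand_C,
      ← Polynomial.C_pow]
  have hexp2 : (Polynomial.X : Polynomial R) ^ n
      = Polynomial.expand R (p ^ padicValNat p n) (Polynomial.X ^ (k + 1)) := by
    rw [map_pow, Polynomial.expand_X, ← pow_mul, ← hn']
  rw [hexp, hexp2, (Polynomial.expand_injective hq).eq_iff]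
  constructor
  · intro h
    have hc := congrArg (fun f => Polynomial.coeff f k) h
    rw [sub_eq_add_neg, ← Polynomial.C_neg, Polynomial.coeff_X_add_C_pow, Polynomial.coeff_X_pow,
      if_neg (by omega)] at hc
    have h1 : k + 1 - k = 1 := by omega
    rw [h1, pow_one, Nat.choose_succ_self_right] at hc
    obtain ⟨u, hu⟩ := hunit
    linear_combination (-u) * hc - (a ^ p ^ padicValNat p n) * hu
  · intro h
    rw [h, map_zero, sub_zero]

end Groth.Agent.S15835
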