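import Groth.Statements.S15837
import Groth.Agent.Lib.Helper11.RFP5
import Groth.Agent.Lib.Helper11.RFP7

set_option autoImplicit false
universe u
open CategoryTheory MonoidalCategory CartesianMonoidalCategory MonObj GrpObj AlgebraicGeometry
open SprIso

namespace Groth.Agent.S15837

/-- Let S be a scheme, G an S-group scheme of finite presentation acting on an S-scheme X which is
affine and of finite presentation over S, and Y a closed subscheme of X which is finite, flat and of
finite presentation over S. Then the functorial stabilizer of Y in G — whose points with values in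
an S-scheme T are the points g of G such that g acts as the identity on every point of Y with values
in a scheme over T — is represented by a closed subscheme of G whose inclusion is of finite
presentation. -/
theorem result (S : Scheme.{u}) (G X Y : Over S) [GrpObj G]
    [LocallyOfFinitePresentation G.hom] [QuasiCompact G.hom] [QuasiSeparated G.hom]
    [IsAffineHom X.hom] [LocallyOfFinitePresentation X.hom] (a : AlgGrp.Action G X)
    (i : Y ⟶ X) [IsClosedImmersion i.left] [IsFinite Y.hom] [Flat Y.hom] [LocallyOfFinitePresentation Y.hom] :
    ∃ (Z : Over S) (j : Z ⟶ G), IsClosedImmersion j.left ∧ LocallyOfFinitePresentation j.left ∧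
      ∀ (T : Over S) (g : T ⟶ G), (∃ z : T ⟶ Z, z ≫ j = g) ↔
        ∀ (T' : Over S) (t : T' ⟶ T) (y : T' ⟶ Y), lift (t ≫ g) (y ≫ i) ≫ a.act = y ≫ i := by
  haveI : IsSeparated X.hom := inferInstance
  haveI : LocallyOfFiniteType X.hom := inferInstance
  obtain ⟨Z, j, hj, hfp, H⟩ := Groth.Agent.Lib.Helper11.RFP7.over_eq_sep_fp Y G X
    (Groth.Agent.Lib.Helper11.RFP5.locProj_of_finite_flat Y)
    (lift (snd Y G) (fst Y G ≫ i) ≫ a.act) (fst Y G ≫ i)
  refine ⟨Z, j, hj, hfp, fun T g => ?_⟩
  rw [H T g]
  exact (Groth.Agent.Lib.Helper11.RFP7.stab_iff a.act i g).symm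

end Groth.Agent.S15837
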