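import Groth.Statements.S15838
-- import your own Groth.Agent.* helpers here
import Mathlib

set_option autoImplicit false
universe u
open scoped TensorProduct
open SprIso

namespace Groth.Agent.S15838

theorem aux_adjoin (k : Type*) [Field k] [PerfectField k] (V : Type*) [AddCommGroup V] [Module k V]
    [FiniteDimensional k V] (X Y N : Module.End k V) (hY : Y.IsSemisimple) (hN : IsNilpotent N)
    (hc : Commute Y N) (hX : X = Y + N) :
    Y ∈ Algebra.adjoin k {X} ∧ N ∈ Algebra.adjoin k {X} := by
  obtain ⟨n₀, hn₀, s₀, hs₀, hn₀nil, hs₀ss, h₀⟩ := Module.End.exists_isNilpotent_isSemisimple (f := X)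
  have hXn : Commute X n₀ :=
    Algebra.commute_of_mem_adjoin_singleton_of_commute hn₀ (Commute.refl X)
  have hns : Commute n₀ s₀ := Algebra.commute_of_mem_adjoin_singleton_of_commute hs₀ hXn.symm
  obtain ⟨h1, h2⟩ := Module.End.isNilpotent_isSemisimple_unique hN hY hn₀nil hs₀ss hc.symm hns
    (by rw [← h₀, hX, add_comm])
  exact ⟨h2 ▸ hs₀, h1 ▸ hn₀⟩

open TensorProduct in
theorem aux_comm (k : Type*) [Field k] (V : Type*) [AddCommGroup V] [Module k V]
    (R : Type*) [CommRing R] [Algebra k R] (h : Module.End R (R ⊗[k] V)) (X Y : Module.End k V)
    (hY : Y ∈ Algebra.adjoin k {X}) (hc : Commute h (X.baseChange R)) :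
    Commute h (Y.baseChange R) := by
  have h1 : (Module.End.baseChangeHom k R V) Y
      ∈ Algebra.adjoin k {(Module.End.baseChangeHom k R V) X} := by
    have h2 : (Module.End.baseChangeHom k R V) Y
        ∈ (Algebra.adjoin k {X}).map (Module.End.baseChangeHom k R V) :=
      Subalgebra.mem_map.mpr ⟨Y, hY, rfl⟩
    rwa [AlgHom.map_adjoin, Set.image_singleton] at h2
  exact Algebra.commute_of_mem_adjoin_singleton_of_commute h1 hc

/-- General linear group case: this is the case G = GL(V), to which the general case reduces along a
closed embedding. Let k be a perfect field and V a finite-dimensional k-vector space. If an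
invertible endomorphism g of V has multiplicative Jordan decomposition g = t u (t semisimple, u
unipotent, t and u commuting), then the scheme-theoretic centralizer of g in GL(V) is the
centralizer of u inside the centralizer of t: for every commutative k-algebra R, an R-linear
endomorphism h of R ⊗ V commutes with g_R if and only if it commutes with both t_R and u_R.
Likewise, if an endomorphism X of V has additive Jordan decomposition X = Y + N (Y semisimple, N
nilpotent, commuting), then h commutes with X_R if and only if it commutes with both Y_R and N_R. -/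
theorem result (k : Type u) [Field k] [PerfectField k]
    (V : Type u) [AddCommGroup V] [Module k V] [FiniteDimensional k V]
    (R : Type u) [CommRing R] [Algebra k R] (h : Module.End R (R ⊗[k] V)) :
    (∀ (g t u : Module.End k V), IsUnit g → t.IsSemisimple → IsNilpotent (u - 1) → Commute t u → g = t * u →
      (Commute h (g.baseChange R) ↔ Commute h (t.baseChange R) ∧ Commute h (u.baseChange R))) ∧
    (∀ (X Y N : Module.End k V), Y.IsSemisimple → IsNilpotent N → Commute Y N → X = Y + N →
      (Commute h (X.baseChange R) ↔ Commute h (Y.baseChange R) ∧ Commute h (N.baseChange R))) := by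
  constructor
  · intro g t u hg ht hu hc hgtu
    have hct' : Commute t (u - 1) := hc.sub_right (Commute.one_right t)
    have hNnil : IsNilpotent (t * (u - 1)) := hct'.isNilpotent_mul_left hu
    have hYN : Commute t (t * (u - 1)) := (Commute.refl t).mul_right hct'
    have hX : g = t + t * (u - 1) := by rw [hgtu, mul_sub, mul_one, add_sub_cancel]
    obtain ⟨hYmem, -⟩ := aux_adjoin k V g t (t * (u - 1)) ht hNnil hYN hX
    have hmul : g.baseChange R = t.baseChange R * u.baseChange R := by
      rw [hgtu, LinearMap.baseChange_mul]
    constructor
    · intro hcg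
      have hct := aux_comm k V R h g t hYmem hcg
      refine ⟨hct, ?_⟩
      have htunit : IsUnit t := ((hc.isUnit_mul_iff).mp (hgtu ▸ hg)).1
      have htRunit : IsUnit (t.baseChange R) := htunit.map (Module.End.baseChangeHom k R V)
      show h * u.baseChange R = u.baseChange R * h
      apply htRunit.mul_left_cancel
      calc t.baseChange R * (h * u.baseChange R)
          = (t.baseChange R * h) * u.baseChange R := by rw [mul_assoc]
        _ = (h * t.baseChange R) * u.baseChange R := by rw [hct.eq]
        _ = h * g.baseChange R := by rw [mul_assoc, hmul]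
        _ = g.baseChange R * h := hcg.eq
        _ = t.baseChange R * (u.baseChange R * h) := by rw [hmul, mul_assoc]
    · rintro ⟨hct, hcu⟩
      rw [hmul]
      exact hct.mul_right hcu
  · intro X Y N hY hN hc hX
    obtain ⟨hYmem, hNmem⟩ := aux_adjoin k V X Y N hY hN hc hX
    constructor
    · intro hcX
      exact ⟨aux_comm k V R h X Y hYmem hcX, aux_comm k V R h X N hNmem hcX⟩
    · rintro ⟨h1, h2⟩
      rw [hX, LinearMap.baseChange_add]
      exact h1.add_right h2

end Groth.Agent.S15838
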