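import Groth.Statements.S15839
import Mathlib

set_option autoImplicit false
universe u
open CategoryTheory MonoidalCategory CartesianMonoidalCategory MonObj GrpObj AlgebraicGeometry
open SprIso

namespace Groth.Agent.S15839

theorem lofp_of_comp {X Y Z : Scheme.{u}} (f : X ⟶ Y) (g : Y ⟶ Z)
    [hfg : LocallyOfFinitePresentation (f ≫ g)] [hg : LocallyOfFiniteType g] :
    LocallyOfFinitePresentation f := by
  have hQ : RingHom.StableUnderCompositionWithLocalizationAwaySource
      @RingHom.FinitePresentation :=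
    (RingHom.finitePresentation_stableUnderComposition.stableUnderCompositionWithLocalizationAway
      RingHom.finitePresentation_holdsForLocalizationAway).left
  rw [HasRingHomProperty.iff_exists_appLE (P := @LocallyOfFinitePresentation) hQ]
  intro x
  obtain ⟨_, ⟨W, hW, rfl⟩, hxW, -⟩ :=
    Z.isBasis_affineOpens.exists_subset_of_mem_open (Set.mem_univ (g (f x))) isOpen_univ
  obtain ⟨_, ⟨U, hU, rfl⟩, hxU, hUW⟩ :=
    Y.isBasis_affineOpens.exists_subset_of_mem_open (show f x ∈ ((g ⁻¹ᵁ W : Y.Opens) : Set Y)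
      from hxW) (g ⁻¹ᵁ W).isOpen
  obtain ⟨_, ⟨V, hV, rfl⟩, hxV, hVU⟩ :=
    X.isBasis_affineOpens.exists_subset_of_mem_open (show x ∈ ((f ⁻¹ᵁ U : X.Opens) : Set X)
      from hxU) (f ⁻¹ᵁ U).isOpen
  have e₁ : U ≤ g ⁻¹ᵁ W := hUW
  have e₂ : V ≤ f ⁻¹ᵁ U := hVU
  refine ⟨⟨U, hU⟩, ⟨V, hV⟩, hxV, e₂, ?_⟩
  have h1 := HasRingHomProperty.appLE (P := @LocallyOfFinitePresentation) (f ≫ g) hfg
    ⟨W, hW⟩ ⟨V, hV⟩ (e₂.trans ((TopologicalSpace.Opens.map f.base).map (homOfLE e₁)).le)
  have h2 := HasRingHomProperty.appLE (P := @LocallyOfFiniteType) g hg ⟨W, hW⟩ ⟨U, hU⟩ e₁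
  rw [← Scheme.Hom.appLE_comp_appLE f g W U V e₁ e₂, CommRingCat.hom_comp] at h1
  exact RingHom.FinitePresentation.of_comp_finiteType _ h1 h2

theorem lofp_diagonal {X Y : Scheme.{u}} (f : X ⟶ Y) [LocallyOfFiniteType f] :
    LocallyOfFinitePresentation (Limits.pullback.diagonal f) := by
  haveI : LocallyOfFinitePresentation (Limits.pullback.diagonal f ≫ Limits.pullback.fst f f) := by
    rw [Limits.pullback.diagonal_fst]; infer_instance
  exact lofp_of_comp (Limits.pullback.diagonal f) (Limits.pullback.fst f f)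

set_option backward.isDefEq.respectTransparency false in
theorem lofp_equalizer {S : Scheme.{u}} {X Y : Over S} [LocallyOfFiniteType Y.hom]
    (f g : X ⟶ Y) : LocallyOfFinitePresentation (Limits.equalizer.ι f g).left := by
  refine MorphismProperty.of_isPullback (P := @LocallyOfFinitePresentation)
    ((Limits.isPullback_equalizer_prod f g).map (Over.forget _)).flip ?_
  rw [← MorphismProperty.cancel_right_of_respectsIso @LocallyOfFinitePresentation _
    (Over.prodLeftIsoPullback Y Y).hom]
  convert! (lofp_diagonal Y.hom : LocallyOfFinitePresentation (Limits.pullback.diagonal Y.hom))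
  ext1 <;> simp [← Over.comp_left]

/-- Let S be a scheme, G an S-group scheme which is affine and of finite presentation over S, and g a
section of G over S. Then the centralizer of g — the subfunctor of G whose points with values in an
S-scheme T are the points x of G with x g_T = g_T x — is represented by a closed subscheme of G
whose inclusion is of finite presentation. -/
theorem result (S : Scheme.{u}) (G : Over S) [GrpObj G]
    [IsAffineHom G.hom] [LocallyOfFinitePresentation G.hom] (g : 𝟙_ (Over S) ⟶ G) :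
    ∃ (Z : Over S) (j : Z ⟶ G), IsClosedImmersion j.left ∧ LocallyOfFinitePresentation j.left ∧
      ∀ (T : Over S) (x : T ⟶ G), (∃ z : T ⟶ Z, z ≫ j = x) ↔
        x * (toUnit T ≫ g) = (toUnit T ≫ g) * x := by
  classical
  haveI : IsSeparated G.hom := inferInstance
  haveI : LocallyOfFiniteType G.hom := inferInstance
  let φ : G ⟶ G := 𝟙 G * (toUnit G ≫ g)
  let ψ : G ⟶ G := (toUnit G ≫ g) * 𝟙 G
  refine ⟨Limits.equalizer φ ψ, Limits.equalizer.ι φ ψ, isClosedImmersion_equalizer_ι_left φ ψ,
    lofp_equalizer φ ψ, ?_⟩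
  intro T x
  have e1 : x ≫ φ = x * (toUnit T ≫ g) := by
    show x ≫ (𝟙 G * (toUnit G ≫ g)) = _
    rw [MonObj.comp_mul, Category.comp_id, ← Category.assoc, toUnit_unique (x ≫ toUnit G) (toUnit T)]
  have e2 : x ≫ ψ = (toUnit T ≫ g) * x := by
    show x ≫ ((toUnit G ≫ g) * 𝟙 G) = _
    rw [MonObj.comp_mul, Category.comp_id, ← Category.assoc, toUnit_unique (x ≫ toUnit G) (toUnit T)]
  rw [← e1, ← e2]
  constructor
  · rintro ⟨z, rfl⟩
    rw [Category.assoc, Category.assoc, Limits.equalizer.condition]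
  · intro h
    exact ⟨Limits.equalizer.lift x h, Limits.equalizer.lift_ι x h⟩

end Groth.Agent.S15839
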