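import Groth.Statements.S15840
-- import your own Groth.Agent.* helpers here
import Mathlib

set_option autoImplicit false
universe u
open SprIso

namespace Groth.Agent.S15840

/-- For G = SL_n (n = r + 1) over a field of characteristic p > 0, write n = m p^e with m prime to p, so
that the identity component of the centre of G is μ_{p^e} embedded diagonally. The character of the
i-th exterior power of the standard representation takes the value C(n, i) α^i at a point α of
μ_{p^e}, and this is constant: for every commutative ring R of characteristic p and every α in R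
with α^(p^e) = 1 one has C(n, i) α^i = C(n, i) in R, for all i. -/
theorem result (p : ℕ) [Fact p.Prime] (R : Type u) [CommRing R]
    [CharP R p] (n : ℕ) (hn : 0 < n) (α : R) (hα : α ^ (p ^ padicValNat p n) = 1) (i : ℕ) :
    (n.choose i : R) * α ^ i = (n.choose i : R) := by
  have hp : p.Prime := Fact.out
  by_cases hdiv : p ∣ n.choose i
  · have h0 : (n.choose i : R) = 0 := (CharP.cast_eq_zero_iff R p _).mpr hdiv
    rw [h0, zero_mul]
  · -- then p ^ e ∣ i
    have hpe : p ^ padicValNat p n ∣ i := by
      rcases Nat.eq_zero_or_pos i with hi | hi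
      · rw [hi]; exact dvd_zero _
      · obtain ⟨m, rfl⟩ : ∃ m, n = m + 1 := ⟨n - 1, by omega⟩
        obtain ⟨j, rfl⟩ : ∃ j, i = j + 1 := ⟨i - 1, by omega⟩
        have h1 : (m + 1) * m.choose j = (m + 1).choose (j + 1) * (j + 1) := Nat.add_one_mul_choose_eq m j
        have h2 : p ^ padicValNat p (m + 1) ∣ (m + 1).choose (j + 1) * (j + 1) := by
          rw [← h1]
          exact Dvd.dvd.mul_right pow_padicValNat_dvd _
        have hcop : Nat.Coprime (p ^ padicValNat p (m + 1)) ((m + 1).choose (j + 1)) :=
          Nat.Coprime.pow_left _ ((Nat.Prime.coprime_iff_not_dvd hp).mpr hdiv)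
        exact hcop.dvd_of_dvd_mul_left h2
    obtain ⟨c, rfl⟩ := hpe
    rw [pow_mul, hα, one_pow, mul_one]

end Groth.Agent.S15840
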