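import Groth.Statements.S15841
-- import your own Groth.Agent.* helpers here
import Mathlib.LinearAlgebra.RootSystem.Base
import Mathlib.RingTheory.TensorProduct.Basic

set_option autoImplicit false
universe u
open scoped TensorProduct
open SprIso

namespace Groth.Agent.S15841

/-- For a connected reductive group G with maximal torus T whose derived group is simply connected, and
a Coxeter element w (the product of the simple reflections, each once, in any order), an element of
Lie T = k ⊗ X_*(T) fixed by Ad(w) is killed by the differential of every simple root, i.e. lies in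
the centre of Lie G. In root-datum form: let P be a root pairing over ℤ with character lattice M and
cocharacter lattice N, b a base, and suppose each simple coroot has a dual character ω_i in M with
⟨ω_i, α_i^∨⟩ = 1 and ⟨ω_i, α_j^∨⟩ = 0 for every other simple j (the simply connected derived group
hypothesis). If l lists the simple roots without repetition, w^∨ is the composite of the
coreflections along l acting on N, k is a field and H in k ⊗ N satisfies w^∨_k H = H, then (α_i)_k H
= 0 for every simple root α_i, where (α_i)_k is the base change to k of the functional ⟨α_i, −⟩ on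
N. (Stated for an arbitrary field k; the published setting is an algebraically closed field, and the
argument does not depend on k.) -/
theorem result {ι M N : Type u} [AddCommGroup M] [AddCommGroup N]
    (P : RootPairing ι ℤ M N) (b : P.Base)
    (hsc : ∀ i ∈ b.support, ∃ ω : M, P.coroot' i ω = 1 ∧ ∀ j ∈ b.support, j ≠ i → P.coroot' j ω = 0)
    (l : List ι) (hl : l.Nodup) (hlb : ∀ i : ι, i ∈ l ↔ i ∈ b.support)
    (k : Type u) [Field k] (H : k ⊗[ℤ] N)
    (hH : ((l.map (fun i => ((P.coreflection i : N ≃ₗ[ℤ] N) : N →ₗ[ℤ] N))).prod).baseChange k H = H) :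
    ∀ i ∈ b.support, (P.root' i).baseChange k H = 0 := by
  classical
  -- k-linear functionals from integral ones
  let ev : (N →ₗ[ℤ] ℤ) → (k ⊗[ℤ] N →ₗ[k] k) := fun f =>
    (TensorProduct.AlgebraTensorModule.rid ℤ k k).toLinearMap ∘ₗ f.baseChange k
  have hev : ∀ (f : N →ₗ[ℤ] ℤ) (c : k) (n : N), ev f (c ⊗ₜ[ℤ] n) = (f n) • c := by
    intro f c n
    simp only [ev, LinearMap.comp_apply, LinearMap.baseChange_tmul, LinearEquiv.coe_coe,
      TensorProduct.AlgebraTensorModule.rid_tmul]
  have hev0 : ∀ (f : N →ₗ[ℤ] ℤ) (h : k ⊗[ℤ] N), ev f h = 0 → f.baseChange k h = 0 := by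
    intro f h hh
    exact (TensorProduct.AlgebraTensorModule.rid ℤ k k).injective (by rw [map_zero]; exact hh)
  let s : ι → Module.End k (k ⊗[ℤ] N) := fun i =>
    ((P.coreflection i : N ≃ₗ[ℤ] N) : N →ₗ[ℤ] N).baseChange k
  let e : ι → k ⊗[ℤ] N := fun i => (1 : k) ⊗ₜ[ℤ] P.coroot i
  have hs : ∀ (i : ι) (h : k ⊗[ℤ] N), s i h = h - ev (P.root' i) h • e i := by
    intro i h
    induction h using TensorProduct.induction_on with
    | zero => simp
    | tmul c n =>
      rw [hev]
      show c ⊗ₜ[ℤ] (P.coreflection i n) = _
      rw [P.coreflection_apply, TensorProduct.tmul_sub, TensorProduct.tmul_smul,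
        TensorProduct.smul_tmul', TensorProduct.smul_tmul', smul_eq_mul, mul_one]
    | add x y hx hy =>
      rw [map_add, hx, hy, map_add, add_smul]
      abel
  -- Claim A
  have claimA : ∀ (l : List ι) (φ : k ⊗[ℤ] N →ₗ[k] k), (∀ j ∈ l, φ (e j) = 0) →
      ∀ H : k ⊗[ℤ] N, φ ((l.map s).prod H) = φ H := by
    intro l
    induction l with
    | nil => intro φ _ H; simp
    | cons j l ih =>
      intro φ hφ H
      rw [List.map_cons, List.prod_cons, Module.End.mul_apply, hs, map_sub, map_smul,
        hφ j (List.mem_cons_self), smul_zero, sub_zero]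
      exact ih φ (fun j' hj' => hφ j' (List.mem_cons_of_mem _ hj')) H
  -- Claim B
  have claimB : ∀ (l : List ι), l.Nodup → (∀ i ∈ l, i ∈ b.support) →
      ∀ H : k ⊗[ℤ] N, (l.map s).prod H = H → ∀ i ∈ l, ev (P.root' i) H = 0 := by
    intro l
    induction l with
    | nil => intro _ _ H _ i hi; simp at hi
    | cons i l ih =>
      intro hnd hsupp H hfix
      have hil : i ∉ l := (List.nodup_cons.mp hnd).1
      have hndl : l.Nodup := (List.nodup_cons.mp hnd).2
      have hsuppl : ∀ j ∈ l, j ∈ b.support := fun j hj => hsupp j (List.mem_cons_of_mem _ hj)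
      have hi : i ∈ b.support := hsupp i (List.mem_cons_self)
      obtain ⟨ω, hω1, hω0⟩ := hsc i hi
      set H' := (l.map s).prod H with hH'
      have hfix' : s i H' = H := by
        rw [List.map_cons, List.prod_cons, Module.End.mul_apply] at hfix
        exact hfix
      let φ : k ⊗[ℤ] N →ₗ[k] k := ev (P.toLinearMap ω)
      have hφe : ∀ j, φ (e j) = (P.coroot' j ω) • (1 : k) := by
        intro j
        exact hev _ _ _
      have hφl : ∀ j ∈ l, φ (e j) = 0 := by
        intro j hj
        have hji : j ≠ i := fun h => hil (h ▸ hj)
        rw [hφe, hω0 j (hsuppl j hj) hji, zero_smul]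
      have hφi : φ (e i) = 1 := by rw [hφe, hω1, one_smul]
      have hA : φ H' = φ H := claimA l φ hφl H
      have h1 := congrArg φ hfix'
      rw [hs, map_sub, map_smul, hφi, smul_eq_mul, mul_one, hA] at h1
      have hai : ev (P.root' i) H' = 0 := by
        have := sub_eq_self.mp h1
        exact this
      have hHH : H' = H := by
        rw [← hfix', hs, hai, zero_smul, sub_zero]
      intro j hj
      rcases List.mem_cons.mp hj with rfl | hj'
      · rw [← hHH]; exact hai
      · exact ih hndl hsuppl H hHH j hj'
  -- transfer to the statement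
  have hprod : ∀ l : List ι,
      ((l.map (fun i => ((P.coreflection i : N ≃ₗ[ℤ] N) : N →ₗ[ℤ] N))).prod).baseChange k =
        (l.map s).prod := by
    intro l
    induction l with
    | nil => simp [LinearMap.baseChange_one]
    | cons i l ih =>
      rw [List.map_cons, List.prod_cons, List.map_cons, List.prod_cons, LinearMap.baseChange_mul, ih]
  rw [hprod] at hH
  intro i hi
  apply hev0
  exact claimB l hl (fun j hj => (hlb j).mp hj) H hH i ((hlb i).mpr hi)

end Groth.Agent.S15841
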