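import Groth.Statements.S15845
-- import your own Groth.Agent.* helpers here
import Mathlib

set_option autoImplicit false
universe u
open SprIso

namespace Groth.Agent.S15845

/-- General linear group case: this is the case G = GL_n with its upper-triangular Borel subgroup B
(derived group SL_n simply connected, all primes good, so the hypotheses on the characteristic
hold), together with the companion statement for a regular nilpotent element of Lie B. Let k be a
field and u an n × n upper-triangular matrix over k whose diagonal entries are all equal and whose
superdiagonal entries u_{i,i+1} are all non-zero — for diagonal 1 this is a regular unipotent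
element of B(k), for diagonal 0 a regular nilpotent element of Lie B. Then the centralizer of u in
GL_n is contained in B and is the product of the centre with the centralizer in the unipotent
radical: for every commutative k-algebra R and every invertible x ∈ M_n(R) commuting with u_R, x is
upper triangular and its diagonal entries are all equal. (The smoothness of the centralizer in the
unipotent radical, also part of the published statement, is not stated here.) -/
theorem result (k : Type u) [Field k] (n : ℕ)
    (u : Matrix (Fin n) (Fin n) k) (htri : ∀ i j : Fin n, j < i → u i j = 0) (hdiag : ∀ i j : Fin n, u i i = u j j)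
    (hreg : ∀ (i j : Fin n), j.val = i.val + 1 → u i j ≠ 0)
    (R : Type u) [CommRing R] [Algebra k R] (x : Matrix (Fin n) (Fin n) R) (hx : IsUnit x)
    (hxu : x * u.map (algebraMap k R) = u.map (algebraMap k R) * x) :
    (∀ i j : Fin n, j < i → x i j = 0) ∧ (∀ i j : Fin n, x i i = x j j) := by
  classical
  set U : Matrix (Fin n) (Fin n) R := u.map (algebraMap k R) with hU
  have hUapp : ∀ i j, U i j = algebraMap k R (u i j) := fun i j => rfl
  have hU0 : ∀ i j : Fin n, j < i → U i j = 0 := by
    intro i j hji
    rw [hUapp, htri i j hji, map_zero]
  have hUd : ∀ i j : Fin n, U i i = U j j := by
    intro i j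
    rw [hUapp, hUapp, hdiag i j]
  have hUu : ∀ i j : Fin n, j.val = i.val + 1 → IsUnit (U i j) := by
    intro i j hij
    rw [hUapp]
    exact (isUnit_iff_ne_zero.mpr (hreg i j hij)).map _
  have hcomm : ∀ i j : Fin n, ∑ l, x i l * U l j = ∑ l, U i l * x l j := by
    intro i j
    have := congrFun (congrFun hxu i) j
    rwa [Matrix.mul_apply, Matrix.mul_apply] at this
  -- (1) strictly lower entries vanish
  have key : ∀ J : ℕ, ∀ (i j : Fin n), j.val = J → j < i → x i j = 0 := by
    intro J
    induction J using Nat.strong_induction_on with
    | _ J ihJ =>
      have inner : ∀ m : ℕ, ∀ (i j : Fin n), j.val = J → j < i → n - i.val = m → x i j = 0 := by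
        intro m
        induction m using Nat.strong_induction_on with
        | _ m ihm =>
          intro i j hj hji hm
          have hji' : j.val < i.val := hji
          have hin : i.val < n := i.2
          let i' : Fin n := ⟨i.val - 1, by omega⟩
          have hi'i : i.val = i'.val + 1 := by simp only [i']; omega
          have hne : i' ≠ i := by
            intro h
            have := congrArg Fin.val h
            omega
          have hL : ∑ l, x i' l * U l j = x i' j * U j j := by
            apply Finset.sum_eq_single j
            · intro l _ hlj
              rcases lt_or_gt_of_ne hlj with h | h
              · -- l < j : x i' l = 0 by the outer induction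
                have hl : l.val < J := by rw [← hj]; exact h
                have : x i' l = 0 := ihJ l.val hl i' l rfl (by
                  show l.val < i'.val
                  simp only [i']; omega)
                rw [this, zero_mul]
              · rw [hU0 l j h, mul_zero]
            · intro h; exact absurd (Finset.mem_univ j) h
          have hR : ∑ l, U i' l * x l j = U i' i' * x i' j + U i' i * x i j := by
            apply Finset.sum_eq_add i' i hne
            · intro l _ hl
              rcases lt_or_gt_of_ne hl.1 with h | h
              · rw [hU0 i' l h, zero_mul]
              · -- l > i', l ≠ i hence l > i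
                have hli : i.val < l.val := by
                  have h1 : i'.val < l.val := h
                  have h2 : l.val ≠ i.val := fun h3 => hl.2 (Fin.ext h3)
                  omega
                have : x l j = 0 := ihm (n - l.val) (by have := l.2; omega) l j hj
                  (by show j.val < l.val; omega) rfl
                rw [this, mul_zero]
            · intro h; exact absurd (Finset.mem_univ i') h
            · intro h; exact absurd (Finset.mem_univ i) h
          have h3 := hcomm i' j
          rw [hL, hR, hUd j i', mul_comm (x i' j)] at h3
          have h4 : U i' i * x i j = 0 := by
            have := sub_eq_zero.mpr h3.symm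
            rwa [add_sub_cancel_left] at this
          exact ((hUu i' i hi'i).mul_right_eq_zero).mp h4
      intro i j hj hji
      exact inner (n - i.val) i j hj hji rfl
  have hlow : ∀ i j : Fin n, j < i → x i j = 0 := fun i j hji => key j.val i j rfl hji
  refine ⟨hlow, ?_⟩
  -- (2) consecutive diagonal entries agree
  have hstep : ∀ i i' : Fin n, i'.val = i.val + 1 → x i i = x i' i' := by
    intro i i' hii'
    have hne : i ≠ i' := by
      intro h
      have := congrArg Fin.val h
      omega
    have hL : ∑ l, x i l * U l i' = x i i * U i i' + x i i' * U i' i' := by
      apply Finset.sum_eq_add i i' hne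
      · intro l _ hl
        rcases lt_or_gt_of_ne hl.1 with h | h
        · rw [hlow i l h, zero_mul]
        · have hli : i'.val < l.val := by
            have h1 : i.val < l.val := h
            have h2 : l.val ≠ i'.val := fun h3 => hl.2 (Fin.ext h3)
            omega
          rw [hU0 l i' hli, mul_zero]
      · intro h; exact absurd (Finset.mem_univ i) h
      · intro h; exact absurd (Finset.mem_univ i') h
    have hR : ∑ l, U i l * x l i' = U i i * x i i' + U i i' * x i' i' := by
      apply Finset.sum_eq_add i i' hne
      · intro l _ hl
        rcases lt_or_gt_of_ne hl.1 with h | h
        · rw [hU0 i l h, zero_mul]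
        · have hli : i'.val < l.val := by
            have h1 : i.val < l.val := h
            have h2 : l.val ≠ i'.val := fun h3 => hl.2 (Fin.ext h3)
            omega
          rw [hlow l i' hli, mul_zero]
      · intro h; exact absurd (Finset.mem_univ i) h
      · intro h; exact absurd (Finset.mem_univ i') h
    have h3 := hcomm i i'
    rw [hL, hR, hUd i' i] at h3
    have h4 : U i i' * (x i i - x i' i') = 0 := by
      have : x i i * U i i' + x i i' * U i i - (U i i * x i i' + U i i' * x i' i') = 0 :=
        sub_eq_zero.mpr h3
      rw [← this]; ring
    have h5 := ((hUu i i' hii').mul_right_eq_zero).mp h4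
    exact sub_eq_zero.mp h5
  have hall : ∀ m : ℕ, ∀ i z : Fin n, z.val = 0 → i.val = m → x i i = x z z := by
    intro m
    induction m with
    | zero =>
      intro i z hz hi
      have : i = z := Fin.ext (by omega)
      rw [this]
    | succ m ih =>
      intro i z hz hi
      have hin : i.val < n := i.2
      let i₀ : Fin n := ⟨m, by omega⟩
      rw [← hstep i₀ i (by simp only [i₀]; omega)]
      exact ih i₀ z hz rfl
  intro i j
  have hn : 0 < n := lt_of_le_of_lt (Nat.zero_le _) i.2
  rw [hall i.val i ⟨0, hn⟩ rfl rfl, hall j.val j ⟨0, hn⟩ rfl rfl]

end Groth.Agent.S15845
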