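import Groth.Statements.S15884
-- import your own Groth.Agent.* helpers here
import Groth.Agent.Lib.Helper23.BMExt
import Groth.Agent.S15886

set_option autoImplicit false
universe u
open CategoryTheory AlgebraicGeometry Opposite
open BMCoh

namespace Groth.Agent.S15884



/-- Let T be a twisted Borel–Moore cohomology theory with coefficients in A on a constructible class V
of Noetherian schemes, X an object of V, M a coefficient module, i and n integers and j a natural
number with i ≤ 2j (that is, j is at least the ceiling of i/2). Then the canonical map H^i(X, M(n))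
→ H^i(F_jX, M(n)), to the colimit of H^i(U, M(n)) over the open subschemes U of X that contain every
point of codimension at most j (codimension of a point = dim X minus the dimension of its closure),
is bijective. -/
theorem result (V : ObjectProperty Scheme.{u}) [BMCoh.IsConstructible V] (R : Type u) [CommRing R] (A : BMCoh.Coefs R) (T : BMCoh.TheoryOn V R A) (X : BMCoh.Obj V) (M : A.Cat) (j : ℕ) (i n : ℤ) (hj : i ≤ 2 * (j : ℤ)) : Function.Bijective ((T.toFj X j i n).app M).hom := by
  open Groth.Agent.Lib.Helper23.BMObj Groth.Agent.Lib.Helper23.BMColim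
    Groth.Agent.Lib.Helper23.BMObj2 Groth.Agent.Lib.Helper23.BMData
    Groth.Agent.Lib.Helper23.BMGeom in
  classical
  -- every open containing all points is the whole space
  have htop : ∀ (m : ℕ), WeilCoh.dim X.scheme ≤ m → ∀ U : X.scheme.Opens, ContainsFj X m U →
      U = ⊤ := by
    intro m hm U hU
    apply top_le_iff.mp
    intro y _
    exact hU y ((Nat.sub_le _ _).trans hm)
  have hisoTop : IsIso (X.resTop).hom := by
    change IsIso (X.scheme.topIso).hom
    infer_instance
  -- the value of toFj on elements
  have htoFj : ∀ (m : ℕ) (a : T.gp X M i n), ((T.toFj X m i n).app M).hom a =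
      ((T.fjι X m i n (fjMk X m ⊤ (fun _ _ => trivial))).app M).hom
        ((T.pull X.resTop M i n).hom a) := fun m a => rfl
  -- Lemma A
  have hA : ∀ m : ℕ, WeilCoh.dim X.scheme ≤ m → Function.Bijective ((T.toFj X m i n).app M).hom := by
    intro m hm
    have hbt := pull_bijective_of_isIso T.toPreTheory X.resTop M i n
    constructor
    · rw [injective_iff_map_eq_zero]
      intro a ha
      rw [htoFj] at ha
      obtain ⟨U', hU'F, hle, hd, hz⟩ := (fjι_eq_zero_iff T.toPreTheory X m M i n ⊤ _ _).mp ha
      have hU'top : ⊤ ≤ U' := (htop m hm U' hU'F).ge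
      have hb := pull_resLE_bijective_of_eq T.toPreTheory X hle hU'top hd M i n
      have h1 : (T.pull X.resTop M i n).hom a = 0 := hb.1 (hz.trans (map_zero _).symm)
      exact hbt.1 (h1.trans (map_zero _).symm)
    · intro a'
      obtain ⟨U, hUF, b, rfl⟩ := fj_exists_rep T.toPreTheory X m M i n a'
      have hUtop : ⊤ ≤ U := (htop m hm U hUF).ge
      have hdU : WeilCoh.dim (U : Scheme.{u}) = WeilCoh.dim ((⊤ : X.scheme.Opens) : Scheme.{u}) :=
        (dim_eq_of_containsFj X m U hUF).trans (dim_top X.scheme).symm
      have hb := pull_resLE_bijective_of_eq T.toPreTheory X (le_top : U ≤ ⊤) hUtop hdU M i n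
      obtain ⟨b', rfl⟩ := hb.2 b
      obtain ⟨a, rfl⟩ := hbt.2 b'
      refine ⟨a, ?_⟩
      rw [htoFj]
      exact (fjι_resLE_apply T.toPreTheory X m M i n ⊤ U (fun _ _ => trivial) hUF le_top hdU _).symm
  -- Lemma B
  have hB : ∀ m : ℕ, j ≤ m → Function.Bijective ((T.toFj X (m + 1) i n).app M).hom →
      Function.Bijective ((T.toFj X m i n).app M).hom := by
    intro m hjm hbij
    have hjm' : (j : ℤ) ≤ (m : ℤ) := by exact_mod_cast hjm
    have hres := Groth.Agent.S15886.result V R A T X M m i n
      (fun x _ => T.pt_vanish X x M _ _ (by linarith))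
      (fun x _ => T.pt_vanish X x M _ _ (by linarith))
    have hcomp : ((T.toFj X m i n).app M).hom =
        ((T.fjRes X (Nat.le_succ m) i n).app M).hom ∘ ((T.toFj X (m + 1) i n).app M).hom := by
      funext a
      rw [Function.comp_apply, htoFj, htoFj, fjRes_fjι_apply]
    rw [hcomp]
    exact hres.comp hbij
  -- downward induction
  have hmain : ∀ (t m : ℕ), WeilCoh.dim X.scheme ≤ m + t → j ≤ m →
      Function.Bijective ((T.toFj X m i n).app M).hom := by
    intro t
    induction t with
    | zero => intro m hm _; exact hA m hm
    | succ t ih =>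
      intro m hm hjm
      exact hB m hjm (ih (m + 1) (by omega) (by omega))
  exact hmain (WeilCoh.dim X.scheme) j (by omega) (le_refl j)

end Groth.Agent.S15884
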