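import Groth.Statements.S15885
-- import your own Groth.Agent.* helpers here
import Groth.Agent.Lib.Helper23.BMZero2
import Groth.Agent.S15886

set_option autoImplicit false
universe u
open CategoryTheory AlgebraicGeometry Opposite
open BMCoh

namespace Groth.Agent.S15885



/-- Let T be a twisted Borel–Moore cohomology theory with coefficients in A on a constructible class V
of Noetherian schemes and M a coefficient module. Assume there is a natural number c such that for
every object Y of V and every point y of Y the groups H^i(y, M(n)) of the point y vanish for all n
and all i > dim(closure of y) + c. Then for every reduced object X of V and every natural number j,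
H^i(F_jX, M(n)) = 0 for all n and all i > dim X + j + c. (This row takes X reduced: the groups of a
point are formed on the closure of the point with its reduced structure, and for a non-reduced X the
identification of the groups of F_0X with those of the generic points of the top-dimensional
components would need insensitivity of the theory to nilpotents, which is not among the conditions
imposed on a theory here; the published statement carries no reducedness hypothesis. The bound in
the hypothesis is read with the dimension of the closure of the point, as the inequalities of the
published proof require.) -/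
theorem result (V : ObjectProperty Scheme.{u}) [BMCoh.IsConstructible V] (R : Type u) [CommRing R] (A : BMCoh.Coefs R) (T : BMCoh.TheoryOn V R A) (M : A.Cat) (c : ℕ) (hc : ∀ (Y : BMCoh.Obj V) (y : Y.scheme) (i n : ℤ), (WeilCoh.pdim Y.scheme y : ℤ) + c < i → Limits.IsZero (T.ptGp Y y M i n)) (X : BMCoh.Obj V) [IsReduced X.scheme] (j : ℕ) (i n : ℤ) (hi : (WeilCoh.dim X.scheme : ℤ) + j + c < i) : Limits.IsZero (T.fjGp X j M i n) := by
  open Groth.Agent.Lib.Helper23.BMObj Groth.Agent.Lib.Helper23.BMZero2 in
  classical
  have hmain : ∀ (j : ℕ) (i n : ℤ), (WeilCoh.dim X.scheme : ℤ) + j + c < i →
      Limits.IsZero (T.fjGp X j M i n) := by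
    intro j
    induction j with
    | zero =>
      intro i n hi
      apply isZero_fjGp_zero T.toPreTheory X M i n
      intro x hx
      apply hc X x i n
      have h1 := pdim_le_dim X x
      have h1' : (WeilCoh.pdim X.scheme x : ℤ) ≤ (WeilCoh.dim X.scheme : ℤ) := by exact_mod_cast h1
      push_cast at hi
      linarith
    | succ j ih =>
      intro i n hi
      have hpd : ∀ x : X.scheme, WeilCoh.codim X.scheme x = j + 1 →
          (WeilCoh.pdim X.scheme x : ℤ) = (WeilCoh.dim X.scheme : ℤ) - ((j : ℤ) + 1) := by
        intro x hx
        have h1 := codim_cast X x
        rw [hx] at h1
        push_cast at h1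
        linarith
      push_cast at hi
      have hbij := Groth.Agent.S15886.result V R A T X M j i n
        (fun x hx => hc X x _ _ (by rw [hpd x hx]; linarith))
        (fun x hx => hc X x _ _ (by rw [hpd x hx]; linarith))
      have hz := ih i n (by linarith)
      rw [ModuleCat.isZero_iff_subsingleton] at hz ⊢
      exact hbij.1.subsingleton
  exact hmain j i n hi

end Groth.Agent.S15885
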