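import Groth.Statements.S15888
-- import your own Groth.Agent.* helpers here
import Groth.Agent.Lib.Helper23.BMBig
import Groth.Agent.S15884

set_option autoImplicit false
universe u
open CategoryTheory AlgebraicGeometry Opposite
open BMCoh

namespace Groth.Agent.S15888



/-- Let T be a twisted Borel–Moore cohomology theory with coefficients in A on a constructible class V
of Noetherian schemes, X an object of V whose underlying scheme is integral, and f : U → X a
morphism of V (an open immersion with dim U = dim X) whose image is a big open subset: every point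
of X outside the image has codimension at least 2 in X, that is, its closure has dimension less than
dim X − 1. Then for every coefficient module M and every integer n the restriction map H^2(X, M(n))
→ H^2(U, M(n)) along f is bijective. (The published remark is made for the rank-one Tate-twisted
coefficients of an ℓ-adic theory; the exactness-and-vanishing argument it indicates involves neither
the coefficient module nor the twist, and the statement is made here for all of them.) -/
theorem result (V : ObjectProperty Scheme.{u}) [BMCoh.IsConstructible V] (R : Type u) [CommRing R] (A : BMCoh.Coefs R) (T : BMCoh.TheoryOn V R A) {U X : BMCoh.Obj V} [IsIntegral X.scheme] (f : U ⟶ X) (hbig : ∀ x : X.scheme, x ∉ Set.range f.hom → 2 ≤ WeilCoh.codim X.scheme x) (M : A.Cat) (n : ℤ) : Function.Bijective (T.pull f M 2 n).hom := by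
  open Groth.Agent.Lib.Helper23.BMObj Groth.Agent.Lib.Helper23.BMColim
    Groth.Agent.Lib.Helper23.BMObj2 Groth.Agent.Lib.Helper23.BMData
    Groth.Agent.Lib.Helper23.BMGeom Groth.Agent.Lib.Helper23.BMPart
    Groth.Agent.Lib.Helper23.BMBig in
  classical
  -- the value of toFj on elements, through an open containing F_m
  have htoFj : ∀ (Y : BMCoh.Obj V) (m : ℕ) (i : ℤ) (O : Y.scheme.Opens) (hOF : ContainsFj Y m O)
      (a : T.gp Y M i n),
      ((T.toFj Y m i n).app M).hom a = ((T.fjι Y m i n (fjMk Y m O hOF)).app M).hom
        ((T.pull (Y.resι O (dim_eq_of_containsFj Y m O hOF)) M i n).hom a) := by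
    intro Y m i O hOF a
    have hdO : WeilCoh.dim (O : Scheme.{u}) = WeilCoh.dim ((⊤ : Y.scheme.Opens) : Scheme.{u}) :=
      (dim_eq_of_containsFj Y m O hOF).trans (dim_top Y.scheme).symm
    have h1 : ((T.toFj Y m i n).app M).hom a =
        ((T.fjι Y m i n (fjMk Y m ⊤ (fun _ _ => trivial))).app M).hom
          ((T.pull Y.resTop M i n).hom a) := rfl
    rw [h1, ← fjι_resLE_apply T.toPreTheory Y m M i n ⊤ O (fun _ _ => trivial) hOF le_top hdO,
      ← pull_comp_apply]
    have h2 : Y.resLE (le_top : O ≤ ⊤) hdO ≫ Y.resTop =
        Y.resι O (dim_eq_of_containsFj Y m O hOF) :=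
      Hom.ext (Scheme.homOfLE_ι Y.scheme le_top)
    rw [h2]
  let O : X.scheme.Opens := f.hom.opensRange
  have hOF : ContainsFj X 1 O := by
    intro y hy
    by_contra hyO
    have := hbig y hyO
    omega
  have hdO := dim_eq_of_containsFj X 1 O hOF
  have hsub : Set.range f.hom ⊆ O := fun _ h => h
  -- f factors through an isomorphism onto X.res O
  have hfac := liftOpen_fac f O hsub
  have hsurj : Function.Surjective (liftOpen f O hsub).hom := by
    intro w
    obtain ⟨z, hz⟩ := w.2
    refine ⟨z, ?_⟩
    apply Subtype.ext
    rw [liftOpen_apply]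
    exact hz
  haveI := isIso_hom_of_surjective (liftOpen f O hsub) hsurj
  have hb1 := pull_bijective_of_isIso T.toPreTheory (liftOpen f O hsub) M 2 n
  -- the main claim
  have hX := Groth.Agent.S15884.result V R A T X M 1 2 n (by norm_num)
  have hOb := Groth.Agent.S15884.result V R A T (X.res O) M 1 2 n (by norm_num)
  have key2 : ∀ c : T.gp (X.res O) M 2 n,
      ((T.fjι X 1 2 n (fjMk X 1 O hOF)).app M).hom c = 0 → c = 0 := by
    intro c hc
    obtain ⟨O', hO'F, hle, hd, hz⟩ := (fjι_eq_zero_iff T.toPreTheory X 1 M 2 n O hOF c).mp hc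
    have hz' := pull_resι_preimage_eq_zero T.toPreTheory X hle hd M 2 n c hz
    have hO''F : ContainsFj (X.res O) 1 (O.ι ⁻¹ᵁ O') := containsFj_preimage X O hdO 1 O' hO'F
    apply hOb.1
    rw [map_zero, htoFj (X.res O) 1 2 (O.ι ⁻¹ᵁ O') hO''F c]
    exact (congrArg _ hz').trans (map_zero _)
  have hmain : Function.Bijective (T.pull (X.resι O hdO) M 2 n).hom := by
    constructor
    · intro a a' haa'
      apply hX.1
      rw [htoFj X 1 2 O hOF a, htoFj X 1 2 O hOF a', haa']
    · intro b
      obtain ⟨a, ha⟩ := hX.2 (((T.fjι X 1 2 n (fjMk X 1 O hOF)).app M).hom b)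
      refine ⟨a, ?_⟩
      rw [htoFj X 1 2 O hOF a] at ha
      have := key2 ((T.pull (X.resι O hdO) M 2 n).hom a - b) (by rw [map_sub, ha, sub_self])
      exact sub_eq_zero.mp this
  have hcomp : (T.pull f M 2 n).hom =
      (T.pull (liftOpen f O hsub) M 2 n).hom ∘ (T.pull (X.resι O hdO) M 2 n).hom := by
    funext a
    rw [Function.comp_apply, ← pull_comp_apply]
    exact congrArg (fun g => (T.pull g M 2 n).hom a) hfac.symm
  rw [hcomp]
  exact hb1.comp hmain

end Groth.Agent.S15888
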