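import Groth.Statements.S15892
import Groth.Agent.Lib.Helper19.CartExact

set_option autoImplicit false
universe u
open CartDual

namespace Groth.Agent.S15892

/-- Let R be a Noetherian ring and A', A, A'' commutative and cocommutative Hopf algebras over R, each
finitely generated and projective as an R-module (finite flat commutative R-groups G' = Spec A', G =
Spec A, G'' = Spec A''). Let f : A'' → A be a bialgebra homomorphism which is faithfully flat as a
ring map (the comorphism of a faithfully flat homomorphism π : G → G'') and g : A → A' a surjective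
bialgebra homomorphism whose kernel is the ideal of A generated by the image under f of the
augmentation ideal of A'' (the comorphism of a closed immersion ι : G' → G identifying G' with the
kernel of π), so that 1 → G' → G → G'' → 1 is a short exact sequence of finite flat R-groups. Then
the Cartier dual sequence 1 → G''^D → G^D → G'^D → 1 is again short exact: the transpose Hom_R(A',
R) → Hom_R(A, R) of g is a faithfully flat ring map between the dual Hopf algebras, and the
transpose Hom_R(A, R) → Hom_R(A'', R) of f is surjective with kernel the ideal generated by the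
image, under the transpose of g, of the augmentation ideal of Hom_R(A', R). -/
theorem result (R : Type u) [CommRing R] [IsNoetherianRing R]
    (A' A A'' : Type u) [CommRing A'] [HopfAlgebra R A'] [Coalgebra.IsCocomm R A'] [Module.Finite R A']
    [Module.Projective R A'] [CommRing A] [HopfAlgebra R A] [Coalgebra.IsCocomm R A] [Module.Finite R A]
    [Module.Projective R A] [CommRing A''] [HopfAlgebra R A''] [Coalgebra.IsCocomm R A''] [Module.Finite R A'']
    [Module.Projective R A''] (f : A'' →ₐc[R] A) (hf : (f : A'' →ₐ[R] A).toRingHom.FaithfullyFlat)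
    (g : A →ₐc[R] A') (hg : Function.Surjective g)
    (hker : RingHom.ker (g : A →ₐ[R] A') = Ideal.map (f : A'' →ₐ[R] A) (RingHom.ker (Bialgebra.counitAlgHom R A''))) :
    (CartDual.transpose R g : CartDual.D R A' →ₐ[R] CartDual.D R A).toRingHom.FaithfullyFlat ∧
      Function.Surjective (CartDual.transpose R f) ∧
      RingHom.ker (CartDual.transpose R f : CartDual.D R A →ₐ[R] CartDual.D R A'') =
        Ideal.map (CartDual.transpose R g : CartDual.D R A' →ₐ[R] CartDual.D R A)
          (RingHom.ker (Bialgebra.counitAlgHom R (CartDual.D R A'))) := by
  have hgf : ∀ c, g (f c) = algebraMap R A' (Coalgebra.counit (R := R) c) := by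
    intro c
    have h1 : (f : A'' →ₐ[R] A) (c - algebraMap R A'' (Coalgebra.counit (R := R) c)) ∈
        RingHom.ker (g : A →ₐ[R] A') := by
      rw [hker]
      apply Ideal.mem_map_of_mem
      rw [RingHom.mem_ker, map_sub]
      show Coalgebra.counit (R := R) c -
        Coalgebra.counit (R := R) (algebraMap R A'' (Coalgebra.counit (R := R) c)) = 0
      rw [Bialgebra.counit_algebraMap, sub_self]
    rw [RingHom.mem_ker] at h1
    have h2 : g (f c) - g (f (algebraMap R A'' (Coalgebra.counit (R := R) c))) = 0 := by
      rw [← map_sub, ← map_sub]
      exact h1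
    rw [sub_eq_zero] at h2
    rw [h2, AlgHomClass.commutes, AlgHomClass.commutes]
  have hfT := Groth.Agent.Lib.Helper19.CartExact.transpose_surjective R f hf
  obtain ⟨hfin, hproj⟩ := Groth.Agent.Lib.Helper19.KT.hopfMap_main (CartDual.transpose R f) hfT
  haveI := hfin
  haveI := hproj
  have hginj : Function.Injective (CartDual.transpose R g) := by
    intro ψ ψ' h
    apply WithConv.ofConv_injective
    apply LinearMap.ext
    intro a'
    obtain ⟨a, rfl⟩ := hg a'
    exact congrArg (fun χ : CartDual.D R A => χ a) h
  refine ⟨?_, hfT, ?_⟩
  · exact Groth.Agent.Lib.Helper19.CartExact.faithfullyFlat_of_range_eq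
      (CartDual.transpose R g : CartDual.D R A' →ₐ[R] CartDual.D R A) hginj
      (Groth.Agent.Lib.Helper19.KT.coinv
        (Groth.Agent.Lib.Helper19.KT.rhoP (CartDual.transpose R f)))
      (fun ψ => Groth.Agent.Lib.Helper19.CartExact.transpose_mem_coinv R hgf ψ)
      (fun b hb => Groth.Agent.Lib.Helper19.CartExact.exists_of_mem_coinv R hg hker hb)
  · apply le_antisymm
    · intro v hv
      have hv' : CartDual.transpose R f v = 0 := hv
      have h1 := Groth.Agent.Lib.Helper19.KT.ker_le_span (CartDual.transpose R f) hfT hv'
      refine (Ideal.span_le.2 ?_) h1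
      rintro b ⟨hbB, hb0⟩
      obtain ⟨ψ, rfl⟩ := Groth.Agent.Lib.Helper19.CartExact.exists_of_mem_coinv R hg hker hbB
      apply Ideal.mem_map_of_mem
      rw [RingHom.mem_ker]
      have h3 : Coalgebra.counit (R := R) (CartDual.transpose R g ψ) =
          Coalgebra.counit (R := R) ψ :=
        CoalgHomClass.counit_comp_apply (CartDual.transpose R g) ψ
      rw [h3] at hb0
      exact hb0
    · rw [Ideal.map_le_iff_le_comap]
      intro ψ hψ
      rw [Ideal.mem_comap, RingHom.mem_ker]
      apply WithConv.ofConv_injective
      apply LinearMap.ext
      intro c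
      show ψ (g (f c)) = 0
      rw [hgf, Algebra.algebraMap_eq_smul_one, map_smul]
      have h0 : ψ 1 = 0 := hψ
      rw [h0, smul_zero]

end Groth.Agent.S15892
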