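import Groth.Statements.S15893
import Groth.Agent.Lib.Helper24.CartDual

set_option autoImplicit false
universe u v w
open CartDual

namespace Groth.Agent.S15893

open Groth.Agent.Lib.Helper24

/-- Let R be a commutative ring and A, B commutative and cocommutative Hopf algebras over R, each
finitely generated and projective as an R-module (finite locally free commutative group schemes G =
Spec A, H = Spec B over Spec R). Then Cartier duality is a fully faithful contravariant functor: the
map sending a bialgebra homomorphism f : A → B (a homomorphism of group schemes H → G) to its
transpose between the dual Hopf algebras, Hom_R(B, R) → Hom_R(A, R) (the dual homomorphism G^D →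
H^D), is a bijection between bialgebra homomorphisms A → B and bialgebra homomorphisms Hom_R(B, R) →
Hom_R(A, R). (The published statement also asserts that the canonical map to the double dual is an
isomorphism, which makes duality an involutory anti-equivalence; that part is not restated here. The
published notes work over a Noetherian base ring; the row allows any commutative base ring.) -/
theorem result (R : Type u) [CommRing R] (A : Type v) (B : Type w)
    [CommRing A] [HopfAlgebra R A] [Coalgebra.IsCocomm R A] [Module.Finite R A] [Module.Projective R A]
    [CommRing B] [HopfAlgebra R B] [Coalgebra.IsCocomm R B] [Module.Finite R B] [Module.Projective R B] :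
    Function.Bijective (fun f : A →ₐc[R] B => CartDual.transpose R f) := by
  constructor
  · intro f g h
    apply BialgHom.ext
    intro a
    apply eq_of_forall_D_apply_eq R B
    intro x
    have := congrArg (fun φ : D R B →ₐc[R] D R A => φ x a) h
    simpa using this
  · intro φ
    let f : A →ₐc[R] B :=
      (((evalEquiv R B).symm : D R (D R B) →ₐc[R] B).comp (transpose R φ)).comp (eval R A)
    refine ⟨f, ?_⟩
    apply BialgHom.ext
    intro x
    apply WithConv.ext
    apply LinearMap.ext
    intro a
    change x (f a) = φ x a
    have h1 : f a = (evalEquiv R B).symm (transpose R φ (eval R A a)) := rfl
    rw [h1, evalEquiv_apply_symm_apply]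
    simp

end Groth.Agent.S15893
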