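import Groth.Statements.S15895
import Groth.Agent.Lib.Helper24.CartDual

set_option autoImplicit false
universe u
open scoped TensorProduct
open Versch

namespace Groth.Agent.S15895

open Groth.Agent.Lib.Helper24

theorem algebraMap_inj' (R : Type u) [CommRing R] (G : Type) [CommGroup G] :
    Function.Injective (algebraMap R (MonoidAlgebra R G)) := by
  intro r s h
  have := congrArg (fun f : MonoidAlgebra R G => f.coeff 1) h
  simpa [MonoidAlgebra.coe_algebraMap] using this

instance charP_monoidAlgebra (p : ℕ) (R : Type u) [CommRing R] [CharP R p] (G : Type) [CommGroup G] :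
    CharP (MonoidAlgebra R G) p :=
  charP_of_injective_algebraMap (algebraMap_inj' R G) p

theorem pow_p_eq (p : ℕ) [Fact p.Prime] (R : Type u) [CommRing R] [CharP R p]
    (a : MonoidAlgebra R (Multiplicative (ZMod p))) :
    a ^ p = MonoidAlgebra.single 1 ((Coalgebra.counit (R := R) a) ^ p) := by
  have h : frobenius (MonoidAlgebra R (Multiplicative (ZMod p))) p =
      ((algebraMap R (MonoidAlgebra R (Multiplicative (ZMod p)))).comp (frobenius R p)).comp
        (Bialgebra.counitAlgHom R (MonoidAlgebra R (Multiplicative (ZMod p)))).toRingHom := by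
    apply MonoidAlgebra.ringHom_ext
    · intro r
      rw [frobenius_def, MonoidAlgebra.single_pow]
      simp [frobenius_def, MonoidAlgebra.coe_algebraMap]
    · intro g
      have hg : g ^ p = 1 := by
        have : (p : ℕ) • (Multiplicative.toAdd g) = 0 := by
          simp
        exact this
      rw [frobenius_def, MonoidAlgebra.single_pow, hg]
      simp [frobenius_def, MonoidAlgebra.coe_algebraMap]
  have := congrArg (fun f : MonoidAlgebra R (Multiplicative (ZMod p)) →+* MonoidAlgebra R (Multiplicative (ZMod p)) => f a) h
  simpa [frobenius_def, MonoidAlgebra.coe_algebraMap] using this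


/-- Let p be a prime, R a commutative ring of characteristic p and B = Hom_R(R[ℤ/p], R) the dual Hopf
algebra of the group algebra of the cyclic group of order p: the Hopf algebra of the constant group
scheme ℤ/p over Spec R (the Cartier dual of μ_p). Let v : B → B ⊗_R R^(Frob) be the comorphism of
the Verschiebung V : (ℤ/p)^(p) → ℤ/p (the ring map whose transpose under the canonical pairing is
the relative Frobenius of the dual Hopf algebra of B). Then V is the trivial homomorphism: v is the
composite of the counit ε : B → R, the identity of underlying rings R → R^(Frob) and the inclusion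
of the twisted factor R^(Frob) → B ⊗_R R^(Frob), i.e. v(b) = 1 ⊗ ε(b). -/
theorem result (p : ℕ) [Fact p.Prime] (R : Type u) [CommRing R]
    [CharP R p] (v : CartDual.D R (MonoidAlgebra R (Multiplicative (ZMod p))) →+* FrobAlg.BaseChange p R (CartDual.D R (MonoidAlgebra R (Multiplicative (ZMod p)))))
    (hv : Versch.IsVerschiebung p R (CartDual.D R (MonoidAlgebra R (Multiplicative (ZMod p)))) v) :
    v = ((Algebra.TensorProduct.includeRight (R := R) (A := CartDual.D R (MonoidAlgebra R (Multiplicative (ZMod p))))
            (B := FrobAlg.Twist p R)).toRingHom.comp (FrobAlg.toTwist p R).toRingHom).comp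
          (Bialgebra.counitAlgHom R (CartDual.D R (MonoidAlgebra R (Multiplicative (ZMod p))))).toRingHom := by
  rw [isVerschiebung_iff] at hv
  apply RingHom.ext
  intro b
  refine evTw_injective p R (CartDual.D R (MonoidAlgebra R (Multiplicative (ZMod p)))) ?_
  intro ξ
  rw [hv]
  obtain ⟨a, rfl⟩ := eval_bijective R (MonoidAlgebra R (Multiplicative (ZMod p))) |>.2 ξ
  rw [← map_pow (CartDual.eval R (MonoidAlgebra R (Multiplicative (ZMod p)))) a p]
  simp only [RingHom.coe_comp, Function.comp_apply, AlgHom.toRingHom_eq_coe, RingHom.coe_coe,
    Algebra.TensorProduct.includeRight_apply, RingEquiv.toRingHom_eq_coe, evTw_tmul',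
    CartDual.eval_apply, Bialgebra.counitAlgHom_apply, CartDual.coalgebra_counit_apply]
  rw [pow_p_eq, ← map_mul]
  congr 1
  rw [LinearMap.convOne_apply]
  have h1 : (MonoidAlgebra.single 1 (CoalgebraStruct.counit (R := R) a ^ p) : MonoidAlgebra R (Multiplicative (ZMod p))) =
      (CoalgebraStruct.counit (R := R) a ^ p) • (1 : MonoidAlgebra R (Multiplicative (ZMod p))) := by
    rw [MonoidAlgebra.one_def, MonoidAlgebra.smul_single, smul_eq_mul, mul_one]
  rw [h1, map_smul, smul_eq_mul]
  rfl

end Groth.Agent.S15895
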