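import Groth.Statements.S15897

set_option autoImplicit false
universe u v
open CartDual

namespace Groth.Agent.S15897

open TensorProduct in
theorem ev₂_comm_gen (R : Type u) [CommRing R] (A : Type v) [CommRing A] [Algebra R A]
    [Module.Finite R A] [Module.Projective R A] (y : D R A ⊗[R] D R A) (t : A ⊗[R] A) :
    ev₂ R A (TensorProduct.comm R _ _ y) t = ev₂ R A y (TensorProduct.comm R _ _ t) := by
  induction t using TensorProduct.induction_on with
  | zero => simp
  | tmul a b => simpa using ev₂_comm R A y a b
  | add t t' ht ht' => simp [map_add, ht, ht']

open TensorProduct in
theorem ev₂_tmul_comul (R : Type u) [CommRing R] (A : Type v) [CommRing A] [HopfAlgebra R A]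
    [Module.Finite R A] [Module.Projective R A] (x z : D R A) (a : A) :
    ev₂ R A (x ⊗ₜ z) (Coalgebra.comul (R := R) a) = (x * z) a := by
  rw [ev₂_tmul_eq', LinearMap.convMul_apply]
  rfl

/-- Let R be a commutative ring and A a commutative Hopf algebra over R which is finitely generated and
projective as an R-module (a finite locally free R-group scheme G = Spec A, not assumed
commutative). If the convolution product on the dual Hopf algebra Hom_R(A, R) is commutative, then A
is cocommutative, i.e. G is a commutative group scheme. (The dual Hopf algebra is commutative
exactly when A is cocommutative; the other implication is immediate and not stated. The published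
notes work over a Noetherian base ring; the row allows any commutative base ring.) -/
theorem result (R : Type u) [CommRing R] (A : Type v) [CommRing A] [HopfAlgebra R A]
    [Module.Finite R A] [Module.Projective R A] (h : ∀ x y : CartDual.D R A, x * y = y * x) :
    Coalgebra.IsCocomm R A := by
  constructor
  apply LinearMap.ext
  intro a
  rw [LinearMap.comp_apply]
  rw [← sub_eq_zero]
  rw [← Module.forall_dual_apply_eq_zero_iff R]
  intro φ
  obtain ⟨y, rfl⟩ := (ev₂ R A).surjective φ
  rw [map_sub, sub_eq_zero]
  change ev₂ R A y (TensorProduct.comm R A A (Coalgebra.comul a)) = _
  rw [← ev₂_comm_gen]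
  induction y using TensorProduct.induction_on with
  | zero => simp
  | tmul x z =>
    rw [TensorProduct.comm_tmul, ev₂_tmul_comul, ev₂_tmul_comul, h]
  | add y y' hy hy' => simp only [map_add, LinearMap.add_apply, hy, hy']

end Groth.Agent.S15897
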