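import Groth.Statements.S15903
import Groth.Agent.Lib.Helper25.CycTens
set_option linter.style.haveILetI false

set_option autoImplicit false
universe u
open CategoryTheory AlgebraicGeometry Opposite
open KoszSh

namespace Groth.Agent.S15903

/-- Let X be a scheme, Y and D effective Cartier divisors on X with ideal sheaves I = O(-Y) and I_D =
O(-D) (each locally generated by a single non-zero-divisor), and n a natural number. Let K be a
Koszul complex of the cosection ⊕_{i=1}^n O(-Y) → O_X each of whose n components is the inclusion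
O(-Y) → O_X (the complex computing Tor_q(O_Y, …, O_Y) with n copies of Y), with cycle sheaves Z_q =
Ker(K_q → K_{q-1}), and let K_D be a Koszul complex of the cosection ⊕_{i=1}^n O(-D) → O_X, again
with every component the inclusion, whose homology sheaves H_q(K_D) compute Tor_q(O_D, …, O_D) with
n copies of D. Write M|_D = j_* j^* M for an O_X-module M, where j : D → X is the closed immersion.
Then for every q ≥ 0 two things hold. First, for every q-th exterior power L of the free module
O_X^{n-1} (affine-local characterisation of exterior powers), Z_q is isomorphic to L ⊗ I^{⊗ q}, that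
is Z_q ≅ ∧^q O_X^{n-1} ⊗ O(-qY). Second, if n ≥ 1, then (Z_q ⊗ I_D^{⊗ q})|_D = Z_q(-qD)|_D is
isomorphic to H_q(K_D) ⊗ I^{⊗ q} = Tor_q(O_D, …, O_D)(-qY). (Existence of isomorphisms of
O_X-modules. In the first assertion n - 1 is truncated subtraction, so for n = 0 the free module is
zero. The second assertion is stated for n ≥ 1 because it fails for n = 0 on a non-empty X: there
Z_0 = O_X and H_0(K_D) = O_X, while O_X|_D = O_D. The published statement also identifies the
resulting cartesian square for the divisors Y + D, …, Y + D and gives two further identifications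
after restriction to D ∩ Y; these are not restated here.) -/
theorem result {X : Scheme.{u}} (n : ℕ)
    (I : X.IdealSheafData) (hI : BlowUp.IsEffCartierIdeal I)
    (ID : X.IdealSheafData) (hD : BlowUp.IsEffCartierIdeal ID)
    (C : KoszSh.Cx (∐ fun _ : Fin n => ClSub.idealMod I) (Limits.Sigma.desc fun _ : Fin n => ClSub.idealModι I))
    (CD : KoszSh.Cx (∐ fun _ : Fin n => ClSub.idealMod ID) (Limits.Sigma.desc fun _ : Fin n => ClSub.idealModι ID))
    (q : ℕ) (L : X.Modules) (hL : ExtPow.IsExtPow q (FlatMod.freeMod X (n - 1)) L) :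
    Nonempty (C.K.cycles q ≅ CohB1.tensorMod L (CohB1.tensorPow (ClSub.idealMod I) q)) ∧
    (1 ≤ n → Nonempty (
      (Scheme.Modules.pullback ID.subschemeι ⋙ Scheme.Modules.pushforward ID.subschemeι).obj
          (CohB1.tensorMod (C.K.cycles q) (CohB1.tensorPow (ClSub.idealMod ID) q)) ≅
        CohB1.tensorMod (CD.K.homology q) (CohB1.tensorPow (ClSub.idealMod I) q))) := by
  classical
  have hA : PicF.IsInvertible (ClSub.idealMod I) :=
    (Groth.Agent.Lib.Helper17.EffCartMod.isInvertible_idealMod_iff I).mpr hI
  have hAD : PicF.IsInvertible (ClSub.idealMod ID) :=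
    (Groth.Agent.Lib.Helper17.EffCartMod.isInvertible_idealMod_iff ID).mpr hD
  have hED : FlatMod.IsFinLocFree (∐ fun _ : Fin n => ClSub.idealMod ID) :=
    Groth.Agent.Lib.Helper25.TorKosz.isFinLocFree_sigma _ (fun _ => hAD)
  haveI hqcD : ∀ p, (CD.K.X p).IsQuasicoherent := fun p =>
    Groth.Agent.Lib.Helper25.TorKosz.isQuasicoherent_X hED CD p
  obtain ⟨locL, hL'⟩ := hL
  obtain ⟨αC⟩ := Groth.Agent.Lib.Helper25.CycIso.cycles_iso C q locL hA
    (fun U V h t => hL' U V h t)
  obtain ⟨αD⟩ := Groth.Agent.Lib.Helper25.CycIso.cycles_iso CD q locL hAD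
    (fun U V h t => hL' U V h t)
  exact ⟨⟨αC.symm⟩, fun hn =>
    Groth.Agent.Lib.Helper25.CycTens.part2 n I ID hA hAD C CD q L αC αD hn⟩

end Groth.Agent.S15903
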