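import Groth.Statements.S15904
import Groth.Agent.Lib.Helper25.LciMain
set_option linter.style.haveILetI false

set_option autoImplicit false
universe u
open CategoryTheory AlgebraicGeometry Opposite
open KoszSh

namespace Groth.Agent.S15904

/-- Let k be an algebraically closed field and X a smooth variety over k (X integral, f : X → Spec k
smooth, separated and of finite type). Let Y_1, …, Y_n and D be effective Cartier divisors on X with
ideal sheaves I_1, …, I_n and I_D, and let Z = Y_1 ∩ ⋯ ∩ Y_n be the scheme-theoretic intersection,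
the closed subscheme j : Z → X defined by the ideal sheaf Σ_i I_i. Assume that Z is a local complete
intersection in X, in the sense that j is a regular immersion (around every point, on some affine
open of X the ideal of Z is generated by a regular sequence), and that D contains no irreducible
component of Z: no point z of Z whose local ring O_{Z,z} has Krull dimension 0 lies on D. Let K be a
Koszul complex of the cosection ⊕_i O(-Y_i) → O_X (sum of the inclusions), with cycle sheaves Z_q,
homology sheaves H_q (computing Tor_q(O_{Y_1}, …, O_{Y_n})) and quotient maps π_q : Z_q → H_q, and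
K' a Koszul complex of ⊕_i O(-Y_i - D) → O_X (computing Tor_q(O_{Y_1+D}, …, O_{Y_n+D})); write M|_D
= i_* i^* M along i : D → X with its canonical map M → M|_D. Then for every q ≥ 0 the q-th homology
sheaf of K' is isomorphic, as an O_X-module, to P ⊗ I_D^{⊗ q}, where P is the fibre product of
π_q|_D : Z_q|_D → H_q|_D and the canonical map H_q → H_q|_D: the cartesian square for the divisors
Y_i + D holds with no hypothesis on associated points (existence of an isomorphism with the fibre
product; the published square writes the two lower corners through the excess conormal bundle E_Z of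
Z, as j_*∧^q E_Z(-qD) and h_*(∧^q E_Z|_{Z ∩ D})(-qD) with h : Z ∩ D → X, which this row does not
restate, and the published setting also assumes characteristic zero, which the argument does not
use). -/
theorem result (k : Type u) [Field k] [IsAlgClosed k]
    {X : Scheme.{u}} (f : X ⟶ Spec (CommRingCat.of k)) [Smooth f] [IsSeparated f] [QuasiCompact f]
    [LocallyOfFiniteType f] [IsIntegral X] (n : ℕ)
    (IY : Fin n → X.IdealSheafData) (hY : ∀ i, BlowUp.IsEffCartierIdeal (IY i))
    (ID : X.IdealSheafData) (hD : BlowUp.IsEffCartierIdeal ID)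
    (hZ : RegImm.IsRegularImmersion RegImm.Kind.regular (⨆ i, IY i).subschemeι)
    (hZD : ∀ z : ↥(⨆ i, IY i).subscheme, ringKrullDim ((⨆ i, IY i).subscheme.presheaf.stalk z) = 0 →
      (⨆ i, IY i).subschemeι.base z ∉ Set.range ID.subschemeι.base)
    (C : KoszSh.Cx (∐ fun i => ClSub.idealMod (IY i)) (Limits.Sigma.desc fun i => ClSub.idealModι (IY i)))
    (C' : KoszSh.Cx (∐ fun i => ClSub.idealMod (IY i * ID)) (Limits.Sigma.desc fun i => ClSub.idealModι (IY i * ID)))
    (q : ℕ) :
    Nonempty (C'.K.homology q ≅ CohB1.tensorMod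
      (Limits.pullback
        ((Scheme.Modules.pullback ID.subschemeι ⋙ Scheme.Modules.pushforward ID.subschemeι).map (C.K.homologyπ q))
        ((Scheme.Modules.pullbackPushforwardAdjunction ID.subschemeι).unit.app (C.K.homology q)))
      (CohB1.tensorPow (ClSub.idealMod ID) q)) := by
  classical
  have hA : ∀ i, PicF.IsInvertible (ClSub.idealMod (IY i)) := fun i =>
    (Groth.Agent.Lib.Helper17.EffCartMod.isInvertible_idealMod_iff (IY i)).mpr (hY i)
  have hA' : ∀ i, PicF.IsInvertible (ClSub.idealMod (IY i * ID)) := fun i =>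
    (Groth.Agent.Lib.Helper17.EffCartMod.isInvertible_idealMod_iff (IY i * ID)).mpr
      (Groth.Agent.Lib.Helper25.TorKosz.isEffCartierIdeal_mul (IY i) ID (hY i) hD)
  have hL : PicF.IsInvertible (ClSub.idealMod ID) :=
    (Groth.Agent.Lib.Helper17.EffCartMod.isInvertible_idealMod_iff ID).mpr hD
  have hE : FlatMod.IsFinLocFree (∐ fun i => ClSub.idealMod (IY i)) :=
    Groth.Agent.Lib.Helper25.TorKosz.isFinLocFree_sigma _ hA
  have hE' : FlatMod.IsFinLocFree (∐ fun i => ClSub.idealMod (IY i * ID)) :=
    Groth.Agent.Lib.Helper25.TorKosz.isFinLocFree_sigma _ hA'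
  haveI hqc : ∀ p, (C.K.X p).IsQuasicoherent := fun p =>
    Groth.Agent.Lib.Helper25.TorKosz.isQuasicoherent_X hE C p
  haveI hqc' : ∀ p, (C'.K.X p).IsQuasicoherent := fun p =>
    Groth.Agent.Lib.Helper25.TorKosz.isQuasicoherent_X hE' C' p
  choose incl hincl using fun i => Groth.Agent.Lib.Helper25.TorKosz.exists_incl (IY i) ID
  have hm : Limits.Sigma.map incl ≫ (Limits.Sigma.desc fun i => ClSub.idealModι (IY i)) =
      Limits.Sigma.desc fun i => ClSub.idealModι (IY i * ID) := by
    apply Limits.Sigma.hom_ext
    intro i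
    rw [← Category.assoc, Limits.Sigma.ι_map, Category.assoc, Limits.Sigma.ι_desc,
      Limits.Sigma.ι_desc]
    apply Groth.Agent.Lib.Helper3.AffExt.hom_ext_of_affine
    intro U a
    exact hincl i U.1 U.2 a
  obtain ⟨φ, hφ⟩ := Groth.Agent.Lib.Helper25.KoszMap.exists_chainMap C' C (Limits.Sigma.map incl) hm
  refine Groth.Agent.Lib.Helper25.TorMain.nonempty_iso C' C φ ID q hL ?_
  intro V e hg
  obtain ⟨hx_nzd, hspan⟩ := Groth.Agent.Lib.Helper17.EffCartMod.span_of_isGenAt ID V e hg.self
  have hx : ∀ r : Γ(X, V.1), r * Groth.Agent.Lib.Helper3.IdealMod.val ID e = 0 → r = 0 :=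
    fun r hr => (mem_nonZeroDivisors_iff_right.mp hx_nzd) r hr
  have hfacts := fun i => Groth.Agent.Lib.Helper25.TorKosz.incl_facts (IY i) ID (incl i) (hincl i)
    V.1 V.2 (Groth.Agent.Lib.Helper3.IdealMod.val ID e) hspan
  have hproj : Module.Projective Γ(X, V.1) Γ(∐ fun i => ClSub.idealMod (IY i), V.1) :=
    (Groth.Agent.Lib.Helper3.LocFreeCrit.finite_projective_sections hE V.2).2
  refine ⟨fun p => Groth.Agent.Lib.Helper25.TorKosz.kosz_local C' C (Limits.Sigma.map incl) φ hφ V
      (Groth.Agent.Lib.Helper3.IdealMod.val ID e) hx hproj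
      (Groth.Agent.Lib.Helper25.TorSec.map_app_injective incl V.1 (fun i => (hfacts i).1))
      (Groth.Agent.Lib.Helper25.TorSec.map_app_ex incl V.1 _ (fun i => (hfacts i).2.1))
      (Groth.Agent.Lib.Helper25.TorSec.map_app_im incl V.1 _ (fun i => (hfacts i).2.2)) p, ?_⟩
  intro h hh
  exact Groth.Agent.Lib.Helper25.LciMain.regular k f n IY hY ID hZ hZD C q V e hg h hh

end Groth.Agent.S15904
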