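import Groth.Statements.S15908
import Mathlib
import Groth.Agent.Lib.Helper24.DPWeyl

set_option autoImplicit false
open Surf

namespace Groth.Agent.S15908

open Groth.Agent.Lib.Helper24.DPWeyl

set_option maxRecDepth 100000 in
lemma c1_8 : CheckC1 8 := by decide +kernel

set_option maxRecDepth 100000 in
lemma c2_8 : CheckC2 7 := by decide +kernel

open W4c3severiratdp in
/-- first representative -/
def P2 : DP 8 := ![4,0,2,2,2,1,1,1,1]

open W4c3severiratdp in
/-- second representative -/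
def Q2 : DP 8 := ![5,1,2,2,2,2,2,2,0]

open W4c3severiratdp in
lemma facts : IsConic (Q0 8) ∧ IsConic P2 ∧ IsConic Q2 ∧ form (Q0 8) P2 = 4 ∧ form (Q0 8) Q2 = 4 ∧
    List.ofFn P2 = [4,0,2,2,2,1,1,1,1] ∧ List.ofFn Q2 = [5,1,2,2,2,2,2,2,0] ∧
    Q0 8 - Q2 = (2 : ℤ) • (![-2,0,-1,-1,-1,-1,-1,-1,0] : DP 8) ∧ (Q0 8 - P2) 0 = -3 := by
  unfold IsConic
  decide +kernel

open W4c3severiratdp in
/-- Work in the lattice of vectors (a; b_1, …, b_δ), standing for divisor classes a ℓ − Σ b_i e_i on the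
blow-up of the projective plane at δ points written in a standard basis, with intersection form a a'
− Σ b_i b_i' and canonical class K = (−3; −1, …, −1); a conic class is a class Q with Q·Q = 0 and
K·Q = −2, an exceptional class (the class of a (−1)-curve) is a class E with E·E = −1 and K·E = −1,
and the Weyl group W_δ is the group of additive automorphisms of the lattice preserving the form and
fixing K. For δ = 8 the ordered pairs (Q_1, Q_2) of conic classes with Q_1·Q_2 = 4 form exactly two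
W_8-orbits: there are two such pairs that no element of W_8 carries one to the other, and every such
pair is carried by an element of W_8 to one of these two. -/
theorem result :
    ∃ p₁ p₂ q₁ q₂ : DP 8, IsConic p₁ ∧ IsConic p₂ ∧ IsConic q₁ ∧ IsConic q₂ ∧ form p₁ p₂ = 4 ∧ form q₁ q₂ = 4 ∧
      (¬ ∃ g : DP 8 ≃ₗ[ℤ] DP 8, IsWeyl g ∧ g p₁ = q₁ ∧ g p₂ = q₂) ∧
      ∀ v₁ v₂ : DP 8, IsConic v₁ → IsConic v₂ → form v₁ v₂ = 4 →
        ∃ g : DP 8 ≃ₗ[ℤ] DP 8, IsWeyl g ∧ ((g v₁ = p₁ ∧ g v₂ = p₂) ∨ (g v₁ = q₁ ∧ g v₂ = q₂)) := by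
  obtain ⟨f1, f2, f3, f4, f5, f6, f7, f8, f9⟩ := facts
  refine ⟨Q0 8, P2, Q0 8, Q2, f1, f2, f1, f3, f4, f5, ?_, ?_⟩
  · rintro ⟨g, hg, g1, g2⟩
    have e : g (Q0 8 - P2) = (2 : ℤ) • (![-2,0,-1,-1,-1,-1,-1,-1,0] : DP 8) := by
      rw [map_sub, g1, g2, f8]
    have e2 : Q0 8 - P2 = (2 : ℤ) • g.symm (![-2,0,-1,-1,-1,-1,-1,-1,0] : DP 8) := by
      rw [← map_smul, ← e, LinearEquiv.symm_apply_apply]
    have e3 := congrFun e2 0
    rw [f9] at e3
    simp only [Pi.smul_apply, smul_eq_mul] at e3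
    omega
  · intro v₁ v₂ hv₁ hv₂ h4
    obtain ⟨g, hg, g1, g2⟩ := conic_pair_reduce (δ' := 7) (by norm_num) c1_8 c2_8 v₁ v₂ hv₁ hv₂
    refine ⟨g, hg, ?_⟩
    rw [h4, repsL, if_pos ⟨rfl, rfl⟩, List.mem_cons, List.mem_singleton, ← f6, ← f7] at g2
    rcases g2 with g2 | g2
    · exact Or.inl ⟨g1, List.ofFn_injective g2⟩
    · exact Or.inr ⟨g1, List.ofFn_injective g2⟩

end Groth.Agent.S15908
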