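import Groth.Statements.S15909
import Mathlib
import Groth.Agent.Lib.Helper24.DPWeyl

set_option autoImplicit false
open Surf

namespace Groth.Agent.S15909

open Groth.Agent.Lib.Helper24.DPWeyl

set_option maxRecDepth 100000 in
lemma ce1 : CheckE1 := by decide +kernel

set_option maxRecDepth 100000 in
lemma ce2 : CheckE2 := by decide +kernel

open W4c3severiratdp in
/-- Work in the lattice of vectors (a; b_1, …, b_δ), standing for divisor classes a ℓ − Σ b_i e_i on the
blow-up of the projective plane at δ points written in a standard basis, with intersection form a a'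
− Σ b_i b_i' and canonical class K = (−3; −1, …, −1); a conic class is a class Q with Q·Q = 0 and
K·Q = −2, an exceptional class (the class of a (−1)-curve) is a class E with E·E = −1 and K·E = −1,
and the Weyl group W_δ is the group of additive automorphisms of the lattice preserving the form and
fixing K. Let δ = 8 (a del Pezzo surface of degree one) and let L be an exceptional class. If L_1
and L_2 are exceptional classes with L_1·L = L_2·L, then L_1 and L_2 lie in the same orbit of the
stabilizer of L in W_8. -/
theorem result (L L₁ L₂ : DP 8) (hL : IsExc L) (hL₁ : IsExc L₁)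
    (hL₂ : IsExc L₂) (h : form L₁ L = form L₂ L) :
    ∃ g : DP 8 ≃ₗ[ℤ] DP 8, IsWeyl g ∧ g L = L ∧ g L₁ = L₂ := by
  exact exc_pairs ce1 ce2 L L₁ L₂ hL hL₁ hL₂ h

end Groth.Agent.S15909
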