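import Groth.Statements.S15916
import Groth.Agent.Lib.Helper7.NefTrivB
import Groth.Agent.Lib.Helper7.SecDegC

set_option autoImplicit false
universe u
open CategoryTheory CategoryTheory.Limits AlgebraicGeometry TopologicalSpace
open Surf

namespace Groth.Agent.S15916

/-- Let k be an algebraically closed field of characteristic zero and X a smooth projective surface over
k (integral, proper and smooth over k of dimension 2, with a closed immersion over k into some
projective space); intersection numbers of invertible modules are (L·M) = χ(O_X) − χ(L) − χ(M) + χ(L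
⊗ M), and for an integral closed one-dimensional subscheme C ⊆ X write (L·C) = χ(O_C ⊗ L) − χ(O_C);
an invertible module is nef when (L·C) ≥ 0 for all such C. Let D be an invertible module generated
by its global sections, nef, with (D·D) > 0, and let N be a nef invertible module with (D·N) = 0.
Then N is numerically trivial: (N·C) = 0 for every integral curve C ⊆ X. (The published statement
concludes that N is zero in Pic X; on the product of an elliptic curve with the projective line, the
pull-back N of a non-trivial degree-zero class of the elliptic curve is nef, orthogonal to an ample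
base-point-free D, and non-zero, while the printed proof establishes numerical triviality, which is
what this row states.) -/
theorem result (k : Type u) [Field k] [IsAlgClosed k]
    [CharZero k] (X : Scheme.{u}) [X.Over (Spec (CommRingCat.of k))] [IsIntegral X] [IsProper (X ↘ (Spec (CommRingCat.of k)))] [Smooth (X ↘ (Spec (CommRingCat.of k)))]
    (hdim : topologicalKrullDim X = 2)
    (hproj : ∃ (n : ℕ) (ι : X ⟶ CohB1.ProjSpace n k), IsClosedImmersion ι ∧ ι ≫ CohB1.ProjSpace.toSpec n k = (X ↘ (Spec (CommRingCat.of k))))
    (D N : X.Modules) (hDi : PicF.IsInvertible D) (hNi : PicF.IsInvertible N)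
    (hDgg : Curv2.IsGloballyGenerated D)
    (hDnef : ∀ C : X.IdealSheafData, IsIntegral C.subscheme → topologicalKrullDim (C.support : Set X) = 1 → 0 ≤ (Curv2.euler k X (CohB1.tensorMod (ClSub.quotMod C) D) - Curv2.euler k X (ClSub.quotMod C)))
    (hD2 : 0 < FGA.intNum k X 2 ![D, D] (Coh.structureModule X))
    (hNnef : ∀ C : X.IdealSheafData, IsIntegral C.subscheme → topologicalKrullDim (C.support : Set X) = 1 → 0 ≤ (Curv2.euler k X (CohB1.tensorMod (ClSub.quotMod C) N) - Curv2.euler k X (ClSub.quotMod C)))
    (hDN : FGA.intNum k X 2 ![D, N] (Coh.structureModule X) = 0) :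
    ∀ C : X.IdealSheafData, IsIntegral C.subscheme → topologicalKrullDim (C.support : Set X) = 1 → (Curv2.euler k X (CohB1.tensorMod (ClSub.quotMod C) N) - Curv2.euler k X (ClSub.quotMod C)) = 0 := by
  obtain ⟨n, ι, hι, hcomp⟩ := hproj
  haveI := hι
  haveI : CompactSpace X := Groth.Agent.Lib.Helper23.T2.compactSpace_of_isProper k X
  have hA : CohB1.IsAmple (Groth.Agent.Lib.Helper7.HilbCoeff.HX k ι) :=
    Groth.Agent.Lib.Helper3.PbAmple.isAmple_pullback_of_isEmbedding ι
      ι.isClosedEmbedding.isEmbedding
      (Groth.Agent.Lib.Helper23.AmpleCurve.isAmple_twistProjSpace n k)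
  have hDD : 0 < Groth.Agent.Lib.Helper7.SurfIP.ip k X D D := hD2
  have hDN' : Groth.Agent.Lib.Helper7.SurfIP.ip k X D N = 0 := hDN
  have hHN := Groth.Agent.Lib.Helper7.NefTrivA.ip_ample_eq_zero k X hdim _ hA D hDi hDD N hNi hDN'
    hNnef
  intro C hC1 hC2
  exact Groth.Agent.Lib.Helper7.NefTrivB.nef_curve_eq_zero k X hdim _ hA N hNi hHN hNnef C hC1 hC2

end Groth.Agent.S15916
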