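import Groth.Statements.S15922
import Groth.Agent.Lib.Helper7.GGNodal
import Groth.Agent.Lib.Helper7.PtSec2
import Groth.Agent.Lib.Helper23.PtDiv2
import Groth.Agent.Lib.Helper23.EffCart
import Groth.Agent.Lib.Helper17.StalkExact
import Groth.Agent.Lib.Helper9.StalkUnit

set_option autoImplicit false
universe u
open CategoryTheory CategoryTheory.Limits AlgebraicGeometry
open Curves

namespace Groth.Agent.S15922

open Groth.Agent.Lib.Helper9 Groth.Agent.Lib.Helper17 in
/-- the stalk of the structure module is the local ring, linearly -/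
noncomputable def unitLin {X : Scheme.{u}} (x : X) :
    ((Coh.structureModule X).presheaf.stalk x) →ₗ[X.presheaf.stalk x] (X.presheaf.stalk x) :=
  { toFun := StalkUnit.unitStalkHom x
    map_add' := map_add _
    map_smul' := fun r a => by
      rw [StalkUnit.unitStalkHom_smul]
      rfl }

/-- Let k be an algebraically closed field, X a curve over k (proper over k, reduced, connected, every
irreducible component of dimension one) and P a closed point of X, with m_P the ideal sheaf of the
reduced point P viewed as an O_X-module. Then m_P is a torsion-free sheaf of rank one and degree -1: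
regular elements of each local ring O_{X,x} act injectively on the stalk of m_P at x, the stalk at
every generic point of an irreducible component has dimension one over the local ring there, and
χ(X, m_P) - χ(X, O_X) = -1. -/
theorem result (k : Type u) [Field k] [IsAlgClosed k] (X : Scheme.{u}) [X.Over (Spec (CommRingCat.of k))] [IsProper (X ↘ (Spec (CommRingCat.of k)))] [IsReduced X] [ConnectedSpace X]
    (hequi : ∀ Z ∈ irreducibleComponents (X : Type u), topologicalKrullDim Z = 1)
    (P : X) (hP : IsClosed ({P} : Set X)) :
    TorSh.IsTorsionFree (ClSub.idealMod (Scheme.IdealSheafData.vanishingIdeal ⟨{P}, hP⟩)) ∧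
    (∀ η : X, closure ({η} : Set X) ∈ irreducibleComponents (X : Type u) →
      Module.finrank (X.presheaf.stalk η) ((ClSub.idealMod (Scheme.IdealSheafData.vanishingIdeal ⟨{P}, hP⟩)).presheaf.stalk η) = 1) ∧
    Curv2.deg k X (ClSub.idealMod (Scheme.IdealSheafData.vanishingIdeal ⟨{P}, hP⟩)) 1 = -1 := by
  classical
  set Z := Scheme.IdealSheafData.vanishingIdeal (⟨{P}, hP⟩ : TopologicalSpace.Closeds X) with hZ
  have hS := Groth.Agent.Lib.Helper23.EffCart.shortExact_ideal Z
  haveI : Mono (ClSub.idealModι Z) := hS.mono_f
  have hZs : ((Z.support : Set X)) = {P} := Scheme.IdealSheafData.coe_support_vanishingIdeal _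
  have hginj : ∀ x : X, Function.Injective
      ((unitLin x).comp (Groth.Agent.Lib.Helper17.StalkExact.stalkLin (ClSub.idealModι Z) x)) :=
    fun x => (Groth.Agent.Lib.Helper9.StalkUnit.unitStalkHom_injective x).comp
      (Groth.Agent.Lib.Helper17.StalkExact.stalkLin_injective _ x)
  refine ⟨?_, ?_, ?_⟩
  · intro x
    exact Function.Injective.moduleIsTorsionFree _ (hginj x)
      (fun r m => LinearMap.map_smul _ r m)
  · intro η hη
    have hne : η ≠ P := by
      intro heq
      have hη' := hη
      rw [heq, hP.closure_eq] at hη'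
      have h1 := hequi _ hη'
      have h2 := topologicalKrullDim_zero_of_discreteTopology ↥({P} : Set X)
      rw [h1] at h2
      exact absurd h2 (by norm_num)
    have hq0 : ∀ t : (ClSub.quotMod Z).presheaf.stalk η, t = 0 := by
      intro t
      obtain ⟨W, hxW, s, rfl⟩ := TopCat.Presheaf.exists_germ_eq _ t
      let U : X.Opens := ⟨({P} : Set X)ᶜ, hP.isOpen_compl⟩
      have hηU : η ∈ U := hne
      have hdisj : Disjoint ((W ⊓ U : X.Opens) : Set X) (Z.support : Set X) := by
        rw [hZs, Set.disjoint_singleton_right]
        intro h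
        exact h.2 rfl
      have h0 := Groth.Agent.Lib.Helper23.EffCart.quotMod_eq_zero_of_disjoint Z (W ⊓ U) hdisj
        ((ClSub.quotMod Z).presheaf.map (homOfLE (inf_le_left : W ⊓ U ≤ W)).op s)
      have h1 := TopCat.Presheaf.germ_res_apply (ClSub.quotMod Z).presheaf
        (homOfLE (inf_le_left : W ⊓ U ≤ W)) η ⟨hxW, hηU⟩ s
      rw [← h1, h0, map_zero]
    have hsurj : Function.Surjective
        (Groth.Agent.Lib.Helper17.StalkExact.stalkLin (ClSub.idealModι Z) η) := by
      intro n
      have hex := Groth.Agent.Lib.Helper17.StalkExact.stalkLin_exact _ hS.exact η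
      exact (hex n).mp (hq0 _)
    let e : ((ClSub.idealMod Z).presheaf.stalk η) ≃ₗ[X.presheaf.stalk η] (X.presheaf.stalk η) :=
      LinearEquiv.ofBijective
        ((unitLin η).comp (Groth.Agent.Lib.Helper17.StalkExact.stalkLin (ClSub.idealModι Z) η))
        ⟨hginj η, (Groth.Agent.Lib.Helper9.StalkUnit.unitStalkHom_surjective η).comp hsurj⟩
    exact e.finrank_eq.trans (Module.finrank_self _)
  · have hdeg := Groth.Agent.Lib.Helper23.PtDiv.deg_idealMod k X Z
      (Groth.Agent.Lib.Helper7.PtDiv.isCoh_idealMod' k Z)
      (by rw [hZs]; exact Set.finite_singleton P)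
      (by intro z hz; rw [hZs] at hz; rw [Set.mem_singleton_iff.1 hz]; exact hP)
    rw [Groth.Agent.Lib.Helper7.GGNodal.finrank_h0_quotMod_closedPoint' k P hP] at hdeg
    simpa using hdeg

end Groth.Agent.S15922
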