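import Groth.Statements.S15927
-- import your own Groth.Agent.* helpers here
import Groth.Agent.Lib.Helper23.BMRes

set_option autoImplicit false
universe u
open CategoryTheory AlgebraicGeometry Opposite
open BMCoh

namespace Groth.Agent.S15927



/-- Let T be a twisted Borel–Moore cohomology theory with coefficients in A (a full subcategory of
R-modules containing R) on a constructible class V of Noetherian schemes, X an object of V, M a
coefficient module, j a natural number and i, n, i', n' integers with i' = i + 1 − 2(j + 1) and n' =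
n − (j + 1); H^i(F_kX, M(n)) denotes the colimit of H^i(U, M(n)) over the open subschemes U of X
containing every point of codimension at most k (codimension of a point = dim X minus the dimension
of its closure), and H^i(x, M(n)) the group of a point x (colimit over the nonempty opens of its
reduced closure). Let Q be residue data for X at level j: for every point x of codimension j + 1 a
map ∂_x : H^i(F_jX, M(n)) → H^{i'}(x, M(n')), agreeing with the residue maps of the Gysin sequences
on classes coming from the open part of a decomposition, each class having only finitely many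
nonzero residues. Then the sequence H^i(F_{j+1}X, M(n)) → H^i(F_jX, M(n)) → ⊕_x H^{i'}(x, M(n')),
restriction followed by the total residue map ∂ = (∂_x)_x over the points of codimension j + 1, is
exact: the image of the restriction map is the kernel of ∂. -/
theorem result (V : ObjectProperty Scheme.{u}) [BMCoh.IsConstructible V] (R : Type u) [CommRing R] (A : BMCoh.Coefs R) (T : BMCoh.TheoryOn V R A) (X : BMCoh.Obj V) (j : ℕ) (Q : T.ResData X j) (M : A.Cat) (i n i' n' : ℤ) (hi : i' = i + 1 - 2 * ((j : ℤ) + 1)) (hn : n' = n - ((j : ℤ) + 1)) : Function.Exact ((T.fjRes X (Nat.le_succ j) i n).app M).hom (Q.tot M i n i' n' hi hn).hom := by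
  open Groth.Agent.Lib.Helper23.BMObj Groth.Agent.Lib.Helper23.BMColim
    Groth.Agent.Lib.Helper23.BMObj2 Groth.Agent.Lib.Helper23.BMData
    Groth.Agent.Lib.Helper23.BMMulti Groth.Agent.Lib.Helper23.BMGeom
    Groth.Agent.Lib.Helper23.BMGysin Groth.Agent.Lib.Helper23.BMShrink
    Groth.Agent.Lib.Helper23.BMRes Groth.Agent.Lib.Helper23.BMPart in
  classical
  intro a
  constructor
  · intro hzero
    obtain ⟨U₀, hU₀, a₀, rfl⟩ := fj_exists_rep T.toPreTheory X j M i n a
    obtain ⟨U, S, hUF, hScod, hdisj, hcompl⟩ := exists_cfg X j U₀ hU₀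
    have hdU₀ := dim_eq_of_containsFj X j U₀ hU₀
    have hdU := dim_eq_of_containsFj X (j + 1) U hUF
    by_cases hS : S = ∅
    · subst hS
      have hle : U ≤ U₀ := (openCompl_empty X U).trans hcompl
      refine ⟨((T.fjι X (j + 1) i n (fjMk X (j + 1) U hUF)).app M).hom
        ((T.pull (X.resLE hle (hdU.trans hdU₀.symm)) M i n).hom a₀), ?_⟩
      rw [fjRes_fjι_apply]
      exact fjι_resLE_apply T.toPreTheory X j M i n U₀ U hU₀
        (containsFj_mono X (Nat.le_succ j) U hUF) hle (hdU.trans hdU₀.symm) a₀
    · have hne : S.Nonempty := Finset.nonempty_iff_ne_empty.mpr hS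
      have hU₀F : ContainsFj X j (openCompl X U S) := containsFj_openCompl hUF hScod
      have hdC₀ : WeilCoh.dim (openCompl X U S : Scheme.{u}) = WeilCoh.dim (U₀ : Scheme.{u}) :=
        (dim_eq_of_containsFj X j _ hU₀F).trans hdU₀.symm
      have hrc : (cfgOf U S hne hUF hScod hdisj).dec.codim = (j : ℤ) + 1 :=
        cfgOf_relCodim U S hne hUF hScod hdisj
      have hiD : i' = i + 1 - 2 * (cfgOf U S hne hUF hScod hdisj).dec.codim := by
        rw [hrc]; exact hi
      have hnD : n' = n - (cfgOf U S hne hUF hScod hdisj).dec.codim := by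
        rw [hrc]; exact hn
      -- the class on the open part of the configuration
      have hrep := fjι_resLE_apply T.toPreTheory X j M i n U₀ (openCompl X U S) hU₀ hU₀F hcompl
        hdC₀ a₀
      rw [← hrep] at hzero ⊢
      -- residues vanish
      have hq : ∀ y : ↥S, ∃ (W' : ptIdx X y.1) (h : W'.1 ≤ ptOpen X y.1 U)
          (hd : WeilCoh.dim (W'.1 : Scheme.{u}) =
            WeilCoh.dim ((ptOpen X y.1 U : (X.ptSub y.1).scheme.Opens) : Scheme.{u})),
          (T.pull ((X.ptSub y.1).resLE h hd) M i' n').hom
            ((T.pull ((cfgOf U S hne hUF hScod hdisj).kap y) M i' n').hom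
              ((T.res (cfgOf U S hne hUF hScod hdisj).dec M i n i' n' hiD hnD).hom
                ((T.pull (X.resLE hcompl hdC₀) M i n).hom a₀))) = 0 := by
        intro y
        have h1 := congrArg (fun ξ => ξ ⟨y.1, hScod y.1 y.2⟩) hzero
        change (Q.cpt ⟨y.1, hScod y.1 y.2⟩ M i n i' n' hi hn).hom _ = 0 at h1
        rw [resData_cpt_cfg Q (cfgOf U S hne hUF hScod hdisj) y (hScod y.1 y.2) hU₀F M i n i' n'
          hi hn hiD hnD] at h1
        exact (ocolimι_eq_zero_iff' T.toPreTheory (X.ptSub y.1)
          (fun U => (U : Set (X.ptSub y.1).scheme).Nonempty) M i' n'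
          (pieceIdx X y.1 U ((cfgOf U S hne hUF hScod hdisj).mem y.1 y.2)) _).mp h1
      choose Wc hWle hWd hWz using hq
      let Wfun : ∀ y : X.scheme, (X.ptSub y).scheme.Opens :=
        fun y => if hy : y ∈ S then (Wc ⟨y, hy⟩).1 else ⊤
      have hWfun : ∀ y : ↥S, Wfun y.1 = (Wc y).1 := fun y => dif_pos y.2
      obtain ⟨U₂, hU₂F, hU₂⟩ := exists_shrink_finset X (j + 1) S hScod Wfun (fun y hy => by
        rw [hWfun ⟨y, hy⟩]
        exact (Wc ⟨y, hy⟩).2.1)
      have hU'F : ContainsFj X (j + 1) (U ⊓ U₂) := containsFj_inf hUF hU₂F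
      let r : RData (cfgOf U S hne hUF hScod hdisj) :=
        { U' := U ⊓ U₂
          le := inf_le_left
          mem := fun y hy => hU'F y (by rw [hScod y hy])
          dimU' := dim_eq_of_containsFj X (j + 1) _ hU'F
          dimU₀' := dim_eq_of_containsFj X j _ (containsFj_openCompl hU'F hScod) }
      have hiD' : i' = i + 1 - 2 * (restrict (cfgOf U S hne hUF hScod hdisj) r).dec.codim := by
        rw [restrict_codim]; exact hiD
      have hnD' : n' = n - (restrict (cfgOf U S hne hUF hScod hdisj) r).dec.codim := by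
        rw [restrict_codim]; exact hnD
      have hres0 : (T.res (restrict (cfgOf U S hne hUF hScod hdisj) r).dec M i n i' n' hiD'
          hnD').hom ((T.pull (resU₀ (cfgOf U S hne hUF hScod hdisj) r) M i n).hom
            ((T.pull (X.resLE hcompl hdC₀) M i n).hom a₀)) = 0 := by
        apply joint_inj T.toPreTheory
          (fun y : ↥S => pc X (U ⊓ U₂) y.1)
          (restrict (cfgOf U S hne hUF hScod hdisj) r).kap
          (restrict (cfgOf U S hne hUF hScod hdisj) r).kap_disj
          (restrict (cfgOf U S hne hUF hScod hdisj) r).kap_cover M i' n'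
        intro y
        rw [pull_kap_res_restrict (cfgOf U S hne hUF hScod hdisj) r T.toPreTheory y M i n i' n'
          hiD hnD hiD' hnD']
        have hle2 : ptOpen X y.1 (U ⊓ U₂) ≤ (Wc y).1 := by
          rw [← hWfun y]
          exact (ptOpen_mono (inf_le_right : U ⊓ U₂ ≤ U₂)).trans (hU₂ y.1 y.2)
        have hd2 : WeilCoh.dim ((ptOpen X y.1 (U ⊓ U₂) : (X.ptSub y.1).scheme.Opens) : Scheme.{u}) =
            WeilCoh.dim ((Wc y).1 : Scheme.{u}) :=
          (dim_pc_restrict (cfgOf U S hne hUF hScod hdisj) r y).trans (hWd y).symm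
        rw [← resLE_comp (X.ptSub y.1) hle2 (hWle y) hd2 (hWd y), pull_comp_apply, hWz y, map_zero]
      obtain ⟨b, hb⟩ := (T.exact_pull_res (restrict (cfgOf U S hne hUF hScod hdisj) r).dec M i n
        i' n' hiD' hnD' _).mp hres0
      refine ⟨((T.fjι X (j + 1) i n (fjMk X (j + 1) (U ⊓ U₂) hU'F)).app M).hom b, ?_⟩
      rw [fjRes_fjι_apply]
      have hU₀'F : ContainsFj X j (openCompl X (U ⊓ U₂) S) := containsFj_openCompl hU'F hScod
      rw [← fjι_resLE_apply T.toPreTheory X j M i n (openCompl X U S) (openCompl X (U ⊓ U₂) S)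
        hU₀F hU₀'F (openCompl_mono X S inf_le_left)
        (dimU₀_restrict (cfgOf U S hne hUF hScod hdisj) r)]
      rw [← fjι_resLE_apply T.toPreTheory X j M i n (U ⊓ U₂) (openCompl X (U ⊓ U₂) S)
        (containsFj_mono X (Nat.le_succ j) _ hU'F) hU₀'F (openCompl_le X _ _)
        (restrict (cfgOf U S hne hUF hScod hdisj) r).dimU₀']
      exact congrArg _ hb
  · rintro ⟨α, rfl⟩
    obtain ⟨U, hUF, b, rfl⟩ := fj_exists_rep T.toPreTheory X (j + 1) M i n α
    rw [fjRes_fjι_apply]
    apply DFinsupp.ext
    intro x
    rw [PreTheory.ResData.tot_apply]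
    have hSx : ∀ y ∈ ({x.1} : Finset X.scheme), WeilCoh.codim X.scheme y = j + 1 := by
      intro y hy
      rw [Finset.mem_singleton.mp hy]
      exact x.2
    have hdx : PDisj X U ({x.1} : Finset X.scheme) := by
      intro y hy y' hy' hne
      rw [Finset.mem_singleton.mp hy, Finset.mem_singleton.mp hy'] at hne
      exact (hne rfl).elim
    have hU₀F : ContainsFj X j (openCompl X U {x.1}) := containsFj_openCompl hUF hSx
    have hrc : (cfgOf U {x.1} (Finset.singleton_nonempty _) hUF hSx hdx).dec.codim = (j : ℤ) + 1 :=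
      cfgOf_relCodim U {x.1} (Finset.singleton_nonempty _) hUF hSx hdx
    have hiD : i' = i + 1 - 2 *
        (cfgOf U {x.1} (Finset.singleton_nonempty _) hUF hSx hdx).dec.codim := by
      rw [hrc]; exact hi
    have hnD : n' = n - (cfgOf U {x.1} (Finset.singleton_nonempty _) hUF hSx hdx).dec.codim := by
      rw [hrc]; exact hn
    rw [← fjι_resLE_apply T.toPreTheory X j M i n U (openCompl X U {x.1})
      (containsFj_mono X (Nat.le_succ j) U hUF) hU₀F (openCompl_le X U {x.1})
      (cfgOf U {x.1} (Finset.singleton_nonempty _) hUF hSx hdx).dimU₀']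
    have h1 := resData_cpt_cfg Q (cfgOf U {x.1} (Finset.singleton_nonempty _) hUF hSx hdx)
      ⟨x.1, Finset.mem_singleton_self _⟩ x.2 hU₀F M i n i' n' hi hn hiD hnD
      ((T.pull (cfgOf U {x.1} (Finset.singleton_nonempty _) hUF hSx hdx).dec.j M i n).hom b)
    have h2 : (T.res (cfgOf U {x.1} (Finset.singleton_nonempty _) hUF hSx hdx).dec M i n i' n'
        hiD hnD).hom
        ((T.pull (cfgOf U {x.1} (Finset.singleton_nonempty _) hUF hSx hdx).dec.j M i n).hom b) =
        0 :=
      (T.exact_pull_res _ M i n i' n' hiD hnD _).mpr ⟨b, rfl⟩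
    rw [h2] at h1
    exact h1.trans ((congrArg _ (map_zero _)).trans (map_zero _))

end Groth.Agent.S15927
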