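import Groth.Statements.S15928
-- import your own Groth.Agent.* helpers here
import Groth.Agent.Lib.Helper23.BMRes3

set_option autoImplicit false
universe u
open CategoryTheory AlgebraicGeometry Opposite
open BMCoh

namespace Groth.Agent.S15928



/-- Let T be a twisted Borel–Moore cohomology theory with coefficients in A (a full subcategory of
R-modules containing R) on a constructible class V of Noetherian schemes, X an object of V, M a
coefficient module, j a natural number and i, n, i', n' integers with i' = i + 1 − 2(j + 1) and n' =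
n − (j + 1), equivalently i + 1 = i' + 2(j + 1) and n = n' + (j + 1) (both forms are carried as
hypotheses); H^i(F_kX, M(n)) denotes the colimit of H^i(U, M(n)) over the open subschemes U of X
containing every point of codimension at most k (codimension of a point = dim X minus the dimension
of its closure), and H^i(x, M(n)) the group of a point x (colimit over the nonempty opens of its
reduced closure). Let Q be residue data for X at level j (maps ∂_x : H^i(F_jX, M(n)) → H^{i'}(x,
M(n')) for the points x of codimension j + 1, agreeing with the residue maps of the Gysin sequences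
of decompositions, with finitely supported values) and P push-forward data for X at level j + 1
(maps ι_x : H^{i'}(x, M(n')) → H^{i+1}(F_{j+1}X, M(n)) for the same points, agreeing with proper
push-forward along pieces of the closure of x). Then the sequence H^i(F_jX, M(n)) → ⊕_x H^{i'}(x,
M(n')) → H^{i+1}(F_{j+1}X, M(n)), the total residue map ∂ followed by the total push-forward ι_*, is
exact: the image of ∂ is the kernel of ι_*. -/
theorem result (V : ObjectProperty Scheme.{u}) [BMCoh.IsConstructible V] (R : Type u) [CommRing R] (A : BMCoh.Coefs R) (T : BMCoh.TheoryOn V R A) (X : BMCoh.Obj V) (j : ℕ) (Q : T.ResData X j) (P : T.PushData X (j + 1)) (M : A.Cat) (i n i' n' : ℤ) (hi : i' = i + 1 - 2 * ((j : ℤ) + 1)) (hn : n' = n - ((j : ℤ) + 1)) (hi2 : i + 1 = i' + 2 * ((j + 1 : ℕ) : ℤ)) (hn2 : n = n' + ((j + 1 : ℕ) : ℤ)) : Function.Exact (Q.tot M i n i' n' hi hn).hom (P.tot M i' n' (i + 1) n hi2 hn2).hom := by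
  open Groth.Agent.Lib.Helper23.BMObj Groth.Agent.Lib.Helper23.BMColim
    Groth.Agent.Lib.Helper23.BMObj2 Groth.Agent.Lib.Helper23.BMData
    Groth.Agent.Lib.Helper23.BMMulti Groth.Agent.Lib.Helper23.BMGeom
    Groth.Agent.Lib.Helper23.BMGysin Groth.Agent.Lib.Helper23.BMShrink
    Groth.Agent.Lib.Helper23.BMRes Groth.Agent.Lib.Helper23.BMPart
    Groth.Agent.Lib.Helper23.BMRes2 Groth.Agent.Lib.Helper23.BMRes3 in
  classical
  have hjc : ((j + 1 : ℕ) : ℤ) = (j : ℤ) + 1 := by push_cast; ring
  -- a point of codimension j+1 outside a finite set of such points is not in their closures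
  have hnotcl : ∀ (S : Finset X.scheme), (∀ y ∈ S, WeilCoh.codim X.scheme y = j + 1) →
      ∀ x : X.cdPt (j + 1), x.1 ∉ S → ∀ y ∈ S, x.1 ∉ closure ({y} : Set X.scheme) := by
    intro S hScod x hxS y hy hxy
    by_cases hxe : x.1 = y
    · exact hxS (hxe ▸ hy)
    · have := codim_lt_of_mem_closure X hxy hxe
      rw [hScod y hy, x.2] at this
      exact lt_irrefl _ this
  intro ξ
  constructor
  · intro hP
    let S : Finset X.scheme := (DFinsupp.support ξ).image (fun x => x.1)
    have hScod : ∀ y ∈ S, WeilCoh.codim X.scheme y = j + 1 := by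
      intro y hy
      obtain ⟨x, -, rfl⟩ := Finset.mem_image.mp hy
      exact x.2
    have hsupp : ∀ x : X.cdPt (j + 1), x.1 ∉ S → ξ x = 0 := by
      intro x hx
      by_contra hne
      exact hx (Finset.mem_image.mpr ⟨x, DFinsupp.mem_support_iff.mpr hne, rfl⟩)
    by_cases hS : S = ∅
    · refine ⟨0, ?_⟩
      rw [map_zero]
      apply DFinsupp.ext
      intro x
      rw [hsupp x (by rw [hS]; exact Finset.notMem_empty _)]
      rfl
    · have hne : S.Nonempty := Finset.nonempty_iff_ne_empty.mpr hS
      let ξfun : ∀ y : X.scheme, T.ptGp X y M i' n' :=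
        fun y => if hy : WeilCoh.codim X.scheme y = j + 1 then ξ ⟨y, hy⟩ else 0
      have hξfun : ∀ x : X.cdPt (j + 1), ξfun x.1 = ξ x := fun x => dif_pos x.2
      obtain ⟨U₁, hU₁F, hU₁d⟩ := exists_pdisj_open X (j + 1) S hScod
      obtain ⟨U, hUF, hUle, hrep⟩ :=
        exists_common_rep T.toPreTheory X (j + 1) S hScod M i' n' ξfun U₁ hU₁F
      have hmemU : ∀ y ∈ S, y ∈ U := fun y hy => hUF y (le_of_eq (hScod y hy))
      choose c hc using (fun y : ↥S => hrep y.1 y.2 (hmemU y.1 y.2))
      have hdisj : PDisj X U S := hU₁d.mono X hUle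
      have hrcy : ∀ y : ↥S, relCodim (pc X U y.1).scheme (X.res U).scheme = ((j + 1 : ℕ) : ℤ) :=
        fun y => relCodim_std (X := X) (j := j + 1) ⟨y.1, hScod y.1 y.2⟩ U hUF (hmemU y.1 y.2)
      -- the push-forward of ξ
      have hsum := pushData_tot_eq_sum P M i' n' (i + 1) n hi2 hn2 S hScod ξ hsupp
      have hterm : ∀ y : ↥S, (P.cpt ⟨y.1, hScod y.1 y.2⟩ M i' n' (i + 1) n hi2 hn2).hom
          (ξ ⟨y.1, hScod y.1 y.2⟩) =
          ((T.fjι X (j + 1) (i + 1) n (fjMk X (j + 1) U hUF)).app M).hom
            ((T.push (X := pc X U y.1) (Y := X.res U) (pcι X U y.1) M i' n' (i + 1) n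
              (by rw [hrcy y]; exact hi2) (by rw [hrcy y]; exact hn2)).hom (c y)) := by
        intro y
        rw [← hξfun ⟨y.1, hScod y.1 y.2⟩, ← hc y]
        have hstd := pushData_cpt_std P ⟨y.1, hScod y.1 y.2⟩ M i' n' (i + 1) n hi2 hn2 U hUF
          (hmemU y.1 y.2) (by rw [hrcy y]; exact hi2) (by rw [hrcy y]; exact hn2)
        exact congrArg (fun φ => φ.hom (c y)) hstd
      rw [hsum, Finset.sum_congr rfl (fun y _ => hterm y), ← map_sum] at hP
      obtain ⟨U', hU'F, hle', hd', hz⟩ :=
        (fjι_eq_zero_iff T.toPreTheory X (j + 1) M (i + 1) n U hUF _).mp hP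
      have hmemU' : ∀ y ∈ S, y ∈ U' := fun y hy => hU'F y (le_of_eq (hScod y hy))
      let r : RData (cfgOf U S hne hUF hScod hdisj) :=
        { U' := U'
          le := hle'
          mem := hmemU'
          dimU' := dim_eq_of_containsFj X (j + 1) _ hU'F
          dimU₀' := dim_eq_of_containsFj X j _ (containsFj_openCompl hU'F hScod) }
      have hrcy' : ∀ y : ↥S, relCodim (pc X U' y.1).scheme (X.res U').scheme =
          ((j + 1 : ℕ) : ℤ) :=
        fun y => relCodim_std (X := X) (j := j + 1) ⟨y.1, hScod y.1 y.2⟩ U' hU'F (hmemU' y.1 y.2)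
      -- restricted classes
      let c' : ∀ y : ↥S, T.gp (pc X U' y.1) M i' n' := fun y =>
        (T.pull ((X.ptSub y.1).resLE (ptOpen_mono hle')
          (dim_ptOpen_eq X (hmemU y.1 y.2) (hmemU' y.1 y.2))) M i' n').hom (c y)
      have hz' : ∑ y : ↥S, (T.push (X := pc X U' y.1) (Y := X.res U') (pcι X U' y.1) M i' n'
          (i + 1) n (by rw [hrcy' y]; exact hi2) (by rw [hrcy' y]; exact hn2)).hom (c' y) = 0 := by
        rw [map_sum] at hz
        rw [← hz]
        refine Finset.sum_congr rfl fun y _ => ?_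
        exact (pull_push_pcι T.toPreTheory X hle' hd' y.1
          (dim_ptOpen_eq X (hmemU y.1 y.2) (hmemU' y.1 y.2)) M i' n' (i + 1) n
          (by rw [hrcy y]; exact hi2) (by rw [hrcy y]; exact hn2)
          (by rw [hrcy' y]; exact hi2) (by rw [hrcy' y]; exact hn2) (c y)).symm
      -- the class on the closed part
      have hrc : (restrict (cfgOf U S hne hUF hScod hdisj) r).dec.codim = (j : ℤ) + 1 := by
        rw [restrict_codim]
        exact cfgOf_relCodim U S hne hUF hScod hdisj
      have hiD : i' = i + 1 - 2 * (restrict (cfgOf U S hne hUF hScod hdisj) r).dec.codim := by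
        rw [hrc]; exact hi
      have hnD : n' = n - (restrict (cfgOf U S hne hUF hScod hdisj) r).dec.codim := by
        rw [hrc]; exact hn
      have hiZ : i + 1 = i' + 2 * relCodim
          (restrict (cfgOf U S hne hUF hScod hdisj) r).zobj.scheme (X.res U').scheme := by
        rw [show relCodim (restrict (cfgOf U S hne hUF hScod hdisj) r).zobj.scheme
          (X.res U').scheme = (j : ℤ) + 1 from hrc, ← hjc]
        exact hi2
      have hnZ : n = n' + relCodim
          (restrict (cfgOf U S hne hUF hScod hdisj) r).zobj.scheme (X.res U').scheme := by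
        rw [show relCodim (restrict (cfgOf U S hne hUF hScod hdisj) r).zobj.scheme
          (X.res U').scheme = (j : ℤ) + 1 from hrc, ← hjc]
        exact hn2
      have hγ : (T.push (X := (restrict (cfgOf U S hne hUF hScod hdisj) r).zobj) (Y := X.res U')
          (restrict (cfgOf U S hne hUF hScod hdisj) r).zι M i' n' (i + 1) n hiZ hnZ).hom
          (∑ y : ↥S, (push0 T.toPreTheory
            ((restrict (cfgOf U S hne hUF hScod hdisj) r).kap y) M i' n').hom (c' y)) = 0 := by
        rw [map_sum, ← hz']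
        refine Finset.sum_congr rfl fun y _ => ?_
        exact (push_pcι_eq T.toPreTheory (restrict (cfgOf U S hne hUF hScod hdisj) r) y M i' n'
          (i + 1) n hiZ hnZ (by rw [hrcy' y]; exact hi2) (by rw [hrcy' y]; exact hn2) (c' y)).symm
      obtain ⟨a₀, ha₀⟩ := (exact_res_push' T.toPreTheory
        (restrict (cfgOf U S hne hUF hScod hdisj) r).dec M i n i' n' (i + 1) hiD hnD hiZ hnZ _).mp hγ
      have hU₀'F : ContainsFj X j (openCompl X U' S) := containsFj_openCompl hU'F hScod
      refine ⟨((T.fjι X j i n (fjMk X j (openCompl X U' S) hU₀'F)).app M).hom a₀, ?_⟩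
      apply DFinsupp.ext
      intro x
      rw [PreTheory.ResData.tot_apply]
      by_cases hxS : x.1 ∈ S
      · have h1 := resData_cpt_cfg Q (restrict (cfgOf U S hne hUF hScod hdisj) r) ⟨x.1, hxS⟩ x.2
          hU₀'F M i n i' n' hi hn hiD hnD a₀
        refine h1.trans ?_
        have ha₀' : (T.res (restrict (cfgOf U S hne hUF hScod hdisj) r).dec M i n i' n' hiD hnD).hom
            a₀ = ∑ y : ↥S, (push0 T.toPreTheory
              ((restrict (cfgOf U S hne hUF hScod hdisj) r).kap y) M i' n').hom (c' y) := ha₀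
        rw [ha₀', pull_sum_push0 T.toPreTheory (fun y : ↥S => pc X U' y.1)
          (restrict (cfgOf U S hne hUF hScod hdisj) r).kap
          (restrict (cfgOf U S hne hUF hScod hdisj) r).kap_disj M i' n' c' ⟨x.1, hxS⟩]
        refine (ptι_pieceIdx_restrict T.toPreTheory X x.1 hle' (hmemU' x.1 hxS) M i' n'
          (c ⟨x.1, hxS⟩)).trans ?_
        exact (hc ⟨x.1, hxS⟩).trans (hξfun x)
      · rw [hsupp x hxS]
        refine resData_cpt_of_mem Q x (openCompl X U' S) hU₀'F ?_ M i n i' n' hi hn a₀
        exact mem_openCompl.mpr ⟨hU'F x.1 (le_of_eq x.2), hnotcl S hScod x hxS⟩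
  · rintro ⟨a, rfl⟩
    obtain ⟨U₀, hU₀, a₀, rfl⟩ := fj_exists_rep T.toPreTheory X j M i n a
    obtain ⟨U, S, hUF, hScod, hdisj, hcompl⟩ := exists_cfg X j U₀ hU₀
    have hdU₀ := dim_eq_of_containsFj X j U₀ hU₀
    have hmemU : ∀ y ∈ S, y ∈ U := fun y hy => hUF y (le_of_eq (hScod y hy))
    have hsupp : ∀ x : X.cdPt (j + 1), x.1 ∉ S →
        ((Q.tot M i n i' n' hi hn).hom
          (((T.fjι X j i n (fjMk X j U₀ hU₀)).app M).hom a₀)) x = 0 := by
      intro x hxS
      rw [PreTheory.ResData.tot_apply]
      refine resData_cpt_of_mem Q x U₀ hU₀ (hcompl ?_) M i n i' n' hi hn a₀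
      exact mem_openCompl.mpr ⟨hUF x.1 (le_of_eq x.2), hnotcl S hScod x hxS⟩
    rw [pushData_tot_eq_sum P M i' n' (i + 1) n hi2 hn2 S hScod _ hsupp]
    by_cases hS : S = ∅
    · subst hS
      exact Finset.sum_of_isEmpty _
    · have hne : S.Nonempty := Finset.nonempty_iff_ne_empty.mpr hS
      have hU₀F : ContainsFj X j (openCompl X U S) := containsFj_openCompl hUF hScod
      have hdC₀ : WeilCoh.dim (openCompl X U S : Scheme.{u}) = WeilCoh.dim (U₀ : Scheme.{u}) :=
        (dim_eq_of_containsFj X j _ hU₀F).trans hdU₀.symm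
      have hrc : (cfgOf U S hne hUF hScod hdisj).dec.codim = (j : ℤ) + 1 :=
        cfgOf_relCodim U S hne hUF hScod hdisj
      have hiD : i' = i + 1 - 2 * (cfgOf U S hne hUF hScod hdisj).dec.codim := by
        rw [hrc]; exact hi
      have hnD : n' = n - (cfgOf U S hne hUF hScod hdisj).dec.codim := by
        rw [hrc]; exact hn
      have hiZ : i + 1 = i' + 2 * relCodim (cfgOf U S hne hUF hScod hdisj).zobj.scheme
          (X.res U).scheme := by
        rw [cfgOf_relCodim U S hne hUF hScod hdisj, ← hjc]; exact hi2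
      have hnZ : n = n' + relCodim (cfgOf U S hne hUF hScod hdisj).zobj.scheme
          (X.res U).scheme := by
        rw [cfgOf_relCodim U S hne hUF hScod hdisj, ← hjc]; exact hn2
      have hrcy : ∀ y : ↥S, relCodim (pc X U y.1).scheme (X.res U).scheme = ((j + 1 : ℕ) : ℤ) :=
        fun y => relCodim_std (X := X) (j := j + 1) ⟨y.1, hScod y.1 y.2⟩ U hUF (hmemU y.1 y.2)
      have hrep := fjι_resLE_apply T.toPreTheory X j M i n U₀ (openCompl X U S) hU₀ hU₀F hcompl
        hdC₀ a₀
      have hterm : ∀ y : ↥S, (P.cpt ⟨y.1, hScod y.1 y.2⟩ M i' n' (i + 1) n hi2 hn2).hom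
          (((Q.tot M i n i' n' hi hn).hom
            (((T.fjι X j i n (fjMk X j U₀ hU₀)).app M).hom a₀)) ⟨y.1, hScod y.1 y.2⟩) =
          ((T.fjι X (j + 1) (i + 1) n (fjMk X (j + 1) U hUF)).app M).hom
            ((T.push (X := pc X U y.1) (Y := X.res U) (pcι X U y.1) M i' n' (i + 1) n
              (by rw [hrcy y]; exact hi2) (by rw [hrcy y]; exact hn2)).hom
              ((T.pull ((cfgOf U S hne hUF hScod hdisj).kap y) M i' n').hom
                ((T.res (cfgOf U S hne hUF hScod hdisj).dec M i n i' n' hiD hnD).hom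
                  ((T.pull (X.resLE hcompl hdC₀) M i n).hom a₀)))) := by
        intro y
        rw [PreTheory.ResData.tot_apply, ← hrep,
          resData_cpt_cfg Q (cfgOf U S hne hUF hScod hdisj) y (hScod y.1 y.2) hU₀F M i n i' n'
            hi hn hiD hnD]
        have hstd := pushData_cpt_std P ⟨y.1, hScod y.1 y.2⟩ M i' n' (i + 1) n hi2 hn2 U hUF
          (hmemU y.1 y.2) (by rw [hrcy y]; exact hi2) (by rw [hrcy y]; exact hn2)
        exact congrArg (fun φ => φ.hom
          ((T.pull ((cfgOf U S hne hUF hScod hdisj).kap y) M i' n').hom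
            ((T.res (cfgOf U S hne hUF hScod hdisj).dec M i n i' n' hiD hnD).hom
              ((T.pull (X.resLE hcompl hdC₀) M i n).hom a₀)))) hstd
      rw [Finset.sum_congr rfl (fun y _ => hterm y), ← map_sum,
        ← push_zι_eq_sum T.toPreTheory (cfgOf U S hne hUF hScod hdisj) M i' n' (i + 1) n hiZ hnZ]
      have hex := (exact_res_push' T.toPreTheory (cfgOf U S hne hUF hScod hdisj).dec M i n i' n'
        (i + 1) hiD hnD hiZ hnZ _).mpr ⟨(T.pull (X.resLE hcompl hdC₀) M i n).hom a₀, rfl⟩
      exact (congrArg _ hex).trans (map_zero _)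

end Groth.Agent.S15928
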