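import Groth.Statements.S15929
-- import your own Groth.Agent.* helpers here
import Groth.Agent.Lib.Helper23.BMGysin

set_option autoImplicit false
universe u
open CategoryTheory AlgebraicGeometry Opposite
open BMCoh

namespace Groth.Agent.S15929



/-- Let T be a twisted Borel–Moore cohomology theory with coefficients in A (a full subcategory of
R-modules containing R) on a constructible class V of Noetherian schemes, X an object of V, M a
coefficient module, j a natural number and i, n, i', n' integers with i' = i + 2(j + 1) and n' = n +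
(j + 1); H^i(F_kX, M(n)) denotes the colimit of H^i(U, M(n)) over the open subschemes U of X
containing every point of codimension at most k (codimension of a point = dim X minus the dimension
of its closure), and H^i(x, M(n)) the group of a point x (colimit over the nonempty opens of its
reduced closure). Let P be push-forward data for X at level j + 1: for every point x of codimension
j + 1 a map ι_x : H^i(x, M(n)) → H^{i'}(F_{j+1}X, M(n')), agreeing with proper push-forward along
every piece of the closure of x that is closed in an open containing the points of codimension at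
most j + 1. Then the sequence ⊕_x H^i(x, M(n)) → H^{i'}(F_{j+1}X, M(n')) → H^{i'}(F_jX, M(n')), the
total push-forward ι_* over the points of codimension j + 1 followed by restriction, is exact: the
image of ι_* is the kernel of the restriction map. -/
theorem result (V : ObjectProperty Scheme.{u}) [BMCoh.IsConstructible V] (R : Type u) [CommRing R] (A : BMCoh.Coefs R) (T : BMCoh.TheoryOn V R A) (X : BMCoh.Obj V) (j : ℕ) (P : T.PushData X (j + 1)) (M : A.Cat) (i n i' n' : ℤ) (hi : i' = i + 2 * ((j + 1 : ℕ) : ℤ)) (hn : n' = n + ((j + 1 : ℕ) : ℤ)) : Function.Exact (P.tot M i n i' n' hi hn).hom ((T.fjRes X (Nat.le_succ j) i' n').app M).hom := by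
  open Groth.Agent.Lib.Helper23.BMObj Groth.Agent.Lib.Helper23.BMColim
    Groth.Agent.Lib.Helper23.BMObj2 Groth.Agent.Lib.Helper23.BMData
    Groth.Agent.Lib.Helper23.BMMulti Groth.Agent.Lib.Helper23.BMGeom
    Groth.Agent.Lib.Helper23.BMGysin in
  classical
  have hjc : ((j + 1 : ℕ) : ℤ) = (j : ℤ) + 1 := by push_cast; ring
  intro α
  constructor
  · intro hα
    obtain ⟨U₁, hU₁, β, rfl⟩ := fj_exists_rep T.toPreTheory X (j + 1) M i' n' α
    rw [fjRes_fjι_apply] at hα
    obtain ⟨U₀, hU₀, hle, hd, hβ⟩ :=
      (fjι_eq_zero_iff T.toPreTheory X j M i' n' U₁ _ β).mp hα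
    obtain ⟨U, S, hUF, hScod, hdisj, hcompl⟩ := exists_cfg X j U₀ hU₀
    have hU'F : ContainsFj X (j + 1) (U ⊓ U₁) := containsFj_inf hUF hU₁
    have hdU₁ := dim_eq_of_containsFj X (j + 1) U₁ hU₁
    have hdU' : WeilCoh.dim ((U ⊓ U₁ : X.scheme.Opens) : Scheme.{u}) =
        WeilCoh.dim (U₁ : Scheme.{u}) :=
      (dim_eq_of_containsFj X (j + 1) _ hU'F).trans hdU₁.symm
    rw [← fjι_resLE_apply T.toPreTheory X (j + 1) M i' n' U₁ (U ⊓ U₁) hU₁ hU'F inf_le_right hdU' β]
    -- vanishing on the complement
    have hvan : ∀ (O : X.scheme.Opens) (hO : O ≤ U ⊓ U₁) (hO₀ : O ≤ U₀)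
        (hdO : WeilCoh.dim (O : Scheme.{u}) =
          WeilCoh.dim ((U ⊓ U₁ : X.scheme.Opens) : Scheme.{u})),
        (T.pull (X.resLE hO hdO) M i' n').hom
          ((T.pull (X.resLE (inf_le_right : U ⊓ U₁ ≤ U₁) hdU') M i' n').hom β) = 0 := by
      intro O hO hO₀ hdO
      have hdO₀ : WeilCoh.dim (O : Scheme.{u}) = WeilCoh.dim (U₀ : Scheme.{u}) :=
        (hdO.trans hdU').trans hd.symm
      rw [← pull_comp_apply, resLE_comp, ← resLE_comp X hO₀ hle hdO₀ hd, pull_comp_apply, hβ,
        map_zero]
    by_cases hS : S = ∅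
    · subst hS
      have h0 : (T.pull (X.resLE (inf_le_right : U ⊓ U₁ ≤ U₁) hdU') M i' n').hom β = 0 := by
        have hb := pull_resLE_bijective_of_eq T.toPreTheory X (le_refl (U ⊓ U₁)) (le_refl _) rfl
          M i' n'
        apply hb.1
        rw [map_zero]
        exact hvan (U ⊓ U₁) (le_refl _)
          (((openCompl_empty X _).trans (openCompl_mono X ∅ inf_le_left)).trans hcompl) rfl
      rw [h0, map_zero]
      exact ⟨0, map_zero _⟩
    · have hne : S.Nonempty := Finset.nonempty_iff_ne_empty.mpr hS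
      have hdisj' : PDisj X (U ⊓ U₁) S := hdisj.mono X inf_le_left
      have hrc : relCodim (cfgOf (U ⊓ U₁) S hne hU'F hScod hdisj').zobj.scheme
          (X.res (U ⊓ U₁)).scheme = (j : ℤ) + 1 :=
        cfgOf_relCodim (U ⊓ U₁) S hne hU'F hScod hdisj'
      have hi2 : i' = i + 2 * relCodim (cfgOf (U ⊓ U₁) S hne hU'F hScod hdisj').zobj.scheme
          (X.res (U ⊓ U₁)).scheme := by
        rw [hrc, ← hjc]; exact hi
      have hn2 : n' = n + relCodim (cfgOf (U ⊓ U₁) S hne hU'F hScod hdisj').zobj.scheme
          (X.res (U ⊓ U₁)).scheme := by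
        rw [hrc, ← hjc]; exact hn
      have hpull : (T.pull (cfgOf (U ⊓ U₁) S hne hU'F hScod hdisj').dec.j M i' n').hom
          ((T.pull (X.resLE (inf_le_right : U ⊓ U₁ ≤ U₁) hdU') M i' n').hom β) = 0 :=
        hvan (openCompl X (U ⊓ U₁) S) (openCompl_le X _ _)
          ((openCompl_mono X S inf_le_left).trans hcompl)
          (cfgOf (U ⊓ U₁) S hne hU'F hScod hdisj').dimU₀'
      obtain ⟨c, hc⟩ := exists_sum_push T.toPreTheory (cfgOf (U ⊓ U₁) S hne hU'F hScod hdisj')
        M i n i' n' hi2 hn2 _ hpull
      have hmem : ∀ y : ↥S, y.1 ∈ U ⊓ U₁ := fun y => hU'F y.1 (by rw [hScod y.1 y.2])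
      refine ⟨∑ y : ↥S, DirectSum.lof R (X.cdPt (j + 1))
        (fun y : X.cdPt (j + 1) => T.ptGp X y.1 M i n) ⟨y.1, hScod y.1 y.2⟩
        (((T.ptι X y.1 i n (pieceIdx X y.1 (U ⊓ U₁) (hmem y))).app
          M).hom (c y)), ?_⟩
      rw [hc, map_sum, map_sum]
      refine Finset.sum_congr rfl fun y _ => ?_
      rw [PreTheory.PushData.tot_lof]
      have hstd := pushData_cpt_std P ⟨y.1, hScod y.1 y.2⟩ M i n i' n' hi hn (U ⊓ U₁) hU'F
        (hmem y)
        (by rw [relCodim_pc_eq (cfgOf (U ⊓ U₁) S hne hU'F hScod hdisj') y]; exact hi2)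
        (by rw [relCodim_pc_eq (cfgOf (U ⊓ U₁) S hne hU'F hScod hdisj') y]; exact hn2)
      exact congrArg (fun φ => φ.hom (c y)) hstd
  · rintro ⟨ξ, rfl⟩
    induction ξ using DirectSum.induction_on with
    | zero => rw [map_zero, map_zero]
    | add ξ₁ ξ₂ h₁ h₂ => rw [map_add, map_add, h₁, h₂, add_zero]
    | of x a =>
      change ((T.fjRes X (Nat.le_succ j) i' n').app M).hom ((P.tot M i n i' n' hi hn).hom
        (DirectSum.lof R (X.cdPt (j + 1)) (fun y : X.cdPt (j + 1) => T.ptGp X y.1 M i n) x a)) = 0
      rw [PreTheory.PushData.tot_lof]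
      obtain ⟨U, hUF, hxU, b, rfl⟩ := pt_exists_rep T.toPreTheory X (j + 1) x.1 x.2 M i n a
      have hrcx := relCodim_std x U hUF hxU
      have hix : i' = i + 2 * relCodim (pc X U x.1).scheme (X.res U).scheme := by
        rw [hrcx]; exact hi
      have hnx : n' = n + relCodim (pc X U x.1).scheme (X.res U).scheme := by
        rw [hrcx]; exact hn
      have hstd := pushData_cpt_std P x M i n i' n' hi hn U hUF hxU hix hnx
      have hstd' := congrArg (fun φ => φ.hom b) hstd
      refine (congrArg ((T.fjRes X (Nat.le_succ j) i' n').app M).hom hstd').trans ?_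
      -- the configuration with the single point x
      have hSx : ∀ y ∈ ({x.1} : Finset X.scheme), WeilCoh.codim X.scheme y = j + 1 := by
        intro y hy
        rw [Finset.mem_singleton.mp hy]
        exact x.2
      have hdx : PDisj X U ({x.1} : Finset X.scheme) := by
        intro y hy y' hy' hne
        rw [Finset.mem_singleton.mp hy, Finset.mem_singleton.mp hy'] at hne
        exact (hne rfl).elim
      have hU₀F : ContainsFj X j (openCompl X U {x.1}) := containsFj_openCompl hUF hSx
      have hz := pull_j_push_pcι T.toPreTheory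
        (cfgOf U {x.1} (Finset.singleton_nonempty _) hUF hSx hdx)
        ⟨x.1, Finset.mem_singleton_self _⟩ M i n i' n' hix hnx b
      refine (fjRes_fjι_apply T.toPreTheory X (Nat.le_succ j) M i' n'
        (fjMk X (j + 1) U hUF) _).trans ?_
      rw [← fjι_resLE_apply T.toPreTheory X j M i' n' U (openCompl X U {x.1})
        (containsFj_mono X (Nat.le_succ j) U hUF) hU₀F (openCompl_le X U {x.1})
        (cfgOf U {x.1} (Finset.singleton_nonempty _) hUF hSx hdx).dimU₀']
      exact (congrArg _ hz).trans (map_zero _)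

end Groth.Agent.S15929
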