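import Groth.Statements.S15930
-- import your own Groth.Agent.* helpers here
import Groth.Agent.Lib.Helper23.BMZero2

set_option autoImplicit false
universe u
open CategoryTheory AlgebraicGeometry Opposite
open BMCoh

namespace Groth.Agent.S15930



/-- Let T be a twisted Borel–Moore cohomology theory with coefficients in A (a full subcategory of
R-modules containing R) on a constructible class V of Noetherian schemes, X an object of V, M a
coefficient module and i, n, i', n' integers with i' = i + 2·0 and n' = n + 0 (the shift of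
push-forward data at level 0, carried as hypotheses); H^i(F_kX, M(n)) denotes the colimit of H^i(U,
M(n)) over the open subschemes U of X containing every point of codimension at most k (codimension
of a point = dim X minus the dimension of its closure), and H^i(x, M(n)) the group of a point x
(colimit over the nonempty opens of its reduced closure). Assume X is reduced, and let P be
push-forward data for X at level 0: for every point x of codimension 0 (a generic point of an
irreducible component of dimension dim X) a map ι_x : H^i(x, M(n)) → H^{i'}(F_0X, M(n')), agreeing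
with proper push-forward along every piece of the closure of x that is closed in an open containing
the points of codimension 0. Then the total push-forward ι_* : ⊕_x H^i(x, M(n)) → H^{i'}(F_0X,
M(n')) over the points of codimension 0 is bijective. (The published sequence at codimension 0 has
the zero group H(F_{−1}X) on both sides of these two terms; it carries no reducedness hypothesis,
while here the groups of a point are formed on its reduced closure and those of F_0X on opens of X
itself, and insensitivity of the theory to nilpotents is not among the conditions imposed on a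
theory, so X is taken reduced.) -/
theorem result (V : ObjectProperty Scheme.{u}) [BMCoh.IsConstructible V] (R : Type u) [CommRing R] (A : BMCoh.Coefs R) (T : BMCoh.TheoryOn V R A) (X : BMCoh.Obj V) [IsReduced X.scheme] (P : T.PushData X 0) (M : A.Cat) (i n i' n' : ℤ) (hi : i' = i + 2 * ((0 : ℕ) : ℤ)) (hn : n' = n + ((0 : ℕ) : ℤ)) : Function.Bijective (P.tot M i n i' n' hi hn).hom := by
  open Groth.Agent.Lib.Helper23.BMObj Groth.Agent.Lib.Helper23.BMColim
    Groth.Agent.Lib.Helper23.BMObj2 Groth.Agent.Lib.Helper23.BMData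
    Groth.Agent.Lib.Helper23.BMMulti Groth.Agent.Lib.Helper23.BMGeom
    Groth.Agent.Lib.Helper23.BMPart Groth.Agent.Lib.Helper23.BMRes2
    Groth.Agent.Lib.Helper23.BMRes3 Groth.Agent.Lib.Helper23.BMZero in
  classical
  have hi0 : i' = i := by rw [hi]; simp
  have hn0 : n' = n := by rw [hn]; simp
  subst hi0
  subst hn0
  -- index equations for the pieces
  have hrc : ∀ (U : X.scheme.Opens) (hU : ContainsFj X 0 U) (y : X.scheme)
      (hy : WeilCoh.codim X.scheme y = 0),
      relCodim (pc X U y).scheme (X.res U).scheme = ((0 : ℕ) : ℤ) := fun U hU y hy =>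
    relCodim_std (X := X) (j := 0) ⟨y, hy⟩ U hU (hU y (le_of_eq hy))
  have hstd : ∀ (U : X.scheme.Opens) (hU : ContainsFj X 0 U) (y : X.scheme)
      (hy : WeilCoh.codim X.scheme y = 0) (hi' : i' = i' + 2 * relCodim (pc X U y).scheme
        (X.res U).scheme) (hn' : n' = n' + relCodim (pc X U y).scheme (X.res U).scheme)
      (b : T.gp (pc X U y) M i' n'),
      (P.cpt ⟨y, hy⟩ M i' n' i' n' hi hn).hom
        (((T.ptι X y i' n' (pieceIdx X y U (hU y (le_of_eq hy)))).app M).hom b) =
      ((T.fjι X 0 i' n' (fjMk X 0 U hU)).app M).hom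
        ((T.push (X := pc X U y) (Y := X.res U) (pcι X U y) M i' n' i' n' hi' hn').hom b) := by
    intro U hU y hy hi' hn' b
    have := pushData_cpt_std P ⟨y, hy⟩ M i' n' i' n' hi hn U hU (hU y (le_of_eq hy)) hi' hn'
    exact congrArg (fun φ => φ.hom b) this
  constructor
  · rw [injective_iff_map_eq_zero]
    intro ξ hξ
    obtain ⟨C, -, hCF⟩ := exists_cfg0 X ⊤ (fun _ _ => trivial)
    have hall : ∀ x : X.cdPt 0, x.1 ∈ C.S := by
      intro x
      obtain ⟨y, hy, hxy⟩ := C.cover x.1 (hCF x.1 (le_of_eq x.2))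
      by_cases hxe : x.1 = y
      · exact hxe ▸ hy
      · have := codim_lt_of_mem_closure X hxy hxe
        rw [x.2] at this
        omega
    let ξfun : ∀ y : X.scheme, T.ptGp X y M i' n' :=
      fun y => if hy : WeilCoh.codim X.scheme y = 0 then ξ ⟨y, hy⟩ else 0
    have hξfun : ∀ x : X.cdPt 0, ξfun x.1 = ξ x := fun x => dif_pos x.2
    obtain ⟨U, hUF, hUle, hrep⟩ :=
      exists_common_rep T.toPreTheory X 0 C.S C.cod M i' n' ξfun C.U hCF
    have hmemU : ∀ y ∈ C.S, y ∈ U := fun y hy => hUF y (le_of_eq (C.cod y hy))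
    choose c hc using (fun y : ↥C.S => hrep y.1 y.2 (hmemU y.1 y.2))
    have hsum := pushData_tot_eq_sum P M i' n' i' n' hi hn C.S C.cod ξ
      (fun x hx => (hx (hall x)).elim)
    have hterm : ∀ y : ↥C.S, (P.cpt ⟨y.1, C.cod y.1 y.2⟩ M i' n' i' n' hi hn).hom
        (ξ ⟨y.1, C.cod y.1 y.2⟩) =
        ((T.fjι X 0 i' n' (fjMk X 0 U hUF)).app M).hom
          ((T.push (X := pc X U y.1) (Y := X.res U) (pcι X U y.1) M i' n' i' n'
            (by rw [hrc U hUF y.1 (C.cod y.1 y.2)]; exact hi)
            (by rw [hrc U hUF y.1 (C.cod y.1 y.2)]; exact hn)).hom (c y)) := by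
      intro y
      rw [← hξfun ⟨y.1, C.cod y.1 y.2⟩, ← hc y]
      exact hstd U hUF y.1 (C.cod y.1 y.2) _ _ (c y)
    rw [hsum, Finset.sum_congr rfl (fun y _ => hterm y), ← map_sum] at hξ
    obtain ⟨U', hU'F, hle', hd', hz⟩ := (fjι_eq_zero_iff T.toPreTheory X 0 M i' n' U hUF _).mp hξ
    have hmemU' : ∀ y ∈ C.S, y ∈ U' := fun y hy => hU'F y (le_of_eq (C.cod y hy))
    let c' : ∀ y : ↥C.S, T.gp (pc X U' y.1) M i' n' := fun y =>
      (T.pull ((X.ptSub y.1).resLE (ptOpen_mono hle')
        (dim_ptOpen_eq X (hmemU y.1 y.2) (hmemU' y.1 y.2))) M i' n').hom (c y)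
    -- the restricted configuration
    have hz' : ∑ y : ↥C.S, (push0 T.toPreTheory
        ((C.restrict U' (hle'.trans hUle) hU'F).kap y) M i' n').hom (c' y) = 0 := by
      rw [map_sum] at hz
      rw [← hz]
      refine Finset.sum_congr rfl fun y _ => ?_
      exact (pull_push_pcι T.toPreTheory X hle' hd' y.1
        (dim_ptOpen_eq X (hmemU y.1 y.2) (hmemU' y.1 y.2)) M i' n' i' n'
        (by rw [hrc U hUF y.1 (C.cod y.1 y.2)]; exact hi)
        (by rw [hrc U hUF y.1 (C.cod y.1 y.2)]; exact hn)
        (by rw [hrc U' hU'F y.1 (C.cod y.1 y.2)]; exact hi)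
        (by rw [hrc U' hU'F y.1 (C.cod y.1 y.2)]; exact hn) (c y)).symm
    have hc'0 : ∀ y : ↥C.S, c' y = 0 := by
      intro y
      have := pull_sum_push0 T.toPreTheory (fun y : ↥C.S => pc X U' y.1)
        (C.restrict U' (hle'.trans hUle) hU'F).kap
        (C.restrict U' (hle'.trans hUle) hU'F).kap_disj M i' n' c' y
      rw [hz', map_zero] at this
      exact this.symm
    apply DFinsupp.ext
    intro x
    have h1 := hc ⟨x.1, hall x⟩
    have h2 := ptι_pieceIdx_restrict T.toPreTheory X x.1 hle' (hmemU' x.1 (hall x)) M i' n'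
      (c ⟨x.1, hall x⟩)
    have h3 : ξ x = ξfun x.1 := (hξfun x).symm
    rw [h3, ← h1, ← h2]
    exact (congrArg _ (hc'0 ⟨x.1, hall x⟩)).trans (map_zero _)
  · intro a
    obtain ⟨U₀, hU₀, a₀, rfl⟩ := fj_exists_rep T.toPreTheory X 0 M i' n' a
    obtain ⟨C, hCle, hCF⟩ := exists_cfg0 X U₀ hU₀
    have hdC : WeilCoh.dim (C.U : Scheme.{u}) = WeilCoh.dim (U₀ : Scheme.{u}) :=
      C.dimU.trans (dim_eq_of_containsFj X 0 U₀ hU₀).symm
    rw [← fjι_resLE_apply T.toPreTheory X 0 M i' n' U₀ C.U hU₀ hCF hCle hdC a₀]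
    rw [← add_id T.toPreTheory (fun y : ↥C.S => pc X C.U y.1) C.kap C.kap_disj C.kap_cover M i' n'
      ((T.pull (X.resLE hCle hdC) M i' n').hom a₀)]
    refine ⟨∑ y : ↥C.S, DirectSum.lof R (X.cdPt 0) (fun y : X.cdPt 0 => T.ptGp X y.1 M i' n')
      ⟨y.1, C.cod y.1 y.2⟩ (((T.ptι X y.1 i' n' (pieceIdx X y.1 C.U (C.mem y.1 y.2))).app M).hom
        ((T.pull (C.kap y) M i' n').hom ((T.pull (X.resLE hCle hdC) M i' n').hom a₀))), ?_⟩
    rw [map_sum, map_sum]
    refine Finset.sum_congr rfl fun y _ => ?_
    rw [PreTheory.PushData.tot_lof]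
    exact hstd C.U hCF y.1 (C.cod y.1 y.2) _ _ _

end Groth.Agent.S15930
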