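import Groth.Statements.S15932
-- import your own Groth.Agent.* helpers here
import Groth.Agent.Lib.Helper23.BMRes3

set_option autoImplicit false
universe u
open CategoryTheory AlgebraicGeometry Opposite
open BMCoh

namespace Groth.Agent.S15932



/-- Let T be a twisted Borel–Moore cohomology theory with coefficients in A (a full subcategory of
R-modules containing R) on a constructible class V of Noetherian schemes, X an object of V and j a
natural number; H^i(F_kX, M(n)) denotes the colimit of H^i(U, M(n)) over the open subschemes U of X
containing every point of codimension at most k (codimension of a point = dim X minus the dimension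
of its closure), and H^i(x, M(n)) the group of a point x (colimit over the nonempty opens of its
reduced closure). A residue datum for X at level j consists of maps ∂_x : H^i(F_jX, M(n)) →
H^{i'}(x, M(n')), (i', n') = (i + 1 − 2(j+1), n − (j+1)), for every point x of codimension j + 1,
every coefficient module M and all i, n, each class having only finitely many nonzero ∂_x, such
that: for every object Y with a morphism of V into X, every decomposition of Y into a closed part Z
and an open complement U' of the dimension of Y, every nonempty open W of the reduced closure of x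
(of its dimension) with a morphism of V into Z over X, and every open U of X containing the points
of codimension at most j (of the dimension of X) with a morphism of V into U' over X, the composite
H^i(U') → H^i(U) → H^i(F_jX) → H^{i'}(x) equals the residue map of the decomposition followed by
restriction to W and the canonical map H^{i'}(W) → H^{i'}(x). There is at most one such datum. -/
theorem result (V : ObjectProperty Scheme.{u}) [BMCoh.IsConstructible V] (R : Type u) [CommRing R] (A : BMCoh.Coefs R) (T : BMCoh.TheoryOn V R A) (X : BMCoh.Obj V) (j : ℕ) : Subsingleton (T.ResData X j) := by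
  open Groth.Agent.Lib.Helper23.BMObj Groth.Agent.Lib.Helper23.BMColim
    Groth.Agent.Lib.Helper23.BMObj2 Groth.Agent.Lib.Helper23.BMData
    Groth.Agent.Lib.Helper23.BMMulti Groth.Agent.Lib.Helper23.BMGeom
    Groth.Agent.Lib.Helper23.BMGysin Groth.Agent.Lib.Helper23.BMShrink
    Groth.Agent.Lib.Helper23.BMRes Groth.Agent.Lib.Helper23.BMPart
    Groth.Agent.Lib.Helper23.BMRes2 Groth.Agent.Lib.Helper23.BMRes3 in
  classical
  refine ⟨fun Q Q' => ?_⟩
  have hcpt : Q.cpt = Q'.cpt := by
    funext x M i n i' n' hi hn
    apply ocolim_hom_ext T.toPreTheory X (ContainsFj X j) M i n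
    intro U₀
    apply ModuleCat.hom_ext
    apply LinearMap.ext
    intro a₀
    change (Q.cpt x M i n i' n' hi hn).hom
        (((T.fjι X j i n (fjMk X j U₀.1 U₀.2.1)).app M).hom a₀) =
      (Q'.cpt x M i n i' n' hi hn).hom (((T.fjι X j i n (fjMk X j U₀.1 U₀.2.1)).app M).hom a₀)
    by_cases hx : x.1 ∈ U₀.1
    · rw [resData_cpt_of_mem Q x U₀.1 U₀.2.1 hx M i n i' n' hi hn a₀,
        resData_cpt_of_mem Q' x U₀.1 U₀.2.1 hx M i n i' n' hi hn a₀]
    · obtain ⟨U, S, hUF, hScod, hdisj, hcompl⟩ := exists_cfg X j U₀.1 U₀.2.1
      have hxU : x.1 ∈ U := hUF x.1 (le_of_eq x.2)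
      have hxS : x.1 ∈ S := by
        by_contra hxS
        apply hx
        apply hcompl
        refine mem_openCompl.mpr ⟨hxU, fun y hy hxy => ?_⟩
        by_cases hxe : x.1 = y
        · exact hxS (hxe ▸ hy)
        · have := codim_lt_of_mem_closure X hxy hxe
          rw [hScod y hy, x.2] at this
          exact lt_irrefl _ this
      have hne : S.Nonempty := ⟨x.1, hxS⟩
      have hU₀F : ContainsFj X j (openCompl X U S) := containsFj_openCompl hUF hScod
      have hdC₀ : WeilCoh.dim (openCompl X U S : Scheme.{u}) = WeilCoh.dim (U₀.1 : Scheme.{u}) :=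
        (dim_eq_of_containsFj X j _ hU₀F).trans U₀.2.2.symm
      have hrc : (cfgOf U S hne hUF hScod hdisj).dec.codim = (j : ℤ) + 1 :=
        cfgOf_relCodim U S hne hUF hScod hdisj
      have hiD : i' = i + 1 - 2 * (cfgOf U S hne hUF hScod hdisj).dec.codim := by
        rw [hrc]; exact hi
      have hnD : n' = n - (cfgOf U S hne hUF hScod hdisj).dec.codim := by
        rw [hrc]; exact hn
      have hrep := fjι_resLE_apply T.toPreTheory X j M i n U₀.1 (openCompl X U S) U₀.2.1 hU₀F
        hcompl hdC₀ a₀
      rw [← hrep]
      exact (resData_cpt_cfg Q (cfgOf U S hne hUF hScod hdisj) ⟨x.1, hxS⟩ x.2 hU₀F M i n i' n'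
        hi hn hiD hnD _).trans
        (resData_cpt_cfg Q' (cfgOf U S hne hUF hScod hdisj) ⟨x.1, hxS⟩ x.2 hU₀F M i n i' n'
        hi hn hiD hnD _).symm
  cases Q
  cases Q'
  congr

end Groth.Agent.S15932
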