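import Groth.Statements.S15933
-- import your own Groth.Agent.* helpers here
import Groth.Agent.Lib.Helper23.BMVan
import Groth.Agent.S15927
import Groth.Agent.S15928
import Groth.Agent.S15929
import Groth.Agent.S15930

set_option autoImplicit false
universe u
open CategoryTheory AlgebraicGeometry Opposite
open BMCoh

namespace Groth.Agent.S15933



/-- Let T be a twisted Borel–Moore cohomology theory with coefficients in A (a full subcategory of
R-modules containing R) on a constructible class V of Noetherian schemes, X an object of V, M a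
coefficient module; H^i(F_kX, M(n)) denotes the colimit of H^i(U, M(n)) over the open subschemes U
of X containing every point of codimension at most k (codimension of a point = dim X minus the
dimension of its closure), and H^i(x, M(n)) the group of a point x (colimit over the nonempty opens
of its reduced closure); for each level p let push-forward data at level p be the maps ι_x : H^k(x,
M(l)) → H^{k+2p}(F_pX, M(l+p)) for the points x of codimension p, agreeing with proper push-forward
along pieces of the closure of x, with total map ι_*, and residue data at level p the maps ∂_x :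
H^k(F_pX, M(l)) → H^{k+1−2(p+1)}(x, M(l−(p+1))) for the points x of codimension p + 1, agreeing with
the residue maps of the Gysin sequences of decompositions and finitely supported, with total map ∂.
Assume that X is reduced, of dimension d, and that there is a natural number c such that for every
point y of X the groups H^k(y, M(l)) vanish for all l and all k > dim(closure of y) + c. Let q be a
natural number, P₀, Q₀ push-forward and residue data at level q, P₁, Q₁ push-forward and residue
data at level q + 1, and fix integers with e + (q + 1) = d + c (the degree on the points of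
codimension q + 1), a = e + 2(q + 1) and n = m + (q + 1) (so ι_* maps ⊕_x H^e(x, M(m)) over the
points of codimension q + 1 to H^a(F_{q+1}X, M(n))), e' = a + 1 − 2(q + 2) and m' = n − (q + 2) (the
target bidegree of ∂ at level q + 1), a₀ = b + 2q and n₀ = k + q, e = a₀ + 1 − 2(q + 1) and m = n₀ −
(q + 1) (so ∂ ∘ ι_* maps ⊕_x H^b(x, M(k)) over the points of codimension q to ⊕_x H^e(x, M(m)) over
those of codimension q + 1). Then: (i) every class of H^a(F_{q+1}X, M(n)) in the image of
H^a(F_{q+2}X, M(n)) — the refined unramified group in degree a = d + c + q + 1 at level q + 1 —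
equals ι_*ξ for some ξ in ⊕_x H^e(x, M(m)) with ∂(ι_*ξ) = 0; and (ii) every ξ in that direct sum
with ∂(ι_*ξ) = 0 and ι_*ξ = 0 equals ∂(ι_*ζ) for some ζ in ⊕_x H^b(x, M(k)) over the points of
codimension q. In words: ι_* induces a bijection from the kernel of ∂ ∘ ι_* modulo the image of ∂ ∘
ι_* onto that refined unramified group. (The published corollary is stated for the finite
Tate-twisted coefficients of an ℓ-adic theory and for every codimension j ≥ 0, with no reducedness
hypothesis; its printed derivation uses only the Gysin sequences and the vanishing of H^k(F_pX) in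
degrees k > d + p + c, which involve neither the coefficient ring nor the twist, so the statement is
made here for any theory and coefficient module, for codimension j = q + 1 ≥ 1, and with X reduced
because that vanishing is available here for reduced X.) -/
theorem result (V : ObjectProperty Scheme.{u}) [BMCoh.IsConstructible V] (R : Type u) [CommRing R] (A : BMCoh.Coefs R) (T : BMCoh.TheoryOn V R A) (X : BMCoh.Obj V) [IsReduced X.scheme] (M : A.Cat) (c : ℕ) (hc : ∀ (y : X.scheme) (k l : ℤ), (WeilCoh.pdim X.scheme y : ℤ) + c < k → Limits.IsZero (T.ptGp X y M k l)) (q : ℕ) (P₀ : T.PushData X q) (Q₀ : T.ResData X q) (P₁ : T.PushData X (q + 1)) (Q₁ : T.ResData X (q + 1)) (e m a n e' m' b k a₀ n₀ : ℤ) (hd : e + ((q + 1 : ℕ) : ℤ) = (WeilCoh.dim X.scheme : ℤ) + c) (ha : a = e + 2 * ((q + 1 : ℕ) : ℤ)) (hn : n = m + ((q + 1 : ℕ) : ℤ)) (he' : e' = a + 1 - 2 * (((q + 1 : ℕ) : ℤ) + 1)) (hm' : m' = n - (((q + 1 : ℕ) : ℤ) + 1)) (hb : a₀ = b + 2 * (q : ℤ)) (hk : n₀ = k + (q : ℤ)) (he : e = a₀ + 1 - 2 * ((q : ℤ) + 1)) (hm : m = n₀ - ((q : ℤ) + 1)) : (∀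 α : T.fjGp X (q + 1) M a n, α ∈ T.nr X (q + 1) a n M → ∃ ξ : T.ptSum X (q + 1) M e m, (Q₁.tot M a n e' m' he' hm').hom ((P₁.tot M e m a n ha hn).hom ξ) = 0 ∧ (P₁.tot M e m a n ha hn).hom ξ = α) ∧ (∀ ξ : T.ptSum X (q + 1) M e m, (Q₁.tot M a n e' m' he' hm').hom ((P₁.tot M e m a n ha hn).hom ξ) = 0 → (P₁.tot M e m a n ha hn).hom ξ = 0 → ∃ ζ : T.ptSum X q M b k, (Q₀.tot M a₀ n₀ e m he hm).hom ((P₀.tot M b k a₀ n₀ hb hk).hom ζ) = ξ) := by
  open Groth.Agent.Lib.Helper23.BMVan in
  classical
  have hvan := isZero_fjGp_of_hc T X M c hc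
  have haa₀ : a = a₀ + 1 := by rw [ha, he]; push_cast; ring
  have hnn₀ : n = n₀ := by rw [hn, hm]; push_cast; ring
  subst haa₀
  subst hnn₀
  constructor
  · intro α hα
    obtain ⟨α', hα'⟩ : ∃ α', ((T.fjRes X (Nat.le_succ (q + 1)) (a₀ + 1) n).app M).hom α' = α := hα
    have hQ : (Q₁.tot M (a₀ + 1) n e' m' he' hm').hom α = 0 :=
      (Groth.Agent.S15927.result V R A T X (q + 1) Q₁ M (a₀ + 1) n e' m' he' hm' α).mpr ⟨α', hα'⟩
    have hz : ((T.fjRes X (Nat.le_succ q) (a₀ + 1) n).app M).hom α = 0 := by
      have hzero := hvan q (a₀ + 1) n (by push_cast at hd ha ⊢; linarith)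
      haveI := ModuleCat.subsingleton_of_isZero hzero
      exact Subsingleton.elim _ _
    obtain ⟨ξ, hξ⟩ := (Groth.Agent.S15929.result V R A T X q P₁ M e m (a₀ + 1) n ha hn α).mp hz
    exact ⟨ξ, by rw [hξ]; exact hQ, hξ⟩
  · intro ξ _ hPξ
    have hi2 : a₀ + 1 = e + 2 * ((q + 1 : ℕ) : ℤ) := ha
    obtain ⟨β, hβ⟩ := (Groth.Agent.S15928.result V R A T X q Q₀ P₁ M a₀ n e m he hm ha hn ξ).mp hPξ
    suffices hsurj : ∃ ζ, (P₀.tot M b k a₀ n hb hk).hom ζ = β by
      obtain ⟨ζ, hζ⟩ := hsurj
      exact ⟨ζ, by rw [hζ]; exact hβ⟩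
    cases q with
    | zero => exact (Groth.Agent.S15930.result V R A T X P₀ M b k a₀ n hb hk).2 β
    | succ q' =>
      have hz : ((T.fjRes X (Nat.le_succ q') a₀ n).app M).hom β = 0 := by
        have hzero := hvan q' a₀ n (by push_cast at hd ha he ⊢; linarith)
        haveI := ModuleCat.subsingleton_of_isZero hzero
        exact Subsingleton.elim _ _
      exact (Groth.Agent.S15929.result V R A T X q' P₀ M b k a₀ n hb hk β).mp hz

end Groth.Agent.S15933
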