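import Groth.Statements.S15939
import Mathlib

set_option autoImplicit false
universe u
open CAlg

namespace Groth.Agent.S15939

open Polynomial

section Aux

variable {κ A : Type u} [Field κ] [CommRing A] [Algebra κ A]

theorem adjoin_eq_top (h : IsSimpleOrder (Subalgebra κ A)) {x : A}
    (hx : x ∉ (⊥ : Subalgebra κ A)) : Algebra.adjoin κ {x} = ⊤ := by
  rcases h.eq_bot_or_eq_top (Algebra.adjoin κ {x}) with h1 | h1
  · exfalso
    apply hx
    rw [← h1]
    exact Algebra.self_mem_adjoin_singleton κ x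
  · exact h1

theorem surjective_of_mem_range (h : IsSimpleOrder (Subalgebra κ A)) {B : Type*} [Semiring B]
    [Algebra κ B] (f : B →ₐ[κ] A) {x : A} (hx : x ∉ (⊥ : Subalgebra κ A)) (hxf : x ∈ f.range) :
    Function.Surjective f := by
  rcases h.eq_bot_or_eq_top f.range with h1 | h1
  · exfalso
    apply hx
    rw [← h1]
    exact hxf
  · exact (AlgHom.range_eq_top f).mp h1

theorem exists_not_mem_bot (h : IsSimpleOrder (Subalgebra κ A)) :
    ∃ x : A, x ∉ (⊥ : Subalgebra κ A) := by
  have := h.toNontrivial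
  obtain ⟨x, -, hx⟩ := SetLike.exists_of_lt (bot_lt_top : (⊥ : Subalgebra κ A) < ⊤)
  exact ⟨x, hx⟩

theorem nontrivial_of_simple (h : IsSimpleOrder (Subalgebra κ A)) : Nontrivial A := by
  obtain ⟨x, hx⟩ := exists_not_mem_bot h
  refine ⟨⟨x, 0, fun h0 => hx ?_⟩⟩
  rw [h0]
  exact zero_mem _

theorem isIntegral_of_not_mem_bot (h : IsSimpleOrder (Subalgebra κ A)) {x : A}
    (hx : x ∉ (⊥ : Subalgebra κ A)) : IsIntegral κ x := by
  by_cases h2 : x ^ 2 ∈ (⊥ : Subalgebra κ A)
  · obtain ⟨c, hc⟩ := Algebra.mem_bot.mp h2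
    refine ⟨X ^ 2 - C c, monic_X_pow_sub_C c two_ne_zero, ?_⟩
    simp [hc]
  · have h3 := adjoin_eq_top h h2
    have hx' : x ∈ Algebra.adjoin κ {x ^ 2} := by
      rw [h3]
      exact Algebra.mem_top
    rw [Algebra.adjoin_singleton_eq_range_aeval] at hx'
    obtain ⟨p, hp⟩ := (AlgHom.mem_range _).mp hx'
    apply isAlgebraic_iff_isIntegral.mp
    refine ⟨X - expand κ 2 p, fun h0 => ?_, ?_⟩
    · have := congrArg (fun g => coeff g 1) h0
      simp [coeff_expand (by norm_num : 0 < 2)] at this
    · rw [map_sub, aeval_X, expand_aeval, hp, sub_self]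

theorem finiteDimensional_of_simple (h : IsSimpleOrder (Subalgebra κ A)) :
    FiniteDimensional κ A := by
  obtain ⟨x, hx⟩ := exists_not_mem_bot h
  have hfg : (Algebra.adjoin κ {x}).toSubmodule.FG :=
    (isIntegral_of_not_mem_bot h hx).fg_adjoin_singleton
  rw [adjoin_eq_top h hx, Algebra.top_toSubmodule] at hfg
  exact Module.finite_def.mpr hfg

theorem dualNumber_case (h : IsSimpleOrder (Subalgebra κ A)) {n : A} (hn : n ≠ 0)
    (hn2 : n ^ 2 = 0) : Nonempty (A ≃ₐ[κ] DualNumber κ) := by
  have := nontrivial_of_simple h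
  have hnn : n * n = 0 := by
    rw [← sq]
    exact hn2
  have hinjκ : Function.Injective (algebraMap κ A) := (algebraMap κ A).injective
  have hnbot : n ∉ (⊥ : Subalgebra κ A) := by
    intro hmem
    obtain ⟨c, hc⟩ := Algebra.mem_bot.mp hmem
    have h1 : algebraMap κ A (c ^ 2) = 0 := by rw [map_pow, hc, hn2]
    have h2 : c ^ 2 = 0 := (map_eq_zero_iff _ hinjκ).mp h1
    have hc0 : c = 0 := (pow_eq_zero_iff two_ne_zero).mp h2
    apply hn
    rw [← hc, hc0, map_zero]
  obtain ⟨f, hf, hfeps⟩ : ∃ f : DualNumber κ →ₐ[κ] A,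
      (∀ x : DualNumber κ, f x = algebraMap κ A x.fst + algebraMap κ A x.snd * n) ∧
        f DualNumber.eps = n :=
    ⟨DualNumber.lift ⟨(Algebra.ofId κ A, n), hnn, fun a => Commute.all _ _⟩,
      fun x => DualNumber.lift_apply_apply _ x, DualNumber.lift_apply_eps _⟩
  have hinj : Function.Injective f := by
    rw [injective_iff_map_eq_zero]
    intro x hx0
    rw [hf] at hx0
    have hsnd : x.snd = 0 := by
      by_contra hb
      apply hnbot
      rw [Algebra.mem_bot]
      refine ⟨-(x.fst / x.snd), ?_⟩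
      have hb' : algebraMap κ A x.snd * algebraMap κ A (x.snd)⁻¹ = 1 := by
        rw [← map_mul, mul_inv_cancel₀ hb, map_one]
      calc algebraMap κ A (-(x.fst / x.snd))
          = -(algebraMap κ A x.fst * algebraMap κ A (x.snd)⁻¹) := by
            rw [map_neg, div_eq_mul_inv, map_mul]
        _ = n := by
            linear_combination (-(algebraMap κ A (x.snd)⁻¹)) * hx0 + n * hb'
    have hfst : x.fst = 0 := by
      rw [hsnd, map_zero, zero_mul, add_zero] at hx0
      exact (map_eq_zero_iff _ hinjκ).mp hx0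
    exact TrivSqZeroExt.ext (by simpa using hfst) (by simpa using hsnd)
  have hsurj : Function.Surjective f :=
    surjective_of_mem_range h f hnbot ((AlgHom.mem_range f).mpr ⟨DualNumber.eps, hfeps⟩)
  exact ⟨(AlgEquiv.ofBijective f ⟨hinj, hsurj⟩).symm⟩

/-- The algebra map `κ × κ → A` attached to an idempotent. -/
def prodHom (e : A) (he : e * e = e) : κ × κ →ₐ[κ] A where
  toFun ab := algebraMap κ A ab.1 * e + algebraMap κ A ab.2 * (1 - e)
  map_one' := by simp
  map_mul' x y := by
    simp only [Prod.fst_mul, Prod.snd_mul, map_mul]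
    linear_combination (-(algebraMap κ A x.1 * algebraMap κ A y.1
      - algebraMap κ A x.1 * algebraMap κ A y.2 - algebraMap κ A x.2 * algebraMap κ A y.1
      + algebraMap κ A x.2 * algebraMap κ A y.2)) * he
  map_zero' := by simp
  map_add' x y := by
    simp only [Prod.fst_add, Prod.snd_add, map_add]
    ring
  commutes' r := by
    change algebraMap κ A r * e + algebraMap κ A r * (1 - e) = algebraMap κ A r
    ring

theorem prodHom_apply (e : A) (he : e * e = e) (ab : κ × κ) :
    prodHom e he ab = algebraMap κ A ab.1 * e + algebraMap κ A ab.2 * (1 - e) := rfl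

theorem prod_case (h : IsSimpleOrder (Subalgebra κ A)) {e : A} (he : e * e = e) (he0 : e ≠ 0)
    (he1 : e ≠ 1) : Nonempty (A ≃ₐ[κ] (κ × κ)) := by
  have := nontrivial_of_simple h
  have hinjκ : Function.Injective (algebraMap κ A) := (algebraMap κ A).injective
  have hebot : e ∉ (⊥ : Subalgebra κ A) := by
    intro hmem
    obtain ⟨c, hc⟩ := Algebra.mem_bot.mp hmem
    have hcc : c * c = c := by
      apply hinjκ
      rw [map_mul, hc, he]
    have h01 : c = 0 ∨ c = 1 := by
      have h3 : c * (c - 1) = 0 := by rw [mul_sub, mul_one, hcc, sub_self]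
      rcases mul_eq_zero.mp h3 with h0 | h1
      · exact Or.inl h0
      · exact Or.inr (sub_eq_zero.mp h1)
    rcases h01 with h0 | h1
    · apply he0
      rw [← hc, h0, map_zero]
    · apply he1
      rw [← hc, h1, map_one]
  have hinj : Function.Injective (prodHom (κ := κ) e he) := by
    rw [injective_iff_map_eq_zero]
    intro x hx0
    rw [prodHom_apply] at hx0
    have h1 : algebraMap κ A x.1 * e = 0 := by
      have h3 := congrArg (· * e) hx0
      simp only [zero_mul] at h3
      linear_combination h3 - (algebraMap κ A x.1 - algebraMap κ A x.2) * he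
    have h2 : algebraMap κ A x.2 * (1 - e) = 0 := by
      rw [h1, zero_add] at hx0
      exact hx0
    have hx1 : x.1 = 0 := by
      by_contra hne
      apply he0
      have h3 : algebraMap κ A (x.1)⁻¹ * (algebraMap κ A x.1 * e) = e := by
        rw [← mul_assoc, ← map_mul, inv_mul_cancel₀ hne, map_one, one_mul]
      rw [← h3, h1, mul_zero]
    have hx2 : x.2 = 0 := by
      by_contra hne
      apply he1
      have h3 : algebraMap κ A (x.2)⁻¹ * (algebraMap κ A x.2 * (1 - e)) = 1 - e := by
        rw [← mul_assoc, ← map_mul, inv_mul_cancel₀ hne, map_one, one_mul]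
      rw [h2, mul_zero] at h3
      exact (sub_eq_zero.mp h3.symm).symm
    exact Prod.ext hx1 hx2
  have hsurj : Function.Surjective (prodHom (κ := κ) e he) := by
    refine surjective_of_mem_range h _ hebot ((AlgHom.mem_range _).mpr ⟨(1, 0), ?_⟩)
    rw [prodHom_apply]
    simp
  exact ⟨(AlgEquiv.ofBijective (prodHom (κ := κ) e he) ⟨hinj, hsurj⟩).symm⟩

theorem exists_idempotent [IsArtinianRing A] [IsReduced A] {x : A} (hx0 : x ≠ 0)
    (hxu : ¬ IsUnit x) : ∃ e : A, e * e = e ∧ e ≠ 0 ∧ e ≠ 1 := by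
  obtain ⟨n, y, hy⟩ := IsArtinian.exists_pow_succ_smul_dvd x (1 : A)
  simp only [smul_eq_mul, mul_one, Nat.succ_eq_add_one] at hy
  have hk : ∀ k, x ^ (n + k) * y ^ k = x ^ n := by
    intro k
    induction k with
    | zero => simp
    | succ k ih =>
      calc x ^ (n + (k + 1)) * y ^ (k + 1) = x ^ k * (x ^ (n + 1) * y) * y ^ k := by ring
        _ = x ^ (n + k) * y ^ k := by rw [hy]; ring
        _ = x ^ n := ih
  refine ⟨x ^ n * y ^ n, ?_, ?_, ?_⟩
  · calc x ^ n * y ^ n * (x ^ n * y ^ n) = (x ^ (n + n) * y ^ n) * y ^ n := by ring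
      _ = x ^ n * y ^ n := by rw [hk n]
  · intro he
    have h1 : x ^ n = 0 := by
      rw [← hk n]
      calc x ^ (n + n) * y ^ n = x ^ n * (x ^ n * y ^ n) := by ring
        _ = 0 := by rw [he, mul_zero]
    exact hx0 (IsReduced.eq_zero x ⟨n, h1⟩)
  · intro he
    apply hxu
    have hun : IsUnit (x ^ n) := IsUnit.of_mul_eq_one _ he
    have h1 : x ^ n * (x * y) = x ^ n * 1 := by
      calc x ^ n * (x * y) = x ^ (n + 1) * y := by ring
        _ = x ^ n * 1 := by rw [hy, mul_one]
    have hxy : x * y = 1 := hun.mul_left_cancel h1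
    exact IsUnit.of_mul_eq_one _ hxy

end Aux

section FieldCase

variable {κ : Type u} [Field κ]

theorem field_case {E : Type u} [Field E] [Algebra κ E] [FiniteDimensional κ E]
    (h : IsSimpleOrder (Subalgebra κ E)) :
    Algebra.IsSeparable κ E ∨ ∃ (p : ℕ) (a : κ), p.Prime ∧ CharP κ p ∧ (∀ b : κ, b ^ p ≠ a) ∧
          Nonempty (E ≃ₐ[κ] AdjoinRoot (X ^ p - C a)) := by
  by_cases hsep : Algebra.IsSeparable κ E
  · exact Or.inl hsep
  right
  have halg : Algebra.IsAlgebraic κ E := Algebra.IsAlgebraic.of_finite κ E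
  have hbot : separableClosure κ E = ⊥ := by
    rcases h.eq_bot_or_eq_top (separableClosure κ E).toSubalgebra with h1 | h1
    · apply IntermediateField.toSubalgebra_injective
      rw [h1, IntermediateField.bot_toSubalgebra]
    · exfalso
      apply hsep
      apply (separableClosure.eq_top_iff κ E).mp
      apply IntermediateField.toSubalgebra_injective
      rw [h1, IntermediateField.top_toSubalgebra]
  have hpi : IsPurelyInseparable κ E := separableClosure.eq_bot_iff.mp hbot
  obtain ⟨p, hp⟩ : ∃ p, ExpChar κ p := ⟨ringExpChar κ, inferInstance⟩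
  have hp' : p.Prime ∧ CharP κ p := by
    cases hp with
    | zero =>
      exfalso
      exact hsep inferInstance
    | prime hprime => exact ⟨hprime, inferInstance⟩
  obtain ⟨hprime, hchar⟩ := hp'
  have := hchar
  have : Fact p.Prime := ⟨hprime⟩
  have hE : CharP E p := charP_of_injective_algebraMap (algebraMap κ E).injective p
  obtain ⟨x, hx⟩ := exists_not_mem_bot h
  have hex : ∃ n, x ^ p ^ n ∈ (algebraMap κ E).range := IsPurelyInseparable.pow_mem κ p x
  classical
  obtain ⟨n, hn, hmin⟩ : ∃ n, x ^ p ^ n ∈ (algebraMap κ E).range ∧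
      ∀ m < n, x ^ p ^ m ∉ (algebraMap κ E).range :=
    ⟨Nat.find hex, Nat.find_spec hex, fun m hm => Nat.find_min hex hm⟩
  have hn0 : n ≠ 0 := by
    rintro rfl
    rw [pow_zero, pow_one] at hn
    obtain ⟨c, hc⟩ := RingHom.mem_range.mp hn
    exact hx (Algebra.mem_bot.mpr ⟨c, hc⟩)
  obtain ⟨m, rfl⟩ := Nat.exists_eq_succ_of_ne_zero hn0
  obtain ⟨y, hy_def⟩ : ∃ y, y = x ^ p ^ m := ⟨_, rfl⟩
  have hy : y ∉ (algebraMap κ E).range := by
    rw [hy_def]
    exact hmin m (Nat.lt_succ_self m)
  have hyp : y ^ p ∈ (algebraMap κ E).range := by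
    have h1 : y ^ p = x ^ p ^ (m + 1) := by rw [hy_def, ← pow_mul, ← pow_succ]
    rw [h1]
    exact hn
  obtain ⟨a, ha⟩ := RingHom.mem_range.mp hyp
  have hab : ∀ b : κ, b ^ p ≠ a := by
    intro b hb
    apply hy
    have h1 : (y - algebraMap κ E b) ^ p = 0 := by
      rw [sub_pow_char, ← map_pow, hb, ha, sub_self]
    have h2 := (pow_eq_zero_iff hprime.ne_zero).mp h1
    exact RingHom.mem_range.mpr ⟨b, (sub_eq_zero.mp h2).symm⟩
  have hirr : Irreducible (X ^ p - C a : κ[X]) := X_pow_sub_C_irreducible_of_prime hprime hab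
  have : Fact (Irreducible (X ^ p - C a : κ[X])) := ⟨hirr⟩
  obtain ⟨φ, hφ⟩ : ∃ φ : AdjoinRoot (X ^ p - C a : κ[X]) →ₐ[κ] E,
      φ (AdjoinRoot.root _) = y :=
    ⟨AdjoinRoot.liftAlgHom _ (Algebra.ofId κ E) y (by
      rw [eval₂_sub, eval₂_pow, eval₂_X, eval₂_C]
      change y ^ p - algebraMap κ E a = 0
      rw [ha, sub_self]), AdjoinRoot.liftAlgHom_root _ _ _ _⟩
  have hφinj : Function.Injective φ := φ.toRingHom.injective
  have hybot : y ∉ (⊥ : Subalgebra κ E) := fun hmem =>
    hy (RingHom.mem_range.mpr (Algebra.mem_bot.mp hmem))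
  have hφsurj : Function.Surjective φ :=
    surjective_of_mem_range h φ hybot ((AlgHom.mem_range φ).mpr ⟨AdjoinRoot.root _, hφ⟩)
  exact ⟨p, a, hprime, hchar, hab, ⟨(AlgEquiv.ofBijective φ ⟨hφinj, hφsurj⟩).symm⟩⟩

end FieldCase

open Polynomial in
/-- Let κ be a field and A a commutative κ-algebra whose only κ-subalgebras are the image of κ and A
itself, these two being different. Then A is finite-dimensional over κ, and A is isomorphic as a
κ-algebra to the dual numbers over κ, or to κ × κ, or A is a field which is either separable over κ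
or isomorphic to κ[X]/(X^p - a) with p the (positive) characteristic of κ and a an element of κ that
is not a p-th power. (The published statement also records that these four cases exclude one
another; that part is not restated.) -/
theorem result (κ A : Type u) [Field κ] [CommRing A] [Algebra κ A]
    (h : IsSimpleOrder (Subalgebra κ A)) :
    FiniteDimensional κ A ∧
    (Nonempty (A ≃ₐ[κ] DualNumber κ) ∨ Nonempty (A ≃ₐ[κ] (κ × κ)) ∨
      (IsField A ∧ (Algebra.IsSeparable κ A ∨
        ∃ (p : ℕ) (a : κ), p.Prime ∧ CharP κ p ∧ (∀ b : κ, b ^ p ≠ a) ∧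
          Nonempty (A ≃ₐ[κ] AdjoinRoot (X ^ p - C a))))) := by
  have hfd : FiniteDimensional κ A := finiteDimensional_of_simple h
  refine ⟨hfd, ?_⟩
  have := nontrivial_of_simple h
  have : IsArtinianRing A := IsArtinianRing.of_finite κ A
  by_cases hred : ∃ n : A, n ≠ 0 ∧ n ^ 2 = 0
  · obtain ⟨n, hn, hn2⟩ := hred
    exact Or.inl (dualNumber_case h hn hn2)
  · have : IsReduced A := (isReduced_iff_pow_one_lt 2 one_lt_two).mpr (fun x hx => by
      by_contra hne
      exact hred ⟨x, hne, hx⟩)
    by_cases hunit : ∃ x : A, x ≠ 0 ∧ ¬ IsUnit x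
    · obtain ⟨x, hx0, hxu⟩ := hunit
      obtain ⟨e, he, he0, he1⟩ := exists_idempotent hx0 hxu
      exact Or.inr (Or.inl (prod_case h he he0 he1))
    · have hA : IsField A :=
        { exists_pair_ne := exists_pair_ne A
          mul_comm := mul_comm
          mul_inv_cancel := fun {a} ha => by
            have hu : IsUnit a := by
              by_contra hu
              exact hunit ⟨a, ha, hu⟩
            obtain ⟨b, hb⟩ := hu.exists_right_inv
            exact ⟨b, hb⟩ }
      refine Or.inr (Or.inr ⟨hA, ?_⟩)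
      letI : Field A := hA.toField
      exact field_case h

end Groth.Agent.S15939
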