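import Groth.Statements.S15940
import Groth.Agent.Lib.Helper11.SNScheme

set_option autoImplicit false
universe u
open HTop

namespace Groth.Agent.S15940

open Groth.Agent.Lib.Helper11.SNScheme Groth.Agent.Lib.Helper11.AWNScheme CategoryTheory AlgebraicGeometry

open CategoryTheory AlgebraicGeometry in
/-- Let ν : X' → X be a seminormalization of the scheme X, that is, a universal homeomorphism inducing
isomorphisms on all residue fields which is initial among such morphisms with target X. If X is
seminormal then ν is an isomorphism. (The published statement is the equivalence: ν is an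
isomorphism if and only if X is seminormal; the other direction rests on the source of a
seminormalization being seminormal, which the predicate used here does not record, and is not
restated.) -/
theorem result {X' X : Scheme.{u}} (ν : X' ⟶ X)
    (hν : HTop.IsSeminormalization ν) (hX : HTop.IsSeminormal X) : IsIso ν := by
  obtain ⟨⟨hUH, hRF⟩, huniv⟩ := hν
  have hl := liftsFieldPoints_of_residueFieldsIso ν (surjective_of_isUnivHomeo ν hUH) hRF
  obtain ⟨s, hs, -⟩ := existsUnique_lift_sn hX ν hUH hl (𝟙 X)
  obtain ⟨w, _, hw⟩ := huniv X' ν hUH hRF
  refine ⟨s, ?_, hs⟩
  rw [hw (ν ≫ s) (by show (ν ≫ s) ≫ ν = ν; rw [Category.assoc, hs, Category.comp_id]),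
    hw (𝟙 _) (Category.id_comp _)]

end Groth.Agent.S15940
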