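import Groth.Statements.S15943
import Groth.Agent.Lib.Helper28.Pinch.Univ3

set_option autoImplicit false
universe u
open Pinch

namespace Groth.Agent.S15943

open CategoryTheory AlgebraicGeometry in
/-- Let Y be a scheme, f : X → Y a morphism, t : T → Y a scheme affine over Y, ξ : Z → T a morphism with
Z affine over Y via ξ followed by t, and ι : Z → X a closed immersion over Y; assume every point of
Y has an affine open neighbourhood U together with an affine open V of X inside the preimage of U
containing the image under ι of the part of Z over U. Then the push-out of X and T along Z exists in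
the category of schemes. (The published statement adds that this push-out is the push-out of ringed
spaces and, with its evident map to Y, the push-out of schemes over Y; those clauses are not
restated.) -/
theorem result {X Y T Z : Scheme.{u}} (f : X ⟶ Y) (t : T ⟶ Y) (ξ : Z ⟶ T) (ι : Z ⟶ X)
    [IsAffineHom t] [IsAffineHom (ξ ≫ t)] [IsClosedImmersion ι] (hsq : ι ≫ f = ξ ≫ t)
    (hstd : ∀ y : Y, ∃ U : Y.Opens, IsAffineOpen U ∧ y ∈ U ∧ ∃ V : X.Opens, IsAffineOpen V ∧
      V ≤ f ⁻¹ᵁ U ∧ ∀ z : Z, (ξ ≫ t).base z ∈ U → ι.base z ∈ V) :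
    ∃ (P : Scheme.{u}) (a : X ⟶ P) (b : T ⟶ P), IsPushout ι ξ a b := by
  have hY : ∀ τ : T, ∃ β : Groth.Agent.Lib.Helper28.Pinch.APair ι ξ, τ ∈ β.V := by
    intro τ
    obtain ⟨U, hU, hyU, V, hV, hVU, hz⟩ := hstd (t τ)
    refine ⟨⟨V, t ⁻¹ᵁ U, hV, hU.preimage t, ?_⟩, hyU⟩
    ext z
    constructor
    · intro hzV
      have h1 : f (ι z) ∈ U := hVU hzV
      have h2 : f (ι z) = t (ξ z) := by
        rw [← Scheme.Hom.comp_apply, ← Scheme.Hom.comp_apply, hsq]
      rw [h2] at h1
      exact h1
    · intro hzU
      exact hz z hzU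
  exact ⟨_, _, _, Groth.Agent.Lib.Helper28.Pinch.Glue.isPushout hY⟩

end Groth.Agent.S15943
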