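import Groth.Statements.S15961
import Groth.Agent.Lib.Helper11.SNScheme

set_option autoImplicit false
universe u
open HTop

namespace Groth.Agent.S15961

open Groth.Agent.Lib.Helper11.SNScheme Groth.Agent.Lib.Helper11.AWNScheme CategoryTheory AlgebraicGeometry

open CategoryTheory AlgebraicGeometry in
/-- Let ν : X' → X be a seminormalization of the scheme X (X' seminormal, ν a universal homeomorphism
inducing isomorphisms on residue fields and initial among such morphisms to X) and let U be an open
subscheme of X. Then the restriction of ν over U, ν⁻¹(U) → U, is a seminormalization of U. (The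
published lemma also treats U → X a localisation; that case is not restated.) -/
theorem result {X' X : Scheme.{u}} (ν : X' ⟶ X)
    (hν : HTop.IsSeminormalization ν) (hX' : HTop.IsSeminormal X') (U : X.Opens) :
    HTop.IsSeminormalization (ν ∣_ U) := by
  obtain ⟨⟨hUH, hRF⟩, -⟩ := hν
  have hUH' : FlatMor.IsUnivHomeo (ν ∣_ U) :=
    MorphismProperty.of_isPullback (P := FlatMor.IsUnivHomeo) (isPullback_morphismRestrict ν U).flip hUH
  refine ⟨⟨hUH', residueFieldsIso_morphismRestrict ν hRF U⟩, ?_⟩
  intro Y π hπ hπRF
  exact existsUnique_lift_sn (isSeminormal_opens hX' (ν ⁻¹ᵁ U)) π hπ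
    (liftsFieldPoints_of_residueFieldsIso π (surjective_of_isUnivHomeo π hπ) hπRF) (ν ∣_ U)

end Groth.Agent.S15961
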