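import Groth.Statements.S15962
import Groth.Agent.Lib.Helper11.SNScheme
import Groth.Agent.Lib.Helper11.RootsStalk
import Groth.Agent.S15941

set_option autoImplicit false
universe u
open HTop

namespace Groth.Agent.S15962

open Groth.Agent.Lib.Helper11.SNScheme Groth.Agent.Lib.Helper11.AWNScheme Groth.Agent.Lib.Helper11.Roots
  CategoryTheory AlgebraicGeometry

theorem isSeminormal_of_isNormalScheme (Y : Scheme.{u}) (hn : Pi1.IsNormalScheme Y) :
    HTop.IsSeminormal Y := by
  have hall : ∀ W : Y.Opens, HasRoots Γ(Y, W) 2 3 1 := by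
    refine hasRoots_of_stalks Y.sheaf ?_
    intro p
    obtain ⟨h1, h2⟩ := hn p
    exact (isSeminormalRing_iff _).mp (Groth.Agent.S15941.result (Y.presheaf.stalk p))
  intro y
  obtain ⟨W, hW, hyW, -⟩ := exists_isAffineOpen_mem_and_subset (x := y) (U := ⊤) trivial
  exact ⟨⟨W, hW⟩, hyW, (isSeminormalRing_iff _).mpr (hall W)⟩

open CategoryTheory AlgebraicGeometry in
/-- Let S be a reduced Noetherian scheme, π : S̃ → S its normalisation (S̃ has integrally closed local
domains, π is integral and restricts to an isomorphism over a dense open subset of S whose preimage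
is dense in S̃), and ν : X' → S a seminormalization of S (X' seminormal, ν a universal homeomorphism
inducing isomorphisms on residue fields, initial among such). Then the normalisation factors through
the seminormalisation: there is a morphism g : S̃ → X' with g followed by ν equal to π. -/
theorem result {S Sn X' : Scheme.{u}} [IsNoetherian S] [IsReduced S]
    (π : Sn ⟶ S) [IsIntegralHom π] (hn : Pi1.IsNormalScheme Sn)
    (hbir : ∃ U : S.Opens, Dense (U : Set S) ∧ Dense ((π ⁻¹ᵁ U : Sn.Opens) : Set Sn) ∧ IsIso (π ∣_ U))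
    (ν : X' ⟶ S) (hν : HTop.IsSeminormalization ν) (hX' : HTop.IsSeminormal X') :
    ∃ g : Sn ⟶ X', g ≫ ν = π := by
  obtain ⟨⟨hUH, hRF⟩, -⟩ := hν
  have hl := liftsFieldPoints_of_residueFieldsIso ν (surjective_of_isUnivHomeo ν hUH) hRF
  obtain ⟨g, hg, -⟩ := existsUnique_lift_sn (isSeminormal_of_isNormalScheme Sn hn) ν hUH hl π
  exact ⟨g, hg⟩

end Groth.Agent.S15962
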