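import Groth.Statements.S15963
import Groth.Agent.Lib.Helper11.SNScheme

set_option autoImplicit false
universe u
open HTop

namespace Groth.Agent.S15963

open Groth.Agent.Lib.Helper11.SNScheme Groth.Agent.Lib.Helper11.AWNScheme Groth.Agent.Lib.Helper11.UHRing
  CategoryTheory AlgebraicGeometry

theorem finite_of_comp_injective {A B C : Type u} [CommRing A] [CommRing B] [CommRing C]
    [IsNoetherianRing A] (φ : A →+* B) (ψ : B →+* C) (hψ : Function.Injective ψ)
    (h : (ψ.comp φ).Finite) : φ.Finite := by
  algebraize [φ, ψ, ψ.comp φ]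
  haveI : IsScalarTower A B C := .of_algebraMap_eq' rfl
  haveI : Module.Finite A C := h
  show Module.Finite A B
  exact Module.Finite.of_injective (IsScalarTower.toAlgHom A B C).toLinearMap hψ

open CategoryTheory AlgebraicGeometry in
/-- Let S be a reduced Noetherian scheme, π : S̃ → S its normalisation (S̃ has integrally closed local
domains, π is integral and an isomorphism over a dense open subset of S with dense preimage), ν : X'
→ S a seminormalization of S (X' seminormal, ν a universal homeomorphism with residue-field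
isomorphisms, initial among such) and g : S̃ → X' a morphism with g followed by ν equal to π. Then ν
and g are scheme-theoretically dominant (the structure sheaf maps injectively into the direct
image), and if π is finite then so are ν and g. -/
theorem result {S Sn X' : Scheme.{u}}
    [IsNoetherian S] [IsReduced S]
    (π : Sn ⟶ S) [IsIntegralHom π] (hn : Pi1.IsNormalScheme Sn)
    (hbir : ∃ U : S.Opens, Dense (U : Set S) ∧ Dense ((π ⁻¹ᵁ U : Sn.Opens) : Set Sn) ∧ IsIso (π ∣_ U))
    (ν : X' ⟶ S) (hν : HTop.IsSeminormalization ν) (hX' : HTop.IsSeminormal X')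
    (g : Sn ⟶ X') (hg : g ≫ ν = π) :
    (IsSchemeTheoreticallyDominant ν ∧ IsSchemeTheoreticallyDominant g) ∧
      (IsFinite π → IsFinite ν ∧ IsFinite g) := by
  obtain ⟨⟨hUH, hRF⟩, -⟩ := hν
  have hν3 := (isUnivHomeo_iff ν).mp hUH
  haveI : Surjective ν := hν3.2.2
  haveI : IsReduced X' := Groth.Agent.S7421.result.2 X' hX'
  haveI hνdom : IsSchemeTheoreticallyDominant ν := .of_isDominant ν
  have hπdense : DenseRange π := by
    obtain ⟨U, hU, hU', hiso⟩ := hbir
    refine hU.mono ?_
    intro u hu
    haveI := hiso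
    have hs : Function.Surjective (π ∣_ U) := (inferInstance : Surjective (π ∣_ U)).surj
    obtain ⟨z, hz⟩ := hs ⟨u, hu⟩
    refine ⟨z.1, ?_⟩
    have := congrArg Subtype.val hz
    rwa [morphismRestrict_base_coe] at this
  have hνhomeo : IsHomeomorph ν := MorphismProperty.universally_le _ _ hUH
  have hgdense : DenseRange g := by
    have hrange : Set.range g = ν ⁻¹' (Set.range π) := by
      ext z
      constructor
      · rintro ⟨w, rfl⟩
        exact ⟨w, by rw [← hg]; rfl⟩
      · rintro ⟨w, hw⟩
        refine ⟨w, hνhomeo.injective ?_⟩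
        rw [← hw, ← hg]; rfl
    show Dense (Set.range g)
    rw [hrange]
    exact hπdense.preimage hνhomeo.isOpenMap
  haveI : IsDominant g := ⟨hgdense⟩
  haveI hgdom : IsSchemeTheoreticallyDominant g := .of_isDominant g
  refine ⟨⟨hνdom, hgdom⟩, ?_⟩
  intro hfin
  haveI := isAffineHom_of_isUnivHomeo ν hUH
  haveI : IsFinite (g ≫ ν) := hg ▸ hfin
  haveI hgfin : IsFinite g := IsFinite.of_comp g ν
  refine ⟨?_, hgfin⟩
  rw [isFinite_iff]
  refine ⟨inferInstance, fun U hU => ?_⟩
  haveI : IsNoetherianRing Γ(S, U) := IsLocallyNoetherian.component_noetherian ⟨U, hU⟩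
  have h1 : ((g ≫ ν).app U).hom.Finite := IsFinite.finite_app (g ≫ ν) U hU
  rw [Scheme.Hom.comp_app] at h1
  exact finite_of_comp_injective (ν.app U).hom (g.app (ν ⁻¹ᵁ U)).hom
    (Scheme.Hom.app_injective g (ν ⁻¹ᵁ U)) h1

end Groth.Agent.S15963
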