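import Groth.Statements.S15987

set_option autoImplicit false
universe u v
open Deform

namespace Groth.Agent.S15987

open TrivSqZeroExt

variable {k : Type u} [Field k] {A : Type u} [CommRing A] [Algebra k A]

/-- The algebra endomorphism `x ↦ (x.fst, x.snd + D x.fst)` of the dual numbers. -/
def homOfDer (D : Derivation k A A) : DualNumber A →ₐ[k] DualNumber A where
  toFun x := TrivSqZeroExt.inl x.fst + TrivSqZeroExt.inr (x.snd + D x.fst)
  map_one' := by
    ext <;> simp
  map_mul' x y := by
    ext
    · simp
    · simp only [snd_add, snd_inl, snd_inr, zero_add, fst_mul, snd_mul, fst_add, fst_inl, fst_inr,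
        add_zero, Derivation.leibniz, smul_eq_mul, MulOpposite.smul_eq_mul_unop,
        MulOpposite.unop_op]
      ring
  map_zero' := by
    ext <;> simp
  map_add' x y := by
    ext
    · simp
    · simp only [snd_add, snd_inl, snd_inr, zero_add, fst_add, map_add]
      ring
  commutes' r := by
    ext
    · simp
    · have h : (algebraMap k (DualNumber A) r).fst = algebraMap k A r := rfl
      simp [h]

@[simp] theorem homOfDer_fst (D : Derivation k A A) (x : DualNumber A) :
    (homOfDer D x).fst = x.fst := by
  simp [homOfDer]

@[simp] theorem homOfDer_snd (D : Derivation k A A) (x : DualNumber A) :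
    (homOfDer D x).snd = x.snd + D x.fst := by
  simp [homOfDer]

/-- The automorphism attached to a derivation. -/
def equivOfDer (D : Derivation k A A) : DualNumber A ≃ₐ[k] DualNumber A :=
  AlgEquiv.ofAlgHom (homOfDer D) (homOfDer (-D))
    (by
      apply AlgHom.ext
      intro x
      ext <;> simp)
    (by
      apply AlgHom.ext
      intro x
      ext <;> simp)

@[simp] theorem equivOfDer_fst (D : Derivation k A A) (x : DualNumber A) :
    (equivOfDer D x).fst = x.fst := homOfDer_fst D x

@[simp] theorem equivOfDer_snd (D : Derivation k A A) (x : DualNumber A) :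
    (equivOfDer D x).snd = x.snd + D x.fst := homOfDer_snd D x

/-- The derivation attached to an automorphism that is the identity modulo `ε`. -/
def derOfEquiv (φ : DualNumber A ≃ₐ[k] DualNumber A) (hφ : ∀ x, (φ x).fst = x.fst) :
    Derivation k A A where
  toFun a := (φ (inl a)).snd
  map_add' a b := by
    rw [inl_add, map_add, snd_add]
  map_smul' r a := by
    rw [RingHom.id_apply, inl_smul, map_smul, snd_smul]
  map_one_eq_zero' := by
    change (φ (inl 1)).snd = 0
    rw [inl_one, map_one, snd_one]
  leibniz' a b := by
    change (φ (inl (a * b))).snd = a • (φ (inl b)).snd + b • (φ (inl a)).snd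
    rw [inl_mul, map_mul, snd_mul, hφ, hφ, fst_inl, fst_inl]
    simp only [smul_eq_mul, MulOpposite.smul_eq_mul_unop, MulOpposite.unop_op]
    ring

theorem derOfEquiv_apply (φ : DualNumber A ≃ₐ[k] DualNumber A) (hφ : ∀ x, (φ x).fst = x.fst) (a : A) :
    derOfEquiv φ hφ a = (φ (inl a)).snd := rfl

theorem apply_inr_of_eps (φ : DualNumber A ≃ₐ[k] DualNumber A) (hφ : ∀ x, (φ x).fst = x.fst)
    (hε : φ DualNumber.eps = DualNumber.eps) (b : A) : φ (inr b) = inr b := by
  have h1 : (inr b : DualNumber A) = inl b * DualNumber.eps := by
    ext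
    · simp [DualNumber.fst_eps]
    · simp [DualNumber.snd_eps, DualNumber.fst_eps]
  rw [h1, map_mul, hε]
  ext
  · simp [DualNumber.fst_eps]
  · simp [DualNumber.snd_eps, DualNumber.fst_eps, hφ]

open TrivSqZeroExt in
/-- Let k be a field, A a commutative k-algebra and q_i : A → k (i ∈ ι) k-algebra maps (marked k-points
of Spec A). The k-algebra automorphisms φ of the ring of dual numbers A[ε] that fix ε (so are
k[ε]-linear), are the identity modulo ε, and satisfy q_i((φ x)_ε) = q_i(x_ε) for all i and x
(compatibility with the trivial lifts A[ε] → k[ε] of the marked points) are in bijection with the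
k-derivations D : A → A such that q_i ∘ D = 0 for every i, the bijection sending φ to a ↦ (φ(a))_ε.
(The source identifies the right-hand side with the global vector fields vanishing at the marked
points; the condition the computation yields is q_i ∘ D = 0, which is the same for Spec A smooth
over k but is weaker in general, e.g. for A = k[x]/(x^2) with 2 invertible in k.) -/
theorem result
    (k : Type u) [Field k] (A : Type u) [CommRing A] [Algebra k A] {ι : Type v} (q : ι → (A →ₐ[k] k)) :
    ∃ e : {φ : DualNumber A ≃ₐ[k] DualNumber A //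
            φ DualNumber.eps = DualNumber.eps ∧ (∀ x, (φ x).fst = x.fst) ∧
              ∀ i x, q i (φ x).snd = q i x.snd} ≃
          {D : Derivation k A A // ∀ i a, q i (D a) = 0},
      ∀ φ (a : A), (e φ).1 a = (φ.1 (inl a : DualNumber A)).snd := by
  refine ⟨{ toFun := fun φ => ⟨derOfEquiv φ.1 φ.2.2.1, fun i a => ?_⟩
            invFun := fun D => ⟨equivOfDer D.1, ?_, fun x => equivOfDer_fst D.1 x, fun i x => ?_⟩
            left_inv := fun φ => ?_
            right_inv := fun D => ?_ }, fun φ a => rfl⟩
  · rw [derOfEquiv_apply, φ.2.2.2 i (inl a), snd_inl, map_zero]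
  · ext
    · simp [DualNumber.fst_eps]
    · simp [DualNumber.snd_eps, DualNumber.fst_eps]
  · rw [equivOfDer_snd, map_add, D.2 i, add_zero]
  · apply Subtype.ext
    apply AlgEquiv.ext
    intro x
    change equivOfDer (derOfEquiv φ.1 φ.2.2.1) x = φ.1 x
    have hx : x = inl x.fst + inr x.snd := (TrivSqZeroExt.inl_fst_add_inr_snd_eq x).symm
    conv_rhs => rw [hx, map_add, apply_inr_of_eps φ.1 φ.2.2.1 φ.2.1]
    ext
    · simp [φ.2.2.1]
    · simp [derOfEquiv_apply, add_comm]
  · apply Subtype.ext
    apply Derivation.ext
    intro a
    change (equivOfDer D.1 (inl a)).snd = D.1 a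
    simp

end Groth.Agent.S15987
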