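import Groth.Statements.S15988
import Groth.Agent.S15987
import Mathlib.RingTheory.Kaehler.Basic
import Mathlib.RingTheory.Ideal.Quotient.Operations

set_option autoImplicit false
universe u v
open Deform

namespace Groth.Agent.S15988

open TrivSqZeroExt

section Lift

variable {k : Type u} [CommRing k] {A : Type u} [CommRing A] [Algebra k A]

/-- Lifting a derivation along a surjection from `A` when `Ω[A⁄k]` is projective. -/
theorem exists_derivation_lift [Module.Projective A Ω[A⁄k]] {M : Type*} [AddCommGroup M]
    [Module A M] [Module k M] [IsScalarTower k A M] (π : A →ₗ[A] M) (hπ : Function.Surjective π)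
    (δ : Derivation k A M) : ∃ D : Derivation k A A, ∀ a, π (D a) = δ a := by
  obtain ⟨h, hh⟩ := Module.projective_lifting_property π δ.liftKaehlerDifferential hπ
  refine ⟨h.compDer (KaehlerDifferential.D k A), fun a => ?_⟩
  have := LinearMap.congr_fun hh (KaehlerDifferential.D k A a)
  simpa using this

end Lift

section Pt

variable {k : Type u} [Field k] {A : Type u} [CommRing A] [Algebra k A] {ι : Type v}

/-- `ι → k`, regarded as an `A`-module through the points `q i`. -/
def Pt (_q : ι → (A →ₐ[k] k)) : Type (max u v) := ι → k

variable (q : ι → (A →ₐ[k] k))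

instance : AddCommGroup (Pt q) := inferInstanceAs (AddCommGroup (ι → k))

instance : Module k (Pt q) := inferInstanceAs (Module k (ι → k))

instance : Module A (Pt q) :=
  Module.compHom (ι → k) (RingHom.pi fun i => (q i).toRingHom)

instance : IsScalarTower k A (Pt q) := ⟨fun r a f => by
  funext i
  change q i (r • a) * f i = r * (q i a * f i)
  rw [map_smul, smul_eq_mul, mul_assoc]⟩

/-- Evaluation at all the points. -/
def evalPt : A →ₗ[A] Pt q where
  toFun a := fun i => q i a
  map_add' a b := by funext i; exact map_add (q i) a b
  map_smul' a b := by funext i; exact map_mul (q i) a b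

theorem evalPt_surjective [Finite ι] (hq : Function.Injective q) :
    Function.Surjective (evalPt q) := by
  intro f
  have hmax : ∀ i, (RingHom.ker (q i)).IsMaximal := fun i =>
    RingHom.ker_isMaximal_of_surjective (q i) (fun r => ⟨algebraMap k A r, by simp⟩)
  have hcop : Pairwise (Function.onFun IsCoprime fun i => RingHom.ker (q i)) := by
    intro i j hij
    have := hmax i
    have := hmax j
    refine Ideal.isCoprime_of_isMaximal (fun h => hij (hq ?_))
    replace h : RingHom.ker (q i) = RingHom.ker (q j) := h
    apply AlgHom.ext
    intro a
    have h1 : a - algebraMap k A (q i a) ∈ RingHom.ker (q i) := by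
      rw [RingHom.mem_ker, map_sub, AlgHom.commutes]
      simp
    rw [h, RingHom.mem_ker, map_sub, AlgHom.commutes, sub_eq_zero] at h1
    simpa using h1.symm
  obtain ⟨a, ha⟩ := Ideal.exists_forall_sub_mem_ideal hcop (fun i => algebraMap k A (f i))
  refine ⟨a, funext fun i => ?_⟩
  have h2 := ha i
  rw [RingHom.mem_ker, map_sub, AlgHom.commutes, sub_eq_zero] at h2
  change q i a = f i
  simpa using h2

/-- The derivation recording the `ε`-parts of the lifted points. -/
def delta (q' : ι → (DualNumber A →ₐ[k] DualNumber k))
    (hq' : ∀ i x, (q' i x).fst = q i x.fst) : Derivation k A (Pt q) where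
  toFun a := fun i => (q' i (inl a)).snd
  map_add' a b := by
    funext i
    change (q' i (inl (a + b))).snd = (q' i (inl a)).snd + (q' i (inl b)).snd
    rw [inl_add, map_add, snd_add]
  map_smul' r a := by
    funext i
    change (q' i (inl (r • a))).snd = r * (q' i (inl a)).snd
    rw [inl_smul, map_smul, snd_smul, smul_eq_mul]
  map_one_eq_zero' := by
    funext i
    change (q' i (inl 1)).snd = 0
    rw [inl_one, map_one, snd_one]
  leibniz' a b := by
    funext i
    change (q' i (inl (a * b))).snd = q i a * (q' i (inl b)).snd + q i b * (q' i (inl a)).snd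
    rw [inl_mul, map_mul, snd_mul, hq', hq', fst_inl, fst_inl]
    simp only [smul_eq_mul, MulOpposite.smul_eq_mul_unop, MulOpposite.unop_op]
    ring

theorem delta_apply (q' : ι → (DualNumber A →ₐ[k] DualNumber k))
    (hq' : ∀ i x, (q' i x).fst = q i x.fst) (a : A) (i : ι) :
    (delta q q' hq' a) i = (q' i (inl a)).snd := rfl

end Pt

open TrivSqZeroExt in
/-- Let k be a field, A a smooth commutative k-algebra, q_i : A → k (i ∈ ι, ι finite) pairwise distinct
k-algebra maps, and q'_i : A[ε] → k[ε] k-algebra maps with q'_i(ε) = ε which reduce to q_i modulo ε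
(marked points of a first-order deformation with underlying trivial deformation). Then some
k-algebra automorphism φ of A[ε] with φ(ε) = ε and φ = id modulo ε carries every q'_i to the trivial
lift of q_i: q'_i(φ x) = (q_i(x_0), q_i(x_ε)) for all i and x. Together with the triviality of
first-order deformations of a smooth affine scheme this gives the source's statement that
first-order deformations of a smooth affine scheme with marked points are trivial. (The published
statement does not say that the finitely many marked points are distinct; for two coincident points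
with different lifts no such automorphism exists, so the points are taken pairwise distinct here,
and the source's non-singular is read as smooth over k.) -/
theorem result
    (k : Type u) [Field k] (A : Type u) [CommRing A] [Algebra k A] [Algebra.Smooth k A]
    {ι : Type v} [Finite ι] (q : ι → (A →ₐ[k] k)) (hq : Function.Injective q)
    (q' : ι → (DualNumber A →ₐ[k] DualNumber k))
    (hε : ∀ i, q' i DualNumber.eps = DualNumber.eps) (hq' : ∀ i x, (q' i x).fst = q i x.fst) :
    ∃ φ : DualNumber A ≃ₐ[k] DualNumber A,
      φ DualNumber.eps = DualNumber.eps ∧ (∀ x, (φ x).fst = x.fst) ∧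
        ∀ i x, (q' i (φ x)).fst = q i x.fst ∧ (q' i (φ x)).snd = q i x.snd := by
  obtain ⟨D, hD⟩ := exists_derivation_lift (evalPt q) (evalPt_surjective q hq) (-(delta q q' hq'))
  refine ⟨S15987.equivOfDer D, ?_, fun x => S15987.equivOfDer_fst D x, fun i x => ⟨?_, ?_⟩⟩
  · ext
    · simp [DualNumber.fst_eps]
    · simp [DualNumber.snd_eps, DualNumber.fst_eps]
  · rw [hq', S15987.equivOfDer_fst]
  · have hD' : q i (D x.fst) = -(q' i (inl x.fst)).snd := by
      have h := congrFun (hD x.fst) i
      rw [Derivation.neg_apply] at h
      exact h
    have hinr : ∀ b : A, q' i (inr b) = inr (q i b) := by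
      intro b
      have h1 : (inr b : DualNumber A) = inl b * DualNumber.eps := by
        ext
        · simp [DualNumber.fst_eps]
        · simp [DualNumber.snd_eps, DualNumber.fst_eps]
      rw [h1, map_mul, hε]
      ext
      · simp [DualNumber.fst_eps]
      · simp [DualNumber.snd_eps, DualNumber.fst_eps, hq']
    have hx : S15987.equivOfDer D x = inl x.fst + inr (x.snd + D x.fst) := by
      ext <;> simp
    rw [hx, map_add, hinr, snd_add, snd_inr, map_add, hD']
    ring

end Groth.Agent.S15988
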