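import Groth.Statements.S1599
import Groth.Agent.Lib.Helper14.ComplNormalSub
import Groth.Agent.Lib.Helper14.ComplTensorFinite

set_option autoImplicit false
universe u
open CategoryTheory CategoryTheory.Limits AlgebraicGeometry
open Resolve

namespace Groth.Agent.S1599

/-- Let A be a Noetherian local ring with maximal ideal m and B ⊆ C finite A-algebras. If B is a normal
ring and the m-adic completion of C is a normal ring, then the m-adic completion of B is a normal
ring. -/
theorem result (A : Type u) [CommRing A] [IsLocalRing A] [IsNoetherianRing A]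
    (B C : Type u) [CommRing B] [CommRing C] [Algebra A B] [Algebra A C] [Algebra B C] [IsScalarTower A B C]
    [Module.Finite A B] [Module.Finite A C] (hinj : Function.Injective (algebraMap B C))
    (hB : EGA4.IsNormalRing B)
    (hC : EGA4.IsNormalRing (AdicCompletion ((IsLocalRing.maximalIdeal A).map (algebraMap A C)) C)) :
    EGA4.IsNormalRing (AdicCompletion ((IsLocalRing.maximalIdeal A).map (algebraMap A B)) B) := by
  classical
  haveI : IsNoetherianRing B := IsNoetherianRing.of_finite A B
  haveI : IsNoetherianRing C := IsNoetherianRing.of_finite A C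
  haveI : Module.Finite B C := Module.Finite.of_restrictScalars_finite A B C
  -- completions as tensor products
  obtain ⟨eB⟩ := Groth.Agent.Lib.Helper14.ComplTensorFinite.nonempty_ringEquiv A B
  obtain ⟨eC⟩ := Groth.Agent.Lib.Helper14.ComplTensorFinite.nonempty_ringEquiv A C
  -- `B' = B ⊗[A] Â`
  let e1 : TensorProduct A (AdicCompletion (IsLocalRing.maximalIdeal A) A) B ≃+*
      TensorProduct A B (AdicCompletion (IsLocalRing.maximalIdeal A) A) :=
    (Algebra.TensorProduct.comm A (AdicCompletion (IsLocalRing.maximalIdeal A) A) B).toRingEquiv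
  haveI : IsNoetherianRing (TensorProduct A (AdicCompletion (IsLocalRing.maximalIdeal A) A) B) :=
    Groth.Agent.Lib.Helper27.NagAU.instNoethB (IsLocalRing.maximalIdeal A) B
  haveI : IsNoetherianRing (TensorProduct A B (AdicCompletion (IsLocalRing.maximalIdeal A) A)) :=
    isNoetherianRing_of_ringEquiv _ e1
  -- normality of `B' ⊗[B] C`
  let e2 : TensorProduct A (AdicCompletion (IsLocalRing.maximalIdeal A) A) C ≃+*
      TensorProduct A C (AdicCompletion (IsLocalRing.maximalIdeal A) A) :=
    (Algebra.TensorProduct.comm A (AdicCompletion (IsLocalRing.maximalIdeal A) A) C).toRingEquiv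
  let e3 : TensorProduct B C (TensorProduct A B (AdicCompletion (IsLocalRing.maximalIdeal A) A)) ≃+*
      TensorProduct A C (AdicCompletion (IsLocalRing.maximalIdeal A) A) :=
    (Algebra.TensorProduct.cancelBaseChange A B B C
      (AdicCompletion (IsLocalRing.maximalIdeal A) A)).toRingEquiv
  let e4 : TensorProduct B C (TensorProduct A B (AdicCompletion (IsLocalRing.maximalIdeal A) A)) ≃+*
      TensorProduct B (TensorProduct A B (AdicCompletion (IsLocalRing.maximalIdeal A) A)) C :=
    (Algebra.TensorProduct.comm B C
      (TensorProduct A B (AdicCompletion (IsLocalRing.maximalIdeal A) A))).toRingEquiv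
  have hC' : EGA4.IsNormalRing
      (TensorProduct B (TensorProduct A B (AdicCompletion (IsLocalRing.maximalIdeal A) A)) C) :=
    Groth.Agent.Lib.Helper14.isNormalRing_of_ringEquiv
      (((eC.trans e2).trans e3.symm).trans e4) hC
  have hB' : EGA4.IsNormalRing
      (TensorProduct A B (AdicCompletion (IsLocalRing.maximalIdeal A) A)) :=
    Groth.Agent.Lib.Helper14.ComplNormalSub.isNormalRing_of_flat_of_tensor (C := C) hinj hB hC'
  exact Groth.Agent.Lib.Helper14.isNormalRing_of_ringEquiv (e1.symm.trans eB.symm) hB'

end Groth.Agent.S1599
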