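import Groth.Statements.S15990
import Mathlib
import Groth.Agent.Lib.Helper9.SecDim

set_option autoImplicit false
universe u
open SDiv

namespace Groth.Agent.S15990

open AlgebraicGeometry CategoryTheory in
/-- Let f : X → Y be separated and smooth of relative dimension 1 and let σ : Y → X be a section of f.
Then σ(Y) is a relative effective Cartier divisor on X/Y: the kernel ideal sheaf of the closed
immersion σ is the ideal sheaf of an effective Cartier divisor (locally on affine opens generated by
one nonzerodivisor) and the closed subscheme it defines is flat over Y. (The source adds the special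
case of the diagonal of X ×_Y X, a section of the first projection.) -/
theorem result
    {X Y : Scheme.{u}} (f : X ⟶ Y) [IsSeparated f] [SmoothOfRelativeDimension 1 f]
    (σ : Y ⟶ X) (hσ : σ ≫ f = 𝟙 Y) :
    BlowUp.IsEffCartierIdeal σ.ker ∧ Flat (σ.ker.subschemeι ≫ f) := by
  classical
  haveI hci : IsClosedImmersion σ :=
    MorphismProperty.of_postcomp (W := @IsClosedImmersion) (W' := @IsSeparated) σ f ‹_›
      (by rw [hσ]; infer_instance)
  constructor
  · intro x
    by_cases hx : x ∈ Set.range σ.base
    · obtain ⟨y, rfl⟩ := hx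
      obtain ⟨D, hD, hyD, hσD, hsD, rs, hreg, hker, hlen⟩ :=
        Groth.Agent.Lib.Helper9.SecDim.exists_chart_of_section_dim f 1 σ hσ y
      obtain ⟨r, rfl⟩ : ∃ r, rs = [r] := List.length_eq_one_iff.mp hlen
      refine ⟨⟨D, hD⟩, hyD, r, ?_, ?_⟩
      · rw [RingTheory.Sequence.isWeaklyRegular_cons_iff] at hreg
        obtain ⟨h1, -⟩ := hreg
        have hL : IsLeftRegular r := fun a b hab => h1 (by simpa [smul_eq_mul] using hab)
        have hR : IsRegular r := ⟨hL, fun a b hab => hL (by
          have hab' : a * r = b * r := hab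
          show r * a = r * b
          rw [mul_comm r a, mul_comm r b]; exact hab')⟩
        exact hR.mem_nonZeroDivisors
      · rw [Scheme.Hom.ker_apply, hker]
        simp [Ideal.ofList]
    · have hcl : IsClosed (Set.range σ.base) := σ.isClosedEmbedding.isClosed_range
      obtain ⟨_, ⟨U, hU, rfl⟩, hxU, hUc⟩ := X.isBasis_affineOpens.exists_subset_of_mem_open
        (show x ∈ (Set.range σ.base)ᶜ from hx) hcl.isOpen_compl
      refine ⟨⟨U, hU⟩, hxU, 1, one_mem _, ?_⟩
      rw [Ideal.span_singleton_one, Scheme.Hom.ker_apply, eq_top_iff]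
      intro a _
      rw [RingHom.mem_ker]
      have hbot : σ ⁻¹ᵁ U = ⊥ := by
        apply le_bot_iff.mp
        intro y hy
        exact (hUc hy ⟨y, rfl⟩).elim
      have hsub : Subsingleton Γ(Y, σ ⁻¹ᵁ U) := by
        rw [hbot]
        infer_instance
      exact @Subsingleton.elim _ hsub _ _
  · have h1 : σ.ker.subschemeι ≫ f = inv σ.toImage := by
      rw [← cancel_epi σ.toImage, ← Category.assoc, Scheme.Hom.toImage_imageι, hσ,
        IsIso.hom_inv_id]
    rw [h1]
    infer_instance

end Groth.Agent.S15990
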