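import Groth.Statements.S15991
import Mathlib
import Groth.Agent.S15988
import Groth.Agent.S0440

set_option autoImplicit false
universe u v
open Deform

namespace Groth.Agent.S15991


namespace H15991
open TrivSqZeroExt TensorProduct

section Alg

variable {k : Type u} [Field k] {A B : Type u} [CommRing A] [CommRing B] [Algebra k A]
  [Algebra (DualNumber k) B] [Algebra k B] [IsScalarTower k (DualNumber k) B]

/-- Flatness over the dual numbers: the annihilator of `ε` is `εB`. -/
theorem ann_eps [Module.Flat (DualNumber k) B] (b : B)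
    (hb : algebraMap (DualNumber k) B DualNumber.eps * b = 0) :
    ∃ b', b = algebraMap (DualNumber k) B DualNumber.eps * b' := by
  obtain ⟨n, a, y, h1, h2⟩ := Module.Flat.isTrivialRelation_of_sum_smul_eq_zero
    (R := DualNumber k) (M := B) (ι := Fin 1) (f := fun _ => (DualNumber.eps : DualNumber k))
    (x := fun _ => b) (by simp [Algebra.smul_def, hb])
  have h1' : b = ∑ j, a 0 j • y j := h1 0
  have h2' : ∀ j, DualNumber.eps * a 0 j = 0 := fun j => by simpa using h2 j
  have h3 : ∀ j, a 0 j = DualNumber.eps * inl (a 0 j).snd := by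
    intro j
    have hf : (a 0 j).fst = 0 := by
      have := congrArg TrivSqZeroExt.snd (h2' j)
      simpa [DualNumber.snd_mul, DualNumber.fst_eps, DualNumber.snd_eps] using this
    ext
    · simp [hf, DualNumber.fst_eps]
    · simp [DualNumber.snd_mul, DualNumber.fst_eps, DualNumber.snd_eps]
  refine ⟨∑ j, (inl (a 0 j).snd : DualNumber k) • y j, ?_⟩
  rw [h1', Finset.mul_sum]
  refine Finset.sum_congr rfl fun j _ => ?_
  conv_lhs => rw [h3 j]
  rw [Algebra.smul_def, Algebra.smul_def, map_mul, mul_assoc]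

theorem eps_sq : algebraMap (DualNumber k) B DualNumber.eps *
    algebraMap (DualNumber k) B DualNumber.eps = 0 := by
  rw [← map_mul, DualNumber.eps_mul_eps, map_zero]

variable (π : B →ₐ[k] A)

theorem pi_eps (hker : RingHom.ker (π : B →+* A) =
      Ideal.span {algebraMap (DualNumber k) B DualNumber.eps}) :
    π (algebraMap (DualNumber k) B DualNumber.eps) = 0 := by
  have : algebraMap (DualNumber k) B DualNumber.eps ∈ RingHom.ker (π : B →+* A) := by
    rw [hker]; exact Ideal.subset_span rfl
  exact this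

theorem bij_of_section [Module.Flat (DualNumber k) B]
    (hker : RingHom.ker (π : B →+* A) =
      Ideal.span {algebraMap (DualNumber k) B DualNumber.eps})
    (ρ : A →ₐ[k] B) (hρ : ∀ a, π (ρ a) = a) :
    (∀ b : B, ∃ a a' : A, b = ρ a + algebraMap (DualNumber k) B DualNumber.eps * ρ a') ∧
    (∀ a a' : A, ρ a + algebraMap (DualNumber k) B DualNumber.eps * ρ a' = 0 →
      a = 0 ∧ a' = 0) := by
  have hπe : π (algebraMap (DualNumber k) B DualNumber.eps) = 0 := pi_eps π hker
  have h3 : algebraMap (DualNumber k) B DualNumber.eps *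
    algebraMap (DualNumber k) B DualNumber.eps = 0 := eps_sq
  set e := algebraMap (DualNumber k) B DualNumber.eps with he
  have hmem : ∀ b : B, π b = 0 → ∃ b', b = e * b' := by
    intro b hb
    have : b ∈ RingHom.ker (π : B →+* A) := hb
    rw [hker, Ideal.mem_span_singleton'] at this
    obtain ⟨b', hb'⟩ := this
    exact ⟨b', by rw [← hb', mul_comm]⟩
  constructor
  · intro b
    obtain ⟨b', hb'⟩ := hmem (b - ρ (π b)) (by rw [map_sub, hρ, sub_self])
    obtain ⟨b'', hb''⟩ := hmem (b' - ρ (π b')) (by rw [map_sub, hρ, sub_self])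
    refine ⟨π b, π b', ?_⟩
    have h1 : b = ρ (π b) + e * b' := by rw [← hb']; ring
    have h2 : b' = ρ (π b') + e * b'' := by rw [← hb'']; ring
    calc b = ρ (π b) + e * b' := h1
      _ = ρ (π b) + e * (ρ (π b') + e * b'') := by rw [← h2]
      _ = ρ (π b) + e * ρ (π b') + (e * e) * b'' := by ring
      _ = ρ (π b) + e * ρ (π b') := by rw [h3, zero_mul, add_zero]
  · intro a a' h
    have ha : a = 0 := by
      have := congrArg π h
      rw [map_add, map_mul, hπe, zero_mul, add_zero, hρ, map_zero] at this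
      exact this
    refine ⟨ha, ?_⟩
    rw [ha, map_zero, zero_add] at h
    obtain ⟨b', hb'⟩ := ann_eps (ρ a') h
    have := congrArg π hb'
    rw [hρ, map_mul, hπe, zero_mul] at this
    exact this

theorem alg_core [Algebra.Smooth k A] [Module.Flat (DualNumber k) B]
    (hπ : Function.Surjective π)
    (hker : RingHom.ker (π : B →+* A) =
      Ideal.span {algebraMap (DualNumber k) B DualNumber.eps})
    {ι : Type v} [Finite ι] (q : ι → (A →ₐ[k] k)) (hq : Function.Injective q)
    (q' : ι → (B →ₐ[DualNumber k] DualNumber k))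
    (hqq' : ∀ j b, (q' j b).fst = q j (π b)) :
    ∃ ρ : A →ₐ[k] B, (∀ a, π (ρ a) = a) ∧
      (∀ j a, q' j (ρ a) = algebraMap k (DualNumber k) (q j a)) := by
  have hπe : π (algebraMap (DualNumber k) B DualNumber.eps) = 0 := pi_eps π hker
  have hnil : IsNilpotent (RingHom.ker (π : B →+* A)) := by
    refine ⟨2, ?_⟩
    rw [hker, Ideal.span_singleton_pow, pow_two, eps_sq]
    exact Ideal.span_singleton_eq_bot.mpr rfl
  let σ : A →ₐ[k] B := Algebra.FormallySmooth.liftOfSurjective (AlgHom.id k A) π hπ hnil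
  have hσ : ∀ a, π (σ a) = a := fun a =>
    Algebra.FormallySmooth.liftOfSurjective_apply (AlgHom.id k A) π hπ hnil a
  let Ψ₀ : DualNumber A →ₐ[k] B :=
    DualNumber.lift ⟨(σ, algebraMap (DualNumber k) B DualNumber.eps), eps_sq,
      fun a => Commute.all _ _⟩
  have hΨ : ∀ x, Ψ₀ x = σ x.fst + σ x.snd * algebraMap (DualNumber k) B DualNumber.eps :=
    fun x => DualNumber.lift_apply_apply _ x
  have hπΨ : ∀ x, π (Ψ₀ x) = x.fst := by
    intro x
    rw [hΨ, map_add, map_mul, hπe, mul_zero, add_zero, hσ]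
  let q'' : ι → (DualNumber A →ₐ[k] DualNumber k) :=
    fun j => ((q' j).restrictScalars k).comp Ψ₀
  have hε : ∀ j, q'' j DualNumber.eps = DualNumber.eps := by
    intro j
    show q' j (Ψ₀ DualNumber.eps) = DualNumber.eps
    rw [DualNumber.lift_apply_eps]
    show q' j (algebraMap (DualNumber k) B DualNumber.eps) = _
    rw [AlgHom.commutes]
    rfl
  have hq'' : ∀ j x, (q'' j x).fst = q j x.fst := by
    intro j x
    show (q' j (Ψ₀ x)).fst = _
    rw [hqq', hπΨ]
  obtain ⟨φ, -, hφ1, hφ2⟩ := Groth.Agent.S15988.result k A q hq q'' hε hq''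
  refine ⟨Ψ₀.comp ((φ : DualNumber A →ₐ[k] DualNumber A).comp (inlAlgHom k A A)), ?_, ?_⟩
  · intro a
    show π (Ψ₀ (φ (inl a))) = a
    rw [hπΨ, hφ1, fst_inl]
  · intro j a
    have h := hφ2 j (inl a)
    show q' j (Ψ₀ (φ (inl a))) = algebraMap k (DualNumber k) (q j a)
    have h1 : (q' j (Ψ₀ (φ (inl a)))).fst = q j a := by
      have := h.1
      rw [fst_inl] at this
      exact this
    have h2 : (q' j (Ψ₀ (φ (inl a)))).snd = 0 := by
      have := h.2
      rw [snd_inl, map_zero] at this
      exact this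
    ext
    · rw [h1]; simp [TrivSqZeroExt.algebraMap_eq_inl]
    · rw [h2]; simp [TrivSqZeroExt.algebraMap_eq_inl]

omit [IsScalarTower k (DualNumber k) B] in
theorem isPushout_of_bij [IsScalarTower k (DualNumber k) B] (ρ : A →ₐ[k] B)
    (hsurj : ∀ b : B, ∃ a a' : A, b = ρ a + algebraMap (DualNumber k) B DualNumber.eps * ρ a')
    (hinj : ∀ a a' : A, ρ a + algebraMap (DualNumber k) B DualNumber.eps * ρ a' = 0 →
      a = 0 ∧ a' = 0) :
    CategoryTheory.IsPushout (CommRingCat.ofHom (algebraMap k (DualNumber k)))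
      (CommRingCat.ofHom (algebraMap k A))
      (CommRingCat.ofHom (algebraMap (DualNumber k) B)) (CommRingCat.ofHom (ρ : A →+* B)) := by
  let L : DualNumber k ⊗[k] A →ₐ[k] B :=
    Algebra.TensorProduct.productMap (IsScalarTower.toAlgHom k (DualNumber k) B) ρ
  have hL : ∀ z a, L (z ⊗ₜ a) = algebraMap (DualNumber k) B z * ρ a := fun z a => by
    simp [L]
  have hdec : ∀ t : DualNumber k ⊗[k] A, ∃ a a' : A,
      t = (1 : DualNumber k) ⊗ₜ a + (DualNumber.eps : DualNumber k) ⊗ₜ a' := by
    intro t
    induction t using TensorProduct.induction_on with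
    | zero => exact ⟨0, 0, by simp⟩
    | tmul z a =>
      refine ⟨z.fst • a, z.snd • a, ?_⟩
      rw [TensorProduct.tmul_smul, TensorProduct.tmul_smul, TensorProduct.smul_tmul',
        TensorProduct.smul_tmul', ← TensorProduct.add_tmul]
      congr 1
      ext <;> simp [DualNumber.fst_eps, DualNumber.snd_eps]
    | add x y hx hy =>
      obtain ⟨a, a', rfl⟩ := hx
      obtain ⟨b, b', rfl⟩ := hy
      exact ⟨a + b, a' + b', by rw [TensorProduct.tmul_add, TensorProduct.tmul_add]; abel⟩
  have hbij : Function.Bijective L := by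
    constructor
    · rw [injective_iff_map_eq_zero]
      intro t ht
      obtain ⟨a, a', rfl⟩ := hdec t
      rw [map_add, hL, hL, map_one, one_mul] at ht
      obtain ⟨rfl, rfl⟩ := hinj a a' ht
      simp
    · intro b
      obtain ⟨a, a', rfl⟩ := hsurj b
      exact ⟨(1 : DualNumber k) ⊗ₜ a + (DualNumber.eps : DualNumber k) ⊗ₜ a', by
        rw [map_add, hL, hL, map_one, one_mul]⟩
  let E : DualNumber k ⊗[k] A ≃+* B :=
    RingEquiv.ofBijective L.toRingHom hbij
  refine (CommRingCat.isPushout_tensorProduct k (DualNumber k) A).of_iso (CategoryTheory.Iso.refl _)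
    (CategoryTheory.Iso.refl _) (CategoryTheory.Iso.refl _) E.toCommRingCatIso ?_ ?_ ?_ ?_
  · simp
  · simp
  · apply CommRingCat.hom_ext
    apply RingHom.ext
    intro z
    show L (z ⊗ₜ 1) = _
    rw [hL, map_one, mul_one]
    rfl
  · apply CommRingCat.hom_ext
    apply RingHom.ext
    intro a
    show L (1 ⊗ₜ a) = _
    rw [hL, map_one, one_mul]
    rfl

end Alg

section Sch
open CategoryTheory AlgebraicGeometry Limits

theorem main (k : Type u) [Field k] (X : Scheme.{u}) (hX : X ⟶ Spec (CommRingCat.of k))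
    [IsAffine X] [Smooth hX]
    {ι : Type v} [Finite ι] (p : ι → (Spec (CommRingCat.of k) ⟶ X)) (hp : ∀ j, p j ≫ hX = 𝟙 _)
    (hinj : Function.Injective p)
    (X' : Scheme.{u}) (g : X' ⟶ Spec (CommRingCat.of (DualNumber k))) [Flat g] (i : X ⟶ X')
    (hsq : IsPullback i hX g
      (Spec.map (CommRingCat.ofHom (TrivSqZeroExt.fstHom k k k).toRingHom)))
    (p' : ι → (Spec (CommRingCat.of (DualNumber k)) ⟶ X')) (hp' : ∀ j, p' j ≫ g = 𝟙 _)
    (hpp' : ∀ j, p j ≫ i =
      Spec.map (CommRingCat.ofHom (TrivSqZeroExt.fstHom k k k).toRingHom) ≫ p' j) :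
    ∃ r : X' ⟶ X,
      IsPullback r g hX (Spec.map (CommRingCat.ofHom (algebraMap k (DualNumber k)))) ∧
      i ≫ r = 𝟙 X ∧
      ∀ j, p' j ≫ r = Spec.map (CommRingCat.ofHom (algebraMap k (DualNumber k))) ≫ p j := by
  let fstc : CommRingCat.of (DualNumber k) ⟶ CommRingCat.of k :=
    CommRingCat.ofHom (TrivSqZeroExt.fstHom k k k).toRingHom
  let algc : CommRingCat.of k ⟶ CommRingCat.of (DualNumber k) :=
    CommRingCat.ofHom (algebraMap k (DualNumber k))
  change IsPullback i hX g (Spec.map fstc) at hsq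
  change ∀ j, p j ≫ i = Spec.map fstc ≫ p' j at hpp'
  have hfst_surj : Function.Surjective fstc := fun x => ⟨TrivSqZeroExt.inl x, rfl⟩
  haveI hc_ci : IsClosedImmersion (Spec.map fstc) :=
    IsClosedImmersion.spec_of_surjective fstc hfst_surj
  haveI : IsClosedImmersion i :=
    MorphismProperty.of_isPullback (P := @IsClosedImmersion) hsq.flip hc_ci
  haveI hc_surj : Surjective (Spec.map fstc) := by
    constructor
    intro y
    have hker_le : RingHom.ker (TrivSqZeroExt.fstHom k k k).toRingHom ≤ y.asIdeal := by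
      intro z hz
      have hz' : z.fst = 0 := hz
      have hzz : z * z = 0 := by ext <;> simp [hz']
      exact y.isPrime.mem_of_pow_mem 2 (by rw [pow_two, hzz]; exact zero_mem _)
    have hmax : (RingHom.ker (TrivSqZeroExt.fstHom k k k).toRingHom).IsMaximal :=
      RingHom.ker_isMaximal_of_surjective _ (fun x => ⟨TrivSqZeroExt.inl x, rfl⟩)
    have heq : RingHom.ker (TrivSqZeroExt.fstHom k k k).toRingHom = y.asIdeal :=
      hmax.eq_of_le y.isPrime.ne_top hker_le
    refine ⟨⟨⊥, Ideal.bot_prime⟩, PrimeSpectrum.ext ?_⟩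
    exact heq
  haveI : Surjective i :=
    MorphismProperty.of_isPullback (P := @Surjective) hsq.flip hc_surj
  haveI : IsAffine X' := Groth.Agent.S0440.result i (Surjective.surj (f := i))
  let βc : CommRingCat.of k ⟶ Γ(X, ⊤) := (Scheme.ΓSpecIso (CommRingCat.of k)).inv ≫ hX.appTop
  let αc : CommRingCat.of (DualNumber k) ⟶ Γ(X', ⊤) :=
    (Scheme.ΓSpecIso (CommRingCat.of (DualNumber k))).inv ≫ g.appTop
  have E1 : Spec.map βc = X.isoSpec.inv ≫ hX := by
    rw [Iso.eq_inv_comp]
    simp only [βc, Spec.map_comp]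
    rw [Scheme.isoSpec_hom_naturality_assoc, Scheme.isoSpec_Spec_hom, ← Spec.map_comp,
      Iso.inv_hom_id, Spec.map_id, Category.comp_id]
  have E2 : Spec.map αc = X'.isoSpec.inv ≫ g := by
    rw [Iso.eq_inv_comp]
    simp only [αc, Spec.map_comp]
    rw [Scheme.isoSpec_hom_naturality_assoc, Scheme.isoSpec_Spec_hom, ← Spec.map_comp,
      Iso.inv_hom_id, Spec.map_id, Category.comp_id]
  have R1 : αc ≫ i.appTop = fstc ≫ βc := by
    have hw := congrArg Scheme.Hom.appTop hsq.w
    rw [Scheme.Hom.comp_appTop, Scheme.Hom.comp_appTop] at hw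
    simp only [αc, βc, Category.assoc]
    rw [hw, Scheme.ΓSpecIso_inv_naturality_assoc]
  have R2 : ∀ j, βc ≫ (p j).appTop ≫ (Scheme.ΓSpecIso (CommRingCat.of k)).hom = 𝟙 _ := by
    intro j
    have hw := congrArg Scheme.Hom.appTop (hp j)
    rw [Scheme.Hom.comp_appTop, Scheme.Hom.id_appTop] at hw
    simp only [βc, Category.assoc]
    rw [← Category.assoc hX.appTop, hw, Category.id_comp, Iso.inv_hom_id]
  have R3 : ∀ j, αc ≫ (p' j).appTop ≫ (Scheme.ΓSpecIso (CommRingCat.of (DualNumber k))).hom =
      𝟙 _ := by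
    intro j
    have hw := congrArg Scheme.Hom.appTop (hp' j)
    rw [Scheme.Hom.comp_appTop, Scheme.Hom.id_appTop] at hw
    simp only [αc, Category.assoc]
    rw [← Category.assoc g.appTop, hw, Category.id_comp, Iso.inv_hom_id]
  have R4 : ∀ j, i.appTop ≫ (p j).appTop ≫ (Scheme.ΓSpecIso (CommRingCat.of k)).hom =
      (p' j).appTop ≫ (Scheme.ΓSpecIso (CommRingCat.of (DualNumber k))).hom ≫ fstc := by
    intro j
    have hw := congrArg Scheme.Hom.appTop (hpp' j)
    rw [Scheme.Hom.comp_appTop, Scheme.Hom.comp_appTop] at hw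
    rw [← Category.assoc, hw, Category.assoc, Scheme.ΓSpecIso_naturality]
  letI algA : Algebra k Γ(X, ⊤) := βc.hom.toAlgebra
  letI algB : Algebra (DualNumber k) Γ(X', ⊤) := αc.hom.toAlgebra
  letI algkB : Algebra k Γ(X', ⊤) := (αc.hom.comp (algebraMap k (DualNumber k))).toAlgebra
  haveI : IsScalarTower k (DualNumber k) Γ(X', ⊤) := ⟨fun x y z => by
    show αc.hom (x • y) * z = αc.hom (algebraMap k (DualNumber k) x) * (αc.hom y * z)
    rw [Algebra.smul_def, map_mul, mul_assoc]⟩
  haveI : Algebra.Smooth k Γ(X, ⊤) := by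
    have h1 : Smooth (Spec.map βc) := by rw [E1]; infer_instance
    exact (HasRingHomProperty.Spec_iff (P := @Smooth)).mp h1
  haveI : Module.Flat (DualNumber k) Γ(X', ⊤) := by
    have h1 : Flat (Spec.map αc) := by rw [E2]; infer_instance
    exact (HasRingHomProperty.Spec_iff (P := @Flat)).mp h1
  have hfstalg : ∀ x : k, fstc.hom (algebraMap k (DualNumber k) x) = x := fun x => by
    simp [fstc, TrivSqZeroExt.algebraMap_eq_inl]
  let π : Γ(X', ⊤) →ₐ[k] Γ(X, ⊤) :=
    { i.appTop.hom with
      commutes' := fun x => by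
        show i.appTop.hom (αc.hom (algebraMap k (DualNumber k) x)) = βc.hom x
        have h := congrArg (fun f => f.hom (algebraMap k (DualNumber k) x)) R1
        simp only [CommRingCat.hom_comp, RingHom.comp_apply] at h
        rw [h, hfstalg] }
  have hπ : Function.Surjective π :=
    (IsClosedImmersion.isAffine_surjective_of_isAffine i).2
  have hpo := isPushout_appTop_of_isPullback hsq
  have hker : RingHom.ker (π : Γ(X', ⊤) →+* Γ(X, ⊤)) =
      Ideal.span {algebraMap (DualNumber k) Γ(X', ⊤) DualNumber.eps} := by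
    apply le_antisymm
    · intro b hb
      let I : Ideal Γ(X', ⊤) := Ideal.span {algebraMap (DualNumber k) Γ(X', ⊤) DualNumber.eps}
      let Q : CommRingCat := CommRingCat.of (Γ(X', ⊤) ⧸ I)
      let mk : Γ(X', ⊤) ⟶ Q := CommRingCat.ofHom (Ideal.Quotient.mk I)
      let ν : Γ(Spec (CommRingCat.of k), ⊤) ⟶ Q :=
        (Scheme.ΓSpecIso (CommRingCat.of k)).hom ≫ algc ≫ αc ≫ mk
      have hkey : αc ≫ mk = fstc ≫ algc ≫ αc ≫ mk := by
        apply CommRingCat.hom_ext
        apply RingHom.ext
        intro z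
        show Ideal.Quotient.mk I (αc.hom z) =
          Ideal.Quotient.mk I (αc.hom (algebraMap k (DualNumber k) (z.fst)))
        rw [Ideal.Quotient.eq, ← map_sub]
        have hz : z - algebraMap k (DualNumber k) z.fst =
            TrivSqZeroExt.inl z.snd * DualNumber.eps := by
          ext <;> simp [DualNumber.fst_eps, DualNumber.snd_eps, TrivSqZeroExt.algebraMap_eq_inl]
        rw [hz, map_mul]
        exact Ideal.mul_mem_left _ _ (Ideal.subset_span rfl)
      have hν : g.appTop ≫ mk = (Spec.map fstc).appTop ≫ ν := by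
        have hg : g.appTop = (Scheme.ΓSpecIso (CommRingCat.of (DualNumber k))).hom ≫ αc := by
          simp only [αc, Iso.hom_inv_id_assoc]
        rw [hg, Category.assoc, hkey]
        simp only [ν]
        rw [Scheme.ΓSpecIso_naturality_assoc]
      have hd : i.appTop ≫ hpo.desc mk ν hν = mk := hpo.inl_desc mk ν hν
      have hmk : mk.hom b = 0 := by
        have h := congrArg (fun f => f.hom b) hd
        simp only [CommRingCat.hom_comp, RingHom.comp_apply] at h
        rw [← h]
        have hb' : i.appTop.hom b = 0 := hb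
        rw [hb', map_zero]
      exact Ideal.Quotient.eq_zero_iff_mem.mp hmk
    · rw [Ideal.span_le, Set.singleton_subset_iff]
      show i.appTop.hom (αc.hom DualNumber.eps) = 0
      have h := congrArg (fun f => f.hom DualNumber.eps) R1
      simp only [CommRingCat.hom_comp, RingHom.comp_apply] at h
      rw [h]
      have h0 : fstc.hom (DualNumber.eps : DualNumber k) = 0 := DualNumber.fst_eps
      rw [h0, map_zero]
  let q : ι → (Γ(X, ⊤) →ₐ[k] k) := fun j =>
    { ((p j).appTop ≫ (Scheme.ΓSpecIso (CommRingCat.of k)).hom).hom with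
      commutes' := fun x => by
        show ((p j).appTop ≫ (Scheme.ΓSpecIso (CommRingCat.of k)).hom).hom (βc.hom x) = x
        have h := congrArg (fun f => f.hom x) (R2 j)
        simp only [CommRingCat.hom_comp, RingHom.comp_apply, CommRingCat.hom_id,
          RingHom.id_apply] at h ⊢
        exact h }
  have hq : Function.Injective q := by
    intro j j' hjj'
    apply hinj
    apply ext_of_isAffine
    have h1 : (p j).appTop ≫ (Scheme.ΓSpecIso (CommRingCat.of k)).hom =
        (p j').appTop ≫ (Scheme.ΓSpecIso (CommRingCat.of k)).hom := by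
      apply CommRingCat.hom_ext
      apply RingHom.ext
      intro a
      exact congrArg (fun f : Γ(X, ⊤) →ₐ[k] k => f a) hjj'
    exact (cancel_mono _).mp h1
  let q' : ι → (Γ(X', ⊤) →ₐ[DualNumber k] DualNumber k) := fun j =>
    { ((p' j).appTop ≫ (Scheme.ΓSpecIso (CommRingCat.of (DualNumber k))).hom).hom with
      commutes' := fun x => by
        show ((p' j).appTop ≫ (Scheme.ΓSpecIso (CommRingCat.of (DualNumber k))).hom).hom
          (αc.hom x) = x
        have h := congrArg (fun f => f.hom x) (R3 j)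
        simp only [CommRingCat.hom_comp, RingHom.comp_apply, CommRingCat.hom_id,
          RingHom.id_apply] at h ⊢
        exact h }
  have hqq' : ∀ j b, (q' j b).fst = q j (π b) := by
    intro j b
    have h := congrArg (fun f => f.hom b) (R4 j)
    simp only [CommRingCat.hom_comp, RingHom.comp_apply] at h
    exact h.symm
  obtain ⟨ρ, hρ1, hρ2⟩ := alg_core π hπ hker q hq q' hqq'
  obtain ⟨hs, hi⟩ := bij_of_section π hker ρ hρ1
  have hpush := isPushout_of_bij ρ hs hi
  have hpb0 := isPullback_SpecMap_of_isPushout _ _ _ _ hpush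
  let ρc : Γ(X, ⊤) ⟶ Γ(X', ⊤) := CommRingCat.ofHom (ρ : Γ(X, ⊤) →+* Γ(X', ⊤))
  let r : X' ⟶ X := X'.isoSpec.hom ≫ Spec.map ρc ≫ X.isoSpec.inv
  have hpb : IsPullback r g hX (Spec.map algc) := by
    refine IsPullback.of_iso hpb0.flip X'.isoSpec.symm X.isoSpec.symm (Iso.refl _) (Iso.refl _)
      ?_ ?_ ?_ ?_
    · simp [r, ρc]
    · simp only [Iso.refl_hom, Category.comp_id, Iso.symm_hom]
      exact E2
    · simp only [Iso.refl_hom, Category.comp_id, Iso.symm_hom]
      exact E1
    · simp only [Iso.refl_hom, Category.comp_id, Category.id_comp]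
      rfl
  refine ⟨r, hpb, ?_, ?_⟩
  · have hρπ : ρc ≫ i.appTop = 𝟙 _ := by
      apply CommRingCat.hom_ext
      apply RingHom.ext
      intro a
      exact hρ1 a
    simp only [r]
    rw [← Scheme.isoSpec_hom_naturality_assoc, ← Spec.map_comp_assoc, hρπ, Spec.map_id,
      Category.id_comp, Iso.hom_inv_id]
  · intro j
    have hE3 : ρc ≫ (p' j).appTop = (p j).appTop ≫ (Spec.map algc).appTop := by
      rw [← cancel_mono (Scheme.ΓSpecIso (CommRingCat.of (DualNumber k))).hom]
      simp only [Category.assoc]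
      rw [Scheme.ΓSpecIso_naturality]
      apply CommRingCat.hom_ext
      apply RingHom.ext
      intro a
      exact hρ2 j a
    simp only [r]
    rw [← Scheme.isoSpec_hom_naturality_assoc (p' j), ← Spec.map_comp_assoc, hE3,
      Spec.map_comp_assoc, Scheme.isoSpec_hom_naturality_assoc,
      Scheme.isoSpec_hom_naturality_assoc, Iso.hom_inv_id, Category.comp_id]

end Sch

end H15991

open AlgebraicGeometry CategoryTheory in
/-- Let k be a field and X an affine scheme smooth over k, with finitely many pairwise distinct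
k-rational points p_j (j ∈ ι). Let X' → Spec k[ε] be flat, i : X → X' a morphism making X the fibre
over the closed point Spec k → Spec k[ε] (cartesian square), and p'_j : Spec k[ε] → X' sections
restricting to the p_j. Then there is an isomorphism φ : X' ≅ X ×_{Spec k} Spec k[ε] over Spec k[ε]
such that i followed by φ is the inclusion of X at the closed point (its first component is the
identity of X) and each p'_j followed by φ is the constant section through p_j: every first-order
deformation of a smooth affine scheme with marked points is trivial. (The source says non-singular;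
smooth over k is assumed here, and the marked points are taken pairwise distinct and finite in
number.) -/
theorem result
    (k : Type u) [Field k] (X : Scheme.{u}) (hX : X ⟶ Spec (CommRingCat.of k)) [IsAffine X] [Smooth hX]
    {ι : Type v} [Finite ι] (p : ι → (Spec (CommRingCat.of k) ⟶ X)) (hp : ∀ j, p j ≫ hX = 𝟙 _)
    (hinj : Function.Injective p)
    (X' : Scheme.{u}) (g : X' ⟶ Spec (CommRingCat.of (DualNumber k))) [Flat g] (i : X ⟶ X')
    (hsq : IsPullback i hX g
      (Spec.map (CommRingCat.ofHom (TrivSqZeroExt.fstHom k k k).toRingHom)))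
    (p' : ι → (Spec (CommRingCat.of (DualNumber k)) ⟶ X')) (hp' : ∀ j, p' j ≫ g = 𝟙 _)
    (hpp' : ∀ j, p j ≫ i = Spec.map (CommRingCat.ofHom (TrivSqZeroExt.fstHom k k k).toRingHom) ≫ p' j) :
    ∃ φ : X' ≅ Limits.pullback hX (Spec.map (CommRingCat.ofHom (algebraMap k (DualNumber k)))),
      φ.hom ≫ Limits.pullback.snd hX (Spec.map (CommRingCat.ofHom (algebraMap k (DualNumber k)))) = g ∧
        i ≫ φ.hom ≫ Limits.pullback.fst hX (Spec.map (CommRingCat.ofHom (algebraMap k (DualNumber k)))) = 𝟙 X ∧
          ∀ j, p' j ≫ φ.hom ≫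
              Limits.pullback.fst hX (Spec.map (CommRingCat.ofHom (algebraMap k (DualNumber k)))) =
            Spec.map (CommRingCat.ofHom (algebraMap k (DualNumber k))) ≫ p j := by
  obtain ⟨r, hpb, h1, h2⟩ := H15991.main k X hX p hp hinj X' g i hsq p' hp' hpp'
  refine ⟨hpb.isoPullback, hpb.isoPullback_hom_snd, ?_, fun j => ?_⟩
  · rw [hpb.isoPullback_hom_fst]; exact h1
  · rw [hpb.isoPullback_hom_fst]; exact h2 j

end Groth.Agent.S15991
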