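import Groth.Statements.S15995
import Mathlib

set_option autoImplicit false
open CategoryTheory AlgebraicGeometry
universe u
open FrobSch

namespace Groth.Agent.S15995

open CategoryTheory.Limits

variable (p : ℕ) [Fact p.Prime]

/-- `inv (relFrob f) ≫ frob = fst`. -/
lemma inv_relFrob_frob {X S : Scheme.{u}} [IsCharP S p] [IsCharP X p] (f : X ⟶ S)
    [IsIso (relFrob f p)] :
    inv (relFrob f p) ≫ frob X p = pullback.fst f (frob S p) := by
  rw [IsIso.inv_comp_eq, relFrob_fst]

lemma inv_relFrob_hom {X S : Scheme.{u}} [IsCharP S p] (f : X ⟶ S) [IsIso (relFrob f p)] :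
    inv (relFrob f p) ≫ f = pullback.snd f (frob S p) := by
  rw [IsIso.inv_comp_eq, relFrob_snd]

/-- composition of relatively perfect morphisms is relatively perfect. -/
lemma isIso_relFrob_comp {A B C : Scheme.{u}} [IsCharP C p] [IsCharP B p] (a : A ⟶ B) (b : B ⟶ C)
    (ha : IsIso (relFrob a p)) (hb : IsIso (relFrob b p)) : IsIso (relFrob (a ≫ b) p) := by
  haveI : IsCharP A p := IsCharP.of_hom a p
  -- τ : W ⟶ B
  let W := pullback (a ≫ b) (frob C p)
  let fstW : W ⟶ A := pullback.fst (a ≫ b) (frob C p)
  let sndW : W ⟶ C := pullback.snd (a ≫ b) (frob C p)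
  have hW : fstW ≫ a ≫ b = sndW ≫ frob C p := pullback.condition
  let τ₀ : W ⟶ pullback b (frob C p) := pullback.lift (fstW ≫ a) sndW (by rw [Category.assoc]; exact hW)
  let τ : W ⟶ B := τ₀ ≫ inv (relFrob b p)
  have hτ1 : τ ≫ frob B p = fstW ≫ a := by
    simp only [τ, τ₀, Category.assoc, inv_relFrob_frob, pullback.lift_fst]
  have hτ2 : τ ≫ b = sndW := by
    simp only [τ, τ₀, Category.assoc, inv_relFrob_hom, pullback.lift_snd]
  let σ₀ : W ⟶ pullback a (frob B p) := pullback.lift fstW τ hτ1.symm
  let σ : W ⟶ A := σ₀ ≫ inv (relFrob a p)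
  have hσ1 : σ ≫ frob A p = fstW := by
    simp only [σ, σ₀, Category.assoc, inv_relFrob_frob, pullback.lift_fst]
  have hσ2 : σ ≫ a = τ := by
    simp only [σ, σ₀, Category.assoc, inv_relFrob_hom, pullback.lift_snd]
  refine ⟨⟨σ, ?_, ?_⟩⟩
  · -- relFrob (a ≫ b) ≫ σ = 𝟙
    have h1 : relFrob (a ≫ b) p ≫ τ₀ = a ≫ relFrob b p := by
      apply pullback.hom_ext
      · simp only [τ₀, fstW, Category.assoc, pullback.lift_fst, relFrob_fst_assoc, relFrob_fst]
        exact frob_comp p a
      · simp only [τ₀, sndW, Category.assoc, pullback.lift_snd, relFrob_snd]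
    have h2 : relFrob (a ≫ b) p ≫ τ = a := by
      simp only [τ]
      rw [← Category.assoc, h1, Category.assoc, IsIso.hom_inv_id, Category.comp_id]
    have h3 : relFrob (a ≫ b) p ≫ σ₀ = relFrob a p := by
      apply pullback.hom_ext
      · simp only [σ₀, fstW, Category.assoc, pullback.lift_fst, relFrob_fst]
      · simp only [σ₀, Category.assoc, pullback.lift_snd, relFrob_snd]
        exact h2
    simp only [σ]
    rw [← Category.assoc, h3, IsIso.hom_inv_id]
  · apply pullback.hom_ext
    · rw [Category.assoc, relFrob_fst, Category.id_comp]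
      exact hσ1
    · rw [Category.assoc, relFrob_snd, Category.id_comp, ← Category.assoc, hσ2]
      exact hτ2

/-- base change of a relatively perfect morphism is relatively perfect. -/
lemma isIso_relFrob_snd {Y T S : Scheme.{u}} [IsCharP S p] [IsCharP T p] (r : Y ⟶ S) (f : T ⟶ S)
    (hr : IsIso (relFrob r p)) : IsIso (relFrob (pullback.snd r f) p) := by
  haveI : IsCharP Y p := IsCharP.of_hom r p
  haveI : IsCharP (pullback r f) p := IsCharP.of_hom (pullback.snd r f) p
  let q := pullback.snd r f
  let Z := pullback q (frob T p)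
  let fstZ : Z ⟶ pullback r f := pullback.fst q (frob T p)
  let sndZ : Z ⟶ T := pullback.snd q (frob T p)
  have hZ : fstZ ≫ q = sndZ ≫ frob T p := pullback.condition
  have hcond : (fstZ ≫ pullback.fst r f) ≫ r = (sndZ ≫ f) ≫ frob S p := by
    rw [Category.assoc, pullback.condition, ← Category.assoc]
    change (fstZ ≫ q) ≫ f = _
    rw [hZ, Category.assoc, Category.assoc, frob_comp]
  let a₀ : Z ⟶ pullback r (frob S p) := pullback.lift (fstZ ≫ pullback.fst r f) (sndZ ≫ f) hcond
  let a : Z ⟶ Y := a₀ ≫ inv (relFrob r p)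
  have ha1 : a ≫ r = sndZ ≫ f := by
    simp only [a, a₀, Category.assoc, inv_relFrob_hom, pullback.lift_snd]
  have ha2 : a ≫ frob Y p = fstZ ≫ pullback.fst r f := by
    simp only [a, a₀, Category.assoc, inv_relFrob_frob, pullback.lift_fst]
  let ρ : Z ⟶ pullback r f := pullback.lift a sndZ ha1
  have hρ1 : ρ ≫ pullback.fst r f = a := pullback.lift_fst _ _ _
  have hρ2 : ρ ≫ q = sndZ := pullback.lift_snd _ _ _
  refine ⟨⟨ρ, ?_, ?_⟩⟩
  · apply pullback.hom_ext
    · rw [Category.assoc, hρ1, Category.id_comp]
      have h1 : relFrob q p ≫ a₀ = pullback.fst r f ≫ relFrob r p := by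
        apply pullback.hom_ext
        · simp only [a₀, fstZ, Category.assoc, pullback.lift_fst, relFrob_fst_assoc, relFrob_fst]
          exact frob_comp p _
        · simp only [a₀, sndZ, Category.assoc, pullback.lift_snd, relFrob_snd_assoc, relFrob_snd]
          exact pullback.condition.symm
      simp only [a]
      rw [← Category.assoc, h1, Category.assoc, IsIso.hom_inv_id, Category.comp_id]
    · rw [Category.assoc, Category.id_comp]
      change relFrob q p ≫ ρ ≫ q = q
      rw [hρ2]
      exact relFrob_snd q p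
  · apply pullback.hom_ext
    · rw [Category.assoc, relFrob_fst, Category.id_comp]
      -- ρ ≫ frob = fstZ
      apply pullback.hom_ext
      · rw [Category.assoc, frob_comp, ← Category.assoc, hρ1]
        exact ha2
      · rw [Category.assoc, frob_comp, ← Category.assoc]
        change (ρ ≫ q) ≫ frob T p = fstZ ≫ q
        rw [hρ2, hZ]
    · rw [Category.assoc, relFrob_snd, Category.id_comp]
      exact hρ2

/-- Coperfection commutes with base restriction. Let S and T be schemes of characteristic p and f : T →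
S a relatively perfect morphism (its relative Frobenius T → T^(p/S) is an isomorphism). Let g : X →
T and let c : X → X' be a T-morphism to a relatively perfect T-scheme π : X' → T which is a
coperfection of X over T: for every relatively perfect T-scheme Y, every T-morphism X → Y factors
uniquely through c. Then X' with structure map π ≫ f is relatively perfect over S and c is a
coperfection of X over S: every S-morphism from X to a relatively perfect S-scheme factors uniquely
through c. (The source works with algebraic spaces; schemes here.) -/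
theorem result (p : ℕ) [Fact p.Prime] {X X' T S : Scheme.{u}}
    [FrobSch.IsCharP S p] [FrobSch.IsCharP T p] (f : T ⟶ S) (hf : IsIso (FrobSch.relFrob f p))
    (g : X ⟶ T) (π : X' ⟶ T) (hπ : IsIso (FrobSch.relFrob π p)) (c : X ⟶ X') (hc : c ≫ π = g)
    (huniv : ∀ (Y : Scheme.{u}) (q : Y ⟶ T), IsIso (FrobSch.relFrob q p) →
      ∀ k : X ⟶ Y, k ≫ q = g → ∃! h : X' ⟶ Y, h ≫ q = π ∧ c ≫ h = k) :
    IsIso (FrobSch.relFrob (π ≫ f) p) ∧
      ∀ (Y : Scheme.{u}) (r : Y ⟶ S), IsIso (FrobSch.relFrob r p) →
        ∀ k : X ⟶ Y, k ≫ r = g ≫ f → ∃! h : X' ⟶ Y, h ≫ r = π ≫ f ∧ c ≫ h = k := by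
  refine ⟨isIso_relFrob_comp p π f hπ hf, ?_⟩
  intro Y r hr k hk
  have hq := isIso_relFrob_snd p r f hr
  let k' : X ⟶ pullback r f := pullback.lift k g hk
  have hk' : k' ≫ pullback.snd r f = g := pullback.lift_snd _ _ _
  obtain ⟨h', ⟨hh1, hh2⟩, huniq⟩ := huniv (pullback r f) (pullback.snd r f) hq k' hk'
  refine ⟨h' ≫ pullback.fst r f, ⟨?_, ?_⟩, ?_⟩
  · rw [Category.assoc, pullback.condition, ← Category.assoc, hh1]
  · rw [← Category.assoc, hh2]
    exact pullback.lift_fst _ _ _
  · rintro h₂ ⟨e1, e2⟩
    have : pullback.lift h₂ π e1 = h' := by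
      apply huniq
      refine ⟨pullback.lift_snd _ _ _, ?_⟩
      apply pullback.hom_ext
      · rw [Category.assoc, pullback.lift_fst, e2]
        exact (pullback.lift_fst _ _ _).symm
      · rw [Category.assoc, pullback.lift_snd, hc]
        exact (pullback.lift_snd _ _ _).symm
    rw [← this, pullback.lift_fst]


end Groth.Agent.S15995
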