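import Groth.Statements.S16001
import Mathlib

set_option autoImplicit false
universe u
open FrobAlg

namespace Groth.Agent.S16001

open TensorProduct

/-- A copy of `C` on which `A` acts through the `p`-th power. -/
@[nolint unusedArguments]
def Tgt (_p : ℕ) (_A : Type u) (C : Type u) : Type u := C

section

variable (p : ℕ) [Fact p.Prime] (A : Type u) [CommRing A] [CharP A p]
  (C : Type u) [CommRing C] [Algebra A C]

omit [Fact p.Prime] in
include A in
theorem cast_p_eq_zero : (p : C) = 0 := by
  have h : (p : C) = algebraMap A C (p : A) := (map_natCast (algebraMap A C) p).symm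
  rw [h, CharP.cast_eq_zero, map_zero]

/-- The `p`-th power map of an `A`-algebra, `A` of characteristic `p`. -/
def frobC : C →+* C where
  toFun x := x ^ p
  map_one' := one_pow p
  map_mul' x y := mul_pow x y p
  map_zero' := zero_pow (Fact.out : p.Prime).ne_zero
  map_add' x y := by
    obtain ⟨r, hr⟩ := exists_add_pow_prime_eq (Fact.out : p.Prime) x y
    rw [hr, cast_p_eq_zero p A C]
    ring

theorem frobC_apply (x : C) : frobC p A C x = x ^ p := rfl

instance : CommRing (Tgt p A C) := inferInstanceAs (CommRing C)

/-- The identity `C → Tgt p A C` of underlying rings. -/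
def toTgt : C ≃+* Tgt p A C := RingEquiv.refl C

instance : Algebra A (Tgt p A C) :=
  (((toTgt p A C : C →+* Tgt p A C).comp (frobC p A C)).comp (algebraMap A C)).toAlgebra

theorem algebraMap_tgt (a : A) :
    algebraMap A (Tgt p A C) a = toTgt p A C ((algebraMap A C a) ^ p) := rfl

variable {C}

/-- The `p`-th power map descends to the quotient by a square-zero ideal. -/
def phi (I : Ideal C) (hI : I ^ 2 = ⊥) : C ⧸ I →+* C :=
  Ideal.Quotient.lift I (frobC p A C) (fun i hi => by
    have h2 : i ^ 2 = 0 := by
      have h3 : i ^ 2 ∈ I ^ 2 := Ideal.pow_mem_pow hi 2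
      rw [hI] at h3
      exact (Submodule.mem_bot C).mp h3
    exact pow_eq_zero_of_le (Fact.out : p.Prime).two_le h2)

theorem phi_mk (I : Ideal C) (hI : I ^ 2 = ⊥) (c : C) :
    phi p A I hI (Ideal.Quotient.mk I c) = c ^ p := rfl

theorem mk_phi (I : Ideal C) (hI : I ^ 2 = ⊥) (y : C ⧸ I) :
    Ideal.Quotient.mk I (phi p A I hI y) = y ^ p := by
  obtain ⟨c, rfl⟩ := Ideal.Quotient.mk_surjective y
  rw [phi_mk, map_pow]

variable (C)

/-- The structure map of the twisted copy of `A` into `Tgt`. -/
def gHom : Twist p A →ₐ[A] Tgt p A C where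
  toRingHom := ((toTgt p A C : C →+* Tgt p A C).comp (algebraMap A C)).comp
    ((toTwist p A).symm : Twist p A →+* A)
  commutes' a := by
    change toTgt p A C (algebraMap A C ((toTwist p A).symm (algebraMap A (Twist p A) a))) = _
    rw [algebraMap_twist, algebraMap_tgt, RingEquiv.symm_apply_apply, map_pow]

variable {C}
variable (B : Type u) [CommRing B] [Algebra A B] [CharP B p]

theorem relFrob_tmul (b : B) (a : Twist p A) :
    relFrob p A B (b ⊗ₜ[A] a) = b ^ p * algebraMap A B ((toTwist p A).symm a) := rfl

variable {B}

/-- The semilinear lift of an algebra map to the quotient. -/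
def fHom (I : Ideal C) (hI : I ^ 2 = ⊥) (g : B →ₐ[A] C ⧸ I) : B →ₐ[A] Tgt p A C where
  toRingHom := ((toTgt p A C : C →+* Tgt p A C).comp (phi p A I hI)).comp g.toRingHom
  commutes' a := by
    change toTgt p A C (phi p A I hI (g (algebraMap A B a))) =
      toTgt p A C ((algebraMap A C a) ^ p)
    rw [g.commutes]
    change toTgt p A C (phi p A I hI (Ideal.Quotient.mk I (algebraMap A C a))) = _
    rw [phi_mk]

/-- The map out of the Frobenius twist. -/
def tHom (I : Ideal C) (hI : I ^ 2 = ⊥) (g : B →ₐ[A] C ⧸ I) :
    B ⊗[A] Twist p A →ₐ[A] Tgt p A C :=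
  Algebra.TensorProduct.lift (fHom p A I hI g) (gHom p A C) (fun _ _ => Commute.all _ _)

omit [CharP B p] in
theorem tHom_tmul (I : Ideal C) (hI : I ^ 2 = ⊥) (g : B →ₐ[A] C ⧸ I) (b : B) (a : Twist p A) :
    (toTgt p A C).symm (tHom p A I hI g (b ⊗ₜ[A] a)) =
      phi p A I hI (g b) * algebraMap A C ((toTwist p A).symm a) := rfl

end

/-- Let A be a commutative ring of prime characteristic p and B a commutative A-algebra of
characteristic p such that the relative Frobenius B ⊗_{A,Frob} A → B, b ⊗ a ↦ b^p a, is bijective
(that is, Spec B → Spec A is relatively perfect; no finiteness condition is imposed). Then B is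
formally étale over A. (The source proves that every perfect algebraic stack over an algebraic space
of characteristic p is formally étale over it; this is the case of an affine scheme over an affine
base.) -/
theorem result (p : ℕ) [Fact p.Prime] (A : Type u) [CommRing A] [CharP A p]
    (B : Type u) [CommRing B] [Algebra A B] [CharP B p]
    (h : Function.Bijective (FrobAlg.relFrob p A B)) : Algebra.FormallyEtale A B := by
  rw [Algebra.FormallyEtale.iff_comp_bijective]
  intro C _ _ I hI
  have hsurjR : Function.Surjective (relFrob p A B) := h.2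
  constructor
  · intro g₁ g₂ h12
    have hmk : ∀ b, Ideal.Quotient.mk I (g₁ b) = Ideal.Quotient.mk I (g₂ b) :=
      fun b => AlgHom.congr_fun h12 b
    have hpow : ∀ b, (g₁ b) ^ p = (g₂ b) ^ p := fun b => by
      rw [← phi_mk p A I hI, ← phi_mk p A I hI, hmk]
    have key : ∀ x : B ⊗[A] Twist p A, g₁ (relFrob p A B x) = g₂ (relFrob p A B x) := by
      intro x
      induction x using TensorProduct.induction_on with
      | zero => simp
      | tmul b a =>
        rw [relFrob_tmul, map_mul, map_mul, map_pow, map_pow, hpow, AlgHom.commutes,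
          AlgHom.commutes]
      | add x y hx hy => rw [map_add, map_add, map_add, hx, hy]
    apply AlgHom.ext
    intro b
    obtain ⟨x, rfl⟩ := hsurjR b
    exact key x
  · intro g
    let e : (B ⊗[A] Twist p A) ≃+* B := RingEquiv.ofBijective (relFrob p A B) h
    have hT : ∀ x, Ideal.Quotient.mk I ((toTgt p A C).symm (tHom p A I hI g x)) =
        g (relFrob p A B x) := by
      intro x
      induction x using TensorProduct.induction_on with
      | zero => simp
      | tmul b a =>
        rw [tHom_tmul, map_mul, mk_phi, relFrob_tmul, map_mul, map_pow, AlgHom.commutes]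
        rfl
      | add x y hx hy => simp only [map_add, hx, hy]
    have he : ∀ x, e x = relFrob p A B x := fun x => rfl
    refine ⟨{ toRingHom := (((toTgt p A C).symm : Tgt p A C →+* C).comp
                (tHom p A I hI g).toRingHom).comp (e.symm : B →+* B ⊗[A] Twist p A)
              commutes' := ?_ }, ?_⟩
    · intro a
      have h1 : e.symm (algebraMap A B a) = (1 : B) ⊗ₜ[A] (toTwist p A a) := by
        rw [RingEquiv.symm_apply_eq, he, relFrob_tmul, one_pow, one_mul,
          RingEquiv.symm_apply_apply]
      change (toTgt p A C).symm (tHom p A I hI g (e.symm (algebraMap A B a))) = algebraMap A C a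
      rw [h1, tHom_tmul, map_one, map_one, one_mul, RingEquiv.symm_apply_apply]
    · apply AlgHom.ext
      intro b
      change Ideal.Quotient.mk I ((toTgt p A C).symm (tHom p A I hI g (e.symm b))) = g b
      rw [hT, ← he, RingEquiv.apply_symm_apply]

end Groth.Agent.S16001
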