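import Groth.Statements.S16002
-- import your own Groth.Agent.* helpers here
import Groth.Agent.Lib.Helper23.Twist

set_option autoImplicit false
open CategoryTheory AlgebraicGeometry CategoryTheory.Limits
open VBCurve

namespace Groth.Agent.S16002

open Groth.Agent.Lib.Helper23.Twist Groth.Agent.Lib.Helper23.VBMaps Groth.Agent.Lib.Helper7.TwFun

/-- Let X be a smooth proper integral curve over the complex numbers and (L_i)_{i ∈ ι} a family of
invertible O_X-modules. A tuple is a finite locally free O_X-module E of rank r ≥ 1 with maps φ_i :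
E → E ⊗ L_i; a submodule j : G → E (a monomorphism) is invariant when for every i some χ : G → G ⊗
L_i followed by j ⊗ L_i equals j followed by φ_i; the tuple is semistable when deg G · r ≤ deg E · n
for every invariant finite locally free submodule G of rank n ≥ 1, degrees being χ − rank · χ(O_X).
If (E, φ) and (F, ψ) are semistable tuples of ranks r ≥ 1 and s ≥ 1 over the same family (L_i) and f
: E → F is a nonzero module map with f followed by ψ_i equal to φ_i followed by f ⊗ L_i for every i,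
then the slope of E is at most that of F: deg E · s ≤ deg F · r. (The published lemma has finitely
many pairwise commuting twisting maps and morphisms compatible up to one nonzero scalar; the
commutation is not used, the index set is arbitrary here, and the scalar case reduces to this one by
rescaling the ψ_i.) -/
theorem result
    (X : Scheme.{0}) [X.Over (Spec (CommRingCat.of ℂ))] [IsIntegral X]
    [IsProper (X ↘ Spec (CommRingCat.of ℂ))] [Smooth (X ↘ Spec (CommRingCat.of ℂ))]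
    (hdim : topologicalKrullDim X = 1)
    (ι : Type) (L : ι → X.Modules) (hL : ∀ i, PicF.IsInvertible (L i))
    (r s : ℕ) (hr : 0 < r) (hs : 0 < s)
    (E F : X.Modules) (hE : FlatMod.IsFinLocFreeOfRank r E) (hF : FlatMod.IsFinLocFreeOfRank s F)
    (φ : ∀ i, E ⟶ CohB1.tensorMod E (L i)) (ψ : ∀ i, F ⟶ CohB1.tensorMod F (L i))
    (hEss : (∀ (G : X.Modules) (n : ℕ) (j : G ⟶ E), Mono j → 0 < n → FlatMod.IsFinLocFreeOfRank n G →
      (∀ i, ∃ χ : G ⟶ CohB1.tensorMod G (L i), χ ≫ (CohB1.sheafifyMod X).map (MonoidalCategoryStruct.whiskerRight (C := CohB1.PMod X) j.val (CohB1.toPMod (L i))) = j ≫ φ i) →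
      Curv2.deg ℂ X G n * (r : ℤ) ≤ Curv2.deg ℂ X E r * (n : ℤ)))
    (hFss : (∀ (G : X.Modules) (n : ℕ) (j : G ⟶ F), Mono j → 0 < n → FlatMod.IsFinLocFreeOfRank n G →
      (∀ i, ∃ χ : G ⟶ CohB1.tensorMod G (L i), χ ≫ (CohB1.sheafifyMod X).map (MonoidalCategoryStruct.whiskerRight (C := CohB1.PMod X) j.val (CohB1.toPMod (L i))) = j ≫ ψ i) →
      Curv2.deg ℂ X G n * (s : ℤ) ≤ Curv2.deg ℂ X F s * (n : ℤ)))
    (f : E ⟶ F) (hf : ∀ i, f ≫ ψ i = φ i ≫ (CohB1.sheafifyMod X).map (MonoidalCategoryStruct.whiskerRight (C := CohB1.PMod X) f.val (CohB1.toPMod (L i)))) (hne : f ≠ 0) :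
    Curv2.deg ℂ X E r * (s : ℤ) ≤ Curv2.deg ℂ X F s * (r : ℤ) := by
  have hd1 : topologicalKrullDim X ≤ 1 := hdim.le
  obtain ⟨a, b, hK, hI, hrab, hdeg, hb0, ha0, -, hbs⟩ := map_analysis ℂ hd1 hE hF f
  have hbpos : 0 < b := Nat.pos_of_ne_zero (fun h => hne (hb0 h))
  have hfi : ∀ i, f ≫ (show F ⟶ (twR (L i)).obj F from ψ i) =
      (show E ⟶ (twR (L i)).obj E from φ i) ≫ (twR (L i)).map f := fun i =>
    (hf i).trans (congrArg (fun m => φ i ≫ m) (wr_eq (L i) f))
  have hI' := hFss (Abelian.coimage f) b (Abelian.factorThruCoimage f) inferInstance hbpos hI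
    (fun i => (inv_iff (L i) (ψ i) _).mp (inv_coimage (hL i) _ _ f (hfi i)))
  have hrZ : (r : ℤ) = (a : ℤ) + (b : ℤ) := by exact_mod_cast hrab
  have hbZ : (0 : ℤ) < (b : ℤ) := by exact_mod_cast hbpos
  have hsZ : (0 : ℤ) ≤ (s : ℤ) := Int.natCast_nonneg _
  have hrnn : (0 : ℤ) ≤ (r : ℤ) := Int.natCast_nonneg _
  rcases Nat.eq_zero_or_pos a with ha | ha
  · obtain ⟨-, hdK⟩ := ha0 ha
    have h1 : Curv2.deg ℂ X E r = Curv2.deg ℂ X (Abelian.coimage f) b := by
      rw [hdeg, hdK, zero_add]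
    have h2 : (r : ℤ) = (b : ℤ) := by rw [hrZ, ha]; simp
    rw [h1, h2]
    exact hI'
  · have hK' := hEss (kernel f) a (kernel.ι f) inferInstance ha hK
      (fun i => (inv_iff (L i) (φ i) _).mp (inv_kernel (hL i) _ _ f (hfi i)))
    have key : Curv2.deg ℂ X (Abelian.coimage f) b * (r : ℤ) - Curv2.deg ℂ X E r * (b : ℤ) =
        Curv2.deg ℂ X E r * (a : ℤ) - Curv2.deg ℂ X (kernel f) a * (r : ℤ) := by
      have h2 : Curv2.deg ℂ X (Abelian.coimage f) b =
          Curv2.deg ℂ X E r - Curv2.deg ℂ X (kernel f) a := by linarith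
      rw [h2, hrZ]; ring
    have h4 : Curv2.deg ℂ X E r * (b : ℤ) ≤ Curv2.deg ℂ X (Abelian.coimage f) b * (r : ℤ) := by
      linarith
    have h5 : (Curv2.deg ℂ X E r * (s : ℤ)) * (b : ℤ) ≤ (Curv2.deg ℂ X F s * (r : ℤ)) * (b : ℤ) :=
      calc (Curv2.deg ℂ X E r * (s : ℤ)) * (b : ℤ)
          = (Curv2.deg ℂ X E r * (b : ℤ)) * (s : ℤ) := by ring
        _ ≤ (Curv2.deg ℂ X (Abelian.coimage f) b * (r : ℤ)) * (s : ℤ) :=
            mul_le_mul_of_nonneg_right h4 hsZ
        _ = (Curv2.deg ℂ X (Abelian.coimage f) b * (s : ℤ)) * (r : ℤ) := by ring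
        _ ≤ (Curv2.deg ℂ X F s * (b : ℤ)) * (r : ℤ) := mul_le_mul_of_nonneg_right hI' hrnn
        _ = (Curv2.deg ℂ X F s * (r : ℤ)) * (b : ℤ) := by ring
    exact le_of_mul_le_mul_right h5 hbZ

end Groth.Agent.S16002
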