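import Groth.Statements.S16014
import Mathlib.Data.Int.Interval
import Mathlib.Algebra.BigOperators.Group.Finset.Sigma
import Mathlib.Tactic

set_option autoImplicit false
universe u
open W4c3ghconstell

namespace Groth.Agent.S16014

/-- Let B = ⊕_{n ∈ ℤ} ⊕_τ B^n_τ be a bigraded finite-dimensional vector space, τ running over a finite
index set, with B^n = 0 for n < −N and for n > M (N, M integers); put d(n, τ) = dim B^n_τ. For
rational numbers φ_τ write φ(C) = Σ_τ φ_τ dim C_τ for a τ-graded piece C, and let B^{≥n} = ⊕_{m ≥ n}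
B^m, so that dim B^{≥n}_τ = Σ_{n ≤ m ≤ M} d(m, τ). Then Σ_{−N ≤ n ≤ M} n · φ(B^n) = Σ_{−N+1 ≤ n ≤ M}
φ(B^{≥n}) − N · φ(B). (Stated directly on the dimension function d.) -/
theorem result {τ : Type u} [Fintype τ] (d : ℤ → τ → ℕ) (φ : τ → ℚ) (N M : ℤ)
    (hN : ∀ n, n < -N → d n = 0) (hM : ∀ n, M < n → d n = 0) :
    ∑ n ∈ Finset.Icc (-N) M, (n : ℚ) * (∑ t, φ t * (d n t : ℚ)) =
      ∑ n ∈ Finset.Icc (-N + 1) M, (∑ t, φ t * (∑ m ∈ Finset.Icc n M, (d m t : ℚ))) -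
        (N : ℚ) * (∑ t, φ t * (∑ m ∈ Finset.Icc (-N) M, (d m t : ℚ))) := by
  obtain ⟨c, hc⟩ : ∃ c : ℤ → ℚ, ∀ n, c n = ∑ t, φ t * (d n t : ℚ) := ⟨_, fun _ => rfl⟩
  have h1 : ∀ a : ℤ, (∑ t, φ t * (∑ m ∈ Finset.Icc a M, (d m t : ℚ))) =
      ∑ m ∈ Finset.Icc a M, c m := by
    intro a
    simp only [hc, Finset.mul_sum]
    exact Finset.sum_comm
  simp_rw [h1, ← hc]
  have h2 : ∑ n ∈ Finset.Icc (-N + 1) M, ∑ m ∈ Finset.Icc n M, c m =
      ∑ m ∈ Finset.Icc (-N) M, ∑ n ∈ Finset.Icc (-N + 1) m, c m := by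
    apply Finset.sum_comm'
    intro n m
    simp only [Finset.mem_Icc]
    omega
  rw [h2]
  have h3 : ∀ m ∈ Finset.Icc (-N) M,
      ∑ n ∈ Finset.Icc (-N + 1) m, c m = ((m : ℚ) + N) * c m := by
    intro m hm
    rw [Finset.mem_Icc] at hm
    rw [Finset.sum_const, nsmul_eq_mul]
    congr 1
    have h5 := Int.card_Icc_of_le (a := -N + 1) (b := m) (by omega)
    have h4 : ((Finset.Icc (-N + 1) m).card : ℚ) = (((Finset.Icc (-N + 1) m).card : ℤ) : ℚ) := by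
      norm_cast
    rw [h4, h5]
    push_cast
    ring
  rw [Finset.sum_congr rfl h3, Finset.mul_sum, ← Finset.sum_sub_distrib]
  apply Finset.sum_congr rfl
  intro m _
  ring

end Groth.Agent.S16014
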