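import Groth.Statements.S16015
import Mathlib

set_option autoImplicit false
universe u v w
open W4c3ghconstell

namespace Groth.Agent.S16015

open TensorProduct

/-- Let B be a commutative ring, E a B-module, F a finitely generated projective B-module and β : E → F
a B-linear map. Then there is a unique ideal I of B such that for every commutative B-algebra C the
base change β_C : C ⊗ E → C ⊗ F is zero if and only if the structure map B → C kills I. (The
published statement is for a homomorphism of modules on a scheme T into a locally free module and
produces a closed subscheme T₀ through which a morphism factors exactly when the pulled-back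
homomorphism vanishes; this row is the case of an affine T with affine test schemes and F of finite
rank, to which it reduces.) -/
theorem result {B : Type u} [CommRing B]
    {E : Type v} [AddCommGroup E] [Module B E]
    {F : Type w} [AddCommGroup F] [Module B F] [Module.Finite B F] [Module.Projective B F]
    (β : E →ₗ[B] F) :
    ∃! I : Ideal B, ∀ (C : Type u) [CommRing C] [Algebra B C],
      LinearMap.baseChange C β = 0 ↔ I ≤ RingHom.ker (algebraMap B C) := by
  obtain ⟨s, hs⟩ := Module.projective_def'.mp (inferInstance : Module.Projective B F)
  have hy : ∀ y : F, y = ∑ x ∈ (s y).support, (s y x) • x := by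
    intro y
    have h1 := LinearMap.congr_fun hs y
    simp only [LinearMap.coe_comp, Function.comp_apply, Finsupp.linearCombination_apply,
      LinearMap.id_coe, id_eq] at h1
    exact h1.symm
  let I : Ideal B := Ideal.span {b | ∃ (f : Module.Dual B F) (e : E), b = f (β e)}
  have hI : ∀ (C : Type u) [CommRing C] [Algebra B C],
      LinearMap.baseChange C β = 0 ↔ I ≤ RingHom.ker (algebraMap B C) := by
    intro C _ _
    constructor
    · intro h0
      apply Ideal.span_le.mpr
      rintro b ⟨f, e, rfl⟩
      rw [SetLike.mem_coe, RingHom.mem_ker]
      have h1 : (1 : C) ⊗ₜ[B] (β e) = 0 := by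
        have h2 := LinearMap.congr_fun h0 ((1 : C) ⊗ₜ[B] e)
        simpa using h2
      have h3 := congrArg (fun x => TensorProduct.rid B C (LinearMap.baseChange C f x)) h1
      simp only [LinearMap.baseChange_tmul, TensorProduct.rid_tmul, map_zero] at h3
      rw [Algebra.algebraMap_eq_smul_one]
      exact h3
    · intro hle
      apply TensorProduct.AlgebraTensorModule.curry_injective
      ext e
      simp only [TensorProduct.AlgebraTensorModule.curry_apply, LinearMap.restrictScalars_apply,
        TensorProduct.curry_apply, LinearMap.baseChange_tmul, LinearMap.zero_apply]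
      rw [hy (β e), TensorProduct.tmul_sum]
      apply Finset.sum_eq_zero
      intro x _
      have hmem : s (β e) x ∈ I := by
        apply Ideal.subset_span
        exact ⟨(Finsupp.lapply x).comp s, e, rfl⟩
      have hker := hle hmem
      rw [RingHom.mem_ker] at hker
      rw [← TensorProduct.smul_tmul, Algebra.smul_def, hker, zero_mul, TensorProduct.zero_tmul]
  refine ⟨I, hI, fun I' hI' => ?_⟩
  apply le_antisymm
  · have h1 := (hI' (B ⧸ I)).mp ((hI (B ⧸ I)).mpr (by
      rw [Ideal.Quotient.algebraMap_eq, Ideal.mk_ker]))
    rwa [Ideal.Quotient.algebraMap_eq, Ideal.mk_ker] at h1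
  · have h1 := (hI (B ⧸ I')).mp ((hI' (B ⧸ I')).mpr (by
      rw [Ideal.Quotient.algebraMap_eq, Ideal.mk_ker]))
    rwa [Ideal.Quotient.algebraMap_eq, Ideal.mk_ker] at h1

end Groth.Agent.S16015
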