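import Groth.Statements.S16016
import Mathlib

set_option autoImplicit false
universe u
open W4c3ghconstell

namespace Groth.Agent.S16016

section

variable (k : Type u) [Field k]

/-- The matrix `Q`. -/
abbrev Q : Matrix (Fin 3 ⊕ Fin 3) (Fin 3 ⊕ Fin 3) k :=
  Matrix.fromBlocks (0 : Matrix (Fin 3) (Fin 3) k) 1 1 0

theorem Q_apply (i j : Fin 3 ⊕ Fin 3) : (Q k) i j = if i = Sum.swap j then 1 else 0 := by
  rcases i with i | i <;> rcases j with j | j <;> simp [Q, Matrix.one_apply]

theorem Q_apply' (i j : Fin 3 ⊕ Fin 3) : (Q k) i j = if j = Sum.swap i then 1 else 0 := by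
  rcases i with i | i <;> rcases j with j | j <;> simp [Q, Matrix.one_apply, eq_comm]

variable {k}

theorem mulQ (M : Matrix (Fin 3 ⊕ Fin 3) (Fin 3 ⊕ Fin 3) k) (i j : Fin 3 ⊕ Fin 3) :
    (M * Q k) i j = M i (Sum.swap j) := by
  rw [Matrix.mul_apply]
  simp only [Q_apply, mul_ite, mul_one, mul_zero, Finset.sum_ite_eq', Finset.mem_univ, if_true]

theorem Qmul (M : Matrix (Fin 3 ⊕ Fin 3) (Fin 3 ⊕ Fin 3) k) (i j : Fin 3 ⊕ Fin 3) :
    (Q k * M) i j = M (Sum.swap i) j := by
  rw [Matrix.mul_apply]
  simp only [Q_apply', ite_mul, one_mul, zero_mul, Finset.sum_ite_eq', Finset.mem_univ, if_true]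

end

/-- Let k be a field with 2 ≠ 0, index k⁶ by two copies of {0,1,2} (basis vectors p₁, p₂, p₃ in the
first copy and p₄, p₅, p₆ in the second), let Q be the symmetric matrix with blocks ((0, 1), (1,
0)), so that the form it defines pairs pᵢ with pᵢ₊₃, and let W₀ be the span of p₁ and p₂. Then a 6 ×
6 matrix A satisfies AᵀQ + QA = 0 (A lies in the orthogonal Lie algebra of Q) and has the image of
Aᵀ contained in W₀ if and only if A = a · (E₄₂ − E₅₁) for some scalar a, where Eᵢⱼ is the matrix
unit. (The lemma in the source concludes that the set of such A inside a certain nilpotent orbit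
closure of this Lie algebra is one-dimensional; this row is the computation its proof performs,
which determines all such A in the Lie algebra. Characteristic 2 is excluded: there E₁₄ᵀ also
qualifies.) -/
theorem result (k : Type u) [Field k] (h2 : (2 : k) ≠ 0)
    (A : Matrix (Fin 3 ⊕ Fin 3) (Fin 3 ⊕ Fin 3) k) :
    (A.transpose * Matrix.fromBlocks (0 : Matrix (Fin 3) (Fin 3) k) 1 1 0 +
        Matrix.fromBlocks (0 : Matrix (Fin 3) (Fin 3) k) 1 1 0 * A = 0 ∧
      LinearMap.range (Matrix.mulVecLin A.transpose) ≤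
        Submodule.span k {Pi.single (Sum.inl 0 : Fin 3 ⊕ Fin 3) (1 : k), Pi.single (Sum.inl 1 : Fin 3 ⊕ Fin 3) (1 : k)}) ↔
    ∃ a : k, A = a • (Matrix.single (Sum.inr 0) (Sum.inl 1) (1 : k) - Matrix.single (Sum.inr 1) (Sum.inl 0) (1 : k)) := by
  constructor
  · rintro ⟨h1, hr⟩
    have F2 : ∀ i j, A (Sum.swap j) i + A (Sum.swap i) j = 0 := by
      intro i j
      have h3 := congrFun (congrFun h1 i) j
      rw [Matrix.add_apply, mulQ, Qmul, Matrix.transpose_apply] at h3
      exact h3
    have F1 : ∀ i j, j ≠ Sum.inl 0 → j ≠ Sum.inl 1 → A i j = 0 := by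
      intro i j hj0 hj1
      have hmem := hr (LinearMap.mem_range_self (Matrix.mulVecLin A.transpose) (Pi.single i 1))
      rw [Submodule.mem_span_pair] at hmem
      obtain ⟨a, b, hab⟩ := hmem
      have h3 := congrFun hab j
      rw [Matrix.mulVecLin_apply, Matrix.mulVec_single_one] at h3
      simp only [Pi.add_apply, Pi.smul_apply, Pi.single_apply, hj0, hj1, if_false, smul_zero,
        add_zero, Matrix.col_apply, Matrix.transpose_apply] at h3
      exact h3.symm
    have N2 : ∀ (i : Fin 3 ⊕ Fin 3) (b : Fin 3), (b = 0 ∨ b = 1) → i ≠ Sum.inr 0 → i ≠ Sum.inr 1 →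
        A i (Sum.inl b) = 0 := by
      intro i b hb hi0 hi1
      have h3 := F2 (Sum.inl b) (Sum.swap i)
      rw [Sum.swap_swap, Sum.swap_inl] at h3
      have h4 : A (Sum.inr b) (Sum.swap i) = 0 := by
        apply F1
        · intro h5
          apply hi0
          have := congrArg Sum.swap h5
          simpa using this
        · intro h5
          apply hi1
          have := congrArg Sum.swap h5
          simpa using this
      rw [h4, add_zero] at h3
      exact h3
    have N3 : A (Sum.inr 0) (Sum.inl 0) = 0 := by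
      have h3 := F2 (Sum.inl 0) (Sum.inl 0)
      rw [Sum.swap_inl] at h3
      have h4 : (2 : k) * A (Sum.inr 0) (Sum.inl 0) = 0 := by rw [two_mul]; exact h3
      exact (mul_eq_zero.mp h4).resolve_left h2
    have N4 : A (Sum.inr 1) (Sum.inl 1) = 0 := by
      have h3 := F2 (Sum.inl 1) (Sum.inl 1)
      rw [Sum.swap_inl] at h3
      have h4 : (2 : k) * A (Sum.inr 1) (Sum.inl 1) = 0 := by rw [two_mul]; exact h3
      exact (mul_eq_zero.mp h4).resolve_left h2
    have N5 : A (Sum.inr 1) (Sum.inl 0) = -A (Sum.inr 0) (Sum.inl 1) := by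
      have h3 := F2 (Sum.inl 0) (Sum.inl 1)
      rw [Sum.swap_inl, Sum.swap_inl] at h3
      exact eq_neg_of_add_eq_zero_left h3
    refine ⟨A (Sum.inr 0) (Sum.inl 1), ?_⟩
    ext i j
    rw [Matrix.smul_apply, Matrix.sub_apply, Matrix.single_apply, Matrix.single_apply, smul_eq_mul]
    by_cases hj : j = Sum.inl 0 ∨ j = Sum.inl 1
    · rcases hj with rfl | rfl
      · by_cases hi : i = Sum.inr 0 ∨ i = Sum.inr 1
        · rcases hi with rfl | rfl
          · rw [N3]; simp
          · rw [N5]; simp
        · rw [not_or] at hi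
          rw [N2 i 0 (Or.inl rfl) hi.1 hi.2]
          simp [Ne.symm hi.2]
      · by_cases hi : i = Sum.inr 0 ∨ i = Sum.inr 1
        · rcases hi with rfl | rfl
          · simp
          · rw [N4]; simp
        · rw [not_or] at hi
          rw [N2 i 1 (Or.inr rfl) hi.1 hi.2]
          simp [Ne.symm hi.1]
    · rw [not_or] at hj
      rw [F1 i j hj.1 hj.2]
      simp [Ne.symm hj.1, Ne.symm hj.2]
  · rintro ⟨a, rfl⟩
    constructor
    · ext i j
      rw [Matrix.add_apply, mulQ, Qmul, Matrix.transpose_apply]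
      simp only [Matrix.smul_apply, Matrix.sub_apply, Matrix.single_apply, smul_eq_mul,
        Matrix.zero_apply]
      rcases i with i | i <;> rcases j with j | j <;> fin_cases i <;> fin_cases j <;> simp
    · rintro x ⟨v, rfl⟩
      rw [Submodule.mem_span_pair]
      refine ⟨-a * v (Sum.inr 1), a * v (Sum.inr 0), ?_⟩
      funext j
      rw [Matrix.mulVecLin_apply]
      simp only [Matrix.mulVec, dotProduct, Matrix.transpose_apply, Matrix.smul_apply,
        Matrix.sub_apply, Matrix.single_apply, smul_eq_mul, Pi.add_apply, Pi.smul_apply,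
        Pi.single_apply, Fintype.sum_sum_type, Fin.sum_univ_three]
      rcases j with j | j <;> fin_cases j <;> simp

end Groth.Agent.S16016
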