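import Groth.Statements.S16017
import Mathlib

set_option autoImplicit false
universe u
open W4c3ghconstell

namespace Groth.Agent.S16017

/-- Let ι index the irreducible representations, θ : ι → ℚ a weight negative at only finitely many
indices (the finite set D₋), h h' : ι → ℕ with h' ≤ h pointwise (the isotypic dimensions of an
object and of a sub-object) and Σ_i θ_i h_i summable. For a finite set D of indices put S_D = Σ_{i ∉
D} θ_i h_i, d = #(D ∖ D₋), and θ̃_D = Σ_{i ∈ D} θ_i h'_i + (S_D / d) · Σ_{i ∈ D ∖ D₋} h'_i / h_i,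
the modified weight attached to the parameters chosen for D (for D ⊇ D₋ the first sum is the
negative part plus the part over D ∖ D₋). Then θ̃_D tends to Σ_i θ_i h'_i as D grows through the
finite subsets of ι. (Here D runs over all finite sets of indices and a quotient by zero is zero;
the source lets D run over the finite subsets of the locus θ ≠ 0 containing D₋, and the same tail
estimate gives both.) -/
theorem result {ι : Type u} [DecidableEq ι] (θ : ι → ℚ) (h h' : ι → ℕ)
    (hle : ∀ i, h' i ≤ h i) (hfin : {i | θ i < 0}.Finite)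
    (hsum : Summable (fun i => (θ i : ℝ) * (h i : ℝ))) :
    Filter.Tendsto
      (fun D : Finset ι =>
        (∑ i ∈ D, (θ i : ℝ) * (h' i : ℝ)) +
          ((∑' i, if i ∈ D then (0 : ℝ) else (θ i : ℝ) * (h i : ℝ)) / ((D \ hfin.toFinset).card : ℝ)) *
            ∑ i ∈ D \ hfin.toFinset, ((h' i : ℝ) / (h i : ℝ)))
      Filter.atTop (nhds (∑' i, (θ i : ℝ) * (h' i : ℝ))) := by
  obtain ⟨f, hf⟩ : ∃ f : ι → ℝ, ∀ i, f i = (θ i : ℝ) * (h i : ℝ) := ⟨_, fun _ => rfl⟩
  have hsumf : Summable f := by
    have : f = fun i => (θ i : ℝ) * (h i : ℝ) := funext hf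
    rw [this]
    exact hsum
  have hsum' : Summable (fun i => (θ i : ℝ) * (h' i : ℝ)) := by
    refine Summable.of_norm_bounded (g := fun i => |f i|) hsumf.abs (fun i => ?_)
    rw [hf, Real.norm_eq_abs, abs_mul, abs_mul, Nat.abs_cast, Nat.abs_cast]
    apply mul_le_mul_of_nonneg_left _ (abs_nonneg _)
    exact_mod_cast hle i
  have h1 : Filter.Tendsto (fun D : Finset ι => ∑ i ∈ D, (θ i : ℝ) * (h' i : ℝ)) Filter.atTop
      (nhds (∑' i, (θ i : ℝ) * (h' i : ℝ))) := hsum'.hasSum
  have hS : ∀ D : Finset ι,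
      (∑' i, if i ∈ D then (0 : ℝ) else f i) = (∑' i, f i) - ∑ i ∈ D, f i := by
    intro D
    have hD : HasSum (fun i => if i ∈ D then f i else 0) (∑ i ∈ D, f i) := by
      have h3 : HasSum (fun i => if i ∈ D then f i else 0)
          (∑ b ∈ D, (if b ∈ D then f b else 0)) :=
        hasSum_sum_of_ne_finset_zero (fun b hb => by simp [hb])
      have h4 : ∑ b ∈ D, (if b ∈ D then f b else 0) = ∑ i ∈ D, f i :=
        Finset.sum_congr rfl (fun i hi => by simp [hi])
      rw [h4] at h3
      exact h3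
    have h5 := hsumf.hasSum.sub hD
    rw [← h5.tsum_eq]
    congr 1
    funext i
    split_ifs <;> simp
  have h2 : Filter.Tendsto (fun D : Finset ι => ∑' i, if i ∈ D then (0 : ℝ) else f i)
      Filter.atTop (nhds 0) := by
    simp_rw [hS]
    have h6 : Filter.Tendsto (fun D : Finset ι => ∑ i ∈ D, f i) Filter.atTop
        (nhds (∑' i, f i)) := hsumf.hasSum
    have h7 := (tendsto_const_nhds (x := ∑' i, f i) (f := Filter.atTop (α := Finset ι))).sub h6
    rw [sub_self] at h7
    exact h7
  have h3 : Filter.Tendsto (fun D : Finset ι =>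
      ((∑' i, if i ∈ D then (0 : ℝ) else f i) / ((D \ hfin.toFinset).card : ℝ)) *
        ∑ i ∈ D \ hfin.toFinset, ((h' i : ℝ) / (h i : ℝ))) Filter.atTop (nhds 0) := by
    have h8 : Filter.Tendsto (fun D : Finset ι => |∑' i, if i ∈ D then (0 : ℝ) else f i|)
        Filter.atTop (nhds 0) := by
      have := h2.abs
      rw [abs_zero] at this
      exact this
    refine squeeze_zero_norm (fun D => ?_) h8
    obtain ⟨S, hSdef⟩ : ∃ S : ℝ, S = ∑' i, if i ∈ D then (0 : ℝ) else f i := ⟨_, rfl⟩
    obtain ⟨T, hTdef⟩ : ∃ T : ℝ, T = ∑ i ∈ D \ hfin.toFinset, ((h' i : ℝ) / (h i : ℝ)) :=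
      ⟨_, rfl⟩
    obtain ⟨d, hddef⟩ : ∃ d : ℝ, d = ((D \ hfin.toFinset).card : ℝ) := ⟨_, rfl⟩
    rw [← hSdef, ← hTdef, ← hddef]
    have hT0 : 0 ≤ T := by
      rw [hTdef]
      exact Finset.sum_nonneg (fun i _ => div_nonneg (Nat.cast_nonneg _) (Nat.cast_nonneg _))
    have hTd : T ≤ d := by
      rw [hTdef, hddef]
      calc ∑ i ∈ D \ hfin.toFinset, ((h' i : ℝ) / (h i : ℝ))
          ≤ ∑ i ∈ D \ hfin.toFinset, (1 : ℝ) :=
            Finset.sum_le_sum (fun i _ => div_le_one_of_le₀ (by exact_mod_cast hle i)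
              (Nat.cast_nonneg _))
        _ = ((D \ hfin.toFinset).card : ℝ) := by simp
    have hd0 : 0 ≤ d := by
      rw [hddef]
      exact Nat.cast_nonneg _
    have h9 : S / d * T = S * (T / d) := by rw [div_mul_eq_mul_div, mul_div_assoc]
    rw [h9, Real.norm_eq_abs, abs_mul, abs_of_nonneg (div_nonneg hT0 hd0)]
    calc |S| * (T / d) ≤ |S| * 1 :=
          mul_le_mul_of_nonneg_left (div_le_one_of_le₀ hTd hd0) (abs_nonneg _)
      _ = |S| := mul_one _
  have h10 := h1.add h3
  rw [add_zero] at h10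
  simp_rw [← hf]
  exact h10

end Groth.Agent.S16017
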