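import Groth.Statements.S1602
-- import your own Groth.Agent.* helpers here
import Groth.Agent.Lib.Helper23.StructPush
import Groth.Agent.Lib.Helper23.FinBirat

set_option autoImplicit false
universe u
open CategoryTheory CategoryTheory.Limits AlgebraicGeometry
open Curves

namespace Groth.Agent.S1602

/-- Let X be proper of dimension at most one over k and f : X' → X a proper morphism which is an
isomorphism over a dense open of X whose preimage is dense in X'. Then the k-dimension of H^1 of the
structure sheaf of X' is at most that of X. -/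
theorem result (k : Type u) [Field k] (X X' : Scheme.{u}) [X.Over (Spec (CommRingCat.of k))] [X'.Over (Spec (CommRingCat.of k))]
    [IsProper (X ↘ (Spec (CommRingCat.of k)))] (hdim : topologicalKrullDim X ≤ 1) (f : X' ⟶ X) [IsProper f] (hf : f ≫ (X ↘ (Spec (CommRingCat.of k))) = X' ↘ (Spec (CommRingCat.of k)))
    (U : X.Opens) (hU : Dense (U : Set X)) (hU' : Dense ((f ⁻¹ᵁ U : X'.Opens) : Set X')) (hfU : IsIso (f ∣_ U)) :
    Curv2.genus k X' ≤ Curv2.genus k X := by
  haveI : IsIso (f ∣_ U) := hfU
  haveI : IsProper (X' ↘ Spec (CommRingCat.of k)) := by rw [← hf]; infer_instance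
  haveI : IsNoetherian X' := Groth.Agent.Lib.Helper23.Curve.isNoetherian_of_isProper k X'
  haveI : IsFinite f := Groth.Agent.Lib.Helper23.FinBirat.isFinite_of_isIso_restrict k f hf hdim U hU'
  exact Groth.Agent.Lib.Helper23.StructPush.finrank_H1_le f k hf hdim U hU inferInstance

end Groth.Agent.S1602
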