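import Groth.Statements.S1603
-- import your own Groth.Agent.* helpers here
import Groth.Agent.Lib.Helper23.IsoGenus

set_option autoImplicit false
universe u
open CategoryTheory CategoryTheory.Limits AlgebraicGeometry
open Curves

namespace Groth.Agent.S1603

/-- In the situation of the first part assume moreover that X is reduced, that H^0(X, O_X) → H^0(X',
O_{X'}) is surjective and that the two H^1 have the same dimension. Then f is an isomorphism. -/
theorem result (k : Type u) [Field k] (X X' : Scheme.{u}) [X.Over (Spec (CommRingCat.of k))] [X'.Over (Spec (CommRingCat.of k))]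
    [IsProper (X ↘ (Spec (CommRingCat.of k)))] [IsReduced X] (hdim : topologicalKrullDim X ≤ 1) (f : X' ⟶ X) [IsProper f] (hf : f ≫ (X ↘ (Spec (CommRingCat.of k))) = X' ↘ (Spec (CommRingCat.of k)))
    (U : X.Opens) (hU : Dense (U : Set X)) (hU' : Dense ((f ⁻¹ᵁ U : X'.Opens) : Set X')) (hfU : IsIso (f ∣_ U))
    (h0 : Function.Surjective (f.app ⊤).hom) (h1 : Curv2.genus k X' = Curv2.genus k X) : IsIso f := by
  haveI : IsIso (f ∣_ U) := hfU
  haveI : IsProper (X' ↘ Spec (CommRingCat.of k)) := by rw [← hf]; infer_instance
  haveI : IsNoetherian X' := Groth.Agent.Lib.Helper23.Curve.isNoetherian_of_isProper k X'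
  haveI : IsFinite f := Groth.Agent.Lib.Helper23.FinBirat.isFinite_of_isIso_restrict k f hf hdim U hU'
  exact Groth.Agent.Lib.Helper23.IsoGenus.isIso_of_genus_eq f k hf hdim U hU h0 h1

end Groth.Agent.S1603
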