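import Groth.Statements.S16030
import Mathlib.RingTheory.Spectrum.Prime.Topology
import Mathlib.RingTheory.Ideal.Operations

set_option autoImplicit false
universe u
open CAlg

namespace Groth.Agent.S16030

/-- For a finite set F of points of the spectrum of a commutative ring A and an open subset U containing
F, some basic open D(a) contains F and is contained in U. -/
theorem result
    (A : Type u) [CommRing A] (F : Set (PrimeSpectrum A)) (hF : F.Finite)
    (U : TopologicalSpace.Opens (PrimeSpectrum A)) (hFU : F ⊆ (U : Set (PrimeSpectrum A))) :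
    ∃ a : A, F ⊆ (PrimeSpectrum.basicOpen a : Set (PrimeSpectrum A)) ∧ PrimeSpectrum.basicOpen a ≤ U := by
  obtain ⟨I, hI⟩ := (PrimeSpectrum.isClosed_iff_zeroLocus_ideal _).mp U.isOpen.isClosed_compl
  have hmemU : ∀ q : PrimeSpectrum A, q ∈ U ↔ ¬ (I ≤ q.asIdeal) := by
    intro q
    have h1 : q ∈ ((U : Set (PrimeSpectrum A))ᶜ) ↔ q ∈ PrimeSpectrum.zeroLocus (I : Set A) := by
      rw [hI]
    rw [Set.mem_compl_iff, PrimeSpectrum.mem_zeroLocus] at h1
    constructor
    · intro hq hle
      exact (h1.mpr hle) hq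
    · intro hq
      by_contra hqU
      exact hq (h1.mp hqU)
  rcases F.eq_empty_or_nonempty with hem | ⟨p₀, hp₀⟩
  · refine ⟨0, ?_, ?_⟩
    · rw [hem]
      exact Set.empty_subset _
    · intro q hq
      rw [PrimeSpectrum.mem_basicOpen] at hq
      exact absurd (zero_mem _) hq
  · have hnot : ¬ ((I : Set A) ⊆
        ⋃ p ∈ (↑hF.toFinset : Set (PrimeSpectrum A)), (p.asIdeal : Set A)) := by
      rw [Ideal.subset_union_prime (f := fun p : PrimeSpectrum A => p.asIdeal) p₀ p₀
        (fun p _ _ _ => p.isPrime)]
      rintro ⟨p, hp, hle⟩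
      rw [Set.Finite.mem_toFinset] at hp
      exact (hmemU p).mp (hFU hp) hle
    rw [Set.not_subset] at hnot
    obtain ⟨a, haI, hna⟩ := hnot
    refine ⟨a, ?_, ?_⟩
    · intro p hp
      rw [SetLike.mem_coe, PrimeSpectrum.mem_basicOpen]
      intro hap
      apply hna
      simp only [Set.mem_iUnion]
      exact ⟨p, by simpa using hp, hap⟩
    · intro q hq
      rw [PrimeSpectrum.mem_basicOpen] at hq
      rw [hmemU]
      intro hle
      exact hq (hle haI)

end Groth.Agent.S16030
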