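import Groth.Statements.S16048
import Mathlib
import Groth.Agent.Lib.Helper7.PowSerCRing
import Groth.Agent.Lib.Helper19.ArtFunHull
import Groth.Agent.Lib.Helper19.ArtFunHR
import Groth.Agent.S12720
import Groth.Agent.S12722
import Groth.Agent.S12733
import Groth.Agent.S12743

set_option autoImplicit false
universe u v
open CategoryTheory
open ArtFun

namespace Groth.Agent.S16048

open ArtFun ArtFun.Art Groth.Agent.Lib.Helper19.ArtFunBasic Groth.Agent.Lib.Helper19.ArtFunHR in
/-- a family is determined by its formal element -/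
theorem family_ext {Λ : Type u} {k : Type u} [CommRing Λ] [Field k] [Algebra Λ k]
    {F : ArtFun.Art Λ k ⥤ Type v} (R : ArtFun.CRing Λ k)
    (ξ ξ' : ArtFun.Family R.carrier R.res F)
    (h : ξ.toFormalElt = ξ'.toFormalElt) (A : ArtFun.Art Λ k)
    (φ : ArtFun.HomSet R.carrier R.res A) : ξ.app A φ = ξ'.app A φ := by
  obtain ⟨N, hN⟩ := exists_maximalIdeal_pow_eq_bot A
  have hN' : IsLocalRing.maximalIdeal A ^ (N + 1) = ⊥ := by rw [pow_succ, hN, Ideal.bot_mul]
  obtain ⟨φ', rfl⟩ := exists_factor_trunc R φ N hN'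
  rw [ξ.natural, ξ'.natural]
  have := congrArg (fun w : FormalElt F R => w.elt N) h
  exact congrArg (F.map φ') this

/-- Let Λ be a complete local Noetherian ring with residue field k and F a functor on Artinian local
Λ-algebras with residue field k which admits a hull. A family ξ of F over a complete local
Noetherian Λ-algebra R with residue field k such that R is isomorphic over Λ to a power series ring
Λ[[t_1, …, t_n]] and the induced map on tangent spaces h_R(k[ε]) → F(k[ε]) is bijective is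
miniversal. (The source states this for the deformation functor of a rational double point over the
Witt vectors of an algebraically closed field, with the Kodaira–Spencer map as the tangent map and
the existence of a hull taken from Schlessinger's criteria; the argument uses only the existence of
a hull, so the hull is carried as a hypothesis and Λ is any complete local Noetherian ring with
residue field k.) -/
theorem result {Λ : Type u} {k : Type u}
    [CommRing Λ] [Field k] [Algebra Λ k] [IsNoetherianRing Λ] [Module.Finite Λ k]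
    [IsLocalRing Λ] [IsAdicComplete (IsLocalRing.maximalIdeal Λ) Λ]
    (hk : Function.Surjective (algebraMap Λ k))
    {F : ArtFun.Art Λ k ⥤ Type v} (hF : ArtFun.HasHull F)
    (R : ArtFun.CRing Λ k) (n : ℕ) (e : R.carrier ≃ₐ[Λ] MvPowerSeries (Fin n) Λ)
    (ξ : ArtFun.Family R.carrier R.res F)
    (hξ : Function.Bijective (ArtFun.TangentSpace.ofFamily ξ)) :
    ArtFun.IsMiniversal ξ := by
  classical
  obtain ⟨⟨R₀, ξ₀, hv₀, hb₀⟩⟩ := hF
  -- H0
  have h0 : H0 F := by
    have hpt : ∀ z : F.obj (Art.base Λ k),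
        z = ξ₀.app (Art.base Λ k) ⟨R₀.res, AlgHom.id_comp _⟩ := by
      intro z
      obtain ⟨φ, hφ⟩ := hb₀.2 (F.map Art.baseToDual z)
      have h1 : F.map (Art.toBase (Art.dual Λ k)) (F.map Art.baseToDual z) = z := by
        rw [← FunctorToTypes.map_comp_apply]
        have : (Art.baseToDual : Art.base Λ k ⟶ Art.dual Λ k) ≫ Art.toBase (Art.dual Λ k) = 𝟙 _ := by
          rw [Art.eq_toBase (Art.baseToDual ≫ Art.toBase (Art.dual Λ k))]
          exact (Art.eq_toBase (𝟙 _)).symm
        rw [this, FunctorToTypes.map_id_apply]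
      rw [← h1, ← hφ, ← ξ₀.natural]
      congr 1
      apply Subtype.ext
      have := (HomSet.map (Art.toBase (Art.dual Λ k)) φ).2
      exact (AlgHom.id_comp _).symm.trans this
    exact ⟨⟨ξ₀.app _ ⟨R₀.res, AlgHom.id_comp _⟩⟩, ⟨fun a b => by rw [hpt a, hpt b]⟩⟩
  obtain ⟨g, hg, hgη⟩ := Groth.Agent.S12720.result h0 R₀ ξ₀ hv₀ R ξ.toFormalElt
  have hfam : ∀ A (a : HomSet R.carrier R.res A), ξ.app A a = (ξ₀.along g hg).app A a :=
    fun A a => family_ext R ξ (ξ₀.along g hg) hgη.symm A a
  let Φ : hR R.carrier R.res ⟶ hR R₀.carrier R₀.res :=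
    ((Family.self R₀.carrier R₀.res).along g hg).toNatTrans
  have hΦ : ∀ A (a : HomSet R.carrier R.res A), ξ.app A a = ξ₀.app A (Φ.app A a) :=
    fun A a => hfam A a
  have hΦd : Function.Bijective (Φ.app (Art.dual Λ k)) := by
    have hcomp : (fun a : HomSet R.carrier R.res (Art.dual Λ k) =>
        ξ₀.app (Art.dual Λ k) (Φ.app (Art.dual Λ k) a)) = ξ.app (Art.dual Λ k) :=
      funext fun a => (hΦ _ a).symm
    have hbij : Function.Bijective (fun a : HomSet R.carrier R.res (Art.dual Λ k) =>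
        ξ₀.app (Art.dual Λ k) (Φ.app (Art.dual Λ k) a)) := by rw [hcomp]; exact hξ
    exact (Function.Bijective.of_comp_iff' hb₀ (Φ.app (Art.dual Λ k))).mp hbij
  have hRS_R : ∀ (T : CRing Λ k), (∀ ⦃B A A' A'' : Art Λ k⦄ (p' : B ⟶ A') (p'' : B ⟶ A'')
      (f' : A' ⟶ A) (f'' : A'' ⟶ A) (h : Art.IsFibreProd p' p'' f' f''),
      Function.Surjective f'' → Function.Bijective (cmp (hR T.carrier T.res) h)) := by
    intro T B A A' A'' p' p'' f' f'' h _
    exact Groth.Agent.Lib.Helper19.ArtFunHull.isLeftExact_of_isUniversal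
      (Family.self T.carrier T.res) (fun A => Function.bijective_id) p' p'' f' f'' h
  have h0R : ∀ (T : CRing Λ k), H0 (hR T.carrier T.res) := by
    intro T
    refine ⟨⟨⟨T.res, AlgHom.id_comp _⟩⟩, ⟨fun (a b : HomSet T.carrier T.res (Art.base Λ k)) =>
      Subtype.ext ?_⟩⟩
    exact ((AlgHom.id_comp a.1).symm.trans a.2).trans (((AlgHom.id_comp b.1).symm.trans b.2).symm)
  let H : Art Λ k ⥤ Type u := (Functor.const (Art Λ k)).obj PUnit
  let Ψ : hR R₀.carrier R₀.res ⟶ H :=
    { app := fun A => ↾fun _ => PUnit.unit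
      naturality := fun _ _ _ => ConcreteCategory.hom_ext _ _ fun _ => rfl }
  have hsm : IsSmoothFunctor (hR R.carrier R.res) :=
    (Groth.Agent.S12722.result hk R).mpr ⟨n, ⟨e⟩⟩
  have hs : IsSmooth (Φ ≫ Ψ) := by
    intro B A μ hμ z
    obtain ⟨b, hb⟩ := hsm μ hμ z.1.1
    exact ⟨b, Subtype.ext (Prod.ext hb ((show ∀ a b : PUnit.{u + 1}, a = b from fun _ _ => rfl) _ _))⟩
  have hΦs : IsSmooth Φ :=
    Groth.Agent.S12743.result (h0R R) (hRS_R R) (h0R R₀) (hRS_R R₀) Φ Ψ hΦd.2 hs
  have hΦb : ∀ A, Function.Bijective (Φ.app A) := fun A =>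
    Groth.Agent.S12733.result (h0R R) (hRS_R R) (h0R R₀) (hRS_R R₀) Φ hΦs hΦd A
  refine ⟨?_, hξ⟩
  intro B A μ hμ a y hy
  have hy' : F.map μ y = ξ₀.app A (Φ.app A a) := by rw [hy, hΦ]
  obtain ⟨b₀, hb₀μ, hb₀y⟩ := hv₀ μ hμ (Φ.app A a) y hy'
  obtain ⟨b, hb⟩ := (hΦb B).2 b₀
  refine ⟨b, ?_, ?_⟩
  · apply (hΦb A).1
    have hnat : Φ.app A (HomSet.map μ b) = HomSet.map μ (Φ.app B b) :=
      NatTrans.naturality_apply Φ μ b
    rw [hnat, hb, hb₀μ]
  · rw [hΦ, hb, hb₀y]

end Groth.Agent.S16048
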