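import Groth.Statements.S16051
import Mathlib

set_option autoImplicit false
universe u
open LieAlg

namespace Groth.Agent.S16051


section H9
variable {R : Type*} [CommRing R] {n : ℕ}

/-- index -/
def ix (n i : ℕ) : Fin (n+1) := ⟨i % (n+1), Nat.mod_lt _ (Nat.succ_pos n)⟩

lemma ix_val (I : Fin (n+1)) : ix n I.val = I := Fin.ext (Nat.mod_eq_of_lt I.2)
lemma val_ix {i : ℕ} (h : i < n+1) : (ix n i).val = i := Nat.mod_eq_of_lt h

/-- entries by nat indices -/
def en (B : Matrix (Fin (n+1)) (Fin (n+1)) R) (i j : ℕ) : R := B (ix n i) (ix n j)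

/-- A-block, zero-extended -/
def ab (B : Matrix (Fin (n+1)) (Fin (n+1)) R) (i j : ℕ) : R :=
  if i < n ∧ j < n then en B i j else 0

/-- diagonal sums -/
def dS (a : ℕ → ℕ → R) (n i j : ℕ) : R := ∑ m ∈ Finset.range n, a (i+m) (j+m)

lemma dS_tele (a : ℕ → ℕ → R) (n i j : ℕ) :
    dS a n i j + a (i+n) (j+n) = a i j + dS a n (i+1) (j+1) := by
  have h1 := Finset.sum_range_succ (fun m => a (i+m) (j+m)) n
  have h2 := Finset.sum_range_succ' (fun m => a (i+m) (j+m)) n
  simp only [add_zero] at h2
  unfold dS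
  have h3 : ∑ m ∈ Finset.range n, a (i+1+m) (j+1+m)
      = ∑ m ∈ Finset.range n, a (i+(m+1)) (j+(m+1)) :=
    Finset.sum_congr rfl (fun m _ => by
      rw [show i+1+m = i+(m+1) by omega, show j+1+m = j+(m+1) by omega])
  rw [h3, ← h1, h2, add_comm]

lemma en_add (B B' : Matrix (Fin (n+1)) (Fin (n+1)) R) (i j : ℕ) :
    en (B+B') i j = en B i j + en B' i j := rfl
lemma en_smul (c : R) (B : Matrix (Fin (n+1)) (Fin (n+1)) R) (i j : ℕ) :
    en (c • B) i j = c * en B i j := rfl
lemma ab_add (B B' : Matrix (Fin (n+1)) (Fin (n+1)) R) (i j : ℕ) :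
    ab (B+B') i j = ab B i j + ab B' i j := by
  unfold ab; split_ifs <;> simp [en_add]
lemma ab_smul (c : R) (B : Matrix (Fin (n+1)) (Fin (n+1)) R) (i j : ℕ) :
    ab (c • B) i j = c * ab B i j := by
  unfold ab; split_ifs <;> simp [en_smul]
lemma dS_add (B B' : Matrix (Fin (n+1)) (Fin (n+1)) R) (i j : ℕ) :
    dS (ab (B+B')) n i j = dS (ab B) n i j + dS (ab B') n i j := by
  unfold dS; rw [← Finset.sum_add_distrib]
  exact Finset.sum_congr rfl (fun m _ => ab_add _ _ _ _)
lemma dS_smul (c : R) (B : Matrix (Fin (n+1)) (Fin (n+1)) R) (i j : ℕ) :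
    dS (ab (c • B)) n i j = c * dS (ab B) n i j := by
  unfold dS; rw [Finset.mul_sum]
  exact Finset.sum_congr rfl (fun m _ => ab_smul _ _ _ _)

lemma dS_zero_of_ge (B : Matrix (Fin (n+1)) (Fin (n+1)) R) (i j : ℕ) (h : n ≤ i) :
    dS (ab B) n i j = 0 := by
  unfold dS
  apply Finset.sum_eq_zero
  intro m _
  unfold ab
  exact if_neg (by omega)

/-- the functional -/
def PhiG (n : ℕ) (R : Type*) [CommRing R] :
    Matrix (Fin (n+1)) (Fin (n+1)) R →ₗ[R] (Fin n → R) × R × R where
  toFun B := (fun k => dS (ab B) n k.val 0, en B (n-1) n, en B n 0)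
  map_add' B B' := by
    refine Prod.ext ?_ (Prod.ext ?_ ?_)
    · funext k; exact dS_add _ _ _ _
    · exact en_add _ _ _ _
    · exact en_add _ _ _ _
  map_smul' c B := by
    refine Prod.ext ?_ (Prod.ext ?_ ?_)
    · funext k; exact dS_smul _ _ _ _
    · exact en_smul _ _ _ _
    · exact en_smul _ _ _ _

lemma x_mul (x : Matrix (Fin (n+1)) (Fin (n+1)) R)
    (hx : ∀ i j : Fin (n+1), x i j = if j.val = i.val + 1 ∧ j.val < n then 1 else 0)
    (y : Matrix (Fin (n+1)) (Fin (n+1)) R) (I J : Fin (n+1)) :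
    (x * y) I J = if I.val + 1 < n then y (ix n (I.val+1)) J else 0 := by
  rw [Matrix.mul_apply]
  split_ifs with h
  · rw [Finset.sum_eq_single (ix n (I.val+1))]
    · rw [hx, if_pos, one_mul]
      rw [val_ix (by omega)]
      exact ⟨rfl, h⟩
    · intro k _ hk
      rw [hx, if_neg, zero_mul]
      rintro ⟨h1, h2⟩
      apply hk
      apply Fin.ext
      rw [val_ix (by omega)]
      exact h1
    · intro h'; exact absurd (Finset.mem_univ _) h'
  · apply Finset.sum_eq_zero
    intro k _
    rw [hx, if_neg, zero_mul]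
    rintro ⟨h1, h2⟩
    omega

lemma mul_x (x : Matrix (Fin (n+1)) (Fin (n+1)) R)
    (hx : ∀ i j : Fin (n+1), x i j = if j.val = i.val + 1 ∧ j.val < n then 1 else 0)
    (y : Matrix (Fin (n+1)) (Fin (n+1)) R) (I J : Fin (n+1)) :
    (y * x) I J = if 1 ≤ J.val ∧ J.val < n then y I (ix n (J.val - 1)) else 0 := by
  rw [Matrix.mul_apply]
  split_ifs with h
  · rw [Finset.sum_eq_single (ix n (J.val - 1))]
    · rw [hx, if_pos, mul_one]
      rw [val_ix (by omega)]
      constructor <;> omega
    · intro k _ hk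
      rw [hx, if_neg, mul_zero]
      rintro ⟨h1, h2⟩
      apply hk
      apply Fin.ext
      rw [val_ix (by omega)]
      omega
    · intro h'; exact absurd (Finset.mem_univ _) h'
  · apply Finset.sum_eq_zero
    intro k _
    rw [hx, if_neg, mul_zero]
    rintro ⟨h1, h2⟩
    omega

lemma PhiG_comm (x : Matrix (Fin (n+1)) (Fin (n+1)) R) (hn : 1 ≤ n)
    (hx : ∀ i j : Fin (n+1), x i j = if j.val = i.val + 1 ∧ j.val < n then 1 else 0)
    (y : Matrix (Fin (n+1)) (Fin (n+1)) R) : PhiG n R (x * y - y * x) = 0 := by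
  have key : ∀ i j : ℕ, i < n+1 → j < n+1 → en (x*y - y*x) i j =
      (if i+1<n then en y (i+1) j else 0) - (if 1 ≤ j ∧ j < n then en y i (j-1) else 0) := by
    intro i j hi hj
    unfold en
    rw [Matrix.sub_apply, x_mul x hx, mul_x x hx, val_ix hi, val_ix hj]
  refine Prod.ext ?_ (Prod.ext ?_ ?_)
  · funext k
    show dS (ab (x*y - y*x)) n k.val 0 = 0
    obtain ⟨d, hdn⟩ := k
    show dS (ab (x*y - y*x)) n d 0 = 0
    obtain ⟨g, hg0⟩ : ∃ g : ℕ → R, g = fun m =>
      if 1 ≤ m ∧ d + m < n then en y (d+m) (m-1) else 0 := ⟨_, rfl⟩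
    have hg : ∀ m, ab (x*y - y*x) (d+m) (0+m) = g (m+1) - g m := by
      intro m
      rw [Nat.zero_add, hg0]
      show _ = (if 1 ≤ m+1 ∧ d + (m+1) < n then en y (d+(m+1)) (m+1-1) else 0)
        - (if 1 ≤ m ∧ d + m < n then en y (d+m) (m-1) else 0)
      rw [Nat.add_sub_cancel, show d + (m+1) = d + m + 1 by omega]
      unfold ab
      by_cases h1 : d + m < n
      · rw [if_pos ⟨h1, by omega⟩, key _ _ (by omega) (by omega)]
        congr 1
        · exact if_congr (by omega) rfl rfl
        · exact if_congr (by omega) rfl rfl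
      · have c1 : ¬ (d + m < n ∧ m < n) := by omega
        have c2 : ¬ (1 ≤ m+1 ∧ d + m + 1 < n) := by omega
        have c3 : ¬ (1 ≤ m ∧ d + m < n) := by omega
        rw [if_neg c1, if_neg c2, if_neg c3, sub_zero]
    unfold dS
    rw [Finset.sum_congr rfl (fun m _ => hg m), Finset.sum_range_sub g n, hg0]
    have c2 : ¬ (1 ≤ n ∧ d + n < n) := by omega
    have c3 : ¬ (1 ≤ 0 ∧ d + 0 < n) := by omega
    show (if 1 ≤ n ∧ d + n < n then en y (d+n) (n-1) else 0)
        - (if 1 ≤ 0 ∧ d + 0 < n then en y (d+0) (0-1) else 0) = 0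
    rw [if_neg c2, if_neg c3, sub_zero]
  · show en (x*y - y*x) (n-1) n = 0
    have c1 : ¬ (n - 1 + 1 < n) := by omega
    have c2 : ¬ (1 ≤ n ∧ n < n) := by omega
    rw [key _ _ (by omega) (by omega), if_neg c1, if_neg c2, sub_zero]
  · show en (x*y - y*x) n 0 = 0
    have c1 : ¬ (n + 1 < n) := by omega
    have c2 : ¬ (1 ≤ 0 ∧ 0 < n) := by omega
    rw [key _ _ (by omega) (by omega), if_neg c1, if_neg c2, sub_zero]

lemma exists_preimage (x : Matrix (Fin (n+1)) (Fin (n+1)) R) (hn : 1 ≤ n)
    (hx : ∀ i j : Fin (n+1), x i j = if j.val = i.val + 1 ∧ j.val < n then 1 else 0)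
    (B : Matrix (Fin (n+1)) (Fin (n+1)) R) (htr : B.trace = 0) (hB : PhiG n R B = 0) :
    ∃ y : Matrix (Fin (n+1)) (Fin (n+1)) R, y.trace = 0 ∧ x * y - y * x = B := by
  have h1 : ∀ k, k < n → dS (ab B) n k 0 = 0 := by
    intro k hk
    exact congrFun (congrArg Prod.fst hB) ⟨k, hk⟩
  have h2 : en B (n-1) n = 0 := congrArg (fun p => p.2.1) hB
  have h3 : en B n 0 = 0 := congrArg (fun p => p.2.2) hB
  have h4 : en B n n = 0 := by
    have htr' := htr
    rw [Matrix.trace, Fin.sum_univ_castSucc] at htr'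
    simp only [Matrix.diag_apply] at htr'
    have e0 := h1 0 (by omega)
    unfold dS at e0
    have e1 : ∑ m ∈ Finset.range n, ab B (0+m) (0+m)
        = ∑ i : Fin n, B (Fin.castSucc i) (Fin.castSucc i) := by
      rw [Finset.sum_range]
      apply Finset.sum_congr rfl
      intro i _
      rw [Nat.zero_add]
      unfold ab en
      rw [if_pos ⟨i.2, i.2⟩]
      have : ix n i.val = Fin.castSucc i := Fin.ext (Nat.mod_eq_of_lt (by omega))
      rw [this]
    have e2 : en B n n = B (Fin.last n) (Fin.last n) := by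
      unfold en
      have : ix n n = Fin.last n := Fin.ext (Nat.mod_eq_of_lt (by omega))
      rw [this]
    rw [e2]
    rw [e1] at e0
    rw [e0, zero_add] at htr'
    exact htr'
  obtain ⟨Yf, hYf⟩ : ∃ Yf : ℕ → ℕ → R, Yf = fun r s =>
    if r < n ∧ s < n then - dS (ab B) n r (s+1)
    else if r < n ∧ s = n then (if 1 ≤ r then en B (r-1) n else 0)
    else if r = n ∧ s < n then (if s + 1 < n then - en B n (s+1) else 0)
    else ∑ i ∈ Finset.range n, dS (ab B) n i (i+1) := ⟨_, rfl⟩
  have hnn : ¬ (n < n) := lt_irrefl n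
  have Y1 : ∀ r s, r < n → s < n → Yf r s = - dS (ab B) n r (s+1) := by
    intro r s hr hs
    rw [hYf]; exact if_pos ⟨hr, hs⟩
  have Y2 : ∀ r, r < n → Yf r n = (if 1 ≤ r then en B (r-1) n else 0) := by
    intro r hr
    rw [hYf]
    have c1 : ¬ (r < n ∧ n < n) := by omega
    show (if r < n ∧ n < n then _ else if r < n ∧ n = n then _ else _) = _
    rw [if_neg c1, if_pos ⟨hr, rfl⟩]
  have Y3 : ∀ s, s < n → Yf n s = (if s + 1 < n then - en B n (s+1) else 0) := by
    intro s hs
    rw [hYf]
    have c1 : ¬ (n < n ∧ s < n) := by omega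
    have c2 : ¬ (n < n ∧ s = n) := by omega
    show (if n < n ∧ s < n then _ else if n < n ∧ s = n then _ else
      if n = n ∧ s < n then _ else _) = _
    rw [if_neg c1, if_neg c2, if_pos ⟨rfl, hs⟩]
  have Y4 : Yf n n = ∑ i ∈ Finset.range n, dS (ab B) n i (i+1) := by
    rw [hYf]
    have c1 : ¬ (n < n ∧ n < n) := by omega
    have c2 : ¬ (n < n ∧ n = n) := by omega
    have c3 : ¬ (n = n ∧ n < n) := by omega
    show (if n < n ∧ n < n then _ else if n < n ∧ n = n then _ else
      if n = n ∧ n < n then _ else _) = _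
    rw [if_neg c1, if_neg c2, if_neg c3]
  refine ⟨Matrix.of fun I J => Yf I.val J.val, ?_, ?_⟩
  · rw [Matrix.trace, Fin.sum_univ_castSucc]
    simp only [Matrix.diag_apply, Matrix.of_apply, Fin.val_castSucc, Fin.val_last]
    rw [Finset.sum_congr rfl (fun i _ => Y1 i.val i.val i.2 i.2), Y4,
      Finset.sum_range (fun i => dS (ab B) n i (i+1)), Finset.sum_neg_distrib, neg_add_cancel]
  · ext I J
    rw [Matrix.sub_apply, x_mul x hx, mul_x x hx]
    simp only [Matrix.of_apply]
    have hB' : B I J = en B I.val J.val := by unfold en; rw [ix_val, ix_val]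
    rw [hB']
    obtain ⟨i, hi⟩ := I
    obtain ⟨j, hj⟩ := J
    show (if i + 1 < n then Yf (ix n (i+1)).val j else 0)
      - (if 1 ≤ j ∧ j < n then Yf i (ix n (j-1)).val else 0) = en B i j
    rcases Nat.lt_or_ge i n with hin | hin
    · rcases Nat.lt_or_ge j n with hjn | hjn
      · have t1 : (if i + 1 < n then Yf (ix n (i+1)).val j else 0)
            = - dS (ab B) n (i+1) (j+1) := by
          split_ifs with h
          · rw [val_ix (by omega), Y1 _ _ h hjn]
          · rw [dS_zero_of_ge B _ _ (by omega), neg_zero]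
        have t2 : (if 1 ≤ j ∧ j < n then Yf i (ix n (j-1)).val else 0)
            = - dS (ab B) n i j := by
          split_ifs with h
          · rw [val_ix (by omega), Y1 _ _ hin (by omega), Nat.sub_add_cancel h.1]
          · have hj0 : j = 0 := by omega
            subst hj0
            rw [h1 i hin, neg_zero]
        rw [t1, t2]
        have tele := dS_tele (ab B) n i j
        have z : ab B (i+n) (j+n) = 0 := by unfold ab; exact if_neg (by omega)
        have e : ab B i j = en B i j := by unfold ab; exact if_pos ⟨hin, hjn⟩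
        rw [z, add_zero, e] at tele
        linear_combination tele
      · obtain rfl : j = n := by omega
        have c2 : ¬ (1 ≤ j ∧ j < j) := by omega
        rw [if_neg c2, sub_zero]
        split_ifs with h
        · rw [val_ix (by omega), Y2 _ h, if_pos (Nat.le_add_left 1 i), Nat.add_sub_cancel]
        · have hi' : i = j - 1 := by omega
          subst hi'
          exact h2.symm
    · obtain rfl : i = n := by omega
      have c1 : ¬ (i + 1 < i) := by omega
      rw [if_neg c1, zero_sub]
      rcases Nat.lt_or_ge j i with hjn | hjn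
      · split_ifs with h
        · have c3 : j - 1 + 1 < i := by omega
          rw [val_ix (by omega), Y3 _ (by omega), if_pos c3, neg_neg, Nat.sub_add_cancel h.1]
        · have hj0 : j = 0 := by omega
          subst hj0
          rw [neg_zero]; exact h3.symm
      · obtain rfl : j = i := by omega
        have c2 : ¬ (1 ≤ j ∧ j < j) := by omega
        rw [if_neg c2, neg_zero]
        exact h4.symm

lemma PhiG_surj (hn : 1 ≤ n) (t : Fin n → R) (u v : R) :
    ∃ B : Matrix (Fin (n+1)) (Fin (n+1)) R, B.trace = 0 ∧ PhiG n R B = (t, u, v) := by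
  obtain ⟨t', ht'⟩ : ∃ t' : ℕ → R, t' = fun i => if h : i < n then t ⟨i, h⟩ else 0 := ⟨_, rfl⟩
  obtain ⟨Bf, hBf⟩ : ∃ Bf : ℕ → ℕ → R, Bf = fun i j =>
    if j = 0 ∧ i < n then t' i
    else if i = n - 1 ∧ j = n then u
    else if i = n ∧ j = 0 then v
    else if i = n ∧ j = n then - t' 0
    else 0 := ⟨_, rfl⟩
  have hen : ∀ i j, i < n+1 → j < n+1 →
      en (Matrix.of fun I J : Fin (n+1) => Bf I.val J.val) i j = Bf i j := by
    intro i j hi hj
    unfold en
    rw [Matrix.of_apply, val_ix hi, val_ix hj]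
  refine ⟨Matrix.of fun I J => Bf I.val J.val, ?_, ?_⟩
  · rw [Matrix.trace, Fin.sum_univ_castSucc]
    simp only [Matrix.diag_apply, Matrix.of_apply, Fin.val_castSucc, Fin.val_last]
    have e1 : Bf n n = - t' 0 := by
      rw [hBf]
      have c1 : ¬ (n = 0 ∧ n < n) := by omega
      have c2 : ¬ (n = n - 1 ∧ n = n) := by omega
      have c3 : ¬ (n = n ∧ n = 0) := by omega
      show (if n = 0 ∧ n < n then _ else if n = n - 1 ∧ n = n then _ else
        if n = n ∧ n = 0 then _ else if n = n ∧ n = n then _ else _) = _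
      rw [if_neg c1, if_neg c2, if_neg c3, if_pos ⟨rfl, rfl⟩]
    have e2 : ∑ i : Fin n, Bf i.val i.val = t' 0 := by
      rw [Finset.sum_eq_single (⟨0, hn⟩ : Fin n)]
      · rw [hBf]
        show (if (0:ℕ) = 0 ∧ 0 < n then t' 0 else _) = _
        rw [if_pos ⟨rfl, hn⟩]
      · intro i _ hi0
        have hi0' : i.val ≠ 0 := fun h => hi0 (Fin.ext h)
        have hi1 := i.2
        rw [hBf]
        have c1 : ¬ (i.val = 0 ∧ i.val < n) := by omega
        have c2 : ¬ (i.val = n - 1 ∧ i.val = n) := by omega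
        have c3 : ¬ (i.val = n ∧ i.val = 0) := by omega
        have c4 : ¬ (i.val = n ∧ i.val = n) := by omega
        show (if i.val = 0 ∧ i.val < n then _ else if i.val = n - 1 ∧ i.val = n then _ else
          if i.val = n ∧ i.val = 0 then _ else if i.val = n ∧ i.val = n then _ else _) = _
        rw [if_neg c1, if_neg c2, if_neg c3, if_neg c4]
      · intro h'; exact absurd (Finset.mem_univ _) h'
    rw [e1, e2, add_neg_cancel]
  · refine Prod.ext ?_ (Prod.ext ?_ ?_)
    · funext k
      show dS (ab (Matrix.of fun I J : Fin (n+1) => Bf I.val J.val)) n k.val 0 = t k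
      obtain ⟨d, hd⟩ := k
      show dS (ab (Matrix.of fun I J : Fin (n+1) => Bf I.val J.val)) n d 0 = t ⟨d, hd⟩
      unfold dS
      rw [Finset.sum_eq_single 0]
      · unfold ab
        rw [Nat.add_zero, if_pos ⟨hd, hn⟩, hen _ _ (by omega) (by omega), hBf]
        show (if (0:ℕ) = 0 ∧ d < n then t' d else _) = _
        rw [if_pos ⟨rfl, hd⟩, ht']
        exact dif_pos hd
      · intro m hm hm0
        rw [Finset.mem_range] at hm
        unfold ab
        rw [Nat.zero_add]
        split_ifs with h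
        · rw [hen _ _ (by omega) (by omega), hBf]
          have c1 : ¬ (m = 0 ∧ d + m < n) := by omega
          have c2 : ¬ (d + m = n - 1 ∧ m = n) := by omega
          have c3 : ¬ (d + m = n ∧ m = 0) := by omega
          have c4 : ¬ (d + m = n ∧ m = n) := by omega
          show (if m = 0 ∧ d + m < n then _ else if d + m = n - 1 ∧ m = n then _ else
            if d + m = n ∧ m = 0 then _ else if d + m = n ∧ m = n then _ else _) = _
          rw [if_neg c1, if_neg c2, if_neg c3, if_neg c4]
        · rfl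
      · intro h'
        exact absurd (Finset.mem_range.2 (by omega)) h'
    · show en (Matrix.of fun I J : Fin (n+1) => Bf I.val J.val) (n-1) n = u
      rw [hen _ _ (by omega) (by omega), hBf]
      have c1 : ¬ (n = 0 ∧ n - 1 < n) := by omega
      show (if n = 0 ∧ n - 1 < n then _ else if n - 1 = n - 1 ∧ n = n then _ else _) = _
      rw [if_neg c1, if_pos ⟨rfl, rfl⟩]
    · show en (Matrix.of fun I J : Fin (n+1) => Bf I.val J.val) n 0 = v
      rw [hen _ _ (by omega) (by omega), hBf]
      have c1 : ¬ ((0:ℕ) = 0 ∧ n < n) := by omega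
      have c2 : ¬ (n = n - 1 ∧ (0:ℕ) = n) := by omega
      show (if (0:ℕ) = 0 ∧ n < n then _ else if n = n - 1 ∧ (0:ℕ) = n then _ else
        if n = n ∧ (0:ℕ) = 0 then _ else _) = _
      rw [if_neg c1, if_neg c2, if_pos ⟨rfl, rfl⟩]

end H9

/-- Let O be a discrete valuation ring of characteristic zero with residue field of characteristic p,
let 1 ≤ n with n + 1 < p (type A_n with p above the Coxeter number), and let x ∈ sl_{n+1}(O) be the
standard subregular nilpotent element, the matrix with entries x_{i,i+1} = 1 for i + 1 < n and 0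
elsewhere (one Jordan block of size n and one of size 1; in the source this is the sum of the root
vectors of the first n − 1 simple roots, completed there to an sl₂-triple). Then the quotient of
sl_{n+1}(O) by the image of ad_x is a free O-module of rank n + 2. (The source works over a complete
such ring with algebraically closed residue field; completeness and algebraic closedness are not
used for this statement.) -/
theorem result (O : Type u) [CommRing O] [IsDomain O] [IsDiscreteValuationRing O]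
    [CharZero O] (p : ℕ) [Fact p.Prime] [CharP (IsLocalRing.ResidueField O) p]
    (n : ℕ) (hn : 1 ≤ n) (hp : n + 1 < p)
    (x : LieAlgebra.SpecialLinear.sl (Fin (n + 1)) O)
    (hx : ∀ i j : Fin (n + 1), (x : Matrix (Fin (n + 1)) (Fin (n + 1)) O) i j =
      if j.val = i.val + 1 ∧ j.val < n then 1 else 0) :
    Module.Free O (LieAlgebra.SpecialLinear.sl (Fin (n + 1)) O ⧸
        LinearMap.range (LieAlgebra.ad O (LieAlgebra.SpecialLinear.sl (Fin (n + 1)) O) x)) ∧
      Module.finrank O (LieAlgebra.SpecialLinear.sl (Fin (n + 1)) O ⧸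
        LinearMap.range (LieAlgebra.ad O (LieAlgebra.SpecialLinear.sl (Fin (n + 1)) O) x)) = n + 2 := by
  classical
  have hmem : ∀ y : Matrix (Fin (n+1)) (Fin (n+1)) O, y.trace = 0 →
      y ∈ LieAlgebra.SpecialLinear.sl (Fin (n + 1)) O := fun y hy => LinearMap.mem_ker.2 hy
  have htr : ∀ B : LieAlgebra.SpecialLinear.sl (Fin (n + 1)) O, B.val.trace = 0 :=
    fun B => LinearMap.mem_ker.1 B.2
  obtain ⟨Φ, hΦ⟩ : ∃ Φ : LieAlgebra.SpecialLinear.sl (Fin (n + 1)) O →ₗ[O] (Fin n → O) × O × O,
      ∀ B, Φ B = PhiG n O B.val :=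
    ⟨{ toFun := fun B => PhiG n O B.val
       map_add' := fun B B' => (PhiG n O).map_add B.val B'.val
       map_smul' := fun c B => (PhiG n O).map_smul c B.val }, fun _ => rfl⟩
  have hker : LinearMap.ker Φ
      = LinearMap.range (LieAlgebra.ad O (LieAlgebra.SpecialLinear.sl (Fin (n + 1)) O) x) := by
    ext B
    rw [LinearMap.mem_ker, LinearMap.mem_range, hΦ]
    constructor
    · intro hB
      obtain ⟨y, hy0, hy⟩ := exists_preimage x.val hn hx B.val (htr B) hB
      refine ⟨⟨y, hmem y hy0⟩, ?_⟩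
      apply Subtype.ext
      rw [LieAlgebra.ad_apply, LieAlgebra.SpecialLinear.sl_bracket]
      exact hy
    · rintro ⟨y, rfl⟩
      rw [LieAlgebra.ad_apply, LieAlgebra.SpecialLinear.sl_bracket]
      exact PhiG_comm x.val hn hx y.val
  have hsurj : Function.Surjective Φ := by
    rintro ⟨t, u, v⟩
    obtain ⟨B, hB0, hB⟩ := PhiG_surj (R := O) hn t u v
    exact ⟨⟨B, hmem B hB0⟩, (hΦ _).trans hB⟩
  have e := (Submodule.quotEquivOfEq _ _ hker.symm).trans
    (LinearMap.quotKerEquivOfSurjective _ hsurj)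
  refine ⟨Module.Free.of_equiv e.symm, ?_⟩
  rw [e.finrank_eq]
  simp

end Groth.Agent.S16051
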