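import Groth.Statements.S16052
import Groth.Agent.Lib.Helper27.Tame2
open Groth.Agent.Lib.Helper27

set_option autoImplicit false
universe u
open Polynomial
open CAlg

namespace Groth.Agent.S16052

/-- Let O be a henselian discrete valuation ring of characteristic zero with algebraically closed
residue field of characteristic p, ϖ a uniformizer and K the fraction field. Let r_1, …, r_m ≥ 1 and
b_1, …, b_m ≥ 1 be integers with gcd(r_i, b_i) = 1 for each i and r_1 + ⋯ + r_m < p, and let v_1, …,
v_m be units of O. Then the splitting field over K of the polynomial ∏_i (y^{r_i} − v_i ϖ^{b_i}) has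
degree lcm(r_1, …, r_m) over K. (In the source O is complete and this polynomial is the y-part of a
deformation y ↦ x² + z² + f(y) of an A_n-singularity with n + 1 = Σ r_i; the proposition goes on to
identify the monodromy element, which is not stated here.) -/
theorem result (O : Type u) [CommRing O] [IsDomain O]
    [IsDiscreteValuationRing O] [HenselianLocalRing O] [CharZero O] [IsAlgClosed (IsLocalRing.ResidueField O)]
    (p : ℕ) [Fact p.Prime] [CharP (IsLocalRing.ResidueField O) p]
    (ϖ : O) (hϖ : Irreducible ϖ) (m : ℕ) (r b : Fin m → ℕ) (v : Fin m → Oˣ)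
    (hr : ∀ i, 1 ≤ r i) (hb : ∀ i, 1 ≤ b i) (hrb : ∀ i, Nat.Coprime (r i) (b i)) (hp : ∑ i, r i < p) :
    Module.finrank (FractionRing O)
        (∏ i, (X ^ (r i) - C (algebraMap O (FractionRing O) ((v i : O) * ϖ ^ (b i))))).SplittingField =
      Finset.univ.lcm r := by
  have hlt : ∀ i, r i < p := fun i =>
    lt_of_le_of_lt (Finset.single_le_sum (f := r) (fun j _ => Nat.zero_le _) (Finset.mem_univ i)) hp
  have hne : ∀ i, ((r i : ℕ) : IsLocalRing.ResidueField O) ≠ 0 := fun i =>
    Tame.natCast_residue_ne_zero O p (r i) (hr i) (hlt i)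
  have hinj := IsFractionRing.injective O (FractionRing O)
  have hGeq : (∏ i, (X ^ (r i) - C (algebraMap O (FractionRing O) ((v i : O) * ϖ ^ (b i))))) =
      ∏ i, (X ^ (r i) - C (algebraMap O (FractionRing O) (v i : O) *
        (algebraMap O (FractionRing O) ϖ) ^ (b i))) :=
    Finset.prod_congr rfl (fun i _ => by rw [map_mul, map_pow])
  rw [hGeq]
  refine Tame.finrank_splittingField_prod (K := FractionRing O) (algebraMap O _ ϖ) ?_
    (fun n hn => Tame.irreducible_X_pow_sub_C O (FractionRing O) n hn ϖ hϖ) m r b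
    (fun i => algebraMap O (FractionRing O) (v i : O)) hr hrb ?_ ?_
  · rw [Ne, map_eq_zero_iff _ hinj]
    exact hϖ.ne_zero
  · intro i
    obtain ⟨ν, hν⟩ := Tame.exists_pow_eq_of_isUnit O (r i) (hne i) (v i : O) (v i).isUnit
    refine ⟨algebraMap O _ ν, ?_, by rw [← map_pow, hν]⟩
    rw [Ne, map_eq_zero_iff _ hinj]
    rintro rfl
    rw [zero_pow (by have := hr i; omega)] at hν
    exact (v i).ne_zero hν.symm
  · intro i
    obtain ⟨ζ, hζ⟩ := Tame.exists_primitiveRoot O (r i) (hne i)
    exact ⟨algebraMap O _ ζ, hζ.map_of_injective hinj⟩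

end Groth.Agent.S16052
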