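import Groth.Statements.S16053
import Groth.Agent.Lib.Helper27.Tame3
open Groth.Agent.Lib.Helper27 IntermediateField

set_option autoImplicit false
universe u
open Polynomial
open CAlg

namespace Groth.Agent.S16053

/-- Let O be a henselian discrete valuation ring of characteristic zero with algebraically closed
residue field of characteristic p and fraction field K, and let f ∈ O[y] be a monic polynomial of
degree e with 1 ≤ e < p which is Eisenstein at the maximal ideal of O. Then the splitting field of f
over K has degree e over K and the Galois group of f over K is cyclic. (In the source O is complete,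
e = n + 1 and f is the y-part y^{n+1} + u_n ϖ^{a_n} y^{n−1} + ⋯ + u_1 ϖ of an A_n-degeneration
meeting the discriminant transversally; the corollary's conclusion that monodromy acts through a
Coxeter element is not stated here.) -/
theorem result (O : Type u) [CommRing O] [IsDomain O]
    [IsDiscreteValuationRing O] [HenselianLocalRing O] [CharZero O] [IsAlgClosed (IsLocalRing.ResidueField O)]
    (p : ℕ) [Fact p.Prime] [CharP (IsLocalRing.ResidueField O) p]
    (f : O[X]) (hmon : f.Monic) (e : ℕ) (hdeg : f.natDegree = e) (he : 1 ≤ e) (hep : e < p)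
    (hf : f.IsEisensteinAt (IsLocalRing.maximalIdeal O)) :
    Module.finrank (FractionRing O) (f.map (algebraMap O (FractionRing O))).SplittingField = e ∧
      IsCyclic (f.map (algebraMap O (FractionRing O))).Gal := by
  classical
  have hen : ((e : ℕ) : IsLocalRing.ResidueField O) ≠ 0 :=
    Tame.natCast_residue_ne_zero O p e he hep
  obtain ⟨ϖ, hϖ⟩ := IsDiscreteValuationRing.exists_irreducible O
  obtain ⟨ζ, hζ⟩ := Tame.exists_primitiveRoot O e hen
  have hinj := IsFractionRing.injective O (FractionRing O)
  have hζK : IsPrimitiveRoot (algebraMap O (FractionRing O) ζ) e := hζ.map_of_injective hinj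
  obtain ⟨g, hg⟩ : ∃ g : (FractionRing O)[X], g = f.map (algebraMap O (FractionRing O)) :=
    ⟨_, rfl⟩
  rw [← hg]
  have hgmon : g.Monic := hg ▸ hmon.map _
  have hgdeg : g.natDegree = e := by rw [hg, hmon.natDegree_map, hdeg]
  have hsplit : (g.map (algebraMap (FractionRing O) g.SplittingField)).Splits :=
    SplittingField.splits g
  have haev : ∀ β : g.SplittingField, aeval β g = aeval β f := by
    intro β
    have h := aeval_map_algebraMap (FractionRing O) β f
    rw [← hg] at h
    exact h
  obtain ⟨α₀, hα₀⟩ : ∃ α₀ : g.SplittingField, aeval α₀ f = 0 := by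
    obtain ⟨x, hx⟩ := hsplit.exists_eval_eq_zero (by
      rw [degree_map, degree_eq_natDegree hgmon.ne_zero, hgdeg]
      exact_mod_cast (by omega : e ≠ 0))
    refine ⟨x, ?_⟩
    rw [← haev, aeval_def, ← eval_map]; exact hx
  obtain ⟨τ₀, hτ₀e, hτ₀, hτ₀fin⟩ := Tame.exists_tau O (FractionRing O) g.SplittingField f hmon e
    hdeg he hen hf ϖ hϖ α₀ hα₀
  have hϖS : algebraMap O g.SplittingField ϖ ≠ 0 := by
    rw [IsScalarTower.algebraMap_apply O (FractionRing O) g.SplittingField, Ne, map_eq_zero,
      map_eq_zero_iff _ hinj]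
    exact hϖ.ne_zero
  have hτ₀ne : τ₀ ≠ 0 := by
    rintro rfl
    rw [zero_pow (by omega)] at hτ₀e
    exact hϖS hτ₀e.symm
  have hroots : ∀ β : g.SplittingField, aeval β f = 0 → β ∈ (FractionRing O)⟮τ₀⟯ := by
    intro β hβ
    obtain ⟨τ, hτe, hτ, -⟩ := Tame.exists_tau O (FractionRing O) g.SplittingField f hmon e
      hdeg he hen hf ϖ hϖ β hβ
    have hβmem : β ∈ (FractionRing O)⟮τ⟯ := by
      rw [hτ]; exact IntermediateField.mem_adjoin_simple_self _ β
    have hττ₀ : τ ∈ (FractionRing O)⟮τ₀⟯ := by
      have h1 : (τ / τ₀) ^ e = 1 := by rw [div_pow, hτe, hτ₀e, div_self hϖS]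
      haveI : NeZero e := ⟨by omega⟩
      obtain ⟨i, -, hi⟩ := (hζK.map_of_injective
        (algebraMap (FractionRing O) g.SplittingField).injective).eq_pow_of_pow_eq_one h1
      have h2 : τ = algebraMap (FractionRing O) g.SplittingField
          (algebraMap O (FractionRing O) ζ ^ i) * τ₀ := by
        rw [map_pow, hi, div_mul_cancel₀ _ hτ₀ne]
      rw [h2]
      exact mul_mem (IntermediateField.algebraMap_mem _ _)
        (IntermediateField.mem_adjoin_simple_self _ τ₀)
    exact (IntermediateField.adjoin_simple_le_iff.mpr hττ₀) hβmem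
  have htop : (FractionRing O)⟮τ₀⟯ = ⊤ := by
    rw [eq_top_iff, ← IntermediateField.toSubalgebra_le_toSubalgebra,
      IntermediateField.top_toSubalgebra, ← SplittingField.adjoin_rootSet g]
    apply Algebra.adjoin_le
    intro β hβ
    rw [mem_rootSet] at hβ
    exact hroots β (by rw [← haev]; exact hβ.2)
  have hfin : Module.finrank (FractionRing O) g.SplittingField = e := by
    rw [← IntermediateField.finrank_top', ← htop]; exact hτ₀fin
  refine ⟨hfin, ?_⟩
  have hK : (primitiveRoots (Module.finrank (FractionRing O) g.SplittingField)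
      (FractionRing O)).Nonempty :=
    ⟨algebraMap O _ ζ, by rw [hfin, mem_primitiveRoots (by omega)]; exact hζK⟩
  have h4 : ∃ (α : g.SplittingField),
      α ^ (Module.finrank (FractionRing O) g.SplittingField) ∈
        Set.range (algebraMap (FractionRing O) g.SplittingField) ∧ (FractionRing O)⟮α⟯ = ⊤ :=
    ⟨τ₀, ⟨algebraMap O _ ϖ, by rw [hfin, hτ₀e, ← IsScalarTower.algebraMap_apply]⟩, htop⟩
  have h3 := ((isCyclic_tfae (FractionRing O) g.SplittingField hK).out 2 0).mp h4
  exact h3.2

end Groth.Agent.S16053
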