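import Groth.Statements.S16072
import Groth.Agent.Lib.Helper24.NonIso
-- import your own Groth.Agent.* helpers here

set_option autoImplicit false
universe u
open Hopf

namespace Groth.Agent.S16072

theorem algebraMap_inj' (R : Type u) [CommRing R] (G : Type) [CommGroup G] :
    Function.Injective (algebraMap R (MonoidAlgebra R G)) := by
  intro r s h
  have := congrArg (fun f : MonoidAlgebra R G => f.coeff 1) h
  simpa [MonoidAlgebra.coe_algebraMap] using this

theorem charP_monoidAlgebra (p : ℕ) (R : Type u) [CommRing R] [CharP R p] (G : Type) [CommGroup G] :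
    CharP (MonoidAlgebra R G) p :=
  charP_of_injective_algebraMap (algebraMap_inj' R G) p

/-- The coefficient at `g` as a linear form. -/
noncomputable def coeffAt (R : Type u) [CommRing R] (G : Type) [CommGroup G] (g : G) :
    MonoidAlgebra R G →ₗ[R] R where
  toFun a := a.coeff g
  map_add' a b := by rw [MonoidAlgebra.coeff_add, Finsupp.add_apply]
  map_smul' r a := by rw [MonoidAlgebra.coeff_smul, Finsupp.smul_apply, RingHom.id_apply]

/-- Let p be a prime and R a commutative ring of characteristic p (p = 0 in R, R nonzero). Then the
constant group scheme ℤ/p and the group scheme μ_p of p-th roots of unity over Spec R are not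
isomorphic: there is no R-bialgebra isomorphism between the Hopf algebra Maps(ℤ/p, R) of functions
on the cyclic group of order p and the group algebra R[ℤ/p]. (Any nonzero commutative base ring of
characteristic p is allowed. The published statement allows any ring R with p·R = 0; over the zero
ring both Hopf algebras are the zero ring and hence isomorphic, so R is assumed nonzero here.) -/
theorem result (p : ℕ) [Fact p.Prime] (R : Type u) [CommRing R]
    [CharP R p] :
    IsEmpty (ConstGrp.F R (Multiplicative (ZMod p)) ≃ₐc[R] MonoidAlgebra R (Multiplicative (ZMod p))) := by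
  refine ⟨fun φ => ?_⟩
  have hpp : p.Prime := Fact.out
  have hR : Nontrivial R := CharP.nontrivial_of_char_ne_one (R := R) hpp.ne_one
  have hC : CharP (MonoidAlgebra R (Multiplicative (ZMod p))) p := charP_monoidAlgebra p R _
  set g : Multiplicative (ZMod p) := Multiplicative.ofAdd (1 : ZMod p) with hg
  have hg1 : g ≠ 1 := by
    intro h
    have h2 : Multiplicative.toAdd g = Multiplicative.toAdd (1 : Multiplicative (ZMod p)) := by
      rw [h]
    rw [hg, toAdd_ofAdd, toAdd_one] at h2
    exact one_ne_zero h2
  have hgp : g ^ p = 1 := by
    rw [hg, ← ofAdd_nsmul]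
    simp
  have hn : (MonoidAlgebra.single g (1 : R) - 1 : MonoidAlgebra R (Multiplicative (ZMod p))) ^ p
      = 0 := by
    rw [sub_pow_char, MonoidAlgebra.single_pow, hgp, one_pow, one_pow, MonoidAlgebra.one_def,
      sub_self]
  have hl : coeffAt R _ g (MonoidAlgebra.single g (1 : R) - 1) = 1 := by
    rw [map_sub]
    change (MonoidAlgebra.single g (1 : R)).coeff g -
      (1 : MonoidAlgebra R (Multiplicative (ZMod p))).coeff g = 1
    rw [MonoidAlgebra.one_def, MonoidAlgebra.coeff_single, MonoidAlgebra.coeff_single,
      Finsupp.single_eq_same, Finsupp.single_apply, if_neg (Ne.symm hg1), sub_zero]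
  exact Lib.Helper24.NonIso.false_of_algEquiv R (Multiplicative (ZMod p)) φ.toAlgEquiv p _ hn
    (coeffAt R _ g) hl

end Groth.Agent.S16072
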