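import Groth.Statements.S16074
import Groth.Agent.Lib.Helper24.AlphaPDual
-- import your own Groth.Agent.* helpers here

set_option autoImplicit false
universe u
open Hopf

namespace Groth.Agent.S16074

open CartDual TensorProduct

/-- The coefficient at `g` as a linear form. -/
noncomputable def coeffAt (R : Type u) [CommRing R] (G : Type) [CommGroup G] (g : G) :
    MonoidAlgebra R G →ₗ[R] R where
  toFun a := a.coeff g
  map_add' a b := by rw [MonoidAlgebra.coeff_add, Finsupp.add_apply]
  map_smul' r a := by rw [MonoidAlgebra.coeff_smul, Finsupp.smul_apply, RingHom.id_apply]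

/-- Evaluation at a group-like element turns convolution powers into powers. -/
theorem pow_apply_groupLike (R : Type u) [CommRing R] (A : Type u) [CommRing A] [Bialgebra R A]
    (ξ : D R A) (γ : A) (hγ : IsGroupLikeElem R γ) (n : ℕ) : (ξ ^ n) γ = (ξ γ) ^ n := by
  induction n with
  | zero =>
    rw [pow_zero, pow_zero, LinearMap.convOne_apply, hγ.counit_eq_one, map_one]
  | succ n ih =>
    rw [pow_succ, pow_succ, LinearMap.convMul_apply, hγ.comul_eq_tmul_self, TensorProduct.map_tmul,
      LinearMap.mul'_apply, ← ih]

/-- Let p be a prime and R a commutative ring of characteristic p (p = 0 in R, R nonzero). Then μ_p and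
α_p over Spec R are not isomorphic: there is no R-bialgebra isomorphism between the group algebra
R[ℤ/p] of the cyclic group of order p (group elements group-like) and the Hopf algebra R[X]/(X^p) of
α_p (X primitive), although the underlying R-algebras R[ℤ/p] = R[Y]/(Y^p) and R[X]/(X^p) are
isomorphic. (Any nonzero commutative base ring of characteristic p is allowed. The published
statement allows any ring R with p·R = 0; over the zero ring both Hopf algebras are the zero ring
and hence isomorphic, so R is assumed nonzero here.) -/
theorem result (p : ℕ) [Fact p.Prime] (R : Type u) [CommRing R] [CharP R p] :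
    IsEmpty (MonoidAlgebra R (Multiplicative (ZMod p)) ≃ₐc[R] AlphaP.A p R) := by
  refine ⟨fun φ => ?_⟩
  have hpp : p.Prime := Fact.out
  have hR : Nontrivial R := CharP.nontrivial_of_char_ne_one (R := R) hpp.ne_one
  set g : Multiplicative (ZMod p) := Multiplicative.ofAdd (1 : ZMod p) with hg
  have hg1 : g ≠ 1 := by
    intro h
    have h2 : Multiplicative.toAdd g = Multiplicative.toAdd (1 : Multiplicative (ZMod p)) := by
      rw [h]
    rw [hg, toAdd_ofAdd, toAdd_one] at h2
    exact one_ne_zero h2
  have hγ : IsGroupLikeElem R (φ (MonoidAlgebra.single g (1 : R))) :=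
    (MonoidAlgebra.isGroupLikeElem_single_one (R := R) (A := R) g).map φ
  set ξ : D R (AlphaP.A p R) :=
    WithConv.toConv ((coeffAt R _ g).comp (φ.symm : AlphaP.A p R →ₗ[R] _)) with hξ
  have h1 : ξ (φ (MonoidAlgebra.single g (1 : R))) = 1 := by
    change (φ.symm (φ (MonoidAlgebra.single g (1 : R)))).coeff g = 1
    rw [BialgEquiv.symm_apply_apply, MonoidAlgebra.coeff_single, Finsupp.single_eq_same]
  have h2 : ξ 1 = 0 := by
    change (φ.symm (1 : AlphaP.A p R)).coeff g = 0
    rw [map_one, MonoidAlgebra.one_def, MonoidAlgebra.coeff_single, Finsupp.single_apply,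
      if_neg (Ne.symm hg1)]
  have h3 := pow_apply_groupLike R (AlphaP.A p R) ξ _ hγ p
  rw [h1, one_pow, Lib.Helper24.AlphaPDual.dual_pow_p_eq, h2, zero_pow hpp.ne_zero, map_zero] at h3
  exact zero_ne_one h3

end Groth.Agent.S16074
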