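import Groth.Statements.S16075
import Groth.Agent.Lib.Helper24.AlphaPDual
-- import your own Groth.Agent.* helpers here

set_option autoImplicit false
universe u
open Hopf

namespace Groth.Agent.S16075

open Groth.Agent.Lib.Helper24.AlphaPDual AlphaP CartDual TensorProduct

/-- Convolution product evaluated at a primitive element. -/
theorem conv_apply_primitive (p : ℕ) [Fact p.Prime] (T : Type u) [CommRing T] [CharP T p]
    (a : A p T) (ha : Coalgebra.comul (R := T) a = a ⊗ₜ[T] 1 + 1 ⊗ₜ[T] a) (ξ η : D T (A p T)) :
    (ξ * η) a = ξ a * η 1 + ξ 1 * η a := by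
  rw [LinearMap.convMul_apply, ha, map_add, map_add, TensorProduct.map_tmul,
    TensorProduct.map_tmul, LinearMap.mul'_apply, LinearMap.mul'_apply]

theorem y_pow_apply_one (p : ℕ) [Fact p.Prime] (T : Type u) [CommRing T] [CharP T p] (n : ℕ) :
    (y p T ^ (n + 1)) 1 = 0 := by
  have h := y_pow_apply p T (n + 1) 0
  rw [pow_zero, if_neg (by omega)] at h
  exact h

theorem eq_smul_x_of_primitive (p : ℕ) [Fact p.Prime] (T : Type u) [CommRing T] [CharP T p]
    (a : A p T) (ha : Coalgebra.comul (R := T) a = a ⊗ₜ[T] 1 + 1 ⊗ₜ[T] a)
    (ha0 : Coalgebra.counit (R := T) a = 0) : a = y p T a • x p T := by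
  have key : ∀ n, n ≠ 1 → (y p T ^ n) a = 0 := by
    intro n hn
    rcases n with _ | _ | n
    · rw [pow_zero, LinearMap.convOne_apply, ha0, map_zero]
    · exact absurd rfl hn
    · rw [pow_succ, conv_apply_primitive p T a ha, y_one, mul_zero, y_pow_apply_one, zero_mul,
        add_zero]
  rw [← sub_eq_zero]
  apply eq_zero_of_forall_y_pow
  intro n _
  rw [coe_apply, map_sub, map_smul, ← coe_apply, ← coe_apply]
  have hx := y_pow_apply p T n 1
  rw [pow_one] at hx
  rw [hx]
  by_cases hn : n = 1
  · subst hn
    rw [if_pos rfl, pow_one, Nat.factorial_one, Nat.cast_one, smul_eq_mul, mul_one, sub_self]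
  · rw [key n hn, if_neg (Ne.symm hn), smul_zero, sub_zero]

/-- Let p be a prime, T a commutative ring of characteristic p (p = 0 in T, T nonzero) and A =
T[X]/(X^p) the Hopf algebra of α_p over Spec T, with X primitive. Then the endomorphisms of the
T-group α_{p,T} are exactly the scalings: every T-bialgebra endomorphism f of A has f(X) = λ·X for a
unique λ ∈ T, and for every λ ∈ T there is a T-bialgebra endomorphism f of A with f(X) = λ·X. So the
endomorphisms of α_{p,T} correspond bijectively to the elements of T. (Only this bijection is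
stated; that it turns addition and composition of endomorphisms into addition and multiplication in
T, and its naturality in T, are not stated here. The zero ring, allowed as T in the published
statement, is excluded by the characteristic hypothesis here.) -/
theorem result (p : ℕ) [Fact p.Prime] (T : Type u) [CommRing T] [CharP T p] :
    (∀ f : AlphaP.A p T →ₐc[T] AlphaP.A p T, ∃! c : T, f (AlphaP.x p T) = c • AlphaP.x p T) ∧
      (∀ c : T, ∃ f : AlphaP.A p T →ₐc[T] AlphaP.A p T, f (AlphaP.x p T) = c • AlphaP.x p T) := by
  constructor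
  · intro f
    have ha : Coalgebra.comul (R := T) (f (x p T)) = f (x p T) ⊗ₜ[T] 1 + 1 ⊗ₜ[T] f (x p T) := by
      rw [← CoalgHomClass.map_comp_comul_apply, comul_x, map_add, TensorProduct.map_tmul,
        TensorProduct.map_tmul]
      simp
    have ha0 : Coalgebra.counit (R := T) (f (x p T)) = 0 := by
      rw [CoalgHomClass.counit_comp_apply, counit_x]
    refine ⟨y p T (f (x p T)), eq_smul_x_of_primitive p T _ ha ha0, ?_⟩
    intro c hc
    rw [hc, coe_apply, map_smul, ← coe_apply]
    have hx := y_x_pow p T 1
    rw [pow_one, if_pos rfl] at hx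
    rw [hx, smul_eq_mul, mul_one]
  · intro c
    have hb : (c • x p T) ^ p = 0 := by rw [smul_pow, x_pow, smul_zero]
    refine ⟨BialgHom.ofAlgHom (lift p T (c • x p T) hb) ?_ ?_, ?_⟩
    · apply AlphaP.algHom_ext
      rw [AlgHom.comp_apply, lift_x, Bialgebra.counitAlgHom_apply, Bialgebra.counitAlgHom_apply,
        map_smul, counit_x, smul_zero]
    · apply AlphaP.algHom_ext
      rw [AlgHom.comp_apply, AlgHom.comp_apply, lift_x, Bialgebra.comulAlgHom_apply,
        Bialgebra.comulAlgHom_apply, map_smul, comul_x, map_add, Algebra.TensorProduct.map_tmul,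
        Algebra.TensorProduct.map_tmul, lift_x, map_one, smul_add, TensorProduct.smul_tmul',
        TensorProduct.tmul_smul]
    · exact lift_x (c • x p T) hb

end Groth.Agent.S16075
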