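import Groth.Statements.S16077
import Groth.Agent.Lib.Helper19.TruncInv

set_option autoImplicit false
universe u
open CAlg

namespace Groth.Agent.S16077

/-- Let k be a perfect field of characteristic p > 0 and let e_1, …, e_r ≥ 1 and f_1, …, f_s ≥ 1 be
natural numbers. If the k-algebras k[X_1, …, X_r]/(X_i^{p^{e_i}} : 1 ≤ i ≤ r) and k[X_1, …,
X_s]/(X_j^{p^{f_j}} : 1 ≤ j ≤ s) are isomorphic, then r = s and (f_j) is a permutation of (e_i):
there is a bijection σ between the index sets with f_{σ(i)} = e_i. Such truncated polynomial
algebras are the coordinate rings of the connected finite k-group schemes, and the row says that the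
number of variables and the exponents are invariants of the group, indeed of its algebra. (Only this
invariance is stated here; the existence of such a presentation for every connected finite k-group
is a separate statement.) -/
theorem result (p : ℕ) [Fact p.Prime] (k : Type u) [Field k]
    [CharP k p] [PerfectField k] (r s : ℕ) (e : Fin r → ℕ) (f : Fin s → ℕ) (he : ∀ i, 1 ≤ e i) (hf : ∀ j, 1 ≤ f j)
    (φ : (MvPolynomial (Fin r) k ⧸ Ideal.span (Set.range fun i : Fin r => (MvPolynomial.X i : MvPolynomial (Fin r) k) ^ p ^ e i)) ≃ₐ[k]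
      (MvPolynomial (Fin s) k ⧸ Ideal.span (Set.range fun j : Fin s => (MvPolynomial.X j : MvPolynomial (Fin s) k) ^ p ^ f j))) :
    ∃ σ : Fin r ≃ Fin s, ∀ i : Fin r, f (σ i) = e i := by
  classical
  have hp : p.Prime := Fact.out
  apply Groth.Agent.Lib.Helper19.TruncInv.exists_equiv_of_sum_min e f he hf
  intro m
  have h1 := Groth.Agent.Lib.Helper19.TruncInv.finrank_quot_nilPow (K := k) p e m
  have h2 := Groth.Agent.Lib.Helper19.TruncInv.finrank_quot_nilPow (K := k) p f m
  have h3 := Groth.Agent.Lib.Helper19.TruncInv.finrank_quot_nilPow_eq (K := k) (p ^ m) φ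
  rw [h1, h2] at h3
  exact Nat.pow_right_injective hp.two_le h3

end Groth.Agent.S16077
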