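import Groth.Statements.S16080
import Groth.Agent.Lib.Helper26.RefShC
import Groth.Agent.Lib.Helper17.CohBijLocus
import Groth.Agent.Lib.Helper22.ClosedSpec


set_option autoImplicit false
universe u
open CategoryTheory CategoryTheory.Limits AlgebraicGeometry TopologicalSpace
open SDiv

namespace Groth.Agent.S16080

/-- Let X be an integral locally Noetherian scheme, and suppose F is an O_X-module that is coherent.
Then these three conditions on F are mutually equivalent: (1) F has the reflexive property, i.e. the
canonical map F ⟶ F^** into the reflexive hull is an isomorphism; (2) for every point x the stalk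
F_x is a reflexive O_{X,x}-module; (3) for every closed point x the stalk F_x is a reflexive
O_{X,x}-module. -/
theorem result (X : Scheme.{u}) [IsIntegral X] [IsLocallyNoetherian X] (F : X.Modules)
    (hF : Coh.IsCoh F) :
    [RefHull.IsReflexive F, ∀ x : ↥X, RefHull.IsReflexiveAt F x,
      ∀ x : ↥X, IsClosed ({x} : Set ↥X) → RefHull.IsReflexiveAt F x].TFAE := by
  tfae_have 1 ↔ 2 := Groth.Agent.Lib.Helper26.RefSh.isReflexive_iff_forall hF
  tfae_have 2 → 3 := fun h x _ => h x
  tfae_have 3 → 2 := by
    intro h x
    haveI : F.IsQuasicoherent := hF.1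
    haveI : F.IsFiniteType := hF.2
    have hD := Groth.Agent.Lib.Helper26.RefSh.isCoh_ddual hF
    haveI : (RefHull.ddual F).IsQuasicoherent := hD.1
    haveI : (RefHull.ddual F).IsFiniteType := hD.2
    have hopen := Groth.Agent.Lib.Helper17.CohBijLocus.isOpen_bijective_stalk (RefHull.bidualMap F)
    obtain ⟨x', hxx', hx'⟩ := Groth.Agent.Lib.Helper22.ClosedSpec.exists_specializes_isClosed x
    have hx'B : x' ∈ {y : X | Function.Bijective (RefHull.stalkMapₗ (RefHull.bidualMap F) y)} :=
      (Groth.Agent.Lib.Helper26.RefSh.stalkMap_bidual_bijective_iff hF x').mpr (h x' hx')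
    have hxB := hxx'.mem_open hopen hx'B
    exact (Groth.Agent.Lib.Helper26.RefSh.stalkMap_bidual_bijective_iff hF x).mp hxB
  tfae_finish

end Groth.Agent.S16080
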