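import Groth.Statements.S16082
import Mathlib
import Groth.Agent.Lib.Helper3.QcohStalk

set_option autoImplicit false
universe u
open CategoryTheory CategoryTheory.Limits AlgebraicGeometry TopologicalSpace
open SDiv

namespace Groth.Agent.S16082

/-- Let X be an integral scheme and F, G quasi-coherent O_X-modules with F of finite presentation and G
torsion free (every stalk G_x is a torsion-free module over the domain O_{X,x}). Then every stalk of
the sheaf Hom 𝓗om_{O_X}(F, G) is torsion free as well. -/
theorem result (X : Scheme.{u}) [IsIntegral X] (F G : X.Modules) (hF : Coh.IsQCoh F)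
    (hFp : CohB1.IsFP F) (hG : Coh.IsQCoh G) (hGt : TorSh.IsTorsionFree G) :
    TorSh.IsTorsionFree (RefHull.homSh F G) := by
  intro x
  constructor
  intro a ha
  rw [isSMulRegular_iff_right_eq_zero_of_smul]
  intro t ht
  obtain ⟨V1, hx1, a0, rfl⟩ := X.presheaf.exists_germ_eq a
  obtain ⟨V2, hle, hx2, g, hg⟩ := (RefHull.homSh F G).presheaf.exists_le_germ_eq t hx1
  subst hg
  have ha1 : X.presheaf.germ V2 x hx2 (X.presheaf.map (homOfLE hle).op a0) =
      X.presheaf.germ V1 x hx1 a0 := X.presheaf.germ_res_apply (homOfLE hle) x hx2 a0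
  rw [← ha1] at ht ha
  rw [← Groth.Agent.Lib.Helper3.QS.germ_smul] at ht
  have h0 : (RefHull.homSh F G).presheaf.germ V2 x hx2 (0 : Γ(RefHull.homSh F G, V2)) = 0 :=
    map_zero _
  rw [← h0] at ht
  obtain ⟨W, hxW, i1, i2, hW⟩ := (RefHull.homSh F G).presheaf.germ_eq x hx2 hx2 _ _ ht
  rw [Scheme.Modules.map_smul, map_zero] at hW
  rw [← (RefHull.homSh F G).presheaf.germ_res_apply i1 x hxW g]
  suffices h : (RefHull.homSh F G).presheaf.map i1.op g = 0 by rw [h, map_zero]
  have hane : X.presheaf.map i1.op (X.presheaf.map (homOfLE hle).op a0) ≠ 0 := by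
    intro h
    have h2 := X.presheaf.germ_res_apply i1 x hxW (X.presheaf.map (homOfLE hle).op a0)
    rw [h, map_zero] at h2
    rw [← h2] at ha
    exact ha.ne_zero rfl
  apply Subtype.ext
  funext z
  apply LinearMap.ext
  intro m
  have hz := congrArg (fun q => (q.1 z) m) hW
  have hgne : X.presheaf.germ W z.1 z.2
      (X.presheaf.map i1.op (X.presheaf.map (homOfLE hle).op a0)) ≠ 0 := by
    intro h
    apply hane
    exact germ_injective_of_isIntegral X z.1 z.2 (h.trans (map_zero _).symm)
  have hsm := (hGt z.1).isSMulRegular (IsRegular.of_ne_zero hgne)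
  exact hsm.right_eq_zero_of_smul hz

end Groth.Agent.S16082
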