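import Groth.Statements.S16083
import Groth.Agent.Lib.Helper26.RefShH


set_option autoImplicit false
universe u
open CategoryTheory CategoryTheory.Limits AlgebraicGeometry TopologicalSpace
open SDiv

namespace Groth.Agent.S16083

/-- Suppose X is a normal scheme that is integral and locally Noetherian, write η for its generic point,
let F and G be coherent O_X-modules, and let T : G_η → F_η be an O_{X,η}-linear map of generic
stalks. Then T extends to a morphism G ⟶ F^** — there is a morphism ψ whose stalk map at η is T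
followed by the stalk map at η of the canonical map F ⟶ F^** — if and only if for every point x with
dim O_{X,x} = 1 the map T sends the image of G_x in G_η into the image of F_x in F_η. -/
theorem result (X : Scheme.{u}) [IsIntegral X] [IsLocallyNoetherian X]
    (hX : Pi1.IsNormalScheme X) (F G : X.Modules) (hF : Coh.IsCoh F) (hG : Coh.IsCoh G)
    (T : ↑(G.presheaf.stalk (genericPoint ↥X)) →ₗ[↑(X.presheaf.stalk (genericPoint ↥X))]
      ↑(F.presheaf.stalk (genericPoint ↥X))) :
    (∃ ψ : G ⟶ RefHull.ddual F, RefHull.stalkMapₗ ψ (genericPoint ↥X) =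
        (RefHull.stalkMapₗ (RefHull.bidualMap F) (genericPoint ↥X)).comp T) ↔
      ∀ x : ↥X, ringKrullDim ↑(X.presheaf.stalk x) = 1 →
        Set.MapsTo ⇑T
          (Set.range ⇑(G.presheaf.stalkSpecializes ((genericPoint_spec ↥X).specializes (Set.mem_univ x))).hom)
          (Set.range ⇑(F.presheaf.stalkSpecializes ((genericPoint_spec ↥X).specializes (Set.mem_univ x))).hom) := by
  have hNcoh := Groth.Agent.Lib.Helper26.RefSh.isCoh_ddual hF
  have hNr : ∀ x : X, RefHull.IsReflexiveAt (RefHull.ddual F) x := fun x =>
    Groth.Agent.Lib.Helper26.RefSh.isReflexiveAt_dual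
      (Groth.Agent.Lib.Helper26.RefSh.isCoh_dual hF) x
  have hcη : Function.Injective
      (RefHull.stalkMapₗ (RefHull.bidualMap F) (genericPoint X)) :=
    ((Groth.Agent.Lib.Helper26.RefSh.stalkMap_bidual_bijective_iff hF (genericPoint X)).mpr
      (Groth.Agent.Lib.Helper26.RefSh.isReflexiveAt_genericPoint hX hF)).1
  constructor
  · rintro ⟨ψ, hψ⟩ x hx t ⟨g, rfl⟩
    have hdim : ¬ (2 : WithBot ℕ∞) ≤ ringKrullDim (X.presheaf.stalk x) := by
      rw [hx]
      decide
    obtain ⟨f, hf⟩ := Groth.Agent.Lib.Helper26.RefSh.surjective_stalkMap_bidual hX hF x hdim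
      (RefHull.stalkMapₗ ψ x g)
    refine ⟨f, ?_⟩
    apply hcη
    have e1 := Groth.Agent.Lib.Helper26.RefSh.spec_stalkMap (RefHull.bidualMap F)
      ((genericPoint_spec X).specializes (Set.mem_univ x)) f
    have e2 := Groth.Agent.Lib.Helper26.RefSh.spec_stalkMap ψ
      ((genericPoint_spec X).specializes (Set.mem_univ x)) g
    have e3 : RefHull.stalkMapₗ ψ (genericPoint X)
        ((G.presheaf.stalkSpecializes
          ((genericPoint_spec X).specializes (Set.mem_univ x))).hom g) =
        RefHull.stalkMapₗ (RefHull.bidualMap F) (genericPoint X)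
          (T ((G.presheaf.stalkSpecializes
            ((genericPoint_spec X).specializes (Set.mem_univ x))).hom g)) :=
      LinearMap.congr_fun hψ _
    rw [hf] at e1
    exact e1.symm.trans (e2.trans e3)
  · intro hmaps
    obtain ⟨ψ, hψ⟩ := Groth.Agent.Lib.Helper26.RefSh.exists_hom_extending hX G (RefHull.ddual F)
      hG hNcoh hNr ((RefHull.stalkMapₗ (RefHull.bidualMap F) (genericPoint X)).comp T)
      (by
        intro x hx hsp g
        obtain ⟨f, hf⟩ := hmaps x hx (Set.mem_range_self g)
        refine ⟨RefHull.stalkMapₗ (RefHull.bidualMap F) x f, ?_⟩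
        rw [Groth.Agent.Lib.Helper26.RefSh.spec_stalkMap]
        exact congrArg (RefHull.stalkMapₗ (RefHull.bidualMap F) (genericPoint X)) hf)
    exact ⟨ψ, hψ⟩

end Groth.Agent.S16083
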