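import Groth.Statements.S16084
import Groth.Agent.Lib.Helper26.RefShG


set_option autoImplicit false
universe u
open CategoryTheory CategoryTheory.Limits AlgebraicGeometry TopologicalSpace
open SDiv

namespace Groth.Agent.S16084

/-- Let X be an integral locally Noetherian normal scheme, F a rank one coherent reflexive O_X-module
and s a nonzero global section of F. Let Z be the set of points x at which multiplication by the
germ of s, O_{X,x} → F_x, fails to be bijective (the complement of the open where s generates F).
Then every irreducible component of Z has codimension 1 in X: at each point z of Z to which no other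
point of Z specializes, the local ring O_{X,z} has dimension 1. -/
theorem result (X : Scheme.{u}) [IsIntegral X] [IsLocallyNoetherian X]
    (hX : Pi1.IsNormalScheme X) (F : X.Modules) (hF : RefHull.IsRef1 F) (s : Γ(F, ⊤)) (hs : s ≠ 0) (z : ↥X)
    (hz : ¬ Function.Bijective fun a : ↑(X.presheaf.stalk z) => a • F.presheaf.germ ⊤ z trivial s)
    (hmax : ∀ y : ↥X, ¬ Function.Bijective (fun a : ↑(X.presheaf.stalk y) => a • F.presheaf.germ ⊤ y trivial s) →
      y ⤳ z → y = z) :
    ringKrullDim ↑(X.presheaf.stalk z) = 1 := by
  obtain ⟨hcoh, hrefl, hgi⟩ := hF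
  haveI : F.IsQuasicoherent := hcoh.1
  haveI : F.IsFiniteType := hcoh.2
  have hst := (Groth.Agent.Lib.Helper26.RefSh.isReflexive_iff_forall hcoh).mp hrefl
  have htf : TorSh.IsTorsionFree F := by
    intro x
    haveI : Module.IsReflexive (X.presheaf.stalk x) (F.presheaf.stalk x) := hst x
    infer_instance
  have hsec := Groth.Agent.Lib.Helper26.RefSh.sec_secHom F s
  have hiff : ∀ x : X, Function.Bijective (RefHull.stalkMapₗ
        (Groth.Agent.Lib.Helper26.RefSh.secHom F s) x) ↔
      Function.Bijective (fun a : X.presheaf.stalk x => a • F.presheaf.germ ⊤ x trivial s) := by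
    intro x
    rw [Groth.Agent.Lib.Helper26.RefSh.bijective_stalkMap_iff, hsec]
  have hA : ringKrullDim (X.presheaf.stalk z) ≠ 0 := by
    intro h0
    have hzη := Groth.Agent.Lib.Helper26.RefSh.eq_genericPoint_of_ringKrullDim_eq_zero z h0
    subst hzη
    exact hz (Groth.Agent.Lib.Helper26.RefSh.bijective_smul_germ_genericPoint F htf hgi s hs)
  have hB : ¬ (2 : WithBot ℕ∞) ≤ ringKrullDim (X.presheaf.stalk z) := by
    intro h2
    apply hz
    rw [← hiff z]
    haveI := (hX z).2
    have hdO := Groth.Agent.Lib.Helper26.RefSh.two_le_depth_of_normal (X.presheaf.stalk z) h2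
    apply Groth.Agent.Lib.Helper17.DepthTwoLocal.stalk_bijective_at
    intro x' hx'
    by_cases hxz : x' = z
    · right
      subst hxz
      constructor
      · have e := Groth.Agent.Lib.Helper4.idealDepth_congr
          (IsLocalRing.maximalIdeal (X.presheaf.stalk x'))
          (Groth.Agent.Lib.Helper26.RefSh.unitEquiv x')
        unfold LocCoh.depth
        rw [e]
        exact hdO
      · intro hass
        haveI : Module.IsReflexive (X.presheaf.stalk x') (F.presheaf.stalk x') := hst x'
        haveI : Module.Finite (X.presheaf.stalk x') (F.presheaf.stalk x') :=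
          Groth.Agent.Lib.Helper17.CohStalk.finite_stalk F x'
        have hd2 := Groth.Agent.Lib.Helper26.RefSh.two_le_depth_of_isReflexive
          (X.presheaf.stalk x') (F.presheaf.stalk x') hdO
        have h0 : LocCoh.depth (X.presheaf.stalk x') (F.presheaf.stalk x') = 0 :=
          (Groth.Agent.Lib.Helper4.depth_eq_zero_iff_maximalIdeal_mem_associatedPrimes).2 hass
        rw [h0] at hd2
        exact absurd hd2 (by norm_num)
    · left
      rw [hiff x']
      by_contra hnb
      exact hxz (hmax x' hnb hx')
  obtain ⟨d, hd⟩ := Groth.Agent.Lib.Helper26.SerreReg.exists_nat_ringKrullDim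
    (X.presheaf.stalk z)
  rw [hd] at hA hB ⊢
  have h1 : d ≠ 0 := by
    intro h
    apply hA
    rw [h]
    rfl
  have h2 : ¬ 2 ≤ d := by
    intro h
    apply hB
    exact_mod_cast h
  have h3 : d = 1 := by omega
  rw [h3]
  rfl

end Groth.Agent.S16084
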