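import Groth.Statements.S1609
-- import your own Groth.Agent.* helpers here

set_option autoImplicit false
universe u
open CategoryTheory CategoryTheory.Limits AlgebraicGeometry
open Variety

namespace Groth.Agent.S1609

/-- two field extensions of `k` admit a common extension field (in the same universe) -/
theorem exists_common_field (k K k' : Type u) [Field k] [Field K] [Field k'] [Algebra k K] [Algebra k k'] :
    ∃ (Ω : Type u) (_ : Field Ω) (a : K →+* Ω) (b : k' →+* Ω),
      a.comp (algebraMap k K) = b.comp (algebraMap k k') := by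
  let T := TensorProduct k K k'
  obtain ⟨m, hm⟩ := Ideal.exists_maximal T
  let _ : Field (T ⧸ m) := Ideal.Quotient.field m
  refine ⟨T ⧸ m, inferInstance, (Ideal.Quotient.mk m).comp (Algebra.TensorProduct.includeLeftRingHom),
    (Ideal.Quotient.mk m).comp (Algebra.TensorProduct.includeRight (R := k) (A := K) (B := k')).toRingHom, ?_⟩
  ext x
  simp only [RingHom.comp_apply]
  congr 1
  change (algebraMap k K x) ⊗ₜ[k] (1 : k') = (1 : K) ⊗ₜ[k] (algebraMap k k' x)
  rw [Algebra.algebraMap_eq_smul_one, Algebra.algebraMap_eq_smul_one, TensorProduct.smul_tmul]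

theorem geomIrred_descent {X S S' : Scheme.{u}} (f : X ⟶ S) (g : S' ⟶ S)
    (hg : ∀ (K : Type u) [Field K] (y : Spec (.of K) ⟶ S), ∃ (Ω : Type u) (_ : Field Ω)
      (a : Spec (.of Ω) ⟶ Spec (.of K)) (b : Spec (.of Ω) ⟶ S'), a ≫ y = b ≫ g)
    [hfg : GeometricallyIrreducible (pullback.snd f g)] : GeometricallyIrreducible f := by
  constructor
  intro K _ y Z fst snd h
  obtain ⟨Ω, _, a, b, hab⟩ := hg K y
  -- W = Z ×_{Spec K} Spec Ω
  have hW : IsPullback (pullback.fst snd a ≫ fst) (pullback.snd snd a) f (a ≫ y) :=
    (IsPullback.of_hasPullback snd a).paste_horiz h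
  rw [hab] at hW
  let l : pullback snd a ⟶ pullback f g :=
    pullback.lift (pullback.fst snd a ≫ fst) (pullback.snd snd a ≫ b) (by
      rw [Category.assoc, Category.assoc, ← hab, h.w, pullback.condition_assoc])
  have hl : IsPullback l (pullback.snd snd a) (pullback.snd f g) b := by
    refine IsPullback.of_right ?_ (pullback.lift_snd _ _ _) (IsPullback.of_hasPullback f g)
    rw [pullback.lift_fst]
    exact hW
  have hirr : IrreducibleSpace ↥(pullback snd a) :=
    hfg.geometrically_irreducibleSpace b l (pullback.snd snd a) hl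
  have hsurj : Surjective a := by
    constructor
    intro x
    obtain ⟨z⟩ : Nonempty (Spec (.of Ω)) := inferInstance
    exact ⟨z, Subsingleton.elim _ _⟩
  have hsurj' : Surjective (pullback.fst snd a) :=
    inferInstance
  exact Function.Surjective.irreducibleSpace (pullback.fst snd a).continuous hsurj'.surj

/-- Geometric irreducibility of a k-scheme can be checked after an arbitrary extension of the base
field. -/
theorem result (k : Type u) [Field k] (X : Scheme.{u}) [X.Over (Spec (CommRingCat.of k))] (k' : Type u) [Field k'] [Algebra k k']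
    [GeometricallyIrreducible (Curv2.bcSnd k X k')] : GeometricallyIrreducible (X ↘ (Spec (CommRingCat.of k))) := by
  apply geomIrred_descent (X ↘ (Spec (CommRingCat.of k))) (Spec.map (CommRingCat.ofHom (algebraMap k k')))
  intro K _ y
  obtain ⟨φ, rfl⟩ := Spec.map_surjective y
  algebraize [φ.hom]
  obtain ⟨Ω, _, a, b, hab⟩ := exists_common_field k K k'
  refine ⟨Ω, inferInstance, Spec.map (CommRingCat.ofHom a), Spec.map (CommRingCat.ofHom b), ?_⟩
  rw [← Spec.map_comp, ← Spec.map_comp]
  congr 1
  ext x
  exact congrFun (congrArg DFunLike.coe hab) x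

end Groth.Agent.S1609
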