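import Groth.Statements.S16092
import Groth.Agent.Lib.Helper26.RefShN


set_option autoImplicit false
universe u
open CategoryTheory CategoryTheory.Limits AlgebraicGeometry TopologicalSpace
open SDiv

namespace Groth.Agent.S16092

/-- Let X be an integral scheme that is locally Noetherian, with generic point η, let L and N be
invertible O_X-modules and s ∈ L_η, t ∈ N_η nonzero rational sections, with orders ord_{x,L}(s),
ord_{x,N}(t) along the prime divisors, i.e. at the points x with dim O_{X,x} = 1, taken with respect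
to generators of the stalks. Then L ⊗_{O_X} N has a nonzero rational section w with ord_{x,L ⊗ N}(w)
= ord_{x,L}(s) + ord_{x,N}(t) at every such x; hence the Weil divisor class of L ⊗ N is the sum of
the classes of L and N. The published statement names w as the product s·t; here only the existence
of such a w is asserted. -/
theorem result (X : Scheme.{u}) [IsIntegral X] [IsLocallyNoetherian X] (L N : X.Modules)
    (hL : PicF.IsInvertible L) (hN : PicF.IsInvertible N) (s : Cyc.secFibre L (genericPoint ↥X)) (hs : s ≠ 0)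
    (t : Cyc.secFibre N (genericPoint ↥X)) (ht : t ≠ 0) :
    ∃ w : Cyc.secFibre (CohB1.tensorMod L N) (genericPoint ↥X), w ≠ 0 ∧
      ∀ (x : ↥X), ringKrullDim ↑(X.presheaf.stalk x) = 1 →
        Cyc.secOrdAt (CohB1.tensorMod L N) (genericPoint ↥X) x ((genericPoint_spec ↥X).specializes (Set.mem_univ x)) w =
          Cyc.secOrdAt L (genericPoint ↥X) x ((genericPoint_spec ↥X).specializes (Set.mem_univ x)) s +
            Cyc.secOrdAt N (genericPoint ↥X) x ((genericPoint_spec ↥X).specializes (Set.mem_univ x)) t := by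
  obtain ⟨wL, rfl⟩ := Submodule.Quotient.mk_surjective _ s
  obtain ⟨wN, rfl⟩ := Submodule.Quotient.mk_surjective _ t
  have hwL : wL ≠ 0 := by
    rintro rfl
    exact hs (Submodule.Quotient.mk_zero _)
  have hwN : wN ≠ 0 := by
    rintro rfl
    exact ht (Submodule.Quotient.mk_zero _)
  haveI : L.IsQuasicoherent := Groth.Agent.Lib.Helper3.InvCoh.isQuasicoherent_of_isInvertible hL
  haveI : N.IsQuasicoherent := Groth.Agent.Lib.Helper3.InvCoh.isQuasicoherent_of_isInvertible hN
  haveI : L.IsFiniteType := Groth.Agent.Lib.Helper3.InvCoh.isFiniteType_of_isInvertible hL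
  haveI : N.IsFiniteType := Groth.Agent.Lib.Helper3.InvCoh.isFiniteType_of_isInvertible hN
  have hP := Groth.Agent.Lib.Helper3.InvTensor.isInvertible_tensorMod hL hN
  haveI : (CohB1.tensorMod L N).IsQuasicoherent :=
    Groth.Agent.Lib.Helper3.InvCoh.isQuasicoherent_of_isInvertible hP
  have hLtf := Groth.Agent.Lib.Helper26.RefSh.isTorsionFree_of_isInvertible hL
  have hNtf := Groth.Agent.Lib.Helper26.RefSh.isTorsionFree_of_isInvertible hN
  have hPtf := Groth.Agent.Lib.Helper26.RefSh.isTorsionFree_of_isInvertible hP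
  have hspec : ∀ x : X, genericPoint X ⤳ x :=
    fun x => (genericPoint_spec X).specializes (Set.mem_univ x)
  have hgenL := Groth.Agent.Lib.Helper26.RefSh.generator_of_ne_zero L
    (Groth.Agent.Lib.Helper26.RefSh.genInvertible_of_isInvertible hL) wL hwL
  have hgenN := Groth.Agent.Lib.Helper26.RefSh.generator_of_ne_zero N
    (Groth.Agent.Lib.Helper26.RefSh.genInvertible_of_isInvertible hN) wN hwN
  have hw0 : Groth.Agent.Lib.Helper26.RefSh.stalkTensor L N (genericPoint X) wL wN ≠ 0 :=
    Groth.Agent.Lib.Helper26.RefSh.stalkTensor_ne_zero L N (genericPoint X) wL hgenL wN hgenN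
      hwL hwN
  refine ⟨Submodule.Quotient.mk
    (Groth.Agent.Lib.Helper26.RefSh.stalkTensor L N (genericPoint X) wL wN), ?_, fun x hdim => ?_⟩
  · intro h0
    exact hw0 (Groth.Agent.Lib.Helper26.RefSh.mk_secFibre_injective _
      (h0.trans (Submodule.Quotient.mk_zero _).symm))
  · have hx := Groth.Agent.Lib.Helper26.RefSh.coheight_eq_one_of_ringKrullDim x hdim
    obtain ⟨tL, hspanL⟩ := Groth.Agent.Lib.Helper26.RefSh.exists_span_of_isInvertible hL x
    obtain ⟨tN, hspanN⟩ := Groth.Agent.Lib.Helper26.RefSh.exists_span_of_isInvertible hN x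
    obtain ⟨φL, hφL, hwLeq, hordL⟩ := Groth.Agent.Lib.Helper26.RefSh.secOrdAt_of_span L hLtf x hx
      (hspec x) tL hspanL wL hwL
    obtain ⟨φN, hφN, hwNeq, hordN⟩ := Groth.Agent.Lib.Helper26.RefSh.secOrdAt_of_span N hNtf x hx
      (hspec x) tN hspanN wN hwN
    have hspanP : Submodule.span (X.presheaf.stalk x)
        {Groth.Agent.Lib.Helper26.RefSh.stalkTensor L N x tL tN} = ⊤ := by
      rw [eq_top_iff]
      intro p _
      obtain ⟨r, rfl⟩ := Groth.Agent.Lib.Helper26.RefSh.exists_smul_stalkTensor L N x tL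
        (fun f => Submodule.mem_span_singleton.mp (by rw [hspanL]; trivial)) tN
        (fun g => Submodule.mem_span_singleton.mp (by rw [hspanN]; trivial)) p
      exact Submodule.smul_mem _ _ (Submodule.mem_span_singleton_self _)
    have hwPeq : Groth.Agent.Lib.Helper26.RefSh.stalkTensor L N (genericPoint X) wL wN =
        (φL * φN) • ((CohB1.tensorMod L N).presheaf.stalkSpecializes (hspec x)).hom
          (Groth.Agent.Lib.Helper26.RefSh.stalkTensor L N x tL tN) := by
      rw [Groth.Agent.Lib.Helper26.RefSh.spec_stalkTensor, mul_smul,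
        ← Groth.Agent.Lib.Helper26.RefSh.stalkTensor_smul_right,
        ← Groth.Agent.Lib.Helper26.RefSh.stalkTensor_smul_left, ← hwLeq, ← hwNeq]
    have hmain := Groth.Agent.Lib.Helper26.RefSh.secOrdAt_eq_of_generator
      (CohB1.tensorMod L N) hPtf x hx (hspec x) _ hspanP (φL * φN)
      (mul_ne_zero hφL hφN) _ hw0 hwPeq
    exact hmain.trans ((Scheme.ord_mul hφL hφN).trans
      (congrArg₂ (fun a b : ℤ => a + b) hordL.symm hordN.symm))

end Groth.Agent.S16092
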