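import Groth.Statements.S16095
-- import your own Groth.Agent.* helpers here
import Groth.Agent.Lib.Helper23.BMPtIso
import Groth.Agent.Lib.Helper23.BMNorm

set_option autoImplicit false
universe u
open CategoryTheory AlgebraicGeometry Opposite
open BMCoh

namespace Groth.Agent.S16095



/-- Let T be a pre-theory (the groups, proper push-forwards and residue maps of a twisted Borel–Moore
cohomology theory, with their conditions) with coefficients in A on a constructible class V of
Noetherian schemes, X an object, w a point of X, Y an integral object identified by e with the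
normalisation of the reduced closure of w, and φ : Y → X the normalisation map followed by the
inclusion of that closure, assumed proper (so that the normalisation map is finite). Let L be a
push-forward datum of groups of points along φ from the generic point of Y to w: maps H^i(η_Y, M(n))
→ H^i(w, M(n)) that, read through nonempty opens of the two reduced closures, are proper
push-forward along the restrictions of φ. Then each map L is bijective. (Only the push-forward
structure of T is used, so the result is stated for a pre-theory; properness of φ is a hypothesis,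
automatic when the closure of w has finite normalisation.) -/
theorem result
    (V : ObjectProperty Scheme.{u}) [BMCoh.IsConstructible V] (R : Type u) [CommRing R]
    (A : BMCoh.Coefs R) (T : BMCoh.PreTheory V R A) (X : BMCoh.Obj V) (w : X.scheme)
    [IsIntegral (X.ptSub w).scheme]
    [QuasiCompact ((X.ptSub w).scheme.fromSpecStalk (genericPoint (X.ptSub w).scheme))]
    [QuasiSeparated ((X.ptSub w).scheme.fromSpecStalk (genericPoint (X.ptSub w).scheme))]
    (Y : BMCoh.Obj V) [IsIntegral Y.scheme] (e : Y.scheme ≅ Curv2.normalization (X.ptSub w).scheme)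
    (φ : Y.scheme ⟶ X.scheme) [IsProper φ]
    (hφ : φ = e.hom ≫ Curv2.normalizationι (X.ptSub w).scheme ≫ X.ptSubι w)
    (L : T.PtPush φ (genericPoint Y.scheme) w) (M : A.Cat) (i n : ℤ) :
    Function.Bijective (L.cpt M i n).hom := by
  open Groth.Agent.Lib.Helper23.BMObj Groth.Agent.Lib.Helper23.BMColim
    Groth.Agent.Lib.Helper23.BMPtMap Groth.Agent.Lib.Helper23.BMPtIso
    Groth.Agent.Lib.Helper23.BMNorm in
  -- the normalisation map is proper, hence of finite type
  have hνφ : Curv2.normalizationι (X.ptSub w).scheme ≫ X.ptSubι w = e.inv ≫ φ := by
    rw [hφ, Iso.inv_hom_id_assoc]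
  haveI : IsProper (Curv2.normalizationι (X.ptSub w).scheme ≫ X.ptSubι w) := by
    rw [hνφ]; infer_instance
  haveI : IsProper (Curv2.normalizationι (X.ptSub w).scheme) :=
    IsProper.of_comp (Curv2.normalizationι (X.ptSub w).scheme) (X.ptSubι w)
  obtain ⟨U, hηU, hisoU⟩ := exists_open_isIso_normalization (X.ptSub w).scheme
  -- the closed immersion of the reduced closure of the generic point of `Y` is an isomorphism
  haveI : IsIso (Y.ptSubι (genericPoint Y.scheme)) := by
    haveI : Surjective (Y.ptSubι (genericPoint Y.scheme)) := by
      constructor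
      rw [← Set.range_eq_univ, range_ptSubι]
      exact (genericPoint_spec Y.scheme).def
    exact isIso_of_isClosedImmersion_of_surjective _
  have hψ : ptMap Y X φ (genericPoint Y.scheme) w L.maps_pt =
      (Y.ptSubι (genericPoint Y.scheme) ≫ e.hom) ≫ Curv2.normalizationι (X.ptSub w).scheme := by
    rw [← cancel_mono (X.ptSubι w), ptMap_fac, hφ]
    simp only [Category.assoc]
  have key : ∀ {A' B' C' : Scheme.{u}} (ψ : A' ⟶ C') (g : A' ⟶ B') (ν : B' ⟶ C') [IsIso g]
      (_ : ψ = g ≫ ν) (W' : C'.Opens) [IsIso (ν ∣_ W')], IsIso (ψ ∣_ W') := by
    intro A' B' C' ψ g ν _ h W' hν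
    subst h
    rw [morphismRestrict_comp]
    have h1 : IsIso (g ∣_ ν ⁻¹ᵁ W') := inferInstance
    exact IsIso.comp_isIso' h1 hν
  refine cpt_bijective_of_isIso Y X φ (genericPoint Y.scheme) w L U hηU ?_ M i n
  intro W' hW'U hηW'
  haveI := hisoU W' hW'U hηW'
  exact key _ _ _ hψ W'

end Groth.Agent.S16095
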