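import Groth.Statements.S16096
-- import your own Groth.Agent.* helpers here
import Groth.Agent.Lib.Helper23.BMPtMap

set_option autoImplicit false
universe u
open CategoryTheory AlgebraicGeometry Opposite
open BMCoh

namespace Groth.Agent.S16096



/-- Let T be a pre-theory (the groups, proper push-forwards and residue maps of a twisted Borel–Moore
cohomology theory, with their conditions) with coefficients in A on a constructible class V of
Noetherian schemes, Y and X objects, φ : Y → X a proper morphism of their schemes, y a point of Y
and x a point of X. A push-forward datum of groups of points along φ from y to x consists of the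
assertions φ(y) = x and dim (closure of y) = dim (closure of x) together with maps H^i(y, M(n)) →
H^i(x, M(n)) for all M, i, n which, read through any nonempty open W of the reduced closure of y,
any nonempty open W' of the reduced closure of x and any proper f : W → W' compatible with φ, are
push-forward along f. Then any two such data are equal. (Properness of φ is essential: along the
spectrum of a transcendental field extension no compatible f exists and the maps are unconstrained.) -/
theorem result
    (V : ObjectProperty Scheme.{u}) [BMCoh.IsConstructible V] (R : Type u) [CommRing R]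
    (A : BMCoh.Coefs R) (T : BMCoh.PreTheory V R A) (Y X : BMCoh.Obj V)
    (φ : Y.scheme ⟶ X.scheme) [IsProper φ] (y : Y.scheme) (x : X.scheme) :
    Subsingleton (T.PtPush φ y x) := by
  open Groth.Agent.Lib.Helper23.BMObj Groth.Agent.Lib.Helper23.BMColim
    Groth.Agent.Lib.Helper23.BMPtMap in
  refine ⟨fun P Q => ?_⟩
  have hcpt : P.cpt = Q.cpt := by
    funext M i n
    apply ocolim_hom_ext T (Y.ptSub y)
      (fun U => (U : Set (Y.ptSub y).scheme).Nonempty) M i n
    intro W
    obtain ⟨W₀, W'₀, hle, f, hf, hfac⟩ := exists_piece Y X φ y x P.maps_pt P.codim_eq W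
    have hw := ocolimι_resLE T (Y.ptSub y)
      (fun U => (U : Set (Y.ptSub y).scheme).Nonempty) M i n (U := W)
      (U' := W₀) hle (W₀.2.2.trans W.2.2.symm)
    rw [← hw, Category.assoc, Category.assoc]
    congr 1
    have hrc : relCodim ((Y.ptSub y).res W₀.1).scheme ((X.ptSub x).res W'₀.1).scheme = 0 := by
      have h1 := P.codim_eq
      have h2 := W₀.2.2
      have h3 := W'₀.2.2
      unfold relCodim at h1 ⊢
      change ((WeilCoh.dim (W'₀.1 : Scheme.{u}) : ℤ)) - (WeilCoh.dim (W₀.1 : Scheme.{u}) : ℤ) = 0
      rw [h2, h3]
      exact h1
    have e1 := P.cpt_spec M i n W₀ W'₀ f hfac (by rw [hrc]; ring) (by rw [hrc]; ring)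
    have e2 := Q.cpt_spec M i n W₀ W'₀ f hfac (by rw [hrc]; ring) (by rw [hrc]; ring)
    exact e1.trans e2.symm
  cases P
  cases Q
  congr

end Groth.Agent.S16096
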