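import Groth.Statements.S16098
import Groth.Agent.Lib.Helper27.FunFld12

set_option autoImplicit false
universe u
open AdFn

namespace Groth.Agent.S16098

/-- Let `K/k` be a function field of one variable (every element having finitely many poles, so that the
diagonal `K → A_K` exists), `A_K = ∏'_v (K_v, O_v)` its adele ring over all places, and `S` a
nonempty set of places. (1) For every adele `a` some `f ∈ K` has `a_v - f ∈ O_v` at every place `v ∉
S`: `A_K` is the sum of the principal adeles and the adeles integral outside `S`. (2) An adele `b`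
with `b_v = 0` for `v ∉ S` is a principal adele plus an everywhere-integral adele exactly when some
`S`-integer `f ∈ K` has `b_v - f ∈ O_v` for every `v ∈ S`. (The published statement is for a curve
over an algebraically closed field, possibly singular; here it is stated for the places of a
function field `K/k` of one variable over any field `k` algebraically closed in `K`.) -/
theorem result (k K : Type u) [Field k] [Field K]
    [Algebra k K] (hK : FunFld.IsFunctionField k K) [AdFn.HasFinitePoles k K]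
    (S : Set (FunFld.Place k K)) (hS : S.Nonempty) :
    (∀ a : AdFn.AdeleRing k K, ∃ f : K, ∀ v : FunFld.Place k K, v ∉ S →
        AdFn.AdeleRing.proj v (a - AdFn.AdeleRing.diag f) ∈ AdFn.Ov v) ∧
    (∀ b : AdFn.AdeleRing k K, (∀ v : FunFld.Place k K, v ∉ S → AdFn.AdeleRing.proj v b = 0) →
        ((∃ f : K, ∀ v : FunFld.Place k K, AdFn.AdeleRing.proj v (b - AdFn.AdeleRing.diag f) ∈ AdFn.Ov v) ↔
          ∃ f ∈ AdFn.SInt S, ∀ v ∈ S, AdFn.AdeleRing.proj v b - AdFn.toKv v f ∈ AdFn.Ov v)) := by
  classical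
  have hdense : ∀ (v : FunFld.Place k K) (y : AdFn.Kv v), ∃ x : K, y - AdFn.toKv v x ∈ AdFn.Ov v := by
    intro v y
    have hopen : IsOpen ((fun z : AdFn.Kv v => z - y) ⁻¹' (AdFn.Ov v : Set (AdFn.Kv v))) :=
      (AdFn.isOpen_Ov v).preimage (continuous_id.sub continuous_const)
    have hne : ((fun z : AdFn.Kv v => z - y) ⁻¹' (AdFn.Ov v : Set (AdFn.Kv v))).Nonempty :=
      ⟨y, by simp [(AdFn.Ov v).zero_mem]⟩
    obtain ⟨a, ha⟩ := UniformSpace.Completion.denseRange_coe.exists_mem_open hopen hne
    refine ⟨a.ofVal, ?_⟩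
    have h1 : AdFn.toKv v a.ofVal = (a : AdFn.Kv v) := rfl
    rw [h1]
    have h2 : y - (a : AdFn.Kv v) = -((a : AdFn.Kv v) - y) := by ring
    rw [h2]; exact (AdFn.Ov v).neg_mem _ ha
  refine ⟨?_, ?_⟩
  · intro a
    obtain ⟨Pinf, hPinf⟩ := hS
    choose α hα using fun v : FunFld.Place k K => hdense v (a.1 v)
    have hfin : {v : FunFld.Place k K | a.1 v ∉ (AdFn.Ov v : Set (AdFn.Kv v))}.Finite :=
      Filter.eventually_cofinite.mp a.2
    have hfinT : ({v : FunFld.Place k K | a.1 v ∉ (AdFn.Ov v : Set (AdFn.Kv v))} \ {Pinf}).Finite :=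
      hfin.subset Set.diff_subset
    obtain ⟨T, hT⟩ : ∃ T : Finset (FunFld.Place k K), ∀ v, v ∈ T ↔
        (a.1 v ∉ (AdFn.Ov v : Set (AdFn.Kv v)) ∧ v ≠ Pinf) :=
      ⟨hfinT.toFinset, fun v => by simp⟩
    obtain ⟨P, hP, hrange⟩ : ∃ P : Fin T.card → FunFld.Place k K, Function.Injective P ∧
        ∀ v, v ∈ Set.range P ↔ v ∈ T := by
      refine ⟨fun i => (T.equivFin.symm i).1, ?_, ?_⟩
      · intro i j hij
        exact T.equivFin.symm.injective (Subtype.ext hij)
      · intro v
        constructor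
        · rintro ⟨i, rfl⟩
          exact (T.equivFin.symm i).2
        · intro hv
          exact ⟨T.equivFin ⟨v, hv⟩, by simp⟩
    have hinf : Pinf ∉ Set.range P := by
      rw [hrange, hT]; exact fun h => h.2 rfl
    obtain ⟨z, hz1, hz2⟩ := Groth.Agent.Lib.Helper27.FF.strong_approx_le hK Pinf P hP hinf
      (fun i => α (P i)) (fun _ => 0)
    refine ⟨z, fun v hv => ?_⟩
    have hvinf : v ≠ Pinf := fun h => hv (h ▸ hPinf)
    rw [map_sub, AdFn.AdeleRing.proj_diag, AdFn.AdeleRing.proj_apply]
    by_cases hvT : v ∈ Set.range P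
    · obtain ⟨i, rfl⟩ := hvT
      have h1 : a.1 (P i) - AdFn.toKv (P i) z =
          (a.1 (P i) - AdFn.toKv (P i) (α (P i))) - AdFn.toKv (P i) (z - α (P i)) := by
        rw [map_sub]; ring
      rw [h1]
      refine (AdFn.Ov (P i)).toSubring.sub_mem (hα (P i)) ?_
      have := hz1 i
      simp only [neg_zero, WithZero.exp_zero] at this
      exact (AdFn.toKv_mem_Ov (P i) _).mpr this
    · have hv1 : a.1 v ∈ AdFn.Ov v := by
        by_contra hcon
        exact hvT ((hrange v).mpr ((hT v).mpr ⟨hcon, hvinf⟩))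
      exact (AdFn.Ov v).toSubring.sub_mem hv1 ((AdFn.toKv_mem_Ov v z).mpr (hz2 v hvinf hvT))
  · intro b hb
    constructor
    · rintro ⟨f, hf⟩
      refine ⟨f, ?_, fun v _ => ?_⟩
      · intro v hv
        have := hf v
        rw [map_sub, hb v hv, zero_sub, AdFn.AdeleRing.proj_diag] at this
        have h2 := (AdFn.Ov v).neg_mem _ this
        rw [neg_neg] at h2
        exact (AdFn.toKv_mem_Ov v f).mp h2
      · have := hf v
        rwa [map_sub, AdFn.AdeleRing.proj_diag] at this
    · rintro ⟨f, hfS, hf⟩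
      refine ⟨f, fun v => ?_⟩
      rw [map_sub, AdFn.AdeleRing.proj_diag]
      by_cases hv : v ∈ S
      · exact hf v hv
      · rw [hb v hv, zero_sub]
        exact (AdFn.Ov v).neg_mem _ ((AdFn.toKv_mem_Ov v f).mpr (hfS v hv))

end Groth.Agent.S16098
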