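import Groth.Statements.S16100
import Groth.Agent.S16099

set_option autoImplicit false
universe u
open AdFn

namespace Groth.Agent.S16100

/-- For a function field `K/k` of one variable of genus `g` and any place `P` with completion `K_P` and
valuation ring `O_P ⊆ K_P`, the `k`-space `K_P / (O_{\{P\}} + O_P)`, where `O_{\{P\}} ⊆ K ⊆ K_P` is
the ring of elements of `K` integral at every place other than `P`, is finite-dimensional of
dimension `g` (the number of Weierstrass gaps when `P` is rational). (The published example is for a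
curve over an algebraically closed field; here any field `k` algebraically closed in `K` and any
place `P` are allowed.) -/
theorem result (k K : Type u) [Field k] [Field K]
    [Algebra k K] (hK : FunFld.IsFunctionField k K) (P : FunFld.Place k K) :
    FiniteDimensional k (AdFn.Kv P ⧸
        (Subalgebra.toSubmodule ((AdFn.SInt ({P} : Set (FunFld.Place k K))).map
            (IsScalarTower.toAlgHom k K (AdFn.Kv P))) ⊔
          Submodule.span k (AdFn.Ov P : Set (AdFn.Kv P)))) ∧
    Module.finrank k (AdFn.Kv P ⧸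
        (Subalgebra.toSubmodule ((AdFn.SInt ({P} : Set (FunFld.Place k K))).map
            (IsScalarTower.toAlgHom k K (AdFn.Kv P))) ⊔
          Submodule.span k (AdFn.Ov P : Set (AdFn.Kv P)))) = FunFld.genus k K := by
  classical
  obtain ⟨hfd, hrk⟩ := Groth.Agent.S16099.result k K hK P
  obtain ⟨φ, hφ⟩ : ∃ φ : K →ₗ[k] AdFn.Kv P, ∀ x, φ x = AdFn.toKv P x :=
    ⟨(IsScalarTower.toAlgHom k K (AdFn.Kv P)).toLinearMap, fun x => rfl⟩
  have hspan : ∀ y : AdFn.Kv P, y ∈ Submodule.span k (AdFn.Ov P : Set (AdFn.Kv P)) →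
      y ∈ AdFn.Ov P := by
    intro y hy
    induction hy using Submodule.span_induction with
    | mem x hx => exact hx
    | zero => exact (AdFn.Ov P).zero_mem
    | add x y _ _ hx hy => exact (AdFn.Ov P).add_mem _ _ hx hy
    | smul c x _ hx =>
      rw [Algebra.smul_def]
      refine (AdFn.Ov P).mul_mem _ _ ?_ hx
      rw [IsScalarTower.algebraMap_apply k K (AdFn.Kv P)]
      exact (AdFn.toKv_mem_Ov P _).mpr (P.2.1 c)
  obtain ⟨U, hU⟩ : ∃ U : Submodule k K,
      U = Subalgebra.toSubmodule (AdFn.SInt ({P} : Set (FunFld.Place k K))) ⊔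
        Subalgebra.toSubmodule (AdFn.SInt (({P} : Set (FunFld.Place k K))ᶜ)) := ⟨_, rfl⟩
  obtain ⟨W, hW⟩ : ∃ W : Submodule k (AdFn.Kv P),
      W = (Subalgebra.toSubmodule ((AdFn.SInt ({P} : Set (FunFld.Place k K))).map
            (IsScalarTower.toAlgHom k K (AdFn.Kv P))) ⊔
          Submodule.span k (AdFn.Ov P : Set (AdFn.Kv P))) := ⟨_, rfl⟩
  rw [← hU] at hfd hrk
  rw [← hW]
  have hcomap : U = W.comap φ := by
    ext x
    rw [Submodule.mem_comap, hU, hW]
    constructor
    · intro hx
      obtain ⟨a, ha, b, hb, rfl⟩ := Submodule.mem_sup.mp hx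
      rw [map_add]
      refine Submodule.add_mem_sup ?_ ?_
      · rw [Subalgebra.mem_toSubmodule, Subalgebra.mem_map]
        exact ⟨a, ha, (hφ a).symm⟩
      · apply Submodule.subset_span
        rw [hφ]
        exact (AdFn.toKv_mem_Ov P b).mpr (hb P (by simp))
    · intro hx
      obtain ⟨a', ha', b', hb', hab⟩ := Submodule.mem_sup.mp hx
      rw [Subalgebra.mem_toSubmodule, Subalgebra.mem_map] at ha'
      obtain ⟨a, ha, rfl⟩ := ha'
      have hb'' := hspan b' hb'
      have h0 : (IsScalarTower.toAlgHom k K (AdFn.Kv P)) a = AdFn.toKv P a := rfl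
      have h1 : b' = AdFn.toKv P (x - a) := by
        rw [map_sub, ← hφ x, ← hab, h0]; ring
      rw [h1, AdFn.toKv_mem_Ov] at hb''
      have h2 : x = a + (x - a) := by ring
      rw [h2]
      refine Submodule.add_mem_sup ha ?_
      intro v hv
      have hvP : v = P := by simpa using hv
      rw [hvP]; exact hb''
  have hsurj : ∀ y : AdFn.Kv P, ∃ x : K, y - φ x ∈ W := by
    intro y
    have hopen : IsOpen ((fun z : AdFn.Kv P => z - y) ⁻¹' (AdFn.Ov P : Set (AdFn.Kv P))) :=
      (AdFn.isOpen_Ov P).preimage (continuous_id.sub continuous_const)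
    have hne : ((fun z : AdFn.Kv P => z - y) ⁻¹' (AdFn.Ov P : Set (AdFn.Kv P))).Nonempty :=
      ⟨y, by simp [(AdFn.Ov P).zero_mem]⟩
    obtain ⟨a, ha⟩ := UniformSpace.Completion.denseRange_coe.exists_mem_open hopen hne
    refine ⟨a.ofVal, ?_⟩
    rw [hW]
    apply Submodule.mem_sup_right
    apply Submodule.subset_span
    have h1 : φ a.ofVal = (a : AdFn.Kv P) := by rw [hφ]; rfl
    rw [h1]
    have h2 : y - (a : AdFn.Kv P) = -((a : AdFn.Kv P) - y) := by ring
    rw [h2]; exact (AdFn.Ov P).neg_mem _ ha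
  obtain ⟨ψ, hψ⟩ : ∃ ψ : (K ⧸ U) →ₗ[k] (AdFn.Kv P ⧸ W),
      ∀ x, ψ (Submodule.Quotient.mk x) = Submodule.Quotient.mk (φ x) :=
    ⟨Submodule.mapQ U W φ hcomap.le, fun x => rfl⟩
  have hψ_inj : Function.Injective ψ := by
    rw [injective_iff_map_eq_zero]
    intro z hz
    obtain ⟨x, rfl⟩ := Submodule.Quotient.mk_surjective U z
    rw [hψ, Submodule.Quotient.mk_eq_zero] at hz
    rw [Submodule.Quotient.mk_eq_zero, hcomap]; exact hz
  have hψ_surj : Function.Surjective ψ := by
    intro z
    obtain ⟨y, rfl⟩ := Submodule.Quotient.mk_surjective W z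
    obtain ⟨x, hx⟩ := hsurj y
    refine ⟨Submodule.Quotient.mk x, ?_⟩
    rw [hψ]
    exact ((Submodule.Quotient.eq W).mpr hx).symm
  haveI := hfd
  exact ⟨LinearEquiv.finiteDimensional (LinearEquiv.ofBijective ψ ⟨hψ_inj, hψ_surj⟩),
    by rw [← hrk]; exact (LinearEquiv.ofBijective ψ ⟨hψ_inj, hψ_surj⟩).symm.finrank_eq⟩

end Groth.Agent.S16100
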