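import Groth.Statements.S16104
import Mathlib
-- import your own Groth.Agent.* helpers here

set_option autoImplicit false
set_option linter.unusedSectionVars false
universe u v
open LunaSt

namespace Groth.Agent.S16104

open IsLocalRing

section Aux

variable {A : Type u} {B : Type v} [CommRing A] [CommRing B] [IsLocalRing A] [IsLocalRing B]
  (φ : A →+* B) [IsLocalHom φ]

theorem map_mem_maximalIdeal {a : A} (ha : a ∈ maximalIdeal A) : φ a ∈ maximalIdeal B := by
  rw [mem_maximalIdeal, mem_nonunits_iff] at ha ⊢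
  intro h
  exact ha (isUnit_of_map_unit φ a h)

theorem mem_maximalIdeal_of_map {a : A} (ha : φ a ∈ maximalIdeal B) : a ∈ maximalIdeal A := by
  rw [mem_maximalIdeal, mem_nonunits_iff] at ha ⊢
  intro h
  exact ha (h.map φ)

theorem map_maximalIdeal_le : (maximalIdeal A).map φ ≤ maximalIdeal B := by
  rw [Ideal.map_le_iff_le_comap]
  intro a ha
  exact map_mem_maximalIdeal φ ha

variable [IsNoetherianRing B]

theorem map_maximalIdeal_eq
    (h1 : Function.Surjective ((Ideal.Quotient.mk (maximalIdeal B ^ 2)).comp φ)) :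
    (maximalIdeal A).map φ = maximalIdeal B := by
  apply le_antisymm (map_maximalIdeal_le φ)
  apply Submodule.le_of_le_smul_of_le_jacobson_bot (I := maximalIdeal B)
    (IsNoetherian.noetherian _)
  · rw [jacobson_eq_maximalIdeal ⊥ bot_ne_top]
  · intro b hb
    obtain ⟨a, ha⟩ := h1 (Ideal.Quotient.mk _ b)
    rw [RingHom.comp_apply, Ideal.Quotient.eq] at ha
    have hsq : maximalIdeal B ^ 2 ≤ maximalIdeal B := Ideal.pow_le_self (by norm_num)
    have hφa : φ a ∈ maximalIdeal B := by
      have := (maximalIdeal B).add_mem (hsq ha) hb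
      rwa [sub_add_cancel] at this
    have haA : a ∈ maximalIdeal A := mem_maximalIdeal_of_map φ hφa
    have hb2 : b = φ a + (-(φ a - b)) := by ring
    rw [hb2]
    apply Submodule.add_mem_sup
    · exact Ideal.mem_map_of_mem φ haA
    · rw [smul_eq_mul, ← sq]
      exact (maximalIdeal B ^ 2).neg_mem ha

theorem exists_sub_mem_pow
    (h1 : Function.Surjective ((Ideal.Quotient.mk (maximalIdeal B ^ 2)).comp φ)) (j : ℕ) :
    ∀ b : B, ∃ a : A, b - φ a ∈ maximalIdeal B ^ (j + 1) := by
  have hsq : maximalIdeal B ^ 2 ≤ maximalIdeal B := Ideal.pow_le_self (by norm_num)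
  have h0 : ∀ b : B, ∃ a : A, b - φ a ∈ maximalIdeal B := by
    intro b
    obtain ⟨a, ha⟩ := h1 (Ideal.Quotient.mk _ b)
    rw [RingHom.comp_apply, Ideal.Quotient.eq] at ha
    refine ⟨a, ?_⟩
    have := (maximalIdeal B).neg_mem (hsq ha)
    rwa [neg_sub] at this
  induction j with
  | zero =>
    intro b
    obtain ⟨a, ha⟩ := h0 b
    exact ⟨a, by rwa [zero_add, pow_one]⟩
  | succ j ih =>
    intro b
    obtain ⟨a, ha⟩ := ih b
    have hmap : maximalIdeal B ^ (j + 1) = (maximalIdeal A ^ (j + 1)).map φ := by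
      rw [Ideal.map_pow, map_maximalIdeal_eq φ h1]
    have key : ∀ c ∈ (maximalIdeal A ^ (j + 1)).map φ,
        ∃ a' : A, c - φ a' ∈ maximalIdeal B ^ (j + 1 + 1) := by
      intro c hc
      refine Submodule.span_induction (p := fun c _ => ∃ a' : A, c - φ a' ∈
        maximalIdeal B ^ (j + 1 + 1)) ?_ ?_ ?_ ?_ hc
      · rintro _ ⟨a', _, rfl⟩
        exact ⟨a', by rw [sub_self]; exact Ideal.zero_mem _⟩
      · exact ⟨0, by rw [map_zero, sub_zero]; exact Ideal.zero_mem _⟩
      · rintro c1 c2 _ _ ⟨a1, h1'⟩ ⟨a2, h2'⟩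
        refine ⟨a1 + a2, ?_⟩
        have : c1 + c2 - φ (a1 + a2) = (c1 - φ a1) + (c2 - φ a2) := by rw [map_add]; ring
        rw [this]
        exact Ideal.add_mem _ h1' h2'
      · rintro r c hc' ⟨a', ha'⟩
        obtain ⟨a'', ha''⟩ := h0 r
        refine ⟨a'' * a', ?_⟩
        have hcm : c ∈ maximalIdeal B ^ (j + 1) := by
          rw [hmap]
          exact hc'
        have : r • c - φ (a'' * a') = (r - φ a'') * c + φ a'' * (c - φ a') := by
          rw [map_mul, smul_eq_mul]; ring
        rw [this]
        apply Ideal.add_mem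
        · rw [pow_succ' (maximalIdeal B) (j + 1)]
          exact Ideal.mul_mem_mul ha'' hcm
        · exact Ideal.mul_mem_left _ _ ha'
    rw [hmap] at ha
    obtain ⟨a', ha'⟩ := key _ ha
    refine ⟨a + a', ?_⟩
    have : b - φ (a + a') = (b - φ a) - φ a' := by rw [map_add]; ring
    rw [this]
    exact ha'

end Aux

section Fin

variable (A : Type u) [CommRing A] [IsLocalRing A] [IsNoetherianRing A]

theorem isArtinianRing_quot (n : ℕ) : IsArtinianRing (A ⧸ maximalIdeal A ^ (n + 1)) := by
  have hne : maximalIdeal A ^ (n + 1) ≠ ⊤ := by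
    intro h
    have h2 : maximalIdeal A ^ (n + 1) ≤ maximalIdeal A := Ideal.pow_le_self (by omega)
    rw [h] at h2
    exact (maximalIdeal.isMaximal A).ne_top (top_le_iff.mp h2)
  have : Nontrivial (A ⧸ maximalIdeal A ^ (n + 1)) := Ideal.Quotient.nontrivial_iff.mpr hne
  have := IsLocalRing.of_surjective' (Ideal.Quotient.mk (maximalIdeal A ^ (n + 1)))
    Ideal.Quotient.mk_surjective
  have := IsLocalHom.of_surjective (Ideal.Quotient.mk (maximalIdeal A ^ (n + 1)))
    Ideal.Quotient.mk_surjective
  rw [isArtinianRing_iff_isNilpotent_maximalIdeal]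
  have hmax : (maximalIdeal A).map (Ideal.Quotient.mk (maximalIdeal A ^ (n + 1))) =
      maximalIdeal (A ⧸ maximalIdeal A ^ (n + 1)) := by
    ext x
    obtain ⟨x, rfl⟩ := Ideal.Quotient.mk_surjective x
    simp [sup_eq_left.mpr (le_maximalIdeal hne)]
  refine ⟨n + 1, ?_⟩
  rw [← hmax, ← Ideal.map_pow, Ideal.zero_eq_bot, Ideal.map_eq_bot_iff_le_ker, Ideal.mk_ker]

end Fin

section Len

variable {A : Type u} {B : Type v} [CommRing A] [CommRing B] (φ : A →+* B) (J : Ideal B)

/-- If `A → B/J` is surjective, the `A`-length of `A/ker` is the `B`-length of `B/J`. -/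
theorem length_quot_ker_gen (hsurj : Function.Surjective ((Ideal.Quotient.mk J).comp φ)) :
    Module.length A (A ⧸ RingHom.ker ((Ideal.Quotient.mk J).comp φ)) =
      Module.length B (B ⧸ J) := by
  let _ : Algebra A (B ⧸ J) := ((Ideal.Quotient.mk J).comp φ).toAlgebra
  have e1 : Module.length A (B ⧸ J) = Module.length (B ⧸ J) (B ⧸ J) :=
    Module.length_eq_of_surjective hsurj
  have e2 : Module.length B (B ⧸ J) = Module.length (B ⧸ J) (B ⧸ J) :=
    Module.length_eq_of_surjective (Ideal.Quotient.mk_surjective (I := J))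
  rw [e2, ← e1]
  have hs : Function.Surjective (Algebra.linearMap A (B ⧸ J)) := hsurj
  have e3 := (LinearMap.quotKerEquivOfSurjective (Algebra.linearMap A (B ⧸ J)) hs).length_eq
  rw [← e3]
  rfl

end Len

theorem length_quot_ker {A : Type u} {B : Type v} [CommRing A] [CommRing B] [IsLocalRing B]
    (φ : A →+* B) (n : ℕ)
    (hsurj : Function.Surjective
      ((Ideal.Quotient.mk (IsLocalRing.maximalIdeal B ^ (n + 1))).comp φ)) :
    Module.length A (A ⧸ RingHom.ker ((Ideal.Quotient.mk (IsLocalRing.maximalIdeal B ^ (n + 1))).comp φ)) =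
      Module.length B (B ⧸ IsLocalRing.maximalIdeal B ^ (n + 1)) :=
  length_quot_ker_gen φ _ hsurj

/-- Case of local rings. Let φ : A → B be a local homomorphism of Noetherian local rings whose composite
A → B/m_B² is surjective (the first infinitesimal neighbourhoods give a closed immersion), and
assume that A/m_A^(n+1) and B/m_B^(n+1) have the same length for every n (the associated graded
modules of the two maximal ideals have pieces of the same dimension over the common residue field).
Then for every n the composite A → B/m_B^(n+1) is surjective with kernel m_A^(n+1): φ identifies all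
infinitesimal neighbourhoods. (The published statement is for a pointed morphism of Noetherian local
algebraic stacks; its proof reduces to this case of local rings.) -/
theorem result
    (A : Type u) (B : Type v) [CommRing A] [CommRing B] [IsLocalRing A] [IsLocalRing B]
    [IsNoetherianRing A] [IsNoetherianRing B] (φ : A →+* B) [IsLocalHom φ]
    (h1 : Function.Surjective ((Ideal.Quotient.mk (IsLocalRing.maximalIdeal B ^ 2)).comp φ))
    (hlen : ∀ n : ℕ, Module.length A (A ⧸ IsLocalRing.maximalIdeal A ^ (n + 1)) =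
      Module.length B (B ⧸ IsLocalRing.maximalIdeal B ^ (n + 1))) (n : ℕ) :
    Function.Surjective ((Ideal.Quotient.mk (IsLocalRing.maximalIdeal B ^ (n + 1))).comp φ) ∧
      RingHom.ker ((Ideal.Quotient.mk (IsLocalRing.maximalIdeal B ^ (n + 1))).comp φ) =
        IsLocalRing.maximalIdeal A ^ (n + 1) := by
  have hsurj : Function.Surjective
      ((Ideal.Quotient.mk (IsLocalRing.maximalIdeal B ^ (n + 1))).comp φ) := by
    intro y
    obtain ⟨b, rfl⟩ := Ideal.Quotient.mk_surjective y
    obtain ⟨a, ha⟩ := exists_sub_mem_pow φ h1 n b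
    refine ⟨a, ?_⟩
    rw [RingHom.comp_apply, Ideal.Quotient.eq]
    have := Submodule.neg_mem _ ha
    rwa [neg_sub] at this
  refine ⟨hsurj, ?_⟩
  apply le_antisymm
  · -- kernel ≤ m^(n+1) by comparing lengths
    set Kn : Ideal A := RingHom.ker ((Ideal.Quotient.mk (IsLocalRing.maximalIdeal B ^ (n + 1))).comp φ)
      with hKn
    have hle : IsLocalRing.maximalIdeal A ^ (n + 1) ≤ Kn := by
      intro x hx
      rw [hKn, RingHom.mem_ker, RingHom.comp_apply, Ideal.Quotient.eq_zero_iff_mem]
      have h2 : (IsLocalRing.maximalIdeal A ^ (n + 1)).map φ ≤ IsLocalRing.maximalIdeal B ^ (n + 1) := by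
        rw [Ideal.map_pow]
        exact Ideal.pow_right_mono (map_maximalIdeal_le φ) _
      exact h2 (Ideal.mem_map_of_mem φ hx)
    have key := length_quot_ker φ n hsurj
    by_contra hcon
    have hne : Submodule.map (Submodule.mkQ (IsLocalRing.maximalIdeal A ^ (n + 1))) Kn ≠ ⊥ := by
      intro h0
      apply hcon
      intro x hx
      have : Submodule.mkQ (IsLocalRing.maximalIdeal A ^ (n + 1)) x ∈
          Submodule.map (Submodule.mkQ (IsLocalRing.maximalIdeal A ^ (n + 1))) Kn :=
        Submodule.mem_map_of_mem hx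
      rw [h0, Submodule.mem_bot, Submodule.mkQ_apply, Submodule.Quotient.mk_eq_zero] at this
      exact this
    have hA := isArtinianRing_quot A n
    have hArt : IsArtinian A (A ⧸ IsLocalRing.maximalIdeal A ^ (n + 1)) :=
      isArtinian_of_surjective_algebraMap
        (Ideal.Quotient.mk_surjective (I := IsLocalRing.maximalIdeal A ^ (n + 1)))
    have hlt := Submodule.length_quotient_lt (R := A)
      (Submodule.map (Submodule.mkQ (IsLocalRing.maximalIdeal A ^ (n + 1))) Kn) hne
    rw [(Submodule.quotientQuotientEquivQuotient _ _ hle).length_eq, key, ← hlen n] at hlt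
    exact lt_irrefl _ hlt
  · intro x hx
    rw [RingHom.mem_ker, RingHom.comp_apply, Ideal.Quotient.eq_zero_iff_mem]
    have h2 : (IsLocalRing.maximalIdeal A ^ (n + 1)).map φ ≤ IsLocalRing.maximalIdeal B ^ (n + 1) := by
      rw [Ideal.map_pow]
      exact Ideal.pow_right_mono (map_maximalIdeal_le φ) _
    exact h2 (Ideal.mem_map_of_mem φ hx)

end Groth.Agent.S16104
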