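import Groth.Statements.S16124
import Groth.Agent.S2324
import Groth.Agent.Lib.Helper3.RelAmpleLib

set_option autoImplicit false
universe u
open CategoryTheory MonoidalCategory CartesianMonoidalCategory MonObj GrpObj AlgebraicGeometry CategoryTheory.Limits
open AlgGrp

namespace Groth.Agent.S16124

open Groth.Agent.Lib.Helper3 in
open InvGen InvTensor InvAmple RelAmpleLib TopologicalSpace in

/-- Over an algebraically closed field k, let X be a quasi-projective variety (a reduced separated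
k-scheme, quasi-projective over k) with an action of a finite group Γ by k-automorphisms. Then X is
covered by Γ-stable affine open subschemes: every point x of X lies in an affine open U with σ⁻¹(U)
= U for every σ in Γ. -/
theorem result (k : Type u) [Field k] [IsAlgClosed k]
    (X : Over (Spec (CommRingCat.of k))) [IsReduced X.left] [IsSeparated X.hom] (hX : RelProj.IsQuasiProjective X.hom)
    (Γgrp : Type u) [Group Γgrp] [Finite Γgrp] (ρ : Γgrp →* Aut X.left)
    (hρ : ∀ σ : Γgrp, (ρ σ).hom ≫ X.hom = X.hom) (x : ↥X.left) :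
    ∃ U : X.left.Opens, x ∈ U ∧ IsAffineOpen U ∧ ∀ σ : Γgrp, (ρ σ).hom ⁻¹ᵁ U = U := by
  classical
  obtain ⟨hlft, hqc, L, hL⟩ := hX
  haveI := hqc
  have hA : CohB1.IsAmple L := (isRelAmple_iff_isAmple_of_isAffine X.hom L).mp hL
  haveI : CompactSpace X.left := hA.2.1
  haveI : X.left.IsSeparated := isSeparated_of_isAmple hA
  obtain ⟨n, s, hZs, -, haff⟩ := Groth.Agent.S2324.result X.left L hA
    (Set.range (fun σ : Γgrp => (ρ σ).hom x)) (Set.finite_range _) ⊤ (Set.subset_univ _)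
  haveI := Fintype.ofFinite Γgrp
  have hmul : ∀ (σ τ : Γgrp) (y : X.left), (ρ (σ * τ)).hom y = (ρ σ).hom ((ρ τ).hom y) := by
    intro σ τ y
    rw [map_mul, Aut.Aut_mul_def]
    rfl
  have hmem : ∀ y : X.left, y ∈ Finset.univ.inf (fun σ : Γgrp => (ρ σ).hom ⁻¹ᵁ CohB1.genLocus _ s) ↔
      ∀ σ : Γgrp, (ρ σ).hom y ∈ CohB1.genLocus _ s := by
    intro y
    rw [← SetLike.mem_coe, Opens.coe_finset_inf]
    simp
  refine ⟨Finset.univ.inf (fun σ : Γgrp => (ρ σ).hom ⁻¹ᵁ CohB1.genLocus _ s), ?_, ?_, ?_⟩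
  · rw [hmem]
    exact fun σ => hZs ⟨σ, rfl⟩
  · rw [← Finset.inf'_eq_inf (⟨1, Finset.mem_univ 1⟩ : (Finset.univ : Finset Γgrp).Nonempty)]
    refine Finset.inf'_induction _ _ (fun a ha b hb => ha.inf hb) (fun σ _ => ?_)
    exact haff.preimage_of_isIso (ρ σ).hom
  · intro τ
    ext y
    have h1 : (y ∈ ((ρ τ).hom ⁻¹ᵁ (Finset.univ.inf
      (fun σ : Γgrp => (ρ σ).hom ⁻¹ᵁ CohB1.genLocus _ s)))) ↔
        (∀ σ : Γgrp, (ρ σ).hom ((ρ τ).hom y) ∈ CohB1.genLocus _ s) := hmem ((ρ τ).hom y)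
    have h2 := hmem y
    refine Iff.trans h1 (Iff.trans ?_ h2.symm)
    constructor
    · intro h σ
      have := h (σ * τ⁻¹)
      rwa [← hmul, inv_mul_cancel_right] at this
    · intro h σ
      rw [← hmul]
      exact h _

end Groth.Agent.S16124
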