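import Groth.Statements.S16137
-- import your own Groth.Agent.* helpers here
import Groth.Agent.Lib.Helper23.GeomConn

set_option autoImplicit false
universe u
open CategoryTheory CategoryTheory.Limits AlgebraicGeometry
open VBCurve

namespace Groth.Agent.S16137

/-- Let k be an algebraically closed field of characteristic zero and X a smooth proper geometrically
connected curve over k (topological dimension one) of genus at least 2 (the text's standing setting:
a smooth projective complex curve of genus at least 2). Let 0 → F → E → G → 0 be a short exact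
sequence of O_X-modules in which E is finite locally free of rank r ≥ 1 and slope-stable (deg F' · r
< deg E · r' for every finite locally free submodule F' of E of rank r' with 0 < r' < r). Then
Hom(G, F) = 0: every morphism from the quotient G to the submodule F is zero. (The published
statement writes the conclusion as h^0(G^* ⊗ F) = 0.) -/
theorem result (k : Type u) [Field k] [IsAlgClosed k] [CharZero k]
    (X : Scheme.{u}) [X.Over (Spec (CommRingCat.of k))]
    [IsProper (X ↘ Spec (CommRingCat.of k))] [Smooth (X ↘ Spec (CommRingCat.of k))]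
    [GeometricallyConnected (X ↘ Spec (CommRingCat.of k))] (hdim : topologicalKrullDim ↥X = 1)
    (hg : 2 ≤ Curv2.genus k X)
    (T : ShortComplex X.Modules) (hT : T.ShortExact)
    (r : ℕ) (hr : 0 < r) (hE : FlatMod.IsFinLocFreeOfRank r T.X₂)
    (hst : ModFun.IsSlopeStable k X T.X₂ r)
    (φ : T.X₃ ⟶ T.X₁) : φ = 0 := by
  haveI : IsIntegral X :=
    Groth.Agent.Lib.Helper23.GeomConn.isIntegral_of_geomConnected_smooth k X
  haveI := hT.mono_f
  haveI := hT.epi_g
  have hst' : ∀ (G : X.Modules) (s : ℕ) (ι : G ⟶ T.X₂), Mono ι → FlatMod.IsFinLocFreeOfRank s G →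
      0 < s → s < r → Curv2.deg k X G s * (r : ℤ) < Curv2.deg k X T.X₂ r * (s : ℤ) :=
    fun G s ι hι hG h0 hs => hst G s ι hι h0 hs hG
  have hψ : T.g ≫ φ ≫ T.f = 0 := by
    by_contra hne
    haveI : IsIso (T.g ≫ φ ≫ T.f) :=
      Groth.Agent.Lib.Helper23.StableEnd.isIso_of_stable k hdim.le r T.X₂ hE hst' _ hne
    haveI : Mono T.g := mono_of_mono T.g (φ ≫ T.f)
    have hf0 : T.f = 0 := by
      have : T.f ≫ T.g = 0 ≫ T.g := by rw [T.zero, zero_comp]
      exact (cancel_mono T.g).1 this
    apply hne
    rw [hf0, comp_zero, comp_zero]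
  have h1 : φ ≫ T.f = 0 := by
    have : T.g ≫ (φ ≫ T.f) = T.g ≫ 0 := by rw [hψ, comp_zero]
    exact (cancel_epi T.g).1 this
  have : φ ≫ T.f = 0 ≫ T.f := by rw [h1, zero_comp]
  exact (cancel_mono T.f).1 this

end Groth.Agent.S16137
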