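import Groth.Statements.S16148
-- import your own Groth.Agent.* helpers here
import Groth.Agent.S2927
import Groth.Agent.S2935
import Groth.Agent.S2357
import Groth.Agent.Lib.Helper23.TopSupp
import Groth.Agent.Lib.Helper17.CohStalk
import Groth.Agent.Lib.Helper1.MaxAnnInt

set_option autoImplicit false
universe u
open CategoryTheory CategoryTheory.Limits AlgebraicGeometry
open Variety

namespace Groth.Agent.S16148

/-- Let k be a characteristic-zero algebraically closed field and G a coherent O-module (quasi-coherent
of finite type) on projective n-space P^n_k whose support, as a subspace of P^n_k, has Krull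
dimension a with a ≥ 1. Then there is an integer m such that H^a(P^n_k, G(m)) ≠ 0, where G(m) = G ⊗
O(m). (The source works over the complex numbers.) -/
theorem result (k : Type u) [Field k] [IsAlgClosed k] [CharZero k]
    (n : ℕ) (G : (CohB1.ProjSpace n k).Modules) (hG : Coh.IsCoh G) (a : ℕ) (ha : 1 ≤ a)
    (hdim : topologicalKrullDim ↥(CohB1.support G) = a) :
    ∃ m : ℤ, Nontrivial (Coh.HH (CohB1.ProjSpace n k) (CohB1.tensorMod G (Twist.twistProjSpace n k m)) a) := by
  classical
  haveI : IsNoetherian (CohB1.ProjSpace n k) := Groth.Agent.S2357.result (CohB1.polyGrading n k)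
  haveI : G.IsQuasicoherent := hG.1
  haveI : G.IsFiniteType := hG.2
  have hcl : IsClosed (CohB1.support G) := Groth.Agent.Lib.Helper1.MaxAnnInt.isClosed_support G
  by_contra hcon
  push_neg at hcon
  have hsub : ∀ m : ℤ, Subsingleton (Coh.HH (CohB1.ProjSpace n k)
      (CohB1.tensorMod G (Twist.twistProjSpace n k m)) a) :=
    fun m => hcon m
  have h1 := (Groth.Agent.S2927.result k n G hG a).mp ⟨0, fun m _ => hsub (-m)⟩
  obtain ⟨x, hx, hxY, hsd⟩ :=
    Groth.Agent.Lib.Helper23.TopSupp.exists_closed_supportDim G hcl a hdim
  haveI : Module.Finite ((CohB1.ProjSpace n k).presheaf.stalk x) (G.presheaf.stalk x) :=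
    Groth.Agent.Lib.Helper17.CohStalk.finite_stalk G x
  haveI : Nontrivial (G.presheaf.stalk x) := not_subsingleton_iff_nontrivial.mp hxY
  have h2 := Groth.Agent.S2935.result ((CohB1.ProjSpace n k).presheaf.stalk x)
    (G.presheaf.stalk x) a hsd
  have h3 := h1 x hx
  exact not_subsingleton _ h3

end Groth.Agent.S16148
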