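import Groth.Statements.S1615
-- import your own Groth.Agent.* helpers here

set_option autoImplicit false
universe u
open CategoryTheory CategoryTheory.Limits AlgebraicGeometry
open Constr

namespace Groth.Agent.S1615

/-- For a graded ring A, quasi-compactness of Proj A is equivalent to the existence of finitely many
homogeneous elements of positive degree generating an ideal whose radical contains the irrelevant
ideal A_+. -/
theorem result {R A : Type u} [CommRing R] [CommRing A] [Algebra R A] (𝒜 : ℕ → Submodule R A) [GradedAlgebra 𝒜] :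
    CompactSpace ↥(Proj 𝒜) ↔ ∃ s : Finset A, (∀ f ∈ s, ∃ d : ℕ, 0 < d ∧ f ∈ 𝒜 d) ∧
      (HomogeneousIdeal.irrelevant 𝒜).toIdeal ≤ (Ideal.span (s : Set A)).radical := by
  classical
  constructor
  · intro hc
    -- choose for each point a homogeneous element of positive degree
    have hex : ∀ x : Proj 𝒜, ∃ (i : ℕ) (s : A), 0 < i ∧ s ∈ 𝒜 i ∧ x ∈ Proj.basicOpen 𝒜 s := by
      intro x
      have h := x.not_irrelevant_le
      rw [HomogeneousIdeal.irrelevant_le] at h
      push Not at h
      obtain ⟨i, hi, hle⟩ := h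
      obtain ⟨s, hs, hsx⟩ := SetLike.not_le_iff_exists.1 hle
      exact ⟨i, s, hi, hs, hsx⟩
    choose d s hd hs hxs using hex
    obtain ⟨t, ht⟩ := isCompact_univ.elim_finite_subcover
      (fun x : Proj 𝒜 => ((Proj.basicOpen 𝒜 (s x) : (Proj 𝒜).Opens) : Set (Proj 𝒜)))
      (fun x => (Proj.basicOpen 𝒜 (s x)).isOpen)
      (fun x _ => Set.mem_iUnion.mpr ⟨x, hxs x⟩)
    refine ⟨t.image s, ?_, ?_⟩
    · intro f hf
      rw [Finset.mem_image] at hf
      obtain ⟨x, _, rfl⟩ := hf
      exact ⟨d x, hd x, hs x⟩
    · intro a ha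
      rw [Ideal.radical_eq_sInf, Ideal.mem_sInf]
      rintro q ⟨hq, hqp⟩
      by_contra haq
      have hle : ¬ (HomogeneousIdeal.irrelevant 𝒜).toIdeal ≤ q := fun h => haq (h ha)
      let y : Proj 𝒜 :=
        { asHomogeneousIdeal := q.homogeneousCore 𝒜
          isPrime := hqp.homogeneousCore
          not_irrelevant_le := fun hle' => hle fun _ hx =>
            Ideal.toIdeal_homogeneousCore_le 𝒜 q (hle' hx) }
      have hy := ht (Set.mem_univ y)
      simp only [Set.mem_iUnion] at hy
      obtain ⟨x, hxt, hyx⟩ := hy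
      apply hyx
      change s x ∈ q.homogeneousCore 𝒜
      apply Ideal.mem_homogeneousCore_of_homogeneous_of_mem ⟨d x, hs x⟩
      apply hq
      apply Ideal.subset_span
      simp only [Finset.coe_image, Set.mem_image, Finset.mem_coe]
      exact ⟨x, hxt, rfl⟩
  · rintro ⟨s, hs, hrad⟩
    rw [← isCompact_univ_iff]
    have hcov : (Set.univ : Set (Proj 𝒜)) = ⋃ f ∈ s, ((Proj.basicOpen 𝒜 f : (Proj 𝒜).Opens) : Set (Proj 𝒜)) := by
      symm
      rw [Set.eq_univ_iff_forall]
      intro x
      by_contra hx
      simp only [Set.mem_iUnion, not_exists] at hx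
      apply x.not_irrelevant_le
      refine hrad.trans ?_
      have hxp : x.asHomogeneousIdeal.toIdeal.IsPrime := x.isPrime
      rw [hxp.radical_le_iff, Ideal.span_le]
      intro f hf
      by_contra hfx
      exact hx f hf hfx
    rw [hcov]
    apply s.isCompact_biUnion
    intro f hf
    obtain ⟨d, hd, hfd⟩ := hs f hf
    exact (Proj.isAffineOpen_basicOpen 𝒜 f hfd hd).isCompact

end Groth.Agent.S1615
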