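import Groth.Statements.S16155
import Mathlib
-- import your own Groth.Agent.* helpers here

set_option autoImplicit false
universe u
open MukaiVec

namespace Groth.Agent.S16155

/-- Let N be an abelian group with a symmetric integer-valued bilinear form (an intersection form) and
H₁ an element such that every x with x·H₁ = 0 satisfies x·x ≤ 0 (the Hodge index inequality for an
ample class). Write Mukai vectors as triples v = (r, ξ, a), u = (p, η, q) with middle entry in N and
pairing ⟨v, u⟩ = ξ·η − rq − ap. Suppose r > 0, p > 0, u is isotropic (η·η = 2pq), the H₁-slopes of u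
and v agree ((rη − pξ)·H₁ = 0) and ⟨v, v⟩ = ξ·ξ − 2ra > 4r. Then ⟨v, u⟩ > 2p; in particular ⟨v, u⟩
is neither 1 nor 2. -/
theorem result
    (N : Type u) [AddCommGroup N] (B : LinearMap.BilinForm ℤ N) (hB : ∀ x y : N, B x y = B y x)
    (H₁ : N) (hodge : ∀ x : N, B x H₁ = 0 → B x x ≤ 0)
    (r a p q : ℤ) (ξ η : N) (hr : 0 < r) (hp : 0 < p)
    (hiso : B η η = 2 * p * q) (hslope : B (r • η - p • ξ) H₁ = 0)
    (hvv : 4 * r < B ξ ξ - 2 * r * a) :
    2 * p < B ξ η - r * q - a * p := by
  have h1 := hodge (r • η - p • ξ) hslope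
  have h2 : B (r • η - p • ξ) (r • η - p • ξ) =
      r * r * B η η - 2 * r * p * B ξ η + p * p * B ξ ξ := by
    simp only [map_sub, map_smul, LinearMap.sub_apply, LinearMap.smul_apply, smul_eq_mul]
    rw [hB η ξ]
    ring
  rw [h2, hiso] at h1
  -- h1 : r*r*(2*p*q) - 2*r*p*B ξ η + p*p*B ξ ξ ≤ 0
  have h3 : r * (2 * r * q) - 2 * r * B ξ η + p * B ξ ξ ≤ 0 := by
    by_contra hcon
    push Not at hcon
    have := mul_pos hp hcon
    nlinarith
  -- p * B ξ ξ > p * (4 r + 2 r a)
  have h4 : p * (4 * r + 2 * r * a) < p * B ξ ξ := by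
    apply mul_lt_mul_of_pos_left _ hp
    linarith
  have h5 : 0 < r * (2 * B ξ η - 2 * r * q - 4 * p - 2 * a * p) := by nlinarith
  have h6 : 0 < 2 * B ξ η - 2 * r * q - 4 * p - 2 * a * p := by
    by_contra hcon
    push Not at hcon
    have := mul_nonpos_of_nonneg_of_nonpos hr.le hcon
    linarith
  linarith

end Groth.Agent.S16155
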