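import Groth.Statements.S16156
import Mathlib

set_option autoImplicit false
universe u
open MukaiVec

namespace Groth.Agent.S16156

theorem key_pos (n d t e m w : ℤ) (hn : 1 ≤ n) (hd : 1 ≤ d) (ht : 1 ≤ t) (hD : 4 * m ≤ t ^ 2)
    (he : e ≤ 2) (hw : 2 ≤ w) (hnm : 1 ≤ m → n ≤ m)
    (hex : ¬ (d = 1 ∧ t = 1 ∧ e = 2 ∧ m = 0)) :
    0 < n * ((d * t) * (d * t - 2 * e)) + n * d ^ 2 * (t ^ 2 - 4 * m) + w * t ^ 2 := by
  have hn0 : (0:ℤ) ≤ n := by linarith
  have h1 : 0 ≤ n * d ^ 2 * (t ^ 2 - 4 * m) :=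
    mul_nonneg (mul_nonneg hn0 (sq_nonneg d)) (by linarith)
  have h2 : 2 ≤ w * t ^ 2 := by nlinarith
  by_cases hu : 0 ≤ (d * t) * (d * t - 2 * e)
  · have := mul_nonneg hn0 hu
    linarith
  · push Not at hu
    have hdt : 1 ≤ d * t := by nlinarith
    have hu3 : d * t ≤ 3 := by
      by_contra h
      push Not at h
      have : 0 ≤ (d * t) * (d * t - 2 * e) := mul_nonneg (by linarith) (by linarith)
      linarith
    have hd3 : d ≤ 3 := by nlinarith
    have ht3 : t ≤ 3 := by nlinarith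
    have hcases : (d = 1 ∧ t = 1) ∨ (d = 1 ∧ t = 2) ∨ (d = 1 ∧ t = 3) ∨ (d = 2 ∧ t = 1) ∨
        (d = 3 ∧ t = 1) := by
      interval_cases d <;> interval_cases t <;> simp_all
    rcases hcases with ⟨rfl, rfl⟩ | ⟨rfl, rfl⟩ | ⟨rfl, rfl⟩ | ⟨rfl, rfl⟩ | ⟨rfl, rfl⟩
    · -- d = 1, t = 1
      have hm : m ≤ 0 := by omega
      have he12 : e = 1 ∨ e = 2 := by omega
      rcases he12 with rfl | rfl
      · nlinarith [mul_nonneg hn0 (by linarith : (0:ℤ) ≤ -m)]
      · have hm1 : m ≤ -1 := by
          by_contra h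
          exact hex ⟨rfl, rfl, rfl, by omega⟩
        nlinarith [mul_nonneg hn0 (by linarith : (0:ℤ) ≤ -1 - m)]
    · -- d = 1, t = 2
      have he2 : e = 2 := by omega
      subst he2
      have hm : m ≤ 1 := by omega
      rcases le_or_gt m 0 with hm0 | hm0
      · nlinarith [mul_nonneg hn0 (by linarith : (0:ℤ) ≤ -m)]
      · have hm1 : m = 1 := by omega
        subst hm1
        have := hnm le_rfl
        have hn1 : n = 1 := by omega
        subst hn1
        linarith
    · -- d = 1, t = 3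
      have he2 : e = 2 := by omega
      subst he2
      have hm : m ≤ 2 := by omega
      rcases le_or_gt m 1 with hm0 | hm0
      · nlinarith [mul_nonneg hn0 (by linarith : (0:ℤ) ≤ 1 - m)]
      · have hm1 : m = 2 := by omega
        subst hm1
        have := hnm (by norm_num)
        linarith
    · -- d = 2, t = 1
      have he2 : e = 2 := by omega
      subst he2
      have hm : m ≤ 0 := by omega
      nlinarith [mul_nonneg hn0 (by linarith : (0:ℤ) ≤ -m)]
    · -- d = 3, t = 1
      have he2 : e = 2 := by omega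
      subst he2
      have hm : m ≤ 0 := by omega
      nlinarith [mul_nonneg hn0 (by linarith : (0:ℤ) ≤ -m)]

theorem key (n d t e m w : ℤ) (hn : 1 ≤ n) (hd : 1 ≤ d) (ht : t ≠ 0) (hD : 4 * m ≤ t ^ 2)
    (he : e ≤ 2) (he' : -2 ≤ e) (hw : 2 ≤ w) (hnm : 1 ≤ m → n ≤ m)
    (hex : ¬ (d = 1 ∧ t = 1 ∧ e = 2 ∧ m = 0))
    (hex' : ¬ (d = 1 ∧ t = -1 ∧ e = -2 ∧ m = 0)) :
    0 < n * ((d * t) * (d * t - 2 * e)) + n * d ^ 2 * (t ^ 2 - 4 * m) + w * t ^ 2 := by
  rcases lt_or_gt_of_ne ht with h | h
  · have := key_pos n d (-t) (-e) m w hn hd (by omega) (by nlinarith) (by omega) hw hnm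
      (by
        rintro ⟨h1, h2, h3, h4⟩
        exact hex' ⟨h1, by omega, by omega, h4⟩)
    nlinarith
  · exact key_pos n d t e m w hn hd (by omega) hD he hw hnm hex

theorem aux (n r d χ p q t : ℤ) (hn : 0 < n) (hr : 2 ≤ r) (hd : 0 < d) (hχ : χ < 0) (hp : 0 ≤ p)
    (hD : 4 * (n * (p * q)) ≤ t ^ 2)
    (he1 : 1 ≤ |d * t - r * q - χ * p|) (he2 : |d * t - r * q - χ * p| ≤ 2)
    (hexc : ¬ (d = 1 ∧ χ = -1 ∧ t = 1 ∧ 2 * p * q = 0))
    (hr2 : r = 2 → ¬ (p = 0 ∧ t = 0)) :
    (0 ≤ 2 * n * d * p - r * t ↔ 0 ≤ χ * t - 2 * n * d * q) := by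
  obtain ⟨e, he⟩ : ∃ e, e = d * t - r * q - χ * p := ⟨_, rfl⟩
  rw [← he] at he1 he2
  have hele := abs_le.mp he2
  by_cases ht : t = 0
  · subst ht
    have ha : 0 ≤ 2 * n * d * p - r * 0 := by
      have : 0 ≤ 2 * n * d * p := by positivity
      linarith
    have hq : q ≤ 0 := by
      by_contra hq
      push Not at hq
      rcases hp.eq_or_lt with hp0 | hp0
      · -- p = 0
        subst hp0
        have he' : e = - (r * q) := by rw [he]; ring
        rw [he'] at he2 hele
        have hrq : r * q ≤ 2 := by linarith [hele.1]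
        have hq1 : q = 1 := by nlinarith
        subst hq1
        have : r = 2 := by linarith
        exact hr2 this ⟨rfl, rfl⟩
      · have : 0 < n * (p * q) := by positivity
        nlinarith
    have hb : 0 ≤ χ * 0 - 2 * n * d * q := by
      have : 0 ≤ 2 * n * d * (-q) := by
        have : 0 ≤ -q := by linarith
        positivity
      linarith
    exact ⟨fun _ => hb, fun _ => ha⟩
  · have hw : 2 ≤ -(r * χ) := by nlinarith
    have hnm : 1 ≤ n * (p * q) → n ≤ n * (p * q) := by
      intro h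
      have : 1 ≤ p * q := by
        by_contra h'
        push Not at h'
        nlinarith
      nlinarith
    have hpq : n * (p * q) = 0 → p = 0 ∨ q = 0 := by
      intro h
      rcases mul_eq_zero.mp h with h | h
      · omega
      · exact mul_eq_zero.mp h
    have hex : ¬ (d = 1 ∧ t = 1 ∧ e = 2 ∧ n * (p * q) = 0) := by
      rintro ⟨rfl, rfl, h3, h4⟩
      rw [h3] at he
      have hsum : r * q + χ * p = -1 := by linarith
      rcases hpq h4 with rfl | rfl
      · have hrq : r * q = -1 := by linarith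
        rcases le_or_gt 0 q with hq | hq
        · nlinarith
        · nlinarith
      · have hχp : χ * p = -1 := by linarith
        have hp1 : p = 1 := by
          rcases hp.eq_or_lt with hp0 | hp0
          · rw [← hp0] at hχp; norm_num at hχp
          · by_contra hne
            have : 2 ≤ p := by omega
            nlinarith
        subst hp1
        exact hexc ⟨rfl, by linarith, rfl, by ring⟩
    have hex' : ¬ (d = 1 ∧ t = -1 ∧ e = -2 ∧ n * (p * q) = 0) := by
      rintro ⟨rfl, rfl, h3, h4⟩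
      rw [h3] at he
      have hsum : r * q + χ * p = 1 := by linarith
      rcases hpq h4 with rfl | rfl
      · have hrq : r * q = 1 := by linarith
        rcases le_or_gt q 0 with hq | hq
        · nlinarith
        · nlinarith
      · have hχp : χ * p = 1 := by linarith
        nlinarith
    have hkey := key n d t e (n * (p * q)) (-(r * χ)) hn hd ht hD hele.2 hele.1 hw hnm hex hex'
    have hid : (2 * n * d * p - r * t) * (χ * t - 2 * n * d * q) =
        n * ((d * t) * (d * t - 2 * e)) + n * d ^ 2 * (t ^ 2 - 4 * (n * (p * q))) +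
          (-(r * χ)) * t ^ 2 := by
      rw [he]; ring
    rw [← hid] at hkey
    constructor
    · intro h
      by_contra h'
      push Not at h'
      nlinarith
    · intro h
      by_contra h'
      push Not at h'
      nlinarith

theorem hodge_ineq (N : Type u) [AddCommGroup N] (B : LinearMap.BilinForm ℤ N)
    (hB : ∀ x y : N, B x y = B y x)
    (H : N) (n : ℤ) (hn : 0 < n) (hH : B H H = 2 * n) (hodge : ∀ x : N, B x H = 0 → B x x ≤ 0)
    (η : N) : 2 * n * B η η ≤ (B H η) ^ 2 := by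
  have h0 : B ((2 * n) • η - (B H η) • H) H = 0 := by
    simp only [map_sub, map_smul, LinearMap.sub_apply, LinearMap.smul_apply, smul_eq_mul, hH,
      hB η H]
    ring
  have h1 := hodge _ h0
  simp only [map_sub, map_smul, LinearMap.sub_apply, LinearMap.smul_apply, smul_eq_mul, hH,
    hB η H] at h1
  by_contra h
  push Not at h
  have := mul_pos hn (sub_pos.mpr h)
  nlinarith

/-- Let N be an abelian group with a symmetric integer-valued bilinear form and H an element with H·H =
2n for some n > 0 such that every x with x·H = 0 satisfies x·x ≤ 0 (the Hodge index inequality). Fix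
integers r ≥ 2, d > 0 and χ < 0 (a Mukai vector v = (r, dH, χ)) and an isotropic Mukai vector u =
(p, η, q), p ≥ 0, η ∈ N, η·η = 2pq, whose pairing ⟨v, u⟩ = d(H·η) − rq − χp has absolute value 1 or
2. Exclude the case d = 1, χ = −1, H·η = 1, η·η = 0, and when r = 2 also the case p = 0, H·η = 0.
Then the pairings of u∨ = (p, −η, q) with w₀ = (0, rH, −2nd) and with w₁ = (2nd, −χH, 0) are both
non-negative or both negative: 2ndp − r(H·η) ≥ 0 holds if and only if χ(H·η) − 2ndq ≥ 0 holds. -/
theorem result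
    (N : Type u) [AddCommGroup N] (B : LinearMap.BilinForm ℤ N) (hB : ∀ x y : N, B x y = B y x)
    (H : N) (n : ℤ) (hn : 0 < n) (hH : B H H = 2 * n) (hodge : ∀ x : N, B x H = 0 → B x x ≤ 0)
    (r d χ p q : ℤ) (η : N) (hr : 2 ≤ r) (hd : 0 < d) (hχ : χ < 0) (hp : 0 ≤ p)
    (hiso : B η η = 2 * p * q)
    (hvu : 1 ≤ |d * B H η - r * q - χ * p| ∧ |d * B H η - r * q - χ * p| ≤ 2)
    (hexc : ¬ (d = 1 ∧ χ = -1 ∧ B H η = 1 ∧ B η η = 0))
    (hr2 : r = 2 → ¬ (p = 0 ∧ B H η = 0)) :
    (0 ≤ 2 * n * d * p - r * B H η ↔ 0 ≤ χ * B H η - 2 * n * d * q) := by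
  have hD := hodge_ineq N B hB H n hn hH hodge η
  rw [hiso] at hD hexc
  obtain ⟨t, ht⟩ : ∃ t, t = B H η := ⟨_, rfl⟩
  rw [← ht] at hD hexc hvu hr2 ⊢
  exact aux n r d χ p q t hn hr hd hχ hp (by nlinarith) hvu.1 hvu.2 hexc hr2

end Groth.Agent.S16156
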