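import Groth.Statements.S16158
import Mathlib

set_option autoImplicit false
universe u v w
open MadRed

namespace Groth.Agent.S16158


open Submodule in
lemma card_le_of_ann (R : Type u) [CommRing R] (M : Type v) [AddCommGroup M] [Module R M]
    {ι : Type w} [DecidableEq ι] (N : ι → Submodule R M) (hN : iSupIndep N)
    (p : Ideal R) [p.IsPrime] (G : Finset (torsionBySet R M (p : Set R)))
    (hG : span R (G : Set (torsionBySet R M (p : Set R))) = ⊤)
    (F : Finset ι) (x : ι → M) (hx : ∀ i ∈ F, x i ∈ N i ∧ ∀ r : R, r ∈ p ↔ r • x i = 0) :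
    F.card ≤ G.card := by
  classical
  have hmem : ∀ i : F, x i.1 ∈ torsionBySet R M (p : Set R) := by
    intro i
    rw [mem_torsionBySet_iff]
    rintro ⟨a, ha⟩
    exact ((hx i.1 i.2).2 a).mp ha
  let v : F → torsionBySet R M (p : Set R) := fun i => ⟨x i.1, hmem i⟩
  have hli : LinearIndependent (R ⧸ p) v := by
    rw [Fintype.linearIndependent_iff]
    intro g hg i₀
    choose r hr using fun i => Ideal.Quotient.mk_surjective (g i)
    have hsum : ∑ i : F, r i • x i.1 = 0 := by
      have h1 : ∑ i : F, r i • v i = 0 := by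
        rw [← hg]
        refine Finset.sum_congr rfl fun i _ => ?_
        rw [← hr i, torsionBySet.mk_smul]
      have h2 := congrArg (Submodule.subtype _) h1
      rw [map_sum, map_zero] at h2
      simpa [v] using h2
    have hi0 : r i₀ • x i₀.1 = 0 := by
      have hsplit := Finset.add_sum_erase Finset.univ (fun i : F => r i • x i.1)
        (Finset.mem_univ i₀)
      rw [hsum] at hsplit
      have heq : r i₀ • x i₀.1 = -∑ i ∈ Finset.univ.erase i₀, r i • x i.1 :=
        eq_neg_of_add_eq_zero_left hsplit
      have hd := hN i₀.1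
      refine Submodule.disjoint_def.mp hd _ (Submodule.smul_mem _ _ (hx i₀.1 i₀.2).1) ?_
      rw [heq]
      refine Submodule.neg_mem _ (Submodule.sum_mem _ fun i hi => ?_)
      have hne : i.1 ≠ i₀.1 := fun h => (Finset.mem_erase.mp hi).1 (Subtype.ext h)
      exact Submodule.mem_iSup_of_mem i.1 (Submodule.mem_iSup_of_mem hne
        (Submodule.smul_mem _ _ (hx i.1 i.2).1))
    rw [← hr i₀, Ideal.Quotient.eq_zero_iff_mem]
    exact ((hx i₀.1 i₀.2).2 _).mpr hi0
  have hG' : span (R ⧸ p) (G : Set (torsionBySet R M (p : Set R))) = ⊤ := by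
    rw [eq_top_iff]
    intro y _
    have : y ∈ span R (G : Set (torsionBySet R M (p : Set R))) := by rw [hG]; trivial
    exact Submodule.span_le_restrictScalars R (R ⧸ p) _ this
  have := linearIndependent_le_span_finset v hli G hG'
  rw [Cardinal.mk_fintype, Fintype.card_coe] at this
  exact_mod_cast this

/-- Let R be a commutative Noetherian ring and M a finitely generated R-module. Then there is a natural
number n such that in every decomposition of M as an internal direct sum of a family of submodules,
at most n of the summands are nonzero (the nonzero summands are indexed by a finite set of size at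
most n). -/
theorem result (R : Type u) [CommRing R] [IsNoetherianRing R]
    (M : Type v) [AddCommGroup M] [Module R M] [Module.Finite R M] :
    ∃ n : ℕ, ∀ (ι : Type w) [DecidableEq ι] (N : ι → Submodule R M), DirectSum.IsInternal N →
      ∃ s : Finset ι, s.card ≤ n ∧ ∀ i, N i ≠ ⊥ → i ∈ s := by
  classical
  have hfin : (associatedPrimes R M).Finite := associatedPrimes.finite R M
  have hG : ∀ p : Ideal R, ∃ G : Finset (Submodule.torsionBySet R M (p : Set R)),
      Submodule.span R (G : Set (Submodule.torsionBySet R M (p : Set R))) = ⊤ := fun p =>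
    (Module.Finite.fg_top (R := R) (M := Submodule.torsionBySet R M (p : Set R)))
  choose G hGspan using hG
  refine ⟨∑ p ∈ hfin.toFinset, (G p).card, ?_⟩
  intro ι _ N hN
  have hind : iSupIndep N := hN.submodule_iSupIndep
  have hex : ∀ i, ∃ (p : Ideal R) (x : M), N i ≠ ⊥ →
      (p ∈ associatedPrimes R M ∧ x ∈ N i ∧ ∀ r : R, r ∈ p ↔ r • x = 0) := by
    intro i
    by_cases hi : N i = ⊥
    · exact ⟨⊥, 0, fun h => absurd hi h⟩
    haveI : Nontrivial (N i) := Submodule.nontrivial_iff_ne_bot.mpr hi
    obtain ⟨p, hp⟩ := associatedPrimes.nonempty R (N i)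
    have hpM : p ∈ associatedPrimes R M :=
      associatedPrimes.subset_of_injective (f := (N i).subtype) (Submodule.subtype_injective _) hp
    obtain ⟨hprime, x, hx⟩ := (isAssociatedPrime_iff).mp hp
    refine ⟨p, x.1, fun _ => ⟨hpM, x.2, fun r => ?_⟩⟩
    rw [hx, Submodule.mem_colon_singleton, Submodule.mem_bot]
    constructor
    · intro h; simpa using congrArg Subtype.val h
    · intro h; exact Subtype.ext (by simpa using h)
  choose P X hPX using hex
  have claim : ∀ F : Finset ι, (∀ i ∈ F, N i ≠ ⊥) →
      F.card ≤ ∑ p ∈ hfin.toFinset, (G p).card := by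
    intro F hF
    have hmaps : (F : Set ι).MapsTo P hfin.toFinset := by
      intro i hi
      exact hfin.mem_toFinset.mpr (hPX i (hF i hi)).1
    rw [Finset.card_eq_sum_card_fiberwise hmaps]
    refine Finset.sum_le_sum fun p hp => ?_
    haveI : p.IsPrime := (hfin.mem_toFinset.mp hp).isPrime
    refine card_le_of_ann R M N hind p (G p) (hGspan p) _ X ?_
    intro i hi
    obtain ⟨hiF, hip⟩ := Finset.mem_filter.mp hi
    obtain ⟨-, h2, h3⟩ := hPX i (hF i hiF)
    exact ⟨h2, by rw [← hip]; exact h3⟩
  have hJ : {i | N i ≠ ⊥}.Finite := by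
    by_contra hinf
    obtain ⟨t, ht, htc⟩ := Set.Infinite.exists_subset_card_eq hinf
      (∑ p ∈ hfin.toFinset, (G p).card + 1)
    have := claim t (fun i hi => ht hi)
    omega
  refine ⟨hJ.toFinset, claim _ (fun i hi => hJ.mem_toFinset.mp hi), fun i hi =>
    hJ.mem_toFinset.mpr hi⟩

end Groth.Agent.S16158
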