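import Groth.Statements.S1616
import Groth.Agent.Lib.Helper3.VAComp

set_option autoImplicit false
universe u
open CategoryTheory CategoryTheory.Limits AlgebraicGeometry
open Constr

namespace Groth.Agent.S1616

open Groth.Agent.Lib.Helper3 VAComp QProj in

/-- For any scheme S and n, m ≥ 0 there is a closed immersion from P^n_S ×_S P^m_S into P^{nm+n+m}_S
compatible with the projections to S. -/
theorem result (S : Scheme.{u}) (n m : ℕ) :
    ∃ φ : pullback (CohB1.ProjSpaceOver.toBase n S) (CohB1.ProjSpaceOver.toBase m S) ⟶ CohB1.ProjSpaceOver (n * m + n + m) S,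
      IsClosedImmersion φ ∧ φ ≫ CohB1.ProjSpaceOver.toBase (n * m + n + m) S =
        pullback.fst (CohB1.ProjSpaceOver.toBase n S) (CohB1.ProjSpaceOver.toBase m S) ≫ CohB1.ProjSpaceOver.toBase n S := by
  let g : Limits.pullback (CohB1.ProjSpace.toSpec m (ULift.{u} ℤ)) (specULiftZIsTerminal.from S) ⟶ S :=
    pullback.snd _ _
  let sn : Limits.pullback (CohB1.ProjSpace.toSpec n (ULift.{u} ℤ)) (specULiftZIsTerminal.from S) ⟶ S :=
    pullback.snd _ _
  let q : Limits.pullback sn g ⟶
      Limits.pullback (CohB1.ProjSpace.toSpec m (ULift.{u} ℤ)) (specULiftZIsTerminal.from S) :=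
    pullback.snd sn g
  have hgS : g ≫ specULiftZIsTerminal.from S = specULiftZIsTerminal.from
      (Limits.pullback (CohB1.ProjSpace.toSpec m (ULift.{u} ℤ)) (specULiftZIsTerminal.from S)) :=
    specULiftZIsTerminal.hom_ext _ _
  let i₁ : Limits.pullback sn g ⟶ Limits.pullback (CohB1.ProjSpace.toSpec n (ULift.{u} ℤ))
      (specULiftZIsTerminal.from
        (Limits.pullback (CohB1.ProjSpace.toSpec m (ULift.{u} ℤ)) (specULiftZIsTerminal.from S))) :=
    pullback.lift (pullback.fst sn g ≫ pullback.fst _ _) (pullback.snd sn g)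
      (specULiftZIsTerminal.hom_ext _ _)
  haveI : IsIso i₁ := isIso_pbLift (CohB1.ProjSpace.toSpec n (ULift.{u} ℤ))
    (specULiftZIsTerminal.from S) _ g hgS
  have h₁ : i₁ ≫ pullback.snd _ _ = q := pullback.lift_snd _ _ _
  obtain ⟨φ, hφ, hφ2⟩ := exists_immersion_comp q g n m i₁ h₁ (𝟙 _) (Category.id_comp _)
  haveI : IsImmersion φ := hφ
  haveI : IsProper (φ ≫ pullback.snd (CohB1.ProjSpace.toSpec (n * m + n + m) (ULift.{u} ℤ))
      (specULiftZIsTerminal.from S)) := by rw [hφ2]; infer_instance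
  haveI : UniversallyClosed φ := UniversallyClosed.of_comp_of_isSeparated φ
    (pullback.snd (CohB1.ProjSpace.toSpec (n * m + n + m) (ULift.{u} ℤ))
      (specULiftZIsTerminal.from S))
  have h3 : IsClosedImmersion φ :=
    IsClosedImmersion.of_isPreimmersion φ φ.isClosedMap.isClosed_range
  refine ⟨φ, h3, ?_⟩
  change φ ≫ pullback.snd _ _ = pullback.fst sn g ≫ sn
  rw [hφ2]
  exact pullback.condition.symm

end Groth.Agent.S1616
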