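import Groth.Statements.S16160
import Groth.Agent.Lib.Helper19.SimDiag
import Groth.Agent.Lib.Helper19.Reynolds

set_option autoImplicit false
universe u v w
open scoped TensorProduct
open MadRed

namespace Groth.Agent.S16160

open TensorProduct Coalgebra
open Groth.Agent.Lib.Helper19.Reynolds

section Aux

variable {k : Type u} [Field k] {A : Type v} [CommRing A] [HopfAlgebra k A]
  {R : Type w} [CommRing R] [Algebra k R]

/-- the `k`-linear map `x ⊗ y ↦ g y ⊗ x` -/
noncomputable def Psi (g : A →ₐ[k] R) : A ⊗[k] A →ₗ[k] R ⊗[k] A :=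
  (TensorProduct.map g.toLinearMap LinearMap.id) ∘ₗ (TensorProduct.comm k A A).toLinearMap

lemma Psi_tmul (g : A →ₐ[k] R) (x y : A) : Psi g (x ⊗ₜ[k] y) = g y ⊗ₜ[k] x := rfl

lemma ptAct_one_tmul (g : A →ₐ[k] R) (a : A) :
    MadRed.ptAct k A R g ((1 : R) ⊗ₜ[k] a) = Psi g (Coalgebra.comul (R := k) a) := by
  have h1 : MadRed.ptAct k A R g ((1 : R) ⊗ₜ[k] a) = MadRed.translAux k A R g a := by
    unfold MadRed.ptAct
    rw [Algebra.TensorProduct.lift_tmul, map_one, one_mul]
  rw [h1]
  have h2 : ∀ t : A ⊗[k] A, (Algebra.TensorProduct.map g (AlgHom.id k A))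
      ((Algebra.TensorProduct.comm k A A).toAlgHom t) = Psi g t := by
    intro t
    induction t using TensorProduct.induction_on with
    | zero => simp
    | tmul x y => rfl
    | add x y hx hy => simp only [map_add, hx, hy]
  exact h2 _

lemma ptAct_tmul (g : A →ₐ[k] R) (r : R) (a : A) :
    MadRed.ptAct k A R g (r ⊗ₜ[k] a) = r • Psi g (Coalgebra.comul (R := k) a) := by
  have hr : r ⊗ₜ[k] a = r • ((1 : R) ⊗ₜ[k] a) := by
    rw [TensorProduct.smul_tmul', smul_eq_mul, mul_one]
  rw [hr, map_smul, ptAct_one_tmul]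

lemma ptAct_comp (g h : A →ₐ[k] R) (v : R ⊗[k] A) :
    MadRed.ptAct k A R g (MadRed.ptAct k A R h v) =
      MadRed.ptAct k A R (WithConv.toConv g * WithConv.toConv h).ofConv v := by
  induction v using TensorProduct.induction_on with
  | zero => simp only [map_zero]
  | add x y hx hy => simp only [map_add, hx, hy]
  | tmul r a =>
    rw [ptAct_tmul h, ptAct_tmul _ r a, map_smul]
    congr 1
    let 𝓡 := ℛ k a
    let a₁ := fun i => ℛ k (𝓡.left i)
    let a₂ := fun i => ℛ k (𝓡.right i)
    let Φ : A ⊗[k] (A ⊗[k] A) →ₗ[k] R ⊗[k] A :=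
      (TensorProduct.comm k A R).toLinearMap ∘ₗ
        (TensorProduct.map LinearMap.id
          (LinearMap.mul' k R ∘ₗ TensorProduct.map g.toLinearMap h.toLinearMap))
    have hΦ : ∀ x y z : A, Φ (x ⊗ₜ[k] (y ⊗ₜ[k] z)) = (g y * h z) ⊗ₜ[k] x := fun x y z => rfl
    have key := congrArg Φ (Coalgebra.sum_tmul_tmul_eq 𝓡 a₁ a₂)
    simp only [map_sum, hΦ] at key
    rw [← 𝓡.eq, map_sum, map_sum, map_sum]
    calc ∑ i ∈ 𝓡.index, MadRed.ptAct k A R g (Psi h (𝓡.left i ⊗ₜ[k] 𝓡.right i))
        = ∑ i ∈ 𝓡.index, ∑ j ∈ (a₁ i).index,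
            (g ((a₁ i).right j) * h (𝓡.right i)) ⊗ₜ[k] (a₁ i).left j := by
          refine Finset.sum_congr rfl fun i _ => ?_
          rw [Psi_tmul, ptAct_tmul, ← (a₁ i).eq, map_sum, Finset.smul_sum]
          refine Finset.sum_congr rfl fun j _ => ?_
          rw [Psi_tmul, TensorProduct.smul_tmul', smul_eq_mul, mul_comm]
      _ = ∑ i ∈ 𝓡.index, ∑ j ∈ (a₂ i).index,
            (g ((a₂ i).left j) * h ((a₂ i).right j)) ⊗ₜ[k] 𝓡.left i := key
      _ = ∑ i ∈ 𝓡.index, Psi (WithConv.toConv g * WithConv.toConv h).ofConv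
            (𝓡.left i ⊗ₜ[k] 𝓡.right i) := by
          refine Finset.sum_congr rfl fun i _ => ?_
          rw [Psi_tmul, ← TensorProduct.sum_tmul]
          congr 1
          have h3 := Coalgebra.Repr.convMul_apply (a₂ i)
            (WithConv.toConv g.toLinearMap) (WithConv.toConv h.toLinearMap)
          exact h3.symm

lemma exists_stable (v : R ⊗[k] A) : ∃ W : Submodule R (R ⊗[k] A), v ∈ W ∧ W.FG ∧
    ∀ g : A →ₐ[k] R, ∀ w ∈ W, MadRed.ptAct k A R g w ∈ W := by
  induction v using TensorProduct.induction_on with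
  | zero =>
    refine ⟨⊥, Submodule.zero_mem _, Submodule.fg_bot, fun g w hw => ?_⟩
    rw [(Submodule.mem_bot R).mp hw, map_zero]
    exact Submodule.zero_mem _
  | add x y hx hy =>
    obtain ⟨W₁, h1, h2, h3⟩ := hx
    obtain ⟨W₂, h4, h5, h6⟩ := hy
    refine ⟨W₁ ⊔ W₂, Submodule.add_mem _ (Submodule.mem_sup_left h1) (Submodule.mem_sup_right h4),
      h2.sup h5, fun g w hw => ?_⟩
    obtain ⟨w₁, hw₁, w₂, hw₂, rfl⟩ := Submodule.mem_sup.mp hw
    rw [map_add]
    exact Submodule.add_mem _ (Submodule.mem_sup_left (h3 g w₁ hw₁))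
      (Submodule.mem_sup_right (h6 g w₂ hw₂))
  | tmul r a =>
    let U : Submodule k A := gen (K := k) (C := A) a
    haveI : FiniteDimensional k U := finiteDimensional_gen a
    have hUsub : HopfRep.IsSubcomod (k := k) (A := A) U := isSubcomod_gen a
    obtain ⟨S, hS⟩ : U.FG := (Submodule.fg_iff_finiteDimensional U).mpr inferInstance
    let W : Submodule R (R ⊗[k] A) :=
      Submodule.span R ((fun u : A => (1 : R) ⊗ₜ[k] u) '' (S : Set A))
    have hU1 : ∀ u ∈ U, (1 : R) ⊗ₜ[k] u ∈ W := by
      intro u hu
      rw [← hS] at hu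
      induction hu using Submodule.span_induction with
      | mem x hx => exact Submodule.subset_span ⟨x, hx, rfl⟩
      | zero => rw [TensorProduct.tmul_zero]; exact Submodule.zero_mem _
      | add x y _ _ hx hy => rw [TensorProduct.tmul_add]; exact Submodule.add_mem _ hx hy
      | smul c x _ hx =>
        rw [TensorProduct.tmul_smul, ← algebraMap_smul R c]
        exact Submodule.smul_mem _ _ hx
    refine ⟨W, ?_, Submodule.fg_span ((S.finite_toSet).image _), ?_⟩
    · have hr : r ⊗ₜ[k] a = r • ((1 : R) ⊗ₜ[k] a) := by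
        rw [TensorProduct.smul_tmul', smul_eq_mul, mul_one]
      rw [hr]
      exact Submodule.smul_mem _ _ (hU1 a (mem_gen a))
    · intro g w hw
      have hPsi : ∀ t : U ⊗[k] A, Psi g (U.subtype.rTensor A t) ∈ W := by
        intro t
        induction t using TensorProduct.induction_on with
        | zero => rw [map_zero, map_zero]; exact Submodule.zero_mem _
        | add x y hx hy => rw [map_add, map_add]; exact Submodule.add_mem _ hx hy
        | tmul u a' =>
          rw [LinearMap.rTensor_tmul, Submodule.subtype_apply, Psi_tmul]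
          have h1 : g a' ⊗ₜ[k] (u : A) = g a' • ((1 : R) ⊗ₜ[k] (u : A)) := by
            rw [TensorProduct.smul_tmul', smul_eq_mul, mul_one]
          rw [h1]
          exact Submodule.smul_mem _ _ (hU1 u u.2)
      induction hw using Submodule.span_induction with
      | mem x hx =>
        obtain ⟨s, hs, rfl⟩ := hx
        have hsU : s ∈ U := by
          rw [← hS]
          exact Submodule.subset_span hs
        obtain ⟨t, ht⟩ := hUsub s hsU
        rw [ptAct_one_tmul]
        have ht' : U.subtype.rTensor A t = Coalgebra.comul (R := k) s := ht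
        rw [← ht']
        exact hPsi t
      | zero => rw [map_zero]; exact Submodule.zero_mem _
      | add x y _ _ hx hy => rw [map_add]; exact Submodule.add_mem _ hx hy
      | smul c x _ hx => rw [map_smul]; exact Submodule.smul_mem _ _ hx

end Aux

/-- Let k be a field, G = Spec A an affine k-group with A a commutative Hopf algebra over k, and R a
commutative Noetherian k-algebra, so that R ⊗ A is the coordinate ring of the base change G_R and
the k-algebra maps A → R are its R-valued points. Let H be a set of R-valued points which pairwise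
commute for the convolution product of G(R) (the case of an abelian subgroup of G(R)). If every g in
H is diagonalizable over k on R ⊗ A, meaning that the eigenspaces of right translation by g, for
eigenvalues in k, span R ⊗ A, then H is simultaneously diagonalizable over k on R ⊗ A: the common
eigenspaces of the right translations by all g in H span R ⊗ A. The standing assumptions of the
source at this point (k algebraically closed of characteristic zero, G reductive) are not used. -/
theorem result (k : Type u) [Field k]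
    (A : Type v) [CommRing A] [HopfAlgebra k A] (R : Type w) [CommRing R] [Algebra k R]
    [IsNoetherianRing R] (H : Set (A →ₐ[k] R))
    (hcomm : ∀ g ∈ H, ∀ h ∈ H,
      WithConv.toConv g * WithConv.toConv h = WithConv.toConv h * WithConv.toConv g)
    (hdiag : ∀ g ∈ H, ⨆ μ : k,
      Module.End.eigenspace (((MadRed.ptAct k A R g).toLinearMap).restrictScalars k) μ = ⊤) :
    ⨆ χ : H → k, ⨅ g : H,
      Module.End.eigenspace (((MadRed.ptAct k A R g.1).toLinearMap).restrictScalars k) (χ g) = ⊤ := by
  classical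
  let f : H → Module.End R (R ⊗[k] A) := fun g => (MadRed.ptAct k A R g.1).toLinearMap
  have hc : ∀ i j : H, Commute (f i) (f j) := by
    intro i j
    show f i * f j = f j * f i
    apply LinearMap.ext
    intro v
    show MadRed.ptAct k A R i.1 (MadRed.ptAct k A R j.1 v) =
      MadRed.ptAct k A R j.1 (MadRed.ptAct k A R i.1 v)
    rw [ptAct_comp, ptAct_comp, hcomm i.1 i.2 j.1 j.2]
  exact Groth.Agent.Lib.Helper19.SimDiag.iSup_iInf_eigenspace_eq_top_of_locallyFinite
    k R (R ⊗[k] A) H f hc (fun i => hdiag i.1 i.2)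
    (fun v => by
      obtain ⟨W, h1, h2, h3⟩ := exists_stable (k := k) (A := A) (R := R) v
      exact ⟨W, h1, h2, fun i w hw => h3 i.1 w hw⟩)

end Groth.Agent.S16160
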