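import Groth.Statements.S16161
import Mathlib
-- import your own Groth.Agent.* helpers here

set_option autoImplicit false
universe u v
open MadRed

namespace Groth.Agent.S16161

open Polynomial in
theorem ker_aeval_prod {k : Type u} [Field k] {V : Type v} [AddCommGroup V] [Module k V]
    (f : Module.End k V) (s : Finset k) :
    LinearMap.ker (aeval f (∏ μ ∈ s, (X - C μ))) = ⨆ μ ∈ s, Module.End.eigenspace f μ := by
  classical
  induction s using Finset.induction_on with
  | empty =>
    simp only [Finset.prod_empty, map_one, Finset.notMem_empty, iSup_false, iSup_bot]
    rw [LinearMap.ker_eq_bot]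
    exact fun x y h => h
  | insert a s ha ih =>
    have hcop : IsCoprime (X - C a) (∏ μ ∈ s, (X - C μ)) := by
      apply IsCoprime.prod_right
      intro μ hμ
      apply isCoprime_X_sub_C_of_isUnit_sub
      rw [isUnit_iff_ne_zero, sub_ne_zero]
      rintro rfl
      exact ha hμ
    rw [Finset.prod_insert ha, ← sup_ker_aeval_eq_ker_aeval_mul_of_coprime f hcop, ih,
      Finset.iSup_insert]
    congr 1
    rw [Module.End.eigenspace_def]
    simp [Algebra.algebraMap_eq_smul_one]

/-- Let k be an algebraically closed field of characteristic zero and R a reduced finitely generated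
commutative k-algebra whose spectrum is connected (R has no idempotents besides 0 and 1); let W =
R^n be a free R-module of finite rank and g an R-linear endomorphism of W of finite order, g^m = 1
with m > 0 (an element of finite order of GL(W)(R)). Then the action of g on W is diagonalizable
over k: viewing g as a k-linear map, its eigenspaces for eigenvalues in k span W. The source also
assumes that g is diagonalizable over k on every fibre W ⊗ k(x), x a point of Spec R; for g of
finite order this holds automatically (k is algebraically closed of characteristic zero), as the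
source itself notes, so that hypothesis is omitted. -/
theorem result
    (k : Type u) [Field k] [IsAlgClosed k] [CharZero k]
    (R : Type v) [CommRing R] [Algebra k R] [IsReduced R] [Algebra.FiniteType k R]
    (hconn : ∀ e : R, IsIdempotentElem e → e = 0 ∨ e = 1)
    (n : ℕ) (g : Module.End R (Fin n → R)) (m : ℕ) (hm : 0 < m) (hg : g ^ m = 1) :
    ⨆ μ : k, Module.End.eigenspace (g.restrictScalars k) μ = ⊤ := by
  have hm0 : NeZero (m : k) := ⟨by exact_mod_cast hm.ne'⟩
  obtain ⟨ζ, hζ⟩ := HasEnoughRootsOfUnity.exists_primitiveRoot k m
  have hpow : (g.restrictScalars k) ^ m = 1 := by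
    apply LinearMap.ext
    intro w
    have h1 := congrArg (fun φ : Module.End R (Fin n → R) => φ w) hg
    simp only [Module.End.pow_apply, Module.End.one_apply] at h1 ⊢
    exact h1
  have hker : LinearMap.ker (Polynomial.aeval (g.restrictScalars k)
      (∏ μ ∈ Polynomial.nthRootsFinset m (1 : k), (Polynomial.X - Polynomial.C μ))) = ⊤ := by
    rw [← Polynomial.X_pow_sub_one_eq_prod hm hζ]
    simp [hpow]
  rw [ker_aeval_prod] at hker
  rw [eq_top_iff, ← hker]
  exact iSup₂_le fun μ _ => le_iSup (fun μ => Module.End.eigenspace (g.restrictScalars k) μ) μ

end Groth.Agent.S16161
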