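import Groth.Statements.S16170
import Mathlib
-- import your own Groth.Agent.* helpers here

set_option autoImplicit false
set_option linter.unusedSectionVars false
open Neron

namespace Groth.Agent.S16170

open Matrix

section Aux

variable {ι : Type} [Fintype ι] [DecidableEq ι]

theorem dot_symm (A : Matrix ι ι ℤ) (hA : A.IsSymm) (u v : ι → ℤ) :
    u ⬝ᵥ A *ᵥ v = v ⬝ᵥ A *ᵥ u := by
  rw [dotProduct_mulVec, ← mulVec_transpose, hA.eq, dotProduct_comm]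

/-- The core statement: in the situation of the theorem, `χ₁ * χ₂ = 0`. -/
theorem mul_eq_zero_aux (M N χ₁ χ₂ : Matrix ι ι ℤ) (hM : M.IsSymm) (hN : N.IsSymm)
    (hMpos : ∀ v : ι → ℤ, 0 ≤ v ⬝ᵥ M.mulVec v) (hNpos : ∀ v : ι → ℤ, 0 ≤ v ⬝ᵥ N.mulVec v)
    (hpos : ∀ v : ι → ℤ, v ≠ 0 → 0 < v ⬝ᵥ (M + N).mulVec v)
    (hsum : χ₁ + χ₂ = 1) (hrel : M * χ₂ = N * χ₁) : χ₁ * χ₂ = 0 := by
  set S := M + N with hS
  have hSsymm : S.IsSymm := hM.add hN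
  have hcomm : χ₁ * χ₂ = χ₂ * χ₁ := by
    have h2 : χ₂ = 1 - χ₁ := eq_sub_of_add_eq' hsum
    rw [h2, mul_sub, sub_mul, mul_one, one_mul]
  have F1 : S * χ₁ = M := by
    rw [hS, add_mul, ← hrel, ← mul_add, hsum, mul_one]
  have F1' : S * χ₂ = N := by
    rw [hS, add_mul, hrel, ← mul_add, hsum, mul_one]
  -- inner product
  let ip : (ι → ℤ) → (ι → ℤ) → ℤ := fun u v => u ⬝ᵥ S *ᵥ v
  have ip_symm : ∀ u v, ip u v = ip v u := fun u v => dot_symm S hSsymm u v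
  have ip_add_left : ∀ u v w, ip (u + v) w = ip u w + ip v w := fun u v w => add_dotProduct _ _ _
  have ip_add_right : ∀ u v w, ip u (v + w) = ip u v + ip u w := fun u v w => by
    change u ⬝ᵥ S *ᵥ (v + w) = _
    rw [mulVec_add, dotProduct_add]
  have ip_χ₁_right : ∀ u v, ip u (χ₁ *ᵥ v) = u ⬝ᵥ M *ᵥ v := fun u v => by
    change u ⬝ᵥ S *ᵥ (χ₁ *ᵥ v) = _
    rw [mulVec_mulVec, F1]
  have ip_χ₂_right : ∀ u v, ip u (χ₂ *ᵥ v) = u ⬝ᵥ N *ᵥ v := fun u v => by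
    change u ⬝ᵥ S *ᵥ (χ₂ *ᵥ v) = _
    rw [mulVec_mulVec, F1']
  have adj₁ : ∀ u v, ip (χ₁ *ᵥ u) v = ip u (χ₁ *ᵥ v) := fun u v => by
    rw [ip_symm, ip_χ₁_right, ip_χ₁_right, dot_symm M hM]
  have adj₂ : ∀ u v, ip (χ₂ *ᵥ u) v = ip u (χ₂ *ᵥ v) := fun u v => by
    rw [ip_symm, ip_χ₂_right, ip_χ₂_right, dot_symm N hN]
  have q_nonneg : ∀ u, 0 ≤ ip u u := fun u => by
    by_cases hu : u = 0
    · subst hu
      change 0 ≤ (0 : ι → ℤ) ⬝ᵥ _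
      rw [zero_dotProduct]
    · exact (hpos u hu).le
  have q_eq_zero : ∀ u, ip u u = 0 → u = 0 := fun u hu => by
    by_contra hne
    exact (hpos u hne).ne' hu
  have split : ∀ u : ι → ℤ, χ₁ *ᵥ u + χ₂ *ᵥ u = u := fun u => by
    rw [← add_mulVec, hsum, one_mulVec]
  set B := χ₁ * χ₂ with hB
  have B₁ : ∀ u, B *ᵥ u = χ₁ *ᵥ (χ₂ *ᵥ u) := fun u => by rw [mulVec_mulVec]
  have B₂ : ∀ u, B *ᵥ u = χ₂ *ᵥ (χ₁ *ᵥ u) := fun u => by rw [mulVec_mulVec, ← hcomm]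
  -- ⟨u, B u⟩ ≥ 0
  have ipB_nonneg : ∀ u, 0 ≤ ip u (B *ᵥ u) := fun u => by
    have e : B *ᵥ u = χ₁ *ᵥ (χ₂ *ᵥ (χ₁ *ᵥ u)) + χ₂ *ᵥ (χ₁ *ᵥ (χ₂ *ᵥ u)) := by
      calc B *ᵥ u = χ₁ *ᵥ (B *ᵥ u) + χ₂ *ᵥ (B *ᵥ u) := (split _).symm
        _ = χ₁ *ᵥ (χ₂ *ᵥ (χ₁ *ᵥ u)) + χ₂ *ᵥ (χ₁ *ᵥ (χ₂ *ᵥ u)) := by
          congr 1
          · rw [B₂ u]
          · rw [B₁ u]
    rw [e, ip_add_right, ← adj₁ u (χ₂ *ᵥ (χ₁ *ᵥ u)), ← adj₂ u (χ₁ *ᵥ (χ₂ *ᵥ u)), ip_χ₂_right,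
      ip_χ₁_right]
    exact add_nonneg (hNpos _) (hMpos _)
  -- q(χ₁ u) + q(χ₂ u) ≤ q(u)
  have q_split : ∀ u, ip (χ₁ *ᵥ u) (χ₁ *ᵥ u) + ip (χ₂ *ᵥ u) (χ₂ *ᵥ u) ≤ ip u u := fun u => by
    have e : ip u u = ip (χ₁ *ᵥ u) (χ₁ *ᵥ u) + ip (χ₂ *ᵥ u) (χ₂ *ᵥ u) +
        2 * ip u (B *ᵥ u) := by
      conv_lhs => rw [← split u]
      rw [ip_add_left, ip_add_right, ip_add_right, ip_symm (χ₂ *ᵥ u) (χ₁ *ᵥ u), adj₁ u (χ₂ *ᵥ u),
        ← B₁]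
      ring
    rw [e]
    linarith [ipB_nonneg u]
  have q_χ₁ : ∀ u, ip (χ₁ *ᵥ u) (χ₁ *ᵥ u) ≤ ip u u := fun u => by
    linarith [q_split u, q_nonneg (χ₂ *ᵥ u)]
  have q_χ₂ : ∀ u, ip (χ₂ *ᵥ u) (χ₂ *ᵥ u) ≤ ip u u := fun u => by
    linarith [q_split u, q_nonneg (χ₁ *ᵥ u)]
  have q_B : ∀ u, 2 * ip (B *ᵥ u) (B *ᵥ u) ≤ ip u u := fun u => by
    have h1 : ip (B *ᵥ u) (B *ᵥ u) ≤ ip (χ₂ *ᵥ u) (χ₂ *ᵥ u) := by
      rw [B₁]; exact q_χ₁ _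
    have h2 : ip (B *ᵥ u) (B *ᵥ u) ≤ ip (χ₁ *ᵥ u) (χ₁ *ᵥ u) := by
      rw [B₂]; exact q_χ₂ _
    linarith [q_split u]
  have adjB : ∀ u v, ip (B *ᵥ u) v = ip u (B *ᵥ v) := fun u v => by
    rw [B₁ u, adj₁, adj₂, ← B₂]
  -- iterates
  have q_iter : ∀ (k : ℕ) (u : ι → ℤ), 2 ^ k * ip ((B.mulVec)^[k] u) ((B.mulVec)^[k] u) ≤ ip u u := by
    intro k
    induction k with
    | zero => intro u; simp
    | succ k ih =>
      intro u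
      rw [Function.iterate_succ_apply', pow_succ, mul_assoc]
      exact le_trans (mul_le_mul_of_nonneg_left (q_B _) (by positivity)) (ih u)
  have descend : ∀ (k : ℕ) (u : ι → ℤ), (B.mulVec)^[k + 1] u = 0 → B *ᵥ u = 0 := by
    intro k
    induction k with
    | zero => intro u hu; simpa using hu
    | succ k ih =>
      intro u hu
      apply ih
      apply q_eq_zero
      rw [Function.iterate_succ_apply' (B.mulVec) k u, adjB, ← Function.iterate_succ_apply' (B.mulVec),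
        ← Function.iterate_succ_apply' (B.mulVec), hu]
      change _ ⬝ᵥ S *ᵥ 0 = 0
      rw [mulVec_zero, dotProduct_zero]
  have Bzero : ∀ u, B *ᵥ u = 0 := by
    intro u
    obtain ⟨k, hk⟩ : ∃ k : ℕ, ip u u < 2 ^ k := by
      refine ⟨(ip u u).toNat, ?_⟩
      have h1 : (ip u u).toNat < 2 ^ (ip u u).toNat := Nat.lt_two_pow_self
      have h2 : ((ip u u).toNat : ℤ) = ip u u := Int.toNat_of_nonneg (q_nonneg u)
      calc ip u u = ((ip u u).toNat : ℤ) := h2.symm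
        _ < ((2 ^ (ip u u).toNat : ℕ) : ℤ) := by exact_mod_cast h1
        _ = 2 ^ (ip u u).toNat := by push_cast; rfl
    have hz : (B.mulVec)^[k] u = 0 := by
      apply q_eq_zero
      have h1 := q_iter k u
      have h2 := q_nonneg ((B.mulVec)^[k] u)
      by_contra hne
      have h3 : 1 ≤ ip ((B.mulVec)^[k] u) ((B.mulVec)^[k] u) := by
        rcases lt_or_eq_of_le h2 with h | h
        · exact h
        · exact absurd h.symm hne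
      have h4 : (2 : ℤ) ^ k ≤ 2 ^ k * ip ((B.mulVec)^[k] u) ((B.mulVec)^[k] u) := by
        nlinarith [pow_pos (two_pos : (0 : ℤ) < 2) k]
      linarith
    apply descend k
    rw [Function.iterate_succ_apply', hz, mulVec_zero]
  apply mulVec_injective
  funext u
  rw [Bzero u, zero_mulVec]

end Aux

/-- Let M and N be symmetric positive-semidefinite integer matrices on the same finite index set whose
sum M + N is positive definite, and let χ₁, χ₂ be integer matrices with χ₁ + χ₂ = 1 and M χ₂ = N χ₁.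
Then χ₁ and χ₂ are idempotent. (In the intended application M = Pᵀ Ψ₁ P and N = Qᵀ Ψ₂ Q for
surjective integer matrices P, Q and positive-definite Ψ₁, Ψ₂.) -/
theorem result
    {ι : Type} [Fintype ι] [DecidableEq ι]
    (M N χ₁ χ₂ : Matrix ι ι ℤ) (hM : M.IsSymm) (hN : N.IsSymm)
    (hMpos : ∀ v : ι → ℤ, 0 ≤ v ⬝ᵥ M.mulVec v) (hNpos : ∀ v : ι → ℤ, 0 ≤ v ⬝ᵥ N.mulVec v)
    (hpos : ∀ v : ι → ℤ, v ≠ 0 → 0 < v ⬝ᵥ (M + N).mulVec v)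
    (hsum : χ₁ + χ₂ = 1) (hrel : M * χ₂ = N * χ₁) :
    χ₁ * χ₁ = χ₁ ∧ χ₂ * χ₂ = χ₂ := by
  have h0 := mul_eq_zero_aux M N χ₁ χ₂ hM hN hMpos hNpos hpos hsum hrel
  have h1 : χ₁ = 1 - χ₂ := eq_sub_of_add_eq hsum
  have h2 : χ₂ = 1 - χ₁ := eq_sub_of_add_eq' hsum
  constructor
  · conv_lhs => rw [h1, mul_sub, mul_one, ← h1, h0, sub_zero]
  · have h0' : χ₁ * χ₂ = χ₂ * χ₁ := by
      rw [h2, mul_sub, sub_mul, mul_one, one_mul]
    conv_lhs => rw [h2, sub_mul, one_mul, ← h2, h0, sub_zero]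

end Groth.Agent.S16170
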