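import Groth.Statements.S16164
import Groth.Agent.S16170
import Mathlib
-- import your own Groth.Agent.* helpers here

set_option autoImplicit false
set_option linter.unusedSectionVars false
open Neron

namespace Groth.Agent.S16164

open Matrix

section Aux

variable {ι κ : Type} [Fintype ι] [Fintype κ]

/-- `vᵀ (Pᵀ Ψ P) v = (P v)ᵀ Ψ (P v)`. -/
theorem dot_congr (P : Matrix κ ι ℤ) (Ψ : Matrix κ κ ℤ) (u v : ι → ℤ) :
    u ⬝ᵥ (Pᵀ * Ψ * P) *ᵥ v = (P *ᵥ u) ⬝ᵥ Ψ *ᵥ (P *ᵥ v) := by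
  rw [← mulVec_mulVec, ← mulVec_mulVec, dotProduct_mulVec, vecMul_transpose]

theorem isSymm_congr (P : Matrix κ ι ℤ) (Ψ : Matrix κ κ ℤ) (hΨ : Ψ.IsSymm) :
    (Pᵀ * Ψ * P).IsSymm := by
  rw [Matrix.IsSymm, transpose_mul, transpose_mul, transpose_transpose, hΨ.eq, Matrix.mul_assoc]

/-- If `S` is positive definite, `S * X = 0` implies `X = 0`. -/
theorem eq_zero_of_mul_eq_zero {μ : Type} [Fintype μ] (S : Matrix ι ι ℤ)
    (hpos : ∀ v : ι → ℤ, v ≠ 0 → 0 < v ⬝ᵥ S *ᵥ v) (X : Matrix ι μ ℤ) (h : S * X = 0) : X = 0 := by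
  apply mulVec_injective
  funext u
  rw [zero_mulVec]
  by_contra hne
  have h1 := hpos (X *ᵥ u) hne
  rw [mulVec_mulVec, h, zero_mulVec, dotProduct_zero] at h1
  exact lt_irrefl _ h1

end Aux

/-- Let X, Y₁, Y₂ be finitely generated free abelian groups with chosen bases, so that homomorphisms are
integer matrices acting on column vectors and each group is identified with its dual; let P : X → Y₁
and Q : X → Y₂ be surjective with A = (P over Q) : X → Y₁ ⊕ Y₂ injective, and let Ψ₁, Ψ₂ be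
symmetric positive-definite integer matrices on Y₁ and Y₂, Ψ their block-diagonal sum. If the image
of Aᵀ Ψ : Y₁ ⊕ Y₂ → X coincides with the image of Aᵀ Ψ A : X → X (the reverse inclusion always
holds), then A is bijective. (In the source X, Y₁, Y₂ are character groups of maximal tori, P and Q
specialization maps, Ψ₁ and Ψ₂ monodromy pairings, and the hypothesis expresses that two groups of
components coincide.) -/
theorem result
    {ι κ₁ κ₂ : Type} [Fintype ι] [Fintype κ₁] [Fintype κ₂]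
    (P : Matrix κ₁ ι ℤ) (Q : Matrix κ₂ ι ℤ)
    (hP : Function.Surjective P.mulVec) (hQ : Function.Surjective Q.mulVec)
    (hA : Function.Injective (Matrix.fromRows P Q).mulVec)
    (Ψ₁ : Matrix κ₁ κ₁ ℤ) (Ψ₂ : Matrix κ₂ κ₂ ℤ) (hΨ₁ : Ψ₁.IsSymm) (hΨ₂ : Ψ₂.IsSymm)
    (hΨ₁pos : ∀ y : κ₁ → ℤ, y ≠ 0 → 0 < y ⬝ᵥ Ψ₁.mulVec y)
    (hΨ₂pos : ∀ y : κ₂ → ℤ, y ≠ 0 → 0 < y ⬝ᵥ Ψ₂.mulVec y)
    (himage : LinearMap.range ((Matrix.fromRows P Q).transpose * Matrix.fromBlocks Ψ₁ 0 0 Ψ₂).mulVecLin =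
      LinearMap.range ((Matrix.fromRows P Q).transpose * Matrix.fromBlocks Ψ₁ 0 0 Ψ₂ * Matrix.fromRows P Q).mulVecLin) :
    Function.Bijective (Matrix.fromRows P Q).mulVec := by
  classical
  refine ⟨hA, ?_⟩
  set M : Matrix ι ι ℤ := Pᵀ * Ψ₁ * P with hMdef
  set N : Matrix ι ι ℤ := Qᵀ * Ψ₂ * Q with hNdef
  have hT : (Matrix.fromRows P Q).transpose * Matrix.fromBlocks Ψ₁ 0 0 Ψ₂ =
      Matrix.fromCols (Pᵀ * Ψ₁) (Qᵀ * Ψ₂) := by
    rw [transpose_fromRows, fromCols_mul_fromBlocks]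
    simp
  have hS : (Matrix.fromRows P Q).transpose * Matrix.fromBlocks Ψ₁ 0 0 Ψ₂ * Matrix.fromRows P Q =
      M + N := by
    rw [hT, fromCols_mul_fromRows]
  rw [hS, hT] at himage
  have hMsymm : M.IsSymm := isSymm_congr P Ψ₁ hΨ₁
  have hNsymm : N.IsSymm := isSymm_congr Q Ψ₂ hΨ₂
  have hMpos : ∀ v : ι → ℤ, 0 ≤ v ⬝ᵥ M *ᵥ v := by
    intro v
    rw [hMdef, dot_congr]
    by_cases h : P *ᵥ v = 0
    · rw [h, mulVec_zero, dotProduct_zero]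
    · exact (hΨ₁pos _ h).le
  have hNpos : ∀ v : ι → ℤ, 0 ≤ v ⬝ᵥ N *ᵥ v := by
    intro v
    rw [hNdef, dot_congr]
    by_cases h : Q *ᵥ v = 0
    · rw [h, mulVec_zero, dotProduct_zero]
    · exact (hΨ₂pos _ h).le
  have hpos : ∀ v : ι → ℤ, v ≠ 0 → 0 < v ⬝ᵥ (M + N) *ᵥ v := by
    intro v hv
    rw [add_mulVec, dotProduct_add]
    have hAv : Matrix.fromRows P Q *ᵥ v ≠ 0 := by
      intro h0
      apply hv
      apply hA
      rw [h0, mulVec_zero]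
    rw [fromRows_mulVec] at hAv
    by_cases h : P *ᵥ v = 0
    · have hq : Q *ᵥ v ≠ 0 := by
        intro hq
        apply hAv
        rw [h, hq]
        funext i
        cases i <;> rfl
      have h1 : 0 < v ⬝ᵥ N *ᵥ v := by
        rw [hNdef, dot_congr]
        exact hΨ₂pos _ hq
      linarith [hMpos v]
    · have h1 : 0 < v ⬝ᵥ M *ᵥ v := by
        rw [hMdef, dot_congr]
        exact hΨ₁pos _ h
      linarith [hNpos v]
  -- the matrix `C` with `(M + N) * C = T`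
  have hcol : ∀ j : κ₁ ⊕ κ₂, ∃ x : ι → ℤ, (M + N) *ᵥ x =
      (Matrix.fromCols (Pᵀ * Ψ₁) (Qᵀ * Ψ₂)) *ᵥ (Pi.single j 1) := by
    intro j
    have hmem : (Matrix.fromCols (Pᵀ * Ψ₁) (Qᵀ * Ψ₂)).mulVecLin (Pi.single j 1) ∈
        LinearMap.range (Matrix.fromCols (Pᵀ * Ψ₁) (Qᵀ * Ψ₂)).mulVecLin := ⟨_, rfl⟩
    rw [himage] at hmem
    obtain ⟨x, hx⟩ := hmem
    exact ⟨x, hx⟩
  choose x hx using hcol
  set C : Matrix ι (κ₁ ⊕ κ₂) ℤ := Matrix.of fun i j => x j i with hCdef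
  have hSC : (M + N) * C = Matrix.fromCols (Pᵀ * Ψ₁) (Qᵀ * Ψ₂) := by
    ext i j
    have := congrFun (hx j) i
    rw [mulVec_single_one, Matrix.col_apply] at this
    rw [← this]
    rfl
  set C₁ := C.toCols₁ with hC₁
  set C₂ := C.toCols₂ with hC₂
  have hCsplit : C = Matrix.fromCols C₁ C₂ := (fromCols_toCols C).symm
  rw [hCsplit, mul_fromCols] at hSC
  obtain ⟨hSC₁, hSC₂⟩ := fromCols_inj hSC
  obtain ⟨χ₁, hχ₁⟩ : ∃ χ₁ : Matrix ι ι ℤ, χ₁ = C₁ * P := ⟨_, rfl⟩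
  obtain ⟨χ₂, hχ₂⟩ : ∃ χ₂ : Matrix ι ι ℤ, χ₂ = C₂ * Q := ⟨_, rfl⟩
  have hSχ₁ : (M + N) * χ₁ = M := by rw [hχ₁, ← Matrix.mul_assoc, hSC₁]
  have hSχ₂ : (M + N) * χ₂ = N := by rw [hχ₂, ← Matrix.mul_assoc, hSC₂]
  have hsum : χ₁ + χ₂ = 1 := by
    have h1 : (M + N) * (χ₁ + χ₂ - 1) = 0 := by
      rw [mul_sub, mul_add, hSχ₁, hSχ₂, mul_one, sub_self]
    have h2 := eq_zero_of_mul_eq_zero (M + N) hpos _ h1
    exact sub_eq_zero.mp h2
  have hcomm : χ₁ * χ₂ = χ₂ * χ₁ := by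
    have h2 : χ₂ = 1 - χ₁ := eq_sub_of_add_eq' hsum
    rw [h2, mul_sub, sub_mul, mul_one, one_mul]
  have hrel : M * χ₂ = N * χ₁ := by
    calc M * χ₂ = (M + N) * χ₁ * χ₂ := by rw [hSχ₁]
      _ = (M + N) * (χ₁ * χ₂) := Matrix.mul_assoc _ _ _
      _ = (M + N) * (χ₂ * χ₁) := by rw [hcomm]
      _ = (M + N) * χ₂ * χ₁ := (Matrix.mul_assoc _ _ _).symm
      _ = N * χ₁ := by rw [hSχ₂]
  have hzero : χ₁ * χ₂ = 0 :=
    S16170.mul_eq_zero_aux M N χ₁ χ₂ hMsymm hNsymm hMpos hNpos hpos hsum hrel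
  have hMχ₂ : M * χ₂ = 0 := by
    calc M * χ₂ = (M + N) * χ₁ * χ₂ := by rw [hSχ₁]
      _ = (M + N) * (χ₁ * χ₂) := Matrix.mul_assoc _ _ _
      _ = 0 := by rw [hzero, mul_zero]
  have hNχ₁ : N * χ₁ = 0 := by rw [← hrel, hMχ₂]
  have hPχ₂ : ∀ u : ι → ℤ, P *ᵥ (χ₂ *ᵥ u) = 0 := by
    intro u
    by_contra hne
    have h1 := hΨ₁pos _ hne
    rw [← dot_congr, ← hMdef, mulVec_mulVec, hMχ₂, zero_mulVec, dotProduct_zero] at h1
    exact lt_irrefl _ h1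
  have hQχ₁ : ∀ u : ι → ℤ, Q *ᵥ (χ₁ *ᵥ u) = 0 := by
    intro u
    by_contra hne
    have h1 := hΨ₂pos _ hne
    rw [← dot_congr, ← hNdef, mulVec_mulVec, hNχ₁, zero_mulVec, dotProduct_zero] at h1
    exact lt_irrefl _ h1
  have hsplit : ∀ u : ι → ℤ, χ₁ *ᵥ u + χ₂ *ᵥ u = u := fun u => by
    rw [← add_mulVec, hsum, one_mulVec]
  intro y
  obtain ⟨x₁, hx₁⟩ := hP (y ∘ Sum.inl)
  obtain ⟨x₂, hx₂⟩ := hQ (y ∘ Sum.inr)
  refine ⟨χ₁ *ᵥ x₁ + χ₂ *ᵥ x₂, ?_⟩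
  rw [fromRows_mulVec, mulVec_add, mulVec_add, hPχ₂, hQχ₁, add_zero, zero_add]
  have e1 : P *ᵥ (χ₁ *ᵥ x₁) = y ∘ Sum.inl := by
    have := congrArg (fun w => P *ᵥ w) (hsplit x₁)
    simp only [mulVec_add, hPχ₂, add_zero] at this
    rw [this, hx₁]
  have e2 : Q *ᵥ (χ₂ *ᵥ x₂) = y ∘ Sum.inr := by
    have := congrArg (fun w => Q *ᵥ w) (hsplit x₂)
    simp only [mulVec_add, hQχ₁, zero_add] at this
    rw [this, hx₂]
  rw [e1, e2]
  funext i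
  cases i <;> rfl

end Groth.Agent.S16164
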