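import Groth.Statements.S1617
-- import your own Groth.Agent.* helpers here
import Mathlib
import Groth.Agent.Lib.Helper12.SchemeDimFT2

set_option autoImplicit false
universe u
open CategoryTheory CategoryTheory.Limits AlgebraicGeometry
open Variety

namespace Groth.Agent.S1617

open Groth.Agent.Lib.Helper12

/-- Let X be locally of finite type over a field k and x a closed point. Then the local dimension of X
at x (infimum of the dimensions of open neighbourhoods) equals the Krull dimension of the local ring
at x. -/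
theorem result (k : Type u) [Field k] (X : Scheme.{u}) [X.Over (Spec (CommRingCat.of k))] [LocallyOfFiniteType (X ↘ (Spec (CommRingCat.of k)))] (x : X) (hx : IsClosed ({x} : Set X)) :
    FlatMor.localDim X x = ringKrullDim (X.presheaf.stalk x) := by
  obtain ⟨U, hU, hxU⟩ := SchemeDimFT.exists_affineOpen_mem X x
  letI := SchemeDimFT.secAlgebra k X U
  haveI := SchemeDimFT.finiteType_sec k X U hU
  rw [SchemeDimFT.localDim_eq_primeSpectrum hU ⟨x, hxU⟩,
    DimFT2.localDim_primeSpectrum k Γ(X, U) (hU.primeIdealOf ⟨x, hxU⟩)]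
  have hmax : (hU.primeIdealOf ⟨x, hxU⟩).asIdeal.IsMaximal :=
    hU.primeIdealOf_isMaximal_of_isClosed ⟨x, hxU⟩ hx
  have hco : Order.coheight (hU.primeIdealOf ⟨x, hxU⟩) = 0 := by
    rw [Order.coheight_eq_zero]
    intro q hq
    exact (hmax.eq_of_le q.2.ne_top hq).ge
  rw [hco, add_zero]
  letI algA : Algebra Γ(X, U) (X.presheaf.stalk x) :=
    TopCat.Presheaf.algebra_section_stalk X.presheaf ⟨x, hxU⟩
  haveI := hU.isLocalization_stalk ⟨x, hxU⟩
  rw [IsLocalization.AtPrime.ringKrullDim_eq_height
    (hU.primeIdealOf ⟨x, hxU⟩).asIdeal (X.presheaf.stalk x), PrimeSpectrum.height_eq_orderHeight]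

end Groth.Agent.S1617
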