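import Groth.Statements.S16174
import Mathlib
-- import your own Groth.Agent.* helpers here

set_option autoImplicit false
universe u
open Hensel

namespace Groth.Agent.S16174


open Polynomial IsLocalRing

/-- In a Henselian local ring, a polynomial `1 + z + ∑ δ_i z^(i+2)` with all `δ_i` in the maximal
ideal has a root. -/
theorem exists_root_one_add (R : Type u) [CommRing R] [HenselianLocalRing R] (n : ℕ) (δ : ℕ → R)
    (hδ : ∀ i, δ i ∈ maximalIdeal R) :
    ∃ z : R, 1 + z + ∑ i ∈ Finset.range n, δ i * z ^ (i + 2) = 0 := by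
  set G : R[X] := X ^ n + ∑ i ∈ Finset.range n, C (δ i) * X ^ (n - 1 - i) with hG
  set F : R[X] := X ^ (n + 1) + G with hF
  have hGdeg : G.degree < ((n + 1 : ℕ) : WithBot ℕ) := by
    refine lt_of_le_of_lt ?_ (WithBot.coe_lt_coe.mpr (Nat.lt_succ_self n))
    refine le_trans (degree_add_le _ _) (max_le (degree_X_pow_le _) ?_)
    refine le_trans (degree_sum_le _ _) ?_
    rw [Finset.sup_le_iff]
    intro i _
    refine le_trans (degree_C_mul_X_pow_le _ _) ?_
    have hle : n - 1 - i ≤ n := by omega
    exact WithBot.coe_le_coe.mpr hle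
  have hFmonic : F.Monic := monic_X_pow_add hGdeg
  have hFeval : ∀ w : R, F.eval w = w ^ (n + 1) + w ^ n +
      ∑ i ∈ Finset.range n, δ i * w ^ (n - 1 - i) := by
    intro w
    simp only [hF, hG, eval_add, eval_pow, eval_X, eval_finsetSum, eval_mul, eval_C]
    ring
  have hsum_mem : ∀ (w : R) (e : ℕ → ℕ) (c : ℕ → R),
      ∑ i ∈ Finset.range n, δ i * (c i * w ^ (e i)) ∈ maximalIdeal R := by
    intro w e c
    apply Ideal.sum_mem
    intro i _
    exact Ideal.mul_mem_right _ _ (hδ i)
  have h1 : F.eval (-1) ∈ maximalIdeal R := by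
    rw [hFeval]
    have e1 : (-1 : R) ^ (n + 1) + (-1) ^ n = 0 := by rw [pow_succ]; ring
    rw [e1, zero_add]
    have := hsum_mem (-1) (fun i => n - 1 - i) (fun _ => 1)
    simpa using this
  have h2 : IsUnit (F.derivative.eval (-1)) := by
    have hd : F.derivative.eval (-1) = (-1) ^ n +
        ∑ i ∈ Finset.range n, δ i * (((n - 1 - i : ℕ) : R) * (-1) ^ (n - 1 - i - 1)) := by
      simp only [hF, hG, derivative_add, derivative_X_pow, derivative_sum, derivative_mul,
        derivative_C, zero_mul, zero_add, eval_add, eval_mul, eval_pow, eval_X, eval_finsetSum,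
        eval_C, Nat.add_sub_cancel]
      have e1 : ((n + 1 : ℕ) : R) * (-1) ^ n + (n : R) * (-1) ^ (n - 1) = (-1) ^ n := by
        rcases n with _ | m
        · simp
        · simp only [Nat.add_sub_cancel, pow_succ]
          push_cast
          ring
      rw [← add_assoc, e1]
    rw [hd]
    have hm := hsum_mem (-1) (fun i => n - 1 - i - 1) (fun i => ((n - 1 - i : ℕ) : R))
    have hu : IsUnit ((-1 : R) ^ n) := (isUnit_one.neg).pow n
    by_contra hnu
    have hnu' : (-1 : R) ^ n + ∑ i ∈ Finset.range n,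
        δ i * (((n - 1 - i : ℕ) : R) * (-1) ^ (n - 1 - i - 1)) ∈ maximalIdeal R := hnu
    have := (maximalIdeal R).sub_mem hnu' hm
    rw [add_sub_cancel_right] at this
    exact this hu
  obtain ⟨w, hw, hw1⟩ := HenselianLocalRing.is_henselian F hFmonic (-1) h1 h2
  have hwu : IsUnit w := by
    by_contra hnu
    have hwm : w ∈ maximalIdeal R := hnu
    have := (maximalIdeal R).sub_mem hwm hw1
    rw [sub_sub_cancel] at this
    have h3 : (1 : R) ∈ maximalIdeal R := by
      have := (maximalIdeal R).neg_mem this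
      rwa [neg_neg] at this
    exact (maximalIdeal R).ne_top_iff_one.mp (maximalIdeal.isMaximal R).ne_top h3
  obtain ⟨u, rfl⟩ := hwu
  refine ⟨((u⁻¹ : Rˣ) : R), ?_⟩
  have hw0 : F.eval (u : R) = 0 := hw
  rw [hFeval] at hw0
  have key : (1 : R) + ((u⁻¹ : Rˣ) : R) + ∑ i ∈ Finset.range n, δ i * ((u⁻¹ : Rˣ) : R) ^ (i + 2) =
      ((u⁻¹ : Rˣ) : R) ^ (n + 1) * ((u : R) ^ (n + 1) + (u : R) ^ n +
        ∑ i ∈ Finset.range n, δ i * (u : R) ^ (n - 1 - i)) := by
    rw [mul_add, mul_add, ← mul_pow, Units.inv_mul, one_pow, Finset.mul_sum]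
    congr 1
    · congr 1
      rw [pow_succ, mul_assoc, mul_comm _ ((u : R) ^ n), ← mul_assoc, ← mul_pow, Units.inv_mul,
        one_pow, one_mul]
    · apply Finset.sum_congr rfl
      intro i hi
      rw [Finset.mem_range] at hi
      have hz : ((u⁻¹ : Rˣ) : R) ^ (n + 1) =
          ((u⁻¹ : Rˣ) : R) ^ (i + 2) * ((u⁻¹ : Rˣ) : R) ^ (n - 1 - i) := by
        rw [← pow_add]
        congr 1
        omega
      have e2 : ((u⁻¹ : Rˣ) : R) ^ (n - 1 - i) * (u : R) ^ (n - 1 - i) = 1 := by
        rw [← mul_pow, Units.inv_mul, one_pow]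
      rw [hz]
      calc δ i * ((u⁻¹ : Rˣ) : R) ^ (i + 2)
          = δ i * ((u⁻¹ : Rˣ) : R) ^ (i + 2) *
              (((u⁻¹ : Rˣ) : R) ^ (n - 1 - i) * (u : R) ^ (n - 1 - i)) := by
            rw [e2, mul_one]
        _ = ((u⁻¹ : Rˣ) : R) ^ (i + 2) * ((u⁻¹ : Rˣ) : R) ^ (n - 1 - i) *
              (δ i * (u : R) ^ (n - 1 - i)) := by ring
  rw [key, hw0, mul_zero]

/-- In a valuation ring, every element of the maximal ideal of the localisation at a prime `p`
comes from an element of `p`. -/
theorem exists_mem_of_mem_maximalIdeal (V : Type u) [CommRing V] [IsDomain V] [ValuationRing V]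
    (p : Ideal V) [p.IsPrime] (x : Localization.AtPrime p)
    (hx : x ∈ maximalIdeal (Localization.AtPrime p)) :
    ∃ b ∈ p, algebraMap V (Localization.AtPrime p) b = x := by
  obtain ⟨⟨a, s⟩, rfl⟩ := IsLocalization.mk'_surjective p.primeCompl x
  rw [IsLocalization.AtPrime.mk'_mem_maximal_iff (Localization.AtPrime p) p] at hx
  rcases ValuationRing.dvd_total a (s : V) with h | h
  · exfalso
    obtain ⟨t, ht⟩ := h
    apply s.2
    change (s : V) ∈ p
    rw [ht]
    exact Ideal.mul_mem_right _ _ hx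
  · obtain ⟨b, hb⟩ := h
    have hbp : b ∈ p := by
      have h1 : (s : V) * b ∈ p := hb ▸ hx
      exact (Ideal.IsPrime.mem_or_mem inferInstance h1).resolve_left s.2
    refine ⟨b, hbp, ?_⟩
    rw [eq_comm, IsLocalization.mk'_eq_iff_eq_mul, hb, map_mul, mul_comm]

/-- Quotients of Henselian local rings by proper ideals are Henselian. -/
theorem henselian_quotient (R : Type u) [CommRing R] [HenselianLocalRing R] (I : Ideal R)
    (hI : I ≠ ⊤) : HenselianLocalRing (R ⧸ I) := by
  have : Nontrivial (R ⧸ I) := Ideal.Quotient.nontrivial_iff.mpr hI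
  have hloc : IsLocalRing (R ⧸ I) :=
    IsLocalRing.of_surjective' (Ideal.Quotient.mk I) Ideal.Quotient.mk_surjective
  have hlh : IsLocalHom (Ideal.Quotient.mk I) :=
    IsLocalHom.of_surjective (Ideal.Quotient.mk I) Ideal.Quotient.mk_surjective
  refine { toIsLocalRing := hloc, is_henselian := ?_ }
  intro f hf a₀ h1 h2
  obtain ⟨a₀, rfl⟩ := Ideal.Quotient.mk_surjective a₀
  obtain ⟨q, hq, -, hqm⟩ := lifts_and_natDegree_eq_and_monic
    (show f ∈ lifts (Ideal.Quotient.mk I) from
      (mem_lifts f).mpr (map_surjective _ Ideal.Quotient.mk_surjective f)) hf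
  subst hq
  have e1 : (q.map (Ideal.Quotient.mk I)).eval (Ideal.Quotient.mk I a₀) =
      Ideal.Quotient.mk I (q.eval a₀) := by rw [eval_map, eval₂_hom]
  have e2 : (derivative (q.map (Ideal.Quotient.mk I))).eval (Ideal.Quotient.mk I a₀) =
      Ideal.Quotient.mk I (q.derivative.eval a₀) := by rw [derivative_map, eval_map, eval₂_hom]
  rw [e1] at h1
  rw [e2] at h2
  have h1' : q.eval a₀ ∈ maximalIdeal R := by
    rw [mem_maximalIdeal, mem_nonunits_iff] at h1 ⊢
    intro hu
    exact h1 (hu.map _)
  have h2' : IsUnit (q.derivative.eval a₀) := isUnit_of_map_unit (Ideal.Quotient.mk I) _ h2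
  obtain ⟨a, ha, ha1⟩ := HenselianLocalRing.is_henselian q hqm a₀ h1' h2'
  refine ⟨Ideal.Quotient.mk I a, ?_, ?_⟩
  · rw [IsRoot.def, eval_map, eval₂_hom, ha.eq_zero, map_zero]
  · rw [← map_sub, mem_maximalIdeal, mem_nonunits_iff]
    rw [mem_maximalIdeal, mem_nonunits_iff] at ha1
    intro hu
    exact ha1 (isUnit_of_map_unit (Ideal.Quotient.mk I) _ hu)

/-- The localisation of a Henselian valuation ring at a prime is Henselian. -/
theorem henselian_localization (V : Type u) [CommRing V] [IsDomain V] [ValuationRing V]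
    [HenselianLocalRing V] (p : Ideal V) [p.IsPrime] :
    HenselianLocalRing (Localization.AtPrime p) := by
  refine { toIsLocalRing := inferInstance, is_henselian := ?_ }
  intro f _ a₀ h1 h2
  set g := taylor a₀ f with hg
  have hc0 : g.coeff 0 ∈ maximalIdeal (Localization.AtPrime p) := by
    rw [hg, taylor_coeff_zero]; exact h1
  have hc1 : IsUnit (g.coeff 1) := by rw [hg, taylor_coeff_one]; exact h2
  suffices h : ∃ y ∈ maximalIdeal (Localization.AtPrime p), g.eval y = 0 by
    obtain ⟨y, hy, hy0⟩ := h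
    refine ⟨y + a₀, ?_, ?_⟩
    · rw [IsRoot.def, ← taylor_eval]; exact hy0
    · rwa [add_sub_cancel_right]
  obtain ⟨c₁, hc₁⟩ := hc1
  obtain ⟨β, hβ⟩ : ∃ β : Localization.AtPrime p, β = g.coeff 0 * ((c₁⁻¹ : (Localization.AtPrime p)ˣ) :
      Localization.AtPrime p) := ⟨_, rfl⟩
  have hβm : β ∈ maximalIdeal (Localization.AtPrime p) := by
    rw [hβ]; exact Ideal.mul_mem_right _ _ hc0
  have hd : ∀ i : ℕ, g.coeff (i + 2) * β ^ (i + 1) *
      ((c₁⁻¹ : (Localization.AtPrime p)ˣ) : Localization.AtPrime p) ∈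
      maximalIdeal (Localization.AtPrime p) := fun i => by
    apply Ideal.mul_mem_right
    apply Ideal.mul_mem_left
    exact Ideal.pow_mem_of_mem _ hβm _ (Nat.succ_pos i)
  choose δ hδp hδ using fun i => exists_mem_of_mem_maximalIdeal V p _ (hd i)
  have hδm : ∀ i, δ i ∈ maximalIdeal V := fun i =>
    le_maximalIdeal (Ideal.IsPrime.ne_top inferInstance) (hδp i)
  obtain ⟨z, hz⟩ := exists_root_one_add V g.natDegree δ hδm
  have hz' := congrArg (algebraMap V (Localization.AtPrime p)) hz
  simp only [map_add, map_one, map_sum, map_mul, map_pow, hδ, map_zero] at hz'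
  refine ⟨β * algebraMap V (Localization.AtPrime p) z, Ideal.mul_mem_right _ _ hβm, ?_⟩
  rw [eval_eq_sum_range' (show g.natDegree < g.natDegree + 1 + 1 by omega),
    Finset.sum_range_succ', Finset.sum_range_succ']
  have key : ∑ i ∈ Finset.range g.natDegree, g.coeff (i + 1 + 1) *
        (β * algebraMap V (Localization.AtPrime p) z) ^ (i + 1 + 1) +
      g.coeff (0 + 1) * (β * algebraMap V (Localization.AtPrime p) z) ^ (0 + 1) +
      g.coeff 0 * (β * algebraMap V (Localization.AtPrime p) z) ^ 0 =
      g.coeff 0 * (1 + algebraMap V (Localization.AtPrime p) z +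
        ∑ i ∈ Finset.range g.natDegree, g.coeff (i + 2) * β ^ (i + 1) *
          ((c₁⁻¹ : (Localization.AtPrime p)ˣ) : Localization.AtPrime p) *
          algebraMap V (Localization.AtPrime p) z ^ (i + 2)) := by
    rw [mul_add, mul_add, Finset.mul_sum, mul_one, pow_zero, mul_one, zero_add, pow_one]
    have e1 : g.coeff 1 * (β * algebraMap V (Localization.AtPrime p) z) =
        g.coeff 0 * algebraMap V (Localization.AtPrime p) z := by
      rw [← hc₁, hβ]
      calc (c₁ : Localization.AtPrime p) * (g.coeff 0 * ((c₁⁻¹ : (Localization.AtPrime p)ˣ) :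
            Localization.AtPrime p) * algebraMap V (Localization.AtPrime p) z)
          = ((c₁ : Localization.AtPrime p) * ((c₁⁻¹ : (Localization.AtPrime p)ˣ) :
            Localization.AtPrime p)) * (g.coeff 0 * algebraMap V (Localization.AtPrime p) z) := by ring
        _ = g.coeff 0 * algebraMap V (Localization.AtPrime p) z := by rw [Units.mul_inv, one_mul]
    rw [e1]
    have e2 : ∀ i : ℕ, g.coeff (i + 1 + 1) *
        (β * algebraMap V (Localization.AtPrime p) z) ^ (i + 1 + 1) =
        g.coeff 0 * (g.coeff (i + 2) * β ^ (i + 1) *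
          ((c₁⁻¹ : (Localization.AtPrime p)ˣ) : Localization.AtPrime p) *
          algebraMap V (Localization.AtPrime p) z ^ (i + 2)) := by
      intro i
      calc g.coeff (i + 1 + 1) * (β * algebraMap V (Localization.AtPrime p) z) ^ (i + 1 + 1)
          = g.coeff (i + 2) * β ^ (i + 1) * algebraMap V (Localization.AtPrime p) z ^ (i + 2) * β := by
            ring
        _ = g.coeff (i + 2) * β ^ (i + 1) * algebraMap V (Localization.AtPrime p) z ^ (i + 2) *
            (g.coeff 0 * ((c₁⁻¹ : (Localization.AtPrime p)ˣ) : Localization.AtPrime p)) := by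
            rw [← hβ]
        _ = _ := by ring
    rw [Finset.sum_congr rfl (fun i _ => e2 i)]
    ring
  rw [key, hz', mul_zero]


/-- Let V be a Henselian valuation ring and p a prime ideal of V. Then the local rings V_p (localisation
at p) and V/p are Henselian. (Both are again valuation rings, which is elementary and not restated.) -/
theorem result (V : Type u) [CommRing V]
    [IsDomain V] [ValuationRing V] [HenselianLocalRing V] (p : Ideal V) [p.IsPrime] :
    HenselianLocalRing (Localization.AtPrime p) ∧ HenselianLocalRing (V ⧸ p) :=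
  ⟨henselian_localization V p, henselian_quotient V p (Ideal.IsPrime.ne_top inferInstance)⟩

end Groth.Agent.S16174
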