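import Groth.Statements.S16179
import Mathlib
import Groth.Agent.Lib.Helper27.ValPd2
import Groth.Agent.S0563
open Groth.Agent.Lib.Helper27 TensorProduct CategoryTheory

set_option autoImplicit false
universe u
open CategoryTheory
open CAlg

namespace Groth.Agent.S16179

/-- Let V be a valuation ring, B a flat V-algebra of finite presentation, q a prime ideal of B lying
over the prime p of V, A = B_q the local ring of Spec B at q, and suppose that the local ring A/pA
of the fibre over p at q is a regular local ring of dimension n. Then every finitely presented
A-module M has projective dimension at most n + 1 over A. -/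
theorem result (V : Type u) [CommRing V] [IsDomain V] [ValuationRing V]
    (B : Type u) [CommRing B] [Algebra V B] [Module.Flat V B] [Algebra.FinitePresentation V B]
    (q : Ideal B) [q.IsPrime] (n : ℕ)
    (hreg : IsRegularLocalRing (Localization.AtPrime q ⧸ Ideal.map (algebraMap V (Localization.AtPrime q)) (Ideal.comap (algebraMap V B) q)))
    (hn : ringKrullDim (Localization.AtPrime q ⧸ Ideal.map (algebraMap V (Localization.AtPrime q)) (Ideal.comap (algebraMap V B) q)) = n)
    (M : Type u) [AddCommGroup M] [Module (Localization.AtPrime q) M] [Module.FinitePresentation (Localization.AtPrime q) M] :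
    HasProjectiveDimensionLE (ModuleCat.of (Localization.AtPrime q) M) (n + 1) := by
  haveI : Module.Flat B (Localization.AtPrime q) := IsLocalization.flat _ q.primeCompl
  haveI : Module.Flat V (Localization.AtPrime q) := Module.Flat.trans V B _
  haveI : Algebra.EssFiniteType B (Localization.AtPrime q) :=
    Algebra.EssFiniteType.of_isLocalization _ q.primeCompl
  haveI : Algebra.EssFiniteType V (Localization.AtPrime q) := Algebra.EssFiniteType.comp V B _
  have hp : (Ideal.comap (algebraMap V B) q).map (algebraMap V (Localization.AtPrime q)) ≤
      IsLocalRing.maximalIdeal (Localization.AtPrime q) := by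
    rw [Ideal.map_le_iff_le_comap]
    intro x hx
    rw [Ideal.mem_comap, IsScalarTower.algebraMap_apply V B (Localization.AtPrime q),
      IsLocalization.AtPrime.to_map_mem_maximal_iff (Localization.AtPrime q) q]
    exact hx
  haveI := hreg
  obtain ⟨r, b, hb⟩ := Module.Finite.exists_fin (R := Localization.AtPrime q) (M := M)
  set f : (Fin r → Localization.AtPrime q) →ₗ[Localization.AtPrime q] M :=
    Fintype.linearCombination (Localization.AtPrime q) b with hf
  have hsurj : Function.Surjective f := by
    rw [← LinearMap.range_eq_top, hf, Fintype.range_linearCombination, hb]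
  haveI : Module.Flat V ↥(LinearMap.ker f) := ValPd.flat_submodule V (LinearMap.ker f)
  haveI : Module.Finite (Localization.AtPrime q) ↥(LinearMap.ker f) :=
    Module.Finite.iff_fg.mpr (Module.FinitePresentation.fg_ker f hsurj)
  haveI : Module.FinitePresentation (Localization.AtPrime q) ↥(LinearMap.ker f) :=
    ValFP.finitePresentation_of_flat V (Localization.AtPrime q) ↥(LinearMap.ker f)
  have h := Groth.Agent.S0563.result _ n hn
    ((Localization.AtPrime q ⧸ Ideal.map (algebraMap V (Localization.AtPrime q))
      (Ideal.comap (algebraMap V B) q)) ⊗[Localization.AtPrime q] ↥(LinearMap.ker f))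
  have h1A := ValPd.hasProjectiveDimensionLT_of_fibre V (Localization.AtPrime q)
    (Ideal.comap (algebraMap V B) q) hp n ↥(LinearMap.ker f) h
  have hT := f.shortExact_shortComplexKer hsurj
  have hF : HasProjectiveDimensionLT f.shortComplexKer.X₂ (n + 1 + 1) := by
    haveI : Projective f.shortComplexKer.X₂ :=
      (IsProjective.iff_projective (Fin r → Localization.AtPrime q)).mp inferInstance
    exact hasProjectiveDimensionLT_of_ge _ 1 (n + 1 + 1) (by omega)
  exact hT.hasProjectiveDimensionLT_X₃ (n + 1) h1A hF

end Groth.Agent.S16179
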