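import Groth.Statements.S16188
import Mathlib
import Groth.Agent.Lib.Helper7.RedLib

set_option autoImplicit false
universe u
open CategoryTheory AlgebraicGeometry TopologicalSpace
open SchMor

namespace Groth.Agent.S16188

/-- Let f : X → Y be a morphism of schemes with X reduced and irreducible. Then f factors through an
irreducible component of Y carrying its reduced closed-subscheme structure: there are an irreducible
component Z of Y and a morphism g from X to the closed subscheme of Y cut out by the vanishing ideal
sheaf of Z with g followed by the inclusion equal to f; that closed subscheme is integral. -/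
theorem result
    {X Y : Scheme.{u}} (f : X ⟶ Y) [IsReduced X] [IrreducibleSpace X] :
    ∃ (Z : Closeds Y) (_ : (Z : Set Y) ∈ irreducibleComponents Y)
      (_ : IsIntegral (Scheme.IdealSheafData.vanishingIdeal Z).subscheme)
      (g : X ⟶ (Scheme.IdealSheafData.vanishingIdeal Z).subscheme),
      g ≫ (Scheme.IdealSheafData.vanishingIdeal Z).subschemeι = f := by
  have hirr : IsIrreducible (Set.range f) := by
    rw [← Set.image_univ]
    exact (IrreducibleSpace.isIrreducible_univ X).image f f.continuous.continuousOn
  obtain ⟨t, htcomp, hsub⟩ := exists_mem_irreducibleComponents_subset_of_isIrreducible _ hirr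
  have htclosed : IsClosed t := isClosed_of_mem_irreducibleComponents t htcomp
  have htirr : IsIrreducible t := htcomp.1
  obtain ⟨Z, hZ⟩ : ∃ Z : Closeds Y, (Z : Set Y) = t := ⟨⟨t, htclosed⟩, rfl⟩
  have hred := Groth.Agent.Lib.Helper7.isReduced_vanishingIdeal_subscheme Z
  have hrange : Set.range (Scheme.IdealSheafData.vanishingIdeal Z).subschemeι = t := by
    rw [Scheme.IdealSheafData.range_subschemeι, Scheme.IdealSheafData.coe_support_vanishingIdeal,
      hZ]
  have hirrsp : IrreducibleSpace (Scheme.IdealSheafData.vanishingIdeal Z).subscheme := by
    have e := (Scheme.IdealSheafData.vanishingIdeal Z).subschemeι.isEmbedding.toHomeomorph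
    rw [e.irreducibleSpace_iff]
    apply Subtype.irreducibleSpace
    rw [hrange]
    exact htirr
  obtain ⟨g, hg⟩ := Groth.Agent.Lib.Helper7.exists_lift_of_isReduced_of_range_subset f
    (Scheme.IdealSheafData.vanishingIdeal Z).subschemeι (by rw [hrange]; exact hsub)
  exact ⟨Z, hZ ▸ htcomp, isIntegral_of_irreducibleSpace_of_isReduced _, g, hg⟩

end Groth.Agent.S16188
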