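import Groth.Statements.S16194
import Mathlib

set_option autoImplicit false
universe u
open DivAlg

namespace Groth.Agent.S16194

theorem left_inv {R : Type u} [Ring R] (r : R) (hr : r ∈ Ring.jacobson R) :
    ∃ z, z * (1 - r) = 1 := by
  rw [← Ideal.jacobson_bot] at hr
  obtain ⟨z, hz⟩ := Ideal.mem_jacobson_iff.1 ((Ideal.jacobson (⊥ : Ideal R)).neg_mem hr) 1
  refine ⟨z, ?_⟩
  rw [Ideal.mem_bot, sub_eq_zero] at hz
  calc z * (1 - r) = z * 1 * -r + z := by noncomm_ring
    _ = 1 := hz

/-- In an associative unital ring R, not necessarily commutative, every element r of the Jacobson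
radical (the set of elements lying in every maximal left ideal) is quasiregular, i.e. 1 - r is a
two-sided unit. -/
theorem result {R : Type u} [Ring R] (r : R)
    (hr : r ∈ Ring.jacobson R) : IsUnit (1 - r) := by
  obtain ⟨z, hz⟩ := left_inv r hr
  have hzr : -(z * r) ∈ Ring.jacobson R := neg_mem (Ideal.mul_mem_left _ z hr)
  obtain ⟨w, hw⟩ := left_inv _ hzr
  have hz' : 1 - -(z * r) = z := by
    have : z = z * (1 - r) + z * r := by noncomm_ring
    rw [hz] at this
    rw [sub_neg_eq_add, ← this]
  rw [hz'] at hw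
  have hw' : w = 1 - r := by
    calc w = w * (z * (1 - r)) := by rw [hz, mul_one]
      _ = (w * z) * (1 - r) := by rw [mul_assoc]
      _ = 1 - r := by rw [hw, one_mul]
  rw [hw'] at hw
  exact ⟨⟨1 - r, z, hw, hz⟩, rfl⟩

end Groth.Agent.S16194
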