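import Groth.Statements.S16196
import Mathlib

set_option autoImplicit false
universe u v
open DivAlg

namespace Groth.Agent.S16196

/-- Let R be a ring (associative, unital, not necessarily commutative) and M a left R-module which is a
generator, in the form: for some n there is an R-linear surjection from M^n onto R. Then the natural
ring homomorphism from R to the double endomorphism ring BiEnd_R(M) = End_{End_R(M)}(M)
(endomorphisms of M commuting with every R-linear endomorphism), r ↦ multiplication by r, is
bijective. (The printed form takes R an algebra over a commutative ring k, embeds R in E = End_k(M)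
and asserts R = C_E(C_E(R)); the double centralizer there is BiEnd_R(M).) -/
theorem result {R : Type u} [Ring R] (M : Type v)
    [AddCommGroup M] [Module R M]
    (hgen : ∃ (n : ℕ) (f : (Fin n → M) →ₗ[R] R), Function.Surjective f) :
    Function.Bijective (Module.toModuleEnd (Module.End R M) (S := R) M) := by
  obtain ⟨n, f, hf⟩ := hgen
  obtain ⟨y₀, hy₀⟩ := hf 1
  constructor
  · intro r r' h
    have h' : ∀ m : M, r • m = r' • m := fun m => by
      have := congrArg (fun g => g m) h
      simpa using this
    calc r = r • f y₀ := by rw [hy₀, smul_eq_mul, mul_one]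
      _ = f (r • y₀) := (f.map_smul r y₀).symm
      _ = f (r' • y₀) := by
        congr 1
        ext i
        simp [h']
      _ = r' • f y₀ := f.map_smul r' y₀
      _ = r' := by rw [hy₀, smul_eq_mul, mul_one]
  · intro T
    have hT : ∀ (x : M) (j : Fin n) (m : M),
        T (f (Pi.single j m) • x) = f (Pi.single j (T m)) • x := by
      intro x j m
      have := T.map_smul
        ((LinearMap.toSpanSingleton R M x) ∘ₗ f ∘ₗ (LinearMap.single R (fun _ => M) j)) m
      simpa using this
    have h1 : ∑ j, f (Pi.single j (y₀ j)) = 1 := by
      rw [← map_sum, Finset.univ_sum_single, hy₀]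
    refine ⟨∑ j, f (Pi.single j (T (y₀ j))), ?_⟩
    apply LinearMap.ext
    intro x
    have : (Module.toModuleEnd (Module.End R M) (S := R) M (∑ j, f (Pi.single j (T (y₀ j))))) x =
        (∑ j, f (Pi.single j (T (y₀ j)))) • x := rfl
    rw [this]
    symm
    calc T x = T ((∑ j, f (Pi.single j (y₀ j))) • x) := by rw [h1, one_smul]
      _ = T (∑ j, f (Pi.single j (y₀ j)) • x) := by rw [Finset.sum_smul]
      _ = ∑ j, T (f (Pi.single j (y₀ j)) • x) := map_sum T _ _
      _ = ∑ j, f (Pi.single j (T (y₀ j))) • x := Finset.sum_congr rfl fun j _ => hT x j (y₀ j)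
      _ = (∑ j, f (Pi.single j (T (y₀ j)))) • x := (Finset.sum_smul).symm

end Groth.Agent.S16196
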