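import Groth.Statements.S16197
import Mathlib

set_option autoImplicit false
universe u v w
open DivAlg

namespace Groth.Agent.S16197

/-- Let R be a ring (associative, unital, not necessarily commutative) and M a left R-module which is a
generator, used here only through the existence of an R-linear surjection from a direct sum of
copies of M, indexed by an arbitrary type, onto R. Then some finite power M^n decomposes as R × Q
for a submodule Q of M^n. (The published statement is an equivalence; this row states only the
implication from the existence of such a surjection to the splitting.) -/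
theorem result {R : Type u} [Ring R] (M : Type v)
    [AddCommGroup M] [Module R M]
    (hgen : ∃ (ι : Type w) (f : (ι →₀ M) →ₗ[R] R), Function.Surjective f) :
    ∃ (n : ℕ) (Q : Submodule R (Fin n → M)), Nonempty ((Fin n → M) ≃ₗ[R] (R × Q)) := by
  classical
  obtain ⟨ι, f, hf⟩ := hgen
  obtain ⟨z, hz⟩ := hf 1
  obtain ⟨n, hn⟩ : ∃ n, n = z.support.card := ⟨_, rfl⟩
  have e : Fin n ≃ z.support := (Fintype.equivFinOfCardEq (by simp [hn])).symm
  let f' : (Fin n → M) →ₗ[R] R :=
    ∑ a : Fin n, f ∘ₗ Finsupp.lsingle (e a).1 ∘ₗ LinearMap.proj a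
  have hf' : ∀ y, f' y = ∑ a : Fin n, f (Finsupp.single (e a).1 (y a)) := by
    intro y
    simp [f', LinearMap.sum_apply]
  let y₁ : Fin n → M := fun a => z (e a).1
  have hy₁ : f' y₁ = 1 := by
    rw [hf', ← map_sum, ← hz]
    congr 1
    rw [Fintype.sum_equiv e (fun a => Finsupp.single (e a).1 (y₁ a))
      (fun i : z.support => Finsupp.single i.1 (z i.1)) (fun a => rfl)]
    rw [Finset.sum_coe_sort z.support (fun i => Finsupp.single i (z i))]
    exact Finsupp.sum_single z
  let g : R →ₗ[R] (Fin n → M) := LinearMap.toSpanSingleton R _ y₁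
  have hfg : ∀ r, f' (g r) = r := by
    intro r
    simp [g, hy₁]
  refine ⟨n, LinearMap.ker f', ⟨{
    toFun := fun x => (f' x, ⟨x - g (f' x), by simp [LinearMap.mem_ker, map_sub, hfg]⟩)
    map_add' := ?_
    map_smul' := ?_
    invFun := fun p => g p.1 + p.2.1
    left_inv := ?_
    right_inv := ?_ }⟩⟩
  · intro x y
    refine Prod.ext (map_add _ _ _) (Subtype.ext ?_)
    simp only [map_add, Prod.snd_add, Submodule.coe_add]
    abel
  · intro r x
    refine Prod.ext (map_smul _ _ _) (Subtype.ext ?_)
    simp only [map_smul, RingHom.id_apply, Prod.smul_snd, Submodule.coe_smul, smul_sub]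
  · intro x
    simp
  · rintro ⟨r, q, hq⟩
    rw [LinearMap.mem_ker] at hq
    refine Prod.ext ?_ (Subtype.ext ?_)
    · simp [map_add, hfg, hq]
    · simp [map_add, hfg, hq]

end Groth.Agent.S16197
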