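import Groth.Statements.S16201
-- import your own Groth.Agent.* helpers here
import Mathlib
import Groth.Agent.Lib.Helper12.IrrFibres

set_option autoImplicit false
open CategoryTheory AlgebraicGeometry
open Variety

namespace Groth.Agent.S16201
open AlgebraicGeometry CategoryTheory
open Groth.Agent.Lib.Helper12 Groth.Agent.Lib.Helper12.SchemeDimFT
  Groth.Agent.Lib.Helper12.SchemeDimIneq Groth.Agent.Lib.Helper12.Equidim
  Groth.Agent.Lib.Helper12.FlatDim Groth.Agent.Lib.Helper12.IrrFibres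


/-- Let f : Y → Z be a morphism of schemes of finite type over ℂ, with Z irreducible. Suppose that the
general fibre of f is irreducible, in the sense that there is a nonempty open subset V of Z such
that the fibre of f over every closed point of V is an irreducible topological space, and that each
irreducible component of Y has dense image in Z. Then Y is irreducible. (The published statement is
for a morphism of projective varieties; only finiteness of type over the field is used, and the row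
is stated in that generality.) -/
theorem result
    (Y Z : Scheme.{0}) (g : Z ⟶ Spec (CommRingCat.of ℂ)) (f : Y ⟶ Z)
    [LocallyOfFiniteType g] [QuasiCompact g] [LocallyOfFiniteType f] [QuasiCompact f]
    [IrreducibleSpace Z]
    (hgen : ∃ V : Z.Opens, (V : Set Z).Nonempty ∧
      ∀ z ∈ V, IsClosed ({z} : Set Z) → IsIrreducible (f.base ⁻¹' {z}))
    (hdom : ∀ W ∈ irreducibleComponents Y, Dense (f.base '' W)) :
    IrreducibleSpace Y := by
  letI : Z.Over (Spec (CommRingCat.of ℂ)) := ⟨g⟩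
  letI : Y.Over (Spec (CommRingCat.of ℂ)) := ⟨f ≫ g⟩
  haveI : LocallyOfFiniteType (Z ↘ Spec (CommRingCat.of ℂ)) := ‹LocallyOfFiniteType g›
  haveI : LocallyOfFiniteType (Y ↘ Spec (CommRingCat.of ℂ)) :=
    inferInstanceAs (LocallyOfFiniteType (f ≫ g))
  obtain ⟨V, hVne, hV⟩ := hgen
  have hgenZ : ∀ y : Z, closure ({y} : Set Z) = Set.univ → y = genericPoint Z := by
    intro y hy
    have h1 : IsGenericPoint y (Set.univ : Set Z) := hy
    exact h1.eq (genericPoint_spec Z)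
  have hξV : genericPoint Z ∈ V := by
    obtain ⟨v, hv⟩ := hVne
    exact (genericPoint_specializes v).mem_open V.2 hv
  -- maximal points map to the generic point
  have hmaxgen : ∀ ζ : Y, IsMaxPt ζ → f ζ = genericPoint Z := by
    intro ζ hζ
    have h1 := hdom (closure {ζ}) ((mem_irreducibleComponents_iff _).mpr ⟨ζ, hζ, rfl⟩)
    rw [dense_iff_closure_eq] at h1
    apply hgenZ
    rw [← h1]
    apply le_antisymm
    · apply closure_mono
      rw [Set.singleton_subset_iff]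
      exact ⟨ζ, subset_closure rfl, rfl⟩
    · apply closure_minimal _ isClosed_closure
      refine (image_closure_subset_closure_image f.continuous).trans ?_
      rw [Set.image_singleton]
  -- nonempty
  obtain ⟨z₀, hz₀V, hz₀⟩ := exists_isClosed_mem_of_isLocallyClosed ℂ Z (V : Set Z)
    V.2.isLocallyClosed hVne
  obtain ⟨y₀, -⟩ := (hV z₀ hz₀V hz₀).nonempty
  obtain ⟨ζ₀, hζ₀, -⟩ := exists_isMaxPt_specializes y₀
  -- uniqueness of the maximal point
  have huniq : ∀ ζ₁ ζ₂ : Y, IsMaxPt ζ₁ → IsMaxPt ζ₂ → ζ₁ = ζ₂ := by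
    intro ζ₁ ζ₂ h₁ h₂
    by_contra hne
    obtain ⟨D₁, hD₁o, hζ₁D, hD₁⟩ := exists_open_subset_closure_of_isMaxPt ℂ Y ζ₁ h₁
    obtain ⟨D₂, hD₂o, hζ₂D, hD₂⟩ := exists_open_subset_closure_of_isMaxPt ℂ Y ζ₂ h₂
    let U₁ : Y.Opens := ⟨D₁ ∩ (closure {ζ₂})ᶜ, hD₁o.inter isClosed_closure.isOpen_compl⟩
    let U₂ : Y.Opens := ⟨D₂ ∩ (closure {ζ₁})ᶜ, hD₂o.inter isClosed_closure.isOpen_compl⟩
    have hζ₁U : ζ₁ ∈ U₁ := ⟨hζ₁D, fun hmem => hne (h₁ ζ₂ (specializes_iff_mem_closure.mpr hmem)).symm⟩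
    have hζ₂U : ζ₂ ∈ U₂ := ⟨hζ₂D, fun hmem => hne (h₂ ζ₁ (specializes_iff_mem_closure.mpr hmem))⟩
    obtain ⟨V₁, hV₁, hV₁'⟩ :=
      GenericImage.exists_open_inter_closure_subset_image (U₁.ι ≫ f) ⟨ζ₁, hζ₁U⟩
    obtain ⟨V₂, hV₂, hV₂'⟩ :=
      GenericImage.exists_open_inter_closure_subset_image (U₂.ι ≫ f) ⟨ζ₂, hζ₂U⟩
    have e1 : (U₁.ι ≫ f) ⟨ζ₁, hζ₁U⟩ = genericPoint Z := hmaxgen ζ₁ h₁
    have e2 : (U₂.ι ≫ f) ⟨ζ₂, hζ₂U⟩ = genericPoint Z := hmaxgen ζ₂ h₂
    rw [e1] at hV₁ hV₁'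
    rw [e2] at hV₂ hV₂'
    obtain ⟨z, hz1, hz2⟩ := exists_isClosed_mem_of_isLocallyClosed ℂ Z
      ((V ⊓ V₁ ⊓ V₂ : Z.Opens) : Set Z) (V ⊓ V₁ ⊓ V₂).2.isLocallyClosed
      ⟨genericPoint Z, ⟨hξV, hV₁⟩, hV₂⟩
    obtain ⟨x₁, -, hx₁⟩ := hV₁' z hz1.1.2 (genericPoint_specializes z)
    obtain ⟨x₂, -, hx₂⟩ := hV₂' z hz1.2 (genericPoint_specializes z)
    have hirr := hV z hz1.1.1 hz2
    have hx₁' : f x₁.1 = z := hx₁
    have hx₂' : f x₂.1 = z := hx₂
    obtain ⟨y, -, hyU₁, hyU₂⟩ := hirr.2 (U₁ : Set Y) (U₂ : Set Y) U₁.2 U₂.2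
      ⟨x₁.1, hx₁', x₁.2⟩ ⟨x₂.1, hx₂', x₂.2⟩
    exact hyU₂.2 (hD₁ hyU₁.1)
  have hcl : closure ({ζ₀} : Set Y) = Set.univ := by
    rw [Set.eq_univ_iff_forall]
    intro x
    obtain ⟨ζ, hζ1, hζ2⟩ := exists_isMaxPt_specializes x
    rw [huniq ζ ζ₀ hζ1 hζ₀] at hζ2
    exact specializes_iff_mem_closure.mp hζ2
  exact { isPreirreducible_univ := by
            rw [← hcl]; exact isIrreducible_singleton.closure.isPreirreducible
          toNonempty := ⟨ζ₀⟩ }

end Groth.Agent.S16201
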