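import Groth.Statements.S16211
import Mathlib

set_option autoImplicit false
universe u v
open InvTh

namespace Groth.Agent.S16211

/-- Let R be a commutative ring, O a formally smooth R-algebra and G a finite group whose order is
invertible in R, acting on O by R-algebra automorphisms. Then the largest quotient algebra of O on
which G acts trivially, namely the quotient of O by the ideal generated by all g • f - f (the
coordinate ring of the subscheme of G-fixed points of Spec O), is again formally smooth over R: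
invariant homomorphisms lift along square-zero extensions. The published statement is about a scheme
X smooth and of finite presentation over the base and concludes that its fixed-point scheme is
smooth; this row, the affine step of its proof, assumes only that O is formally smooth over R and
concludes only formal smoothness. -/
theorem result (R : Type u) [CommRing R]
    (O : Type u) [CommRing O] [Algebra R O] [Algebra.FormallySmooth R O]
    (G : Type v) [Group G] [Finite G] [MulSemiringAction G O] [SMulCommClass G R O]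
    (hG : IsUnit (Nat.card G : R)) :
    Algebra.FormallySmooth R (O ⧸ Ideal.span {x : O | ∃ (g : G) (f : O), x = g • f - f}) := by
  classical
  haveI : Fintype G := Fintype.ofFinite G
  obtain ⟨u, hu⟩ : ∃ u : R, u * (Fintype.card G : R) = 1 := by
    rw [Nat.card_eq_fintype_card] at hG
    obtain ⟨v, hv⟩ := hG.exists_left_inv
    exact ⟨v, hv⟩
  obtain ⟨J, hJ⟩ : ∃ J : Ideal O, J = Ideal.span {x : O | ∃ (g : G) (f : O), x = g • f - f} :=
    ⟨_, rfl⟩
  rw [← hJ]
  apply Algebra.FormallySmooth.of_comp_surjective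
  intro B _ _ I hI φ
  obtain ⟨ψ, hψ⟩ := Algebra.FormallySmooth.comp_surjective R O I hI
    (φ.comp (Ideal.Quotient.mkₐ R J))
  have hψ' : ∀ a, Ideal.Quotient.mk I (ψ a) = φ (Ideal.Quotient.mk J a) := fun a =>
    DFunLike.congr_fun hψ a
  have hmkJ : ∀ (g : G) (a : O), Ideal.Quotient.mk J (g • a) = Ideal.Quotient.mk J a := by
    intro g a
    rw [Ideal.Quotient.eq, hJ]
    exact Ideal.subset_span ⟨g, a, rfl⟩
  have hδ : ∀ (g : G) (a : O), ψ (g • a) - ψ a ∈ I := by
    intro g a
    rw [← Ideal.Quotient.eq, hψ', hψ', hmkJ]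
  have hII : ∀ x ∈ I, ∀ y ∈ I, x * y = 0 := by
    intro x hx y hy
    have : x * y ∈ I ^ 2 := by
      rw [pow_two]
      exact Ideal.mul_mem_mul hx hy
    rwa [hI, Ideal.mem_bot] at this
  let L : O →ₗ[R] B := u • ∑ g : G, (ψ.comp (MulSemiringAction.toAlgHom R O g)).toLinearMap
  have hL : ∀ a, L a = u • ∑ g : G, ψ (g • a) := by
    intro a
    simp [L, LinearMap.sum_apply]
  have hLΔ : ∀ a, L a = ψ a + u • ∑ g : G, (ψ (g • a) - ψ a) := by
    intro a
    rw [hL, Finset.sum_sub_distrib, Finset.sum_const, Finset.card_univ, smul_sub,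
      ← Nat.cast_smul_eq_nsmul R, smul_smul, hu, one_smul]
    abel
  have hΔI : ∀ a, u • ∑ g : G, (ψ (g • a) - ψ a) ∈ I := fun a =>
    Submodule.smul_of_tower_mem I u (I.sum_mem fun g _ => hδ g a)
  have hone : L 1 = 1 := by
    rw [hLΔ]
    simp
  have hmul : ∀ a b, L (a * b) = L a * L b := by
    intro a b
    have hΔE := hII _ (hΔI a) _ (hΔI b)
    have hterm : ∀ g : G, ψ (g • (a * b)) - ψ (a * b) =
        ψ a * (ψ (g • b) - ψ b) + ψ b * (ψ (g • a) - ψ a) := by
      intro g
      have h0 := hII _ (hδ g a) _ (hδ g b)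
      rw [smul_mul', map_mul, map_mul]
      linear_combination h0
    have hsum : ∑ g : G, (ψ (g • (a * b)) - ψ (a * b)) =
        ψ a * ∑ g : G, (ψ (g • b) - ψ b) + ψ b * ∑ g : G, (ψ (g • a) - ψ a) := by
      rw [Finset.sum_congr rfl (fun g _ => hterm g), Finset.sum_add_distrib, Finset.mul_sum,
        Finset.mul_sum]
    rw [hLΔ (a * b), hsum, hLΔ a, hLΔ b, smul_add, map_mul, ← mul_smul_comm, ← mul_smul_comm]
    linear_combination -hΔE
  let ψ' : O →ₐ[R] B := AlgHom.ofLinearMap L hone hmul
  have hψ'L : ∀ a, ψ' a = L a := fun a => rfl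
  have hinv : ∀ (h : G) (a : O), ψ' (h • a) = ψ' a := by
    intro h a
    rw [hψ'L, hψ'L, hL, hL]
    congr 1
    exact Fintype.sum_equiv (Equiv.mulRight h) _ _ (fun g => by simp [mul_smul])
  have hkill : ∀ a ∈ J, ψ' a = 0 := by
    have : J ≤ RingHom.ker ψ'.toRingHom := by
      rw [hJ, Ideal.span_le]
      rintro x ⟨g, f, rfl⟩
      rw [SetLike.mem_coe, RingHom.mem_ker]
      show ψ' (g • f - f) = 0
      rw [map_sub, hinv, sub_self]
    intro a ha
    exact this ha
  refine ⟨Ideal.Quotient.liftₐ J ψ' hkill, ?_⟩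
  apply AlgHom.ext
  intro q
  obtain ⟨a, rfl⟩ := Ideal.Quotient.mk_surjective q
  show Ideal.Quotient.mk I (ψ' a) = φ (Ideal.Quotient.mk J a)
  rw [hψ'L, hLΔ, map_add, Ideal.Quotient.eq_zero_iff_mem.mpr (hΔI a), add_zero, hψ']

end Groth.Agent.S16211
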