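import Groth.Statements.S16212
import Groth.Agent.Lib.Helper19.FixSm

set_option autoImplicit false
universe u v
open CategoryTheory AlgebraicGeometry
open AlgGrp

namespace Groth.Agent.S16212

/-- Let S be a scheme, X an S-scheme that is smooth, separated and of finite presentation over S, and G
a finite group whose order is invertible on S (a unit among the global functions of S) acting on X
by S-automorphisms. Then the scheme of G-fixed points of X, namely any S-scheme Z with an S-morphism
ι to X that is itself fixed by every element of G (ι followed by the automorphism of each g equals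
ι) and such that an S-morphism T → X is fixed by every element of G exactly when it factors through
ι, and then uniquely, is a closed subscheme of X (ι is a closed immersion) which is smooth and of
finite presentation over S (smooth, quasi-compact and quasi-separated). The published statement
assumes X only smooth and of finite presentation over S; this row also assumes X separated over S. -/
theorem result (S : Scheme.{u})
    (X : Over S) [Smooth X.hom] [QuasiCompact X.hom] [IsSeparated X.hom]
    (G : Type v) [Group G] [Finite G] (ρ : G →* Aut X)
    (hG : IsUnit (Nat.card G : Γ(S, ⊤)))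
    (Z : Over S) (ι : Z ⟶ X) (hι : ∀ g : G, ι ≫ (ρ g).hom = ι)
    (hZ : ∀ (T : Over S) (t : T ⟶ X), (∀ g : G, t ≫ (ρ g).hom = t) ↔ ∃! t' : T ⟶ Z, t' ≫ ι = t) :
    IsClosedImmersion ι.left ∧ Smooth Z.hom ∧ QuasiCompact Z.hom ∧ QuasiSeparated Z.hom := by
  have hci : IsClosedImmersion ι.left :=
    Groth.Agent.Lib.Helper19.FixSm.isClosedImmersion_of_fixed X (fun g => (ρ g).hom) Z ι hι hZ
  haveI := hci
  have hw : ι.left ≫ X.hom = Z.hom := Over.w ι
  refine ⟨hci, ?_, ?_, ?_⟩
  · rw [← hw]
    refine Groth.Agent.Lib.Helper19.FixSm.smooth_fixed_aux X.hom ι.left G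
      (fun g => (ρ g).hom.left) ?_ ?_ ?_ hG ?_ ?_
    · show (ρ 1).hom.left = 𝟙 X.left
      rw [map_one]; rfl
    · intro g h
      show (ρ (g * h)).hom.left = (ρ h).hom.left ≫ (ρ g).hom.left
      rw [map_mul]; rfl
    · intro g; exact Over.w (ρ g).hom
    · intro g
      show ι.left ≫ (ρ g).hom.left = ι.left
      rw [← Over.comp_left, hι]
    · intro T t ht
      obtain ⟨t', ht', -⟩ := (hZ (Over.mk (t ≫ X.hom)) (Over.homMk t rfl)).mp (fun g => by
        ext
        simp only [Over.comp_left, Over.homMk_left]
        exact ht g)
      refine ⟨t'.left, ?_⟩
      have := congrArg (fun m => m.left) ht'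
      simpa using this
  · rw [← hw]; infer_instance
  · rw [← hw]; infer_instance

end Groth.Agent.S16212
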