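import Groth.Statements.S16213
import Mathlib
import Groth.Agent.Lib.Helper10.Boot3

set_option autoImplicit false
open CategoryTheory AlgebraicGeometry
universe u
open AlgSt

namespace Groth.Agent.S16213



/-- Let S be a scheme, let 𝒳 and 𝒴 be stacks in groupoids over (Sch/S) for the fppf topology with 𝒴 an
algebraic stack, and let f : 𝒳 ⟶ 𝒴 be a functor over (Sch/S). Suppose there are an algebraic space Z
over S and a functor z : Z ⟶ 𝒴 over (Sch/S) which is representable by algebraic spaces, smooth and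
surjective, such that the 2-fibre product Z ×_𝒴 𝒳 is an algebraic stack. Then 𝒳 is an algebraic
stack over S. -/
theorem result {S : Scheme.{u}} {𝒳 𝒴 : AlgSt.Cat S}
    (h𝒳 : Stk.IsStack (QuotSh.J Scheme.fppfPrecoverage S) 𝒳)
    (h𝒴 : AlgSt.IsAlgStack Scheme.fppfPrecoverage 𝒴) (f : 𝒳 ⥤ᵇ 𝒴)
    (Z : AlgSp.Space S) (z : AlgSt.ofSp Z.obj ⥤ᵇ 𝒴)
    (hsm : AlgSt.RepByAlgSpWith (AlgSp.LocP @Smooth) z)
    (hsurj : AlgSt.RepByAlgSpWith AlgSp.IsSurjectiveMor z)
    (hfp : AlgSt.IsAlgStack Scheme.fppfPrecoverage (FibCat.fp z f)) :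
    AlgSt.IsAlgStack Scheme.fppfPrecoverage 𝒳 := by
  obtain ⟨W, x', h1, h2⟩ := hfp.atlas
  have hO := Groth.Agent.Lib.Helper10.Fib.isFibGrpd_overForget W
  have hfpg := hfp.isStack.1
  exact H10PT.Boot.isAlgStack_of_smooth_cover h𝒳
    (Groth.Agent.Lib.Helper28.AlgSt.DiagRep.repByAlgSp_overCat W)
    (BasedFunctor.comp x' (FibCat.fpSnd z f))
    (Groth.Agent.Lib.Helper28.AlgSt.PropInst.repByAlgSpWith_comp_smooth hO hfpg x' _ h1
      (Groth.Agent.Lib.Helper10.AlgStRep.repByAlgSpWith_fpSnd _ z f hsm))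
    (Groth.Agent.Lib.Helper28.AlgSt.PropInst.repByAlgSpWith_comp_surjective hO hfpg x' _ h2
      (Groth.Agent.Lib.Helper10.AlgStRep.repByAlgSpWith_fpSnd _ z f hsurj))

end Groth.Agent.S16213
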