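import Groth.Statements.S16219
import Mathlib
import Groth.Agent.Lib.Helper17.SubalgLim

set_option autoImplicit false
universe u
open Lim

namespace Groth.Agent.S16219

open AlgebraicGeometry CategoryTheory in
/-- Let A be a commutative ring, X a scheme of finite type over Spec A (quasi-compact and locally of
finite type), C an A-algebra that is an integral domain and the union of a directed family of
A-subalgebras C_i, and g : Spec C → X an A-morphism. Then for some index i there is an A-morphism
Spec C_i → X whose composite with the morphism Spec C → Spec C_i induced by the inclusion is g. The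
published statement asserts that the map from the colimit of the sets of A-morphisms Spec C_i → X to
the set of A-morphisms Spec C → X is bijective; this row states only that it is surjective
(injectivity holds for every filtered colimit of A-algebras). -/
theorem result
    {ι : Type u} (A C : Type u) [CommRing A] [CommRing C] [Algebra A C] [IsDomain C]
    (S : ι → Subalgebra A C) (hdir : Directed (· ≤ ·) S) (hcov : ∀ c : C, ∃ i, c ∈ S i)
    (X : Scheme.{u}) (f : X ⟶ Spec (CommRingCat.of A))
    [LocallyOfFiniteType f] [QuasiCompact f]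
    (g : Spec (CommRingCat.of C) ⟶ X)
    (hg : g ≫ f = Spec.map (CommRingCat.ofHom (algebraMap A C))) :
    ∃ (i : ι) (g' : Spec (CommRingCat.of (S i)) ⟶ X),
      g' ≫ f = Spec.map (CommRingCat.ofHom (algebraMap A (S i))) ∧
      Spec.map (CommRingCat.ofHom (S i).val.toRingHom) ≫ g' = g := by
  classical
  have hne : Nonempty ι := by
    obtain ⟨i, -⟩ := hcov 0
    exact ⟨i⟩
  haveI hfilt : IsFiltered (Groth.Agent.Lib.Helper17.SubalgLim.Idx S) :=
    Groth.Agent.Lib.Helper17.SubalgLim.isFiltered S hdir hne
  obtain ⟨hcol⟩ := Groth.Agent.Lib.Helper17.SubalgLim.nonempty_isColimit_ringCocone S hcov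
  let F := Groth.Agent.Lib.Helper17.SubalgLim.ringDiagram S
  let cc := Groth.Agent.Lib.Helper17.SubalgLim.ringCocone S
  let D : (Groth.Agent.Lib.Helper17.SubalgLim.Idx S)ᵒᵖ ⥤ Scheme.{u} := F.op ⋙ Scheme.Spec
  let c : Limits.Cone D := Scheme.Spec.mapCone cc.op
  have hc : Limits.IsLimit c := Limits.isLimitOfPreserves Scheme.Spec hcol.op
  let t : D ⟶ (Functor.const _).obj (Spec (CommRingCat.of A)) :=
    { app := fun i => Spec.map (CommRingCat.ofHom (algebraMap A (S i.unop)))
      naturality := by
        intro i j h
        change Spec.map (F.map h.unop) ≫ Spec.map _ = Spec.map _ ≫ 𝟙 _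
        rw [Category.comp_id, ← Spec.map_comp]
        rfl }
  haveI hAff : ∀ {i j : (Groth.Agent.Lib.Helper17.SubalgLim.Idx S)ᵒᵖ} (h : i ⟶ j),
      IsAffineHom (D.map h) := fun h => inferInstanceAs (IsAffineHom (Spec.map (F.map h.unop)))
  haveI hdom : ∀ {i j : (Groth.Agent.Lib.Helper17.SubalgLim.Idx S)ᵒᵖ} (h : i ⟶ j),
      IsSchemeTheoreticallyDominant (D.map h) := fun {i j} h =>
    Groth.Agent.Lib.Helper17.SubalgLim.isSchemeTheoreticallyDominant_Spec_map (F.map h.unop)
      (Subalgebra.inclusion_injective (leOfHom h.unop))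
  haveI : ∀ i, CompactSpace (D.obj i) := fun i =>
    inferInstanceAs (CompactSpace (Spec (F.obj i.unop)))
  haveI : ∀ i, QuasiSeparatedSpace (D.obj i) := fun i =>
    inferInstanceAs (QuasiSeparatedSpace (Spec (F.obj i.unop)))
  have ha : c.π ≫ t = (Functor.const _).map (g ≫ f) := by
    ext i : 2
    change Spec.map (cc.ι.app i.unop) ≫ Spec.map (CommRingCat.ofHom (algebraMap A (S i.unop))) =
      g ≫ f
    rw [hg, ← Spec.map_comp]
    rfl
  obtain ⟨i, g', h1, h2⟩ := Groth.Agent.Lib.Helper17.HomColimFT.exists_π_app_comp_eq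
    D t f c hc g ha
  exact ⟨i.unop, g', h2, h1⟩

end Groth.Agent.S16219
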