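import Groth.Statements.S16220
import Mathlib

set_option autoImplicit false
universe u v
open Disp

namespace Groth.Agent.S16220

theorem p_mul_cancel (p : ℕ) [Fact p.Prime] (k : Type u) [CommRing k] [CharP k p] [PerfectRing k p]
    (x y : WittVector p k) (h : x * p = y * p) : x = y := by
  rw [← WittVector.verschiebung_frobenius, ← WittVector.verschiebung_frobenius] at h
  exact (WittVector.frobenius_bijective p k).1 (WittVector.verschiebung_injective p k h)

theorem coord_aux (p : ℕ) [Fact p.Prime] (k : Type u) [CommRing k] [CharP k p] [PerfectRing k p]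
    (n : ℕ) (hn : 1 ≤ n) (c : WittVector p k ⧸ Ideal.span {(p : WittVector p k) ^ n})
    (hc : Ideal.Quotient.mk _ (p : WittVector p k) * c = 0) :
    ∃ c' : WittVector p k ⧸ Ideal.span {(p : WittVector p k) ^ n},
      c = Ideal.Quotient.mk _ ((p : WittVector p k) ^ (n - 1)) * c' := by
  obtain ⟨w, rfl⟩ := Ideal.Quotient.mk_surjective c
  rw [← map_mul, Ideal.Quotient.eq_zero_iff_mem, Ideal.mem_span_singleton'] at hc
  obtain ⟨w', hw'⟩ := hc
  have hpn : (p : WittVector p k) ^ n = (p : WittVector p k) ^ (n - 1) * p := by
    rw [← pow_succ, Nat.sub_add_cancel hn]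
  have : w = (p : WittVector p k) ^ (n - 1) * w' := by
    apply p_mul_cancel p k
    rw [mul_comm w, ← hw', hpn]
    ring
  exact ⟨Ideal.Quotient.mk _ w', by rw [← map_mul, this]⟩

theorem torsion_mem (p : ℕ) [Fact p.Prime] (k : Type u) [CommRing k] [CharP k p] [PerfectRing k p]
    (n : ℕ) (hn : 1 ≤ n) (M : Type v) [AddCommGroup M] [Module (WittVector p k) M]
    [Module (WittVector p k ⧸ Ideal.span {(p : WittVector p k) ^ n}) M]
    [IsScalarTower (WittVector p k) (WittVector p k ⧸ Ideal.span {(p : WittVector p k) ^ n}) M]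
    [Module.Projective (WittVector p k ⧸ Ideal.span {(p : WittVector p k) ^ n}) M]
    (x : M) (hx : (p : WittVector p k) • x = 0) :
    ∃ y : M, ((p : WittVector p k) ^ (n - 1)) • y = x := by
  obtain ⟨s, hs⟩ := Module.projective_def'.mp
    (inferInstance : Module.Projective (WittVector p k ⧸ Ideal.span {(p : WittVector p k) ^ n}) M)
  have hx' : (Ideal.Quotient.mk (Ideal.span {(p : WittVector p k) ^ n}) (p : WittVector p k)) • x
      = 0 := by
    rw [← hx, ← Ideal.Quotient.algebraMap_eq, algebraMap_smul]
  have hsx : (Ideal.Quotient.mk (Ideal.span {(p : WittVector p k) ^ n}) (p : WittVector p k)) • s x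
      = 0 := by
    rw [← map_smul, hx', map_zero]
  have hcoord : ∀ m : M, ∃ c' : WittVector p k ⧸ Ideal.span {(p : WittVector p k) ^ n},
      (s x) m = Ideal.Quotient.mk _ ((p : WittVector p k) ^ (n - 1)) * c' := by
    intro m
    apply coord_aux p k n hn
    have := DFunLike.congr_fun hsx m
    simpa using this
  choose c' hc' using hcoord
  refine ⟨∑ m ∈ (s x).support, c' m • m, ?_⟩
  have hx2 : x = Finsupp.linearCombination _ id (s x) := by
    have := DFunLike.congr_fun hs x
    simpa using this.symm
  conv_rhs => rw [hx2]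
  rw [Finsupp.linearCombination_apply, Finsupp.sum, Finset.smul_sum]
  refine Finset.sum_congr rfl fun m _ => ?_
  rw [hc' m, id, mul_smul, ← Ideal.Quotient.algebraMap_eq, algebraMap_smul]

/-- Let p be a prime and k a perfect ring of characteristic p, so that the Frobenius σ of W = W(k) is
bijective, W has no p-torsion and W/p^n W = W_n(k) (the ideal p^n W is the kernel of the truncation
to length n). Let n ≥ 2 and let M be a truncated Dieudonné module of level n over k: a W-module on
which W acts through W/p^n W, finitely generated and projective over W/p^n W, with a σ-semilinear F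
: M → M and a σ⁻¹-semilinear V : M → M such that FV = VF = p. Then on M/pM the kernel of F is the
image of V and the kernel of V is the image of F; stated inside M: the preimage of pM under F is VM
+ pM, and the preimage of pM under V is FM + pM. -/
theorem result (p : ℕ) [Fact p.Prime] (k : Type u) [CommRing k]
    [CharP k p] [PerfectRing k p] (n : ℕ) (hn : 2 ≤ n)
    (M : Type v) [AddCommGroup M] [Module (WittVector p k) M]
    [Module (WittVector p k ⧸ Ideal.span {(p : WittVector p k) ^ n}) M] [IsScalarTower (WittVector p k) (WittVector p k ⧸ Ideal.span {(p : WittVector p k) ^ n}) M]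
    [Module.Finite (WittVector p k ⧸ Ideal.span {(p : WittVector p k) ^ n}) M] [Module.Projective (WittVector p k ⧸ Ideal.span {(p : WittVector p k) ^ n}) M]
    (F : M →ₛₗ[(WittVector.frobenius : WittVector p k →+* WittVector p k)] M)
    (V : M →ₛₗ[((WittVector.frobeniusEquiv p k).symm : WittVector p k →+* WittVector p k)] M)
    (hFV : ∀ m : M, F (V m) = (p : WittVector p k) • m) (hVF : ∀ m : M, V (F m) = (p : WittVector p k) • m) :
    (Ideal.span {(p : WittVector p k)} • (⊤ : Submodule (WittVector p k) M)).comap F =
        Submodule.span (WittVector p k) (Set.range V) ⊔ Ideal.span {(p : WittVector p k)} • (⊤ : Submodule (WittVector p k) M) ∧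
      (Ideal.span {(p : WittVector p k)} • (⊤ : Submodule (WittVector p k) M)).comap V =
        Submodule.span (WittVector p k) (Set.range F) ⊔ Ideal.span {(p : WittVector p k)} • (⊤ : Submodule (WittVector p k) M) := by
  have hn1 : 1 ≤ n := by omega
  have hpM : ∀ x : M, x ∈ Ideal.span {(p : WittVector p k)} • (⊤ : Submodule (WittVector p k) M) ↔
      ∃ y, (p : WittVector p k) • y = x := by
    intro x
    rw [Submodule.ideal_span_singleton_smul, Submodule.mem_smul_pointwise_iff_exists]
    simp
  have hpow : ∀ y : M, ((p : WittVector p k) ^ (n - 1)) • y ∈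
      Ideal.span {(p : WittVector p k)} • (⊤ : Submodule (WittVector p k) M) := by
    intro y
    refine (hpM _).2 ⟨((p : WittVector p k) ^ (n - 2)) • y, ?_⟩
    rw [smul_smul, ← pow_succ']
    congr 2
    omega
  constructor
  · apply le_antisymm
    · intro m hm
      rw [Submodule.mem_comap] at hm
      obtain ⟨m', hm'⟩ := (hpM _).1 hm
      have h0 : F (m - V m') = 0 := by rw [map_sub, hFV, hm', sub_self]
      have h1 : (p : WittVector p k) • (m - V m') = 0 := by rw [← hVF, h0, map_zero]
      obtain ⟨y, hy⟩ := torsion_mem p k n hn1 M _ h1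
      refine Submodule.mem_sup.mpr ⟨V m', Submodule.subset_span ⟨m', rfl⟩, _, hpow y, ?_⟩
      rw [hy]
      abel
    · refine sup_le (Submodule.span_le.mpr ?_) ?_
      · rintro _ ⟨m, rfl⟩
        rw [SetLike.mem_coe, Submodule.mem_comap]
        rw [hFV]
        exact (hpM _).2 ⟨m, rfl⟩
      · intro x hx
        obtain ⟨y, rfl⟩ := (hpM x).1 hx
        rw [Submodule.mem_comap]
        rw [F.map_smulₛₗ, map_natCast]
        exact (hpM _).2 ⟨F y, rfl⟩
  · apply le_antisymm
    · intro m hm
      rw [Submodule.mem_comap] at hm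
      obtain ⟨m', hm'⟩ := (hpM _).1 hm
      have h0 : V (m - F m') = 0 := by rw [map_sub, hVF, hm', sub_self]
      have h1 : (p : WittVector p k) • (m - F m') = 0 := by rw [← hFV, h0, map_zero]
      obtain ⟨y, hy⟩ := torsion_mem p k n hn1 M _ h1
      refine Submodule.mem_sup.mpr ⟨F m', Submodule.subset_span ⟨m', rfl⟩, _, hpow y, ?_⟩
      rw [hy]
      abel
    · refine sup_le (Submodule.span_le.mpr ?_) ?_
      · rintro _ ⟨m, rfl⟩
        rw [SetLike.mem_coe, Submodule.mem_comap]
        rw [hVF]
        exact (hpM _).2 ⟨m, rfl⟩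
      · intro x hx
        obtain ⟨y, rfl⟩ := (hpM x).1 hx
        rw [Submodule.mem_comap]
        rw [V.map_smulₛₗ, map_natCast]
        exact (hpM _).2 ⟨V y, rfl⟩

end Groth.Agent.S16220
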