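import Groth.Statements.S16223
import Mathlib
import Groth.Agent.Lib.Helper10.WD8
import Groth.Agent.Lib.Helper10.WittDescent2

set_option autoImplicit false
open CategoryTheory Opposite
universe u
open CAlg

namespace Groth.Agent.S16223

/-- Let p be a prime, n a natural number, and R → R' a faithfully flat homomorphism of commutative rings
in which p is nilpotent; write W_n for truncated Witt vectors of length n. A descent datum of
W_n(R')-modules relative to R → R' is a W_n(R')-module M' with, for every ring T and every pair of
maps R' ⇉ T agreeing on R, an isomorphism between the two base changes of M' to W_n(T), natural in T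
and satisfying the cocycle condition (equivalently an isomorphism over W_n(R' ⊗_R R') with the
cocycle condition over W_n(R' ⊗_R R' ⊗_R R')); base change W_n(R') ⊗_{W_n(R)} M of a W_n(R)-module M
carries the canonical such datum. Then for finitely generated projective W_n(R)-modules M and N, the
map sending a W_n(R)-linear map M → N to the induced morphism of canonical descent data is bijective
(the functor to descent data is fully faithful on such modules). -/
theorem result (p : ℕ) [Fact p.Prime] (n : ℕ)
    (R R' : Type u) [CommRing R] [CommRing R'] [Algebra R R'] [Module.FaithfullyFlat R R']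
    (hp : IsNilpotent (p : R))
    (M N : ModuleCat.{u} (TruncatedWittVector p n R))
    [Module.Finite (TruncatedWittVector p n R) M] [Module.Projective (TruncatedWittVector p n R) M]
    [Module.Finite (TruncatedWittVector p n R) N] [Module.Projective (TruncatedWittVector p n R) N] :
    Function.Bijective (fun φ : M ⟶ N =>
      ((W4c3truncdispsmooth.wittModPF.{u} p n).toDescentData (fun _ : PUnit.{u + 1} => (CommRingCat.ofHom (algebraMap R R')).op)).map φ) := by
  have hq : H10PT.MD.fR R R' ≫ H10PT.MD.i2 R R' = H10PT.MD.fR R R' ≫ H10PT.MD.i1 R R' :=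
    (H10PT.MD.i1_i2 R R').symm
  letI algAB : Algebra (TruncatedWittVector p n R) (TruncatedWittVector p n R') :=
    (WittGrp.truncMap p n (algebraMap R R')).toAlgebra
  letI algAC : Algebra (TruncatedWittVector p n R) (TruncatedWittVector p n (TensorProduct R R' R')) :=
    (WittGrp.truncMap p n (H10PT.MD.fR R R' ≫ H10PT.MD.i1 R R').hom).toAlgebra
  let ψ₁ : TruncatedWittVector p n R' →ₐ[TruncatedWittVector p n R]
      TruncatedWittVector p n (TensorProduct R R' R') :=
    { WittGrp.truncMap p n (H10PT.MD.i1 R R').hom with
      commutes' := fun a => by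
        show WittGrp.truncMap p n (H10PT.MD.i1 R R').hom (WittGrp.truncMap p n (algebraMap R R') a) =
          WittGrp.truncMap p n (H10PT.MD.fR R R' ≫ H10PT.MD.i1 R R').hom a
        rw [← RingHom.comp_apply, ← WittGrp.truncMap_comp]
        rfl }
  let ψ₂ : TruncatedWittVector p n R' →ₐ[TruncatedWittVector p n R]
      TruncatedWittVector p n (TensorProduct R R' R') :=
    { WittGrp.truncMap p n (H10PT.MD.i2 R R').hom with
      commutes' := fun a => by
        show WittGrp.truncMap p n (H10PT.MD.i2 R R').hom (WittGrp.truncMap p n (algebraMap R R') a) =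
          WittGrp.truncMap p n (H10PT.MD.fR R R' ≫ H10PT.MD.i1 R R').hom a
        rw [← RingHom.comp_apply, ← WittGrp.truncMap_comp, ← hq]
        rfl }
  have hex := H10Desc.trunc_exact p n R R' rfl ψ₁ ψ₂ rfl rfl N
  letI algAB' : Algebra ((W4c3truncdispsmooth.wittTrunc.{u} p n).obj (CommRingCat.of R))
      ((W4c3truncdispsmooth.wittTrunc.{u} p n).obj (CommRingCat.of R')) := algAB
  letI algAC' : Algebra ((W4c3truncdispsmooth.wittTrunc.{u} p n).obj (CommRingCat.of R))
      ((W4c3truncdispsmooth.wittTrunc.{u} p n).obj (CommRingCat.of (TensorProduct R R' R'))) := algAC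
  exact H10PT.WD.bijective_of_exact_G (W4c3truncdispsmooth.wittTrunc.{u} p n) (H10PT.MD.fR R R')
    (H10PT.MD.i1 R R') (H10PT.MD.i2 R R') hq N
    rfl rfl ψ₁ ψ₂ rfl rfl M hex.1 hex.2
    ((W4c3truncdispsmooth.wittModPF.{u} p n).toDescentData
      (fun _ : PUnit.{u + 1} => (CommRingCat.ofHom (algebraMap R R')).op)) rfl

end Groth.Agent.S16223
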