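import Groth.Statements.S16234
import Mathlib

set_option autoImplicit false
universe u v
open CAlg

namespace Groth.Agent.S16234

/-- For a finitely generated module M over a Noetherian commutative ring A, every prime ideal in the
support of M is a maximal ideal if and only if M has finite length. -/
theorem result (A : Type u) [CommRing A] [IsNoetherianRing A]
    (M : Type v) [AddCommGroup M] [Module A M] [Module.Finite A M] :
    (∀ p ∈ Module.support A M, p.asIdeal.IsMaximal) ↔ IsFiniteLength A M := by
  constructor
  · intro h
    letI : Module (A ⧸ Module.annihilator A M) M := Module.quotientAnnihilator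
    haveI : IsScalarTower A (A ⧸ Module.annihilator A M) M :=
      (Module.isTorsionBySet_annihilator A M).isScalarTower
    haveI : Ring.KrullDimLE 0 (A ⧸ Module.annihilator A M) := Ring.KrullDimLE.mk₀ fun q hq => by
      have hp : (q.comap (Ideal.Quotient.mk (Module.annihilator A M))).IsPrime :=
        Ideal.comap_isPrime _ _
      have hmem : (⟨q.comap (Ideal.Quotient.mk (Module.annihilator A M)), hp⟩ : PrimeSpectrum A) ∈
          Module.support A M := by
        rw [Module.mem_support_iff_of_finite]
        intro a ha
        rw [Ideal.mem_comap, Ideal.Quotient.eq_zero_iff_mem.mpr ha]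
        exact q.zero_mem
      have hmax := h _ hmem
      have := Ideal.map_eq_top_or_isMaximal_of_surjective
        (Ideal.Quotient.mk (Module.annihilator A M)) Ideal.Quotient.mk_surjective hmax
      rw [Ideal.map_comap_of_surjective _ Ideal.Quotient.mk_surjective] at this
      exact this.resolve_left hq.ne_top
    haveI : IsArtinianRing (A ⧸ Module.annihilator A M) :=
      IsNoetherianRing.isArtinianRing_of_krullDimLE_zero
    haveI : Module.Finite (A ⧸ Module.annihilator A M) M :=
      Module.Finite.of_restrictScalars_finite A (A ⧸ Module.annihilator A M) M
    haveI : IsArtinian (A ⧸ Module.annihilator A M) M := isArtinian_of_fg_of_artinian'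
    haveI : IsArtinian A M :=
      isArtinian_of_surjective_algebraMap (R := A ⧸ Module.annihilator A M) (S := A)
        Ideal.Quotient.mk_surjective
    exact isFiniteLength_iff_isNoetherian_isArtinian.mpr ⟨inferInstance, inferInstance⟩
  · intro hfl p hp
    obtain ⟨_, hart⟩ := isFiniteLength_iff_isNoetherian_isArtinian.mp hfl
    obtain ⟨s, hs⟩ := (Module.finite_def.mp ‹Module.Finite A M›)
    let f : A →ₗ[A] (s → M) := LinearMap.pi fun i => LinearMap.toSpanSingleton A M i.1
    have hker : LinearMap.ker f = Module.annihilator A M := by
      ext a
      rw [LinearMap.mem_ker, Module.mem_annihilator]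
      constructor
      · intro h m
        have hm : m ∈ Submodule.span A (s : Set M) := hs ▸ Submodule.mem_top
        induction hm using Submodule.span_induction with
        | mem x hx =>
          have := congrFun h ⟨x, hx⟩
          simpa [f] using this
        | zero => simp
        | add x y _ _ hx hy => rw [smul_add, hx, hy, add_zero]
        | smul r x _ hx => rw [smul_comm, hx, smul_zero]
      · intro h
        ext i
        simpa [f] using h i.1
    have hK : IsArtinian A (A ⧸ LinearMap.ker f) :=
      (LinearMap.quotKerEquivRange f).isArtinian_iff.mpr inferInstance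
    rw [hker] at hK
    haveI : IsArtinianRing (A ⧸ Module.annihilator A M) := isArtinian_of_tower A hK
    have hle : Module.annihilator A M ≤ p.asIdeal := Module.mem_support_iff_of_finite.mp hp
    have hq : (p.asIdeal.map (Ideal.Quotient.mk (Module.annihilator A M))).IsPrime :=
      Ideal.map_isPrime_of_surjective Ideal.Quotient.mk_surjective (by rwa [Ideal.mk_ker])
    have hqmax : (p.asIdeal.map (Ideal.Quotient.mk (Module.annihilator A M))).IsMaximal :=
      IsArtinianRing.isMaximal_of_isPrime _
    have := Ideal.comap_isMaximal_of_surjective (Ideal.Quotient.mk (Module.annihilator A M))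
      Ideal.Quotient.mk_surjective (K := p.asIdeal.map (Ideal.Quotient.mk (Module.annihilator A M)))
    rwa [Ideal.comap_map_of_surjective _ Ideal.Quotient.mk_surjective,
      ← RingHom.ker_eq_comap_bot, Ideal.mk_ker, sup_eq_left.mpr hle] at this

end Groth.Agent.S16234
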