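import Groth.Statements.S16235
import Mathlib

set_option autoImplicit false
universe u
open CAlg

namespace Groth.Agent.S16235

/-- Let A be a Noetherian commutative ring and x_1, …, x_r a regular sequence on A (each x_i a
non-zero-divisor on A/(x_1, …, x_{i-1})) generating an ideal I ≠ A. Then the height of I, the
infimum of the heights of the minimal primes over I, equals r. -/
theorem result (A : Type u) [CommRing A] [IsNoetherianRing A]
    (r : ℕ) (x : Fin r → A) (hx : RingTheory.Sequence.IsWeaklyRegular A (List.ofFn x))
    (hI : Ideal.span (Set.range x) ≠ ⊤) :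
    (Ideal.span (Set.range x)).height = r := by
  have hrs : Ideal.ofList (List.ofFn x) = Ideal.span (Set.range x) := by
    exact congrArg Ideal.span (Set.ext fun a => by
      rw [Set.mem_ofPred_eq, List.mem_ofFn]
      rfl)
  apply le_antisymm
  · refine (Ideal.height_le_spanFinrank _ hI).trans ?_
    have h1 := Submodule.spanFinrank_span_le_ncard_of_finite (R := A) (Set.finite_range x)
    have h2 : (Set.range x).ncard ≤ r := by
      have := Set.ncard_image_le (f := x) (s := Set.univ) Set.finite_univ
      simpa [Set.image_univ] using this
    exact_mod_cast h1.trans h2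
  · rw [Ideal.height_eq_inf_minimalPrimes]
    refine le_iInf₂ fun p hp => ?_
    haveI := hp.1.1
    have hle : Ideal.span (Set.range x) ≤ p := hp.1.2
    have hreg := RingTheory.Sequence.IsWeaklyRegular.isRegular_of_isLocalization_of_mem
      (Localization.AtPrime p) p hx (fun a ha => by
        rw [List.mem_ofFn] at ha
        exact hle (Ideal.subset_span ha))
    haveI : IsLocalRing (Localization.AtPrime p) := inferInstance
    have hdim := ringKrullDim_add_length_eq_ringKrullDim_of_isRegular _ hreg
    rw [IsLocalization.AtPrime.ringKrullDim_eq_height p (Localization.AtPrime p), List.length_map, List.length_ofFn] at hdim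
    haveI : Nontrivial (Localization.AtPrime p ⧸
        Ideal.ofList ((List.ofFn x).map (algebraMap A (Localization.AtPrime p)))) := by
      apply Ideal.Quotient.nontrivial_iff.mpr
      intro htop
      apply hreg.2
      rw [htop]
      simp
    have hnn := ringKrullDim_nonneg_of_nontrivial (R := Localization.AtPrime p ⧸
        Ideal.ofList ((List.ofFn x).map (algebraMap A (Localization.AtPrime p))))
    have : ((r : ℕ∞) : WithBot ℕ∞) ≤ (p.height : WithBot ℕ∞) := by
      rw [← hdim]
      calc ((r : ℕ∞) : WithBot ℕ∞) = 0 + (r : WithBot ℕ∞) := by simp
        _ ≤ _ := by gcongr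
    exact_mod_cast this

end Groth.Agent.S16235
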