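import Groth.Statements.S16244
import Mathlib

set_option autoImplicit false
universe u
open Curves

namespace Groth.Agent.S16244

open WeierstrassCurve

variable {k : Type u} [Field k]

/-- hom u : stabilizer → kˣ -/
def uHom (W : WeierstrassCurve k) :
    MulAction.stabilizer (WeierstrassCurve.VariableChange k) W →* kˣ where
  toFun C := C.1.u
  map_one' := rfl
  map_mul' _ _ := rfl

lemma generic [IsAlgClosed k] (W : WeierstrassCurve k) (n : ℕ) [NeZero (n : k)]
    (H : ∀ C : VariableChange k, C • W = W ↔ (C.r = 0 ∧ C.s = 0 ∧ C.t = 0 ∧ C.u ^ n = 1)) :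
    IsCyclic (MulAction.stabilizer (VariableChange k) W) ∧
      Nat.card (MulAction.stabilizer (VariableChange k) W) = n := by
  haveI : NeZero n := .of_neZero_natCast k
  let e : MulAction.stabilizer (VariableChange k) W ≃ rootsOfUnity n k :=
    { toFun := fun C => ⟨C.1.u, by
        rw [mem_rootsOfUnity]; exact ((H C.1).mp (MulAction.mem_stabilizer_iff.mp C.2)).2.2.2⟩
      invFun := fun ζ => ⟨⟨ζ.1, 0, 0, 0⟩, by
        rw [MulAction.mem_stabilizer_iff, H]; exact ⟨rfl, rfl, rfl, (mem_rootsOfUnity _ _).mp ζ.2⟩⟩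
      left_inv := fun C => by
        obtain ⟨h1, h2, h3, -⟩ := (H C.1).mp (MulAction.mem_stabilizer_iff.mp C.2)
        apply Subtype.ext
        ext <;> simp [h1, h2, h3]
      right_inv := fun ζ => rfl }
  haveI : Finite (MulAction.stabilizer (VariableChange k) W) := Finite.of_equiv _ e.symm
  refine ⟨?_, ?_⟩
  · refine isCyclic_of_subgroup_isDomain ((Units.coeHom k).comp (uHom W)) ?_
    intro C C' h
    have h' : C.1.u = C'.1.u := Units.ext h
    have := e.injective (a₁ := C) (a₂ := C') (Subtype.ext h')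
    exact this
  · rw [Nat.card_congr e, HasEnoughRootsOfUnity.natCard_rootsOfUnity]

lemma stab_iff (h2 : (2 : k) ≠ 0) (h3 : (3 : k) ≠ 0) (W : WeierstrassCurve k) [W.IsShortNF]
    (C : VariableChange k) :
    C • W = W ↔ (C.r = 0 ∧ C.s = 0 ∧ C.t = 0 ∧ (↑C.u⁻¹ : k) ^ 4 * W.a₄ = W.a₄ ∧
      (↑C.u⁻¹ : k) ^ 6 * W.a₆ = W.a₆) := by
  have hu : (↑C.u⁻¹ : k) ≠ 0 := Units.ne_zero _
  constructor
  · intro h
    have e1 := congrArg WeierstrassCurve.a₁ h
    have e2 := congrArg WeierstrassCurve.a₂ h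
    have e3 := congrArg WeierstrassCurve.a₃ h
    have e4 := congrArg WeierstrassCurve.a₄ h
    have e6 := congrArg WeierstrassCurve.a₆ h
    simp only [variableChange_a₁, variableChange_a₂, variableChange_a₃, variableChange_a₄,
      variableChange_a₆, a₁_of_isShortNF, a₂_of_isShortNF, a₃_of_isShortNF] at e1 e2 e3 e4 e6
    have hs : C.s = 0 := by
      have : (↑C.u⁻¹ : k) * 2 * C.s = 0 := by linear_combination e1
      simpa [hu, h2] using this
    have hr : C.r = 0 := by
      rw [hs] at e2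
      have : (↑C.u⁻¹ : k) ^ 2 * 3 * C.r = 0 := by linear_combination e2
      simpa [hu, h3] using this
    have ht : C.t = 0 := by
      have : (↑C.u⁻¹ : k) ^ 3 * 2 * C.t = 0 := by linear_combination e3
      simpa [hu, h2] using this
    simp only [hs, hr, ht] at e4 e6
    refine ⟨hr, hs, ht, ?_, ?_⟩
    · linear_combination e4
    · linear_combination e6
  · rintro ⟨hr, hs, ht, e4, e6⟩
    ext
    · simp [variableChange_a₁, hs]
    · simp [variableChange_a₂, hs, hr]
    · simp [variableChange_a₃, ht]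
    · rw [variableChange_a₄]
      simp only [a₁_of_isShortNF, a₂_of_isShortNF, a₃_of_isShortNF, hr, hs, ht]
      linear_combination e4
    · rw [variableChange_a₆]
      simp only [a₁_of_isShortNF, a₂_of_isShortNF, a₃_of_isShortNF, hr, hs, ht]
      linear_combination e6

lemma inv_pow_eq_one_iff (u : kˣ) (n : ℕ) : (↑u⁻¹ : k) ^ n = 1 ↔ u ^ n = 1 := by
  rw [← Units.val_pow_eq_pow_val, Units.val_eq_one, inv_pow, inv_eq_one]

/-- Let k be an algebraically closed field in which 2 and 3 are nonzero, and W a short Weierstrass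
equation y² = x³ + a₄x + a₆ over k with nonzero discriminant. The admissible changes of variables
(u, r, s, t) that fix W form a cyclic group, of order 6 when a₄ = 0, of order 4 when a₆ = 0, and of
order 2 when a₄ and a₆ are both nonzero. (The published statement says the automorphism group of the
elliptic curve is cyclic of order 2, 4 or 6; the automorphisms are rendered here as the changes of
variables preserving the equation, and the case distinction is the one the computation gives.) -/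
theorem result
    (k : Type u) [Field k] [IsAlgClosed k] (h2 : (2 : k) ≠ 0) (h3 : (3 : k) ≠ 0)
    (W : WeierstrassCurve k) [W.IsShortNF] (hΔ : W.Δ ≠ 0) :
    IsCyclic ↥(MulAction.stabilizer (WeierstrassCurve.VariableChange k) W) ∧
      (W.a₄ = 0 → Nat.card ↥(MulAction.stabilizer (WeierstrassCurve.VariableChange k) W) = 6) ∧
      (W.a₆ = 0 → Nat.card ↥(MulAction.stabilizer (WeierstrassCurve.VariableChange k) W) = 4) ∧
      (W.a₄ ≠ 0 → W.a₆ ≠ 0 → Nat.card ↥(MulAction.stabilizer (WeierstrassCurve.VariableChange k) W) = 2) := by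
  have hΔ' : ¬ (W.a₄ = 0 ∧ W.a₆ = 0) := by
    rintro ⟨h4, h6⟩
    apply hΔ
    rw [WeierstrassCurve.Δ_of_isShortNF, h4, h6]
    ring
  have h6k : ((6 : ℕ) : k) ≠ 0 := by
    have : ((6 : ℕ) : k) = 2 * 3 := by norm_num
    rw [this]; exact mul_ne_zero h2 h3
  have h4k : ((4 : ℕ) : k) ≠ 0 := by
    have : ((4 : ℕ) : k) = 2 * 2 := by norm_num
    rw [this]; exact mul_ne_zero h2 h2
  have h2k : ((2 : ℕ) : k) ≠ 0 := by exact_mod_cast h2
  haveI : NeZero ((6 : ℕ) : k) := ⟨h6k⟩
  haveI : NeZero ((4 : ℕ) : k) := ⟨h4k⟩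
  haveI : NeZero ((2 : ℕ) : k) := ⟨h2k⟩
  -- the three cases
  have case6 : W.a₄ = 0 → IsCyclic ↥(MulAction.stabilizer (WeierstrassCurve.VariableChange k) W) ∧
      Nat.card ↥(MulAction.stabilizer (WeierstrassCurve.VariableChange k) W) = 6 := by
    intro h4
    have h6 : W.a₆ ≠ 0 := fun h => hΔ' ⟨h4, h⟩
    apply generic W 6
    intro C
    rw [stab_iff h2 h3 W C, h4, ← inv_pow_eq_one_iff]
    constructor
    · rintro ⟨hr, hs, ht, -, e6⟩
      exact ⟨hr, hs, ht, by simpa [h6] using e6⟩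
    · rintro ⟨hr, hs, ht, e6⟩
      exact ⟨hr, hs, ht, by simp, by rw [e6, one_mul]⟩
  have case4 : W.a₆ = 0 → IsCyclic ↥(MulAction.stabilizer (WeierstrassCurve.VariableChange k) W) ∧
      Nat.card ↥(MulAction.stabilizer (WeierstrassCurve.VariableChange k) W) = 4 := by
    intro h6
    have h4 : W.a₄ ≠ 0 := fun h => hΔ' ⟨h, h6⟩
    apply generic W 4
    intro C
    rw [stab_iff h2 h3 W C, h6, ← inv_pow_eq_one_iff]
    constructor
    · rintro ⟨hr, hs, ht, e4, -⟩
      exact ⟨hr, hs, ht, by simpa [h4] using e4⟩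
    · rintro ⟨hr, hs, ht, e4⟩
      exact ⟨hr, hs, ht, by rw [e4, one_mul], by simp⟩
  have case2 : W.a₄ ≠ 0 → W.a₆ ≠ 0 →
      IsCyclic ↥(MulAction.stabilizer (WeierstrassCurve.VariableChange k) W) ∧
      Nat.card ↥(MulAction.stabilizer (WeierstrassCurve.VariableChange k) W) = 2 := by
    intro h4 h6
    apply generic W 2
    intro C
    rw [stab_iff h2 h3 W C, ← inv_pow_eq_one_iff]
    have hu : (↑C.u⁻¹ : k) ≠ 0 := Units.ne_zero _
    constructor
    · rintro ⟨hr, hs, ht, e4, e6⟩
      refine ⟨hr, hs, ht, ?_⟩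
      have e4' : (↑C.u⁻¹ : k) ^ 4 = 1 := by simpa [h4] using e4
      have e6' : (↑C.u⁻¹ : k) ^ 6 = 1 := by simpa [h6] using e6
      have : (↑C.u⁻¹ : k) ^ 6 = (↑C.u⁻¹ : k) ^ 4 * (↑C.u⁻¹ : k) ^ 2 := by ring
      rw [e6', e4', one_mul] at this
      exact this.symm
    · rintro ⟨hr, hs, ht, e2⟩
      refine ⟨hr, hs, ht, ?_, ?_⟩
      · have : (↑C.u⁻¹ : k) ^ 4 = ((↑C.u⁻¹ : k) ^ 2) ^ 2 := by ring
        rw [this, e2]; simp
      · have : (↑C.u⁻¹ : k) ^ 6 = ((↑C.u⁻¹ : k) ^ 2) ^ 3 := by ring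
        rw [this, e2]; simp
  refine ⟨?_, fun h => (case6 h).2, fun h => (case4 h).2, fun h h' => (case2 h h').2⟩
  by_cases h4 : W.a₄ = 0
  · exact (case6 h4).1
  · by_cases h6 : W.a₆ = 0
    · exact (case4 h6).1
    · exact (case2 h4 h6).1


end Groth.Agent.S16244
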