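import Groth.Statements.S16263
import Mathlib
open Polynomial

set_option autoImplicit false
open W4c3wronskmg

namespace Groth.Agent.S16263

open Polynomial in
lemma mem_V {k : Type*} [Field k] (a : ℕ) (f : k[X])
    (hf : f ∈ Submodule.span k {(1 : k[X])} ⊔
      ((Ideal.span {(X : k[X]) * (X + 1)}).restrictScalars k ⊓ Polynomial.degreeLE k ↑(a + 1))) :
    f.eval 0 = f.eval (-1) ∧ f.degree ≤ ↑(a+1) := by
  rw [Submodule.mem_sup] at hf
  obtain ⟨y, hy, z, hz, rfl⟩ := hf
  rw [Submodule.mem_span_singleton] at hy
  obtain ⟨c, rfl⟩ := hy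
  obtain ⟨hz1, hz2⟩ := hz
  rw [SetLike.mem_coe, Submodule.restrictScalars_mem, Ideal.mem_span_singleton] at hz1
  obtain ⟨q, rfl⟩ := hz1
  rw [SetLike.mem_coe, Polynomial.mem_degreeLE] at hz2
  constructor
  · simp
  · refine le_trans (degree_add_le _ _) (max_le ?_ hz2)
    refine le_trans (degree_smul_le _ _) ?_
    rw [degree_one]
    exact_mod_cast Nat.zero_le _

lemma finrank_le_one_of_le_span {k M : Type*} [Field k] [AddCommGroup M] [Module k M]
    (W : Submodule k M) (w : M) (h : W ≤ Submodule.span k {w}) : Module.finrank k W ≤ 1 := by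
  refine le_trans (Submodule.finrank_mono h) ?_
  refine le_trans (finrank_span_le_card (R := k) ({w} : Set M)) ?_
  simp

open Polynomial in
/-- Let `k` be a field of characteristic zero and `a` a positive integer. On the projective line with `A
= 0`, `B = -1`, `C = ∞`, the `(a+1)`-dimensional system `V = H⁰(ω((1+a)C)) ⊕ H⁰(ω(A+B)) ⊆
H⁰(ω((1+a)C + A + B)) ≅ H⁰(O(a+1))` is, in the affine coordinate, the space of polynomials `c + X
(X+1) F` with `c` a constant and `deg F ≤ a - 1`. Then `V` has no special ramification point (no
point of weight at least two): since the members have degree at most `a + 1`, this says that for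
every point `p` of the affine line at most a one-dimensional subspace of `V` is divisible by
`(X-p)^a`, and at `C` that at most a one-dimensional subspace has degree at most one (degree less
than two). (The published statement carries two further positive integers `i, j` with `i + j = a -
1`, used only in its second assertion, and is over the complex numbers.) -/
theorem result
    (k : Type*) [Field k] [CharZero k] (a : ℕ) (ha : 0 < a)
    (V : Submodule k (Polynomial k))
    (hV : V = Submodule.span k {(1 : Polynomial k)} ⊔
      ((Ideal.span {(X : Polynomial k) * (X + 1)}).restrictScalars k ⊓ Polynomial.degreeLE k ↑(a + 1))) :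
    (∀ p : k, Module.finrank k ↥(V ⊓ (Ideal.span {(X - C p) ^ a}).restrictScalars k) ≤ 1) ∧
      Module.finrank k ↥(V ⊓ Polynomial.degreeLT k 2) ≤ 1 := by
  subst hV
  constructor
  · intro p
    set α : k := (-p) ^ a with hα
    set β : k := (-1 - p) ^ a with hβ
    apply finrank_le_one_of_le_span _ ((X - C p) ^ a * (C (β - α) * X + C β))
    rintro f ⟨hfV, hfI⟩
    obtain ⟨h01, hdeg⟩ := mem_V a f hfV
    rw [SetLike.mem_coe, Submodule.restrictScalars_mem, Ideal.mem_span_singleton] at hfI
    obtain ⟨g, rfl⟩ := hfI
    have hXne : ((X : k[X]) - C p) ^ a ≠ 0 := pow_ne_zero _ (X_sub_C_ne_zero p)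
    have hg1 : g.natDegree ≤ 1 := by
      by_cases hg : g = 0
      · simp [hg]
      · have h1 := natDegree_le_of_degree_le hdeg
        rw [natDegree_mul hXne hg, natDegree_pow, natDegree_X_sub_C] at h1
        omega
    obtain ⟨u, v, rfl⟩ : ∃ u v : k, g = C u * X + C v := ⟨_, _, eq_X_add_C_of_natDegree_le_one hg1⟩
    have hcond : α * v = β * (v - u) := by
      simp only [eval_mul, eval_pow, eval_sub, eval_X, eval_C, eval_add, mul_zero, zero_add, zero_sub] at h01
      rw [hα, hβ]
      rw [h01]
      ring
    rw [Submodule.mem_span_singleton]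
    by_cases hb : β = 0
    · have hp : p = -1 := by
        have := pow_eq_zero_iff (ha.ne') |>.mp hb
        linear_combination -this
      have hα1 : α ≠ 0 := by
        rw [hα, hp]; simp
      have hv : v = 0 := by
        rw [hb, zero_mul] at hcond
        exact (mul_eq_zero.mp hcond).resolve_left hα1
      refine ⟨-u / α, ?_⟩
      rw [hb, hv]
      simp only [zero_sub, map_zero, add_zero, map_neg]
      rw [smul_eq_C_mul]
      have : C (-u / α) * C α = - C u := by
        rw [← C_mul, ← C_neg]; congr 1; field_simp
      linear_combination (-(X - C p) ^ a * X) * this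
    · refine ⟨v / β, ?_⟩
      rw [smul_eq_C_mul]
      have h1 : C (v / β) * C β = C v := by
        rw [← C_mul]; congr 1; field_simp
      have h2 : C (v / β) * C (β - α) = C u := by
        rw [← C_mul]; congr 1; field_simp; linear_combination -hcond
      linear_combination ((X - C p) ^ a * X) * h2 + ((X - C p) ^ a) * h1
  · apply finrank_le_one_of_le_span _ (1 : k[X])
    rintro f ⟨hfV, hfI⟩
    obtain ⟨h01, -⟩ := mem_V a f hfV
    rw [SetLike.mem_coe, Polynomial.mem_degreeLT] at hfI
    have hg1 : f.natDegree ≤ 1 := by
      by_cases hf : f = 0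
      · simp [hf]
      · have := (natDegree_lt_iff_degree_lt hf).mpr hfI
        omega
    obtain ⟨u, v, rfl⟩ : ∃ u v : k, f = C u * X + C v := ⟨_, _, eq_X_add_C_of_natDegree_le_one hg1⟩
    simp only [eval_mul, eval_X, eval_C, eval_add, mul_zero, zero_add] at h01
    have hu : u = 0 := by linear_combination h01
    rw [Submodule.mem_span_singleton]
    exact ⟨v, by rw [hu]; simp [smul_eq_C_mul]⟩


end Groth.Agent.S16263
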