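import Groth.Statements.S16264
import Mathlib
import Groth.Agent.S16263
open Polynomial

set_option autoImplicit false
open W4c3wronskmg

namespace Groth.Agent.S16264

open Groth.Agent.S16263

lemma finrank_le_two_of_le_span {k M : Type*} [Field k] [AddCommGroup M] [Module k M]
    (W : Submodule k M) (w₁ w₂ : M) (h : W ≤ Submodule.span k {w₁, w₂}) : Module.finrank k W ≤ 2 := by
  classical
  haveI : Module.Finite k (Submodule.span k ({w₁, w₂} : Set M)) :=
    Module.Finite.span_of_finite k (Set.toFinite _)
  refine le_trans (Submodule.finrank_mono h) ?_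
  refine le_trans (finrank_span_le_card (R := k) ({w₁, w₂} : Set M)) ?_
  rw [Set.toFinset_card]
  have : Fintype.card ({w₁, w₂} : Set M) = ({w₁, w₂} : Finset M).card := by
    rw [← Set.toFinset_card]; congr 1; ext; simp
  rw [this]
  exact Finset.card_le_two

open Polynomial in
/-- Let `k` be a field of characteristic zero and `a, i, j` positive integers with `i + j = a - 1`. With
`A = 0`, `B = -1`, `C = ∞` on the projective line and `V` the `(a+1)`-dimensional system of
polynomials `c + X (X+1) F`, `deg F ≤ a - 1` (that is, `H⁰(ω((1+a)C)) ⊕ H⁰(ω(A+B)) ⊆ H⁰(O(a+1))`),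
the pairs of points `(P, Q) = (p, q)` of the affine line with `dim V(-iP-jQ) ≥ 3`, i.e. with at
least a three-dimensional subspace of `V` divisible by `(X-p)^i (X-q)^j`, are exactly `(A, B)` and
`(B, A)`. (Here `P, Q` range over the points other than `C`; when one of them is `C` the dimension
is at most two for degree reasons. The published statement is over the complex numbers.) -/
theorem result
    (k : Type*) [Field k] [CharZero k] (a i j : ℕ) (hi : 0 < i) (hj : 0 < j) (hij : i + j + 1 = a)
    (V : Submodule k (Polynomial k))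
    (hV : V = Submodule.span k {(1 : Polynomial k)} ⊔
      ((Ideal.span {(X : Polynomial k) * (X + 1)}).restrictScalars k ⊓ Polynomial.degreeLE k ↑(a + 1)))
    (p q : k) :
    3 ≤ Module.finrank k ↥(V ⊓ (Ideal.span {(X - C p) ^ i * (X - C q) ^ j}).restrictScalars k) ↔
      (p = 0 ∧ q = -1) ∨ (p = -1 ∧ q = 0) := by
  classical
  subst hV
  set α : k := (-p) ^ i * (-q) ^ j with hα
  set β : k := (-1 - p) ^ i * (-1 - q) ^ j with hβ
  have hαβ : (α = 0 ∧ β = 0) ↔ ((p = 0 ∧ q = -1) ∨ (p = -1 ∧ q = 0)) := by
    have h1 : α = 0 ↔ (p = 0 ∨ q = 0) := by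
      rw [hα, mul_eq_zero, pow_eq_zero_iff hi.ne', pow_eq_zero_iff hj.ne', neg_eq_zero, neg_eq_zero]
    have h2 : β = 0 ↔ (p = -1 ∨ q = -1) := by
      rw [hβ, mul_eq_zero, pow_eq_zero_iff hi.ne', pow_eq_zero_iff hj.ne']
      constructor
      · rintro (h | h)
        · left; linear_combination -h
        · right; linear_combination -h
      · rintro (h | h)
        · left; rw [h]; ring
        · right; rw [h]; ring
    rw [h1, h2]
    have h01 : (0 : k) ≠ -1 := by
      intro h
      have : (1 : k) = 0 := by linear_combination h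
      exact one_ne_zero this
    constructor
    · rintro ⟨hp | hq, hp' | hq'⟩
      · exact absurd (hp.symm.trans hp') h01
      · exact Or.inl ⟨hp, hq'⟩
      · exact Or.inr ⟨hp', hq⟩
      · exact absurd (hq.symm.trans hq') h01
    · rintro (⟨hp, hq⟩ | ⟨hp, hq⟩)
      · exact ⟨Or.inl hp, Or.inr hq⟩
      · exact ⟨Or.inr hq, Or.inl hp⟩
  rw [← hαβ]
  obtain ⟨Φ, hΦ⟩ : ∃ Φ : k[X], Φ = (X - C p) ^ i * (X - C q) ^ j := ⟨_, rfl⟩
  rw [← hΦ]
  have hΦne : Φ ≠ 0 := hΦ ▸ mul_ne_zero (pow_ne_zero _ (X_sub_C_ne_zero p)) (pow_ne_zero _ (X_sub_C_ne_zero q))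
  have hΦdeg : Φ.natDegree = i + j := by
    rw [hΦ, natDegree_mul (pow_ne_zero _ (X_sub_C_ne_zero p)) (pow_ne_zero _ (X_sub_C_ne_zero q)),
      natDegree_pow, natDegree_pow, natDegree_X_sub_C, natDegree_X_sub_C]
    ring
  have hΦ0 : Φ.eval 0 = α := by
    simp [hΦ, hα]
  have hΦ1 : Φ.eval (-1) = β := by
    simp [hΦ, hβ]
  constructor
  · -- 3 ≤ finrank → α = 0 ∧ β = 0
    intro h3
    by_contra hne
    -- show finrank ≤ 2
    have key : ∀ f ∈ (Submodule.span k {(1 : k[X])} ⊔
        ((Ideal.span {(X : k[X]) * (X + 1)}).restrictScalars k ⊓ Polynomial.degreeLE k ↑(a + 1))) ⊓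
        (Ideal.span {Φ}).restrictScalars k,
        ∃ u v w : k, f = Φ * (C u * X ^ 2 + C v * X + C w) ∧ α * w = β * (u - v + w) := by
      rintro f ⟨hfV, hfI⟩
      obtain ⟨h01, hdeg⟩ := mem_V a f hfV
      rw [SetLike.mem_coe, Submodule.restrictScalars_mem, Ideal.mem_span_singleton] at hfI
      obtain ⟨g, rfl⟩ := hfI
      have hg2 : g.natDegree ≤ 2 := by
        by_cases hg : g = 0
        · simp [hg]
        · have h1 := natDegree_le_of_degree_le hdeg
          rw [natDegree_mul hΦne hg, hΦdeg] at h1
          omega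
      obtain ⟨u, v, w, rfl⟩ : ∃ u v w : k, g = C u * X ^ 2 + C v * X + C w := by
        refine ⟨g.coeff 2, g.coeff 1, g.coeff 0, ?_⟩
        ext n
        simp only [coeff_add, coeff_C_mul, coeff_X_pow, coeff_X, coeff_C]
        rcases n with _ | _ | _ | n
        · simp
        · simp
        · simp
        · have : g.coeff (n + 3) = 0 := coeff_eq_zero_of_natDegree_lt (by omega)
          simp [this]
      refine ⟨u, v, w, rfl, ?_⟩
      rw [eval_mul, eval_mul, hΦ0, hΦ1] at h01
      simp only [eval_add, eval_mul, eval_C, eval_pow, eval_X] at h01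
      linear_combination h01
    by_cases hb : β = 0
    · have ha0 : α ≠ 0 := fun h => hne ⟨h, hb⟩
      have : Module.finrank k ↥((Submodule.span k {(1 : k[X])} ⊔
        ((Ideal.span {(X : k[X]) * (X + 1)}).restrictScalars k ⊓ Polynomial.degreeLE k ↑(a + 1))) ⊓
        (Ideal.span {Φ}).restrictScalars k) ≤ 2 := by
        apply finrank_le_two_of_le_span _ (Φ * X ^ 2) (Φ * X)
        intro f hf
        obtain ⟨u, v, w, rfl, hc⟩ := key f hf
        have hw : w = 0 := by
          rw [hb, zero_mul] at hc
          exact (mul_eq_zero.mp hc).resolve_left ha0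
        rw [Submodule.mem_span_pair]
        refine ⟨u, v, ?_⟩
        rw [hw, smul_eq_C_mul, smul_eq_C_mul]
        simp only [map_zero, add_zero]
        ring
      omega
    · have : Module.finrank k ↥((Submodule.span k {(1 : k[X])} ⊔
        ((Ideal.span {(X : k[X]) * (X + 1)}).restrictScalars k ⊓ Polynomial.degreeLE k ↑(a + 1))) ⊓
        (Ideal.span {Φ}).restrictScalars k) ≤ 2 := by
        apply finrank_le_two_of_le_span _ (Φ * (X ^ 2 + X)) (Φ * (C (α / β - 1) * X ^ 2 + 1))
        intro f hf
        obtain ⟨u, v, w, rfl, hc⟩ := key f hf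
        have hu : u = v + (α / β - 1) * w := by
          field_simp
          linear_combination -hc
        rw [Submodule.mem_span_pair]
        refine ⟨v, w, ?_⟩
        rw [hu, smul_eq_C_mul, smul_eq_C_mul]
        simp only [map_add, map_mul, map_sub, map_one]
        ring
      omega
  · -- α = 0 ∧ β = 0 → 3 ≤ finrank
    rintro ⟨ha0, hb0⟩
    -- three independent vectors
    set W := (Submodule.span k {(1 : k[X])} ⊔
        ((Ideal.span {(X : k[X]) * (X + 1)}).restrictScalars k ⊓ Polynomial.degreeLE k ↑(a + 1))) ⊓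
        (Ideal.span {Φ}).restrictScalars k with hW
    haveI : FiniteDimensional k (Polynomial.degreeLT k (a + 2)) :=
      Module.Finite.equiv (Polynomial.degreeLTEquiv k (a + 2)).symm
    haveI : FiniteDimensional k W := by
      apply Submodule.finiteDimensional_of_le (S₂ := Polynomial.degreeLT k (a + 2))
      rintro f ⟨hfV, -⟩
      rw [Polynomial.mem_degreeLT]
      refine lt_of_le_of_lt (mem_V a f hfV).2 ?_
      exact_mod_cast (by omega : a + 1 < a + 2)
    -- the map g ↦ Φ * g on degreeLT 3
    have hmem : ∀ g : k[X], g ∈ Polynomial.degreeLT k 3 → Φ * g ∈ W := by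
      intro g hg
      refine ⟨?_, ?_⟩
      · apply Submodule.mem_sup_right
        refine ⟨?_, ?_⟩
        · rw [SetLike.mem_coe, Submodule.restrictScalars_mem, Ideal.mem_span_singleton]
          -- X * (X+1) ∣ Φ
          have hX : (X : k[X]) ∣ Φ := by
            rw [Polynomial.X_dvd_iff, coeff_zero_eq_eval_zero, hΦ0, ha0]
          have hX1 : (X + 1 : k[X]) ∣ Φ := by
            have : (X + 1 : k[X]) = X - C (-1) := by simp
            rw [this, dvd_iff_isRoot, IsRoot.def, hΦ1, hb0]
          have hcop : IsCoprime (X : k[X]) (X + 1) := by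
            refine ⟨-1, 1, ?_⟩
            ring
          exact Dvd.dvd.mul_right (hcop.mul_dvd hX hX1) g
        · rw [SetLike.mem_coe, Polynomial.mem_degreeLE]
          by_cases hg0 : g = 0
          · simp [hg0]
          · rw [Polynomial.mem_degreeLT] at hg
            have h1 : g.natDegree < 3 := (natDegree_lt_iff_degree_lt hg0).mpr hg
            rw [degree_eq_natDegree (mul_ne_zero hΦne hg0), natDegree_mul hΦne hg0, hΦdeg]
            exact_mod_cast (by omega : i + j + g.natDegree ≤ a + 1)
      · rw [SetLike.mem_coe, Submodule.restrictScalars_mem, Ideal.mem_span_singleton]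
        exact dvd_mul_right _ _
    let T : ↥(Polynomial.degreeLT k 3) →ₗ[k] ↥W :=
      { toFun := fun g => ⟨Φ * g.1, hmem g.1 g.2⟩
        map_add' := fun g h => by
          apply Subtype.ext
          simp [mul_add]
        map_smul' := fun c g => by
          apply Subtype.ext
          simp [mul_smul_comm] }
    have hT : Function.Injective T := by
      intro g h hgh
      have := congrArg Subtype.val hgh
      apply Subtype.ext
      exact mul_left_cancel₀ hΦne this
    have h3 := LinearMap.finrank_le_finrank_of_injective hT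
    rw [LinearEquiv.finrank_eq (Polynomial.degreeLTEquiv k 3), Module.finrank_fin_fun] at h3
    exact h3


end Groth.Agent.S16264
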