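import Groth.Statements.S16265
import Mathlib
import Groth.Agent.Lib.Helper27.FunFld14

set_option autoImplicit false
open FunFld

namespace Groth.Agent.S16265

open FunFld Groth.Agent.Lib.Helper27.FF

universe u v
variable {k : Type u} {K : Type v} [Field k] [Field K] [Algebra k K]

/-- one-step codimension bound at a place of degree one for a general divisor. -/
theorem step_general (hK : IsFunctionField k K) (V : Submodule k K) [FiniteDimensional k V]
    (E E' : Divisor k K) (P : Place k K) (hP : P.deg = 1) (hE : E' = E - Finsupp.single P 1) :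
    Module.finrank k ↥(V ⊓ L E) ≤ Module.finrank k ↥(V ⊓ L E') + 1 := by
  subst hE
  set A := L E with hA
  set B := L (E - Finsupp.single P 1) with hB
  have hle : E - Finsupp.single P 1 ≤ E := by
    have : (0 : Divisor k K) ≤ Finsupp.single P 1 := by
      intro Q
      by_cases hQ : Q = P
      · subst hQ; simp
      · rw [Finsupp.single_eq_of_ne hQ]; simp
    exact sub_le_self E this
  have hBA : B ≤ A := L_mono hle
  haveI : FiniteDimensional k A := finiteDimensional_L hK _
  haveI : FiniteDimensional k B := finiteDimensional_L hK _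
  have h1 := ell_sub_ell_le hK hle
  rw [deg_sub, deg_single, hP] at h1
  have h1' : (Module.finrank k A : ℤ) - Module.finrank k B ≤ 1 := by
    have : (ell E : ℤ) - ell (E - Finsupp.single P 1) ≤ 1 := by
      push_cast at h1; linarith
    exact this
  have h2 : (V ⊓ A) ⊓ B = V ⊓ B := by
    rw [inf_assoc, inf_eq_right.mpr hBA]
  haveI : FiniteDimensional k ↥(V ⊓ A) := Submodule.finiteDimensional_of_le inf_le_left
  have h3 := Submodule.finrank_sup_add_finrank_inf_eq (V ⊓ A) B
  rw [h2] at h3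
  have h4 : Module.finrank k ↥((V ⊓ A) ⊔ B) ≤ Module.finrank k A :=
    Submodule.finrank_mono (sup_le inf_le_right hBA)
  omega

/-- the two-point vanishing subspace. -/
noncomputable def VV (V : Submodule k K) (D : Divisor k K) (P Q : Place k K) (m n : ℤ) :
    Submodule k K :=
  V ⊓ L (D - Finsupp.single P m - Finsupp.single Q n)

lemma div_le (D : Divisor k K) (P Q : Place k K) {m m' n n' : ℤ} (hm : m ≤ m') (hn : n ≤ n') :
    D - Finsupp.single P m' - Finsupp.single Q n' ≤ D - Finsupp.single P m - Finsupp.single Q n :=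
  sub_le_sub (sub_le_sub_left (single_mono P hm) D) (single_mono Q hn)

lemma VV_anti (V : Submodule k K) (D : Divisor k K) (P Q : Place k K) {m m' n n' : ℤ}
    (hm : m ≤ m') (hn : n ≤ n') : VV V D P Q m' n' ≤ VV V D P Q m n :=
  inf_le_inf_left V (L_mono (div_le D P Q hm hn))

lemma VV_inter (V : Submodule k K) (D : Divisor k K) {P Q : Place k K} (hPQ : P ≠ Q)
    (m m' n n' : ℤ) (hm : m' = m + 1) (hn : n' = n + 1) :
    VV V D P Q m n' ⊓ VV V D P Q m' n = VV V D P Q m' n' := by
  subst hm hn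
  unfold VV
  rw [← inf_inf_distrib_left, L_inf]
  congr 2
  ext R
  rw [Finsupp.inf_apply]
  simp only [Finsupp.sub_apply]
  by_cases hRP : R = P
  · subst hRP
    rw [Finsupp.single_eq_same, Finsupp.single_eq_same, Finsupp.single_eq_of_ne hPQ,
      Finsupp.single_eq_of_ne hPQ]
    simp
    omega
  · rw [Finsupp.single_eq_of_ne hRP, Finsupp.single_eq_of_ne hRP]
    by_cases hRQ : R = Q
    · subst hRQ
      rw [Finsupp.single_eq_same, Finsupp.single_eq_same]
      simp
      omega
    · rw [Finsupp.single_eq_of_ne hRQ, Finsupp.single_eq_of_ne hRQ]; simp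

/-- Let `K/k` be a function field of one variable over an algebraically closed field `k` of
characteristic zero (the function field of a smooth projective curve), `D` a divisor and `V ⊆ L(D)`
a linear system of dimension `r + 1`; write `V(-mP-nQ) = V ∩ L(D - mP - nQ)` for the members
vanishing to the indicated orders. Assume `V` has no special ramification point, i.e. no place of
weight at least two: for every place `R`, `dim V(-rR) ≤ 1` and `V(-(r+2)R) = 0`. Let `P ≠ Q` be
places and `a, b ≥ 1` with `a + b = r + 1` (so that `V(-aP)` and `V(-bQ)` have dimensions `b` and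
`a`). Then the following are equivalent: (1) the system `V(-aP)` has weight at least two at `Q`,
that is `dim V(-aP-(b-1)Q) ≥ 2` or `dim V(-aP-(b+1)Q) ≥ 1`, and the system `V(-bQ)` has weight at
least two at `P`, that is `dim V(-(a-1)P-bQ) ≥ 2` or `dim V(-(a+1)P-bQ) ≥ 1`; (2) one of (a) `dim
V(-(a+1)P-(b+1)Q) ≥ 1`, (b) `dim V(-(a-1)P-(b-1)Q) ≥ 3`, (c) `dim V(-aP-(b+1)Q) ≥ 1` and `dim
V(-(a-1)P-bQ) ≥ 2`, (d) `dim V(-(a+1)P-bQ) ≥ 1` and `dim V(-aP-(b-1)Q) ≥ 2`. (The published
statement is for a smooth curve over the complex numbers.) -/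
theorem result
    (k K : Type*) [Field k] [IsAlgClosed k] [CharZero k] [Field K] [Algebra k K]
    (hK : FunFld.IsFunctionField k K) (D : FunFld.Divisor k K)
    (V : Submodule k K) (hVD : V ≤ FunFld.L D) (r : ℕ) (hr : Module.finrank k ↥V = r + 1)
    (hns : ∀ R : FunFld.Place k K,
      Module.finrank k ↥(V ⊓ FunFld.L (D - Finsupp.single R (r : ℤ))) ≤ 1 ∧
        V ⊓ FunFld.L (D - Finsupp.single R ((r : ℤ) + 2)) = ⊥)
    (P Q : FunFld.Place k K) (hPQ : P ≠ Q) (a b : ℕ) (ha : 1 ≤ a) (hb : 1 ≤ b) (hab : a + b = r + 1) :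
    ((2 ≤ Module.finrank k ↥(V ⊓ FunFld.L (D - Finsupp.single P (a : ℤ) - Finsupp.single Q ((b : ℤ) - 1 : ℤ))) ∨
        1 ≤ Module.finrank k ↥(V ⊓ FunFld.L (D - Finsupp.single P (a : ℤ) - Finsupp.single Q ((b : ℤ) + 1 : ℤ)))) ∧
      (2 ≤ Module.finrank k ↥(V ⊓ FunFld.L (D - Finsupp.single P ((a : ℤ) - 1 : ℤ) - Finsupp.single Q (b : ℤ))) ∨
        1 ≤ Module.finrank k ↥(V ⊓ FunFld.L (D - Finsupp.single P ((a : ℤ) + 1 : ℤ) - Finsupp.single Q (b : ℤ))))) ↔
    (1 ≤ Module.finrank k ↥(V ⊓ FunFld.L (D - Finsupp.single P ((a : ℤ) + 1 : ℤ) - Finsupp.single Q ((b : ℤ) + 1 : ℤ))) ∨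
      3 ≤ Module.finrank k ↥(V ⊓ FunFld.L (D - Finsupp.single P ((a : ℤ) - 1 : ℤ) - Finsupp.single Q ((b : ℤ) - 1 : ℤ))) ∨
      (1 ≤ Module.finrank k ↥(V ⊓ FunFld.L (D - Finsupp.single P (a : ℤ) - Finsupp.single Q ((b : ℤ) + 1 : ℤ))) ∧
        2 ≤ Module.finrank k ↥(V ⊓ FunFld.L (D - Finsupp.single P ((a : ℤ) - 1 : ℤ) - Finsupp.single Q (b : ℤ)))) ∨
      (1 ≤ Module.finrank k ↥(V ⊓ FunFld.L (D - Finsupp.single P ((a : ℤ) + 1 : ℤ) - Finsupp.single Q (b : ℤ))) ∧
        2 ≤ Module.finrank k ↥(V ⊓ FunFld.L (D - Finsupp.single P (a : ℤ) - Finsupp.single Q ((b : ℤ) - 1 : ℤ))))) := by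
  classical
  haveI : FiniteDimensional k V := finiteDimensional_of_le_L hK hVD
  have hPd : P.deg = 1 := deg_eq_one' hK P
  have hQd : Q.deg = 1 := deg_eq_one' hK Q
  -- notation
  set dd : ℤ → ℤ → ℕ := fun m n => Module.finrank k ↥(VV V D P Q m n) with hdd
  have hfd : ∀ m n, FiniteDimensional k ↥(VV V D P Q m n) := fun m n =>
    Submodule.finiteDimensional_of_le (inf_le_left : VV V D P Q m n ≤ V)
  have anti : ∀ m m' n n', m ≤ m' → n ≤ n' → dd m' n' ≤ dd m n := by
    intro m m' n n' hm hn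
    haveI := hfd m n
    exact Submodule.finrank_mono (VV_anti V D P Q hm hn)
  have step_m : ∀ m m' n, m' = m + 1 → dd m n ≤ dd m' n + 1 := by
    intro m m' n hm
    subst hm
    apply step_general hK V _ _ P hPd
    ext R
    simp only [Finsupp.sub_apply, Finsupp.single_add]
    by_cases hRP : R = P
    · subst hRP; simp; ring
    · simp [Finsupp.single_eq_of_ne hRP]
  have step_n : ∀ m n n', n' = n + 1 → dd m n ≤ dd m n' + 1 := by
    intro m n n' hn
    subst hn
    apply step_general hK V _ _ Q hQd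
    ext R
    simp only [Finsupp.sub_apply, Finsupp.single_add]
    by_cases hRQ : R = Q
    · subst hRQ; simp; ring
    · simp [Finsupp.single_eq_of_ne hRQ]
  have S : ∀ m m' n n', m' = m + 1 → n' = n + 1 → dd m n' + dd m' n ≤ dd m' n' + dd m n := by
    intro m m' n n' hm hn
    have hi := VV_inter V D hPQ m m' n n' hm hn
    haveI := hfd m n
    haveI := hfd m n'
    haveI := hfd m' n
    have h3 := Submodule.finrank_sup_add_finrank_inf_eq (VV V D P Q m n') (VV V D P Q m' n)
    rw [hi] at h3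
    have h4 : Module.finrank k ↥(VV V D P Q m n' ⊔ VV V D P Q m' n) ≤
        Module.finrank k ↥(VV V D P Q m n) :=
      Submodule.finrank_mono (sup_le (VV_anti V D P Q le_rfl (by omega))
        (VV_anti V D P Q (by omega) le_rfl))
    show Module.finrank k ↥(VV V D P Q m n') + Module.finrank k ↥(VV V D P Q m' n) ≤
      Module.finrank k ↥(VV V D P Q m' n') + Module.finrank k ↥(VV V D P Q m n)
    omega
  show ((2 ≤ dd a (b - 1) ∨ 1 ≤ dd a (b + 1)) ∧ (2 ≤ dd (a - 1) b ∨ 1 ≤ dd (a + 1) b)) ↔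
    (1 ≤ dd (a + 1) (b + 1) ∨ 3 ≤ dd (a - 1) (b - 1) ∨ (1 ≤ dd a (b + 1) ∧ 2 ≤ dd (a - 1) b) ∨
      (1 ≤ dd (a + 1) b ∧ 2 ≤ dd a (b - 1)))
  have e1 := anti a (a + 1) (b + 1) (b + 1) (by omega) le_rfl
  have e2 := anti (a + 1) (a + 1) b (b + 1) le_rfl (by omega)
  have e3 := step_m (a - 1) a (b - 1) (by ring)
  have e4 := step_n (a - 1) (b - 1) b (by ring)
  have e5 := S (a - 1) a (b - 1) b (by ring) (by ring)
  have e6 := S a (a + 1) b (b + 1) rfl rfl
  have e7 := step_m a (a + 1) b rfl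
  have e8 := anti a a (b - 1) b le_rfl (by omega)
  generalize dd a (b - 1) = x1 at *
  generalize dd a (b + 1) = x2 at *
  generalize dd (a - 1) b = x3 at *
  generalize dd (a + 1) b = x4 at *
  generalize dd (a + 1) (b + 1) = x5 at *
  generalize dd (a - 1) (b - 1) = x6 at *
  generalize dd a b = x7 at *
  omega


end Groth.Agent.S16265
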