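import Groth.Statements.S16266
import Mathlib
import Groth.Agent.Lib.Helper27.FunFld14
import Groth.Agent.S16265

set_option autoImplicit false
open FunFld

namespace Groth.Agent.S16266

open FunFld Groth.Agent.Lib.Helper27.FF Groth.Agent.S16265

/-- Let `K/k` be a function field of one variable over an algebraically closed field `k` of
characteristic zero, `D` a divisor, `V ⊆ L(D)` a linear system of dimension `r + 1` with `r ≥ 1`,
and `P` a place with `V' = V(-P) = V ∩ L(D - P) ≠ V`, an `r`-dimensional system in `L(D - P)`.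
Assume that neither `V` nor `V'` has a special ramification point (a place of weight at least two):
for every place `R`, `dim V ∩ L(D - rR) ≤ 1`, `V ∩ L(D - (r+2)R) = 0`, `dim V' ∩ L(D - P - (r-1)R) ≤
1` and `V' ∩ L(D - P - (r+1)R) = 0`. Then no place `Q ≠ P` is a ramification point of both `V` and
`V'`: for no such `Q` are both `V ∩ L(D - (r+1)Q)` and `V' ∩ L(D - P - rQ)` nonzero. (The published
statement is for a smooth curve over the complex numbers.) -/
theorem result
    (k K : Type*) [Field k] [IsAlgClosed k] [CharZero k] [Field K] [Algebra k K]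
    (hK : FunFld.IsFunctionField k K) (D : FunFld.Divisor k K)
    (V : Submodule k K) (hVD : V ≤ FunFld.L D) (r : ℕ) (hr : Module.finrank k ↥V = r + 1) (hr1 : 1 ≤ r)
    (P : FunFld.Place k K) (hP : V ⊓ FunFld.L (D - Finsupp.single P 1) ≠ V)
    (hns : ∀ R : FunFld.Place k K,
      Module.finrank k ↥(V ⊓ FunFld.L (D - Finsupp.single R (r : ℤ))) ≤ 1 ∧
        V ⊓ FunFld.L (D - Finsupp.single R ((r : ℤ) + 2)) = ⊥)
    (hns' : ∀ R : FunFld.Place k K,
      Module.finrank k ↥(V ⊓ FunFld.L (D - Finsupp.single P 1 - Finsupp.single R ((r : ℤ) - 1))) ≤ 1 ∧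
        V ⊓ FunFld.L (D - Finsupp.single P 1 - Finsupp.single R ((r : ℤ) + 1)) = ⊥)
    (Q : FunFld.Place k K) (hQP : Q ≠ P) :
    ¬ (V ⊓ FunFld.L (D - Finsupp.single Q ((r : ℤ) + 1)) ≠ ⊥ ∧
       V ⊓ FunFld.L (D - Finsupp.single P 1 - Finsupp.single Q (r : ℤ)) ≠ ⊥) := by
  classical
  rintro ⟨h1, h2⟩
  haveI : FiniteDimensional k V := finiteDimensional_of_le_L hK hVD
  have hPQ : P ≠ Q := fun h => hQP h.symm
  have hfd : ∀ m n, FiniteDimensional k ↥(VV V D P Q m n) := fun m n =>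
    Submodule.finiteDimensional_of_le (inf_le_left : VV V D P Q m n ≤ V)
  -- identify the four spaces
  have e1 : VV V D P Q 0 ((r : ℤ) + 1) = V ⊓ FunFld.L (D - Finsupp.single Q ((r : ℤ) + 1)) := by
    unfold VV; rw [Finsupp.single_zero, sub_zero]
  have e2 : VV V D P Q 1 (r : ℤ) = V ⊓ FunFld.L (D - Finsupp.single P 1 - Finsupp.single Q (r : ℤ)) := rfl
  have e3 : VV V D P Q 0 (r : ℤ) = V ⊓ FunFld.L (D - Finsupp.single Q (r : ℤ)) := by
    unfold VV; rw [Finsupp.single_zero, sub_zero]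
  have e4 : VV V D P Q 1 ((r : ℤ) + 1) =
      V ⊓ FunFld.L (D - Finsupp.single P 1 - Finsupp.single Q ((r : ℤ) + 1)) := rfl
  have hi := VV_inter V D hPQ 0 1 (r : ℤ) ((r : ℤ) + 1) rfl rfl
  haveI := hfd 0 (r : ℤ)
  haveI := hfd 0 ((r : ℤ) + 1)
  haveI := hfd 1 (r : ℤ)
  have h3 := Submodule.finrank_sup_add_finrank_inf_eq (VV V D P Q 0 ((r : ℤ) + 1)) (VV V D P Q 1 (r : ℤ))
  rw [hi, e4, (hns' Q).2, finrank_bot, add_zero] at h3
  have h4 : Module.finrank k ↥(VV V D P Q 0 ((r : ℤ) + 1) ⊔ VV V D P Q 1 (r : ℤ)) ≤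
      Module.finrank k ↥(VV V D P Q 0 (r : ℤ)) :=
    Submodule.finrank_mono (sup_le (VV_anti V D P Q le_rfl (by omega))
      (VV_anti V D P Q (by omega) le_rfl))
  rw [e3] at h4
  have h5 := (hns Q).1
  have h6 : 1 ≤ Module.finrank k ↥(VV V D P Q 0 ((r : ℤ) + 1)) := by
    rw [Nat.one_le_iff_ne_zero, Ne, Submodule.finrank_eq_zero, e1]
    exact h1
  have h7 : 1 ≤ Module.finrank k ↥(VV V D P Q 1 (r : ℤ)) := by
    rw [Nat.one_le_iff_ne_zero, Ne, Submodule.finrank_eq_zero, e2]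
    exact h2
  omega


end Groth.Agent.S16266
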