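import Groth.Statements.S16268
import Mathlib

set_option autoImplicit false
universe u w
open CategoryTheory CategoryTheory.Limits AlgebraicGeometry Opposite
open EtCore

namespace Groth.Agent.S16268

theorem core (X : Scheme.{u})
    (Y : X.Etale) {G : Type u} [Group G] (σ : G →* Aut Y)
    (P : X.Etaleᵒᵖ ⥤ Type w)
    (hP : Function.Injective (fun s : P.obj (op (Y ⨯ Y)) => fun g : G => P.map (prod.lift (𝟙 Y) (σ g).hom).op s)) :
    Presieve.IsSheafFor P (Presieve.singleton ((EtCore.topIsTerminal X).from Y)) ↔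
      (Function.Injective (P.map ((EtCore.topIsTerminal X).from Y).op) ∧
        Set.range (P.map ((EtCore.topIsTerminal X).from Y).op) = {s | ∀ g : G, P.map (σ g).hom.op s = s}) := by
  have hfg : ∀ {Z : X.Etale} (p₁ p₂ : Z ⟶ Y),
      p₁ ≫ (EtCore.topIsTerminal X).from Y = p₂ ≫ (EtCore.topIsTerminal X).from Y :=
    fun p₁ p₂ => (EtCore.topIsTerminal X).hom_ext _ _
  have key1 : ∀ x : P.obj (op Y), (∀ g : G, P.map (σ g).hom.op x = x) →
      ∀ (Z : X.Etale) (p₁ p₂ : Z ⟶ Y), P.map p₁.op x = P.map p₂.op x := by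
    intro x h Z p₁ p₂
    have hfs : P.map (prod.fst : Y ⨯ Y ⟶ Y).op x = P.map (prod.snd : Y ⨯ Y ⟶ Y).op x := by
      apply hP
      funext g
      show P.map (prod.lift (𝟙 Y) (σ g).hom).op (P.map prod.fst.op x) =
        P.map (prod.lift (𝟙 Y) (σ g).hom).op (P.map prod.snd.op x)
      rw [← FunctorToTypes.map_comp_apply, ← FunctorToTypes.map_comp_apply, ← op_comp, ← op_comp,
        prod.lift_fst, prod.lift_snd, h g]
      simp
    have e1 : P.map p₁.op x = P.map (prod.lift p₁ p₂).op (P.map prod.fst.op x) := by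
      rw [← FunctorToTypes.map_comp_apply, ← op_comp, prod.lift_fst]
    have e2 : P.map p₂.op x = P.map (prod.lift p₁ p₂).op (P.map prod.snd.op x) := by
      rw [← FunctorToTypes.map_comp_apply, ← op_comp, prod.lift_snd]
    rw [e1, e2, hfs]
  have key2 : ∀ x : P.obj (op Y),
      (∀ (Z : X.Etale) (p₁ p₂ : Z ⟶ Y), P.map p₁.op x = P.map p₂.op x) →
        ∀ g : G, P.map (σ g).hom.op x = x := by
    intro x h g
    have := h Y (σ g).hom (𝟙 Y)
    simpa using this
  have hinv : ∀ (y : P.obj (op (EtCoh.top X))) (g : G),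
      P.map (σ g).hom.op (P.map ((EtCore.topIsTerminal X).from Y).op y) =
        P.map ((EtCore.topIsTerminal X).from Y).op y := by
    intro y g
    rw [← FunctorToTypes.map_comp_apply, ← op_comp, hfg ((σ g).hom) (𝟙 Y), Category.id_comp]
  rw [Presieve.isSheafFor_singleton]
  constructor
  · intro h
    refine ⟨?_, ?_⟩
    · intro y₁ y₂ e
      have hx := key1 (P.map ((EtCore.topIsTerminal X).from Y).op y₁) (hinv y₁)
      exact (h _ (fun {Z} p₁ p₂ _ => hx Z p₁ p₂)).unique rfl e.symm
    · ext x
      constructor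
      · rintro ⟨y, rfl⟩
        exact hinv y
      · intro hx
        obtain ⟨y, hy, -⟩ := h x (fun {Z} p₁ p₂ _ => key1 x hx Z p₁ p₂)
        exact ⟨y, hy⟩
  · rintro ⟨hinj, hrange⟩ x hx
    have hx' : x ∈ {s | ∀ g : G, P.map (σ g).hom.op s = s} :=
      key2 x (fun Z p₁ p₂ => hx p₁ p₂ (hfg p₁ p₂))
    rw [← hrange] at hx'
    obtain ⟨y, hy⟩ := hx'
    exact ⟨y, hy, fun y' hy' => hinj (hy'.trans hy.symm)⟩

/-- Let X be a scheme, Y an etale X-scheme with Y -> X surjective, and G a finite group acting on Y by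
X-automorphisms such that the morphisms (id, g) : Y -> Y x_X Y exhibit Y x_X Y as the coproduct of
copies of Y indexed by G (Y -> X is a Galois covering with group G). Let P be a presheaf of sets on
the small etale site of X which takes this coproduct to a product: s |-> (g |-> (id, g)^* s) is a
bijection from P(Y x_X Y) onto the G-indexed families in P(Y). Then P satisfies the sheaf condition
for the covering consisting of the single morphism Y -> X if and only if the restriction P(X) ->
P(Y) is injective and its image is the set of G-invariant elements of P(Y). -/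
theorem result (X : Scheme.{u})
    (Y : X.Etale) (hY : Function.Surjective Y.hom.base)
    {G : Type u} [Group G] [Finite G] (σ : G →* Aut Y)
    (hgal : Nonempty (IsColimit (Cofan.mk (Y ⨯ Y) (fun g : G => prod.lift (𝟙 Y) (σ g).hom))))
    (P : X.Etaleᵒᵖ ⥤ Type w)
    (hP : Function.Bijective (fun s : P.obj (op (Y ⨯ Y)) => fun g : G => P.map (prod.lift (𝟙 Y) (σ g).hom).op s)) :
    Presieve.IsSheafFor P (Presieve.singleton ((EtCore.topIsTerminal X).from Y)) ↔
      (Function.Injective (P.map ((EtCore.topIsTerminal X).from Y).op) ∧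
        Set.range (P.map ((EtCore.topIsTerminal X).from Y).op) = {s | ∀ g : G, P.map (σ g).hom.op s = s}) := by
  exact core X Y σ P hP.1

end Groth.Agent.S16268
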