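import Groth.Statements.S16269
import Mathlib
import Groth.Agent.S16268

set_option autoImplicit false
universe u w
open CategoryTheory CategoryTheory.Limits AlgebraicGeometry Opposite
open EtCore

namespace Groth.Agent.S16269

theorem jointly_surjective (X : Scheme.{u}) (W : X.Etale) {ι : Type u} (Z : ι → X.Etale)
    (f : ∀ i, Z i ⟶ W) (hc : IsColimit (Cofan.mk W f)) :
    ⋃ i, Set.range (f i).left = Set.univ := by
  have hopen : IsOpen (⋃ i, Set.range (f i).left) :=
    isOpen_iUnion fun i => (f i).left.isOpenMap.isOpen_range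
  obtain ⟨U, hU⟩ : ∃ U : W.left.Opens, (U : Set W.left) = ⋃ i, Set.range (f i).left :=
    ⟨⟨_, hopen⟩, rfl⟩
  have hfac : ∀ i, Set.range (f i).left ⊆ Set.range U.ι := by
    intro i
    rw [Scheme.Opens.range_ι, hU]
    exact Set.subset_iUnion (fun i => Set.range (f i).left) i
  let l : ∀ i, (Z i).left ⟶ (U : Scheme) := fun i => IsOpenImmersion.lift U.ι (f i).left (hfac i)
  have hl : ∀ i, l i ≫ U.ι = (f i).left := fun i => IsOpenImmersion.lift_fac _ _ _
  let WU : X.Etale := Scheme.Etale.mk (U.ι ≫ W.hom)
  let incl : WU ⟶ W := MorphismProperty.Over.homMk U.ι rfl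
  have hw : ∀ i, (f i).left ≫ W.hom = (Z i).hom := fun i => MorphismProperty.Over.w (f i)
  let f' : ∀ i, Z i ⟶ WU := fun i =>
    MorphismProperty.Over.homMk (l i) (by
      show l i ≫ U.ι ≫ W.hom = (Z i).hom
      rw [← Category.assoc, hl, hw])
  have hf' : ∀ i, f' i ≫ incl = f i := by
    intro i
    apply MorphismProperty.Over.Hom.ext
    exact hl i
  let r : W ⟶ WU := Cofan.IsColimit.desc hc f'
  have hr : ∀ i, f i ≫ r = f' i := fun i => Cofan.IsColimit.fac hc f' i
  have hri : r ≫ incl = 𝟙 W := by
    apply Cofan.IsColimit.hom_ext hc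
    intro i
    show f i ≫ r ≫ incl = f i ≫ 𝟙 W
    rw [← Category.assoc, hr, hf', Category.comp_id]
  ext w
  simp only [Set.mem_univ, iff_true]
  have hw : U.ι (r.left w) = w := by
    have := congrArg (fun φ : W ⟶ W => φ.left w) hri
    exact this
  have : w ∈ (U : Set W.left) := by
    rw [← hw]
    exact (r.left w).2
  rw [← hU]
  exact this


/-- Let X be a scheme, Y an etale X-scheme with Y -> X surjective, and G a finite group acting on Y by
X-automorphisms such that the morphisms (id, g) : Y -> Y x_X Y exhibit Y x_X Y as the coproduct of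
copies of Y indexed by G (a Galois covering with group G). For an abelian sheaf F on the small etale
site of X, the restriction map F(X) -> F(Y) is injective and its image is the set of sections of F
over Y fixed by every element of G. -/
theorem result (X : Scheme.{u})
    (Y : X.Etale) (hY : Function.Surjective Y.hom.base)
    {G : Type u} [Group G] [Finite G] (σ : G →* Aut Y)
    (hgal : Nonempty (IsColimit (Cofan.mk (Y ⨯ Y) (fun g : G => prod.lift (𝟙 Y) (σ g).hom))))
    (F : EtCoh.Ab X) :
    Function.Injective (F.obj.map ((EtCore.topIsTerminal X).from Y).op) ∧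
      Set.range (F.obj.map ((EtCore.topIsTerminal X).from Y).op) =
        {s : EtCoh.sect F Y | ∀ g : G, F.obj.map (σ g).hom.op s = s} := by
  obtain ⟨hc⟩ := hgal
  let P : X.Etaleᵒᵖ ⥤ Type (u + 1) := F.obj ⋙ forget AddCommGrpCat
  have hPsheaf : Presieve.IsSheaf X.smallEtaleTopology P :=
    (isSheaf_iff_isSheaf_of_type _ _).mp
      ((Presheaf.isSheaf_iff_isSheaf_forget _ F.obj (forget _)).mp F.cond)
  have hcov1 : Sieve.generate (Presieve.singleton ((EtCore.topIsTerminal X).from Y)) ∈
      X.smallEtaleTopology (EtCoh.top X) := by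
    rw [← Presieve.ofArrows_pUnit.{0}]
    refine (Scheme.ofArrows_mem_smallEtaleTopology_iff
      (fun _ : PUnit.{1} => (EtCore.topIsTerminal X).from Y)).mpr ?_
    ext x
    simp only [Set.mem_iUnion, Set.mem_range, Set.mem_univ, iff_true]
    obtain ⟨y, hy⟩ := hY x
    refine ⟨PUnit.unit, y, ?_⟩
    have e : ((EtCore.topIsTerminal X).from Y).left = Y.hom :=
      (Category.comp_id _).symm.trans (MorphismProperty.Over.w ((EtCore.topIsTerminal X).from Y))
    rw [e]
    exact hy
  have hS1 : Presieve.IsSheafFor P (Presieve.singleton ((EtCore.topIsTerminal X).from Y)) :=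
    (Presieve.isSheafFor_iff_generate _).mpr (hPsheaf _ hcov1)
  have hcov2 : Sieve.ofArrows (fun _ : G => Y) (fun g : G => prod.lift (𝟙 Y) (σ g).hom) ∈
      X.smallEtaleTopology (Y ⨯ Y) :=
    (Scheme.ofArrows_mem_smallEtaleTopology_iff _).mpr
      (jointly_surjective X (Y ⨯ Y) (fun _ : G => Y) _ hc)
  have hinj : Function.Injective (fun s : P.obj (op (Y ⨯ Y)) => fun g : G =>
      P.map (prod.lift (𝟙 Y) (σ g).hom).op s) := by
    intro s₁ s₂ h
    refine (hPsheaf.isSeparated _ hcov2).ext ?_
    rintro Z k ⟨Z', a, b, ⟨g⟩, rfl⟩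
    have hg := congrFun h g
    simp only at hg
    rw [op_comp, FunctorToTypes.map_comp_apply, FunctorToTypes.map_comp_apply, hg]
  exact (Groth.Agent.S16268.core X Y σ P hinj).mp hS1

end Groth.Agent.S16269
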