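import Groth.Statements.S16272
import Mathlib

set_option autoImplicit false
universe w' w v u
open CategoryTheory
open NonAbH1

namespace Groth.Agent.S16272

open Opposite

theorem smul_cancel {C : Type u} [Category.{v} C] {J : GrothendieckTopology C}
    {G : Sheaf J GrpCat.{w}} {P : NonAbH1.GSheaf G} (h : P.IsPseudoTorsor) {V : Cᵒᵖ}
    (g g' : G.obj.obj V) (p : P.P.obj.obj V) (e : P.smul g p = P.smul g' p) : g = g' :=
  (h V p (P.smul g' p)).unique e rfl

theorem cohomologous {C : Type u} [Category.{v} C] {J : GrothendieckTopology C}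
    {G : Sheaf J GrpCat.{w}} {P : NonAbH1.GSheaf G} (hps : P.IsPseudoTorsor) {I : Type w'}
    (U : I → C) (s s' : ∀ i, P.P.obj.obj (op (U i)))
    (γ γ' : PresheafOfGroups.OneCocycle G.obj U)
    (h : P.IsCocycleOf U s γ) (h' : P.IsCocycleOf U s' γ') : γ'.IsCohomologous γ := by
  choose α hα _ using fun i => hps (op (U i)) (s' i) (s i)
  refine ⟨α, fun i j T a b => ?_⟩
  apply smul_cancel hps _ _ (P.P.obj.map b.op (s' j))
  have e1 : P.smul (G.obj.map a.op (α i) * γ'.ev i j a b) (P.P.obj.map b.op (s' j)) =
      P.P.obj.map a.op (s i) := by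
    rw [P.mul_smul, h' i j a b, ← P.map_smul, hα]
  have e2 : P.smul (γ.ev i j a b * G.obj.map b.op (α j)) (P.P.obj.map b.op (s' j)) =
      P.P.obj.map a.op (s i) := by
    rw [P.mul_smul, ← P.map_smul, hα, h i j a b]
  exact e1.trans e2.symm

/-- The class map is well defined: let C be a category with a Grothendieck topology J, G a sheaf of
groups and U a family of objects. A G-torsor P with a section over every U_i has exactly one Cech
class on U: choosing sections s_i of P over the U_i cuts out a 1-cocycle of G on U, and its class in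
the Cech cohomology set H^1(U, G) does not depend on the choice. (The published statement is for an
etale covering of a scheme; this row is stated for any family of objects of any site.) -/
theorem result {C : Type u} [Category.{v} C]
    {J : GrothendieckTopology C} {G : Sheaf J GrpCat.{w}} (P : NonAbH1.Torsor G)
    {I : Type w'} (U : I → C) (hP : P.TrivialisedBy U) :
    ∃! c : PresheafOfGroups.H1 G.obj U, P.HasCechClass U c := by
  classical
  have hps : P.toGSheaf.IsPseudoTorsor := P.isTorsor.1
  have s : ∀ i, P.P.obj.obj (Opposite.op (U i)) := fun i => (hP i).some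
  have hex : ∀ (i j : I) ⦃T : C⦄ (a : T ⟶ U i) (b : T ⟶ U j),
      ∃! g : G.obj.obj (Opposite.op T),
        P.smul g (P.P.obj.map b.op (s j)) = P.P.obj.map a.op (s i) :=
    fun i j T a b => hps _ _ _
  let γ : PresheafOfGroups.OneCocycle G.obj U :=
    { ev := fun i j T a b => (hex i j a b).choose
      ev_precomp := by
        intro i j T T' φ a b
        refine (hex i j (φ ≫ a) (φ ≫ b)).unique ?_ (hex i j (φ ≫ a) (φ ≫ b)).choose_spec.1
        have h1 := (hex i j a b).choose_spec.1
        have h2 : P.P.obj.map (φ ≫ b).op (s j) = P.P.obj.map φ.op (P.P.obj.map b.op (s j)) := by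
          rw [op_comp, FunctorToTypes.map_comp_apply]
        have h3 : P.P.obj.map (φ ≫ a).op (s i) = P.P.obj.map φ.op (P.P.obj.map a.op (s i)) := by
          rw [op_comp, FunctorToTypes.map_comp_apply]
        rw [h2, h3, ← P.map_smul, h1]
      ev_trans := by
        intro i j k T a b c
        refine (hex i k a c).unique ?_ (hex i k a c).choose_spec.1
        rw [P.mul_smul, (hex j k b c).choose_spec.1, (hex i j a b).choose_spec.1] }
  have hγ : P.IsCocycleOf U s γ := fun i j T a b => (hex i j a b).choose_spec.1
  refine ⟨γ.class, ⟨s, γ, hγ, rfl⟩, ?_⟩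
  rintro c' ⟨s', γ', hγ', rfl⟩
  exact (cohomologous hps U s s' γ γ' hγ hγ').class_eq

end Groth.Agent.S16272
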