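import Groth.Statements.S16273
import Mathlib

set_option autoImplicit false
universe w' w v u
open CategoryTheory
open NonAbH1

namespace Groth.Agent.S16273

open Opposite

section
variable {C : Type u} [Category.{v} C] {J : GrothendieckTopology C} {G : Sheaf J GrpCat.{w}}

theorem smul_cancel {P : NonAbH1.GSheaf G} (h : P.IsPseudoTorsor) {V : Cᵒᵖ}
    (g g' : G.obj.obj V) (p : P.P.obj.obj V) (e : P.smul g p = P.smul g' p) : g = g' :=
  (h V p (P.smul g' p)).unique e rfl

theorem map_comp' (P : NonAbH1.GSheaf G) {V W Z : C} (h : W ⟶ V) (k : Z ⟶ W)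
    (p : P.P.obj.obj (op V)) :
    P.P.obj.map (k ≫ h).op p = P.P.obj.map k.op (P.P.obj.map h.op p) := by
  rw [op_comp, FunctorToTypes.map_comp_apply]

/-- `p` and `q` correspond locally through the trivialisations `s`, `t`. -/
def Rel (P Q : NonAbH1.GSheaf G) {I : Type w'} (U : I → C) (s : ∀ i, P.P.obj.obj (op (U i)))
    (t : ∀ i, Q.P.obj.obj (op (U i))) {W : C} (p : P.P.obj.obj (op W)) (q : Q.P.obj.obj (op W)) :
    Prop :=
  ∃ (i : I) (a : W ⟶ U i) (g : G.obj.obj (op W)),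
    P.smul g (P.P.obj.map a.op (s i)) = p ∧ Q.smul g (Q.P.obj.map a.op (t i)) = q

variable {P Q : NonAbH1.GSheaf G} {I : Type w'} {U : I → C} {s : ∀ i, P.P.obj.obj (op (U i))}
  {t : ∀ i, Q.P.obj.obj (op (U i))}

theorem rel_symm {W : C} {p : P.P.obj.obj (op W)} {q : Q.P.obj.obj (op W)}
    (h : Rel P Q U s t p q) : Rel Q P U t s q p := by
  obtain ⟨i, a, g, h1, h2⟩ := h
  exact ⟨i, a, g, h2, h1⟩

theorem rel_unique (hP : P.IsPseudoTorsor) {γ : PresheafOfGroups.OneCocycle G.obj U}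
    (hs : P.IsCocycleOf U s γ) (ht : Q.IsCocycleOf U t γ)
    {W : C} {p : P.P.obj.obj (op W)} {q q' : Q.P.obj.obj (op W)}
    (h : Rel P Q U s t p q) (h' : Rel P Q U s t p q') : q = q' := by
  obtain ⟨i, a, g, h1, h2⟩ := h
  obtain ⟨j, b, g', h1', h2'⟩ := h'
  have e : g' = g * γ.ev i j a b := by
    apply smul_cancel hP _ _ (P.P.obj.map b.op (s j))
    rw [h1', P.mul_smul, hs i j a b, h1]
  rw [← h2, ← h2', e, Q.mul_smul, ht i j a b]

theorem rel_map {W Z : C} {p : P.P.obj.obj (op W)} {q : Q.P.obj.obj (op W)}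
    (h : Rel P Q U s t p q) (k : Z ⟶ W) :
    Rel P Q U s t (P.P.obj.map k.op p) (Q.P.obj.map k.op q) := by
  obtain ⟨i, a, g, h1, h2⟩ := h
  refine ⟨i, k ≫ a, G.obj.map k.op g, ?_, ?_⟩
  · rw [map_comp', ← P.map_smul, h1]
  · rw [map_comp', ← Q.map_smul, h2]

theorem rel_smul {W : C} {p : P.P.obj.obj (op W)} {q : Q.P.obj.obj (op W)}
    (h : Rel P Q U s t p q) (g₀ : G.obj.obj (op W)) :
    Rel P Q U s t (P.smul g₀ p) (Q.smul g₀ q) := by
  obtain ⟨i, a, g, h1, h2⟩ := h
  refine ⟨i, a, g₀ * g, ?_, ?_⟩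
  · rw [P.mul_smul, h1]
  · rw [Q.mul_smul, h2]

theorem rel_exists (hP : P.IsPseudoTorsor) {W : C} (p : P.P.obj.obj (op W)) {i : I}
    (a : W ⟶ U i) : ∃ q, Rel P Q U s t p q := by
  obtain ⟨g, hg, -⟩ := hP (op W) (P.P.obj.map a.op (s i)) p
  exact ⟨_, i, a, g, hg, rfl⟩

/-- global correspondence -/
def Corr (P Q : NonAbH1.GSheaf G) {I : Type w'} (U : I → C) (s : ∀ i, P.P.obj.obj (op (U i)))
    (t : ∀ i, Q.P.obj.obj (op (U i))) {V : C} (p : P.P.obj.obj (op V)) (q : Q.P.obj.obj (op V)) :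
    Prop :=
  ∀ ⦃W : C⦄ (h : W ⟶ V), (Sieve.ofObjects U V) h →
    Rel P Q U s t (P.P.obj.map h.op p) (Q.P.obj.map h.op q)

theorem corr_symm {V : C} {p : P.P.obj.obj (op V)} {q : Q.P.obj.obj (op V)}
    (h : Corr P Q U s t p q) : Corr Q P U t s q p :=
  fun _ k hk => rel_symm (h k hk)

theorem corr_map {V V' : C} {p : P.P.obj.obj (op V)} {q : Q.P.obj.obj (op V)}
    (h : Corr P Q U s t p q) (m : V' ⟶ V) :
    Corr P Q U s t (P.P.obj.map m.op p) (Q.P.obj.map m.op q) := by
  intro W k hk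
  have hk' : (Sieve.ofObjects U V) (k ≫ m) := hk
  have := h (k ≫ m) hk'
  rwa [map_comp', map_comp'] at this

theorem corr_smul {V : C} {p : P.P.obj.obj (op V)} {q : Q.P.obj.obj (op V)}
    (h : Corr P Q U s t p q) (g₀ : G.obj.obj (op V)) :
    Corr P Q U s t (P.smul g₀ p) (Q.smul g₀ q) := by
  intro W k hk
  rw [P.map_smul, Q.map_smul]
  exact rel_smul (h k hk) _

theorem corr_unique (hU : J.CoversTop U) (hP : P.IsPseudoTorsor)
    {γ : PresheafOfGroups.OneCocycle G.obj U}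
    (hs : P.IsCocycleOf U s γ) (ht : Q.IsCocycleOf U t γ)
    {V : C} {p : P.P.obj.obj (op V)} {q q' : Q.P.obj.obj (op V)}
    (h : Corr P Q U s t p q) (h' : Corr P Q U s t p q') : q = q' := by
  have hsh : Presieve.IsSheaf J Q.P.obj := (isSheaf_iff_isSheaf_of_type J _).mp Q.P.cond
  refine (hsh _ (hU V)).isSeparatedFor.ext ?_
  intro W k hk
  exact rel_unique hP hs ht (h k hk) (h' k hk)

theorem corr_exists (hU : J.CoversTop U) (hP : P.IsPseudoTorsor)
    {γ : PresheafOfGroups.OneCocycle G.obj U}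
    (hs : P.IsCocycleOf U s γ) (ht : Q.IsCocycleOf U t γ)
    {V : C} (p : P.P.obj.obj (op V)) : ∃ q, Corr P Q U s t p q := by
  classical
  have hsh : Presieve.IsSheaf J Q.P.obj := (isSheaf_iff_isSheaf_of_type J _).mp Q.P.cond
  have hex : ∀ ⦃W : C⦄ (k : W ⟶ V), (Sieve.ofObjects U V) k →
      ∃ q, Rel P Q U s t (P.P.obj.map k.op p) q := by
    intro W k hk
    obtain ⟨i, ⟨a⟩⟩ := hk
    exact rel_exists hP _ a
  let x : Presieve.FamilyOfElements Q.P.obj (Sieve.ofObjects U V).arrows :=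
    fun W k hk => (hex k hk).choose
  have hx : ∀ ⦃W : C⦄ (k : W ⟶ V) (hk : (Sieve.ofObjects U V) k),
      Rel P Q U s t (P.P.obj.map k.op p) (x k hk) := fun W k hk => (hex k hk).choose_spec
  have hcomp : x.Compatible := by
    intro Y₁ Y₂ Z g₁ g₂ f₁ f₂ h₁ h₂ e
    have r1 := rel_map (hx f₁ h₁) g₁
    have r2 := rel_map (hx f₂ h₂) g₂
    rw [← map_comp'] at r1 r2
    rw [e] at r1
    exact rel_unique hP hs ht r1 r2
  refine ⟨(hsh _ (hU V)).amalgamate x hcomp, ?_⟩
  intro W k hk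
  rw [(hsh _ (hU V)).valid_glue hcomp k hk]
  exact hx k hk

end

/-- Let C be a category with a Grothendieck topology J, G a sheaf of groups and U a family of objects
which covers every object of the site. Two G-torsors admitting a common Cech class in H^1(U, G)
(each cut out by some family of sections over the U_i) are equivariantly isomorphic. (The published
statement is for an etale covering of a scheme; this row is stated for any family of objects
covering the site.) -/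
theorem result {C : Type u} [Category.{v} C]
    {J : GrothendieckTopology C} {G : Sheaf J GrpCat.{w}} {I : Type w'} (U : I → C) (hU : J.CoversTop U)
    (P Q : NonAbH1.Torsor G)
    (c : PresheafOfGroups.H1 G.obj U) (hPc : P.HasCechClass U c) (hQc : Q.HasCechClass U c) :
    Nonempty (P.toGSheaf ≅ Q.toGSheaf) := by
  classical
  obtain ⟨s, γP, hs, hcP⟩ := hPc
  obtain ⟨t₀, γQ, ht₀, hcQ⟩ := hQc
  have hcoh : γP.IsCohomologous γQ :=
    (PresheafOfGroups.OneCocycle.class_eq_iff _ _).mp (hcP.trans hcQ.symm)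
  obtain ⟨α, hα⟩ := hcoh
  obtain ⟨t, htdef⟩ : ∃ t : ∀ i, Q.P.obj.obj (Opposite.op (U i)),
      t = fun i => Q.smul (α i)⁻¹ (t₀ i) := ⟨_, rfl⟩
  have ht : Q.toGSheaf.IsCocycleOf U t γP := by
    intro i j T a b
    rw [htdef]
    show Q.smul (γP.ev i j a b) (Q.P.obj.map b.op (Q.smul (α j)⁻¹ (t₀ j))) =
      Q.P.obj.map a.op (Q.smul (α i)⁻¹ (t₀ i))
    rw [Q.map_smul, Q.map_smul, ← Q.mul_smul, ← ht₀ i j a b, ← Q.mul_smul]
    congr 1
    have := hα i j a b
    rw [map_inv, map_inv, eq_inv_mul_iff_mul_eq, ← mul_assoc, this, mul_assoc, mul_inv_cancel,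
      mul_one]
  have hPps := P.isTorsor.1
  have hQps := Q.isTorsor.1
  choose φ hφ using fun (V : C) (p : P.P.obj.obj (Opposite.op V)) =>
    corr_exists (Q := Q.toGSheaf) (t := t) hU hPps hs ht p
  choose ψ hψ using fun (V : C) (q : Q.P.obj.obj (Opposite.op V)) =>
    corr_exists (Q := P.toGSheaf) (t := s) hU hQps ht hs q
  have hψφ : ∀ V p, ψ V (φ V p) = p := fun V p =>
    corr_unique hU hQps ht hs (hψ V (φ V p)) (corr_symm (hφ V p))
  have hφψ : ∀ V q, φ V (ψ V q) = q := fun V q =>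
    corr_unique hU hPps hs ht (hφ V (ψ V q)) (corr_symm (hψ V q))
  have hφnat : ∀ {V V' : C} (m : V' ⟶ V) (p : P.P.obj.obj (Opposite.op V)),
      φ V' (P.P.obj.map m.op p) = Q.P.obj.map m.op (φ V p) := fun m p =>
    corr_unique hU hPps hs ht (hφ _ _) (corr_map (hφ _ p) m)
  have hψnat : ∀ {V V' : C} (m : V' ⟶ V) (q : Q.P.obj.obj (Opposite.op V)),
      ψ V' (Q.P.obj.map m.op q) = P.P.obj.map m.op (ψ V q) := fun m q =>
    corr_unique hU hQps ht hs (hψ _ _) (corr_map (hψ _ q) m)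
  have hφsmul : ∀ V (g : G.obj.obj (Opposite.op V)) (p : P.P.obj.obj (Opposite.op V)),
      φ V (P.smul g p) = Q.smul g (φ V p) := fun V g p =>
    corr_unique hU hPps hs ht (hφ _ _) (corr_smul (hφ V p) g)
  have hψsmul : ∀ V (g : G.obj.obj (Opposite.op V)) (q : Q.P.obj.obj (Opposite.op V)),
      ψ V (Q.smul g q) = P.smul g (ψ V q) := fun V g q =>
    corr_unique hU hQps ht hs (hψ _ _) (corr_smul (hψ V q) g)
  let f : P.toGSheaf ⟶ Q.toGSheaf :=
    { hom := ⟨{ app := fun V => TypeCat.ofHom (φ V.unop)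
                naturality := fun V V' m => by
                  ext p
                  exact hφnat m.unop p }⟩
      map_smul := fun {V} g p => hφsmul V.unop g p }
  let f' : Q.toGSheaf ⟶ P.toGSheaf :=
    { hom := ⟨{ app := fun V => TypeCat.ofHom (ψ V.unop)
                naturality := fun V V' m => by
                  ext q
                  exact hψnat m.unop q }⟩
      map_smul := fun {V} g q => hψsmul V.unop g q }
  refine ⟨⟨f, f', ?_, ?_⟩⟩
  · apply NonAbH1.GSheaf.hom_ext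
    apply Sheaf.hom_ext
    ext V p
    exact hψφ V.unop p
  · apply NonAbH1.GSheaf.hom_ext
    apply Sheaf.hom_ext
    ext V q
    exact hφψ V.unop q

end Groth.Agent.S16273
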