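import Groth.Statements.S1628
import Groth.Agent.Lib.Helper22.SmoothRed
import Groth.Agent.Lib.Helper26.RegularSch

set_option autoImplicit false
universe u
open CategoryTheory CategoryTheory.Limits AlgebraicGeometry
open Variety

namespace Groth.Agent.S1628

/-- If X is smooth over a field k then X is geometrically reduced over k and geometrically regular at
every point. -/
theorem result (k : Type u) [Field k] (X : Scheme.{u}) [X.Over (Spec (CommRingCat.of k))] [Smooth (X ↘ (Spec (CommRingCat.of k)))] :
    GeometricallyReduced (X ↘ (Spec (CommRingCat.of k))) ∧ ∀ x : X, Curv2.IsGeomRegularAt k X x := by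
  constructor
  · refine ⟨fun K _ y Z fst snd hpb => ?_⟩
    haveI : Smooth snd := MorphismProperty.of_isPullback hpb inferInstance
    exact Groth.Agent.Lib.Helper22.SmoothRed.isReduced_of_smooth snd
  · intro x k' _ _ hfg x' hx'
    haveI : Smooth (pullback.snd (X ↘ Spec (CommRingCat.of k))
        (Spec.map (CommRingCat.ofHom (algebraMap k k')))) := inferInstance
    exact Groth.Agent.Lib.Helper26.RegularSch.isRegularLocalRing_stalk_of_smooth_field k'
      (pullback.snd (X ↘ Spec (CommRingCat.of k))
        (Spec.map (CommRingCat.ofHom (algebraMap k k')))) x'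

end Groth.Agent.S1628
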