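import Groth.Statements.S16281
import Groth.Agent.Lib.Helper2.ExtShCoh.Restr
import Groth.Agent.Lib.Helper13.KInjDerived

set_option autoImplicit false
universe u
open CategoryTheory CategoryTheory.Limits AlgebraicGeometry
open Coherent

namespace Groth.Agent.S16281

/-- Let f : X → Y be a morphism of schemes, F and G O_X-modules, W ⊆ Y an open subscheme and p ≥ 0.
Write Ext^p_f(F, -) for the p-th right derived functor of the left exact functor G ↦ f_*
Hom_{O_X}(F, G) from O_X-modules to O_Y-modules (the relative Ext sheaves). Then the restriction of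
Ext^p_f(F, G) to W is isomorphic to Ext^p_{f'}(F|_{f⁻¹W}, G|_{f⁻¹W}), where f' : f⁻¹W → W is the
restricted morphism. (Stated for schemes, the published statement being for ringed spaces; existence
of an isomorphism of O_W-modules only. The internal Hom functors, injective resolutions and
additivity of the composite functors on X and on f⁻¹W are the stated instance hypotheses, all true.) -/
theorem result (X Y : Scheme.{u}) (f : X ⟶ Y) (W : Y.Opens)
    (F G : X.Modules) (p : ℕ)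
    [ModSite.HasSheafHom (O := X.sheaf) F] [HasInjectiveResolutions (ModSite.Mod X.sheaf)]
    [(ModSite.sheafHom (O := X.sheaf) F ⋙ Scheme.Modules.pushforward f).Additive]
    [ModSite.HasSheafHom (O := (↑(f ⁻¹ᵁ W) : Scheme.{u}).sheaf) (F.restrict (f ⁻¹ᵁ W).ι)]
    [HasInjectiveResolutions (ModSite.Mod (↑(f ⁻¹ᵁ W) : Scheme.{u}).sheaf)]
    [(ModSite.sheafHom (O := (↑(f ⁻¹ᵁ W) : Scheme.{u}).sheaf) (F.restrict (f ⁻¹ᵁ W).ι) ⋙ Scheme.Modules.pushforward (f ∣_ W)).Additive] :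
    Nonempty ((Scheme.Modules.restrictFunctor W.ι).obj (((ModSite.sheafHom (O := X.sheaf) F ⋙ Scheme.Modules.pushforward f).rightDerived p).obj G) ≅
      ((ModSite.sheafHom (O := (↑(f ⁻¹ᵁ W) : Scheme.{u}).sheaf) (F.restrict (f ⁻¹ᵁ W).ι) ⋙ Scheme.Modules.pushforward (f ∣_ W)).rightDerived p).obj
        (G.restrict (f ⁻¹ᵁ W).ι)) := by
  haveI h1 : HasInjectiveResolutions X.Modules := ‹HasInjectiveResolutions (ModSite.Mod X.sheaf)›
  haveI h2 : HasInjectiveResolutions (↑(f ⁻¹ᵁ W) : Scheme.{u}).Modules :=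
    ‹HasInjectiveResolutions (ModSite.Mod (↑(f ⁻¹ᵁ W) : Scheme.{u}).sheaf)›
  haveI h3 : (Groth.Agent.Lib.Helper2.RHom.jst (f ⁻¹ᵁ W)).Additive :=
    Groth.Agent.Lib.Helper2.ExtShCoh.additive_jst (f ⁻¹ᵁ W)
  haveI h3' : (Groth.Agent.Lib.Helper2.RHom.jst W).Additive :=
    Groth.Agent.Lib.Helper2.ExtShCoh.additive_jst W
  let SX : X.Modules ⥤ Y.Modules :=
    ModSite.sheafHom (O := X.sheaf) F ⋙ Scheme.Modules.pushforward f
  let SV : (↑(f ⁻¹ᵁ W) : Scheme.{u}).Modules ⥤ (↑W : Scheme.{u}).Modules :=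
    ModSite.sheafHom (O := (↑(f ⁻¹ᵁ W) : Scheme.{u}).sheaf) (F.restrict (f ⁻¹ᵁ W).ι) ⋙
      Scheme.Modules.pushforward (f ∣_ W)
  haveI h4 : SX.Additive :=
    ‹(ModSite.sheafHom (O := X.sheaf) F ⋙ Scheme.Modules.pushforward f).Additive›
  haveI h5 : SV.Additive :=
    ‹(ModSite.sheafHom (O := (↑(f ⁻¹ᵁ W) : Scheme.{u}).sheaf) (F.restrict (f ⁻¹ᵁ W).ι) ⋙
      Scheme.Modules.pushforward (f ∣_ W)).Additive›
  let e : SX ⋙ Groth.Agent.Lib.Helper2.RHom.jst W ≅
      Groth.Agent.Lib.Helper2.RHom.jst (f ⁻¹ᵁ W) ⋙ SV :=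
    Functor.associator _ _ _ ≪≫
      Functor.isoWhiskerLeft (ModSite.sheafHom (O := X.sheaf) F)
        (Groth.Agent.Lib.Helper13.KInjDerived.pushRestrictIso f W) ≪≫
      (Functor.associator _ _ _).symm ≪≫
      Functor.isoWhiskerRight
        (Groth.Agent.Lib.Helper2.ExtShCoh.restrSheafHomIso (f ⁻¹ᵁ W) F)
        (Scheme.Modules.pushforward (f ∣_ W)) ≪≫
      Functor.associator _ _ _
  exact ⟨(Groth.Agent.Lib.Helper13.DerivedCommute.rightDerivedBaseChangeIso SX
    (Groth.Agent.Lib.Helper2.RHom.jst W) (Groth.Agent.Lib.Helper2.RHom.jst (f ⁻¹ᵁ W))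
    (Groth.Agent.Lib.Helper2.ExtShCoh.injective_jst (f ⁻¹ᵁ W)) SV e p).app G⟩


end Groth.Agent.S16281
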