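import Groth.Statements.S16283
import Groth.Agent.Lib.Helper2.GSS.Main
import Groth.Agent.Lib.Helper2.RpushCompare
import Groth.Agent.Lib.Helper2.ModHomAcyclic
import Groth.Agent.Lib.Helper2.GSS.CechTransfer
-- import your own Groth.Agent.* helpers here

set_option autoImplicit false
universe u
open CategoryTheory CategoryTheory.Limits AlgebraicGeometry ZeroObject
open Coherent

namespace Groth.Agent.S16283

/-- Let f : X → Y and g : Y → Z be morphisms of schemes, h = g ∘ f, and F, G O_X-modules. For a morphism
u out of X write Ext^b_u(F, -) for the b-th right derived functor of the left exact functor G ↦ u_*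
Hom_{O_X}(F, G) from O_X-modules. Then there is an E₂ spectral sequence of O_Z-modules with E₂^{a,b}
≅ R^a g_*(Ext^b_f(F, G)) for a, b ≥ 0 (and 0 otherwise), bounded, abutting with finite filtrations
to Ext^n_h(F, G) (n ≥ 0; 0 for n < 0). (Stated for schemes, the published statement being for ringed
spaces. Existence only: the E₂ identifications and the abutment are some isomorphisms. The internal
Hom functor of F, injective resolutions on X and Y and additivity of the composite functors are the
stated instance hypotheses, all true.) -/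
theorem result (X Y Z : Scheme.{u}) (f : X ⟶ Y) (g : Y ⟶ Z)
    (F G : X.Modules)
    [ModSite.HasSheafHom (O := X.sheaf) F] [HasInjectiveResolutions (ModSite.Mod X.sheaf)] [HasInjectiveResolutions Y.Modules]
    [(ModSite.sheafHom (O := X.sheaf) F ⋙ Scheme.Modules.pushforward f).Additive]
    [(ModSite.sheafHom (O := X.sheaf) F ⋙ Scheme.Modules.pushforward (f ≫ g)).Additive] :
    ∃ (E : E₂CohomologicalSpectralSequence Z.Modules)
      (a : SpSeq.Abutment E (fun n : ℤ =>
        if 0 ≤ n then ((ModSite.sheafHom (O := X.sheaf) F ⋙ Scheme.Modules.pushforward (f ≫ g)).rightDerived n.toNat).obj G else (0 : Z.Modules))),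
      (∀ n : ℤ, a.IsFinite n) ∧ SpSeq.IsBounded E ∧
      ∀ p q : ℤ, Nonempty ((E.page 2 le_rfl).X (p, q) ≅
        (if 0 ≤ p ∧ 0 ≤ q then (Coh.Rpush g p.toNat).obj (((ModSite.sheafHom (O := X.sheaf) F ⋙ Scheme.Modules.pushforward f).rightDerived q.toNat).obj G)
          else (0 : Z.Modules))) := by
  haveI : PreservesFiniteLimits (Scheme.Modules.pushforward g) := by
    have : PreservesLimitsOfSize.{0, 0} (Scheme.Modules.pushforward g) :=
      (Scheme.Modules.pullbackPushforwardAdjunction g).rightAdjoint_preservesLimits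
    exact PreservesLimitsOfSize.preservesFiniteLimits _
  have hT : ∀ Q : ModSite.Mod X.sheaf, Injective Q → ∀ q : ℕ, 0 < q →
      IsZero (((Scheme.Modules.pushforward g).rightDerived q).obj
        ((ModSite.sheafHom (O := X.sheaf) F ⋙ Scheme.Modules.pushforward f).obj Q)) := by
    intro Q hQ q hq
    obtain ⟨q', rfl⟩ : ∃ q', q = q' + 1 := ⟨q - 1, by omega⟩
    refine (Groth.Agent.Lib.Helper2.RpushCompare.isZero_Rpush_iff g _ (q' + 1)).2 ?_
    have h1 : CohCx.IsTotallyAcyclic
        (ModSite.toAb ((ModSite.sheafHom (O := X.sheaf) F).obj Q)) :=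
      Groth.Agent.Lib.Helper2.ModHomAcyclic.isTotallyAcyclic_sheafHom X.sheaf F Q
    haveI : RepresentablyFlat (TopologicalSpace.Opens.map f.base) := inferInstance
    haveI : PreservesFiniteLimits ((TopologicalSpace.Opens.map f.base).sheafPullback (Type u)
        (Opens.grothendieckTopology Y) (Opens.grothendieckTopology X)) :=
      Groth.Agent.Lib.Helper5.CechFlasque.preservesFiniteLimits_pullSet_of_flat _ _ _
    have h2 : CohCx.IsTotallyAcyclic ((Coh.pushAb f).obj
        (ModSite.toAb ((ModSite.sheafHom (O := X.sheaf) F).obj Q))) :=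
      Groth.Agent.Lib.Helper2.CechTransfer.isTotallyAcyclic_push _ _
        (TopologicalSpace.Opens.map f.base) _ h1
    refine Groth.Agent.Lib.Helper13.LocallyZero.isZero_Rpush_of_basis g.base _ (q' + 1) Set.univ
      (Groth.Agent.Lib.Helper2.RpushCompare.isBasis_univ _) ?_
    intro V _
    exact Groth.Agent.Lib.Helper13.FlasqueBasic.subsingleton_HU_of_totallyAcyclic _ h2 _ q'
  exact Groth.Agent.Lib.Helper2.GSS.grothendieck_ss_ite
    (ModSite.sheafHom (O := X.sheaf) F ⋙ Scheme.Modules.pushforward f)
    (Scheme.Modules.pushforward g) hT G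
    (fun n => ((ModSite.sheafHom (O := X.sheaf) F ⋙
      Scheme.Modules.pushforward (f ≫ g)).rightDerived n).obj G)
    (fun n => ⟨Groth.Agent.Lib.Helper13.DerivedCommute.rightDerivedObjIsoOfNatIso
      (Functor.isoWhiskerLeft (ModSite.sheafHom (O := X.sheaf) F)
        (Scheme.Modules.pushforwardComp f g).symm ≪≫ (Functor.associator _ _ _).symm) n G⟩)
    (fun p q => (Coh.Rpush g p).obj (((ModSite.sheafHom (O := X.sheaf) F ⋙
      Scheme.Modules.pushforward f).rightDerived q).obj G))
    (fun p q => ⟨Iso.refl _⟩) 0 0 (isZero_zero _) (isZero_zero _)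

end Groth.Agent.S16283
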