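import Groth.Statements.S16287
import Groth.Agent.Lib.Helper16.MVSupp

set_option autoImplicit false
universe u
open CategoryTheory CategoryTheory.Limits TopologicalSpace
open LocCohZ

namespace Groth.Agent.S16287

/-- Let X be a topological space, F an abelian sheaf on X, and U, U' open subsets with closed
complements Z = X ∖ U and Z' = X ∖ U' (so Z ∩ Z' = X ∖ (U ∪ U') and Z ∪ Z' = X ∖ (U ∩ U')). With
H^i_{X∖W}(X, F) = Ext^i(Z_X/Z_W, F) and the enlargement-of-support maps r : H^i_{Z∩Z'} → H^i_Z, r' :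
H^i_{Z∩Z'} → H^i_{Z'}, s : H^i_Z → H^i_{Z∪Z'}, s' : H^i_{Z'} → H^i_{Z∪Z'}: the map H^0_{Z∩Z'} →
H^0_Z ⊕ H^0_{Z'}, x ↦ (r x, r' x), is injective, and there are connecting homomorphisms δ_i :
H^i_{Z∪Z'}(X, F) → H^{i+1}_{Z∩Z'}(X, F) such that for every i the sequence H^i_{Z∩Z'} → H^i_Z ⊕
H^i_{Z'} → H^i_{Z∪Z'} → H^{i+1}_{Z∩Z'} → H^{i+1}_Z ⊕ H^{i+1}_{Z'} is exact, the middle map being (y,
y') ↦ s y − s' y'. -/
theorem result {X : TopCat.{u}} (F : CohTop.Ab X) (U U' : Opens X) :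
    Function.Injective (fun x : LocCohZ.HZc F 0 (U ⊔ U') =>
      (LocCohZ.resZ F 0 (le_top : U ⊔ U' ≤ ⊤) (le_top : U ≤ ⊤) le_sup_left le_rfl x,
       LocCohZ.resZ F 0 (le_top : U ⊔ U' ≤ ⊤) (le_top : U' ≤ ⊤) le_sup_right le_rfl x)) ∧
    ∃ δ : ∀ i : ℕ, LocCohZ.HZc F i (U ⊓ U') →+ LocCohZ.HZc F (i + 1) (U ⊔ U'),
      ∀ i : ℕ,
        (∀ y : LocCohZ.HZc F i U × LocCohZ.HZc F i U',
          LocCohZ.resZ F i (le_top : U ≤ ⊤) (le_top : U ⊓ U' ≤ ⊤) inf_le_left le_rfl y.1 -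
              LocCohZ.resZ F i (le_top : U' ≤ ⊤) (le_top : U ⊓ U' ≤ ⊤) inf_le_right le_rfl y.2 = 0 ↔
            ∃ x : LocCohZ.HZc F i (U ⊔ U'),
              LocCohZ.resZ F i (le_top : U ⊔ U' ≤ ⊤) (le_top : U ≤ ⊤) le_sup_left le_rfl x = y.1 ∧
              LocCohZ.resZ F i (le_top : U ⊔ U' ≤ ⊤) (le_top : U' ≤ ⊤) le_sup_right le_rfl x = y.2) ∧
        (∀ w : LocCohZ.HZc F i (U ⊓ U'),
          δ i w = 0 ↔ ∃ y : LocCohZ.HZc F i U × LocCohZ.HZc F i U',
            LocCohZ.resZ F i (le_top : U ≤ ⊤) (le_top : U ⊓ U' ≤ ⊤) inf_le_left le_rfl y.1 -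
              LocCohZ.resZ F i (le_top : U' ≤ ⊤) (le_top : U ⊓ U' ≤ ⊤) inf_le_right le_rfl y.2 = w) ∧
        (∀ x : LocCohZ.HZc F (i + 1) (U ⊔ U'),
          (LocCohZ.resZ F (i + 1) (le_top : U ⊔ U' ≤ ⊤) (le_top : U ≤ ⊤) le_sup_left le_rfl x = 0 ∧
            LocCohZ.resZ F (i + 1) (le_top : U ⊔ U' ≤ ⊤) (le_top : U' ≤ ⊤) le_sup_right le_rfl x = 0) ↔
            ∃ w : LocCohZ.HZc F i (U ⊓ U'), δ i w = x) := by
  have hT := Groth.Agent.Lib.Helper16.MVSupp.mvT_shortExact U U'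
  refine ⟨?_, fun i => (hT.extClass.precomp F (show 1 + i = i + 1 by omega)), fun i => ⟨?_, ?_, ?_⟩⟩
  · intro x x' hxx'
    exact Abelian.Ext.precomp_mk₀_injective_of_epi F (Groth.Agent.Lib.Helper16.MVSupp.b₁ U U')
      (congrArg Prod.fst hxx')
  · intro y
    have e1 : (Abelian.Ext.mk₀ biprod.inl).comp (Abelian.Ext.biprodAddEquiv.symm y) (zero_add i) = y.1 :=
      congrArg Prod.fst (Abelian.Ext.biprodAddEquiv.apply_symm_apply y)
    have e2 : (Abelian.Ext.mk₀ biprod.inr).comp (Abelian.Ext.biprodAddEquiv.symm y) (zero_add i) = y.2 :=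
      congrArg Prod.snd (Abelian.Ext.biprodAddEquiv.apply_symm_apply y)
    constructor
    · intro hy
      obtain ⟨x₃, hx₃⟩ := Abelian.Ext.contravariant_sequence_exact₂ hT F
        (Abelian.Ext.biprodAddEquiv.symm y) (by
          rw [Groth.Agent.Lib.Helper16.MVSupp.mk₀_f_comp, e1, e2]
          exact hy)
      refine ⟨x₃, ?_, ?_⟩
      · exact (Groth.Agent.Lib.Helper16.MVSupp.inl_g_comp F i x₃).symm.trans
          ((congrArg (fun z => (Abelian.Ext.mk₀ biprod.inl).comp z (zero_add i)) hx₃).trans e1)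
      · exact (Groth.Agent.Lib.Helper16.MVSupp.inr_g_comp F i x₃).symm.trans
          ((congrArg (fun z => (Abelian.Ext.mk₀ biprod.inr).comp z (zero_add i)) hx₃).trans e2)
    · rintro ⟨x, hx1, hx2⟩
      have e : (Abelian.Ext.mk₀ (Groth.Agent.Lib.Helper16.MVSupp.a₁ U U')).comp
          ((Abelian.Ext.mk₀ (Groth.Agent.Lib.Helper16.MVSupp.b₁ U U')).comp x (zero_add i)) (zero_add i) =
          (Abelian.Ext.mk₀ (Groth.Agent.Lib.Helper16.MVSupp.a₂ U U')).comp
          ((Abelian.Ext.mk₀ (Groth.Agent.Lib.Helper16.MVSupp.b₂ U U')).comp x (zero_add i)) (zero_add i) := by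
        rw [Abelian.Ext.mk₀_comp_mk₀_assoc, Abelian.Ext.mk₀_comp_mk₀_assoc,
          Groth.Agent.Lib.Helper16.MVSupp.ab_comm]
      rw [← hx1, ← hx2]
      exact sub_eq_zero.2 e
  · intro w
    constructor
    · intro hw
      obtain ⟨x₂, hx₂⟩ := Abelian.Ext.contravariant_sequence_exact₁ hT F w
        (show 1 + i = i + 1 by omega) hw
      exact ⟨Abelian.Ext.biprodAddEquiv x₂,
        (Groth.Agent.Lib.Helper16.MVSupp.mk₀_f_comp F i x₂).symm.trans hx₂⟩
    · rintro ⟨y, rfl⟩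
      have e1 : (Abelian.Ext.mk₀ biprod.inl).comp (Abelian.Ext.biprodAddEquiv.symm y) (zero_add i) = y.1 :=
        congrArg Prod.fst (Abelian.Ext.biprodAddEquiv.apply_symm_apply y)
      have e2 : (Abelian.Ext.mk₀ biprod.inr).comp (Abelian.Ext.biprodAddEquiv.symm y) (zero_add i) = y.2 :=
        congrArg Prod.snd (Abelian.Ext.biprodAddEquiv.apply_symm_apply y)
      have e3 := Groth.Agent.Lib.Helper16.MVSupp.mk₀_f_comp F i (Abelian.Ext.biprodAddEquiv.symm y)
      rw [e1, e2] at e3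
      have e4 := hT.extClass_comp_assoc (Abelian.Ext.biprodAddEquiv.symm y)
        (h := (show 1 + i = i + 1 by omega))
      rw [e3] at e4
      exact e4
  · intro x
    constructor
    · rintro ⟨h1, h2⟩
      have hx₃ : (Abelian.Ext.mk₀ (Groth.Agent.Lib.Helper16.MVSupp.mvT U U').g).comp x
          (zero_add (i + 1)) = 0 := by
        apply Abelian.Ext.biprod_ext
        · rw [Groth.Agent.Lib.Helper16.MVSupp.inl_g_comp, Abelian.Ext.comp_zero]
          exact h1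
        · rw [Groth.Agent.Lib.Helper16.MVSupp.inr_g_comp, Abelian.Ext.comp_zero]
          exact h2
      obtain ⟨w, hw⟩ := Abelian.Ext.contravariant_sequence_exact₃ hT F x hx₃
        (show 1 + i = i + 1 by omega)
      exact ⟨w, hw⟩
    · rintro ⟨w, rfl⟩
      constructor
      · exact (Groth.Agent.Lib.Helper16.MVSupp.inl_g_comp F (i + 1) _).symm.trans
          ((congrArg (fun z => (Abelian.Ext.mk₀ biprod.inl).comp z (zero_add (i + 1)))
            (hT.comp_extClass_assoc w (show 1 + i = i + 1 by omega))).trans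
            (Abelian.Ext.comp_zero _ _ _ _ _))
      · exact (Groth.Agent.Lib.Helper16.MVSupp.inr_g_comp F (i + 1) _).symm.trans
          ((congrArg (fun z => (Abelian.Ext.mk₀ biprod.inr).comp z (zero_add (i + 1)))
            (hT.comp_extClass_assoc w (show 1 + i = i + 1 by omega))).trans
            (Abelian.Ext.comp_zero _ _ _ _ _))

end Groth.Agent.S16287
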