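import Groth.Statements.S16297
-- import your own Groth.Agent.* helpers here
import Groth.Agent.Lib.Helper23.CurveVAa
import Groth.Agent.Lib.Helper23.AmpleNef

set_option autoImplicit false
universe u
open CategoryTheory CategoryTheory.Limits AlgebraicGeometry
open Curves

namespace Groth.Agent.S16297

/-- Let k be a field and X a proper scheme over k of dimension one (not assumed reduced or irreducible)
with H^1(X, O_X) = 0, and let L be an ample invertible O_X-module. Then L is very ample: for some n
there is a closed immersion i : X → P^n_k over k with i^*O(1) isomorphic to L (existence of an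
isomorphism only). -/
theorem result (k : Type u) [Field k] (X : Scheme.{u}) [X.Over (Spec (CommRingCat.of k))]
    [IsProper (X ↘ (Spec (CommRingCat.of k)))] (hdim : topologicalKrullDim X = 1)
    (h1 : Subsingleton (Coh.HH X (Coh.structureModule X) 1))
    (L : X.Modules) (hA : CohB1.IsAmple L) :
    ∃ (n : ℕ) (i : X ⟶ CohB1.ProjSpace n k), IsClosedImmersion i ∧
      i ≫ CohB1.ProjSpace.toSpec n k = X ↘ (Spec (CommRingCat.of k)) ∧
      Nonempty ((Scheme.Modules.pullback i).obj (Twist.twistProjSpace n k 1) ≅ L) := by
  have hd : topologicalKrullDim X ≤ ((1 : ℕ) : WithBot ℕ∞) := by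
    rw [hdim]; exact le_refl _
  have hnef := Groth.Agent.Lib.Helper23.AmpleNef.nef_of_ample k X 1 hd L hA
  have hgg := (Groth.Agent.Lib.Helper23.CurveNef.h1_gg_of_nef k hdim.le h1 L hA.1 hnef).2
  exact Groth.Agent.Lib.Helper23.CurveVA.exists_closedImmersion_of_ample_normallyGenerated k hA hgg
    (Groth.Agent.Lib.Helper23.CurveVA.span_tmul_all k hdim.le h1 hA.1 hgg)

end Groth.Agent.S16297
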