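import Groth.Statements.S16298
-- import your own Groth.Agent.* helpers here
import Groth.Agent.Lib.Helper23.NormDelta
import Groth.Agent.Lib.Helper23.PushIso
import Groth.Agent.Lib.Helper23.CurveD
import Groth.Agent.Lib.Helper7.TwFun

set_option autoImplicit false
universe u
open CategoryTheory CategoryTheory.Limits AlgebraicGeometry
open Curves

namespace Groth.Agent.S16298

/-- Let k be a field and X a genus-zero curve over k, that is, an integral scheme proper over k of
dimension one with H^1(X, O_X) = 0. Then the normalization Y of X again satisfies H^1(Y, O_Y) = 0,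
so Y is again a genus-zero curve. (The two instance binders on the morphism from the generic point
always hold; they are only needed to form the normalization.) -/
theorem result (k : Type u) [Field k] (X : Scheme.{u}) [X.Over (Spec (CommRingCat.of k))]
    [IsIntegral X] [IsProper (X ↘ (Spec (CommRingCat.of k)))] (hdim : topologicalKrullDim X = 1)
    (h1 : Subsingleton (Coh.HH X (Coh.structureModule X) 1))
    [QuasiCompact (X.fromSpecStalk (genericPoint X))] [QuasiSeparated (X.fromSpecStalk (genericPoint X))] :
    Subsingleton (Coh.HH (Curv2.normalization X) (Coh.structureModule (Curv2.normalization X)) 1) := by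
  open Groth.Agent.Lib.Helper23.NormDelta Groth.Agent.Lib.Helper23.Curve
    Groth.Agent.Lib.Helper12 in
  haveI := isNoetherian_of_isProper k X
  have hN : ∀ U : X.Opens, IsAffineOpen U → (U : Set X).Nonempty → N2.N2' Γ(X, U) :=
    fun U hU hne => NormGen.N2'_sections k (X ↘ Spec (CommRingCat.of k)) hU hne
  have hfin : IsFinite (ν X) := NormGen.isFinite_of_N2' X hN
  haveI := hfin
  obtain ⟨V, hVd, hV⟩ := exists_dense_isIso X hfin
  haveI := hV
  haveI := mono_unitToPush X
  -- the cokernel is flasque
  have hflq : Groth.Agent.Lib.Helper23.T2.IsFlq (cokernel (ClSub.unitToPush (ν X))) :=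
    isFlq_of_vanishesOn k X hdim.le _ V hVd.nonempty (vanishesOn_cokernel X V)
  have h3 : Subsingleton (Coh.HH X (cokernel (ClSub.unitToPush (ν X))) 1) :=
    Groth.Agent.Lib.Helper23.T2.acyclic_of_isFlq hflq 0
  let T : ShortComplex X.Modules :=
    ShortComplex.mk (ClSub.unitToPush (ν X)) (cokernel.π (ClSub.unitToPush (ν X)))
      (cokernel.condition _)
  have hT : T.ShortExact :=
    { exact := ShortComplex.exact_cokernel (ClSub.unitToPush (ν X))
      mono_f := inferInstanceAs (Mono (ClSub.unitToPush (ν X)))
      epi_g := inferInstanceAs (Epi (cokernel.π (ClSub.unitToPush (ν X)))) }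
  have h2 : Subsingleton (Coh.HH X ((Scheme.Modules.pushforward (ν X)).obj
      (Coh.structureModule (X.fromSpecStalk (genericPoint X)).normalization)) 1) :=
    Groth.Agent.Lib.Helper7.TwFun.sub_mid T hT 1 h1 h3
  letI : (X.fromSpecStalk (genericPoint X)).normalization.Over (Spec (CommRingCat.of k)) :=
    ⟨ν X ≫ (X ↘ Spec (CommRingCat.of k))⟩
  haveI : (Coh.structureModule (X.fromSpecStalk (genericPoint X)).normalization).IsQuasicoherent :=
    Groth.Agent.Lib.Helper3.QCOpen.isQuasicoherent_structureModule _
  obtain ⟨e⟩ := Groth.Agent.Lib.Helper23.PushIso.nonempty_equiv (ν X) k rfl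
    (fun W hW => Groth.Agent.Lib.Helper23.FBC.isAffineHom_ι_of_isSeparated k W hW) 1
    (Coh.structureModule (X.fromSpecStalk (genericPoint X)).normalization)
  exact e.toEquiv.subsingleton

end Groth.Agent.S16298
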