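import Groth.Statements.S16299
-- import your own Groth.Agent.* helpers here
import Groth.Agent.Lib.Helper7.CurveGG
import Groth.Agent.Lib.Helper23.GammaFieldK

set_option autoImplicit false
universe u
open CategoryTheory CategoryTheory.Limits AlgebraicGeometry
open Curves

namespace Groth.Agent.S16299

/-- Let k be a field and X a Gorenstein genus-one curve over k: an integral scheme, proper over k, of
dimension one, all of whose local rings are Gorenstein, with dim_k H^1(X, O_X) = 1. Let L be an
invertible O_X-module of degree at least 2 over k. Then the base locus of L is contained in the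
non-regular locus of X: for every point x of X whose local ring is regular there is a global section
s : O_X → L with x in the open X_s where s generates L. -/
theorem result (k : Type u) [Field k] (X : Scheme.{u}) [X.Over (Spec (CommRingCat.of k))]
    [IsIntegral X] [IsProper (X ↘ (Spec (CommRingCat.of k)))] (hdim : topologicalKrullDim X = 1)
    (hgor : ∀ x : X, LocCoh.IsGorensteinLocalRing (X.presheaf.stalk x)) (hg : Curv2.genus k X = 1)
    (L : X.Modules) (hL : PicF.IsInvertible L) (hdeg : 2 ≤ Curv2.deg k X L 1)
    (x : X) (hx : IsRegularLocalRing (X.presheaf.stalk x)) :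
    ∃ s : Coh.structureModule X ⟶ L, x ∈ CohB1.genLocus L s := by
  have hd1 : topologicalKrullDim X ≤ 1 := hdim.le
  have h0 : Module.finrank k (Coh.HH X (Coh.structureModule X) 0) = 1 := by
    have h1 := Groth.Agent.Lib.Helper23.GammaField.finrank_dvd k (X := X) (Coh.structureModule X) 1
    have h2 := Groth.Agent.Lib.Helper23.GammaField.finrank_h0_structure k (X := X)
    have hg' : Module.finrank k (Coh.HH X (Coh.structureModule X) 1) = 1 := hg
    rw [hg'] at h1
    rw [h2]
    exact Nat.dvd_one.mp h1
  have hdeg' : 2 * (Curv2.genus k X : ℤ) ≤ Curv2.deg k X L 1 := by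
    rw [hg]
    simpa using hdeg
  haveI : CompactSpace X := by
    haveI : QuasiCompact (X ↘ (Spec (CommRingCat.of k))) := inferInstance
    exact (quasiCompact_iff_compactSpace (X ↘ (Spec (CommRingCat.of k)))).mp inferInstance
  obtain ⟨y, hy, hyc⟩ := IsClosed.exists_closed_singleton (isClosed_closure (s := ({x} : Set X)))
    ⟨x, subset_closure rfl⟩
  obtain ⟨m, hm⟩ := Groth.Agent.Lib.Helper7.CurvePair.exists_mem_genLocus_of_closed k hd1 h0 hL
    hdeg' y hyc
  refine ⟨Groth.Agent.Lib.Helper3.InvAmple.globalHom L m, ?_⟩
  have hsp : x ⤳ y := specializes_iff_mem_closure.mpr hy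
  exact hsp.mem_open (CohB1.genLocus L _).isOpen hm

end Groth.Agent.S16299
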