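import Groth.Statements.S1630
-- import your own Groth.Agent.* helpers here

set_option autoImplicit false
universe u
open CategoryTheory CategoryTheory.Limits AlgebraicGeometry
open Variety

namespace Groth.Agent.S1630

/-- Let X be a scheme over k. If X has a cover by a nonempty family of open subschemes, each
geometrically irreducible over k and any two of which meet, then X is geometrically irreducible over
k. -/
theorem result (k : Type u) [Field k] (X : Scheme.{u}) [X.Over (Spec (CommRingCat.of k))]
    (ι : Type u) (U : ι → X.Opens) (hne : Nonempty ι) (hcov : (⨆ i, U i) = ⊤)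
    (hmeet : ∀ i j, ((U i : Set X) ∩ (U j : Set X)).Nonempty)
    (hU : ∀ i, GeometricallyIrreducible ((U i).ι ≫ (X ↘ (Spec (CommRingCat.of k))))) : GeometricallyIrreducible (X ↘ (Spec (CommRingCat.of k))) := by
  constructor
  rw [geometrically_iff_of_isClosedUnderIsomorphisms]
  intro K _ y
  set f := X ↘ (Spec (CommRingCat.of k)) with hf
  set p := pullback.fst f y with hp
  -- the pieces
  have hV : ∀ i, IrreducibleSpace ↥(p ⁻¹ᵁ U i) := by
    intro i
    have h1 : IrreducibleSpace ↥(pullback ((U i).ι ≫ f) y) :=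
      pullback_of_geometrically (hU i).geometrically_irreducibleSpace K y
    let e : pullback ((U i).ι ≫ f) y ≅ (p ⁻¹ᵁ U i : Scheme) :=
      (pullbackRightPullbackFstIso f y (U i).ι).symm ≪≫ pullbackSymmetry _ _ ≪≫
        pullbackRestrictIsoRestrict p (U i)
    exact (e.hom.homeomorph.irreducibleSpace_iff).mp h1
  have hsurj : Surjective y := by
    constructor
    intro x
    obtain ⟨z⟩ : Nonempty (Spec (.of K)) := inferInstance
    exact ⟨z, Subsingleton.elim _ _⟩
  have hpsurj : Surjective p := inferInstance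
  have hpre : PreirreducibleSpace ↥(pullback f y) := by
    refine PreirreducibleSpace.of_isOpenCover (U := fun i => p ⁻¹ᵁ U i) ?_ ?_ ?_
    · intro i j _
      change ¬ Disjoint (p ⁻¹ᵁ U i) (p ⁻¹ᵁ U j)
      obtain ⟨x, hxi, hxj⟩ := hmeet i j
      obtain ⟨z, rfl⟩ := hpsurj.surj x
      intro hdis
      have := hdis.le_bot (show z ∈ (p ⁻¹ᵁ U i) ⊓ (p ⁻¹ᵁ U j) from ⟨hxi, hxj⟩)
      exact this
    · change (⨆ i, p ⁻¹ᵁ U i) = ⊤
      rw [← Scheme.Hom.preimage_iSup, hcov]
      rfl
    · intro i
      exact (hV i).toPreirreducibleSpace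
  obtain ⟨i⟩ := hne
  have : Nonempty ↥(pullback f y) := by
    obtain ⟨z⟩ := (hV i).toNonempty
    exact ⟨z.1⟩
  exact { toPreirreducibleSpace := hpre, toNonempty := this }

end Groth.Agent.S1630
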