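import Groth.Statements.S16301
import Groth.Agent.Lib.Helper11.DualDegB
import Groth.Agent.Lib.Helper12.FiniteNonreg
import Groth.Agent.Lib.Helper15.GenLocusDeg
import Groth.Agent.Lib.Helper15.PtDegReg
import Groth.Agent.Lib.Helper17.GGDegNonneg
import Groth.Agent.Lib.Helper24.InfClosedPts
import Groth.Agent.Lib.Helper26.GenLocusTop
import Groth.Agent.Lib.Helper26.SecAvoidGG

set_option autoImplicit false
universe u
open CategoryTheory CategoryTheory.Limits AlgebraicGeometry
open Curves

namespace Groth.Agent.S16301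

open Groth.Agent.Lib.Helper3 in
theorem cls_tensor {Y : Scheme.{u}} [PicGrp.Law Y] {A B : Y.Modules} (hA : PicF.IsInvertible A)
    (hB : PicF.IsInvertible B) :
    PicGrp.cls (CohB1.tensorMod A B) (InvTensor.isInvertible_tensorMod hA hB) =
      PicGrp.cls A hA * PicGrp.cls B hB :=
  Subtype.ext (PicGrp.cls_mul_cls_val hA hB).symm

open Groth.Agent.Lib.Helper3 in
theorem cls_pow {Y : Scheme.{u}} [PicGrp.Law Y] {A : Y.Modules} (hA : PicF.IsInvertible A) (n : ℕ) :
    PicGrp.cls (CohB1.tensorPow A n) (InvTensor.isInvertible_tensorPow hA n) = PicGrp.cls A hA ^ n :=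
  Subtype.ext (PicGrp.cls_pow_val hA n).symm

/-- Let k be an infinite field and X a genus-zero curve over k, that is, an integral scheme proper over
k of dimension one with H^1(X, O_X) = 0. Let P be a closed point of X whose local ring is regular
and whose degree deg_k P = dim_k H^0(P, O_P) is least among all closed points of X with regular
local ring, and let I_P be the ideal sheaf of the reduced point P (an invertible module, P being a
regular point of a curve; this is carried as a hypothesis). Then the Picard group of X is generated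
by the class of I_P, equivalently by O_X(P): every class of an invertible O_X-module is an integer
power of the class of I_P (the group law on the Picard group is the tensor product, supplied by the
binder). (The published statement is for an arbitrary base field; this row assumes k infinite, the
case in which the published argument applies: it twice replaces an ample divisor by a member of its
base-point-free complete linear system whose support avoids the finitely many non-regular points of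
X, and over a finite field such a member need not exist.) -/
theorem result (k : Type u) [Field k] [Infinite k] (X : Scheme.{u}) [X.Over (Spec (CommRingCat.of k))]
    [IsIntegral X] [IsProper (X ↘ (Spec (CommRingCat.of k)))] (hdim : topologicalKrullDim X = 1)
    (h1 : Subsingleton (Coh.HH X (Coh.structureModule X) 1))
    (P : X) (hPc : IsClosed ({P} : Set X)) (hPreg : IsRegularLocalRing (X.presheaf.stalk P))
    (hmin : ∀ (Q : X) (hQc : IsClosed ({Q} : Set X)), IsRegularLocalRing (X.presheaf.stalk Q) →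
      Module.finrank k (Coh.HH X (ClSub.quotMod (Scheme.IdealSheafData.vanishingIdeal ⟨{P}, hPc⟩)) 0) ≤ Module.finrank k (Coh.HH X (ClSub.quotMod (Scheme.IdealSheafData.vanishingIdeal ⟨{Q}, hQc⟩)) 0))
    (hI : PicF.IsInvertible (ClSub.idealMod (Scheme.IdealSheafData.vanishingIdeal ⟨{P}, hPc⟩))) [PicGrp.Law X]
    (c : PicLoc.PicSet X) :
    c ∈ Subgroup.zpowers (PicGrp.cls (ClSub.idealMod (Scheme.IdealSheafData.vanishingIdeal ⟨{P}, hPc⟩)) hI) := by
  classical
  have hd1 : topologicalKrullDim X ≤ 1 := hdim.le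
  obtain ⟨-, hdegI, hpos⟩ := Groth.Agent.Lib.Helper15.PtDegReg.idealMod_point k hdim P hPc hPreg
  obtain ⟨L, hLinv, hinvOf⟩ := Groth.Agent.Lib.Helper23.Inverse.exists_isInverseOf hI
  have hdegL : Curv2.deg k X L 1 = (Module.finrank k (Coh.HH X (ClSub.quotMod
        (Scheme.IdealSheafData.vanishingIdeal ⟨{P}, hPc⟩)) 0) : ℤ) := by
    rw [Groth.Agent.Lib.Helper11.DualDegB.deg_inverse k hd1 hI hLinv hinvOf, hdegI, neg_neg]
  have hgL : PicGrp.cls L hLinv =
      (PicGrp.cls (ClSub.idealMod (Scheme.IdealSheafData.vanishingIdeal ⟨{P}, hPc⟩)) hI)⁻¹ :=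
    (PicGrp.cls_inv_eq_cls hI hLinv hinvOf).symm
  have hT := Groth.Agent.Lib.Helper12.FiniteNonreg.finite_nonregular k (X := X) hdim
  -- small degree ⇒ trivial
  have hZ : ∀ (M : X.Modules) (hM : PicF.IsInvertible M), 0 ≤ Curv2.deg k X M 1 →
      Curv2.deg k X M 1 < (Module.finrank k (Coh.HH X (ClSub.quotMod
        (Scheme.IdealSheafData.vanishingIdeal ⟨{P}, hPc⟩)) 0) : ℤ) →
      Nonempty (M ≅ Coh.structureModule X) := by
    intro M hM h0 hlt
    have hgg := Groth.Agent.Lib.Helper17.GGDegNonneg.isGloballyGenerated_of_deg_nonneg k hdim h1 hM h0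
    obtain ⟨s, hs⟩ := Groth.Agent.Lib.Helper26.SecAvoidGG.exists_section_avoiding k hM hgg _ (hT.union (Set.finite_singleton P))
    apply Groth.Agent.Lib.Helper26.GenLocusTop.iso_of_forall_closed_mem_genLocus k hM s
    intro Q hQc
    by_contra hQ
    have hQreg : IsRegularLocalRing (X.presheaf.stalk Q) := by
      by_contra hnr
      exact hQ (hs Q (Or.inl ⟨hQc, hnr⟩))
    have hs0 : s ≠ 0 := Groth.Agent.Lib.Helper24.InfClosedPts.ne_zero_of_mem_genLocus k s P (hs P (Or.inr rfl))
    have hle := Groth.Agent.Lib.Helper15.PtDegReg.degPoint_le_of_notMem_genLocus k hdim hM s hs0 Q hQc hQreg hQ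
    have h2 := hmin Q hQc hQreg
    have h3 : (Module.finrank k (Coh.HH X (ClSub.quotMod
        (Scheme.IdealSheafData.vanishingIdeal ⟨{P}, hPc⟩)) 0) : ℤ) ≤
        (Module.finrank k (Coh.HH X (ClSub.quotMod
        (Scheme.IdealSheafData.vanishingIdeal ⟨{Q}, hQc⟩)) 0) : ℤ) := by exact_mod_cast h2
    linarith
  -- ideal sheaves of regular points are powers of the generator
  have hD : ∀ (Q : X) (hQc : IsClosed ({Q} : Set X)),
      IsRegularLocalRing (X.presheaf.stalk Q) →
      ∀ hIQ : PicF.IsInvertible (ClSub.idealMod (Scheme.IdealSheafData.vanishingIdeal ⟨{Q}, hQc⟩)),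
      PicGrp.cls _ hIQ ∈ Subgroup.zpowers
        (PicGrp.cls (ClSub.idealMod (Scheme.IdealSheafData.vanishingIdeal ⟨{P}, hPc⟩)) hI) := by
    intro Q hQc hQreg hIQ
    obtain ⟨-, hdegIQ, hposQ⟩ := Groth.Agent.Lib.Helper15.PtDegReg.idealMod_point k hdim Q hQc hQreg
    obtain ⟨LQ, hLQ, hinvQ⟩ := Groth.Agent.Lib.Helper23.Inverse.exists_isInverseOf hIQ
    have hdegLQ : Curv2.deg k X LQ 1 = (Module.finrank k (Coh.HH X (ClSub.quotMod
        (Scheme.IdealSheafData.vanishingIdeal ⟨{Q}, hQc⟩)) 0) : ℤ) := by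
      rw [Groth.Agent.Lib.Helper11.DualDegB.deg_inverse k hd1 hIQ hLQ hinvQ, hdegIQ, neg_neg]
    generalize hdQ : Module.finrank k (Coh.HH X (ClSub.quotMod
        (Scheme.IdealSheafData.vanishingIdeal ⟨{Q}, hQc⟩)) 0) = dQ at hdegLQ hdegIQ hposQ
    generalize hdP : Module.finrank k (Coh.HH X (ClSub.quotMod
        (Scheme.IdealSheafData.vanishingIdeal ⟨{P}, hPc⟩)) 0) = d at hdegL hdegI hpos hZ
    have hN := Groth.Agent.Lib.Helper3.InvTensor.isInvertible_tensorMod hLQ
      (Groth.Agent.Lib.Helper3.InvTensor.isInvertible_tensorPow hI (dQ / d))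
    have hdegN : Curv2.deg k X (CohB1.tensorMod LQ (CohB1.tensorPow
        (ClSub.idealMod (Scheme.IdealSheafData.vanishingIdeal ⟨{P}, hPc⟩)) (dQ / d))) 1 =
        ((dQ % d : ℕ) : ℤ) := by
      rw [Groth.Agent.Lib.Helper11.DualDegB.deg_tensor_pow k hd1 hLQ hI, hdegLQ, hdegI]
      have := Nat.div_add_mod dQ d
      push_cast
      have h4 : ((dQ / d : ℕ) : ℤ) * (d : ℤ) + ((dQ % d : ℕ) : ℤ) = (dQ : ℤ) := by
        rw [mul_comm]; exact_mod_cast this
      push_cast at h4
      linarith
    obtain ⟨eN⟩ := hZ _ hN (by rw [hdegN]; positivity)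
      (by rw [hdegN]; exact_mod_cast Nat.mod_lt dQ hpos)
    have h5 : PicGrp.cls LQ hLQ * PicGrp.cls (ClSub.idealMod
        (Scheme.IdealSheafData.vanishingIdeal ⟨{P}, hPc⟩)) hI ^ (dQ / d) = 1 := by
      rw [← cls_pow hI (dQ / d), ← cls_tensor hLQ]
      exact (PicGrp.cls_eq_one_iff _).mpr ⟨eN⟩
    have h6 : PicGrp.cls _ hIQ = (PicGrp.cls LQ hLQ)⁻¹ :=
      (inv_eq_of_mul_eq_one_left ((PicGrp.cls_mul_cls_eq_one_iff hIQ hLQ).mpr hinvQ)).symm
    rw [h6, inv_eq_of_mul_eq_one_right h5]
    exact Subgroup.pow_mem _ (Subgroup.mem_zpowers _) _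
  -- nonnegative degree: induction
  have main : ∀ n : ℕ, ∀ (M : X.Modules) (hM : PicF.IsInvertible M), Curv2.deg k X M 1 = (n : ℤ) →
      PicGrp.cls M hM ∈ Subgroup.zpowers
        (PicGrp.cls (ClSub.idealMod (Scheme.IdealSheafData.vanishingIdeal ⟨{P}, hPc⟩)) hI) := by
    intro n
    induction n using Nat.strong_induction_on with
    | _ n ih =>
      intro M hM hdegM
      have hgg := Groth.Agent.Lib.Helper17.GGDegNonneg.isGloballyGenerated_of_deg_nonneg k hdim h1 hM (by rw [hdegM]; positivity)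
      obtain ⟨s, hs⟩ := Groth.Agent.Lib.Helper26.SecAvoidGG.exists_section_avoiding k hM hgg _ (hT.union (Set.finite_singleton P))
      by_cases hall : ∀ Q : X, IsClosed ({Q} : Set X) → Q ∈ CohB1.genLocus M s
      · obtain ⟨e⟩ := Groth.Agent.Lib.Helper26.GenLocusTop.iso_of_forall_closed_mem_genLocus k hM s hall
        rw [(PicGrp.cls_eq_one_iff hM).mpr ⟨e⟩]
        exact one_mem _
      · push Not at hall
        obtain ⟨Q, hQc, hQ⟩ := hall
        have hQreg : IsRegularLocalRing (X.presheaf.stalk Q) := by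
          by_contra hnr
          exact hQ (hs Q (Or.inl ⟨hQc, hnr⟩))
        have hs0 : s ≠ 0 := Groth.Agent.Lib.Helper24.InfClosedPts.ne_zero_of_mem_genLocus k s P (hs P (Or.inr rfl))
        have hle := Groth.Agent.Lib.Helper15.PtDegReg.degPoint_le_of_notMem_genLocus k hdim hM s hs0 Q hQc hQreg hQ
        obtain ⟨hIQ, hdegIQ, hposQ⟩ := Groth.Agent.Lib.Helper15.PtDegReg.idealMod_point k hdim Q hQc hQreg
        have hIQmem := hD Q hQc hQreg hIQ
        generalize hdQ : Module.finrank k (Coh.HH X (ClSub.quotMod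
          (Scheme.IdealSheafData.vanishingIdeal ⟨{Q}, hQc⟩)) 0) = dQ at hle hdegIQ hposQ
        rw [hdegM] at hle
        have hle' : dQ ≤ n := by exact_mod_cast hle
        have hM₁ := Groth.Agent.Lib.Helper3.InvTensor.isInvertible_tensorMod hIQ hM
        have hdeg₁ : Curv2.deg k X (CohB1.tensorMod (ClSub.idealMod
            (Scheme.IdealSheafData.vanishingIdeal ⟨{Q}, hQc⟩)) M) 1 = ((n - dQ : ℕ) : ℤ) := by
          have h7 := Groth.Agent.Lib.Helper23.DegTensor.deg_tw k hd1
            (Groth.Agent.Lib.Helper23.Curve.isFinLocFreeOfRank_one_of_isInvertible hIQ) hM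
          rw [h7, hdegIQ, hdegM, Nat.cast_sub hle']
          push_cast
          ring
        have hmem₁ := ih (n - dQ) (by omega) _ hM₁ hdeg₁
        rw [cls_tensor hIQ hM] at hmem₁
        have h8 : PicGrp.cls M hM = (PicGrp.cls _ hIQ)⁻¹ * (PicGrp.cls _ hIQ * PicGrp.cls M hM) := by
          group
        rw [h8]
        exact mul_mem (inv_mem hIQmem) hmem₁
  -- general degree
  obtain ⟨M, hM, rfl⟩ := PicGrp.exists_eq_cls c
  have hM' := Groth.Agent.Lib.Helper3.InvTensor.isInvertible_tensorMod hM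
    (Groth.Agent.Lib.Helper3.InvTensor.isInvertible_tensorPow hLinv (Curv2.deg k X M 1).natAbs)
  have hdeg' : Curv2.deg k X (CohB1.tensorMod M (CohB1.tensorPow L (Curv2.deg k X M 1).natAbs)) 1 =
      (((Curv2.deg k X M 1 + (Curv2.deg k X M 1).natAbs * Curv2.deg k X L 1).toNat : ℕ) : ℤ) := by
    rw [Groth.Agent.Lib.Helper11.DualDegB.deg_tensor_pow k hd1 hM hLinv, Int.toNat_of_nonneg]
    rw [hdegL]
    have h9 : (1 : ℤ) ≤ (Module.finrank k (Coh.HH X (ClSub.quotMod
        (Scheme.IdealSheafData.vanishingIdeal ⟨{P}, hPc⟩)) 0) : ℤ) := by exact_mod_cast hpos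
    have h10 : -(Curv2.deg k X M 1) ≤ ((Curv2.deg k X M 1).natAbs : ℤ) := by omega
    nlinarith [mul_nonneg (Int.natCast_nonneg (Curv2.deg k X M 1).natAbs) (sub_nonneg.2 h9), h10]
  have hmem := main _ _ hM' hdeg'
  rw [cls_tensor hM (Groth.Agent.Lib.Helper3.InvTensor.isInvertible_tensorPow hLinv _), cls_pow hLinv, hgL] at hmem
  have h11 : PicGrp.cls M hM = (PicGrp.cls M hM *
      (PicGrp.cls (ClSub.idealMod (Scheme.IdealSheafData.vanishingIdeal ⟨{P}, hPc⟩)) hI)⁻¹ ^
        (Curv2.deg k X M 1).natAbs) *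
      (PicGrp.cls (ClSub.idealMod (Scheme.IdealSheafData.vanishingIdeal ⟨{P}, hPc⟩)) hI) ^
        (Curv2.deg k X M 1).natAbs := by
    group
  rw [h11]
  exact mul_mem hmem (Subgroup.pow_mem _ (Subgroup.mem_zpowers _) _)

end Groth.Agent.S16301
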