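import Groth.Statements.S16302
import Groth.Agent.Lib.Helper11.DualDegB
import Groth.Agent.Lib.Helper12.FiniteNonreg
import Groth.Agent.Lib.Helper15.GenLocusDeg
import Groth.Agent.Lib.Helper15.PtDegReg
import Groth.Agent.Lib.Helper17.GGDegNonneg
import Groth.Agent.Lib.Helper24.InfClosedPts
import Groth.Agent.Lib.Helper26.GenLocusTop
import Groth.Agent.Lib.Helper26.SecAvoidGG

set_option autoImplicit false
universe u
open CategoryTheory CategoryTheory.Limits AlgebraicGeometry
open Curves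

namespace Groth.Agent.S16302

/-- Let k be an infinite field and X a genus-zero curve over k, that is, an integral scheme proper over
k of dimension one with H^1(X, O_X) = 0. Then the set of closed points P of X whose local ring is
regular and whose degree deg_k P = dim_k H^0(P, O_P) is least among all closed points with regular
local ring is infinite. -/
theorem result (k : Type u) [Field k] (X : Scheme.{u}) [X.Over (Spec (CommRingCat.of k))] [Infinite k]
    [IsIntegral X] [IsProper (X ↘ (Spec (CommRingCat.of k)))] (hdim : topologicalKrullDim X = 1)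
    (h1 : Subsingleton (Coh.HH X (Coh.structureModule X) 1)) :
    {P : X | ∃ hPc : IsClosed ({P} : Set X), IsRegularLocalRing (X.presheaf.stalk P) ∧
      ∀ (Q : X) (hQc : IsClosed ({Q} : Set X)), IsRegularLocalRing (X.presheaf.stalk Q) →
        Module.finrank k (Coh.HH X (ClSub.quotMod (Scheme.IdealSheafData.vanishingIdeal ⟨{P}, hPc⟩)) 0) ≤ Module.finrank k (Coh.HH X (ClSub.quotMod (Scheme.IdealSheafData.vanishingIdeal ⟨{Q}, hQc⟩)) 0)}.Infinite := by
  classical
  have hd1 : topologicalKrullDim X ≤ 1 := hdim.le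
  by_contra hfin
  rw [Set.not_infinite] at hfin
  have hT := Groth.Agent.Lib.Helper12.FiniteNonreg.finite_nonregular k (X := X) hdim
  have hInf := Groth.Agent.Lib.Helper24.InfClosedPts.infinite_closedPoints k (X := X) hdim
  obtain ⟨P₁, hP₁c, hP₁reg⟩ : ∃ P : X, IsClosed ({P} : Set X) ∧
      IsRegularLocalRing (X.presheaf.stalk P) := by
    by_contra hcon
    push Not at hcon
    exact hInf (hT.subset fun x hx => ⟨hx, hcon x hx⟩)
  let D : Set ℕ := {n | ∃ (P : X) (hPc : IsClosed ({P} : Set X)),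
    IsRegularLocalRing (X.presheaf.stalk P) ∧
      Module.finrank k (Coh.HH X (ClSub.quotMod
        (Scheme.IdealSheafData.vanishingIdeal ⟨{P}, hPc⟩)) 0) = n}
  have hDne : D.Nonempty := ⟨_, P₁, hP₁c, hP₁reg, rfl⟩
  obtain ⟨P₀, hP₀c, hP₀reg, hd⟩ := Nat.sInf_mem hDne
  have hmin : ∀ (Q : X) (hQc : IsClosed ({Q} : Set X)),
      IsRegularLocalRing (X.presheaf.stalk Q) →
      Module.finrank k (Coh.HH X (ClSub.quotMod
        (Scheme.IdealSheafData.vanishingIdeal ⟨{P₀}, hP₀c⟩)) 0) ≤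
      Module.finrank k (Coh.HH X (ClSub.quotMod
        (Scheme.IdealSheafData.vanishingIdeal ⟨{Q}, hQc⟩)) 0) := by
    intro Q hQc hQ
    rw [hd]
    exact Nat.sInf_le ⟨Q, hQc, hQ, rfl⟩
  obtain ⟨hI, hdegI, hpos⟩ := Groth.Agent.Lib.Helper15.PtDegReg.idealMod_point k hdim P₀ hP₀c hP₀reg
  obtain ⟨L, hLinv, hinvOf⟩ := Groth.Agent.Lib.Helper23.Inverse.exists_isInverseOf hI
  have hdegL : Curv2.deg k X L 1 = (Module.finrank k (Coh.HH X (ClSub.quotMod
        (Scheme.IdealSheafData.vanishingIdeal ⟨{P₀}, hP₀c⟩)) 0) : ℤ) := by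
    rw [Groth.Agent.Lib.Helper11.DualDegB.deg_inverse k hd1 hI hLinv hinvOf, hdegI, neg_neg]
  have hposL : 0 < Curv2.deg k X L 1 := by
    rw [hdegL]
    exact_mod_cast hpos
  have hgg := Groth.Agent.Lib.Helper17.GGDegNonneg.isGloballyGenerated_of_deg_nonneg k hdim h1 hLinv hposL.le
  obtain ⟨s, hs⟩ := Groth.Agent.Lib.Helper26.SecAvoidGG.exists_section_avoiding k hLinv hgg _ (hT.union hfin)
  obtain ⟨Q, hQc, hQ⟩ := Groth.Agent.Lib.Helper15.GenLocusDeg.exists_closed_notMem_genLocus k hdim hLinv hposL s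
  have hQreg : IsRegularLocalRing (X.presheaf.stalk Q) := by
    by_contra hnr
    exact hQ (hs Q (Or.inl ⟨hQc, hnr⟩))
  have hP₀S : P₀ ∈ {P : X | ∃ hPc : IsClosed ({P} : Set X), IsRegularLocalRing (X.presheaf.stalk P) ∧
      ∀ (Q : X) (hQc : IsClosed ({Q} : Set X)), IsRegularLocalRing (X.presheaf.stalk Q) →
        Module.finrank k (Coh.HH X (ClSub.quotMod (Scheme.IdealSheafData.vanishingIdeal ⟨{P}, hPc⟩)) 0) ≤ Module.finrank k (Coh.HH X (ClSub.quotMod (Scheme.IdealSheafData.vanishingIdeal ⟨{Q}, hQc⟩)) 0)} :=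
    ⟨hP₀c, hP₀reg, hmin⟩
  have hs0 : s ≠ 0 := Groth.Agent.Lib.Helper24.InfClosedPts.ne_zero_of_mem_genLocus k s P₀ (hs P₀ (Or.inr hP₀S))
  have hle := Groth.Agent.Lib.Helper15.PtDegReg.degPoint_le_of_notMem_genLocus k hdim hLinv s hs0 Q hQc hQreg hQ
  rw [hdegL] at hle
  have hle' : Module.finrank k (Coh.HH X (ClSub.quotMod
        (Scheme.IdealSheafData.vanishingIdeal ⟨{Q}, hQc⟩)) 0) ≤
      Module.finrank k (Coh.HH X (ClSub.quotMod
        (Scheme.IdealSheafData.vanishingIdeal ⟨{P₀}, hP₀c⟩)) 0) := by exact_mod_cast hle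
  exact hQ (hs Q (Or.inr ⟨hQc, hQreg, fun Q' hQ'c hQ' => hle'.trans (hmin Q' hQ'c hQ')⟩))

end Groth.Agent.S16302
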