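import Groth.Statements.S16309
-- import your own Groth.Agent.* helpers here
import Groth.Agent.Lib.Helper23.CurveNefA
import Groth.Agent.Lib.Helper23.AmpleNef

set_option autoImplicit false
universe u
open CategoryTheory CategoryTheory.Limits AlgebraicGeometry
open Curves

namespace Groth.Agent.S16309

/-- Let k be a field and X a proper scheme over k of dimension one (not assumed reduced or irreducible)
with H^1(X, O_X) = 0 and H^0(X, O_X) = k, and let L be an ample invertible O_X-module. Then the
section ring ⊕_{n ≥ 0} H^0(X, L^{⊗ n}) is generated by H^0(X, L) as a k-algebra: for every n, the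
global sections of L^{⊗ n} ⊗ L = L^{⊗ (n+1)} are spanned over H^0(X, O_X) = k by the sections a ⊗ b
with a a global section of L^{⊗ n} and b a global section of L. -/
theorem result (k : Type u) [Field k] (X : Scheme.{u}) [X.Over (Spec (CommRingCat.of k))]
    [IsProper (X ↘ (Spec (CommRingCat.of k)))] (hdim : topologicalKrullDim X = 1)
    (h1 : Subsingleton (Coh.HH X (Coh.structureModule X) 1))
    (h0 : Module.finrank k (Coh.HH X (Coh.structureModule X) 0) = 1)
    (L : X.Modules) (hA : CohB1.IsAmple L) (n : ℕ) :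
    Submodule.span (X.ringCatSheaf.obj.obj (Opposite.op ⊤))
        (Set.range (fun p : (CohB1.tensorPow L n).val.obj (Opposite.op ⊤) × L.val.obj (Opposite.op ⊤) =>
          SecTwist.tmul (CohB1.tensorPow L n) L ⊤ p.1 p.2)) = ⊤ := by
  have hd : topologicalKrullDim X ≤ ((1 : ℕ) : WithBot ℕ∞) := by
    rw [hdim]; exact le_refl _
  have hnef := Groth.Agent.Lib.Helper23.AmpleNef.nef_of_ample k X 1 hd L hA
  have hgg := (Groth.Agent.Lib.Helper23.CurveNef.h1_gg_of_nef k hdim.le h1 L hA.1 hnef).2
  rcases Nat.eq_zero_or_pos n with rfl | hn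
  · rw [Submodule.eq_top_iff']
    intro z
    have hz : z = Groth.Agent.Lib.Helper3.InvTensor.tm (Coh.structureModule X) L ⊤
        (Groth.Agent.Lib.Helper3.InvGen.ofFun ⊤ 1)
        ((Groth.Agent.Lib.Helper3.InvMonoidal.unitorL L).hom.app ⊤ z) := by
      rw [← Groth.Agent.Lib.Helper23.CurveMul.unitorL_inv_app',
        Groth.Agent.Lib.Helper3.InvMonoidal.iso_inv_hom_app]
    rw [hz]
    exact Submodule.subset_span ⟨(_, _), rfl⟩
  · exact Groth.Agent.Lib.Helper23.CurveMul.span_tmul_eq_top k hdim.le hA.1 hgg 0 h1 n hn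

end Groth.Agent.S16309
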