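import Groth.Statements.S16312
import Mathlib

set_option autoImplicit false
universe u
open W4c3irrattreebun

namespace Groth.Agent.S16312

/-- Let N be a closed cone in real n-space, f a function continuous on N, positive at the nonzero points
of N and homogeneous of degree one under scaling by nonnegative reals, and Λ a discrete additive
subgroup. Then for every real c the set of points H of Λ lying in N with f(H) ≤ c is finite. (The
published statement takes Λ to be a lattice; this row allows any discrete additive subgroup.) -/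
theorem result (n : ℕ)
    (N : Set (EuclideanSpace ℝ (Fin n))) (hN : IsClosed N)
    (hcone : ∀ x ∈ N, ∀ r : ℝ, 0 ≤ r → r • x ∈ N)
    (f : EuclideanSpace ℝ (Fin n) → ℝ) (hf : ContinuousOn f N)
    (hpos : ∀ x ∈ N, x ≠ 0 → 0 < f x)
    (hhom : ∀ x ∈ N, ∀ r : ℝ, 0 ≤ r → f (r • x) = r * f x)
    (Λ : Submodule ℤ (EuclideanSpace ℝ (Fin n))) [DiscreteTopology Λ] (c : ℝ) :
    ({x : EuclideanSpace ℝ (Fin n) | x ∈ N ∧ f x ≤ c} ∩ (Λ : Set (EuclideanSpace ℝ (Fin n)))).Finite := by
  have hΛc : IsClosed (Λ : Set (EuclideanSpace ℝ (Fin n))) := by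
    rw [← Submodule.coe_toAddSubgroup]
    exact AddSubgroup.isClosed_of_discrete
  refine Metric.finite_isBounded_inter_isClosed DiscreteTopology.isDiscrete ?_ hΛc
  by_cases hS : (N ∩ Metric.sphere (0 : EuclideanSpace ℝ (Fin n)) 1).Nonempty
  · have hcpt : IsCompact (N ∩ Metric.sphere (0 : EuclideanSpace ℝ (Fin n)) 1) :=
      (isCompact_sphere 0 1).inter_left hN
    obtain ⟨x0, hx0, hmin⟩ := hcpt.exists_isMinOn hS (hf.mono Set.inter_subset_left)
    have hx0ne : x0 ≠ 0 := by
      intro h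
      have h1 := hx0.2
      rw [h] at h1
      simp at h1
    have hm : 0 < f x0 := hpos x0 hx0.1 hx0ne
    rw [Metric.isBounded_iff_subset_closedBall 0]
    refine ⟨c / f x0, ?_⟩
    rintro x ⟨hxN, hxc⟩
    rw [mem_closedBall_zero_iff]
    by_cases hx : x = 0
    · have hf0 : f 0 = 0 := by
        have h1 := hhom x hxN 0 le_rfl
        rw [hx] at h1
        simpa using h1
      rw [hx, norm_zero]
      rw [hx, hf0] at hxc
      exact div_nonneg hxc hm.le
    · have hnpos : 0 < ‖x‖ := norm_pos_iff.mpr hx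
      have hy : (‖x‖⁻¹ • x) ∈ N ∩ Metric.sphere (0 : EuclideanSpace ℝ (Fin n)) 1 :=
        ⟨hcone x hxN _ (inv_nonneg.mpr hnpos.le), by simp [norm_smul, hnpos.ne']⟩
      have h1 : f x0 ≤ f (‖x‖⁻¹ • x) := hmin hy
      rw [hhom x hxN _ (inv_nonneg.mpr hnpos.le)] at h1
      rw [le_div_iff₀ hm]
      calc ‖x‖ * f x0 ≤ ‖x‖ * (‖x‖⁻¹ * f x) := by gcongr
        _ = f x := by field_simp
        _ ≤ c := hxc
  · refine (Bornology.isBounded_singleton (x := (0 : EuclideanSpace ℝ (Fin n)))).subset ?_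
    rintro x ⟨hxN, -⟩
    by_contra hx
    rw [Set.mem_singleton_iff] at hx
    have hnpos : 0 < ‖x‖ := norm_pos_iff.mpr hx
    exact hS ⟨‖x‖⁻¹ • x, hcone x hxN _ (inv_nonneg.mpr hnpos.le), by
      simp [norm_smul, hnpos.ne']⟩

end Groth.Agent.S16312
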