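import Groth.Statements.S16326
import Mathlib
import Groth.Agent.Lib.Helper24.HomologyElem

set_option autoImplicit false
universe u v
open CategoryTheory
open W4c3biextchow

namespace Groth.Agent.S16326

open Groth.Agent.Lib.Helper24.HomologyElem

/-- Let f : C ⟶ D be a chain map of ℕ-indexed chain complexes of modules over a ring R, and consider the
functor it induces between the groupoids attached to C and D (objects: degree-0 elements; morphisms
a ⟶ b: degree-1 elements with boundary b - a, modulo boundaries of degree-2 elements). This functor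
is full if and only if f is surjective on homology in degree 1 and injective on homology in degree
0. (The published statement is for complexes of abelian groups; this row allows modules over any
ring R.) -/
theorem result
    (R : Type u) [Ring R] (C D : ChainComplex (ModuleCat.{v} R) ℕ) (f : C ⟶ D) :
    (W4c3biextchow.cxFunctor f).Full ↔
      Epi (HomologicalComplex.homologyMap f 1) ∧ Mono (HomologicalComplex.homologyMap f 0) := by
  rw [epi_homologyMap_iff' f 1 2 0 (by simp) (ChainComplex.next_nat_succ 0),
    mono_homologyMap_iff' f 0 1 0 (by simp) (by simp)]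
  have hC0 : ∀ x : C.X 0, (C.d 0 0).hom x = 0 := fun x => by
    rw [C.shape 0 0 (by simp)]
    rfl
  have comm10 : ∀ x : C.X 1, (D.d 1 0).hom ((f.f 1).hom x) = (f.f 0).hom ((C.d 1 0).hom x) := by
    intro x
    have h0 := congrArg (fun m => m.hom x) (f.comm 1 0)
    exact h0
  constructor
  · intro hF
    refine ⟨?_, ?_⟩
    · intro y hy
      let a : Obj C := ⟨0⟩
      let ψ : (cxFunctor f).obj a ⟶ (cxFunctor f).obj a :=
        ⟨Submodule.Quotient.mk y, by rw [delta_mk, hy, sub_self]⟩
      obtain ⟨φ, hφ⟩ := hF.map_surjective ψ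
      obtain ⟨x, hx⟩ := Submodule.Quotient.mk_surjective _ (φ : Hom C a a).cl
      have hdx : (C.d 1 0).hom x = 0 := by
        have h0 := (φ : Hom C a a).delta_cl
        rw [← hx, delta_mk, sub_self] at h0
        exact h0
      have h1 : q1Map f (φ : Hom C a a).cl = Submodule.Quotient.mk y := congrArg Hom.cl hφ
      rw [← hx, q1Map_mk, Submodule.Quotient.eq] at h1
      obtain ⟨w, hw⟩ := h1
      exact ⟨x, hdx, w, hw⟩
    · intro x _ hy
      obtain ⟨y, hy⟩ := hy
      let a : Obj C := ⟨0⟩
      let b : Obj C := ⟨x⟩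
      let ψ : (cxFunctor f).obj a ⟶ (cxFunctor f).obj b :=
        ⟨Submodule.Quotient.mk y, by
          rw [delta_mk, hy]
          show (f.f 0).hom x = (f.f 0).hom x - (f.f 0).hom 0
          rw [map_zero, sub_zero]⟩
      obtain ⟨φ, -⟩ := hF.map_surjective ψ
      obtain ⟨x', hx'⟩ := Submodule.Quotient.mk_surjective _ (φ : Hom C a b).cl
      refine ⟨x', ?_⟩
      have h0 := (φ : Hom C a b).delta_cl
      rw [← hx', delta_mk] at h0
      rw [h0]
      show x - 0 = x
      rw [sub_zero]
  · rintro ⟨hE, hM⟩
    refine { map_surjective := ?_ }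
    intro a b ψ
    obtain ⟨y, hy⟩ := Submodule.Quotient.mk_surjective _ (ψ : Hom D _ _).cl
    have hdy : (D.d 1 0).hom y = (f.f 0).hom (b.pt - a.pt) := by
      have h0 := (ψ : Hom D _ _).delta_cl
      rw [← hy, delta_mk] at h0
      rw [h0, map_sub]
      rfl
    obtain ⟨x', hx'⟩ := hM (b.pt - a.pt) (hC0 _) ⟨y, hdy⟩
    have hcyc : (D.d 1 0).hom (y - (f.f 1).hom x') = 0 := by
      rw [map_sub, comm10, hx', hdy, sub_self]
    obtain ⟨x'', hx''0, w, hw⟩ := hE (y - (f.f 1).hom x') hcyc
    refine ⟨⟨Submodule.Quotient.mk (x' + x''), ?_⟩, ?_⟩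
    · rw [delta_mk, map_add, hx', hx''0, add_zero]
    · apply Hom.ext
      show q1Map f (Submodule.Quotient.mk (x' + x'')) = (ψ : Hom D _ _).cl
      rw [q1Map_mk, ← hy, Submodule.Quotient.eq]
      refine ⟨w, ?_⟩
      rw [hw, map_add]
      abel

end Groth.Agent.S16326
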