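import Groth.Statements.S16327
import Mathlib
import Groth.Agent.Lib.Helper24.HomologyElem

set_option autoImplicit false
universe u v
open CategoryTheory
open W4c3biextchow

namespace Groth.Agent.S16327

open Groth.Agent.Lib.Helper24.HomologyElem

/-- Let f : C ⟶ D be a chain map of ℕ-indexed chain complexes of modules over a ring R, and consider the
functor it induces between the groupoids attached to C and D (objects: degree-0 elements; morphisms
a ⟶ b: degree-1 elements with boundary b - a, modulo boundaries of degree-2 elements). This functor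
is essentially surjective if and only if f is surjective on homology in degree 0. (The published
statement is for complexes of abelian groups; this row allows modules over any ring R.) -/
theorem result
    (R : Type u) [Ring R] (C D : ChainComplex (ModuleCat.{v} R) ℕ) (f : C ⟶ D) :
    (W4c3biextchow.cxFunctor f).EssSurj ↔ Epi (HomologicalComplex.homologyMap f 0) := by
  rw [epi_homologyMap_iff' f 0 1 0 (by simp) (by simp)]
  have hC0 : ∀ x : C.X 0, (C.d 0 0).hom x = 0 := fun x => by
    rw [C.shape 0 0 (by simp)]
    rfl
  have hD0 : ∀ x : D.X 0, (D.d 0 0).hom x = 0 := fun x => by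
    rw [D.shape 0 0 (by simp)]
    rfl
  constructor
  · intro hF y _
    obtain ⟨a, ⟨e⟩⟩ := hF.mem_essImage (⟨y⟩ : Obj D)
    obtain ⟨w, hw⟩ := Submodule.Quotient.mk_surjective _ (e.inv : Hom D _ _).cl
    refine ⟨a.pt, hC0 _, w, ?_⟩
    have h0 := (e.inv : Hom D _ _).delta_cl
    rw [← hw, delta_mk] at h0
    exact h0
  · intro h
    refine { mem_essImage := ?_ }
    intro b
    obtain ⟨x, -, w, hw⟩ := h b.pt (hD0 _)
    refine ⟨⟨x⟩, ⟨⟨⟨Submodule.Quotient.mk (-w), ?_⟩, ⟨Submodule.Quotient.mk w, ?_⟩, ?_, ?_⟩⟩⟩
    · rw [delta_mk, map_neg, hw]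
      simp
    · rw [delta_mk, hw]
      simp
    · apply Hom.ext
      show (Submodule.Quotient.mk (-w) : Q1 D) + Submodule.Quotient.mk w = 0
      rw [← Submodule.Quotient.mk_add, neg_add_cancel, Submodule.Quotient.mk_zero]
    · apply Hom.ext
      show (Submodule.Quotient.mk w : Q1 D) + Submodule.Quotient.mk (-w) = 0
      rw [← Submodule.Quotient.mk_add, add_neg_cancel, Submodule.Quotient.mk_zero]

end Groth.Agent.S16327
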