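import Groth.Statements.S16328
import Mathlib
import Groth.Agent.Lib.Helper24.SplitQis

set_option autoImplicit false
universe v
open CategoryTheory
open W4c3biextchow

namespace Groth.Agent.S16328

open Groth.Agent.Lib.Helper24

/-- Let f : A' ⟶ A and p : A ⟶ A'' be chain maps of ℕ-indexed chain complexes of free abelian groups
forming a short exact sequence in every degree (f injective, p surjective, image of f equal to the
kernel of p), and assume f is a quasi-isomorphism. Then there is a chain map h : A'' ⟶ A such that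
in every degree q the map (a'', a') ↦ h(a'') + f(a') is a bijection from A''_q × A'_q onto A_q, so
that A is the direct sum of the subcomplexes f(A') and h(A''). (The source allows complexes indexed
by all integers; stated here for complexes in non-negative degrees.) -/
theorem result
    (A' A A'' : ChainComplex (ModuleCat.{v} ℤ) ℕ) (f : A' ⟶ A) (p : A ⟶ A'')
    [∀ q, Module.Free ℤ (A'.X q)] [∀ q, Module.Free ℤ (A.X q)] [∀ q, Module.Free ℤ (A''.X q)]
    (hf : ∀ q, Function.Injective (f.f q).hom) (hp : ∀ q, Function.Surjective (p.f q).hom)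
    (hfp : ∀ q, Function.Exact (f.f q).hom (p.f q).hom) [QuasiIso f] :
    ∃ h : A'' ⟶ A, ∀ q : ℕ,
      Function.Bijective (fun x : A''.X q × A'.X q => (h.f q).hom x.1 + (f.f q).hom x.2) := by
  have w : f ≫ p = 0 := by
    ext q x
    have h0 := (hfp q ((f.f q).hom x)).2 ⟨x, rfl⟩
    simpa using h0
  let S : ShortComplex (ChainComplex (ModuleCat.{v} ℤ) ℕ) := ShortComplex.mk f p w
  have hS : S.ShortExact := HomologicalComplex.shortExact_of_degreewise_shortExact S
    (fun q => ModuleCat.shortComplex_shortExact _ (hfp q) (hf q) (hp q))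
  haveI : ∀ q, Projective (S.X₃.X q) := fun q => inferInstanceAs (Projective (A''.X q))
  haveI : QuasiIso S.f := inferInstanceAs (QuasiIso f)
  obtain ⟨g, h, hfg, hhp, hsum⟩ := SplitQis.core S hS
  have hp1 : ∀ (q : ℕ) (z : A''.X q), (p.f q).hom ((h.f q).hom z) = z := fun q z => by
    have h0 := congrArg (fun m : A'' ⟶ A'' => (m.f q).hom z) hhp
    exact h0
  have hp2 : ∀ (q : ℕ) (z : A'.X q), (p.f q).hom ((f.f q).hom z) = 0 := fun q z => by
    have h0 := congrArg (fun m : A' ⟶ A'' => (m.f q).hom z) w
    exact h0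
  have hs : ∀ (q : ℕ) (a : A.X q), (f.f q).hom ((g.f q).hom a) + (h.f q).hom ((p.f q).hom a) = a :=
    fun q a => by
      have h0 := congrArg (fun m : A ⟶ A => (m.f q).hom a) hsum
      exact h0
  refine ⟨h, fun q => ⟨?_, ?_⟩⟩
  · rintro ⟨x1, x2⟩ ⟨y1, y2⟩ hxy
    simp only at hxy
    have h1 := congrArg (p.f q).hom hxy
    rw [map_add, map_add, hp1, hp1, hp2, hp2, add_zero, add_zero] at h1
    subst h1
    have h2 : (f.f q).hom x2 = (f.f q).hom y2 := add_left_cancel hxy
    rw [hf q h2]
  · intro a
    refine ⟨((p.f q).hom a, (g.f q).hom a), ?_⟩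
    simp only
    rw [add_comm]
    exact hs q a

end Groth.Agent.S16328
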