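import Groth.Statements.S16329
import Mathlib
import Groth.Agent.Lib.Helper24.SplitQis

set_option autoImplicit false
universe v
open CategoryTheory
open W4c3biextchow

namespace Groth.Agent.S16329

open Groth.Agent.Lib.Helper24 CategoryTheory.Limits

/-- The short exact sequence `A' → A → coker` and projectivity of the cokernel terms. -/
theorem cokSES (A' A : ChainComplex (ModuleCat.{v} ℤ) ℕ) (f : A' ⟶ A)
    (hf : ∀ q, Function.Injective (f.f q).hom)
    (hq : ∀ q, Module.Free ℤ ((A.X q) ⧸ LinearMap.range (f.f q).hom)) :
    (ShortComplex.mk f (cokernel.π f) (cokernel.condition f)).ShortExact ∧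
      ∀ q, Projective ((cokernel f).X q) := by
  haveI : Mono f := HomologicalComplex.mono_of_mono_f f
    (fun i => (ModuleCat.mono_iff_injective _).2 (hf i))
  refine ⟨ShortComplex.ShortExact.mk' (ShortComplex.exact_cokernel f) inferInstance
    inferInstance, fun q => ?_⟩
  have hfree : @Module.Free ℤ (↑(A.X q) ⧸ LinearMap.range (f.f q).hom) _ _
      (Submodule.Quotient.module _) := by
    convert hq q using 1
    · rfl
    · exact Subsingleton.elim _ _
  haveI : Module.Projective ℤ (↑(A.X q) ⧸ LinearMap.range (f.f q).hom) :=
    Module.Projective.of_free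
  have e := (PreservesCokernel.iso (HomologicalComplex.eval _ _ q) f) ≪≫
      ModuleCat.cokernelIsoRangeQuotient (f.f q)
  exact Projective.of_iso e.symm inferInstance

/-- Let f : A' ⟶ A be a chain map of ℕ-indexed chain complexes of free abelian groups which is injective
in every degree, whose degreewise quotients A_q / f(A'_q) are free abelian groups, and which is a
quasi-isomorphism. Then there is a chain map g : A ⟶ A' with f ≫ g the identity of A' (a chain-level
inverse of f that restricts to the identity on the subcomplex A'). (The source allows complexes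
indexed by all integers; stated here for complexes in non-negative degrees.) -/
theorem result
    (A' A : ChainComplex (ModuleCat.{v} ℤ) ℕ) (f : A' ⟶ A)
    [∀ q, Module.Free ℤ (A'.X q)] [∀ q, Module.Free ℤ (A.X q)]
    (hf : ∀ q, Function.Injective (f.f q).hom)
    (hq : ∀ q, Module.Free ℤ ((A.X q) ⧸ LinearMap.range (f.f q).hom)) [QuasiIso f] :
    ∃ g : A ⟶ A', f ≫ g = 𝟙 A' := by
  obtain ⟨hS, hproj⟩ := cokSES A' A f hf hq
  haveI : ∀ q, Projective ((ShortComplex.mk f (cokernel.π f) (cokernel.condition f)).X₃.X q) :=
    hproj
  haveI : QuasiIso (ShortComplex.mk f (cokernel.π f) (cokernel.condition f)).f :=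
    inferInstanceAs (QuasiIso f)
  obtain ⟨g, h, hfg, -, -⟩ := SplitQis.core _ hS
  exact ⟨g, hfg⟩

end Groth.Agent.S16329
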