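import Groth.Statements.S16331
import Mathlib
import Groth.Agent.S16330

set_option autoImplicit false
universe v
open CategoryTheory
open W4c3biextchow

namespace Groth.Agent.S16331

/-- Let f : A' ⟶ A be a chain map of ℕ-indexed chain complexes of free abelian groups which is injective
in every degree, with free degreewise quotients A_q / f(A'_q), and a quasi-isomorphism; let h' : A'
⟶ B be a chain map to another complex of free abelian groups and g₁, g₂ : A ⟶ A' two chain maps with
f ≫ g₁ = f ≫ g₂ = 𝟙. Consider the functors induced by g₁ ≫ h' and g₂ ≫ h' between the groupoids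
attached to A and B (objects: degree-0 elements; morphisms a ⟶ b: degree-1 elements with boundary b
- a, modulo boundaries of degree-2 elements). Then there is a natural isomorphism between these two
functors whose component at every object of the form f(a'), a' a degree-0 element of A', is the zero
class, i.e. the identity morphism of h'(a'). -/
theorem result
    (A' A B : ChainComplex (ModuleCat.{v} ℤ) ℕ) (f : A' ⟶ A) (h' : A' ⟶ B)
    [∀ q, Module.Free ℤ (A'.X q)] [∀ q, Module.Free ℤ (A.X q)] [∀ q, Module.Free ℤ (B.X q)]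
    (hf : ∀ q, Function.Injective (f.f q).hom)
    (hq : ∀ q, Module.Free ℤ ((A.X q) ⧸ LinearMap.range (f.f q).hom)) [QuasiIso f]
    (g₁ g₂ : A ⟶ A') (h₁ : f ≫ g₁ = 𝟙 A') (h₂ : f ≫ g₂ = 𝟙 A') :
    ∃ N : W4c3biextchow.cxFunctor (g₁ ≫ h') ≅ W4c3biextchow.cxFunctor (g₂ ≫ h'),
      ∀ a : W4c3biextchow.Obj A',
        (N.hom.app ((W4c3biextchow.cxFunctor f).obj a) : W4c3biextchow.Hom B _ _).cl = 0 := by
  obtain ⟨H, hH⟩ := Groth.Agent.S16330.result A' A f hf hq g₁ g₂ h₁ h₂
  let H' : Homotopy (g₁ ≫ h') (g₂ ≫ h') := H.compRight h'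
  have c0 : ∀ a : A.X 0, ((g₁ ≫ h').f 0).hom a =
      (B.d 1 0).hom ((H'.hom 0 1).hom a) + ((g₂ ≫ h').f 0).hom a := by
    intro a
    have h0 := H'.comm 0
    rw [Homotopy.dNext_zero_chainComplex, zero_add, Homotopy.prevD_chainComplex] at h0
    have h1 := congrArg (fun m => m.hom a) h0
    exact h1
  have c1 : ∀ x : A.X 1, ((g₁ ≫ h').f 1).hom x =
      (H'.hom 0 1).hom ((A.d 1 0).hom x) + (B.d 2 1).hom ((H'.hom 1 2).hom x) +
        ((g₂ ≫ h').f 1).hom x := by
    intro x
    have h0 := H'.comm 1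
    rw [Homotopy.dNext_succ_chainComplex, Homotopy.prevD_chainComplex] at h0
    have h1 := congrArg (fun m => m.hom x) h0
    exact h1
  have hd : ∀ a : A.X 0, (B.d 1 0).hom ((H'.hom 0 1).hom a) =
      ((g₁ ≫ h').f 0).hom a - ((g₂ ≫ h').f 0).hom a := fun a => by
    rw [c0 a]
    abel
  let homC : ∀ a : Obj A, (cxFunctor (g₁ ≫ h')).obj a ⟶ (cxFunctor (g₂ ≫ h')).obj a := fun a =>
    ⟨Submodule.Quotient.mk (-(H'.hom 0 1).hom a.pt), by
      rw [delta_mk, map_neg, hd]
      simp⟩
  let invC : ∀ a : Obj A, (cxFunctor (g₂ ≫ h')).obj a ⟶ (cxFunctor (g₁ ≫ h')).obj a := fun a =>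
    ⟨Submodule.Quotient.mk ((H'.hom 0 1).hom a.pt), by
      rw [delta_mk, hd]
      simp⟩
  refine ⟨NatIso.ofComponents (fun a => ⟨homC a, invC a, ?_, ?_⟩) ?_, ?_⟩
  · apply Hom.ext
    show (Submodule.Quotient.mk (-(H'.hom 0 1).hom a.pt) : Q1 B) +
      Submodule.Quotient.mk ((H'.hom 0 1).hom a.pt) = 0
    rw [← Submodule.Quotient.mk_add, neg_add_cancel, Submodule.Quotient.mk_zero]
  · apply Hom.ext
    show (Submodule.Quotient.mk ((H'.hom 0 1).hom a.pt) : Q1 B) +
      Submodule.Quotient.mk (-(H'.hom 0 1).hom a.pt) = 0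
    rw [← Submodule.Quotient.mk_add, add_neg_cancel, Submodule.Quotient.mk_zero]
  · intro a b u
    apply Hom.ext
    obtain ⟨x, hx⟩ := Submodule.Quotient.mk_surjective _ (u : Hom A a b).cl
    have hdx : (A.d 1 0).hom x = b.pt - a.pt := by
      rw [← delta_mk, hx]
      exact (u : Hom A a b).delta_cl
    show q1Map (g₁ ≫ h') (u : Hom A a b).cl + Submodule.Quotient.mk (-(H'.hom 0 1).hom b.pt) =
      Submodule.Quotient.mk (-(H'.hom 0 1).hom a.pt) + q1Map (g₂ ≫ h') (u : Hom A a b).cl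
    rw [← hx, q1Map_mk, q1Map_mk, ← Submodule.Quotient.mk_add, ← Submodule.Quotient.mk_add,
      Submodule.Quotient.eq]
    refine ⟨(H'.hom 1 2).hom x, ?_⟩
    rw [c1 x, hdx, map_sub]
    abel
  · intro a'
    show (Submodule.Quotient.mk (-(H'.hom 0 1).hom ((f.f 0).hom a'.pt)) : Q1 B) = 0
    have h0 : (H'.hom 0 1).hom ((f.f 0).hom a'.pt) = 0 := by
      have h1 : (H.hom 0 1).hom ((f.f 0).hom a'.pt) = 0 := by
        have h2 := congrArg (fun m => m.hom a'.pt) (hH 0 1)
        first
          | exact h2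
          | simpa using h2
      show (h'.f 1).hom ((H.hom 0 1).hom ((f.f 0).hom a'.pt)) = 0
      rw [h1, map_zero]
    rw [h0, neg_zero, Submodule.Quotient.mk_zero]

end Groth.Agent.S16331
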