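import Groth.Statements.S16335
import Mathlib

set_option autoImplicit false
universe u v w w'
open TensorProduct
open InvTh

namespace Groth.Agent.S16335

/-- Let `R` be a commutative ring with an action of a finite group `Γ` by ring automorphisms such that
the order of `Γ` is invertible in `R`, and let `A → R` be injective with image exactly the
invariants `R^Γ`, the action being `A`-linear. Then for every commutative `A`-algebra `S`, with `Γ`
acting on `S ⊗_A R` through the factor `R`, the map `S → S ⊗_A R`, `s ↦ s ⊗ 1`, is injective and its
image is exactly the set of `Γ`-fixed elements: `S ≅ (S ⊗_A R)^Γ`. No flatness of `S` over `A` is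
assumed; the invertibility of the order of `Γ` replaces it. This is the affine statement that for a
tame quotient the coarse space commutes with arbitrary base change. (The published lemma is the
statement that the coarse moduli space of a tame Deligne–Mumford stack commutes with arbitrary base
change, whose proof reduces to this ring statement. The published lemma also asserts the analogous
statement for the reduced fibre product when the base-change scheme is reduced; that clause is not
part of this row.) -/
theorem result
    (A : Type u) [CommRing A] (R : Type v) [CommRing R] [Algebra A R]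
    (Γ : Type w) [Group Γ] [Finite Γ] [MulSemiringAction Γ R] [SMulCommClass Γ A R]
    [Algebra.IsInvariant A R Γ] (hinj : Function.Injective (algebraMap A R))
    (hΓ : IsUnit (Nat.card Γ : R))
    (S : Type w') [CommRing S] [Algebra A S] :
    Function.Injective (fun s : S => s ⊗ₜ[A] (1 : R)) ∧
      ∀ x : S ⊗[A] R,
        (∀ γ : Γ, Algebra.TensorProduct.map (AlgHom.id A S) (MulSemiringAction.toAlgHom A R γ) x = x) →
          x ∈ Set.range (fun s : S => s ⊗ₜ[A] (1 : R)) := by
  classical
  haveI : Fintype Γ := Fintype.ofFinite Γ
  obtain ⟨uR, huR⟩ : ∃ u : R, u * (Fintype.card Γ : R) = 1 := by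
    rw [Nat.card_eq_fintype_card] at hΓ
    obtain ⟨v, hv⟩ := hΓ.exists_left_inv
    exact ⟨v, hv⟩
  have hcardinv : ∀ g : Γ, g • (Fintype.card Γ : R) = (Fintype.card Γ : R) := by
    intro g
    exact map_natCast (MulSemiringAction.toRingHom Γ R g) (Fintype.card Γ)
  have huinv : ∀ g : Γ, g • uR = uR := by
    intro g
    have h1 : g • uR * (Fintype.card Γ : R) = 1 := by
      have h0 := congrArg (fun x => g • x) huR
      simp only [smul_mul', hcardinv, smul_one] at h0
      exact h0
    calc g • uR = g • uR * (uR * (Fintype.card Γ : R)) := by rw [huR, mul_one]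
      _ = (g • uR * (Fintype.card Γ : R)) * uR := by ring
      _ = uR := by rw [h1, one_mul]
  obtain ⟨u, hu'⟩ := Algebra.IsInvariant.isInvariant (A := A) (G := Γ) uR huinv
  have hu : u * (Fintype.card Γ : A) = 1 := by
    apply hinj
    rw [map_mul, hu', map_natCast, huR, map_one]
  let avg : R →ₗ[A] R := u • ∑ γ : Γ, (MulSemiringAction.toAlgHom A R γ).toLinearMap
  have havg : ∀ r, avg r = u • ∑ γ : Γ, γ • r := by
    intro r
    simp [avg, LinearMap.sum_apply]
  have hfix : ∀ (g : Γ) (r : R), g • avg r = avg r := by
    intro g r
    rw [havg, smul_comm, Finset.smul_sum]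
    congr 1
    exact Fintype.sum_equiv (Equiv.mulLeft g) _ _ (fun γ => by simp [mul_smul])
  have hex : ∀ r, ∃ a : A, algebraMap A R a = avg r := fun r =>
    Algebra.IsInvariant.isInvariant (A := A) (G := Γ) (avg r) (fun g => hfix g r)
  choose ρf hρf using hex
  let ρ : R →ₗ[A] A :=
    { toFun := ρf
      map_add' := fun x y => hinj (by rw [map_add, hρf, hρf, hρf, map_add])
      map_smul' := fun a x => hinj (by
        show algebraMap A R (ρf (a • x)) = algebraMap A R (a * ρf x)
        rw [hρf, map_mul, hρf, map_smul, Algebra.smul_def]) }
  have hρapp : ∀ r, ρ r = ρf r := fun r => rfl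
  have hρ1 : ρ 1 = 1 := by
    apply hinj
    rw [hρapp, hρf, (algebraMap A R).map_one, havg]
    simp only [smul_one, Finset.sum_const, Finset.card_univ]
    rw [← Nat.cast_smul_eq_nsmul A, smul_smul, hu, one_smul]
  let σ : S ⊗[A] R →ₗ[A] S := (TensorProduct.rid A S).toLinearMap ∘ₗ LinearMap.lTensor S ρ
  have hσ : ∀ s : S, σ (s ⊗ₜ[A] (1 : R)) = s := by
    intro s
    simp [σ, hρ1]
  refine ⟨fun s t hst => ?_, fun x hx => ⟨σ x, ?_⟩⟩
  · have h0 := congrArg σ hst
    simpa [hσ] using h0
  · have key : ((TensorProduct.mk A S R).flip 1) ∘ₗ σ = LinearMap.lTensor S avg := by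
      apply TensorProduct.ext'
      intro s r
      simp only [LinearMap.comp_apply, σ, LinearMap.lTensor_tmul, LinearEquiv.coe_coe,
        TensorProduct.rid_tmul, LinearMap.flip_apply, TensorProduct.mk_apply]
      rw [TensorProduct.smul_tmul, Algebra.smul_def, mul_one, hρapp, hρf]
    have hx2 : LinearMap.lTensor S avg x = x := by
      have h1 : ∀ γ : Γ,
          LinearMap.lTensor S (MulSemiringAction.toAlgHom A R γ).toLinearMap x = x := by
        intro γ
        have h2 : LinearMap.lTensor S (MulSemiringAction.toAlgHom A R γ).toLinearMap =
            (Algebra.TensorProduct.map (AlgHom.id A S)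
              (MulSemiringAction.toAlgHom A R γ)).toLinearMap := by
          apply TensorProduct.ext'
          intro s r
          simp
        rw [h2]
        exact hx γ
      have h3 : LinearMap.lTensor S avg =
          u • ∑ γ : Γ, LinearMap.lTensor S (MulSemiringAction.toAlgHom A R γ).toLinearMap := by
        apply TensorProduct.ext'
        intro s r
        simp [avg, LinearMap.sum_apply, TensorProduct.tmul_smul, TensorProduct.tmul_sum]
      rw [h3, LinearMap.smul_apply, LinearMap.sum_apply, Finset.sum_congr rfl (fun γ _ => h1 γ),
        Finset.sum_const, Finset.card_univ, ← Nat.cast_smul_eq_nsmul A, smul_smul, hu, one_smul]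
    have h4 := LinearMap.congr_fun key x
    simp only [LinearMap.comp_apply, LinearMap.flip_apply, TensorProduct.mk_apply] at h4
    show σ x ⊗ₜ[A] (1 : R) = x
    rw [h4, hx2]

end Groth.Agent.S16335
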