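import Groth.Statements.S16337
import Mathlib

set_option autoImplicit false
universe u v w
open InvTh

namespace Groth.Agent.S16337

/-- Let `A` be a commutative ring, `Γ` a finite group whose order is invertible in `A`, `M` an
`A`-module with an `A`-linear action of `Γ`, and `I` an ideal of `A`. Then reduction modulo `I`
induces a bijection `M^Γ / I·M^Γ ≅ (M / IM)^Γ`: (a) an element of `M` fixed by `Γ` modulo `IM` is
congruent modulo `IM` to a `Γ`-fixed element, and (b) a `Γ`-fixed element lying in `IM` lies in
`I·M^Γ`, where `M^Γ` is the submodule of `Γ`-fixed elements. (The published lemma says that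
push-forward to the coarse space of a tame stack over a complete local base commutes with reduction
modulo powers of the maximal ideal; this row is the module statement its proof establishes, for an
arbitrary ideal.) -/
theorem result
    (A : Type u) [CommRing A] (Γ : Type v) [Group Γ] [Finite Γ] (hΓ : IsUnit (Nat.card Γ : A))
    (M : Type w) [AddCommGroup M] [Module A M] [DistribMulAction Γ M] [SMulCommClass Γ A M]
    (I : Ideal A) :
    (∀ x : M, (∀ γ : Γ, γ • x - x ∈ I • (⊤ : Submodule A M)) →
        ∃ y : M, (∀ γ : Γ, γ • y = y) ∧ x - y ∈ I • (⊤ : Submodule A M)) ∧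
      ∀ y : M, (∀ γ : Γ, γ • y = y) → y ∈ I • (⊤ : Submodule A M) →
        y ∈ I • Submodule.span A {m : M | ∀ γ : Γ, γ • m = m} := by
  classical
  haveI : Fintype Γ := Fintype.ofFinite Γ
  obtain ⟨u, hu⟩ : ∃ u : A, u * (Fintype.card Γ : A) = 1 := by
    rw [Nat.card_eq_fintype_card] at hΓ
    obtain ⟨v, hv⟩ := hΓ.exists_left_inv
    exact ⟨v, hv⟩
  let avg : M →ₗ[A] M := u • ∑ γ : Γ, DistribSMul.toLinearMap A M γ
  have havg : ∀ m, avg m = u • ∑ γ : Γ, γ • m := by
    intro m
    simp [avg, LinearMap.sum_apply, DistribSMul.toLinearMap_apply]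
  have hfix : ∀ (g : Γ) (m : M), g • avg m = avg m := by
    intro g m
    rw [havg, smul_comm, Finset.smul_sum]
    congr 1
    exact Fintype.sum_equiv (Equiv.mulLeft g) _ _ (fun γ => by simp [mul_smul])
  have hfixed : ∀ m, (∀ γ : Γ, γ • m = m) → avg m = m := by
    intro m hm
    rw [havg, Finset.sum_congr rfl (fun γ _ => hm γ), Finset.sum_const, Finset.card_univ,
      ← Nat.cast_smul_eq_nsmul A, smul_smul, hu, one_smul]
  refine ⟨fun x hx => ⟨avg x, fun γ => hfix γ x, ?_⟩, fun y hy hyI => ?_⟩
  · have h1 : x - avg x = u • ∑ γ : Γ, (x - γ • x) := by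
      rw [Finset.sum_sub_distrib, Finset.sum_const, Finset.card_univ, smul_sub,
        ← Nat.cast_smul_eq_nsmul A, smul_smul, hu, one_smul, havg]
    rw [h1]
    refine Submodule.smul_mem _ _ (Submodule.sum_mem _ fun γ _ => ?_)
    have h2 := hx γ
    rw [← neg_sub]
    exact Submodule.neg_mem _ h2
  · rw [← hfixed y hy]
    have h1 : avg y ∈ (I • (⊤ : Submodule A M)).map avg := Submodule.mem_map_of_mem hyI
    rw [Submodule.map_smul''] at h1
    refine Submodule.smul_mono le_rfl ?_ h1
    rintro _ ⟨m, -, rfl⟩
    exact Submodule.subset_span (fun γ => hfix γ m)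

end Groth.Agent.S16337
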