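import Groth.Statements.S16339
import Mathlib
import Groth.Agent.S12969
import Groth.Agent.S12956
import Groth.Agent.S12974
import Groth.Agent.S12832
import Groth.Agent.S12831
import Groth.Agent.S12829
import Groth.Agent.S12774
import Groth.Agent.S12977
import Groth.Agent.S12763
import Groth.Agent.Lib.Helper10.AlgStEquiv
import Groth.Agent.Lib.Helper10.AlgStQCSelf
import Groth.Agent.Lib.Helper28.AlgSt.InertiaStack
import Groth.Agent.Lib.Helper28.AlgSt.DiagTFAE
import Groth.Agent.Lib.Helper16.UnramMono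

set_option autoImplicit false
universe u
open CategoryTheory
open AlgSt

namespace Groth.Agent.S16339

open AlgebraicGeometry CategoryTheory.Limits in
/-- A Deligne–Mumford stack (fppf topology) is DM over the base. -/
theorem isDMOver_of_isDM {S : Scheme.{u}} (𝒳 : AlgSt.Cat S)
    (h : AlgSt.IsDM Scheme.fppfPrecoverage 𝒳) : AlgSt.IsDMOver 𝒳 := by
  obtain ⟨hA, U, x, hxe, hxs⟩ := h
  have heq := Groth.Agent.Lib.Helper28.AlgSt.Bridge.isEquivOver_toOverCat U
  have hloc : ∀ (P : MorphismProperty Scheme.{u}), Groth.Agent.Lib.Helper16.EtLocalST P →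
      AlgSt.RepByAlgSpWith (AlgSp.LocP P) x := fun P hP =>
    Groth.Agent.Lib.Helper28.AlgSt.Key.repByAlgSpWith_mono x (fun F V m hm =>
      Groth.Agent.Lib.Helper16.locP_mono hP.etale_le
        ((Groth.Agent.Lib.Helper16.isEtaleMor_iff_locP_etale (AlgSp.IsAlgSpace.yon_obj V) m).1 hm))
      hxe
  exact Groth.Agent.S12969.result S 𝒳 hA
    ⟨(AlgSp.yon S).obj U, AlgSp.IsAlgSpace.yon_obj U⟩
    (BasedFunctor.comp (AlgSt.toOverCat U) x)
    (Groth.Agent.Lib.Helper28.AlgSt.Chart.repByAlgSpWith_equiv_comp _ _ heq x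
      (hloc _ Groth.Agent.Lib.Helper16.etLocalST_flat))
    (Groth.Agent.Lib.Helper28.AlgSt.Chart.repByAlgSpWith_equiv_comp _ _ heq x
      (hloc _ Groth.Agent.Lib.Helper16.etLocalST_locallyOfFinitePresentation))
    (Groth.Agent.Lib.Helper28.AlgSt.Chart.repByAlgSpWith_equiv_comp _ _ heq x hxs)
    (Groth.Agent.Lib.Helper28.AlgSt.Chart.repByAlgSpWith_equiv_comp _ _ heq x
      (hloc _ Groth.Agent.Lib.Helper16.etLocalST_unramified))

open AlgebraicGeometry in
/-- The relative inertia of a morphism of algebraic stacks is an algebraic stack. -/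
theorem isAlgStack_inertia {S : Scheme.{u}} {𝒳 𝒴 : AlgSt.Cat S}
    (h𝒳 : AlgSt.IsAlgStack Scheme.fppfPrecoverage 𝒳) (h𝒴 : AlgSt.IsAlgStack Scheme.fppfPrecoverage 𝒴)
    (f : 𝒳 ⥤ᵇ 𝒴) : AlgSt.IsAlgStack Scheme.fppfPrecoverage (FibCat.inertia f) := by
  have hff : AlgSt.IsAlgStack Scheme.fppfPrecoverage (FibCat.fp f f) :=
    Groth.Agent.S12763.result h𝒴.isStack h𝒴.diag h𝒳 h𝒳 f f
  have hdd : AlgSt.IsAlgStack Scheme.fppfPrecoverage
      (FibCat.fp (FibCat.diag f) (FibCat.diag f)) :=
    Groth.Agent.S12763.result hff.isStack hff.diag h𝒳 h𝒳 (FibCat.diag f) (FibCat.diag f)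
  obtain ⟨G, h1, h2⟩ := Groth.Agent.Lib.Helper28.AlgSt.Inertia.isEquivOver_psi f
  exact Groth.Agent.Lib.Helper10.AlgStRep.isAlgStack_of_isEquivOver _ G
    ⟨Groth.Agent.Lib.Helper28.AlgSt.Inertia.Ψ f, h2, h1⟩ hdd

/-- Let `S` be a scheme and `g : 𝒢 → ℱ` a functor over `(Sch/S)` between Deligne–Mumford stacks (fppf
topology). Suppose that for every algebraically closed field `k` and every object `ξ` of `𝒢` lying
over `Spec k → S`, the homomorphism `Aut(ξ) → Aut(g(ξ))` of automorphism groups over the identity is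
injective, stated here as: every endomorphism `a` of `ξ` over the identity of `Spec k` with `g(a) =
𝟙` is `𝟙` (such `a` are automorphisms, the fibres being groupoids). Then `g` is representable by
algebraic spaces. (The published statement is the equivalence of the two conditions. The converse
implication — a functor representable by algebraic spaces is injective on automorphism groups over
identities — holds for every morphism of algebraic stacks and every object, and is not part of this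
row. The published statement works under the convention that Deligne–Mumford stacks have isomorphism
spaces of finite type and separated over a Noetherian base; this row assumes only that both stacks
are Deligne–Mumford.) -/
theorem result
    (S : AlgebraicGeometry.Scheme.{u}) (𝒢 ℱ : AlgSt.Cat S)
    (h𝒢 : AlgSt.IsDM AlgebraicGeometry.Scheme.fppfPrecoverage 𝒢)
    (hℱ : AlgSt.IsDM AlgebraicGeometry.Scheme.fppfPrecoverage ℱ)
    (g : 𝒢 ⥤ᵇ ℱ)
    (hinj : ∀ (k : Type u) [Field k] [IsAlgClosed k] (s : AlgebraicGeometry.Spec (CommRingCat.of k) ⟶ S)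
        (ξ : 𝒢.obj) (hξ : 𝒢.p.obj ξ = Over.mk s) (a : ξ ⟶ ξ),
        𝒢.p.IsHomLift (𝟙 (𝒢.p.obj ξ)) a → g.map a = 𝟙 (g.obj ξ) → a = 𝟙 ξ) :
    AlgSt.RepByAlgSp1 g := by
  have hG := h𝒢.1
  have hF := hℱ.1
  have hGg := hG.isStack.1
  have hFg := hF.isStack.1
  -- Step 1: `g` is DM
  have hover : AlgSt.IsDMOver 𝒢 := isDMOver_of_isDM 𝒢 h𝒢
  have hcomp : BasedFunctor.comp g (FibCat.toSelf ℱ) = FibCat.toSelf 𝒢 := by
    have hext : ∀ (A B : 𝒢 ⥤ᵇ FibCat.selfOver (Over S)), A.toFunctor = B.toFunctor → A = B := by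
      rintro ⟨A, hA⟩ ⟨B, hB⟩ (h : A = B)
      subst h
      rfl
    exact hext _ _ g.w
  have hDM : AlgSt.IsDMMor g := by
    apply Groth.Agent.S12956.result S 𝒢 ℱ (FibCat.selfOver (Over S)) hG hF
      H10PT.isAlgStack_selfOver g (FibCat.toSelf ℱ)
    rw [hcomp]
    exact hover
  -- Step 2: the inertia is unramified over `𝒢`
  have hun := (Groth.Agent.S12974.result S 𝒢 ℱ hG hF g).2 hDM
  have hI := isAlgStack_inertia hG hF g
  have hIg := hI.isStack.1
  have hrep1 : AlgSt.RepByAlgSp1 (FibCat.inertiaToBase g) :=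
    Groth.Agent.Lib.Helper28.AlgSt.Key.repByAlgSp1_of_with _ _ hun
  -- Step 3: the inertia is universally injective over `𝒢`
  have hsurj : AlgSt.IsSurjective (FibCat.diag (FibCat.inertiaToBase g)) := by
    rw [Groth.Agent.S12832.result hI hG (FibCat.inertiaToBase g)]
    intro k _ _ s a₁ a₂ h1 h2 β hβ
    have e1 : a₁.aut.hom = 𝟙 a₁.pt :=
      hinj k s a₁.pt h1 a₁.aut.hom
        (Groth.Agent.Lib.Helper28.AlgSt.Inertia.aut_isHomLift g a₁) a₁.map_aut
    have e2 : a₂.aut.hom = 𝟙 a₂.pt :=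
      hinj k s a₂.pt h2 a₂.aut.hom
        (Groth.Agent.Lib.Helper28.AlgSt.Inertia.aut_isHomLift g a₂) a₂.map_aut
    have hcomm : a₁.aut.hom ≫ β = β ≫ a₂.aut.hom := by
      rw [e1, e2]
      exact (Category.id_comp _).trans (Category.comp_id _).symm
    refine ⟨⟨β, hcomm⟩, ?_, rfl⟩
    exact (BasedFunctor.isHomLift_iff (FibCat.inertiaToBase g) _
      (⟨β, hcomm⟩ : a₁ ⟶ a₂)).1 hβ
  have huinj := (Groth.Agent.S12831.result hI hG (FibCat.inertiaToBase g)).2 hsurj
  have huinj' := (Groth.Agent.S12829.result hI hG (FibCat.inertiaToBase g) hrep1).2 huinj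
  -- Step 4: the inertia is a monomorphism over `𝒢`
  have hboth := Groth.Agent.Lib.Helper28.AlgSt.DiagTFAE.repByAlgSpWith_inf
    Groth.Agent.Lib.Helper28.AlgSt.PropInst.good_unramified (FibCat.inertiaToBase g) huinj' hun
  have hmono : AlgSt.IsMono (FibCat.inertiaToBase g) :=
    Groth.Agent.Lib.Helper28.AlgSt.Key.repByAlgSpWith_mono (FibCat.inertiaToBase g)
      (fun F U m hm =>
        Groth.Agent.Lib.Helper16.UnramMono.mono_of_locP_unramified_of_univInjective F.property
          (AlgSp.IsAlgSpace.yon_obj U) m hm.2 hm.1) hboth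
  obtain ⟨hfull, -⟩ := Groth.Agent.S12774.result hIg hGg (FibCat.inertiaToBase g) hmono
  -- Step 5: conclude
  rw [Groth.Agent.S12977.result S 𝒢 ℱ hG hF g]
  intro a φ hpφ hgφ
  haveI : IsIso (𝒢.p.map φ) := by rw [hpφ]; infer_instance
  haveI : IsIso φ := Groth.Agent.Lib.Helper10.Fib.IsFibGrpd.isIso_of_isIso_map hGg φ
  let z : (FibCat.inertia g).obj := ⟨a, asIso φ, hgφ⟩
  let z₁ : (FibCat.inertia g).obj := ⟨a, Iso.refl a, g.toFunctor.map_id a⟩
  obtain ⟨ψ, hψ⟩ := (FibCat.inertiaToBase g).toFunctor.map_surjective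
    (show (FibCat.inertiaToBase g).obj z ⟶ (FibCat.inertiaToBase g).obj z₁ from 𝟙 a)
  have hψ' : ψ.hom = 𝟙 a := hψ
  have hc := ψ.comm
  rw [hψ'] at hc
  exact (Category.comp_id _).symm.trans (hc.trans (Category.id_comp _))

end Groth.Agent.S16339
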