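import Groth.Statements.S16338
import Mathlib
import Groth.Agent.S16339
import Groth.Agent.S12972
import Groth.Agent.S10277
import Groth.Agent.Lib.Helper10.AlgStPtsUniv
import Groth.Agent.Lib.Helper10.AlgStOpenSub
import Groth.Agent.Lib.Helper10.AlgStPtsSurj
import Groth.Agent.Lib.Helper16.Rep

set_option autoImplicit false
universe u
open CategoryTheory
open AlgSt

namespace Groth.Agent.S16338

set_option backward.isDefEq.respectTransparency false
set_option backward.isDefEq.respectTransparency.types false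

open AlgebraicGeometry CategoryTheory.Limits Groth.Agent.Lib.Helper10.Fib

section SAlpha

variable {S : Scheme.{u}} {𝒳 𝒴 : AlgSt.Cat S} (F : 𝒳 ⥤ᵇ 𝒴) (α : F ⟶ F)

lemma app_isHomLift (a : 𝒳.obj) :
    𝒴.p.IsHomLift (𝟙 (𝒳.p.obj a)) (α.toNatTrans.app a) := α.isHomLift' a

lemma p_map_app (a : 𝒳.obj) :
    𝒴.p.map (α.toNatTrans.app a) = 𝟙 (𝒴.p.obj (F.obj a)) := by
  haveI := app_isHomLift F α a
  have h := IsHomLift.fac' 𝒴.p (𝟙 (𝒳.p.obj a)) (α.toNatTrans.app a)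
  rw [h]
  simp

lemma isIso_app (h𝒴 : FibCat.IsFibGrpd 𝒴.p) (a : 𝒳.obj) : IsIso (α.toNatTrans.app a) := by
  haveI := app_isHomLift F α a
  exact IsFibGrpd.isIso_of_isHomLift_id h𝒴 (U := 𝒳.p.obj a) (α.toNatTrans.app a)

/-- The section of the inertia of `𝒴` over `𝒳` defined by a 2-endomorphism of `F`. -/
noncomputable def sα (h𝒴 : FibCat.IsFibGrpd 𝒴.p) : 𝒳 ⥤ᵇ FibCat.inertia (FibCat.toSelf 𝒴) where
  toFunctor :=
    { obj := fun a =>
        ⟨F.obj a, @asIso _ _ _ _ (α.toNatTrans.app a) (isIso_app F α h𝒴 a), p_map_app F α a⟩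
      map := fun {a b} φ => ⟨F.map φ, (α.toNatTrans.naturality φ).symm⟩
      map_id := fun a => by
        apply FibCat.InertiaObj.hom_ext
        exact F.toFunctor.map_id a
      map_comp := fun φ ψ => by
        apply FibCat.InertiaObj.hom_ext
        exact F.toFunctor.map_comp φ ψ }
  w := F.w

end SAlpha

section Imm

variable {S : Scheme.{u}}

/-- For a Deligne–Mumford stack, the neutral section of the inertia is an open immersion. -/
theorem isOpenImm_inertiaNeutral_of_isDM (𝒴 : AlgSt.Cat S)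
    (h𝒴 : AlgSt.IsDM Scheme.fppfPrecoverage 𝒴) :
    AlgSt.IsOpenImm (FibCat.inertiaNeutral (FibCat.toSelf 𝒴)) := by
  have hA := h𝒴.1
  have hself := H10PT.isAlgStack_selfOver (S := S)
  have hX := hA.isStack.1
  have hY := hself.isStack.1
  have hI := Groth.Agent.Lib.Helper28.AlgSt.InertiaStack.isFibGrpd_inertia (FibCat.toSelf 𝒴) hX hY
  have hgo := Groth.Agent.Lib.Helper28.AlgSt.PropInst.good_openImm (S := S)
  have h := (Groth.Agent.S12974.result S 𝒴 _ hA hself (FibCat.toSelf 𝒴)).2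
    (Groth.Agent.S16339.isDMOver_of_isDM 𝒴 h𝒴)
  have h1 : AlgSt.RepByAlgSpWith (AlgSp.RepWith @IsOpenImmersion)
      (FibCat.diag (FibCat.inertiaToBase (FibCat.toSelf 𝒴))) :=
    Groth.Agent.Lib.Helper28.AlgSt.DiagTFAE.diag_of_rep hI hX hgo.bc _
      (fun A B m hm =>
        Groth.Agent.Lib.Helper17.repWith_isOpenImmersion_diagonal_of_locP_unramified
          A.property B.property m.hom hm) h
  exact Groth.Agent.Lib.Helper28.AlgSt.InertiaStack.repWith_inertiaNeutral_of_diag_toBase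
    (FibCat.toSelf 𝒴) _ hX hY h1

/-- A closed immersion of algebraic stacks is closed on points. -/
theorem isClosedMap_points_of_isClosedImm {𝒬 𝒳 : AlgSt.Cat S}
    (h𝒬 : AlgSt.IsAlgStack Scheme.fppfPrecoverage 𝒬) (h𝒳 : AlgSt.IsAlgStack Scheme.fppfPrecoverage 𝒳)
    (π : 𝒬 ⥤ᵇ 𝒳) (hπ : AlgSt.IsClosedImm π) : IsClosedMap (AlgSt.Points.map π) := by
  obtain ⟨T, z, hz1, hz2⟩ := h𝒳.atlas
  obtain ⟨F, e, he, hφ⟩ := hπ T z
  obtain ⟨π', hsq⟩ := H10PT.exists_cartSq h𝒬 h𝒳 π T z hz1 hz2 F e he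
  have hprop := Groth.Agent.S10277.result (X := F)
    (Y := ⟨(AlgSp.yon S).obj T, AlgSp.IsAlgSpace.yon_obj T⟩)
    (ObjectProperty.homMk (AlgSt.spMapOfOver (BasedFunctor.comp e (FibCat.fpFst z π)))) hφ
  have hc : IsClosedMap (AlgSp.Points.map
      (AlgSt.spMapOfOver (BasedFunctor.comp e (FibCat.fpFst z π)))) :=
    hprop.2.2 (AlgSp.IsAlgSpace.yon_obj T) (𝟙 _) (𝟙 _) _ IsPullback.of_id_fst
  exact hsq.isClosedMap ((AlgSp.Points.schemeHomeo T).symm.isClosedMap.comp hc)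

/-- A surjective open immersion of categories fibred in groupoids is an equivalence. -/
theorem isEquivOver_of_isOpenImm_of_isSurjective {𝒬 𝒳 : AlgSt.Cat S}
    (h𝒬 : FibCat.IsFibGrpd 𝒬.p) (h𝒳 : FibCat.IsFibGrpd 𝒳.p) (π : 𝒬 ⥤ᵇ 𝒳)
    (hopen : AlgSt.IsOpenImm π) (hsurj : AlgSt.IsSurjective π) : FibCat.IsEquivOver π := by
  have hrep : AlgSt.RepByAlgSp1 π := fun U y => by
    obtain ⟨F, e, he, -⟩ := hopen U y
    exact ⟨F, e, he⟩
  have hs : AlgSt.RepByAlgSpWith AlgSp.IsSurjectiveMor π :=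
    H10PT.rep_of_isSurjective h𝒬 h𝒳 π hrep hsurj
  apply Groth.Agent.Lib.Helper28.AlgSt.IsoEquiv.isEquivOver_of_repWith_iso h𝒬 h𝒳
  intro U y
  obtain ⟨F, e, he, hg⟩ := hopen U y
  refine ⟨F, e, he, ?_⟩
  have hsg : AlgSp.IsSurjectiveMor (AlgSt.spMapOfOver
      (BasedFunctor.comp e (FibCat.fpFst y π))) :=
    (Groth.Agent.Lib.Helper28.AlgSt.SpaceCalc.repByAlgSpWith_iff_chart _
      Groth.Agent.Lib.Helper28.AlgSt.PropInst.good_surjective.bc
      Groth.Agent.Lib.Helper28.AlgSt.PropInst.good_surjective.loc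
      (FibCat.fpFst y π) e he).1
      (Groth.Agent.Lib.Helper10.AlgStRep.repByAlgSpWith_fpFst _ _ y hs)
  exact H10PT.isIso_of_openImm_of_surjective _ hg hsg

end Imm

section Final

variable {S : Scheme.{u}}

/-- An open immersion from a category fibred in setoids: automorphisms of objects in the image
lying over identities are trivial. -/
theorem aut_eq_id_of_openImm_of_rep {𝒱 𝒴 : AlgSt.Cat S} (h𝒱 : AlgSt.RepByAlgSp 𝒱)
    (h𝒴g : FibCat.IsFibGrpd 𝒴.p) (j : 𝒱 ⥤ᵇ 𝒴) (hj : AlgSt.IsOpenImm j) (v : 𝒱.obj)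
    (γ : j.obj v ⟶ j.obj v) (hγ : 𝒴.p.IsHomLift (𝟙 (𝒱.p.obj v)) γ) : γ = 𝟙 _ := by
  have hset := Groth.Agent.Lib.Helper10.AlgStRep.isFibSetoid_of_repByAlgSp h𝒱
  have hmono : AlgSt.IsMono j :=
    Groth.Agent.Lib.Helper28.AlgSt.Key.repByAlgSpWith_mono j (fun F U m hm =>
      (MorphismProperty.monomorphisms.iff _).2
        (Groth.Agent.Lib.Helper16.mono_of_repWith (P := @IsOpenImmersion)
          (fun _ _ g hg => by
            have : IsOpenImmersion g := hg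
            exact MorphismProperty.monomorphisms.infer_property g) m hm)) hj
  obtain ⟨hfull, hfaith⟩ := Groth.Agent.S12774.result hset.1 h𝒴g j hmono
  haveI := hfull
  haveI := hfaith
  obtain ⟨β, rfl⟩ := j.toFunctor.map_surjective γ
  haveI hβ : 𝒱.p.IsHomLift (𝟙 (𝒱.p.obj v)) β := (BasedFunctor.isHomLift_iff j _ _).1 hγ
  haveI hid : 𝒱.p.IsHomLift (𝟙 (𝒱.p.obj v)) (𝟙 v) := IsHomLift.id rfl
  have e2 : β = 𝟙 v :=
    Groth.Agent.Lib.Helper28.AlgSt.SpaceCalc.hom_eq_of_isFibSetoid hset (𝟙 (𝒱.p.obj v)) β (𝟙 v)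
  rw [e2]
  exact j.toFunctor.map_id v

/-- A point whose underlying object is in the image of `π` on objects is in the range of `|π|`. -/
theorem mk_mem_range_of_obj {𝒬 𝒳 : AlgSt.Cat S} (π : 𝒬 ⥤ᵇ 𝒳) (P : AlgSt.FPt 𝒳) (q : 𝒬.obj)
    (hq : π.obj q = P.obj) : AlgSt.Points.mk P ∈ Set.range (AlgSt.Points.map π) := by
  rcases P with ⟨K, str, obj, lies⟩
  subst hq
  exact ⟨AlgSt.Points.mk ⟨K, str, q, (π.w_obj q).symm.trans lies⟩, rfl⟩

variable {𝒳 𝒴 : AlgSt.Cat S} (F : 𝒳 ⥤ᵇ 𝒴) (α : F ⟶ F)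

/-- Where `α` is the identity, the section `sα` factors through the neutral section. -/
theorem exists_obj_of_app_eq_id (h𝒴 : FibCat.IsFibGrpd 𝒴.p) (a : 𝒳.obj)
    (ha : α.toNatTrans.app a = 𝟙 _) :
    ∃ q : (FibCat.fp (sα F α h𝒴) (FibCat.inertiaNeutral (FibCat.toSelf 𝒴))).obj,
      (FibCat.fpFst (sα F α h𝒴) (FibCat.inertiaNeutral (FibCat.toSelf 𝒴))).obj q = a := by
  let I : (sα F α h𝒴).obj a ≅ (FibCat.inertiaNeutral (FibCat.toSelf 𝒴)).obj (F.obj a) :=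
    { hom := ⟨𝟙 (F.obj a), by
        change α.toNatTrans.app a ≫ 𝟙 _ = 𝟙 _ ≫ 𝟙 _
        rw [ha]⟩
      inv := ⟨𝟙 (F.obj a), by
        change 𝟙 _ ≫ 𝟙 _ = 𝟙 _ ≫ α.toNatTrans.app a
        rw [ha]⟩
      hom_inv_id := by
        apply FibCat.InertiaObj.hom_ext
        exact Category.comp_id _
      inv_hom_id := by
        apply FibCat.InertiaObj.hom_ext
        exact Category.comp_id _ }
  have hI : (FibCat.inertia (FibCat.toSelf 𝒴)).p.IsHomLift (𝟙 (𝒳.p.obj a)) I.hom := by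
    haveI h0 : (FibCat.inertia (FibCat.toSelf 𝒴)).p.IsHomLift (𝟙 (𝒴.p.obj (F.obj a))) I.hom := by
      apply IsHomLift.of_fac _ _ _ rfl rfl
      change 𝟙 _ = eqToHom _ ≫ 𝒴.p.map (𝟙 (F.obj a)) ≫ eqToHom _
      simp
    exact isHomLift_id_of_eq _ (F.w_obj a) I.hom
  exact ⟨⟨⟨a, F.obj a, I⟩, hI⟩, rfl⟩

/-- Objects in the image of the first projection of the equaliser of `sα` and the neutral section
have `α = 𝟙`. -/
theorem app_eq_id_of_obj (h𝒴 : FibCat.IsFibGrpd 𝒴.p)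
    (q : (FibCat.fp (sα F α h𝒴) (FibCat.inertiaNeutral (FibCat.toSelf 𝒴))).obj) :
    α.toNatTrans.app q.obj.fst = 𝟙 _ := by
  have hc := q.obj.iso.hom.comm
  let θ : F.obj q.obj.fst ≅ q.obj.snd :=
    (FibCat.InertiaObj.forget (F := FibCat.toSelf 𝒴)).mapIso q.obj.iso
  have hc' : α.toNatTrans.app q.obj.fst ≫ θ.hom = θ.hom ≫ 𝟙 _ := hc
  rw [Category.comp_id] at hc'
  have := congrArg (fun k => k ≫ θ.inv) hc'
  simpa using this

end Final

/-- Let `S` be a scheme, `𝒳` and `𝒴` Deligne–Mumford stacks over `(Sch/S)` (fppf topology) such that the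
diagonal of `𝒴` is representable by algebraic spaces and separated (the isomorphism spaces of `𝒴`
are separated), and `F : 𝒳 → 𝒴` a functor over `(Sch/S)` representable by algebraic spaces. Suppose
`i : 𝒰 → 𝒳` and `j : 𝒱 → 𝒴` are open immersions with `𝒰`, `𝒱` representable by algebraic spaces, the
image of `|𝒰|` is dense in `|𝒳|`, and `F` maps `𝒰` into `𝒱`: there is `G : 𝒰 → 𝒱` with a
2-isomorphism `G ⋙ j ≅ i ⋙ F` over `(Sch/S)`. Then every 2-endomorphism `α : F ⇒ F` over `(Sch/S)`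
(all of which are invertible, the fibres being groupoids) equals the identity. Density is taken in
the topological space of points of `𝒳` (topological, not scheme-theoretic, density). (The published
statement works over a Noetherian base with Deligne–Mumford stacks whose isomorphism spaces are
separated and of finite type; this row keeps only the separatedness of the isomorphism spaces of
`𝒴`, which its proof uses.) -/
theorem result
    (S : AlgebraicGeometry.Scheme.{u}) (𝒳 𝒴 𝒰 𝒱 : AlgSt.Cat S)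
    (h𝒳 : AlgSt.IsDM AlgebraicGeometry.Scheme.fppfPrecoverage 𝒳)
    (h𝒴 : AlgSt.IsDM AlgebraicGeometry.Scheme.fppfPrecoverage 𝒴)
    (hΔ : AlgSt.RepByAlgSpWith AlgSp.IsSeparatedMor (FibCat.diag (FibCat.toSelf 𝒴)))
    (F : 𝒳 ⥤ᵇ 𝒴) (hF : AlgSt.RepByAlgSp1 F)
    (i : 𝒰 ⥤ᵇ 𝒳) (hi : AlgSt.IsOpenImm i) (h𝒰 : AlgSt.RepByAlgSp 𝒰)
    (hdense : Dense (Set.range (AlgSt.Points.map i)))
    (j : 𝒱 ⥤ᵇ 𝒴) (hj : AlgSt.IsOpenImm j) (h𝒱 : AlgSt.RepByAlgSp 𝒱)
    (G : 𝒰 ⥤ᵇ 𝒱) (e : BasedFunctor.comp G j ≅ BasedFunctor.comp i F)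
    (α : F ⟶ F) : α = 𝟙 F := by
  have h𝒳g := h𝒳.1.isStack.1
  have h𝒴g := h𝒴.1.isStack.1
  have hself := H10PT.isAlgStack_selfOver (S := S)
  have hI := Groth.Agent.S16339.isAlgStack_inertia h𝒴.1 hself (FibCat.toSelf 𝒴)
  have hn_open : AlgSt.IsOpenImm (FibCat.inertiaNeutral (FibCat.toSelf 𝒴)) :=
    isOpenImm_inertiaNeutral_of_isDM 𝒴 h𝒴
  have hn_closed : AlgSt.IsClosedImm (FibCat.inertiaNeutral (FibCat.toSelf 𝒴)) :=
    ((Groth.Agent.S12972.result S 𝒴 _ h𝒴.1 hself (FibCat.toSelf 𝒴)).out 1 2).1 hΔ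
  have h𝒬 : AlgSt.IsAlgStack Scheme.fppfPrecoverage
      (FibCat.fp (sα F α h𝒴g) (FibCat.inertiaNeutral (FibCat.toSelf 𝒴))) :=
    Groth.Agent.S12763.result hI.isStack hI.diag h𝒳.1 h𝒴.1 (sα F α h𝒴g)
      (FibCat.inertiaNeutral (FibCat.toSelf 𝒴))
  have hπ_open : AlgSt.IsOpenImm
      (FibCat.fpFst (sα F α h𝒴g) (FibCat.inertiaNeutral (FibCat.toSelf 𝒴))) :=
    Groth.Agent.Lib.Helper10.AlgStRep.repByAlgSpWith_fpFst _ _ (sα F α h𝒴g) hn_open
  have hπ_closed : AlgSt.IsClosedImm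
      (FibCat.fpFst (sα F α h𝒴g) (FibCat.inertiaNeutral (FibCat.toSelf 𝒴))) :=
    Groth.Agent.Lib.Helper10.AlgStRep.repByAlgSpWith_fpFst _ _ (sα F α h𝒴g) hn_closed
  have hclosed : IsClosed (Set.range (AlgSt.Points.map
      (FibCat.fpFst (sα F α h𝒴g) (FibCat.inertiaNeutral (FibCat.toSelf 𝒴))))) :=
    (isClosedMap_points_of_isClosedImm h𝒬 h𝒳.1 _ hπ_closed).isClosed_range
  -- `α` is trivial on the image of `𝒰`
  have hU : ∀ t : 𝒰.obj, α.toNatTrans.app (i.obj t) = 𝟙 _ := by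
    intro t
    let ε : j.obj (G.obj t) ≅ F.obj (i.obj t) := (natIsoOfBased e).app t
    haveI h1 : 𝒴.p.IsHomLift (𝟙 (𝒰.p.obj t)) ε.hom := e.hom.isHomLift' t
    haveI h2 : 𝒴.p.IsHomLift (𝟙 (𝒰.p.obj t)) ε.inv := e.inv.isHomLift' t
    haveI h3 : 𝒴.p.IsHomLift (𝟙 (𝒳.p.obj (i.obj t))) (α.toNatTrans.app (i.obj t)) :=
      app_isHomLift F α (i.obj t)
    haveI h4 : 𝒴.p.IsHomLift (𝟙 (𝒰.p.obj t)) (α.toNatTrans.app (i.obj t)) :=
      isHomLift_id_of_eq 𝒴.p (i.w_obj t) _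
    have h5 : 𝒴.p.IsHomLift (𝟙 (𝒰.p.obj t) ≫ 𝟙 (𝒰.p.obj t) ≫ 𝟙 (𝒰.p.obj t))
        (ε.hom ≫ α.toNatTrans.app (i.obj t) ≫ ε.inv) := inferInstance
    rw [Category.comp_id, Category.comp_id] at h5
    haveI := h5
    have h6 : 𝒴.p.IsHomLift (𝟙 (𝒱.p.obj (G.obj t)))
        (ε.hom ≫ α.toNatTrans.app (i.obj t) ≫ ε.inv) :=
      isHomLift_id_of_eq 𝒴.p (G.w_obj t).symm _
    have h7 := aut_eq_id_of_openImm_of_rep h𝒱 h𝒴g j hj (G.obj t) _ h6
    have h8 : α.toNatTrans.app (i.obj t) =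
        ε.inv ≫ (ε.hom ≫ α.toNatTrans.app (i.obj t) ≫ ε.inv) ≫ ε.hom := by simp
    rw [h8, h7]
    simp
  have hsub : Set.range (AlgSt.Points.map i) ⊆ Set.range (AlgSt.Points.map
      (FibCat.fpFst (sα F α h𝒴g) (FibCat.inertiaNeutral (FibCat.toSelf 𝒴)))) := by
    rintro _ ⟨x, rfl⟩
    obtain ⟨p, rfl⟩ := AlgSt.Points.mk_surjective x
    obtain ⟨q, hq⟩ := exists_obj_of_app_eq_id F α h𝒴g (i.obj p.obj) (hU p.obj)
    exact mk_mem_range_of_obj _ (p.map i) q hq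
  have hsurj : AlgSt.IsSurjective
      (FibCat.fpFst (sα F α h𝒴g) (FibCat.inertiaNeutral (FibCat.toSelf 𝒴))) := by
    have hd := (hdense.mono hsub).closure_eq
    rw [hclosed.closure_eq] at hd
    exact Set.range_eq_univ.1 hd
  have heq := isEquivOver_of_isOpenImm_of_isSurjective h𝒬.isStack.1 h𝒳g _ hπ_open hsurj
  have hall : ∀ a : 𝒳.obj, α.toNatTrans.app a = 𝟙 _ := by
    intro a
    obtain ⟨q, ε, -⟩ := IsEquivOver.exists_iso heq a
    have h1 : α.toNatTrans.app q.obj.fst = 𝟙 _ := app_eq_id_of_obj F α h𝒴g q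
    have hn := α.toNatTrans.naturality ε.hom
    have hn' : F.map ε.hom ≫ α.toNatTrans.app a = F.map ε.hom ≫ 𝟙 _ := by
      rw [Category.comp_id]
      exact hn.trans ((congrArg (fun k => k ≫ F.map ε.hom) h1).trans (Category.id_comp _))
    haveI : IsIso (F.map ε.hom) := (F.toFunctor.mapIso ε).isIso_hom
    exact (cancel_epi (F.map ε.hom)).1 hn'
  apply BasedNatTrans.ext
  apply NatTrans.ext
  funext a
  exact hall a

end Groth.Agent.S16338
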