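import Groth.Statements.S16340
-- import your own Groth.Agent.* helpers here
import Groth.Agent.Lib.Helper23.HilbPN

set_option autoImplicit false
open CategoryTheory CategoryTheory.Limits AlgebraicGeometry Polynomial
universe u
open ShStab

namespace Groth.Agent.S16340

/-- Let X be a scheme proper over a field k carrying an ample invertible sheaf L, Hilbert polynomials
being taken with respect to L, and let ι : E → E' be a monomorphism of coherent O_X-modules with
Hilbert polynomials P_E and P_E'. Then P_E(m) ≤ P_E'(m) for all large m; and if the cokernel of ι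
has support of topological Krull dimension less than d (for example, if the cokernel is zero), then
the multiplicities in dimension d agree: α_d(P_E) = α_d(P_E'), where α_d(P) is d! times the
coefficient of degree d. (The published statement is the case where E' is the saturation of E inside
a coherent sheaf of dimension d, over an algebraically closed field; the argument is unchanged for
any field.) -/
theorem result (k : Type u) [Field k] (X : Scheme.{u})
    [X.Over (Spec (CommRingCat.of k))] [IsProper (X ↘ Spec (CommRingCat.of k))]
    (L : X.Modules) (hL : CohB1.IsAmple L) (d : ℕ) (E E' : X.Modules)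
    (hE : Coh.IsCoh E) (hE' : Coh.IsCoh E') (ι : E ⟶ E') [Mono ι]
    (pE pE' : ℚ[X]) (hpE : ShStab.IsHilbPoly k X L E pE) (hpE' : ShStab.IsHilbPoly k X L E' pE') :
    StabCat.PolyLE pE pE' ∧
      (topologicalKrullDim (CohB1.support (cokernel ι)) < (d : WithBot ℕ∞) →
        StabCat.alpha d pE = StabCat.alpha d pE') := by
  classical
  haveI := Groth.Agent.Lib.Helper23.HilbP.isNoetherian_of_isProper k X
  have hC : Coh.IsCoh (cokernel ι) := Groth.Agent.Lib.Helper17.DevBasic.isCoh_cokernel ι hE.1 hE'
  have hpC := Groth.Agent.Lib.Helper23.HilbP.isHilbPoly_X₃ k hL.1 _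
    (Groth.Agent.Lib.Helper17.DevKey.shortExact_of_mono ι) hE hE' hC hpE hpE'
  constructor
  · obtain ⟨N, hN⟩ := Groth.Agent.Lib.Helper23.HilbP.eventually_nonneg k X hL _ hC
    refine ⟨N, fun m hm => ?_⟩
    have h1 : (0 : ℚ) ≤ (pE' - pE).eval (m : ℚ) := by
      rw [← hpC m]; exact_mod_cast hN m hm
    rw [eval_sub] at h1
    linarith
  · intro hdim
    have h1 := Groth.Agent.Lib.Helper23.HilbP.coeff_eq_zero_of_dim_lt k hL _ hC hpC d hdim d le_rfl
    rw [coeff_sub] at h1
    unfold StabCat.alpha
    have : pE.coeff d = pE'.coeff d := by linarith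
    rw [this]

end Groth.Agent.S16340
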