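import Groth.Statements.S16343
-- import your own Groth.Agent.* helpers here
import Mathlib
import Groth.Agent.Lib.Helper22.PDiv
open Groth.Agent.Lib.Helper22.PDiv

set_option autoImplicit false
open KatoHom

namespace Groth.Agent.S16343

/-- Let P be a set of primes and π : A → T a surjection of abelian groups whose kernel is ℓ-divisible
for every ℓ ∈ P, with T a torsion group; let T(P) be the subgroup of elements of T killed by a
positive integer all of whose prime factors lie in P, and T' the subgroup of elements killed by a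
positive integer none of whose prime factors lies in P. Then the preimage π⁻¹(T') is ℓ-divisible for
every ℓ ∈ P, and π has a section s over T(P) for which (d, t) ↦ d + s(t) is a bijection from π⁻¹(T')
× T(P) onto A, so that A is the direct sum of π⁻¹(T') and a copy of T(P). (The decomposition is
expressed through a section of π over T(P).) -/
theorem result
    {A T : Type*} [AddCommGroup A] [AddCommGroup T] (P : Set ℕ) (hP : ∀ p ∈ P, p.Prime)
    (π : A →+ T) (hπ : Function.Surjective π) (hT : ∀ t : T, ∃ n : ℕ, 0 < n ∧ n • t = 0)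
    (hD : ∀ ℓ ∈ P, ∀ x ∈ π.ker, ∃ y ∈ π.ker, ℓ • y = x)
    (TP T' : AddSubgroup T)
    (hTP : ∀ t, t ∈ TP ↔ ∃ n : ℕ, 0 < n ∧ (∀ p : ℕ, p.Prime → p ∣ n → p ∈ P) ∧ n • t = 0)
    (hT' : ∀ t, t ∈ T' ↔ ∃ n : ℕ, 0 < n ∧ (∀ p : ℕ, p.Prime → p ∣ n → p ∉ P) ∧ n • t = 0) :
    (∀ ℓ ∈ P, ∀ x ∈ T'.comap π, ∃ y ∈ T'.comap π, ℓ • y = x) ∧
    ∃ s : TP →+ A, (∀ t : TP, π (s t) = (t : T)) ∧
      Function.Bijective (fun q : (T'.comap π) × TP => (q.1 : A) + s q.2) := by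
  classical
  have hTP' : ∀ t, t ∈ TP ↔ t ∈ tors (IPs P) T := by
    intro t; rw [hTP, mem_tors]
    constructor
    · rintro ⟨n, h0, h1, h2⟩; exact ⟨n, ⟨h0, h1⟩, h2⟩
    · rintro ⟨n, ⟨h0, h1⟩, h2⟩; exact ⟨n, h0, h1, h2⟩
  -- Part 1
  have part1 : ∀ ℓ ∈ P, ∀ x ∈ T'.comap π, ∃ y ∈ T'.comap π, ℓ • y = x := by
    intro ℓ hℓ x hx
    rw [AddSubgroup.mem_comap, hT'] at hx
    obtain ⟨n, hn0, hnP, hn⟩ := hx
    have hc : Nat.Coprime ℓ n :=
      (Nat.Prime.coprime_iff_not_dvd (hP ℓ hℓ)).2 (fun h => hnP ℓ (hP ℓ hℓ) h hℓ)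
    have hk : n • x ∈ π.ker := by rw [AddMonoidHom.mem_ker, map_nsmul, hn]
    obtain ⟨y', hy', hy'x⟩ := hD ℓ hℓ _ hk
    refine ⟨(Nat.gcdA ℓ n) • x + (Nat.gcdB ℓ n) • y', ?_, ?_⟩
    · rw [AddSubgroup.mem_comap, map_add, map_zsmul, map_zsmul, (AddMonoidHom.mem_ker).1 hy',
        smul_zero, add_zero]
      exact T'.zsmul_mem ((hT' _).2 ⟨n, hn0, hnP, hn⟩) _
    · conv_rhs => rw [bez ℓ n hc x, ← hy'x]
      rw [smul_add, smul_comm ℓ (Nat.gcdA ℓ n) x, smul_comm ℓ (Nat.gcdB ℓ n) y']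
  refine ⟨part1, ?_⟩
  -- the P-torsion of the kernel
  set KP : AddSubgroup A := tors (IPs P) A ⊓ π.ker with hKP
  -- kernel is divisible by all IP numbers
  have hKdiv : ∀ n ∈ IPs P, ∀ x ∈ π.ker, ∃ y ∈ π.ker, n • y = x := fun n hn =>
    div_of_primes π.ker P (fun q _ hq => hD q hq) n hn.1.ne' hn.2
  have hKPdivp : ∀ q : ℕ, q.Prime → q ∈ (Set.univ : Set ℕ) → ∀ x ∈ KP, ∃ y ∈ KP, q • y = x := by
    intro q hq _ x hx
    obtain ⟨⟨m, hm, hmx⟩, hxK⟩ := hx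
    by_cases hqP : q ∈ P
    · obtain ⟨y, hy, rfl⟩ := hD q hqP x hxK
      refine ⟨y, ⟨⟨m * q, (IPs P).mul_mem hm ⟨hq.pos, fun p hp h => ?_⟩, ?_⟩, hy⟩, rfl⟩
      · rwa [(Nat.prime_dvd_prime_iff_eq hp hq).1 h]
      · rw [mul_smul, hmx]
    · have hc : Nat.Coprime q m :=
        (Nat.Prime.coprime_iff_not_dvd hq).2 (fun h => hqP (hm.2 q hq h))
      refine ⟨(Nat.gcdA q m) • x, KP.zsmul_mem ⟨⟨m, hm, hmx⟩, hxK⟩ _, ?_⟩
      conv_rhs => rw [bez q m hc x, hmx, smul_zero, add_zero]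
      rw [smul_comm]
  have hKPdiv : ∀ n : ℕ, n ≠ 0 → ∀ x ∈ KP, ∃ y ∈ KP, n • y = x := fun n hn =>
    div_of_primes KP Set.univ hKPdivp n hn (fun _ _ _ => Set.mem_univ _)
  letI : DivisibleBy KP ℤ := by
    refine divisibleByOfSMulRightSurj _ _ (fun {n} hn x => ?_)
    obtain ⟨y, hy, hyx⟩ := hKPdiv n.natAbs (Int.natAbs_ne_zero.2 hn) x x.2
    rcases Int.natAbs_eq n with h | h
    · refine ⟨⟨y, hy⟩, Subtype.ext ?_⟩
      show ((n • (⟨y, hy⟩ : KP) : KP) : A) = x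
      rw [AddSubgroup.coe_zsmul, h, natCast_zsmul]; exact hyx
    · refine ⟨⟨-y, KP.neg_mem hy⟩, Subtype.ext ?_⟩
      show ((n • (⟨-y, KP.neg_mem hy⟩ : KP) : KP) : A) = x
      rw [AddSubgroup.coe_zsmul, h, neg_smul, natCast_zsmul, smul_neg, neg_neg]; exact hyx
  obtain ⟨r, hr⟩ := (Module.Baer.of_divisible KP).extension_property_addMonoidHom KP.subtype
    Subtype.val_injective (AddMonoidHom.id KP)
  have hrd : ∀ d ∈ KP, ((r d : KP) : A) = d := fun d hd =>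
    congrArg Subtype.val (DFunLike.congr_fun hr ⟨d, hd⟩)
  -- torsion lifts
  have hlift : ∀ t : TP, ∃ a : A, π a = t ∧ a ∈ tors (IPs P) A := by
    intro t
    obtain ⟨n, hn, hnt⟩ := (hTP' _).1 t.2
    obtain ⟨a₀, ha₀⟩ := hπ t
    have hk : n • a₀ ∈ π.ker := by rw [AddMonoidHom.mem_ker, map_nsmul, ha₀, hnt]
    obtain ⟨y, hy, hyx⟩ := hKdiv n hn _ hk
    refine ⟨a₀ - y, ?_, n, hn, ?_⟩
    · rw [map_sub, ha₀, (AddMonoidHom.mem_ker).1 hy, sub_zero]
    · rw [smul_sub, hyx, sub_self]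
  choose lift hlift1 hlift2 using hlift
  let s : TP →+ A := AddMonoidHom.mk' (fun t => lift t - (r (lift t) : A)) (by
    intro t t'
    have hd : lift (t + t') - lift t - lift t' ∈ KP := by
      refine ⟨(tors (IPs P) A).sub_mem ((tors (IPs P) A).sub_mem (hlift2 _) (hlift2 _))
        (hlift2 _), ?_⟩
      show π _ = 0
      rw [map_sub, map_sub, hlift1, hlift1, hlift1, AddSubgroup.coe_add]
      abel
    have e : lift (t + t') = lift t + lift t' + (lift (t + t') - lift t - lift t') := by abel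
    have h2 := hrd _ hd
    show lift (t + t') - (r (lift (t + t')) : A) =
      (lift t - (r (lift t) : A)) + (lift t' - (r (lift t') : A))
    have h3 : (r (lift (t + t')) : A) = (r (lift t) : A) + (r (lift t') : A) +
        (lift (t + t') - lift t - lift t') := by
      conv_lhs => rw [e, map_add, map_add, AddSubgroup.coe_add, AddSubgroup.coe_add, h2]
    rw [h3]; abel)
  have hs : ∀ t : TP, π (s t) = (t : T) := by
    intro t
    show π (lift t - (r (lift t) : A)) = t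
    rw [map_sub, hlift1, (AddMonoidHom.mem_ker).1 (r (lift t)).2.2, sub_zero]
  refine ⟨s, hs, ?_, ?_⟩
  · rintro ⟨d, t⟩ ⟨d', t'⟩ h
    simp only at h
    have h1 := congrArg π h
    rw [map_add, map_add, hs, hs] at h1
    have h2 : (t : T) - t' = π d' - π d := by
      rw [sub_eq_sub_iff_add_eq_add, add_comm, h1, add_comm]
    have h3 : (t : T) - t' ∈ T' := by rw [h2]; exact T'.sub_mem d'.2 d.2
    have h4 : (t : T) - t' ∈ TP := TP.sub_mem t.2 t'.2
    obtain ⟨n, hn, hnt⟩ := (hTP' _).1 h4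
    obtain ⟨m, hm0, hmP, hmt⟩ := (hT' _).1 h3
    have h5 := eq_zero_of_coprime n m (coprime_of_primes P n m hn.2 hmP) _ hnt hmt
    have h6 : t = t' := Subtype.ext (sub_eq_zero.1 h5)
    subst h6
    have h7 : d = d' := Subtype.ext (add_right_cancel h)
    rw [h7]
  · intro a
    obtain ⟨n, hn0, hnt⟩ := hT (π a)
    obtain ⟨n₁, n₂, rfl, hn₁, hn₂⟩ := split P n hn0.ne'
    have hn₁0 : 0 < n₁ := Nat.pos_of_ne_zero (fun h => by simp [h] at hn0)
    have hn₂0 : 0 < n₂ := Nat.pos_of_ne_zero (fun h => by simp [h] at hn0)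
    have hc := coprime_of_primes P n₁ n₂ hn₁ hn₂
    have hb := bez n₁ n₂ hc (π a)
    have ht₁ : (Nat.gcdB n₁ n₂) • (n₂ • π a) ∈ TP := by
      rw [hTP]
      refine ⟨n₁, hn₁0, hn₁, ?_⟩
      rw [smul_comm, ← mul_smul, hnt, smul_zero]
    have ht₂ : (Nat.gcdA n₁ n₂) • (n₁ • π a) ∈ T' := by
      rw [hT']
      refine ⟨n₂, hn₂0, hn₂, ?_⟩
      rw [smul_comm, ← mul_smul, mul_comm, hnt, smul_zero]
    refine ⟨(⟨a - s ⟨_, ht₁⟩, ?_⟩, ⟨_, ht₁⟩), ?_⟩
    · rw [AddSubgroup.mem_comap, map_sub, hs]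
      have : π a - (Nat.gcdB n₁ n₂) • (n₂ • π a) = (Nat.gcdA n₁ n₂) • (n₁ • π a) := by
        rw [sub_eq_iff_eq_add]; exact hb
      rw [this]; exact ht₂
    · simp

end Groth.Agent.S16343
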