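import Groth.Statements.S16344
-- import your own Groth.Agent.* helpers here
import Mathlib
import Groth.Agent.Lib.Helper22.InvLim

set_option autoImplicit false
universe u v
open IdeleMod

namespace Groth.Agent.S16344

/-- Let (G_i) be an inverse system, indexed by a directed preorder, of compact Hausdorff topological
abelian groups with continuous surjective transition maps, let G be its limit (the group of
compatible families) and let m be a natural number. Then the canonical map G/mG → lim G_i/mG_i is
bijective: a compatible family that lies in mG_i at every index is m times a compatible family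
(injectivity), and every family that is compatible modulo m agrees modulo m, index by index, with a
compatible family (surjectivity). -/
theorem result
    {ι : Type u} [Preorder ι] [IsDirected ι (· ≤ ·)]
    (G : ι → Type v) [∀ i, AddCommGroup (G i)] [∀ i, TopologicalSpace (G i)]
    [∀ i, IsTopologicalAddGroup (G i)] [∀ i, CompactSpace (G i)] [∀ i, T2Space (G i)]
    (f : ∀ ⦃i j : ι⦄, i ≤ j → (G j →+ G i)) (hf : ∀ i j (h : i ≤ j), Continuous (f h))
    (hid : ∀ i (x : G i), f (le_refl i) x = x)
    (hcomp : ∀ i j k (hij : i ≤ j) (hjk : j ≤ k) (x : G k), f hij (f hjk x) = f (hij.trans hjk) x)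
    (hsurj : ∀ i j (h : i ≤ j), Function.Surjective (f h)) (m : ℕ) :
    (∀ x : ∀ i, G i, (∀ i j (h : i ≤ j), f h (x j) = x i) → (∀ i, ∃ y : G i, m • y = x i) →
        ∃ z : ∀ i, G i, (∀ i j (h : i ≤ j), f h (z j) = z i) ∧ ∀ i, m • z i = x i) ∧
    (∀ y : ∀ i, G i, (∀ i j (h : i ≤ j), ∃ w : G i, f h (y j) - y i = m • w) →
        ∃ x : ∀ i, G i, (∀ i j (h : i ≤ j), f h (x j) = x i) ∧ ∀ i, ∃ w : G i, x i - y i = m • w) := by
  constructor
  · intro x hx hxm
    obtain ⟨z, hz1, hz2⟩ := Groth.Agent.Lib.Helper22.InvLim.invlim_nonempty G
      (fun i j h => f h) hf hid hcomp (fun i => {y | m • y = x i})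
      (fun i => isClosed_eq (continuous_nsmul m) continuous_const) hxm
      (fun i j h y hy => by
        show m • f h y = x i
        rw [← map_nsmul, show m • y = x j from hy, hx])
    exact ⟨z, hz1, hz2⟩
  · intro y hy
    obtain ⟨z, hz1, hz2⟩ := Groth.Agent.Lib.Helper22.InvLim.invlim_nonempty G
      (fun i j h => f h) hf hid hcomp (fun i => {x | ∃ w : G i, x - y i = m • w})
      (fun i => by
        have : {x | ∃ w : G i, x - y i = m • w} = Set.range (fun w : G i => y i + m • w) := by
          ext x
          simp only [Set.mem_ofPred_eq, Set.mem_range]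
          constructor
          · rintro ⟨w, hw⟩; exact ⟨w, by rw [← hw]; abel⟩
          · rintro ⟨w, hw⟩; exact ⟨w, by rw [← hw]; abel⟩
        rw [this]
        exact (isCompact_range (continuous_const.add (continuous_nsmul m))).isClosed)
      (fun i => ⟨y i, 0, by simp⟩)
      (fun i j h x hx => by
        obtain ⟨w, hw⟩ := hx
        obtain ⟨w', hw'⟩ := hy i j h
        refine ⟨f h w + w', ?_⟩
        rw [smul_add, ← hw', ← map_nsmul, ← hw, map_sub]; abel)
    exact ⟨z, hz1, hz2⟩

end Groth.Agent.S16344
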