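import Groth.Statements.S16346
-- import your own Groth.Agent.* helpers here
import Mathlib
import Groth.Agent.Lib.Helper22.PDiv

set_option autoImplicit false
universe u v
open KatoHom

namespace Groth.Agent.S16346

/-- Let P be a set of primes and I_P the set of positive integers all of whose prime factors lie in P.
Let A be an abelian group, (B_n)_{n ∈ I_P} an inverse system of abelian groups with transition maps
B_n → B_m for m ∣ n, and φ_n : A → B_n homomorphisms vanishing on nA and compatible with the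
transition maps, so that they induce φ̂ : Â → B̂ on the limits Â = lim A/nA and B̂ = lim B_n (limits
taken as compatible families). Suppose some N ∈ I_P kills the torsion subgroup of B̂ and kills the
kernel of φ̂ (the latter meaning: a compatible family of residues (a_n) with φ_n(a_n) = 0 for all n
has N a_n ∈ nA for all n). Then the subgroup ⋂_{n ∈ I_P} nA is ℓ-divisible for every ℓ ∈ P, and it
contains every subgroup of A that is ℓ-divisible for all ℓ ∈ P; that is, it is the largest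
P-divisible subgroup of A. -/
theorem result
    {A : Type u} [AddCommGroup A] (P : Set ℕ) (hP : ∀ p ∈ P, p.Prime)
    (IP : Set ℕ) (hIP : ∀ n, n ∈ IP ↔ 0 < n ∧ ∀ p : ℕ, p.Prime → p ∣ n → p ∈ P)
    (B : IP → Type v) [∀ n, AddCommGroup (B n)]
    (g : ∀ ⦃m n : IP⦄, (m : ℕ) ∣ (n : ℕ) → (B n →+ B m))
    (hgid : ∀ (n : IP) (b : B n), g (dvd_refl (n : ℕ)) b = b)
    (hgcomp : ∀ (k m n : IP) (hkm : (k : ℕ) ∣ (m : ℕ)) (hmn : (m : ℕ) ∣ (n : ℕ)) (b : B n),
      g hkm (g hmn b) = g (hkm.trans hmn) b)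
    (φ : ∀ n : IP, A →+ B n) (hφ : ∀ (n : IP) (a : A), φ n ((n : ℕ) • a) = 0)
    (hφg : ∀ (m n : IP) (h : (m : ℕ) ∣ (n : ℕ)) (a : A), g h (φ n a) = φ m a)
    (N : ℕ) (hN : N ∈ IP)
    (htor : ∀ b : ∀ n : IP, B n, (∀ (m n : IP) (h : (m : ℕ) ∣ (n : ℕ)), g h (b n) = b m) →
      (∃ k : ℕ, 0 < k ∧ ∀ n, k • b n = 0) → ∀ n, N • b n = 0)
    (hker : ∀ a : IP → A, (∀ m n : IP, (m : ℕ) ∣ (n : ℕ) → ∃ c : A, a n - a m = (m : ℕ) • c) →
      (∀ n, φ n (a n) = 0) → ∀ n : IP, ∃ c : A, N • a n = (n : ℕ) • c) :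
    (∀ ℓ ∈ P, ∀ x : A, (∀ n ∈ IP, ∃ y : A, x = n • y) →
        ∃ y : A, (∀ n ∈ IP, ∃ z : A, y = n • z) ∧ ℓ • y = x) ∧
    (∀ H : AddSubgroup A, (∀ ℓ ∈ P, ∀ x ∈ H, ∃ y ∈ H, ℓ • y = x) →
        ∀ x ∈ H, ∀ n ∈ IP, ∃ y : A, x = n • y) := by
  classical
  have hmul : ∀ a b : ℕ, a ∈ IP → b ∈ IP → a * b ∈ IP := by
    intro a b ha hb
    rw [hIP] at ha hb ⊢
    exact ⟨Nat.mul_pos ha.1 hb.1, fun p hp h => (hp.dvd_mul.1 h).elim (ha.2 p hp) (hb.2 p hp)⟩
  constructor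
  · intro ℓ hℓ x hx
    have hℓI : ℓ ∈ IP := by
      rw [hIP]
      refine ⟨(hP ℓ hℓ).pos, fun p hp h => ?_⟩
      rwa [(Nat.prime_dvd_prime_iff_eq hp (hP ℓ hℓ)).1 h]
    have hk : ℓ * N * N ∈ IP := hmul _ _ (hmul _ _ hℓI hN) hN
    obtain ⟨y, hy⟩ := hx _ hk
    have hφx : ∀ n : IP, φ n x = 0 := by
      intro n
      obtain ⟨w, hw⟩ := hx n n.2
      rw [hw, hφ]
    have h1 : ∀ n : IP, N • φ n y = 0 := by
      refine htor (fun n => φ n y) (fun m n h => hφg m n h y) ⟨ℓ * N * N, ((hIP _).1 hk).1, ?_⟩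
      intro n
      rw [← map_nsmul, ← hy, hφx]
    have h2 := hker (fun _ => N • y) (fun m n _ => ⟨0, by simp⟩)
      (fun n => by rw [map_nsmul]; exact h1 n)
    refine ⟨N • (N • y), fun n hn => ?_, ?_⟩
    · obtain ⟨c, hc⟩ := h2 ⟨n, hn⟩
      exact ⟨c, hc⟩
    · rw [hy, mul_smul, mul_smul]
  · intro H hH x hx n hn
    have hn' := (hIP n).1 hn
    obtain ⟨y, _, hy⟩ := Groth.Agent.Lib.Helper22.PDiv.div_of_primes H P
      (fun q _ hq => hH q hq) n hn'.1.ne' hn'.2 x hx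
    exact ⟨y, hy.symm⟩

end Groth.Agent.S16346
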