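import Groth.Statements.S16347
import Groth.Agent.Lib.Lead.BezoutPts
import Groth.Agent.Lib.Lead.LineP
import Groth.Agent.Lib.Lead.LineP2

set_option autoImplicit false
universe u
open Cubic

namespace Groth.Agent.S16347

open MvPolynomial in
theorem eval_aeval' {k : Type u} [Field k] {σ τ : Type*} (t : τ → k) (φ : σ → MvPolynomial τ k)
    (p : MvPolynomial σ k) :
    eval t (aeval φ p) = eval (fun i => eval t (φ i)) p := by
  induction p using MvPolynomial.induction_on with
  | C a => rw [aeval_C, algebraMap_eq, eval_C, eval_C]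
  | add p q hp hq => rw [map_add, map_add, map_add, hp, hq]
  | mul_X p i hp => rw [map_mul, map_mul, map_mul, aeval_X, eval_X, hp]

open MvPolynomial Groth.Agent.Lib.Lead.LineP in
/-- expansion of a cubic along a line through a singular point. -/
theorem expand {K : Type u} [Field K] [Infinite K] {F : MvPolynomial (Fin 4) K}
    (hF : F.IsHomogeneous 3) {a : Fin 4 → K} (hFa : eval a F = 0)
    (hsing : ∀ i, eval a (pderiv i F) = 0) (p : Fin 4 → K) (t : K) :
    eval (p + t • a) F = eval p F + t * Lfun F p a := by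
  have hdeg : (lineP F p a).natDegree ≤ 3 :=
    (natDegree_lineP_le F p a).trans (MvPolynomial.IsHomogeneous.totalDegree_le hF)
  have h0 := coeff_zero_lineP F p a
  have h1 := coeff_one_lineP F p a
  have h2 : (lineP F p a).coeff 2 = 0 := by
    rw [lineP_coeff_rev hF p a (by norm_num : 2 ≤ 3)]
    show (lineP F a p).coeff 1 = 0
    rw [coeff_one_lineP, Lfun_apply]
    exact Finset.sum_eq_zero (fun i _ => by rw [hsing i, zero_mul])
  have h3 : (lineP F p a).coeff 3 = 0 := by
    rw [lineP_coeff_rev hF p a (le_refl 3), Nat.sub_self, coeff_zero_lineP, hFa]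
  rw [← eval_lineP, Polynomial.eval_eq_sum_range' (Nat.lt_succ_of_le hdeg)]
  simp only [Finset.sum_range_succ, Finset.sum_range_zero, h0, h1, h2, h3]
  ring

open Groth.Agent.Lib.Lead.LineP in
theorem exists_coords {K : Type u} [Field K] (a : Fin 4 → K) (ha : a ≠ 0) :
    ∃ (B : (Fin 3 → K) →ₗ[K] (Fin 4 → K)) (ξ : (Fin 4 → K) →ₗ[K] (Fin 3 → K))
      (η : (Fin 4 → K) →ₗ[K] K),
      η a = 1 ∧ (∀ y, B (ξ y) + η y • a = y) ∧ (∀ x, η (B x) = 0) ∧ (∀ x, ξ (B x) = x) := by
  classical
  obtain ⟨j, hj⟩ : ∃ j, a j ≠ 0 := by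
    by_contra h
    push Not at h
    exact ha (funext h)
  let η : (Fin 4 → K) →ₗ[K] K := (a j)⁻¹ • LinearMap.proj j
  have hηa : η a = 1 := by
    show (a j)⁻¹ * a j = 1
    exact inv_mul_cancel₀ hj
  have hη0 : η ≠ 0 := by
    intro h
    rw [h] at hηa
    simp at hηa
  have h3 : Module.finrank K (LinearMap.ker η) = 3 := by
    have := finrank_ker_of_ne_zero η hη0
    rw [Fintype.card_fin] at this
    omega
  let bk := Module.finBasisOfFinrankEq K (LinearMap.ker η) h3
  let B : (Fin 3 → K) →ₗ[K] (Fin 4 → K) :=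
    (LinearMap.ker η).subtype ∘ₗ bk.equivFun.symm.toLinearMap
  let π : (Fin 4 → K) →ₗ[K] LinearMap.ker η :=
    LinearMap.codRestrict (LinearMap.ker η) (LinearMap.id - η.smulRight a) (by
      intro y
      rw [LinearMap.mem_ker, LinearMap.sub_apply, LinearMap.id_apply, LinearMap.smulRight_apply,
        map_sub, map_smul, hηa, smul_eq_mul, mul_one, sub_self])
  let ξ : (Fin 4 → K) →ₗ[K] (Fin 3 → K) := bk.equivFun.toLinearMap ∘ₗ π
  have hB : ∀ x, B x = ((bk.equivFun.symm x : LinearMap.ker η) : Fin 4 → K) := fun x => rfl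
  have hπ : ∀ y, ((π y : LinearMap.ker η) : Fin 4 → K) = y - η y • a := fun y => rfl
  have hξ : ∀ y, ξ y = bk.equivFun (π y) := fun y => rfl
  refine ⟨B, ξ, η, hηa, ?_, ?_, ?_⟩
  · intro y
    rw [hB, hξ, LinearEquiv.symm_apply_apply, hπ, sub_add_cancel]
  · intro x
    rw [hB]
    exact LinearMap.mem_ker.mp (bk.equivFun.symm x).2
  · intro x
    have hπB : π (B x) = bk.equivFun.symm x := by
      apply Subtype.ext
      rw [hπ]
      have h0 : η (B x) = 0 := by
        rw [hB]
        exact LinearMap.mem_ker.mp (bk.equivFun.symm x).2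
      rw [h0, zero_smul, sub_zero, hB]
    rw [hξ, hπB, LinearEquiv.apply_symm_apply]

/-- Let K be an algebraically closed field of characteristic zero and S = V(F) ⊂ P^3_K a cubic surface,
F a homogeneous cubic in four variables which is irreducible and not a cone (there is no nonzero
vector v with Σ_i v_i ∂F/∂x_i = 0). If a is a singular point of S (a nonzero vector with F(a) = 0
and every ∂F/∂x_i(a) = 0), then at most six lines through a lie on S; here a line through a on S is
a 2-dimensional subspace of K^4 containing a on which F vanishes identically. -/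
theorem result (K : Type u) [Field K] [IsAlgClosed K] [CharZero K]
    (F : MvPolynomial (Fin 4) K) (hF : F.IsHomogeneous 3) (hirr : Irreducible F)
    (hcone : ¬ ∃ v : Fin 4 → K, v ≠ 0 ∧ ∑ i : Fin 4, v i • MvPolynomial.pderiv i F = 0)
    (a : Fin 4 → K) (ha : a ≠ 0) (hFa : MvPolynomial.eval a F = 0)
    (hsing : ∀ i : Fin 4, MvPolynomial.eval a (MvPolynomial.pderiv i F) = 0) :
    {U : Submodule K (Fin 4 → K) | a ∈ U ∧ Module.finrank K ↥U = 2 ∧ ∀ u ∈ U, MvPolynomial.eval u F = 0}.encard ≤ 6 := by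
  classical
  by_contra hcon
  rw [not_le] at hcon
  -- coordinates
  obtain ⟨B, ξ, η, hηa, hBξ, hηB, hξB⟩ := exists_coords a ha
  have hξa : ξ a = 0 := by
    have h1 := hBξ a
    rw [hηa, one_smul] at h1
    have h2 : B (ξ a) = 0 := by
      have := congrArg (fun v => v - a) h1
      simpa using this
    have h3 := hξB (ξ a)
    rw [h2, map_zero] at h3
    exact h3.symm
  have hBinj : ∀ x, B x = 0 → x = 0 := by
    intro x hx
    have := hξB x
    rw [hx, map_zero] at this
    exact this.symm
  -- polynomials in the new coordinates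
  let φ : Fin 4 → MvPolynomial (Fin 3) K :=
    fun i => Groth.Agent.Lib.Lead.LineP.lin ((LinearMap.proj i).comp B)
  have hφhom : ∀ i, (φ i).IsHomogeneous 1 :=
    fun i => Groth.Agent.Lib.Lead.LineP.lin_isHomogeneous _
  have hφev : ∀ x : Fin 3 → K, (fun i => MvPolynomial.eval x (φ i)) = B x := by
    intro x
    funext i
    show MvPolynomial.eval x (Groth.Agent.Lib.Lead.LineP.lin ((LinearMap.proj i).comp B)) = B x i
    rw [Groth.Agent.Lib.Lead.LineP.eval_lin]
    rfl
  let ξt : Fin 3 → MvPolynomial (Fin 4) K :=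
    fun s => Groth.Agent.Lib.Lead.LineP.lin ((LinearMap.proj s).comp ξ)
  have hξtev : ∀ y : Fin 4 → K, (fun s => MvPolynomial.eval y (ξt s)) = ξ y := by
    intro y
    funext s
    show MvPolynomial.eval y (Groth.Agent.Lib.Lead.LineP.lin ((LinearMap.proj s).comp ξ)) = ξ y s
    rw [Groth.Agent.Lib.Lead.LineP.eval_lin]
    rfl
  let ηt : MvPolynomial (Fin 4) K := Groth.Agent.Lib.Lead.LineP.lin η
  obtain ⟨Pp, hPp⟩ : ∃ Pp : MvPolynomial (Fin 4) K,
      Pp = ∑ i : Fin 4, MvPolynomial.C (a i) * MvPolynomial.pderiv i F := ⟨_, rfl⟩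
  have hPpev : ∀ y : Fin 4 → K, MvPolynomial.eval y Pp = Groth.Agent.Lib.Lead.LineP.Lfun F y a := by
    intro y
    rw [hPp, Groth.Agent.Lib.Lead.LineP.Lfun_apply, map_sum]
    refine Finset.sum_congr rfl (fun i _ => ?_)
    rw [map_mul, MvPolynomial.eval_C, mul_comm]
  have hPphom : Pp.IsHomogeneous 2 := by
    rw [hPp]
    refine MvPolynomial.IsHomogeneous.sum _ _ _ (fun i _ => ?_)
    exact (MvPolynomial.IsHomogeneous.pderiv (i := i) hF).C_mul (a i)
  obtain ⟨C', hC'⟩ : ∃ C' : MvPolynomial (Fin 3) K, C' = MvPolynomial.aeval φ F := ⟨_, rfl⟩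
  obtain ⟨Q', hQ'⟩ : ∃ Q' : MvPolynomial (Fin 3) K, Q' = MvPolynomial.aeval φ Pp := ⟨_, rfl⟩
  have hC'ev : ∀ x, MvPolynomial.eval x C' = MvPolynomial.eval (B x) F := by
    intro x
    rw [hC', eval_aeval', hφev]
  have hQ'ev : ∀ x, MvPolynomial.eval x Q' = Groth.Agent.Lib.Lead.LineP.Lfun F (B x) a := by
    intro x
    rw [hQ', eval_aeval', hφev, hPpev]
  have hC'hom : C'.IsHomogeneous 3 := by
    have h := hF.aeval φ hφhom
    rw [one_mul] at h
    rw [hC']
    exact h
  have hQ'hom : Q'.IsHomogeneous 2 := by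
    have h := hPphom.aeval φ hφhom
    rw [one_mul] at h
    rw [hQ']
    exact h
  -- the polynomial identity F = C'(ξ) + η Q'(ξ)
  have hpoly : F = MvPolynomial.aeval ξt C' + ηt * MvPolynomial.aeval ξt Q' := by
    apply MvPolynomial.funext
    intro y
    rw [map_add, map_mul, eval_aeval', eval_aeval', hξtev, hC'ev, hQ'ev]
    show _ = _ + MvPolynomial.eval y (Groth.Agent.Lib.Lead.LineP.lin η) * _
    rw [Groth.Agent.Lib.Lead.LineP.eval_lin, ← expand hF hFa hsing, hBξ]
  have hcompid : ∀ g : MvPolynomial (Fin 3) K,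
      MvPolynomial.aeval φ (MvPolynomial.aeval ξt g) = g := by
    intro g
    apply MvPolynomial.funext
    intro x
    rw [eval_aeval', hφev, eval_aeval', hξtev, hξB]
  have hrel : IsRelPrime C' Q' := by
    intro g hgC hgQ
    obtain ⟨c1, hc1⟩ := hgC
    obtain ⟨c2, hc2⟩ := hgQ
    have hFfac : F = MvPolynomial.aeval ξt g *
        (MvPolynomial.aeval ξt c1 + ηt * MvPolynomial.aeval ξt c2) := by
      conv_lhs => rw [hpoly, hc1, hc2, map_mul, map_mul]
      ring
    rcases hirr.isUnit_or_isUnit hFfac with hu | hu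
    · rw [← hcompid g]
      exact hu.map (MvPolynomial.aeval φ)
    · exfalso
      obtain ⟨c, -, hc⟩ := MvPolynomial.isUnit_iff_eq_C_of_isReduced.mp hu
      rw [hc] at hFfac
      have hconst : ∀ (y : Fin 4 → K) (t : K),
          MvPolynomial.eval (y + t • a) F = MvPolynomial.eval y F := by
        intro y t
        rw [hFfac, map_mul, map_mul, eval_aeval', eval_aeval', hξtev, hξtev, map_add, map_smul,
          hξa, smul_zero, add_zero, MvPolynomial.eval_C, MvPolynomial.eval_C]
      have hL : ∀ y : Fin 4 → K, Groth.Agent.Lib.Lead.LineP.Lfun F y a = 0 := by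
        intro y
        have h1 := expand hF hFa hsing y 1
        rw [hconst y 1, one_mul] at h1
        have h2 := congrArg (fun v => v - MvPolynomial.eval y F) h1
        simpa using h2.symm
      apply hcone
      refine ⟨a, ha, ?_⟩
      apply MvPolynomial.funext
      intro y
      rw [map_zero, map_sum, ← hL y, Groth.Agent.Lib.Lead.LineP.Lfun_apply]
      refine Finset.sum_congr rfl (fun i _ => ?_)
      rw [MvPolynomial.smul_eval, mul_comm]
  -- seven lines
  have h7 : ((7 : ℕ) : ℕ∞) ≤ {U : Submodule K (Fin 4 → K) | a ∈ U ∧ Module.finrank K ↥U = 2 ∧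
      ∀ u ∈ U, MvPolynomial.eval u F = 0}.encard := by
    have h67 : ((7 : ℕ) : ℕ∞) = 6 + 1 := by norm_num
    rw [h67]
    exact Order.add_one_le_of_lt hcon
  obtain ⟨t, htS, ht7⟩ := Set.exists_subset_encard_eq h7
  have htfin : t.Finite := Set.finite_of_encard_eq_coe ht7
  have hT7 : htfin.toFinset.card = 7 := by
    have h1 := htfin.encard_eq_coe_toFinset_card
    rw [ht7] at h1
    exact_mod_cast h1.symm
  have hTmem : ∀ U : ↥htfin.toFinset, a ∈ U.1 ∧ Module.finrank K ↥U.1 = 2 ∧
      ∀ u ∈ U.1, MvPolynomial.eval u F = 0 := by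
    intro U
    exact htS (htfin.mem_toFinset.mp U.2)
  have hex : ∀ U : ↥htfin.toFinset, ∃ x : Fin 3 → K, x ≠ 0 ∧ B x ∈ U.1 := by
    intro U
    obtain ⟨haU, hU2, -⟩ := hTmem U
    obtain ⟨z, hzU, hz⟩ : ∃ z ∈ U.1, z ∉ Submodule.span K {a} := by
      by_contra h
      push Not at h
      have hle : U.1 ≤ Submodule.span K {a} := fun z hz => h z hz
      have h1 := Submodule.finrank_mono hle
      rw [finrank_span_singleton ha] at h1
      omega
    have hz'U : z - η z • a ∈ U.1 := U.1.sub_mem hzU (U.1.smul_mem _ haU)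
    have hηz' : η (z - η z • a) = 0 := by
      rw [map_sub, map_smul, hηa, smul_eq_mul, mul_one, sub_self]
    have hBz' : B (ξ (z - η z • a)) = z - η z • a := by
      have h1 := hBξ (z - η z • a)
      rw [hηz', zero_smul, add_zero] at h1
      exact h1
    refine ⟨ξ (z - η z • a), ?_, ?_⟩
    · intro h0
      rw [h0, map_zero] at hBz'
      apply hz
      rw [Submodule.mem_span_singleton]
      exact ⟨η z, (sub_eq_zero.mp hBz'.symm).symm⟩
    · rw [hBz']
      exact hz'U
  choose x hx0 hxU using hex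
  have hxf : ∀ U, MvPolynomial.eval (x U) C' = 0 := by
    intro U
    rw [hC'ev]
    exact (hTmem U).2.2 _ (hxU U)
  have hxg : ∀ U, MvPolynomial.eval (x U) Q' = 0 := by
    intro U
    rw [hQ'ev]
    apply Groth.Agent.Lib.Lead.LineP.T1
    intro s
    exact (hTmem U).2.2 _ (U.1.add_mem (hxU U) (U.1.smul_mem s (hTmem U).1))
  have hxne : ∀ U U' : ↥htfin.toFinset, U ≠ U' → ∀ c : K, x U ≠ c • x U' := by
    intro U U' hne c hc
    apply hne
    apply Subtype.ext
    have hz0 : B (x U) ≠ 0 := fun h => hx0 U (hBinj _ h)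
    have hzU' : B (x U) ∈ U'.1 := by
      rw [hc, map_smul]
      exact U'.1.smul_mem c (hxU U')
    have hznot : B (x U) ∉ Submodule.span K {a} := by
      intro hmem
      rw [Submodule.mem_span_singleton] at hmem
      obtain ⟨d, hd⟩ := hmem
      have h1 : η (B (x U)) = d := by
        rw [← hd, map_smul, hηa, smul_eq_mul, mul_one]
      rw [hηB] at h1
      rw [← h1, zero_smul] at hd
      exact hz0 hd.symm
    have hspan2 := Groth.Agent.Lib.Lead.LineP.finrank_span_pair ha hznot
    have hleU : Submodule.span K ({a, B (x U)} : Set (Fin 4 → K)) ≤ U.1 := by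
      rw [Submodule.span_le]
      intro v hv
      rcases hv with rfl | hv
      · exact (hTmem U).1
      · rw [Set.mem_singleton_iff] at hv
        rw [hv]
        exact hxU U
    have hleU' : Submodule.span K ({a, B (x U)} : Set (Fin 4 → K)) ≤ U'.1 := by
      rw [Submodule.span_le]
      intro v hv
      rcases hv with rfl | hv
      · exact (hTmem U').1
      · rw [Set.mem_singleton_iff] at hv
        rw [hv]
        exact hzU'
    have e1 := Submodule.eq_of_le_of_finrank_le hleU (by rw [hspan2, (hTmem U).2.1])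
    have e2 := Submodule.eq_of_le_of_finrank_le hleU' (by rw [hspan2, (hTmem U').2.1])
    rw [← e1, ← e2]
  have hfinal := Groth.Agent.Lib.Lead.BezoutPts.card_le' 3 2 C' Q' hC'hom hQ'hom (by norm_num)
    (by norm_num) hrel x hx0 hxne hxf hxg
  rw [Fintype.card_coe, hT7] at hfinal
  omega

end Groth.Agent.S16347
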