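import Groth.Statements.S16351
import Mathlib

set_option autoImplicit false
universe u
open Cubic

namespace Groth.Agent.S16351

/-- Let K be a field of characteristic zero and S = V(F) ⊂ P^3_K a cone over a plane cubic curve C,
normalised so that the vertex is [1 : 0 : 0 : 0], i.e. F is a homogeneous cubic in K[x_0, …, x_3]
not involving x_0 and C = V(F) in the plane P^2 of the coordinates x_1, x_2, x_3. If C has five
K-rational points no three of which are collinear, then S has five K-rational points in general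
position (no four coplanar: any four representing vectors linearly independent). -/
theorem result (K : Type u) [Field K] [CharZero K]
    (G : MvPolynomial (Fin 3) K) (hG : G.IsHomogeneous 3) (F : MvPolynomial (Fin 4) K)
    (hF : F = MvPolynomial.rename Fin.succ G)
    (b : Fin 5 → (Fin 3 → K)) (hb : ∀ j : Fin 5, MvPolynomial.eval (b j) G = 0)
    (h3 : ∀ i j l : Fin 5, i ≠ j → j ≠ l → i ≠ l → LinearIndependent K ![b i, b j, b l]) :
    ∃ p : Fin 5 → (Fin 4 → K), (∀ j : Fin 5, MvPolynomial.eval (p j) F = 0) ∧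
      ∀ j : Fin 5, LinearIndependent K (fun i : Fin 4 => p (j.succAbove i)) := by
  classical
  haveI : Infinite K := CharZero.infinite K
  have hFeval : ∀ (t : K) (v : Fin 3 → K),
      MvPolynomial.eval (Fin.cons t v : Fin 4 → K) F = MvPolynomial.eval v G := by
    intro t v
    have hcomp : (Fin.cons t v : Fin 4 → K) ∘ Fin.succ = v := by
      funext i; simp
    rw [hF, MvPolynomial.eval_rename, hcomp]
  have hL3 : ∀ (σ : Fin 3 → Fin 5), Function.Injective σ → ∀ c : Fin 3 → K,
      ∑ k, c k • b (σ k) = 0 → ∀ k, c k = 0 := by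
    intro σ hσ c hc
    have hli := h3 (σ 0) (σ 1) (σ 2) (fun h => by simpa using hσ h)
      (fun h => by simpa using hσ h) (fun h => by simpa using hσ h)
    refine Fintype.linearIndependent_iff.mp hli c ?_
    rw [Fin.sum_univ_three] at hc ⊢
    simpa using hc
  have hrel : ∀ j : Fin 5, ∃ lam : Fin 4 → K, lam ≠ 0 ∧
      ∑ i, lam i • b (j.succAbove i) = 0 := by
    intro j
    have hnot : ¬ LinearIndependent K (fun i : Fin 4 => b (j.succAbove i)) := by
      intro hli
      have := hli.fintype_card_le_finrank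
      simp at this
    rw [Fintype.linearIndependent_iff] at hnot
    push_neg at hnot
    obtain ⟨g, hg, i, hi⟩ := hnot
    exact ⟨g, fun h => hi (by rw [h]; rfl), hg⟩
  have huniq : ∀ (j : Fin 5) (lam mu : Fin 4 → K), lam ≠ 0 →
      ∑ i, lam i • b (j.succAbove i) = 0 → ∑ i, mu i • b (j.succAbove i) = 0 →
      ∃ s : K, mu = s • lam := by
    intro j lam mu hlam hl hm
    obtain ⟨i₀, hi₀⟩ := Function.ne_iff.mp hlam
    have hi₀' : lam i₀ ≠ 0 := hi₀
    refine ⟨mu i₀ / lam i₀, ?_⟩
    have hν : ∑ i, (mu i - mu i₀ / lam i₀ * lam i) • b (j.succAbove i) = 0 := by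
      have : ∀ i, (mu i - mu i₀ / lam i₀ * lam i) • b (j.succAbove i) =
          mu i • b (j.succAbove i) - (mu i₀ / lam i₀) • (lam i • b (j.succAbove i)) :=
        fun i => by rw [sub_smul, mul_smul]
      rw [Finset.sum_congr rfl (fun i _ => this i), Finset.sum_sub_distrib, ← Finset.smul_sum,
        hl, hm, smul_zero, sub_zero]
    rw [Fin.sum_univ_succAbove _ i₀] at hν
    have h0 : mu i₀ - mu i₀ / lam i₀ * lam i₀ = 0 := by
      rw [div_mul_cancel₀ _ hi₀', sub_self]
    rw [h0, zero_smul, zero_add] at hν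
    have hz := hL3 (fun k => j.succAbove (i₀.succAbove k))
      (fun k k' h => Fin.succAbove_right_injective (Fin.succAbove_right_injective h))
      (fun k => mu (i₀.succAbove k) - mu i₀ / lam i₀ * lam (i₀.succAbove k)) hν
    funext i
    rcases Fin.eq_self_or_eq_succAbove i₀ i with rfl | ⟨k, rfl⟩
    · simp only [Pi.smul_apply, smul_eq_mul]; rw [div_mul_cancel₀ _ hi₀']
    · have := hz k
      simp only [Pi.smul_apply, smul_eq_mul]
      linear_combination this
  choose lam hlam0 hlamrel using hrel
  have hψne : ∀ j : Fin 5, LinearMap.ker (∑ i : Fin 4, lam j i •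
      (LinearMap.proj (j.succAbove i) : (Fin 5 → K) →ₗ[K] K)) ≠ ⊤ := by
    intro j htop
    obtain ⟨i₀, hi₀⟩ := Function.ne_iff.mp (hlam0 j)
    have hmem : (Pi.single (j.succAbove i₀) 1 : Fin 5 → K) ∈ LinearMap.ker
        (∑ i : Fin 4, lam j i • (LinearMap.proj (j.succAbove i) : (Fin 5 → K) →ₗ[K] K)) := by
      rw [htop]; trivial
    rw [LinearMap.mem_ker, LinearMap.sum_apply] at hmem
    simp only [LinearMap.smul_apply, LinearMap.proj_apply, Pi.single_apply, smul_eq_mul,
      mul_ite, mul_one, mul_zero] at hmem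
    rw [Finset.sum_eq_single i₀
      (fun i _ hne => if_neg (fun h => hne (Fin.succAbove_right_injective h)))
      (fun h => absurd (Finset.mem_univ _) h), if_pos rfl] at hmem
    exact hi₀ hmem
  obtain ⟨t, ht⟩ : ∃ t : Fin 5 → K, ∀ j, t ∉ LinearMap.ker (∑ i : Fin 4, lam j i •
      (LinearMap.proj (j.succAbove i) : (Fin 5 → K) →ₗ[K] K)) := by
    by_contra hcon
    push_neg at hcon
    have hcov : ⋃ j, ((LinearMap.ker (∑ i : Fin 4, lam j i •
        (LinearMap.proj (j.succAbove i) : (Fin 5 → K) →ₗ[K] K)) :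
        Submodule K (Fin 5 → K)) : Set (Fin 5 → K)) = Set.univ := by
      rw [Set.eq_univ_iff_forall]
      intro t
      obtain ⟨j, hj⟩ := hcon t
      exact Set.mem_iUnion.mpr ⟨j, hj⟩
    obtain ⟨j, hj⟩ := Subspace.exists_eq_top_of_iUnion_eq_univ hcov
    exact hψne j hj
  refine ⟨fun j => Fin.cons (t j) (b j), fun j => ?_, fun j => ?_⟩
  · show MvPolynomial.eval (Fin.cons (t j) (b j) : Fin 4 → K) F = 0
    rw [hFeval]; exact hb j
  rw [Fintype.linearIndependent_iff]
  intro mu hmu
  have hmu0 : ∑ i, mu i * t (j.succAbove i) = 0 := by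
    have := congrFun hmu 0
    simpa [Finset.sum_apply] using this
  have hmub : ∑ i, mu i • b (j.succAbove i) = 0 := by
    funext k
    have := congrFun hmu k.succ
    simpa [Finset.sum_apply] using this
  obtain ⟨s, rfl⟩ := huniq j (lam j) mu (hlam0 j) (hlamrel j) hmub
  have hs : s = 0 := by
    by_contra hs
    apply ht j
    rw [LinearMap.mem_ker, LinearMap.sum_apply]
    simp only [LinearMap.smul_apply, LinearMap.proj_apply, smul_eq_mul]
    have : s * ∑ i, lam j i * t (j.succAbove i) = 0 := by
      calc s * ∑ i, lam j i * t (j.succAbove i)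
          = ∑ i, (s • lam j) i * t (j.succAbove i) := by
            rw [Finset.mul_sum]
            refine Finset.sum_congr rfl (fun i _ => ?_)
            simp only [Pi.smul_apply, smul_eq_mul, mul_assoc]
        _ = 0 := hmu0
    exact (mul_eq_zero.mp this).resolve_left hs
  intro i
  rw [hs, zero_smul]; rfl

end Groth.Agent.S16351
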