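import Groth.Statements.S16352
import Groth.Agent.Lib.Lead.LineP2

set_option autoImplicit false
universe u
open Cubic

namespace Groth.Agent.S16352

open Module Groth.Agent.Lib.Lead.LineP

section lib
variable {K : Type u} [Field K] [IsAlgClosed K]

/-- If the first polar of `a` vanishes on the tangent plane at `a`, the tangent plane section is a
cone with vertex `a`, hence a product of three linear forms. -/
theorem exists_linear_factors (F : MvPolynomial (Fin 4) K) (hF : F.IsHomogeneous 3)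
    (a : Fin 4 → K) (ha : a ≠ 0) (hFa : MvPolynomial.eval a F = 0) (hLne : Lfun F a ≠ 0)
    (hzero : ∀ x, Lfun F a x = 0 → Lfun F x a = 0) :
    ∃ L₁ L₂ L₃ : MvPolynomial (Fin 4) K, L₁.IsHomogeneous 1 ∧ L₂.IsHomogeneous 1 ∧
      L₃.IsHomogeneous 1 ∧
      ∀ x, Lfun F a x = 0 → MvPolynomial.eval x (F - L₁ * L₂ * L₃) = 0 := by
  classical
  have hH3 : finrank K ↥(LinearMap.ker (Lfun F a)) = 3 := by
    have h := finrank_ker_of_ne_zero (Lfun F a) hLne
    rw [Fintype.card_fin] at h
    omega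
  have haH : a ∈ LinearMap.ker (Lfun F a) := by
    rw [LinearMap.mem_ker]
    apply T1 F a a
    intro t
    have e : a + t • a = (1 + t) • a := by rw [add_smul, one_smul]
    rw [e, eval_smul_hom hF, hFa, mul_zero]
  have hFinv : ∀ y, Lfun F a y = 0 → ∀ s : K,
      MvPolynomial.eval (y + s • a) F = MvPolynomial.eval y F := by
    intro y hy s
    rw [← eval_lineP, lineP_of_tangent hF hFa hy, hzero y hy]
    simp
  by_cases hall : ∀ x, Lfun F a x = 0 → MvPolynomial.eval x F = 0
  · refine ⟨0, 0, 0, (MvPolynomial.homogeneousSubmodule (Fin 4) K 1).zero_mem,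
      (MvPolynomial.homogeneousSubmodule (Fin 4) K 1).zero_mem,
      (MvPolynomial.homogeneousSubmodule (Fin 4) K 1).zero_mem, fun x hx => ?_⟩
    rw [mul_zero, sub_zero]
    exact hall x hx
  · push Not at hall
    obtain ⟨x₀, hx₀H, hFx₀⟩ := hall
    have hx₀ : x₀ ∉ Submodule.span K {a} := by
      intro hmem
      obtain ⟨c, rfl⟩ := Submodule.mem_span_singleton.mp hmem
      apply hFx₀
      rw [eval_smul_hom hF, hFa, mul_zero]
    obtain ⟨w, hwH, g, hg1, hg2⟩ :=
      exists_param hH3 haH ha (LinearMap.mem_ker.mpr hx₀H) hx₀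
    have hθ3 : (lineP F w x₀).coeff 3 = MvPolynomial.eval x₀ F := by
      rw [lineP_coeff_rev hF w x₀ (le_refl 3), Nat.sub_self, coeff_zero_lineP]
    have hθdeg : (lineP F w x₀).natDegree = 3 :=
      le_antisymm ((natDegree_lineP_le F w x₀).trans (MvPolynomial.IsHomogeneous.totalDegree_le hF))
        (Polynomial.le_natDegree_of_ne_zero (by rw [hθ3]; exact hFx₀))
    have hlead : (lineP F w x₀).leadingCoeff = MvPolynomial.eval x₀ F := by
      rw [Polynomial.leadingCoeff, hθdeg, hθ3]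
    have hsplit := IsAlgClosed.splits (lineP F w x₀)
    have hcard : Multiset.card (lineP F w x₀).roots = 3 := by
      rw [← hsplit.natDegree_eq_card_roots, hθdeg]
    obtain ⟨r₁, r₂, r₃, hroots⟩ := Multiset.card_eq_three.mp hcard
    have hθeval : ∀ t : K, MvPolynomial.eval (w + t • x₀) F
        = MvPolynomial.eval x₀ F * ((t - r₁) * ((t - r₂) * (t - r₃))) := by
      intro t
      rw [← eval_lineP, hsplit.eval_eq_prod_roots, hlead, hroots]
      simp
    have key : ∀ α β : K, MvPolynomial.eval (α • x₀ + β • w) F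
        = MvPolynomial.eval x₀ F * ((α - r₁ * β) * ((α - r₂ * β) * (α - r₃ * β))) := by
      intro α β
      by_cases hβ : β = 0
      · subst hβ
        rw [zero_smul, add_zero, eval_smul_hom hF]
        ring
      · obtain ⟨t, rfl⟩ : ∃ t, α = t * β := ⟨α / β, (div_mul_cancel₀ α hβ).symm⟩
        have e : (t * β) • x₀ + β • w = β • (w + t • x₀) := by
          rw [smul_add, smul_smul, mul_comm β t, add_comm]
        rw [e, eval_smul_hom hF, hθeval]
        ring
    let μ : K → ((Fin 4 → K) →ₗ[K] K) := fun r =>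
      (LinearMap.proj 1 : (Fin 3 → K) →ₗ[K] K).comp g
        - r • (LinearMap.proj 2 : (Fin 3 → K) →ₗ[K] K).comp g
    have hμ : ∀ (r : K) (x : Fin 4 → K), μ r x = g x 1 - r * g x 2 := by
      intro r x
      simp [μ]
    refine ⟨lin (MvPolynomial.eval x₀ F • μ r₁), lin (μ r₂), lin (μ r₃), lin_isHomogeneous _,
      lin_isHomogeneous _, lin_isHomogeneous _, fun x hx => ?_⟩
    have hxH : x ∈ LinearMap.ker (Lfun F a) := LinearMap.mem_ker.mpr hx
    have hyH : Lfun F a ((g x 1) • x₀ + (g x 2) • w) = 0 := by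
      rw [map_add, map_smul, map_smul, hx₀H, LinearMap.mem_ker.mp hwH, smul_zero, smul_zero,
        add_zero]
    have hFx : MvPolynomial.eval x F = MvPolynomial.eval x₀ F *
        ((g x 1 - r₁ * g x 2) * ((g x 1 - r₂ * g x 2) * (g x 1 - r₃ * g x 2))) := by
      conv_lhs => rw [hg2 x hxH]
      rw [add_assoc, add_comm, hFinv _ hyH, key]
    rw [map_sub, map_mul, map_mul, eval_lin, eval_lin, eval_lin, LinearMap.smul_apply, hμ, hμ, hμ,
      hFx, smul_eq_mul]
    ring

end lib

/-- Let K be an algebraically closed field of characteristic zero and S = V(F) ⊂ P^3_K a cubic surface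
which is irreducible and not a cone (no nonzero vector v has Σ_i v_i ∂F/∂x_i = 0). Let a be a smooth
point of S which is not a T-point: with ℓ = Σ_i ∂F/∂x_i(a) · x_i the (nonzero) linear form of the
tangent plane T_a S, F is not congruent modulo ℓ to a product of three linear forms (i.e. T_a S ∩ S
is not set-theoretically a union of lines). Let P = Σ_i a_i ∂F/∂x_i be the first polar of a. Then
V(P) ∩ T_a S is a union of at most two lines through a, and every line through a lying on S lies in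
V(P) ∩ T_a S; lines are 2-dimensional subspaces of K^4 and T_a S is the 3-dimensional subspace where
ℓ vanishes. -/
theorem result (K : Type u) [Field K] [IsAlgClosed K] [CharZero K]
    (F : MvPolynomial (Fin 4) K) (hF : F.IsHomogeneous 3) (hirr : Irreducible F)
    (hcone : ¬ ∃ v : Fin 4 → K, v ≠ 0 ∧ ∑ i : Fin 4, v i • MvPolynomial.pderiv i F = 0)
    (a : Fin 4 → K) (ha : a ≠ 0) (hFa : MvPolynomial.eval a F = 0)
    (hsm : ∃ i : Fin 4, MvPolynomial.eval a (MvPolynomial.pderiv i F) ≠ 0)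
    (ℓ : MvPolynomial (Fin 4) K)
    (hℓ : ℓ = ∑ i : Fin 4, MvPolynomial.C (MvPolynomial.eval a (MvPolynomial.pderiv i F)) * MvPolynomial.X i)
    (hT : ¬ ∃ L₁ L₂ L₃ : MvPolynomial (Fin 4) K, L₁.IsHomogeneous 1 ∧ L₂.IsHomogeneous 1 ∧ L₃.IsHomogeneous 1 ∧
      F - L₁ * L₂ * L₃ ∈ Ideal.span {ℓ})
    (P : MvPolynomial (Fin 4) K) (hP : P = ∑ i : Fin 4, a i • MvPolynomial.pderiv i F)
    (H : Submodule K (Fin 4 → K)) (hH : ∀ x : Fin 4 → K, x ∈ H ↔ MvPolynomial.eval x ℓ = 0) :
    (∃ U₁ U₂ : Submodule K (Fin 4 → K), Module.finrank K ↥U₁ = 2 ∧ Module.finrank K ↥U₂ = 2 ∧ a ∈ U₁ ∧ a ∈ U₂ ∧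
        U₁ ≤ H ∧ U₂ ≤ H ∧ {x : Fin 4 → K | x ∈ H ∧ MvPolynomial.eval x P = 0} = (U₁ : Set (Fin 4 → K)) ∪ (U₂ : Set (Fin 4 → K))) ∧
      ∀ U : Submodule K (Fin 4 → K), a ∈ U → Module.finrank K ↥U = 2 → (∀ u ∈ U, MvPolynomial.eval u F = 0) →
        U ≤ H ∧ ∀ u ∈ U, MvPolynomial.eval u P = 0 := by
  classical
  have hevalℓ : ∀ x : Fin 4 → K, MvPolynomial.eval x ℓ = Lfun F a x := by
    intro x
    rw [hℓ, Lfun_apply, map_sum]
    refine Finset.sum_congr rfl (fun i _ => ?_)
    rw [map_mul, MvPolynomial.eval_C, MvPolynomial.eval_X]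
  have hevalP : ∀ x : Fin 4 → K, MvPolynomial.eval x P = Lfun F x a := by
    intro x
    rw [hP, Lfun_apply, map_sum]
    refine Finset.sum_congr rfl (fun i _ => ?_)
    rw [MvPolynomial.smul_eval, mul_comm]
  have hHmem : ∀ x, x ∈ H ↔ Lfun F a x = 0 := fun x => by rw [hH, hevalℓ]
  refine ⟨?_, ?_⟩
  swap
  · intro U haU _ hU
    refine ⟨fun u hu => ?_, fun u hu => ?_⟩
    · rw [hHmem]
      exact T1 F a u (fun t => hU _ (U.add_mem haU (U.smul_mem t hu)))
    · rw [hevalP]
      exact T1 F u a (fun t => hU _ (U.add_mem hu (U.smul_mem t haU)))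
  obtain ⟨i0, hi0⟩ := hsm
  have hLne : Lfun F a ≠ 0 := by
    intro h
    apply hi0
    rw [← Lfun_single, h, LinearMap.zero_apply]
  have hHker : H = LinearMap.ker (Lfun F a) := by
    ext x
    rw [hHmem, LinearMap.mem_ker]
  have hH3 : finrank K ↥H = 3 := by
    have h := finrank_ker_of_ne_zero (Lfun F a) hLne
    rw [Fintype.card_fin] at h
    rw [hHker]
    omega
  have haH : a ∈ H := by
    rw [hHmem]
    apply T1 F a a
    intro t
    have e : a + t • a = (1 + t) • a := by rw [add_smul, one_smul]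
    rw [e, eval_smul_hom hF, hFa, mul_zero]
  have hℓhom : ℓ.IsHomogeneous 1 := by
    rw [hℓ]
    exact MvPolynomial.IsHomogeneous.sum _ _ _ (fun i _ => MvPolynomial.isHomogeneous_C_mul_X _ i)
  have hℓ0 : ℓ ≠ 0 := by
    intro h
    apply hi0
    have h1 := hevalℓ (Pi.single i0 (1 : K))
    rw [h, map_zero, Lfun_single] at h1
    exact h1.symm
  have hPhom : P.IsHomogeneous 2 := by
    rw [hP]
    refine MvPolynomial.IsHomogeneous.sum _ _ _ (fun i _ => ?_)
    have h := MvPolynomial.IsHomogeneous.pderiv (i := i) hF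
    have h' : (MvPolynomial.pderiv i F).IsHomogeneous 2 := by simpa using h
    exact (MvPolynomial.homogeneousSubmodule (Fin 4) K 2).smul_mem (a i) h'
  -- translation invariance of `P` on `H`
  have hPinv : ∀ y ∈ H, ∀ s : K, MvPolynomial.eval (y + s • a) P = MvPolynomial.eval y P := by
    intro y hy s
    have h := eval_derivative_lineP F y a s
    rw [lineP_of_tangent hF hFa ((hHmem y).mp hy)] at h
    rw [hevalP, hevalP, ← h]
    simp
  -- a point of `H` where `P` does not vanish
  have hex : ∃ x₀ ∈ H, MvPolynomial.eval x₀ P ≠ 0 := by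
    by_contra hcon
    push Not at hcon
    obtain ⟨L₁, L₂, L₃, h1, h2, h3, hvan⟩ := exists_linear_factors F hF a ha hFa hLne
      (fun x hx => by rw [← hevalP]; exact hcon x ((hHmem x).mpr hx))
    apply hT
    refine ⟨L₁, L₂, L₃, h1, h2, h3, ?_⟩
    apply mem_span_of_vanish hℓhom hℓ0
    intro x hx
    exact hvan x (by rw [← hevalℓ]; exact hx)
  obtain ⟨x₀, hx₀H, hPx₀⟩ := hex
  have hPa : MvPolynomial.eval a P = 0 := by
    rw [hevalP]
    exact (hHmem a).mp haH
  have hx₀ : x₀ ∉ Submodule.span K {a} := by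
    intro hmem
    obtain ⟨c, rfl⟩ := Submodule.mem_span_singleton.mp hmem
    apply hPx₀
    rw [eval_smul_hom hPhom, hPa, mul_zero]
  obtain ⟨w, hwH, g, hg1, hg2⟩ := exists_param hH3 haH ha hx₀H hx₀
  have hψ2 : (lineP P w x₀).coeff 2 = MvPolynomial.eval x₀ P := by
    rw [lineP_coeff_rev hPhom w x₀ (le_refl 2), Nat.sub_self, coeff_zero_lineP]
  have hψdeg : (lineP P w x₀).natDegree = 2 :=
    le_antisymm ((natDegree_lineP_le P w x₀).trans (MvPolynomial.IsHomogeneous.totalDegree_le hPhom))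
      (Polynomial.le_natDegree_of_ne_zero (by rw [hψ2]; exact hPx₀))
  have hψ0 : lineP P w x₀ ≠ 0 := by
    intro h
    rw [h] at hψdeg
    simp at hψdeg
  have hsplit := IsAlgClosed.splits (lineP P w x₀)
  have hcard : Multiset.card (lineP P w x₀).roots = 2 := by
    rw [← hsplit.natDegree_eq_card_roots, hψdeg]
  obtain ⟨t₁, t₂, hroots⟩ := Multiset.card_eq_two.mp hcard
  have hroot_iff : ∀ t : K, MvPolynomial.eval (w + t • x₀) P = 0 ↔ t = t₁ ∨ t = t₂ := by
    intro t
    rw [← eval_lineP, ← Polynomial.IsRoot.def, ← Polynomial.mem_roots hψ0, hroots]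
    simp
  -- the planes
  have hU : ∀ t : K, MvPolynomial.eval (w + t • x₀) P = 0 →
      finrank K ↥(Submodule.span K ({a, t • x₀ + w} : Set (Fin 4 → K))) = 2 ∧
      a ∈ Submodule.span K ({a, t • x₀ + w} : Set (Fin 4 → K)) ∧
      Submodule.span K ({a, t • x₀ + w} : Set (Fin 4 → K)) ≤ H ∧
      ∀ x ∈ Submodule.span K ({a, t • x₀ + w} : Set (Fin 4 → K)), MvPolynomial.eval x P = 0 := by
    intro t ht
    have hmemH : t • x₀ + w ∈ H := H.add_mem (H.smul_mem t hx₀H) hwH
    have hle : Submodule.span K ({a, t • x₀ + w} : Set (Fin 4 → K)) ≤ H := by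
      rw [Submodule.span_le]
      intro y hy
      rcases hy with rfl | hy
      · exact haH
      · rw [Set.mem_singleton_iff] at hy
        rw [hy]
        exact hmemH
    refine ⟨?_, Submodule.subset_span (by simp), hle, ?_⟩
    · apply finrank_span_pair ha
      intro hmem
      obtain ⟨c, hc⟩ := Submodule.mem_span_singleton.mp hmem
      have h1 := hg1 c 0 0
      have h2 := hg1 0 t 1
      rw [zero_smul, zero_smul, add_zero, add_zero] at h1
      rw [zero_smul, zero_add, one_smul] at h2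
      rw [hc, h2] at h1
      have h3 := congrFun h1 2
      simp at h3
    · intro x hx
      obtain ⟨s, c, rfl⟩ := Submodule.mem_span_pair.mp hx
      rw [add_comm, hPinv _ (H.smul_mem c hmemH), eval_smul_hom hPhom, add_comm, ht, mul_zero]
  have ht₁ : MvPolynomial.eval (w + t₁ • x₀) P = 0 := (hroot_iff t₁).mpr (Or.inl rfl)
  have ht₂ : MvPolynomial.eval (w + t₂ • x₀) P = 0 := (hroot_iff t₂).mpr (Or.inr rfl)
  obtain ⟨hU1r, hU1a, hU1H, hU1P⟩ := hU t₁ ht₁
  obtain ⟨hU2r, hU2a, hU2H, hU2P⟩ := hU t₂ ht₂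
  refine ⟨Submodule.span K ({a, t₁ • x₀ + w} : Set (Fin 4 → K)),
    Submodule.span K ({a, t₂ • x₀ + w} : Set (Fin 4 → K)), hU1r, hU2r, hU1a, hU2a, hU1H, hU2H, ?_⟩
  ext x
  simp only [Set.mem_setOf_eq, Set.mem_union, SetLike.mem_coe]
  constructor
  · rintro ⟨hxH, hxP⟩
    obtain ⟨s, α, β, hxe⟩ : ∃ s α β : K, x = s • a + α • x₀ + β • w := ⟨_, _, _, hg2 x hxH⟩
    subst hxe
    have hyH : α • x₀ + β • w ∈ H := H.add_mem (H.smul_mem α hx₀H) (H.smul_mem β hwH)
    rw [add_assoc, add_comm, hPinv _ hyH] at hxP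
    by_cases hβ : β = 0
    · subst hβ
      rw [zero_smul, add_zero, eval_smul_hom hPhom] at hxP
      have hα : α = 0 := by
        rcases mul_eq_zero.mp hxP with h | h
        · exact pow_eq_zero_iff (two_ne_zero) |>.mp h
        · exact absurd h hPx₀
      left
      rw [hα, zero_smul, zero_smul, add_zero, add_zero]
      exact Submodule.smul_mem _ _ hU1a
    · obtain ⟨t, rfl⟩ : ∃ t, α = t * β := ⟨α / β, (div_mul_cancel₀ α hβ).symm⟩
      have e : (t * β) • x₀ + β • w = β • (w + t • x₀) := by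
        rw [smul_add, smul_smul, mul_comm β t, add_comm]
      rw [e, eval_smul_hom hPhom] at hxP
      have ht : MvPolynomial.eval (w + t • x₀) P = 0 := by
        rcases mul_eq_zero.mp hxP with h | h
        · exact absurd (pow_eq_zero_iff (two_ne_zero) |>.mp h) hβ
        · exact h
      have hmem : ∀ t' : K, t = t' → s • a + (t * β) • x₀ + β • w
          ∈ Submodule.span K ({a, t' • x₀ + w} : Set (Fin 4 → K)) := by
        intro t' htt
        rw [Submodule.mem_span_pair]
        refine ⟨s, β, ?_⟩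
        rw [htt, smul_add, smul_smul, mul_comm β t', add_assoc]
      rcases (hroot_iff t).mp ht with h | h
      · exact Or.inl (hmem t₁ h)
      · exact Or.inr (hmem t₂ h)
  · rintro (hx | hx)
    · exact ⟨hU1H hx, hU1P x hx⟩
    · exact ⟨hU2H hx, hU2P x hx⟩

end Groth.Agent.S16352
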