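import Groth.Statements.S16353
-- import your own Groth.Agent.* helpers here
import Mathlib

set_option autoImplicit false
universe u
open DegLoci

namespace Groth.Agent.S16353

open MvPolynomial in
theorem coeff_contract {k : Type*} [CommSemiring k] {σ : Type*} (D G : MvPolynomial σ k)
    (γ : σ →₀ ℕ) :
    coeff γ (W4c3degenlocivb.contract D G) =
      ∑ α ∈ D.support, coeff α D * coeff (α + γ) G *
        ((((α + γ).support.prod fun i => Nat.descFactorial ((α + γ) i) (α i) : ℕ)) : k) := by
  classical
  unfold W4c3degenlocivb.contract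
  rw [coeff_sum]
  refine Finset.sum_congr rfl (fun α hα => ?_)
  rw [coeff_sum]
  by_cases hmem : α + γ ∈ G.support
  · rw [Finset.sum_eq_single (α + γ)]
    · rw [if_pos (le_self_add), coeff_monomial, if_pos (add_tsub_cancel_left α γ)]
    · intro β hβ hne
      split_ifs with hle
      · rw [coeff_monomial, if_neg]
        intro h; apply hne; rw [← h]; exact (add_tsub_cancel_of_le hle).symm
      · simp
    · intro h; exact absurd hmem h
  · rw [Finset.sum_eq_zero]
    · rw [notMem_support_iff.1 hmem]; simp
    · intro β hβ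
      split_ifs with hle
      · rw [coeff_monomial, if_neg]
        intro h; apply hmem; rw [← h, add_tsub_cancel_of_le hle]; exact hβ
      · simp

theorem prod_support_eq {σ : Type*} [Fintype σ] (α β : σ →₀ ℕ) (h : α ≤ β) :
    ∏ i ∈ β.support, (β i).descFactorial (α i) = ∏ i, (β i).descFactorial (α i) := by
  refine Finset.prod_subset (Finset.subset_univ _) (fun i _ hi => ?_)
  have hb : β i = 0 := Finsupp.notMem_support_iff.1 hi
  have ha : α i = 0 := Nat.le_zero.1 (hb ▸ h i)
  rw [hb, ha]; rfl

theorem Pid {σ : Type*} [Fintype σ] (α γ : σ →₀ ℕ) :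
    (∏ i, ((γ + α) i).descFactorial (γ i)) * (∏ i, (α i).descFactorial (α i)) =
      (∏ i, (γ i).factorial) * ∏ i, ((α + γ) i).descFactorial (α i) := by
  rw [← Finset.prod_mul_distrib, ← Finset.prod_mul_distrib]
  refine Finset.prod_congr rfl (fun i _ => ?_)
  rw [Finsupp.add_apply, Finsupp.add_apply, Nat.descFactorial_self]
  have h1 := Nat.factorial_mul_descFactorial (Nat.le_add_right (γ i) (α i))
  have h2 := Nat.factorial_mul_descFactorial (Nat.le_add_right (α i) (γ i))
  rw [Nat.add_sub_cancel_left] at h1 h2
  rw [mul_comm, h1, h2, add_comm]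

open MvPolynomial in
/-- Let k be a field of characteristic zero, R = k[y_0, …, y_{m−1}] acting on S = k[∂_0, …, ∂_{m−1}] by
apolarity (y_i acts as the derivative with respect to ∂_i), F ∈ S homogeneous of degree e and d ≤ e.
Then the degree-d part of the apolar ideal of F is the orthogonal complement of the partial
derivatives of F of order e − d: a homogeneous D ∈ R_d satisfies D(F) = 0 if and only if D(y^α(F)) =
0 for every multi-index α with |α| = e − d (each D(y^α(F)) being a constant, the value of the
apolarity pairing of D with y^α(F)). -/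
theorem result (k : Type u) [Field k] [CharZero k] (m : ℕ)
    (F : MvPolynomial (Fin m) k) (e : ℕ) (hF : F.IsHomogeneous e) (d : ℕ) (hd : d ≤ e)
    (D : MvPolynomial (Fin m) k) (hD : D.IsHomogeneous d) :
    W4c3degenlocivb.contract D F = 0 ↔
      ∀ α : Fin m →₀ ℕ, α.degree = e - d → W4c3degenlocivb.contract D (W4c3degenlocivb.contract (MvPolynomial.monomial α 1) F) = 0 := by
  classical
  -- coefficient formulas with products over all indices
  have h2 : ∀ (G : MvPolynomial (Fin m) k) (γ : Fin m →₀ ℕ),
      coeff γ (W4c3degenlocivb.contract D G) =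
      ∑ α ∈ D.support, coeff α D * coeff (α + γ) G *
        (((∏ i, ((α + γ) i).descFactorial (α i) : ℕ)) : k) := by
    intro G γ
    rw [coeff_contract]
    refine Finset.sum_congr rfl (fun α _ => ?_)
    rw [prod_support_eq α (α + γ) le_self_add]
  have h1 : ∀ γ δ : Fin m →₀ ℕ,
      coeff δ (W4c3degenlocivb.contract (MvPolynomial.monomial γ (1 : k)) F) =
        coeff (γ + δ) F * (((∏ i, ((γ + δ) i).descFactorial (γ i) : ℕ)) : k) := by
    intro γ δ
    rw [coeff_contract, support_monomial, if_neg one_ne_zero, Finset.sum_singleton,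
      coeff_monomial, if_pos rfl, one_mul, prod_support_eq γ (γ + δ) le_self_add]
  have hDdeg : ∀ α ∈ D.support, α.degree = d := by
    intro α hα
    by_contra h
    exact (mem_support_iff.1 hα) (hD.coeff_eq_zero h)
  -- the constant term identity
  have key : ∀ γ : Fin m →₀ ℕ,
      coeff 0 (W4c3degenlocivb.contract D (W4c3degenlocivb.contract (MvPolynomial.monomial γ 1) F))
        = ((∏ i, (γ i).factorial : ℕ) : k) * coeff γ (W4c3degenlocivb.contract D F) := by
    intro γ
    rw [h2, h2, Finset.mul_sum]
    refine Finset.sum_congr rfl (fun α _ => ?_)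
    rw [add_zero, h1]
    have := congrArg (Nat.cast (R := k)) (Pid α γ)
    push_cast at this ⊢
    have e1 : coeff (α + γ) F = coeff (γ + α) F := by rw [add_comm]
    rw [e1]
    linear_combination (coeff α D * coeff (γ + α) F) * this
  have hne : ∀ (γ ε : Fin m →₀ ℕ), γ.degree = e - d → ε ≠ 0 →
      coeff ε (W4c3degenlocivb.contract D (W4c3degenlocivb.contract (MvPolynomial.monomial γ 1) F))
        = 0 := by
    intro γ ε hγ hε
    rw [h2]
    refine Finset.sum_eq_zero (fun α hα => ?_)
    rw [h1]
    have hdeg : (γ + (α + ε)).degree ≠ e := by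
      rw [map_add, map_add, hγ, hDdeg α hα]
      have : ε.degree ≠ 0 := fun h => hε ((Finsupp.degree_eq_zero_iff ε).1 h)
      omega
    rw [hF.coeff_eq_zero hdeg]; ring
  have hfact : ∀ γ : Fin m →₀ ℕ, ((∏ i, (γ i).factorial : ℕ) : k) ≠ 0 := by
    intro γ
    rw [Nat.cast_ne_zero]
    exact Finset.prod_ne_zero_iff.2 (fun i _ => Nat.factorial_ne_zero _)
  constructor
  · intro h γ hγ
    ext ε
    rw [coeff_zero]
    by_cases hε : ε = 0
    · rw [hε, key, h, coeff_zero, mul_zero]
    · exact hne γ ε hγ hε
  · intro h
    ext γ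
    rw [coeff_zero]
    by_cases hγ : γ.degree = e - d
    · have := key γ
      rw [h γ hγ, coeff_zero] at this
      exact (mul_eq_zero.1 this.symm).resolve_left (hfact γ)
    · rw [h2]
      refine Finset.sum_eq_zero (fun α hα => ?_)
      have hdeg : (α + γ).degree ≠ e := by
        rw [map_add, hDdeg α hα]; omega
      rw [hF.coeff_eq_zero hdeg]; ring

end Groth.Agent.S16353
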