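import Groth.Statements.S16356
-- import your own Groth.Agent.* helpers here
import Mathlib

set_option autoImplicit false
universe u
open OrdAV

namespace Groth.Agent.S16356

theorem pow_expand {R : Type*} [CommRing R] (a w : R) (i : ℕ) :
    ∃ c : R, (1 + a * w) ^ i = 1 + i * (a * w) + a ^ 2 * c := by
  induction i with
  | zero => exact ⟨0, by simp⟩
  | succ i ih =>
    obtain ⟨c, hc⟩ := ih
    refine ⟨i * w ^ 2 + c + c * a * w, ?_⟩
    rw [pow_succ, hc]; push_cast; ring

theorem geom_expand {R : Type*} [CommRing R] (a w : R) (n : ℕ) :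
    ∃ C : R, ∑ i ∈ Finset.range n, (1 + a * w) ^ i =
      n + ((∑ i ∈ Finset.range n, i : ℕ) : R) * (a * w) + a ^ 2 * C := by
  induction n with
  | zero => exact ⟨0, by simp⟩
  | succ n ih =>
    obtain ⟨C, hC⟩ := ih
    obtain ⟨c, hc⟩ := pow_expand a w n
    refine ⟨C + c, ?_⟩
    rw [Finset.sum_range_succ, Finset.sum_range_succ, hC, hc]; push_cast; ring

theorem prime_case (p : ℕ) [Fact p.Prime] (hp : p ≠ 2)
    (k : Type u) [Field k] [CharP k p] [PerfectRing k p]
    (x : WittVector p k) (ℓ : ℕ) (hℓ : ℓ.Prime) (hx : x ^ ℓ = 1) (h0 : x.coeff 0 = 1) : x = 1 := by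
  have hgeom := geom_sum_mul x ℓ
  rw [hx, sub_self] at hgeom
  rcases mul_eq_zero.1 hgeom with h | h
  swap
  · exact sub_eq_zero.1 h
  exfalso
  have hc := congrArg (WittVector.constantCoeff (p := p) (R := k)) h
  rw [map_sum, map_zero] at hc
  simp only [map_pow, WittVector.constantCoeff_apply, h0, one_pow, Finset.sum_const,
    Finset.card_range, nsmul_eq_mul, mul_one] at hc
  have hpl : p ∣ ℓ := (CharP.cast_eq_zero_iff k p ℓ).1 hc
  have hlp : ℓ = p := ((Nat.prime_dvd_prime_iff_eq Fact.out hℓ).1 hpl).symm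
  subst hlp
  have hmem : x - 1 ∈ Ideal.span {(ℓ : WittVector ℓ k)} := by
    rw [WittVector.mem_span_p_iff_coeff_zero_eq_zero]
    have := map_sub (WittVector.constantCoeff (p := ℓ) (R := k)) x 1
    simp only [WittVector.constantCoeff_apply, h0, map_one, sub_self] at this
    exact this
  obtain ⟨w, hw⟩ := Ideal.mem_span_singleton.1 hmem
  have hx' : x = 1 + (ℓ : WittVector ℓ k) * w := by rw [← hw]; ring
  obtain ⟨C, hC⟩ := geom_expand (ℓ : WittVector ℓ k) w ℓ
  rw [← hx', h] at hC
  obtain ⟨q, hq⟩ : ∃ q, ℓ = 2 * q + 1 := by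
    rcases hℓ.eq_two_or_odd' with h2 | ⟨q, hq⟩
    · exact absurd h2 hp
    · exact ⟨q, hq⟩
  have hsum : (∑ i ∈ Finset.range ℓ, i : ℕ) = ℓ * q := by
    have h2 := Finset.sum_range_id_mul_two ℓ
    have : ℓ * (ℓ - 1) = (ℓ * q) * 2 := by
      have : ℓ - 1 = 2 * q := by omega
      rw [this]; ring
    rw [this] at h2
    exact Nat.eq_of_mul_eq_mul_right two_pos h2
  rw [hsum] at hC
  have hfac : (ℓ : WittVector ℓ k) * (1 + (ℓ : WittVector ℓ k) * (q * w + C)) = 0 := by
    rw [hC]; push_cast; ring
  rcases mul_eq_zero.1 hfac with h1 | h1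
  · exact WittVector.p_nonzero ℓ k h1
  · have hc2 := congrArg (WittVector.constantCoeff (p := ℓ) (R := k)) h1
    simp only [map_add, map_one, map_mul, map_natCast, CharP.cast_eq_zero, zero_mul, add_zero,
      map_zero] at hc2
    exact one_ne_zero hc2

/-- For an odd prime p and a perfect field k of characteristic p, a root of unity in the ring of Witt
vectors W(k) whose residue in k is 1 is itself 1: if x ^ n = 1 with n ≥ 1 and the zeroth Witt
component of x is 1, then x = 1. (For p = 2 this fails: -1 in W(F_2).) -/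
theorem result (p : ℕ) [Fact p.Prime] (hp : p ≠ 2)
    (k : Type u) [Field k] [CharP k p] [PerfectRing k p]
    (x : WittVector p k) (n : ℕ) (hn : 0 < n) (hx : x ^ n = 1) (h0 : x.coeff 0 = 1) : x = 1 := by
  induction n using Nat.strong_induction_on generalizing x with
  | _ n ih =>
    rcases Nat.lt_or_ge 1 n with h1 | h1
    swap
    · have : n = 1 := by omega
      subst this
      simpa using hx
    obtain ⟨m, hm⟩ := Nat.minFac_dvd n
    have hℓ : (n.minFac).Prime := Nat.minFac_prime (by omega)
    have hm0 : 0 < m := Nat.pos_of_ne_zero (fun h => by rw [h, mul_zero] at hm; omega)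
    have hmn : m < n := by
      have := hℓ.two_le
      nlinarith
    have hxl : (x ^ n.minFac) ^ m = 1 := by rw [← pow_mul, ← hm]; exact hx
    have h0l : (x ^ n.minFac).coeff 0 = 1 := by
      have := map_pow (WittVector.constantCoeff (p := p) (R := k)) x n.minFac
      simp only [WittVector.constantCoeff_apply, h0, one_pow] at this
      exact this
    have := ih m hmn (x ^ n.minFac) hm0 hxl h0l
    exact prime_case p hp k x n.minFac hℓ this h0

end Groth.Agent.S16356
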