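import Groth.Statements.S16357
-- import your own Groth.Agent.* helpers here
import Mathlib

set_option autoImplicit false
universe u
open OrdAV

namespace Groth.Agent.S16357

/-- Over a field L of characteristic zero, a monic polynomial h whose square has rational coefficients
has rational coefficients itself. -/
theorem result (L : Type u) [Field L] [CharZero L]
    (h : Polynomial L) (hm : h.Monic) (f : Polynomial ℚ)
    (hf : h ^ 2 = Polynomial.map (algebraMap ℚ L) f) :
    ∃ g : Polynomial ℚ, Polynomial.map (algebraMap ℚ L) g = h := by
  classical
  set K : Subfield L := (algebraMap ℚ L).fieldRange with hK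
  have hfK : ∀ i, (h ^ 2).coeff i ∈ K := by
    intro i
    rw [hf, Polynomial.coeff_map]
    exact ⟨_, rfl⟩
  set n := h.natDegree with hn
  have key : ∀ j i, i + j = n → h.coeff i ∈ K := by
    intro j
    induction j using Nat.strong_induction_on with
    | _ j ih =>
      intro i hij
      rcases Nat.eq_zero_or_pos j with hj | hj
      · have : i = n := by omega
        rw [this, hn, hm.coeff_natDegree]; exact K.one_mem
      have hlt : i < n := by omega
      have hcoef : ∀ a, i < a → h.coeff a ∈ K := by
        intro a ha
        rcases Nat.lt_or_ge n a with h1 | h1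
        · rw [Polynomial.coeff_eq_zero_of_natDegree_lt h1]; exact K.zero_mem
        · exact ih (n - a) (by omega) a (by omega)
      have h1 := hfK (n + i)
      rw [pow_two, Polynomial.coeff_mul] at h1
      have hmem1 : (n, i) ∈ Finset.HasAntidiagonal.antidiagonal (n + i) := by simp
      have hmem2 : (i, n) ∈ (Finset.HasAntidiagonal.antidiagonal (n + i)).erase (n, i) := by
        rw [Finset.mem_erase]
        refine ⟨fun h => ?_, by simp [add_comm]⟩
        have := congrArg Prod.fst h
        simp at this; omega
      rw [← Finset.add_sum_erase _ _ hmem1, ← Finset.add_sum_erase _ _ hmem2] at h1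
      have hrest : ∑ x ∈ ((Finset.HasAntidiagonal.antidiagonal (n + i)).erase (n, i)).erase (i, n),
          h.coeff x.1 * h.coeff x.2 ∈ K := by
        refine K.sum_mem (fun x hx => ?_)
        rw [Finset.mem_erase, Finset.mem_erase, Finset.HasAntidiagonal.mem_antidiagonal] at hx
        obtain ⟨hx1, hx2, hx3⟩ := hx
        rcases Nat.lt_or_ge n x.1 with h2 | h2
        · rw [Polynomial.coeff_eq_zero_of_natDegree_lt h2, zero_mul]; exact K.zero_mem
        rcases Nat.lt_or_ge n x.2 with h3 | h3
        · rw [Polynomial.coeff_eq_zero_of_natDegree_lt h3, mul_zero]; exact K.zero_mem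
        have h4 : x.1 ≠ n := by
          intro h4
          apply hx2
          ext
          · exact h4
          · simp only; omega
        have h5 : x.2 ≠ n := by
          intro h5
          apply hx1
          ext
          · simp only; omega
          · exact h5
        exact K.mul_mem (hcoef _ (by omega)) (hcoef _ (by omega))
      rw [hn, hm.coeff_natDegree, one_mul, mul_one, ← add_assoc] at h1
      have h6 : h.coeff i + h.coeff i ∈ K := by
        have := K.sub_mem h1 hrest
        rwa [add_sub_cancel_right] at this
      have h7 : h.coeff i = (2 : L)⁻¹ * (h.coeff i + h.coeff i) := by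
        field_simp; ring
      rw [h7]
      exact K.mul_mem (K.inv_mem (by
        have : (2 : L) = algebraMap ℚ L 2 := by simp
        rw [this]; exact ⟨_, rfl⟩)) h6
  have hall : ∀ i, h.coeff i ∈ Set.range (algebraMap ℚ L) := by
    intro i
    rcases Nat.lt_or_ge n i with h1 | h1
    · rw [Polynomial.coeff_eq_zero_of_natDegree_lt h1]; exact ⟨0, map_zero _⟩
    · exact key (n - i) i (by omega)
  have := (Polynomial.lifts_iff_coeff_lifts h).2 hall
  exact (Polynomial.mem_lifts h).1 this

end Groth.Agent.S16357
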