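import Groth.Statements.S16358
-- import your own Groth.Agent.* helpers here
import Mathlib

set_option autoImplicit false
universe u v w
open OrdAV

namespace Groth.Agent.S16358

/-- Let k be a perfect field of characteristic p > 0 and W = W(k); let M be a finitely generated free
W-module on which a finite group G acts W-linearly, with invariant submodule M^G. Then the map
(W/pW) ⊗ M^G → (W/pW) ⊗ M induced by the inclusion is injective. Since M^G is free, this implies
rank_W M^G ≤ dim_k (M/pM)^G; the published statement is that inequality, and this row states the
stronger injectivity. -/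
theorem result (p : ℕ) [Fact p.Prime]
    (k : Type u) [Field k] [CharP k p] [PerfectRing k p]
    (M : Type v) [AddCommGroup M] [Module (WittVector p k) M]
    [Module.Free (WittVector p k) M] [Module.Finite (WittVector p k) M]
    (G : Type w) [Group G] [Finite G] (ρ : Representation (WittVector p k) G M) :
    Function.Injective
      (LinearMap.lTensor (WittVector p k ⧸ Ideal.span {(p : WittVector p k)}) ρ.invariants.subtype) := by
  classical
  set N : Submodule (WittVector p k) M := ρ.invariants with hN
  haveI : Module.Flat (WittVector p k) (M ⧸ N) := by
    rw [Module.Flat.flat_iff_torsion_eq_bot_of_isBezout]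
    rw [eq_bot_iff]
    intro x hx
    obtain ⟨m, rfl⟩ := N.mkQ_surjective x
    rw [Submodule.mem_torsion_iff] at hx
    obtain ⟨a, ha⟩ := hx
    rw [Submodule.mem_bot, Submodule.mkQ_apply, Submodule.Quotient.mk_eq_zero]
    rw [Submodule.mkQ_apply, ← Submodule.Quotient.mk_smul, Submodule.Quotient.mk_eq_zero] at ha
    rw [hN, Representation.mem_invariants] at ha ⊢
    intro g
    have h1 := ha g
    have ha0 : (a : WittVector p k) ≠ 0 := nonZeroDivisors.ne_zero a.2
    have h2 : (a : WittVector p k) • (ρ g m - m) = 0 := by
      rw [smul_sub, ← map_smul]
      exact sub_eq_zero.2 h1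
    have h3 := (smul_eq_zero.1 h2).resolve_left ha0
    exact sub_eq_zero.1 h3
  exact LinearMap.lTensor_injective_of_exact_of_flat N.mkQ N.mkQ_surjective N.subtype
    N.injective_subtype (LinearMap.exact_subtype_mkQ N) _

end Groth.Agent.S16358
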