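import Groth.Statements.S16360
import Groth.Agent.Lib.Helper27.PfF
import Groth.Agent.Lib.Helper8.Hzl.IntegralHens

set_option autoImplicit false
universe u
open Hensel

namespace Groth.Agent.S16360

/-- Let R be a discrete valuation ring that is Henselian and excellent, write k for its residue field
and p for the characteristic exponent of k. There is a Henselian discrete valuation ring R' and an
injective ring map R → R' such that the maximal ideal of R generates that of R' (so a uniformizer of
R is a uniformizer of R'), R' is the directed union of R-subalgebras that are finite free R-modules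
of rank a power of p, and the residue field k' of R' is a perfect closure of k: every element of k'
is a p-th power in k', and some p-power-th power of it lies in the image of k. (The published
statement also asserts that R' is excellent; that is not asserted here.) -/
theorem result (R : Type u) [CommRing R] [IsDomain R]
    [IsDiscreteValuationRing R] [HenselianLocalRing R] (hR : EGA4.IsExcellent R) :
    ∃ (R' : Type u) (_ : CommRing R') (_ : IsDomain R') (_ : IsDiscreteValuationRing R')
      (_ : HenselianLocalRing R') (_ : Algebra R R'),
      Function.Injective (algebraMap R R') ∧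
      Ideal.map (algebraMap R R') (IsLocalRing.maximalIdeal R) = IsLocalRing.maximalIdeal R' ∧
      (∀ s : Finset R', ∃ S : Subalgebra R R', (↑s : Set R') ⊆ ↑S ∧ Module.Finite R S ∧ Module.Free R S ∧
        ∃ m : ℕ, Module.finrank R S = ringExpChar (IsLocalRing.ResidueField R) ^ m) ∧
      (∀ y : R', ∃ z : R', z ^ ringExpChar (IsLocalRing.ResidueField R) - y ∈ IsLocalRing.maximalIdeal R') ∧
      (∀ y : R', ∃ (m : ℕ) (z : R),
        algebraMap R R' z - y ^ (ringExpChar (IsLocalRing.ResidueField R) ^ m) ∈ IsLocalRing.maximalIdeal R') := by
  classical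
  generalize hq : ringExpChar (IsLocalRing.ResidueField R) = q
  have hexp : ExpChar (IsLocalRing.ResidueField R) q := ringExpChar.of_eq hq
  obtain ⟨π, hπ⟩ := IsDiscreteValuationRing.exists_irreducible R
  rcases hexp with _ | ⟨hprime⟩
  · -- characteristic zero: `R' = R`
    refine ⟨R, inferInstance, inferInstance, inferInstance, inferInstance, Algebra.id R,
      Function.injective_id, ?_, ?_, ?_, ?_⟩
    · rw [Algebra.algebraMap_self, Ideal.map_id]
    · intro s
      refine ⟨⊥, ?_, inferInstance, inferInstance, 0, ?_⟩
      · intro x _
        exact Algebra.mem_bot.2 ⟨x, rfl⟩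
      · rw [pow_zero]; exact Subalgebra.finrank_bot
    · intro y
      exact ⟨y, by rw [pow_one, sub_self]; exact zero_mem _⟩
    · intro y
      exact ⟨0, y, by rw [pow_zero, pow_one, Algebra.algebraMap_self, RingHom.id_apply, sub_self]; exact zero_mem _⟩
  · -- residue characteristic `q` prime
    have hπq : π ∣ (q : R) := by
      have h1 : (q : R) ∈ IsLocalRing.maximalIdeal R := by
        rw [← IsLocalRing.residue_eq_zero_iff, map_natCast]
        exact CharP.cast_eq_zero _ q
      rwa [hπ.maximalIdeal_eq, Ideal.mem_span_singleton] at h1
    have hinj : Function.Injective (algebraMap R (AlgebraicClosure (FractionRing R))) := by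
      rw [IsScalarTower.algebraMap_eq R (FractionRing R) (AlgebraicClosure (FractionRing R))]
      exact (algebraMap (FractionRing R) (AlgebraicClosure (FractionRing R))).injective.comp
        (IsFractionRing.injective R (FractionRing R))
    haveI : FaithfulSMul R (AlgebraicClosure (FractionRing R)) :=
      (faithfulSMul_iff_algebraMap_injective R _).2 hinj
    obtain ⟨S, hS, hmax⟩ := Groth.Agent.Lib.Helper27.PfF.exists_maximal_good
      (L := AlgebraicClosure (FractionRing R)) hπ hprime hπq
      (fun y => IsAlgClosed.exists_pow_nat_eq y hprime.pos)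
    have hpv := hS.piVal
    haveI hdvr : IsDiscreteValuationRing S := hpv.isDVR hπ.ne_zero
    have hπS : Irreducible (algebraMap R S π) := hpv.irreducible hπ.ne_zero
    haveI : Algebra.IsIntegral R S := by
      refine ⟨fun y => ?_⟩
      obtain ⟨N, hNS, hyN, hfin, -, -⟩ := hS.1 {(y : AlgebraicClosure (FractionRing R))}
        (by simpa using y.2)
      have h1 : IsIntegral R (y : AlgebraicClosure (FractionRing R)) :=
        IsIntegral.of_mem_of_fg N (Module.Finite.iff_fg.1 hfin) _ (hyN (by simp))
      exact (isIntegral_algebraMap_iff (A := S) (B := AlgebraicClosure (FractionRing R))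
        Subtype.val_injective).1 h1
    haveI : HenselianLocalRing S :=
      Groth.Agent.Lib.Helper8.Hzl.henselianLocalRing_of_isIntegral R S
    have hmaxS : IsLocalRing.maximalIdeal S = Ideal.span {algebraMap R S π} :=
      hπS.maximalIdeal_eq
    refine ⟨S, inferInstance, inferInstance, hdvr, inferInstance, inferInstance, ?_, ?_, ?_, ?_, ?_⟩
    · intro a b hab
      apply hinj
      exact congrArg (fun z : S => (z : AlgebraicClosure (FractionRing R))) hab
    · rw [hπ.maximalIdeal_eq, Ideal.map_span, Set.image_singleton, hmaxS]
    · intro s
      obtain ⟨N, hNS, hsN, hfin, -, m, hm⟩ := hS.1 (s.image Subtype.val) (by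
        intro x hx
        rw [Finset.coe_image] at hx
        obtain ⟨x', -, rfl⟩ := hx
        exact x'.2)
      haveI := hfin
      let e : N ≃ₐ[R] (Subalgebra.inclusion hNS).range :=
        AlgEquiv.ofInjective _ (Subalgebra.inclusion_injective hNS)
      refine ⟨(Subalgebra.inclusion hNS).range, ?_, Module.Finite.equiv e.toLinearEquiv,
        Module.Free.of_equiv e.toLinearEquiv, m, ?_⟩
      · intro x hx
        have hxN : (x : AlgebraicClosure (FractionRing R)) ∈ N := by
          apply hsN
          rw [Finset.coe_image]
          exact ⟨x, hx, rfl⟩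
        exact ⟨⟨x, hxN⟩, rfl⟩
      · rw [← e.toLinearEquiv.finrank_eq, hm]
    · intro y
      obtain ⟨z, hz, w, hw, h⟩ := hmax y y.2
      refine ⟨⟨z, hz⟩, ?_⟩
      rw [hmaxS, Ideal.mem_span_singleton]
      exact ⟨⟨w, hw⟩, Subtype.ext h⟩
    · intro y
      obtain ⟨m, z, hdvd⟩ := hS.2 y
      refine ⟨m, z, ?_⟩
      rw [hmaxS, Ideal.mem_span_singleton]
      exact (dvd_sub_comm).1 hdvd

end Groth.Agent.S16360
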