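import Groth.Statements.S16362
-- import your own Groth.Agent.* helpers here
import Mathlib

set_option autoImplicit false
universe u
open MovLem

namespace Groth.Agent.S16362

/-- Let A be a commutative ring, p a prime ideal of A, and ζ, u elements of A with u not in p. Then the
quotient of the classes of ζ and u in the fraction field of the domain A ⧸ p is integral over A ⧸ p
if and only if there exist a natural number N and elements a_1, …, a_N of A such that ζ^N + a_1
ζ^(N-1) u + ⋯ + a_N u^N lies in p; equivalently, some binary form of degree N with coefficients in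
A, monic in the first variable, evaluated at (ζ, u), lies in p. -/
theorem result
    {A : Type u} [CommRing A] (p : Ideal A) [p.IsPrime] (ζ u : A) (hu : u ∉ p) :
    IsIntegral (A ⧸ p)
        (algebraMap (A ⧸ p) (FractionRing (A ⧸ p)) (Ideal.Quotient.mk p ζ) /
          algebraMap (A ⧸ p) (FractionRing (A ⧸ p)) (Ideal.Quotient.mk p u)) ↔
      ∃ (N : ℕ) (a : ℕ → A),
        ζ ^ N + ∑ i ∈ Finset.Icc 1 N, a i * ζ ^ (N - i) * u ^ i ∈ p := by
  classical
  set R := A ⧸ p with hR
  set K := FractionRing R with hK
  have hinj : Function.Injective (algebraMap R K) := IsFractionRing.injective R K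
  set z : R := Ideal.Quotient.mk p ζ with hz
  set w : R := Ideal.Quotient.mk p u with hw
  have hw0 : w ≠ 0 := by
    rw [hw, Ne, Ideal.Quotient.eq_zero_iff_mem]; exact hu
  have hιw : algebraMap R K w ≠ 0 := fun h => hw0 (hinj (by rw [h, map_zero]))
  set Z : K := algebraMap R K z / algebraMap R K w with hZ
  have hwZ : algebraMap R K w * Z = algebraMap R K z := by
    rw [hZ, mul_comm, div_mul_cancel₀ _ hιw]
  -- key scaling identity
  have hscale : ∀ N i : ℕ, i ≤ N → (algebraMap R K w) ^ N * Z ^ (N - i) =
      (algebraMap R K w) ^ i * (algebraMap R K z) ^ (N - i) := by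
    intro N i hi
    obtain ⟨k, rfl⟩ : ∃ k, N = i + k := ⟨N - i, by omega⟩
    rw [Nat.add_sub_cancel_left, pow_add, mul_assoc, ← mul_pow, hwZ]
  constructor
  · intro hint
    obtain ⟨P, hPm, hP0⟩ := hint
    rw [← Polynomial.aeval_def, Polynomial.aeval_eq_sum_range] at hP0
    set N := P.natDegree with hN
    -- multiply by w^N
    have h1 : ∑ j ∈ Finset.range (N + 1),
        algebraMap R K (P.coeff j * z ^ j * w ^ (N - j)) = 0 := by
      have h2 : (algebraMap R K w) ^ N *
          ∑ i ∈ Finset.range (N + 1), P.coeff i • Z ^ i = 0 := by rw [hP0, mul_zero]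
      rw [Finset.mul_sum] at h2
      rw [← h2]
      refine Finset.sum_congr rfl (fun j hj => ?_)
      have hj' : j ≤ N := Nat.lt_succ_iff.1 (Finset.mem_range.1 hj)
      have h3 := hscale N (N - j) (Nat.sub_le _ _)
      have h4 : N - (N - j) = j := by omega
      rw [h4] at h3
      rw [Algebra.smul_def, map_mul, map_mul, map_pow, map_pow, mul_left_comm, h3]
      ring
    rw [← map_sum] at h1
    have h5 : ∑ j ∈ Finset.range (N + 1), P.coeff j * z ^ j * w ^ (N - j) = 0 :=
      hinj (by rw [h1, map_zero])
    choose a' ha' using fun j : ℕ => Ideal.Quotient.mk_surjective (I := p) (P.coeff j)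
    refine ⟨N, fun i => a' (N - i), ?_⟩
    rw [← Ideal.Quotient.eq_zero_iff_mem, map_add, map_pow, map_sum]
    rw [Finset.sum_range_succ, hN, hPm.coeff_natDegree, ← hN, Nat.sub_self, pow_zero, mul_one,
      one_mul, add_comm] at h5
    rw [← h5]
    congr 1
    refine Finset.sum_nbij' (fun i => N - i) (fun j => N - j) ?_ ?_ ?_ ?_ ?_
    · intro i hi
      rw [Finset.mem_Icc] at hi
      rw [Finset.mem_range]; omega
    · intro j hj
      rw [Finset.mem_range] at hj
      rw [Finset.mem_Icc]; omega
    · intro i hi
      rw [Finset.mem_Icc] at hi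
      omega
    · intro j hj
      rw [Finset.mem_range] at hj
      omega
    · intro i hi
      rw [Finset.mem_Icc] at hi
      have : N - (N - i) = i := by omega
      rw [this, map_mul, map_mul, map_pow, map_pow, ha']
  · rintro ⟨N, a, hE⟩
    rw [← Ideal.Quotient.eq_zero_iff_mem, map_add, map_pow, map_sum] at hE
    set Q : Polynomial R := ∑ i ∈ Finset.Icc 1 N,
      Polynomial.C (Ideal.Quotient.mk p (a i)) * Polynomial.X ^ (N - i) with hQ
    have hQdeg : Q.degree < N := by
      refine (Polynomial.degree_sum_le _ _).trans_lt ?_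
      refine (Finset.sup_lt_iff (WithBot.bot_lt_coe N)).2 ?_
      intro i hi
      rw [Finset.mem_Icc] at hi
      refine (Polynomial.degree_C_mul_X_pow_le _ _).trans_lt ?_
      exact WithBot.coe_lt_coe.2 (by omega : N - i < N)
    refine ⟨Polynomial.X ^ N + Q, Polynomial.monic_X_pow_add hQdeg, ?_⟩
    rw [← Polynomial.aeval_def, map_add, map_pow, Polynomial.aeval_X, hQ, map_sum]
    have hne : (algebraMap R K w) ^ N ≠ 0 := pow_ne_zero _ hιw
    apply mul_left_cancel₀ hne
    rw [mul_zero, mul_add, Finset.mul_sum]
    have h0 := hscale N 0 (Nat.zero_le _)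
    rw [Nat.sub_zero, pow_zero, one_mul] at h0
    rw [h0]
    have h6 := congrArg (algebraMap R K) hE
    rw [map_zero, map_add, map_pow, map_sum] at h6
    rw [← h6]
    congr 1
    refine Finset.sum_congr rfl (fun i hi => ?_)
    rw [Finset.mem_Icc] at hi
    have e1 : (Polynomial.aeval Z) (Polynomial.C (Ideal.Quotient.mk p (a i)) *
        Polynomial.X ^ (N - i)) = algebraMap R K (Ideal.Quotient.mk p (a i)) * Z ^ (N - i) := by
      rw [map_mul, map_pow, Polynomial.aeval_C, Polynomial.aeval_X]
    have e2 : algebraMap R K (Ideal.Quotient.mk p (a i * ζ ^ (N - i) * u ^ i)) =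
        algebraMap R K (Ideal.Quotient.mk p (a i)) * (algebraMap R K z) ^ (N - i) *
          (algebraMap R K w) ^ i := by
      simp only [map_mul, map_pow, hz, hw]
    rw [e1, e2, mul_left_comm, hscale N i hi.2]
    ring

end Groth.Agent.S16362
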