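import Groth.Statements.S16366
-- import your own Groth.Agent.* helpers here
import Mathlib
import Groth.Agent.Lib.Helper22.SmMapD
import Groth.Agent.Lib.Helper22.SmMapE

set_option autoImplicit false
universe u
open CategoryTheory Limits Opposite
open MovLem

namespace Groth.Agent.S16366

open AlgebraicGeometry in
/-- Let k be an infinite field, X a scheme of finite type over k and u a global function on X such that
the open subscheme X_u where u is invertible is smooth over k. Let x be a point of X at which u is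
not invertible, and let x'_1, …, x'_n be finitely many points of X_u, each of which specializes to
x. Then there exist an open neighbourhood X' of x, a unit e among the functions on X', and the
k-morphism g : X' → A^1_k = Spec k[T] whose pulled-back coordinate T is e·u restricted to X', such
that g is smooth on some open neighbourhood of each x'_i. (Equivalently: after shrinking X around x,
the equation u of the principal divisor D = (u) is replaced by another equation e·u of the same
divisor that is smooth at the chosen points. The published statement takes D an effective Cartier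
divisor, i.e. u a non-zero-divisor; that is not assumed here, and the argument does not need it.) -/
theorem result
    {k : Type u} [Field k] [Infinite k]
    (X : Scheme.{u}) (f : X ⟶ Spec (CommRingCat.of k)) [LocallyOfFiniteType f] [QuasiCompact f]
    (u : Γ(X, ⊤)) [Smooth ((X.basicOpen u).ι ≫ f)]
    (x : ↥X) (hx : x ∉ X.basicOpen u)
    {ι : Type} [Finite ι] (x' : ι → ↥X) (hx' : ∀ i, x' i ∈ X.basicOpen u) (hgen : ∀ i, x' i ⤳ x) :
    ∃ (X' : X.Opens) (e : Γ(X, X')) (g : (↑X' : Scheme.{u}) ⟶ Spec (CommRingCat.of (Polynomial k))),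
      x ∈ X' ∧ IsUnit e ∧
      g ≫ Spec.map (CommRingCat.ofHom (Polynomial.C : k →+* Polynomial k)) = X'.ι ≫ f ∧
      X'.topIso.hom (g.appTop ((Scheme.ΓSpecIso (CommRingCat.of (Polynomial k))).inv Polynomial.X)) =
        e * X.presheaf.map (homOfLE le_top).op u ∧
      ∀ i, ∃ (W : X.Opens) (hW : W ≤ X'), x' i ∈ W ∧ Smooth (X.homOfLE hW ≫ g) := by
  classical
  haveI : IsNoetherianRing (CommRingCat.of k) := inferInstanceAs (IsNoetherianRing k)
  haveI : IsNoetherianRing (CommRingCat.of (Polynomial k)) :=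
    inferInstanceAs (IsNoetherianRing (Polynomial k))
  haveI : LocallyOfFinitePresentation f := inferInstance
  obtain ⟨U, hU, hxU, -⟩ := exists_isAffineOpen_mem_and_subset (x := x) (U := ⊤) trivial
  let v : Γ(X, U) := X.presheaf.map (homOfLE le_top).op u
  have hDv : X.basicOpen v = U ⊓ X.basicOpen u := Scheme.basicOpen_res X u _
  have hxv : x ∉ X.basicOpen v := fun h => hx (by rw [hDv] at h; exact h.2)
  have hyU : ∀ i, x' i ∈ U := fun i => (hgen i).mem_open U.2 hxU
  have hyv : ∀ i, x' i ∈ X.basicOpen v := fun i => by rw [hDv]; exact ⟨hyU i, hx' i⟩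
  have hsm : ∀ i, x' i ∈ f.smoothLocus := by
    intro i
    have h1 : ((X.basicOpen u).ι ≫ f).smoothLocus = ⊤ := Scheme.Hom.smoothLocus_eq_top _
    have h2 := Scheme.Hom.preimage_smoothLocus_eq (X.basicOpen u).ι f
    have h3 : (⟨x' i, hx' i⟩ : ↑(X.basicOpen u)) ∈ (X.basicOpen u).ι ⁻¹ᵁ f.smoothLocus := by
      rw [h2, h1]; trivial
    exact h3
  obtain ⟨e₀, hxe, hD⟩ := Groth.Agent.Lib.Helper22.SmMap.exists_section f hU v x hxU hxv x' hyv hgen
  let X' : X.Opens := X.basicOpen e₀
  have hX'U : X' ≤ U := X.basicOpen_le e₀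
  let e : Γ(X, X') := X.presheaf.map (homOfLE hX'U).op e₀
  have he : IsUnit e := RingedSpace.isUnit_res_basicOpen X.toRingedSpace e₀
  let w : Γ(X, X') := X.presheaf.map (homOfLE le_top).op u
  let φ₀ : k →+* Γ(↑X', ⊤) :=
    ((Scheme.ΓSpecIso (CommRingCat.of k)).inv ≫ f.appTop ≫ X'.ι.appTop).hom
  let φ' : Polynomial k →+* Γ(↑X', ⊤) :=
    Polynomial.eval₂RingHom φ₀ (X'.topIso.inv.hom (e * w))
  obtain ⟨g, hgdef⟩ : ∃ g : (↑X' : Scheme.{u}) ⟶ Spec (CommRingCat.of (Polynomial k)),
      g = (↑X' : Scheme.{u}).toSpecΓ ≫ Spec.map (CommRingCat.ofHom φ') := ⟨_, rfl⟩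
  have hgappTop : (Scheme.ΓSpecIso (CommRingCat.of (Polynomial k))).inv ≫ g.appTop =
      CommRingCat.ofHom φ' := by
    rw [hgdef, Scheme.Hom.comp_appTop, Scheme.toSpecΓ_appTop, ← Category.assoc,
      ← Scheme.ΓSpecIso_inv_naturality, Category.assoc, Iso.inv_hom_id, Category.comp_id]
    rfl
  have hg : g ≫ Spec.map (CommRingCat.ofHom (Polynomial.C : k →+* Polynomial k)) = X'.ι ≫ f := by
    apply ext_of_isAffine
    rw [Scheme.Hom.comp_appTop, Scheme.Hom.comp_appTop]
    rw [← cancel_epi (Scheme.ΓSpecIso (CommRingCat.of k)).inv, ← Category.assoc,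
      ← Scheme.ΓSpecIso_inv_naturality, Category.assoc, hgappTop]
    ext a
    show φ' (Polynomial.C a) = φ₀ a
    exact Polynomial.eval₂_C _ _
  have hcoord : X'.topIso.hom (g.appTop
      ((Scheme.ΓSpecIso (CommRingCat.of (Polynomial k))).inv Polynomial.X)) = e * w := by
    have h1 := congrArg (fun φ => φ.hom Polynomial.X) hgappTop
    have h2 : g.appTop ((Scheme.ΓSpecIso (CommRingCat.of (Polynomial k))).inv Polynomial.X) =
        φ' Polynomial.X := h1
    rw [h2]
    show X'.topIso.hom.hom (Polynomial.eval₂ φ₀ (X'.topIso.inv.hom (e * w)) Polynomial.X) = _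
    rw [Polynomial.eval₂_X]
    exact X'.topIso.inv_hom_id_apply (e * w)
  refine ⟨X', e, g, hxe, he, hg, hcoord, fun i => ?_⟩
  have hyX' : x' i ∈ X' := (hgen i).mem_open X'.2 hxe
  haveI : LocallyOfFiniteType (g ≫ Spec.map (CommRingCat.ofHom
      (Polynomial.C : k →+* Polynomial k))) := by rw [hg]; infer_instance
  haveI : LocallyOfFiniteType g := locallyOfFiniteType_of_comp g
    (Spec.map (CommRingCat.ofHom (Polynomial.C : k →+* Polynomial k)))
  haveI : LocallyOfFinitePresentation g := inferInstance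
  have hmem : (⟨x' i, hyX'⟩ : ↑X') ∈ g.smoothLocus := by
    refine Groth.Agent.Lib.Helper22.SmMap.mem_smoothLocus_of_tmul_D_ne_zero f X' g hg (x' i) hyX'
      (hsm i) ?_
    have hew : e * w = X.presheaf.map (homOfLE hX'U).op (e₀ * v) := by
      rw [map_mul]
      congr 1
      show _ = (X.presheaf.map (homOfLE hX'U).op).hom ((X.presheaf.map (homOfLE le_top).op).hom u)
      rw [← CommRingCat.comp_apply, ← X.presheaf.map_comp]
      rfl
    have key : (X.presheaf.germ X' (x' i) hyX').hom (X'.topIso.hom.hom (g.appTop.hom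
        ((Scheme.ΓSpecIso (CommRingCat.of (Polynomial k))).inv.hom Polynomial.X))) =
        (X.presheaf.germ U (x' i) (X.basicOpen_le v (hyv i))).hom (e₀ * v) := by
      have h3 : X'.topIso.hom.hom (g.appTop.hom
        ((Scheme.ΓSpecIso (CommRingCat.of (Polynomial k))).inv.hom Polynomial.X)) = e * w := hcoord
      rw [h3, hew]
      exact X.presheaf.germ_res_apply _ _ _ _
    rw [key]
    exact hD i
  refine ⟨X'.ι ''ᵁ g.smoothLocus, ?_, ⟨⟨x' i, hyX'⟩, hmem, rfl⟩, ?_⟩
  · exact X'.ι_image_le _
  · rw [← Scheme.Hom.smoothLocus_eq_top_iff, ← Scheme.Hom.preimage_smoothLocus_eq]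
    ext w
    refine ⟨fun _ => trivial, fun _ => ?_⟩
    show (X.homOfLE (X'.ι_image_le g.smoothLocus)) w ∈ g.smoothLocus
    obtain ⟨z, hz, hzw⟩ := w.2
    have hwz : (X.homOfLE (X'.ι_image_le g.smoothLocus)) w = z := by
      apply X'.ι.isOpenEmbedding.injective
      rw [← Scheme.Hom.comp_apply, Scheme.homOfLE_ι]
      exact hzw.symm
    rw [hwz]
    exact hz

end Groth.Agent.S16366
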