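import Groth.Statements.S16367
import Mathlib

set_option autoImplicit false
universe u
open MovLem

namespace Groth.Agent.S16367


theorem lemA {R : Type*} [CommRing R] {M : Type*} (X Uc : R) (N s : ℕ) (hs : N ≤ s) (d : ℕ)
    (a b : Fin d → R) (S : Finset M) (T W : M → R) (μ : M → Fin d → ℕ)
    (hμ : ∀ m ∈ S, ∑ i, μ m i ≤ N) :
    ∃ ψ : R, (∑ m ∈ S, T m * X ^ (N - ∑ i, μ m i) *
        (∏ i, (X * a i + Uc ^ s * b i) ^ μ m i) * W m) =
      X ^ N * (∑ m ∈ S, T m * (∏ i, a i ^ μ m i) * W m) + Uc ^ N * ψ ∧ (N = 0 → ψ = 0) := by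
  have hm : ∀ m ∈ S, ∃ q : R, ((∏ i, (X * a i + Uc ^ s * b i) ^ μ m i) =
      X ^ (∑ i, μ m i) * (∏ i, a i ^ μ m i) + Uc ^ N * q) ∧ (N = 0 → q = 0) := by
    intro m hmS
    rcases Nat.eq_zero_or_pos N with hN | hN
    · refine ⟨0, ?_, fun _ => rfl⟩
      have h0 : ∀ i, μ m i = 0 := by
        intro i
        have h1 := hμ m hmS
        rw [hN] at h1
        have h2 : μ m i ≤ ∑ i, μ m i :=
          Finset.single_le_sum (fun _ _ => Nat.zero_le _) (Finset.mem_univ i)
        omega
      simp only [h0, pow_zero, Finset.prod_const_one, Finset.sum_const_zero, mul_one, mul_zero,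
        add_zero]
    · have hmem : (∏ i, (X * a i + Uc ^ s * b i) ^ μ m i) -
          X ^ (∑ i, μ m i) * (∏ i, a i ^ μ m i) ∈ Ideal.span {Uc ^ N} := by
        rw [← Ideal.Quotient.eq]
        have hb : ∀ i, Ideal.Quotient.mk (Ideal.span {Uc ^ N}) (Uc ^ s * b i) = 0 := by
          intro i
          rw [Ideal.Quotient.eq_zero_iff_mem]
          have : Uc ^ s * b i = Uc ^ N * (Uc ^ (s - N) * b i) := by
            rw [← mul_assoc, ← pow_add, Nat.add_sub_cancel' hs]
          rw [this]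
          exact Ideal.mul_mem_right _ _ (Ideal.subset_span rfl)
        simp only [map_prod, map_pow, map_add, hb, add_zero]
        simp only [map_mul, map_pow, map_prod]
        rw [← Finset.prod_pow_eq_pow_sum, ← Finset.prod_mul_distrib]
        refine Finset.prod_congr rfl (fun i _ => ?_)
        rw [mul_pow]
      obtain ⟨q, hq⟩ := Ideal.mem_span_singleton'.mp hmem
      exact ⟨q, by linear_combination -hq, fun h => absurd h hN.ne'⟩
  choose! q hq using hm
  refine ⟨∑ m ∈ S, T m * X ^ (N - ∑ i, μ m i) * q m * W m, ?_, ?_⟩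
  · rw [Finset.mul_sum, Finset.mul_sum, ← Finset.sum_add_distrib]
    refine Finset.sum_congr rfl (fun m hmS => ?_)
    rw [(hq m hmS).1]
    have hX : X ^ N = X ^ (N - ∑ i, μ m i) * X ^ (∑ i, μ m i) := by
      rw [← pow_add, Nat.sub_add_cancel (hμ m hmS)]
    rw [hX]; ring
  · intro hN
    exact Finset.sum_eq_zero (fun m hmS => by rw [(hq m hmS).2 hN]; ring)

theorem lemB {R : Type*} [CommRing R] (X Z Uc : R) (N : ℕ) (ct : ℕ → R) (Ψ : R)
    (hΨ : N = 0 → Ψ = 0) :
    (X * Z) ^ N + ∑ i ∈ Finset.Icc 1 N,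
        (ct i * X ^ i + if i = N then Ψ else 0) * (X * Z) ^ (N - i) * Uc ^ i =
      X ^ N * (Z ^ N + ∑ i ∈ Finset.Icc 1 N, ct i * Z ^ (N - i) * Uc ^ i) + Uc ^ N * Ψ := by
  have h1 : ∀ i ∈ Finset.Icc 1 N,
      (ct i * X ^ i + if i = N then Ψ else 0) * (X * Z) ^ (N - i) * Uc ^ i =
      X ^ N * (ct i * Z ^ (N - i) * Uc ^ i) + (if i = N then Uc ^ N * Ψ else 0) := by
    intro i hi
    have hiN : i ≤ N := (Finset.mem_Icc.mp hi).2
    have hX : X ^ N = X ^ i * X ^ (N - i) := by rw [← pow_add, Nat.add_sub_cancel' hiN]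
    split_ifs with h
    · rw [h, Nat.sub_self, pow_zero, pow_zero]; ring
    · rw [hX, mul_pow]; ring
  have h2 : ∑ i ∈ Finset.Icc 1 N, (if i = N then Uc ^ N * Ψ else 0) = Uc ^ N * Ψ := by
    rcases Nat.eq_zero_or_pos N with hN | hN
    · rw [hΨ hN, mul_zero]; simp
    · rw [Finset.sum_ite_eq' (Finset.Icc 1 N) N (fun _ => Uc ^ N * Ψ),
        if_pos (Finset.mem_Icc.mpr ⟨hN, le_rfl⟩)]
  rw [Finset.sum_congr rfl h1, Finset.sum_add_distrib, h2, ← Finset.mul_sum, mul_pow]; ring

/-- The chart computation of its proof: let k be a commutative ring, P = k[x_1, …, x_d, w_1, …, w_n] a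
polynomial ring in two groups of variables, u a polynomial in the x-variables alone, v a vector in
k^d, J a set of indices among the w-variables with ζ = ∏_{j ∈ J} w_j, and N ≤ s natural numbers. Let
(f_λ) be a finite family of elements of P, each of total degree at most N in the x-variables, and
assume that ζ^N + c_1 ζ^(N-1) u + ⋯ + c_N u^N lies in the ideal generated by the f_λ for some c_1,
…, c_N ∈ P. For each λ let φ_λ ∈ P[τ] be the polynomial τ^N · f_λ(x + u^s v/τ, w), written out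
monomial by monomial: a monomial a·x^m·w^m' of x-degree e = |m| contributes a · τ^(N-e) · ∏_i (τ x_i
+ u^s v_i)^(m_i) · w^m'. Then there are c'_1, …, c'_N ∈ P[τ] with (τζ)^N + c'_1 (τζ)^(N-1) u + ⋯ +
c'_N u^N in the ideal of P[τ] generated by the φ_λ. (This identity is what shows that translating a
cycle by t·u^s·v preserves the modulus condition on the chart whose coordinates are the z_i and the
1/z_j, with τ = 1/t; integrality of ζ/u, resp. τζ/u, is expressed by such monic binary forms.) -/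
theorem result
    {k : Type u} [CommRing k] (d n : ℕ) (u : MvPolynomial (Fin d) k) (v : Fin d → k)
    (J : Finset (Fin n)) (N s : ℕ) (hs : N ≤ s)
    {Λ : Type u} [Fintype Λ] (f : Λ → MvPolynomial (Fin d ⊕ Fin n) k)
    (hdeg : ∀ l, ∀ m ∈ (f l).support, ∑ i : Fin d, m (Sum.inl i) ≤ N)
    (c : ℕ → MvPolynomial (Fin d ⊕ Fin n) k)
    (hE : (∏ j ∈ J, MvPolynomial.X (Sum.inr j)) ^ N +
        ∑ i ∈ Finset.Icc 1 N, c i * (∏ j ∈ J, MvPolynomial.X (Sum.inr j)) ^ (N - i) *
          MvPolynomial.rename Sum.inl u ^ i ∈ Ideal.span (Set.range f)) :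
    ∃ c' : ℕ → Polynomial (MvPolynomial (Fin d ⊕ Fin n) k),
      (Polynomial.X * Polynomial.C (∏ j ∈ J, MvPolynomial.X (Sum.inr j))) ^ N +
        ∑ i ∈ Finset.Icc 1 N, c' i *
          (Polynomial.X * Polynomial.C (∏ j ∈ J, MvPolynomial.X (Sum.inr j))) ^ (N - i) *
            Polynomial.C (MvPolynomial.rename Sum.inl u) ^ i ∈
      Ideal.span (Set.range fun l : Λ =>
        ∑ m ∈ (f l).support,
          Polynomial.C (MvPolynomial.C (MvPolynomial.coeff m (f l))) *
            Polynomial.X ^ (N - ∑ i : Fin d, m (Sum.inl i)) *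
            (∏ i : Fin d, (Polynomial.X * Polynomial.C (MvPolynomial.X (Sum.inl i)) +
                Polynomial.C (MvPolynomial.rename Sum.inl u ^ s * MvPolynomial.C (v i))) ^ m (Sum.inl i)) *
            ∏ j : Fin n, Polynomial.C (MvPolynomial.X (Sum.inr j)) ^ m (Sum.inr j)) := by
  classical
  suffices H : ∀ φ : Λ → Polynomial (MvPolynomial (Fin d ⊕ Fin n) k),
      (∀ l, φ l = ∑ m ∈ (f l).support,
          Polynomial.C (MvPolynomial.C (MvPolynomial.coeff m (f l))) *
            Polynomial.X ^ (N - ∑ i : Fin d, m (Sum.inl i)) *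
            (∏ i : Fin d, (Polynomial.X * Polynomial.C (MvPolynomial.X (Sum.inl i)) +
                Polynomial.C (MvPolynomial.rename Sum.inl u ^ s * MvPolynomial.C (v i))) ^
                  m (Sum.inl i)) *
            ∏ j : Fin n, Polynomial.C (MvPolynomial.X (Sum.inr j)) ^ m (Sum.inr j)) →
      ∃ c' : ℕ → Polynomial (MvPolynomial (Fin d ⊕ Fin n) k),
        (Polynomial.X * Polynomial.C (∏ j ∈ J, MvPolynomial.X (Sum.inr j))) ^ N +
          ∑ i ∈ Finset.Icc 1 N, c' i *
            (Polynomial.X * Polynomial.C (∏ j ∈ J, MvPolynomial.X (Sum.inr j))) ^ (N - i) *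
              Polynomial.C (MvPolynomial.rename Sum.inl u) ^ i ∈
        Ideal.span (Set.range φ) from H _ (fun l => rfl)
  intro φ hφ
  obtain ⟨g, hg⟩ := (Ideal.mem_span_range_iff_exists_fun).mp hE
  have e : ∀ i, (Polynomial.C (MvPolynomial.rename Sum.inl u ^ s * MvPolynomial.C (v i)) :
      Polynomial (MvPolynomial (Fin d ⊕ Fin n) k)) =
      Polynomial.C (MvPolynomial.rename Sum.inl u) ^ s *
        Polynomial.C (MvPolynomial.C (v i)) := fun i => by rw [map_mul, map_pow]
  have hA : ∀ l : Λ, ∃ ψ : Polynomial (MvPolynomial (Fin d ⊕ Fin n) k),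
      φ l = Polynomial.X ^ N * Polynomial.C (f l) +
        Polynomial.C (MvPolynomial.rename Sum.inl u) ^ N * ψ ∧ (N = 0 → ψ = 0) := by
    intro l
    obtain ⟨ψ, h1, h2⟩ := lemA (Polynomial.X : Polynomial (MvPolynomial (Fin d ⊕ Fin n) k))
      (Polynomial.C (MvPolynomial.rename Sum.inl u)) N s hs d
      (fun i => Polynomial.C (MvPolynomial.X (Sum.inl i)))
      (fun i => Polynomial.C (MvPolynomial.C (v i))) (f l).support
      (fun m => Polynomial.C (MvPolynomial.C (MvPolynomial.coeff m (f l))))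
      (fun m => ∏ j : Fin n, Polynomial.C (MvPolynomial.X (Sum.inr j)) ^ m (Sum.inr j))
      (fun m i => m (Sum.inl i)) (hdeg l)
    beta_reduce at h1
    refine ⟨ψ, ?_, h2⟩
    have hf : ∑ m ∈ (f l).support,
        Polynomial.C (MvPolynomial.C (MvPolynomial.coeff m (f l))) *
          (∏ i : Fin d, Polynomial.C (MvPolynomial.X (Sum.inl i)) ^ m (Sum.inl i)) *
          ∏ j : Fin n, Polynomial.C (MvPolynomial.X (Sum.inr j)) ^ m (Sum.inr j) =
        (Polynomial.C (f l) : Polynomial (MvPolynomial (Fin d ⊕ Fin n) k)) := by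
      conv_rhs => rw [MvPolynomial.as_sum (f l)]
      rw [map_sum]
      refine Finset.sum_congr rfl (fun m _ => ?_)
      rw [MvPolynomial.monomial_eq, Finsupp.prod_fintype _ _ (fun i => pow_zero _),
        Fintype.prod_sum_type]
      simp only [map_mul, map_prod, map_pow, mul_assoc]
    rw [hφ l]
    simp only [e]
    rw [h1, hf]
  choose ψ hψ hψ0 using hA
  refine ⟨fun i => Polynomial.C (c i) * Polynomial.X ^ i +
    if i = N then ∑ l, Polynomial.C (g l) * ψ l else 0, ?_⟩
  have hΨ0 : N = 0 → ∑ l, Polynomial.C (g l) * ψ l = 0 := fun hN =>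
    Finset.sum_eq_zero (fun l _ => by rw [hψ0 l hN, mul_zero])
  have hB := lemB (Polynomial.X : Polynomial (MvPolynomial (Fin d ⊕ Fin n) k))
    (Polynomial.C (∏ j ∈ J, MvPolynomial.X (Sum.inr j)))
    (Polynomial.C (MvPolynomial.rename Sum.inl u)) N (fun i => Polynomial.C (c i))
    (∑ l, Polynomial.C (g l) * ψ l) hΨ0
  beta_reduce at hB
  beta_reduce
  rw [hB]
  have hE' : (Polynomial.C (∏ j ∈ J, MvPolynomial.X (Sum.inr j)) :
      Polynomial (MvPolynomial (Fin d ⊕ Fin n) k)) ^ N +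
      ∑ i ∈ Finset.Icc 1 N, Polynomial.C (c i) *
        Polynomial.C (∏ j ∈ J, MvPolynomial.X (Sum.inr j)) ^ (N - i) *
          Polynomial.C (MvPolynomial.rename Sum.inl u) ^ i =
      Polynomial.C (∑ l, g l * f l) := by
    rw [hg]; simp only [map_add, map_sum, map_mul, map_pow]
  rw [hE', map_sum, Finset.mul_sum, Finset.mul_sum, ← Finset.sum_add_distrib]
  refine Ideal.sum_mem _ (fun l _ => ?_)
  have hmem : φ l ∈ Ideal.span (Set.range φ) := Ideal.subset_span ⟨l, rfl⟩
  have := Ideal.mul_mem_left _ (Polynomial.C (g l)) hmem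
  rw [hψ l] at this
  convert this using 1
  rw [map_mul]; ring

end Groth.Agent.S16367
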