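import Groth.Statements.S16368
import Mathlib

set_option autoImplicit false
universe u v
open TensorProduct
open FrobAlg

namespace Groth.Agent.S16368


namespace H16368
open IsLocalRing TensorProduct FrobAlg

theorem main
    (p : ℕ) [Fact p.Prime] (R : Type u) [CommRing R] [IsLocalRing R] [CharP R p]
    (M : Type v) [AddCommGroup M] [Module R M] [Module.FinitePresentation R M]
    (e : (FrobAlg.Twist p R ⊗[R] M) →ₛₗ[((FrobAlg.toTwist p R).symm : FrobAlg.Twist p R →+* R)] M)
    (he : Function.Bijective e) :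
    Module.Free R M := by
  classical
  have hp : p.Prime := Fact.out
  -- a minimal generating family
  obtain ⟨ι, hfin, bk⟩ : ∃ (ι : Type (max u v)) (_ : Fintype ι),
      Nonempty (Module.Basis ι (ResidueField R) (ResidueField R ⊗[R] M)) :=
    ⟨Module.Free.ChooseBasisIndex (ResidueField R) (ResidueField R ⊗[R] M), inferInstance,
      ⟨Module.Free.chooseBasis _ _⟩⟩
  obtain ⟨bk⟩ := bk
  have hmk : Function.Surjective (TensorProduct.mk R (ResidueField R) M 1) := by
    intro z
    induction z using TensorProduct.induction_on with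
    | zero => exact ⟨0, map_zero _⟩
    | tmul a x =>
      obtain ⟨r, rfl⟩ := residue_surjective a
      refine ⟨r • x, ?_⟩
      rw [TensorProduct.mk_apply, TensorProduct.tmul_smul, TensorProduct.smul_tmul',
        ← Algebra.algebraMap_eq_smul_one]
      rfl
    | add a b ha hb =>
      obtain ⟨x, hx⟩ := ha
      obtain ⟨y, hy⟩ := hb
      exact ⟨x + y, by rw [map_add, hx, hy]⟩
  choose v hv using fun i => hmk (bk i)
  have hspan : Submodule.span R (Set.range v) = ⊤ :=
    IsLocalRing.span_eq_top_of_tmul_eq_basis v bk (fun i => hv i)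
  obtain ⟨ρ, hρ⟩ : ∃ ρ : (ι → R) →ₗ[R] M, ρ = Fintype.linearCombination R v := ⟨_, rfl⟩
  have hρapp : ∀ r, ρ r = ∑ i, r i • v i := fun r => by
    rw [hρ, Fintype.linearCombination_apply]
  have hρsurj : Function.Surjective ρ := by
    rw [← LinearMap.range_eq_top, hρ, Fintype.range_linearCombination, hspan]
  have hKm : ∀ r ∈ LinearMap.ker ρ, ∀ i, r i ∈ maximalIdeal R := by
    intro r hr i
    rw [LinearMap.mem_ker, hρapp] at hr
    have h1 := congrArg (TensorProduct.mk R (ResidueField R) M 1) hr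
    rw [map_sum, map_zero] at h1
    have h2 : ∑ j, residue R (r j) • bk j = 0 := by
      rw [← h1]
      apply Finset.sum_congr rfl
      intro j _
      rw [map_smul, ← hv j, TensorProduct.mk_apply]
      rfl
    have h3 := Fintype.linearIndependent_iff.1 bk.linearIndependent _ h2 i
    exact (residue_eq_zero_iff _).1 h3
  have hKfg : (LinearMap.ker ρ).FG := Module.FinitePresentation.fg_ker ρ hρsurj
  obtain ⟨T, hT⟩ := hKfg
  obtain ⟨I, hIdef⟩ : ∃ I : Ideal R,
      I = Ideal.span ((fun ti : (ι → R) × ι => ti.1 ti.2) '' ((T : Set (ι → R)) ×ˢ Set.univ)) :=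
    ⟨_, rfl⟩
  have hTK : ∀ t ∈ T, t ∈ LinearMap.ker ρ := fun t ht => hT ▸ Submodule.subset_span ht
  have hIfg : I.FG := by
    rw [hIdef]
    exact Submodule.fg_span ((T.finite_toSet.prod Set.finite_univ).image _)
  have hIm : I ≤ maximalIdeal R := by
    rw [hIdef, Ideal.span_le]
    rintro _ ⟨⟨t, i⟩, ⟨ht, -⟩, rfl⟩
    exact hKm t (hTK t ht) i
  have hKI : ∀ r ∈ LinearMap.ker ρ, ∀ i, r i ∈ I := by
    intro r hr i
    rw [← hT] at hr
    induction hr using Submodule.span_induction with
    | mem t ht => rw [hIdef]; exact Ideal.subset_span ⟨⟨t, i⟩, ⟨ht, Set.mem_univ _⟩, rfl⟩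
    | zero => exact I.zero_mem
    | add a b _ _ ha hb => exact I.add_mem ha hb
    | smul c a _ ha => exact I.mul_mem_left c ha
  -- coordinate maps modulo I
  have hc : ∀ i : ι, ∃ c : M →ₗ[R] R ⧸ I, ∀ r : ι → R, c (ρ r) = Ideal.Quotient.mk I (r i) := by
    intro i
    obtain ⟨pr, hpr⟩ : ∃ pr : (ι → R) →ₗ[R] R ⧸ I,
        ∀ r, pr r = Ideal.Quotient.mk I (r i) :=
      ⟨(Ideal.Quotient.mkₐ R I).toLinearMap ∘ₗ LinearMap.proj i, fun r => rfl⟩
    have hle : LinearMap.ker ρ ≤ LinearMap.ker pr := by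
      intro r hr
      rw [LinearMap.mem_ker, hpr, Ideal.Quotient.eq_zero_iff_mem]
      exact hKI r hr i
    refine ⟨(Submodule.liftQ _ pr hle) ∘ₗ (ρ.quotKerEquivOfSurjective hρsurj).symm.toLinearMap,
      fun r => ?_⟩
    have h1 : (ρ.quotKerEquivOfSurjective hρsurj).symm (ρ r) = Submodule.Quotient.mk r := by
      rw [LinearEquiv.symm_apply_eq]
      rfl
    rw [LinearMap.comp_apply, LinearEquiv.coe_coe, h1, Submodule.liftQ_apply, hpr]
  choose c hcρ using hc
  have hcv : ∀ i j, c i (v j) = Ideal.Quotient.mk I (if i = j then 1 else 0) := by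
    intro i j
    have h1 : ρ (Pi.single j 1) = v j := by
      rw [hρapp, Finset.sum_eq_single j]
      · rw [Pi.single_eq_same, one_smul]
      · intro b _ hb; rw [Pi.single_eq_of_ne hb, zero_smul]
      · intro h; exact absurd (Finset.mem_univ j) h
    rw [← h1, hcρ, Pi.single_apply]
  -- Frobenius on quotients
  obtain ⟨J, hJdef⟩ : ∃ J : Ideal R, J = I.map (frobenius R p) := ⟨_, rfl⟩
  have hIJ : I ≤ J.comap (frobenius R p) := by rw [hJdef]; exact Ideal.le_comap_map
  obtain ⟨Fr, hFr⟩ : ∃ Fr : R ⧸ I →+* R ⧸ J,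
      ∀ x, Fr (Ideal.Quotient.mk I x) = Ideal.Quotient.mk J (x ^ p) :=
    ⟨Ideal.quotientMap J (frobenius R p) hIJ, fun x => by
      rw [Ideal.quotientMap_mk, frobenius_def]⟩
  obtain ⟨σ, hσdef⟩ : ∃ σ : FrobAlg.Twist p R →+* R, σ = ((FrobAlg.toTwist p R).symm :
      FrobAlg.Twist p R →+* R) := ⟨_, rfl⟩
  have hσalg : ∀ r : R, σ (algebraMap R (FrobAlg.Twist p R) r) = r ^ p := by
    intro r; rw [hσdef, FrobAlg.algebraMap_twist]; exact RingEquiv.symm_apply_apply _ _
  have hσto : ∀ r : R, σ (FrobAlg.toTwist p R r) = r := by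
    intro r; rw [hσdef]; exact RingEquiv.symm_apply_apply _ _
  -- semilinear coordinate maps on the twist
  have hC : ∀ i : ι, ∃ C : (FrobAlg.Twist p R ⊗[R] M) →+ R ⧸ J,
      (∀ (t : FrobAlg.Twist p R) (x : M),
        C (t ⊗ₜ x) = Ideal.Quotient.mk J (σ t) * Fr (c i x)) ∧
      ∀ (t : FrobAlg.Twist p R) (z : FrobAlg.Twist p R ⊗[R] M),
        C (t • z) = Ideal.Quotient.mk J (σ t) * C z := by
    intro i
    obtain ⟨A, hA⟩ : ∃ A : FrobAlg.Twist p R →+ R ⧸ J, ∀ t, A t = Ideal.Quotient.mk J (σ t) :=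
      ⟨((Ideal.Quotient.mk J).comp σ).toAddMonoidHom, fun t => rfl⟩
    obtain ⟨B, hB⟩ : ∃ B : M →+ R ⧸ J, ∀ x, B x = Fr (c i x) :=
      ⟨Fr.toAddMonoidHom.comp (c i).toAddMonoidHom, fun x => rfl⟩
    have hbal : ∀ (r : R) (t : FrobAlg.Twist p R) (x : M),
        ((AddMonoidHom.mul.comp A).compl₂ B) (r • t) x =
          ((AddMonoidHom.mul.comp A).compl₂ B) t (r • x) := by
      intro r t x
      simp only [AddMonoidHom.compl₂_apply, AddMonoidHom.comp_apply, AddMonoidHom.mul_apply,
        hA, hB]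
      rw [Algebra.smul_def, map_mul, hσalg, map_smul, map_mul]
      have h1 : (r • c i x : R ⧸ I) = Ideal.Quotient.mk I r * c i x := by
        rw [Algebra.smul_def]; rfl
      rw [h1, map_mul, hFr]
      ring
    refine ⟨TensorProduct.liftAddHom _ hbal, fun t x => ?_, fun t z => ?_⟩
    · rw [TensorProduct.liftAddHom_tmul]
      simp only [AddMonoidHom.compl₂_apply, AddMonoidHom.comp_apply, AddMonoidHom.mul_apply,
        hA, hB]
    · induction z using TensorProduct.induction_on with
      | zero => rw [smul_zero, map_zero, mul_zero]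
      | tmul t' x =>
        rw [TensorProduct.smul_tmul', TensorProduct.liftAddHom_tmul,
          TensorProduct.liftAddHom_tmul]
        simp only [AddMonoidHom.compl₂_apply, AddMonoidHom.comp_apply, AddMonoidHom.mul_apply,
          hA, hB]
        rw [smul_eq_mul, map_mul, map_mul, mul_assoc]
      | add a b ha hb => rw [smul_add, map_add, map_add, ha, hb, mul_add]
  choose C hCt hCs using hC
  -- inverse of e
  obtain ⟨einv, heinv1, heinv2⟩ : ∃ einv : M → FrobAlg.Twist p R ⊗[R] M,
      (∀ y, e (einv y) = y) ∧ ∀ z, einv (e z) = z :=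
    ⟨(Equiv.ofBijective e he).symm, (Equiv.ofBijective e he).apply_symm_apply,
      (Equiv.ofBijective e he).symm_apply_apply⟩
  have heinv_add : ∀ y y', einv (y + y') = einv y + einv y' := by
    intro y y'
    apply he.1
    rw [map_add, heinv1, heinv1, heinv1]
  have heinv_smul : ∀ (r : R) y, einv (r • y) = FrobAlg.toTwist p R r • einv y := by
    intro r y
    apply he.1
    rw [heinv1, map_smulₛₗ, heinv1, ← hσdef, hσto]
  -- the linear map D
  obtain ⟨D, hD⟩ : ∃ D : M →ₗ[R] (ι → R ⧸ J), ∀ y i, D y i = C i (einv y) := by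
    refine ⟨{ toFun := fun y i => C i (einv y)
              map_add' := fun y y' => by funext i; simp only [heinv_add, map_add, Pi.add_apply]
              map_smul' := fun r y => by
                funext i
                simp only [heinv_smul, hCs, hσto, RingHom.id_apply, Pi.smul_apply]
                rw [Algebra.smul_def]; rfl }, fun y i => rfl⟩
  have hDz : ∀ j, D (e ((1 : FrobAlg.Twist p R) ⊗ₜ v j)) = Pi.single j 1 := by
    intro j
    funext i
    rw [hD, heinv2, hCt, map_one, map_one, one_mul, hcv, hFr, Pi.single_apply]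
    by_cases hij : i = j
    · rw [if_pos hij, if_pos hij, one_pow, map_one]
    · rw [if_neg hij, if_neg hij, zero_pow hp.ne_zero, map_zero]
  obtain ⟨g, hg⟩ : ∃ g : (ι → R ⧸ J) →ₗ[R ⧸ J] (ι → R ⧸ J),
      g = Fintype.linearCombination (R ⧸ J) (fun j => D (v j)) := ⟨_, rfl⟩
  have hDρ : ∀ r : ι → R, D (ρ r) = g (fun j => Ideal.Quotient.mk J (r j)) := by
    intro r
    rw [hρapp, map_sum, hg, Fintype.linearCombination_apply]
    apply Finset.sum_congr rfl
    intro j _
    rw [map_smul]
    funext i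
    rw [Pi.smul_apply, Pi.smul_apply, Algebra.smul_def, smul_eq_mul]
    rfl
  have hgsurj : Function.Surjective g := by
    rw [← LinearMap.range_eq_top, eq_top_iff]
    intro q _
    have hq : q = ∑ j, q j • (Pi.single j 1 : ι → R ⧸ J) := by
      funext i
      rw [Finset.sum_apply, Finset.sum_eq_single i]
      · rw [Pi.smul_apply, Pi.single_eq_same, smul_eq_mul, mul_one]
      · intro b _ hb
        rw [Pi.smul_apply, Pi.single_eq_of_ne hb.symm, smul_zero]
      · intro h; exact absurd (Finset.mem_univ i) h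
    rw [hq]
    refine Submodule.sum_mem _ (fun j _ => Submodule.smul_mem _ _ ?_)
    obtain ⟨s, hs⟩ := hρsurj (e ((1 : FrobAlg.Twist p R) ⊗ₜ v j))
    rw [← hDz j, ← hs, hDρ]
    exact LinearMap.mem_range_self _ _
  have hginj : Function.Injective g := OrzechProperty.injective_of_surjective_endomorphism g hgsurj
  have hKJ : ∀ r ∈ LinearMap.ker ρ, ∀ i, r i ∈ J := by
    intro r hr i
    rw [LinearMap.mem_ker] at hr
    have h1 : g (fun j => Ideal.Quotient.mk J (r j)) = 0 := by rw [← hDρ, hr, map_zero]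
    have h2 := hginj (h1.trans (map_zero g).symm)
    exact Ideal.Quotient.eq_zero_iff_mem.1 (congrFun h2 i)
  have hIleJ : I ≤ J := by
    rw [hIdef, Ideal.span_le]
    rintro _ ⟨⟨t, i⟩, ⟨ht, -⟩, rfl⟩
    exact hKJ t (hTK t ht) i
  have hJle : J ≤ maximalIdeal R • I := by
    rw [hJdef, Ideal.map_le_iff_le_comap]
    intro a ha
    rw [Ideal.mem_comap, frobenius_def]
    obtain ⟨n, hn⟩ : ∃ n, p = n + 1 := ⟨p - 1, (Nat.sub_add_cancel hp.one_le).symm⟩
    have hn0 : n ≠ 0 := by
      intro h; rw [h] at hn; exact hp.one_lt.ne' hn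
    rw [hn, pow_succ, smul_eq_mul]
    exact Ideal.mul_mem_mul (Ideal.pow_mem_of_mem _ (hIm ha) n (Nat.pos_of_ne_zero hn0)) ha
  have hI0 : I = ⊥ :=
    Submodule.eq_bot_of_le_smul_of_le_jacobson_bot (maximalIdeal R) I hIfg (hIleJ.trans hJle)
      (IsLocalRing.jacobson_eq_maximalIdeal ⊥ bot_ne_top).ge
  have hρinj : Function.Injective ρ := by
    rw [← LinearMap.ker_eq_bot, eq_bot_iff]
    intro r hr
    rw [Submodule.mem_bot]
    funext i
    have := hKI r hr i
    rw [hI0, Ideal.mem_bot] at this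
    exact this
  exact Module.Free.of_equiv (LinearEquiv.ofBijective ρ ⟨hρinj, hρsurj⟩)

end H16368

/-- Let R be a local ring of prime characteristic p and M a finitely presented R-module. Write R' for R
regarded as an R-algebra through its Frobenius a ↦ a^p, so that R' ⊗_R M is the pull-back of M along
the absolute Frobenius of Spec R, an R'-module. If this pull-back is isomorphic to M — there is a
bijective map e : R' ⊗_R M → M, additive and semilinear for the identification R' = R — then M is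
free. -/
theorem result
    (p : ℕ) [Fact p.Prime] (R : Type u) [CommRing R] [IsLocalRing R] [CharP R p]
    (M : Type v) [AddCommGroup M] [Module R M] [Module.FinitePresentation R M]
    (e : (FrobAlg.Twist p R ⊗[R] M) →ₛₗ[((FrobAlg.toTwist p R).symm : FrobAlg.Twist p R →+* R)] M)
    (he : Function.Bijective e) :
    Module.Free R M := by
  exact H16368.main p R M e he

end Groth.Agent.S16368
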