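import Groth.Statements.S16369
import Mathlib
import Groth.Agent.Lib.Helper23.T2N
import Groth.Agent.Lib.Helper23.T2L
import Groth.Agent.Lib.Helper25.SemilinSurj
set_option linter.style.haveILetI false

set_option autoImplicit false
universe u
open CategoryTheory AlgebraicGeometry Opposite
open FrobSch

namespace Groth.Agent.S16369

/-- (i) ⇒ (ii): let k be a perfect field of characteristic p and X a scheme proper over k. Let φ be the
p-th power map on the sheaf of additive groups underlying O_X and B its cokernel in abelian sheaves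
(for X smooth over k this is the sheaf B¹ of locally exact one-forms, pushed down along Frobenius).
If X is Frobenius split — φ admits a retraction s, an additive endomorphism of O_X with s(t^p) = t
and s(a^p·b) = a·s(b) on every open — then H^i(X, B) = 0 for every i. (The source states this for X
normal; normality is not used for this implication, and a split X is reduced anyway.) -/
theorem result
    (p : ℕ) [Fact p.Prime] (k : Type u) [Field k] [CharP k p] [PerfectField k]
    (X : Scheme.{u}) [X.Over (Spec (CommRingCat.of k))] [IsProper (X ↘ Spec (CommRingCat.of k))]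
    (φ : Coh.toAb (Coh.structureModule X) ⟶ Coh.toAb (Coh.structureModule X))
    (hφ : ∀ (U : X.Opens) (t : Γ(X, U)), φ.hom.app (op U) t = t ^ p)
    (s : Coh.toAb (Coh.structureModule X) ⟶ Coh.toAb (Coh.structureModule X))
    (hs : φ ≫ s = 𝟙 _)
    (hlin : ∀ (U : X.Opens) (a b : Γ(X, U)),
      s.hom.app (op U) (a ^ p * b) = a * @id Γ(X, U) (s.hom.app (op U) b))
    (i : ℕ) : Subsingleton (Sheaf.H (Limits.cokernel φ) i) := by
  classical
  have hinj : Function.Injective (Sheaf.H.map φ i) := by
    intro x y hxy
    have h := congrArg (Sheaf.H.map s i) hxy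
    rwa [← Sheaf.H.map_comp_apply, ← Sheaf.H.map_comp_apply, hs, Sheaf.H.map_id_apply,
      Sheaf.H.map_id_apply] at h
  have hcomm : ∀ r : Coh.Γtop X, Coh.smulAb (Coh.structureModule X) r ≫ φ =
      φ ≫ Coh.smulAb (Coh.structureModule X) (r ^ p) := by
    intro r
    ext U m
    obtain ⟨U⟩ := U
    let a : Γ(X, U) := Coh.resTop X (op U) r
    let t : Γ(X, U) := m
    let a' : Γ(X, U) := Coh.resTop X (op U) (r ^ p)
    have h3 : a' = a ^ p := map_pow (Coh.resTop X (op U)) r p
    have h4 : @id Γ(X, U) (φ.hom.app (op U) (a * t)) = a' * @id Γ(X, U) (φ.hom.app (op U) t) := by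
      rw [hφ U (a * t), hφ U t, mul_pow, h3]
      rfl
    exact h4
  let f : Coh.HH X (Coh.structureModule X) i →+ Coh.HH X (Coh.structureModule X) i :=
    Sheaf.H.map φ i
  have hsl : ∀ (c : k) (x : Coh.HH X (Coh.structureModule X) i),
      f (c • x) = (frobenius k p c) • f x := by
    intro c x
    change Sheaf.H.map φ i (Sheaf.H.map (Coh.smulAb (Coh.structureModule X)
        (Coh.toGlobal (X ↘ Spec (CommRingCat.of k)) c)) i x) =
      Sheaf.H.map (Coh.smulAb (Coh.structureModule X)
        (Coh.toGlobal (X ↘ Spec (CommRingCat.of k)) (frobenius k p c))) i (Sheaf.H.map φ i x)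
    rw [← Sheaf.H.map_comp_apply, ← Sheaf.H.map_comp_apply, hcomm, frobenius_def, map_pow]
  haveI : Module.Finite k (Coh.HH X (Coh.structureModule X) i) :=
    Groth.Agent.Lib.Helper23.T2.finite_HH k (Coh.structureModule X)
      (Groth.Agent.Lib.Helper23.T2.isCoh_structureModule X) i
  haveI : ExpChar k p := ExpChar.prime Fact.out
  haveI : PerfectRing k p := PerfectField.toPerfectRing p
  have hsurj : Function.Surjective f :=
    Groth.Agent.Lib.Helper25.SemilinSurj.surjective_of_injective_semilinear (frobenius k p)
      (bijective_frobenius k p) f hsl hinj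
  let u : Coh.toAb (Coh.structureModule X) ⟶ Coh.toAb (Coh.structureModule X) := 𝟙 _ - s ≫ φ
  have hu : φ ≫ u = 0 := by
    simp only [u, Preadditive.comp_sub, Category.comp_id]
    rw [← Category.assoc, hs, Category.id_comp, sub_self]
  let t : Limits.cokernel φ ⟶ Coh.toAb (Coh.structureModule X) := Limits.cokernel.desc φ u hu
  have ht : t ≫ Limits.cokernel.π φ = 𝟙 _ := by
    apply (cancel_epi (Limits.cokernel.π φ)).1
    rw [← Category.assoc, Limits.cokernel.π_desc]
    simp only [u, Preadditive.sub_comp, Category.id_comp, Category.assoc, Limits.cokernel.condition,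
      Limits.comp_zero, sub_zero, Category.comp_id]
  have h0 : ∀ y : Sheaf.H (Limits.cokernel φ) i, y = 0 := by
    intro y
    have hy : y = Sheaf.H.map (Limits.cokernel.π φ) i (Sheaf.H.map t i y) := by
      rw [← Sheaf.H.map_comp_apply, ht, Sheaf.H.map_id_apply]
    obtain ⟨z, hz⟩ := hsurj (Sheaf.H.map t i y)
    rw [hy, ← hz]
    change Sheaf.H.map (Limits.cokernel.π φ) i (Sheaf.H.map φ i z) = 0
    rw [← Sheaf.H.map_comp_apply, Limits.cokernel.condition, Sheaf.H.map_apply, Abelian.Ext.mk₀_zero,
      Abelian.Ext.comp_zero]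
  exact ⟨fun y z => by rw [h0 y, h0 z]⟩

end Groth.Agent.S16369
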