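import Groth.Statements.S16370
import Mathlib

set_option autoImplicit false
universe u
open CategoryTheory AlgebraicGeometry Opposite
open FrobSch

namespace Groth.Agent.S16370

/-- (ii) ⇒ (iii): let X be a reduced scheme of prime characteristic p, φ the p-th power map on the sheaf
of additive groups underlying O_X (a monomorphism, X being reduced) and B its cokernel in abelian
sheaves. If H^i(X, B) = 0 for all i ≥ 0, then the endomorphism of H^i(X, O_X) induced by φ — the
Hasse–Witt operation — is bijective for all i. (The source has X normal and proper over a perfect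
field; only reducedness enters this implication.) -/
theorem result
    (p : ℕ) [Fact p.Prime] (X : Scheme.{u}) [IsReduced X] (hp : (p : Γ(X, ⊤)) = 0)
    (φ : Coh.toAb (Coh.structureModule X) ⟶ Coh.toAb (Coh.structureModule X))
    (hφ : ∀ (U : X.Opens) (t : Γ(X, U)), φ.hom.app (op U) t = t ^ p)
    (hB : ∀ i : ℕ, Subsingleton (Sheaf.H (Limits.cokernel φ) i))
    (i : ℕ) : Function.Bijective (Sheaf.H.map φ i) := by
  haveI hmono : Mono φ := by
    rw [Sheaf.Hom.mono_iff_presheaf_mono]
    haveI : ∀ U, Mono (φ.hom.app U) := by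
      intro U
      rw [AddCommGrpCat.mono_iff_injective]
      rw [injective_iff_map_eq_zero]
      intro a ha
      let a' : Γ(X, U.unop) := a
      have h1 : φ.hom.app (op U.unop) a' = a' ^ p := hφ U.unop a'
      have h2 : a' ^ p = 0 := by
        rw [← h1]
        exact ha
      exact pow_eq_zero_iff (Fact.out : p.Prime).ne_zero |>.1 h2
    exact NatTrans.mono_of_mono_app _
  let S : ShortComplex (Sheaf (Opens.grothendieckTopology X) AddCommGrpCat.{u}) :=
    ShortComplex.mk φ (Limits.cokernel.π φ) (Limits.cokernel.condition φ)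
  have hS : S.ShortExact :=
    { exact := ShortComplex.exact_cokernel φ
      mono_f := hmono
      epi_g := inferInstanceAs (Epi (Limits.cokernel.π φ)) }
  constructor
  · rw [injective_iff_map_eq_zero]
    intro x hx
    have hx' : x.comp (Abelian.Ext.mk₀ S.f) (add_zero i) = 0 := hx
    cases i with
    | zero =>
      obtain ⟨s, rfl⟩ := (Abelian.Ext.mk₀_bijective _ _).2 x
      rw [Abelian.Ext.mk₀_comp_mk₀] at hx'
      have h0 : s ≫ S.f = 0 :=
        (Abelian.Ext.mk₀_bijective _ _).1 (hx'.trans (Abelian.Ext.mk₀_zero _ _).symm)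
      have h1 : s = 0 := by
        haveI : Mono S.f := hmono
        exact Limits.zero_of_comp_mono S.f h0
      rw [h1]
      exact Abelian.Ext.mk₀_zero _ _
    | succ n =>
      obtain ⟨x₃, hx₃⟩ := Abelian.Ext.covariant_sequence_exact₁ _ hS x hx' (n₀ := n) rfl
      have h0 : x₃ = 0 := @Subsingleton.elim _ (hB n) _ _
      rw [← hx₃, h0, Abelian.Ext.zero_comp]
  · intro y
    have hy : y.comp (Abelian.Ext.mk₀ S.g) (add_zero i) = 0 := @Subsingleton.elim _ (hB i) _ _
    obtain ⟨x₁, hx₁⟩ := Abelian.Ext.covariant_sequence_exact₂ _ hS y hy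
    exact ⟨x₁, hx₁⟩

end Groth.Agent.S16370
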