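import Groth.Statements.S16373
-- import your own Groth.Agent.* helpers here
import Mathlib
import Groth.Agent.S16372

set_option autoImplicit false
universe u
open FrobAlg

namespace Groth.Agent.S16373

/-- Let p be a prime, m ≥ 1, R a commutative ring with p = 0 in R and σ : W_m(R) → R a quasi-F-splitting
of level m (additive, σ(1) = 1, σ(F(x)·y) = x₀·σ(y) with F the componentwise p-th power). Let I ⊆
W_{m+1}(R) be the ideal generated by the shifts V(x) of the x with σ(x) = 0, and Q = W_{m+1}(R)/I.
Then Q is a flat lifting of R modulo p²: an element of Q lies in pQ exactly when the first Witt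
component of a representative vanishes (so Q/pQ is R through the first component), and an element of
Q is killed by p exactly when it lies in pQ. (Stated for a ring; the source has a scheme over the
prime field. For m = 1 this is the lifting attached to a Frobenius splitting.) -/
theorem result
    (p : ℕ) [Fact p.Prime] (m : ℕ) (hm : 0 < m) (R : Type u) [CommRing R] (hp : (p : R) = 0)
    (σ : TruncatedWittVector p m R →+ R) (h1 : σ 1 = 1)
    (hF : ∀ x y : TruncatedWittVector p m R, σ (WittGrp.frob p m hp x * y) = x.coeff ⟨0, hm⟩ * σ y)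
    (I : Ideal (TruncatedWittVector p (m + 1) R))
    (hI : I = Ideal.span (WittGrp.shift p (Nat.le_succ m) '' {x : TruncatedWittVector p m R | σ x = 0})) :
    (∀ w : TruncatedWittVector p (m + 1) R,
        Ideal.Quotient.mk I w ∈ Ideal.span ({(p : TruncatedWittVector p (m + 1) R ⧸ I)} : Set _) ↔
          w.coeff 0 = 0) ∧
    (∀ q : TruncatedWittVector p (m + 1) R ⧸ I,
        (p : TruncatedWittVector p (m + 1) R ⧸ I) * q = 0 ↔
          q ∈ Ideal.span ({(p : TruncatedWittVector p (m + 1) R ⧸ I)} : Set _)) := by
  classical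
  set V := WittGrp.shift (R := R) p (Nat.le_succ m) with hV
  set F := WittGrp.frob (R := R) p m hp with hFdef
  set tr := TruncatedWittVector.truncate (p := p) (R := R) (Nat.le_succ m) with htr
  -- (b) p * w = V (F (tr w))
  have hb : ∀ w : TruncatedWittVector p (m + 1) R,
      (p : TruncatedWittVector p (m + 1) R) * w = V (F (tr w)) := by
    intro w
    rcases subsingleton_or_nontrivial R with hR | hR
    · exact TruncatedWittVector.ext fun i => Subsingleton.elim _ _
    haveI : CharP R p := (CharP.charP_iff_prime_eq_zero Fact.out).mpr hp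
    obtain ⟨Y, rfl⟩ := WittVector.truncate_surjective p (m + 1) R w
    rw [htr, TruncatedWittVector.truncate_wittVector_truncate, hFdef, WittGrp.frob_truncate, hV,
      WittGrp.shift_truncate]
    have e : m.succ - m = 1 := by omega
    rw [e, Function.iterate_one, WittVector.verschiebung_frobenius, mul_comm]
    show _ = (WittVector.truncate (m + 1)) (Y * (p : WittVector p R))
    rw [map_mul, map_natCast]
  -- coefficient zero facts
  have hc0V : ∀ x, (V x).coeff 0 = 0 := by
    intro x
    rw [hV, WittGrp.coeff_shift, dif_neg]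
    simp
  have hVinj : Function.Injective V := by
    intro x x' h
    ext i
    have := congrArg (fun w => w.coeff i.succ) h
    simp only [hV, WittGrp.coeff_shift] at this
    rw [dif_pos (by simp), dif_pos (by simp)] at this
    convert this using 2 <;> (ext; simp)
  have hVsurj : ∀ w : TruncatedWittVector p (m + 1) R, w.coeff 0 = 0 → ∃ z, V z = w := by
    intro w hw
    refine ⟨TruncatedWittVector.mk p (fun i => w.coeff i.succ), ?_⟩
    ext i
    rw [hV, WittGrp.coeff_shift]
    split_ifs with hi
    · rw [TruncatedWittVector.coeff_mk]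
      congr 1
      ext
      simp only [Fin.val_succ]
      have : m.succ - m = 1 := by omega
      omega
    · have : i = 0 := by
        ext
        simp only [Fin.val_zero]
        have : m.succ - m = 1 := by omega
        omega
      rw [this, hw]
  -- (a) membership in I
  have hImem : ∀ w, w ∈ I ↔ ∃ x, σ x = 0 ∧ V x = w := by
    intro w
    constructor
    · intro hw
      rw [hI] at hw
      induction hw using Submodule.span_induction with
      | mem w hw =>
        obtain ⟨x, hx, rfl⟩ := hw
        exact ⟨x, hx, rfl⟩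
      | zero => exact ⟨0, map_zero σ, map_zero V⟩
      | add a b _ _ ha hb' =>
        obtain ⟨x₁, h₁, rfl⟩ := ha
        obtain ⟨x₂, h₂, rfl⟩ := hb'
        exact ⟨x₁ + x₂, by rw [map_add, h₁, h₂, add_zero], map_add V x₁ x₂⟩
      | smul a b _ hb' =>
        obtain ⟨x, hx, rfl⟩ := hb'
        obtain ⟨x', hx', hx''⟩ := Groth.Agent.S16372.result p m hm R hp σ h1 hF a x hx
        exact ⟨x', hx', by rw [smul_eq_mul, hx'']⟩
    · rintro ⟨x, hx, rfl⟩
      rw [hI]
      exact Ideal.subset_span ⟨x, hx, rfl⟩
  have hσF : ∀ a, σ (F a) = a.coeff ⟨0, hm⟩ := by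
    intro a
    have := hF a 1
    rwa [mul_one, h1, mul_one] at this
  have hmkp : (p : TruncatedWittVector p (m + 1) R ⧸ I) =
      Ideal.Quotient.mk I (p : TruncatedWittVector p (m + 1) R) := (map_natCast _ p).symm
  have hmem_p : ∀ w : TruncatedWittVector p (m + 1) R,
      Ideal.Quotient.mk I w ∈ Ideal.span ({(p : TruncatedWittVector p (m + 1) R ⧸ I)} : Set _) ↔
        ∃ w', w - (p : TruncatedWittVector p (m + 1) R) * w' ∈ I := by
    intro w
    rw [Ideal.mem_span_singleton]
    constructor
    · rintro ⟨c, hc⟩
      obtain ⟨w', rfl⟩ := Ideal.Quotient.mk_surjective c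
      refine ⟨w', ?_⟩
      rw [hmkp, ← map_mul, Ideal.Quotient.eq] at hc
      exact hc
    · rintro ⟨w', hw'⟩
      refine ⟨Ideal.Quotient.mk I w', ?_⟩
      rw [hmkp, ← map_mul, Ideal.Quotient.eq]
      exact hw'
  have hc0add : ∀ a b : TruncatedWittVector p (m + 1) R,
      (a + b).coeff 0 = a.coeff 0 + b.coeff 0 := by
    intro a b
    obtain ⟨X, rfl⟩ := WittVector.truncate_surjective p (m + 1) R a
    obtain ⟨Y, rfl⟩ := WittVector.truncate_surjective p (m + 1) R b
    rw [← map_add, WittVector.coeff_truncate, WittVector.coeff_truncate, WittVector.coeff_truncate]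
    exact WittVector.add_coeff_zero X Y
  have part1 : ∀ w : TruncatedWittVector p (m + 1) R,
      Ideal.Quotient.mk I w ∈ Ideal.span ({(p : TruncatedWittVector p (m + 1) R ⧸ I)} : Set _) ↔
        w.coeff 0 = 0 := by
    intro w
    rw [hmem_p]
    constructor
    · rintro ⟨w', hw'⟩
      obtain ⟨x, _, hx⟩ := (hImem _).1 hw'
      have : w = V x + V (F (tr w')) := by rw [hx, ← hb]; ring
      rw [this, hc0add, hc0V, hc0V, add_zero]
    · intro hw
      obtain ⟨z, rfl⟩ := hVsurj w hw
      set a : TruncatedWittVector p m R :=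
        TruncatedWittVector.mk p (fun i => if i = ⟨0, hm⟩ then σ z else 0) with ha
      obtain ⟨a', ha'⟩ := TruncatedWittVector.truncate_surjective (p := p) (R := R)
        (Nat.le_succ m) a
      refine ⟨a', (hImem _).2 ⟨z - F a, ?_, ?_⟩⟩
      · rw [map_sub, hσF, ha, TruncatedWittVector.coeff_mk, if_pos rfl, sub_self]
      · rw [map_sub, hb, htr, ha']
  refine ⟨part1, ?_⟩
  intro q
  obtain ⟨w, rfl⟩ := Ideal.Quotient.mk_surjective q
  constructor
  · intro h
    rw [hmkp, ← map_mul, Ideal.Quotient.eq_zero_iff_mem, hImem] at h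
    obtain ⟨x, hx, hxw⟩ := h
    rw [hb] at hxw
    have h2 := hVinj hxw
    rw [h2, hσF, htr, TruncatedWittVector.coeff_truncate] at hx
    rw [part1]
    exact hx
  · intro h
    rw [hmem_p] at h
    obtain ⟨w', hw'⟩ := h
    have h3 : (p : TruncatedWittVector p (m + 1) R) * ((p : TruncatedWittVector p (m + 1) R) * w')
        ∈ I := by
      rw [hImem]
      refine ⟨F (tr ((p : TruncatedWittVector p (m + 1) R) * w')), ?_, (hb _).symm⟩
      rw [map_mul, map_natCast, map_mul, map_natCast, mul_comm, hF, ← nsmul_one, map_nsmul, h1,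
        nsmul_one, hp, mul_zero]
    have h4 : (p : TruncatedWittVector p (m + 1) R) * w ∈ I := by
      have : (p : TruncatedWittVector p (m + 1) R) * w =
          (p : TruncatedWittVector p (m + 1) R) * (w - (p : TruncatedWittVector p (m + 1) R) * w')
          + (p : TruncatedWittVector p (m + 1) R) * ((p : TruncatedWittVector p (m + 1) R) * w') := by
        ring
      rw [this]
      exact I.add_mem (I.mul_mem_left _ hw') h3
    rw [hmkp, ← map_mul, Ideal.Quotient.eq_zero_iff_mem]
    exact h4

end Groth.Agent.S16373
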