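import Groth.Statements.S1638
import Mathlib.RingTheory.Flat.Basic
import Mathlib.LinearAlgebra.Basis.VectorSpace
import Mathlib.LinearAlgebra.FreeModule.Basic

set_option autoImplicit false
universe u
open Brauer
open scoped TensorProduct

namespace Groth.Agent.S1638

/-- Let A and A' be algebras over a field k with subalgebras B ⊆ A and B' ⊆ A' having centralizers C and
C'. Then the centralizer of the image of B ⊗ B' in A ⊗_k A' is the image of C ⊗_k C'. -/
theorem result (k : Type u) [Field k] (A A' : Type u) [Ring A] [Ring A'] [Algebra k A] [Algebra k A']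
    (B : Subalgebra k A) (B' : Subalgebra k A') :
    Subalgebra.centralizer k ((Algebra.TensorProduct.map B.val B'.val).range : Set (TensorProduct k A A')) =
      (Algebra.TensorProduct.map (Subalgebra.centralizer k (B : Set A)).val (Subalgebra.centralizer k (B' : Set A')).val).range := by
  set C := Subalgebra.centralizer k (B : Set A) with hC
  set C' := Subalgebra.centralizer k (B' : Set A') with hC'
  ext z
  constructor
  · intro hz
    rw [Subalgebra.mem_centralizer_iff] at hz
    -- step 1
    have h1 : z ∈ Subalgebra.centralizer k
        (Algebra.TensorProduct.includeLeft (S := k) (R := k) (A := A) (B := A') '' (B : Set A)) := by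
      rw [Subalgebra.mem_centralizer_iff]
      rintro _ ⟨b, hb, rfl⟩
      apply hz
      exact ⟨(⟨b, hb⟩ : B) ⊗ₜ[k] (1 : B'), by simp⟩
    rw [Subalgebra.centralizer_coe_image_includeLeft_eq_center_tensorProduct k A A' (B : Set A)] at h1
    obtain ⟨w, rfl⟩ := h1
    set φ := Algebra.TensorProduct.map C.val (AlgHom.id k A') with hφ
    have hφinj : Function.Injective φ := by
      have : Function.Injective (TensorProduct.map C.val.toLinearMap (AlgHom.id k A').toLinearMap) :=
        TensorProduct.map_injective_of_flat_flat _ _ Subtype.val_injective Function.injective_id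
      exact this
    -- step 3
    have h3 : w ∈ Subalgebra.centralizer k
        (Algebra.TensorProduct.includeRight (R := k) (A := C) (B := A') '' (B' : Set A')) := by
      rw [Subalgebra.mem_centralizer_iff]
      rintro _ ⟨b', hb', rfl⟩
      apply hφinj
      rw [map_mul, map_mul]
      have : φ (Algebra.TensorProduct.includeRight b') = (1 : A) ⊗ₜ[k] b' := by simp [hφ]
      rw [this]
      apply hz
      exact ⟨(1 : B) ⊗ₜ[k] (⟨b', hb'⟩ : B'), by simp⟩
    rw [Subalgebra.centralizer_coe_image_includeRight_eq_center_tensorProduct k C A' (B' : Set A')] at h3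
    obtain ⟨v, rfl⟩ := h3
    refine ⟨v, ?_⟩
    clear hz
    induction v using TensorProduct.induction_on with
    | zero => simp
    | tmul c c' => simp [hφ]
    | add x y hx hy => simp only [map_add, hx, hy]
  · rintro ⟨v, rfl⟩
    rw [Subalgebra.mem_centralizer_iff]
    rintro _ ⟨u, rfl⟩
    induction v using TensorProduct.induction_on with
    | zero => simp
    | tmul c c' =>
      induction u using TensorProduct.induction_on with
      | zero => simp
      | tmul b b' =>
        change (Algebra.TensorProduct.map B.val B'.val) (b ⊗ₜ[k] b') *
          (Algebra.TensorProduct.map C.val C'.val) (c ⊗ₜ[k] c') =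
          (Algebra.TensorProduct.map C.val C'.val) (c ⊗ₜ[k] c') *
          (Algebra.TensorProduct.map B.val B'.val) (b ⊗ₜ[k] b')
        rw [Algebra.TensorProduct.map_tmul, Algebra.TensorProduct.map_tmul,
          Algebra.TensorProduct.tmul_mul_tmul, Algebra.TensorProduct.tmul_mul_tmul]
        simp only [Subalgebra.coe_val]
        rw [(Subalgebra.mem_centralizer_iff k).mp c.2 b b.2, (Subalgebra.mem_centralizer_iff k).mp c'.2 b' b'.2]
      | add x y hx hy =>
        simp only [map_add, add_mul, mul_add]
        rw [hx, hy]
    | add x y hx hy =>
      simp only [map_add, add_mul, mul_add]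
      rw [hx, hy]

end Groth.Agent.S1638
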