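import Groth.Statements.S16390
import Mathlib

set_option autoImplicit false
open AbVar

namespace Groth.Agent.S16390

lemma key_ineq (p r : ℕ) (hp : 2 ≤ p) (hr : 2 < r) : (p:ℝ)^2 * 2 ≤ (p:ℝ)^r := by
  have hp2 : (2:ℝ) ≤ p := by exact_mod_cast hp
  calc (p:ℝ)^2 * 2 ≤ (p:ℝ)^2 * p := by gcongr
    _ = (p:ℝ)^3 := by ring
    _ ≤ (p:ℝ)^r := pow_le_pow_right₀ (by linarith) hr

lemma no_real_root (p r : ℕ) (hp : 2 ≤ p) (hr : 2 < r) (x : ℝ) :
    x ^ 2 - (p:ℝ) * x + (p:ℝ)^r ≠ 0 := by
  have h := key_ineq p r hp hr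
  have hp2 : (2:ℝ) ≤ p := by exact_mod_cast hp
  have : 0 < x ^ 2 - (p:ℝ) * x + (p:ℝ)^r := by
    nlinarith [sq_nonneg (x - p/2), sq_nonneg (p:ℝ)]
  exact this.ne'

/-- Let p be a prime number, r > 2 and q = p^r. The polynomial x² − p x + q is irreducible over ℚ, each
of its complex roots has absolute value √q (so its roots are Weil q-numbers), and it has two
distinct roots in ℚ_p, of p-adic valuations 1 and r − 1. The published lemma also computes the index
of the endomorphism algebra of the simple abelian variety attached to a root; this row does not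
state that part. -/
theorem result (p r : ℕ) [Fact p.Prime] (hr : 2 < r) :
    Irreducible (Polynomial.X ^ 2 - Polynomial.C (p : ℚ) * Polynomial.X + Polynomial.C ((p : ℚ) ^ r)) ∧
      (∀ π : ℂ, π ^ 2 - (p : ℂ) * π + (p : ℂ) ^ r = 0 → ‖π‖ = Real.sqrt ((p : ℝ) ^ r)) ∧
      ∃ a b : ℚ_[p], a ≠ b ∧ a ^ 2 - (p : ℚ_[p]) * a + (p : ℚ_[p]) ^ r = 0 ∧
        b ^ 2 - (p : ℚ_[p]) * b + (p : ℚ_[p]) ^ r = 0 ∧ a.valuation = 1 ∧ b.valuation = (r : ℤ) - 1 := by
  have hp := (Fact.out : p.Prime)
  have hp2 : 2 ≤ p := hp.two_le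
  refine ⟨?_, ?_, ?_⟩
  · -- irreducible
    have hmonic : (Polynomial.X ^ 2 - Polynomial.C (p : ℚ) * Polynomial.X + Polynomial.C ((p : ℚ) ^ r)).Monic := by
      have : (Polynomial.X ^ 2 - Polynomial.C (p : ℚ) * Polynomial.X + Polynomial.C ((p : ℚ) ^ r))
          = Polynomial.X ^ 2 + (Polynomial.C (-(p : ℚ)) * Polynomial.X + Polynomial.C ((p : ℚ) ^ r)) := by
        simp only [map_neg]; ring
      rw [this]
      apply Polynomial.monic_X_pow_add
      refine lt_of_le_of_lt (Polynomial.degree_add_le _ _) ?_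
      refine max_lt ?_ ?_
      · refine lt_of_le_of_lt (Polynomial.degree_C_mul_X_le _) (by norm_num)
      · refine lt_of_le_of_lt (Polynomial.degree_C_le) (by norm_num)
    have hdeg : (Polynomial.X ^ 2 - Polynomial.C (p : ℚ) * Polynomial.X + Polynomial.C ((p : ℚ) ^ r)).natDegree = 2 := by
      have : (Polynomial.X ^ 2 - Polynomial.C (p : ℚ) * Polynomial.X + Polynomial.C ((p : ℚ) ^ r))
          = Polynomial.C 1 * Polynomial.X ^ 2 + Polynomial.C (-(p : ℚ)) * Polynomial.X + Polynomial.C ((p : ℚ) ^ r) := by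
        simp only [map_neg, map_one]; ring
      rw [this]
      exact Polynomial.natDegree_quadratic one_ne_zero
    rw [Polynomial.Monic.irreducible_iff_roots_eq_zero_of_degree_le_three hmonic (by omega) (by omega)]
    rw [Multiset.eq_zero_iff_forall_notMem]
    intro x hx
    rw [Polynomial.mem_roots hmonic.ne_zero] at hx
    simp only [Polynomial.IsRoot.def, Polynomial.eval_add, Polynomial.eval_sub, Polynomial.eval_pow,
      Polynomial.eval_X, Polynomial.eval_mul, Polynomial.eval_C] at hx
    apply no_real_root p r hp2 hr (x : ℝ)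
    have := congrArg (fun t : ℚ => (t : ℝ)) hx
    simpa using this
  · intro π hπ
    have hre := congrArg Complex.re hπ
    have him := congrArg Complex.im hπ
    simp only [Complex.add_re, Complex.sub_re, Complex.mul_re, Complex.natCast_re, Complex.natCast_im,
      Complex.add_im, Complex.sub_im, Complex.mul_im, Complex.zero_re, Complex.zero_im, sq,
      zero_mul, sub_zero, add_zero] at hre him
    have hpr_re : (((p:ℂ))^r).re = (p:ℝ)^r := by
      rw [← Complex.ofReal_natCast, ← Complex.ofReal_pow, Complex.ofReal_re]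
    have hpr_im : (((p:ℂ))^r).im = 0 := by
      rw [← Complex.ofReal_natCast, ← Complex.ofReal_pow, Complex.ofReal_im]
    rw [hpr_re] at hre
    rw [hpr_im] at him
    have hy : π.im ≠ 0 := by
      intro hy
      apply no_real_root p r hp2 hr π.re
      rw [hy] at hre
      nlinarith [hre]
    have hx : π.re = p / 2 := by
      have : π.im * (2 * π.re - p) = 0 := by nlinarith [him]
      rcases mul_eq_zero.mp this with h | h
      · exact absurd h hy
      · linarith
    have hnsq : Complex.normSq π = (p:ℝ)^r := by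
      rw [Complex.normSq_apply]
      rw [hx] at hre ⊢
      nlinarith [hre]
    rw [← hnsq, Complex.norm_def]
  · -- p-adic roots via Hensel
    set F : Polynomial ℤ := Polynomial.X ^ 2 - Polynomial.C (p : ℤ) * Polynomial.X + Polynomial.C ((p : ℤ) ^ r) with hF
    have hF0 : Polynomial.aeval (0 : ℤ_[p]) F = (p : ℤ_[p]) ^ r := by
      simp [hF]
    have hF'0 : Polynomial.aeval (0 : ℤ_[p]) (Polynomial.derivative F) = -(p : ℤ_[p]) := by
      rw [hF]
      simp only [Polynomial.derivative_add, Polynomial.derivative_sub, Polynomial.derivative_C,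
        Polynomial.derivative_X_pow, Polynomial.derivative_mul, Polynomial.derivative_X]
      simp
    have hpR : (1:ℝ) < p := by exact_mod_cast hp.one_lt
    have hnorm : ‖Polynomial.aeval (0 : ℤ_[p]) F‖ < ‖Polynomial.aeval (0 : ℤ_[p]) (Polynomial.derivative F)‖ ^ 2 := by
      rw [hF0, hF'0, norm_neg, PadicInt.norm_p_pow, PadicInt.norm_p, inv_pow, ← zpow_natCast (p:ℝ) 2,
        ← zpow_neg]
      apply zpow_lt_zpow_right₀ hpR
      push_cast
      omega
    obtain ⟨z, hz0, hzn, -, -⟩ := hensels_lemma hnorm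
    rw [hF'0, norm_neg, PadicInt.norm_p, sub_zero] at hzn
    have hzroot : (z : ℚ_[p]) ^ 2 - (p : ℚ_[p]) * z + (p : ℚ_[p]) ^ r = 0 := by
      have h1 : z ^ 2 - (p : ℤ_[p]) * z + (p : ℤ_[p]) ^ r = 0 := by
        simpa [hF] using hz0
      have := congrArg (fun t : ℤ_[p] => (t : ℚ_[p])) h1
      simpa using this
    have hznorm : ‖(z : ℚ_[p])‖ < (p:ℝ)⁻¹ := by
      rwa [← PadicInt.norm_def]
    have hpne : (p : ℚ_[p]) ≠ 0 := by exact_mod_cast hp.ne_zero
    have hanorm : ‖(p : ℚ_[p]) - z‖ = (p:ℝ)⁻¹ := by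
      rw [sub_eq_add_neg, Padic.add_eq_max_of_ne, norm_neg, Padic.norm_p]
      · exact max_eq_left hznorm.le
      · rw [norm_neg, Padic.norm_p]
        exact hznorm.ne'
    have hane : (p : ℚ_[p]) - z ≠ 0 := by
      intro h
      rw [h, norm_zero] at hanorm
      have : (0:ℝ) < (p:ℝ)⁻¹ := by positivity
      linarith
    have hprod : ((p : ℚ_[p]) - z) * z = (p : ℚ_[p]) ^ r := by
      linear_combination (-1 : ℚ_[p]) * hzroot
    have hzne : (z : ℚ_[p]) ≠ 0 := by
      intro h
      rw [h, mul_zero] at hprod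
      exact pow_ne_zero r hpne hprod.symm
    have hva : ((p : ℚ_[p]) - z).valuation = 1 := by
      have h := Padic.norm_eq_zpow_neg_valuation hane
      rw [hanorm, ← zpow_neg_one] at h
      have := zpow_right_injective₀ (by positivity : (0:ℝ) < p) hpR.ne' h
      omega
    refine ⟨(p : ℚ_[p]) - z, z, ?_, ?_, hzroot, hva, ?_⟩
    · intro h
      rw [h] at hanorm
      linarith
    · linear_combination hzroot
    · have h := congrArg Padic.valuation hprod
      rw [Padic.valuation_mul hane hzne, Padic.valuation_pow, Padic.valuation_p, hva] at h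
      linarith


end Groth.Agent.S16390
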