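import Groth.Statements.S16396
import Mathlib

set_option autoImplicit false
universe u
open CAlg

namespace Groth.Agent.S16396

open Polynomial in
/-- For a commutative ℚ-algebra A, a ℚ-subalgebra B of the polynomial algebra A[X] that contains X and
is closed under d/dX consists exactly of the polynomials each of whose coefficients is the value at
0 of some element of B; in other words B = ev(B)[X], with ev the evaluation at 0. -/
theorem result
    (A : Type u) [CommRing A] [Algebra ℚ A] (B : Subalgebra ℚ A[X])
    (hX : (X : A[X]) ∈ B) (hD : ∀ P ∈ B, Polynomial.derivative P ∈ B) (P : A[X]) :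
    P ∈ B ↔ ∀ i : ℕ, ∃ Q ∈ B, Polynomial.eval 0 Q = P.coeff i := by
  have hC : ∀ (n : ℕ) (Q : A[X]), Q ∈ B → Q.natDegree ≤ n → Polynomial.C (Q.eval 0) ∈ B := by
    intro n
    induction n with
    | zero =>
      intro Q hQ hdeg
      have h1 : Q = Polynomial.C (Q.coeff 0) := Polynomial.eq_C_of_natDegree_le_zero hdeg
      have h2 : Q.eval 0 = Q.coeff 0 := by rw [Polynomial.coeff_zero_eq_eval_zero]
      rw [h2, ← h1]
      exact hQ
    | succ n ih =>
      intro Q hQ hdeg
      by_cases hlt : Q.natDegree ≤ n
      · exact ih Q hQ hlt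
      · have hd : Q.natDegree = n + 1 := by omega
        obtain ⟨c, hc⟩ : ∃ c : ℚ, c = 1 / ((n : ℚ) + 1) := ⟨_, rfl⟩
        obtain ⟨Rp, hRp⟩ : ∃ Rp : A[X], Rp = Q - c • (Polynomial.X * Polynomial.derivative Q) :=
          ⟨_, rfl⟩
        have hR : Rp ∈ B := by
          rw [hRp]
          exact B.sub_mem hQ (B.smul_mem (B.mul_mem hX (hD Q hQ)) c)
        have heval : Rp.eval 0 = Q.eval 0 := by
          rw [hRp]
          simp [Polynomial.eval_smul]
        have hdegR : Rp.natDegree ≤ n := by
          rw [Polynomial.natDegree_le_iff_coeff_eq_zero]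
          intro m hm
          obtain ⟨m', rfl⟩ : ∃ m', m = m' + 1 := ⟨m - 1, by omega⟩
          rw [hRp, Polynomial.coeff_sub, Polynomial.coeff_smul, Polynomial.coeff_X_mul,
            Polynomial.coeff_derivative]
          by_cases hm' : m' = n
          · subst hm'
            have h3 : ((m' : A) + 1) = algebraMap ℚ A ((m' : ℚ) + 1) := by
              simp [map_add, map_natCast]
            have h4 : algebraMap ℚ A c * algebraMap ℚ A ((m' : ℚ) + 1) = 1 := by
              rw [← map_mul, hc]
              have : (1 / ((m' : ℚ) + 1)) * ((m' : ℚ) + 1) = 1 := by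
                have : ((m' : ℚ) + 1) ≠ 0 := by positivity
                field_simp
              rw [this, map_one]
            rw [h3, Algebra.smul_def]
            linear_combination (-(Q.coeff (m' + 1))) * h4
          · have h5 : Q.coeff (m' + 1) = 0 :=
              Polynomial.coeff_eq_zero_of_natDegree_lt (by omega)
            rw [h5]
            simp
        rw [← heval]
        exact ih Rp hR hdegR
  constructor
  · intro hP i
    have hiter : ∀ k : ℕ, Polynomial.derivative^[k] P ∈ B := by
      intro k
      induction k with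
      | zero => exact hP
      | succ k ih =>
        rw [Function.iterate_succ_apply']
        exact hD _ ih
    refine ⟨(1 / (i.factorial : ℚ)) • Polynomial.derivative^[i] P, B.smul_mem (hiter i) _, ?_⟩
    rw [← Polynomial.coeff_zero_eq_eval_zero, Polynomial.coeff_smul,
      Polynomial.coeff_iterate_derivative, zero_add, Nat.descFactorial_self,
      ← Nat.cast_smul_eq_nsmul ℚ, smul_smul, one_div,
      inv_mul_cancel₀ (Nat.cast_ne_zero.2 (Nat.factorial_ne_zero i)), one_smul]
  · intro h
    have hP : P = ∑ i ∈ Finset.range (P.natDegree + 1), Polynomial.C (P.coeff i) * Polynomial.X ^ i :=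
      P.as_sum_range_C_mul_X_pow
    rw [hP]
    refine B.sum_mem (fun i _ => B.mul_mem ?_ (B.pow_mem hX i))
    obtain ⟨Q, hQ, hQe⟩ := h i
    rw [← hQe]
    exact hC Q.natDegree Q hQ le_rfl

end Groth.Agent.S16396
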