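import Groth.Statements.S1640
import Groth.Agent.Lib.Helper12.SemiLocalGlue

set_option autoImplicit false
universe u

open Variety

namespace Groth.Agent.S1640

open Groth.Agent.Lib.Helper12 Groth.Agent.Lib.Helper12.Glue

section aux
variable {K : Type u} [Field K]

/-- Archimedean property of a discrete valuation ring. -/
theorem dvr_arch (W : ValuationSubring K) [IsDiscreteValuationRing W] {z : K}
    (hz : z ∈ W.nonunits) (y : K) : ∃ n : ℕ, y * z ^ n ∈ W := by
  obtain ⟨hzW, hzm⟩ := ValuationSubring.mem_nonunits_iff_exists_mem_maximalIdeal.1 hz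
  have h := (dvr_nice W).tn_of_jac (x := ⟨z, hzW⟩) (fun m hm => by
    have : m = IsLocalRing.maximalIdeal W := IsLocalRing.eq_maximalIdeal hm
    rw [this]; exact hzm)
  exact h.2 y

/-- Avoidance of finitely many archimedean valuation rings by an element of a subring. -/
theorem exists_notMem (A : Subring K) (S : Finset (ValuationSubring K))
    (harch : ∀ V ∈ S, ∀ z ∈ V.nonunits, ∀ y : K, ∃ n : ℕ, y * z ^ n ∈ V)
    (hA : ∀ V ∈ S, ∃ a ∈ A, a ∉ V) : ∃ x ∈ A, x ≠ 0 ∧ ∀ V ∈ S, x ∉ V := by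
  classical
  induction S using Finset.induction_on with
  | empty => exact ⟨1, A.one_mem, one_ne_zero, by simp⟩
  | insert V₀ S' hV₀ ih =>
    obtain ⟨x, hxA, hx0, hx⟩ := ih (fun V hV => harch V (Finset.mem_insert_of_mem hV))
      (fun V hV => hA V (Finset.mem_insert_of_mem hV))
    obtain ⟨a, haA, haV⟩ := hA V₀ (Finset.mem_insert_self _ _)
    by_cases hxV : x ∈ V₀
    swap
    · refine ⟨x, hxA, hx0, fun V hV => ?_⟩
      rcases Finset.mem_insert.1 hV with h | hV
      · rw [h]; exact hxV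
      · exact hx V hV
    have hxinv : ∀ V ∈ S', x⁻¹ ∈ V.nonunits := fun V hV => by
      rw [V.mem_nonunits_iff_or]
      right; rw [inv_inv]; exact hx V hV
    choose! n hn using fun V (hV : V ∈ S') =>
      harch V (Finset.mem_insert_of_mem hV) x⁻¹ (hxinv V hV) a
    have hyV₀ : x ^ (S'.sup n + 1) + a ∉ V₀ := by
      intro hmem
      apply haV
      have : a = (x ^ (S'.sup n + 1) + a) - x ^ (S'.sup n + 1) := by ring
      rw [this]; exact sub_mem hmem (pow_mem hxV _)
    refine ⟨x ^ (S'.sup n + 1) + a, A.add_mem (A.pow_mem hxA _) haA, ?_, fun V hV hmem => ?_⟩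
    · intro h0
      apply hyV₀
      rw [h0]; exact zero_mem _
    rcases Finset.mem_insert.1 hV with h | hV
    · rw [h] at hmem; exact hyV₀ hmem
    · have hnp : n V ≤ S'.sup n := Finset.le_sup hV
      have h3 : x⁻¹ ^ (S'.sup n + 1) ∈ V.nonunits := by
        rw [pow_succ]
        exact nonunits_mul_left (pow_mem (V.nonunits_subset (hxinv V hV)) _) (hxinv V hV)
      have h1 : a * x⁻¹ ^ (S'.sup n + 1) ∈ V.nonunits := by
        have : a * x⁻¹ ^ (S'.sup n + 1)
            = (a * x⁻¹ ^ n V * x⁻¹ ^ (S'.sup n - n V)) * x⁻¹ := by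
          have e : S'.sup n + 1 = n V + (S'.sup n - n V) + 1 := by omega
          rw [e, pow_succ, pow_add]; ring
        rw [this]
        exact nonunits_mul_left
          (mul_mem (hn V hV) (pow_mem (V.nonunits_subset (hxinv V hV)) _)) (hxinv V hV)
      have h2 : (x ^ (S'.sup n + 1) + a) * x⁻¹ ^ (S'.sup n + 1) ∈ V.nonunits :=
        nonunits_mul_left hmem h3
      have h4 : (x ^ (S'.sup n + 1) + a) * x⁻¹ ^ (S'.sup n + 1)
          = 1 + a * x⁻¹ ^ (S'.sup n + 1) := by
        rw [add_mul, inv_pow, mul_inv_cancel₀ (pow_ne_zero _ hx0)]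
      rw [h4] at h2
      have h5 : -(a * x⁻¹ ^ (S'.sup n + 1)) ∈ V.nonunits := by
        have : -(a * x⁻¹ ^ (S'.sup n + 1)) = (-1) * (a * x⁻¹ ^ (S'.sup n + 1)) := by ring
        rw [this]; exact nonunits_mul_left (neg_mem (one_mem V)) h1
      have h6 := nonunits_add h2 h5
      rw [add_neg_cancel_right] at h6
      exact one_notMem_nonunits V h6

end aux

/-- Let K be a field, A ⊆ K a subring with fraction field K, and B_1, …, B_r ⊆ K Noetherian
one-dimensional subrings with finitely many maximal ideals and fraction field K, such that for each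
i the subring generated by A and B_i is all of K. Then some nonzero x ∈ A has x⁻¹ lying in B_i and
in the Jacobson radical of B_i for every i. -/
theorem result (K : Type u) [Field K] (A : Subring K) [IsFractionRing A K]
    (r : ℕ) (B : Fin r → Subring K) [∀ i, IsNoetherianRing (B i)] [∀ i, IsFractionRing (B i) K]
    (hdim : ∀ i, ringKrullDim (B i) = 1) (hsl : ∀ i, Finite (MaximalSpectrum (B i)))
    (hgen : ∀ i, A ⊔ B i = ⊤) :
    ∃ x : K, x ∈ A ∧ x ≠ 0 ∧ ∀ i, ∃ hx : x⁻¹ ∈ B i, (⟨x⁻¹, hx⟩ : B i) ∈ (⊥ : Ideal (B i)).jacobson := by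
  classical
  have hNice : ∀ i, Nice (B i) := fun i =>
    { frac := inferInstance
      dim := by
        rw [Ring.krullDimLE_iff, hdim i]; rfl
      fin := hsl i
      nf := fun hf => by
        have := ringKrullDim_eq_zero_of_isField hf
        rw [hdim i] at this; exact one_ne_zero this
      noeth := inferInstance }
  let S : Finset (ValuationSubring K) :=
    Finset.univ.biUnion fun i => (finite_dvrsOver (hNice i)).toFinset
  have hS : ∀ V, V ∈ S ↔ ∃ i, B i ≤ V.toSubring ∧ V ≠ ⊤ := by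
    intro V; simp [S]
  have hdvr : ∀ V ∈ S, IsDiscreteValuationRing V := fun V hV => by
    obtain ⟨i, hi, hVt⟩ := (hS V).1 hV
    have := (hNice i).dim
    exact KA.isDiscreteValuationRing_of_le (A := B i) V (fun r => hi r.2) hVt
  obtain ⟨x, hxA, hx0, hx⟩ := exists_notMem A S
    (fun V hV z hz y => by
      haveI := hdvr V hV; exact dvr_arch V hz y)
    (fun V hV => by
      obtain ⟨i, hi, hVt⟩ := (hS V).1 hV
      by_contra hcon
      push Not at hcon
      apply hVt
      have h1 : A ⊔ B i ≤ V.toSubring := sup_le (fun a ha => hcon a ha) hi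
      rw [hgen i] at h1
      exact eq_top_iff.2 (fun y _ => h1 (Subring.mem_top y)))
  have hεV : ∀ i, ∀ V : ValuationSubring K, B i ≤ V.toSubring → V ≠ ⊤ → x⁻¹ ∈ V.nonunits := by
    intro i V hBV hV
    rw [V.mem_nonunits_iff_or]
    right; rw [inv_inv]; exact hx V ((hS V).2 ⟨i, hBV, hV⟩)
  have hint : ∀ i, IsIntegral (B i) x⁻¹ := fun i => by
    apply isIntegral_of_forall_mem
    intro V hBV
    by_cases hV : V = ⊤
    · rw [hV]; exact ValuationSubring.mem_top _
    · exact V.nonunits_subset (hεV i V hBV hV)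
  have key : ∀ i, ∃ Ni : ℕ, 0 < Ni ∧ x⁻¹ ^ Ni ∈ B i := fun i =>
    pow_mem_of_integral (hNice i) (hint i) (hεV i)
  choose Ni hNipos hNi using key
  have hNpos : 0 < ∏ i, Ni i := Finset.prod_pos (fun i _ => hNipos i)
  have hNB : ∀ i, x⁻¹ ^ (∏ i, Ni i) ∈ B i := fun i => by
    obtain ⟨c, hc⟩ : Ni i ∣ ∏ i, Ni i := Finset.dvd_prod_of_mem _ (Finset.mem_univ i)
    rw [hc, pow_mul]; exact (B i).pow_mem (hNi i) c
  refine ⟨x ^ (∏ i, Ni i), A.pow_mem hxA _, pow_ne_zero _ hx0, fun i => ?_⟩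
  have hmem : (x ^ (∏ i, Ni i))⁻¹ ∈ B i := by rw [← inv_pow]; exact hNB i
  refine ⟨hmem, ?_⟩
  rw [Ideal.jacobson, Ideal.mem_sInf]
  rintro m ⟨-, hm⟩
  by_contra hvm
  obtain ⟨y, j, hj, hyj⟩ := hm.exists_inv hvm
  obtain ⟨V, hBV, hV⟩ := Ideal.image_subset_nonunits_valuationSubring m hm.ne_top
  have hmb : m ≠ ⊥ := Ring.ne_bot_of_isMaximal_of_not_isField hm (hNice i).nf
  obtain ⟨π, hπ, hπ0⟩ := Submodule.exists_mem_ne_zero_of_ne_bot hmb
  have hπV : (π : K) ∈ V.nonunits := hV ⟨π, hπ, rfl⟩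
  have hVtop : V ≠ ⊤ :=
    valuationSubring_ne_top_of_mem_nonunits hπV (fun h => hπ0 (Subtype.ext h))
  have hzV : (x ^ (∏ i, Ni i))⁻¹ ∈ V.nonunits := by
    rw [← inv_pow]
    obtain ⟨M, hM⟩ := Nat.exists_eq_succ_of_ne_zero hNpos.ne'
    rw [hM, pow_succ]
    exact nonunits_mul_left (pow_mem (V.nonunits_subset (hεV i V hBV hVtop)) M)
      (hεV i V hBV hVtop)
  have h1 : (y : K) * (x ^ (∏ i, Ni i))⁻¹ ∈ V.nonunits := nonunits_mul_left (hBV y.2) hzV
  have h2 : (j : K) ∈ V.nonunits := hV ⟨j, hj, rfl⟩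
  have h3 := nonunits_add h1 h2
  have h4 : (y : K) * (x ^ (∏ i, Ni i))⁻¹ + (j : K) = 1 := congrArg Subtype.val hyj
  rw [h4] at h3
  exact one_notMem_nonunits V h3

end Groth.Agent.S1640
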