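import Groth.Statements.S16400
import Mathlib

set_option autoImplicit false
universe u v
open CAlgX

namespace Groth.Agent.S16400

variable {K : Type*} [Field K]

lemma exists_cols_aux {a b : Type*} [Fintype a] [Fintype b] [DecidableEq b] (M : Matrix a b K) :
    ∃ S : Finset b, Function.Injective (M.submatrix id (Subtype.val : S → b)).mulVecLin ∧
      LinearMap.range M.mulVecLin ≤ LinearMap.range (M.submatrix id (Subtype.val : S → b)).mulVecLin := by
  classical
  obtain ⟨s, -, -, hspan, hli⟩ := exists_linearIndepOn_extension (K := K) (v := M.col) (s := ∅)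
    (t := Set.univ) (linearIndepOn_empty _ _) (Set.empty_subset _)
  obtain ⟨S, rfl⟩ : ∃ S : Finset b, s = ↑S := ⟨s.toFinset, (Set.coe_toFinset s).symm⟩
  refine ⟨S, ?_, ?_⟩
  · rw [Matrix.coe_mulVecLin, Matrix.mulVec_injective_iff]
    exact hli
  · rw [Matrix.range_mulVecLin, Matrix.range_mulVecLin, Submodule.span_le]
    rintro _ ⟨j, rfl⟩
    have h1 := hspan ⟨j, Set.mem_univ _, rfl⟩
    have h2 : M.col '' (↑S : Set b) = Set.range (M.submatrix id (Subtype.val : S → b)).col := by
      ext x
      constructor
      · rintro ⟨j, hj, rfl⟩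
        exact ⟨⟨j, hj⟩, rfl⟩
      · rintro ⟨j, rfl⟩
        exact ⟨j.1, j.2, rfl⟩
    rw [h2] at h1
    exact h1

lemma exists_cols {a b : Type*} [Fintype a] [Fintype b] [DecidableEq b] (M : Matrix a b K)
    (h : Function.Surjective M.mulVecLin) :
    ∃ S : Finset b, Function.Bijective (M.submatrix id (Subtype.val : S → b)).mulVecLin := by
  obtain ⟨S, h1, h2⟩ := exists_cols_aux M
  refine ⟨S, h1, ?_⟩
  rw [← LinearMap.range_eq_top] at h ⊢
  rw [h] at h2
  exact top_le_iff.mp h2

lemma bijective_of_transpose {a b : Type*} [Fintype a] [Fintype b] (Q : Matrix a b K)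
    (h : Function.Bijective Q.transpose.mulVecLin) : Function.Bijective Q.mulVecLin := by
  have hcard : Module.finrank K (a → K) = Module.finrank K (b → K) :=
    (LinearEquiv.ofBijective _ h).finrank_eq
  have hrank : Q.transpose.rank = Module.finrank K (b → K) := by
    unfold Matrix.rank
    rw [LinearMap.range_eq_top.mpr h.2, finrank_top]
  rw [Matrix.rank_transpose] at hrank
  have hsurj : Function.Surjective Q.mulVecLin := by
    rw [← LinearMap.range_eq_top]
    apply Submodule.eq_top_of_finrank_eq
    change Q.rank = _
    rw [hrank, hcard]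
  exact ⟨(LinearMap.injective_iff_surjective_of_finrank_eq_finrank hcard.symm).mpr hsurj, hsurj⟩

lemma exists_rows {a b : Type*} [Fintype a] [Fintype b] [DecidableEq a] (M : Matrix a b K)
    (h : Function.Injective M.mulVecLin) :
    ∃ T : Finset a, Function.Bijective (M.submatrix (Subtype.val : T → a) id).mulVecLin := by
  have hsurj : Function.Surjective M.transpose.mulVecLin := by
    rw [← LinearMap.range_eq_top]
    apply Submodule.eq_top_of_finrank_eq
    change M.transpose.rank = _
    rw [Matrix.rank_transpose, Matrix.rank, LinearMap.finrank_range_of_inj h]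
  obtain ⟨T, hT⟩ := exists_cols M.transpose hsurj
  exact ⟨T, bijective_of_transpose _ hT⟩

/-- Let K be a field, N a finite index set and A a square matrix over K indexed by N whose linear map on
column vectors has kernel equal to its range (so A composed with A is zero and the three-term
sequence it defines is exact in the middle). Then there are subsets N₁₂, N₂₁, N₃₁ of N such that the
block of A with rows in N₃₁ and columns in N₂₁, and the block of A with rows outside N₂₁ and columns
in N₁₂, both act bijectively on column vectors. (In the original setting K is the prime field and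
middle exactness is supplied by the Cartier isomorphism; here exactness is the hypothesis and K is
any field.) -/
theorem result
    {K : Type u} [Field K] {N : Type v} [Fintype N] [DecidableEq N]
    (A : Matrix N N K)
    (hA : LinearMap.ker A.mulVecLin = LinearMap.range A.mulVecLin) :
    ∃ N₁₂ N₂₁ N₃₁ : Finset N,
      Function.Bijective (A.submatrix (Subtype.val : ↥N₃₁ → N) (Subtype.val : ↥N₂₁ → N)).mulVecLin ∧
      Function.Bijective
        (A.submatrix (Subtype.val : {x : N // x ∉ N₂₁} → N) (Subtype.val : ↥N₁₂ → N)).mulVecLin := by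
  classical
  obtain ⟨N₂₁, hinj, hrange⟩ := exists_cols_aux A
  obtain ⟨N₃₁, h31⟩ := exists_rows _ hinj
  have hPA : Function.Surjective
      (A.submatrix (Subtype.val : {x : N // x ∉ N₂₁} → N) id).mulVecLin := by
    intro y
    -- lift y to x
    let x : N → K := fun i => if h : i ∉ N₂₁ then y ⟨i, h⟩ else 0
    -- A x ∈ range A = ker A? no: decompose x = u + w
    -- first: find u supported on N₂₁ with A u = A x
    have hAx : A.mulVecLin x ∈ LinearMap.range (A.submatrix id (Subtype.val : N₂₁ → N)).mulVecLin :=
      hrange ⟨x, rfl⟩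
    obtain ⟨y', hy'⟩ := hAx
    let u : N → K := fun j => if h : j ∈ N₂₁ then y' ⟨j, h⟩ else 0
    have hu : A.mulVecLin u = A.mulVecLin x := by
      rw [← hy']
      ext i
      simp only [Matrix.mulVecLin_apply, Matrix.mulVec, dotProduct, Matrix.submatrix_apply, id_eq]
      rw [← Finset.sum_subset (Finset.subset_univ N₂₁)]
      · rw [← Finset.sum_coe_sort N₂₁]
        apply Finset.sum_congr rfl
        intro j _
        simp only [u, dif_pos j.2]
      · intro j _ hj
        simp only [u, dif_neg hj, mul_zero]
    have hw : x - u ∈ LinearMap.ker A.mulVecLin := by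
      rw [LinearMap.mem_ker, map_sub, hu, sub_self]
    rw [hA] at hw
    obtain ⟨z, hz⟩ := hw
    refine ⟨z, ?_⟩
    ext i
    have h1 : (A.submatrix (Subtype.val : {x : N // x ∉ N₂₁} → N) id).mulVecLin z i
        = A.mulVecLin z i.1 := rfl
    rw [h1, hz]
    simp only [Pi.sub_apply, x, u, dif_pos i.2, dif_neg i.2, sub_zero]
  obtain ⟨N₁₂, h12⟩ := exists_cols _ hPA
  exact ⟨N₁₂, N₂₁, N₃₁, h31, h12⟩


end Groth.Agent.S16400
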