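import Groth.Statements.S16401
import Mathlib

set_option autoImplicit false
universe u v
open CAlgX

namespace Groth.Agent.S16401

theorem prod_mem {R : Type u} [CommRing R] {ι : Type v} [AddCommGroup ι]
    (E : ι → AddSubgroup R) (h0 : E 0 = ⊤)
    (hmul : ∀ a b : ι, ∀ x ∈ E a, ∀ y ∈ E b, x * y ∈ E (a + b))
    {κ : Type} (s : Finset κ) (x : κ → R) (a : κ → ι) (hx : ∀ k ∈ s, x k ∈ E (a k)) :
    ∏ k ∈ s, x k ∈ E (∑ k ∈ s, a k) := by
  classical
  induction s using Finset.induction_on with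
  | empty => simp [h0]
  | insert k s hk ih =>
    rw [Finset.prod_insert hk, Finset.sum_insert hk]
    exact hmul _ _ _ (hx k (Finset.mem_insert_self k s)) _
      (ih (fun k' hk' => hx k' (Finset.mem_insert_of_mem hk')))

theorem det_mem {R : Type u} [CommRing R] {ι : Type v} [AddCommGroup ι]
    (E : ι → AddSubgroup R) (h0 : E 0 = ⊤)
    (hmul : ∀ a b : ι, ∀ x ∈ E a, ∀ y ∈ E b, x * y ∈ E (a + b))
    {r : ℕ} (wβ wγ : Fin r → ι) (M : Matrix (Fin r) (Fin r) R)
    (hM : ∀ i j, M i j ∈ E (wγ i - wβ j)) : M.det ∈ E (∑ i, wγ i - ∑ j, wβ j) := by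
  rw [Matrix.det_apply]
  refine AddSubgroup.sum_mem _ (fun σ _ => ?_)
  have h1 : ∏ k, M (σ k) k ∈ E (∑ k, (wγ (σ k) - wβ k)) :=
    prod_mem E h0 hmul Finset.univ _ _ (fun k _ => hM (σ k) k)
  have h2 : ∑ k, (wγ (σ k) - wβ k) = ∑ i, wγ i - ∑ j, wβ j := by
    rw [Finset.sum_sub_distrib, Equiv.sum_comp σ wγ]
  rw [h2] at h1
  rcases Int.units_eq_one_or (Equiv.Perm.sign σ) with h | h <;> rw [h]
  · simpa using h1
  · simpa using (E _).neg_mem h1

/-- Let R be a commutative ring and (E_a), a ∈ ι, a family of additive subgroups of R indexed by an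
additive commutative group ι, with E_0 = R and E_a · E_b ⊆ E_{a+b}. Let β, γ : Fin r → ι be weight
vectors with Σ_j β_j = Σ_i γ_i, and let ϑ be an r × r matrix over R with ϑ_{ij} ∈ E_{γ_i − β_j} for
all i, j and with unit determinant. Then a column vector u satisfies u_j ∈ E_{β_j} for every j if
and only if (ϑ u)_i ∈ E_{γ_i} for every i; since ϑ is invertible this says that ϑ maps the box Π_j
E_{β_j} bijectively onto the box Π_i E_{γ_i}. -/
theorem result
    {R : Type u} [CommRing R] {ι : Type v} [AddCommGroup ι]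
    (E : ι → AddSubgroup R) (h0 : E 0 = ⊤)
    (hmul : ∀ a b : ι, ∀ x ∈ E a, ∀ y ∈ E b, x * y ∈ E (a + b))
    {r : ℕ} (wβ wγ : Fin r → ι) (hsum : ∑ j, wβ j = ∑ i, wγ i)
    (ϑ : Matrix (Fin r) (Fin r) R) (hϑ : ∀ i j, ϑ i j ∈ E (wγ i - wβ j))
    (hdet : IsUnit ϑ.det) (u : Fin r → R) :
    (∀ j, u j ∈ E (wβ j)) ↔ ∀ i, ϑ.mulVec u i ∈ E (wγ i) := by
  classical
  constructor
  · intro hu i
    show ∑ j, ϑ i j * u j ∈ E (wγ i)
    refine AddSubgroup.sum_mem _ (fun j _ => ?_)
    have h1 := hmul _ _ _ (hϑ i j) _ (hu j)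
    rwa [sub_add_cancel] at h1
  · intro hv j
    have hadj : ∀ i, ϑ.adjugate j i ∈ E (wβ j - wγ i) := by
      intro i
      rw [Matrix.adjugate_apply]
      have h1 := det_mem E h0 hmul wβ (Function.update wγ i (wβ j))
        (ϑ.updateRow i (Pi.single j 1)) (by
          intro i' k
          by_cases hi' : i' = i
          · subst hi'
            rw [Matrix.updateRow_self, Function.update_self]
            by_cases hk : k = j
            · subst hk
              rw [Pi.single_eq_same, sub_self, h0]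
              exact AddSubgroup.mem_top _
            · rw [Pi.single_eq_of_ne hk]
              exact (E _).zero_mem
          · rw [Matrix.updateRow_ne hi', Function.update_of_ne hi']
            exact hϑ i' k)
      have h2 : ∑ i', Function.update wγ i (wβ j) i' - ∑ k, wβ k = wβ j - wγ i := by
        rw [Finset.sum_update_of_mem (Finset.mem_univ i), hsum,
          ← Finset.add_sum_erase Finset.univ wγ (Finset.mem_univ i), Finset.sdiff_singleton_eq_erase]
        abel
      rwa [h2] at h1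
    have hu : u = ϑ⁻¹.mulVec (ϑ.mulVec u) := by
      rw [Matrix.mulVec_mulVec, Matrix.nonsing_inv_mul _ hdet, Matrix.one_mulVec]
    rw [hu]
    show ∑ i, ϑ⁻¹ j i * ϑ.mulVec u i ∈ E (wβ j)
    refine AddSubgroup.sum_mem _ (fun i _ => ?_)
    rw [Matrix.inv_def, Matrix.smul_apply, smul_eq_mul]
    have h1 : Ring.inverse ϑ.det ∈ E 0 := by
      rw [h0]
      exact AddSubgroup.mem_top _
    have h2 := hmul _ _ _ (hmul _ _ _ h1 _ (hadj i)) _ (hv i)
    rwa [zero_add, sub_add_cancel] at h2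

end Groth.Agent.S16401
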