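import Groth.Statements.S16405
import Mathlib

set_option autoImplicit false
universe u v
open InvQ

namespace Groth.Agent.S16405

/-- In weight form. Let b : L → ℤ^r be an injective homomorphism of abelian groups (the case in view: L
the character group of a maximal torus T of a semisimple group over ℂ and b the map dual to the
surjection of the rank-r split torus T' onto T that sends the i-th coordinate cocharacter to the
primitive generator of the i-th ray of the Weyl chamber; only the injectivity of b is used, and ℂ is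
replaced by any commutative ring k). Grade the monoid algebra k[L × ℕ^r] (the coordinate ring of T ×
𝔸^r) by ℤ^r, the monomial (w, n) having weight b(w) + n (the weights of the T'-action u·(t, v) =
(b^∨(u) t, u v)), and grade k[ℕ^r] by ℤ^r/b(L), the monomial n having weight the class of n (the
weights of the action on 𝔸^r of the diagonalizable kernel Z of T' → T, a finite group in the case in
view). For a diagonalizable group acting on an affine scheme the ring of invariants is the
weight-zero part, so the two weight-zero parts are the coordinate rings of the quotients (T ×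
𝔸^r)//T' and 𝔸^r//Z. The statement: the algebra map k[L × ℕ^r] → k[ℕ^r] induced by the projection L
× ℕ^r → ℕ^r (restriction to the slice 1 × 𝔸^r) maps the weight-zero part of k[L × ℕ^r] bijectively
onto the weight-zero part of k[ℕ^r]; hence it induces an isomorphism of k-algebras between them. -/
theorem result
    (k : Type u) [CommRing k] (r : ℕ) (L : Type v) [AddCommGroup L]
    (b : L →+ (Fin r → ℤ)) (hb : Function.Injective b) :
    Set.BijOn
      (AddMonoidAlgebra.mapDomainAlgHom k k (AddMonoidHom.snd L (Fin r → ℕ)))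
      (AddMonoidAlgebra.gradeBy k
        (b.comp (AddMonoidHom.fst L (Fin r → ℕ)) +
          (AddMonoidHom.compLeft (Nat.castAddMonoidHom ℤ) (Fin r)).comp (AddMonoidHom.snd L (Fin r → ℕ))) 0 :
        Set (AddMonoidAlgebra k (L × (Fin r → ℕ))))
      (AddMonoidAlgebra.gradeBy k
        ((QuotientAddGroup.mk' b.range).comp (AddMonoidHom.compLeft (Nat.castAddMonoidHom ℤ) (Fin r))) 0 :
        Set (AddMonoidAlgebra k (Fin r → ℕ))) := by
  classical
  have hmap : ∀ x : AddMonoidAlgebra k (L × (Fin r → ℕ)),
      (AddMonoidAlgebra.mapDomainAlgHom k k (AddMonoidHom.snd L (Fin r → ℕ)) x).coeff =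
        Finsupp.mapDomain Prod.snd x.coeff := fun x => rfl
  have hw1 : ∀ m : L × (Fin r → ℕ),
      (b.comp (AddMonoidHom.fst L (Fin r → ℕ)) +
        (AddMonoidHom.compLeft (Nat.castAddMonoidHom ℤ) (Fin r)).comp
          (AddMonoidHom.snd L (Fin r → ℕ))) m = b m.1 + (fun i => ((m.2 i : ℕ) : ℤ)) := fun m => rfl
  have hw2 : ∀ n : Fin r → ℕ,
      ((QuotientAddGroup.mk' b.range).comp
        (AddMonoidHom.compLeft (Nat.castAddMonoidHom ℤ) (Fin r))) n =
        ((fun i => ((n i : ℕ) : ℤ) : Fin r → ℤ) : (Fin r → ℤ) ⧸ b.range) := fun n => rfl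
  refine ⟨?_, ?_, ?_⟩
  · intro x hx
    rw [SetLike.mem_coe] at hx ⊢
    intro n hn
    rw [hmap] at hn
    have h1 := Finsupp.mapDomain_support hn
    rw [Finset.mem_image] at h1
    obtain ⟨m, hm, rfl⟩ := h1
    have h2 := hx m hm
    rw [hw1] at h2
    rw [hw2, QuotientAddGroup.eq_zero_iff]
    refine ⟨-m.1, ?_⟩
    rw [map_neg]
    exact neg_eq_of_add_eq_zero_right h2
  · intro x hx y hy hxy
    rw [SetLike.mem_coe] at hx hy
    have h1 : Finsupp.mapDomain Prod.snd x.coeff = Finsupp.mapDomain Prod.snd y.coeff := by
      rw [← hmap, ← hmap, hxy]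
    have hinj : Set.InjOn (Prod.snd : L × (Fin r → ℕ) → (Fin r → ℕ))
        {m | b m.1 + (fun i => ((m.2 i : ℕ) : ℤ)) = 0} := by
      rintro ⟨l, n⟩ hl ⟨l', n'⟩ hl' hnn
      simp only [Set.mem_ofPred_eq] at hl hl'
      simp only at hnn
      subst hnn
      have : b l = b l' := add_right_cancel (hl.trans hl'.symm)
      rw [hb this]
    have h2 := Finsupp.mapDomain_injOn _ hinj (x₁ := x.coeff) (x₂ := y.coeff)
      (fun m hm => by simpa [hw1] using hx m hm) (fun m hm => by simpa [hw1] using hy m hm) h1
    exact AddMonoidAlgebra.coeff_injective h2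
  · intro y hy
    rw [SetLike.mem_coe] at hy
    let s : (Fin r → ℕ) → L × (Fin r → ℕ) := fun n =>
      (if h : ∃ l, b l = -(fun i => ((n i : ℕ) : ℤ)) then h.choose else 0, n)
    refine ⟨AddMonoidAlgebra.ofCoeff (Finsupp.mapDomain s y.coeff), ?_, ?_⟩
    · rw [SetLike.mem_coe]
      intro m hm
      have h1 := Finsupp.mapDomain_support hm
      rw [Finset.mem_image] at h1
      obtain ⟨n, hn, rfl⟩ := h1
      have h2 := hy n hn
      rw [hw2, QuotientAddGroup.eq_zero_iff] at h2
      obtain ⟨l', hl'⟩ := h2
      have hex : ∃ l, b l = -(fun i => ((n i : ℕ) : ℤ)) := ⟨-l', by rw [map_neg]; exact congrArg Neg.neg hl'⟩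
      rw [hw1]
      show b (if h : ∃ l, b l = -(fun i => ((n i : ℕ) : ℤ)) then h.choose else 0) + _ = 0
      rw [dif_pos hex, hex.choose_spec]
      exact neg_add_cancel _
    · apply AddMonoidAlgebra.coeff_injective
      rw [hmap]
      show Finsupp.mapDomain Prod.snd (Finsupp.mapDomain s y.coeff) = y.coeff
      rw [← Finsupp.mapDomain_comp]
      exact Finsupp.mapDomain_id

end Groth.Agent.S16405
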