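import Groth.Statements.S16409
import Mathlib
import Groth.Agent.Lib.Helper24.MVSq

set_option autoImplicit false
universe v u
open CategoryTheory CategoryTheory.Limits CategoryTheory.Pretriangulated
open W4c3perfectstacks W4c3perfectstacks.MVSq

namespace Groth.Agent.S16409

/-- In a Mayer–Vietoris square of triangulated categories (single-square form), let M be an object over
X' whose restriction to U' is zero and let N be any object over X. Then the pullback functor along
X' → X is bijective on morphisms f_* M ⟶ N; since the counit f^* f_* M ⟶ M is invertible for such M,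
composing with its inverse gives a bijection Hom(f_* M, N) ≃ Hom(M, f^* N). (The four categories are
taken in common universes.) -/
theorem result
    (S S' R R' : Type u) [Category.{v} S] [Category.{v} S'] [Category.{v} R] [Category.{v} R']
    [Preadditive S] [Preadditive S'] [Preadditive R] [Preadditive R']
    [HasZeroObject S] [HasZeroObject S'] [HasZeroObject R] [HasZeroObject R']
    [HasShift S ℤ] [HasShift S' ℤ] [HasShift R ℤ] [HasShift R' ℤ]
    [∀ n : ℤ, (shiftFunctor S n).Additive] [∀ n : ℤ, (shiftFunctor S' n).Additive]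
    [∀ n : ℤ, (shiftFunctor R n).Additive] [∀ n : ℤ, (shiftFunctor R' n).Additive]
    [Pretriangulated S] [Pretriangulated S'] [Pretriangulated R] [Pretriangulated R']
    [IsTriangulated S] [IsTriangulated S'] [IsTriangulated R] [IsTriangulated R']
    (q : W4c3perfectstacks.MVSq S S' R R')
    [q.jst.CommShift ℤ] [q.fst.CommShift ℤ] [q.jpst.CommShift ℤ] [q.gst.CommShift ℤ]
    [q.jst.IsTriangulated] [q.fst.IsTriangulated] [q.jpst.IsTriangulated] [q.gst.IsTriangulated]
    (hq : q.IsMV) (M : S') (hM : IsZero (q.jpst.obj M)) (N : S) :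
    Function.Bijective (fun g : q.fls.obj M ⟶ N => q.fst.map g) := by
  have hZ : IsZero (q.jst.obj (q.fls.obj M)) := by
    haveI := hq.isIso_bcApp M
    have hg : IsZero (q.gls.obj (q.jpst.obj M)) := by
      rw [IsZero.iff_id_eq_zero]
      exact (q.adjG.homEquiv _ _).symm.injective (hM.eq_of_tgt _ _)
    exact hg.of_iso (asIso (q.bcApp M))
  obtain ⟨hinj, hsurj⟩ :=
    Groth.Agent.Lib.Helper24.MVSq.unitF_comp_bijective_aux q hq N (q.fls.obj M) hZ
  constructor
  · intro g₁ g₂ h12
    have h12' : q.fst.map g₁ = q.fst.map g₂ := h12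
    have h1 : (g₁ - g₂) ≫ q.adjF.unit.app N = 0 := by
      rw [Preadditive.sub_comp, sub_eq_zero]
      have n1 : g₁ ≫ q.adjF.unit.app N = q.adjF.unit.app _ ≫ q.fls.map (q.fst.map g₁) :=
        q.adjF.unit.naturality g₁
      have n2 : g₂ ≫ q.adjF.unit.app N = q.adjF.unit.app _ ≫ q.fls.map (q.fst.map g₂) :=
        q.adjF.unit.naturality g₂
      rw [n1, n2, h12']
    exact sub_eq_zero.mp (hinj _ h1)
  · intro h
    obtain ⟨g, hg⟩ := hsurj (q.adjF.unit.app _ ≫ q.fls.map h)
    refine ⟨g, ?_⟩
    apply (q.adjF.homEquiv _ _).injective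
    rw [Adjunction.homEquiv_unit, Adjunction.homEquiv_unit, ← hg]
    exact (q.adjF.unit.naturality g).symm

end Groth.Agent.S16409
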