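import Groth.Statements.S1641
-- import your own Groth.Agent.* helpers here
import Groth.Agent.Lib.Helper23.DegCompC

set_option autoImplicit false
universe u
open CategoryTheory CategoryTheory.Limits AlgebraicGeometry
open Variety

namespace Groth.Agent.S1641

/-- Let X be proper of dimension at most one over k and E finite locally free of rank n. Then deg E is
the sum, over the irreducible components C of X of dimension one with their reduced induced
structure, of m_C · deg(E|_C), where m_C is the length of the local ring of X at the generic point
of C. -/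
theorem result (k : Type u) [Field k] (X : Scheme.{u}) [X.Over (Spec (CommRingCat.of k))] [IsProper (X ↘ (Spec (CommRingCat.of k)))] [IsNoetherian X] (hdim : topologicalKrullDim X ≤ 1)
    (n : ℕ) (E : X.Modules) (hE : FlatMod.IsFinLocFreeOfRank n E) :
    Curv2.deg k X E n = ∑ᶠ Z : irreducibleComponents (X : Type u),
      (if topologicalKrullDim (Z.1 : Set X) = 1 then
        ((Module.length (X.presheaf.stalk Z.2.1.genericPoint) (X.presheaf.stalk Z.2.1.genericPoint)).toNat : ℤ) *
          @Curv2.deg k _ (X.irreducibleComponentIdeal Z.1 Z.2).radical.subscheme ⟨(X.irreducibleComponentIdeal Z.1 Z.2).radical.subschemeι ≫ (X ↘ (Spec (CommRingCat.of k)))⟩ ((Scheme.Modules.pullback (X.irreducibleComponentIdeal Z.1 Z.2).radical.subschemeι).obj E) n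
      else 0) := by
  have hdimX : topologicalKrullDim X ≤ ((1 : ℕ) : WithBot ℕ∞) := by
    rw [Nat.cast_one]; exact hdim
  have key := Groth.Agent.Lib.Helper23.DegComp.psi_eq_finsum_components k X hdimX E n hE
    (Coh.structureModule X) (Groth.Agent.Lib.Helper23.T2.isCoh_structureModule X)
  unfold Groth.Agent.Lib.Helper23.DegComp.psi at key
  rw [Groth.Agent.Lib.Helper23.FBC.euler_eq_of_iso' k (SecTwist.unitorR E)] at key
  unfold Curv2.deg
  rw [key]
  refine finsum_congr fun Z => ?_
  rw [Groth.Agent.Lib.Helper23.DegComp.length_structureModule_stalk, Nat.cast_one]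
  rfl

end Groth.Agent.S1641
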