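import Groth.Statements.S16410
import Mathlib
import Groth.Agent.Lib.Helper24.MVSq
import Groth.Agent.S16409

set_option autoImplicit false
universe v u
open CategoryTheory CategoryTheory.Limits CategoryTheory.Pretriangulated
open W4c3perfectstacks W4c3perfectstacks.MVSq

namespace Groth.Agent.S16410

/-- Glueing along a Mayer–Vietoris square of triangulated categories (single-square form). Given N_U
over U, N' over X' and an isomorphism δ between the restriction of N' to U' and the pullback of N_U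
to U', let N over X be the third vertex of a distinguished triangle N ⟶ j_* N_U ⊞ f_* N' ⟶ f_* j'_*
g^* N_U ⟶ N⟦1⟧ whose middle map has components (unit of f at j_* N_U followed by f_* of the exchange
map f^* j_* N_U ⟶ j'_* g^* N_U) and (minus f_* of: unit of j' at N' followed by j'_* δ). Then the
maps j^* N ⟶ N_U and f^* N ⟶ N' adjoint to the two components of the first arrow are isomorphisms.
(Equivalently, the third vertex may be taken to be f_* f^* j_* N_U, identified with f_* j'_* g^* N_U
through the invertible exchange map; the four categories are taken in common universes.) -/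
theorem result
    (S S' R R' : Type u) [Category.{v} S] [Category.{v} S'] [Category.{v} R] [Category.{v} R']
    [Preadditive S] [Preadditive S'] [Preadditive R] [Preadditive R']
    [HasZeroObject S] [HasZeroObject S'] [HasZeroObject R] [HasZeroObject R']
    [HasShift S ℤ] [HasShift S' ℤ] [HasShift R ℤ] [HasShift R' ℤ]
    [∀ n : ℤ, (shiftFunctor S n).Additive] [∀ n : ℤ, (shiftFunctor S' n).Additive]
    [∀ n : ℤ, (shiftFunctor R n).Additive] [∀ n : ℤ, (shiftFunctor R' n).Additive]
    [Pretriangulated S] [Pretriangulated S'] [Pretriangulated R] [Pretriangulated R']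
    [IsTriangulated S] [IsTriangulated S'] [IsTriangulated R] [IsTriangulated R']
    (q : W4c3perfectstacks.MVSq S S' R R')
    [q.jst.CommShift ℤ] [q.fst.CommShift ℤ] [q.jpst.CommShift ℤ] [q.gst.CommShift ℤ]
    [q.jst.IsTriangulated] [q.fst.IsTriangulated] [q.jpst.IsTriangulated] [q.gst.IsTriangulated]
    (hq : q.IsMV) (NU : R) (N' : S') (δ : q.jpst.obj N' ≅ q.gst.obj NU) (N : S)
    (a : N ⟶ q.jls.obj NU ⊞ q.fls.obj N')
    (d : q.fls.obj (q.jpls.obj (q.gst.obj NU)) ⟶ N⟦(1 : ℤ)⟧)
    (hT : Triangle.mk a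
      (biprod.desc (q.adjF.unit.app (q.jls.obj NU) ≫ q.fls.map (q.bc2App NU))
        (-(q.fls.map (q.adjJp.unit.app N' ≫ q.jpls.map δ.hom)))) d ∈ distTriang S) :
    IsIso ((q.adjJ.homEquiv N NU).symm (a ≫ biprod.fst)) ∧
      IsIso ((q.adjF.homEquiv N N').symm (a ≫ biprod.snd)) := by
  obtain ⟨m, hm⟩ : ∃ m : N' ⟶ q.jpls.obj (q.gst.obj NU),
      m = q.adjJp.unit.app N' ≫ q.jpls.map δ.hom := ⟨_, rfl⟩
  obtain ⟨v, hv⟩ : ∃ v : q.jls.obj NU ⊞ q.fls.obj N' ⟶ q.fls.obj (q.jpls.obj (q.gst.obj NU)),
      v = biprod.desc (q.adjF.unit.app (q.jls.obj NU) ≫ q.fls.map (q.bc2App NU))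
        (-(q.fls.map m)) := ⟨_, rfl⟩
  have hT' : Triangle.mk a v d ∈ distTriang S := by rw [hv, hm]; exact hT
  have hinrv : biprod.inr ≫ v = -(q.fls.map m) := by rw [hv]; simp
  have hinlv : biprod.inl ≫ v =
      q.adjF.unit.app (q.jls.obj NU) ≫ q.fls.map (q.bc2App NU) := by rw [hv]; simp
  have hav : a ≫ v = 0 := comp_distTriang_mor_zero₁₂ _ hT'
  -- Part 1
  haveI : q.fls.Additive := q.adjF.right_adjoint_additive
  haveI hcJ : IsIso q.adjJ.counit := hq.isIso_counitJ
  haveI hcJp : IsIso q.adjJp.counit := hq.isIso_counitJp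
  have hjpunit : IsIso (q.jpst.map (q.adjJp.unit.app N')) := by
    have h := q.adjJp.left_triangle_components N'
    haveI : IsIso (q.jpst.map (q.adjJp.unit.app N') ≫ q.adjJp.counit.app (q.jpst.obj N')) := by
      rw [h]; exact IsIso.id _
    exact IsIso.of_isIso_comp_right _ (q.adjJp.counit.app (q.jpst.obj N'))
  have hjpm : IsIso (q.jpst.map m) := by
    rw [hm, Functor.map_comp]
    infer_instance
  have hjf : IsIso (q.jst.map (q.fls.map m)) :=
    Groth.Agent.Lib.Helper24.MVSq.isIso_jst_fls_map q hq m hjpm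
  have hjT : Triangle.mk (q.jst.map a) (q.jst.map v)
      (q.jst.map d ≫ (q.jst.commShiftIso (1 : ℤ)).hom.app N) ∈ distTriang R :=
    q.jst.map_distinguished _ hT'
  have h1iso : IsIso (q.jst.map a ≫ q.jst.map biprod.fst) := by
    refine Groth.Agent.Lib.Helper24.MVSq.isIso_comp_fst_of_isIso_inr_comp hjT
      (q.jst.map biprod.fst) (q.jst.map biprod.snd) (q.jst.map biprod.inl) (q.jst.map biprod.inr)
      ?_ ?_ ?_ ?_
    · rw [← Functor.map_comp, ← Functor.map_comp, ← Functor.map_add, biprod.total,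
        CategoryTheory.Functor.map_id]
    · rw [← Functor.map_comp, biprod.inl_fst, CategoryTheory.Functor.map_id]
    · rw [← Functor.map_comp, biprod.inr_fst, Functor.map_zero]
    · rw [← Functor.map_comp, hinrv, Functor.map_neg]
      exact ⟨⟨-inv (q.jst.map (q.fls.map m)), by simp, by simp⟩⟩
  have hα : IsIso ((q.adjJ.homEquiv N NU).symm (a ≫ biprod.fst)) := by
    rw [Adjunction.homEquiv_counit, Functor.map_comp]
    infer_instance
  refine ⟨hα, ?_⟩
  -- Part 2
  have hA1 := Groth.Agent.Lib.Helper24.MVSq.isLocal_jls q NU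
  have hC0 := Groth.Agent.Lib.Helper24.MVSq.isLocal_fls_jpls q (q.gst.obj NU)
  have h2b' : ∀ Z : S, IsZero (q.jst.obj Z) →
      (∀ g : Z ⟶ N, g ≫ a ≫ biprod.snd = 0 → g = 0) ∧
      (∀ h : Z ⟶ q.fls.obj N', ∃ g : Z ⟶ N, g ≫ a ≫ biprod.snd = h) := by
    intro Z hZ
    constructor
    · intro g hg
      have hga : g ≫ a = 0 := by
        apply biprod.hom_ext
        · rw [Category.assoc, zero_comp]; exact hA1 Z hZ _
        · rw [Category.assoc, zero_comp]; exact hg
      exact Groth.Agent.Lib.Helper24.MVSq.coyoneda₁_zero hT' g hga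
        (fun l => (hC0.shift q (-1)) Z hZ l)
    · intro h
      obtain ⟨g, hg⟩ := Groth.Agent.Lib.Helper24.MVSq.coyoneda₂' hT' (h ≫ biprod.inr)
        (hC0 Z hZ _)
      refine ⟨g, ?_⟩
      rw [← Category.assoc, ← hg, Category.assoc, biprod.inr_snd, Category.comp_id]
  obtain ⟨β, hβ⟩ : ∃ β : q.fst.obj N ⟶ N',
      β = (q.adjF.homEquiv N N').symm (a ≫ biprod.snd) := ⟨_, rfl⟩
  rw [← hβ]
  have hβ' : ∀ (Z : S) (g : Z ⟶ N),
      q.fst.map g ≫ β = (q.adjF.homEquiv Z N').symm (g ≫ a ≫ biprod.snd) := by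
    intro Z g
    rw [hβ, Adjunction.homEquiv_counit, Adjunction.homEquiv_counit]
    simp only [Functor.map_comp, Category.assoc]
  have h2b : ∀ Z' : S', IsZero (q.jpst.obj Z') →
      (∀ g' : Z' ⟶ q.fst.obj N, g' ≫ β = 0 → g' = 0) ∧
      (∀ h' : Z' ⟶ N', ∃ g' : Z' ⟶ q.fst.obj N, g' ≫ β = h') := by
    intro Z' hZ'
    haveI : IsIso (q.adjF.counit.app Z') := hq.isIso_counitF Z' hZ'
    have hZ : IsZero (q.jst.obj (q.fls.obj Z')) :=
      Groth.Agent.Lib.Helper24.MVSq.isZero_jst_fls q hq Z' hZ'
    obtain ⟨hinj, hsurj⟩ := h2b' _ hZ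
    have hbij := Groth.Agent.S16409.result S S' R R' q hq Z' hZ' N
    constructor
    · intro g' hg'
      obtain ⟨g, hg⟩ := hbij.2 (q.adjF.counit.app Z' ≫ g')
      have hg2 : q.fst.map g = q.adjF.counit.app Z' ≫ g' := hg
      have h1 : (q.adjF.homEquiv _ N').symm (g ≫ a ≫ biprod.snd) = 0 := by
        rw [← hβ', hg2, Category.assoc, hg', comp_zero]
      have h2 : g ≫ a ≫ biprod.snd = 0 := by
        have := congrArg (q.adjF.homEquiv _ N') h1
        rw [Equiv.apply_symm_apply] at this
        rw [this, Adjunction.homEquiv_unit, Functor.map_zero, comp_zero]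
      have h3 : g = 0 := hinj g h2
      rw [h3, Functor.map_zero] at hg2
      rw [← cancel_epi (q.adjF.counit.app Z'), ← hg2, comp_zero]
    · intro h'
      obtain ⟨g, hg⟩ := hsurj ((q.adjF.homEquiv _ N') (q.adjF.counit.app Z' ≫ h'))
      refine ⟨inv (q.adjF.counit.app Z') ≫ q.fst.map g, ?_⟩
      rw [Category.assoc, hβ', hg, Equiv.symm_apply_apply, IsIso.inv_hom_id_assoc]
  have h2a : IsIso (q.jpst.map β) := by
    have hstar : a ≫ biprod.fst ≫ q.adjF.unit.app (q.jls.obj NU) ≫ q.fls.map (q.bc2App NU) =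
        a ≫ biprod.snd ≫ q.fls.map m := by
      have : a ≫ (biprod.fst ≫ biprod.inl + biprod.snd ≫ biprod.inr) ≫ v = 0 := by
        rw [biprod.total, Category.id_comp, hav]
      simp only [Preadditive.add_comp, Preadditive.comp_add, Category.assoc, hinlv, hinrv,
        Preadditive.comp_neg] at this
      exact add_neg_eq_zero.mp this
    have hss : q.fst.map (a ≫ biprod.fst) ≫ q.bc2App NU = β ≫ m := by
      have h := congrArg (fun t => (q.adjF.homEquiv N _).symm t) hstar
      simp only [Adjunction.homEquiv_counit, Functor.map_comp, Category.assoc,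
        Adjunction.counit_naturality, Adjunction.left_triangle_components_assoc] at h
      rw [hβ, Adjunction.homEquiv_counit]
      simp only [Functor.map_comp, Category.assoc]
      exact h
    have hsss : q.jpst.map β ≫ δ.hom =
        q.e.inv.app N ≫ q.gst.map ((q.adjJ.homEquiv N NU).symm (a ≫ biprod.fst)) := by
      have h := congrArg (fun t => (q.adjJp.homEquiv _ _).symm t) hss
      simp only [Adjunction.homEquiv_counit, Functor.map_comp, Category.assoc, hm,
        MVSq.bc2App, Adjunction.counit_naturality,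
        Adjunction.left_triangle_components_assoc] at h
      have hc : q.jpst.map (q.jpls.map (q.e.inv.app (q.jls.obj NU))) ≫
          q.adjJp.counit.app (q.gst.obj (q.jst.obj (q.jls.obj NU))) =
          q.adjJp.counit.app (q.jpst.obj (q.fst.obj (q.jls.obj NU))) ≫
            q.e.inv.app (q.jls.obj NU) :=
        q.adjJp.counit.naturality (q.e.inv.app (q.jls.obj NU))
      have ht : q.jpst.map (q.adjJp.unit.app (q.fst.obj (q.jls.obj NU))) ≫
          q.adjJp.counit.app (q.jpst.obj (q.fst.obj (q.jls.obj NU))) = 𝟙 _ :=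
        q.adjJp.left_triangle_components _
      have hn₁ : q.jpst.map (q.fst.map a) ≫ q.e.inv.app (q.jls.obj NU ⊞ q.fls.obj N') =
          q.e.inv.app N ≫ q.gst.map (q.jst.map a) := q.e.inv.naturality a
      have hn₂ : q.jpst.map (q.fst.map (biprod.fst : q.jls.obj NU ⊞ q.fls.obj N' ⟶ _)) ≫
          q.e.inv.app (q.jls.obj NU) =
          q.e.inv.app (q.jls.obj NU ⊞ q.fls.obj N') ≫ q.gst.map (q.jst.map biprod.fst) :=
        q.e.inv.naturality _
      have h' : q.jpst.map (q.fst.map a) ≫ q.jpst.map (q.fst.map biprod.fst) ≫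
          q.e.inv.app (q.jls.obj NU) ≫ q.gst.map (q.adjJ.counit.app NU) =
          q.jpst.map β ≫ δ.hom := by
        rw [← h]
        congr 2
        exact ((reassoc_of% ht) _).symm.trans
          (congrArg (fun t => q.jpst.map (q.adjJp.unit.app (q.fst.obj (q.jls.obj NU))) ≫ t)
            ((reassoc_of% hc) _).symm)
      rw [← h', Adjunction.homEquiv_counit, Functor.map_comp, Functor.map_comp q.jst,
        Functor.map_comp, reassoc_of% hn₂, reassoc_of% hn₁]
      simp only [Category.assoc]
    have heq : q.jpst.map β =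
        q.e.inv.app N ≫ q.gst.map ((q.adjJ.homEquiv N NU).symm (a ≫ biprod.fst)) ≫ δ.inv := by
      rw [← Category.assoc, ← hsss, Category.assoc, Iso.hom_inv_id, Category.comp_id]
    rw [heq]
    infer_instance
  exact Groth.Agent.Lib.Helper24.MVSq.isIso_of_conservative_pair q.jpst β h2a
    (fun Z' hZ' => (h2b Z' hZ').1) (fun Z' hZ' => (h2b Z' hZ').2)

end Groth.Agent.S16410
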