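import Groth.Statements.S16414
import Mathlib

set_option autoImplicit false
open Dieud

namespace Groth.Agent.S16414

/-- Let μ be a rational number with 0 < μ ≤ 1 and i an integer, and put f(i,j) = max(−i−j, −j, 0) for
integers j. Then min over all integers j of f(i,j) + jμ exists and equals max(−iμ, 0). -/
theorem result (μ : ℚ) (hμ0 : 0 < μ) (hμ1 : μ ≤ 1) (i : ℤ) :
    IsLeast (Set.range fun j : ℤ => ((max (max (-i - j) (-j)) 0 : ℤ) : ℚ) + (j : ℚ) * μ)
      (max (-(i : ℚ) * μ) 0) := by
  have hμ1' : 0 ≤ 1 - μ := by linarith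
  constructor
  · by_cases hi : 0 ≤ i
    · refine ⟨0, ?_⟩
      have h1 : (max (max (-i - 0) (-0)) 0 : ℤ) = 0 := by omega
      have h2 : (i : ℚ) ≥ 0 := by exact_mod_cast hi
      have h3 : max (-(i : ℚ) * μ) 0 = 0 := by
        apply max_eq_right
        nlinarith
      simp only [h1, h3]
      simp
    · refine ⟨-i, ?_⟩
      have h1 : (max (max (-i - -i) (- -i)) 0 : ℤ) = 0 := by omega
      have h2 : (i : ℚ) < 0 := by
        have : i < 0 := by omega
        exact_mod_cast this
      have h3 : max (-(i : ℚ) * μ) 0 = -(i : ℚ) * μ := by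
        apply max_eq_left
        nlinarith
      simp only [h1, h3]
      push_cast
      ring
  · rintro _ ⟨j, rfl⟩
    simp only
    have hf0 : (0 : ℤ) ≤ max (max (-i - j) (-j)) 0 := le_max_right _ _
    have hf1 : -j ≤ max (max (-i - j) (-j)) 0 := le_trans (le_max_right _ _) (le_max_left _ _)
    have hf2 : -i - j ≤ max (max (-i - j) (-j)) 0 := le_trans (le_max_left _ _) (le_max_left _ _)
    have hf0' : (0 : ℚ) ≤ ((max (max (-i - j) (-j)) 0 : ℤ) : ℚ) := by exact_mod_cast hf0
    have hf1' : -(j : ℚ) ≤ ((max (max (-i - j) (-j)) 0 : ℤ) : ℚ) := by exact_mod_cast hf1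
    have hf2' : -(i : ℚ) - (j : ℚ) ≤ ((max (max (-i - j) (-j)) 0 : ℤ) : ℚ) := by exact_mod_cast hf2
    apply max_le
    · by_cases hij : (0 : ℚ) ≤ (i : ℚ) + j
      · nlinarith
      · push Not at hij
        nlinarith
    · by_cases hj : (0 : ℚ) ≤ (j : ℚ)
      · nlinarith
      · push Not at hj
        nlinarith

end Groth.Agent.S16414
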