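import Groth.Statements.S16418
import Mathlib

set_option autoImplicit false
universe u v
open Dieud

namespace Groth.Agent.S16418

/-- Step of the proof: for a prime p and a perfect field k of characteristic p, write W = W(k) and σ for
its Frobenius; let M be a W-module with additive maps F (σ-semilinear) and V (with V(σ(a)m) = aV(m))
such that FV = VF = p, V is injective, ⋂_n V^n M = 0 and M/VM is finitely generated over W. Put M₁ =
{x ∈ M : for every n there is m with V^m x ∈ F^n M} and M₂ = {x ∈ M : F^n x = 0 for some n}. Then M₂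
is killed by a single power of F, and F is injective on M₁. (The published text makes these
assertions inside a proof, for the V-reduced Cartier module of a connected smooth formal group of
finite dimension over k; only the listed structure is used, and V-adic completeness is not needed.) -/
theorem result
    (p : ℕ) [Fact p.Prime] (k : Type u) [Field k] [CharP k p] [PerfectRing k p]
    (M : Type v) [AddCommGroup M] [Module (WittVector p k) M]
    (F V : M →+ M)
    (hF : ∀ (a : WittVector p k) (m : M), F (a • m) = WittVector.frobenius a • F m)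
    (hV : ∀ (a : WittVector p k) (m : M), V (WittVector.frobenius a • m) = a • V m)
    (hFV : ∀ m : M, F (V m) = (p : WittVector p k) • m)
    (hVF : ∀ m : M, V (F m) = (p : WittVector p k) • m)
    (hVinj : Function.Injective V)
    (hsep : ∀ x : M, (∀ n : ℕ, ∃ y : M, x = (⇑V)^[n] y) → x = 0)
    (hfin : Module.Finite (WittVector p k) (M ⧸ Submodule.span (WittVector p k) (Set.range V))) :
    (∃ c : ℕ, ∀ x : M, (∃ n : ℕ, (⇑F)^[n] x = 0) → (⇑F)^[c] x = 0) ∧
    (∀ x : M, (∀ n : ℕ, ∃ (m : ℕ) (y : M), (⇑V)^[m] x = (⇑F)^[n] y) → F x = 0 → x = 0) := by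
  classical
  have hcomm : ∀ m, F (V m) = V (F m) := fun m => (hFV m).trans (hVF m).symm
  have hcommFn : ∀ (n : ℕ) (m : M), (⇑F)^[n] (V m) = V ((⇑F)^[n] m) := by
    intro n
    induction n with
    | zero => intro m; rfl
    | succ n ih =>
      intro m
      rw [Function.iterate_succ_apply', Function.iterate_succ_apply', ih, hcomm]
  have hcommFnVj : ∀ (n j : ℕ) (m : M), (⇑F)^[n] ((⇑V)^[j] m) = (⇑V)^[j] ((⇑F)^[n] m) := by
    intro n j
    induction j with
    | zero => intro m; rfl
    | succ j ih =>
      intro m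
      rw [Function.iterate_succ_apply', Function.iterate_succ_apply', hcommFn, ih]
  have hFn_smul : ∀ (n : ℕ) (a : WittVector p k) (m : M),
      ∃ b : WittVector p k, (⇑F)^[n] (a • m) = b • (⇑F)^[n] m := by
    intro n
    induction n with
    | zero => intro a m; exact ⟨a, rfl⟩
    | succ n ih =>
      intro a m
      obtain ⟨b, hb⟩ := ih a m
      refine ⟨WittVector.frobenius b, ?_⟩
      rw [Function.iterate_succ_apply', Function.iterate_succ_apply', hb, hF]
  let N : ℕ → Submodule (WittVector p k) M := fun n =>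
    { carrier := {x | (⇑F)^[n] x = 0}
      add_mem' := by
        intro a b ha hb
        simp only [Set.mem_setOf_eq] at *
        rw [iterate_map_add, ha, hb, add_zero]
      zero_mem' := iterate_map_zero F n
      smul_mem' := by
        intro a x hx
        simp only [Set.mem_setOf_eq] at *
        obtain ⟨b, hb⟩ := hFn_smul n a x
        rw [hb, hx, smul_zero] }
  have mem_N : ∀ n x, x ∈ N n ↔ (⇑F)^[n] x = 0 := fun _ _ => Iff.rfl
  have N_mono : ∀ n m, n ≤ m → N n ≤ N m := by
    intro n m hnm x hx
    rw [mem_N] at hx ⊢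
    obtain ⟨d, rfl⟩ := Nat.exists_eq_add_of_le' hnm
    rw [Function.iterate_add_apply, hx, iterate_map_zero]
  -- range V is the span
  have hspan : ∀ x, x ∈ Submodule.span (WittVector p k) (Set.range V) → ∃ y, x = V y := by
    intro x hx
    induction hx using Submodule.span_induction with
    | mem x hx => obtain ⟨y, rfl⟩ := hx; exact ⟨y, rfl⟩
    | zero => exact ⟨0, (map_zero V).symm⟩
    | add x y _ _ hx hy =>
      obtain ⟨a, rfl⟩ := hx
      obtain ⟨b, rfl⟩ := hy
      exact ⟨a + b, (map_add V a b).symm⟩
    | smul a x _ hx =>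
      obtain ⟨y, rfl⟩ := hx
      obtain ⟨b, rfl⟩ : ∃ b, WittVector.frobenius b = a :=
        (WittVector.frobenius_bijective p k).surjective a
      exact ⟨WittVector.frobenius (WittVector.frobenius b) • y, (hV _ _).symm⟩
  haveI : IsNoetherian (WittVector p k)
      (M ⧸ Submodule.span (WittVector p k) (Set.range V)) :=
    isNoetherian_of_isNoetherianRing_of_finite _ _
  let mk := (Submodule.span (WittVector p k) (Set.range V)).mkQ
  let f : ℕ →o Submodule (WittVector p k)
      (M ⧸ Submodule.span (WittVector p k) (Set.range V)) :=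
    ⟨fun n => (N n).map mk, fun n m hnm => Submodule.map_mono (N_mono n m hnm)⟩
  obtain ⟨c, hc⟩ := monotone_stabilizes_iff_noetherian.mpr inferInstance f
  have key : ∀ n, c ≤ n → ∀ j : ℕ, ∀ x, (⇑F)^[n] x = 0 →
      ∃ x₀ z, (⇑F)^[c] x₀ = 0 ∧ (⇑F)^[n] z = 0 ∧ x = x₀ + (⇑V)^[j] z := by
    intro n hn j
    induction j with
    | zero =>
      intro x hx
      exact ⟨0, x, iterate_map_zero F c, hx, by simp⟩
    | succ j ih =>
      intro x hx
      obtain ⟨x₀, z, hx₀, hz, rfl⟩ := ih x hx
      have hzm : mk z ∈ f n := Submodule.mem_map_of_mem ((mem_N n z).mpr hz)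
      rw [← hc n hn] at hzm
      obtain ⟨z₀, hz₀, hz₀z⟩ := hzm
      have hdiff : z - z₀ ∈ Submodule.span (WittVector p k) (Set.range V) := by
        rw [← Submodule.Quotient.mk_eq_zero, Submodule.Quotient.mk_sub]
        have : mk z₀ = mk z := hz₀z
        change mk z - mk z₀ = 0
        rw [this, sub_self]
      obtain ⟨w, hw⟩ := hspan _ hdiff
      have hz₀n : (⇑F)^[n] z₀ = 0 := N_mono c n hn hz₀
      have hw0 : (⇑F)^[n] w = 0 := by
        apply hVinj
        rw [← hcommFn, ← hw, iterate_map_sub, hz, hz₀n, sub_zero, map_zero]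
      refine ⟨x₀ + (⇑V)^[j] z₀, w, ?_, hw0, ?_⟩
      · rw [iterate_map_add, hx₀, hcommFnVj, (mem_N c z₀).mp hz₀, iterate_map_zero, add_zero]
      · have hz' : z = z₀ + V w := by rw [← hw]; abel
        rw [hz', iterate_map_add, Function.iterate_succ_apply, add_assoc]
  have part1 : ∀ x : M, (∃ n : ℕ, (⇑F)^[n] x = 0) → (⇑F)^[c] x = 0 := by
    rintro x ⟨n, hn⟩
    rcases le_total c n with h | h
    · apply hsep
      intro j
      obtain ⟨x₀, z, hx₀, hz, rfl⟩ := key n h j x hn
      exact ⟨(⇑F)^[c] z, by rw [iterate_map_add, hx₀, zero_add, hcommFnVj]⟩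
    · exact N_mono n c h hn
  refine ⟨⟨c, part1⟩, ?_⟩
  intro x hx hFx
  obtain ⟨m, y, hmy⟩ := hx c
  have hy : (⇑F)^[c] y = 0 := by
    apply part1
    refine ⟨c + 1, ?_⟩
    rw [add_comm, Function.iterate_add_apply, ← hmy, Function.iterate_one]
    have := hcommFnVj 1 m x
    rw [Function.iterate_one] at this
    rw [this, hFx, iterate_map_zero]
  rw [hy] at hmy
  have hVm : Function.Injective (⇑V)^[m] := hVinj.iterate m
  exact hVm (hmy.trans (iterate_map_zero V m).symm)

end Groth.Agent.S16418
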