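import Groth.Statements.S16421
import Mathlib

set_option autoImplicit false
universe u
open FrobAlg

namespace Groth.Agent.S16421

lemma flat_of_bij {R S : Type*} [CommRing R] [CommRing S] (f : R →+* S) {κ : Type*}
    (g : (κ →₀ R) → S) (hg : Function.Bijective g)
    (hadd : ∀ c c', g (c + c') = g c + g c') (hsmul : ∀ (r : R) c, g (r • c) = f r * g c) :
    f.Flat := by
  algebraize [f]
  let e : (κ →₀ R) ≃ₗ[R] S := LinearEquiv.ofBijective
    { toFun := g, map_add' := hadd, map_smul' := fun r c => by
        simp [hsmul, Algebra.smul_def, RingHom.algebraMap_toAlgebra] } hg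
  have : Module.Free R S := Module.Free.of_equiv e
  show Module.Flat R S
  infer_instance

lemma trivial_rel {R S : Type*} [CommRing R] [CommRing S] (f : R →+* S) (hf : f.Flat) {l : ℕ}
    (c : Fin l → R) (y : Fin l → S) (h : ∑ i, f (c i) * y i = 0) :
    ∃ (k : ℕ) (a : Fin l → Fin k → R) (z : Fin k → S),
      (∀ i, y i = ∑ j, f (a i j) * z j) ∧ ∀ j, ∑ i, c i * a i j = 0 := by
  algebraize [f]
  have h' : ∑ i, c i • y i = 0 := by
    simpa [Algebra.smul_def, RingHom.algebraMap_toAlgebra] using h
  obtain ⟨k, a, z, h1, h2⟩ := Module.Flat.isTrivialRelation_of_sum_smul_eq_zero (R := R) (M := S) h'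
  exact ⟨k, a, z, fun i => by
    simpa [Algebra.smul_def, RingHom.algebraMap_toAlgebra] using h1 i, h2⟩

lemma flat_of_trivial_rel {R S : Type*} [CommRing R] [CommRing S] (f : R →+* S)
    (h : ∀ {l : ℕ} (c : Fin l → R) (y : Fin l → S), ∑ i, f (c i) * y i = 0 →
      ∃ (k : ℕ) (a : Fin l → Fin k → R) (z : Fin k → S),
      (∀ i, y i = ∑ j, f (a i j) * z j) ∧ ∀ j, ∑ i, c i * a i j = 0) : f.Flat := by
  algebraize [f]
  show Module.Flat R S
  refine Module.Flat.of_forall_isTrivialRelation fun {l c y} hr => ?_
  obtain ⟨k, a, z, h1, h2⟩ := h c y (by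
    simpa [Algebra.smul_def, RingHom.algebraMap_toAlgebra] using hr)
  exact ⟨k, a, z, fun i => by
    simpa [Algebra.smul_def, RingHom.algebraMap_toAlgebra] using h1 i, h2⟩

/-- Let p be a prime and R a commutative ring of characteristic p with a p-basis (x_i), meaning that the
monomials ∏ x_i^(e i) with every exponent e i < p form a basis of R as a module over itself through
the Frobenius, i.e. the map sending a finitely supported family of coefficients c to ∑_e (c e)^p · ∏
x_i^(e i) is a bijection onto R. Then the canonical ring map from R to its perfect closure is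
faithfully flat. -/
theorem result (p : ℕ) [Fact p.Prime]
    (R : Type u) [CommRing R] [CharP R p] (ι : Type u) (x : ι → R)
    (hx : Function.Bijective
      (fun c : {e : ι →₀ ℕ // ∀ i, e i < p} →₀ R =>
        c.sum (fun e r => r ^ p * e.1.prod (fun i n => x i ^ n)))) :
    (PerfectClosure.of R p).FaithfullyFlat := by
  classical
  have hp : p.Prime := Fact.out
  let e0 : {e : ι →₀ ℕ // ∀ i, e i < p} := ⟨0, fun i => by simpa using hp.pos⟩
  have key : ∀ a : R, (fun c : {e : ι →₀ ℕ // ∀ i, e i < p} →₀ R =>
      c.sum (fun e r => r ^ p * e.1.prod (fun i n => x i ^ n))) (Finsupp.single e0 a) = a ^ p := by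
    intro a
    show (Finsupp.single e0 a).sum _ = _
    rw [Finsupp.sum_single_index (by simp [hp.ne_zero])]
    simp [e0]
  have hFinj : Function.Injective (frobenius R p) := by
    intro a b hab
    have h1 := hx.1 (a₁ := Finsupp.single e0 a) (a₂ := Finsupp.single e0 b) (by
      rw [key, key]; exact hab)
    exact Finsupp.single_injective e0 h1
  have hred : IsReduced R := by
    refine ⟨fun a ⟨k, hk⟩ => ?_⟩
    have h1 : a ^ p ^ k = 0 := by
      have : k ≤ p ^ k := (Nat.lt_pow_self hp.one_lt).le
      rw [← Nat.sub_add_cancel this, pow_add, hk, mul_zero]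
    have h2 : (frobenius R p)^[k] a = (frobenius R p)^[k] 0 := by
      rw [← coe_iterateFrobenius, iterateFrobenius_def, iterateFrobenius_def, h1,
        zero_pow (pow_pos hp.pos k).ne']
    exact hFinj.iterate k h2
  have hF1 : (frobenius R p).Flat := by
    refine flat_of_bij (frobenius R p) _ hx ?_ ?_
    · intro c c'
      exact Finsupp.sum_add_index' (fun e => by simp [hp.ne_zero])
        (fun e r r' => by rw [add_pow_char, add_mul])
    · intro r c
      show (r • c).sum _ = _
      rw [Finsupp.sum_smul_index (fun e => by simp [hp.ne_zero]), Finsupp.mul_sum]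
      refine Finsupp.sum_congr fun e _ => ?_
      simp [frobenius_def, mul_pow, mul_assoc]
  have hFn : ∀ n, (iterateFrobenius R p n).Flat := by
    intro n
    induction n with
    | zero =>
      rw [iterateFrobenius_zero]
      exact RingHom.Flat.of_bijective Function.bijective_id
    | succ n ih =>
      have : iterateFrobenius R p (n+1) = (frobenius R p).comp (iterateFrobenius R p n) := by
        ext a; simp [iterateFrobenius_def, frobenius_def, pow_succ, pow_mul]
      rw [this]; exact ih.comp hF1
  have hofinj : Function.Injective (PerfectClosure.of R p) := by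
    intro a b hab
    have := (PerfectClosure.eq_iff R p (0, a) (0, b)).1 hab
    simpa using this
  have hden : ∀ {l : ℕ} (xx : Fin l → PerfectClosure R p), ∃ (n : ℕ) (y : Fin l → R),
      ∀ i, xx i = PerfectClosure.mk R p (n, y i) := by
    intro l xx
    choose w hw using fun i => PerfectClosure.mk_surjective R p (xx i)
    refine ⟨∑ i, (w i).1, fun i => (frobenius R p)^[(∑ j, (w j).1) - (w i).1] (w i).2,
      fun i => ?_⟩
    have hle : (w i).1 ≤ ∑ j, (w j).1 :=
      Finset.single_le_sum (f := fun j => (w j).1) (fun _ _ => Nat.zero_le _) (Finset.mem_univ i)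
    rw [← hw i]
    have := PerfectClosure.R.sound R p ((∑ j, (w j).1) - (w i).1) (w i).1 (w i).2 _ rfl
    rw [Nat.sub_add_cancel hle] at this
    exact this
  have hflat : (PerfectClosure.of R p).Flat := by
    refine flat_of_trivial_rel _ fun {l} c xx hrel => ?_
    obtain ⟨n, y, hy⟩ := hden xx
    have hφinj := iterateFrobenius_inj (PerfectClosure R p) p n
    have ha : ∀ a : R, iterateFrobenius (PerfectClosure R p) p n (PerfectClosure.mk R p (n, a))
        = PerfectClosure.of R p a := by
      intro a; rw [coe_iterateFrobenius]; exact PerfectClosure.iterate_frobenius_mk R p n a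
    have hb : ∀ r : R, iterateFrobenius (PerfectClosure R p) p n (PerfectClosure.of R p r)
        = PerfectClosure.of R p (iterateFrobenius R p n r) := by
      intro r; simp only [iterateFrobenius_def, map_pow]
    have hR : ∑ i, iterateFrobenius R p n (c i) * y i = 0 := by
      apply hofinj
      rw [map_zero, map_sum]
      have h3 := congrArg (iterateFrobenius (PerfectClosure R p) p n) hrel
      rw [map_zero, map_sum] at h3
      rw [← h3]
      refine Finset.sum_congr rfl fun i _ => ?_
      rw [map_mul, map_mul, hb, hy i, ha]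
    obtain ⟨k, a, z, h1, h2⟩ := trivial_rel _ (hFn n) c y hR
    refine ⟨k, a, fun j => PerfectClosure.mk R p (n, z j), fun i => ?_, h2⟩
    apply hφinj
    rw [hy i, ha, map_sum, h1 i, map_sum]
    refine Finset.sum_congr rfl fun j _ => ?_
    rw [map_mul, map_mul, hb, ha]
  have hpow : ∀ (m : Ideal R) (k : ℕ) (y : R), y ∈ m → (frobenius R p)^[k] y ∈ m := by
    intro m k y hy
    rw [← coe_iterateFrobenius, iterateFrobenius_def]
    exact Ideal.pow_mem_of_mem m hy _ (pow_pos hp.pos k)
  letI := (PerfectClosure.of R p).toAlgebra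
  show Module.FaithfullyFlat R (PerfectClosure R p)
  have hsm : ∀ (r : R) (n : ℕ) (y : R), r • PerfectClosure.mk R p (n, y)
      = PerfectClosure.mk R p (n, (frobenius R p)^[n] r * y) := by
    intro r n y
    rw [Algebra.smul_def, RingHom.algebraMap_toAlgebra, PerfectClosure.of_apply,
      PerfectClosure.mk_mul_mk]
    simp
  refine { toFlat := hflat, submodule_ne_top := fun m hm htop => ?_ }
  let T : Submodule R (PerfectClosure R p) :=
    { carrier := {z | ∃ (n : ℕ) (y : R), y ∈ m ∧ z = PerfectClosure.mk R p (n, y)}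
      zero_mem' := ⟨0, 0, m.zero_mem, (PerfectClosure.mk_zero_right R p 0).symm⟩
      add_mem' := by
        rintro _ _ ⟨n, y, hy, rfl⟩ ⟨n', y', hy', rfl⟩
        exact ⟨n + n', (frobenius R p)^[n'] y + (frobenius R p)^[n] y',
          m.add_mem (hpow m _ _ hy) (hpow m _ _ hy'), PerfectClosure.mk_add_mk R p _ _⟩
      smul_mem' := by
        rintro r _ ⟨n, y, hy, rfl⟩
        exact ⟨n, (frobenius R p)^[n] r * y, m.mul_mem_left _ hy, hsm r n y⟩ }
  have hle : m • (⊤ : Submodule R (PerfectClosure R p)) ≤ T := by
    refine Submodule.smul_le.2 fun r hr z _ => ?_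
    obtain ⟨⟨n, y⟩, rfl⟩ := PerfectClosure.mk_surjective R p z
    exact ⟨n, (frobenius R p)^[n] r * y, m.mul_mem_right _ (hpow m n r hr), hsm r n y⟩
  have h1 : (1 : PerfectClosure R p) ∈ T := hle (by rw [htop]; exact Submodule.mem_top)
  obtain ⟨n, y, hy, h1⟩ := h1
  rw [PerfectClosure.one_def, PerfectClosure.mk_eq_iff] at h1
  obtain ⟨z, hz⟩ := h1
  have h2 : (1 : R) ∈ m := by
    have h3 := hpow m (0 + z) y hy
    simp only at hz
    rw [← hz, ← coe_iterateFrobenius, map_one] at h3
    exact h3
  exact hm.ne_top ((Ideal.eq_top_iff_one m).2 h2)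

end Groth.Agent.S16421
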