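import Groth.Statements.S16422
import Mathlib

set_option autoImplicit false
universe u
open GrMod

namespace Groth.Agent.S16422

open DirectSum

section aux
variable {S : Type*} [CommRing S] (𝒜 : ℤ → AddSubgroup S) [GradedRing 𝒜]
variable {M : Type*} [AddCommGroup M] [Module S M] (ℳ : ℤ → AddSubgroup M)
  [DirectSum.Decomposition ℳ] [SetLike.GradedSMul 𝒜 ℳ]

/-- degree-`n` component, as an additive map. -/
noncomputable def cmp (n : ℤ) : M →+ M :=
  AddMonoidHom.mk' (fun y => ((DirectSum.decompose ℳ y) n : M)) (by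
    intro a b
    rw [DirectSum.decompose_add, DirectSum.add_apply, AddSubgroup.coe_add])

theorem cmp_same {n : ℤ} {y : M} (hy : y ∈ ℳ n) : cmp ℳ n y = y :=
  DirectSum.decompose_of_mem_same ℳ hy

theorem cmp_ne {n k : ℤ} {y : M} (hy : y ∈ ℳ k) (h : k ≠ n) : cmp ℳ n y = 0 :=
  DirectSum.decompose_of_mem_ne ℳ hy h

theorem cmp_smul (n d : ℤ) {t : M} (ht : t ∈ ℳ d) (a : S) :
    cmp ℳ n (a • t) = ((DirectSum.decompose 𝒜 a) (n - d) : S) • t := by
  classical
  refine DirectSum.Decomposition.inductionOn 𝒜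
    (motive := fun a => cmp ℳ n (a • t) = ((DirectSum.decompose 𝒜 a) (n - d) : S) • t) ?_ ?_ ?_ a
  · simp
  · intro k a
    have hmem : (a : S) • t ∈ ℳ (k + d) := by
      have := SetLike.GradedSMul.smul_mem (A := 𝒜) (B := ℳ) a.2 ht
      simpa [vadd_eq_add] using this
    by_cases h : k + d = n
    · rw [cmp_same ℳ (h ▸ hmem)]
      have hk : k = n - d := by omega
      subst hk
      rw [DirectSum.decompose_coe, DirectSum.of_eq_same]
    · rw [cmp_ne ℳ hmem h]
      have hk : n - d ≠ k := by omega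
      rw [DirectSum.decompose_coe, DirectSum.of_eq_of_ne _ _ _ hk]
      simp
  · intro a b ha hb
    rw [add_smul, map_add, ha, hb, DirectSum.decompose_add, DirectSum.add_apply,
      AddSubgroup.coe_add, add_smul]

theorem exists_coeff (T : Finset M) (hT : Submodule.span S (T : Set M) = ⊤) (I : Ideal S) {y : M}
    (hy : y ∈ I • (⊤ : Submodule S M)) :
    ∃ c : M → S, (∀ t, c t ∈ I) ∧ y = ∑ t ∈ T, c t • t := by
  refine Submodule.smul_induction_on hy ?_ ?_
  · intro r hr z _
    have hz : z ∈ Submodule.span S (T : Set M) := by rw [hT]; trivial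
    obtain ⟨f, -, rfl⟩ := Submodule.mem_span_finset.1 hz
    refine ⟨fun t => r * f t, fun t => I.mul_mem_right _ hr, ?_⟩
    rw [Finset.smul_sum]
    exact Finset.sum_congr rfl (fun t _ => by rw [mul_smul])
  · rintro _ _ ⟨c, hc, rfl⟩ ⟨c', hc', rfl⟩
    refine ⟨fun t => c t + c' t, fun t => I.add_mem (hc t) (hc' t), ?_⟩
    rw [← Finset.sum_add_distrib]
    exact Finset.sum_congr rfl (fun t _ => by rw [add_smul])

theorem exists_hom_coeff (T : Finset M) (hT : Submodule.span S (T : Set M) = ⊤)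
    (d : M → ℤ) (hd : ∀ t ∈ T, t ∈ ℳ (d t)) (I : HomogeneousIdeal 𝒜) (n : ℤ) {y : M}
    (hyn : y ∈ ℳ n) (hy : y ∈ I.toIdeal • (⊤ : Submodule S M)) :
    ∃ c : M → S, (∀ t, c t ∈ 𝒜 (n - d t) ∧ c t ∈ I.toIdeal) ∧ y = ∑ t ∈ T, c t • t := by
  obtain ⟨c, hc, hyc⟩ := exists_coeff T hT I.toIdeal hy
  refine ⟨fun t => ((DirectSum.decompose 𝒜 (c t)) (n - d t) : S),
    fun t => ⟨SetLike.coe_mem _, I.isHomogeneous _ (hc t)⟩, ?_⟩
  have h1 : cmp ℳ n y = y := cmp_same ℳ hyn
  calc y = cmp ℳ n y := h1.symm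
    _ = cmp ℳ n (∑ t ∈ T, c t • t) := by rw [← hyc]
    _ = ∑ t ∈ T, cmp ℳ n (c t • t) := map_sum _ _ _
    _ = _ := Finset.sum_congr rfl (fun t ht => cmp_smul 𝒜 ℳ n (d t) (hd t ht) (c t))

theorem exists_hom_gens [Module.Finite S M] :
    ∃ T : Finset M, Submodule.span S (T : Set M) = ⊤ ∧ ∀ t ∈ T, ∃ d : ℤ, t ∈ ℳ d := by
  classical
  obtain ⟨T₀, hT₀⟩ := (Module.finite_def.mp (inferInstance : Module.Finite S M))
  refine ⟨T₀.biUnion (fun y => (DirectSum.decompose ℳ y).support.image
      (fun k => ((DirectSum.decompose ℳ y) k : M))), ?_, ?_⟩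
  · rw [eq_top_iff, ← hT₀, Submodule.span_le]
    intro y hy
    rw [SetLike.mem_coe, ← DirectSum.sum_support_decompose ℳ y]
    refine Submodule.sum_mem _ (fun k hk => Submodule.subset_span ?_)
    exact Finset.mem_coe.2 (Finset.mem_biUnion.2 ⟨y, hy, Finset.mem_image_of_mem _ hk⟩)
  · intro t ht
    obtain ⟨y, _, hty⟩ := Finset.mem_biUnion.1 ht
    obtain ⟨k, _, rfl⟩ := Finset.mem_image.1 hty
    exact ⟨k, SetLike.coe_mem _⟩

end aux

/-- Let S be a commutative ring graded by ℤ with pieces 𝒜 n, and V a decreasing sequence of homogeneous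
ideals for which S is graded-complete, i.e. for each degree n the map from 𝒜 n to the inverse limit
of the quotients 𝒜 n / (𝒜 n ∩ V m) is bijective (stated as: a degree-n element in every V m
vanishes, and every sequence in 𝒜 n whose consecutive differences lie in the V m has a limit in 𝒜
n). Then every graded S-module M which is finitely generated and projective as an S-module is
graded-complete in the same sense for the submodules V m · M: for each n the map from ℳ n to the
inverse limit of ℳ n / (ℳ n ∩ V m · M) is bijective. -/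
theorem result
    (S : Type u) [CommRing S] (𝒜 : ℤ → AddSubgroup S) [GradedRing 𝒜]
    (V : ℕ → HomogeneousIdeal 𝒜) (hV : ∀ m, (V (m + 1)).toIdeal ≤ (V m).toIdeal)
    (hsep : ∀ (n : ℤ) (s : S), s ∈ 𝒜 n → (∀ m, s ∈ (V m).toIdeal) → s = 0)
    (hcpl : ∀ (n : ℤ) (f : ℕ → S), (∀ m, f m ∈ 𝒜 n) →
      (∀ m, f (m + 1) - f m ∈ (V m).toIdeal) → ∃ s ∈ 𝒜 n, ∀ m, s - f m ∈ (V m).toIdeal)
    (M : Type u) [AddCommGroup M] [Module S M] (ℳ : ℤ → AddSubgroup M)
    [DirectSum.Decomposition ℳ] [SetLike.GradedSMul 𝒜 ℳ]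
    [Module.Finite S M] [Module.Projective S M] :
    (∀ (n : ℤ) (x : M), x ∈ ℳ n → (∀ m, x ∈ (V m).toIdeal • (⊤ : Submodule S M)) → x = 0) ∧
    (∀ (n : ℤ) (g : ℕ → M), (∀ m, g m ∈ ℳ n) →
      (∀ m, g (m + 1) - g m ∈ (V m).toIdeal • (⊤ : Submodule S M)) →
      ∃ x ∈ ℳ n, ∀ m, x - g m ∈ (V m).toIdeal • (⊤ : Submodule S M)) := by
  classical
  refine ⟨?_, ?_⟩
  · intro n x _ hx
    obtain ⟨k, π, hπ⟩ := Module.Finite.exists_fin' S M
    obtain ⟨σ, hσ⟩ := Module.projective_lifting_property π LinearMap.id hπ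
    have hcoord : ∀ i, σ x i = 0 := by
      intro i
      have hmem : ∀ m, σ x i ∈ (V m).toIdeal := by
        intro m
        have h1 : σ x ∈ (V m).toIdeal • (⊤ : Submodule S (Fin k → S)) := by
          have h2 := Submodule.mem_map_of_mem (f := σ) (hx m)
          rw [Submodule.map_smul''] at h2
          exact (smul_mono_right (V m).toIdeal (le_top : Submodule.map σ ⊤ ≤ ⊤)) h2
        refine Submodule.smul_induction_on (p := fun f => f i ∈ (V m).toIdeal) h1
          (fun r hr f _ => ?_) (fun f g hf hg => ?_)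
        · simpa using Ideal.mul_mem_right (f i) _ hr
        · simpa using Ideal.add_mem _ hf hg
      have hz : ∀ j, ((DirectSum.decompose 𝒜 (σ x i)) j : S) = 0 := fun j =>
        hsep j _ (SetLike.coe_mem _) (fun m => (V m).isHomogeneous j (hmem m))
      rw [← DirectSum.sum_support_decompose 𝒜 (σ x i)]
      exact Finset.sum_eq_zero (fun j _ => hz j)
    have hσx : σ x = 0 := funext hcoord
    have hπσ := LinearMap.congr_fun hσ x
    simp only [LinearMap.comp_apply, LinearMap.id_apply] at hπσ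
    rw [← hπσ, hσx, map_zero]
  · intro n g hg hdiff
    obtain ⟨T, hT, hThom⟩ := exists_hom_gens (S := S) ℳ
    choose! d hd using hThom
    have hstep : ∀ m, ∃ c : M → S, (∀ t, c t ∈ 𝒜 (n - d t) ∧ c t ∈ (V m).toIdeal) ∧
        g (m + 1) - g m = ∑ t ∈ T, c t • t := fun m =>
      exists_hom_coeff 𝒜 ℳ T hT d hd (V m) n (sub_mem (hg (m + 1)) (hg m)) (hdiff m)
    choose c hc hgc using hstep
    have hlim : ∀ t, ∃ s ∈ 𝒜 (n - d t),
        ∀ m, s - (∑ k ∈ Finset.range m, c k t) ∈ (V m).toIdeal := by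
      intro t
      refine hcpl (n - d t) (fun m => ∑ k ∈ Finset.range m, c k t) (fun m => ?_) (fun m => ?_)
      · exact sum_mem (fun k _ => (hc k t).1)
      · simp only [Finset.sum_range_succ, add_sub_cancel_left]
        exact (hc m t).2
    choose s hs hsV using hlim
    have hgm : ∀ m, g m = g 0 + ∑ t ∈ T, (∑ k ∈ Finset.range m, c k t) • t := by
      intro m
      induction m with
      | zero => simp
      | succ m ih =>
        have h3 : g (m + 1) = g m + (g (m + 1) - g m) := by abel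
        rw [h3, hgc m, ih, add_assoc, ← Finset.sum_add_distrib]
        congr 1
        exact Finset.sum_congr rfl (fun t _ => by rw [Finset.sum_range_succ, add_smul])
    refine ⟨g 0 + ∑ t ∈ T, s t • t, ?_, ?_⟩
    · refine add_mem (hg 0) (sum_mem (fun t ht => ?_))
      have := SetLike.GradedSMul.smul_mem (A := 𝒜) (B := ℳ) (hs t) (hd t ht)
      simpa [vadd_eq_add] using this
    · intro m
      rw [hgm m, add_sub_add_left_eq_sub, ← Finset.sum_sub_distrib]
      refine Submodule.sum_mem _ (fun t _ => ?_)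
      rw [← sub_smul]
      exact Submodule.smul_mem_smul (hsV t m) Submodule.mem_top

end Groth.Agent.S16422
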