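import Groth.Statements.S16428
import Mathlib
import Groth.Agent.Lib.Helper17.BigOpenDense

set_option autoImplicit false
universe u
open CategoryTheory CategoryTheory.Limits AlgebraicGeometry TopologicalSpace
open RhoSh

namespace Groth.Agent.S16428

/-- Let X be a smooth, proper, geometrically irreducible scheme over a field k admitting an ample
invertible sheaf, S a k-scheme, and U a big open subset of X ×_k S, i.e. at every point outside U
the local ring of the fibre over S has Krull dimension at least 2. Then U is schematically dense in
X ×_k S: restriction of functions from any open V to V ∩ U is injective. -/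
theorem result
    (k : Type u) [Field k] (X S : Scheme.{u})
    (a : X ⟶ Spec (CommRingCat.of k)) (b : S ⟶ Spec (CommRingCat.of k))
    [Smooth a] [IsProper a] [GeometricallyIrreducible a]
    (hproj : ∃ H : X.Modules, CohB1.IsAmple H)
    (U : (pullback a b).Opens)
    (hU : ∀ x : ↥(pullback a b), x ∉ U →
      (2 : WithBot ℕ∞) ≤ ringKrullDim ↑(CInt.fiberStalk (pullback.snd a b) x)) :
    CInt.IsSchematicallyDense U := by
  haveI : Smooth (pullback.snd a b) := inferInstance
  haveI : Flat (pullback.snd a b) := inferInstance
  haveI : LocallyOfFinitePresentation (pullback.snd a b) := inferInstance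
  have key : ∀ s : S, CInt.IsSchematicallyDense (((pullback.snd a b).fiberι s) ⁻¹ᵁ U) := by
    intro s
    haveI : Smooth ((pullback.snd a b).fiberToSpecResidueField s) := by
      unfold Scheme.Hom.fiberToSpecResidueField
      exact MorphismProperty.pullback_snd (P := @Smooth) _ _ ‹Smooth (pullback.snd a b)›
    haveI : IsReduced ((pullback.snd a b).fiber s) :=
      Groth.Agent.Lib.Helper22.SmoothRed.isReduced_of_smooth
        ((pullback.snd a b).fiberToSpecResidueField s)
    apply Groth.Agent.Lib.Helper17.BigOpenDense.isSchematicallyDense_of_dense
    apply Groth.Agent.Lib.Helper17.BigOpenDense.dense_of_dim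
    intro z hz
    rw [← Groth.Agent.Lib.Helper17.BigOpenDense.dim_fiberStalk_eq (pullback.snd a b) s z]
    exact hU _ hz
  have h1 := (Groth.Agent.S4871.result (pullback.snd a b) U).mpr key S (𝟙 S)
  exact Groth.Agent.Lib.Helper17.SchDenseChart.isSchematicallyDense_of_preimage
    (pullback.fst (pullback.snd a b) (𝟙 S)) U h1

end Groth.Agent.S16428
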