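import Groth.Statements.S16429
import Mathlib
import Groth.Agent.Lib.Helper17.DetBigOpen

set_option autoImplicit false
universe u
open CategoryTheory CategoryTheory.Limits AlgebraicGeometry TopologicalSpace
open RhoSh

namespace Groth.Agent.S16429

/-- Let X be a smooth, proper, geometrically irreducible scheme over a field k admitting an ample
invertible sheaf, S a locally Noetherian k-scheme, and F a finitely presented quasi-coherent module
on X ×_k S, flat over S with torsion-free fibres. Let U be an open subset of X ×_k S off which every
point has fibre local ring of Krull dimension at least 2 and on which F is locally free of rank h,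
and let L be an h-th exterior power of F. Then the determinant det F, i.e. the double dual of L, is
the direct image of the determinant of the locally free module F|_U: the unit map from the double
dual of L to j_* j^* of it (j the inclusion of U) is an isomorphism, and the biduality map L ⟶ L^**
restricts to an isomorphism over U, identifying det F on U with the exterior power L|_U of F|_U. The
published statement allows any k-scheme S; this row assumes S locally Noetherian. -/
theorem result
    (k : Type u) [Field k] (X S : Scheme.{u})
    (a : X ⟶ Spec (CommRingCat.of k)) (b : S ⟶ Spec (CommRingCat.of k))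
    [Smooth a] [IsProper a] [GeometricallyIrreducible a]
    (hproj : ∃ H : X.Modules, CohB1.IsAmple H) [IsLocallyNoetherian S]
    (F : (pullback a b).Modules) (hfp : CohB1.IsFP F)
    (hfl : FlatMod.IsFlatOver (pullback.snd a b) F)
    (htf : ∀ s : ↥S, TorSh.IsTorsionFree
      ((Scheme.Modules.pullback ((pullback.snd a b).fiberι s)).obj F))
    (h : ℕ) (U : (pullback a b).Opens)
    (hU : ∀ x : ↥(pullback a b), x ∉ U →
      (2 : WithBot ℕ∞) ≤ ringKrullDim ↑(CInt.fiberStalk (pullback.snd a b) x))
    (hFU : FlatMod.IsFinLocFreeOfRank h (F.restrict U.ι))
    (L : (pullback a b).Modules) (hL : ExtPow.IsExtPow h F L) :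
    IsIso ((Scheme.Modules.restrictAdjunction U.ι).unit.app (RefHull.ddual L)) ∧
      IsIso ((Scheme.Modules.restrictFunctor U.ι).map (RefHull.bidualMap L)) := by
  haveI : Smooth (pullback.snd a b) := inferInstance
  haveI : LocallyOfFiniteType (pullback.snd a b) := inferInstance
  haveI : IsLocallyNoetherian (pullback a b) :=
    LocallyOfFiniteType.isLocallyNoetherian (pullback.snd a b)
  haveI : F.IsQuasicoherent := by haveI := hfp; infer_instance
  haveI : F.IsFiniteType := by haveI := hfp; infer_instance
  have hcohF : Coh.IsCoh F := ⟨inferInstance, inferInstance⟩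
  have hcohL : Coh.IsCoh L := Groth.Agent.Lib.Helper17.ExtPowCoh.isCoh_of_isExtPow hcohF hL
  refine ⟨?_, ?_⟩
  · apply Groth.Agent.Lib.Helper17.DetBigOpen.isIso_unit_ddual_of_depth hcohL U
    intro x hx
    exact Groth.Agent.Lib.Helper17.DetBigOpen.two_le_depth_stalk_of_smooth
      (pullback.snd a b) x (hU x hx)
  · apply Groth.Agent.Lib.Helper17.DetBigOpen.isIso_restrict_bidualMap hcohL U
    intro x hx
    exact Groth.Agent.Lib.Helper17.DetBigOpen.free_stalk_of_isExtPow hL U hFU x hx

end Groth.Agent.S16429
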