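import Groth.Statements.S16430
import Mathlib
import Groth.Agent.Lib.Helper8.FiniteEtaleLift

set_option autoImplicit false
universe u
open Hensel

namespace Groth.Agent.S16430

/-- For a Noetherian local ring A with residue field k and a finite separable field extension l of k,
there is a local ring E, finite and etale over A with local structure map, whose residue field is
k-isomorphic to l. -/
theorem result (A : Type u)
    [CommRing A] [IsLocalRing A] [IsNoetherianRing A] (l : Type u) [Field l]
    [Algebra (IsLocalRing.ResidueField A) l] [FiniteDimensional (IsLocalRing.ResidueField A) l]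
    [Algebra.IsSeparable (IsLocalRing.ResidueField A) l] :
    ∃ (E : Type u) (_ : CommRing E) (_ : IsLocalRing E) (_ : Algebra A E)
      (_ : IsLocalHom (algebraMap A E)),
      Module.Finite A E ∧ Algebra.Etale A E ∧
        Nonempty (IsLocalRing.ResidueField E ≃ₐ[IsLocalRing.ResidueField A] l) := by
  classical
  haveI : Algebra.FormallyEtale (IsLocalRing.ResidueField A) l :=
    Algebra.FormallyEtale.of_isSeparable _ _
  haveI : Algebra.FiniteType (IsLocalRing.ResidueField A) l := inferInstance
  haveI : Algebra.FinitePresentation (IsLocalRing.ResidueField A) l :=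
    Algebra.FinitePresentation.of_finiteType.mp inferInstance
  haveI : Algebra.Etale (IsLocalRing.ResidueField A) l := ⟨inferInstance, inferInstance⟩
  obtain ⟨E, hEring, hEalg, hfin, het, ⟨e⟩⟩ :=
    Groth.Agent.Lib.Helper8.exists_finite_etale_lift A l
  -- the ring map E → l
  let ι : E →+* TensorProduct A (IsLocalRing.ResidueField A) E :=
    (Algebra.TensorProduct.includeRight :
      E →ₐ[A] TensorProduct A (IsLocalRing.ResidueField A) E).toRingHom
  let ψ : E →+* l := (e : TensorProduct A (IsLocalRing.ResidueField A) E →+* l).comp ι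
  have hψ : ∀ x, ψ x = e ((1 : IsLocalRing.ResidueField A) ⊗ₜ[A] x) := fun x => rfl
  have hιsurj : Function.Surjective ι := by
    intro t
    induction t using TensorProduct.induction_on with
    | zero => exact ⟨0, map_zero _⟩
    | tmul r x =>
      obtain ⟨a, rfl⟩ := IsLocalRing.residue_surjective r
      refine ⟨a • x, ?_⟩
      change (1 : IsLocalRing.ResidueField A) ⊗ₜ[A] (a • x) = _
      rw [← TensorProduct.smul_tmul, Algebra.smul_def, mul_one,
        IsLocalRing.ResidueField.algebraMap_eq]
    | add s t hs ht =>
      obtain ⟨x, rfl⟩ := hs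
      obtain ⟨y, rfl⟩ := ht
      exact ⟨x + y, map_add _ _ _⟩
  have hψsurj : Function.Surjective ψ := e.surjective.comp hιsurj
  have hψalg : ∀ a : A, ψ (algebraMap A E a) =
      algebraMap (IsLocalRing.ResidueField A) l (IsLocalRing.residue A a) := by
    intro a
    rw [hψ, ← AlgEquiv.commutes e, Algebra.TensorProduct.algebraMap_apply,
      Algebra.algebraMap_eq_smul_one a, ← TensorProduct.smul_tmul, Algebra.smul_def, mul_one,
      IsLocalRing.ResidueField.algebraMap_eq]
    rfl
  have hMmax : (RingHom.ker ψ).IsMaximal := RingHom.ker_isMaximal_of_surjective ψ hψsurj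
  have hker : ∀ x, ψ x = 0 → x ∈ (IsLocalRing.maximalIdeal A • (⊤ : Submodule A E)) := by
    intro x hx
    have h1 : (1 : IsLocalRing.ResidueField A) ⊗ₜ[A] x = 0 := by
      apply e.injective
      rw [map_zero]
      exact hx
    have h2 := congrArg (TensorProduct.quotTensorEquivQuotSMul E (IsLocalRing.maximalIdeal A)) h1
    have h2' := h2.trans (map_zero _)
    have h3 : TensorProduct.quotTensorEquivQuotSMul E (IsLocalRing.maximalIdeal A)
        ((1 : A ⧸ IsLocalRing.maximalIdeal A) ⊗ₜ[A] x) = Submodule.Quotient.mk x :=
      TensorProduct.quotTensorEquivQuotSMul_mk_one_tmul _ x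
    rw [← (Submodule.Quotient.mk_eq_zero _ (x := x)), ← h3]
    exact h2'
  have hunique : ∀ M' : Ideal E, M'.IsMaximal → M' = RingHom.ker ψ := by
    intro M' hM'
    haveI : Algebra.IsIntegral A E := Algebra.IsIntegral.of_finite A E
    have hcomap : (M'.comap (algebraMap A E)).IsMaximal :=
      Ideal.isMaximal_comap_of_isIntegral_of_isMaximal M'
    have hcomap' : M'.comap (algebraMap A E) = IsLocalRing.maximalIdeal A :=
      IsLocalRing.eq_maximalIdeal hcomap
    have hle : RingHom.ker ψ ≤ M' := by
      intro x hx
      have hx' := hker x ((RingHom.mem_ker).mp hx)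
      refine Submodule.smul_induction_on hx' ?_ ?_
      · intro a ha y _
        rw [Algebra.smul_def]
        apply M'.mul_mem_right
        have : a ∈ M'.comap (algebraMap A E) := hcomap' ▸ ha
        exact this
      · intro y z hy hz
        exact M'.add_mem hy hz
    exact (hMmax.eq_of_le hM'.ne_top hle).symm
  haveI hlocal : IsLocalRing E :=
    IsLocalRing.of_unique_max_ideal ⟨RingHom.ker ψ, hMmax, fun M' hM' => hunique M' hM'⟩
  have hmax : IsLocalRing.maximalIdeal E = RingHom.ker ψ :=
    hunique _ (IsLocalRing.maximalIdeal.isMaximal E)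
  haveI hloch : IsLocalHom (algebraMap A E) := by
    constructor
    intro a ha
    by_contra hna
    have h1 : a ∈ IsLocalRing.maximalIdeal A := (IsLocalRing.mem_maximalIdeal a).mpr hna
    have h2 : ψ (algebraMap A E a) = 0 := by
      rw [hψalg, (IsLocalRing.residue_eq_zero_iff a).mpr h1, map_zero]
    have h3 : algebraMap A E a ∈ IsLocalRing.maximalIdeal E := by
      rw [hmax]; exact (RingHom.mem_ker).mpr h2
    exact ((IsLocalRing.mem_maximalIdeal _).mp h3) ha
  haveI hψloc : IsLocalHom ψ := by
    constructor
    intro x hx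
    by_contra hnx
    have h1 : x ∈ IsLocalRing.maximalIdeal E := (IsLocalRing.mem_maximalIdeal x).mpr hnx
    rw [hmax] at h1
    have h2 : ψ x = 0 := (RingHom.mem_ker).mp h1
    rw [h2] at hx
    exact not_isUnit_zero hx
  refine ⟨E, hEring, hlocal, hEalg, hloch, hfin, het, ?_⟩
  let φ : IsLocalRing.ResidueField E →+* l := IsLocalRing.ResidueField.lift ψ
  have hφ : ∀ x, φ (IsLocalRing.residue E x) = ψ x :=
    fun x => IsLocalRing.ResidueField.lift_residue_apply ψ x
  let φa : IsLocalRing.ResidueField E →ₐ[IsLocalRing.ResidueField A] l :=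
    { φ with
      commutes' := by
        intro r
        obtain ⟨a, rfl⟩ := IsLocalRing.residue_surjective r
        change φ (algebraMap (IsLocalRing.ResidueField A) (IsLocalRing.ResidueField E)
          (IsLocalRing.residue A a)) = _
        rw [IsLocalRing.ResidueField.algebraMap_residue, hφ, hψalg] }
  refine ⟨AlgEquiv.ofBijective φa ⟨φ.injective, ?_⟩⟩
  intro y
  obtain ⟨x, rfl⟩ := hψsurj y
  exact ⟨IsLocalRing.residue E x, hφ x⟩

end Groth.Agent.S16430
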