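import Groth.Statements.S1644
import Groth.Agent.Lib.Helper16.PicDesc.Charts

set_option autoImplicit false
universe u
open CategoryTheory CategoryTheory.Limits AlgebraicGeometry
open Variety

namespace Groth.Agent.S1644

/-- Let i : Z → X be a closed immersion where the topological space of X is Noetherian of dimension at
most one. Then every invertible O_Z-module is isomorphic to the pullback of an invertible
O_X-module. -/
theorem result {Z X : Scheme.{u}} (i : Z ⟶ X) [IsClosedImmersion i]
    [TopologicalSpace.NoetherianSpace X] (hdim : topologicalKrullDim X ≤ 1)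
    (L : Z.Modules) (hL : PicF.IsInvertible L) :
    ∃ L' : X.Modules, PicF.IsInvertible L' ∧ Nonempty ((Scheme.Modules.pullback i).obj L' ≅ L) := by
  have hdim' : ∀ y : X, ringKrullDim (X.presheaf.stalk y) ≤ 1 := fun y =>
    (Groth.Agent.Lib.Helper26.AmpleCurve.ringKrullDim_stalk_le_topologicalKrullDim y).trans hdim
  have hcl : IsClosedMap i.base := i.isClosedEmbedding.isClosedMap
  have hinj : Function.Injective i.base := i.isClosedEmbedding.injective
  refine H16PicDesc.main_descent i hdim' hcl ⊤
    (by rw [TopologicalSpace.Opens.coe_top]; exact dense_univ)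
    (fun x x' _ hxx' => hinj hxx')
    (fun W _ hW b => i.app_surjective W hW b) hL
    (fun y _ => H16PicDesc.exists_nhd_isGen_of_subsingleton i hcl hL y
      (fun x x' hx hx' => hinj (hx.trans hx'.symm)))

end Groth.Agent.S1644
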