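import Groth.Statements.S16442
import Mathlib
import Groth.Agent.Lib.Helper8.Hzl.Union

set_option autoImplicit false
universe u
open EGA4loc

namespace Groth.Agent.S16442

/-- Let A be a reduced local ring with finitely many minimal prime ideals, S a strict henselization of
A, and D an A-subalgebra of S which is a local ring dominated by S (local inclusion) and essentially
of finite type over A. Then D is contained in some A-subalgebra E of S which is a local ring and an
essentially etale local A-algebra. -/
theorem result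
    (A S : Type u) [CommRing A] [IsLocalRing A] [IsReduced A] (hmin : (minimalPrimes A).Finite)
    [CommRing S] [IsLocalRing S] [Algebra A S] [IsLocalHom (algebraMap A S)]
    [Hensel.IsStrictHenselization A S] (D : Subalgebra A S) [IsLocalRing D]
    [IsLocalHom (algebraMap D S)] [Algebra.EssFiniteType A D] :
    ∃ E : Subalgebra A S, D ≤ E ∧ ∃ _ : IsLocalRing E, EGA4loc.IsEssentiallyEtale A E := by
  classical
  obtain ⟨σ, hσ⟩ := (Algebra.essFiniteType_iff A D).mp inferInstance
  obtain ⟨E, hsE, hEloc, hElh, hEet⟩ :=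
    Groth.Agent.Lib.Helper8.Hzl.exists_essEtale_subalgebra A S (σ.image D.val)
  refine ⟨E, ?_, hEloc, hEet⟩
  -- the image of `adjoin A σ` lies in `E`
  have hadj : ∀ x : D, x ∈ Algebra.adjoin A (σ : Set D) → (x : S) ∈ E := by
    intro x hx
    have h1 : D.val x ∈ (Algebra.adjoin A (σ : Set D)).map D.val := ⟨x, hx, rfl⟩
    rw [AlgHom.map_adjoin] at h1
    have h2 : Algebra.adjoin A (D.val '' (σ : Set D)) ≤ E := by
      refine Algebra.adjoin_le ?_
      rintro _ ⟨y, hy, rfl⟩
      exact hsE (by simpa using Finset.mem_image_of_mem D.val hy)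
    exact h2 h1
  intro d hd
  obtain ⟨t, ht, htu, hdt⟩ := hσ ⟨d, hd⟩
  have htE : (t : S) ∈ E := hadj t ht
  have hdtE : ((⟨d, hd⟩ * t : D) : S) ∈ E := hadj _ hdt
  have htuS : IsUnit (algebraMap E S ⟨(t : S), htE⟩) := by
    have : IsUnit (algebraMap D S t) := htu.map _
    exact this
  have htuE : IsUnit (⟨(t : S), htE⟩ : E) := isUnit_of_map_unit (algebraMap E S) _ htuS
  obtain ⟨u, hu⟩ := htuE.exists_right_inv
  have hu' : (t : S) * (u : S) = 1 := congrArg (Subtype.val) hu
  have : d = ((⟨d, hd⟩ * t : D) : S) * (u : S) := by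
    change d = d * (t : S) * (u : S)
    rw [mul_assoc, hu', mul_one]
  rw [this]
  exact E.mul_mem hdtE u.2

end Groth.Agent.S16442
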