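import Groth.Statements.S16443
import Mathlib
import Groth.Agent.Lib.Helper8.TotalFracSub

set_option autoImplicit false
universe u
open EGA4loc

namespace Groth.Agent.S16443

/-- Let A be a reduced local ring with finitely many minimal prime ideals, E a local ring which is an
essentially etale local A-algebra with local structure map, K_E the total ring of fractions of E,
and L an A-subalgebra of K_E containing an inverse of the image of every non-zero-divisor of A (so L
is an intermediate ring between the total rings of fractions of A and of E). Then the preimage D of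
L in E is (the underlying set of) an A-subalgebra of E which is a local ring with local inclusion
into E — its maximal ideal lies under that of E — and L is the total ring of fractions of D in the
sense that every element of L is the image of an element of D times the inverse of the image of a
non-zero-divisor of A. -/
theorem result
    (A E : Type u) [CommRing A] [IsLocalRing A] [IsReduced A] (hmin : (minimalPrimes A).Finite)
    [CommRing E] [IsLocalRing E] [Algebra A E] [IsLocalHom (algebraMap A E)]
    (hE : EGA4loc.IsEssentiallyEtale A E) (L : Subalgebra A (FractionRing E))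
    (hL : ∀ s ∈ nonZeroDivisors A, ∃ y ∈ L, algebraMap A (FractionRing E) s * y = 1) :
    ∃ D : Subalgebra A E, (D : Set E) = (algebraMap E (FractionRing E)) ⁻¹' (L : Set (FractionRing E)) ∧
      ∃ _ : IsLocalRing D, IsLocalHom (algebraMap D E) ∧
        ∀ l ∈ L, ∃ d ∈ D, ∃ s ∈ nonZeroDivisors A, ∃ y ∈ L,
          algebraMap A (FractionRing E) s * y = 1 ∧ l = algebraMap E (FractionRing E) d * y := by
  classical
  obtain ⟨C, _, _, q, hqprime, hCet, hq, ⟨e⟩⟩ := hE
  haveI : Module.Flat A C := inferInstance
  haveI : Module.Flat A (Localization.AtPrime q) := Module.Flat.trans A C (Localization.AtPrime q)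
  haveI : Module.Flat A E := Module.Flat.of_linearEquiv e.toLinearEquiv
  haveI : Algebra.QuasiFinite A C := inferInstance
  haveI : Algebra.QuasiFinite A (Localization.AtPrime q) := inferInstance
  haveI : Algebra.QuasiFinite A E := (Algebra.QuasiFinite.iff_of_algEquiv e).mpr inferInstance
  have hloc := Groth.Agent.Lib.Helper8.TotalFrac.isLocalization_fractionRing A E hmin
  have hinj : Function.Injective (algebraMap E (FractionRing E)) :=
    IsFractionRing.injective E (FractionRing E)
  let D : Subalgebra A E := L.comap (IsScalarTower.toAlgHom A E (FractionRing E))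
  have hDmem : ∀ x : E, x ∈ D ↔ algebraMap E (FractionRing E) x ∈ L := fun x => Iff.rfl
  have hlh : IsLocalHom (algebraMap D E) := ⟨fun d hd => by
    have hd' : IsUnit (d : E) := hd
    have hl : algebraMap E (FractionRing E) (d : E) ∈ L := (hDmem _).mp d.2
    obtain ⟨m, hm, hlm⟩ := Groth.Agent.Lib.Helper8.TotalFrac.exists_inv_mem A E hmin L hL _ hl
      (hd'.map _)
    obtain ⟨u, hu⟩ := hd'.exists_right_inv
    have hmu : m = algebraMap E (FractionRing E) u := by
      have h1 : algebraMap E (FractionRing E) (d : E) * algebraMap E (FractionRing E) u = 1 := by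
        rw [← map_mul, hu, map_one]
      calc m = m * (algebraMap E (FractionRing E) (d : E) * algebraMap E (FractionRing E) u) := by
              rw [h1, mul_one]
        _ = (algebraMap E (FractionRing E) (d : E) * m) * algebraMap E (FractionRing E) u := by ring
        _ = algebraMap E (FractionRing E) u := by rw [hlm, one_mul]
    have huD : u ∈ D := (hDmem u).mpr (hmu ▸ hm)
    exact IsUnit.of_mul_eq_one (⟨u, huD⟩ : D) (Subtype.ext hu)⟩
  have hDloc : IsLocalRing D := (algebraMap D E).domain_isLocalRing
  refine ⟨D, rfl, hDloc, hlh, fun l hl => ?_⟩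
  obtain ⟨⟨x, ⟨m, hmM⟩⟩, hx⟩ :=
    IsLocalization.surj ((nonZeroDivisors A).map (algebraMap A E)) l
  obtain ⟨s, hs, rfl⟩ := hmM
  obtain ⟨y, hyL, hy⟩ := hL s hs
  have hsE : algebraMap E (FractionRing E) (algebraMap A E s) = algebraMap A (FractionRing E) s :=
    (IsScalarTower.algebraMap_apply A E (FractionRing E) s).symm
  have hx' : l * algebraMap A (FractionRing E) s = algebraMap E (FractionRing E) x := by
    rw [← hsE]; exact hx
  have hxD : x ∈ D := by
    rw [hDmem, ← hx']
    exact L.mul_mem hl (L.algebraMap_mem s)
  refine ⟨x, hxD, s, hs, y, hyL, hy, ?_⟩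
  rw [← hx', mul_assoc, hy, mul_one]

end Groth.Agent.S16443
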