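import Groth.Statements.S16444
import Mathlib
import Groth.Agent.Lib.Helper8.EssEtComplete

set_option autoImplicit false
universe u
open scoped TensorProduct
open Hensel

namespace Groth.Agent.S16444

open IsLocalRing in
/-- Let A be a complete Noetherian local ring and R → A a local homomorphism from a henselian Noetherian
local ring R inducing a bijection on residue fields. Then every local ring E which is an essentially
etale local A-algebra with local structure map is A-isomorphic to A ⊗_R S for some local ring S
which is a finite etale R-algebra (its residue field is then that of E). (The published statement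
takes R to be a coefficient ring of A, that is a field or an image of a complete p-ring with the
same residue field; its proof uses only that R is henselian with the same residue field as A, which
is the hypothesis made here.) -/
theorem result
    (R A E : Type u) [CommRing R] [HenselianLocalRing R] [IsNoetherianRing R]
    [CommRing A] [IsLocalRing A] [IsNoetherianRing A] [IsAdicComplete (maximalIdeal A) A]
    [Algebra R A] [IsLocalHom (algebraMap R A)]
    (hres : Function.Bijective (ResidueField.map (algebraMap R A)))
    [CommRing E] [IsLocalRing E] [Algebra A E] [IsLocalHom (algebraMap A E)]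
    (hE : EGA4loc.IsEssentiallyEtale A E) :
    ∃ (S : Type u) (_ : CommRing S) (_ : IsLocalRing S) (_ : Algebra R S),
      Module.Finite R S ∧ Algebra.Etale R S ∧ Nonempty (E ≃ₐ[A] A ⊗[R] S) := by
  classical
  obtain ⟨C, _, _, q, hqprime, hCet, hq, ⟨e⟩⟩ := hE
  haveI : HenselianLocalRing A :=
    Groth.Agent.Lib.Helper8.EssEtComplete.henselianLocalRing_of_isAdicComplete A
  haveI : q.LiesOver (IsLocalRing.maximalIdeal A) := ⟨hq.symm⟩
  obtain ⟨J, hJfin, hJloc, hJlocz⟩ :=
    Groth.Agent.Lib.Helper8.Hzl.exists_finite_quotient_isLocalization A C q
  -- `E ≃ C ⧸ J` over `A`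
  let e₁ : Localization.AtPrime q ≃ₐ[C] C ⧸ J :=
    IsLocalization.algEquiv q.primeCompl (Localization.AtPrime q) (C ⧸ J)
  let e₂ : E ≃ₐ[A] C ⧸ J := e.trans (e₁.restrictScalars A)
  haveI : Module.Finite A E := Module.Finite.equiv e₂.symm.toLinearEquiv
  haveI : Algebra.FormallyEtale C (Localization.AtPrime q) :=
    Algebra.FormallyEtale.of_isLocalization q.primeCompl
  haveI : Algebra.FormallyEtale A (Localization.AtPrime q) :=
    Algebra.FormallyEtale.comp A C (Localization.AtPrime q)
  haveI : Algebra.FormallyEtale A E := Algebra.FormallyEtale.of_equiv e.symm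
  haveI : Algebra.FinitePresentation A E := Algebra.FinitePresentation.of_finiteType.mp inferInstance
  haveI : Algebra.Etale A E := {}
  letI : Algebra R E := ((algebraMap A E).comp (algebraMap R A)).toAlgebra
  haveI : IsScalarTower R A E := IsScalarTower.of_algebraMap_eq (fun _ => rfl)
  obtain ⟨f, hfm, hloc, het, ⟨eq⟩⟩ :=
    Groth.Agent.Lib.Helper8.EssEtComplete.exists_adjoinRoot_equiv R A E hres
  haveI := hfm.finite_adjoinRoot
  exact ⟨AdjoinRoot f, inferInstance, hloc, inferInstance, inferInstance, het, ⟨eq⟩⟩

end Groth.Agent.S16444
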