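import Groth.Statements.S16452
import Mathlib

set_option autoImplicit false
universe u
open CAlg

namespace Groth.Agent.S16452

theorem map_bijective_of {A B : Type u} [CommRing A] [CommRing B] {φ : A →+* B}
    {𝓕 : FiltBl.IdealFiltration A} {𝓖 : FiltBl.IdealFiltration B} (h : AssocGr.IsFiltHom φ 𝓕 𝓖)
    (hinj : ∀ (n : ℕ) (a : A), a ∈ 𝓕.F n → φ a ∈ 𝓖.F (n + 1) → a ∈ 𝓕.F (n + 1))
    (hsurj : ∀ (n : ℕ) (b : B), b ∈ 𝓖.F n → ∃ a ∈ 𝓕.F n, b - φ a ∈ 𝓖.F (n + 1)) :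
    Function.Bijective (AssocGr.map h) := by
  constructor
  · rw [injective_iff_map_eq_zero]
    intro x hx
    obtain ⟨f, rfl⟩ := AssocGr.mkG_surjective _ x
    rw [AssocGr.map_mkG, AssocGr.mkG_eq_zero_iff] at hx
    rw [AssocGr.mkG_eq_zero_iff]
    refine (AssocGr.mem_succIdeal_iff _ _).mpr fun n => ?_
    have h1 := (AssocGr.mem_succIdeal_iff _ _).mp hx n
    rw [AssocGr.coe_reesMap, Polynomial.coeff_map] at h1
    exact hinj n _ (f.2 n) h1
  · have key : ∀ (n : ℕ) (b : 𝓖.F n),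
        ∃ x, AssocGr.map h x = (AssocGr.inDeg 𝓖 n b : AssocGr.GrRing 𝓖) := by
      rintro n ⟨b, hb⟩
      obtain ⟨a, ha, hab⟩ := hsurj n b hb
      refine ⟨(AssocGr.inDeg 𝓕 n ⟨a, ha⟩ : AssocGr.GrRing 𝓕), ?_⟩
      rw [AssocGr.map_inDeg, ← sub_eq_zero, ← Submodule.coe_sub, ← map_sub,
        Submodule.coe_eq_zero, AssocGr.inDeg_eq_zero_iff]
      show φ a - b ∈ 𝓖.F (n + 1)
      rw [← neg_sub]
      exact neg_mem hab
    intro y
    obtain ⟨g, rfl⟩ := AssocGr.mkG_surjective _ y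
    choose X hX using key
    refine ⟨∑ n ∈ (g : Polynomial B).support, X n ⟨(g : Polynomial B).coeff n, g.2 n⟩, ?_⟩
    rw [map_sum]
    conv_rhs => rw [← AssocGr.sum_term 𝓖 g, map_sum]
    refine Finset.sum_congr rfl fun n _ => ?_
    rw [hX, AssocGr.mkG_term]

theorem nilp {T C : Type*} [CommRing T] [CommRing C] (K : Ideal T) (m : ℕ)
    (f : T ⧸ K ^ m →+* C) (hf : ∀ t : T, f (Ideal.Quotient.mk (K ^ m) t) = 0 → t ∈ K) :
    RingHom.ker f ≤ K.map (Ideal.Quotient.mk (K ^ m)) ∧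
      (K.map (Ideal.Quotient.mk (K ^ m))) ^ m = ⊥ ∧ IsNilpotent (RingHom.ker f) := by
  have h1 : RingHom.ker f ≤ K.map (Ideal.Quotient.mk (K ^ m)) := by
    intro x hx
    obtain ⟨t, rfl⟩ := Ideal.Quotient.mk_surjective x
    exact Ideal.mem_map_of_mem _ (hf t (RingHom.mem_ker.mp hx))
  have h2 : (K.map (Ideal.Quotient.mk (K ^ m))) ^ m = ⊥ := by
    rw [← Ideal.map_pow, Ideal.map_quotient_self]
  refine ⟨h1, h2, m, ?_⟩
  rw [Ideal.zero_eq_bot, eq_bot_iff, ← h2]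
  exact Ideal.pow_right_mono h1 m

theorem exists_sigma {R S : Type u} [CommRing R] [CommRing S] [Algebra R S]
    [Algebra.FormallyEtale R S] (J : Ideal S) (hJ : Function.Surjective (algebraMap R (S ⧸ J)))
    (I : Ideal R) (hI : I = J.comap (algebraMap R S)) (n : ℕ) :
    ∃ σ : S →ₐ[R] R ⧸ I ^ (n + 1), (∀ s ∈ J ^ (n + 1), σ s = 0) ∧
      ∀ (s : S) (r : R), Ideal.Quotient.mk (I ^ (n + 1)) r = σ s →
        s - algebraMap R S r ∈ J ^ (n + 1) := by
  have hker : ∀ r : R, algebraMap R (S ⧸ J) r = 0 ↔ r ∈ I := by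
    intro r
    rw [hI, Ideal.mem_comap, ← Ideal.Quotient.eq_zero_iff_mem]
    rfl
  have hIJ : I.map (algebraMap R S) ≤ J := by rw [hI]; exact Ideal.map_comap_le
  have hIJn : ∀ a ∈ I ^ (n + 1), algebraMap R S a ∈ J ^ (n + 1) := fun a ha =>
    Ideal.pow_right_mono hIJ (n + 1) (by rw [← Ideal.map_pow]; exact Ideal.mem_map_of_mem _ ha)
  obtain ⟨g, hg⟩ : ∃ g : (R ⧸ I ^ (n + 1)) →ₐ[R] S ⧸ J,
      ∀ r : R, g (Ideal.Quotient.mk (I ^ (n + 1)) r) = algebraMap R (S ⧸ J) r :=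
    ⟨Ideal.Quotient.liftₐ (I ^ (n + 1)) (Algebra.ofId R (S ⧸ J)) (fun a ha =>
      (hker a).mpr (Ideal.pow_le_self (Nat.succ_ne_zero n) ha)), fun r => rfl⟩
  obtain ⟨ψ, hψ⟩ : ∃ ψ : (R ⧸ I ^ (n + 1)) →ₐ[R] S ⧸ J ^ (n + 1),
      ∀ r : R, ψ (Ideal.Quotient.mk (I ^ (n + 1)) r) =
        Ideal.Quotient.mk (J ^ (n + 1)) (algebraMap R S r) :=
    ⟨Ideal.Quotient.liftₐ (I ^ (n + 1)) (Algebra.ofId R (S ⧸ J ^ (n + 1))) (fun a ha =>
      Ideal.Quotient.eq_zero_iff_mem.mpr (hIJn a ha)), fun r => rfl⟩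
  have hgsurj : Function.Surjective g := fun y => by
    obtain ⟨r, rfl⟩ := hJ y
    exact ⟨_, hg r⟩
  obtain ⟨hk1, hk2, hk3⟩ := nilp I (n + 1) (g : (R ⧸ I ^ (n + 1)) →+* S ⧸ J)
    (fun t ht => (hker t).mp ((hg t).symm.trans ht))
  obtain ⟨σ, hσ⟩ : ∃ σ : S →ₐ[R] R ⧸ I ^ (n + 1), ∀ s, g (σ s) = Ideal.Quotient.mk J s :=
    ⟨Algebra.FormallySmooth.liftOfSurjective (Ideal.Quotient.mkₐ R J) g hgsurj hk3,
      fun s => Algebra.FormallySmooth.liftOfSurjective_apply _ g hgsurj hk3 s⟩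
  refine ⟨σ, ?_, ?_⟩
  · have hJK : J ≤ (I.map (Ideal.Quotient.mk (I ^ (n + 1)))).comap σ := by
      intro s hs
      rw [Ideal.mem_comap]
      apply hk1
      rw [RingHom.mem_ker]
      show g (σ s) = 0
      rw [hσ, Ideal.Quotient.eq_zero_iff_mem]
      exact hs
    intro s hs
    have h3 := Ideal.le_comap_pow (f := σ) (n := n + 1) (Ideal.pow_right_mono hJK (n + 1) hs)
    rw [hk2] at h3
    exact Ideal.mem_bot.mp (Ideal.mem_comap.mp h3)
  · have hfnil := nilp J (n + 1)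
      (Ideal.Quotient.factor (Ideal.pow_le_self (Nat.succ_ne_zero n)) :
        S ⧸ J ^ (n + 1) →+* S ⧸ J) (fun t ht => by
        rw [Ideal.Quotient.factor_mk, Ideal.Quotient.eq_zero_iff_mem] at ht; exact ht)
    have heq : Ideal.Quotient.mkₐ R (J ^ (n + 1)) = ψ.comp σ := by
      refine Algebra.FormallyUnramified.ext' _ hfnil.2.2 _ _ fun s => ?_
      obtain ⟨r, hr⟩ := Ideal.Quotient.mk_surjective (σ s)
      rw [AlgHom.comp_apply, ← hr, hψ, Ideal.Quotient.mkₐ_eq_mk, Ideal.Quotient.factor_mk,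
        Ideal.Quotient.factor_mk]
      rw [← hσ s, ← hr, hg r]
      rfl
    intro s r hr
    have h4 := AlgHom.congr_fun heq s
    rw [AlgHom.comp_apply, ← hr, hψ, Ideal.Quotient.mkₐ_eq_mk, Ideal.Quotient.eq] at h4
    exact h4

/-- Let R → S be formally étale and J an ideal of S such that the composite R → S → S/J is surjective;
let I ⊆ R be its kernel, the preimage of J in R. Then the homomorphism of associated graded rings ⊕ₙ
Iⁿ/Iⁿ⁺¹ → ⊕ₙ Jⁿ/Jⁿ⁺¹ induced by R → S (which carries I into J) is bijective. -/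
theorem result (R : Type u) [CommRing R] (S : Type u)
    [CommRing S] [Algebra R S] [Algebra.FormallyEtale R S] (J : Ideal S)
    (hJ : Function.Surjective (algebraMap R (S ⧸ J))) :
    Function.Bijective (AssocGr.map (AssocGr.IsFiltHom.adic
      (Ideal.map_comap_le : (J.comap (algebraMap R S)).map (algebraMap R S) ≤ J))) := by
  have inj : ∀ (n : ℕ) (a : R), algebraMap R S a ∈ J ^ n →
      a ∈ (J.comap (algebraMap R S)) ^ n := by
    intro n a ha
    cases n with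
    | zero => rw [pow_zero, Ideal.one_eq_top]; trivial
    | succ n =>
      obtain ⟨σ, hσ1, -⟩ := exists_sigma J hJ (J.comap (algebraMap R S)) rfl n
      have h1 := hσ1 _ ha
      rw [AlgHom.commutes] at h1
      have h2 : Ideal.Quotient.mk ((J.comap (algebraMap R S)) ^ (n + 1)) a = 0 := h1
      exact Ideal.Quotient.eq_zero_iff_mem.mp h2
  refine map_bijective_of _ ?_ ?_
  · intro n a _ ha
    exact inj (n + 1) a ha
  · intro n b hb
    obtain ⟨σ, -, hσ2⟩ := exists_sigma J hJ (J.comap (algebraMap R S)) rfl n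
    obtain ⟨r, hr⟩ := Ideal.Quotient.mk_surjective (σ b)
    have h1 := hσ2 b r hr
    refine ⟨r, inj n r ?_, h1⟩
    rw [← sub_sub_cancel b (algebraMap R S r)]
    exact Ideal.sub_mem _ hb (Ideal.pow_le_pow_right (Nat.le_succ n) h1)

end Groth.Agent.S16452
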