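import Groth.Statements.S16453
import Mathlib

set_option autoImplicit false
universe u
open AdicGr

namespace Groth.Agent.S16453

/-- Let A be a commutative ring, I an ideal and Â the I-adic completion, filtered by the kernels Âₙ of
the projections Â → A/Iⁿ. Then the homomorphism of associated graded rings ⊕ₙ Iⁿ/Iⁿ⁺¹ → ⊕ₙ Âₙ/Âₙ₊₁
induced by the canonical map A → Â is bijective. No hypothesis on A or I is needed. (The published
statement is for an arbitrary filtered ring and also asserts the analogous isomorphism for a
compatibly filtered module; this row is the ring assertion for the filtration by the powers of one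
ideal.) -/
theorem result (A : Type u) [CommRing A] (I : Ideal A) :
    Function.Bijective (AssocGr.map (AssocGr.isFiltHom_kerFilt I)) := by
  have hval : ∀ (a : A) (n : ℕ),
      (algebraMap A (AdicCompletion I A) a).val n = Submodule.Quotient.mk a := by
    intro a n
    rw [AdicCompletion.algebraMap_apply, Algebra.algebraMap_self, RingHom.id_apply,
      AdicCompletion.of_apply, Submodule.mkQ_apply]
  constructor
  · rw [injective_iff_map_eq_zero]
    intro x hx
    obtain ⟨f, rfl⟩ := AssocGr.mkG_surjective _ x
    rw [AssocGr.map_mkG, AssocGr.mkG_eq_zero_iff] at hx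
    rw [AssocGr.mkG_eq_zero_iff]
    refine (AssocGr.mem_succIdeal_iff _ _).mpr fun n => ?_
    have h1 := (AssocGr.mem_succIdeal_iff _ _).mp hx n
    rw [AssocGr.coe_reesMap, Polynomial.coeff_map, AssocGr.mem_kerFilt_iff_val, hval,
      Submodule.Quotient.mk_eq_zero] at h1
    change _ ∈ (I ^ (n + 1) • ⊤ : Ideal A) at h1
    rw [AssocGr.pow_smul_top] at h1
    exact h1
  · have key : ∀ (n : ℕ) (b : (AssocGr.kerFilt I).F n),
        ∃ x, AssocGr.map (AssocGr.isFiltHom_kerFilt I) x =
          (AssocGr.inDeg (AssocGr.kerFilt I) n b : AssocGr.GrRing (AssocGr.kerFilt I)) := by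
      rintro n ⟨b, hb⟩
      have hb0 : b.val n = 0 := (AssocGr.mem_kerFilt_iff_val I n b).mp hb
      obtain ⟨a, ha⟩ := Ideal.Quotient.mk_surjective (b.val (n + 1))
      have ha' : a ∈ I ^ n := by
        have h1 := AdicCompletion.transitionMap_comp_eval_apply (I := I) (M := A)
          (Nat.le_add_right n 1) b
        rw [← ha, hb0] at h1
        change Ideal.Quotient.mk (I ^ n • ⊤ : Ideal A) a = 0 at h1
        rwa [Ideal.Quotient.eq_zero_iff_mem, AssocGr.pow_smul_top] at h1
      refine ⟨(AssocGr.inDeg (FiltBl.IdealFiltration.adic I) n ⟨a, ha'⟩ : AssocGr.GrRing _), ?_⟩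
      rw [AssocGr.map_inDeg, ← sub_eq_zero, ← Submodule.coe_sub, ← map_sub,
        Submodule.coe_eq_zero, AssocGr.inDeg_eq_zero_iff]
      show algebraMap A (AdicCompletion I A) a - b ∈ (AssocGr.kerFilt I).F (n + 1)
      rw [AssocGr.mem_kerFilt_iff_val, AdicCompletion.val_sub_apply, hval, ← ha]
      exact sub_self _
    intro y
    obtain ⟨g, rfl⟩ := AssocGr.mkG_surjective _ y
    choose X hX using key
    refine ⟨∑ n ∈ (g : Polynomial (AdicCompletion I A)).support,
      X n ⟨(g : Polynomial (AdicCompletion I A)).coeff n, g.2 n⟩, ?_⟩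
    rw [map_sum]
    conv_rhs => rw [← AssocGr.sum_term (AssocGr.kerFilt I) g, map_sum]
    refine Finset.sum_congr rfl fun n _ => ?_
    rw [hX, AssocGr.mkG_term]

end Groth.Agent.S16453
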