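import Groth.Statements.S16454
import Mathlib
import Groth.Agent.Lib.Helper9.NilpFlat

set_option autoImplicit false
universe u
open TensorProduct
open EGA43

namespace Groth.Agent.S16454

theorem exists_fin_rep {R P N : Type*} [CommRing R] [AddCommGroup P] [Module R P]
    [AddCommGroup N] [Module R N] (x : P ⊗[R] N) :
    ∃ (k : ℕ) (a : Fin k → P) (y : Fin k → N), x = ∑ i, a i ⊗ₜ[R] y i := by
  classical
  obtain ⟨S, hS⟩ := TensorProduct.exists_finset x
  refine ⟨S.card, fun i => (S.equivFin.symm i).1.1, fun i => (S.equivFin.symm i).1.2, ?_⟩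
  rw [hS, ← Finset.sum_coe_sort S, ← Equiv.sum_comp S.equivFin.symm]

theorem step {A : Type u} [CommRing A] (I : Ideal A) (M : Type u) [AddCommGroup M] [Module A M]
    (n : ℕ)
    (hinj : ∀ (k : ℕ) (a : Fin k → ↥((FiltBl.IdealFiltration.adic I).F n))
      (x : Fin k → ↥((Rees.powFilt I M).N 0)),
      (∑ i, (AssocGr.inDeg (FiltBl.IdealFiltration.adic I) n (a i) :
          AssocGr.GrRing (FiltBl.IdealFiltration.adic I)) •
        (AssocGr.inDegM (Rees.powFilt I M) 0 (x i) : AssocGr.GrMod (Rees.powFilt I M))) = 0 →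
      (∑ i, (AssocGr.inDeg (FiltBl.IdealFiltration.adic I) n (a i)) ⊗ₜ[A]
          (Submodule.Quotient.mk (x i : M)) :
        ↥(AssocGr.gr (FiltBl.IdealFiltration.adic I) n) ⊗[A] (M ⧸ (I • (⊤ : Submodule A M)))) = 0)
    (ih : Function.Injective
      (((FiltBl.IdealFiltration.adic I).F (n + 1)).subtype.rTensor M)) :
    Function.Injective (((FiltBl.IdealFiltration.adic I).F n).subtype.rTensor M) := by
  rw [injective_iff_map_eq_zero]
  intro x hx
  obtain ⟨k, a, y, rfl⟩ := exists_fin_rep x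
  have hsum : ∑ i, (a i : A) • y i = 0 := by
    have h1 := congrArg (TensorProduct.lid A M) hx
    rw [map_sum, map_sum, map_zero] at h1
    simpa only [LinearMap.rTensor_tmul, TensorProduct.lid_tmul, Submodule.subtype_apply] using h1
  have h00 : ∀ m : M, m ∈ (Rees.powFilt I M).N 0 := fun m => by
    show m ∈ I ^ 0 • (⊤ : Submodule A M)
    rw [pow_zero, Ideal.one_eq_top, Submodule.top_smul]; trivial
  have hmem : ∀ i, (a i : A) • y i ∈ (Rees.powFilt I M).N (n + 0) := fun i =>
    (Rees.powFilt I M).pow_smul_le n 0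
      (Submodule.smul_mem_smul (show (a i : A) ∈ I ^ n from (a i).2) (h00 (y i)))
  have hgr : (∑ i, (AssocGr.inDeg (FiltBl.IdealFiltration.adic I) n (a i) :
        AssocGr.GrRing (FiltBl.IdealFiltration.adic I)) •
      (AssocGr.inDegM (Rees.powFilt I M) 0 ⟨y i, h00 (y i)⟩ :
        AssocGr.GrMod (Rees.powFilt I M))) = 0 := by
    have e1 : ∀ i, (AssocGr.inDeg (FiltBl.IdealFiltration.adic I) n (a i) :
          AssocGr.GrRing (FiltBl.IdealFiltration.adic I)) •
        (AssocGr.inDegM (Rees.powFilt I M) 0 ⟨y i, h00 (y i)⟩ :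
          AssocGr.GrMod (Rees.powFilt I M)) =
        ((AddSubgroup.subtype (AssocGr.grM (Rees.powFilt I M) (n + 0))).comp
          (AssocGr.inDegM (Rees.powFilt I M) (n + 0))) ⟨(a i : A) • y i, hmem i⟩ := fun i =>
      AssocGr.inDeg_smul_inDegM (Rees.powFilt I M) n 0 (a i) ⟨y i, h00 (y i)⟩
    rw [Finset.sum_congr rfl fun i _ => e1 i, ← map_sum]
    refine (congrArg _ (Subtype.ext ?_ :
      (∑ i, (⟨(a i : A) • y i, hmem i⟩ : ↥((Rees.powFilt I M).N (n + 0)))) = 0)).trans
      (map_zero _)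
    rw [AddSubmonoidClass.coe_finset_sum]
    exact hsum
  have h5 := hinj k a (fun i => ⟨y i, h00 (y i)⟩) hgr
  -- `I` kills `gr_n`
  have hkill : ∀ b : A, b ∈ I →
      ∀ g : ↥(AssocGr.gr (FiltBl.IdealFiltration.adic I) n), b • g = 0 := by
    intro b hb g
    obtain ⟨c, rfl⟩ := AssocGr.inDeg_surjective _ n g
    rw [← map_smul, AssocGr.inDeg_eq_zero_iff]
    show b * (c : A) ∈ I ^ (n + 1)
    rw [pow_succ']
    exact Ideal.mul_mem_mul hb c.2
  have hz : ∀ m ∈ I • (⊤ : Submodule A M),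
      ∀ g : ↥(AssocGr.gr (FiltBl.IdealFiltration.adic I) n), g ⊗ₜ[A] m = 0 := by
    intro m hm g
    refine Submodule.smul_induction_on hm (fun b hb m' _ => ?_) (fun m₁ m₂ h₁ h₂ => ?_)
    · rw [TensorProduct.tmul_smul, TensorProduct.smul_tmul', hkill b hb,
        TensorProduct.zero_tmul]
    · rw [TensorProduct.tmul_add, h₁, h₂, add_zero]
  have hinjQ : Function.Injective
      (LinearMap.lTensor ↥(AssocGr.gr (FiltBl.IdealFiltration.adic I) n)
        (I • (⊤ : Submodule A M)).mkQ) := by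
    rw [injective_iff_map_eq_zero]
    intro z hz'
    have hex := lTensor_exact ↥(AssocGr.gr (FiltBl.IdealFiltration.adic I) n)
      (LinearMap.exact_subtype_mkQ (I • (⊤ : Submodule A M))) (Submodule.mkQ_surjective _)
    obtain ⟨w, rfl⟩ := (hex z).mp hz'
    clear hz'
    induction w using TensorProduct.induction_on with
    | zero => rw [map_zero]
    | tmul g m' => rw [LinearMap.lTensor_tmul]; exact hz _ m'.2 g
    | add w₁ w₂ h₁ h₂ => rw [map_add, h₁, h₂, add_zero]
  have hrT' : (LinearMap.rTensor M (AssocGr.inDeg (FiltBl.IdealFiltration.adic I) n))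
      (∑ i, a i ⊗ₜ[A] y i) = 0 := by
    apply hinjQ
    rw [map_zero, map_sum, map_sum, ← h5]
    refine Finset.sum_congr rfl fun i _ => ?_
    rw [LinearMap.rTensor_tmul, LinearMap.lTensor_tmul]
    rfl
  have hle : (FiltBl.IdealFiltration.adic I).F (n + 1) ≤ (FiltBl.IdealFiltration.adic I).F n :=
    (FiltBl.IdealFiltration.adic I).antitone (Nat.le_succ n)
  have hexj : Function.Exact (Submodule.inclusion hle)
      (AssocGr.inDeg (FiltBl.IdealFiltration.adic I) n) := by
    intro c
    rw [AssocGr.inDeg_eq_zero_iff]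
    constructor
    · intro hc
      exact ⟨⟨c, hc⟩, Subtype.ext rfl⟩
    · rintro ⟨c', rfl⟩
      exact c'.2
  have hex2 := rTensor_exact M hexj (AssocGr.inDeg_surjective _ n)
  obtain ⟨x', hx'⟩ := (hex2 _).mp hrT'
  have hx0 : x' = 0 := by
    apply ih
    rw [map_zero]
    have hcomp : ((FiltBl.IdealFiltration.adic I).F (n + 1)).subtype.rTensor M =
        ((FiltBl.IdealFiltration.adic I).F n).subtype.rTensor M ∘ₗ
          (Submodule.inclusion hle).rTensor M := by
      rw [← LinearMap.rTensor_comp, Submodule.subtype_comp_inclusion]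
    rw [hcomp, LinearMap.comp_apply, hx', hx]
  rw [← hx', hx0, map_zero]

/-- Let A be a commutative ring, I a nilpotent ideal of A and M an A-module, and form the associated
graded ring G = ⊕ₙ Iⁿ/Iⁿ⁺¹ and the associated graded G-module gr_I(M) = ⊕ₙ IⁿM/Iⁿ⁺¹M. Assume that
M/IM is flat over A/I and that the canonical homomorphism (M/IM) ⊗ G → gr_I(M), [x] ⊗ [a] ↦ [a·x],
is injective: degree by degree, whenever elements a_i ∈ Iⁿ and x_i ∈ M satisfy Σ_i [a_i]·[x_i] = 0
in gr_I(M) (that is Σ a_i x_i ∈ Iⁿ⁺¹M), the element Σ_i [a_i] ⊗ [x_i] of (Iⁿ/Iⁿ⁺¹) ⊗ (M/IM) is zero.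
Then M is a flat A-module. (The published lemma is stated for any finite decreasing multiplicative
filtration A = J₀ ⊇ J₁ ⊇ … ⊇ J_N₊₁ = 0 of A with M filtered by the submodules JₙM; this row is its
case Jₙ = Iⁿ.) -/
theorem result (A : Type u) [CommRing A] (I : Ideal A)
    (hI : IsNilpotent I) (M : Type u) [AddCommGroup M] [Module A M]
    (hflat : Module.Flat (A ⧸ I) (M ⧸ (I • (⊤ : Submodule A M))))
    (hinj : ∀ (n k : ℕ) (a : Fin k → ↥((FiltBl.IdealFiltration.adic I).F n))
      (x : Fin k → ↥((Rees.powFilt I M).N 0)),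
      (∑ i, (AssocGr.inDeg (FiltBl.IdealFiltration.adic I) n (a i) :
          AssocGr.GrRing (FiltBl.IdealFiltration.adic I)) •
        (AssocGr.inDegM (Rees.powFilt I M) 0 (x i) : AssocGr.GrMod (Rees.powFilt I M))) = 0 →
      (∑ i, (AssocGr.inDeg (FiltBl.IdealFiltration.adic I) n (a i)) ⊗ₜ[A]
          (Submodule.Quotient.mk (x i : M)) :
        ↥(AssocGr.gr (FiltBl.IdealFiltration.adic I) n) ⊗[A] (M ⧸ (I • (⊤ : Submodule A M)))) = 0) :
    Module.Flat A M := by
  classical
  haveI := hflat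
  have H1 : Module.Flat (A ⧸ I) ((A ⧸ I) ⊗[A] M) :=
    Module.Flat.of_linearEquiv ((TensorProduct.quotTensorEquivQuotSMul M I).extendScalarsOfSurjective
      (by rw [Ideal.Quotient.algebraMap_eq]; exact Ideal.Quotient.mk_surjective))
  obtain ⟨N, hN⟩ := hI
  have all : ∀ k n : ℕ, N ≤ n + k →
      Function.Injective (((FiltBl.IdealFiltration.adic I).F n).subtype.rTensor M) := by
    intro k
    induction k with
    | zero =>
      intro n hn
      have hbot : (FiltBl.IdealFiltration.adic I).F n ≤ ⊥ := by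
        show I ^ n ≤ ⊥
        rw [← Ideal.zero_eq_bot, ← hN]
        exact Ideal.pow_le_pow_right (by omega)
      rw [injective_iff_map_eq_zero]
      intro x _
      obtain ⟨k, a, y, rfl⟩ := exists_fin_rep x
      refine Finset.sum_eq_zero fun i _ => ?_
      have h0 : a i = 0 := Subtype.ext ((Submodule.mem_bot A).mp (hbot (a i).2))
      rw [h0, TensorProduct.zero_tmul]
    | succ k ih =>
      intro n hn
      exact step I M n (hinj n) (ih (n + 1) (by omega))
  have h1 := all N 1 (by omega)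
  have tr : ∀ 𝔟 𝔠 : Ideal A, 𝔟 = 𝔠 → Function.Injective (𝔟.subtype.rTensor M) →
      Function.Injective (𝔠.subtype.rTensor M) := by
    rintro 𝔟 _ rfl h
    exact h
  have H2 : Function.Injective (I.subtype.rTensor M) :=
    tr _ _ (pow_one I : (FiltBl.IdealFiltration.adic I).F 1 = I) h1
  exact Groth.Agent.Lib.Helper9.NilpFlat.flat_of_isNilpotent I ⟨N, hN⟩ H1 H2

end Groth.Agent.S16454
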