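import Groth.Statements.S16455
import Mathlib

set_option autoImplicit false
universe u
open EGA4

namespace Groth.Agent.S16455

open DirectSum in
section
variable {A : Type u} [CommRing A] {I : Ideal A} {M : Type u} [AddCommGroup M] [Module A M]
  (F : I.Filtration M)

theorem hsurj (I : Ideal A) : Function.Surjective (algebraMap A (A ⧸ I)) := by
  rw [Ideal.Quotient.algebraMap_eq]; exact Ideal.Quotient.mk_surjective

noncomputable def lam (n : ℕ) : ↥(F.N n) →ₗ[A] AssocGr.GrMod F where
  toFun z := (AssocGr.inDegM F n z : AssocGr.GrMod F)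
  map_add' z z' := by rw [map_add]; rfl
  map_smul' a z := AssocGr.coe_inDegM_smul F n a z

theorem ker_lam (hF : ∀ n, F.N (n + 1) = I • F.N n) (n : ℕ) :
    LinearMap.ker (lam F n) = (I • ⊤ : Submodule A ↥(F.N n)) := by
  ext z
  have h1 : (I • (⊤ : Submodule A ↥(F.N n))).map (F.N n).subtype = I • F.N n := by
    rw [Submodule.map_smul'', Submodule.map_subtype_top]
  rw [LinearMap.mem_ker]
  show (AssocGr.inDegM F n z : AssocGr.GrMod F) = 0 ↔ _
  rw [ZeroMemClass.coe_eq_zero, AssocGr.inDegM_eq_zero_iff, hF n, ← h1]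
  constructor
  · rintro ⟨z', hz', hzz'⟩
    have : z' = z := Subtype.ext hzz'
    rwa [← this]
  · intro hz
    exact ⟨z, hz, rfl⟩

noncomputable def iotaA (hF : ∀ n, F.N (n + 1) = I • F.N n) (n : ℕ) :
    (↥(F.N n) ⧸ (I • ⊤ : Submodule A ↥(F.N n))) →ₗ[A] AssocGr.GrMod F :=
  Submodule.liftQ _ (lam F n) (ker_lam F hF n).ge

theorem iotaA_injective (hF : ∀ n, F.N (n + 1) = I • F.N n) (n : ℕ) :
    Function.Injective (iotaA F hF n) := by
  rw [← LinearMap.ker_eq_bot]
  exact Submodule.ker_liftQ_eq_bot _ _ _ (ker_lam F hF n).le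

theorem iotaA_mem (hF : ∀ n, F.N (n + 1) = I • F.N n) (n : ℕ)
    (q : ↥(F.N n) ⧸ (I • ⊤ : Submodule A ↥(F.N n))) : iotaA F hF n q ∈ AssocGr.grM F n := by
  obtain ⟨z, rfl⟩ := Submodule.Quotient.mk_surjective _ q
  exact (AssocGr.inDegM F n z).2

noncomputable def Phi (hF : ∀ n, F.N (n + 1) = I • F.N n) :
    (⨁ n, (↥(F.N n) ⧸ (I • ⊤ : Submodule A ↥(F.N n)))) →ₗ[A ⧸ I] AssocGr.GrMod F :=
  DirectSum.toModule (A ⧸ I) ℕ (AssocGr.GrMod F)
    (fun n => (iotaA F hF n).extendScalarsOfSurjective (hsurj I))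

theorem Phi_lof (hF : ∀ n, F.N (n + 1) = I • F.N n) (n : ℕ)
    (q : ↥(F.N n) ⧸ (I • ⊤ : Submodule A ↥(F.N n))) :
    Phi F hF (DirectSum.lof (A ⧸ I) ℕ
      (fun n => ↥(F.N n) ⧸ (I • ⊤ : Submodule A ↥(F.N n))) n q) = iotaA F hF n q := by
  unfold Phi
  rw [DirectSum.toModule_lof]
  rfl

noncomputable def proj (m : ℕ) : AssocGr.GrMod F →+ AssocGr.GrMod F where
  toFun y := (DirectSum.decompose (AssocGr.grM F) y m : AssocGr.GrMod F)
  map_zero' := by rw [DirectSum.decompose_zero]; rfl
  map_add' a b := by rw [DirectSum.decompose_add]; rfl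

theorem proj_same {m : ℕ} {y : AssocGr.GrMod F} (hy : y ∈ AssocGr.grM F m) : proj F m y = y :=
  DirectSum.decompose_of_mem_same _ hy

theorem proj_ne {n m : ℕ} {y : AssocGr.GrMod F} (hy : y ∈ AssocGr.grM F n) (h : n ≠ m) :
    proj F m y = 0 :=
  DirectSum.decompose_of_mem_ne _ hy h

open scoped Classical in
theorem Phi_injective (hF : ∀ n, F.N (n + 1) = I • F.N n) : Function.Injective (Phi F hF) := by
  rw [injective_iff_map_eq_zero]
  intro p hp
  have hp' : ∑ n ∈ p.support, iotaA F hF n (p n) = 0 := by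
    rw [← hp]
    conv_rhs => rw [← DirectSum.sum_support_of p]
    rw [map_sum]
    exact Finset.sum_congr rfl fun n _ => (Phi_lof F hF n (p n)).symm
  refine DFinsupp.ext fun m => ?_
  have h1 := congrArg (proj F m) hp'
  have h2 : ∑ n ∈ p.support, proj F m (iotaA F hF n (p n)) = proj F m (iotaA F hF m (p m)) :=
    Finset.sum_eq_single m (fun n _ hn => proj_ne F (iotaA_mem F hF n (p n)) hn)
      (fun hm => by rw [DFinsupp.notMem_support_iff.mp hm, map_zero, map_zero])
  rw [map_sum, map_zero, h2, proj_same F (iotaA_mem F hF m (p m))] at h1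
  exact iotaA_injective F hF m (h1.trans (map_zero _).symm)

open scoped Classical in
theorem Phi_surjective (hF : ∀ n, F.N (n + 1) = I • F.N n) : Function.Surjective (Phi F hF) := by
  intro y
  choose z hz using fun n =>
    AssocGr.inDegM_surjective F n (DirectSum.decompose (AssocGr.grM F) y n)
  refine ⟨∑ n ∈ (DirectSum.decompose (AssocGr.grM F) y).support,
    DirectSum.lof (A ⧸ I) ℕ (fun n => ↥(F.N n) ⧸ (I • ⊤ : Submodule A ↥(F.N n))) n
      (Submodule.Quotient.mk (z n)), ?_⟩
  rw [map_sum]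
  conv_rhs => rw [← DirectSum.sum_support_decompose (AssocGr.grM F) y]
  refine Finset.sum_congr rfl fun n _ => ?_
  rw [Phi_lof, ← hz n]
  rfl

theorem main (hF : ∀ n, F.N (n + 1) = I • F.N n) :
    (∀ n, Module.Flat (A ⧸ I) (↥(F.N n) ⧸ (I • ⊤ : Submodule A ↥(F.N n)))) ↔
      Module.Flat (A ⧸ I) (AssocGr.GrMod F) :=
  (Module.Flat.directSum_iff (R := A ⧸ I)
    (M := fun n => ↥(F.N n) ⧸ (I • ⊤ : Submodule A ↥(F.N n)))).symm.trans
    (Module.Flat.equiv_iff (LinearEquiv.ofBijective (Phi F hF)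
      ⟨Phi_injective F hF, Phi_surjective F hF⟩))

end

/-- For a commutative ring A, an ideal I of A and an A-module M, the following are equivalent: every
quotient IⁿM/Iⁿ⁺¹M (n ≥ 0) is a flat A/I-module; the associated graded module gr_I(M) = ⊕ₙ
IⁿM/Iⁿ⁺¹M, as one module over A/I, is flat. Either condition says that M is normally flat along I.
(The source defines normal flatness for a coherent module on a locally Noetherian scheme through the
second condition and notes it amounts to the first; the equivalence holds for every ring and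
module.) -/
theorem result (A : Type u) [CommRing A] (I : Ideal A) (M : Type u)
    [AddCommGroup M] [Module A M] :
    EGA4.IsNormallyFlat I M ↔ Module.Flat (A ⧸ I) (AssocGr.GrMod (Rees.powFilt I M)) := by
  unfold EGA4.IsNormallyFlat
  exact main (Rees.powFilt I M) (fun n => by
    show I ^ (n + 1) • (⊤ : Submodule A M) = I • (I ^ n • ⊤)
    rw [pow_succ', Submodule.mul_smul])

end Groth.Agent.S16455
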