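import Groth.Statements.S16456
import Mathlib
import Groth.Agent.Lib.Helper15.GrApprox

set_option autoImplicit false
universe u
open AdicGr

namespace Groth.Agent.S16456

/-- Let φ : A → B be a ring homomorphism, I ⊆ A and J ⊆ B ideals with φ(I)B ⊆ J, so that φ is a
homomorphism of filtered rings for the I-adic and J-adic filtrations. Assume that A is I-adically
complete in the sense that every I-adically Cauchy sequence has a limit, that B is J-adically
separated, and that the induced homomorphism of associated graded rings ⊕ₙ Iⁿ/Iⁿ⁺¹ → ⊕ₙ Jⁿ/Jⁿ⁺¹ is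
surjective. Then φ is surjective, φ is strict (Jⁿ = φ(Iⁿ)B for all n, that is J = φ(I)B), and B is
J-adically separated and complete. (The published statement is for a homomorphism of filtered
modules over a filtered ring, with arbitrary compatible filtrations; this row is its case of a ring
homomorphism with adic filtrations.) -/
theorem result (A : Type u) [CommRing A] (B : Type u)
    [CommRing B] (φ : A →+* B) (I : Ideal A) (J : Ideal B) (hIJ : I.map φ ≤ J)
    [IsPrecomplete I A] [IsHausdorff J B]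
    (h : Function.Surjective (AssocGr.map (AssocGr.IsFiltHom.adic hIJ))) :
    Function.Surjective φ ∧ I.map φ = J ∧ IsAdicComplete J B := by
  have hF := AssocGr.IsFiltHom.adic hIJ
  have step : ∀ (n : ℕ) (b : B), b ∈ J ^ n → ∃ a ∈ I ^ n, b - φ a ∈ J ^ (n + 1) := by
    intro n b hb
    obtain ⟨g, hg⟩ := h (AssocGr.inDeg (FiltBl.IdealFiltration.adic J) n ⟨b, hb⟩ :
      AssocGr.GrRing (FiltBl.IdealFiltration.adic J))
    obtain ⟨f, rfl⟩ := AssocGr.mkG_surjective (FiltBl.IdealFiltration.adic I) g
    rw [AssocGr.map_mkG, AssocGr.coe_inDeg, ← sub_eq_zero, ← map_sub,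
      AssocGr.mkG_eq_zero_iff] at hg
    have h3 := (AssocGr.mem_succIdeal_iff _ _).mp hg n
    rw [Subalgebra.coe_sub, Polynomial.coeff_sub, AssocGr.coe_reesMap, Polynomial.coeff_map,
      AssocGr.coe_coe_monom, Polynomial.coeff_monomial, if_pos rfl] at h3
    refine ⟨(f : Polynomial A).coeff n, f.2 n, ?_⟩
    rw [← neg_sub]
    exact neg_mem h3
  have main : ∀ (n₀ : ℕ) (b : B), b ∈ J ^ n₀ → ∃ L ∈ I ^ n₀, φ L = b := by
    intro n₀ b hb
    choose! a ha1 ha2 using step
    obtain ⟨s, hs0, hsS⟩ : ∃ s : ℕ → A, s 0 = 0 ∧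
        ∀ j, s (j + 1) = s j + a (n₀ + j) (b - φ (s j)) :=
      ⟨fun j => Nat.rec 0 (fun j sj => sj + a (n₀ + j) (b - φ sj)) j, rfl, fun j => rfl⟩
    have hmem : ∀ j, b - φ (s j) ∈ J ^ (n₀ + j) := by
      intro j
      induction j with
      | zero => rw [hs0, map_zero, sub_zero]; exact hb
      | succ j ih =>
        have := ha2 (n₀ + j) _ ih
        rw [hsS j, map_add, ← sub_sub]
        exact this
    have hdiff : ∀ j, s (j + 1) - s j ∈ I ^ (n₀ + j) := by
      intro j
      rw [hsS j, add_sub_cancel_left]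
      exact ha1 (n₀ + j) _ (hmem j)
    have hsn : ∀ j, s j ∈ I ^ n₀ := by
      intro j
      induction j with
      | zero => rw [hs0]; exact Ideal.zero_mem _
      | succ j ih =>
        have h1 := hdiff j
        rw [← sub_add_cancel (s (j + 1)) (s j)]
        exact Ideal.add_mem _ (Ideal.pow_le_pow_right (Nat.le_add_right _ _) h1) ih
    obtain ⟨L, hL⟩ := Groth.Agent.Lib.Helper15.GrApprox.exists_limit I s 0 0 le_rfl (fun j => by
      rw [Nat.sub_zero]; exact Ideal.pow_le_pow_right (Nat.le_add_left j n₀) (hdiff j))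
    have hL' : ∀ n, s n - L ∈ I ^ n := fun n => hL n
    refine ⟨L, ?_, ?_⟩
    · rw [← sub_sub_cancel (s n₀) L]
      exact Ideal.sub_mem _ (hsn _) (hL' n₀)
    · symm
      rw [← sub_eq_zero]
      refine IsHausdorff.haus ‹IsHausdorff J B› _ fun n => ?_
      rw [SModEq.zero, smul_eq_mul, Ideal.mul_top]
      have e : b - φ L = (b - φ (s n)) + φ (s n - L) := by rw [map_sub]; ring
      rw [e]
      exact Ideal.add_mem _ (Ideal.pow_le_pow_right (Nat.le_add_left n n₀) (hmem n))
        (hF.apply_mem (hL' n))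
  have htop : ∀ b : B, b ∈ J ^ 0 := fun b => by rw [pow_zero, Ideal.one_eq_top]; trivial
  refine ⟨fun b => ?_, le_antisymm hIJ fun b hb => ?_, ?_⟩
  · obtain ⟨L, _, hL⟩ := main 0 b (htop b)
    exact ⟨L, hL⟩
  · obtain ⟨L, hLI, rfl⟩ := main 1 b (by rwa [pow_one])
    rw [pow_one] at hLI
    exact Ideal.mem_map_of_mem φ hLI
  · have hprec : IsPrecomplete J B := by
      refine ⟨fun f hf => ?_⟩
      have hd : ∀ j, f (j + 1) - f j ∈ J ^ j := fun j => by
        have := (hf (Nat.le_add_right j 1)).symm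
        rwa [Groth.Agent.Lib.Helper15.GrApprox.smodEq_pow_iff] at this
      choose a ha1 ha2 using fun j => main j _ (hd j)
      obtain ⟨a0, -, ha0⟩ := main 0 (f 0) (htop _)
      obtain ⟨s, hs0, hsS⟩ : ∃ s : ℕ → A, s 0 = a0 ∧ ∀ j, s (j + 1) = s j + a j :=
        ⟨fun j => Nat.rec a0 (fun j sj => sj + a j) j, rfl, fun j => rfl⟩
      have hφs : ∀ j, φ (s j) = f j := by
        intro j
        induction j with
        | zero => rw [hs0]; exact ha0
        | succ j ih => rw [hsS j, map_add, ih, ha2 j]; ring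
      obtain ⟨L, hL⟩ := Groth.Agent.Lib.Helper15.GrApprox.exists_limit I s 0 0 le_rfl (fun j => by
        rw [Nat.sub_zero, hsS j, add_sub_cancel_left]; exact ha1 j)
      have hL' : ∀ n, s n - L ∈ I ^ n := fun n => hL n
      refine ⟨φ L, fun n => ?_⟩
      rw [Groth.Agent.Lib.Helper15.GrApprox.smodEq_pow_iff, ← hφs n, ← map_sub]
      exact hF.apply_mem (hL' n)
    exact { toIsHausdorff := inferInstance, toIsPrecomplete := hprec }

end Groth.Agent.S16456
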