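import Groth.Statements.S1646
import Mathlib
import Groth.Agent.Lib.Helper17.FlatBC
import Groth.Agent.Lib.Helper17.PbZero
import Groth.Agent.Lib.Helper3.AmpleMisc
import Groth.Agent.Lib.Helper3.FreeSec
import Groth.Agent.Lib.Helper3.GlobGen

set_option autoImplicit false
universe u
open CategoryTheory CategoryTheory.Limits AlgebraicGeometry
open Variety

namespace Groth.Agent.S1646

open AlgebraicGeometry CategoryTheory.Limits TopologicalSpace Opposite in
open Groth.Agent.Lib.Helper3 Groth.Agent.Lib.Helper3.QCSec Groth.Agent.Lib.Helper3.PbBasic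
  Groth.Agent.Lib.Helper17.UnitBC in
theorem aux {X S S' : Scheme.{u}} [IsAffine S] [IsAffine S'] (f : X ⟶ S) (g : S' ⟶ S)
    [QuasiCompact f] [QuasiSeparated f] [Flat g] [Surjective g] (F : X.Modules)
    [F.IsQuasicoherent]
    (hgg : Curv2.IsGloballyGenerated ((Scheme.Modules.pullback (pullback.fst f g)).obj F)) :
    Curv2.IsGloballyGenerated F := by
  have hc : IsPullback (pullback.fst f g) (pullback.snd f g) f g := IsPullback.of_hasPullback f g
  set g' := pullback.fst f g with hg'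
  set f' := pullback.snd f g with hf'
  let φ : QCExtend.freeMod X Γ(F, ⊤) ⟶ F := GlobGen.freeHom F (fun s : Γ(F, ⊤) => s)
  haveI : (QCExtend.freeMod X Γ(F, ⊤)).IsQuasicoherent := QCExtend.isQuasicoherent_freeMod _ _
  set ψ := (Scheme.Modules.pullback g').map φ with hψ
  have hV'V : (⊤ : S'.Opens) ≤ g ⁻¹ᵁ ⊤ := fun _ _ => trivial
  let T : (pullback f g).Opens := up g' f' ⊤ (f ⁻¹ᵁ ⊤)
  have hT : ∀ W : (pullback f g).Opens, W ≤ T := fun W x _ => ⟨trivial, trivial⟩
  -- images of pulled back sections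
  have h_i : ∀ τ : Γ(F, f ⁻¹ᵁ ⊤), ∃ t, ψ.app T t = unitSec g' F (f ⁻¹ᵁ ⊤) T inf_le_left τ := by
    intro τ
    have htop : (⊤ : X.Opens) ≤ f ⁻¹ᵁ ⊤ := fun _ _ => trivial
    let τ₀ : Γ(F, ⊤) := res F htop τ
    have h1 : φ.app (f ⁻¹ᵁ ⊤) (FreeSec.fs Γ(F, ⊤) τ₀ (f ⁻¹ᵁ ⊤)) = τ := by
      have := GlobGen.freeHom_app_freeSection F (fun s : Γ(F, ⊤) => s) τ₀ (f ⁻¹ᵁ ⊤)
      refine this.trans ?_
      rw [res_res]
      exact res_self F _ τ
    refine ⟨unitSec g' (QCExtend.freeMod X Γ(F, ⊤)) (f ⁻¹ᵁ ⊤) T inf_le_left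
      (FreeSec.fs Γ(F, ⊤) τ₀ (f ⁻¹ᵁ ⊤)), ?_⟩
    rw [hψ, unitSec_app, h1]
  -- all sections over T are in the image
  have h_ii : ∀ σ' : Γ((Scheme.Modules.pullback g').obj F, T), ∃ t, ψ.app T t = σ' := by
    have hbc := isBCHom_cmp_of_qcqs hc F hV'V (isAffineOpen_top S) (isAffineOpen_top S')
      (le_refl (f ⁻¹ᵁ ⊤)) (f.isCompact_preimage (isAffineOpen_top S).isCompact)
      (f.isQuasiSeparated_preimage (isAffineOpen_top S).isQuasiSeparated)
    intro σ'
    refine IsBCHom.induction hbc (fun n => ∃ t, ψ.app T t = n) ⟨0, map_zero _⟩ (fun m => h_i m)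
      ?_ ?_ σ'
    · rintro s n ⟨t, ht⟩
      refine ⟨(f'.appLE ⊤ T inf_le_right).hom s • t, ?_⟩
      rw [Scheme.Modules.Hom.app_smul, ht]
      rfl
    · rintro n₁ n₂ ⟨t₁, h₁⟩ ⟨t₂, h₂⟩
      exact ⟨t₁ + t₂, by rw [map_add, h₁, h₂]; rfl⟩
  haveI hψepi : Epi ψ := by
    obtain ⟨J, σ', hσ'⟩ := FreeSec.exists_isLocSpannedBy_of_isGloballyGenerated hgg
    apply QCExact.epi_of_locally_surjective
    intro W' s' x' hx'
    obtain ⟨W'', hW'', hxW'', hspan⟩ := hσ' W' s' x' hx'
    refine ⟨W'', hW'', hxW'', ?_⟩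
    have hle : Submodule.span Γ(pullback f g, W'')
        (Set.range (fun j => res ((Scheme.Modules.pullback g').obj F) (le_top : W'' ≤ ⊤) (σ' j))) ≤
        LinearMap.range (GlobGen.appLin ψ W'') := by
      rw [Submodule.span_le]
      rintro _ ⟨j, rfl⟩
      obtain ⟨t, ht⟩ := h_ii (res _ (le_top : T ≤ ⊤) (σ' j))
      refine ⟨res _ (hT W'') t, ?_⟩
      change ψ.app W'' _ = _
      rw [QCExact.app_res', ht, res_res]
    obtain ⟨t, ht⟩ := hle hspan
    exact ⟨t, ht⟩
  have hepi : Epi φ := by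
    haveI : ∀ k : Unit, Flat ((fun _ : Unit => g') k) := fun _ => by
      rw [hg']; infer_instance
    refine Groth.Agent.Lib.Helper17.PbZero.epi_of_epi_pullback_family (κ := Unit)
      (Z := fun _ => pullback f g) (fun _ => g') (fun x => ⟨(), ?_⟩) φ (fun _ => hψepi)
    haveI : Surjective g' := by rw [hg']; infer_instance
    exact g'.surjective x
  exact ⟨Γ(F, ⊤), φ, hepi⟩

/-- Let A → A' be a faithfully flat ring map, f : X → Spec A a quasi-compact and quasi-separated
morphism, and F a quasi-coherent O_X-module. F is generated by its global sections exactly when its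
pullback to X ×_{Spec A} Spec A' is generated by its global sections. (Quasi-compactness and
quasi-separatedness of f are assumed here on top of the published hypotheses.) -/
theorem result (A A' : Type u) [CommRing A] [CommRing A'] [Algebra A A']
    [Module.FaithfullyFlat A A'] (X : Scheme.{u}) (f : X ⟶ Spec (CommRingCat.of A)) [QuasiCompact f] [QuasiSeparated f]
    (F : X.Modules) (hF : Coh.IsQCoh F) :
    Curv2.IsGloballyGenerated F ↔ Curv2.IsGloballyGenerated
      ((Scheme.Modules.pullback (pullback.fst f (Spec.map (CommRingCat.ofHom (algebraMap A A'))))).obj F) := by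
  haveI : F.IsQuasicoherent := hF
  constructor
  · intro h
    exact Groth.Agent.Lib.Helper3.AmpleMisc.isGloballyGenerated_pullback _ h
  · intro hgg
    have hff : (CommRingCat.ofHom (algebraMap A A')).hom.FaithfullyFlat :=
      RingHom.faithfullyFlat_algebraMap_iff.mpr inferInstance
    obtain ⟨hfl, hsj⟩ := (flat_and_surjective_SpecMap_iff (CommRingCat.ofHom (algebraMap A A'))).mpr hff
    exact Groth.Agent.S1646.aux f (Spec.map (CommRingCat.ofHom (algebraMap A A'))) F hgg

end Groth.Agent.S1646
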