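import Groth.Statements.S16460
import Mathlib

set_option autoImplicit false
universe u
open AdicGr

namespace Groth.Agent.S16460

/-- Let A be a commutative ring with a decreasing filtration by ideals A = F₀ ⊇ F₁ ⊇ F₂ ⊇ … satisfying
F_m·F_n ⊆ F_{m+n}, and assume the filtration is separated, ⋂ₙ Fₙ = 0. If the associated graded ring
⊕ₙ Fₙ/Fₙ₊₁ is an integral domain, then A is an integral domain. -/
theorem result (A : Type u) [CommRing A]
    (𝓕 : FiltBl.IdealFiltration A) (hsep : ⨅ n, 𝓕.F n = ⊥) [IsDomain (AssocGr.GrRing 𝓕)] :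
    IsDomain A := by
  have hlev : ∀ a : A, a ≠ 0 → ∃ m, a ∈ 𝓕.F m ∧ a ∉ 𝓕.F (m + 1) := by
    intro a ha
    have hex : ∃ n, a ∉ 𝓕.F n := by
      by_contra hcon
      push_neg at hcon
      have h1 : a ∈ ⨅ n, 𝓕.F n := (Submodule.mem_iInf _).2 hcon
      rw [hsep] at h1
      exact ha ((Submodule.mem_bot A).1 h1)
    classical
    have hn : a ∉ 𝓕.F (Nat.find hex) := Nat.find_spec hex
    have hn0 : Nat.find hex ≠ 0 := by
      intro h0
      apply hn
      rw [h0, 𝓕.zero_eq]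
      trivial
    obtain ⟨m, hm⟩ := Nat.exists_eq_succ_of_ne_zero hn0
    refine ⟨m, ?_, ?_⟩
    · by_contra hcon
      exact (Nat.find_min hex (m := m) (by omega)) hcon
    · rw [← Nat.succ_eq_add_one, ← hm]
      exact hn
  have hnt : Nontrivial A :=
    nontrivial_of_ne (0 : A) 1 (fun h => zero_ne_one (α := AssocGr.GrRing 𝓕)
      (by rw [← map_zero (algebraMap A (AssocGr.GrRing 𝓕)), h, map_one]))
  have hnzd : NoZeroDivisors A := by
    constructor
    intro a b hab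
    by_contra hcon
    push_neg at hcon
    obtain ⟨m, ham, ham'⟩ := hlev a hcon.1
    obtain ⟨n, hbn, hbn'⟩ := hlev b hcon.2
    have h1 : (AssocGr.inDeg 𝓕 m ⟨a, ham⟩ : AssocGr.GrRing 𝓕) ≠ 0 := fun h =>
      ham' ((AssocGr.inDeg_eq_zero_iff 𝓕 m _).1 (Subtype.ext h))
    have h2 : (AssocGr.inDeg 𝓕 n ⟨b, hbn⟩ : AssocGr.GrRing 𝓕) ≠ 0 := fun h =>
      hbn' ((AssocGr.inDeg_eq_zero_iff 𝓕 n _).1 (Subtype.ext h))
    have h3 := mul_ne_zero h1 h2
    rw [AssocGr.coe_inDeg_mul] at h3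
    apply h3
    rw [(AssocGr.inDeg_eq_zero_iff 𝓕 (m + n) _).2
      (show (a * b) ∈ 𝓕.F (m + n + 1) by rw [hab]; exact Ideal.zero_mem _)]
    rfl
  exact @NoZeroDivisors.to_isDomain A _ hnt hnzd

end Groth.Agent.S16460
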