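import Groth.Statements.S16468
import Mathlib
import Groth.Agent.Lib.Helper17.NoriSSC

set_option autoImplicit false
universe u
open CategoryTheory CategoryTheory.Limits AlgebraicGeometry
open VBCurve

namespace Groth.Agent.S16468

open Groth.Agent.Lib.Helper17.NoriSSA Groth.Agent.Lib.Helper17.NoriSSB
  Groth.Agent.Lib.Helper17.NoriSSC Groth.Agent.Lib.Helper17.WeilFinD
  Groth.Agent.Lib.Helper17.WeilFinE Groth.Agent.Lib.Helper23.Curve Groth.Agent.Lib.Helper23.T2

theorem no_bound {f C : ℤ} (hf : 0 < f) (h : ∀ n : ℕ, (n : ℤ) * f ≤ C) : False := by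
  have h1 := h (C.toNat + 1)
  have h2 : C ≤ C.toNat := Int.self_le_toNat C
  push_cast at h1
  nlinarith

/-- Let X be a smooth proper integral curve (integral, smooth and proper of dimension one) over an
algebraically closed field k and E a finite locally free O_X-module of rank r ≥ 1 which is finite in
the sense of Weil: there are two distinct polynomials P ≠ Q with natural-number coefficients such
that P(E) ≅ Q(E), where P(E) denotes the direct sum over i of P_i copies of the i-th tensor power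
E^{⊗ i} (E^{⊗ 0} = O_X). Then E is slope-semistable of slope 0: deg E = 0 (degree = χ −
rank·χ(O_X)), and deg F · r ≤ deg E · r', that is deg F ≤ 0, for every finite locally free submodule
F ⊂ E (a monomorphism of O_X-modules) of rank r' ≥ 1. -/
theorem result (k : Type u) [Field k] [IsAlgClosed k] (X : Scheme.{u}) [X.Over (Spec (CommRingCat.of k))]
    [IsIntegral X] [IsProper (X ↘ Spec (CommRingCat.of k))] [Smooth (X ↘ Spec (CommRingCat.of k))]
    (hdim : topologicalKrullDim X = 1)
    (r : ℕ) (hr : 0 < r) (E : X.Modules) (hE : FlatMod.IsFinLocFreeOfRank r E)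
    (P Q : Polynomial ℕ) (hPQ : P ≠ Q)
    (hfin : Nonempty ((∐ fun i : Fin (P.natDegree + 1) => ∐ fun _ : Fin (P.coeff ↑i) => CohB1.tensorPow E ↑i) ≅
      (∐ fun i : Fin (Q.natDegree + 1) => ∐ fun _ : Fin (Q.coeff ↑i) => CohB1.tensorPow E ↑i))) :
    Curv2.deg k X E r = 0 ∧
      ∀ (F : X.Modules) (r' : ℕ) (i : F ⟶ E), Mono i → 0 < r' → FlatMod.IsFinLocFreeOfRank r' F →
        Curv2.deg k X F r' * (r : ℤ) ≤ Curv2.deg k X E r * (r' : ℤ) := by
  classical
  have hdim' : topologicalKrullDim X ≤ 1 := hdim.le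
  haveI := isLocallyNoetherian_of_proper (X := X) k
  have hcE : Coh.IsCoh E := isCoh_of_isFinLocFreeOfRank hE
  obtain ⟨e⟩ := hfin
  obtain ⟨T, hT⟩ := finite_support_of_weilFinite k hcE P Q hPQ e
  obtain ⟨D, hD⟩ := exists_bd_tensorPow k hdim' hcE T hT
  have hrZ : (0 : ℤ) < (r : ℤ) := by exact_mod_cast hr
  -- part 1: the degree vanishes
  have hdeg0 : Curv2.deg k X E r = 0 := by
    by_contra hne
    have hpos : 0 < |Curv2.deg k X E r| := abs_pos.mpr hne
    refine no_bound hpos (C := D * r) (fun n => ?_)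
    have h1 := ((hD n).2 (r ^ n) (isFinLocFreeOfRank_tensorPow hE n)).1
    have h2 := deg_tensorPow k hdim' hE n
    have hR : (0 : ℤ) < (r : ℤ) ^ n := pow_pos hrZ n
    have h3 : |Curv2.deg k X (CohB1.tensorPow E n) (r ^ n)| * (r : ℤ) =
        (n : ℤ) * (r : ℤ) ^ n * |Curv2.deg k X E r| := by
      have := congrArg abs h2
      rw [abs_mul, abs_mul, abs_mul, abs_of_nonneg hrZ.le, abs_of_nonneg hR.le,
        abs_of_nonneg (Int.natCast_nonneg n)] at this
      exact this
    push_cast at h1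
    have h4 : (r : ℤ) ^ n * ((n : ℤ) * |Curv2.deg k X E r|) ≤ (r : ℤ) ^ n * (D * r) := by
      nlinarith
    exact le_of_mul_le_mul_left h4 hR
  refine ⟨hdeg0, fun F r' i hmono hr' hF => ?_⟩
  rw [hdeg0, zero_mul]
  have hr'Z : (0 : ℤ) < (r' : ℤ) := by exact_mod_cast hr'
  suffices h : Curv2.deg k X F r' ≤ 0 by nlinarith
  by_contra hne
  have hpos : 0 < Curv2.deg k X F r' := not_le.mp hne
  haveI := hmono
  refine no_bound hpos (C := D * r') (fun n => ?_)
  have hmn : Mono (pmap i n) := mono_pmap hF hE i n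
  have h1 := ((hD n).2 (r ^ n) (isFinLocFreeOfRank_tensorPow hE n)).2
    (CohB1.tensorPow F n) (r' ^ n) (pmap i n) hmn (pow_pos hr' n)
    (isFinLocFreeOfRank_tensorPow hF n)
  have h2 := deg_tensorPow k hdim' hF n
  have hR : (0 : ℤ) < (r' : ℤ) ^ n := pow_pos hr'Z n
  push_cast at h1
  have h4 : (r' : ℤ) ^ n * ((n : ℤ) * Curv2.deg k X F r') ≤ (r' : ℤ) ^ n * (D * r') := by
    nlinarith
  exact le_of_mul_le_mul_left h4 hR

end Groth.Agent.S16468
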