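import Groth.Statements.S16469
-- import your own Groth.Agent.* helpers here
import Groth.Agent.Lib.Helper23.Sat

set_option autoImplicit false
universe u
open CategoryTheory CategoryTheory.Limits AlgebraicGeometry
open VBCurve

namespace Groth.Agent.S16469

private lemma cancel_r {x y r : ℤ} (hr : 0 < r) (h : x * r ≤ y * r) : x ≤ y :=
  le_of_mul_le_mul_right h hr

/-- Let X be a smooth proper integral curve (integral, smooth and proper of dimension one) over an
algebraically closed field k, and let E, F be finite locally free O_X-modules of ranks r ≥ 1, s ≥ 1,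
both slope-semistable (deg G · rank ≤ deg · rank G on finite locally free submodules G of positive
rank; degree = χ − rank·χ(O_X)) and of the same slope μ: deg E · s = deg F · r. Then for every
homomorphism f : E → F the kernel and the cokernel of f, taken in the abelian category of
O_X-modules, are finite locally free of some ranks r₀ and s₀, have slope μ when nonzero (deg(ker f)
· r = deg E · r₀ and deg(coker f) · s = deg F · s₀) and are slope-semistable: deg G · r₀ ≤ deg(ker
f) · n for every finite locally free submodule G ⊂ ker f of rank n ≥ 1, and likewise for coker f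
with s₀. In other words the semistable bundles of slope μ form an abelian subcategory, and the image
of f is a sub-bundle of F. -/
theorem result (k : Type u) [Field k] [IsAlgClosed k] (X : Scheme.{u}) [X.Over (Spec (CommRingCat.of k))]
    [IsIntegral X] [IsProper (X ↘ Spec (CommRingCat.of k))] [Smooth (X ↘ Spec (CommRingCat.of k))]
    (hdim : topologicalKrullDim X = 1)
    (r s : ℕ) (hr : 0 < r) (hs : 0 < s) (E F : X.Modules)
    (hE : FlatMod.IsFinLocFreeOfRank r E) (hF : FlatMod.IsFinLocFreeOfRank s F)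
    (hEss : ModFun.IsSlopeSemistable k X E r) (hFss : ModFun.IsSlopeSemistable k X F s)
    (hμ : Curv2.deg k X E r * (s : ℤ) = Curv2.deg k X F s * (r : ℤ)) (f : E ⟶ F) :
    (∃ r₀ : ℕ, FlatMod.IsFinLocFreeOfRank r₀ (kernel f) ∧
        Curv2.deg k X (kernel f) r₀ * (r : ℤ) = Curv2.deg k X E r * (r₀ : ℤ) ∧
        ∀ (G : X.Modules) (n : ℕ) (j : G ⟶ kernel f), Mono j → 0 < n → FlatMod.IsFinLocFreeOfRank n G →
          Curv2.deg k X G n * (r₀ : ℤ) ≤ Curv2.deg k X (kernel f) r₀ * (n : ℤ)) ∧
      (∃ s₀ : ℕ, FlatMod.IsFinLocFreeOfRank s₀ (cokernel f) ∧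
        Curv2.deg k X (cokernel f) s₀ * (s : ℤ) = Curv2.deg k X F s * (s₀ : ℤ) ∧
        ∀ (G : X.Modules) (n : ℕ) (j : G ⟶ cokernel f), Mono j → 0 < n → FlatMod.IsFinLocFreeOfRank n G →
          Curv2.deg k X G n * (s₀ : ℤ) ≤ Curv2.deg k X (cokernel f) s₀ * (n : ℤ)) := by
  classical
  haveI : Nonempty X := inferInstance
  have hrZ : (0 : ℤ) < (r : ℤ) := by exact_mod_cast hr
  have hsZ : (0 : ℤ) < (s : ℤ) := by exact_mod_cast hs
  obtain ⟨a, b, hK, hI, hab, hdeg, hb0, ha0, _, hbs⟩ :=
    Groth.Agent.Lib.Helper23.VBMaps.map_analysis k hdim.le hE hF f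
  haveI : Mono (Abelian.factorThruCoimage f) := inferInstance
  have habZ : (r : ℤ) = (a : ℤ) + (b : ℤ) := by exact_mod_cast hab
  -- notation
  set DE := Curv2.deg k X E r with hDE
  set DF := Curv2.deg k X F s with hDF
  set dK := Curv2.deg k X (kernel f) a with hdK
  set dI := Curv2.deg k X (Abelian.coimage f) b with hdI
  -- (1)
  have h1 : dK * (r : ℤ) ≤ DE * (a : ℤ) := by
    rcases Nat.eq_zero_or_pos a with ha | ha
    · have hz : dK = 0 := (ha0 ha).2
      have ha' : (a : ℤ) = 0 := by exact_mod_cast ha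
      show dK * (r : ℤ) ≤ DE * (a : ℤ)
      rw [hz, ha']; simp
    · exact hEss _ a (kernel.ι f) inferInstance ha hK
  -- (2)
  have h2 : dI * (s : ℤ) ≤ DF * (b : ℤ) := by
    rcases Nat.eq_zero_or_pos b with hb | hb
    · have hz : dI = 0 := by
        rw [hdI]
        subst hb
        exact Groth.Agent.Lib.Helper23.VBMaps.deg_zero_of_isZero k
          (Groth.Agent.Lib.Helper23.StableEnd.isZero_of_rank_zero hI)
      have hb' : (b : ℤ) = 0 := by exact_mod_cast hb
      show dI * (s : ℤ) ≤ DF * (b : ℤ)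
      rw [hz, hb']; simp
    · exact hFss _ b (Abelian.factorThruCoimage f) inferInstance hb hI
  -- dI * r ≤ DE * b
  have h3 : dI * (r : ℤ) ≤ DE * (b : ℤ) := by
    apply cancel_r hsZ
    calc dI * (r : ℤ) * (s : ℤ) = dI * (s : ℤ) * (r : ℤ) := by ring
      _ ≤ DF * (b : ℤ) * (r : ℤ) := mul_le_mul_of_nonneg_right h2 hrZ.le
      _ = DF * (r : ℤ) * (b : ℤ) := by ring
      _ = DE * (s : ℤ) * (b : ℤ) := by rw [hμ]
      _ = DE * (b : ℤ) * (s : ℤ) := by ring
  have hsum : (dK + dI) * (r : ℤ) = DE * ((a : ℤ) + (b : ℤ)) := by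
    rw [← hdeg, habZ]
  have e1 : dK * (r : ℤ) = DE * (a : ℤ) := by
    have : dK * (r : ℤ) + dI * (r : ℤ) = DE * (a : ℤ) + DE * (b : ℤ) := by
      rw [← add_mul, ← mul_add]; exact hsum
    linarith
  have e2 : dI * (r : ℤ) = DE * (b : ℤ) := by
    have : dK * (r : ℤ) + dI * (r : ℤ) = DE * (a : ℤ) + DE * (b : ℤ) := by
      rw [← add_mul, ← mul_add]; exact hsum
    linarith
  have e3 : dI * (s : ℤ) = DF * (b : ℤ) := by
    have : dI * (s : ℤ) * (r : ℤ) = DF * (b : ℤ) * (r : ℤ) := by
      calc dI * (s : ℤ) * (r : ℤ) = dI * (r : ℤ) * (s : ℤ) := by ring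
        _ = DE * (b : ℤ) * (s : ℤ) := by rw [e2]
        _ = DE * (s : ℤ) * (b : ℤ) := by ring
        _ = DF * (r : ℤ) * (b : ℤ) := by rw [hμ]
        _ = DF * (b : ℤ) * (r : ℤ) := by ring
    exact mul_right_cancel₀ hrZ.ne' this
  constructor
  · -- the kernel
    refine ⟨a, hK, e1, ?_⟩
    intro G n j hj hn hG
    haveI := hj
    have h := hEss G n (j ≫ kernel.ι f) (mono_comp _ _) hn hG
    apply cancel_r hrZ
    calc Curv2.deg k X G n * (a : ℤ) * (r : ℤ) = Curv2.deg k X G n * (r : ℤ) * (a : ℤ) := by ring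
      _ ≤ DE * (n : ℤ) * (a : ℤ) := mul_le_mul_of_nonneg_right h (Int.natCast_nonneg a)
      _ = DE * (a : ℤ) * (n : ℤ) := by ring
      _ = dK * (r : ℤ) * (n : ℤ) := by rw [e1]
      _ = dK * (n : ℤ) * (r : ℤ) := by ring
  · -- the cokernel
    obtain ⟨I', C', i', p, w, u, c, hS, hu, hI', hC', hrk, hdle, hdeg', hiso⟩ :=
      Groth.Agent.Lib.Helper23.Sat.exists_saturation k hdim.le hI hF (Abelian.factorThruCoimage f)
    haveI : Mono i' := hS.mono_f
    haveI : Epi p := hS.epi_g
    have hrkZ : (s : ℤ) = (b : ℤ) + (c : ℤ) := by exact_mod_cast hrk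
    set dI' := Curv2.deg k X I' b with hdI'
    set dC' := Curv2.deg k X C' c with hdC'
    have h4 : dI' * (s : ℤ) ≤ DF * (b : ℤ) := by
      rcases Nat.eq_zero_or_pos b with hb | hb
      · have hz : dI' = 0 := by
          rw [hdI']
          subst hb
          exact Groth.Agent.Lib.Helper23.VBMaps.deg_zero_of_isZero k
            (Groth.Agent.Lib.Helper23.StableEnd.isZero_of_rank_zero hI')
        have hb' : (b : ℤ) = 0 := by exact_mod_cast hb
        show dI' * (s : ℤ) ≤ DF * (b : ℤ)
        rw [hz, hb']; simp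
      · exact hFss _ b i' inferInstance hb hI'
    have h5 : dI' ≤ dI := by
      apply cancel_r hsZ
      rw [e3]; exact h4
    have h6 : dI = dI' := le_antisymm hdle h5
    haveI : IsIso u := hiso h6
    -- `C'` is a cokernel of `f`
    have hfp : f ≫ p = 0 := by
      rw [← Abelian.coimage.fac f, Category.assoc, ← hu, Category.assoc, w, comp_zero, comp_zero]
    have hS' : (ShortComplex.mk i' p w).Exact := hS.exact
    have hig : ∀ {Z : X.Modules} (g : F ⟶ Z), f ≫ g = 0 → i' ≫ g = 0 := by
      intro Z g hg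
      have h7 : Abelian.factorThruCoimage f ≫ g = 0 := by
        have : Abelian.coimage.π f ≫ Abelian.factorThruCoimage f ≫ g = Abelian.coimage.π f ≫ 0 := by
          rw [← Category.assoc, Abelian.coimage.fac, hg, comp_zero]
        exact (cancel_epi _).1 this
      have : u ≫ i' ≫ g = u ≫ 0 := by
        rw [← Category.assoc, hu, h7, comp_zero]
      exact (cancel_epi u).1 this
    have hcolim : IsColimit (CokernelCofork.ofπ p hfp) := by
      refine CokernelCofork.IsColimit.ofπ _ _
        (fun {Z} g hg => hS'.desc g (hig g hg)) ?_ ?_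
      · intro Z g hg
        exact ShortComplex.Exact.g_desc hS' g (hig g hg)
      · intro Z g hg m hm
        rw [← cancel_epi p]
        have h8 : p ≫ hS'.desc g (hig g hg) = g := ShortComplex.Exact.g_desc hS' g (hig g hg)
        rw [hm]
        exact h8.symm
    let e : cokernel f ≅ C' :=
      IsColimit.coconePointUniqueUpToIso (colimit.isColimit _) hcolim
    have hCk : FlatMod.IsFinLocFreeOfRank c (cokernel f) :=
      Groth.Agent.Lib.Helper23.Sat.isFinLocFreeOfRank_of_iso e.symm hC'
    have hdCk : Curv2.deg k X (cokernel f) c = dC' :=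
      Groth.Agent.Lib.Helper23.Sat.deg_eq_of_iso k hdim.le e hCk
    have e4 : dC' * (s : ℤ) = DF * (c : ℤ) := by
      have h8 : dC' = DF - dI' := by rw [hdC', hdI', hDF]; linarith
      rw [h8, ← h6, sub_mul, e3, hrkZ]; ring
    refine ⟨c, hCk, by rw [hdCk]; exact e4, ?_⟩
    intro G n j hj hn hG
    haveI := hj
    haveI : Mono (j ≫ e.hom) := mono_comp _ _
    obtain ⟨P, ι, hι, hP, hdegP⟩ := Groth.Agent.Lib.Helper23.HN.preimage_data k hdim.le
      (ShortComplex.mk i' p w) hS hI' hF
      (Groth.Agent.Lib.Helper23.Curve.isCoh_of_isFinLocFreeOfRank hC') hG (j ≫ e.hom)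
    have h9 := hFss P (b + n) ι hι (by omega) hP
    rw [hdegP] at h9
    push_cast at h9
    have h10 : Curv2.deg k X G n * (s : ℤ) ≤ DF * (n : ℤ) := by
      have h11 : (Curv2.deg k X I' b + Curv2.deg k X G n) * (s : ℤ) =
          dI' * (s : ℤ) + Curv2.deg k X G n * (s : ℤ) := by rw [add_mul]
      have h12 : dI' * (s : ℤ) = DF * (b : ℤ) := by rw [← h6]; exact e3
      rw [h11, h12] at h9
      linarith
    rw [hdCk]
    apply cancel_r hsZ
    calc Curv2.deg k X G n * (c : ℤ) * (s : ℤ) = Curv2.deg k X G n * (s : ℤ) * (c : ℤ) := by ring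
      _ ≤ DF * (n : ℤ) * (c : ℤ) := mul_le_mul_of_nonneg_right h10 (Int.natCast_nonneg c)
      _ = DF * (c : ℤ) * (n : ℤ) := by ring
      _ = dC' * (s : ℤ) * (n : ℤ) := by rw [e4]
      _ = dC' * (n : ℤ) * (s : ℤ) := by ring

end Groth.Agent.S16469
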