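import Groth.Statements.S16470
-- import your own Groth.Agent.* helpers here
import Groth.Agent.Lib.Helper23.Sat

set_option autoImplicit false
universe u
open CategoryTheory CategoryTheory.Limits AlgebraicGeometry
open VBCurve

namespace Groth.Agent.S16470

/-- if `E₁` has maximal slope and the slopes drop in `E/E₁`, every subsheaf of maximal slope
factors through `E₁`. -/
private lemma factor (k : Type u) [Field k] [IsAlgClosed k] (X : Scheme.{u})
    [X.Over (Spec (CommRingCat.of k))]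
    [IsIntegral X] [IsProper (X ↘ Spec (CommRingCat.of k))] [Smooth (X ↘ Spec (CommRingCat.of k))]
    (hdim : topologicalKrullDim X = 1) (r : ℕ) (E : X.Modules)
    (hE : FlatMod.IsFinLocFreeOfRank r E)
    (E₁ E₁' : X.Modules) (r₁ r₁' : ℕ) (i₁ : E₁ ⟶ E) (i₁' : E₁' ⟶ E)
    (hi₁ : Mono i₁) (hr₁ : 0 < r₁) (hE₁ : FlatMod.IsFinLocFreeOfRank r₁ E₁)
    (ha : ∀ (F : X.Modules) (r' : ℕ) (j : F ⟶ E), Mono j → 0 < r' →
      FlatMod.IsFinLocFreeOfRank r' F →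
      Curv2.deg k X F r' * (r₁ : ℤ) ≤ Curv2.deg k X E₁ r₁ * (r' : ℤ))
    (hb : ∀ (Q : X.Modules) (s : ℕ) (j : Q ⟶ cokernel i₁), Mono j → 0 < s →
      FlatMod.IsFinLocFreeOfRank s Q →
      Curv2.deg k X Q s * (r₁ : ℤ) < Curv2.deg k X E₁ r₁ * (s : ℤ))
    (hi₁' : Mono i₁') (hr₁' : 0 < r₁') (hE₁' : FlatMod.IsFinLocFreeOfRank r₁' E₁')
    (ha' : ∀ (F : X.Modules) (r' : ℕ) (j : F ⟶ E), Mono j → 0 < r' →
      FlatMod.IsFinLocFreeOfRank r' F →
      Curv2.deg k X F r' * (r₁' : ℤ) ≤ Curv2.deg k X E₁' r₁' * (r' : ℤ)) :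
    ∃ v : E₁' ⟶ E₁, v ≫ i₁ = i₁' := by
  haveI := hi₁
  haveI := hi₁'
  haveI : Nonempty X := inferInstance
  have hr₁Z : (0 : ℤ) < (r₁ : ℤ) := by exact_mod_cast hr₁
  -- equality of slopes
  have hμ : Curv2.deg k X E₁' r₁' * (r₁ : ℤ) = Curv2.deg k X E₁ r₁ * (r₁' : ℤ) :=
    le_antisymm (ha E₁' r₁' i₁' hi₁' hr₁' hE₁') (ha' E₁ r₁ i₁ hi₁ hr₁ hE₁)
  -- saturation of `E₁`
  obtain ⟨G', C', i', p, w, u, c, hS, hu, hG', hC', hrk, hdle, hdeg, hiso⟩ :=
    Groth.Agent.Lib.Helper23.Sat.exists_saturation k hdim.le hE₁ hE i₁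
  haveI : Mono i' := hS.mono_f
  haveI : Epi p := hS.epi_g
  have h1 : Curv2.deg k X G' r₁ ≤ Curv2.deg k X E₁ r₁ :=
    le_of_mul_le_mul_right (ha G' r₁ i' inferInstance hr₁ hG') hr₁Z
  haveI : IsIso u := hiso (le_antisymm hdle h1)
  obtain ⟨e, he⟩ := Groth.Agent.Lib.Helper23.Sat.exists_cokernel_iso_of_epi_fac i₁ i' p w hS u hu
  -- the map `E₁' ⟶ C'` is zero
  obtain ⟨a, b, hK, hI, hab, hdeg', hb0, ha0, _, _⟩ :=
    Groth.Agent.Lib.Helper23.VBMaps.map_analysis k hdim.le hE₁' hC' (i₁' ≫ p)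
  have hφ : i₁' ≫ p = 0 := by
    apply hb0
    by_contra hbne
    have hbpos : 0 < b := Nat.pos_of_ne_zero hbne
    haveI : Mono (Abelian.factorThruCoimage (i₁' ≫ p)) := inferInstance
    haveI : Mono (Abelian.factorThruCoimage (i₁' ≫ p) ≫ e.inv) := mono_comp _ _
    have h2 := hb _ b (Abelian.factorThruCoimage (i₁' ≫ p) ≫ e.inv) inferInstance hbpos hI
    have h3 : Curv2.deg k X (kernel (i₁' ≫ p)) a * (r₁ : ℤ) ≤ Curv2.deg k X E₁ r₁ * (a : ℤ) := by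
      rcases Nat.eq_zero_or_pos a with ha0' | hapos
      · have hz := (ha0 ha0').2
        have ha' : (a : ℤ) = 0 := by exact_mod_cast ha0'
        rw [hz, ha']; simp
      · exact ha _ a (kernel.ι (i₁' ≫ p) ≫ i₁') (mono_comp _ _) hapos hK
    have habZ : (r₁' : ℤ) = (a : ℤ) + (b : ℤ) := by exact_mod_cast hab
    rw [hdeg', habZ] at hμ
    linarith [add_mul (Curv2.deg k X (kernel (i₁' ≫ p)) a)
      (Curv2.deg k X (Abelian.coimage (i₁' ≫ p)) b) (r₁ : ℤ),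
      mul_add (Curv2.deg k X E₁ r₁) (a : ℤ) (b : ℤ)]
  -- factor through the kernel of `p`
  have hS' : (ShortComplex.mk i' p w).Exact := hS.exact
  have hl : hS'.lift i₁' hφ ≫ i' = i₁' := ShortComplex.Exact.lift_f hS' i₁' hφ
  refine ⟨hS'.lift i₁' hφ ≫ inv u, ?_⟩
  rw [← hu, Category.assoc, IsIso.inv_hom_id_assoc, hl]

/-- Let X be a smooth proper integral curve (integral, smooth and proper of dimension one) over an
algebraically closed field k and E a finite locally free O_X-module of rank r ≥ 1 (degree = χ −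
rank·χ(O_X), slope = degree / rank). There is a finite locally free submodule E₁ ⊂ E (a monomorphism
of O_X-modules) of some rank r₁ ≥ 1, the destabilising sub-bundle, such that: every finite locally
free submodule F ⊂ E of rank r' ≥ 1 has slope at most that of E₁ (deg F · r₁ ≤ deg E₁ · r'); and the
maximal slope drops in the quotient, i.e. every finite locally free submodule G of rank r' ≥ 1 of
the cokernel E/E₁ has deg G · r₁ < deg E₁ · r'. Moreover a submodule with these two properties is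
unique: any two are the same subobject of E. (Such an E₁ is slope-semistable, every submodule of E₁
being a submodule of E; the published statement lists semistability of E₁ as a third property, which
is therefore omitted here.) -/
theorem result (k : Type u) [Field k] [IsAlgClosed k] (X : Scheme.{u}) [X.Over (Spec (CommRingCat.of k))]
    [IsIntegral X] [IsProper (X ↘ Spec (CommRingCat.of k))] [Smooth (X ↘ Spec (CommRingCat.of k))]
    (hdim : topologicalKrullDim X = 1)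
    (r : ℕ) (hr : 0 < r) (E : X.Modules) (hE : FlatMod.IsFinLocFreeOfRank r E) :
    (∃ (E₁ : X.Modules) (r₁ : ℕ) (i₁ : E₁ ⟶ E), Mono i₁ ∧ 0 < r₁ ∧ FlatMod.IsFinLocFreeOfRank r₁ E₁ ∧
      (∀ (F : X.Modules) (r' : ℕ) (j : F ⟶ E), Mono j → 0 < r' → FlatMod.IsFinLocFreeOfRank r' F →
        Curv2.deg k X F r' * (r₁ : ℤ) ≤ Curv2.deg k X E₁ r₁ * (r' : ℤ)) ∧
      (∀ (Q : X.Modules) (s : ℕ) (j : Q ⟶ cokernel i₁), Mono j → 0 < s → FlatMod.IsFinLocFreeOfRank s Q →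
        Curv2.deg k X Q s * (r₁ : ℤ) < Curv2.deg k X E₁ r₁ * (s : ℤ))) ∧
    (∀ (E₁ E₁' : X.Modules) (r₁ r₁' : ℕ) (i₁ : E₁ ⟶ E) (i₁' : E₁' ⟶ E),
      Mono i₁ → 0 < r₁ → FlatMod.IsFinLocFreeOfRank r₁ E₁ →
      (∀ (F : X.Modules) (r' : ℕ) (j : F ⟶ E), Mono j → 0 < r' → FlatMod.IsFinLocFreeOfRank r' F →
        Curv2.deg k X F r' * (r₁ : ℤ) ≤ Curv2.deg k X E₁ r₁ * (r' : ℤ)) →
      (∀ (Q : X.Modules) (s : ℕ) (j : Q ⟶ cokernel i₁), Mono j → 0 < s → FlatMod.IsFinLocFreeOfRank s Q →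
        Curv2.deg k X Q s * (r₁ : ℤ) < Curv2.deg k X E₁ r₁ * (s : ℤ)) →
      Mono i₁' → 0 < r₁' → FlatMod.IsFinLocFreeOfRank r₁' E₁' →
      (∀ (F : X.Modules) (r' : ℕ) (j : F ⟶ E), Mono j → 0 < r' → FlatMod.IsFinLocFreeOfRank r' F →
        Curv2.deg k X F r' * (r₁' : ℤ) ≤ Curv2.deg k X E₁' r₁' * (r' : ℤ)) →
      (∀ (Q : X.Modules) (s : ℕ) (j : Q ⟶ cokernel i₁'), Mono j → 0 < s → FlatMod.IsFinLocFreeOfRank s Q →
        Curv2.deg k X Q s * (r₁' : ℤ) < Curv2.deg k X E₁' r₁' * (s : ℤ)) →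
      ∃ e : E₁ ≅ E₁', e.hom ≫ i₁' = i₁) := by
  haveI : Nonempty X := inferInstance
  constructor
  · obtain ⟨E₁, r₁, i₁, hi₁, hr₁, hE₁, hmax, hrk⟩ :=
      Groth.Agent.Lib.Helper23.HN.exists_max_destab k hdim.le hr hE
    haveI := hi₁
    haveI := Groth.Agent.Lib.Helper23.Curve.isNoetherian_of_isProper k X
    refine ⟨E₁, r₁, i₁, hi₁, hr₁, hE₁, hmax, ?_⟩
    intro Q s j hj hs hQ
    haveI := hj
    have hcC : Coh.IsCoh (cokernel i₁) :=
      (Groth.Agent.S9514.result X (Groth.Agent.Lib.Helper23.Curve.isCoh_of_isFinLocFreeOfRank hE₁)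
        (Groth.Agent.Lib.Helper23.Curve.isCoh_of_isFinLocFreeOfRank hE) i₁).2
    let T : ShortComplex X.Modules := ShortComplex.mk i₁ (cokernel.π i₁) (cokernel.condition i₁)
    have hTex : T.Exact := ShortComplex.exact_cokernel i₁
    haveI : Mono T.f := hi₁
    haveI : Epi T.g := (inferInstance : Epi (cokernel.π i₁))
    have hT : T.ShortExact := ShortComplex.ShortExact.mk hTex
    obtain ⟨P, ι, hι, hP, hdegP⟩ :=
      Groth.Agent.Lib.Helper23.HN.preimage_data k hdim.le T hT hE₁ hE hcC hQ j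
    have h1 := hmax P (r₁ + s) ι hι (by omega) hP
    have h2 := hrk P (r₁ + s) ι hι (by omega) hP
    rw [hdegP] at h1 h2
    push_cast at h1 h2
    have hlt : (Curv2.deg k X E₁ r₁ + Curv2.deg k X Q s) * (r₁ : ℤ) <
        Curv2.deg k X E₁ r₁ * ((r₁ : ℤ) + (s : ℤ)) := by
      refine lt_of_le_of_ne h1 (fun heq => ?_)
      have := h2 heq
      omega
    linarith [add_mul (Curv2.deg k X E₁ r₁) (Curv2.deg k X Q s) (r₁ : ℤ),
      mul_add (Curv2.deg k X E₁ r₁) (r₁ : ℤ) (s : ℤ)]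
  · intro E₁ E₁' r₁ r₁' i₁ i₁' hi₁ hr₁ hE₁ ha hb hi₁' hr₁' hE₁' ha' hb'
    haveI := hi₁
    haveI := hi₁'
    obtain ⟨v, hv⟩ := factor k X hdim r E hE E₁ E₁' r₁ r₁' i₁ i₁' hi₁ hr₁ hE₁ ha hb hi₁' hr₁' hE₁' ha'
    obtain ⟨v₂, hv₂⟩ := factor k X hdim r E hE E₁' E₁ r₁' r₁ i₁' i₁ hi₁' hr₁' hE₁' ha' hb' hi₁ hr₁ hE₁ ha
    refine ⟨⟨v₂, v, ?_, ?_⟩, hv₂⟩
    · rw [← cancel_mono i₁, Category.assoc, hv, hv₂, Category.id_comp]
    · rw [← cancel_mono i₁', Category.assoc, hv₂, hv, Category.id_comp]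

end Groth.Agent.S16470
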