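import Mathlib
import Groth.Statements.S16478
import Groth.Agent.Lib.Helper29.CharPChar

set_option autoImplicit false
universe u
open GaDual

namespace Aux16478

universe v

open Polynomial TensorProduct
open Groth.Agent.Lib.Helper29.CharPChar

section
variable (p : ℕ) [hp : Fact p.Prime] (A : Type u) [CommRing A] [CharP A p] (n : ℕ)

/-- the ideal `(X₀^(p^n), X₁^(p^n))` -/
noncomputable abbrev QI : Ideal (MvPolynomial (Fin 2) A) :=
  Ideal.span {(MvPolynomial.X 0 ^ (p ^ n) : MvPolynomial (Fin 2) A), MvPolynomial.X 1 ^ (p ^ n)}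

lemma pi_X0_pow : (Ideal.Quotient.mkₐ A (QI p A n) (MvPolynomial.X 0)) ^ (p ^ n) = 0 := by
  rw [← map_pow]
  exact Ideal.Quotient.eq_zero_iff_mem.2 (Ideal.subset_span (Set.mem_insert _ _))

lemma pi_X1_pow : (Ideal.Quotient.mkₐ A (QI p A n) (MvPolynomial.X 1)) ^ (p ^ n) = 0 := by
  rw [← map_pow]
  exact Ideal.Quotient.eq_zero_iff_mem.2
    (Ideal.subset_span (Set.mem_insert_of_mem _ (Set.mem_singleton _)))

noncomputable def Theta :
    AlphaPn.A p n A ⊗[A] AlphaPn.A p n A →ₐ[A] (MvPolynomial (Fin 2) A ⧸ QI p A n) :=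
  Algebra.TensorProduct.lift
    (AlphaPn.lift p n A (Ideal.Quotient.mkₐ A (QI p A n) (MvPolynomial.X 0)) (pi_X0_pow p A n))
    (AlphaPn.lift p n A (Ideal.Quotient.mkₐ A (QI p A n) (MvPolynomial.X 1)) (pi_X1_pow p A n))
    (fun _ _ => Commute.all _ _)

lemma lift_mk {B : Type v} [CommRing B] [Algebra A B] (b : B) (hb : b ^ (p ^ n) = 0) (f : A[X]) :
    AlphaPn.lift p n A b hb (AlphaPn.mk p n A f) = aeval b f := by
  have h : (AlphaPn.lift p n A b hb).comp (AlphaPn.mk p n A) = aeval b := by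
    apply Polynomial.algHom_ext
    rw [AlgHom.comp_apply, AlphaPn.mk_X, AlphaPn.lift_x, aeval_X]
  exact DFunLike.congr_fun h f

lemma comul_mk (f : A[X]) : Coalgebra.comul (R := A) (AlphaPn.mk p n A f) =
    aeval (AlphaPn.x p n A ⊗ₜ[A] (1 : AlphaPn.A p n A) +
      (1 : AlphaPn.A p n A) ⊗ₜ[A] AlphaPn.x p n A) f := by
  have h : (Bialgebra.comulAlgHom A (AlphaPn.A p n A)).comp (AlphaPn.mk p n A) =
      aeval (AlphaPn.x p n A ⊗ₜ[A] (1 : AlphaPn.A p n A) +
        (1 : AlphaPn.A p n A) ⊗ₜ[A] AlphaPn.x p n A) := by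
    apply Polynomial.algHom_ext
    rw [AlgHom.comp_apply, AlphaPn.mk_X, aeval_X, Bialgebra.comulAlgHom_apply, AlphaPn.comul_x]
  exact DFunLike.congr_fun h f

lemma Theta_comul (f : A[X]) :
    Theta p A n (aeval (AlphaPn.x p n A ⊗ₜ[A] (1 : AlphaPn.A p n A) +
      (1 : AlphaPn.A p n A) ⊗ₜ[A] AlphaPn.x p n A) f) =
      Ideal.Quotient.mk (QI p A n)
        (aeval (MvPolynomial.X 0 + MvPolynomial.X 1 : MvPolynomial (Fin 2) A) f) := by
  have h1 : Theta p A n (AlphaPn.x p n A ⊗ₜ[A] (1 : AlphaPn.A p n A) +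
      (1 : AlphaPn.A p n A) ⊗ₜ[A] AlphaPn.x p n A) =
      Ideal.Quotient.mkₐ A (QI p A n) (MvPolynomial.X 0 + MvPolynomial.X 1) := by
    rw [map_add, map_add]
    unfold Theta
    rw [Algebra.TensorProduct.lift_tmul, Algebra.TensorProduct.lift_tmul, map_one, map_one,
      mul_one, one_mul, AlphaPn.lift_x, AlphaPn.lift_x]
  rw [← Polynomial.aeval_algHom_apply, h1, Polynomial.aeval_algHom_apply]
  rfl

lemma Theta_tmul (f : A[X]) :
    Theta p A n (AlphaPn.mk p n A f ⊗ₜ[A] AlphaPn.mk p n A f) =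
      Ideal.Quotient.mk (QI p A n)
        (aeval (MvPolynomial.X 0 : MvPolynomial (Fin 2) A) f *
          aeval (MvPolynomial.X 1 : MvPolynomial (Fin 2) A) f) := by
  unfold Theta
  rw [Algebra.TensorProduct.lift_tmul, lift_mk, lift_mk, Polynomial.aeval_algHom_apply,
    Polynomial.aeval_algHom_apply, ← map_mul]
  rfl

lemma mk_eq_mk_trunc (f : A[X]) : AlphaPn.mk p n A f =
    AlphaPn.mk p n A (∑ k ∈ Finset.range (p ^ n), C (f.coeff k) * X ^ k) := by
  have hf : f = ∑ k ∈ Finset.range (p ^ n + (f.natDegree + 1)), C (f.coeff k) * X ^ k :=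
    Polynomial.as_sum_range_C_mul_X_pow' f (by omega)
  have h1 := congrArg (AlphaPn.mk p n A) hf
  have h2 : AlphaPn.mk p n A (∑ x ∈ Finset.range (f.natDegree + 1),
      C (f.coeff (p ^ n + x)) * X ^ (p ^ n + x)) = 0 := by
    rw [map_sum]
    refine Finset.sum_eq_zero fun k _ => ?_
    rw [map_mul, map_pow, AlphaPn.mk_X, AlphaPn.x_pow_of_le p n A (Nat.le_add_right _ _), mul_zero]
  rw [Finset.sum_range_add, map_add, h2, add_zero] at h1
  exact h1

theorem Efac_mul' (a : A) (ha : a ^ p = 0) (m : ℕ) {B : Type v} [CommRing B] [Algebra A B]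
    (x y : B) :
    aeval (x + y) (Efac p a m) = aeval x (Efac p a m) * aeval y (Efac p a m) := by
  rw [Efac_eq_expand, expand_aeval, expand_aeval, expand_aeval,
    AlphaPn.add_pow_prime_pow p m A (Commute.all x y)]
  exact mul_of_star _ (Efac_zero_star a ha) _ _

lemma prod_mul (c : ℕ → A) (hnil : ∀ m ∈ Finset.range n, c m ^ p = 0) {B : Type v} [CommRing B]
    [Algebra A B] (x y : B) :
    aeval (x + y) (∏ m ∈ Finset.range n, Efac p (c m) m) =
      aeval x (∏ m ∈ Finset.range n, Efac p (c m) m) *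
        aeval y (∏ m ∈ Finset.range n, Efac p (c m) m) := by
  rw [map_prod, map_prod, map_prod, ← Finset.prod_mul_distrib]
  exact Finset.prod_congr rfl fun m hm => Efac_mul' p A (c m) (hnil m hm) m x y

lemma prod_eval_zero (c : ℕ → A) : (∏ m ∈ Finset.range n, Efac p (c m) m).eval 0 = 1 := by
  rw [Polynomial.eval_prod]
  exact Finset.prod_eq_one fun m _ => Efac_eval_zero (c m) m

omit hp [CharP A p] in
lemma groupLike_of_mul (P : A[X]) (h0 : P.eval 0 = 1)
    (hmul : aeval ((SekSuwa.A.t : SekSuwa.A A 0) ⊗ₜ[A] (1 : SekSuwa.A A 0) +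
        (1 : SekSuwa.A A 0) ⊗ₜ[A] (SekSuwa.A.t : SekSuwa.A A 0)) P =
      aeval ((SekSuwa.A.t : SekSuwa.A A 0) ⊗ₜ[A] (1 : SekSuwa.A A 0)) P *
        aeval ((1 : SekSuwa.A A 0) ⊗ₜ[A] (SekSuwa.A.t : SekSuwa.A A 0)) P) :
    IsGroupLikeElem A (aeval (SekSuwa.A.t : SekSuwa.A A 0) P) := by
  have hL : aeval ((SekSuwa.A.t : SekSuwa.A A 0) ⊗ₜ[A] (1 : SekSuwa.A A 0)) P =
      (aeval (SekSuwa.A.t : SekSuwa.A A 0) P) ⊗ₜ[A] (1 : SekSuwa.A A 0) :=
    Polynomial.aeval_algHom_apply (Algebra.TensorProduct.includeLeft :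
      SekSuwa.A A 0 →ₐ[A] SekSuwa.A A 0 ⊗[A] SekSuwa.A A 0) SekSuwa.A.t P
  have hR : aeval ((1 : SekSuwa.A A 0) ⊗ₜ[A] (SekSuwa.A.t : SekSuwa.A A 0)) P =
      (1 : SekSuwa.A A 0) ⊗ₜ[A] (aeval (SekSuwa.A.t : SekSuwa.A A 0) P) :=
    Polynomial.aeval_algHom_apply (Algebra.TensorProduct.includeRight :
      SekSuwa.A A 0 →ₐ[A] SekSuwa.A A 0 ⊗[A] SekSuwa.A A 0) SekSuwa.A.t P
  have hc : Coalgebra.comul (R := A) (aeval (SekSuwa.A.t : SekSuwa.A A 0) P) =
      aeval (Coalgebra.comul (R := A) (SekSuwa.A.t : SekSuwa.A A 0)) P :=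
    (Polynomial.aeval_algHom_apply (Bialgebra.comulAlgHom A (SekSuwa.A A 0)) SekSuwa.A.t P).symm
  have he : Coalgebra.counit (R := A) (aeval (SekSuwa.A.t : SekSuwa.A A 0) P) =
      aeval (Coalgebra.counit (R := A) (SekSuwa.A.t : SekSuwa.A A 0)) P :=
    (Polynomial.aeval_algHom_apply (Bialgebra.counitAlgHom A (SekSuwa.A A 0)) SekSuwa.A.t P).symm
  refine { counit_eq_one := ?_, comul_eq_tmul_self := ?_ }
  · rw [he, SekSuwa.A.counit_t, Polynomial.coe_aeval_eq_eval, h0]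
  · rw [hc, SekSuwa.A.comul_t, zero_smul, add_zero, hmul, hL, hR,
      Algebra.TensorProduct.tmul_mul_tmul, mul_one, one_mul]

end

theorem main (p : ℕ) [hp : Fact p.Prime] (A : Type u) [CommRing A] [CharP A p]
    (n : ℕ) (hn : 1 ≤ n) (φ : SekSuwa.A A 0 →ₐc[A] AlphaPn.A p n A)
    (hφ : φ SekSuwa.A.t = AlphaPn.x p n A)
    (u : AlphaPn.A p n A) (hu : IsGroupLikeElem A u) :
    ∃ g : SekSuwa.A A 0, IsGroupLikeElem A g ∧ φ g = u := by
  obtain ⟨f, rfl⟩ := AlphaPn.mk_surjective p n A u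
  have hΘ := congrArg (Theta p A n) hu.comul_eq_tmul_self
  rw [comul_mk, Theta_comul, Theta_tmul] at hΘ
  have h0 : f.coeff 0 = 1 := by
    have h1 : AlphaPn.counitAlg p n A (AlphaPn.mk p n A f) = 1 := hu.counit_eq_one
    unfold AlphaPn.counitAlg at h1
    rw [lift_mk] at h1
    rw [Polynomial.coeff_zero_eq_aeval_zero]
    exact h1
  have hchar : IsChar (fun k => f.coeff k) (p ^ n) :=
    ⟨h0, fun i j hi hj => star_of_mul_trunc (p ^ n) f hΘ i j hi hj⟩
  have hsum : ∑ k ∈ Finset.range (p ^ n), C (f.coeff k) * X ^ k =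
      ∏ m ∈ Finset.range n, Efac p (f.coeff (p ^ m)) m := IsChar.sum_eq_prod n _ hchar
  have hnil : ∀ m ∈ Finset.range n, f.coeff (p ^ m) ^ p = 0 := fun m hm =>
    IsChar.pow_p_pow_eq_zero m n _ hchar (Finset.mem_range.1 hm)
  refine ⟨aeval (SekSuwa.A.t : SekSuwa.A A 0)
    (∏ m ∈ Finset.range n, Efac p (f.coeff (p ^ m)) m), ?_, ?_⟩
  · exact groupLike_of_mul A _ (prod_eval_zero p A n (fun m => f.coeff (p ^ m)))
      (prod_mul p A n (fun m => f.coeff (p ^ m)) hnil _ _)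
  · rw [← Polynomial.aeval_algHom_apply, hφ, AlphaPn.aeval_x, ← hsum]
    exact (mk_eq_mk_trunc p A n f).symm

end Aux16478

namespace Groth.Agent.S16478

/-- Let A be a commutative ring of prime characteristic p and n ≥ 1, and let φ be the comorphism of the
closed immersion α_{p^n} → G_a over A: the bialgebra map from the Hopf algebra of the additive group
(generator t primitive) to A[x]/(x^(p^n)) (x primitive) sending t to x. Then the restriction map on
characters, from those of the additive group over A to those of α_{p^n} over A, is surjective: every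
group-like element of A[x]/(x^(p^n)) is the image under φ of a group-like element of the Hopf
algebra of the additive group. -/
theorem result (p : ℕ) [Fact p.Prime] (A : Type u) [CommRing A] [CharP A p]
    (n : ℕ) (hn : 1 ≤ n) (φ : SekSuwa.A A 0 →ₐc[A] AlphaPn.A p n A) (hφ : φ SekSuwa.A.t = AlphaPn.x p n A)
    (u : AlphaPn.A p n A) (hu : IsGroupLikeElem A u) :
    ∃ g : SekSuwa.A A 0, IsGroupLikeElem A g ∧ φ g = u := by
  exact Aux16478.main p A n hn φ hφ u hu

end Groth.Agent.S16478
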