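import Groth.Statements.S16482
import Mathlib
import Groth.Prelude.Def_Frob

set_option autoImplicit false
open CategoryTheory CategoryTheory.Limits AlgebraicGeometry
universe u
open FrobSch

namespace Groth.Agent.S16482

theorem pow_p_injective (p : ℕ) [Fact p.Prime] (R : Type u) [CommRing R] [IsReduced R]
    (hp : (p : R) = 0) : Function.Injective (fun s : R => s ^ p) := by
  intro a b hab
  have hab' : a ^ p = b ^ p := hab
  have h1 : (a - b) ^ p = 0 := by
    have h2 := map_sub (powHom p R hp) a b
    simp only [powHom_apply] at h2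
    rw [h2, hab', sub_self]
  exact sub_eq_zero.mp (IsReduced.eq_zero _ ⟨p, h1⟩)

theorem frob_cancel (p : ℕ) [Fact p.Prime] {Y Z : Scheme.{u}} [IsCharP Y p] [IsReduced Y]
    (g₁ g₂ : Y ⟶ Z) (h : frob Y p ≫ g₁ = frob Y p ≫ g₂) : g₁ = g₂ := by
  have hb : g₁.base = g₂.base := by
    have h0 := congrArg (fun k : Y ⟶ Z => k.base) h
    simpa only [Scheme.Hom.comp_base, frob_base, Category.id_comp] using h0
  refine Scheme.Hom.ext hb (fun U => ?_)
  have hV : g₁ ⁻¹ᵁ U = g₂ ⁻¹ᵁ U := congrArg (fun b => (TopologicalSpace.Opens.map b).obj U) hb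
  have h1 := Scheme.Hom.congr_app h U
  rw [Scheme.Hom.comp_app, Scheme.Hom.comp_app] at h1
  have h5 : Y.presheaf.map (eqToHom hV).op ≫ Y.presheaf.map (eqToHom hV.symm).op = 𝟙 _ := by
    rw [← CategoryTheory.Functor.map_comp, ← op_comp, eqToHom_trans, eqToHom_refl, op_id,
      CategoryTheory.Functor.map_id]
  ext s
  have h4 : g₁.app U s = Y.presheaf.map (eqToHom hV).op (g₂.app U s) := by
    apply pow_p_injective p Γ(Y, g₁ ⁻¹ᵁ U) (natCast_eq_zero_app Y p _)
    show (g₁.app U s) ^ p = (Y.presheaf.map (eqToHom hV).op (g₂.app U s)) ^ p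
    have h3 := congrArg (fun φ => φ.hom s) h1
    exact h3.trans (map_pow (Y.presheaf.map (eqToHom hV).op).hom (g₂.app U s) p)
  show Y.presheaf.map (eqToHom _).op (g₁.app U s) = g₂.app U s
  rw [h4]
  exact congrArg (fun φ => φ.hom (g₂.app U s)) h5

/-- Let p be a prime and S a reduced scheme on which p = 0 whose absolute Frobenius is flat; let Y be a
reduced S-scheme with structure map a, Z an S-scheme with structure map b, and g₁, g₂ : Y ⟶ Z two
S-morphisms. For i = 1, 2 let h_i : Y ⟶ Z^(p) be the relative Frobenius F_{Y/S} : Y ⟶ Y^(p) followed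
by the base change Y^(p) ⟶ Z^(p) of g_i along the absolute Frobenius of S. If h₁ = h₂, then g₁ = g₂.
(The published statement works over the reduced special fibre of a flat formal scheme of finite type
over the Witt vectors of a perfect field; only reducedness of S and flatness of its absolute
Frobenius are kept here.) -/
theorem result (p : ℕ) [Fact p.Prime]
    {Y Z S : Scheme.{u}} [FrobSch.IsCharP S p] [IsReduced S] [Flat (FrobSch.frob S p)]
    [IsReduced Y] (a : Y ⟶ S) (b : Z ⟶ S) (g₁ g₂ : Y ⟶ Z) (hg₁ : g₁ ≫ b = a) (hg₂ : g₂ ≫ b = a)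
    (h : FrobSch.relFrob a p ≫ pullback.map a (FrobSch.frob S p) b (FrobSch.frob S p) g₁ (𝟙 S) (𝟙 S)
        ((Category.comp_id a).trans hg₁.symm) ((Category.comp_id _).trans (Category.id_comp _).symm) =
      FrobSch.relFrob a p ≫ pullback.map a (FrobSch.frob S p) b (FrobSch.frob S p) g₂ (𝟙 S) (𝟙 S)
        ((Category.comp_id a).trans hg₂.symm) ((Category.comp_id _).trans (Category.id_comp _).symm)) :
    g₁ = g₂ := by
  haveI : IsCharP Y p := IsCharP.of_hom a p
  have hm : ∀ (g : Y ⟶ Z) (hg : g ≫ b = a),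
      pullback.map a (frob S p) b (frob S p) g (𝟙 S) (𝟙 S)
        ((Category.comp_id a).trans hg.symm)
        ((Category.comp_id _).trans (Category.id_comp _).symm) ≫ pullback.fst b (frob S p) =
      pullback.fst a (frob S p) ≫ g := fun g hg => pullback.lift_fst _ _ _
  apply frob_cancel p
  have h' := congrArg (fun k => k ≫ pullback.fst b (frob S p)) h
  simp only [Category.assoc] at h'
  rw [hm g₁ hg₁, hm g₂ hg₂, ← Category.assoc, ← Category.assoc, relFrob_fst] at h'
  exact h'

end Groth.Agent.S16482
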