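import Groth.Statements.S16483
import Mathlib
import Groth.Agent.Lib.Helper22.Frob

set_option autoImplicit false
open CategoryTheory CategoryTheory.Limits AlgebraicGeometry
universe u
open FrobSch

namespace Groth.Agent.S16483

theorem qc_frobIter (p : ℕ) [Fact p.Prime] (T : Scheme.{u}) [IsCharP T p] (n : ℕ) :
    QuasiCompact (frobIter T p n) := by
  induction n with
  | zero => rw [frobIter_zero]; infer_instance
  | succ n ih =>
    rw [frobIter_succ]
    haveI := ih
    infer_instance

theorem ker_le (p : ℕ) [Fact p.Prime] (T : Scheme.{u}) [IsCharP T p] (n : ℕ) :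
    (frobIter T p (n + 1)).ker ≤ ((frobIter T p n).ker.subschemeι ≫ frob T p).ker := by
  haveI := qc_frobIter p T n
  refine Scheme.IdealSheafData.le_ofIdeals_iff.mpr (fun U s hs => ?_)
  have hs1 : ((frobIter T p (n + 1)).app U).hom s = 0 := (frobIter T p (n + 1)).ideal_ker_le U hs
  rw [frobIter_succ, Scheme.Hom.comp_app] at hs1
  have hs2 : ((frobIter T p n).app U).hom (s ^ p) = 0 := by
    rw [map_pow]
    exact hs1
  have hs3 : s ^ p ∈ (frobIter T p n).ker.ideal U := by
    rw [Scheme.Hom.ker_apply]
    exact hs2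
  have hs4 : ((frobIter T p n).ker.subschemeι.app U).hom (s ^ p) = 0 := by
    have h5 := Scheme.IdealSheafData.ker_subschemeι_app (frobIter T p n).ker U
    rw [← h5] at hs3
    exact hs3
  show (((frobIter T p n).ker.subschemeι ≫ frob T p).app U).hom s = 0
  rw [Scheme.Hom.comp_app]
  exact hs4

theorem key (p : ℕ) [Fact p.Prime] (k : Type u) [Field k] [CharP k p] {T X : Scheme.{u}}
    [IsCharP T p] (t : T ⟶ Spec (CommRingCat.of k)) (x : X ⟶ Spec (CommRingCat.of k))
    (I0 I1 N : T.IdealSheafData) (hker : I1 ≤ (I0.subschemeι ≫ frob T p).ker)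
    (i : N.subscheme ⟶ I1.subscheme) (hi : i ≫ I1.subschemeι = N.subschemeι)
    (j : N.subscheme ⟶ I0.subscheme) (hj : j ≫ I0.subschemeι = N.subschemeι)
    (w : I1.subscheme ⟶ X) (hw : w ≫ x = I1.subschemeι ≫ t) :
    ∃ v : I0.subscheme ⟶ frobTwist x p,
      v ≫ pullback.snd x (frob (Spec (CommRingCat.of k)) p) = I0.subschemeι ≫ t ∧
        j ≫ v = i ≫ w ≫ relFrob x p := by
  haveI : IsCharP I0.subscheme p := IsCharP.of_hom I0.subschemeι p
  haveI : IsCharP I1.subscheme p := IsCharP.of_hom I1.subschemeι p
  haveI : IsCharP X p := IsCharP.of_hom x p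
  have hker' : I1.subschemeι.ker ≤ (I0.subschemeι ≫ frob T p).ker := by
    rw [Scheme.IdealSheafData.ker_subschemeι]
    exact hker
  obtain ⟨φ, hφ⟩ : ∃ φ : I0.subscheme ⟶ I1.subscheme,
      φ ≫ I1.subschemeι = I0.subschemeι ≫ frob T p :=
    ⟨IsClosedImmersion.lift I1.subschemeι (I0.subschemeι ≫ frob T p) hker',
      IsClosedImmersion.lift_fac _ _ _⟩
  have hv : (φ ≫ w) ≫ x = (I0.subschemeι ≫ t) ≫ frob (Spec (CommRingCat.of k)) p := by
    simp only [Category.assoc]
    rw [hw, ← frob_comp p t, ← Category.assoc, hφ, Category.assoc]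
  have h1 : j ≫ φ = i ≫ frob I1.subscheme p := by
    rw [← cancel_mono I1.subschemeι]
    simp only [Category.assoc]
    rw [hφ, frob_comp p I1.subschemeι, ← Category.assoc, hj, ← Category.assoc, hi]
  refine ⟨pullback.lift (φ ≫ w) (I0.subschemeι ≫ t) hv, pullback.lift_snd _ _ _, ?_⟩
  apply pullback.hom_ext
  · simp only [Category.assoc, pullback.lift_fst, relFrob_fst]
    rw [← frob_comp p w, ← Category.assoc, h1, Category.assoc]
  · simp only [Category.assoc, pullback.lift_snd, relFrob_snd]
    rw [hw, ← Category.assoc j, hj, ← Category.assoc i, hi]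

/-- Let p be a prime, k a perfect field of characteristic p, T a k-scheme and X a k-scheme with
Frobenius twist X^(p) = X ×_{Spec k, F} Spec k and relative Frobenius F_{X/k} : X ⟶ X^(p). For m ≥ 0
write T^(m) for the closed subscheme of T cut out by the sections whose p^m-th power vanishes (the
scheme-theoretic image of the m-fold absolute Frobenius F_T^m), and T_0 for the reduced closed
subscheme of T; the inclusions T_0 ⟶ T^(n+1) and T_0 ⟶ T^(n) over T are the given morphisms i and j.
Then for every k-morphism w : T^(n+1) ⟶ X there is a k-morphism v : T^(n) ⟶ X^(p) whose restriction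
to T_0 is F_{X/k} composed with the restriction of w to T_0. (The published statement takes T to be
the special fibre of a flat p-adic formal scheme of finite type over the Witt vectors of k, is
phrased for categories of such objects, and takes X locally of finite type over k; none of this is
used, so T and X are arbitrary k-schemes here.) -/
theorem result (p : ℕ) [Fact p.Prime]
    (k : Type u) [Field k] [CharP k p] [PerfectField k] (n : ℕ)
    {T X : Scheme.{u}} [FrobSch.IsCharP T p] (t : T ⟶ Spec (CommRingCat.of k))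
    (x : X ⟶ Spec (CommRingCat.of k))
    (i : T.nilradical.subscheme ⟶ (FrobSch.frobIter T p (n + 1)).ker.subscheme)
    (hi : i ≫ (FrobSch.frobIter T p (n + 1)).ker.subschemeι = T.nilradical.subschemeι)
    (j : T.nilradical.subscheme ⟶ (FrobSch.frobIter T p n).ker.subscheme)
    (hj : j ≫ (FrobSch.frobIter T p n).ker.subschemeι = T.nilradical.subschemeι)
    (w : (FrobSch.frobIter T p (n + 1)).ker.subscheme ⟶ X)
    (hw : w ≫ x = (FrobSch.frobIter T p (n + 1)).ker.subschemeι ≫ t) :
    ∃ v : (FrobSch.frobIter T p n).ker.subscheme ⟶ FrobSch.frobTwist x p,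
      v ≫ pullback.snd x (FrobSch.frob (Spec (CommRingCat.of k)) p) =
          (FrobSch.frobIter T p n).ker.subschemeι ≫ t ∧
        j ≫ v = i ≫ w ≫ FrobSch.relFrob x p := by
  exact key p k t x _ _ _ (ker_le p T n) i hi j hj w hw

end Groth.Agent.S16483
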