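import Groth.Statements.S16490
import Groth.Agent.Lib.Helper26.RefShE


set_option autoImplicit false
universe u
open CategoryTheory CategoryTheory.Limits AlgebraicGeometry TopologicalSpace
open VBPn

namespace Groth.Agent.S16490

/-- Let X be an integral locally Noetherian scheme all of whose local rings are regular, and let 0 → F →
E → Q → 0 be a short exact sequence of coherent O_X-modules in which E is reflexive (the canonical
map E → E^** is an isomorphism) and Q is torsion-free (every stalk Q_x is a torsion-free
O_{X,x}-module). Then F is normal: for all open subsets V ⊆ U of X such that every point of U not in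
V has local ring of dimension at least 2, the restriction map F(U) → F(V) is bijective. The
published statement is for coherent analytic sheaves on a complex manifold, a sheaf being called
normal when for every open U and every analytic subset A ⊆ U of codimension at least 2 the
restriction F(U) → F(U ∖ A) is bijective; this row is its statement for coherent sheaves on a
regular integral locally Noetherian scheme, with normality phrased through open subsets V ⊆ U whose
complement in U consists of points with local ring of dimension at least 2, where the same argument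
applies. -/
theorem result (X : Scheme.{u}) [IsIntegral X] [IsLocallyNoetherian X]
    (hreg : ∀ x : X, IsRegularLocalRing (X.presheaf.stalk x)) (S : ShortComplex X.Modules) (hS : S.ShortExact)
    (hF : Coh.IsCoh S.X₁) (hE : Coh.IsCoh S.X₂) (hQ : Coh.IsCoh S.X₃)
    (hErefl : RefHull.IsReflexive S.X₂) (hQtf : TorSh.IsTorsionFree S.X₃) :
    (∀ (U V : X.Opens) (hVU : V ≤ U), (∀ x : X, x ∈ U → x ∉ V → (2 : WithBot ℕ∞) ≤ ringKrullDim (X.presheaf.stalk x)) →
        Function.Bijective (S.X₁.presheaf.map (homOfLE hVU).op)) := by
  intro U V hVU hcod
  haveI := hS.mono_f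
  haveI : S.X₃.IsQuasicoherent := hQ.1
  have hE' := Groth.Agent.Lib.Helper26.RefSh.normal_of_reflexiveAt hreg hE
    ((Groth.Agent.Lib.Helper26.RefSh.isReflexive_iff_forall hE).mp hErefl) U V hVU hcod
  have hQinj := Groth.Agent.Lib.Helper26.RefSh.injective_res_of_torsionFree S.X₃ hQtf hVU
    (Groth.Agent.Lib.Helper26.RefSh.genericPoint_mem_of_codim hcod)
  constructor
  · intro a b hab
    apply Groth.Agent.Lib.Helper3.QCExact.injective_sections S.f U
    apply hE'.1
    have ha := Groth.Agent.Lib.Helper3.QCExact.app_res' S.f hVU a
    have hb := Groth.Agent.Lib.Helper3.QCExact.app_res' S.f hVU b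
    exact ha.symm.trans ((congrArg (S.f.app V) hab).trans hb)
  · intro s
    obtain ⟨e, he⟩ := hE'.2 (S.f.app V s)
    have hge : S.g.app U e = 0 := by
      apply hQinj
      have h1 := Groth.Agent.Lib.Helper3.QCExact.app_res' S.g hVU e
      have h2 : S.g.app V (S.f.app V s) = 0 := Groth.Agent.Lib.Helper3.QCExact.app_f_g_apply S V s
      have he' : Groth.Agent.Lib.Helper3.QCSec.res S.X₂ hVU e = S.f.app V s := he
      rw [he', h2] at h1
      exact h1.symm.trans (map_zero _).symm
    obtain ⟨a, ha⟩ := Groth.Agent.Lib.Helper3.QCExact.exact_sections S hS.exact U e hge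
    refine ⟨a, ?_⟩
    apply Groth.Agent.Lib.Helper3.QCExact.injective_sections S.f V
    have h3 := Groth.Agent.Lib.Helper3.QCExact.app_res' S.f hVU a
    rw [ha] at h3
    exact h3.trans he

end Groth.Agent.S16490
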