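import Groth.Statements.S16496
import Mathlib
import Groth.Agent.Lib.Helper17.FlatHartogs
import Groth.Agent.Lib.Helper17.ZClosS2
import Groth.Agent.Lib.Helper5.HartogsDepth
import Groth.Agent.Lib.Helper4.SerreNormal

set_option autoImplicit false
universe u
open CategoryTheory AlgebraicGeometry
open SGA3

namespace Groth.Agent.S16496

/-- Let S be a Noetherian normal scheme, A a flat quasi-coherent O_S-module (not assumed of finite type)
and j : U → S the inclusion of an open subscheme containing every point of S whose local ring has
dimension at most 1. Then A = j_* j^* A: the unit A → j_*(A|_U) of the adjunction between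
restriction to U and direct image along j is an isomorphism. In the source U is the flatness locus
of a finite type submodule of A, an open which contains all points of codimension at most 1; the
printed argument uses only this property of U. -/
theorem result (S : Scheme.{u}) [IsNoetherian S]
    (hS : Pi1.IsNormalScheme S) (A : S.Modules) (hA : Coh.IsQCoh A) (hAfl : FlatMod.IsFlat A)
    (U : S.Opens) (hU : ∀ s : S, ringKrullDim (S.presheaf.stalk s) ≤ 1 → s ∈ U) :
    IsIso ((Scheme.Modules.restrictAdjunction U.ι).unit.app A) := by
  haveI : A.IsQuasicoherent := hA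
  apply Groth.Agent.Lib.Helper17.FlatHartogs.isIso_unit_of_flat A hAfl U
  intro V _
  have hdepth : ∀ z : S, z ∉ U →
      2 ≤ LocCoh.depth (S.presheaf.stalk z) (S.presheaf.stalk z) := by
    intro z hz
    obtain ⟨hdom, hic⟩ := hS z
    haveI := hdom
    haveI := hic
    have hdim : ¬ ringKrullDim (S.presheaf.stalk z) ≤ 1 := fun h => hz (hU z h)
    have h1 := Groth.Agent.Lib.Helper4.SerreNormal.min_two_le_depth_of_normal (S.presheaf.stalk z)
    have h2 : (2 : ℕ∞) ≤ (IsLocalRing.maximalIdeal (S.presheaf.stalk z)).height := by
      by_contra hcon
      apply hdim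
      rw [← IsLocalRing.maximalIdeal_height_eq_ringKrullDim]
      apply Groth.Agent.Lib.Helper17.ZClosS2.le_one_of_not_two_le
      rw [Groth.Agent.Lib.Helper17.ZClosS2.two_le_coe_iff]
      exact hcon
    exact (le_min le_rfl h2).trans h1
  exact Groth.Agent.Lib.Helper5.Hartogs.bijective_of_depth U hdepth V

end Groth.Agent.S16496
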