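import Groth.Statements.S16498
import Mathlib

set_option autoImplicit false
universe u
open Curves

namespace Groth.Agent.S16498

open Polynomial in
theorem comp_coeff_sum {k : Type u} [Field k] (h : k[X]) (α : k) (m N : ℕ) (hN : h.natDegree < N) :
    (h.comp (X + C α)).coeff m =
      ∑ l ∈ Finset.range N, h.coeff l * ((l.choose m : ℕ) : k) * α ^ (l - m) := by
  have h1 : h.comp (X + C α) = taylor α h := (taylor_apply α h).symm
  rw [h1, taylor_coeff, hasseDeriv_apply, Polynomial.sum_over_range' _ _ N hN, eval_finsetSum]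
  · apply Finset.sum_congr rfl
    intro l _
    rw [eval_monomial]; ring
  · intro n; simp

theorem lucas_cast {k : Type u} [Field k] (p : ℕ) [Fact p.Prime] [CharP k p]
    (i j l : ℕ) (hj : j + 1 ≤ p) :
    ((l.choose ((i + 1) * p - (j + 1)) : ℕ) : k) =
      (((l / p).choose i : ℕ) : k) * (((l % p).choose (p - (j + 1)) : ℕ) : k) := by
  have hp : 0 < p := (Fact.out : p.Prime).pos
  have hm : (i + 1) * p - (j + 1) = (p - (j + 1)) + i * p := by
    rw [add_mul, one_mul]; omega
  have hlt : p - (j + 1) < p := by omega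
  have h1 : ((i + 1) * p - (j + 1)) % p = p - (j + 1) := by
    rw [hm, Nat.add_mul_mod_self_right, Nat.mod_eq_of_lt hlt]
  have h2 : ((i + 1) * p - (j + 1)) / p = i := by
    rw [hm, Nat.add_mul_div_right _ _ hp, Nat.div_eq_of_lt hlt, zero_add]
  have := Choose.choose_modEq_choose_mod_mul_choose_div_nat (p := p)
    (n := l) (k := (i + 1) * p - (j + 1))
  rw [h1, h2] at this
  rw [(CharP.natCast_eq_natCast k p).mpr this, Nat.cast_mul, mul_comm]

theorem result (k : Type u) [Field k] (p : ℕ) [Fact p.Prime] (hp : p ≠ 2) [CharP k p]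
    (g : ℕ) (hg : g ≤ p) (f : Polynomial k) (hf : f.natDegree ≤ 2 * g + 2) (α : k) :
    (Matrix.of fun i j : Fin g =>
        ((f.comp (Polynomial.X + Polynomial.C α)) ^ ((p - 1) / 2)).coeff (((i : ℕ) + 1) * p - ((j : ℕ) + 1))) =
      (Matrix.of fun i I : Fin g => (((I : ℕ).choose (i : ℕ) : ℕ) : k) * α ^ (((I : ℕ) - (i : ℕ)) * p)) *
        (Matrix.of fun i j : Fin g => (f ^ ((p - 1) / 2)).coeff (((i : ℕ) + 1) * p - ((j : ℕ) + 1))) *
        (Matrix.of fun J j : Fin g => (((p - ((J : ℕ) + 1)).choose (p - ((j : ℕ) + 1)) : ℕ) : k) * α ^ ((j : ℕ) - (J : ℕ))) := by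
  have hpp : p.Prime := Fact.out
  obtain ⟨e, he⟩ : ∃ e, p = 2 * e + 1 := by
    rcases hpp.eq_two_or_odd' with h | h
    · exact absurd h hp
    · obtain ⟨e, he⟩ := h; exact ⟨e, he⟩
  have hE : (p - 1) / 2 = e := by omega
  rw [hE]
  set h : Polynomial k := f ^ e with hh
  have hcomp : (f.comp (Polynomial.X + Polynomial.C α)) ^ e = h.comp (Polynomial.X + Polynomial.C α) := by
    rw [hh, Polynomial.pow_comp]
  rw [hcomp]
  have hdeg : h.natDegree ≤ (g + 1) * (p - 1) := by
    calc h.natDegree ≤ e * f.natDegree := Polynomial.natDegree_pow_le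
      _ ≤ e * (2 * g + 2) := Nat.mul_le_mul_left _ hf
      _ = (g + 1) * (p - 1) := by rw [he]; simp; ring
  set N : ℕ := h.natDegree + 1 + g * p with hN
  ext i j
  rw [Matrix.mul_apply]
  simp only [Matrix.mul_apply, Matrix.of_apply]
  rw [comp_coeff_sum h α _ N (by omega)]
  have hjp : (j : ℕ) + 1 ≤ p := by have := j.isLt; omega
  -- the index map
  set φ : Fin g × Fin g → ℕ := fun x => ((x.1 : ℕ) + 1) * p - ((x.2 : ℕ) + 1) with hφ
  have hφinj : Function.Injective φ := by
    intro x y hxy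
    simp only [hφ] at hxy
    have hx2 := x.2.isLt
    have hy2 := y.2.isLt
    have e1 : ((x.1 : ℕ) + 1) * p - ((x.2 : ℕ) + 1) = (p - ((x.2 : ℕ) + 1)) + (x.1 : ℕ) * p := by
      rw [add_mul, one_mul]; omega
    have e2 : ((y.1 : ℕ) + 1) * p - ((y.2 : ℕ) + 1) = (p - ((y.2 : ℕ) + 1)) + (y.1 : ℕ) * p := by
      rw [add_mul, one_mul]; omega
    rw [e1, e2] at hxy
    have m1 := congrArg (· % p) hxy
    have d1 := congrArg (· / p) hxy
    simp only [Nat.add_mul_mod_self_right] at m1
    simp only [Nat.add_mul_div_right _ _ hpp.pos] at d1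
    rw [Nat.mod_eq_of_lt (by omega), Nat.mod_eq_of_lt (by omega)] at m1
    rw [Nat.div_eq_of_lt (by omega), Nat.div_eq_of_lt (by omega)] at d1
    apply Prod.ext
    · apply Fin.ext; omega
    · apply Fin.ext; omega
  have hφdiv : ∀ x : Fin g × Fin g, φ x / p = (x.1 : ℕ) ∧ φ x % p = p - ((x.2 : ℕ) + 1) := by
    intro x
    have hx2 := x.2.isLt
    have e1 : φ x = (p - ((x.2 : ℕ) + 1)) + (x.1 : ℕ) * p := by
      simp only [hφ]; rw [add_mul, one_mul]; omega
    constructor
    · rw [e1, Nat.add_mul_div_right _ _ hpp.pos, Nat.div_eq_of_lt (by omega), zero_add]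
    · rw [e1, Nat.add_mul_mod_self_right, Nat.mod_eq_of_lt (by omega)]
  set m : ℕ := ((i : ℕ) + 1) * p - ((j : ℕ) + 1) with hm
  have hMp : (g + 1) * (p - 1) + g + 1 = g * p + p := by
    obtain ⟨q, rfl⟩ : ∃ q, p = q + 1 := ⟨p - 1, by have := hpp.pos; omega⟩
    simp only [Nat.add_sub_cancel]; ring
  have hsub : Finset.image φ Finset.univ ⊆ Finset.range N := by
    intro l hl
    obtain ⟨x, -, rfl⟩ := Finset.mem_image.mp hl
    rw [Finset.mem_range]
    have h1 : ((x.1 : ℕ) + 1) * p ≤ g * p := Nat.mul_le_mul_right _ x.1.isLt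
    have h2 : 0 < ((x.1 : ℕ) + 1) * p := Nat.mul_pos (Nat.succ_pos _) hpp.pos
    simp only [hφ]; omega
  have hzero : ∀ l ∈ Finset.range N, l ∉ Finset.image φ Finset.univ →
      h.coeff l * ((l.choose m : ℕ) : k) * α ^ (l - m) = 0 := by
    intro l _ hl
    rw [hm, lucas_cast p i j l hjp]
    by_cases hr : l % p < p - g
    · have : (l % p).choose (p - ((j : ℕ) + 1)) = 0 := by
        apply Nat.choose_eq_zero_of_lt
        have := j.isLt; omega
      rw [this]; simp
    · push Not at hr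
      have hrp : l % p < p := Nat.mod_lt _ hpp.pos
      by_cases hI : l / p < g
      · exfalso
        apply hl
        rw [Finset.mem_image]
        refine ⟨(⟨l / p, hI⟩, ⟨p - 1 - l % p, by omega⟩), Finset.mem_univ _, ?_⟩
        simp only [hφ]
        have := Nat.div_add_mod' l p
        rw [add_mul, one_mul]; omega
      · push Not at hI
        have hlge : g * p + (p - g) ≤ l := by
          have := Nat.div_add_mod' l p
          have h3 : g * p ≤ l / p * p := Nat.mul_le_mul_right _ hI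
          omega
        have : h.coeff l = 0 := by
          apply Polynomial.coeff_eq_zero_of_natDegree_lt
          omega
        rw [this]; simp
  rw [← Finset.sum_subset hsub hzero, Finset.sum_image (fun x _ y _ hxy => hφinj hxy),
    Fintype.sum_prod_type]
  simp only [Finset.sum_mul]
  conv_rhs => rw [Finset.sum_comm]
  apply Finset.sum_congr rfl
  intro I _
  apply Finset.sum_congr rfl
  intro J _
  obtain ⟨hd, hmod⟩ := hφdiv (I, J)
  rw [hm, lucas_cast p i j _ hjp, hd, hmod]
  simp only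
  by_cases hIi : (I : ℕ) < (i : ℕ)
  · rw [Nat.choose_eq_zero_of_lt hIi]; simp
  push Not at hIi
  by_cases hJj : (j : ℕ) < (J : ℕ)
  · have : (p - ((J : ℕ) + 1)).choose (p - ((j : ℕ) + 1)) = 0 := by
      apply Nat.choose_eq_zero_of_lt
      have := J.isLt; omega
    rw [this]; simp
  push Not at hJj
  have hexp : φ (I, J) - ((↑i + 1) * p - (↑j + 1)) = ((I : ℕ) - (i : ℕ)) * p + ((j : ℕ) - (J : ℕ)) := by
    simp only [hφ]
    obtain ⟨a, ha⟩ : ∃ a, (I : ℕ) = (i : ℕ) + a := ⟨(I : ℕ) - (i : ℕ), by omega⟩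
    have hJ := J.isLt
    have hj := j.isLt
    rw [ha, Nat.add_sub_cancel_left]
    have e1 : ((i : ℕ) + a + 1) * p = (i : ℕ) * p + a * p + p := by ring
    have e2 : ((i : ℕ) + 1) * p = (i : ℕ) * p + p := by ring
    rw [e1, e2]; omega
  rw [hexp, pow_add]
  ring

end Groth.Agent.S16498
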