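import Groth.Statements.S16500
import Mathlib

set_option autoImplicit false
universe u
open Curves

namespace Groth.Agent.S16500

/-- Let k be a field of odd characteristic p, g ≤ p a natural number and f ∈ k[x] of degree at most 2g +
2. Let F be f with its coefficients reversed in degrees 0, …, 2g + 2, i.e. F(X) = X^(2g+2) f(1/X)
(Mathlib's reflect (2g+2) f), and write f^((p-1)/2) = Σ_l c_l x^l and F^((p-1)/2) = Σ_l C_l X^l.
Then C_{ip-j} = c_{(g+1-i)p-(g+1-j)} for all i, j = 1, …, g; that is, the g × g Cartier–Manin matrix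
of F is that of f with the order of both rows and columns reversed (below the indices run over Fin
g, the entry at (i, j) being the coefficient of degree (i+1)p-(j+1), and reversal is Fin.rev). In
particular the two matrices have the same determinant. (The source applies this to f with f(0) = 0,
separable of degree 2g + 2 over a perfect field, so that F has odd degree 2g + 1; the identity uses
none of that.) -/
theorem result (k : Type u) [Field k] (p : ℕ) [Fact p.Prime] (hp : p ≠ 2) [CharP k p]
    (g : ℕ) (hg : g ≤ p) (f : Polynomial k) (hf : f.natDegree ≤ 2 * g + 2) :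
    (Matrix.of fun i j : Fin g =>
        ((Polynomial.reflect (2 * g + 2) f) ^ ((p - 1) / 2)).coeff (((i : ℕ) + 1) * p - ((j : ℕ) + 1))) =
      Matrix.of fun i j : Fin g =>
        (f ^ ((p - 1) / 2)).coeff (((Fin.rev i : ℕ) + 1) * p - ((Fin.rev j : ℕ) + 1)) := by
  have hpp : p.Prime := Fact.out
  have hpow : ∀ e : ℕ, (Polynomial.reflect (2 * g + 2) f) ^ e =
      Polynomial.reflect ((2 * g + 2) * e) (f ^ e) := by
    intro e
    induction e with
    | zero => simp
    | succ e ih =>
      rw [pow_succ, ih, pow_succ, Nat.mul_succ]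
      refine (Polynomial.reflect_mul (f ^ e) f ?_ hf).symm
      calc (f ^ e).natDegree ≤ e * f.natDegree := Polynomial.natDegree_pow_le
        _ ≤ e * (2 * g + 2) := Nat.mul_le_mul_left e hf
        _ = (2 * g + 2) * e := Nat.mul_comm _ _
  obtain ⟨e, he⟩ : ∃ e, p = 2 * e + 1 := by
    rcases hpp.eq_two_or_odd' with h2 | hodd
    · exact absurd h2 hp
    · obtain ⟨e, he⟩ := hodd
      exact ⟨e, he⟩
  have he2 : (p - 1) / 2 = e := by omega
  ext i j
  simp only [Matrix.of_apply]
  rw [he2, hpow, Polynomial.coeff_reflect]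
  have hi := i.2
  have hj := j.2
  have hri : (Fin.rev i : ℕ) = g - ((i : ℕ) + 1) := Fin.val_rev i
  have hrj : (Fin.rev j : ℕ) = g - ((j : ℕ) + 1) := Fin.val_rev j
  rw [hri, hrj]
  -- additive witnesses
  obtain ⟨a', ha'⟩ := Nat.exists_eq_add_of_le (show (i : ℕ) + 1 ≤ g from hi)
  obtain ⟨b', hb'⟩ := Nat.exists_eq_add_of_le (show (j : ℕ) + 1 ≤ g from hj)
  have h1 : (g - ((i : ℕ) + 1) + 1) = a' + 1 := by omega
  have h2 : (g - ((j : ℕ) + 1) + 1) = b' + 1 := by omega
  rw [h1, h2]
  have e1 : ((i : ℕ) + 1) * p + (a' + 1) * p = (g + 1) * p := by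
    rw [← Nat.add_mul]; congr 1; omega
  have e2 : (2 * g + 2) * e + (g + 1) = (g + 1) * p := by
    rw [he]; ring
  have e3 : p ≤ ((i : ℕ) + 1) * p := Nat.le_mul_of_pos_left p (Nat.succ_pos _)
  have e4 : p ≤ (a' + 1) * p := Nat.le_mul_of_pos_left p (Nat.succ_pos _)
  have hle : ((i : ℕ) + 1) * p - ((j : ℕ) + 1) ≤ (2 * g + 2) * e := by omega
  rw [Polynomial.revAt_le hle]
  congr 1
  omega

end Groth.Agent.S16500
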