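import Groth.Statements.S16515
import Mathlib

set_option autoImplicit false
universe u
open RatCurv

namespace Groth.Agent.S16515

open MvPolynomial

/-- exponent vectors of degree `d` in two variables are parametrised by `Fin (d+1)`. -/
noncomputable def degEquiv (d : ℕ) : {e : Fin 2 →₀ ℕ | e.degree = d} ≃ Fin (d + 1) where
  toFun e := ⟨e.1 0, by
    have h := e.2
    simp only [Set.mem_ofPred_eq, Finsupp.degree_eq_sum, Fin.sum_univ_two] at h
    omega⟩
  invFun t := ⟨Finsupp.single 0 (t : ℕ) + Finsupp.single 1 (d - t), by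
    have := t.isLt
    simp only [Set.mem_ofPred_eq, Finsupp.degree_eq_sum, Fin.sum_univ_two]
    simp
    omega⟩
  left_inv e := by
    have h := e.2
    simp only [Set.mem_ofPred_eq, Finsupp.degree_eq_sum, Fin.sum_univ_two] at h
    apply Subtype.ext
    ext i
    fin_cases i
    · simp
    · simp; omega
  right_inv t := by
    apply Fin.ext
    simp

theorem finrank_homog (K : Type u) [Field K] (d : ℕ) :
    Module.finrank K (homogeneousSubmodule (Fin 2) K d) = d + 1 := by
  rw [homogeneousSubmodule_eq_finsupp_supported]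
  rw [LinearEquiv.finrank_eq (AddMonoidAlgebra.supportedEquivFinsupp (R := K) (S := K)
    {e : Fin 2 →₀ ℕ | e.degree = d})]
  rw [LinearEquiv.finrank_eq (Finsupp.domLCongr (degEquiv d))]
  simp

theorem result (K : Type u) [Field K] (n r k : ℕ)
    (hkn : k ≤ n) (hineq : (r + 1) * (n + 1) ≤ (r + 2) * k)
    (U : Submodule K (MvPolynomial (Fin 2) K))
    (hU : U ≤ MvPolynomial.homogeneousSubmodule (Fin 2) K n)
    (hcodim : Module.finrank K ↥U + (r + 1) = n + 1) :
    ∃ g ∈ MvPolynomial.homogeneousSubmodule (Fin 2) K k, g ≠ 0 ∧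
      ∀ h ∈ MvPolynomial.homogeneousSubmodule (Fin 2) K (n - k), g * h ∈ U := by
  classical
  have fd : ∀ d, FiniteDimensional K (homogeneousSubmodule (Fin 2) K d) := fun d =>
    Module.finite_of_finrank_pos (by rw [finrank_homog]; omega)
  have fdk := fd k
  have fdm := fd (n - k)
  have fdn := fd n
  let U' : Submodule K (homogeneousSubmodule (Fin 2) K n) :=
    U.comap (homogeneousSubmodule (Fin 2) K n).subtype
  have hU' : Module.finrank K U' = Module.finrank K U :=
    (Submodule.comapSubtypeEquivOfLe hU).finrank_eq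
  have hQ : Module.finrank K (homogeneousSubmodule (Fin 2) K n ⧸ U') = r + 1 := by
    have := Submodule.finrank_quotient_add_finrank U'
    rw [finrank_homog, hU'] at this; omega
  have hmul : ∀ (g : homogeneousSubmodule (Fin 2) K k)
      (h : homogeneousSubmodule (Fin 2) K (n - k)),
      g.1 * h.1 ∈ homogeneousSubmodule (Fin 2) K n := by
    intro g h
    have := IsHomogeneous.mul ((mem_homogeneousSubmodule _ _).mp g.2)
      ((mem_homogeneousSubmodule _ _).mp h.2)
    rw [Nat.add_sub_cancel' hkn] at this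
    exact (mem_homogeneousSubmodule _ _).mpr this
  let M : homogeneousSubmodule (Fin 2) K k →ₗ[K] homogeneousSubmodule (Fin 2) K (n - k) →ₗ[K]
      homogeneousSubmodule (Fin 2) K n :=
    LinearMap.mk₂ K (fun g h => ⟨g.1 * h.1, hmul g h⟩)
      (fun g₁ g₂ h => Subtype.ext (by simp [add_mul]))
      (fun c g h => Subtype.ext (by simp))
      (fun g h₁ h₂ => Subtype.ext (by simp [mul_add]))
      (fun c g h => Subtype.ext (by simp))
  let Φ := M.compr₂ U'.mkQ
  have hlt : Module.finrank K (homogeneousSubmodule (Fin 2) K (n - k) →ₗ[K]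
      (homogeneousSubmodule (Fin 2) K n ⧸ U')) <
      Module.finrank K (homogeneousSubmodule (Fin 2) K k) := by
    rw [Module.finrank_linearMap, finrank_homog, finrank_homog, hQ]
    obtain ⟨a, rfl⟩ : ∃ a, n = k + a := ⟨n - k, by omega⟩
    rw [Nat.add_sub_cancel_left]
    nlinarith
  have hker := LinearMap.ker_ne_bot_of_finrank_lt (f := Φ) hlt
  obtain ⟨g, hgker, hg0⟩ := (Submodule.ne_bot_iff _).mp hker
  refine ⟨g.1, g.2, fun h0 => hg0 (Subtype.ext h0), ?_⟩
  intro h hh
  have h1 : Φ g ⟨h, hh⟩ = 0 := by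
    rw [LinearMap.mem_ker.mp hgker]; rfl
  have h2 : (⟨g.1 * h, hmul g ⟨h, hh⟩⟩ : homogeneousSubmodule (Fin 2) K n) ∈ U' :=
    (Submodule.Quotient.mk_eq_zero U').mp h1
  exact h2

end Groth.Agent.S16515
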