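import Groth.Statements.S16516
import Groth.Agent.S16515

set_option autoImplicit false
universe u
open RatCurv

namespace Groth.Agent.S16516

open MvPolynomial Groth.Agent.S16515

theorem result (K : Type u) [Field K] [IsAlgClosed K]
    [CharZero K] (V : Submodule K (MvPolynomial (Fin 2) K))
    (hV : V ≤ MvPolynomial.homogeneousSubmodule (Fin 2) K 5) (hdim : Module.finrank K ↥V = 5)
    (hsep : ∀ e ∈ MvPolynomial.homogeneousSubmodule (Fin 2) K 2, e ≠ 0 →
      ∀ F ∈ MvPolynomial.homogeneousSubmodule (Fin 2) K 5, ∃ v ∈ V,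
        ∃ h ∈ MvPolynomial.homogeneousSubmodule (Fin 2) K 3, F = v + e * h) :
    ∃ g ∈ MvPolynomial.homogeneousSubmodule (Fin 2) K 3, g ≠ 0 ∧
      (∀ h ∈ MvPolynomial.homogeneousSubmodule (Fin 2) K 2, g * h ∈ V) ∧
      ∀ g' ∈ MvPolynomial.homogeneousSubmodule (Fin 2) K 3,
        (∀ h ∈ MvPolynomial.homogeneousSubmodule (Fin 2) K 2, g' * h ∈ V) → ∃ c : K, g' = c • g := by
  classical
  have fd : ∀ d, FiniteDimensional K (homogeneousSubmodule (Fin 2) K d) := fun d =>
    Module.finite_of_finrank_pos (by rw [finrank_homog]; omega)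
  have fd2 := fd 2
  have fd3 := fd 3
  have fd5 := fd 5
  let V' : Submodule K (homogeneousSubmodule (Fin 2) K 5) :=
    V.comap (homogeneousSubmodule (Fin 2) K 5).subtype
  have hV' : Module.finrank K V' = Module.finrank K V :=
    (Submodule.comapSubtypeEquivOfLe hV).finrank_eq
  have hQ : Module.finrank K (homogeneousSubmodule (Fin 2) K 5 ⧸ V') = 1 := by
    have := Submodule.finrank_quotient_add_finrank V'
    rw [finrank_homog, hV', hdim] at this; omega
  let iso : (homogeneousSubmodule (Fin 2) K 5 ⧸ V') ≃ₗ[K] K :=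
    LinearEquiv.ofFinrankEq _ _ (by rw [hQ, Module.finrank_self])
  let lam : homogeneousSubmodule (Fin 2) K 5 →ₗ[K] K := iso.toLinearMap ∘ₗ V'.mkQ
  have hlam : ∀ x : homogeneousSubmodule (Fin 2) K 5, lam x = 0 ↔ x.1 ∈ V := by
    intro x
    show iso (V'.mkQ x) = 0 ↔ _
    rw [LinearEquiv.map_eq_zero_iff, Submodule.mkQ_apply, Submodule.Quotient.mk_eq_zero]
    rfl
  have hmul : ∀ (g : homogeneousSubmodule (Fin 2) K 3)
      (h : homogeneousSubmodule (Fin 2) K 2),
      g.1 * h.1 ∈ homogeneousSubmodule (Fin 2) K 5 := by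
    intro g h
    have := IsHomogeneous.mul ((mem_homogeneousSubmodule _ _).mp g.2)
      ((mem_homogeneousSubmodule _ _).mp h.2)
    exact (mem_homogeneousSubmodule _ _).mpr this
  let M : homogeneousSubmodule (Fin 2) K 3 →ₗ[K] homogeneousSubmodule (Fin 2) K 2 →ₗ[K]
      homogeneousSubmodule (Fin 2) K 5 :=
    LinearMap.mk₂ K (fun g h => ⟨g.1 * h.1, hmul g h⟩)
      (fun g₁ g₂ h => Subtype.ext (by simp [add_mul]))
      (fun c g h => Subtype.ext (by simp))
      (fun g h₁ h₂ => Subtype.ext (by simp [mul_add]))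
      (fun c g h => Subtype.ext (by simp))
  obtain ⟨Φ, hΦ⟩ : ∃ Φ : homogeneousSubmodule (Fin 2) K 3 →ₗ[K]
      Module.Dual K (homogeneousSubmodule (Fin 2) K 2), ∀ g h, Φ g h = 0 ↔ g.1 * h.1 ∈ V :=
    ⟨M.compr₂ lam, fun g h => hlam ⟨g.1 * h.1, hmul g h⟩⟩
  -- the coannihilator of the range is trivial
  have hco : (LinearMap.range Φ).dualCoannihilator = ⊥ := by
    rw [eq_bot_iff]
    intro e he
    rw [Submodule.mem_dualCoannihilator] at he
    rw [Submodule.mem_bot]
    by_contra hne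
    have hne' : e.1 ≠ 0 := fun h0 => hne (Subtype.ext h0)
    have hall : ∀ F ∈ homogeneousSubmodule (Fin 2) K 5, F ∈ V := by
      intro F hF
      obtain ⟨v, hv, h, hh, rfl⟩ := hsep e.1 e.2 hne' F hF
      refine V.add_mem hv ?_
      have := (hΦ ⟨h, hh⟩ e).mp (he _ ⟨⟨h, hh⟩, rfl⟩)
      rw [mul_comm]; exact this
    have : V = homogeneousSubmodule (Fin 2) K 5 := le_antisymm hV hall
    rw [this, finrank_homog] at hdim
    omega
  have h1 := LinearMap.finrank_range_add_finrank_ker Φ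
  have h2 := Subspace.finrank_add_finrank_dualCoannihilator_eq (LinearMap.range Φ)
  rw [hco, finrank_bot, finrank_homog] at h2
  rw [finrank_homog] at h1
  have hker : Module.finrank K (LinearMap.ker Φ) = 1 := by omega
  have : Module.Free K (LinearMap.ker Φ) := Module.Free.of_divisionRing K (LinearMap.ker Φ)
  obtain ⟨g₀, hg₀, hall⟩ := (finrank_eq_one_iff' (K := K) (V := LinearMap.ker Φ)).mp hker
  refine ⟨g₀.1.1, g₀.1.2, fun h0 => hg₀ (Subtype.ext (Subtype.ext h0)), ?_, ?_⟩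
  · intro h hh
    have h0 : Φ g₀.1 = 0 := LinearMap.mem_ker.mp g₀.2
    have : Φ g₀.1 ⟨h, hh⟩ = 0 := by
      rw [h0, LinearMap.zero_apply]
    exact (hΦ g₀.1 ⟨h, hh⟩).mp this
  · intro g' hg' hcond
    have hmem : (⟨g', hg'⟩ : homogeneousSubmodule (Fin 2) K 3) ∈ LinearMap.ker Φ := by
      rw [LinearMap.mem_ker]
      ext h
      exact (hΦ ⟨g', hg'⟩ h).mpr (hcond h.1 h.2)
    obtain ⟨c, hc⟩ := hall ⟨⟨g', hg'⟩, hmem⟩
    refine ⟨c, ?_⟩
    have := congrArg (fun x => x.1.1) hc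
    simpa using this.symm

end Groth.Agent.S16516
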