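import Groth.Statements.S16519
import Mathlib

set_option autoImplicit false
open CubicSurf

namespace Groth.Agent.S16519

set_option maxRecDepth 100000 in
theorem count72 : (Finset.univ.filter (fun x : Fin 5 × (Fin 6 → Fin 3) =>
    3 * (((x.1 : ℕ) : ℤ) + 1) - ∑ i, ((x.2 i : ℕ) : ℤ) = 3 ∧
      (((x.1 : ℕ) : ℤ) + 1) ^ 2 - ∑ i, ((x.2 i : ℕ) : ℤ) ^ 2 = 1)).card = 72 := by
  decide +kernel

theorem le_of_sum_eq {t : Fin 6 → ℤ} (ht : ∀ j, 0 ≤ t j) {T : ℤ} (hT : ∑ j, t j = T) (i : Fin 6) :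
    t i ≤ T := by
  rw [← hT]
  exact Finset.single_le_sum (fun j _ => ht j) (Finset.mem_univ i)

theorem bounds (a : ℤ) (b : Fin 6 → ℤ) (h1 : 3 * a - ∑ i, b i = 3)
    (h2 : a ^ 2 - ∑ i, b i ^ 2 = 1) :
    1 ≤ a ∧ a ≤ 5 ∧ ∀ i, 0 ≤ b i ∧ b i ≤ 2 := by
  have hs1 : ∑ i, b i = 3 * a - 3 := by linarith
  have hs2 : ∑ i, b i ^ 2 = a ^ 2 - 1 := by linarith
  have hcs := sq_sum_le_card_mul_sum_sq (s := (Finset.univ : Finset (Fin 6))) (f := b)
  rw [hs1, hs2] at hcs
  simp only [Finset.card_univ, Fintype.card_fin, Nat.cast_ofNat] at hcs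
  have ha1 : 1 ≤ a := by nlinarith
  have ha5 : a ≤ 5 := by nlinarith
  refine ⟨ha1, ha5, ?_⟩
  intro i
  interval_cases a
  · -- a = 1 : sum of squares is zero
    have := le_of_sum_eq (t := fun j => b j ^ 2) (fun j => sq_nonneg _) (T := 0) (by simpa using hs2) i
    constructor <;> nlinarith
  · -- a = 2
    have hsum : ∑ j, b j * (b j - 1) = 0 := by
      have : ∀ j, b j * (b j - 1) = b j ^ 2 - b j := fun j => by ring
      simp only [this, Finset.sum_sub_distrib, hs1, hs2]; norm_num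
    have hnn : ∀ j, 0 ≤ b j * (b j - 1) := by
      intro j
      rcases le_or_gt (b j) 0 with h | h
      · nlinarith
      · have : 1 ≤ b j := h
        nlinarith
    have := le_of_sum_eq hnn hsum i
    constructor
    · by_contra hc; push Not at hc; have : b i ≤ -1 := by omega
      nlinarith
    · by_contra hc; push Not at hc; have : 3 ≤ b i := by omega
      nlinarith
  · -- a = 3
    have hsum : ∑ j, (b j - 1) ^ 2 = 2 := by
      have : ∀ j, (b j - 1) ^ 2 = b j ^ 2 - 2 * b j + 1 := fun j => by ring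
      simp only [this, Finset.sum_add_distrib, Finset.sum_sub_distrib, ← Finset.mul_sum, hs1, hs2]
      simp
    have := le_of_sum_eq (fun j => sq_nonneg _) hsum i
    constructor
    · by_contra hc; push Not at hc; have : b i ≤ -1 := by omega
      nlinarith
    · by_contra hc; push Not at hc; have : 3 ≤ b i := by omega
      nlinarith
  · -- a = 4
    have hsum : ∑ j, (b j - 1) * (b j - 2) = 0 := by
      have : ∀ j, (b j - 1) * (b j - 2) = b j ^ 2 - 3 * b j + 2 := fun j => by ring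
      simp only [this, Finset.sum_add_distrib, Finset.sum_sub_distrib, ← Finset.mul_sum, hs1, hs2]
      simp
    have hnn : ∀ j, 0 ≤ (b j - 1) * (b j - 2) := by
      intro j
      rcases le_or_gt (b j) 1 with h | h
      · nlinarith
      · have : 2 ≤ b j := h
        nlinarith
    have := le_of_sum_eq hnn hsum i
    constructor
    · by_contra hc; push Not at hc; have : b i ≤ -1 := by omega
      nlinarith
    · by_contra hc; push Not at hc; have : 3 ≤ b i := by omega
      nlinarith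
  · -- a = 5
    have hsum : ∑ j, (b j - 2) ^ 2 = 0 := by
      have : ∀ j, (b j - 2) ^ 2 = b j ^ 2 - 4 * b j + 4 := fun j => by ring
      simp only [this, Finset.sum_add_distrib, Finset.sum_sub_distrib, ← Finset.mul_sum, hs1, hs2]
      simp
    have := le_of_sum_eq (fun j => sq_nonneg _) hsum i
    constructor <;> nlinarith

theorem result :
    {p : ℤ × (Fin 6 → ℤ) | 3 * p.1 - (Finset.univ.sum fun i => p.2 i) = 3 ∧
        p.1 ^ 2 - (Finset.univ.sum fun i => p.2 i ^ 2) = 1}.ncard = 72 := by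
  set F : Fin 5 × (Fin 6 → Fin 3) → ℤ × (Fin 6 → ℤ) :=
    fun x => (((x.1 : ℕ) : ℤ) + 1, fun i => ((x.2 i : ℕ) : ℤ)) with hF
  have hinj : Function.Injective F := by
    intro x y hxy
    simp only [hF, Prod.mk.injEq] at hxy
    obtain ⟨h1, h2⟩ := hxy
    apply Prod.ext
    · apply Fin.ext; omega
    · funext i
      have := congrFun h2 i
      apply Fin.ext; omega
  have hS : {p : ℤ × (Fin 6 → ℤ) | 3 * p.1 - (Finset.univ.sum fun i => p.2 i) = 3 ∧
        p.1 ^ 2 - (Finset.univ.sum fun i => p.2 i ^ 2) = 1} =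
      F '' ↑(Finset.univ.filter (fun x : Fin 5 × (Fin 6 → Fin 3) =>
        3 * (((x.1 : ℕ) : ℤ) + 1) - ∑ i, ((x.2 i : ℕ) : ℤ) = 3 ∧
        (((x.1 : ℕ) : ℤ) + 1) ^ 2 - ∑ i, ((x.2 i : ℕ) : ℤ) ^ 2 = 1)) := by
    ext ⟨a, b⟩
    constructor
    · rintro ⟨h1, h2⟩
      obtain ⟨ha1, ha5, hb⟩ := bounds a b h1 h2
      refine ⟨(⟨(a - 1).toNat, by omega⟩, fun i => ⟨(b i).toNat, by have := hb i; omega⟩), ?_, ?_⟩
      · have e1 : (((a - 1).toNat : ℕ) : ℤ) + 1 = a := by omega
        have e2 : ∀ i, (((b i).toNat : ℕ) : ℤ) = b i := fun i => by have := hb i; omega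
        simp only [Finset.coe_filter, Finset.mem_univ, true_and, Set.mem_ofPred_eq, e1, e2]
        exact ⟨h1, h2⟩
      · simp only [hF]
        apply Prod.ext
        · simp only; omega
        · funext i
          have := hb i
          simp only; omega
    · rintro ⟨x, hx, hxe⟩
      simp only [Finset.coe_filter, Finset.mem_univ, true_and, Set.mem_ofPred_eq] at hx
      simp only [hF, Prod.mk.injEq] at hxe
      obtain ⟨rfl, rfl⟩ := hxe
      exact hx
  rw [hS, Set.ncard_image_of_injective _ hinj, Set.ncard_coe_finset]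
  exact count72

end Groth.Agent.S16519
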