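import Groth.Statements.S1652
-- import your own Groth.Agent.* helpers here
import Groth.Agent.Lib.Helper23.GammaField
import Groth.Agent.Lib.Helper23.CurveC
import Groth.Agent.Lib.Helper3.InvTensor
import Groth.Agent.Lib.Helper3.TwistMul

set_option autoImplicit false
universe u
open CategoryTheory CategoryTheory.Limits AlgebraicGeometry
open Variety

namespace Groth.Agent.S1652

open Groth.Agent.Lib.Helper3 Groth.Agent.Lib.Helper3.QCSec Groth.Agent.Lib.Helper3.InvGen Groth.Agent.Lib.Helper3.InvTensor

/-- On a proper curve over a field, if L and M are invertible modules with L ⊗ M ≅ O_X and both L and M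
have a nonzero global section, then L is isomorphic to the structure sheaf. -/
theorem result (k : Type u) [Field k] (X : Scheme.{u}) [X.Over (Spec (CommRingCat.of k))]
    [IsIntegral X] [IsProper (X ↘ (Spec (CommRingCat.of k)))] (hdim : topologicalKrullDim X = 1)
    (L M : X.Modules) (hL : PicF.IsInvertible L) (hM : PicF.IsInvertible M) (hLM : ClSub.IsInverseOf L M)
    (s : Coh.structureModule X ⟶ L) (hs : s ≠ 0) (t : Coh.structureModule X ⟶ M) (ht : t ≠ 0) :
    Nonempty (L ≅ Coh.structureModule X) := by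
  classical
  obtain ⟨φ⟩ := hLM
  have hO := Groth.Agent.Lib.Helper3.InvGen.isInvertible_structureModule X
  haveI hms : Mono s := Groth.Agent.Lib.Helper23.Curve.mono_of_ne_zero hO hL s hs
  haveI hmt : Mono t := Groth.Agent.Lib.Helper23.Curve.mono_of_ne_zero hO hM t ht
  have hf : IsField Γ(X, ⊤) := Groth.Agent.Lib.Helper23.GammaField.isField_gamma k X
  -- nonvanishing of sections on nonempty opens
  have hsec_ne : ∀ {N : X.Modules} (v : Coh.structureModule X ⟶ N) [Mono v] (U : X.Opens),
      (U : Set X).Nonempty → sec v U ≠ 0 := by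
    intro N v _ U hU h0
    obtain ⟨y, hy⟩ := hU
    haveI : Nonempty U := ⟨⟨y, hy⟩⟩
    haveI : Nontrivial Γ(X, U) := Scheme.component_nontrivial X U
    have h1 : v.app U (ofFun U 1) = (1 : Γ(X, U)) • sec v U := app_eq_smul_sec v U 1
    rw [h0, smul_zero] at h1
    have h2 : v.app U (ofFun U 1) = v.app U 0 := by rw [h1, QCExact.app_zero]
    have h3 := QCExact.injective_sections v U h2
    exact (one_ne_zero (α := Γ(X, U))) (ofFun_injective U h3)
  -- the global function
  let ω : Γ(Coh.structureModule X, ⊤) := φ.hom.app ⊤ (tm L M ⊤ (sec s ⊤) (sec t ⊤))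
  let f : Γ(X, ⊤) := toFun ⊤ ω
  -- local description
  have key : ∀ x : X, ∃ (U : X.Opens) (e : Γ(L, U)) (a c : Γ(X, U)), x ∈ U ∧ IsGen L U e ∧
      sec s U = a • e ∧ rres X (le_top : U ≤ ⊤) f = a * c ∧ a ≠ 0 ∧ c ≠ 0 := by
    intro x
    obtain ⟨U₁, e₁, _, hx₁, hg₁⟩ := exists_affine_isGen hL x
    obtain ⟨U, e', _, hxU, hUU₁, hg'⟩ := exists_affine_isGen_le hM x U₁ hx₁
    have hg : IsGen L U (res L hUU₁ e₁) := hg₁.mono hUU₁
    haveI : Nonempty U := ⟨⟨x, hxU⟩⟩
    haveI : IsDomain Γ(X, U) := IsIntegral.component_integral (X := X) U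
    obtain ⟨a, ha⟩ := hg.self.exists_coord (sec s U)
    obtain ⟨b, hb⟩ := hg'.self.exists_coord (sec t U)
    have hgt : IsGenAt (CohB1.tensorMod L M) U (tm L M U (res L hUU₁ e₁) e') :=
      (isGen_tm hg hg').self
    -- the image of the generator under `φ`
    have hbij : Function.Bijective (φ.hom.app U) := by
      constructor
      · intro p q hpq
        have h1 : φ.inv.app U (φ.hom.app U p) = p :=
          congrArg (fun ψ : CohB1.tensorMod L M ⟶ CohB1.tensorMod L M =>
            Scheme.Modules.Hom.app ψ U p) φ.hom_inv_id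
        have h2 : φ.inv.app U (φ.hom.app U q) = q :=
          congrArg (fun ψ : CohB1.tensorMod L M ⟶ CohB1.tensorMod L M =>
            Scheme.Modules.Hom.app ψ U q) φ.hom_inv_id
        rw [← h1, ← h2, hpq]
      · intro q
        refine ⟨φ.inv.app U q, ?_⟩
        exact congrArg (fun ψ : Coh.structureModule X ⟶ Coh.structureModule X =>
            Scheme.Modules.Hom.app ψ U q) φ.inv_hom_id
    have hφg : IsGenAt (Coh.structureModule X) U
        (φ.hom.app U (tm L M U (res L hUU₁ e₁) e')) := by
      have : (fun r : Γ(X, U) => r • φ.hom.app U (tm L M U (res L hUU₁ e₁) e')) =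
          (φ.hom.app U) ∘ (fun r : Γ(X, U) => r • tm L M U (res L hUU₁ e₁) e') := by
        funext r
        exact (Scheme.Modules.Hom.app_smul φ.hom r _).symm
      unfold IsGenAt
      rw [this]
      exact hbij.comp hgt
    obtain ⟨u, hu, hu'⟩ := (isGenAt_one (X := X) U).exists_unit hφg
    refine ⟨U, res L hUU₁ e₁, a, b * u, hxU, hg, ha.symm, ?_, ?_, ?_⟩
    · -- computation of the restriction of `f`
      have h1 : res (Coh.structureModule X) (le_top : U ≤ ⊤) ω =
          φ.hom.app U (tm L M U (sec s U) (sec t U)) := by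
        show res (Coh.structureModule X) (le_top : U ≤ ⊤)
          (φ.hom.app ⊤ (tm L M ⊤ (sec s ⊤) (sec t ⊤))) = _
        rw [← QCExact.app_res', tm_res, res_sec, res_sec]
      have h2 : φ.hom.app U (tm L M U (sec s U) (sec t U)) = ofFun U (a * (b * u)) := by
        rw [← ha, ← hb, tm_smul_left, tm_smul_right, Scheme.Modules.Hom.app_smul,
          Scheme.Modules.Hom.app_smul, hu', smul_ofFun, smul_ofFun, smul_ofFun, mul_one]
      have h3 : rres X (le_top : U ≤ ⊤) f = toFun U (res (Coh.structureModule X)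
          (le_top : U ≤ ⊤) ω) := rfl
      rw [h3, h1, h2]
      rfl
    · intro ha0
      apply hsec_ne s U ⟨x, hxU⟩
      rw [← ha, ha0, zero_smul]
    · intro hc0
      have hb0 : b = 0 := by
        rcases mul_eq_zero.mp hc0 with h | h
        · exact h
        · exact absurd h hu.ne_zero
      apply hsec_ne t U ⟨x, hxU⟩
      rw [← hb, hb0, zero_smul]
  -- `f` is a unit
  have hfne : f ≠ 0 := by
    obtain ⟨x₀⟩ := (inferInstance : Nonempty X)
    obtain ⟨U, e, a, c, hxU, _, _, hfac, ha, hc⟩ := key x₀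
    haveI : Nonempty U := ⟨⟨x₀, hxU⟩⟩
    haveI : IsDomain Γ(X, U) := IsIntegral.component_integral (X := X) U
    intro h0
    rw [h0] at hfac
    have : rres X (le_top : U ≤ ⊤) (0 : Γ(X, ⊤)) = 0 := map_zero _
    rw [this] at hfac
    exact mul_ne_zero ha hc hfac.symm
  have hfu : IsUnit f := by
    letI := hf.toField
    exact isUnit_iff_ne_zero.mpr hfne
  -- `s` generates `L`
  have hgen : IsGen L ⊤ (sec s ⊤) := by
    apply isGen_of_local
    intro x _
    obtain ⟨U, e, a, c, hxU, hg, hsa, hfac, _, _⟩ := key x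
    refine ⟨U, le_top, hxU, ?_⟩
    rw [res_sec, hsa]
    apply hg.smul_unit
    have h1 : IsUnit (rres X (le_top : U ≤ ⊤) f) := rres_isUnit _ hfu
    rw [hfac] at h1
    exact isUnit_of_mul_isUnit_left h1
  haveI : IsIso s := by
    apply Groth.Agent.Lib.Helper3.TwistMul.isIso_of_locally_bijective s
    intro x
    refine ⟨⊤, trivial, fun V _ => ?_⟩
    rw [bijective_app_iff]
    have := hgen V le_top
    rwa [res_sec] at this
  exact ⟨(asIso s).symm⟩

end Groth.Agent.S1652
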