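import Groth.Statements.S1654
import Mathlib
import Groth.Agent.S1670
import Groth.Agent.S1546
import Groth.Agent.Lib.Helper11.GalDescent

set_option autoImplicit false
universe u
open CategoryTheory CategoryTheory.Limits AlgebraicGeometry
open Variety

namespace Groth.Agent.S1654

open Groth.Agent.Lib.Helper11.FBaseLib Groth.Agent.Lib.Helper11.FBaseLib2
  Groth.Agent.Lib.Helper11.BcLevels Groth.Agent.Lib.Helper11.GeomSep
  Groth.Agent.Lib.Helper11.SepFibre Groth.Agent.Lib.Helper11.GalComp
  Groth.Agent.Lib.Helper11.GalDescent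

/-- the image of a generic point under a Galois automorphism is the generic point of the image -/
theorem isGenericPoint_bcHom {k : Type u} [Field k] {X : Scheme.{u}}
    (a : X ⟶ Spec (CommRingCat.of k)) {K : Type u} [Field K] [Algebra k K] (σ : K ≃ₐ[k] K)
    {T' : Set ↥(FBase.bc a K)} {η : ↥(FBase.bc a K)} (hη : IsGenericPoint η T') :
    IsGenericPoint ((bcHom a (σ : K →ₐ[k] K)) η) ((bcHom a (σ : K →ₐ[k] K)) '' T') := by
  show closure {(bcHom a (σ : K →ₐ[k] K)) η} = _
  rw [← hη.def]
  have h := (galHomeo a σ).image_closure {η}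
  rw [Set.image_singleton] at h
  exact h.symm

/-- if the automorphisms fixing `L` fix all components of `X_K`, then every irreducible component of
`X_L` is geometrically irreducible -/
theorem geomIrred_component {k : Type u} [Field k] {X : Scheme.{u}}
    (a : X ⟶ Spec (CommRingCat.of k)) [LocallyOfFiniteType a] (K : Type u) [Field K] [Algebra k K]
    [IsSepClosed K] [Algebra.IsIntegral k K] [Normal k K] (L : IntermediateField k K)
    (hLfix : ∀ σ : K ≃ₐ[k] K, (∀ x ∈ L, σ x = x) →
      ∀ T' ∈ irreducibleComponents ↥(FBase.bc a K), (bcHom a (σ : K →ₐ[k] K)) '' T' = T')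
    {Z : Scheme.{u}} (i : Z ⟶ FBase.bc a ↥L) [IsClosedImmersion i]
    (hT : Set.range i ∈ irreducibleComponents ↥(FBase.bc a ↥L)) :
    GeometricallyIrreducible (i ≫ FBase.bcStr a ↥L) := by
  haveI : LocallyOfFiniteType (FBase.bcStr a ↥L) :=
    MorphismProperty.pullback_snd (P := @LocallyOfFiniteType) a _ inferInstance
  haveI : Algebra.IsIntegral ↥L K := Algebra.IsIntegral.tower_top (R := k)
  haveI : Normal ↥L K := Normal.tower_top_of_normal k ↥L K
  have hmain := Groth.Agent.S1670.main (FBase.bcStr a ↥L) K (Set.range i) hT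
  let eh := Scheme.homeoOfIso (towerIso a ↥L K)
  have hcomm : ∀ (τ : K ≃ₐ[↥L] K) (z : ↥(FBase.bc a K)),
      eh ((bcHom a ((τ.restrictScalars k : K ≃ₐ[k] K) : K →ₐ[k] K)) z) =
        (bcHom (FBase.bcStr a ↥L) (τ : K →ₐ[↥L] K)) (eh z) := by
    intro τ z
    have h1 := towerIso_comm a ↥L K τ
    show (towerIso a ↥L K).hom ((bcHom a _) z) = (bcHom (FBase.bcStr a ↥L) _) ((towerIso a ↥L K).hom z)
    rw [← Scheme.Hom.comp_apply, ← Scheme.Hom.comp_apply, h1]
  have hinv : ∀ (τ : K ≃ₐ[↥L] K), ∀ T'' ∈ irreducibleComponents ↥(FBase.bc (FBase.bcStr a ↥L) K),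
      (bcHom (FBase.bcStr a ↥L) (τ : K →ₐ[↥L] K)) '' T'' = T'' := by
    intro τ T'' hT''
    have hT' : eh ⁻¹' T'' ∈ irreducibleComponents ↥(FBase.bc a K) := by
      refine preimage_mem_irreducibleComponents hT'' eh.isOpenEmbedding ?_
      rw [eh.surjective.range_eq, Set.inter_univ]
      exact hT''.1.1
    have h1 := hLfix (τ.restrictScalars k) (fun x hx => τ.commutes ⟨x, hx⟩) _ hT'
    calc (bcHom (FBase.bcStr a ↥L) (τ : K →ₐ[↥L] K)) '' T''
        = (bcHom (FBase.bcStr a ↥L) (τ : K →ₐ[↥L] K)) '' (eh '' (eh ⁻¹' T'')) := by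
          rw [eh.image_preimage]
      _ = eh '' ((bcHom a ((τ.restrictScalars k : K ≃ₐ[k] K) : K →ₐ[k] K)) '' (eh ⁻¹' T'')) := by
          rw [Set.image_image, Set.image_image]
          exact Set.image_congr (fun z _ => (hcomm τ z).symm)
      _ = eh '' (eh ⁻¹' T'') := by rw [h1]
      _ = T'' := eh.image_preimage T''
  -- the set of components over `T` is a singleton
  obtain ⟨y₀, hy₀⟩ : (Set.range i).Nonempty := hT.1.1
  obtain ⟨z₀, hz₀⟩ := (FBase.bcπ (FBase.bcStr a ↥L) K).surjective y₀
  have hz₀mem : z₀ ∈ (FBase.bcπ (FBase.bcStr a ↥L) K) ⁻¹' (Set.range i) := by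
    show (FBase.bcπ (FBase.bcStr a ↥L) K) z₀ ∈ Set.range i
    rw [hz₀]
    exact hy₀
  rw [hmain.2.1] at hz₀mem
  obtain ⟨T', hT'S, -⟩ := hz₀mem
  have hS : {T' : Set ↥(FBase.bc (FBase.bcStr a ↥L) K) |
      T' ∈ irreducibleComponents ↥(FBase.bc (FBase.bcStr a ↥L) K) ∧
        (FBase.bcπ (FBase.bcStr a ↥L) K) '' T' ⊆ Set.range i} = {T'} := by
    ext T''
    constructor
    · intro hT''
      obtain ⟨σ, hσ⟩ := hmain.2.2 T' T'' hT'S.1 hT''.1 hT'S.2 hT''.2
      rw [hinv σ T' hT'S.1] at hσ
      exact hσ.symm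
    · rintro rfl
      exact hT'S
  have hpre : IsIrreducible ((FBase.bcπ (FBase.bcStr a ↥L) K) ⁻¹' (Set.range i)) := by
    rw [hmain.2.1, hS, Set.sUnion_singleton]
    exact hT'S.1.1
  haveI := irreducibleSpace_bc_comp (FBase.bcStr a ↥L) i K hpre
  exact geometricallyIrreducible_of_isSepClosed (i ≫ FBase.bcStr a ↥L) K

/-- Let X be a k-scheme locally of finite type, having only finitely many irreducible components. There
is then a finite separable extension k' of k such that every irreducible component of X_{k'}, with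
its reduced induced structure, is geometrically irreducible over k'. -/
theorem result (k : Type u) [Field k] (X : Scheme.{u}) [X.Over (Spec (CommRingCat.of k))] [LocallyOfFiniteType (X ↘ (Spec (CommRingCat.of k)))]
    (hirr : (irreducibleComponents (X : Type u)).Finite) :
    ∃ (k' : Type u) (_ : Field k') (_ : Algebra k k'), FiniteDimensional k k' ∧ Algebra.IsSeparable k k' ∧
      ∀ (T : Set (Curv2.bc k X k')) (hT : T ∈ irreducibleComponents (Curv2.bc k X k' : Type u)),
        GeometricallyIrreducible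
          ((Scheme.IdealSheafData.vanishingIdeal ⟨T, isClosed_of_mem_irreducibleComponents T hT⟩).subschemeι ≫
            Curv2.bcSnd k X k') := by

  classical
  let a := X ↘ Spec (CommRingCat.of k)
  let K := SeparableClosure k
  let p := FBase.bcπ a K
  -- finitely many components of `X_K`
  have hfin : (irreducibleComponents ↥(FBase.bc a K)).Finite := by
    have hsub : irreducibleComponents ↥(FBase.bc a K) ⊆
        ⋃ T ∈ irreducibleComponents (X : Type u),
          {T' : Set ↥(FBase.bc a K) | T' ∈ irreducibleComponents ↥(FBase.bc a K) ∧ p '' T' ⊆ T} := by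
      intro T' hT'
      have h1 := (Groth.Agent.S1546.result k X K).1 T' hT'
      exact Set.mem_biUnion h1 ⟨hT', subset_rfl⟩
    exact (hirr.biUnion (fun T hT => (Groth.Agent.S1670.main a K T hT).1)).subset hsub
  haveI : Finite ↥(irreducibleComponents ↥(FBase.bc a K)) := hfin.to_subtype
  have hgp : ∀ T' : ↥(irreducibleComponents ↥(FBase.bc a K)), ∃ η, IsGenericPoint η T'.1 :=
    fun T' => QuasiSober.sober T'.2.1 (isClosed_of_mem_irreducibleComponents _ T'.2)
  choose η hη using hgp
  have hE : (Set.range η).Finite := Set.finite_range η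
  have hEinv : ∀ (T' : ↥(irreducibleComponents ↥(FBase.bc a K))) (σ : K ≃ₐ[k] K),
      (bcHom a (σ : K →ₐ[k] K)) (η T') ∈ Set.range η := by
    intro T' σ
    have hc := image_mem_irreducibleComponents_bcHom a σ T'.2
    exact ⟨⟨_, hc⟩, (hη ⟨_, hc⟩).eq (isGenericPoint_bcHom a σ (hη T'))⟩
  choose Lf hLf hfix using fun T' => exists_level_fixing a K (Set.range η) hE (η T') (hEinv T')
  haveI : ∀ T', FiniteDimensional k (Lf T') := hLf
  let L : IntermediateField k K := ⨆ T', Lf T'
  have hLfix : ∀ σ : K ≃ₐ[k] K, (∀ x ∈ L, σ x = x) →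
      ∀ T' ∈ irreducibleComponents ↥(FBase.bc a K), (bcHom a (σ : K →ₐ[k] K)) '' T' = T' := by
    intro σ hσ T' hT'
    have h1 := hfix ⟨T', hT'⟩ σ (fun x hx => hσ x (le_iSup Lf ⟨T', hT'⟩ hx))
    have h2 := isGenericPoint_bcHom a σ (hη ⟨T', hT'⟩)
    rw [h1] at h2
    exact h2.def.symm.trans (hη ⟨T', hT'⟩).def
  refine ⟨↥L, inferInstance, inferInstance, inferInstance, inferInstance, ?_⟩
  show ∀ (T : Set ↥(FBase.bc a ↥L)) (hT : T ∈ irreducibleComponents ↥(FBase.bc a ↥L)),
    GeometricallyIrreducible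
      (((Scheme.IdealSheafData.vanishingIdeal
        (⟨T, isClosed_of_mem_irreducibleComponents T hT⟩ : TopologicalSpace.Closeds ↥(FBase.bc a ↥L))).subschemeι :
          _ ⟶ FBase.bc a ↥L) ≫ FBase.bcStr a ↥L)
  intro T hT
  have hrange : Set.range ((Scheme.IdealSheafData.vanishingIdeal
        (⟨T, isClosed_of_mem_irreducibleComponents T hT⟩ : TopologicalSpace.Closeds ↥(FBase.bc a ↥L))).subschemeι :
          _ ⟶ FBase.bc a ↥L) = T := by
    rw [Scheme.IdealSheafData.range_subschemeι, Scheme.IdealSheafData.coe_support_vanishingIdeal]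
    rfl
  exact geomIrred_component a K L hLfix _ (by rw [hrange]; exact hT)

end Groth.Agent.S1654
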