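import Groth.Statements.S16548
-- import your own Groth.Agent.* helpers here
import Mathlib
import Groth.Agent.Lib.Helper22.CurveOmega2

set_option autoImplicit false
universe u
open CategoryTheory CategoryTheory.Limits AlgebraicGeometry
attribute [local instance] Curv2.resAlgebra
open Curves

namespace Groth.Agent.S16548

/-- Let k be a field, X and Y smooth over k of relative dimension one (not necessarily proper), f : X ->
Y a finite k-morphism and x a closed point of X, with y = f(x). Suppose f is tamely ramified at x:
m_y O_{X,x} = m_x^e for an integer e ≥ 2 prime to the characteristic of k, and κ(x) is separable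
over κ(y). Then κ(x) is separable over k. (Consequently the field generated over k by the residue
fields of all such points is Galois over k.) -/
theorem result (k : Type u) [Field k]
    (X Y : Scheme.{u}) [X.Over (Spec (CommRingCat.of k))] [Y.Over (Spec (CommRingCat.of k))]
    [SmoothOfRelativeDimension 1 (X ↘ Spec (CommRingCat.of k))]
    [SmoothOfRelativeDimension 1 (Y ↘ Spec (CommRingCat.of k))]
    (f : X ⟶ Y) [IsFinite f] (hf : f ≫ (Y ↘ Spec (CommRingCat.of k)) = X ↘ Spec (CommRingCat.of k))
    (x : X) (hx : IsClosed ({x} : Set X)) (e : ℕ)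
    (he : (IsLocalRing.maximalIdeal (Y.presheaf.stalk (f.base x))).map (f.stalkMap x).hom =
      IsLocalRing.maximalIdeal (X.presheaf.stalk x) ^ e)
    (h2 : 2 ≤ e) (hp : ¬ ringChar k ∣ e)
    (hsep : @Algebra.IsSeparable (Y.residueField (f.base x)) (X.residueField x) _ _
      (f.residueFieldMap x).hom.toAlgebra) :
    Algebra.IsSeparable k (X.residueField x) := by
  classical
  obtain ⟨VX, hVX, WX, hWX, hxWX, eX, hstdX⟩ :=
    (inferInstance : SmoothOfRelativeDimension 1
      (X ↘ Spec (CommRingCat.of k))).exists_isStandardSmoothOfRelativeDimension x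
  obtain ⟨hN, hFS, hfree, hfin, hrank⟩ :=
    Groth.Agent.Lib.Helper22.CurveOmega.stalk_data_of_chart k X x 1 VX WX hWX hxWX eX hstdX
  obtain ⟨hEssX, hneX⟩ :=
    Groth.Agent.Lib.Helper22.CurveOmega.stalk_data_closed k X x hx 0 VX WX hWX hxWX eX hstdX
  letI algkB : Algebra k (X.presheaf.stalk x) := Curv2.stalkAlgebra k X x
  letI algkA : Algebra k (Y.presheaf.stalk (f.base x)) := Curv2.stalkAlgebra k Y (f.base x)
  letI algAB : Algebra (Y.presheaf.stalk (f.base x)) (X.presheaf.stalk x) :=
    (f.stalkMap x).hom.toAlgebra
  haveI : IsScalarTower k (Y.presheaf.stalk (f.base x)) (X.presheaf.stalk x) :=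
    IsScalarTower.of_algebraMap_eq (fun c =>
      (Groth.Agent.Lib.Helper22.CurveOmega.stalkMap_stalkMap k (X ↘ Spec (CommRingCat.of k))
        (Y ↘ Spec (CommRingCat.of k)) f hf x c).symm)
  haveI : IsLocalHom (algebraMap (Y.presheaf.stalk (f.base x)) (X.presheaf.stalk x)) :=
    inferInstanceAs (IsLocalHom (f.stalkMap x).hom)
  haveI : Algebra.EssFiniteType (Y.presheaf.stalk (f.base x)) (X.presheaf.stalk x) := by
    rw [← RingHom.essFiniteType_algebraMap, RingHom.algebraMap_toAlgebra]
    exact LocallyOfFiniteType.stalkMap f x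
  haveI := hN
  haveI := hfin
  haveI := hfree
  haveI := hEssX
  have hrankκ : Module.finrank (IsLocalRing.ResidueField (X.presheaf.stalk x))
      (TensorProduct (X.presheaf.stalk x) (IsLocalRing.ResidueField (X.presheaf.stalk x))
        (Ω[X.presheaf.stalk x⁄k])) = 1 := by
    rw [Module.finrank_baseChange, hrank]
  haveI : Algebra.IsSeparable (IsLocalRing.ResidueField (Y.presheaf.stalk (f.base x)))
      (IsLocalRing.ResidueField (X.presheaf.stalk x)) := by
    convert! hsep
    refine Algebra.algebra_ext _ _ fun y => ?_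
    obtain ⟨y, rfl⟩ := IsLocalRing.residue_surjective y
    rfl
  letI algkκ : Algebra k (IsLocalRing.ResidueField (X.presheaf.stalk x)) := Curv2.resAlgebra k X x
  haveI : IsScalarTower k (X.presheaf.stalk x) (IsLocalRing.ResidueField (X.presheaf.stalk x)) :=
    IsScalarTower.of_algebraMap_eq (fun _ => rfl)
  exact Groth.Agent.Lib.Helper22.CurveOmega.isSeparable_of_ramified k
    (Y.presheaf.stalk (f.base x)) (X.presheaf.stalk x) hrankκ hneX e h2 he

end Groth.Agent.S16548
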