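import Groth.Statements.S16551
import Groth.Agent.Lib.Helper6.GoingDownNormal

set_option autoImplicit false
universe u
open CategoryTheory CategoryTheory.Limits AlgebraicGeometry
open Models

namespace Groth.Agent.S16551

/-- Let R be a discrete valuation ring, W and Z integral normal schemes which are flat, of finite type
and of dimension 2 over Spec R, and ψ : W -> Z a finite surjective R-morphism. Let z be a closed
point of Z lying in the special fibre, w a point of W with ψ(w) = z, and Δ an irreducible component
of the special fibre of Z with z ∈ Δ. Then some irreducible component Γ of the special fibre of W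
contains w and satisfies ψ(Γ) = Δ. (The published statement asks W and Z only to be normal; they are
taken integral as well here.) -/
theorem result
    (R : Type u) [CommRing R] [IsDomain R] [IsDiscreteValuationRing R]
    (W Z : Over (Spec (CommRingCat.of R))) [IsIntegral W.left] [IsIntegral Z.left]
    (hWn : Pi1.IsNormalScheme W.left) (hZn : Pi1.IsNormalScheme Z.left)
    [Flat W.hom] [LocallyOfFiniteType W.hom] [QuasiCompact W.hom]
    [Flat Z.hom] [LocallyOfFiniteType Z.hom] [QuasiCompact Z.hom]
    (hdW : topologicalKrullDim W.left = 2) (hdZ : topologicalKrullDim Z.left = 2)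
    (ψ : W ⟶ Z) [IsFinite ψ.left] [Surjective ψ.left]
    (z : Z.left) (hzc : IsClosed ({z} : Set Z.left)) (hz : z ∈ Models.specialFibreSet R Z)
    (w : W.left) (hw : ψ.left.base w = z)
    (Δ : Set Z.left) (hΔ : Δ ∈ Models.fibreComponents R Z) (hzΔ : z ∈ Δ) :
    ∃ Γ ∈ Models.fibreComponents R W, w ∈ Γ ∧ ψ.left.base '' Γ = Δ := by
  have hF : Models.specialFibreSet R W = ψ.left ⁻¹' Models.specialFibreSet R Z := by
    ext a
    have e : Z.hom.base (ψ.left.base a) = W.hom.base a :=
      congrArg (fun g : W.left ⟶ Spec (CommRingCat.of R) => g.base a) (Over.w ψ)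
    show W.hom.base a = _ ↔ Z.hom.base (ψ.left.base a) = _
    rw [e]
  obtain ⟨Γ, hΓ, hwΓ, hΓΔ⟩ := Groth.Agent.Lib.Helper6.GoingDownNormal.main_top ψ.left hZn _ _
    (Models.isClosed_specialFibreSet R Z) hF w Δ hΔ (by rw [show ψ.left w = z from hw]; exact hzΔ)
  exact ⟨Γ, hΓ, hwΓ, hΓΔ⟩

end Groth.Agent.S16551
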