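import Groth.Statements.S16558
import Groth.Agent.Lib.Helper7.GGNef
import Groth.Agent.Lib.Helper7.GGTwist
import Groth.Agent.Lib.Helper23.AmpleCurve5
import Groth.Agent.S0844

set_option autoImplicit false
universe u
open CategoryTheory CategoryTheory.Limits AlgebraicGeometry TopologicalSpace
open Surf

namespace Groth.Agent.S16558

/-- Let k be an algebraically closed field, p_1, …, p_r distinct closed points of the projective plane
P²_k and σ : X → P²_k the blow-up of P²_k in the ideal of the reduced finite set {p_1, …, p_r}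
(universal property), X being regarded over k through σ; X is then an integral smooth proper surface
(carried as hypotheses). Write H = σ^*O(1), (L·M) = χ(O_X) − χ(L) − χ(M) + χ(L ⊗ M) for the
intersection number of invertible modules L, M, and for a closed subscheme C ⊆ X with ideal I_C
write (L·C) = χ(O_C ⊗ L) − χ(O_C) and C² = (I_C·I_C). If L is an invertible O_X-module with (L·H) <
0, then H⁰(X, L) = 0. (The source takes the points in general position; that assumption plays no
role here.) -/
theorem result (k : Type u) [Field k] [IsAlgClosed k]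
    (r : ℕ) (P : Fin r → ↥(CohB1.ProjSpace 2 k)) (hP : Function.Injective P)
    (hPc : ∀ i, IsClosed ({P i} : Set ↥(CohB1.ProjSpace 2 k))) (hZ : IsClosed (Set.range P))
    (X : Scheme.{u}) [X.Over (Spec (CommRingCat.of k))] (σ : X ⟶ CohB1.ProjSpace 2 k)
    (hσk : σ ≫ CohB1.ProjSpace.toSpec 2 k = X ↘ (Spec (CommRingCat.of k)))
    (hσ : BlowUp.IsBlowUp σ (Scheme.IdealSheafData.vanishingIdeal ⟨Set.range P, hZ⟩))
    [IsIntegral X] [IsProper (X ↘ (Spec (CommRingCat.of k)))] [Smooth (X ↘ (Spec (CommRingCat.of k)))] (hdim : topologicalKrullDim X = 2)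
    (L : X.Modules) (hL : PicF.IsInvertible L) (hLH : FGA.intNum k X 2 ![L, ((Scheme.Modules.pullback σ).obj (Twist.twistProjSpace 2 k 1))] (Coh.structureModule X) < 0) :
    Subsingleton (Coh.HH X L 0) := by
  have hO1 : PicF.IsInvertible (Twist.twistProjSpace 2 k 1) :=
    (Groth.Agent.Lib.Helper23.AmpleCurve.isAmple_twistProjSpace 2 k).1
  have hgg0 : Curv2.IsGloballyGenerated (CohB1.tensorMod (Coh.structureModule (CohB1.ProjSpace 2 k))
      (Twist.twistProjSpace 2 k 1)) := by
    refine Groth.Agent.Lib.Helper7.GGTwist.isGloballyGenerated_twist 2 k _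
      (Groth.Agent.Lib.Helper23.T2.isCoh_structureModule _) 1 ?_
    intro i hi
    have hv := Groth.Agent.S0844.result k 2 (1 - (i : ℤ)) i (by rintro ⟨h, -⟩; omega)
      (by rintro ⟨h1, h2⟩; subst h1; norm_num at h2)
    exact (Groth.Agent.Lib.Helper23.FBC.HmapEquivK k
      (Groth.Agent.Lib.Helper3.InvMonoidal.unitorL (Twist.twistProjSpace 2 k (1 - (i : ℤ)))) i).toEquiv.subsingleton
  have hgg1 : Curv2.IsGloballyGenerated (Twist.twistProjSpace 2 k 1) :=
    Groth.Agent.Lib.Helper3.GlobGen.isGloballyGenerated_of_iso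
      (Groth.Agent.Lib.Helper3.InvMonoidal.unitorL _) hgg0
  have hH : PicF.IsInvertible ((Scheme.Modules.pullback σ).obj (Twist.twistProjSpace 2 k 1)) :=
    Groth.Agent.Lib.Helper3.PbBasic.isInvertible_pullback σ hO1
  have hggH : Curv2.IsGloballyGenerated
      ((Scheme.Modules.pullback σ).obj (Twist.twistProjSpace 2 k 1)) :=
    Groth.Agent.Lib.Helper3.AmpleMisc.isGloballyGenerated_pullback σ hgg1
  have hnef := Groth.Agent.Lib.Helper7.GGNef.nef_of_gg k X _ hH hggH
  by_contra hns
  have hnt : Nontrivial (Coh.HH X L 0) := not_subsingleton_iff_nontrivial.mp hns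
  obtain ⟨s, hs⟩ := Groth.Agent.Lib.Helper7.SecDeg.exists_section_ne_zero X L hnt
  have h1 := Groth.Agent.Lib.Helper7.NefTrivA.ip_nonneg_of_section k X hdim L hL s hs _ hH hnef
  have h2 : Groth.Agent.Lib.Helper7.SurfIP.ip k X L
      ((Scheme.Modules.pullback σ).obj (Twist.twistProjSpace 2 k 1)) =
      FGA.intNum k X 2 ![L, ((Scheme.Modules.pullback σ).obj (Twist.twistProjSpace 2 k 1))]
        (Coh.structureModule X) := rfl
  rw [h2] at h1
  exact absurd hLH (not_lt.mpr h1)

end Groth.Agent.S16558
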