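import Groth.Statements.S16562
import Groth.Agent.Lib.Helper7.GGNef
import Groth.Agent.Lib.Helper7.GGTwist
import Groth.Agent.Lib.Helper7.MinusOne
import Groth.Agent.Lib.Helper7.CurveCartier
import Groth.Agent.Lib.Helper23.AmpleCurve5
import Groth.Agent.S0844

set_option autoImplicit false
universe u
open CategoryTheory CategoryTheory.Limits AlgebraicGeometry TopologicalSpace
open Surf

namespace Groth.Agent.S16562

/-- Let k be an algebraically closed field, p_1, …, p_r distinct closed points of the projective plane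
P²_k and σ : X → P²_k the blow-up of P²_k in the ideal of the reduced finite set {p_1, …, p_r}
(universal property), X being regarded over k through σ; X is then an integral smooth proper surface
(carried as hypotheses). Write H = σ^*O(1), (L·M) = χ(O_X) − χ(L) − χ(M) + χ(L ⊗ M) for the
intersection number of invertible modules L, M, and for a closed subscheme C ⊆ X with ideal I_C
write (L·C) = χ(O_C ⊗ L) − χ(O_C) and C² = (I_C·I_C). A (−1)-curve is an integral closed
one-dimensional subscheme E ⊆ X with H¹(E, O_E) = 0 and E² = −1. If L is an invertible O_X-module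
and E a (−1)-curve whose H-degree satisfies 2(H·E) > (L·H), and (L·E) < −1, then H⁰(X, L) = 0. (The
source takes the points in general position; that assumption plays no role here.) -/
theorem result (k : Type u) [Field k] [IsAlgClosed k]
    (r : ℕ) (P : Fin r → ↥(CohB1.ProjSpace 2 k)) (hP : Function.Injective P)
    (hPc : ∀ i, IsClosed ({P i} : Set ↥(CohB1.ProjSpace 2 k))) (hZ : IsClosed (Set.range P))
    (X : Scheme.{u}) [X.Over (Spec (CommRingCat.of k))] (σ : X ⟶ CohB1.ProjSpace 2 k)
    (hσk : σ ≫ CohB1.ProjSpace.toSpec 2 k = X ↘ (Spec (CommRingCat.of k)))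
    (hσ : BlowUp.IsBlowUp σ (Scheme.IdealSheafData.vanishingIdeal ⟨Set.range P, hZ⟩))
    [IsIntegral X] [IsProper (X ↘ (Spec (CommRingCat.of k)))] [Smooth (X ↘ (Spec (CommRingCat.of k)))] (hdim : topologicalKrullDim X = 2)
    (L : X.Modules) (hL : PicF.IsInvertible L)
    (E : X.IdealSheafData) (hEi : IsIntegral E.subscheme) (hE1 : topologicalKrullDim (E.support : Set X) = 1)
    (hEg : Subsingleton (Coh.HH E.subscheme (Coh.structureModule E.subscheme) 1))
    (hEE : FGA.intNum k X 2 ![ClSub.idealMod E, ClSub.idealMod E] (Coh.structureModule X) = -1)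
    (hEH : FGA.intNum k X 2 ![L, ((Scheme.Modules.pullback σ).obj (Twist.twistProjSpace 2 k 1))] (Coh.structureModule X) < 2 * (Curv2.euler k X (CohB1.tensorMod (ClSub.quotMod E) ((Scheme.Modules.pullback σ).obj (Twist.twistProjSpace 2 k 1))) - Curv2.euler k X (ClSub.quotMod E)))
    (hLE : (Curv2.euler k X (CohB1.tensorMod (ClSub.quotMod E) L) - Curv2.euler k X (ClSub.quotMod E)) < -1) :
    Subsingleton (Coh.HH X L 0) := by
  have hO1 : PicF.IsInvertible (Twist.twistProjSpace 2 k 1) :=
    (Groth.Agent.Lib.Helper23.AmpleCurve.isAmple_twistProjSpace 2 k).1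
  have hgg0 : Curv2.IsGloballyGenerated (CohB1.tensorMod (Coh.structureModule (CohB1.ProjSpace 2 k))
      (Twist.twistProjSpace 2 k 1)) := by
    refine Groth.Agent.Lib.Helper7.GGTwist.isGloballyGenerated_twist 2 k _
      (Groth.Agent.Lib.Helper23.T2.isCoh_structureModule _) 1 ?_
    intro i hi
    have hv := Groth.Agent.S0844.result k 2 (1 - (i : ℤ)) i (by rintro ⟨h, -⟩; omega)
      (by rintro ⟨h1, h2⟩; subst h1; norm_num at h2)
    exact (Groth.Agent.Lib.Helper23.FBC.HmapEquivK k
      (Groth.Agent.Lib.Helper3.InvMonoidal.unitorL (Twist.twistProjSpace 2 k (1 - (i : ℤ)))) i).toEquiv.subsingleton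
  have hgg1 : Curv2.IsGloballyGenerated (Twist.twistProjSpace 2 k 1) :=
    Groth.Agent.Lib.Helper3.GlobGen.isGloballyGenerated_of_iso
      (Groth.Agent.Lib.Helper3.InvMonoidal.unitorL _) hgg0
  have hH : PicF.IsInvertible ((Scheme.Modules.pullback σ).obj (Twist.twistProjSpace 2 k 1)) :=
    Groth.Agent.Lib.Helper3.PbBasic.isInvertible_pullback σ hO1
  have hggH : Curv2.IsGloballyGenerated
      ((Scheme.Modules.pullback σ).obj (Twist.twistProjSpace 2 k 1)) :=
    Groth.Agent.Lib.Helper3.AmpleMisc.isGloballyGenerated_pullback σ hgg1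
  have hnef := Groth.Agent.Lib.Helper7.GGNef.nef_of_gg k X _ hH hggH
  have hEc := Groth.Agent.Lib.Helper7.CurveCartier.isEffCartierIdeal_of_smooth k hdim E hEi hE1
  exact Groth.Agent.Lib.Helper7.MinusOne.h0_subsingleton_of_curve k X hdim _ hH hnef L hL E hEi hE1
    hEc hEE hEH hLE

end Groth.Agent.S16562
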