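import Groth.Statements.S16575
import Groth.Agent.Lib.Helper14.Punct.C2
import Groth.Agent.Lib.Helper8.Hzl.IndEtaleLike

set_option autoImplicit false
universe u
open CAlg

namespace Groth.Agent.S16575

/-- Let A be a Noetherian local ring, S a henselization of A, S' a strict henselization of A, A' the
integral closure of the reduction of A in its total ring of fractions, and Â the completion of A at
its maximal ideal. The following are equivalent: (i) for every maximal ideal m' of A' the local ring
of A' at m' has Krull dimension at least 2; (ii) every irreducible component of Spec S has dimension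
at least 2; (ii bis) every irreducible component of Spec S' has dimension at least 2; (iii) every
irreducible component of Spec Â has dimension at least 2. (A closed subscheme Z of a Noetherian
scheme X is called c_2 when these hold at the local ring of every point of Z; condition (i) at all
points of Z says that the preimage of Z in the normalization has codimension at least 2.) -/
theorem result
    (A : Type u) [CommRing A] [IsNoetherianRing A] [IsLocalRing A]
    (S : Type u) [CommRing S] [IsLocalRing S] [Algebra A S] [IsLocalHom (algebraMap A S)]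
    [Hensel.IsHenselization A S]
    (S' : Type u) [CommRing S'] [IsLocalRing S'] [Algebra A S'] [IsLocalHom (algebraMap A S')]
    [Hensel.IsStrictHenselization A S'] :
    List.TFAE [
      ∀ m' : MaximalSpectrum (CAlg2.normRed A), (2 : WithBot ℕ∞) ≤ ringKrullDim (Localization.AtPrime m'.asIdeal),
      ∀ p ∈ minimalPrimes S, (2 : WithBot ℕ∞) ≤ ringKrullDim (S ⧸ p),
      ∀ p ∈ minimalPrimes S', (2 : WithBot ℕ∞) ≤ ringKrullDim (S' ⧸ p),
      ∀ q ∈ minimalPrimes (AdicCompletion (IsLocalRing.maximalIdeal A) A), (2 : WithBot ℕ∞) ≤ ringKrullDim (AdicCompletion (IsLocalRing.maximalIdeal A) A ⧸ q)] := by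
  classical
  have hfin : (minimalPrimes A).Finite := minimalPrimes.finite_of_isNoetherianRing A
  haveI hSh : HenselianLocalRing S := Hensel.IsHenselization.henselian (R := A)
  haveI hS'h : HenselianLocalRing S' := Hensel.IsStrictHenselization.henselian (R := A)
  haveI : Module.Flat A S := Groth.Agent.Lib.Helper8.Hzl.henselization_flat A S
  haveI : Module.Flat A S' := Groth.Agent.Lib.Helper8.Hzl.strictHenselization_flat A S'
  have hindS := Groth.Agent.Lib.Helper8.Hzl.henselization_indEtaleLike A S
  have hindS' := Groth.Agent.Lib.Helper8.Hzl.strictHenselization_indEtaleLike A S'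
  have h12 : (∀ m' : MaximalSpectrum (CAlg2.normRed A),
        (2 : WithBot ℕ∞) ≤ ringKrullDim (Localization.AtPrime m'.asIdeal)) ↔
      (∀ p ∈ minimalPrimes S, (2 : WithBot ℕ∞) ≤ ringKrullDim (S ⧸ p)) := by
    constructor
    · intro h p hp
      obtain ⟨m', hm'⟩ :=
        Groth.Agent.Lib.Helper14.Punct.NormDim.exists_max_of_minimalPrime A S hfin hindS p hp
      rw [hm']
      exact h m'
    · intro h m'
      obtain ⟨p, hp, hpm⟩ :=
        Groth.Agent.Lib.Helper14.Punct.NormDim.exists_minimalPrime_of_max A S hfin hindS m'
      rw [← hpm]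
      exact h p hp
  have h13 : (∀ m' : MaximalSpectrum (CAlg2.normRed A),
        (2 : WithBot ℕ∞) ≤ ringKrullDim (Localization.AtPrime m'.asIdeal)) ↔
      (∀ p ∈ minimalPrimes S', (2 : WithBot ℕ∞) ≤ ringKrullDim (S' ⧸ p)) := by
    constructor
    · intro h p hp
      obtain ⟨m', hm'⟩ :=
        Groth.Agent.Lib.Helper14.Punct.NormDim.exists_max_of_minimalPrime A S' hfin hindS' p hp
      rw [hm']
      exact h m'
    · intro h m'
      obtain ⟨p, hp, hpm⟩ :=
        Groth.Agent.Lib.Helper14.Punct.NormDim.exists_minimalPrime_of_max A S' hfin hindS' m'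
      rw [← hpm]
      exact h p hp
  have h24 := Groth.Agent.Lib.Helper14.Punct.forall_two_le_dim_henselization_iff_completion A S
  tfae_have 1 ↔ 2 := h12
  tfae_have 1 ↔ 3 := h13
  tfae_have 2 ↔ 4 := h24
  tfae_finish

end Groth.Agent.S16575
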