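import Groth.Statements.S16578
import Groth.Agent.Lib.Helper14.Punct.Immediate

set_option autoImplicit false
universe u
open Hensel

namespace Groth.Agent.S16578

/-- Let A be a Noetherian local ring with completion Â at its maximal ideal, S' a strict henselization
of A, T' a strict henselization of Â, and p a prime ideal of A. Say that a prime p of a Noetherian
local ring with strict henselization S is an immediate étale generization of the closed point when
some minimal prime P over pS has dim S/P = 1. Then p is an immediate étale generization of the
closed point of A if and only if some minimal prime q over pÂ (a maximal point of the fibre over p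
of Spec Â → Spec A) is an immediate étale generization of the closed point of Â. -/
theorem result
    (A : Type u) [CommRing A] [IsNoetherianRing A] [IsLocalRing A]
    (S' : Type u) [CommRing S'] [IsLocalRing S'] [Algebra A S'] [IsLocalHom (algebraMap A S')]
    [Hensel.IsStrictHenselization A S']
    (T' : Type u) [CommRing T'] [IsLocalRing T'] [Algebra (AdicCompletion (IsLocalRing.maximalIdeal A) A) T'] [IsLocalHom (algebraMap (AdicCompletion (IsLocalRing.maximalIdeal A) A) T')]
    [Hensel.IsStrictHenselization (AdicCompletion (IsLocalRing.maximalIdeal A) A) T']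
    (p : Ideal A) [p.IsPrime] :
    (∃ P ∈ (p.map (algebraMap A S')).minimalPrimes, ringKrullDim (S' ⧸ P) = 1) ↔
    (∃ q ∈ (p.map (algebraMap A (AdicCompletion (IsLocalRing.maximalIdeal A) A))).minimalPrimes,
      ∃ Q ∈ (q.map (algebraMap (AdicCompletion (IsLocalRing.maximalIdeal A) A) T')).minimalPrimes, ringKrullDim (T' ⧸ Q) = 1) := by
  classical
  haveI hNC : IsNoetherianRing (AdicCompletion (IsLocalRing.maximalIdeal A) A) :=
    Groth.Agent.S0543.result A _
  obtain ⟨g, hg, hgloc, hff, hm, hdense⟩ :=
    Groth.Agent.Lib.Helper14.Punct.exists_map_shens_completion A S' T'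
  haveI hSh : HenselianLocalRing S' := Hensel.IsStrictHenselization.henselian (R := A)
  haveI : IsNoetherianRing S' :=
    (Groth.Agent.Lib.Helper8.Hzl.strictHenselization_isNoetherianRing_iff A S').mp inferInstance
  haveI : IsNoetherianRing T' :=
    (Groth.Agent.Lib.Helper8.Hzl.strictHenselization_isNoetherianRing_iff
      (AdicCompletion (IsLocalRing.maximalIdeal A) A) T').mp inferInstance
  haveI : Module.Flat (AdicCompletion (IsLocalRing.maximalIdeal A) A) T' :=
    Groth.Agent.Lib.Helper8.Hzl.strictHenselization_flat _ _
  letI : Algebra S' T' := g.toAlgebra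
  letI : Algebra A T' := ((algebraMap (AdicCompletion (IsLocalRing.maximalIdeal A) A) T').comp
    (algebraMap A (AdicCompletion (IsLocalRing.maximalIdeal A) A))).toAlgebra
  haveI : IsScalarTower A (AdicCompletion (IsLocalRing.maximalIdeal A) A) T' :=
    IsScalarTower.of_algebraMap_eq (fun _ => rfl)
  haveI : IsScalarTower A S' T' := IsScalarTower.of_algebraMap_eq (fun a => by
    have h1 : algebraMap S' T' (algebraMap A S' a) = (g.comp (algebraMap A S')) a := rfl
    rw [h1, hg]
    rfl)
  haveI : Module.FaithfullyFlat S' T' := hff
  exact Groth.Agent.Lib.Helper14.Punct.immediate_iff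
    (B := AdicCompletion (IsLocalRing.maximalIdeal A) A) hm (fun N a => hdense N a) p

end Groth.Agent.S16578
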