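import Groth.Statements.S16599
import Groth.Agent.Lib.Helper25.LG

set_option autoImplicit false
open AlgebraicGeometry
universe u
open LGRing

namespace Groth.Agent.S16599

open Groth.Agent.Lib.Helper25 in
/-- Let R be an LG-ring, n ≥ 0, and U an open quasi-compact subscheme of affine n-space Spec R[X₁, …,
Xₙ]. If U has an (R ⧸ m)-valued point over R for every maximal ideal m of R, then U has an R-valued
point: some n-tuple x over R defines a section Spec R ⟶ Spec R[X₁, …, Xₙ] with image inside U. -/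
theorem result {R : Type u} [CommRing R] (hR : LGRing.IsLGRing R)
    (n : ℕ) (U : (Spec (CommRingCat.of (MvPolynomial (Fin n) R))).Opens)
    (hU : IsCompact (U : Set ↥(Spec (CommRingCat.of (MvPolynomial (Fin n) R)))))
    (h : ∀ (m : Ideal R) [m.IsMaximal], ∃ x : Fin n → R ⧸ m,
      Set.range (Spec.map (CommRingCat.ofHom (MvPolynomial.eval₂Hom (Ideal.Quotient.mk m) x))).base ⊆
        (U : Set ↥(Spec (CommRingCat.of (MvPolynomial (Fin n) R))))) :
    ∃ x : Fin n → R, Set.range (Spec.map (CommRingCat.ofHom (MvPolynomial.eval x))).base ⊆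
      (U : Set ↥(Spec (CommRingCat.of (MvPolynomial (Fin n) R)))) := by
  classical
  -- write `U` as the complement of the zero locus of a finite set of polynomials
  let V : Set (PrimeSpectrum (MvPolynomial (Fin n) R)) :=
    (U : Set ↥(Spec (CommRingCat.of (MvPolynomial (Fin n) R))))
  obtain ⟨t, ht⟩ := (PrimeSpectrum.isCompact_isOpen_iff (s := V)).mp ⟨hU, U.isOpen⟩
  -- enumerate `t`
  obtain ⟨k, g, hg⟩ : ∃ (k : ℕ) (g : Fin k → MvPolynomial (Fin n) R),
      Set.range g = (t : Set (MvPolynomial (Fin n) R)) := by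
    refine ⟨t.card, fun i => ((t.equivFin.symm i : ↥t) : MvPolynomial (Fin n) R), ?_⟩
    ext y
    constructor
    · rintro ⟨i, rfl⟩
      exact (t.equivFin.symm i).2
    · intro hy
      exact ⟨t.equivFin ⟨y, hy⟩, by simp⟩
  -- the key polynomial
  let F : MvPolynomial (Fin n ⊕ Fin k) R :=
    ∑ j : Fin k, MvPolynomial.X (Sum.inr j) * MvPolynomial.rename Sum.inl (g j)
  have hF : ∀ (m : Ideal R) [m.IsMaximal], ∃ s : Fin n ⊕ Fin k → R ⧸ m,
      MvPolynomial.eval₂ (Ideal.Quotient.mk m) s F ≠ 0 := by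
    intro m _
    obtain ⟨x, hx⟩ := h m
    let _ : Field (R ⧸ m) := Ideal.Quotient.field m
    have hmem : PrimeSpectrum.comap (MvPolynomial.eval₂Hom (Ideal.Quotient.mk m) x)
        (⊥ : PrimeSpectrum (R ⧸ m)) ∈ V :=
      hx ⟨(⊥ : PrimeSpectrum (R ⧸ m)), rfl⟩
    rw [← ht, Set.mem_compl_iff, PrimeSpectrum.mem_zeroLocus, Set.not_subset] at hmem
    obtain ⟨a, hat, ha⟩ := hmem
    rw [← hg] at hat
    obtain ⟨i, rfl⟩ := hat
    have hne : MvPolynomial.eval₂ (Ideal.Quotient.mk m) x (g i) ≠ 0 := by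
      intro h0
      apply ha
      change MvPolynomial.eval₂Hom (Ideal.Quotient.mk m) x (g i) ∈ (⊥ : Ideal (R ⧸ m))
      rw [Ideal.mem_bot]
      exact h0
    refine ⟨Sum.elim x (Pi.single i 1), ?_⟩
    have : MvPolynomial.eval₂ (Ideal.Quotient.mk m) (Sum.elim x (Pi.single i 1)) F
        = MvPolynomial.eval₂ (Ideal.Quotient.mk m) x (g i) := by
      simp only [F, MvPolynomial.eval₂_sum, MvPolynomial.eval₂_mul, MvPolynomial.eval₂_X,
        Sum.elim_inr, MvPolynomial.eval₂_rename]
      rw [Finset.sum_eq_single i]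
      · simp [Function.comp_def]
      · intro j _ hji
        simp [Pi.single_eq_of_ne hji]
      · intro hi
        exact absurd (Finset.mem_univ i) hi
    rw [this]
    exact hne
  obtain ⟨s, hs⟩ := exists_isUnit_eval_of_finite hR F hF
  refine ⟨s ∘ Sum.inl, ?_⟩
  rintro _ ⟨p, rfl⟩
  change PrimeSpectrum.comap (MvPolynomial.eval (s ∘ Sum.inl)) p ∈ V
  rw [← ht, Set.mem_compl_iff, PrimeSpectrum.mem_zeroLocus]
  intro hsub
  have hmem : ∀ j, MvPolynomial.eval (s ∘ Sum.inl) (g j) ∈ p.asIdeal := by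
    intro j
    have : g j ∈ (t : Set (MvPolynomial (Fin n) R)) := by
      rw [← hg]; exact ⟨j, rfl⟩
    exact hsub this
  have hFp : MvPolynomial.eval s F ∈ p.asIdeal := by
    simp only [F, map_sum, map_mul, MvPolynomial.eval_X, MvPolynomial.eval_rename]
    exact sum_mem fun j _ => Ideal.mul_mem_left _ _ (hmem j)
  exact p.2.ne_top (Ideal.eq_top_of_isUnit_mem _ hFp hs)

end Groth.Agent.S16599
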