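import Groth.Statements.S1660
import Groth.Agent.Lib.Helper26.CartierExt


set_option autoImplicit false
universe u
open CategoryTheory CategoryTheory.Limits AlgebraicGeometry
open Divisors

namespace Groth.Agent.S1660

/-- Let X be locally Noetherian, U open, and D an effective Cartier divisor on U. If the local ring of X
at every point outside U is a unique factorisation domain, then there is an effective Cartier
divisor D' on X whose restriction (inverse image ideal) to U is D. -/
theorem result (X : Scheme.{u}) [IsLocallyNoetherian X] (U : X.Opens)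
    (D : (U : Scheme.{u}).IdealSheafData) (hD : BlowUp.IsEffCartierIdeal D)
    (hufd : ∀ x : X, x ∉ U → IsDomain (X.presheaf.stalk x) ∧ UniqueFactorizationMonoid (X.presheaf.stalk x)) :
    ∃ D' : X.IdealSheafData, BlowUp.IsEffCartierIdeal D' ∧ D'.comap U.ι = D := by
  haveI : QuasiCompact U.ι := inferInstance
  refine ⟨D.map U.ι, ?_,
    Groth.Agent.Lib.Helper26.CartierExt.comap_map_of_isOpenImmersion U.ι D⟩
  intro x
  by_cases hxU : x ∈ U
  · exact Groth.Agent.Lib.Helper26.CartierExt.exists_chart_of_mem U D hD x hxU
  · obtain ⟨_, ⟨W, hW, rfl⟩, hxW, -⟩ :=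
      X.isBasis_affineOpens.exists_subset_of_mem_open (Set.mem_univ x) isOpen_univ
    obtain ⟨g, hg, hgI⟩ :=
      Groth.Agent.Lib.Helper26.CartierExt.exists_stalk_generator_of_notMem U D hD x
        (hufd x hxU) ⟨W, hW⟩ hxW
    exact Groth.Agent.Lib.Helper26.CartierExt.exists_chart_of_stalk (D.map U.ι) x ⟨W, hW⟩ hxW
      g hg hgI

end Groth.Agent.S1660
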