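import Groth.Statements.S16600
import Groth.Agent.Lib.Helper25.LGPoints
import Mathlib.LinearAlgebra.Dual.Lemmas
import Mathlib.RingTheory.Finiteness.Projective

set_option autoImplicit false
open AlgebraicGeometry
universe u
open LGRing

namespace Groth.Agent.S16600

section aux
variable {R : Type u} [CommRing R] {D : Type u} [AddCommGroup D] [Module R D]

/-- The linear form `x ↦ ∑ x j • t j` on `Fin a → R` with values in an `R`-algebra. -/
noncomputable def linOf {S : Type*} [CommRing S] [Algebra R S] {a : ℕ} (t : Fin a → S) :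
    (Fin a → R) →ₗ[R] S :=
  ∑ j : Fin a, (LinearMap.proj j : (Fin a → R) →ₗ[R] R).smulRight (t j)

theorem linOf_apply {S : Type*} [CommRing S] [Algebra R S] {a : ℕ} (t : Fin a → S)
    (x : Fin a → R) : linOf t x = ∑ j, x j • t j := by
  simp [linOf, LinearMap.sum_apply]

/-- The comparison map from the symmetric algebra to a polynomial ring. -/
noncomputable def toPoly {a : ℕ} (i : D →ₗ[R] (Fin a → R)) :
    SymmetricAlgebra R D →ₐ[R] MvPolynomial (Fin a) R :=
  SymmetricAlgebra.lift (linOf (fun j => (MvPolynomial.X j : MvPolynomial (Fin a) R)) ∘ₗ i)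

theorem aeval_comp_toPoly {S : Type*} [CommRing S] [Algebra R S] {a : ℕ}
    (i : D →ₗ[R] (Fin a → R)) (t : Fin a → S) :
    (MvPolynomial.aeval t).comp (toPoly i) = SymmetricAlgebra.lift (linOf t ∘ₗ i) := by
  apply SymmetricAlgebra.algHom_ext
  apply LinearMap.ext
  intro ξ
  simp [toPoly, linOf_apply, SymmetricAlgebra.lift_ι_apply, Algebra.smul_def]

theorem aeval_toPoly {S : Type*} [CommRing S] [Algebra R S] {a : ℕ}
    (i : D →ₗ[R] (Fin a → R)) (t : Fin a → S) (f : SymmetricAlgebra R D) :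
    MvPolynomial.aeval t (toPoly i f) = SymmetricAlgebra.lift (linOf t ∘ₗ i) f := by
  rw [← aeval_comp_toPoly]
  rfl

/-- Every linear map is of the form `linOf t ∘ i`. -/
theorem eq_linOf_comp {S : Type*} [CommRing S] [Algebra R S] {a : ℕ}
    (i : D →ₗ[R] (Fin a → R)) (π : (Fin a → R) →ₗ[R] D) (hπi : π ∘ₗ i = LinearMap.id)
    (φ : D →ₗ[R] S) :
    φ = linOf (fun j => φ (π (Pi.single j 1))) ∘ₗ i := by
  classical
  apply LinearMap.ext
  intro ξ
  have h1 : ξ = π (i ξ) := (LinearMap.congr_fun hπi ξ).symm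
  have h2 : i ξ = ∑ j, (i ξ) j • (Pi.single j (1 : R) : Fin a → R) := by
    conv_lhs => rw [← Finset.univ_sum_single (i ξ)]
    apply Finset.sum_congr rfl
    intro j _
    ext l
    by_cases hl : l = j
    · subst hl; simp
    · simp [Pi.single_eq_of_ne hl]
  rw [LinearMap.comp_apply, linOf_apply]
  conv_lhs => rw [h1, h2]
  simp only [map_sum, map_smul]

end aux

open Groth.Agent.Lib.Helper25 in
/-- Let R be an LG-ring, M a finite locally free R-module, W(M) = Spec Sym(M^∨) the vector bundle of M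
(its points with values in an R-algebra R' are the R-algebra maps Sym(M^∨) → R', i.e. the R-linear
maps M^∨ → R'), and U ⊆ W(M) an open quasi-compact subscheme. Then U(R) is non-empty if and only if
U(R ⧸ m) is non-empty for every maximal ideal m of R. -/
theorem result {R : Type u} [CommRing R]
    (hR : LGRing.IsLGRing R) (M : Type u) [AddCommGroup M] [Module R M] [Module.Finite R M] [Module.Projective R M]
    (U : (Spec (CommRingCat.of (SymmetricAlgebra R (Module.Dual R M)))).Opens)
    (hU : IsCompact (U : Set ↥(Spec (CommRingCat.of (SymmetricAlgebra R (Module.Dual R M)))))) :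
    (∃ φ : Module.Dual R M →ₗ[R] R,
      Set.range (Spec.map (CommRingCat.ofHom (SymmetricAlgebra.lift φ).toRingHom)).base ⊆
        (U : Set ↥(Spec (CommRingCat.of (SymmetricAlgebra R (Module.Dual R M)))))) ↔
    ∀ (m : Ideal R) [m.IsMaximal], ∃ φ : Module.Dual R M →ₗ[R] (R ⧸ m),
      Set.range (Spec.map (CommRingCat.ofHom (SymmetricAlgebra.lift φ).toRingHom)).base ⊆
        (U : Set ↥(Spec (CommRingCat.of (SymmetricAlgebra R (Module.Dual R M))))) := by
  classical
  let V : Set (PrimeSpectrum (SymmetricAlgebra R (Module.Dual R M))) :=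
    (U : Set ↥(Spec (CommRingCat.of (SymmetricAlgebra R (Module.Dual R M)))))
  constructor
  · rintro ⟨φ, hφ⟩ m _
    refine ⟨(Algebra.linearMap R (R ⧸ m)) ∘ₗ φ, ?_⟩
    rintro _ ⟨p, rfl⟩
    have hcomp : SymmetricAlgebra.lift ((Algebra.linearMap R (R ⧸ m)) ∘ₗ φ) =
        (Algebra.ofId R (R ⧸ m)).comp (SymmetricAlgebra.lift φ) := by
      apply SymmetricAlgebra.algHom_ext
      apply LinearMap.ext
      intro ξ
      simp [SymmetricAlgebra.lift_ι_apply]
    apply hφ
    refine ⟨PrimeSpectrum.comap (algebraMap R (R ⧸ m)) p, ?_⟩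
    change PrimeSpectrum.comap (SymmetricAlgebra.lift φ).toRingHom
      (PrimeSpectrum.comap (algebraMap R (R ⧸ m)) p) =
      PrimeSpectrum.comap (SymmetricAlgebra.lift ((Algebra.linearMap R (R ⧸ m)) ∘ₗ φ)).toRingHom p
    rw [hcomp]
    rfl
  · intro h
    obtain ⟨t, ht⟩ := (PrimeSpectrum.isCompact_isOpen_iff (s := V)).mp ⟨hU, U.isOpen⟩
    obtain ⟨k, g', hg'⟩ : ∃ (k : ℕ) (g' : Fin k → SymmetricAlgebra R (Module.Dual R M)),
        Set.range g' = (t : Set (SymmetricAlgebra R (Module.Dual R M))) := by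
      refine ⟨t.card, fun i => ((t.equivFin.symm i : ↥t) : SymmetricAlgebra R (Module.Dual R M)), ?_⟩
      ext y
      constructor
      · rintro ⟨i, rfl⟩
        exact (t.equivFin.symm i).2
      · intro hy
        exact ⟨t.equivFin ⟨y, hy⟩, by simp⟩
    obtain ⟨a, π, i, -, -, hπi⟩ :=
      Module.Finite.exists_comp_eq_id_of_projective R (Module.Dual R M)
    have key : ∀ (m : Ideal R) [m.IsMaximal], ∃ (x : Fin a → R ⧸ m) (j : Fin k),
        MvPolynomial.eval₂ (Ideal.Quotient.mk m) x (toPoly i (g' j)) ≠ 0 := by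
      intro m _
      obtain ⟨φ, hφ⟩ := h m
      let _ : Field (R ⧸ m) := Ideal.Quotient.field m
      have hmem : PrimeSpectrum.comap (SymmetricAlgebra.lift φ).toRingHom
          (⊥ : PrimeSpectrum (R ⧸ m)) ∈ V :=
        hφ ⟨(⊥ : PrimeSpectrum (R ⧸ m)), rfl⟩
      rw [← ht, Set.mem_compl_iff, PrimeSpectrum.mem_zeroLocus, Set.not_subset] at hmem
      obtain ⟨f, hft, hf⟩ := hmem
      rw [← hg'] at hft
      obtain ⟨j, rfl⟩ := hft
      refine ⟨fun l => φ (π (Pi.single l 1)), j, ?_⟩
      intro h0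
      apply hf
      change (SymmetricAlgebra.lift φ) (g' j) ∈ (⊥ : Ideal (R ⧸ m))
      rw [Ideal.mem_bot, eq_linOf_comp i π hπi φ, ← aeval_toPoly, MvPolynomial.aeval_def]
      exact h0
    obtain ⟨x, hx⟩ := exists_forall_prime_exists_eval_notMem hR (fun j => toPoly i (g' j)) key
    refine ⟨linOf x ∘ₗ i, ?_⟩
    rintro _ ⟨p, rfl⟩
    change PrimeSpectrum.comap (SymmetricAlgebra.lift (linOf x ∘ₗ i)).toRingHom p ∈ V
    rw [← ht, Set.mem_compl_iff, PrimeSpectrum.mem_zeroLocus]
    intro hsub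
    obtain ⟨j, hj⟩ := hx p
    apply hj
    have hmem : g' j ∈ (t : Set (SymmetricAlgebra R (Module.Dual R M))) := by
      rw [← hg']; exact ⟨j, rfl⟩
    have := hsub hmem
    change (SymmetricAlgebra.lift (linOf x ∘ₗ i)) (g' j) ∈ p.asIdeal at this
    rw [← aeval_toPoly, MvPolynomial.aeval_def, Algebra.algebraMap_self] at this
    exact this

end Groth.Agent.S16600
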