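import Groth.Statements.S16601
import Groth.Agent.S16600
import Mathlib.Algebra.MvPolynomial.Funext
import Mathlib.RingTheory.Polynomial.Basic

set_option autoImplicit false
open AlgebraicGeometry
universe u
open LGRing

namespace Groth.Agent.S16601

open Groth.Agent.S16600

section aux
variable {R : Type u} [CommRing R] {D : Type u} [AddCommGroup D] [Module R D]

/-- The retraction of `toPoly`. -/
noncomputable def fromPoly {a : ℕ} (π : (Fin a → R) →ₗ[R] D) :
    MvPolynomial (Fin a) R →ₐ[R] SymmetricAlgebra R D :=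
  MvPolynomial.aeval (fun j => SymmetricAlgebra.ι R D (π (Pi.single j 1)))

theorem fromPoly_toPoly {a : ℕ} (i : D →ₗ[R] (Fin a → R)) (π : (Fin a → R) →ₗ[R] D)
    (hπi : π ∘ₗ i = LinearMap.id) (f : SymmetricAlgebra R D) :
    fromPoly π (toPoly i f) = f := by
  rw [fromPoly, aeval_toPoly, ← eq_linOf_comp i π hπi (SymmetricAlgebra.ι R D),
    SymmetricAlgebra.lift_ι]
  rfl

/-- Injectivity of `toPoly` modulo an ideal of `R`. -/
theorem mem_map_of_map_toPoly_eq_zero {a : ℕ} (i : D →ₗ[R] (Fin a → R))
    (π : (Fin a → R) →ₗ[R] D) (hπi : π ∘ₗ i = LinearMap.id) (m : Ideal R)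
    (f : SymmetricAlgebra R D)
    (hf : MvPolynomial.map (Ideal.Quotient.mk m) (toPoly i f) = 0) :
    f ∈ Ideal.map (algebraMap R (SymmetricAlgebra R D)) m := by
  have h1 : toPoly i f ∈ Ideal.map (MvPolynomial.C : R →+* MvPolynomial (Fin a) R) m := by
    have := MvPolynomial.ker_map (σ := Fin a) (Ideal.Quotient.mk m)
    rw [Ideal.mk_ker] at this
    rw [← this, RingHom.mem_ker]
    exact hf
  have h2 : fromPoly π (toPoly i f) ∈
      Ideal.map (fromPoly π : MvPolynomial (Fin a) R →+* SymmetricAlgebra R D)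
        (Ideal.map (MvPolynomial.C : R →+* MvPolynomial (Fin a) R) m) :=
    Ideal.mem_map_of_mem _ h1
  rw [fromPoly_toPoly i π hπi, Ideal.map_map] at h2
  have h3 : ((fromPoly π : MvPolynomial (Fin a) R →+* SymmetricAlgebra R D).comp
      (MvPolynomial.C : R →+* MvPolynomial (Fin a) R)) = algebraMap R (SymmetricAlgebra R D) := by
    ext r
    simp [fromPoly]
  rwa [h3] at h2

end aux

open Groth.Agent.Lib.Helper25 in
/-- Let R be an LG-ring whose residue fields at maximal ideals are all infinite (R satisfies the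
primitive criterion), M a finite locally free R-module with vector bundle W(M) = Spec Sym(M^∨), and
U ⊆ W(M) an open quasi-compact subscheme which is fibrewise dense over the closed points of Spec R
(for every maximal ideal m, the trace of U on the closed fibre Spec (Sym(M^∨) ⧸ m Sym(M^∨)) is
dense). Then U has an R-valued point. (The source asks U to be R-dense in W(M); only density of the
closed fibres is used, which is what is assumed here.) -/
theorem result {R : Type u} [CommRing R]
    (hR : LGRing.IsLGRing R) (hinf : ∀ (m : Ideal R) [m.IsMaximal], Infinite (R ⧸ m))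
    (M : Type u) [AddCommGroup M] [Module R M] [Module.Finite R M] [Module.Projective R M]
    (U : (Spec (CommRingCat.of (SymmetricAlgebra R (Module.Dual R M)))).Opens)
    (hU : IsCompact (U : Set ↥(Spec (CommRingCat.of (SymmetricAlgebra R (Module.Dual R M))))))
    (hdense : ∀ (m : Ideal R) [m.IsMaximal],
      Dense ((Spec.map (CommRingCat.ofHom (Ideal.Quotient.mk
        (Ideal.map (algebraMap R (SymmetricAlgebra R (Module.Dual R M))) m)))).base ⁻¹'
          (U : Set ↥(Spec (CommRingCat.of (SymmetricAlgebra R (Module.Dual R M))))))) :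
    ∃ φ : Module.Dual R M →ₗ[R] R,
      Set.range (Spec.map (CommRingCat.ofHom (SymmetricAlgebra.lift φ).toRingHom)).base ⊆
        (U : Set ↥(Spec (CommRingCat.of (SymmetricAlgebra R (Module.Dual R M))))) := by
  classical
  let B := SymmetricAlgebra R (Module.Dual R M)
  let V : Set (PrimeSpectrum B) := (U : Set ↥(Spec (CommRingCat.of B)))
  obtain ⟨t, ht⟩ := (PrimeSpectrum.isCompact_isOpen_iff (s := V)).mp ⟨hU, U.isOpen⟩
  obtain ⟨k, g', hg'⟩ : ∃ (k : ℕ) (g' : Fin k → B), Set.range g' = (t : Set B) := by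
    refine ⟨t.card, fun i => ((t.equivFin.symm i : ↥t) : B), ?_⟩
    ext y
    constructor
    · rintro ⟨i, rfl⟩
      exact (t.equivFin.symm i).2
    · intro hy
      exact ⟨t.equivFin ⟨y, hy⟩, by simp⟩
  obtain ⟨a, π, i, -, -, hπi⟩ :=
    Module.Finite.exists_comp_eq_id_of_projective R (Module.Dual R M)
  have key : ∀ (m : Ideal R) [m.IsMaximal], ∃ (x : Fin a → R ⧸ m) (j : Fin k),
      MvPolynomial.eval₂ (Ideal.Quotient.mk m) x (toPoly i (g' j)) ≠ 0 := by
    intro m hm
    let _ : Field (R ⧸ m) := Ideal.Quotient.field m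
    have : Infinite (R ⧸ m) := hinf m
    let J : Ideal B := Ideal.map (algebraMap R B) m
    -- the closed fibre is nonempty
    have hJ : J ≠ ⊤ := by
      intro htop
      have h1 : (1 : B) ∈ J := by rw [htop]; trivial
      let ρ : B →+* R := ((SymmetricAlgebra.algebraMapInv : B →ₐ[R] R) : B →+* R)
      have h2 : ρ 1 ∈ Ideal.map ρ J := Ideal.mem_map_of_mem _ h1
      rw [map_one] at h2
      have h3 : Ideal.map ρ J = m := by
        change Ideal.map ρ (Ideal.map (algebraMap R B) m) = m
        rw [Ideal.map_map]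
        have : ρ.comp (algebraMap R B) = RingHom.id R := by
          ext r; simp [ρ]
        rw [this, Ideal.map_id]
      rw [h3] at h2
      exact hm.ne_top ((Ideal.eq_top_iff_one m).mpr h2)
    have hnt : Nontrivial (B ⧸ J) := Ideal.Quotient.nontrivial_iff.mpr hJ
    obtain ⟨q, hq⟩ := (hdense m).nonempty
    have hq' : PrimeSpectrum.comap (Ideal.Quotient.mk J) q ∈ V := hq
    rw [← ht, Set.mem_compl_iff, PrimeSpectrum.mem_zeroLocus, Set.not_subset] at hq'
    obtain ⟨f, hft, hf⟩ := hq'
    rw [← hg'] at hft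
    obtain ⟨j, rfl⟩ := hft
    have hfJ : g' j ∉ J := by
      intro hmem
      apply hf
      change Ideal.Quotient.mk J (g' j) ∈ q.asIdeal
      rw [Ideal.Quotient.eq_zero_iff_mem.mpr hmem]
      exact zero_mem _
    have hne : MvPolynomial.map (Ideal.Quotient.mk m) (toPoly i (g' j)) ≠ 0 := fun h0 =>
      hfJ (mem_map_of_map_toPoly_eq_zero i π hπi m (g' j) h0)
    obtain ⟨x, hx⟩ : ∃ x : Fin a → R ⧸ m,
        MvPolynomial.eval x (MvPolynomial.map (Ideal.Quotient.mk m) (toPoly i (g' j))) ≠ 0 := by
      by_contra hcon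
      push Not at hcon
      apply hne
      apply MvPolynomial.funext
      intro x
      rw [hcon x, map_zero]
    refine ⟨x, j, ?_⟩
    rwa [MvPolynomial.eval_map] at hx
  obtain ⟨x, hx⟩ := exists_forall_prime_exists_eval_notMem hR (fun j => toPoly i (g' j)) key
  refine ⟨linOf x ∘ₗ i, ?_⟩
  rintro _ ⟨p, rfl⟩
  change PrimeSpectrum.comap (SymmetricAlgebra.lift (linOf x ∘ₗ i)).toRingHom p ∈ V
  rw [← ht, Set.mem_compl_iff, PrimeSpectrum.mem_zeroLocus]
  intro hsub
  obtain ⟨j, hj⟩ := hx p
  apply hj
  have hmem : g' j ∈ (t : Set B) := by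
    rw [← hg']; exact ⟨j, rfl⟩
  have := hsub hmem
  change (SymmetricAlgebra.lift (linOf x ∘ₗ i)) (g' j) ∈ p.asIdeal at this
  rw [← aeval_toPoly, MvPolynomial.aeval_def, Algebra.algebraMap_self] at this
  exact this

end Groth.Agent.S16601
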