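import Groth.Statements.S16602
import Groth.Agent.Lib.Lead.LGAz2

set_option autoImplicit false
universe u v w
open Brauer

namespace Groth.Agent.S16602

/-- One direction: if the rank of `Q` is at most that of `P`, and `P` is indecomposable, then
`P ≃ Q`. -/
theorem iso_of_le {R : Type u} [CommRing R] (hR : LGRing.IsLGRing R) {A : Type v} [Ring A]
    [Algebra R A] [IsAzumaya R A]
    (P Q : Type w) [AddCommGroup P] [Module A P] [Module R P] [IsScalarTower R A P]
    [Module.Finite A P] [Module.Projective A P]
    [AddCommGroup Q] [Module A Q] [Module R Q] [IsScalarTower R A Q]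
    [Module.Finite A Q] [Module.Projective A Q] [Nontrivial Q]
    (hP : ∀ e : Module.End A P, IsIdempotentElem e → e = 0 ∨ e = 1)
    (h : ∀ p : PrimeSpectrum R, Module.rankAtStalk Q p ≤ Module.rankAtStalk P p) :
    Nonempty (P ≃ₗ[A] Q) := by
  obtain ⟨f, hf⟩ := Groth.Agent.Lib.Lead.LGAz.exists_surjective_of_rank_le hR (A := A) P Q h
  obtain ⟨s, hs⟩ := Module.projective_lifting_property f LinearMap.id hf
  have hs' : ∀ q, f (s q) = q := fun q => LinearMap.congr_fun hs q
  have hid : IsIdempotentElem (s ∘ₗ f : Module.End A P) := by
    refine LinearMap.ext fun x => ?_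
    change s (f (s (f x))) = s (f x)
    rw [hs']
  rcases hP _ hid with h0 | h1
  · exfalso
    obtain ⟨q, hq⟩ := exists_ne (0 : Q)
    apply hq
    have := LinearMap.congr_fun h0 (s q)
    change s (f (s q)) = 0 at this
    rw [hs'] at this
    rw [← hs' q, this, map_zero]
  · have hinj : Function.Injective f := by
      intro x y hxy
      have hx := LinearMap.congr_fun h1 x
      have hy := LinearMap.congr_fun h1 y
      change s (f x) = x at hx
      change s (f y) = y at hy
      rw [← hx, ← hy, hxy]
    exact ⟨LinearEquiv.ofBijective f ⟨hinj, hf⟩⟩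

/-- Let R be an LG-ring with Spec R connected and A an Azumaya R-algebra. Then any two indecomposable
finitely generated projective left A-modules are isomorphic (a module is indecomposable when it is
non-zero and the only idempotents of its endomorphism ring are 0 and 1). (This extends the semilocal
case.) -/
theorem result {R : Type u} [CommRing R]
    (hR : LGRing.IsLGRing R) [ConnectedSpace (PrimeSpectrum R)] {A : Type v} [Ring A] [Algebra R A] [IsAzumaya R A]
    (P Q : Type w) [AddCommGroup P] [Module A P] [Module.Finite A P] [Module.Projective A P] [Nontrivial P]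
    [AddCommGroup Q] [Module A Q] [Module.Finite A Q] [Module.Projective A Q] [Nontrivial Q]
    (hP : ∀ e : Module.End A P, IsIdempotentElem e → e = 0 ∨ e = 1)
    (hQ : ∀ e : Module.End A Q, IsIdempotentElem e → e = 0 ∨ e = 1) : Nonempty (P ≃ₗ[A] Q) := by
  letI : Module R P := Module.compHom P (algebraMap R A)
  letI : Module R Q := Module.compHom Q (algebraMap R A)
  haveI : IsScalarTower R A P := ⟨fun r a p => by
    rw [Algebra.smul_def, mul_smul]; rfl⟩
  haveI : IsScalarTower R A Q := ⟨fun r a p => by
    rw [Algebra.smul_def, mul_smul]; rfl⟩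
  haveI : Module.Finite R P := Module.Finite.trans A P
  haveI : Module.Finite R Q := Module.Finite.trans A Q
  haveI : Module.Projective R P := Groth.Agent.Lib.Lead.LGAz.projective_trans R (A := A) P
  haveI : Module.Projective R Q := Groth.Agent.Lib.Lead.LGAz.projective_trans R (A := A) Q
  haveI : Module.FinitePresentation R P := Module.finitePresentation_of_projective R P
  haveI : Module.FinitePresentation R Q := Module.finitePresentation_of_projective R Q
  have cP : ∀ p q : PrimeSpectrum R, Module.rankAtStalk P p = Module.rankAtStalk P q :=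
    fun p q => (Module.isLocallyConstant_rankAtStalk (R := R) (M := P)).apply_eq_of_preconnectedSpace p q
  have cQ : ∀ p q : PrimeSpectrum R, Module.rankAtStalk Q p = Module.rankAtStalk Q q :=
    fun p q => (Module.isLocallyConstant_rankAtStalk (R := R) (M := Q)).apply_eq_of_preconnectedSpace p q
  obtain ⟨p₀⟩ := (inferInstance : Nonempty (PrimeSpectrum R))
  rcases le_total (Module.rankAtStalk Q p₀) (Module.rankAtStalk P p₀) with hle | hle
  · exact iso_of_le hR P Q hP (fun p => by rw [cQ p p₀, cP p p₀]; exact hle)
  · obtain ⟨e⟩ := iso_of_le hR Q P hQ (fun p => by rw [cQ p p₀, cP p p₀]; exact hle)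
    exact ⟨e.symm⟩

end Groth.Agent.S16602
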