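import Groth.Statements.S16607
import Groth.Agent.Lib.Lead.LGAz3

set_option autoImplicit false
universe u v
open Brauer
open scoped TensorProduct

namespace Groth.Agent.S16607

/-- Let R be an LG-ring, A and B Azumaya R-algebras and n ≥ 1. If Mₙ(A) ≅ Mₙ(B) as R-algebras then A ≅ B
as R-algebras (cancellation of Azumaya algebras). -/
theorem result {R : Type u} [CommRing R]
    (hR : LGRing.IsLGRing R) (A B : Type v) [Ring A] [Algebra R A] [IsAzumaya R A] [Ring B] [Algebra R B]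
    [IsAzumaya R B] (n : ℕ) (hn : 0 < n)
    (e : Matrix (Fin n) (Fin n) A ≃ₐ[R] Matrix (Fin n) (Fin n) B) : Nonempty (A ≃ₐ[R] B) := by
  haveI : Nonempty (Fin n) := ⟨⟨0, hn⟩⟩
  let τ : Matrix (Fin n) (Fin n) R ≃ₐ[R] Module.End R (Fin n → R) := Matrix.toLinAlgEquiv'
  let mA : Matrix (Fin n) (Fin n) A ≃ₐ[R] A ⊗[R] Module.End R (Fin n → R) :=
    (matrixEquivTensor (Fin n) R A).trans (Algebra.TensorProduct.congr AlgEquiv.refl τ)
  let mB : Matrix (Fin n) (Fin n) B ≃ₐ[R] B ⊗[R] Module.End R (Fin n → R) :=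
    (matrixEquivTensor (Fin n) R B).trans (Algebra.TensorProduct.congr AlgEquiv.refl τ)
  exact Groth.Agent.Lib.Lead.LGAz.nonempty_algEquiv_of_tensor_end_same hR A B (Fin n → R)
    (mA.symm.trans (e.trans mB))

end Groth.Agent.S16607
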