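import Groth.Statements.S16619
import Groth.Agent.Lib.Lead.BrIdem

set_option autoImplicit false
open scoped TensorProduct
universe u
open Brauer

namespace Groth.Agent.S16619

open Groth.Agent.Lib.Lead
open Groth.Agent.Lib.Lead.LGAz (leftIdeal)

/-- Let R be a connected commutative ring. Then every class of the Brauer group of R is represented by
an Azumaya algebra B with idemp(B) = {0, 1}: for every Azumaya R-algebra A there are such a B and
faithfully projective R-modules P, Q with A ⊗_R End_R(P) ≅ B ⊗_R End_R(Q) as R-algebras. -/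
theorem result {R : Type u} [CommRing R]
    [ConnectedSpace (PrimeSpectrum R)] (A : Type u) [Ring A] [Algebra R A] [IsAzumaya R A] :
    ∃ (B : Type u) (_ : Ring B) (_ : Algebra R B) (_ : IsAzumaya R B) (P Q : Type u) (_ : AddCommGroup P)
      (_ : Module R P) (_ : AddCommGroup Q) (_ : Module R Q),
      (∀ b : B, IsIdempotentElem b → b = 0 ∨ b = 1) ∧ Module.Finite R P ∧ Module.Projective R P ∧
      FaithfulSMul R P ∧ Module.Finite R Q ∧ Module.Projective R Q ∧ FaithfulSMul R Q ∧
      Nonempty (A ⊗[R] Module.End R P ≃ₐ[R] B ⊗[R] Module.End R Q) := by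
  classical
  obtain ⟨p₀⟩ : Nonempty (PrimeSpectrum R) := ConnectedSpace.toNonempty
  haveI : Nontrivial R := p₀.nontrivial
  haveI : Nontrivial A := by
    by_contra hn
    rw [not_nontrivial_iff_subsingleton] at hn
    exact one_ne_zero (α := R) (eq_of_smul_eq_smul (α := A) (fun x => Subsingleton.elim _ _))
  have hex : ∃ n, ∃ y : A, IsIdempotentElem y ∧ y ≠ 0 ∧
      Module.rankAtStalk (R := R) (leftIdeal y) p₀ = n :=
    ⟨_, 1, IsIdempotentElem.one, one_ne_zero, rfl⟩
  obtain ⟨e, he, he0, hen⟩ := Nat.find_spec hex
  have hmin : ∀ y : A, IsIdempotentElem y → y ≠ 0 →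
      Module.rankAtStalk (R := R) (leftIdeal e) p₀ ≤
        Module.rankAtStalk (R := R) (leftIdeal y) p₀ := fun y hy hy0 => by
    rw [hen]; exact Nat.find_min' hex ⟨y, hy, hy0, rfl⟩
  haveI hMfaith : FaithfulSMul R (leftIdeal e) := BrIdem.faithful_leftIdeal he he0
  haveI : Module.Finite R (leftIdeal e) := BrIdem.finite_R he
  haveI : Module.Projective R (leftIdeal e) := BrIdem.projective_R he
  haveI : Module.Finite R (Module.End A (leftIdeal e)) := BrIdem.finite_D he
  haveI : Module.Projective R (Module.End A (leftIdeal e)) := BrIdem.projective_D he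
  haveI : FaithfulSMul R (Module.End A (leftIdeal e)) := BrIdem.faithful_D
  haveI hDaz : IsAzumaya R (Module.End A (leftIdeal e)) :=
    { toProjective := inferInstance, toFaithfulSMul := inferInstance, toFinite := inferInstance,
      bij := BrIdem.Theta_bijective he }
  haveI : IsAzumaya R (Module.End A (leftIdeal e))ᵐᵒᵖ := AzumayaOp.isAzumaya_op R _
  have hidem : ∀ f : Module.End A (leftIdeal e), IsIdempotentElem f → f = 0 ∨ f = 1 := by
    intro f hf
    obtain ⟨x, hxdef⟩ : ∃ x, x = BrIdem.rho R e f := ⟨_, rfl⟩
    have hxx : IsIdempotentElem x := by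
      show x * x = x
      rw [hxdef, ← BrIdem.rho_mul he, hf.eq]
    have hxe : x * e = x := by rw [hxdef]; exact BrIdem.rho_mul_e he f
    have hex' : e * x = x := by rw [hxdef]; exact BrIdem.e_mul_rho he f
    by_cases hx0 : x = 0
    · left
      rw [← BrIdem.sigma_rho (R := R) he f, ← hxdef, hx0, map_zero]
    · right
      have h1 := hmin x hxx hx0
      have h2 := BrIdem.rank_split (R := R) he hxx hxe hex' p₀
      have h3 : e - x = 0 := by
        by_contra hne
        have := BrIdem.rank_pos (R := R) (BrIdem.idem_sub he hxx hxe hex') hne p₀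
        omega
      have hxe' : x = e := (sub_eq_zero.mp h3).symm
      rw [← BrIdem.sigma_rho (R := R) he f, ← hxdef, hxe']
      exact BrIdem.sigma_e he
  refine ⟨(Module.End A (leftIdeal e))ᵐᵒᵖ, inferInstance, inferInstance, inferInstance,
    Module.End A (leftIdeal e), leftIdeal e, inferInstance, inferInstance, inferInstance,
    inferInstance, ?_, inferInstance, inferInstance, inferInstance, inferInstance, inferInstance,
    inferInstance, ⟨?_⟩⟩
  · intro b hb
    have hf : IsIdempotentElem b.unop := by
      show b.unop * b.unop = b.unop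
      rw [← MulOpposite.unop_mul, hb.eq]
    rcases hidem b.unop hf with h | h
    · left; exact MulOpposite.unop_injective (by rw [h, MulOpposite.unop_zero])
    · right; exact MulOpposite.unop_injective (by rw [h, MulOpposite.unop_one])
  · let Φe : A ⊗[R] Module.End A (leftIdeal e) ≃ₐ[R] Module.End R (leftIdeal e) :=
      AlgEquiv.ofBijective (BrIdem.Phi R e) (BrIdem.Phi_bijective he)
    let Θe : Module.End A (leftIdeal e) ⊗[R] (Module.End A (leftIdeal e))ᵐᵒᵖ ≃ₐ[R]
        Module.End R (Module.End A (leftIdeal e)) :=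
      AlgEquiv.ofBijective (AlgHom.mulLeftRight R (Module.End A (leftIdeal e)))
        (BrIdem.Theta_bijective he)
    exact (Algebra.TensorProduct.congr (AlgEquiv.refl : A ≃ₐ[R] A) Θe.symm).trans
      ((Algebra.TensorProduct.assoc R R R A (Module.End A (leftIdeal e))
          (Module.End A (leftIdeal e))ᵐᵒᵖ).symm.trans
        ((Algebra.TensorProduct.congr Φe
            (AlgEquiv.refl : (Module.End A (leftIdeal e))ᵐᵒᵖ ≃ₐ[R] _)).trans
          (Algebra.TensorProduct.comm R _ _)))

end Groth.Agent.S16619
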