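import Groth.Statements.S16627
import Groth.Agent.Lib.Helper7.Mumford

set_option autoImplicit false
universe u
open Variety

namespace Groth.Agent.S16627

open AlgebraicGeometry CategoryTheory CategoryTheory.Limits in
/-- Let k be a field, F a coherent module on projective n-space P^n_k which is m-regular, and ι : F ⊗
O(-1) → F a monomorphism of O-modules (such as multiplication by a linear form that is a
nonzerodivisor on F, i.e. a hyperplane avoiding the associated points of F). Then the cokernel of ι
— the restriction of F to the hyperplane, as a module on P^n_k — is again m-regular. (Stated for an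
arbitrary monomorphism F(-1) → F and an arbitrary ground field.) -/
theorem result (k : Type u) [Field k] (n : ℕ)
    (F : (CohB1.ProjSpace n k).Modules) (hF : Coh.IsCoh F) (m : ℤ) (hreg : Curv2.IsMRegular k n F m)
    (ι : CohB1.tensorMod F (Twist.twistProjSpace n k (-1)) ⟶ F) [Mono ι] :
    Curv2.IsMRegular k n (cokernel ι) m := by
  intro i hi1 hin
  have hS : (ShortComplex.mk ι (cokernel.π ι) (cokernel.condition ι)).ShortExact :=
    ShortComplex.ShortExact.mk' (ShortComplex.exact_cokernel ι) inferInstance inferInstance
  have hT := Groth.Agent.Lib.Helper7.Mumford.shortExact_tw n k (m - i) _ hS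
  have h2 : Subsingleton (Coh.HH (CohB1.ProjSpace n k)
      (CohB1.tensorMod F (Twist.twistProjSpace n k (m - i))) i) := hreg i hi1 hin
  have h1' : Subsingleton (Coh.HH (CohB1.ProjSpace n k)
      (CohB1.tensorMod F (Twist.twistProjSpace n k (m - ((i + 1 : ℕ) : ℤ)))) (i + 1)) := by
    by_cases hn : i + 1 ≤ n
    · exact hreg (i + 1) (by omega) hn
    · haveI : Coh.IsQCoh (CohB1.tensorMod F (Twist.twistProjSpace n k (m - ((i + 1 : ℕ) : ℤ)))) :=
        Groth.Agent.Lib.Helper7.Mumford.isQCoh_tw n k F hF.1 _
      exact Groth.Agent.S0022.result n k _ (i + 1) (by omega)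
  have h1 : Subsingleton (Coh.HH (CohB1.ProjSpace n k) (CohB1.tensorMod
      (CohB1.tensorMod F (Twist.twistProjSpace n k (-1))) (Twist.twistProjSpace n k (m - i)))
      (i + 1)) :=
    (Groth.Agent.Lib.Helper7.Mumford.sub_shift n k F (-1) (m - i) (m - ((i + 1 : ℕ) : ℤ))
      (by push_cast; ring) (i + 1)).mpr h1'
  exact Groth.Agent.Lib.Helper7.TwFun.sub_right _ hT i h2 h1

end Groth.Agent.S16627
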