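import Groth.Statements.S1664
import Groth.Agent.Lib.Helper3.FreeSec

set_option autoImplicit false
universe u
open CategoryTheory CategoryTheory.Limits AlgebraicGeometry
open Variety

namespace Groth.Agent.S1664

open Groth.Agent.Lib.Helper3 QCSec InvGen InvTensor InvMonoidal InvAmple FreeSec in
/-- the tensor product of a list of modules -/
noncomputable def tensorList {X : Scheme.{u}} : List X.Modules → X.Modules
  | [] => Coh.structureModule X
  | L :: Ls => CohB1.tensorMod L (tensorList Ls)

/-- the properties of the tensor product of a list of base-point-free invertible modules -/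
def TL {X : Scheme.{u}} (Ls : List X.Modules) (M : X.Modules) : Prop :=
  PicF.IsInvertible M ∧
    (∀ x : X, ∃ s : Coh.structureModule X ⟶ M, x ∈ CohB1.genLocus _ s) ∧
    (∀ x : X, (∃ L ∈ Ls, ∃ s : Coh.structureModule X ⟶ L, x ∈ CohB1.genLocus L s ∧
        IsAffineOpen (CohB1.genLocus L s)) →
      ∃ t : Coh.structureModule X ⟶ M, x ∈ CohB1.genLocus _ t ∧
        IsAffineOpen (CohB1.genLocus _ t))

open Groth.Agent.Lib.Helper3 QCSec InvGen InvTensor InvMonoidal InvAmple FreeSec in
theorem tensorList_aux {X : Scheme.{u}} (Ls : List X.Modules)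
    (hinv : ∀ L ∈ Ls, PicF.IsInvertible L)
    (hbpf : ∀ L ∈ Ls, ∀ x : X, ∃ s : Coh.structureModule X ⟶ L, x ∈ CohB1.genLocus L s) :
    TL Ls (tensorList Ls) := by
  induction Ls with
  | nil =>
    change TL [] (Coh.structureModule X)
    refine ⟨isInvertible_structureModule X, fun x => ⟨𝟙 _, ?_⟩, ?_⟩
    · rw [genLocus_id]; trivial
    · rintro x ⟨L, hL, -⟩
      simp at hL
  | cons L Ls ih =>
    change TL (L :: Ls) (CohB1.tensorMod L (tensorList Ls))
    have hL := hinv L (List.mem_cons_self)
    obtain ⟨ih1, ih2, ih3⟩ := ih (fun L' h' => hinv L' (List.mem_cons_of_mem _ h'))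
      (fun L' h' => hbpf L' (List.mem_cons_of_mem _ h'))
    refine ⟨isInvertible_tensorMod hL ih1, fun x => ?_, ?_⟩
    · obtain ⟨s, hs⟩ := hbpf L (List.mem_cons_self) x
      obtain ⟨t, ht⟩ := ih2 x
      refine ⟨SecTwist.tmulHom s t, ?_⟩
      rw [genLocus_tmulHom hL ih1]
      exact ⟨hs, ht⟩
    · rintro x ⟨L', hL', s, hxs, haff⟩
      rcases List.mem_cons.mp hL' with rfl | hmem
      · obtain ⟨t, ht⟩ := ih2 x
        refine ⟨SecTwist.tmulHom s t, ?_, ?_⟩
        · rw [genLocus_tmulHom hL ih1]
          exact ⟨hxs, ht⟩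
        · rw [genLocus_tmulHom hL ih1, inf_comm]
          exact isAffineOpen_genLocus_inf ih1 t haff
      · obtain ⟨t, hxt, htaff⟩ := ih3 x ⟨L', hmem, s, hxs, haff⟩
        obtain ⟨s', hs'⟩ := hbpf L (List.mem_cons_self) x
        refine ⟨SecTwist.tmulHom s' t, ?_, ?_⟩
        · rw [genLocus_tmulHom hL ih1]
          exact ⟨hs', hxt⟩
        · rw [genLocus_tmulHom hL ih1]
          exact isAffineOpen_genLocus_inf hL s' htaff

open Groth.Agent.Lib.Helper3 QCSec InvGen InvTensor InvMonoidal InvAmple FreeSec in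

/-- Let X be quasi-compact. Suppose every point of X lies in the locus where some global section s of
some globally generated invertible module L generates L, with that locus affine. Then X has an ample
invertible module. -/
theorem result (X : Scheme.{u}) [CompactSpace X]
    (h : ∀ x : X, ∃ (L : X.Modules) (s : Coh.structureModule X ⟶ L), PicF.IsInvertible L ∧ Curv2.IsGloballyGenerated L ∧
      x ∈ CohB1.genLocus L s ∧ IsAffineOpen (CohB1.genLocus L s)) :
    ∃ M : X.Modules, CohB1.IsAmple M := by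
  choose L s hinv hgg hxs haff using h
  obtain ⟨t, -, ht⟩ := isCompact_univ.elim_nhds_subcover (fun x => (CohB1.genLocus (L x) (s x) : Set X))
    (fun x _ => (CohB1.genLocus (L x) (s x)).2.mem_nhds (hxs x))
  obtain ⟨h1, -, h3⟩ := tensorList_aux (t.toList.map L)
    (by
      intro L' hL'
      obtain ⟨x, -, rfl⟩ := List.mem_map.mp hL'
      exact hinv x)
    (by
      intro L' hL' y
      obtain ⟨x, -, rfl⟩ := List.mem_map.mp hL'
      exact exists_mem_genLocus_of_isGloballyGenerated (hinv x) (hgg x) y)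
  refine ⟨tensorList (t.toList.map L), h1, inferInstance, fun y => ?_⟩
  obtain ⟨x, hx, hyx⟩ := Set.mem_iUnion₂.mp (ht (Set.mem_univ y))
  obtain ⟨τ, hyτ, hτaff⟩ := h3 y ⟨L x, List.mem_map.mpr ⟨x, Finset.mem_toList.mpr hx, rfl⟩,
    s x, hyx, haff x⟩
  refine ⟨0, τ ≫ (powOne _).hom, ?_, ?_⟩
  · rw [genLocus_comp_iso]; exact hyτ
  · rw [genLocus_comp_iso]; exact hτaff

end Groth.Agent.S1664
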