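import Groth.Statements.S16644
import Mathlib.FieldTheory.Finite.Polynomial
import Mathlib.GroupTheory.Perm.Cycle.Type
import Mathlib.Algebra.CharP.Two
import Mathlib.LinearAlgebra.Matrix.Determinant.Basic

set_option autoImplicit false
open QuadZ

namespace Groth.Agent.S16644

/-- For odd n, the discriminant of the universal quadratic form Σ_{i ≤ j} A_{ij} x_i x_j in n variables
(variables A_{ij} indexed by unordered pairs), i.e. the determinant of the symmetric matrix with
diagonal entries 2 A_{ii} and off-diagonal entries A_{ij}, is divisible by 2 in the integral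
polynomial ring ℤ[A_{ij}] (so the half-discriminant is an integral polynomial). -/
theorem result (n : ℕ) (hn : Odd n) :
    (2 : MvPolynomial (Sym2 (Fin n)) ℤ) ∣
      (Matrix.of fun i j : Fin n =>
        if i = j then 2 * MvPolynomial.X (R := ℤ) (σ := Sym2 (Fin n)) (Sym2.mk i j)
        else MvPolynomial.X (R := ℤ) (σ := Sym2 (Fin n)) (Sym2.mk i j)).det := by
  classical
  have h2 : (2 : MvPolynomial (Sym2 (Fin n)) ℤ) = MvPolynomial.C ((2 : ℕ) : ℤ) := by
    simp
  suffices hkey : (MvPolynomial.map (Int.castRingHom (ZMod 2))) (Matrix.det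
      (Matrix.of fun i j : Fin n =>
        if i = j then 2 * MvPolynomial.X (R := ℤ) (σ := Sym2 (Fin n)) (Sym2.mk i j)
        else MvPolynomial.X (R := ℤ) (σ := Sym2 (Fin n)) (Sym2.mk i j))) = 0 by
    have := (MvPolynomial.C_dvd_iff_zmod 2 _).mpr hkey
    rwa [← h2] at this
  rw [RingHom.map_det]
  set N : Matrix (Fin n) (Fin n) (MvPolynomial (Sym2 (Fin n)) (ZMod 2)) :=
    (MvPolynomial.map (Int.castRingHom (ZMod 2))).mapMatrix (Matrix.of fun i j : Fin n =>
        if i = j then 2 * MvPolynomial.X (R := ℤ) (σ := Sym2 (Fin n)) (Sym2.mk i j)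
        else MvPolynomial.X (R := ℤ) (σ := Sym2 (Fin n)) (Sym2.mk i j)) with hNdef
  have htwo : (2 : MvPolynomial (Sym2 (Fin n)) (ZMod 2)) = 0 := CharTwo.two_eq_zero
  have hN : ∀ i j, N i j = if i = j then 0 else MvPolynomial.X (Sym2.mk i j) := by
    intro i j
    rw [hNdef, RingHom.mapMatrix_apply, Matrix.map_apply, Matrix.of_apply]
    split_ifs with h
    · rw [map_mul, map_ofNat, htwo, zero_mul]
    · simp
  have hsymm : ∀ i j, N i j = N j i := by
    intro i j
    rw [hN, hN]
    by_cases h : i = j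
    · subst h; rfl
    · rw [if_neg h, if_neg (Ne.symm h), Sym2.eq_swap]
  have hdiag : ∀ i, N i i = 0 := by
    intro i
    rw [hN, if_pos rfl]
  rw [Matrix.det_apply]
  apply Finset.sum_ninvolution (fun σ : Equiv.Perm (Fin n) => σ⁻¹)
  · intro σ
    have hprod : ∏ i, N (σ⁻¹ i) i = ∏ i, N (σ i) i := by
      rw [← Equiv.prod_comp σ (fun i => N (σ⁻¹ i) i)]
      apply Finset.prod_congr rfl
      intro j _
      rw [Equiv.Perm.coe_inv, Equiv.symm_apply_apply, hsymm]
    rw [Equiv.Perm.sign_inv, hprod]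
    exact CharTwo.add_self_eq_zero _
  · intro σ hσ hinv
    apply hσ
    have hσ2 : σ ^ 2 ^ 1 = 1 := by
      rw [pow_one, pow_two]
      calc σ * σ = σ⁻¹ * σ := by rw [hinv]
        _ = 1 := inv_mul_cancel σ
    have hcard : ¬ 2 ∣ Fintype.card (Fin n) := by
      rw [Fintype.card_fin]
      exact hn.not_two_dvd_nat
    have : Fact (Nat.Prime 2) := ⟨Nat.prime_two⟩
    obtain ⟨a, ha⟩ := Equiv.Perm.exists_fixed_point_of_prime hcard hσ2
    have : ∏ i, N (σ i) i = 0 := by
      apply Finset.prod_eq_zero (Finset.mem_univ a)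
      rw [ha, hdiag]
    rw [this, smul_zero]
  · intro σ
    exact Finset.mem_univ _
  · intro σ
    exact inv_inv σ

end Groth.Agent.S16644
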