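import Groth.Statements.S1665
import Mathlib
import Groth.Agent.Lib.Helper12.KAExt

set_option autoImplicit false
universe u
open Variety

namespace Groth.Agent.S1665

/-- Let B be a Noetherian domain of dimension one with finitely many maximal ideals and B' its integral
closure in its fraction field. Then B' is a Dedekind domain with finitely many maximal ideals, and
for every nonzero x in the Jacobson radical of B' and every y ∈ B' some power x^n satisfies x^n y ∈
B. -/
theorem result (B : Type u) [CommRing B] [IsDomain B] [IsNoetherianRing B]
    (hdim : ringKrullDim B = 1) (hsl : Finite (MaximalSpectrum B)) :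
    IsDedekindDomain (integralClosure B (FractionRing B)) ∧ Finite (MaximalSpectrum (integralClosure B (FractionRing B))) ∧
      ∀ x : integralClosure B (FractionRing B), x ≠ 0 → x ∈ (⊥ : Ideal (integralClosure B (FractionRing B))).jacobson →
        ∀ y : integralClosure B (FractionRing B), ∃ n : ℕ, (x ^ n * y).1 ∈ (algebraMap B (FractionRing B)).range := by
  obtain ⟨hdom, hinj, hbir, hic⟩ :=
    Groth.Agent.Lib.Helper12.KAExt.integralClosure_props B (FractionRing B)
  have hK1 : Ring.KrullDimLE 1 B := by
    rw [Ring.krullDimLE_iff]
    exact hdim.le
  have hDed : IsDedekindDomain (integralClosure B (FractionRing B)) :=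
    Groth.Agent.Lib.Helper12.KAExt.isDedekindDomain_of_bir hinj hbir
  refine ⟨hDed, ?_, ?_⟩
  · -- finitely many maximal ideals
    have hfib : ∀ p : PrimeSpectrum B, (PrimeSpectrum.comap
        (algebraMap B (integralClosure B (FractionRing B))) ⁻¹' {p}).Finite :=
      Groth.Agent.Lib.Helper12.KAExt.finite_fibre hinj hbir
    have hf : Function.Injective
        (MaximalSpectrum.toPrimeSpectrum (R := integralClosure B (FractionRing B))) :=
      MaximalSpectrum.toPrimeSpectrum_injective
    have hrange : Set.range
        (MaximalSpectrum.toPrimeSpectrum (R := integralClosure B (FractionRing B))) ⊆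
        ⋃ m : MaximalSpectrum B, PrimeSpectrum.comap
          (algebraMap B (integralClosure B (FractionRing B))) ⁻¹' {m.toPrimeSpectrum} := by
      rintro _ ⟨M, rfl⟩
      have hmax : (M.asIdeal.comap
          (algebraMap B (integralClosure B (FractionRing B)))).IsMaximal :=
        Ideal.isMaximal_comap_of_isIntegral_of_isMaximal M.asIdeal
      refine Set.mem_iUnion.2 ⟨⟨_, hmax⟩, ?_⟩
      rfl
    have hfin : (Set.range
        (MaximalSpectrum.toPrimeSpectrum (R := integralClosure B (FractionRing B)))).Finite :=
      (Set.finite_iUnion fun m => hfib _).subset hrange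
    have := hfin.to_subtype
    exact Finite.of_injective_finite_range hf
  · intro x hx0 hxJ y
    -- the finite subalgebra generated by `x` and `y`
    have hsint : ∀ z ∈ ({x.1, y.1} : Set (FractionRing B)), IsIntegral B z := by
      rintro z (rfl | rfl)
      · exact x.2
      · exact y.2
    have hCB' : Algebra.adjoin B ({x.1, y.1} : Set (FractionRing B)) ≤
        integralClosure B (FractionRing B) := Algebra.adjoin_le hsint
    obtain ⟨t, ht⟩ := fg_adjoin_of_finite (Set.toFinite ({x.1, y.1} : Set (FractionRing B))) hsint
    obtain ⟨d, hd⟩ := IsLocalization.exist_integer_multiples_of_finset (nonZeroDivisors B) t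
    have hd0 : (d : B) ≠ 0 := nonZeroDivisors.coe_ne_zero d
    have hdC : ∀ c ∈ Algebra.adjoin B ({x.1, y.1} : Set (FractionRing B)),
        algebraMap B (FractionRing B) d * c ∈ (algebraMap B (FractionRing B)).range := by
      have key : ∀ c ∈ Submodule.span B (t : Set (FractionRing B)),
          algebraMap B (FractionRing B) d * c ∈ (algebraMap B (FractionRing B)).range := by
        intro c hc'
        induction hc' using Submodule.span_induction with
        | mem z hz =>
          obtain ⟨b, hb⟩ := hd z hz
          exact ⟨b, by rw [hb, Algebra.smul_def]⟩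
        | zero => exact ⟨0, by simp⟩
        | add u v _ _ hu hv =>
          rw [mul_add]
          exact add_mem hu hv
        | smul r u _ hu =>
          rw [Algebra.smul_def, mul_left_comm]
          exact mul_mem ⟨r, rfl⟩ hu
      intro c hc
      apply key
      rw [ht]
      exact hc
    -- the conductor ideal of `C`
    let cond : Ideal (Algebra.adjoin B ({x.1, y.1} : Set (FractionRing B))) :=
      { carrier := {c | ∀ c' : Algebra.adjoin B ({x.1, y.1} : Set (FractionRing B)),
          (c.1 * c'.1) ∈ (algebraMap B (FractionRing B)).range}
        add_mem' := fun {a b} ha hb c' => by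
          change (a.1 + b.1) * c'.1 ∈ _
          rw [add_mul]
          exact add_mem (ha c') (hb c')
        zero_mem' := fun c' => by
          change (0 : FractionRing B) * c'.1 ∈ _
          rw [zero_mul]
          exact zero_mem _
        smul_mem' := fun r a ha c' => by
          change (r.1 * a.1) * c'.1 ∈ _
          have := ha (r * c')
          change a.1 * (r.1 * c'.1) ∈ _ at this
          rwa [mul_assoc, mul_left_comm] }
    let xC : Algebra.adjoin B ({x.1, y.1} : Set (FractionRing B)) :=
      ⟨x.1, Algebra.subset_adjoin (Set.mem_insert _ _)⟩
    let yC : Algebra.adjoin B ({x.1, y.1} : Set (FractionRing B)) :=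
      ⟨y.1, Algebra.subset_adjoin (Set.mem_insert_of_mem _ rfl)⟩
    let dC : Algebra.adjoin B ({x.1, y.1} : Set (FractionRing B)) :=
      algebraMap B _ (d : B)
    have hdC0 : dC ≠ 0 := by
      intro h
      have h' := congrArg Subtype.val h
      change algebraMap B (FractionRing B) d = 0 at h'
      rw [map_eq_zero_iff _ (IsFractionRing.injective B (FractionRing B))] at h'
      exact hd0 h'
    have hdcond : dC ∈ cond := by
      intro c'
      change algebraMap B (FractionRing B) d * c'.1 ∈ _
      exact hdC _ c'.2
    -- `x` lies in every prime of `C` containing the conductor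
    have hrad : xC ∈ cond.radical := by
      rw [Ideal.radical_eq_sInf, Ideal.mem_sInf]
      rintro P ⟨hcP, hP⟩
      let _ : Algebra (Algebra.adjoin B ({x.1, y.1} : Set (FractionRing B)))
          (integralClosure B (FractionRing B)) := (Subalgebra.inclusion hCB').toRingHom.toAlgebra
      have htower : IsScalarTower B (Algebra.adjoin B ({x.1, y.1} : Set (FractionRing B)))
          (integralClosure B (FractionRing B)) :=
        IsScalarTower.of_algebraMap_eq fun b => rfl
      have hint : Algebra.IsIntegral (Algebra.adjoin B ({x.1, y.1} : Set (FractionRing B)))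
          (integralClosure B (FractionRing B)) :=
        ⟨fun z => (integralClosure.isIntegral z).tower_top⟩
      have hinjC : Function.Injective (algebraMap
          (Algebra.adjoin B ({x.1, y.1} : Set (FractionRing B)))
          (integralClosure B (FractionRing B))) := Subalgebra.inclusion_injective hCB'
      obtain ⟨Q, -, hQ, hQP⟩ := Ideal.exists_ideal_over_prime_of_isIntegral P
        (⊥ : Ideal (integralClosure B (FractionRing B))) (by
          rw [← RingHom.ker_eq_comap_bot, (RingHom.injective_iff_ker_eq_bot _).1 hinjC]
          exact bot_le)
      have hQ0 : Q ≠ ⊥ := by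
        rintro rfl
        have : dC ∈ Ideal.comap (algebraMap
          (Algebra.adjoin B ({x.1, y.1} : Set (FractionRing B)))
          (integralClosure B (FractionRing B))) ⊥ := by
          rw [hQP]
          exact hcP hdcond
        rw [Ideal.mem_comap, Ideal.mem_bot, map_eq_zero_iff _ hinjC] at this
        exact hdC0 this
      have hQmax : Q.IsMaximal := hQ.isMaximal hQ0
      have hxQ : x ∈ Q := by
        rw [Ideal.jacobson, Ideal.mem_sInf] at hxJ
        exact hxJ ⟨bot_le, hQmax⟩
      rw [← hQP, Ideal.mem_comap]
      exact hxQ
    obtain ⟨n, hn⟩ := hrad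
    refine ⟨n, ?_⟩
    exact hn yC

end Groth.Agent.S1665
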