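import Groth.Statements.S16663
import Groth.Agent.Lib.Helper25.ConnTrace

set_option autoImplicit false
universe v u
open TensorProduct
open Conn

namespace Groth.Agent.S16663

open Groth.Agent.Lib.Helper25.ConnLib in
/-- Let B be an A-algebra with a receptacle of differentials (Ω, δ), Ω a finite free B-module (the local
form of a weakly smooth scheme), and let M be a finitely ℤ-graded B-module presented as a finite
family of finite free B-modules M_i with integer degrees deg i (the local form of a graded vector
bundle), with total module Π_i M_i. Let ∇ be a connection on Π_i M_i preserving the grading, in the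
sense that (pr_j ⊗ 1)(∇(ι_i m)) = 0 for m ∈ M_i whenever deg i ≠ deg j, and let ∇_E be the induced
connection on the B-linear endomorphisms, the one with (ev_m ⊗ 1)(∇_E φ) = ∇(φ m) − (φ ⊗ 1)(∇ m).
Give B the connection b ↦ 1 ⊗ δ b. Then the supertrace, φ ↦ tr(ε ∘ φ) with ε = Σ_i (−1)^{deg i} ι_i
∘ pr_i the grading involution, is a horizontal map End_B(Π_i M_i) → B. -/
theorem result {A : Type v} {B Ω ι : Type u}
    [CommRing A] [CommRing B] [Algebra A B]
    [AddCommGroup Ω] [Module B Ω] [Module A Ω] [IsScalarTower A B Ω] [Module.Finite B Ω] [Module.Free B Ω]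
    [Fintype ι] [DecidableEq ι] (deg : ι → ℤ) (M : ι → Type u)
    [∀ i, AddCommGroup (M i)] [∀ i, Module B (M i)] [∀ i, Module A (M i)] [∀ i, IsScalarTower A B (M i)]
    [∀ i, Module.Free B (M i)] [∀ i, Module.Finite B (M i)]
    (δ : Derivation A B Ω) (nabla : (Π k, M k) →ₗ[A] (Π k, M k) ⊗[B] Ω) (hc : Conn.IsConn δ nabla)
    (hgr : ∀ i j : ι, deg i ≠ deg j → ∀ m : M i,
      TensorProduct.map (LinearMap.proj j : (Π k, M k) →ₗ[B] M j) LinearMap.id (nabla (LinearMap.single B M i m)) = 0)
    (nablaE : ((Π k, M k) →ₗ[B] (Π k, M k)) →ₗ[A] ((Π k, M k) →ₗ[B] (Π k, M k)) ⊗[B] Ω)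
    (hE : Conn.IsHomConn nabla nabla nablaE) :
    Conn.IsHorizontal nablaE (Conn.triv δ)
      (LinearMap.trace B (Π k, M k) ∘ₗ LinearMap.llcomp B (Π k, M k) (Π k, M k) (Π k, M k)
        (∑ i : ι, (LinearMap.single B M i) ∘ₗ (((-1 : B) ^ (deg i).natAbs) • (LinearMap.proj i : (Π k, M k) →ₗ[B] M i)))) := by
  set s : ι → B := fun i => (-1 : B) ^ (deg i).natAbs with hs
  set ε : (Π k, M k) →ₗ[B] (Π k, M k) :=
    ∑ i : ι, (LinearMap.single B M i) ∘ₗ (s i • (LinearMap.proj i : (Π k, M k) →ₗ[B] M i)) with hε
  -- δ kills the signs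
  have hδs : ∀ i, δ (s i) = 0 := by
    intro i
    have h1 : δ (-1 : B) = 0 := by
      rw [map_neg, Derivation.map_one_eq_zero, neg_zero]
    simp only [hs, Derivation.leibniz_pow, h1, smul_zero]
  -- the identity as a sum of projectors
  have hid : ∑ k : ι, (LinearMap.single B M k) ∘ₗ (LinearMap.proj k : (Π k, M k) →ₗ[B] M k) =
      LinearMap.id := by
    apply LinearMap.ext
    intro x
    rw [LinearMap.sum_apply]
    simp only [LinearMap.comp_apply, LinearMap.proj_apply, LinearMap.single_apply, LinearMap.id_apply]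
    exact Finset.univ_sum_single x
  -- ε on a homogeneous element
  have hεsingle : ∀ (i : ι) (m : M i), ε (LinearMap.single B M i m) = s i • LinearMap.single B M i m := by
    intro i m
    rw [hε, LinearMap.sum_apply, Finset.sum_eq_single i]
    · simp only [LinearMap.comp_apply, LinearMap.smul_apply, LinearMap.proj_apply,
        LinearMap.single_apply, Pi.single_eq_same]
      exact Pi.single_smul i (s i) m
    · intro k _ hki
      simp [Pi.single_eq_of_ne hki]
    · intro h; exact absurd (Finset.mem_univ i) h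
  -- ε is horizontal
  have hεhor : ∀ x : (Π k, M k), nabla (ε x) = TensorProduct.map ε LinearMap.id (nabla x) := by
    intro x
    have hx : x = ∑ i, LinearMap.single B M i (x i) := by
      simp only [LinearMap.single_apply]
      exact (Finset.univ_sum_single x).symm
    rw [hx, map_sum, map_sum, map_sum, map_sum]
    apply Finset.sum_congr rfl
    intro i _
    set y := nabla (LinearMap.single B M i (x i)) with hy
    rw [hεsingle, hc, hδs, tmul_zero, add_zero, ← hy, hε, map_sum_id]
    have : ∀ k, TensorProduct.map ((LinearMap.single B M k) ∘ₗ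
        (s k • (LinearMap.proj k : (Π k, M k) →ₗ[B] M k))) LinearMap.id y =
        s i • TensorProduct.map ((LinearMap.single B M k) ∘ₗ
        (LinearMap.proj k : (Π k, M k) →ₗ[B] M k)) LinearMap.id y := by
      intro k
      by_cases hk : deg i = deg k
      · have : s k = s i := by simp only [hs, hk]
        rw [LinearMap.comp_smul, map_smul_id, this]
      · rw [← map_map_id, ← map_map_id, map_smul_id, hy, hgr i k hk (x i)]
        simp
    rw [Finset.sum_congr rfl fun k _ => this k, ← Finset.smul_sum, ← map_sum_id, hid]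
    simp
  -- the endomorphism connection commutes with left composition by ε
  have hcomp : ∀ φ : (Π k, M k) →ₗ[B] (Π k, M k), nablaE (ε ∘ₗ φ) =
      TensorProduct.map (LinearMap.llcomp B (Π k, M k) (Π k, M k) (Π k, M k) ε) LinearMap.id
        (nablaE φ) := by
    intro φ
    apply eq_of_forall_map_applyₗ_eq
    intro e
    have h1 : LinearMap.applyₗ e ∘ₗ LinearMap.llcomp B (Π k, M k) (Π k, M k) (Π k, M k) ε =
        ε ∘ₗ LinearMap.applyₗ e := by
      apply LinearMap.ext
      intro ψ
      rfl
    rw [map_map_id, h1, ← map_map_id, hE φ e, hE (ε ∘ₗ φ) e, map_sub, map_map_id,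
      LinearMap.comp_apply, hεhor]
  intro φ
  rw [LinearMap.comp_apply]
  have h2 : (LinearMap.llcomp B (Π k, M k) (Π k, M k) (Π k, M k) ε) φ = ε ∘ₗ φ := rfl
  rw [h2, isHorizontal_trace δ nabla hc nablaE hE (ε ∘ₗ φ), hcomp, map_map_id]

end Groth.Agent.S16663
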