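import Groth.Statements.S16666
import Groth.Agent.Lib.Helper25.ConnLib

set_option autoImplicit false
universe v u
open TensorProduct
open Conn

namespace Groth.Agent.S16666

open Groth.Agent.Lib.Helper25.ConnLib in
/-- Let B be an A-algebra with a receptacle of differentials (Ω, δ), Ω a finite free B-module, and let
E, F, G be B-modules with connections ∇_E, ∇_F, ∇_G, E finitely presented. Equip Hom_B(E,F) and
Hom_B(E, F ⊗ G) with the induced connections (the connection ∇'' on Hom_B(E,Y) being the one with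
(ev_e ⊗ 1)(∇'' φ) = ∇_Y(φ e) − (φ ⊗ 1)(∇_E e)), and F ⊗ G and Hom_B(E,F) ⊗ G with the tensor-product
connections. Then the canonical map Hom_B(E,F) ⊗ G → Hom_B(E, F ⊗ G), φ ⊗ g ↦ (e ↦ φ(e) ⊗ g), is
horizontal. (The published statement is for bounded complexes with termwise connections, the Hom
complex and the tensor-product complex; this row is the case of single modules, that is, complexes
concentrated in one degree.) -/
theorem result {A : Type v} {B Ω E F G : Type u}
    [CommRing A] [CommRing B] [Algebra A B]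
    [AddCommGroup Ω] [Module B Ω] [Module A Ω] [IsScalarTower A B Ω] [Module.Finite B Ω] [Module.Free B Ω]
    [AddCommGroup E] [Module B E] [Module A E] [IsScalarTower A B E] [Module.FinitePresentation B E]
    [AddCommGroup F] [Module B F] [Module A F] [IsScalarTower A B F]
    [AddCommGroup G] [Module B G] [Module A G] [IsScalarTower A B G]
    (δ : Derivation A B Ω)
    (nE : E →ₗ[A] E ⊗[B] Ω) (hcE : Conn.IsConn δ nE)
    (nF : F →ₗ[A] F ⊗[B] Ω) (hcF : Conn.IsConn δ nF)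
    (nG : G →ₗ[A] G ⊗[B] Ω) (hcG : Conn.IsConn δ nG)
    (nEF : (E →ₗ[B] F) →ₗ[A] (E →ₗ[B] F) ⊗[B] Ω) (hEF : Conn.IsHomConn nE nF nEF)
    (nFG : F ⊗[B] G →ₗ[A] (F ⊗[B] G) ⊗[B] Ω) (hFG : Conn.IsTensorConn nF nG nFG)
    (nH : (E →ₗ[B] F ⊗[B] G) →ₗ[A] (E →ₗ[B] F ⊗[B] G) ⊗[B] Ω) (hH : Conn.IsHomConn nE nFG nH)
    (nS : (E →ₗ[B] F) ⊗[B] G →ₗ[A] ((E →ₗ[B] F) ⊗[B] G) ⊗[B] Ω) (hS : Conn.IsTensorConn nEF nG nS) :
    Conn.IsHorizontal nS nH (TensorProduct.rTensorHomToHomRTensor (RingHom.id B) E F G) := by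
  apply isHorizontal_of_tmul
  intro φ g
  apply eq_of_forall_map_applyₗ_eq
  intro e
  set ρ := TensorProduct.rTensorHomToHomRTensor (RingHom.id B) E F G with hρ
  rw [hS φ g, map_add, map_add, map_swapR_tmul, map_assoc_symm_tmul, map_map_id, map_map_id]
  have h1 : LinearMap.applyₗ e ∘ₗ ρ ∘ₗ (TensorProduct.mk B (E →ₗ[B] F) G).flip g =
      (TensorProduct.mk B F G).flip g ∘ₗ LinearMap.applyₗ e := by
    apply LinearMap.ext
    intro φ'
    simp [hρ]
  have h2 : LinearMap.applyₗ e ∘ₗ ρ ∘ₗ TensorProduct.mk B (E →ₗ[B] F) G φ =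
      TensorProduct.mk B F G (φ e) := by
    apply LinearMap.ext
    intro g'
    simp [hρ]
  have h3 : ρ (φ ⊗ₜ[B] g) = (TensorProduct.mk B F G).flip g ∘ₗ φ := by
    apply LinearMap.ext
    intro e'
    simp [hρ]
  have h4 : ∀ y : F ⊗[B] Ω, TensorProduct.map ((TensorProduct.mk B F G).flip g) LinearMap.id y =
      Conn.swapR (y ⊗ₜ[B] g) := by
    intro y
    have := map_swapR_tmul (LinearMap.id : F ⊗[B] G →ₗ[B] F ⊗[B] G) y g
    rw [LinearMap.id_comp] at this
    rw [← this]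
    simp
  have h5 : ∀ (f : F) (z : G ⊗[B] Ω), TensorProduct.map (TensorProduct.mk B F G f) LinearMap.id z =
      (TensorProduct.assoc B F G Ω).symm (f ⊗ₜ[B] z) := by
    intro f z
    have := map_assoc_symm_tmul (LinearMap.id : F ⊗[B] G →ₗ[B] F ⊗[B] G) f z
    rw [LinearMap.id_comp] at this
    rw [← this]
    simp
  rw [h1, h2, ← map_map_id ((TensorProduct.mk B F G).flip g) (LinearMap.applyₗ e), hEF φ e,
    hH (ρ (φ ⊗ₜ[B] g)) e, h3, LinearMap.comp_apply, map_sub, map_map_id, h4, h5]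
  have h6 : ((TensorProduct.mk B F G).flip g) (φ e) = φ e ⊗ₜ[B] g := rfl
  rw [h6, hFG (φ e) g]
  abel

end Groth.Agent.S16666
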