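import Groth.Statements.S16667
import Mathlib
import Groth.Agent.Lib.Helper28.DepthLoc

set_option autoImplicit false
universe u
open CAlg

namespace Groth.Agent.S16667


open Groth.Agent.Lib.Helper4 Groth.Agent.Lib.Helper28 in
theorem aux {A : Type u} [CommRing A] [IsDomain A] [IsNoetherianRing A] (x : FractionRing A)
    (hx : ∀ (p : Ideal A) [p.IsPrime],
      LocCoh.depth (Localization.AtPrime p) (Localization.AtPrime p) = 1 →
        x ∈ Set.range (algebraMap (Localization.AtPrime p) (FractionRing A))) :
    x ∈ Set.range (algebraMap A (FractionRing A)) := by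
  classical
  obtain ⟨a, b, hb, rfl⟩ := IsFractionRing.div_surjective A x
  have hb0 : b ≠ 0 := nonZeroDivisors.ne_zero hb
  have hbK : algebraMap A (FractionRing A) b ≠ 0 := by
    rwa [Ne, FaithfulSMul.algebraMap_eq_zero_iff]
  by_contra hnot
  let y : QuotSMulTop b A := Submodule.Quotient.mk a
  have hy : y ≠ 0 := by
    intro h0
    rw [Submodule.Quotient.mk_eq_zero, Submodule.mem_smul_pointwise_iff_exists] at h0
    obtain ⟨c, -, hc⟩ := h0
    apply hnot
    refine ⟨c, ?_⟩
    rw [← hc, smul_eq_mul, map_mul, mul_div_cancel_left₀ _ hbK]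
  obtain ⟨P, hP, hle⟩ := exists_le_isAssociatedPrime_of_isNoetherianRing (R := A) y hy
  haveI := hP.isPrime
  have hbP : b ∈ P := by
    apply hP.annihilator_le
    rw [Submodule.mem_annihilator]
    intro n _
    obtain ⟨c, rfl⟩ := Submodule.Quotient.mk_surjective _ n
    rw [← Submodule.Quotient.mk_smul, Submodule.Quotient.mk_eq_zero]
    exact Submodule.smul_mem_pointwise_smul _ _ _ Submodule.mem_top
  have hreg : IsSMulRegular A b := fun c d h => mul_left_cancel₀ hb0 h
  have h1 := depth_localization_quotSMulTop (M := A) P hbP hreg
  have h0 : LocCoh.depth (Localization.AtPrime P)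
      (LocalizedModule P.primeCompl (QuotSMulTop b A)) = 0 := by
    rw [depth_eq_zero_iff_maximalIdeal_mem_associatedPrimes]
    exact Module.associatedPrimes.mem_associatedPrimes_atPrime_of_mem_associatedPrimes hP
  rw [h0, zero_add] at h1
  let e0 : LocalizedModule P.primeCompl A ≃ₗ[A] Localization.AtPrime P :=
    IsLocalizedModule.linearEquiv P.primeCompl (LocalizedModule.mkLinearMap P.primeCompl A)
      (Algebra.linearMap A (Localization.AtPrime P))
  let e : LocalizedModule P.primeCompl A ≃ₗ[Localization.AtPrime P] Localization.AtPrime P :=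
    e0.extendScalarsOfIsLocalization P.primeCompl (Localization.AtPrime P)
  have hd : LocCoh.depth (Localization.AtPrime P) (Localization.AtPrime P) = 1 := by
    unfold LocCoh.depth
    rw [← Groth.Agent.Lib.Helper4.idealDepth_congr _ e]
    exact h1.symm
  obtain ⟨z, hz⟩ := hx P hd
  obtain ⟨c, u, rfl⟩ := IsLocalization.exists_mk'_eq P.primeCompl z
  have h2 : algebraMap (Localization.AtPrime P) (FractionRing A)
      (IsLocalization.mk' _ c u) * algebraMap A (FractionRing A) u =
      algebraMap A (FractionRing A) c := by
    rw [IsScalarTower.algebraMap_apply A (Localization.AtPrime P) (FractionRing A) u, ← map_mul,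
      IsLocalization.mk'_spec, ← IsScalarTower.algebraMap_apply]
  rw [hz] at h2
  have h3 : algebraMap A (FractionRing A) (a * u) = algebraMap A (FractionRing A) (b * c) := by
    rw [map_mul, map_mul, ← h2]; field_simp
  have h4 : a * u = b * c := IsFractionRing.injective A (FractionRing A) h3
  have hu : (u : A) ∈ (⊥ : Submodule A (QuotSMulTop b A)).colon {y} := by
    rw [Submodule.mem_colon_singleton, Submodule.mem_bot]
    show (u : A) • (Submodule.Quotient.mk a : QuotSMulTop b A) = 0
    rw [← Submodule.Quotient.mk_smul, Submodule.Quotient.mk_eq_zero, smul_eq_mul, mul_comm, h4]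
    exact Submodule.smul_mem_pointwise_smul _ _ _ Submodule.mem_top
  exact u.2 (hle hu)

/-- Let A be a Noetherian integral domain satisfying Serre's condition (S_2), with fraction field K. An
element of K which lies in the localization A_p for every prime p of A with depth(A_p) = 1 lies in
A. -/
theorem result {A : Type u} [CommRing A] [IsDomain A]
    [IsNoetherianRing A] (hS2 : LocCoh.HasSk 2 A A) (x : FractionRing A)
    (hx : ∀ (p : Ideal A) [p.IsPrime],
      LocCoh.depth (Localization.AtPrime p) (Localization.AtPrime p) = 1 →
        x ∈ Set.range (algebraMap (Localization.AtPrime p) (FractionRing A))) :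
    x ∈ Set.range (algebraMap A (FractionRing A)) := by
  exact aux x hx

end Groth.Agent.S16667
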