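import Groth.Statements.S16688
import Groth.Agent.Lib.Helper25.HopfLib

set_option autoImplicit false
universe u v w
open ComodSub

namespace Groth.Agent.S16688

open TensorProduct Coalgebra HopfAlgebra

section aux
variable {k : Type u} [CommRing k] {A : Type v} [CommRing A] [HopfAlgebra k A]
  {M : Type w} [AddCommGroup M] [Module k M]

/-- `a ⊗ (b ⊗ p) ↦ p ⊗ (S b ⊗ S a)` -/
noncomputable def Psi (k : Type u) [CommRing k] (A : Type v) [CommRing A] [HopfAlgebra k A]
    (M : Type w) [AddCommGroup M] [Module k M] : A ⊗[k] (A ⊗[k] M) →ₗ[k] M ⊗[k] (A ⊗[k] A) :=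
  (TensorProduct.map (antipode k) (antipode k)).lTensor M ∘ₗ
    (TensorProduct.assoc k M A A).toLinearMap ∘ₗ
    (TensorProduct.comm k A M).toLinearMap.rTensor A ∘ₗ
    (TensorProduct.comm k A (A ⊗[k] M)).toLinearMap

theorem Psi_tmul (a b : A) (p : M) :
    Psi k A M (a ⊗ₜ[k] (b ⊗ₜ[k] p)) = p ⊗ₜ[k] (antipode k b ⊗ₜ[k] antipode k a) := by
  simp [Psi]

theorem Psi_tmul' (a : A) (z : A ⊗[k] M) :
    Psi k A M (a ⊗ₜ[k] z) =
      TensorProduct.assoc k M A A
        (TensorProduct.comm k A M ((antipode k (A := A)).rTensor M z) ⊗ₜ[k] antipode k a) := by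
  induction z using TensorProduct.induction_on with
  | zero => simp
  | tmul b p => simp [Psi_tmul]
  | add x y hx hy => simp only [tmul_add, map_add, add_tmul, hx, hy]

theorem Psi_assoc_tmul (w : A ⊗[k] A) (n : M) :
    Psi k A M (TensorProduct.assoc k A A M (w ⊗ₜ[k] n)) =
      n ⊗ₜ[k] TensorProduct.map (antipode k) (antipode k) (TensorProduct.comm k A A w) := by
  induction w using TensorProduct.induction_on with
  | zero => simp
  | tmul a b => simp [Psi_tmul]
  | add x y hx hy => simp only [add_tmul, map_add, tmul_add, hx, hy]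

end aux

open Groth.Agent.Lib.Helper25.HopfLib in
/-- Let `k` be a commutative ring, `A` a commutative Hopf algebra over `k` with antipode `S`, and `M` a
`k`-module with a left `A`-comodule structure `m ↦ Σ m₋₁ ⊗ m₀`. Then the map `M → M ⊗ A`, `m ↦ Σ m₀
⊗ S(m₋₁)`, is coassociative and counital: it is the coaction of a right `A`-comodule structure on
`M` (a right structure is determined by its coaction, so this structure is unique). -/
theorem result (k : Type u) [CommRing k]
    (A : Type v) [CommRing A] [HopfAlgebra k A]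
    (M : Type w) [AddCommGroup M] [Module k M] (l : ComodSub.LComod k A M) :
    ∃ c : HopfRep.Comod k A M, c.coact = ComodSub.rcoactOfLeft l := by
  -- (I)
  have hI : (TensorProduct.assoc k M A A).toLinearMap ∘ₗ (rcoactOfLeft l).rTensor A ∘ₗ
      (TensorProduct.comm k A M).toLinearMap ∘ₗ (antipode k (A := A)).rTensor M =
      Psi k A M ∘ₗ l.coact.lTensor A := by
    apply TensorProduct.ext'
    intro a n
    simp only [LinearMap.comp_apply, LinearEquiv.coe_coe, LinearMap.rTensor_tmul,
      TensorProduct.comm_tmul, LinearMap.lTensor_tmul]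
    rw [Psi_tmul', rcoactOfLeft_apply]
  -- (II)
  have hII : Psi k A M ∘ₗ (TensorProduct.assoc k A A M).toLinearMap ∘ₗ
      (comul (R := k) (A := A)).rTensor M =
      (comul (R := k) (A := A)).lTensor M ∘ₗ
        (TensorProduct.comm k A M).toLinearMap ∘ₗ (antipode k (A := A)).rTensor M := by
    apply TensorProduct.ext'
    intro a n
    simp only [LinearMap.comp_apply, LinearEquiv.coe_coe, LinearMap.rTensor_tmul,
      TensorProduct.comm_tmul, LinearMap.lTensor_tmul]
    rw [Psi_assoc_tmul, comul_antipode]
  refine ⟨{ coact := rcoactOfLeft l, coassoc := ?_, counit_comp := ?_ }, rfl⟩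
  · apply LinearMap.ext
    intro m
    have h1 := LinearMap.congr_fun hI (l.coact m)
    have h2 := LinearMap.congr_fun hII (l.coact m)
    have h3 := LinearMap.congr_fun l.coassoc m
    simp only [LinearMap.comp_apply, LinearEquiv.coe_coe] at h1 h2 h3 ⊢
    rw [rcoactOfLeft_apply, h1, h3, h2]
  · apply LinearMap.ext
    intro m
    have h3 := LinearMap.congr_fun l.counit_comp m
    simp only [LinearMap.comp_apply] at h3 ⊢
    rw [rcoactOfLeft_apply]
    have key : ∀ z : A ⊗[k] M, (counit (R := k) (A := A)).lTensor M
        (TensorProduct.comm k A M ((antipode k (A := A)).rTensor M z)) =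
        TensorProduct.comm k k M ((counit (R := k) (A := A)).rTensor M z) := by
      intro z
      induction z using TensorProduct.induction_on with
      | zero => simp
      | tmul a n => simp
      | add x y hx hy => simp only [map_add, hx, hy]
    rw [key, h3]
    simp

end Groth.Agent.S16688
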