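import Groth.Statements.S16689
import Groth.Agent.Lib.Helper25.HopfLib

set_option autoImplicit false
universe u v w
open ComodSub

namespace Groth.Agent.S16689

open TensorProduct Coalgebra HopfAlgebra

section aux
variable {k : Type u} [CommRing k] {A : Type v} [CommRing A] [HopfAlgebra k A]
  {M : Type w} [AddCommGroup M] [Module k M]

/-- `(p ⊗ b) ⊗ a ↦ S a ⊗ (S b ⊗ p)` -/
noncomputable def Psi' (k : Type u) [CommRing k] (A : Type v) [CommRing A] [HopfAlgebra k A]
    (M : Type w) [AddCommGroup M] [Module k M] : (M ⊗[k] A) ⊗[k] A →ₗ[k] A ⊗[k] (A ⊗[k] M) :=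
  (TensorProduct.assoc k A A M).toLinearMap ∘ₗ
    (TensorProduct.map (antipode k) (antipode k)).rTensor M ∘ₗ
    (TensorProduct.assoc k A A M).symm.toLinearMap ∘ₗ
    (TensorProduct.comm k M A).toLinearMap.lTensor A ∘ₗ
    (TensorProduct.comm k (M ⊗[k] A) A).toLinearMap

theorem Psi'_tmul (a b : A) (p : M) :
    Psi' k A M ((p ⊗ₜ[k] b) ⊗ₜ[k] a) = antipode k a ⊗ₜ[k] (antipode k b ⊗ₜ[k] p) := by
  simp [Psi']

theorem Psi'_tmul' (a : A) (z : M ⊗[k] A) :
    Psi' k A M (z ⊗ₜ[k] a) =
      antipode k a ⊗ₜ[k] TensorProduct.comm k M A ((antipode k (A := A)).lTensor M z) := by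
  induction z using TensorProduct.induction_on with
  | zero => simp
  | tmul p b => simp [Psi'_tmul]
  | add x y hx hy => simp only [tmul_add, map_add, add_tmul, hx, hy]

theorem Psi'_assoc_symm_tmul (w : A ⊗[k] A) (n : M) :
    Psi' k A M ((TensorProduct.assoc k M A A).symm (n ⊗ₜ[k] w)) =
      TensorProduct.assoc k A A M
        (TensorProduct.map (antipode k) (antipode k) (TensorProduct.comm k A A w) ⊗ₜ[k] n) := by
  induction w using TensorProduct.induction_on with
  | zero => simp
  | tmul a b => simp [Psi'_tmul]
  | add x y hx hy => simp only [add_tmul, map_add, tmul_add, hx, hy]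

end aux

open Groth.Agent.Lib.Helper25.HopfLib in
/-- Let `k` be a commutative ring, `A` a commutative Hopf algebra over `k` with antipode `S`, and `M` a
`k`-module with a right `A`-comodule structure `m ↦ Σ m₀ ⊗ m₁`. Then the map `M → A ⊗ M`, `m ↦ Σ
S(m₁) ⊗ m₀`, is coassociative and counital: it is the coaction of a left `A`-comodule structure on
`M` (a left structure is determined by its coaction, so this structure is unique). -/
theorem result (k : Type u) [CommRing k]
    (A : Type v) [CommRing A] [HopfAlgebra k A]
    (M : Type w) [AddCommGroup M] [Module k M] (c : HopfRep.Comod k A M) :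
    ∃ l : ComodSub.LComod k A M, l.coact = ComodSub.lcoactOfRight c := by
  -- (I')
  have hI : (lcoactOfRight c).lTensor A ∘ₗ
      (TensorProduct.comm k M A).toLinearMap ∘ₗ (antipode k (A := A)).lTensor M =
      Psi' k A M ∘ₗ c.coact.rTensor A := by
    apply TensorProduct.ext'
    intro n a
    simp only [LinearMap.comp_apply, LinearEquiv.coe_coe, LinearMap.rTensor_tmul,
      TensorProduct.comm_tmul, LinearMap.lTensor_tmul]
    rw [Psi'_tmul', lcoactOfRight_apply]
  -- (II')
  have hII : Psi' k A M ∘ₗ (TensorProduct.assoc k M A A).symm.toLinearMap ∘ₗ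
      (comul (R := k) (A := A)).lTensor M =
      (TensorProduct.assoc k A A M).toLinearMap ∘ₗ (comul (R := k) (A := A)).rTensor M ∘ₗ
        (TensorProduct.comm k M A).toLinearMap ∘ₗ (antipode k (A := A)).lTensor M := by
    apply TensorProduct.ext'
    intro n a
    simp only [LinearMap.comp_apply, LinearEquiv.coe_coe, LinearMap.rTensor_tmul,
      TensorProduct.comm_tmul, LinearMap.lTensor_tmul]
    rw [Psi'_assoc_symm_tmul, comul_antipode]
  refine ⟨{ coact := lcoactOfRight c, coassoc := ?_, counit_comp := ?_ }, rfl⟩
  · apply LinearMap.ext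
    intro m
    have h1 := LinearMap.congr_fun hI (c.coact m)
    have h2 := LinearMap.congr_fun hII (c.coact m)
    have h3 := LinearMap.congr_fun c.coassoc m
    simp only [LinearMap.comp_apply, LinearEquiv.coe_coe] at h1 h2 h3 ⊢
    rw [← LinearEquiv.eq_symm_apply] at h3
    rw [lcoactOfRight_apply, h1, h3, h2]
  · apply LinearMap.ext
    intro m
    have h3 := LinearMap.congr_fun c.counit_comp m
    simp only [LinearMap.comp_apply] at h3 ⊢
    rw [lcoactOfRight_apply]
    have key : ∀ z : M ⊗[k] A, (counit (R := k) (A := A)).rTensor M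
        (TensorProduct.comm k M A ((antipode k (A := A)).lTensor M z)) =
        TensorProduct.comm k M k ((counit (R := k) (A := A)).lTensor M z) := by
      intro z
      induction z using TensorProduct.induction_on with
      | zero => simp
      | tmul n a => simp
      | add x y hx hy => simp only [map_add, hx, hy]
    rw [key, h3]
    simp

end Groth.Agent.S16689
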