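import Groth.Statements.S16697
import Mathlib
import Groth.Agent.Lib.Helper10.AlgStWNA
import Groth.Agent.S10271
set_option backward.isDefEq.respectTransparency false
set_option backward.isDefEq.respectTransparency.types false

set_option autoImplicit false
universe u
open AlgSt AlgSt.IsWellNighAffine

namespace Groth.Agent.S16697

open CategoryTheory AlgebraicGeometry in
/-- A well-nigh affine algebraic stack is quasi-compact, quasi-DM over `S` and separated over `S` (for
`S = Spec ℤ` these are the absolute notions of the published statement). The characterisation by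
presentations `[U/R]` with `U`, `R` affine and `s`, `t` finite locally free is not stated. -/
theorem result (S : Scheme.{u}) (𝒳 : AlgSt.Cat S)
    (h𝒳 : AlgSt.IsAlgStack Scheme.fppfPrecoverage 𝒳) (hw : AlgSt.IsWellNighAffine 𝒳) :
    AlgSt.IsQuasiCompact 𝒳 ∧ AlgSt.IsQuasiDMOver 𝒳 ∧ AlgSt.IsSeparatedOver 𝒳 := by
  obtain ⟨U, x, hA, hx⟩ := hw
  haveI := hA
  have hx₁ : AlgSt.RepByAlgSpWith AlgSp.IsSurjectiveMor x :=
    H10PT.repByAlgSpWith_imp x (fun F V m h => h.1.1.1) hx
  have hx₂ : AlgSt.RepByAlgSpWith (AlgSp.LocP @Flat) x :=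
    H10PT.repByAlgSpWith_imp x (fun F V m h => h.1.1.2) hx
  have hx₃ : AlgSt.RepByAlgSpWith AlgSp.IsFiniteMor x :=
    H10PT.repByAlgSpWith_imp x (fun F V m h => h.1.2) hx
  have hx₄ : AlgSt.RepByAlgSpWith (AlgSp.LocP @LocallyOfFinitePresentation) x :=
    H10PT.repByAlgSpWith_imp x (fun F V m h => h.2) hx
  have hfin := H10PT.repByAlgSpWith_finite_diag_toSelf h𝒳.isStack.1 h𝒳.diag U x hx₂ hx₄ hx₁ hx₃
  refine ⟨?_, ?_, ?_⟩
  · exact H10PT.isQuasiCompact_of_isSurjective (H10PT.isAlgStack_overCat U) h𝒳 x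
      (H10PT.isSurjective_of_rep h𝒳.isStack.1 x hx₁) (H10PT.isQuasiCompact_overCat U)
  · exact H10PT.repByAlgSpWith_imp _ (fun F V m h => H10PT.locP_lqf_of_isFiniteMor' m h) hfin
  · refine H10PT.repByAlgSpWith_imp _ (fun F V m h => ?_) hfin
    exact ((Groth.Agent.S10271.result (X := F) (Y := (AlgSp.ofScheme S).obj V)
      (ObjectProperty.homMk m)).1 h).2

end Groth.Agent.S16697
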