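import Groth.Statements.S16699
import Mathlib
import Groth.Agent.Lib.Helper10.AlgStNoethImm

set_option autoImplicit false
universe u
open AlgSt AlgSt.IsWellNighAffine

namespace Groth.Agent.S16699



open CategoryTheory AlgebraicGeometry in
/-- An algebraic stack affine over a well-nigh affine algebraic stack is well-nigh affine. -/
theorem result (S : Scheme.{u}) (𝒳 𝒳' : AlgSt.Cat S)
    (h𝒳 : AlgSt.IsAlgStack Scheme.fppfPrecoverage 𝒳) (h𝒳' : AlgSt.IsAlgStack Scheme.fppfPrecoverage 𝒳')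
    (hw : AlgSt.IsWellNighAffine 𝒳) (f : 𝒳' ⥤ᵇ 𝒳) (hf : AlgSt.RepByAlgSpWith AlgSp.IsAffineMor f) :
    AlgSt.IsWellNighAffine 𝒳' := by
  obtain ⟨U, x, hU, hx⟩ := hw
  obtain ⟨F, e, he, hg⟩ := hf U x
  obtain ⟨W, i, fst, sq, hW⟩ := hg hU (𝟙 _)
  haveI : IsIso fst := sq.isIso_fst_of_isIso
  refine ⟨W, BasedFunctor.comp (BasedFunctor.comp (AlgSt.ofOverCat W)
    (BasedFunctor.comp (AlgSt.ofSpMap fst) e)) (FibCat.fpSnd x f), hW, ?_⟩
  exact Groth.Agent.Lib.Helper28.AlgSt.Chart.repByAlgSpWith_equiv_comp _ _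
    (Groth.Agent.Lib.Helper10.Fib.isEquivOver_comp _ _
      (Groth.Agent.Lib.Helper28.AlgSt.Bridge.isEquivOver_ofOverCat W)
      (Groth.Agent.Lib.Helper10.Fib.isEquivOver_comp _ _
        (H10PT.isEquivOver_ofSpMap_of_isIso fst) he)) _
    (Groth.Agent.Lib.Helper10.AlgStRep.repByAlgSpWith_fpSnd _ x f hx)

end Groth.Agent.S16699
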