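import Groth.Statements.S16704
import Mathlib
import Groth.Agent.Lib.Helper10.CatModuliGlue
import Groth.Agent.Lib.Helper16.LocP
import Groth.Agent.Lib.Helper16.LocPGen
import Groth.Agent.Lib.Helper16.EtLocal

set_option autoImplicit false
universe u
open AlgSt

namespace Groth.Agent.S16704



open CategoryTheory AlgebraicGeometry in
/-- Let `𝒳` be an algebraic stack, `Y` an algebraic space and `f : 𝒳 → Y` a morphism. If every base
change of `f` to an affine scheme flat over `Y` is a categorical moduli space, the morphism `f`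
itself is a uniform categorical moduli space. -/
theorem result (S : Scheme.{u}) (𝒳 : AlgSt.Cat S)
    (h𝒳 : AlgSt.IsAlgStack Scheme.fppfPrecoverage 𝒳) (Y : AlgSp.Sp S) (hY : AlgSp.IsAlgSpace Y)
    (f : 𝒳 ⥤ᵇ AlgSt.ofSp Y)
    (hf : ∀ (Y' : Over S), IsAffine Y'.left → ∀ (g : (AlgSp.yon S).obj Y' ⟶ Y), AlgSp.LocP @Flat g →
      AlgSt.IsCatModuli (FibCat.fpFst (AlgSt.ofSpMap g) f)) :
    AlgSt.IsUnifCatModuli f := by
  have hfl : ∀ {F G : AlgSp.Sp S} (a : F ⟶ G), AlgSp.RepWith @Etale a → AlgSp.LocP @Flat a :=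
    fun a ha => Groth.Agent.Lib.Helper16.locP_of_repWith @Flat @Etale
      (fun A B C m i hm hi => by
        haveI := hm
        haveI := hi
        infer_instance) a ha
  refine ⟨H10PT.CatModuliGlue.isCatModuli_of_charts h𝒳.isStack.1 hY f
    (fun V hV a ha => hf V hV a (hfl a ha)), fun M' hM' g hg => ?_⟩
  exact H10PT.CatModuliGlue.isCatModuli_fpFst_of_affine h𝒳.isStack.1 hM' f g
    (fun V hV a ha => hf V hV (a ≫ g)
      (Groth.Agent.Lib.Helper16.locP_comp Groth.Agent.Lib.Helper16.etLocalST_flat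
        (AlgSp.IsAlgSpace.yon_obj V) hM' hY a g (hfl a ha) hg))

end Groth.Agent.S16704
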