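import Groth.Statements.S16707
import Mathlib

set_option autoImplicit false
universe u v
open CAlg

namespace Groth.Agent.S16707


open TensorProduct

lemma eq_zero_of_forall_mem_smul {A : Type u} [CommRing A] (I : Ideal A) (hI : IsNilpotent I)
    (X : Type v) [AddCommGroup X] [Module A X]
    (h : ∀ x : X, x ∈ I • (⊤ : Submodule A X)) : ∀ x : X, x = 0 := by
  obtain ⟨n, hn⟩ := hI
  have key : ∀ k : ℕ, (⊤ : Submodule A X) ≤ I ^ k • ⊤ := by
    intro k
    induction k with
    | zero => rw [pow_zero, Ideal.one_eq_top, Submodule.top_smul]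
    | succ k ih =>
      calc (⊤ : Submodule A X) ≤ I ^ k • ⊤ := ih
        _ ≤ I ^ k • (I • ⊤) := Submodule.smul_mono le_rfl (fun x _ => h x)
        _ = I ^ (k + 1) • ⊤ := by rw [pow_succ, mul_smul]
  intro x
  have h1 := key n (Submodule.mem_top (x := x))
  rw [hn, Ideal.zero_eq_bot, Submodule.bot_smul, Submodule.mem_bot] at h1
  exact h1

lemma one_tmul_eq_zero_iff {A : Type u} [CommRing A] (I : Ideal A)
    (X : Type v) [AddCommGroup X] [Module A X] (x : X) :
    (1 : A ⧸ I) ⊗ₜ[A] x = 0 ↔ x ∈ I • (⊤ : Submodule A X) := by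
  rw [← (TensorProduct.quotTensorEquivQuotSMul X I).map_eq_zero_iff,
    TensorProduct.quotTensorEquivQuotSMul_mk_one_tmul, Submodule.Quotient.mk_eq_zero]

open TensorProduct in
/-- Let A be a commutative ring, I a nilpotent ideal of A and f : M → N a homomorphism of A-modules with
N flat over A (no finiteness assumption on M or N). If the base change of f to A/I, that is M/IM →
N/IN, is bijective, then f is bijective. -/
theorem result (A : Type u) [CommRing A] (I : Ideal A)
    (hI : IsNilpotent I) (M N : Type v) [AddCommGroup M] [Module A M] [AddCommGroup N] [Module A N]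
    [Module.Flat A N] (f : M →ₗ[A] N)
    (hf : Function.Bijective (f.baseChange (A ⧸ I))) :
    Function.Bijective f := by
  have hsurj : Function.Surjective f := by
    rw [← LinearMap.range_eq_top, ← Submodule.Quotient.subsingleton_iff]
    have hC : ∀ c : N ⧸ LinearMap.range f, c = 0 := by
      apply eq_zero_of_forall_mem_smul I hI
      intro c
      obtain ⟨y, rfl⟩ := Submodule.mkQ_surjective _ c
      rw [← one_tmul_eq_zero_iff]
      obtain ⟨w, hw⟩ := hf.2 ((1 : A ⧸ I) ⊗ₜ[A] y)
      have h1 : ((LinearMap.range f).mkQ.baseChange (A ⧸ I)) ((f.baseChange (A ⧸ I)) w) = 0 := by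
        rw [← LinearMap.comp_apply, ← LinearMap.baseChange_comp]
        have h2 : (LinearMap.range f).mkQ ∘ₗ f = 0 := by
          ext m
          rw [LinearMap.comp_apply, Submodule.mkQ_apply, LinearMap.zero_apply,
            Submodule.Quotient.mk_eq_zero]
          exact LinearMap.mem_range_self f m
        rw [h2, LinearMap.baseChange_zero, LinearMap.zero_apply]
      rw [hw, LinearMap.baseChange_tmul] at h1
      exact h1
    exact ⟨fun a b => by rw [hC a, hC b]⟩
  refine ⟨?_, hsurj⟩
  rw [← LinearMap.ker_eq_bot, eq_bot_iff]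
  have hK : ∀ k : LinearMap.ker f, k = 0 := by
    apply eq_zero_of_forall_mem_smul I hI
    intro k
    rw [← one_tmul_eq_zero_iff]
    have hinj : Function.Injective ((LinearMap.ker f).subtype.lTensor (A ⧸ I)) :=
      LinearMap.lTensor_injective_of_exact_of_flat f hsurj (LinearMap.ker f).subtype
        (Submodule.subtype_injective _) (LinearMap.exact_subtype_ker_map f) (A ⧸ I)
    apply hinj
    rw [map_zero, LinearMap.lTensor_tmul, Submodule.subtype_apply]
    apply hf.1
    rw [map_zero, LinearMap.baseChange_tmul, LinearMap.mem_ker.mp k.2, TensorProduct.tmul_zero]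
  intro x hx
  have := hK ⟨x, hx⟩
  exact congrArg Subtype.val this

end Groth.Agent.S16707
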