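import Groth.Statements.S16708
import Groth.Agent.Lib.Helper28.ComodIntegral

set_option autoImplicit false
universe u
open HopfRep

namespace Groth.Agent.S16708

/-- Let G be a finite group and k a field in which the order of G is a nonzero element. Then the
constant group scheme of G over k is linearly reductive: every finite-dimensional comodule over its
coordinate Hopf algebra (the algebra of functions G → k with the Hopf structure of the constant
group) is semisimple, i.e. every subcomodule admits a complementary subcomodule. -/
theorem result (k : Type u) [Field k] (G : Type u) [Group G]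
    [Fintype G] [DecidableEq G] (hG : ((Fintype.card G : ℕ) : k) ≠ 0) :
    HopfRep.IsLinearlyReductive k (ConstGrp.F k G) := by
  classical
  let I : ConstGrp.F k G →ₗ[k] k :=
    ((Fintype.card G : ℕ) : k)⁻¹ • ∑ g : G, (ConstGrp.ev k g).toLinearMap
  have hIe : ∀ g : G, I (ConstGrp.e k g) = ((Fintype.card G : ℕ) : k)⁻¹ := by
    intro g
    change ((Fintype.card G : ℕ) : k)⁻¹ • (∑ h : G, (ConstGrp.ev k h).toLinearMap) (ConstGrp.e k g) = _
    rw [LinearMap.sum_apply, Finset.sum_eq_single g]
    · simp
    · intro h _ hne
      simp [ConstGrp.e_apply_of_ne hne]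
    · intro h; exact absurd (Finset.mem_univ g) h
  have hI1 : I 1 = 1 := by
    rw [← ConstGrp.sum_e (R := k) (G := G), map_sum]
    simp only [hIe, Finset.sum_const, Finset.card_univ, nsmul_eq_mul]
    exact mul_inv_cancel₀ hG
  have hI : Groth.Agent.Lib.Helper28.HopfIntegral.IsIntegral I := by
    refine ⟨hI1, fun a => ?_⟩
    have key : (TensorProduct.lid k (ConstGrp.F k G)).toLinearMap ∘ₗ
        I.rTensor (ConstGrp.F k G) ∘ₗ Coalgebra.comul (R := k) (A := ConstGrp.F k G) =
        (LinearMap.toSpanSingleton k (ConstGrp.F k G) 1) ∘ₗ I := by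
      apply ConstGrp.linearMap_ext
      intro g
      simp only [LinearMap.comp_apply, ConstGrp.comul_e, map_sum, LinearMap.rTensor_tmul,
        LinearEquiv.coe_coe, TensorProduct.lid_tmul, hIe, LinearMap.toSpanSingleton_apply]
      rw [← Finset.smul_sum]
      congr 1
      rw [← ConstGrp.sum_e (R := k) (G := G)]
      exact Fintype.sum_equiv ((Equiv.inv G).trans (Equiv.mulRight g)) _ _ (fun a => rfl)
    exact LinearMap.congr_fun key a
  exact Groth.Agent.Lib.Helper28.ComodIntegral.isLinearlyReductive_of_isIntegral I hI

end Groth.Agent.S16708
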