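import Groth.Statements.S16709
import Groth.Agent.Lib.Helper19.LinRed

set_option autoImplicit false
universe u v
open HopfRep

namespace Groth.Agent.S16709

open TensorProduct in
/-- The equivalence of complete reducibility of finite-dimensional representations with the
invariant-section criterion. Let k be a field and A a finitely generated commutative Hopf algebra
over k, the coordinate ring of an affine algebraic group G. Then G is linearly reductive (every
finite-dimensional A-comodule is semisimple) if and only if for every finite-dimensional A-comodule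
V and every surjective k-linear map π : V → k which is a comodule map to the trivial comodule (that
is, (π ⊗ id) ∘ ρ_V = (c ↦ c ⊗ 1) ∘ π for the coaction ρ_V) there is a fixed vector v of V with π v ≠
0. (The published fourth condition is phrased with all G-fixed points of the projective space of V
and G-invariant linear forms; it fails for a fixed point on which G acts through a non-trivial
character, for instance the multiplicative group acting on a line with weight one, and this row
states the condition in the form the published proof uses: surjections onto the trivial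
one-dimensional comodule.) -/
theorem result (k : Type u) [Field k] (A : Type v)
    [CommRing A] [HopfAlgebra k A] (hA : Algebra.FiniteType k A) :
    HopfRep.IsLinearlyReductive k A ↔
      ∀ (V : Type v) [AddCommGroup V] [Module k V] [HopfRep.Comod k A V], Module.Finite k V →
        ∀ π : V →ₗ[k] k, Function.Surjective π →
          LinearMap.rTensor A π ∘ₗ HopfRep.Comod.coact (k := k) (A := A) (V := V) =
            (TensorProduct.mk k k A).flip (1 : A) ∘ₗ π →
          ∃ v ∈ HopfRep.fixedPts k A V, π v ≠ 0 := by
  constructor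
  · intro hG V _ _ _ hfin π hπs hπ
    obtain ⟨I, hI⟩ :=
      Groth.Agent.Lib.Helper28.ComodIntegral.exists_isIntegral_of_isLinearlyReductive hG
    letI : HopfRep.Comod k A k := HopfRep.Comod.trivial k A k
    have h1 : (1 : k) ∈ HopfRep.fixedPts k A k := by
      show (HopfRep.Comod.trivial k A k).coact 1 = (1 : k) ⊗ₜ[k] (1 : A)
      rfl
    obtain ⟨v, hv, hv1⟩ :=
      Groth.Agent.Lib.Helper19.LinRed.exists_fixed_lift I hI π hπ.symm hπs 1 h1
    exact ⟨v, hv, by rw [hv1]; exact one_ne_zero⟩
  · intro hcrit
    apply Groth.Agent.Lib.Helper19.LinRed.isLinearlyReductive_of_exactFD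
    intro X Y _ _ cX _ _ cY q hfX hfY hq hs y hy
    by_cases hy0 : y = 0
    · exact ⟨0, Submodule.zero_mem _, by rw [map_zero, hy0]⟩
    obtain ⟨f, hf⟩ : ∃ f : Module.Dual k Y, f y ≠ 0 := by
      by_contra hcon
      push Not at hcon
      exact hy0 ((Module.forall_dual_apply_eq_zero_iff k y).mp hcon)
    let ℓ : Y →ₗ[k] k := (f y)⁻¹ • f
    have hℓ : ℓ y = 1 := by
      show (f y)⁻¹ • f y = 1
      rw [smul_eq_mul, inv_mul_cancel₀ hf]
    have hyT : ∀ g : A →ₗ[k] k, Groth.Agent.Lib.Helper19.Reynolds.opT k A Y g y = g 1 • y :=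
      (Groth.Agent.Lib.Helper19.Reynolds.mem_fixedPts_iff_opT y).mp hy
    let U : Submodule k Y := Submodule.span k {y}
    have hU : HopfRep.IsSubcomod (k := k) (A := A) U := by
      rw [Groth.Agent.Lib.Helper19.Reynolds.isSubcomod_iff]
      intro g w hw
      obtain ⟨c, rfl⟩ := Submodule.mem_span_singleton.mp hw
      rw [map_smul, hyT g]
      exact Submodule.smul_mem _ _ (Submodule.smul_mem _ _ (Submodule.mem_span_singleton_self _))
    let X' : Submodule k X := U.comap q
    have hX' : HopfRep.IsSubcomod (k := k) (A := A) X' :=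
      Groth.Agent.Lib.Helper28.ComodHom.isSubcomod_comap q hq U hU
    let cX' : HopfRep.Comod k A X' := ComodSub.Comod.restr cX X' hX'
    let π : X' →ₗ[k] k := ℓ ∘ₗ q ∘ₗ X'.subtype
    have hπq : ∀ x' : X', q (x' : X) = π x' • y := by
      intro x'
      have hmem : q (x' : X) ∈ U := x'.2
      obtain ⟨c, hc⟩ := Submodule.mem_span_singleton.mp hmem
      show q (x' : X) = ℓ (q (x' : X)) • y
      rw [← hc, map_smul, hℓ, smul_eq_mul, mul_one]
    obtain ⟨x₀, hx₀⟩ := hs y
    have hx₀mem : x₀ ∈ X' := by
      show q x₀ ∈ U
      rw [hx₀]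
      exact Submodule.mem_span_singleton_self _
    have hπs : Function.Surjective π := by
      intro c
      refine ⟨c • ⟨x₀, hx₀mem⟩, ?_⟩
      rw [map_smul]
      show c • ℓ (q x₀) = c
      rw [hx₀, hℓ, smul_eq_mul, mul_one]
    have hy' : cY.coact y = y ⊗ₜ[k] (1 : A) := hy
    have hπc : LinearMap.rTensor A π ∘ₗ cX'.coact = (TensorProduct.mk k k A).flip 1 ∘ₗ π := by
      apply LinearMap.ext
      intro x'
      show (LinearMap.rTensor A ((ℓ ∘ₗ q) ∘ₗ X'.subtype)) (cX'.coact x') =
        (ℓ (q (x' : X))) ⊗ₜ[k] (1 : A)
      rw [LinearMap.rTensor_comp, LinearMap.comp_apply, ComodSub.restr_coact_coe cX X' hX' x',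
        LinearMap.rTensor_comp, LinearMap.comp_apply]
      have h1 := LinearMap.congr_fun hq (x' : X)
      simp only [LinearMap.comp_apply] at h1
      rw [← h1]
      obtain ⟨c, hc⟩ : ∃ c : k, q (x' : X) = c • y := ⟨π x', hπq x'⟩
      rw [hc, map_smul, hy', map_smul, LinearMap.rTensor_tmul, map_smul, hℓ,
        TensorProduct.smul_tmul']
    obtain ⟨v, hv, hvne⟩ := @hcrit X' _ _ cX' inferInstance π hπs hπc
    refine ⟨(π v)⁻¹ • (v : X), ?_, ?_⟩
    · apply Submodule.smul_mem
      show cX.coact (v : X) = (v : X) ⊗ₜ[k] (1 : A)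
      have hv' : cX'.coact v = v ⊗ₜ[k] (1 : A) := hv
      rw [← ComodSub.restr_coact_coe cX X' hX' v, hv', LinearMap.rTensor_tmul]
      rfl
    · rw [map_smul, hπq v, smul_smul, inv_mul_cancel₀ hvne, one_smul]

end Groth.Agent.S16709
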