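-- Statement S17288.
import Groth.Statements.S17288
import Groth.Agent.Lib.Helper1.ZarFujA
import Groth.Agent.Lib.Helper1.ZarFujB
import Groth.Agent.Lib.Helper1.IdealSec
import Groth.Agent.Lib.Helper7.CurveGG
import Groth.Agent.Lib.Helper3.SubIdeal
import Groth.Agent.Lib.Helper21.RLx

set_option autoImplicit false
universe u
open CategoryTheory CategoryTheory.Limits AlgebraicGeometry TopologicalSpace
open Variety

namespace Groth.Agent.S17288

/-- Let X be a proper scheme over a field k, D ⊆ X an effective Cartier divisor, i.e. a closed subscheme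
whose quasi-coherent ideal I_D is an invertible O_X-module, and O_X(D) an invertible module with
O_X(D) ⊗ I_D ≅ O_X. If the restriction of O_X(D) to D is ample on D, then O_X(mD) = O_X(D)^{⊗m} is
generated by its global sections for all sufficiently large m. (The source states this for proper
algebraic spaces over k; this is the case of schemes.) -/
theorem result (k : Type u) [Field k] (X : Scheme.{u})
    [X.Over (Spec (CommRingCat.of k))] [IsProper (X ↘ (Spec (CommRingCat.of k)))] (D : X.IdealSheafData)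
    (hD : PicF.IsInvertible (ClSub.idealMod D)) (LD : X.Modules) (hLD : ClSub.IsInverseOf LD (ClSub.idealMod D))
    (hample : CohB1.IsAmple ((Scheme.Modules.pullback D.subschemeι).obj LD)) :
    ∀ᶠ m : ℕ in Filter.atTop, Curv2.IsGloballyGenerated (CohB1.tensorPow LD m) := by
  open Groth.Agent.Lib.Helper3 Groth.Agent.Lib.Helper3.InvMonoidal Groth.Agent.Lib.Helper3.InvTensor
    Groth.Agent.Lib.Helper3.InvGen Groth.Agent.Lib.Helper3.InvAmple Groth.Agent.Lib.Helper3.QCSec
    Groth.Agent.Lib.Helper23 Groth.Agent.Lib.Helper7.SnapFGA Groth.Agent.Lib.Helper1 in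
  obtain ⟨e⟩ := hLD
  have hL : PicF.IsInvertible LD := isInvertible_of_inverse hD ⟨braid _ _ ≪≫ e⟩
  haveI : CompactSpace X := T2.compactSpace_of_isProper k X
  haveI : CompactSpace D.subscheme := QuasiCompact.compactSpace_of_compactSpace D.subschemeι
  haveI : QuasiSeparatedSpace X := T2.quasiSeparatedSpace_of_isProper k X
  haveI : QuasiSeparatedSpace D.subscheme := quasiSeparatedSpace_of_quasiSeparated D.subschemeι
  obtain ⟨m₀, hvan⟩ := ZarFujB.exists_vanishing k X D LD hL hample
  obtain ⟨m₁, hsurj⟩ := ZarFujA.exists_surjective k X D LD hL hD e ⟨m₀, hvan⟩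
  obtain ⟨n₀, hsp⟩ := ZarFujB.exists_isSpanned D LD hL hample
  rw [Filter.eventually_atTop]
  refine ⟨max m₁ n₀ + 1, fun m hm => ?_⟩
  obtain ⟨j, rfl⟩ : ∃ j, m = j + 1 := ⟨m - 1, by omega⟩
  have hN := isInvertible_tensorPow hL (j + 1)
  apply Groth.Agent.Lib.Helper7.CurvePair.isGloballyGenerated_of_forall_mem_genLocus hN
  intro y
  by_cases hy : y ∈ D.support
  · obtain ⟨s, hs⟩ := Groth.Agent.Lib.Helper21.RLx.exists_mem_genLocus_of_surjective D _ hN
      (hsp (j + 1) (by omega)) (hsurj (j + 1) (by omega)) y hy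
    refine ⟨sec s ⊤, ?_⟩
    rw [Groth.Agent.Lib.Helper3.SubIdeal.globalHom_sec]
    exact hs
  · refine ⟨sec (SecTwist.powHom (IdealSec.secOfIdeal D e) (j + 1)) ⊤, ?_⟩
    rw [Groth.Agent.Lib.Helper3.SubIdeal.globalHom_sec, genLocus_powHom hL]
    have h1 := IdealSec.compl_genLocus_secOfIdeal D e hL hD
    by_contra hcon
    apply hy
    have : y ∈ ((CohB1.genLocus LD (IdealSec.secOfIdeal D e) : X.Opens) : Set X)ᶜ := hcon
    rw [h1] at this
    exact this

end Groth.Agent.S17288
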