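import Groth.Statements.S16715
import Groth.Agent.Lib.Helper28.Pinch.OverBC

set_option autoImplicit false
universe u
open FlatMor

namespace Groth.Agent.S16715

open CategoryTheory CategoryTheory.Limits AlgebraicGeometry in
/-- Base change of pushouts along a closed immersion and an affine morphism. Let i : X₀ → X be a closed
immersion and f₀ : X₀ → Y₀ an affine morphism of schemes, and let Y together with an affine morphism
f : X → Y and a closed immersion j : Y₀ → Y be a pushout of i and f₀ in the category of schemes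
whose square is also cartesian. Let Y be a scheme over S such that X₀ is flat over S, and let S' → S
be any morphism. Then the base-changed square over S' is again a pushout in the category of schemes:
Y ×_S S' is the pushout of X ×_S S' and Y₀ ×_S S' along X₀ ×_S S'. -/
theorem result {X₀ X Y₀ Y S S' : Scheme.{u}}
    (i : X₀ ⟶ X) [IsClosedImmersion i] (f₀ : X₀ ⟶ Y₀) [IsAffineHom f₀] (f : X ⟶ Y) [IsAffineHom f]
    (j : Y₀ ⟶ Y) [IsClosedImmersion j] (hpo : IsPushout i f₀ f j) (hpb : IsPullback i f₀ f j)
    (q : Y ⟶ S) [Flat ((i ≫ f) ≫ q)] (g : S' ⟶ S) :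
    IsPushout
      (pullback.map ((i ≫ f) ≫ q) g (f ≫ q) g i (𝟙 S') (𝟙 S)
        ((Category.comp_id _).trans (Category.assoc i f q))
        ((Category.comp_id g).trans (Category.id_comp g).symm))
      (pullback.map ((i ≫ f) ≫ q) g (j ≫ q) g f₀ (𝟙 S') (𝟙 S)
        ((Category.comp_id _).trans ((congrArg (fun t => t ≫ q) hpo.w).trans (Category.assoc f₀ j q)))
        ((Category.comp_id g).trans (Category.id_comp g).symm))
      (pullback.map (f ≫ q) g q g f (𝟙 S') (𝟙 S)
        (Category.comp_id _) ((Category.comp_id g).trans (Category.id_comp g).symm))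
      (pullback.map (j ≫ q) g q g j (𝟙 S') (𝟙 S)
        (Category.comp_id _) ((Category.comp_id g).trans (Category.id_comp g).symm)) := by
  have hY := Groth.Agent.Lib.Helper28.Pinch.hY_of_isAffineHom_of_isAffineHom i f₀ f j hpo.w
  refine Groth.Agent.Lib.Helper28.Pinch.isPushout_baseChange q g (IsPullback.of_hasPullback q g)
    (Groth.Agent.Lib.Helper28.Pinch.isPullback_map_id (f ≫ q) q g f _ _)
    (Groth.Agent.Lib.Helper28.Pinch.isPullback_map_id (j ≫ q) q g j _ _)
    (c' := pullback.map ((i ≫ f) ≫ q) g q g (i ≫ f) (𝟙 S') (𝟙 S)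
      (Category.comp_id _) ((Category.comp_id g).trans (Category.id_comp g).symm))
    (Groth.Agent.Lib.Helper28.Pinch.isPullback_map_id ((i ≫ f) ≫ q) q g (i ≫ f) _ _)
    ?_ ?_ ?_ ?_ hY hpo (Or.inr inferInstance)
  · exact Groth.Agent.Lib.Helper28.Pinch.map_id_fst _ _ _ _ _ _
  · exact Groth.Agent.Lib.Helper28.Pinch.map_id_comp _ _ _ _ _ _ _ rfl _ _ _ _
  · exact Groth.Agent.Lib.Helper28.Pinch.map_id_fst _ _ _ _ _ _
  · exact Groth.Agent.Lib.Helper28.Pinch.map_id_comp _ _ _ _ _ _ _ hpo.w.symm _ _ _ _

end Groth.Agent.S16715
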