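import Groth.Statements.S16717
import Groth.Agent.Lib.Helper19.LinRed

set_option autoImplicit false
universe u v
open HopfRep

namespace Groth.Agent.S16717

open TensorProduct in
/-- Equivalence of the exactness of invariants with complete reducibility of finite-dimensional
representations. Let k be a field and A a finitely generated commutative Hopf algebra over k (the
coordinate ring of an affine algebraic group G). Then every finite-dimensional A-comodule is
semisimple if and only if taking fixed vectors is exact, i.e. for every surjective comodule map φ :
V → W between A-comodules (of any dimension; φ k-linear with (φ ⊗ id) ∘ ρ_V = ρ_W ∘ φ) every fixed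
vector of W is the image of a fixed vector of V. -/
theorem result (k : Type u) [Field k] (A : Type v)
    [CommRing A] [HopfAlgebra k A] (hA : Algebra.FiniteType k A) :
    HopfRep.IsLinearlyReductive k A ↔
      ∀ (V W : Type v) [AddCommGroup V] [Module k V] [HopfRep.Comod k A V]
        [AddCommGroup W] [Module k W] [HopfRep.Comod k A W] (φ : V →ₗ[k] W),
        LinearMap.rTensor A φ ∘ₗ HopfRep.Comod.coact (k := k) (A := A) (V := V) =
            HopfRep.Comod.coact (k := k) (A := A) (V := W) ∘ₗ φ →
          Function.Surjective φ →
            ∀ w ∈ HopfRep.fixedPts k A W, ∃ v ∈ HopfRep.fixedPts k A V, φ v = w := by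
  constructor
  · intro hG V W _ _ _ _ _ _ φ hφ hs w hw
    obtain ⟨I, hI⟩ :=
      Groth.Agent.Lib.Helper28.ComodIntegral.exists_isIntegral_of_isLinearlyReductive hG
    exact Groth.Agent.Lib.Helper19.LinRed.exists_fixed_lift I hI φ hφ.symm hs w hw
  · intro h
    apply Groth.Agent.Lib.Helper19.LinRed.isLinearlyReductive_of_exactFD
    intro X Y _ _ _ _ _ _ q _ _ hq hs y hy
    exact h X Y q hq.symm hs y hy

end Groth.Agent.S16717
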