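import Groth.Statements.S16737
import Mathlib.Algebra.CharP.Invertible
import Mathlib.Algebra.MvPolynomial.PDeriv

set_option autoImplicit false
universe u v
open DeRham

namespace Groth.Agent.S16737

open MvPolynomial in
/-- The case of affine space over an affine base of characteristic p, in degree zero. Let p be a prime
and R a commutative ring with p = 0 in R. For a polynomial f over R in any set of variables t_i, the
Kähler differential df in Ω_{R[t]/R} vanishes if and only if f is a polynomial in the p-th powers of
the variables, f = g(t_i^p). Equivalently, the functions on affine space over R killed by the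
differential of the de Rham complex are exactly the functions on its Frobenius twist. (The published
computation is for finitely many variables over a noetherian base of characteristic p; the statement
here allows any commutative ring with p = 0 and any set of variables.) -/
theorem result (p : ℕ) [Fact p.Prime]
    (R : Type u) [CommRing R] [CharP R p] (σ : Type v) (f : MvPolynomial σ R) :
    KaehlerDifferential.D R (MvPolynomial σ R) f = 0 ↔
      ∃ g : MvPolynomial σ R, f = MvPolynomial.expand p g := by
  classical
  have hp : p.Prime := Fact.out
  -- D f = 0 iff all partial derivatives vanish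
  have hD : KaehlerDifferential.D R (MvPolynomial σ R) f = 0 ↔ ∀ i, pderiv i f = 0 := by
    constructor
    · intro h i
      rw [← KaehlerDifferential.mvPolynomialBasis_repr_apply, h, map_zero]
      rfl
    · intro h
      apply (KaehlerDifferential.mvPolynomialBasis R σ).repr.injective
      rw [map_zero]
      ext i : 1
      rw [KaehlerDifferential.mvPolynomialBasis_repr_apply, h i]
      rfl
  rw [hD]
  constructor
  · intro h
    -- every exponent in the support is divisible by p
    have hdvd : ∀ m ∈ f.support, ∀ i, p ∣ m i := by
      intro m hm i
      by_contra hnd
      have hmi : m i ≠ 0 := fun h0 => hnd (h0 ▸ dvd_zero p)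
      have hm' : m - Finsupp.single i 1 + Finsupp.single i 1 = m := by
        ext j
        by_cases hj : j = i
        · subst hj
          simp only [Finsupp.coe_add, Finsupp.coe_tsub, Pi.add_apply, Pi.sub_apply,
            Finsupp.single_eq_same]
          omega
        · simp [Ne.symm hj]
      have hc := coeff_pderiv (i := i) f (m - Finsupp.single i 1)
      rw [h i, coeff_zero, hm'] at hc
      have hcast : ((((m - Finsupp.single i 1 : σ →₀ ℕ) i : ℕ)) : R) + 1 = ((m i : ℕ) : R) := by
        have : (m - Finsupp.single i 1 : σ →₀ ℕ) i + 1 = m i := by
          simp only [Finsupp.coe_tsub, Pi.sub_apply, Finsupp.single_eq_same]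
          omega
        rw [← this]
        push_cast
        rfl
      rw [hcast] at hc
      have hunit : IsUnit ((m i : ℕ) : R) := (CharP.isUnit_natCast_iff hp).mpr hnd
      have : coeff m f = 0 := by
        have := hc.symm
        exact (hunit.mul_left_eq_zero).mp this
      exact (mem_support_iff.mp hm) this
    refine ⟨∑ m ∈ f.support, monomial (m.mapRange (· / p) (Nat.zero_div p)) (coeff m f), ?_⟩
    rw [map_sum]
    conv_lhs => rw [f.as_sum]
    apply Finset.sum_congr rfl
    intro m hm
    rw [expand_monomial]
    have hpm : p • m.mapRange (· / p) (Nat.zero_div p) = m := by
      ext i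
      rw [Finsupp.smul_apply, Finsupp.mapRange_apply, smul_eq_mul]
      exact Nat.mul_div_cancel' (hdvd m hm i)
    rw [hpm]
  · rintro ⟨g, rfl⟩ i
    ext m
    rw [coeff_pderiv, coeff_zero]
    by_cases hdiv : p ∣ m i + 1
    · have : ((m i : ℕ) : R) + 1 = 0 := by
        have := (CharP.cast_eq_zero_iff R p (m i + 1)).mpr hdiv
        push_cast at this
        exact this
      rw [this, mul_zero]
    · rw [coeff_expand_of_not_dvd (i := i), zero_mul]
      simpa using hdiv

end Groth.Agent.S16737
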