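import Groth.Statements.S16742
import Groth.Agent.Lib.Helper8.LocalCriterion

set_option autoImplicit false
universe u
open CAlg

namespace Groth.Agent.S16742

open TensorProduct in
/-- Exactness of `r·, s·` on `R` passes to a flat module. -/
theorem smul_exact_of_flat {R M : Type*} [CommRing R] [AddCommGroup M] [Module R M]
    [Module.Flat R M] (r s : R) (hrs : r * s = 0)
    (h : ∀ x : R, r * x = 0 → ∃ y, x = s * y) (m : M) (hm : r • m = 0) : ∃ n : M, m = s • n := by
  have hex : Function.Exact (LinearMap.lsmul R R s) (LinearMap.lsmul R R r) := by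
    intro x
    constructor
    · intro hx
      obtain ⟨y, hy⟩ := h x hx
      exact ⟨y, hy.symm⟩
    · rintro ⟨y, rfl⟩
      change r * (s * y) = 0
      rw [← mul_assoc, hrs, zero_mul]
  have hex' := Module.Flat.rTensor_exact M hex
  have h1 : ((LinearMap.lsmul R R r).rTensor M) ((1 : R) ⊗ₜ[R] m) = 0 := by
    rw [LinearMap.rTensor_tmul]
    change (r • (1 : R)) ⊗ₜ[R] m = 0
    rw [TensorProduct.smul_tmul, hm, TensorProduct.tmul_zero]
  obtain ⟨z, hz⟩ := (hex' _).mp h1
  have hcomm : (TensorProduct.lid R M).toLinearMap ∘ₗ ((LinearMap.lsmul R R s).rTensor M) =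
      (LinearMap.lsmul R M s) ∘ₗ (TensorProduct.lid R M).toLinearMap := by
    apply TensorProduct.ext'
    intro x m'
    simp only [LinearMap.coe_comp, LinearEquiv.coe_coe, Function.comp_apply,
      LinearMap.rTensor_tmul, LinearMap.lsmul_apply, TensorProduct.lid_tmul]
    rw [smul_eq_mul, mul_smul]
  refine ⟨TensorProduct.lid R M z, ?_⟩
  have h2 := congrArg (TensorProduct.lid R M) hz
  rw [TensorProduct.lid_tmul, one_smul] at h2
  rw [← h2]
  exact LinearMap.congr_fun hcomm z

open TensorProduct in
/-- The equivalence in affine form, with flatness of the reduction in place of smoothness. Let p be a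
prime, A~ a commutative ring flat over Z/p^2 and B~ an A~-algebra such that B~/pB~ is flat over
A~/pA~. Then B~ is flat over A~ if and only if every element of B~ killed by p is a multiple of p;
equivalently multiplication by p identifies B~/pB~ with pB~. (The published statement assumes the
reduction smooth over A~/pA~ and the schemes noetherian, and phrases (b) as B~ being a lifting, that
is flat over A~; the statement here assumes only that the reduction is flat, where the equivalence
still holds by the local flatness criterion for the square-zero ideal generated by p.) -/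
theorem result (p : ℕ) [Fact p.Prime]
    (Al : Type u) [CommRing Al] [Algebra (ZMod (p ^ 2)) Al] [Module.Flat (ZMod (p ^ 2)) Al]
    (Bl : Type u) [CommRing Bl] [Algebra Al Bl]
    (hB : Module.Flat (Al ⧸ Ideal.span {(p : Al)})
      (Bl ⧸ (Ideal.span {(p : Al)}).map (algebraMap Al Bl))) :
    Module.Flat Al Bl ↔ ∀ b : Bl, (p : Bl) * b = 0 → b ∈ Ideal.span {(p : Bl)} := by
  classical
  -- basic facts about `p`
  have hp2Z : ((p : ZMod (p ^ 2)) * (p : ZMod (p ^ 2))) = 0 := by
    rw [← Nat.cast_mul, ← pow_two]; exact ZMod.natCast_self _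
  have hpA : (p : Al) * (p : Al) = 0 := by
    have h := congrArg (algebraMap (ZMod (p ^ 2)) Al) hp2Z
    simpa [map_mul, map_natCast] using h
  have hexZ : ∀ x : ZMod (p ^ 2), (p : ZMod (p ^ 2)) * x = 0 → ∃ y, x = (p : ZMod (p ^ 2)) * y := by
    intro x hx
    have hpos : NeZero (p ^ 2) := ⟨pow_ne_zero 2 (Fact.out : p.Prime).ne_zero⟩
    have hx' : ((p * x.val : ℕ) : ZMod (p ^ 2)) = 0 := by
      rw [Nat.cast_mul, ZMod.natCast_zmod_val]; exact hx
    rw [ZMod.natCast_eq_zero_iff] at hx'
    have hdvd : p ∣ x.val := by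
      have hx'' : p * p ∣ p * x.val := dvd_trans (dvd_of_eq (pow_two p).symm) hx'
      exact Nat.dvd_of_mul_dvd_mul_left (Fact.out : p.Prime).pos hx''
    obtain ⟨k, hk⟩ := hdvd
    refine ⟨(k : ZMod (p ^ 2)), ?_⟩
    rw [← Nat.cast_mul, ← hk, ZMod.natCast_zmod_val]
  have hexA : ∀ a : Al, (p : Al) * a = 0 → ∃ y, a = (p : Al) * y := by
    intro a ha
    have h1 : (p : ZMod (p ^ 2)) • a = 0 := by
      rw [Algebra.smul_def, map_natCast]; exact ha
    obtain ⟨n, hn⟩ := Groth.Agent.S16742.smul_exact_of_flat (R := ZMod (p ^ 2)) (M := Al)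
      (p : ZMod (p ^ 2)) (p : ZMod (p ^ 2)) hp2Z hexZ a h1
    refine ⟨n, ?_⟩
    rw [hn, Algebra.smul_def, map_natCast]
  constructor
  · intro hflat b hb
    have h1 : (p : Al) • b = 0 := by
      rw [Algebra.smul_def, map_natCast]; exact hb
    obtain ⟨n, hn⟩ := Groth.Agent.S16742.smul_exact_of_flat (R := Al) (M := Bl)
      (p : Al) (p : Al) hpA hexA b h1
    rw [Ideal.mem_span_singleton]
    refine ⟨n, ?_⟩
    rw [hn, Algebra.smul_def, map_natCast]
  · intro htor
    have hI : IsNilpotent (Ideal.span {(p : Al)}) := by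
      refine ⟨2, ?_⟩
      rw [Ideal.span_singleton_pow, pow_two, hpA, Ideal.zero_eq_bot, Ideal.span_singleton_eq_bot]
    refine Groth.Agent.Lib.Helper8.flat_of_isNilpotent (Ideal.span {(p : Al)}) hI ?_ ?_
    · -- the reduction is flat
      let e₀ : ((Al ⧸ Ideal.span {(p : Al)}) ⊗[Al] Bl) ≃ₗ[Al]
          (Bl ⧸ (Ideal.span {(p : Al)}).map (algebraMap Al Bl)) :=
        (TensorProduct.quotTensorEquivQuotSMul Bl (Ideal.span {(p : Al)})) ≪≫ₗ
          (Submodule.quotEquivOfEq _ _ (Ideal.smul_top_eq_map (Ideal.span {(p : Al)}))) ≪≫ₗ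
          (Submodule.Quotient.restrictScalarsEquiv Al
            ((Ideal.span {(p : Al)}).map (algebraMap Al Bl)))
      let e : ((Al ⧸ Ideal.span {(p : Al)}) ⊗[Al] Bl) ≃ₗ[Al ⧸ Ideal.span {(p : Al)}]
          (Bl ⧸ (Ideal.span {(p : Al)}).map (algebraMap Al Bl)) :=
        e₀.extendScalarsOfSurjective Ideal.Quotient.mk_surjective
      exact Module.Flat.of_linearEquiv e
    · -- injectivity of `I ⊗ B → A ⊗ B`
      set I : Ideal Al := Ideal.span {(p : Al)} with hIdef
      let P : I := ⟨(p : Al), Ideal.subset_span rfl⟩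
      have hform : ∀ x : I ⊗[Al] Bl, ∃ b : Bl, x = P ⊗ₜ[Al] b := by
        intro x
        induction x using TensorProduct.induction_on with
        | zero => exact ⟨0, (TensorProduct.tmul_zero _ _).symm⟩
        | tmul i b =>
          obtain ⟨a, ha⟩ := Ideal.mem_span_singleton'.mp i.2
          refine ⟨a • b, ?_⟩
          have hi : i = a • P := by
            apply Subtype.ext
            rw [Submodule.coe_smul, smul_eq_mul]
            exact ha.symm
          rw [hi, TensorProduct.smul_tmul]
        | add x y hx hy =>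
          obtain ⟨b, rfl⟩ := hx
          obtain ⟨b', rfl⟩ := hy
          exact ⟨b + b', (TensorProduct.tmul_add _ _ _).symm⟩
      rw [injective_iff_map_eq_zero]
      intro x hx
      obtain ⟨b, rfl⟩ := hform x
      rw [LinearMap.rTensor_tmul] at hx
      have h2 := congrArg (TensorProduct.lid Al Bl) hx
      rw [TensorProduct.lid_tmul, map_zero] at h2
      have h3 : (p : Bl) * b = 0 := by
        have : (p : Al) • b = 0 := h2
        rwa [Algebra.smul_def, map_natCast] at this
      have h4 := htor b h3
      rw [Ideal.mem_span_singleton] at h4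
      obtain ⟨c, hc⟩ := h4
      have h5 : b = (p : Al) • c := by
        rw [Algebra.smul_def, map_natCast]; exact hc
      have h6 : (p : Al) • P = 0 := by
        apply Subtype.ext
        rw [Submodule.coe_smul, smul_eq_mul]
        exact hpA
      rw [h5, ← TensorProduct.smul_tmul, h6, TensorProduct.zero_tmul]

end Groth.Agent.S16742
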