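import Groth.Statements.S16752
import Groth.Agent.S0404
import Groth.Agent.Lib.Helper13.H0Usc

set_option autoImplicit false
universe u
open CurvSt

namespace Groth.Agent.S16752

open CategoryTheory CategoryTheory.Limits AlgebraicGeometry in
/-- Let f : X → S be a flat, proper morphism of schemes, locally of finite presentation, all of whose
fibres have dimension at most one (a family of curves whose total space is a scheme). Then the set
of points s of S such that the fibre X_s has dimension one and dim_{κ(s)} H^0(X_s, O_{X_s}) = 1 (the
conditions under which the genus of X_s is defined) is open in S. The source allows the total space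
to be an algebraic space and phrases the result as the existence of an open substack of the stack of
curves with this membership condition. -/
theorem result (X S : Scheme.{u}) (f : X ⟶ S)
    [Flat f] [IsProper f] [LocallyOfFinitePresentation f]
    (hdim : ∀ s : S, topologicalKrullDim ↥(f.fiber s) ≤ 1) :
    IsOpen {s : S | topologicalKrullDim ↥(f.fiber s) = 1 ∧
      Models.hRank ↥(S.residueField s) (f.fiber s) (f.fiberToSpecResidueField s)
        (Coh.structureModule (f.fiber s)) 0 = 1} := by
  have h1 : IsOpen {s : S | (0 : WithBot ℕ∞) < topologicalKrullDim ↥(f.fiber s)} :=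
    Groth.Agent.S0404.result f 0
  have h2 := Groth.Agent.Lib.Helper13.H0Usc.isOpen_setOf_finrank_lt f 2
  have hset : {s : S | topologicalKrullDim ↥(f.fiber s) = 1 ∧
      Models.hRank ↥(S.residueField s) (f.fiber s) (f.fiberToSpecResidueField s)
        (Coh.structureModule (f.fiber s)) 0 = 1} =
      {s : S | (0 : WithBot ℕ∞) < topologicalKrullDim ↥(f.fiber s)} ∩
        {s : S | Module.finrank (S.residueField s) Γ(f.fiber s, ⊤) < 2} := by
    ext s
    constructor
    · rintro ⟨hd, hr⟩
      refine ⟨?_, ?_⟩
      · show (0 : WithBot ℕ∞) < topologicalKrullDim ↥(f.fiber s)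
        rw [hd]
        exact zero_lt_one
      · show Module.finrank (S.residueField s) Γ(f.fiber s, ⊤) < 2
        rw [← Groth.Agent.Lib.Helper13.H0Usc.hRank_eq_finrank, hr]
        exact Nat.one_lt_two
    · rintro ⟨hd, hr⟩
      have hd' : (0 : WithBot ℕ∞) < topologicalKrullDim ↥(f.fiber s) := hd
      have hr' : Module.finrank (S.residueField s) Γ(f.fiber s, ⊤) < 2 := hr
      have : Nonempty ↥(f.fiber s) := by
        by_contra hne
        rw [not_nonempty_iff] at hne
        have : topologicalKrullDim ↥(f.fiber s) = ⊥ := by
          unfold topologicalKrullDim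
          haveI : IsEmpty (TopologicalSpace.IrreducibleCloseds ↥(f.fiber s)) :=
            ⟨fun Z => by
              obtain ⟨x, _⟩ := Z.isIrreducible.nonempty
              exact hne.elim x⟩
          exact Order.krullDim_eq_bot
        rw [this] at hd'
        exact absurd hd' (by simp)
      refine ⟨?_, ?_⟩
      · refine le_antisymm (hdim s) ?_
        obtain ⟨d, hdd⟩ : ∃ d : WithBot ℕ∞, d = topologicalKrullDim ↥(f.fiber s) := ⟨_, rfl⟩
        rw [← hdd] at hd' ⊢
        induction d using WithBot.recBotCoe with
        | bot => exact absurd hd' (by simp)
        | coe e =>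
          have he : (0 : ℕ∞) < e := by exact_mod_cast hd'
          have : (1 : ℕ∞) ≤ e := Order.one_le_iff_pos.mpr he
          exact_mod_cast this
      · rw [Groth.Agent.Lib.Helper13.H0Usc.hRank_eq_finrank]
        have := Groth.Agent.Lib.Helper13.H0Usc.one_le_finrank f s
        omega
  rw [hset]
  exact h1.inter h2

end Groth.Agent.S16752
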