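import Groth.Statements.S16754
import Groth.Agent.Lib.Helper23.GeomCurve
import Groth.Agent.Lib.Helper23.GeomConn
import Groth.Agent.Lib.Helper23.GeomH0
import Groth.Agent.Lib.Helper11.AA1

set_option autoImplicit false
universe u
open CurvSt

namespace Groth.Agent.S16754

open CategoryTheory CategoryTheory.Limits AlgebraicGeometry in
/-- Let k be a field and X a scheme which is proper and smooth over k and of dimension one. Then the
following are equivalent: dim_k H^0(X, O_X) = 1 (the ground field is the ring of global functions);
X is geometrically connected over k; X is geometrically integral over k. (The remaining conditions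
of the source concern membership in an open substack of the stack of curves and are not stated.) -/
theorem result (k : Type u) [Field k]
    (X : Scheme.{u}) [X.Over (Spec (CommRingCat.of k))] [IsProper (X ↘ Spec (CommRingCat.of k))]
    [Smooth (X ↘ Spec (CommRingCat.of k))] (hdim : topologicalKrullDim ↥X = 1) :
    (Module.finrank k (Coh.HH X (Coh.structureModule X) 0) = 1 ↔ GeometricallyConnected (X ↘ Spec (CommRingCat.of k))) ∧
      (GeometricallyConnected (X ↘ Spec (CommRingCat.of k)) ↔ GeometricallyIntegral (X ↘ Spec (CommRingCat.of k))) := by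
  open CategoryTheory CategoryTheory.Limits AlgebraicGeometry in
  -- geometrically connected + smooth ⇒ geometrically integral
  have hGI : GeometricallyConnected (X ↘ Spec (CommRingCat.of k)) →
      GeometricallyIntegral (X ↘ Spec (CommRingCat.of k)) := by
    intro hGC
    refine ⟨?_⟩
    intro K _ y Z fst snd h
    have hsm : Smooth snd := MorphismProperty.of_isPullback h inferInstance
    have hgc : GeometricallyConnected snd := MorphismProperty.of_isPullback h hGC
    exact @Groth.Agent.Lib.Helper23.GeomConn.isIntegral_of_geomConnected_smooth K _ Z ⟨snd⟩ hsm hgc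
  have hGC_of_GI : GeometricallyIntegral (X ↘ Spec (CommRingCat.of k)) →
      GeometricallyConnected (X ↘ Spec (CommRingCat.of k)) := by
    intro hGI'
    refine ⟨?_⟩
    intro K _ y Z fst snd h
    haveI : IsIntegral Z := hGI'.geometrically_isIntegral y fst snd h
    infer_instance
  have h1 : GeometricallyConnected (X ↘ Spec (CommRingCat.of k)) →
      Module.finrank k (Coh.HH X (Coh.structureModule X) 0) = 1 := by
    intro hGC
    haveI := hGI hGC
    exact Groth.Agent.Lib.Helper23.GeomCurve.finrank_h0_eq_one k X
  have h2 : Module.finrank k (Coh.HH X (Coh.structureModule X) 0) = 1 →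
      GeometricallyConnected (X ↘ Spec (CommRingCat.of k)) := by
    intro hfr
    letI : Algebra k Γ(X, ⊤) := (Coh.toGlobal (X ↘ Spec (CommRingCat.of k))).toAlgebra
    have e := Groth.Agent.Lib.Helper23.GeomH0.H0structEquiv k X
    have hfr' : Module.finrank k Γ(X, ⊤) = 1 := by rw [← e.finrank_eq]; exact hfr
    haveI : Module.Finite k Γ(X, ⊤) := Module.finite_of_finrank_pos (by rw [hfr']; exact one_pos)
    have hne : Nonempty X := by
      by_contra hE
      rw [not_nonempty_iff] at hE
      have h0 : topologicalKrullDim ↥X = ⊥ := by
        unfold topologicalKrullDim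
        haveI : IsEmpty (TopologicalSpace.IrreducibleCloseds ↥X) :=
          ⟨fun Z => by
            obtain ⟨x, -⟩ := Z.isIrreducible.nonempty
            exact hE.false x⟩
        exact Order.krullDim_eq_bot
      rw [h0] at hdim
      exact absurd hdim (by decide)
    haveI : Nonempty (⊤ : X.Opens) := by
      obtain ⟨x⟩ := hne
      exact ⟨⟨x, trivial⟩⟩
    haveI : Nontrivial Γ(X, ⊤) := Scheme.component_nontrivial X ⊤
    have hinj : Function.Injective (Algebra.linearMap k Γ(X, ⊤)) :=
      (algebraMap k Γ(X, ⊤)).injective
    have hsurj : Function.Surjective (Algebra.linearMap k Γ(X, ⊤)) := by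
      rw [← LinearMap.injective_iff_surjective_of_finrank_eq_finrank]
      · exact hinj
      · rw [hfr', Module.finrank_self]
    have hX : Function.Bijective ((Scheme.ΓSpecIso (CommRingCat.of k)).inv ≫
        (X ↘ Spec (CommRingCat.of k)).appTop).hom := ⟨hinj, hsurj⟩
    refine ⟨?_⟩
    intro K _ y Z fst snd h
    haveI : IsIso (pullback.snd (X ↘ Spec (CommRingCat.of k)) y).appTop :=
      Groth.Agent.Lib.Helper11.AA1.isIso_snd_appTop_field (X ↘ Spec (CommRingCat.of k)) y hX
    haveI : ConnectedSpace ↥(pullback (X ↘ Spec (CommRingCat.of k)) y) := by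
      apply Groth.Agent.Lib.Helper11.AA1.connectedSpace_of_bijective
        (pullback.snd (X ↘ Spec (CommRingCat.of k)) y)
      exact ConcreteCategory.bijective_of_isIso _
    have hs : Function.Surjective h.isoPullback.inv.base := by
      intro z
      refine ⟨h.isoPullback.hom.base z, ?_⟩
      rw [← Scheme.Hom.comp_apply, Iso.hom_inv_id]
      rfl
    exact hs.connectedSpace h.isoPullback.inv.base.hom.continuous
  exact ⟨⟨h2, h1⟩, ⟨hGI, hGC_of_GI⟩⟩

end Groth.Agent.S16754
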