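import Groth.Statements.S16762

set_option autoImplicit false
universe u
open CAlgX

namespace Groth.Agent.S16762

open TensorProduct

/-- Let A → A' be faithfully flat and u : M → N a map of A-modules. Then u is universally injective (u ⊗
id_Q injective for every A-module Q) if and only if its base change A' ⊗_A M → A' ⊗_A N is
universally injective as a map of A'-modules. -/
theorem result (A A' : Type u) [CommRing A] [CommRing A']
    [Algebra A A'] [Module.FaithfullyFlat A A'] {M N : Type u} [AddCommGroup M] [Module A M]
    [AddCommGroup N] [Module A N] (u : M →ₗ[A] N) :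
    CAlgX.UniversallyInjective A u ↔ CAlgX.UniversallyInjective A' (u.baseChange A') := by
  constructor
  · intro hu Q' _ _
    letI : Module A Q' := Module.compHom Q' (algebraMap A A')
    haveI : IsScalarTower A A' Q' := IsScalarTower.of_algebraMap_smul fun r x => rfl
    -- the comparison isomorphisms
    let e : ∀ (P : Type u) [AddCommGroup P] [Module A P],
        (A' ⊗[A] P) ⊗[A'] Q' ≃ₗ[A'] Q' ⊗[A] P := fun P _ _ =>
      (TensorProduct.comm A' (A' ⊗[A] P) Q') ≪≫ₗ
        (TensorProduct.AlgebraTensorModule.cancelBaseChange A A' A' Q' P)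
    have he : ∀ (P : Type u) [AddCommGroup P] [Module A P] (a : A') (x : P) (q : Q'),
        e P ((a ⊗ₜ[A] x) ⊗ₜ[A'] q) = (a • q) ⊗ₜ[A] x := by
      intro P _ _ a x q
      simp [e]
    have hcomm : ∀ x : (A' ⊗[A] M) ⊗[A'] Q',
        e N ((u.baseChange A').rTensor Q' x) = u.lTensor Q' (e M x) := by
      intro x
      induction x using TensorProduct.induction_on with
      | zero => simp
      | tmul y q =>
        induction y using TensorProduct.induction_on with
        | zero => simp
        | tmul a m =>
          rw [LinearMap.rTensor_tmul, LinearMap.baseChange_tmul, he, he, LinearMap.lTensor_tmul]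
        | add y₁ y₂ h₁ h₂ =>
          rw [add_tmul, map_add, map_add, map_add, map_add, h₁, h₂]
      | add x₁ x₂ h₁ h₂ => rw [map_add, map_add, map_add, map_add, h₁, h₂]
    have hinj : Function.Injective (u.lTensor Q') := by
      have h := hu Q'
      intro x y hxy
      have : u.rTensor Q' (TensorProduct.comm A Q' M x) = u.rTensor Q' (TensorProduct.comm A Q' M y) := by
        rw [← LinearMap.comm_comp_lTensor_comp_comm_eq] 
        simp [hxy]
      exact (TensorProduct.comm A Q' M).injective (h this)
    intro x y hxy
    apply (e M).injective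
    apply hinj
    rw [← hcomm, ← hcomm, hxy]
  · intro hu Q _ _
    rw [← Module.FaithfullyFlat.lTensor_injective_iff_injective A A']
    -- comparison isomorphisms
    let e : ∀ (P : Type u) [AddCommGroup P] [Module A P],
        (A' ⊗[A] P) ⊗[A'] (A' ⊗[A] Q) ≃ₗ[A'] A' ⊗[A] (P ⊗[A] Q) := fun P _ _ =>
      (TensorProduct.AlgebraTensorModule.cancelBaseChange A A' A' (A' ⊗[A] P) Q) ≪≫ₗ
        (TensorProduct.AlgebraTensorModule.assoc A A A' A' P Q)
    have he : ∀ (P : Type u) [AddCommGroup P] [Module A P] (a b : A') (x : P) (q : Q),
        e P ((a ⊗ₜ[A] x) ⊗ₜ[A'] (b ⊗ₜ[A] q)) = (b * a) ⊗ₜ[A] (x ⊗ₜ[A] q) := by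
      intro P _ _ a b x q
      simp [e, TensorProduct.smul_tmul']
    have hcomm : ∀ x : (A' ⊗[A] M) ⊗[A'] (A' ⊗[A] Q),
        e N ((u.baseChange A').rTensor (A' ⊗[A] Q) x) = (u.rTensor Q).lTensor A' (e M x) := by
      intro x
      induction x using TensorProduct.induction_on with
      | zero => simp
      | tmul y z =>
        induction y using TensorProduct.induction_on with
        | zero => simp
        | tmul a m =>
          induction z using TensorProduct.induction_on with
          | zero => simp
          | tmul b q =>
            rw [LinearMap.rTensor_tmul, LinearMap.baseChange_tmul, he, he, LinearMap.lTensor_tmul,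
              LinearMap.rTensor_tmul]
          | add z₁ z₂ h₁ h₂ =>
            rw [tmul_add, map_add, map_add, map_add, map_add, h₁, h₂]
        | add y₁ y₂ h₁ h₂ =>
          rw [add_tmul, map_add, map_add, map_add, map_add, h₁, h₂]
      | add x₁ x₂ h₁ h₂ => rw [map_add, map_add, map_add, map_add, h₁, h₂]
    have h := hu (A' ⊗[A] Q)
    intro x y hxy
    apply (e M).symm.injective
    apply h
    apply (e N).injective
    rw [hcomm, hcomm, LinearEquiv.apply_symm_apply, LinearEquiv.apply_symm_apply, hxy]

end Groth.Agent.S16762
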