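import Groth.Statements.S16771
import Groth.Agent.Lib.Helper11.RFP5
import Groth.Agent.Lib.Helper11.RFP7

set_option autoImplicit false
open CategoryTheory MonoidalCategory CartesianMonoidalCategory MonObj GrpObj AlgebraicGeometry
universe u
open SGA3x

namespace Groth.Agent.S16771

/-- Let G be an affine group scheme of finite presentation over a scheme S, Y ⊆ G a closed subscheme
which is finite, flat and of finite presentation over S, and Y' ⊆ G a closed subscheme of finite
presentation over S. Then the transporter of Y into Y' (points g of G such that g y g⁻¹ is a point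
of Y' for every point y of Y after any base change) is representable by a closed subscheme of G of
finite presentation over S. -/
theorem result {S : Scheme.{u}} (G Y Y' : Over S) [GrpObj G]
    (hGa : IsAffineHom G.hom) (hGfp : LocallyOfFinitePresentation G.hom)
    (y : Y ⟶ G) (hy : IsClosedImmersion y.left) (hYf : IsFinite Y.hom) (hYfl : Flat Y.hom)
    (hYfp : LocallyOfFinitePresentation Y.hom)
    (y' : Y' ⟶ G) (hy' : IsClosedImmersion y'.left) (hY'fp : LocallyOfFinitePresentation Y'.hom) :
    ∃ (C : Over S) (c : C ⟶ G), IsClosedImmersion c.left ∧ LocallyOfFinitePresentation C.hom ∧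
      ∀ (X : Over S) (g : X ⟶ G), (∃ z : X ⟶ C, z ≫ c = g) ↔
        ∀ (X' : Over S) (x : X' ⟶ X) (a : X' ⟶ Y), ∃ a' : X' ⟶ Y', (x ≫ g) * (a ≫ y) * (x ≫ g)⁻¹ = a' ≫ y' := by
  haveI := hGa
  haveI := hGfp
  haveI := hy'
  haveI := hYf
  haveI := hYfl
  haveI := hYfp
  haveI := hY'fp
  haveI : LocallyOfFiniteType G.hom := inferInstance
  -- y' is locally of finite presentation
  haveI : LocallyOfFinitePresentation (y'.left ≫ G.hom) := by
    rw [Over.w y']; infer_instance
  haveI : LocallyOfFinitePresentation y'.left :=
    Groth.Agent.Lib.Helper11.RFP7.lofp_of_comp y'.left G.hom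
  let conj : Y ⊗ G ⟶ G := snd Y G * (fst Y G ≫ y) * (snd Y G)⁻¹
  let ε := Limits.pullback.fst conj.left y'.left
  haveI : IsClosedImmersion ε := inferInstance
  haveI : LocallyOfFinitePresentation ε := inferInstance
  obtain ⟨Z, i, hi, hfp, H⟩ := Groth.Agent.Lib.Helper11.RFP7.over_main'_fp Y G
    (Groth.Agent.Lib.Helper11.RFP5.locProj_of_finite_flat Y) ε
  refine ⟨Over.mk (i ≫ G.hom), Over.homMk i rfl, hi, ?_, fun X g => ?_⟩
  · change LocallyOfFinitePresentation (i ≫ G.hom)
    infer_instance
  · rw [Groth.Agent.Lib.Helper11.RFP4.to_over, H X g,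
      Groth.Agent.Lib.Helper11.RFP7.transp_iff y y' g]
    constructor
    · rintro ⟨l, hl⟩
      refine ⟨Over.homMk (l ≫ Limits.pullback.snd conj.left y'.left) ?_, ?_⟩
      · change (l ≫ Limits.pullback.snd conj.left y'.left) ≫ Y'.hom = (Y ⊗ X).hom
        rw [← Over.w y', Category.assoc, ← Category.assoc (Limits.pullback.snd _ _),
          ← Limits.pullback.condition, ← Category.assoc, ← Category.assoc, hl, Category.assoc,
          Over.w conj, Over.w (Y ◁ g)]
      · ext1
        change (Y ◁ g).left ≫ conj.left = (l ≫ Limits.pullback.snd conj.left y'.left) ≫ y'.left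
        rw [Category.assoc, ← Limits.pullback.condition, ← Category.assoc, hl]
    · rintro ⟨a', ha'⟩
      have h1 : (Y ◁ g).left ≫ conj.left = a'.left ≫ y'.left := by
        rw [← Over.comp_left, ← Over.comp_left, ha']
      exact ⟨Limits.pullback.lift (Y ◁ g).left a'.left h1, Limits.pullback.lift_fst _ _ _⟩

end Groth.Agent.S16771
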