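import Groth.Statements.S16798
import Groth.Agent.Lib.Helper25.LogConnChange
open Groth.Agent.Lib.Helper25.LogConnLib Groth.Agent.Lib.Helper25.LogConnLayer Groth.Agent.Lib.Helper25.LogConnChange

set_option autoImplicit false
universe v u
open LogConn

namespace Groth.Agent.S16798

open TensorProduct in
/-- Let B be a commutative algebra over a commutative ring A, λ ∈ B, and t₁, …, tₙ ∈ B elements whose
differentials dt₁, …, dtₙ form a basis of the Kähler differentials Ω of B over A; let L be a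
B-module free on ω₁, …, ωₙ with a B-linear ι : Ω → L sending dtᵢ to tᵢ ωᵢ (ωᵢ playing the role of
dlog tᵢ), and E a B-module with an A-linear ∇ : E → E ⊗ L obeying the λ-twisted Leibniz rule ∇(b e)
= b ∇e + λ e ⊗ ι(db); write ∇ᵢ for the components of ∇ in the basis ω, ∇_J for their composite over
a finite index set J in increasing order, and E_I = Σ_{J ⊆ I} (∏_{i ∈ I∖J} tᵢ) · ∇_J(E) (an
A-submodule of E) for a finite index set I. Assume ∇ flat: for the logarithmic de Rham differential
d on the exterior powers of L (pinned on generators by d(b₀ · e₁ ∧ ⋯ ∧ e_p) = ι(db₀) ∧ e₁ ∧ ⋯ ∧ e_p,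
factors eⱼ of the form ι(db) or ωᵢ) and the λ-twisted extension ∇^• of ∇ (∇^p(e ⊗ η) = ∇(e) ∧ η + e
⊗ λ dη) one has ∇¹ ∘ ∇ = 0. Let u₁, …, uₙ be units of B such that the elements t'ᵢ = uᵢ tᵢ again
have differentials forming a basis of Ω, and such that the elements ω'ᵢ = ωᵢ + uᵢ⁻¹ ι(duᵢ) again
form a basis of L (a second admissible coordinate system with the same branches, ω'ᵢ playing the
role of dlog t'ᵢ). Then for every p the layer ⊕_{|K| = p} E_K ⊗ ω_K formed with the coordinates t,
the basis ω and the components of ∇ in ω coincides with the layer formed with t', ω' and the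
components of ∇ in ω'. (The published statement also allows a permutation of the indices.) -/
theorem result {A : Type v} {B L E : Type u} [CommRing A] [CommRing B]
    [Algebra A B] [AddCommGroup L] [Module B L] [Module A L] [IsScalarTower A B L]
    [AddCommGroup E] [Module B E] [Module A E] [IsScalarTower A B E]
    (lam : B) {n : ℕ} (t : Fin n → B) (bΩ : Module.Basis (Fin n) B (KaehlerDifferential A B))
    (hbΩ : ∀ i, bΩ i = KaehlerDifferential.D A B (t i))
    (ω : Module.Basis (Fin n) B L) (ι : KaehlerDifferential A B →ₗ[B] L)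
    (hι : ∀ i, ι (KaehlerDifferential.D A B (t i)) = t i • ω i)
    (nabla : E →ₗ[A] E ⊗[B] L)
    (hc : Conn.IsLamConn (ι.compDer (KaehlerDifferential.D A B)) lam nabla)
    (d : ∀ p : ℕ, ↥(⋀[B]^p L) →ₗ[A] ↥(⋀[B]^(p + 1) L))
    (hd : LogDiff.IsLogRule (KaehlerDifferential.D A B) ι (⇑ω) d)
    (nablas : ∀ p : ℕ, E ⊗[B] ↥(⋀[B]^p L) →ₗ[A] E ⊗[B] ↥(⋀[B]^(p + 1) L))
    (hint : Conn.IsIntegrable nabla (fun p => lam • d p) nablas)
    (u : Fin n → Bˣ) (bΩ' : Module.Basis (Fin n) B (KaehlerDifferential A B))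
    (hbΩ' : ∀ i, bΩ' i = KaehlerDifferential.D A B ((u i : B) * t i))
    (ω' : Module.Basis (Fin n) B L)
    (hω' : ∀ i, ω' i = ω i + ((u i)⁻¹ : Bˣ).val • ι (KaehlerDifferential.D A B (u i : B)))
    (p : ℕ) :
    LogConn.layer nabla ω t p = LogConn.layer nabla ω' (fun i => (u i : B) * t i) p := by
  classical
  have hι' : ∀ i, ι (KaehlerDifferential.D A B ((fun i => (u i : B) * t i) i)) =
      ((fun i => (u i : B) * t i) i) • ω' i := by
    intro i
    have h1 : ((u i : B) * t i) * ((u i)⁻¹ : Bˣ).val = t i := by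
      rw [mul_comm (u i : B) (t i), mul_assoc, Units.mul_inv, mul_one]
    show ι (KaehlerDifferential.D A B ((u i : B) * t i)) = ((u i : B) * t i) • ω' i
    rw [Derivation.leibniz, map_add, map_smul, map_smul, hι, hω', smul_add, smul_smul,
      smul_smul, h1]
  have hdω : ∀ k, d 1 (exteriorPower.ιMulti B 1 (fun _ => ω k)) = 0 := by
    intro k
    exact d_ιMulti_eq_zero ω ι d hd 1 (fun _ => k)
  have hdω' : ∀ k, d 1 (exteriorPower.ιMulti B 1 (fun _ => ω' k)) = 0 := by
    intro k
    have e1 : ∀ m : L, exteriorPower.ιMulti B 1 (fun _ : Fin 1 => m) =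
        (exteriorPower.oneEquiv B L).symm m :=
      fun m => (exteriorPower.oneEquiv_symm_apply B L m).symm
    have e2 : exteriorPower.ιMulti B 1 (fun _ : Fin 1 => ω' k) =
        exteriorPower.ιMulti B 1 (fun _ : Fin 1 => ω k) +
          ((u k)⁻¹ : Bˣ).val • exteriorPower.ιMulti B 1
            (fun _ : Fin 1 => ι (KaehlerDifferential.D A B (u k : B))) := by
      simp only [e1, hω', map_add, map_smul]
    rw [e2, map_add, hdω k, zero_add,
      hd 1 _ (fun _ => ι (KaehlerDifferential.D A B (u k : B))) (fun _ => Or.inl ⟨_, rfl⟩)]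
    have h4 : KaehlerDifferential.D A B (((u k)⁻¹ : Bˣ).val) =
        -(((u k)⁻¹ : Bˣ).val) ^ 2 • KaehlerDifferential.D A B (u k : B) :=
      Derivation.leibniz_of_mul_eq_one _ (Units.inv_mul (u k))
    rw [h4, map_smul]
    have h5 : ∀ (r : B) (w : L), (Fin.cons (r • w) (fun _ : Fin 1 => w) : Fin (1 + 1) → L) =
        Function.update (Fin.cons w (fun _ : Fin 1 => w)) 0 (r • w) := by
      intro r w
      rw [Fin.update_cons_zero]
    rw [h5, AlternatingMap.map_update_smul, Fin.update_cons_zero,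
      (exteriorPower.ιMulti B (1 + 1)).map_eq_zero_of_eq _ (i := 0) (j := 1) rfl (by decide),
      smul_zero]
  have hcomm := comp_comm' lam ω nabla d nablas hdω hint
  have hcomm' := comp_comm' lam ω' nabla d nablas hdω' hint
  have hrel₁ : ∀ i j, ∃ c : B, ω'.coord j (ω i) = (if i = j then 1 else 0) + t j * c := by
    intro i j
    have h1 : ω i = ω' i - ((u i)⁻¹ : Bˣ).val • ι (KaehlerDifferential.D A B (u i : B)) := by
      rw [hω', add_sub_cancel_right]
    refine ⟨-(((u i)⁻¹ : Bˣ).val * pd bΩ' j (u i : B) * (u j : B)), ?_⟩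
    rw [h1, map_sub, map_smul,
      coord_iota_D (fun i => (u i : B) * t i) bΩ' hbΩ' ω' ι hι' j (u i : B),
      Module.Basis.coord_apply, Module.Basis.repr_self, Finsupp.single_apply, smul_eq_mul]
    ring
  have hrel₂ : ∀ i j, ∃ c : B, ω.coord j (ω' i) =
      (if i = j then 1 else 0) + ((fun i => (u i : B) * t i) j) * c := by
    intro i j
    refine ⟨((u i)⁻¹ : Bˣ).val * pd bΩ j (u i : B) * ((u j)⁻¹ : Bˣ).val, ?_⟩
    rw [hω', map_add, map_smul, coord_iota_D t bΩ hbΩ ω ι hι j (u i : B),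
      Module.Basis.coord_apply, Module.Basis.repr_self, Finsupp.single_apply, smul_eq_mul]
    have h2 : (u j : B) * ((u j)⁻¹ : Bˣ).val = 1 := Units.mul_inv (u j)
    show _ = _ + ((u j : B) * t j) * _
    linear_combination (-(((u i)⁻¹ : Bˣ).val * pd bΩ j (u i : B) * t j)) * h2
  have ht₁ : ∀ j, ∃ v : B, (fun i => (u i : B) * t i) j = v * t j := fun j => ⟨u j, rfl⟩
  have ht₂ : ∀ j, ∃ v : B, t j = v * (fun i => (u i : B) * t i) j :=
    fun j => ⟨((u j)⁻¹ : Bˣ).val, (Units.inv_mul_cancel_left (u j) (t j)).symm⟩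
  exact le_antisymm
    (layer_le lam t bΩ hbΩ ω ι hι nabla hc hcomm (fun i => (u i : B) * t i) bΩ' hbΩ' ω' hι'
      hcomm' hrel₁ hrel₂ ht₂ p)
    (layer_le lam (fun i => (u i : B) * t i) bΩ' hbΩ' ω' ι hι' nabla hc hcomm' t bΩ hbΩ ω hι
      hcomm hrel₂ hrel₁ ht₁ p)

end Groth.Agent.S16798
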