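import Groth.Statements.S16805
import Groth.Agent.Lib.Helper28.AlgSt.FieldCover2

set_option autoImplicit false
universe u
open CategoryTheory AlgebraicGeometry
open Gerb

namespace Groth.Agent.S16805

/-- For an algebraic stack 𝒵 the following are equivalent: 𝒵 is reduced with exactly one point; 𝒵
receives a surjective flat morphism from the spectrum of a field; 𝒵 receives a locally of finite
type, surjective, flat morphism from the spectrum of a field. -/
theorem result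
    (S : Scheme.{u}) (𝒵 : AlgSt.Cat S) (h𝒵 : AlgSt.IsAlgStack Scheme.fppfPrecoverage 𝒵) :
    [AlgSt.SmoothLocally (fun T => IsReduced T) 𝒵 ∧ Nonempty (AlgSt.Points 𝒵) ∧ Subsingleton (AlgSt.Points 𝒵),
      ∃ (k : Type u) (_ : Field k) (a : Spec (CommRingCat.of k) ⟶ S)
        (z : FibCat.overCat (Over.mk a) ⥤ᵇ 𝒵), AlgSt.RepByAlgSpWith AlgSp.IsSurjectiveMor z ∧ AlgSt.RepByAlgSpWith (AlgSp.LocP @Flat) z,
      ∃ (k : Type u) (_ : Field k) (a : Spec (CommRingCat.of k) ⟶ S)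
        (z : FibCat.overCat (Over.mk a) ⥤ᵇ 𝒵), AlgSt.RepByAlgSpWith (AlgSp.LocP @LocallyOfFiniteType) z ∧
          AlgSt.RepByAlgSpWith AlgSp.IsSurjectiveMor z ∧ AlgSt.RepByAlgSpWith (AlgSp.LocP @Flat) z].TFAE := by
  tfae_have 1 → 2 := fun ⟨hred, hne, hsub⟩ =>
    Groth.Agent.Lib.Helper28.AlgSt.FieldCover2.exists_flat_field_cover h𝒵 hred hne hsub
  tfae_have 2 → 3 := fun ⟨k, hk, a, z, hzs, hzf⟩ =>
    Groth.Agent.Lib.Helper28.AlgSt.FieldCover2.exists_lft_field_cover h𝒵 k a z hzs hzf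
  tfae_have 3 → 1 := fun ⟨k, hk, a, z, _, hzs, hzf⟩ =>
    ⟨Groth.Agent.Lib.Helper28.AlgSt.FieldCover2.smoothLocally_reduced_of_field_cover h𝒵 k a z hzs hzf,
      Groth.Agent.Lib.Helper28.AlgSt.FieldCover2.one_point_of_field_cover h𝒵 k a z hzs⟩
  tfae_finish

end Groth.Agent.S16805
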