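import Groth.Statements.S16809
import Mathlib
import Groth.Agent.Lib.Helper10.RedClosed2
import Groth.Agent.Lib.Helper28.AlgSt.FieldCover2
import Groth.Agent.S12869
import Groth.Agent.Lib.Helper16.SchImg2
import Groth.Agent.Lib.Helper10.AlgStPtsFib

set_option autoImplicit false
universe u
open CategoryTheory AlgebraicGeometry
open Gerb

namespace Groth.Agent.S16809

/-- (1)⇔(2)⇔(3): for a point x of an algebraic stack 𝒳 the following are equivalent: some algebraic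
stack with exactly one point maps monomorphically to 𝒳 onto x; some reduced algebraic stack with
exactly one point does; some algebraic stack 𝒵 with a monomorphism f : 𝒵 → 𝒳 receives a surjective
flat morphism z from the spectrum of a field with f(z) = x. -/
theorem result
    (S : Scheme.{u}) (𝒳 : AlgSt.Cat S) (h𝒳 : AlgSt.IsAlgStack Scheme.fppfPrecoverage 𝒳) (x : AlgSt.Points 𝒳) :
    [Gerb.ResGerbeExists Scheme.fppfPrecoverage 𝒳 x,
      ∃ (𝒵 : AlgSt.Cat S) (f : 𝒵 ⥤ᵇ 𝒳), AlgSt.IsAlgStack Scheme.fppfPrecoverage 𝒵 ∧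
        AlgSt.SmoothLocally (fun T => IsReduced T) 𝒵 ∧ AlgSt.IsMono f ∧
        Nonempty (AlgSt.Points 𝒵) ∧ Subsingleton (AlgSt.Points 𝒵) ∧ ∀ p, AlgSt.Points.map f p = x,
      ∃ (𝒵 : AlgSt.Cat S) (f : 𝒵 ⥤ᵇ 𝒳) (k : Type u) (_ : Field k) (a : Spec (CommRingCat.of k) ⟶ S)
        (z : FibCat.overCat (Over.mk a) ⥤ᵇ 𝒵), AlgSt.IsAlgStack Scheme.fppfPrecoverage 𝒵 ∧ AlgSt.IsMono f ∧
        AlgSt.RepByAlgSpWith AlgSp.IsSurjectiveMor z ∧ AlgSt.RepByAlgSpWith (AlgSp.LocP @Flat) z ∧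
        ∀ t : ↥(Over.mk a).left, AlgSt.Points.map f (AlgSt.Points.ofChart z t) = x].TFAE := by
  tfae_have 1 → 2 := by
    rintro ⟨𝒵, i, h𝒵, hi, hne, hsub, hix⟩
    obtain ⟨Q, ⟨hQiso, hQalg, hQcl⟩, hrange, hred⟩ :=
      H10PT.RedClosed.exists_reduced_closedSubstack h𝒵 Set.univ isClosed_univ
    have hmono : AlgSt.IsMono (AlgSt.subIncl 𝒵 Q) := by
      refine Groth.Agent.Lib.Helper28.AlgSt.Key.repByAlgSpWith_mono _ (fun F U g hg => ?_) hQcl
      exact Groth.Agent.Lib.Helper16.SchImg.mono_of_repWith_isClosedImmersion g hg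
    have hinj : Function.Injective (AlgSt.Points.map (AlgSt.subIncl 𝒵 Q)) :=
      H10PT.points_map_injective_of_full hQalg.isStack.1 h𝒵.isStack.1 (AlgSt.subIncl 𝒵 Q)
    refine ⟨AlgSt.fullSub 𝒵 Q, BasedFunctor.comp (AlgSt.subIncl 𝒵 Q) i, hQalg, hred,
      Groth.Agent.S12869.result hQalg h𝒵 h𝒳 _ _ hmono hi, ?_, ?_, ?_⟩
    · obtain ⟨p⟩ := hne
      have hp : p ∈ Set.range (AlgSt.Points.map (AlgSt.subIncl 𝒵 Q)) := by
        rw [hrange]; trivial
      obtain ⟨q, -⟩ := hp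
      exact ⟨q⟩
    · constructor
      intro p q
      exact hinj (Subsingleton.elim _ _)
    · intro p
      have := congrFun (Groth.Agent.Lib.Helper10.AlgStRep.points_map_comp (AlgSt.subIncl 𝒵 Q) i) p
      rw [this]
      exact hix _
  tfae_have 2 → 3 := by
    rintro ⟨𝒵, f, h𝒵, hred, hf, hne, hsub, hfx⟩
    obtain ⟨k, hk, a, z, hzs, hzf⟩ :=
      Groth.Agent.Lib.Helper28.AlgSt.FieldCover2.exists_flat_field_cover h𝒵 hred hne hsub
    exact ⟨𝒵, f, k, hk, a, z, h𝒵, hf, hzs, hzf, fun t => hfx _⟩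
  tfae_have 3 → 1 := by
    rintro ⟨𝒵, f, k, hk, a, z, h𝒵, hf, hzs, hzf, hx⟩
    obtain ⟨hne, hsub⟩ :=
      Groth.Agent.Lib.Helper28.AlgSt.FieldCover2.one_point_of_field_cover h𝒵 k a z hzs
    refine ⟨𝒵, f, h𝒵, hf, hne, hsub, ?_⟩
    intro p
    have ht : Nonempty ↥(Over.mk a).left :=
      inferInstanceAs (Nonempty ↥(Spec (CommRingCat.of k)))
    obtain ⟨t⟩ := ht
    rw [Subsingleton.elim p (AlgSt.Points.ofChart z t)]
    exact hx t
  tfae_finish

end Groth.Agent.S16809
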