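import Groth.Statements.S1681
import Groth.Agent.Lib.Helper3.BlowUpBasic

set_option autoImplicit false
universe u
open CategoryTheory CategoryTheory.Limits AlgebraicGeometry TopologicalSpace
open SDiv

namespace Groth.Agent.S1681

/-- Let b : X' ⟶ X be a blowing-up of X along the quasi-coherent ideal sheaf 𝓘. Then b restricts to a
bijection from the maximal points of X' (points with no proper generization) onto the maximal points
of X not lying in the support of 𝓘. -/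
theorem result {X X' : Scheme.{u}} (𝓘 : X.IdealSheafData) (b : X' ⟶ X) (hb : BlowUp.IsBlowUp b 𝓘) :
    Set.BijOn (fun x' => b x') {x' : ↥X' | ∀ y : ↥X', y ⤳ x' → y = x'}
      {x : ↥X | (∀ y : ↥X, y ⤳ x → y = x) ∧ x ∉ 𝓘.support} := by
  classical
  have hiso : IsIso (b ∣_ 𝓘.support.compl) :=
    Groth.Agent.Lib.Helper3.isIso_morphismRestrict_of_isBlowUp 𝓘 b hb
  set U : X.Opens := 𝓘.support.compl with hU
  -- the open immersion `j : b⁻¹U ⟶ X`
  have hjeq : (b ⁻¹ᵁ U).ι ≫ b = (b ∣_ U) ≫ U.ι := (morphismRestrict_ι b U).symm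
  have hjopen : IsOpenImmersion ((b ⁻¹ᵁ U).ι ≫ b) := by rw [hjeq]; infer_instance
  have hj := ((b ⁻¹ᵁ U).ι ≫ b).isOpenEmbedding
  have hι := (b ⁻¹ᵁ U).ι.isOpenEmbedding
  have hjapp : ∀ z : (b ⁻¹ᵁ U).toScheme, ((b ⁻¹ᵁ U).ι ≫ b) z = b ((b ⁻¹ᵁ U).ι z) := fun z => rfl
  -- maximal points of `X'` lie over `U`
  have key : ∀ x' : X', (∀ y : X', y ⤳ x' → y = x') → b x' ∈ U := by
    intro x' hx'
    have h1 := Groth.Agent.Lib.Helper3.notMem_support_of_isEffCartierIdeal _ hb.1 x' hx'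
    rw [Scheme.IdealSheafData.support_comap] at h1
    exact h1
  -- transfer of maximality
  have tr : ∀ z : (b ⁻¹ᵁ U).toScheme,
      (∀ y : X', y ⤳ (b ⁻¹ᵁ U).ι z → y = (b ⁻¹ᵁ U).ι z) ↔
        (∀ y : X, y ⤳ b ((b ⁻¹ᵁ U).ι z) → y = b ((b ⁻¹ᵁ U).ι z)) := by
    intro z
    rw [Groth.Agent.Lib.Helper3.maximal_iff_of_isOpenEmbedding _ hι z, ← hjapp z,
      Groth.Agent.Lib.Helper3.maximal_iff_of_isOpenEmbedding _ hj z]
  refine ⟨?_, ?_, ?_⟩
  · intro x' hx'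
    have hxU := key x' hx'
    let z : (b ⁻¹ᵁ U).toScheme := ⟨x', hxU⟩
    exact ⟨(tr z).mp hx', fun h => hxU h⟩
  · intro x' hx' y' hy' hxy
    have hxU := key x' hx'
    have hyU := key y' hy'
    let z : (b ⁻¹ᵁ U).toScheme := ⟨x', hxU⟩
    let w : (b ⁻¹ᵁ U).toScheme := ⟨y', hyU⟩
    have hzw : ((b ⁻¹ᵁ U).ι ≫ b) z = ((b ⁻¹ᵁ U).ι ≫ b) w := hxy
    have := hj.injective hzw
    exact congrArg Subtype.val this
  · rintro x ⟨hx, hxs⟩
    have hxU : x ∈ U := hxs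
    have hsurj : Function.Surjective (b ∣_ U) := (b ∣_ U).homeomorph.surjective
    obtain ⟨z, hz⟩ := hsurj ⟨x, hxU⟩
    have hbz : b ((b ⁻¹ᵁ U).ι z) = x := by
      rw [← hjapp z, hjeq]
      change U.ι ((b ∣_ U) z) = x
      rw [hz]
      rfl
    refine ⟨(b ⁻¹ᵁ U).ι z, ?_, hbz⟩
    rw [Set.mem_ofPred_eq, tr z, hbz]
    exact hx

end Groth.Agent.S1681
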