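import Groth.Statements.S16812
import Groth.Agent.Lib.Helper28.AlgSt.EssImage
import Groth.Agent.Lib.Helper10.AlgStPts

set_option autoImplicit false
universe u
open CategoryTheory AlgebraicGeometry
open Gerb

namespace Groth.Agent.S16812

/-- Let 𝒵 be a reduced, locally Noetherian algebraic stack with exactly one point and f : 𝒵 → 𝒳 a
monomorphism to an algebraic stack sending that point to x. Then the residual gerbe 𝒵_x ⊂ 𝒳 at x
exists (a strictly full subcategory which is a reduced, locally Noetherian algebraic stack with one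
point over x) and f factors through it by an equivalence 𝒵 → 𝒵_x. -/
theorem result
    (S : Scheme.{u}) (𝒳 : AlgSt.Cat S) (h𝒳 : AlgSt.IsAlgStack Scheme.fppfPrecoverage 𝒳) (x : AlgSt.Points 𝒳)
    (𝒵 : AlgSt.Cat S) (h𝒵 : AlgSt.IsAlgStack Scheme.fppfPrecoverage 𝒵)
    (hred : AlgSt.SmoothLocally (fun T => IsReduced T) 𝒵)
    (hnoeth : AlgSt.SmoothLocally (fun T => IsLocallyNoetherian T) 𝒵)
    (hne : Nonempty (AlgSt.Points 𝒵)) (hsub : Subsingleton (AlgSt.Points 𝒵))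
    (f : 𝒵 ⥤ᵇ 𝒳) (hf : AlgSt.IsMono f) (hfx : ∀ p : AlgSt.Points 𝒵, AlgSt.Points.map f p = x) :
    ∃ Q : 𝒳.obj → Prop, Gerb.IsResGerbe Scheme.fppfPrecoverage 𝒳 x Q ∧
      ∃ e : 𝒵 ⥤ᵇ AlgSt.fullSub 𝒳 Q, FibCat.IsEquivOver e ∧
        Nonempty (BasedFunctor.comp e (AlgSt.subIncl 𝒳 Q) ≅ f) := by
  obtain ⟨hfull, hfaith⟩ := Groth.Agent.S12774.result h𝒵.isStack.1 h𝒳.isStack.1 f hf
  haveI := hfull
  haveI := hfaith
  have heq := Groth.Agent.Lib.Helper28.AlgSt.EssImage.isEquivOver_toEssImg h𝒵.isStack.1 f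
  have hbij := Groth.Agent.Lib.Helper10.AlgStRep.points_map_bijective_of_isEquivOver
    (Groth.Agent.Lib.Helper28.AlgSt.EssImage.toEssImg f) heq
  refine ⟨Groth.Agent.Lib.Helper28.AlgSt.EssImage.essImg f,
    ⟨Groth.Agent.Lib.Helper28.AlgSt.EssImage.essImg_closed f,
      Groth.Agent.Lib.Helper10.AlgStRep.isAlgStack_of_isEquivOver _
        (Groth.Agent.Lib.Helper28.AlgSt.EssImage.toEssImg f) heq h𝒵,
      Groth.Agent.Lib.Helper28.AlgSt.EssImage.smoothLocally_of_isEquivOver _ _ heq hred,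
      Groth.Agent.Lib.Helper28.AlgSt.EssImage.smoothLocally_of_isEquivOver _ _ heq hnoeth,
      ?_, ?_, ?_⟩,
    Groth.Agent.Lib.Helper28.AlgSt.EssImage.toEssImg f, heq, ⟨Iso.refl _⟩⟩
  · obtain ⟨p⟩ := hne
    exact ⟨AlgSt.Points.map (Groth.Agent.Lib.Helper28.AlgSt.EssImage.toEssImg f) p⟩
  · constructor
    intro p q
    obtain ⟨p', rfl⟩ := hbij.2 p
    obtain ⟨q', rfl⟩ := hbij.2 q
    rw [Subsingleton.elim p' q']
  · intro z
    obtain ⟨z', rfl⟩ := hbij.2 z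
    have := congrFun (Groth.Agent.Lib.Helper10.AlgStRep.points_map_comp
      (Groth.Agent.Lib.Helper28.AlgSt.EssImage.toEssImg f)
      (AlgSt.subIncl 𝒳 (Groth.Agent.Lib.Helper28.AlgSt.EssImage.essImg f))) z'
    rw [Groth.Agent.Lib.Helper28.AlgSt.EssImage.toEssImg_comp] at this
    exact this.symm.trans (hfx z')

end Groth.Agent.S16812
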