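import Groth.Statements.S16814
import Mathlib
import Groth.Agent.Lib.Helper10.ResGerbeFac

set_option autoImplicit false
universe u
open CategoryTheory AlgebraicGeometry
open Gerb

namespace Groth.Agent.S16814

/-- Let f : 𝒳 → 𝒴 be a morphism of algebraic stacks and x a point of 𝒳 with image y. If the residual
gerbes 𝒵_x ⊂ 𝒳 and 𝒵_y ⊂ 𝒴 exist, then f induces a morphism 𝒵_x → 𝒵_y making the square with the
inclusions commute up to 2-isomorphism. -/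
theorem result
    (S : Scheme.{u}) (𝒳 𝒴 : AlgSt.Cat S) (h𝒳 : AlgSt.IsAlgStack Scheme.fppfPrecoverage 𝒳) (h𝒴 : AlgSt.IsAlgStack Scheme.fppfPrecoverage 𝒴)
    (f : 𝒳 ⥤ᵇ 𝒴) (x : AlgSt.Points 𝒳)
    (Q : 𝒳.obj → Prop) (hQ : Gerb.IsResGerbe Scheme.fppfPrecoverage 𝒳 x Q)
    (Q' : 𝒴.obj → Prop) (hQ' : Gerb.IsResGerbe Scheme.fppfPrecoverage 𝒴 (AlgSt.Points.map f x) Q') :
    ∃ g : AlgSt.fullSub 𝒳 Q ⥤ᵇ AlgSt.fullSub 𝒴 Q',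
      Nonempty (BasedFunctor.comp g (AlgSt.subIncl 𝒴 Q') ≅ BasedFunctor.comp (AlgSt.subIncl 𝒳 Q) f) := by
  obtain ⟨-, h𝒬, hred, hnoeth, ⟨w⟩, hsub, hmap⟩ := hQ
  obtain ⟨-, h𝒬', -, -, ⟨w'⟩, -, hmap'⟩ := hQ'
  have hi' : AlgSt.IsMono (AlgSt.subIncl 𝒴 Q') :=
    Groth.Agent.S12840.result h𝒬' h𝒴 (AlgSt.subIncl 𝒴 Q')
  obtain ⟨k, hk, a, z, hzp, hzs, hzf⟩ :=
    (Groth.Agent.S16806.result S (AlgSt.fullSub 𝒳 Q) h𝒬).1 ⟨hred, hnoeth, ⟨w⟩, hsub⟩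
  refine H10PT.ResGerbeFac.exists_factor_of_mono_field h𝒴 h𝒬' h𝒬
    (BasedFunctor.comp (AlgSt.subIncl 𝒳 Q) f) (AlgSt.subIncl 𝒴 Q') hi' k a z hzp hzs hzf w w' ?_
  rw [Groth.Agent.Lib.Helper10.AlgStRep.points_map_comp, Function.comp_apply, hmap w, hmap' w']

end Groth.Agent.S16814
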