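import Groth.Statements.S16828
import Mathlib
import Groth.Agent.Lib.Helper10.DMDiagA

set_option autoImplicit false
universe u
open AlgSt

namespace Groth.Agent.S16828

open CategoryTheory AlgebraicGeometry in
/-- Let 𝒳 be a Deligne–Mumford stack over (Sch/S) for the etale topology whose diagonal 𝒳 → 𝒳
×_{(Sch/S)} 𝒳 is separated and quasi-compact (representable by algebraic spaces with these
properties). Then the diagonal is quasi-affine: representable by algebraic spaces with every base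
change to a scheme a quasi-affine morphism. The source states this for the absolute diagonal; the
diagonal over S is used here. -/
theorem result {S : Scheme.{u}} (𝒳 : AlgSt.Cat S)
    (h𝒳 : AlgSt.IsDM Scheme.etalePrecoverage 𝒳)
    (hsep : AlgSt.RepByAlgSpWith AlgSp.IsSeparatedMor (FibCat.diag (FibCat.toSelf 𝒳)))
    (hqc : AlgSt.RepByAlgSpWith AlgSp.IsQuasiCompactMor (FibCat.diag (FibCat.toSelf 𝒳))) :
    AlgSt.RepByAlgSpWith AlgSp.IsQuasiAffineMor (FibCat.diag (FibCat.toSelf 𝒳)) := by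
  obtain ⟨halg, hat⟩ := h𝒳
  have hun : AlgSt.RepByAlgSpWith (AlgSp.LocP (@LocallyOfFiniteType ⊓ @FormallyUnramified))
      (FibCat.diag (FibCat.toSelf 𝒳)) :=
    H10PT.DMDiag.isDMOver_of_etale_atlas halg.isStack.1 halg.diag hat
  intro T y
  obtain ⟨F, e, he, hs⟩ := hsep T y
  have hq := (Groth.Agent.Lib.Helper28.AlgSt.SpaceCalc.repByAlgSpWith_iff_chart _
    Groth.Agent.Lib.Helper28.AlgSt.PropInst.good_quasiCompact.bc
    Groth.Agent.Lib.Helper28.AlgSt.PropInst.good_quasiCompact.loc
    (FibCat.fpFst y (FibCat.diag (FibCat.toSelf 𝒳))) e he).1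
    (Groth.Agent.Lib.Helper10.AlgStRep.repByAlgSpWith_fpFst _ _ y hqc)
  have hu := (Groth.Agent.Lib.Helper28.AlgSt.SpaceCalc.repByAlgSpWith_iff_chart _
    Groth.Agent.Lib.Helper28.AlgSt.PropInst.good_unramified.bc
    Groth.Agent.Lib.Helper28.AlgSt.PropInst.good_unramified.loc
    (FibCat.fpFst y (FibCat.diag (FibCat.toSelf 𝒳))) e he).1
    (Groth.Agent.Lib.Helper10.AlgStRep.repByAlgSpWith_fpFst _ _ y hun)
  exact ⟨F, e, he, H10PT.DMDiag.isQuasiAffineMor_of_sep_qc_unram F T _ hs hq hu⟩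

end Groth.Agent.S16828
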