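import Groth.Statements.S16833
import Groth.Agent.S10649
import Groth.Agent.S9915
import Groth.Agent.S10279
import Groth.Agent.S10555

set_option autoImplicit false
universe u
open AlgSp

namespace Groth.Agent.S16833

open CategoryTheory AlgebraicGeometry in
/-- Let p : U → X and f : X → Y be morphisms of algebraic spaces over a scheme S with p etale and
surjective and f separated. If the composite U → Y is finite, then f is finite. -/
theorem result {S : Scheme.{u}}
    {U X Y : AlgSp.Space S} (p : U ⟶ X) (f : X ⟶ Y)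
    (hp : AlgSp.IsEtaleMor p.hom) (hps : AlgSp.IsSurjectiveMor p.hom)
    (hf : AlgSp.IsSeparatedMor f.hom) (h : AlgSp.IsFiniteMor (p ≫ f).hom) :
    AlgSp.IsFiniteMor f.hom := by
  have hX : AlgSp.IsAlgSpace X.obj := X.property
  have hY : AlgSp.IsAlgSpace Y.obj := Y.property
  have hU : AlgSp.IsAlgSpace U.obj := U.property
  have key' : AlgSp.IsFiniteMor (p ≫ f).hom ↔ (AlgSp.IsProperMor (p ≫ f).hom ∧
      AlgSp.LocP (@LocallyQuasiFinite ⊓ @LocallyOfFiniteType) (p ≫ f).hom) :=
    (Groth.Agent.S10649.result (p ≫ f)).out 0 1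
  have key : AlgSp.IsFiniteMor f.hom ↔ (AlgSp.IsProperMor f.hom ∧
      AlgSp.LocP (@LocallyQuasiFinite ⊓ @LocallyOfFiniteType) f.hom) :=
    (Groth.Agent.S10649.result f).out 0 1
  have hfin := key'.1 h
  obtain ⟨⟨hsep', ⟨hlft', hqc'⟩, huc'⟩, hlqf'⟩ := hfin
  have hqc : AlgSp.IsQuasiCompactMor f.hom := Groth.Agent.S9915.result p (p ≫ f) f rfl hps hqc'
  have huc : AlgSp.IsUnivClosedMor f.hom := Groth.Agent.S10279.result p (p ≫ f) f rfl huc' hps
  have hcov : AlgSp.IsEtCover (fun _ : PUnit.{u + 1} => U.obj) (fun _ => p.hom) := by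
    constructor
    · intro _
      exact hp
    · intro x
      exact ⟨PUnit.unit, hps x⟩
  have hlqf : AlgSp.LocP (@LocallyQuasiFinite ⊓ @LocallyOfFiniteType) f.hom :=
    ((Groth.Agent.S10555.result S) (fun _ : PUnit.{u + 1} => U.obj) (fun _ => p.hom) hX (fun _ => hU) hcov
      f.hom hY).2 (fun _ => hlqf')
  have hlft : AlgSp.LocP @LocallyOfFiniteType f.hom := fun U V a b m ha hb hc => (hlqf a b m ha hb hc).2
  have hft : AlgSp.IsFiniteTypeMor f.hom := And.intro hlft hqc
  have hprop : AlgSp.IsProperMor f.hom := And.intro hf (And.intro hft huc)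
  exact key.2 (And.intro hprop hlqf)

end Groth.Agent.S16833
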