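import Groth.Statements.S16834
import Groth.Agent.Lib.Helper16.AffDescCover
import Groth.Agent.Lib.Helper16.SpCoprod

set_option autoImplicit false
universe u
open CategoryTheory CategoryTheory.Limits AlgebraicGeometry
open AlgSp

namespace Groth.Agent.S16834

/-- Let k be a field with algebraic closure k̄ and X an algebraic space over Spec k which is
quasi-separated over k and whose structure morphism is locally of finite type. If the base change X
×_k Spec k̄ (product with h_{Spec k̄} in fppf sheaves over Spec k) is isomorphic to h_T for an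
affine scheme T over k, then X is isomorphic to h_U for an affine scheme U over k. -/
theorem result (k : Type u) [Field k]
    (X : AlgSp.Space (Spec (CommRingCat.of k))) (hqs : AlgSp.IsQuasiSeparatedSp X.obj)
    (hlft : ∀ q : X.obj ⟶ (AlgSp.yon (Spec (CommRingCat.of k))).obj (Over.mk (𝟙 _)),
      AlgSp.LocP @LocallyOfFiniteType q)
    (kbar : Type u) [Field kbar] [Algebra k kbar] [IsAlgClosure k kbar]
    (T : Over (Spec (CommRingCat.of k))) (hT : IsAffine T.left)
    (e : X.obj ⨯ (AlgSp.yon (Spec (CommRingCat.of k))).obj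
        (Over.mk (Spec.map (CommRingCat.ofHom (algebraMap k kbar)))) ≅
      (AlgSp.yon (Spec (CommRingCat.of k))).obj T) :
    ∃ (U : Over (Spec (CommRingCat.of k))), IsAffine U.left ∧
      Nonempty (X.obj ≅ (AlgSp.yon (Spec (CommRingCat.of k))).obj U) := by
  have hterm := Groth.Agent.Lib.Helper16.SpCoprod.isTerminalOne (Spec (CommRingCat.of k))
  have hpb : IsPullback (Limits.prod.fst : X.obj ⨯ (AlgSp.yon (Spec (CommRingCat.of k))).obj
        (Over.mk (Spec.map (CommRingCat.ofHom (algebraMap k kbar)))) ⟶ X.obj) Limits.prod.snd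
      (hterm.from _) (hterm.from _) :=
    IsPullback.of_is_product (Limits.prodIsProd _ _) hterm
  obtain ⟨π, hπ⟩ := (AlgSp.yon (Spec (CommRingCat.of k))).map_surjective (e.inv ≫ Limits.prod.snd)
  let c : Over.mk (Spec.map (CommRingCat.ofHom (algebraMap k kbar))) ⟶
      Over.mk (𝟙 (Spec (CommRingCat.of k))) :=
    Over.homMk (Spec.map (CommRingCat.ofHom (algebraMap k kbar))) (Category.comp_id _)
  have hsq : IsPullback (e.inv ≫ Limits.prod.fst) ((AlgSp.yon (Spec (CommRingCat.of k))).map π)
      (hterm.from X.obj) ((AlgSp.yon (Spec (CommRingCat.of k))).map c) := by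
    rw [hπ]
    have hc : (AlgSp.yon (Spec (CommRingCat.of k))).map c = hterm.from _ := hterm.hom_ext _ _
    rw [hc]
    exact IsPullback.of_iso hpb e (Iso.refl _) (Iso.refl _) (Iso.refl _)
      (by simp) (by simp) (by simp) (by simp)
  haveI hflat : Flat c.left := by
    show Flat (Spec.map (CommRingCat.ofHom (algebraMap k kbar)))
    rw [Flat.SpecMap_iff]
    exact (RingHom.flat_algebraMap_iff).2 inferInstance
  have hsurj : ∀ z : ↥(Over.mk (𝟙 (Spec (CommRingCat.of k)))).left, ∃ j : Fin 1,
      z ∈ Set.range (c.left) := by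
    intro z
    refine ⟨0, ?_⟩
    have hs : Function.Surjective (Spec.map (CommRingCat.ofHom (algebraMap k kbar))) := by
      intro y
      obtain ⟨x⟩ : Nonempty ↥(Spec (CommRingCat.of kbar)) := inferInstance
      exact ⟨x, Subsingleton.elim _ _⟩
    exact hs z
  obtain ⟨T₀, p, e', hT₀, -⟩ := Groth.Agent.Lib.Helper16.AffDesc.exists_iso_of_std_cover
    (Z := Over.mk (𝟙 (Spec (CommRingCat.of k)))) (by show IsAffine (Spec (CommRingCat.of k)); infer_instance)
    X.property (hterm.from X.obj) (m := 1)
    (fun _ => Over.mk (Spec.map (CommRingCat.ofHom (algebraMap k kbar)))) (fun _ => T) (fun _ => c)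
    (fun _ => by show IsAffine (Spec (CommRingCat.of kbar)); infer_instance) (fun _ => hflat) hsurj
    (fun _ => hT) (fun _ => π) (fun _ => e.inv ≫ Limits.prod.fst) (fun _ => hsq)
  exact ⟨T₀, hT₀, ⟨e'⟩⟩

end Groth.Agent.S16834
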