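import Groth.Statements.S16836
import Mathlib

set_option autoImplicit false
universe u v
open scoped Classical
open AbVar

namespace Groth.Agent.S16836


section Aux

open Polynomial UniqueFactorizationMonoid

variable {F : Type*} [Field F]

/-- pairing of multisets of polynomials -/
noncomputable def R (M N : Multiset F[X]) : ℕ := (M.map fun P => N.count P * P.natDegree).sum

theorem R_cons_left (P : F[X]) (M N : Multiset F[X]) :
    R (P ::ₘ M) N = N.count P * P.natDegree + R M N := by
  simp [R]

theorem R_zero_left (N : Multiset F[X]) : R (0 : Multiset F[X]) N = 0 := by simp [R]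

theorem R_add_left (M₁ M₂ N : Multiset F[X]) : R (M₁ + M₂) N = R M₁ N + R M₂ N := by
  simp [R, Multiset.map_add, Multiset.sum_add]

theorem R_zero_right (M : Multiset F[X]) : R M (0 : Multiset F[X]) = 0 := by
  induction M using Multiset.induction_on with
  | empty => exact R_zero_left _
  | cons P M ih => rw [R_cons_left, ih]; simp

theorem R_add_right (M N₁ N₂ : Multiset F[X]) : R M (N₁ + N₂) = R M N₁ + R M N₂ := by
  induction M using Multiset.induction_on with
  | empty => simp [R_zero_left]
  | cons P M ih =>
    rw [R_cons_left, R_cons_left, R_cons_left, ih, Multiset.count_add, add_mul]; ring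

theorem R_eq_sum (M N : Multiset F[X]) :
    R M N = ∑ P ∈ M.toFinset, M.count P * N.count P * P.natDegree := by
  rw [R, Finset.sum_multiset_map_count]
  refine Finset.sum_congr rfl fun P _ => ?_
  rw [smul_eq_mul, mul_assoc]

theorem R_bind_left {ι : Type*} (S : Multiset ι) (g : ι → Multiset F[X]) (N : Multiset F[X]) :
    R (S.bind g) N = (S.map fun i => R (g i) N).sum := by
  induction S using Multiset.induction_on with
  | empty => simp [R_zero_left]
  | cons i S ih => rw [Multiset.cons_bind, R_add_left, ih, Multiset.map_cons, Multiset.sum_cons]

theorem R_bind_right {ι : Type*} (M : Multiset F[X]) (S : Multiset ι) (g : ι → Multiset F[X]) :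
    R M (S.bind g) = (S.map fun i => R M (g i)).sum := by
  induction S using Multiset.induction_on with
  | empty => simp [R_zero_right]
  | cons i S ih => rw [Multiset.cons_bind, R_add_right, ih, Multiset.map_cons, Multiset.sum_cons]

theorem sum_ite (M : Multiset F[X]) (P : F[X]) (d : ℕ) :
    (M.map fun Q => if P = Q then d else 0).sum = M.count P * d := by
  induction M using Multiset.induction_on with
  | empty => simp
  | cons Q M ih =>
    rw [Multiset.map_cons, Multiset.sum_cons, ih, Multiset.count_cons]
    by_cases h : P = Q
    · rw [if_pos h, if_pos h]; ring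
    · rw [if_neg h, if_neg h]; ring

variable {K : Type*} {L : Type*} [Field K] [Field L] [Algebra K L]

theorem nf_map_prod (M : Multiset K[X]) (hM : ∀ P ∈ M, P ≠ 0) :
    normalizedFactors ((M.prod).map (algebraMap K L)) =
      M.bind fun P => normalizedFactors (P.map (algebraMap K L)) := by
  induction M using Multiset.induction_on with
  | empty => simp
  | cons P M ih =>
    have hP : P ≠ 0 := hM P (Multiset.mem_cons_self P M)
    have hM' : ∀ Q ∈ M, Q ≠ 0 := fun Q hQ => hM Q (Multiset.mem_cons_of_mem hQ)
    have hprod : M.prod ≠ 0 := Multiset.prod_ne_zero (fun h => hM' 0 h rfl)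
    rw [Multiset.prod_cons, Polynomial.map_mul, normalizedFactors_mul (Polynomial.map_ne_zero hP)
      (Polynomial.map_ne_zero hprod), ih hM', Multiset.cons_bind]

theorem nf_map (f : K[X]) (hf : f ≠ 0) :
    normalizedFactors (f.map (algebraMap K L)) =
      (normalizedFactors f).bind fun P => normalizedFactors (P.map (algebraMap K L)) := by
  rw [← nf_map_prod _ (fun P hP => (irreducible_of_normalized_factor P hP).ne_zero)]
  have hassoc : Associated ((normalizedFactors f).prod) f := prod_normalizedFactors hf
  have h2 := hassoc.map (Polynomial.mapRingHom (algebraMap K L))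
  exact (Associated.normalizedFactors_eq h2).symm

theorem natDegree_eq_of_assoc {p q : F[X]} (h : Associated p q) : p.natDegree = q.natDegree := by
  have := Polynomial.degree_eq_degree_of_associated h
  unfold Polynomial.natDegree
  rw [this]

theorem R_self [PerfectField K] (P : K[X]) (hP : Irreducible P) :
    R (normalizedFactors (P.map (algebraMap K L))) (normalizedFactors (P.map (algebraMap K L))) =
      P.natDegree := by
  have hsep : (P.map (algebraMap K L)).Separable :=
    (PerfectField.separable_of_irreducible hP).map
  have hne : P.map (algebraMap K L) ≠ 0 := Polynomial.map_ne_zero hP.ne_zero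
  have hnodup : (normalizedFactors (P.map (algebraMap K L))).Nodup :=
    (squarefree_iff_nodup_normalizedFactors hne).mp hsep.squarefree
  have h1 : R (normalizedFactors (P.map (algebraMap K L)))
      (normalizedFactors (P.map (algebraMap K L))) =
      ((normalizedFactors (P.map (algebraMap K L))).map natDegree).sum := by
    unfold R
    refine congrArg Multiset.sum (Multiset.map_congr rfl fun P' hP' => ?_)
    rw [Multiset.count_eq_one_of_mem hnodup hP', one_mul]
  rw [h1, ← Polynomial.natDegree_multiset_prod _ (zero_notMem_normalizedFactors _),
    natDegree_eq_of_assoc (prod_normalizedFactors hne), Polynomial.natDegree_map]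

theorem R_ne (P Q : K[X]) (hP : Irreducible P) (hQ : Irreducible Q)
    (hnP : normalize P = P) (hnQ : normalize Q = Q) (hPQ : P ≠ Q) :
    R (normalizedFactors (P.map (algebraMap K L))) (normalizedFactors (Q.map (algebraMap K L))) =
      0 := by
  unfold R
  refine Multiset.sum_eq_zero fun x hx => ?_
  obtain ⟨P', hP', rfl⟩ := Multiset.mem_map.mp hx
  have hcount : (normalizedFactors (Q.map (algebraMap K L))).count P' = 0 := by
    refine Multiset.count_eq_zero.mpr fun hQ' => ?_
    have hcop : IsCoprime P Q := hP.coprime_iff_not_dvd.mpr fun hdvd =>
      hPQ ((hP.associated_of_dvd hQ hdvd).eq_of_normalized hnP hnQ)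
    have hcop' : IsCoprime (P.map (algebraMap K L)) (Q.map (algebraMap K L)) :=
      hcop.map (Polynomial.mapRingHom (algebraMap K L))
    have hunit : IsUnit P' :=
      hcop'.isUnit_of_dvd' (dvd_of_mem_normalizedFactors hP') (dvd_of_mem_normalizedFactors hQ')
    exact (irreducible_of_normalized_factor P' hP').not_isUnit hunit
  rw [hcount, zero_mul]

end Aux

open Polynomial UniqueFactorizationMonoid in
/-- Let K ⊆ L be a field extension and f₁, f₂ non-zero polynomials in K[t]. For a field F and
polynomials g₁, g₂ over F put r_F(g₁, g₂) = Σ_P mult_P(g₁) · mult_P(g₂) · deg P, the sum running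
over the monic irreducible polynomials P in F[t] (mult_P the multiplicity of P as an irreducible
factor). Assume K is perfect. Then r_K(f₁, f₂) = r_L(f₁, f₂): the number does not depend on the
field over which the factorisations are taken. (Perfectness of K cannot be dropped: for K = F_p(s),
L = K(s^{1/p}) and f₁ = f₂ = t^p − s the number is p over K and p² over L, since the irreducible t^p
− s becomes a p-th power over L; the published statement has no restriction on K, and its proof
requires the relevant K[t]-modules to remain semisimple after base change, which holds when every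
irreducible factor stays squarefree over L, in particular for K perfect.) -/
theorem result (K : Type u) (L : Type v) [Field K] [PerfectField K] [Field L] [Algebra K L]
    (f₁ f₂ : K[X]) (h₁ : f₁ ≠ 0) (h₂ : f₂ ≠ 0) :
    ∑ P ∈ (normalizedFactors (f₁.map (algebraMap K L))).toFinset,
        (normalizedFactors (f₁.map (algebraMap K L))).count P *
          (normalizedFactors (f₂.map (algebraMap K L))).count P * P.natDegree =
      ∑ P ∈ (normalizedFactors f₁).toFinset,
        (normalizedFactors f₁).count P * (normalizedFactors f₂).count P * P.natDegree := by
  rw [← R_eq_sum, ← R_eq_sum, nf_map f₁ h₁, nf_map f₂ h₂]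
  have key : ∀ P ∈ normalizedFactors f₁,
      R (normalizedFactors (P.map (algebraMap K L)))
        ((normalizedFactors f₂).bind fun Q => normalizedFactors (Q.map (algebraMap K L))) =
        (normalizedFactors f₂).count P * P.natDegree := by
    intro P hP
    rw [R_bind_right, ← sum_ite]
    refine congrArg Multiset.sum (Multiset.map_congr rfl fun Q hQ => ?_)
    by_cases h : P = Q
    · subst h
      rw [if_pos rfl]
      exact R_self P (irreducible_of_normalized_factor P hP)
    · rw [if_neg h]
      exact R_ne P Q (irreducible_of_normalized_factor P hP)
        (irreducible_of_normalized_factor Q hQ) (normalize_normalized_factor P hP)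
        (normalize_normalized_factor Q hQ) h
  rw [R_bind_left]
  conv_rhs => rw [R]
  exact congrArg Multiset.sum (Multiset.map_congr rfl key)

end Groth.Agent.S16836
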