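import Groth.Statements.S1684
import Groth.Agent.S1570
import Groth.Agent.Lib.Helper3.AffinePoints
import Mathlib.RingTheory.Ideal.UFD

set_option autoImplicit false
universe u
open CategoryTheory CategoryTheory.Limits AlgebraicGeometry TopologicalSpace
open SDiv

namespace Groth.Agent.S1684
open Groth.Agent.Lib.Helper3

/-- Let X be a locally Noetherian scheme and 𝓘 a quasi-coherent ideal sheaf whose closed subscheme D is
integral, of codimension 1 in X (the local ring of X at the generic point of D has dimension 1), and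
such that the local ring of X at every point of D is a unique factorisation domain. Then 𝓘 is the
ideal sheaf of an effective Cartier divisor. -/
theorem result (X : Scheme.{u}) [IsLocallyNoetherian X] (𝓘 : X.IdealSheafData)
    [IsIntegral 𝓘.subscheme]
    (hcodim : ringKrullDim (X.presheaf.stalk (𝓘.subschemeι (genericPoint ↥𝓘.subscheme))) = 1)
    (hufd : ∀ x : ↥X, x ∈ 𝓘.support → IsDomain (X.presheaf.stalk x) ∧ UniqueFactorizationMonoid (X.presheaf.stalk x)) :
    BlowUp.IsEffCartierIdeal 𝓘 := by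
  apply Groth.Agent.S1570.result X 𝓘
  intro x hx U hxU
  have hU := U.2
  set η := genericPoint ↥𝓘.subscheme with hη
  set ξ := 𝓘.subschemeι η with hξ
  have hgen : IsGenericPoint η ⊤ := genericPoint_spec _
  -- ι⁻¹ U is nonempty
  obtain ⟨d, hd⟩ : ∃ d, 𝓘.subschemeι d = x := by
    have : x ∈ Set.range 𝓘.subschemeι := by rw [𝓘.range_subschemeι]; exact hx
    exact this
  have hdV : d ∈ 𝓘.subschemeι ⁻¹ᵁ U.1 := by
    change 𝓘.subschemeι d ∈ U.1
    rw [hd]; exact hxU
  have hne : Nonempty ↥(𝓘.subschemeι ⁻¹ᵁ U.1) := ⟨⟨d, hdV⟩⟩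
  have hdom : IsDomain Γ(𝓘.subscheme, 𝓘.subschemeι ⁻¹ᵁ U.1) :=
    @IsIntegral.component_integral _ _ (𝓘.subschemeι ⁻¹ᵁ U.1) hne
  -- I(U) is prime
  have hprime : (𝓘.ideal U).IsPrime := by
    rw [← 𝓘.ker_subschemeι_app U]
    exact RingHom.ker_isPrime _
  -- the generic point lies in U
  have hηV : η ∈ 𝓘.subschemeι ⁻¹ᵁ U.1 := by
    have := hgen.mem_open_set_iff (U := (𝓘.subschemeι ⁻¹ᵁ U.1 : Set _)) (𝓘.subschemeι ⁻¹ᵁ U.1).2
    exact this.mpr ⟨d, trivial, hdV⟩
  have hξU : ξ ∈ U.1 := hηV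
  have hξsupp : ξ ∈ 𝓘.support := by
    rw [← SetLike.mem_coe, ← 𝓘.range_subschemeι]; exact ⟨η, rfl⟩
  -- every point of the support is a specialization of ξ
  have hspec : ∀ z ∈ 𝓘.support, ξ ⤳ z := by
    intro z hz
    obtain ⟨e, rfl⟩ : z ∈ Set.range 𝓘.subschemeι := by rw [𝓘.range_subschemeι]; exact hz
    have : η ⤳ e := hgen.specializes (Set.mem_univ e)
    exact this.map 𝓘.subschemeι.continuous
  -- p_ξ = I(U)
  have hpξ : (hU.primeIdealOf ⟨ξ, hξU⟩).asIdeal = 𝓘.ideal U := by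
    apply le_antisymm
    · let q : PrimeSpectrum Γ(X, U.1) := ⟨𝓘.ideal U, hprime⟩
      set z := hU.fromSpec q with hz
      have hzU : z ∈ U.1 := by
        have : z ∈ Set.range hU.fromSpec := ⟨q, rfl⟩
        rw [hU.range_fromSpec] at this
        exact this
      have hzq : hU.primeIdealOf ⟨z, hzU⟩ = q := by
        apply hU.fromSpec.isOpenEmbedding.injective
        rw [hU.fromSpec_primeIdealOf ⟨z, hzU⟩]
      have hzsupp : z ∈ 𝓘.support := by
        rw [mem_support_iff_le_primeIdealOf 𝓘 U z hzU, hzq]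
      have h1 := (primeIdealOf_le_iff_specializes hU ξ z hξU hzU).mpr (hspec z hzsupp)
      rw [hzq] at h1
      exact h1
    · exact (mem_support_iff_le_primeIdealOf 𝓘 U ξ hξU).mp hξsupp
  -- height of I(U) is 1
  have hht : (𝓘.ideal U).height = 1 := by
    let _ : Algebra Γ(X, U.1) (X.presheaf.stalk ξ) :=
      TopCat.Presheaf.algebra_section_stalk X.presheaf (U := U.1) ⟨ξ, hξU⟩
    have hloc : IsLocalization.AtPrime (X.presheaf.stalk ξ) (hU.primeIdealOf ⟨ξ, hξU⟩).asIdeal :=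
      hU.isLocalization_stalk ⟨ξ, hξU⟩
    have h1 := IsLocalization.AtPrime.ringKrullDim_eq_height
      (hU.primeIdealOf ⟨ξ, hξU⟩).asIdeal (X.presheaf.stalk ξ)
    rw [hcodim, hpξ] at h1
    exact_mod_cast h1.symm
  -- now at x
  obtain ⟨hdomx, hufdx⟩ := hufd x hx
  let _ : Algebra Γ(X, U.1) (X.presheaf.stalk x) :=
    TopCat.Presheaf.algebra_section_stalk X.presheaf (U := U.1) ⟨x, hxU⟩
  have hlocx : IsLocalization.AtPrime (X.presheaf.stalk x) (hU.primeIdealOf ⟨x, hxU⟩).asIdeal :=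
    hU.isLocalization_stalk ⟨x, hxU⟩
  have hIle : 𝓘.ideal U ≤ (hU.primeIdealOf ⟨x, hxU⟩).asIdeal :=
    (mem_support_iff_le_primeIdealOf 𝓘 U x hxU).mp hx
  have hdisj : Disjoint ((hU.primeIdealOf ⟨x, hxU⟩).asIdeal.primeCompl : Set Γ(X, U.1))
      (𝓘.ideal U : Set Γ(X, U.1)) := by
    rw [Set.disjoint_left]
    intro a ha haI
    exact ha (hIle haI)
  change ∃ g : X.presheaf.stalk x, g ∈ nonZeroDivisors (X.presheaf.stalk x) ∧
    (𝓘.ideal U).map (algebraMap Γ(X, U.1) (X.presheaf.stalk x)) = Ideal.span {g}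
  have hP : ((𝓘.ideal U).map (algebraMap Γ(X, U.1) (X.presheaf.stalk x))).IsPrime :=
    IsLocalization.isPrime_of_isPrime_disjoint _ _ _ hprime hdisj
  have hPht : ((𝓘.ideal U).map (algebraMap Γ(X, U.1) (X.presheaf.stalk x))).height = 1 := by
    rw [IsLocalization.height_map_of_disjoint _ _ hdisj, hht]
  obtain ⟨g, hg⟩ := UniqueFactorizationMonoid.isPrincipal_of_height_eq_one hPht
  refine ⟨g, ?_, hg⟩
  apply mem_nonZeroDivisors_of_ne_zero
  rintro rfl
  have hne := Ideal.ne_bot_of_height_eq_one hPht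
  apply hne
  rw [hg]
  simp

end Groth.Agent.S1684
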