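import Groth.Statements.S16854
import Mathlib
import Groth.Agent.Lib.Helper25.IsocDM1

set_option autoImplicit false
universe u v
open CAlg

namespace Groth.Agent.S16854

/-- Let k be an algebraically closed field of characteristic p > 0, ν ≥ 1, W = W(k) the ring of
p-typical Witt vectors with its Frobenius endomorphism σ, M a finitely generated free W-module and F
: M → M a bijective additive map that is σ^ν-semilinear, F(a·m) = σ^ν(a)·F(m). Then M admits a
W-basis consisting of F-fixed elements; in particular M is spanned over W by M₀ = {m | F(m) = m}, a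
module over the Witt vectors of F_{p^ν}. (The copy allows ν < 0 as well, reducing to F⁻¹; stated
here for ν ≥ 1.) -/
theorem result (k : Type u) [Field k] [IsAlgClosed k]
    (p : ℕ) [Fact p.Prime] [CharP k p] (ν : ℕ) (hν : 1 ≤ ν)
    (M : Type v) [AddCommGroup M] [Module (WittVector p k) M]
    [Module.Finite (WittVector p k) M] [Module.Free (WittVector p k) M]
    (F : M →+ M)
    (hF : ∀ (a : WittVector p k) (m : M), F (a • m) = ((⇑(WittVector.frobenius : WittVector p k →+* WittVector p k))^[ν] a) • F m)
    (hbij : Function.Bijective F) :
    ∃ (ι : Type v) (b : Module.Basis ι (WittVector p k) M), ∀ i, F (b i) = b i := by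
  classical
  haveI : PerfectRing k p := inferInstance
  haveI : Module.FinitePresentation (WittVector p k) M :=
    Module.finitePresentation_of_projective _ _
  have hp2 : 2 ≤ p := (Fact.out : p.Prime).two_le
  have hq : 2 ≤ p ^ ν := le_trans hp2 (le_self_pow₀ (by omega) (by omega))
  set e := Module.finBasis (WittVector p k) M with he
  let τW : WittVector p k →+* WittVector p k := (WittVector.frobenius)^ν
  let τk : k →+* k := (frobenius k p)^ν
  have hτW : ∀ a, τW a = (⇑(WittVector.frobenius : WittVector p k →+* WittVector p k))^[ν] a := by
    intro a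
    show ((WittVector.frobenius : WittVector p k →+* WittVector p k)^ν) a = _
    rw [RingHom.coe_pow]
  have hτk : ∀ c, τk c = c ^ (p ^ ν) := by
    intro c
    show ((frobenius k p)^ν) c = _
    rw [RingHom.coe_pow, iterate_frobenius]
  let Ψ : M →ₛₗ[τW] M :=
    { toFun := F
      map_add' := F.map_add
      map_smul' := fun a m => by rw [hτW]; exact hF a m }
  have hcoeff : ∀ w : WittVector p k, (τW w).coeff 0 = τk (w.coeff 0) := by
    intro w
    rw [hτW, hτk, WittVector.iterate_frobenius_coeff]
  have hspan := Groth.Agent.Lib.Helper25.Isoc.span_fixed_eq_top_W e hq τk hτk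
    (Or.inl fun _ => rfl) hcoeff Ψ hbij
  obtain ⟨κ, a, b, hb⟩ := Module.exists_basis_of_span_of_flat (R := WittVector p k) (M := M)
    (fun x : {x : M // F x = x} => x.1) (by
      have : Set.range (fun x : {x : M // F x = x} => x.1) = {x | Ψ x = x} := by
        ext x
        constructor
        · rintro ⟨y, rfl⟩
          exact y.2
        · intro hx
          exact ⟨⟨x, hx⟩, rfl⟩
      rw [this]
      exact hspan)
  exact ⟨κ, b, fun i => by rw [hb]; exact (a i).2⟩

end Groth.Agent.S16854
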