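import Groth.Statements.S16865
import Mathlib
import Groth.Agent.Lib.Helper10.Gerbe
import Groth.Agent.Lib.Helper10.Fib5
import Groth.Agent.Lib.Helper16.AlgSt.FppfLift
set_option backward.isDefEq.respectTransparency false
set_option backward.isDefEq.respectTransparency.types false

set_option autoImplicit false
universe u
open CategoryTheory AlgebraicGeometry
open Gerb

namespace Groth.Agent.S16865

open Groth.Agent.Lib.Helper10.Fib in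
theorem locSurjObj_of_fppf {S : Scheme.{u}} {𝒴 𝒴' : AlgSt.Cat S}
    (h𝒴 : AlgSt.IsAlgStack Scheme.fppfPrecoverage 𝒴)
    (h𝒴' : AlgSt.IsAlgStack Scheme.fppfPrecoverage 𝒴') (g : 𝒴' ⥤ᵇ 𝒴)
    (hg₁ : AlgSt.IsSurjective g) (hg₂ : AlgSt.LocQ (AlgSp.LocP @Flat) g)
    (hg₃ : AlgSt.LocQ (AlgSp.LocP @LocallyOfFinitePresentation) g) :
    Gerb.LocSurjObj (QuotSh.J Scheme.fppfPrecoverage S) g := by
  intro y
  obtain ⟨G, -, ⟨i⟩⟩ := yoneda_essSurj (𝒴.p.obj y)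
    (Functor.Fiber.mk (rfl : 𝒴.p.obj y = 𝒴.p.obj y))
    (fun V k => IsFibGrpd.exists_lift' h𝒴.isStack.1 rfl k)
  have hi : 𝒴.p.IsHomLift (𝟙 (𝒴.p.obj y)) i.hom.1 := i.hom.2
  obtain ⟨R, hR, H⟩ := Groth.Agent.Lib.Helper16.AlgStDC.local_lift_of_fppf h𝒴 h𝒴' g hg₂ hg₃ hg₁
    (𝒴.p.obj y) G
  refine ⟨R, hR, fun V k hk => ?_⟩
  obtain ⟨zV, ⟨φ⟩⟩ := H k hk
  obtain ⟨c, hcdef⟩ : ∃ c : g.obj (zV.obj (Over.mk (𝟙 V))) ⟶
      G.obj ((AlgSt.overMap k).obj (Over.mk (𝟙 V))),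
      c = φ.hom.toNatTrans.app (Over.mk (𝟙 V)) := ⟨_, rfl⟩
  have hc : 𝒴.p.IsHomLift (𝟙 V) c := by
    rw [hcdef]; exact φ.hom.isHomLift' (Over.mk (𝟙 V))
  have hT := isHomLift_toTerminal (𝒴.p.obj y) G ((AlgSt.overMap k).obj (Over.mk (𝟙 V)))
  refine ⟨zV.obj (Over.mk (𝟙 V)),
    c ≫ G.map (toTerminal (𝒴.p.obj y) ((AlgSt.overMap k).obj (Over.mk (𝟙 V)))) ≫ i.hom.1, ?_⟩
  have h0 : 𝒴.p.IsHomLift (𝟙 V ≫ homU (𝒴.p.obj y) ((AlgSt.overMap k).obj (Over.mk (𝟙 V))) ≫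
      𝟙 (𝒴.p.obj y))
      (c ≫ G.map (toTerminal (𝒴.p.obj y) ((AlgSt.overMap k).obj (Over.mk (𝟙 V)))) ≫ i.hom.1) :=
    inferInstance
  have e : 𝟙 V ≫ homU (𝒴.p.obj y) ((AlgSt.overMap k).obj (Over.mk (𝟙 V))) ≫
      𝟙 (𝒴.p.obj y) = k := by
    simp [homU, AlgSt.overMap]
  rw [e] at h0
  exact h0

/-- Being a gerbe descends along a surjective, flat, locally finitely presented base change: if g : 𝒴' →
𝒴 is such a morphism of algebraic stacks and 𝒴' ×_𝒴 𝒳 is a gerbe over 𝒴' along the first projection,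
then 𝒳 is a gerbe over 𝒴 along f. -/
theorem result
    (S : Scheme.{u}) (𝒳 𝒴 𝒴' : AlgSt.Cat S)
    (h𝒳 : AlgSt.IsAlgStack Scheme.fppfPrecoverage 𝒳) (h𝒴 : AlgSt.IsAlgStack Scheme.fppfPrecoverage 𝒴)
    (h𝒴' : AlgSt.IsAlgStack Scheme.fppfPrecoverage 𝒴')
    (f : 𝒳 ⥤ᵇ 𝒴) (g : 𝒴' ⥤ᵇ 𝒴)
    (hg₁ : AlgSt.IsSurjective g) (hg₂ : AlgSt.LocQ (AlgSp.LocP @Flat) g)
    (hg₃ : AlgSt.LocQ (AlgSp.LocP @LocallyOfFinitePresentation) g)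
    (h : Gerb.IsGerbeOver (QuotSh.J Scheme.fppfPrecoverage S) (FibCat.fpFst g f)) :
    Gerb.IsGerbeOver (QuotSh.J Scheme.fppfPrecoverage S) f := by
  exact Groth.Agent.Lib.Helper10.Gerbe.isGerbeOver_of_fpFst (QuotSh.J Scheme.fppfPrecoverage S) g f
    h𝒴'.isStack.1 h𝒳.isStack.1 h𝒴.isStack.1
    (locSurjObj_of_fppf h𝒴 h𝒴' g hg₁ hg₂ hg₃) h

end Groth.Agent.S16865
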