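import Groth.Statements.S16869
import Mathlib
import Groth.Agent.Lib.Helper10.GerbePts
import Groth.Agent.Lib.Helper28.AlgSt.FpStack

set_option autoImplicit false
universe u
open CategoryTheory AlgebraicGeometry
open Gerb

namespace Groth.Agent.S16869

/-- A morphism of algebraic stacks making its source a gerbe over its target is a universal
homeomorphism. -/
theorem result
    (S : Scheme.{u}) (𝒳 𝒴 : AlgSt.Cat S)
    (h𝒳 : AlgSt.IsAlgStack Scheme.fppfPrecoverage 𝒳) (h𝒴 : AlgSt.IsAlgStack Scheme.fppfPrecoverage 𝒴)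
    (f : 𝒳 ⥤ᵇ 𝒴) (hf : Gerb.IsGerbeOver (QuotSh.J Scheme.fppfPrecoverage S) f) :
    AlgSt.IsUnivHomeo Scheme.fppfPrecoverage f := by
  intro 𝒵 h𝒵 g
  have hfp : AlgSt.IsAlgStack Scheme.fppfPrecoverage (FibCat.fp g f) :=
    Groth.Agent.Lib.Helper28.AlgSt.FpStack.isAlgStack_fp h𝒴.isStack h𝒴.diag h𝒵 h𝒳 g f
  have hg : Gerb.IsGerbeOver (QuotSh.J Scheme.fppfPrecoverage S) (FibCat.fpFst g f) :=
    Groth.Agent.Lib.Helper10.Gerbe.isGerbeOver_fpFst _ g f h𝒵.isStack.1 h𝒳.isStack.1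
      h𝒴.isStack.1 hf
  exact H10PT.isHomeomorph_points_of_isGerbeOver hfp h𝒵 _ hg

end Groth.Agent.S16869
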