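import Groth.Statements.S1690
import Groth.Agent.Lib.Helper26.RefShF


set_option autoImplicit false
universe u
open CategoryTheory CategoryTheory.Limits AlgebraicGeometry TopologicalSpace
open SDiv

namespace Groth.Agent.S1690

/-- (1) if and only if (3): let X be an integral locally Noetherian normal scheme and F a coherent
module. Then F is reflexive (stalkwise) if and only if there is an open subscheme j : U ⟶ X such
that every point outside U has local ring of dimension at least 2, the restriction of F to U is
finite locally free, and the canonical map F ⟶ j_* j^* F is an isomorphism. -/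
theorem result (X : Scheme.{u}) [IsIntegral X] [IsLocallyNoetherian X] (hX : Pi1.IsNormalScheme X)
    (F : X.Modules) (hF : Coh.IsCoh F) :
    (∀ x : ↥X, Module.IsReflexive (X.presheaf.stalk x) (F.presheaf.stalk x)) ↔
      ∃ U : X.Opens, (∀ x : ↥X, x ∉ U → (2 : WithBot ℕ∞) ≤ ringKrullDim (X.presheaf.stalk x)) ∧
        FlatMod.IsFinLocFree (F.restrict U.ι) ∧ IsIso ((Scheme.Modules.restrictAdjunction U.ι).unit.app F) := by
  haveI : F.IsQuasicoherent := hF.1
  haveI : F.IsFiniteType := hF.2
  haveI : SheafOfModules.IsFinitePresentation (R := X.ringCatSheaf) F :=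
    Groth.Agent.Lib.Helper26.RefSh.isFP_of_isCoh F
  have hfin : ∀ x : X, Module.Finite (X.presheaf.stalk x) (F.presheaf.stalk x) :=
    fun x => Groth.Agent.Lib.Helper17.CohStalk.finite_stalk F x
  have hic : ∀ x : X, IsIntegrallyClosed (X.presheaf.stalk x) := fun x => (hX x).2
  have hdepO : ∀ x : X, (2 : WithBot ℕ∞) ≤ ringKrullDim (X.presheaf.stalk x) →
      (2 : ℕ∞) ≤ LocCoh.depth (X.presheaf.stalk x) (X.presheaf.stalk x) := by
    intro x hx
    haveI := hic x
    exact Groth.Agent.Lib.Helper26.RefSh.two_le_depth_of_normal _ hx
  constructor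
  · intro h
    refine ⟨Groth.Agent.Lib.Helper26.RefSh.freeOpen F, ?_,
      Groth.Agent.Lib.Helper26.RefSh.isFinLocFree_restrict_freeOpen F, ?_⟩
    · intro x hx
      by_contra hlt
      apply hx
      haveI := hic x
      haveI := hfin x
      haveI := h x
      have hfree : Module.Free (X.presheaf.stalk x) (F.presheaf.stalk x) :=
        Groth.Agent.Lib.Helper26.RefSh.free_of_torsionFree_normal_dim_le_one _ hlt _
      exact Groth.Agent.Lib.Helper26.RefSh.exists_isBasis_of_free_stalk F x hfree
    · have hcod : ∀ x : X, x ∉ Groth.Agent.Lib.Helper26.RefSh.freeOpen F →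
          (2 : WithBot ℕ∞) ≤ ringKrullDim (X.presheaf.stalk x) := by
        intro x hx
        by_contra hlt
        apply hx
        haveI := hic x
        haveI := hfin x
        haveI := h x
        have hfree : Module.Free (X.presheaf.stalk x) (F.presheaf.stalk x) :=
          Groth.Agent.Lib.Helper26.RefSh.free_of_torsionFree_normal_dim_le_one _ hlt _
        exact Groth.Agent.Lib.Helper26.RefSh.exists_isBasis_of_free_stalk F x hfree
      apply Groth.Agent.Lib.Helper17.Hartogs.isIso_unit_of_depth_two F
      intro x hx
      haveI := h x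
      exact Groth.Agent.Lib.Helper26.RefSh.two_le_depth_of_isReflexive _ _ (hdepO x (hcod x hx))
  · rintro ⟨U, hcod, hlf, hiso⟩
    have hD := Groth.Agent.Lib.Helper26.RefSh.isCoh_ddual hF
    haveI : (RefHull.ddual F).IsQuasicoherent := hD.1
    haveI : (RefHull.ddual F).IsFiniteType := hD.2
    have hrefl : RefHull.IsReflexive F := by
      apply Groth.Agent.Lib.Helper26.RefSh.isIso_bidualMap_of_open U
      · intro x hxU
        rw [Groth.Agent.Lib.Helper26.RefSh.stalkMap_bidual_bijective_iff hF x]
        obtain ⟨W, n, e, hxW, hWU, he⟩ :=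
          (Groth.Agent.Lib.Helper3.LocFreeCrit.isFinLocFree_restrict_iff F U).mp hlf x hxU
        haveI := hfin x
        haveI : Module.Free (X.presheaf.stalk x) (F.presheaf.stalk x) :=
          (Groth.Agent.Lib.Helper17.LocConstRank.free_and_fibreRank_of_isBasis F he x hxW).1
        change Module.IsReflexive (X.presheaf.stalk x) (F.presheaf.stalk x)
        infer_instance
      · intro U'
        haveI : IsIso (Groth.Agent.Lib.Helper17.Hartogs.unit F U) := hiso
        exact (Groth.Agent.Lib.Helper17.Hartogs.bijective_unit_app_iff F U U').1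
          (Groth.Agent.Lib.Helper17.AffIso.bijective_app_of_isIso
            (Groth.Agent.Lib.Helper17.Hartogs.unit F U) U')
      · intro U'
        apply Groth.Agent.Lib.Helper17.Hartogs.bijective_res_of_depth_two (RefHull.ddual F) U
        intro x hx
        haveI : Module.IsReflexive (X.presheaf.stalk x) ((RefHull.ddual F).presheaf.stalk x) :=
          Groth.Agent.Lib.Helper26.RefSh.isReflexiveAt_dual
            (Groth.Agent.Lib.Helper26.RefSh.isCoh_dual hF) x
        exact Groth.Agent.Lib.Helper26.RefSh.two_le_depth_of_isReflexive _ _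
          (hdepO x (hcod x hx))
    exact (Groth.Agent.Lib.Helper26.RefSh.isReflexive_iff_forall hF).mp hrefl

end Groth.Agent.S1690
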