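import Groth.Statements.S16909
import Groth.Agent.Lib.Helper3.IdealMod

set_option autoImplicit false
universe u
open CategoryTheory CategoryTheory.Limits AlgebraicGeometry
open ResProp

namespace Groth.Agent.S16909

open Groth.Agent.Lib.Helper3 Groth.Agent.Lib.Helper3.IdealMod in

/-- Let `X` be a quasi-compact and quasi-separated scheme on which every quasi-coherent module is
globally generated (a quotient of a free module on some index type, i.e. the structure sheaf is a
generating family). Then `X` is quasi-affine. No separatedness hypothesis is made; it follows. (The
published statement is for an algebraic stack over an algebraic space with affine stabilizer groups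
at closed points and concludes that it is representable by a quasi-affine morphism; that general
case rests on results outside this text, and this row is the final step of its proof, the case of a
scheme.) -/
theorem result (X : Scheme.{u}) [CompactSpace X]
    [QuasiSeparatedSpace X] (h : ∀ M : X.Modules, Coh.IsQCoh M → Curv2.IsGloballyGenerated M) :
    X.IsQuasiAffine := by
  apply Scheme.IsQuasiAffine.of_forall_exists_mem_basicOpen
  intro x
  obtain ⟨U, hU, hxU⟩ := QCProps.exists_affine_nbhd x
  let Z : TopologicalSpace.Closeds X := ⟨(U : Set X)ᶜ, U.isOpen.isClosed_compl⟩
  let I := Scheme.IdealSheafData.vanishingIdeal Z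
  have hsupp : (I.support : Set X) = (U : Set X)ᶜ :=
    Scheme.IdealSheafData.coe_support_vanishingIdeal Z
  obtain ⟨e, he⟩ := exists_val_eq_one I (U := U) (by rw [hsupp]; exact disjoint_compl_right)
  obtain ⟨σ, hσ⟩ := exists_global_of_isGloballyGenerated (ClSub.idealModι I)
    (h _ (isQuasicoherent_idealMod I)) e he x hxU
  refine ⟨val I σ, ?_, hσ⟩
  apply isAffineOpen_basicOpen_of_disjoint hU
  rw [← hsupp]
  exact disjoint_basicOpen_val I σ

end Groth.Agent.S16909
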