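import Groth.Statements.S16919
import Mathlib

set_option autoImplicit false
universe u
open TensorProduct
open CAlg

namespace Groth.Agent.S16919

/-- Let k₀ → k be an extension of fields with k algebraically closed and of infinite transcendence
degree over k₀, R₀ a finitely generated k₀-algebra whose base change R = k ⊗ R₀ is an integral
domain (so Spec R is an integral affine k-scheme of finite type with the model Spec R₀ over k₀), and
P a k-point of Spec R, i.e. a k-algebra homomorphism ev : R → k, lying over the generic point of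
Spec R₀, i.e. with ev injective on R₀. Then there is a field isomorphism e from an algebraic closure
of the fraction field of R (the function field of Spec R) onto k such that e(1 ⊗ r) = ev(1 ⊗ r) for
every r in R₀: e extends evaluation at P on R₀. (The published setting has k algebraically closed of
characteristic zero and of infinite transcendence degree over its prime field, and k₀ the subfield
generated by the coefficients of equations of Spec R, which is finitely generated over the prime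
field, so that k has infinite transcendence degree over k₀; only this last property and no
characteristic assumption enter here. The isomorphism is not canonical.) -/
theorem result (k₀ k : Type u)
    [Field k₀] [Field k] [Algebra k₀ k] [IsAlgClosed k] (hinf : ∃ x : ℕ → k, AlgebraicIndependent k₀ x)
    (R₀ : Type u) [CommRing R₀] [Algebra k₀ R₀] [Algebra.FiniteType k₀ R₀] [IsDomain (k ⊗[k₀] R₀)]
    (ev : k ⊗[k₀] R₀ →ₐ[k] k) (hP : Function.Injective fun r : R₀ => ev (1 ⊗ₜ[k₀] r)) :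
    ∃ e : AlgebraicClosure (FractionRing (k ⊗[k₀] R₀)) ≃+* k,
      ∀ r : R₀, e (algebraMap (k ⊗[k₀] R₀) (AlgebraicClosure (FractionRing (k ⊗[k₀] R₀)))
        (1 ⊗ₜ[k₀] r)) = ev (1 ⊗ₜ[k₀] r) := by
  classical
  -- the two copies of R₀
  let incA : R₀ →ₐ[k₀] k ⊗[k₀] R₀ := Algebra.TensorProduct.includeRight
  let evA : R₀ →ₐ[k₀] k := (ev.restrictScalars k₀).comp incA
  have hincA : ∀ r, incA r = 1 ⊗ₜ[k₀] r := fun r => rfl
  have hevA : ∀ r, evA r = ev (1 ⊗ₜ[k₀] r) := fun r => rfl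
  have hincinj : Function.Injective incA :=
    Algebra.TensorProduct.includeRight_injective (FaithfulSMul.algebraMap_injective k₀ k)
  have hevinj : Function.Injective evA := hP
  have hTΩinj : Function.Injective
      (algebraMap (k ⊗[k₀] R₀) (AlgebraicClosure (FractionRing (k ⊗[k₀] R₀)))) := by
    rw [IsScalarTower.algebraMap_eq (k ⊗[k₀] R₀) (FractionRing (k ⊗[k₀] R₀))
      (AlgebraicClosure (FractionRing (k ⊗[k₀] R₀)))]
    exact (algebraMap (FractionRing (k ⊗[k₀] R₀))
      (AlgebraicClosure (FractionRing (k ⊗[k₀] R₀)))).injective.comp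
      (IsFractionRing.injective _ _)
  let S₁ : Subalgebra k₀ (k ⊗[k₀] R₀) := incA.range
  let S₂ : Subalgebra k₀ k := evA.range
  let φ₁ : R₀ ≃ₐ[k₀] S₁ := AlgEquiv.ofInjective incA hincinj
  let φ₂ : R₀ ≃ₐ[k₀] S₂ := AlgEquiv.ofInjective evA hevinj
  let φ : S₁ ≃ₐ[k₀] S₂ := φ₁.symm.trans φ₂
  have hφ : ∀ r : R₀, φ ⟨incA r, ⟨r, rfl⟩⟩ = ⟨evA r, ⟨r, rfl⟩⟩ := by
    intro r
    have h1 : (⟨incA r, ⟨r, rfl⟩⟩ : S₁) = φ₁ r := rfl
    rw [h1]
    show φ₂ (φ₁.symm (φ₁ r)) = _
    rw [AlgEquiv.symm_apply_apply]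
    rfl
  haveI : Nontrivial S₁ := inferInstance
  haveI fs1 : FaithfulSMul k₀ S₁ :=
    (faithfulSMul_iff_algebraMap_injective _ _).2 (algebraMap k₀ S₁).injective
  haveI fs2 : FaithfulSMul k₀ S₂ :=
    (faithfulSMul_iff_algebraMap_injective _ _).2 (algebraMap k₀ S₂).injective
  haveI fs3 : FaithfulSMul S₁ (AlgebraicClosure (FractionRing (k ⊗[k₀] R₀))) :=
    (faithfulSMul_iff_algebraMap_injective _ _).2 (by
      rw [IsScalarTower.algebraMap_eq S₁ (k ⊗[k₀] R₀)
        (AlgebraicClosure (FractionRing (k ⊗[k₀] R₀)))]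
      exact hTΩinj.comp Subtype.val_injective)
  haveI ft1 : Algebra.FiniteType k₀ S₁ := Algebra.FiniteType.equiv inferInstance φ₁
  haveI ft2 : Algebra.FiniteType k₀ S₂ := Algebra.FiniteType.equiv inferInstance φ₂
  -- transcendence degrees
  have a1 : Algebra.trdeg k₀ S₂ + Algebra.trdeg S₂ k = Algebra.trdeg k₀ k :=
    _root_.trdeg_add_eq k₀ S₂
  have a2 : Algebra.trdeg k₀ S₁ + Algebra.trdeg S₁ (AlgebraicClosure (FractionRing (k ⊗[k₀] R₀))) =
      Algebra.trdeg k₀ (AlgebraicClosure (FractionRing (k ⊗[k₀] R₀))) :=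
    _root_.trdeg_add_eq k₀ S₁
  have a3 : Algebra.trdeg k₀ k + Algebra.trdeg k (AlgebraicClosure (FractionRing (k ⊗[k₀] R₀))) =
      Algebra.trdeg k₀ (AlgebraicClosure (FractionRing (k ⊗[k₀] R₀))) :=
    _root_.trdeg_add_eq k₀ k
  have a4 : Algebra.trdeg k (k ⊗[k₀] R₀) +
      Algebra.trdeg (k ⊗[k₀] R₀) (AlgebraicClosure (FractionRing (k ⊗[k₀] R₀))) =
      Algebra.trdeg k (AlgebraicClosure (FractionRing (k ⊗[k₀] R₀))) := by
    haveI : FaithfulSMul (k ⊗[k₀] R₀) (AlgebraicClosure (FractionRing (k ⊗[k₀] R₀))) :=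
      (faithfulSMul_iff_algebraMap_injective _ _).2 hTΩinj
    exact _root_.trdeg_add_eq k (k ⊗[k₀] R₀)
  have a5 : Algebra.trdeg (k ⊗[k₀] R₀) (AlgebraicClosure (FractionRing (k ⊗[k₀] R₀))) = 0 := by
    haveI : Algebra.IsAlgebraic (k ⊗[k₀] R₀) (AlgebraicClosure (FractionRing (k ⊗[k₀] R₀))) :=
      (IsFractionRing.comap_isAlgebraic_iff (A := k ⊗[k₀] R₀) (K := FractionRing (k ⊗[k₀] R₀))
        (C := AlgebraicClosure (FractionRing (k ⊗[k₀] R₀)))).2 inferInstance
    exact _root_.trdeg_eq_zero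
  have b1 : Algebra.trdeg k₀ S₁ < Cardinal.aleph0 := _root_.trdeg_lt_aleph0_of_finiteType
  have b1' : Algebra.trdeg k₀ S₂ < Cardinal.aleph0 := _root_.trdeg_lt_aleph0_of_finiteType
  have b2 : Algebra.trdeg k (k ⊗[k₀] R₀) < Cardinal.aleph0 := _root_.trdeg_lt_aleph0_of_finiteType
  have b3 : Cardinal.aleph0 ≤ Algebra.trdeg k₀ k := by
    obtain ⟨x, hx⟩ := hinf
    have := hx.lift_cardinalMk_le_trdeg
    rw [Cardinal.mk_nat, Cardinal.lift_aleph0] at this
    simpa using this
  have c1 : Algebra.trdeg S₂ k = Algebra.trdeg k₀ k :=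
    Cardinal.eq_of_add_eq_of_aleph0_le a1 (lt_of_lt_of_le b1' b3) b3
  have c2 : Algebra.trdeg k₀ (AlgebraicClosure (FractionRing (k ⊗[k₀] R₀))) = Algebra.trdeg k₀ k := by
    rw [← a3]
    apply Cardinal.add_eq_left b3
    rw [← a4, a5, add_zero]
    exact le_of_lt (lt_of_lt_of_le b2 b3)
  have c3 : Algebra.trdeg S₁ (AlgebraicClosure (FractionRing (k ⊗[k₀] R₀))) = Algebra.trdeg k₀ k :=
    Cardinal.eq_of_add_eq_of_aleph0_le (a2.trans c2) (lt_of_lt_of_le b1 b3) b3
  -- transcendence bases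
  obtain ⟨s, hs⟩ := exists_isTranscendenceBasis S₁ (AlgebraicClosure (FractionRing (k ⊗[k₀] R₀)))
  obtain ⟨t, ht⟩ := exists_isTranscendenceBasis S₂ k
  have hcard : Cardinal.mk s = Cardinal.mk t := by
    rw [hs.cardinalMk_eq_trdeg, ht.cardinalMk_eq_trdeg, c3, c1]
  obtain ⟨σ⟩ := Cardinal.eq.1 hcard
  letI ac1 := IsAlgClosed.isAlgClosure_of_transcendence_basis _ hs
  letI ac2 := IsAlgClosed.isAlgClosure_of_transcendence_basis _ ht
  let e' : Algebra.adjoin S₁ (Set.range (Subtype.val : s → AlgebraicClosure (FractionRing (k ⊗[k₀] R₀)))) ≃+*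
      Algebra.adjoin S₂ (Set.range (Subtype.val : t → k)) :=
    hs.1.aevalEquiv.symm.toRingEquiv.trans ((MvPolynomial.mapEquiv s φ.toRingEquiv).trans
      ((MvPolynomial.renameEquiv S₂ σ).toRingEquiv.trans ht.1.aevalEquiv.toRingEquiv))
  have he' : ∀ x : S₁, e' (algebraMap S₁ _ x) = algebraMap S₂ _ (φ x) := by
    intro x
    show ht.1.aevalEquiv ((MvPolynomial.renameEquiv S₂ σ) ((MvPolynomial.mapEquiv s φ.toRingEquiv)
      (hs.1.aevalEquiv.symm (algebraMap S₁ _ x)))) = _
    rw [AlgEquiv.commutes, MvPolynomial.algebraMap_eq, MvPolynomial.mapEquiv_apply,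
      MvPolynomial.map_C, MvPolynomial.renameEquiv_apply, MvPolynomial.rename_C,
      ← MvPolynomial.algebraMap_eq, AlgEquiv.commutes]
    rfl
  refine ⟨IsAlgClosure.equivOfEquiv
    (S := Algebra.adjoin S₁ (Set.range (Subtype.val : s → AlgebraicClosure (FractionRing (k ⊗[k₀] R₀)))))
    (R := Algebra.adjoin S₂ (Set.range (Subtype.val : t → k))) _ _ e', fun r => ?_⟩
  have h1 : algebraMap (k ⊗[k₀] R₀) (AlgebraicClosure (FractionRing (k ⊗[k₀] R₀))) (1 ⊗ₜ[k₀] r) =
      algebraMap (Algebra.adjoin S₁ (Set.range (Subtype.val : s →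
        AlgebraicClosure (FractionRing (k ⊗[k₀] R₀))))) _
        (algebraMap S₁ _ (⟨incA r, ⟨r, rfl⟩⟩ : S₁)) := by
    rw [← IsScalarTower.algebraMap_apply S₁,
      IsScalarTower.algebraMap_apply S₁ (k ⊗[k₀] R₀)
        (AlgebraicClosure (FractionRing (k ⊗[k₀] R₀)))]
    rfl
  rw [h1, IsAlgClosure.equivOfEquiv_algebraMap, he', hφ, ← IsScalarTower.algebraMap_apply S₂]
  rfl

end Groth.Agent.S16919
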