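import Groth.Statements.S1692
import Groth.Agent.S1693

set_option autoImplicit false
universe u
open CategoryTheory CategoryTheory.Limits AlgebraicGeometry TopologicalSpace
open SDiv

namespace Groth.Agent.S1692

/-- Let X be a locally Noetherian integral scheme and f a nonzero rational function. Then the closures
of the codimension-one points at which f has nonzero order of vanishing form a locally finite family
of closed subsets of X. -/
theorem result (X : Scheme.{u}) [IsIntegral X] [IsLocallyNoetherian X] (f : ↑X.functionField) (hf : f ≠ 0) :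
    LocallyFinite (fun ξ : {ξ : ↥X // Order.coheight ξ = 1 ∧ Scheme.ord f ξ ≠ 0} => closure ({ξ.1} : Set ↥X)) := by
  obtain ⟨U₀, hU₀, f', hne, hf', hunit⟩ := exists_isUnit_germ_eq X f hf
  set Z₀ : Set X := (U₀ : Set X)ᶜ with hZ₀
  have hZ₀c : IsClosed Z₀ := U₀.2.isClosed_compl
  have hξZ : ∀ ξ : {ξ : ↥X // Order.coheight ξ = 1 ∧ Scheme.ord f ξ ≠ 0}, ξ.1 ∈ Z₀ := by
    rintro ⟨ξ, h1, h2⟩
    by_contra hξU
    apply h2
    have hξU' : ξ ∈ U₀ := by
      by_contra h; exact hξU h
    rw [← hf']
    exact Scheme.ord_of_isUnit hunit hξU'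
  have hclZ : ∀ ξ : {ξ : ↥X // Order.coheight ξ = 1 ∧ Scheme.ord f ξ ≠ 0},
      closure ({ξ.1} : Set X) ⊆ Z₀ := fun ξ =>
    closure_minimal (Set.singleton_subset_iff.mpr (hξZ ξ)) hZ₀c
  have hgen : genericPoint X ∈ U₀ := by
    have := (genericPoint_spec X).mem_open_set_iff U₀.2
    obtain ⟨⟨u, hu⟩⟩ := hne
    exact this.mpr ⟨u, trivial, hu⟩
  -- each closure is an irreducible component of `Z₀`
  have hcomp : ∀ ξ : {ξ : ↥X // Order.coheight ξ = 1 ∧ Scheme.ord f ξ ≠ 0},
      ((Subtype.val : ↥Z₀ → X) ⁻¹' closure ({ξ.1} : Set X)) ∈ irreducibleComponents ↥Z₀ := by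
    intro ξ
    have hTeq : ((Subtype.val : ↥Z₀ → X) ⁻¹' closure ({ξ.1} : Set X)) =
        closure ({⟨ξ.1, hξZ ξ⟩} : Set ↥Z₀) := by
      rw [Topology.IsEmbedding.subtypeVal.closure_eq_preimage_closure_image, Set.image_singleton]
    refine ⟨?_, ?_⟩
    · rw [hTeq]; exact isIrreducible_singleton.closure
    · intro T' hT' hTT'
      -- the closure of the image of T' in X
      have hS : IsIrreducible (closure (Subtype.val '' T')) :=
        (hT'.image _ continuous_subtype_val.continuousOn).closure
      obtain ⟨η, hη⟩ := QuasiSober.sober hS isClosed_closure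
      have hSZ : closure (Subtype.val '' T') ⊆ Z₀ :=
        closure_minimal (by rintro _ ⟨t, -, rfl⟩; exact t.2) hZ₀c
      have hξS : ξ.1 ∈ closure (Subtype.val '' T') := by
        apply subset_closure
        refine ⟨⟨ξ.1, hξZ ξ⟩, hTT' ?_, rfl⟩
        exact subset_closure rfl
      have hηξ : η ⤳ ξ.1 := by
        rw [specializes_iff_mem_closure, hη.def]; exact hξS
      by_cases hξη : ξ.1 ⤳ η
      · intro t ht
        have h1 : t.1 ∈ closure (Subtype.val '' T') := subset_closure ⟨t, ht, rfl⟩
        rw [← hη.def] at h1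
        exact (specializes_iff_closure_subset.mp hξη) h1
      · exfalso
        have hlt1 : ξ.1 < η := ⟨hηξ, hξη⟩
        have hηZ : η ∈ Z₀ := hSZ hη.mem
        have hlt2 : η < genericPoint X := by
          refine ⟨genericPoint_specializes η, fun h => ?_⟩
          exact hηZ (h.mem_open U₀.2 hgen)
        have h1 := Order.coheight_add_one_le hlt1
        have h2 := Order.coheight_add_one_le hlt2
        rw [ξ.2.1] at h1
        have h3 : Order.coheight η = 0 := by
          have : Order.coheight η + 1 ≤ 0 + 1 := by simpa using h1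
          exact le_antisymm ((ENat.add_le_add_iff_right ENat.one_ne_top).mp this) bot_le
        rw [h3] at h2
        simp at h2
  let g : {ξ : ↥X // Order.coheight ξ = 1 ∧ Scheme.ord f ξ ≠ 0} → ↥(irreducibleComponents ↥Z₀) :=
    fun ξ => ⟨_, hcomp ξ⟩
  have himg : ∀ ξ, (Subtype.val '' (g ξ).1 : Set X) = closure ({ξ.1} : Set X) := by
    intro ξ
    change Subtype.val '' ((Subtype.val : ↥Z₀ → X) ⁻¹' closure ({ξ.1} : Set X)) = _
    rw [Subtype.image_preimage_coe, Set.inter_eq_right.mpr (hclZ ξ)]
  have hginj : Function.Injective g := by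
    intro ξ ξ' h
    have h1 : closure ({ξ.1} : Set X) = closure ({ξ'.1} : Set X) := by
      rw [← himg ξ, ← himg ξ', h]
    apply Subtype.ext
    have hs1 : ξ.1 ⤳ ξ'.1 := by
      rw [specializes_iff_closure_subset, h1]
    have hs2 : ξ'.1 ⤳ ξ.1 := by
      rw [specializes_iff_closure_subset, h1]
    exact (hs1.antisymm hs2).eq
  have := (Groth.Agent.S1693.result X Z₀ hZ₀c).comp_injective hginj
  convert this using 1
  funext ξ
  exact (himg ξ).symm

end Groth.Agent.S1692
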