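import Groth.Statements.S16962
import Mathlib

set_option autoImplicit false
universe u
open ConstAct

namespace Groth.Agent.S16962

open TensorProduct

theorem msa_ext {M S : Type*} [Monoid M] [Semiring S] (a a' : MulSemiringAction M S)
    (h : ∀ (g : M) (b : S), (a.toDistribMulAction.toMulAction.toSMul.smul g b) =
      (a'.toDistribMulAction.toMulAction.toSMul.smul g b)) : a = a' := by
  rcases a with @⟨@⟨@⟨@⟨⟨s⟩, h1⟩, h2⟩, h3, h4⟩, h5, h6⟩
  rcases a' with @⟨@⟨@⟨@⟨⟨s'⟩, h1'⟩, h2'⟩, h3', h4'⟩, h5', h6'⟩
  have : s = s' := funext₂ h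
  subst this
  rfl

section
variable (R : Type u) [CommRing R] (B : Type u) [CommRing B] [Algebra R B]
  (Γ : Type u) [Group Γ] [Fintype Γ] [DecidableEq Γ]

/-- coefficient of `e g` -/
noncomputable def E (g : Γ) : B ⊗[R] ConstGrp.F R Γ →ₐ[R] B :=
  (Algebra.TensorProduct.rid R R B).toAlgHom.comp
    (Algebra.TensorProduct.map (AlgHom.id R B) (ConstGrp.ev R g))

theorem E_tmul (g : Γ) (b : B) (f : ConstGrp.F R Γ) : E R B Γ g (b ⊗ₜ[R] f) = f g • b := by
  simp [E]

theorem expand (x : B ⊗[R] ConstGrp.F R Γ) :
    x = ∑ g : Γ, (E R B Γ g x) ⊗ₜ[R] ConstGrp.e R g := by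
  induction x using TensorProduct.induction_on with
  | zero => simp
  | add x y hx hy =>
    simp only [map_add, TensorProduct.add_tmul, Finset.sum_add_distrib]
    rw [← hx, ← hy]
  | tmul b f =>
    simp only [E_tmul]
    conv_lhs => rw [ConstGrp.eq_sum_smul_e f, TensorProduct.tmul_sum]
    refine Finset.sum_congr rfl (fun g _ => ?_)
    rw [TensorProduct.smul_tmul]

/-- `f ⊗ f' ↦ f g * f' h` -/
noncomputable def ev2 (g h : Γ) : ConstGrp.F R Γ ⊗[R] ConstGrp.F R Γ →ₗ[R] R :=
  (LinearMap.mul' R R) ∘ₗ TensorProduct.map (ConstGrp.ev R g).toLinearMap (ConstGrp.ev R h).toLinearMap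

theorem ev2_tmul (g h : Γ) (f f' : ConstGrp.F R Γ) : ev2 R Γ g h (f ⊗ₜ f') = f g * f' h := by
  simp [ev2]

theorem ev2_comul (g h : Γ) (f : ConstGrp.F R Γ) :
    ev2 R Γ g h (Coalgebra.comul (R := R) f) = f (g * h) := by
  rw [ConstGrp.comul_eq_sum, map_sum]
  simp only [map_sum, map_smul, ev2_tmul, smul_eq_mul, ConstGrp.e_apply]
  rw [Finset.sum_eq_single g]
  · rw [Finset.sum_eq_single h]
    · simp
    · intro b _ hb
      simp [Ne.symm hb]
    · intro hh; exact absurd (Finset.mem_univ _) hh
  · intro a _ ha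
    refine Finset.sum_eq_zero (fun b _ => ?_)
    simp [Ne.symm ha]
  · intro hh; exact absurd (Finset.mem_univ _) hh

/-- `b ⊗ (f ⊗ f') ↦ (f g * f' h) • b` -/
noncomputable def T (g h : Γ) : B ⊗[R] (ConstGrp.F R Γ ⊗[R] ConstGrp.F R Γ) →ₗ[R] B :=
  (TensorProduct.rid R B).toLinearMap ∘ₗ LinearMap.lTensor B (ev2 R Γ g h)

theorem T_tmul (g h : Γ) (b : B) (z : ConstGrp.F R Γ ⊗[R] ConstGrp.F R Γ) :
    T R B Γ g h (b ⊗ₜ z) = ev2 R Γ g h z • b := by
  simp [T]

theorem T_assoc (g h : Γ) (y : B ⊗[R] ConstGrp.F R Γ) (f : ConstGrp.F R Γ) :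
    T R B Γ g h ((TensorProduct.assoc R B (ConstGrp.F R Γ) (ConstGrp.F R Γ)) (y ⊗ₜ f)) =
      f h • E R B Γ g y := by
  induction y using TensorProduct.induction_on with
  | zero => simp
  | add x y hx hy => rw [TensorProduct.add_tmul, map_add, map_add, hx, hy, map_add, smul_add]
  | tmul b f' =>
    rw [TensorProduct.assoc_tmul, T_tmul, ev2_tmul, E_tmul, smul_smul, mul_comm]

end

open TensorProduct in
/-- Let R be a commutative ring, Γ a finite group and B a commutative R-algebra equipped with a comodule
structure over the Hopf algebra of R-valued functions on Γ (the coordinate ring of the constant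
group scheme of Γ over Spec R, with basis the indicator functions e_γ) whose coaction B → B ⊗ Fun(Γ,
R) is a homomorphism of algebras, i.e. an action of the constant group scheme on Spec B. Then there
is exactly one action of Γ on B by R-algebra automorphisms whose associated coaction b ↦ Σ_γ (γ · b)
⊗ e_γ is the given coaction; and for that action the ring of invariants of the comodule algebra (the
b whose coaction is b ⊗ 1) equals the ring of elements fixed by Γ. (That the coaction associated
with an action is a comodule algebra structure is the other direction of the published equivalence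
and is a construction here.) -/
theorem result (R : Type u) [CommRing R]
    (B : Type u) [CommRing B] [Algebra R B] (Γ : Type u) [Group Γ] [Fintype Γ] [DecidableEq Γ]
    [HopfRep.Comod R (ConstGrp.F R Γ) B] [GLin.IsCoactAlg R (ConstGrp.F R Γ) B] :
    ∃! a : MulSemiringAction Γ B, ∃ _ : SMulCommClass Γ R B,
      ConstAct.coactLin R B Γ = HopfRep.Comod.coact (k := R) (A := ConstGrp.F R Γ) (V := B) ∧
        GLin.invariants R (ConstGrp.F R Γ) B = ConstAct.inv R B Γ := by
  classical
  set ρ : B →ₐ[R] B ⊗[R] ConstGrp.F R Γ := GLin.coactAlgHom R (ConstGrp.F R Γ) B with hρ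
  have hρc : ∀ b, ρ b = HopfRep.Comod.coact (k := R) (A := ConstGrp.F R Γ) (V := B) b := fun b => rfl
  -- the action
  have h_one : ∀ b : B, E R B Γ 1 (ρ b) = b := by
    intro b
    have h1 : ∀ x : B ⊗[R] ConstGrp.F R Γ, E R B Γ 1 x =
        TensorProduct.rid R B ((LinearMap.lTensor B (Coalgebra.counit (R := R) (A := ConstGrp.F R Γ))) x) := by
      intro x
      induction x using TensorProduct.induction_on with
      | zero => simp
      | add x y hx hy => simp only [map_add, hx, hy]
      | tmul b f => simp [E_tmul]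
    rw [h1, hρc]
    have := LinearMap.congr_fun
      (HopfRep.Comod.counit_comp (k := R) (A := ConstGrp.F R Γ) (V := B)) b
    simp only [LinearMap.comp_apply] at this
    rw [this]
    simp
  have h_mul : ∀ (g h : Γ) (b : B), E R B Γ (g * h) (ρ b) = E R B Γ g (ρ (E R B Γ h (ρ b))) := by
    intro g h b
    have hco := LinearMap.congr_fun
      (HopfRep.Comod.coassoc (k := R) (A := ConstGrp.F R Γ) (V := B)) b
    simp only [LinearMap.comp_apply, LinearEquiv.coe_coe] at hco
    have hL : ∀ x : B ⊗[R] ConstGrp.F R Γ,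
        T R B Γ g h ((TensorProduct.assoc R B (ConstGrp.F R Γ) (ConstGrp.F R Γ))
          ((LinearMap.rTensor (ConstGrp.F R Γ)
            (HopfRep.Comod.coact (k := R) (A := ConstGrp.F R Γ) (V := B))) x)) =
        E R B Γ g (ρ (E R B Γ h x)) := by
      intro x
      induction x using TensorProduct.induction_on with
      | zero => simp
      | add x y hx hy => simp only [map_add, hx, hy]
      | tmul b f =>
        rw [LinearMap.rTensor_tmul, T_assoc, E_tmul, map_smul, map_smul]
        rfl
    have hR : ∀ x : B ⊗[R] ConstGrp.F R Γ,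
        T R B Γ g h ((LinearMap.lTensor B (Coalgebra.comul (R := R) (A := ConstGrp.F R Γ))) x) =
        E R B Γ (g * h) x := by
      intro x
      induction x using TensorProduct.induction_on with
      | zero => simp
      | add x y hx hy => simp only [map_add, hx, hy]
      | tmul b f =>
        rw [LinearMap.lTensor_tmul, T_tmul, ev2_comul, E_tmul]
    rw [← hR, hρc, ← hco, hL]
  let a₀ : MulSemiringAction Γ B :=
    { smul := fun g b => E R B Γ g (ρ b)
      one_smul := h_one
      mul_smul := h_mul
      smul_zero := fun g => by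
        change E R B Γ g (ρ 0) = 0
        rw [map_zero, map_zero]
      smul_add := fun g x y => by
        change E R B Γ g (ρ (x + y)) = E R B Γ g (ρ x) + E R B Γ g (ρ y)
        rw [map_add, map_add]
      smul_one := fun g => by
        change E R B Γ g (ρ 1) = 1
        rw [map_one, map_one]
      smul_mul := fun g x y => by
        change E R B Γ g (ρ (x * y)) = E R B Γ g (ρ x) * E R B Γ g (ρ y)
        rw [map_mul, map_mul] }
  have hsmul : ∀ (g : Γ) (b : B), a₀.toDistribMulAction.toMulAction.toSMul.smul g b =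
      E R B Γ g (ρ b) := fun g b => rfl
  have hcomm₀ : @SMulCommClass Γ R B a₀.toDistribMulAction.toMulAction.toSMul _ := by
    refine @SMulCommClass.mk Γ R B a₀.toDistribMulAction.toMulAction.toSMul _ ?_
    intro g r b
    change E R B Γ g (ρ (r • b)) = r • E R B Γ g (ρ b)
    rw [map_smul, map_smul]
  have hco₀ : @ConstAct.coactLin R _ B _ _ Γ _ _ _ a₀ hcomm₀ =
      HopfRep.Comod.coact (k := R) (A := ConstGrp.F R Γ) (V := B) := by
    refine LinearMap.ext (fun b => ?_)
    rw [@ConstAct.coactLin_apply R _ B _ _ Γ _ _ _ a₀ hcomm₀ b, ← hρc b]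
    exact (expand R B Γ (ρ b)).symm
  refine ⟨a₀, ⟨hcomm₀, hco₀, ?_⟩, ?_⟩
  · ext f
    rw [GLin.mem_invariants_iff]
    change _ ↔ ∀ g : Γ, a₀.toDistribMulAction.toMulAction.toSMul.smul g f = f
    simp only [hsmul]
    constructor
    · intro hf g
      rw [hρc, hf, E_tmul]
      simp
    · intro hf
      rw [← hρc, expand R B Γ (ρ f)]
      simp only [hf]
      rw [← TensorProduct.tmul_sum, ConstGrp.sum_e]
  · rintro a' ⟨hcomm', hco', -⟩
    symm
    apply msa_ext
    intro g b
    rw [hsmul, hρc, ← hco', @ConstAct.coactLin_apply R _ B _ _ Γ _ _ _ a' hcomm' b, map_sum]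
    simp only [E_tmul, ConstGrp.e_apply]
    rw [Finset.sum_eq_single g]
    · simp
      rfl
    · intro x _ hx
      simp [Ne.symm hx]
    · intro hh; exact absurd (Finset.mem_univ _) hh

end Groth.Agent.S16962
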