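import Groth.Statements.S16963
import Mathlib

set_option autoImplicit false
universe u
open scoped BigOperators
open ConstAct

namespace Groth.Agent.S16963

open TensorProduct in
/-- Let R be a commutative ring and Γ a finite group acting on a commutative R-algebra B by R-algebra
automorphisms; regard B as a comodule algebra over the Hopf algebra of R-valued functions on Γ (the
constant group scheme of Γ acting on Spec B) through the coaction b ↦ Σ_γ (γ · b) ⊗ e_γ. Then the
action is tame — there is a comodule map α from the Hopf algebra, with its regular coaction, to B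
with α(1) = 1 (a total integral) — if and only if the trace b ↦ Σ_γ γ · b, which takes values in the
ring of invariants B^Γ, maps B onto B^Γ. -/
theorem result (R : Type u) [CommRing R]
    (B : Type u) [CommRing B] [Algebra R B] (Γ : Type u) [Group Γ] [Fintype Γ] [DecidableEq Γ]
    [MulSemiringAction Γ B] [SMulCommClass Γ R B] :
    letI := ConstAct.comod R B Γ
    (∃ α : ConstGrp.F R Γ →ₗ[R] B, Hoch.IsComodHom (ConstGrp.F R Γ) α ∧ α 1 = 1) ↔
      ∀ c : B, c ∈ ConstAct.inv R B Γ → ∃ b : B, ∑ γ : Γ, γ • b = c := by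
  let _ := ConstAct.comod R B Γ
  -- the coefficient functional `b ⊗ f ↦ f h • b`
  let E : Γ → (B ⊗[R] ConstGrp.F R Γ →ₗ[R] B) := fun h =>
    (TensorProduct.rid R B).toLinearMap ∘ₗ LinearMap.lTensor B (ConstGrp.ev R h).toLinearMap
  have hE : ∀ (h : Γ) (b : B) (f : ConstGrp.F R Γ), E h (b ⊗ₜ[R] f) = f h • b := by
    intro h b f
    simp [E]
  constructor
  · rintro ⟨α, hα, hα1⟩
    have key : ∀ h : Γ, h • α (ConstGrp.e R 1) = α (ConstGrp.e R h⁻¹) := by
      intro h
      have h1 := LinearMap.congr_fun hα (ConstGrp.e R (1 : Γ))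
      simp only [LinearMap.comp_apply] at h1
      have h2 := congrArg (E h) h1
      have h3 : HopfRep.Comod.coact (k := R) (A := ConstGrp.F R Γ) (V := B)
          (α (ConstGrp.e R 1)) = ∑ g : Γ, (g • α (ConstGrp.e R 1)) ⊗ₜ[R] ConstGrp.e R g :=
        ConstAct.coactLin_apply R B Γ _
      have h4 : HopfRep.Comod.coact (k := R) (A := ConstGrp.F R Γ) (V := ConstGrp.F R Γ)
          (ConstGrp.e R 1) = ∑ a : Γ, ConstGrp.e R a ⊗ₜ[R] ConstGrp.e R (a⁻¹ * 1) :=
        ConstGrp.comul_e R Γ 1
      rw [h3, h4] at h2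
      simp only [map_sum, LinearMap.rTensor_tmul, hE, mul_one] at h2
      rw [Finset.sum_eq_single h, Finset.sum_eq_single h⁻¹] at h2
      · simpa using h2
      · intro a _ ha
        rw [ConstGrp.e_apply_of_ne, zero_smul]
        intro hh
        exact ha (by rw [hh, inv_inv])
      · intro hh; exact absurd (Finset.mem_univ _) hh
      · intro g _ hg
        rw [ConstGrp.e_apply_of_ne (Ne.symm hg), zero_smul]
      · intro hh; exact absurd (Finset.mem_univ _) hh
    have htr : ∑ γ : Γ, γ • α (ConstGrp.e R 1) = 1 := by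
      simp only [key]
      rw [← hα1, ← ConstGrp.sum_e (R := R) (G := Γ), map_sum]
      exact Fintype.sum_equiv (Equiv.inv Γ) _ _ (fun g => rfl)
    intro c hc
    refine ⟨c * α (ConstGrp.e R 1), ?_⟩
    have hc' : ∀ g : Γ, g • c = c := (ConstAct.mem_inv R B Γ c).mp hc
    simp only [smul_mul', hc']
    rw [← Finset.mul_sum, htr, mul_one]
  · intro H
    obtain ⟨b, hb⟩ := H 1 (by
      rw [ConstAct.mem_inv]; intro g; exact smul_one g)
    refine ⟨(ConstGrp.basis R Γ).constr R (fun g => g⁻¹ • b), ?_, ?_⟩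
    · have hαe : ∀ g : Γ, ((ConstGrp.basis R Γ).constr R (fun g => g⁻¹ • b) :
          ConstGrp.F R Γ →ₗ[R] B) (ConstGrp.e R g) = g⁻¹ • b := by
        intro g
        rw [← ConstGrp.basis_apply, Module.Basis.constr_basis]
      unfold Hoch.IsComodHom
      refine ConstGrp.linearMap_ext (fun g => ?_)
      simp only [LinearMap.comp_apply]
      have h3 : ∀ x : B, HopfRep.Comod.coact (k := R) (A := ConstGrp.F R Γ) (V := B) x =
          ∑ g : Γ, (g • x) ⊗ₜ[R] ConstGrp.e R g := ConstAct.coactLin_apply R B Γ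
      have h4 : HopfRep.Comod.coact (k := R) (A := ConstGrp.F R Γ) (V := ConstGrp.F R Γ)
          (ConstGrp.e R g) = ∑ a : Γ, ConstGrp.e R a ⊗ₜ[R] ConstGrp.e R (a⁻¹ * g) :=
        ConstGrp.comul_e R Γ g
      rw [h3, h4, hαe, map_sum]
      simp only [LinearMap.rTensor_tmul, hαe]
      symm
      refine Fintype.sum_equiv ((Equiv.inv Γ).trans (Equiv.mulRight g)) _ _ (fun a => ?_)
      simp only [Equiv.trans_apply, Equiv.inv_apply, Equiv.coe_mulRight]
      rw [← mul_smul, mul_inv_cancel_right]
    · rw [← ConstGrp.sum_e (R := R) (G := Γ), map_sum]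
      have hαe : ∀ g : Γ, ((ConstGrp.basis R Γ).constr R (fun g => g⁻¹ • b) :
          ConstGrp.F R Γ →ₗ[R] B) (ConstGrp.e R g) = g⁻¹ • b := by
        intro g
        rw [← ConstGrp.basis_apply, Module.Basis.constr_basis]
      simp only [hαe]
      rw [← hb]
      exact Fintype.sum_equiv (Equiv.inv Γ) _ _ (fun g => rfl)

end Groth.Agent.S16963
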