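import Groth.Statements.S19205
import Groth.Agent.Lib.Helper7.Pencil

set_option autoImplicit false
universe u
open CategoryTheory AlgebraicGeometry
open Curves

namespace Groth.Agent.S19205

open Scheme.Modules
open Groth.Agent.Lib.Helper23.T2 Groth.Agent.Lib.Helper23.Curve Groth.Agent.Lib.Helper23
  Groth.Agent.Lib.Helper7.CurvePair

/-- the numerical consequence of Riemann–Roch and the (duality-free) Clifford inequality:
either `m ≤ deg M - g` or `2m ≤ deg M` -/
theorem rr_clifford (k : Type u) [Field k] [IsAlgClosed k] (X : Scheme.{u})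
    [X.Over (Spec (CommRingCat.of k))] [IsIntegral X] [IsProper (X ↘ (Spec (CommRingCat.of k)))]
    (hdim : topologicalKrullDim X = 1)
    (M : X.Modules) (hM : PicF.IsInvertible M) (m : ℕ) (hm : 1 ≤ m)
    (hsec : m + 1 ≤ Module.finrank k (Coh.HH X M 0)) :
    ((m : ℤ) ≤ Curv2.deg k X M 1 - (Curv2.genus k X : ℤ)) ∨
      (2 * (m : ℤ) ≤ Curv2.deg k X M 1) := by
  haveI := isNoetherian_of_isProper k X
  have h0 := GeomH0.finrank_H0_eq_one_of_isAlgClosed k X
  have hrr := riemann_roch k hdim.le h0 hM
  haveI : Module.Finite k (Coh.HH X M 0) := finite_HH k _ (isCoh_of_isInvertible hM) 0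
  have hm' : ((m : ℤ) + 1) ≤ (Module.finrank k (Coh.HH X M 0) : ℤ) := by exact_mod_cast hsec
  by_cases h1 : Nontrivial (Coh.HH X M 1)
  · right
    have hnt0 : Nontrivial (Coh.HH X M 0) :=
      Module.nontrivial_of_finrank_pos (R := k) (by omega)
    have hc := Groth.Agent.Lib.Helper7.Pencil.h0_add_h1_le k hdim.le hM hnt0 h1
    have hc' : (Module.finrank k (Coh.HH X M 0) : ℤ) + (Module.finrank k (Coh.HH X M 1) : ℤ) ≤
        (Curv2.genus k X : ℤ) + 1 := by exact_mod_cast hc
    linarith
  · left
    rw [not_nontrivial_iff_subsingleton] at h1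
    have h1z : Module.finrank k (Coh.HH X M 1) = 0 := Module.finrank_zero_of_subsingleton
    rw [h1z] at hrr
    push_cast at hrr
    linarith

/-- Let C be a smooth projective curve of genus g over an algebraically closed field k (an integral
scheme, proper over k, of dimension one, all local rings regular) and d an integer with d ≥ 2g. For
every invertible O_C-module M of degree d' ≤ d having at least m + 1 linearly independent global
sections with m ≥ 1, one has d·m ≤ d'·(d − g). Linear semi-stability of C mapped to P^{d−g} by all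
sections of a line bundle of degree d ≥ 2g, which is what the published statement asserts, follows
from this inequality (reduced degrees d'/m of projections of that image are at least d/(d − g));
linear semi-stability itself is not formalized here. -/
theorem result (k : Type u) [Field k] [IsAlgClosed k] (X : Scheme.{u})
    [X.Over (Spec (CommRingCat.of k))] [IsIntegral X] [IsProper (X ↘ (Spec (CommRingCat.of k)))]
    (hdim : topologicalKrullDim X = 1) (hreg : ∀ x : X, IsRegularLocalRing (X.presheaf.stalk x))
    (d : ℤ) (hd : 2 * (Curv2.genus k X : ℤ) ≤ d)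
    (M : X.Modules) (hM : PicF.IsInvertible M) (m : ℕ) (hm : 1 ≤ m)
    (hsec : m + 1 ≤ Module.finrank k (Coh.HH X M 0)) (hdeg : Curv2.deg k X M 1 ≤ d) :
    d * (m : ℤ) ≤ Curv2.deg k X M 1 * (d - Curv2.genus k X) := by
  have hg0 : (0 : ℤ) ≤ (Curv2.genus k X : ℤ) := Int.natCast_nonneg _
  have hm0 : (1 : ℤ) ≤ (m : ℤ) := by exact_mod_cast hm
  rcases rr_clifford k X hdim M hM m hm hsec with h | h
  · nlinarith [mul_nonneg (by linarith : (0 : ℤ) ≤ d)
      (by linarith : (0 : ℤ) ≤ Curv2.deg k X M 1 - (Curv2.genus k X : ℤ) - (m : ℤ)),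
      mul_nonneg hg0 (by linarith : (0 : ℤ) ≤ d - Curv2.deg k X M 1)]
  · nlinarith [mul_nonneg (by linarith : (0 : ℤ) ≤ Curv2.deg k X M 1 - 2 * (m : ℤ))
      (by linarith : (0 : ℤ) ≤ d),
      mul_nonneg (by linarith : (0 : ℤ) ≤ Curv2.deg k X M 1)
      (by linarith : (0 : ℤ) ≤ d - 2 * (Curv2.genus k X : ℤ))]

end Groth.Agent.S19205
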