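import Groth.Statements.S16966
import Groth.Agent.S19204
import Groth.Agent.Lib.Helper7.CurveGG

set_option autoImplicit false
universe u
open CategoryTheory CategoryTheory.Limits AlgebraicGeometry Opposite
open Curves

namespace Groth.Agent.S16966

open Scheme.Modules
open Groth.Agent.Lib.Helper23.T2 Groth.Agent.Lib.Helper23.Curve Groth.Agent.Lib.Helper23
  Groth.Agent.Lib.Helper7.CurvePair

/-- Let X be a smooth projective curve over an algebraically closed field k of characteristic 0 (an
integral scheme, proper over k, of dimension one, with all local rings regular), of genus g ≥ 1, and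
L an invertible O_X-module with deg L > 2g. Then the morphism to projective space given by the
complete linear system of L is linearly stable, stated through the criterion by invertible
subsheaves: for every invertible module M and every monomorphism ι : M ⟶ L that is not an
isomorphism, with dim_k H^0(X, M) ≥ 2, one has deg L · (h^0(M) - 1) < deg M · (h^0(L) - 1), i.e. the
reduced degree deg M / (h^0(M) - 1) of the projection exceeds the reduced degree deg L / (h^0(L) -
1). Degrees are χ(·) - χ(O_X). -/
theorem result (k : Type u) [Field k] [IsAlgClosed k] [CharZero k] (X : Scheme.{u}) [X.Over (Spec (CommRingCat.of k))]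
    [IsIntegral X] [IsProper (X ↘ (Spec (CommRingCat.of k)))] (hdim : topologicalKrullDim X = 1)
    (hreg : ∀ x : X, IsRegularLocalRing (X.presheaf.stalk x))
    (hg : 1 ≤ Curv2.genus k X) (L : X.Modules) (hL : PicF.IsInvertible L)
    (hdeg : 2 * (Curv2.genus k X : ℤ) < Curv2.deg k X L 1)
    (M : X.Modules) (hM : PicF.IsInvertible M) (ι : M ⟶ L) [Mono ι] (hι : ¬ IsIso ι)
    (h2 : 2 ≤ Module.finrank k (Coh.HH X M 0)) :
    Curv2.deg k X L 1 * ((Module.finrank k (Coh.HH X M 0) : ℤ) - 1) <
      Curv2.deg k X M 1 * ((Module.finrank k (Coh.HH X L 0) : ℤ) - 1) := by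
  haveI := isNoetherian_of_isProper k X
  have h0 := GeomH0.finrank_H0_eq_one_of_isAlgClosed k X
  have hrr := riemann_roch k hdim.le h0 hL
  haveI : Subsingleton (Coh.HH X L 1) :=
    Groth.Agent.Lib.Helper7.CurvePair.h1_vanish_of_deg_ge' k hdim.le h0 hL (by linarith)
  have h1z : Module.finrank k (Coh.HH X L 1) = 0 := Module.finrank_zero_of_subsingleton
  rw [h1z] at hrr
  push_cast at hrr
  have hι0 : ι ≠ 0 := by
    intro h
    haveI : Module.Finite k (Coh.HH X M 0) := finite_HH k _ (isCoh_of_isInvertible hM) 0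
    haveI : Nontrivial (Coh.HH X M 0) :=
      Module.nontrivial_of_finrank_pos (R := k) (by omega)
    have hid : 𝟙 M = 0 := (cancel_mono ι).1 (by rw [h, comp_zero, zero_comp])
    obtain ⟨x, hx⟩ := exists_ne (0 : Coh.HH X M 0)
    apply hx
    apply (H0equiv M).injective
    rw [map_zero]
    have h3 : (𝟙 M : M ⟶ M).app ⊤ (H0equiv M x) = (0 : M ⟶ M).app ⊤ (H0equiv M x) := by
      rw [hid]
    exact h3
  obtain ⟨hle, hiso⟩ := deg_le_of_map k hdim.le hM hL ι hι0
  have hlt : Curv2.deg k X M 1 < Curv2.deg k X L 1 :=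
    lt_of_le_of_ne hle (fun h => hι (hiso h))
  obtain ⟨m, hmdef⟩ : ∃ m : ℕ, Module.finrank k (Coh.HH X M 0) = m + 1 :=
    ⟨Module.finrank k (Coh.HH X M 0) - 1, by omega⟩
  have hm1 : 1 ≤ m := by omega
  have key := Groth.Agent.S19204.strict_slope k X hdim hg (Curv2.deg k X L 1) hdeg M hM m hm1
    (by omega) hle (Or.inl hlt)
  rw [hmdef]
  push_cast
  have e1 : ((m : ℤ) + 1 - 1) = (m : ℤ) := by ring
  have e2 : (Module.finrank k (Coh.HH X L 0) : ℤ) - 1 =
      Curv2.deg k X L 1 - (Curv2.genus k X : ℤ) := by linarith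
  rw [e1, e2]
  exact key

end Groth.Agent.S16966
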