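import Groth.Statements.S16979
import Mathlib

set_option autoImplicit false
universe u v
open CAlg

namespace Groth.Agent.S16979

open Polynomial Matrix in
theorem aeval_mulVec_of_eigen {L : Type*} [Field L] {n : Type*} [Fintype n] [DecidableEq n]
    (M : Matrix n n L) (v : n → L) (μ : L) (h : M *ᵥ v = μ • v) (p : L[X]) :
    (Polynomial.aeval M p) *ᵥ v = p.eval μ • v := by
  have hpow : ∀ k : ℕ, (M ^ k) *ᵥ v = μ ^ k • v := by
    intro k
    induction k with
    | zero => simp
    | succ k ih =>
      rw [pow_succ, ← Matrix.mulVec_mulVec, h, Matrix.mulVec_smul, ih, smul_smul, pow_succ,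
        mul_comm]
  induction p using Polynomial.induction_on' with
  | add p q hp hq => rw [map_add, Matrix.add_mulVec, hp, hq, eval_add, add_smul]
  | monomial k a =>
    rw [Polynomial.aeval_monomial, eval_monomial, ← Algebra.smul_def, Matrix.smul_mulVec, hpow,
      smul_smul]

open Polynomial Matrix in
theorem eq_zero_of_aeval_eq_zero_of_natDegree_lt {L : Type*} [Field L] [IsAlgClosed L]
    {n : Type*} [Fintype n] [DecidableEq n]
    (M : Matrix n n L) (hsep : M.charpoly.Separable) (r : L[X]) (hr : Polynomial.aeval M r = 0)
    (hdeg : r.natDegree < M.charpoly.natDegree) : r = 0 := by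
  classical
  refine Polynomial.eq_zero_of_natDegree_lt_card_of_eval_eq_zero' r M.charpoly.roots.toFinset ?_ ?_
  · intro μ hμ
    rw [Multiset.mem_toFinset, Polynomial.mem_roots (Matrix.charpoly_monic M).ne_zero,
      Polynomial.IsRoot.def, Matrix.eval_charpoly] at hμ
    obtain ⟨v, hv0, hv⟩ := Matrix.exists_mulVec_eq_zero_iff.mpr hμ
    have h1 : M *ᵥ v = μ • v := by
      rw [Matrix.sub_mulVec, sub_eq_zero] at hv
      rw [← hv]
      simp [Matrix.scalar_apply]
    have h2 := aeval_mulVec_of_eigen M v μ h1 r
    rw [hr, Matrix.zero_mulVec] at h2
    by_contra hne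
    apply hv0
    have := (smul_eq_zero.mp h2.symm)
    rcases this with h | h
    · exact absurd h hne
    · exact h
  · rw [Multiset.toFinset_card_of_nodup (Polynomial.nodup_roots hsep),
      IsAlgClosed.card_roots_eq_natDegree]
    exact hdeg

/-- Let R be an integral domain with fraction field K and φ a square matrix over R whose characteristic
polynomial becomes separable in K[T] (equivalently, K[T] modulo the characteristic polynomial is
geometrically reduced over K). Then a polynomial f over R satisfies f(φ) = 0 exactly when the
characteristic polynomial of φ divides f in R[T]: the kernel of evaluation at φ (the minimal ideal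
of φ) is the principal ideal generated by the characteristic polynomial. -/
theorem result
    {R : Type u} [CommRing R] [IsDomain R] {n : Type v} [Fintype n] [DecidableEq n]
    (φ : Matrix n n R)
    (hsep : (φ.charpoly.map (algebraMap R (FractionRing R))).Separable) :
    RingHom.ker (Polynomial.aeval (R := R) φ) = Ideal.span {φ.charpoly} := by
  classical
  apply le_antisymm
  · intro f hf
    rw [RingHom.mem_ker] at hf
    rw [Ideal.mem_span_singleton]
    have hmon : φ.charpoly.Monic := Matrix.charpoly_monic φ
    set r := f %ₘ φ.charpoly with hr
    have hdiv : r + φ.charpoly * (f /ₘ φ.charpoly) = f := Polynomial.modByMonic_add_div f φ.charpoly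
    have hr0 : Polynomial.aeval φ r = 0 := by
      have := congrArg (Polynomial.aeval φ) hdiv
      rw [map_add, map_mul, Matrix.aeval_self_charpoly, zero_mul, add_zero, hf] at this
      exact this
    -- pass to the algebraic closure of the fraction field
    let K := FractionRing R
    let L := AlgebraicClosure K
    let g : R →+* L := (algebraMap K L).comp (algebraMap R K)
    have hginj : Function.Injective g :=
      (algebraMap K L).injective.comp (IsFractionRing.injective R K)
    have hcharL : (φ.map g).charpoly = φ.charpoly.map g := Matrix.charpoly_map φ g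
    have hsepL : (φ.map g).charpoly.Separable := by
      rw [hcharL, ← Polynomial.map_map]
      exact hsep.map
    have hrL : Polynomial.aeval (φ.map g) (r.map g) = 0 := by
      have := Polynomial.map_aeval_eq_aeval_map (φ := g) (ψ := g.mapMatrix (m := n))
        (S := Matrix n n R) (U := Matrix n n L) (by
          ext a i j
          simp [Matrix.algebraMap_matrix_apply, apply_ite g]) r φ
      rw [hr0, map_zero] at this
      exact this.symm
    have hr1 : r = 0 := by
      by_contra hr1
      have hdegL : (r.map g).natDegree < (φ.map g).charpoly.natDegree := by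
        rw [hcharL, Polynomial.natDegree_map_eq_of_injective hginj,
          Polynomial.natDegree_map_eq_of_injective hginj]
        refine Polynomial.natDegree_modByMonic_lt f hmon ?_
        intro h1
        apply hr1
        rw [hr, h1, Polynomial.modByMonic_one]
      have hz := eq_zero_of_aeval_eq_zero_of_natDegree_lt (φ.map g) hsepL (r.map g) hrL hdegL
      apply hr1
      apply Polynomial.map_injective g hginj
      rw [hz, Polynomial.map_zero]
    rw [hr1, zero_add] at hdiv
    exact ⟨_, hdiv.symm⟩
  · rw [Ideal.span_le]
    intro f hf
    rw [Set.mem_singleton_iff] at hf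
    rw [hf, SetLike.mem_coe, RingHom.mem_ker]
    exact Matrix.aeval_self_charpoly φ

end Groth.Agent.S16979
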