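import Groth.Statements.S16981
import Groth.Agent.S0545
import Groth.Agent.Lib.Helper8.HenselNil
import Groth.Agent.Lib.Helper15.ComplNoeth

set_option autoImplicit false
universe u v
open CAlg

namespace Groth.Agent.S16981

/-- Let A be a complete Noetherian local ring and f : E → A a surjective ring homomorphism whose kernel
has square zero and is finitely generated (equivalently, is a finite A-module for the induced module
structure). Then E is separated and complete for the adic topology of the inverse image of the
maximal ideal of A. (The published statement takes A to be the completion of a local ring of a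
scheme of finite type over an Artinian local ring and the kernel the completion of a finite module;
this row assumes only that A is complete Noetherian local and the kernel finitely generated.) -/
theorem result
    {A : Type u} {E : Type v} [CommRing A] [CommRing E] [IsNoetherianRing A] [IsLocalRing A]
    [IsAdicComplete (IsLocalRing.maximalIdeal A) A]
    (f : E →+* A) (hf : Function.Surjective f)
    (hsq : RingHom.ker f ^ 2 = ⊥) (hfg : (RingHom.ker f).FG) :
    IsAdicComplete ((IsLocalRing.maximalIdeal A).comap f) E := by
  classical
  haveI hJ : IsAdicComplete (RingHom.ker f) E :=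
    Groth.Agent.Lib.Helper8.isAdicComplete_of_pow_eq_bot _ 2 hsq
  haveI : IsNoetherianRing (E ⧸ RingHom.ker f) :=
    isNoetherianRing_of_ringEquiv A (RingHom.quotientKerEquivOfSurjective hf).symm
  haveI : IsNoetherianRing E :=
    Groth.Agent.Lib.Helper15.CN.isNoetherianRing_of_fg_of_complete (RingHom.ker f) hfg
  letI : Algebra E A := f.toAlgebra
  have hmap : ((IsLocalRing.maximalIdeal A).comap f).map (algebraMap E A) =
      IsLocalRing.maximalIdeal A := Ideal.map_comap_of_surjective f hf _
  haveI hA : IsAdicComplete ((IsLocalRing.maximalIdeal A).comap f) A := by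
    have h1 : IsAdicComplete (((IsLocalRing.maximalIdeal A).comap f).map (algebraMap E A)) A := by
      rw [hmap]
      infer_instance
    exact (IsAdicComplete.map_algebraMap_iff (S := A)
      ((IsLocalRing.maximalIdeal A).comap f) A).mp h1
  have hle : RingHom.ker f ≤ LinearMap.ker (Algebra.linearMap E A) := by
    intro x hx
    rw [LinearMap.mem_ker, Algebra.linearMap_apply]
    exact RingHom.mem_ker.mp hx
  let g : (E ⧸ RingHom.ker f) →ₗ[E] A :=
    Submodule.liftQ (RingHom.ker f) (Algebra.linearMap E A) hle
  have hg : ∀ x, g (Ideal.Quotient.mk _ x) = f x := fun x => rfl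
  have hginj : Function.Injective g := by
    rw [injective_iff_map_eq_zero]
    intro y hy
    obtain ⟨x, rfl⟩ := Ideal.Quotient.mk_surjective y
    rw [hg] at hy
    exact Ideal.Quotient.eq_zero_iff_mem.mpr (RingHom.mem_ker.mpr hy)
  have hgsurj : Function.Surjective g := fun a => by
    obtain ⟨x, rfl⟩ := hf a
    exact ⟨Ideal.Quotient.mk _ x, hg x⟩
  let ge : (E ⧸ RingHom.ker f) ≃ₗ[E] A := LinearEquiv.ofBijective g ⟨hginj, hgsurj⟩
  haveI hH : IsHausdorff ((IsLocalRing.maximalIdeal A).comap f) (E ⧸ RingHom.ker f) := by
    refine ⟨fun x hx => hginj ?_⟩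
    rw [map_zero]
    apply IsHausdorff.haus
      (inferInstance : IsHausdorff ((IsLocalRing.maximalIdeal A).comap f) A)
    intro n
    have h := hx n
    rw [SModEq.zero] at h ⊢
    exact Groth.Agent.S0545.map_mem_smul_top _ g h
  haveI hP : IsPrecomplete ((IsLocalRing.maximalIdeal A).comap f) (E ⧸ RingHom.ker f) :=
    Groth.Agent.S0545.isPrecomplete_of_surjective _ ge.symm.toLinearMap ge.symm.surjective
      inferInstance
  haveI hQ : IsAdicComplete ((IsLocalRing.maximalIdeal A).comap f) (E ⧸ RingHom.ker f) := {}
  haveI : IsAdicComplete (((IsLocalRing.maximalIdeal A).comap f).map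
      (Ideal.Quotient.mk (RingHom.ker f))) (E ⧸ RingHom.ker f) :=
    (IsAdicComplete.map_algebraMap_iff (S := E ⧸ RingHom.ker f)
      ((IsLocalRing.maximalIdeal A).comap f) (E ⧸ RingHom.ker f)).mpr hQ
  exact Groth.Agent.S0545.result E (RingHom.ker f) _

end Groth.Agent.S16981
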