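import Groth.Statements.S16982
import Mathlib
import Groth.Agent.S16981
import Groth.Agent.Lib.Helper7.PowSerCRing

set_option autoImplicit false
universe u v w w'
open CAlg

namespace Groth.Agent.S16982


namespace H16982
open MvPowerSeries IsLocalRing
open Groth.Agent.Lib.Helper7.PowSerCRing

theorem eq_of_forall_mk_eq {R : Type*} [CommRing R] (I : Ideal R) [IsHausdorff I R] {a b : R}
    (h : ∀ j : ℕ, Ideal.Quotient.mk (I ^ j) a = Ideal.Quotient.mk (I ^ j) b) : a = b := by
  rw [← sub_eq_zero]
  apply IsHausdorff.haus (inferInstance : IsHausdorff I R)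
  intro n
  rw [SModEq.zero, smul_eq_mul, Ideal.mul_top, ← Ideal.Quotient.eq]
  exact h n

theorem main {R : Type*} [CommRing R] {σ : Type*} [Finite σ]
    {A : Type*} {E : Type*} [CommRing A] [CommRing E] [Algebra R A] [Algebra R E]
    [IsNoetherianRing A] [IsLocalRing A] [IsAdicComplete (maximalIdeal A) A]
    (π : MvPowerSeries σ R →ₐ[R] A) (hπ : Function.Surjective π)
    (f : E →ₐ[R] A) (hf : Function.Surjective f)
    (hsq : RingHom.ker f.toRingHom ^ 2 = ⊥) (hfg : (RingHom.ker f.toRingHom).FG) :
    ∃ l : MvPowerSeries σ R →ₐ[R] E, f.comp l = π := by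
  classical
  haveI := Fintype.ofFinite σ
  obtain ⟨I, hI⟩ : ∃ I : Ideal E, I = (maximalIdeal A).comap f.toRingHom := ⟨_, rfl⟩
  haveI hcomp : IsAdicComplete I E := by
    rw [hI]; exact Groth.Agent.S16981.result f.toRingHom hf hsq hfg
  have hπX : ∀ i, π (X i) ∈ maximalIdeal A := by
    intro i
    by_contra hnot
    have hu : IsUnit (π (X i)) := by
      by_contra h; exact hnot ((mem_maximalIdeal _).2 (mem_nonunits_iff.2 h))
    obtain ⟨a, ha⟩ := isUnit_iff_exists_inv.1 hu
    obtain ⟨g, rfl⟩ := hπ a
    have h1 : IsUnit (1 - X i * g : MvPowerSeries σ R) := by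
      rw [MvPowerSeries.isUnit_iff_constantCoeff, map_sub, map_one, map_mul, constantCoeff_X,
        zero_mul, sub_zero]
      exact isUnit_one
    have h2 := h1.map π
    rw [map_sub, map_one, map_mul, ha, sub_self] at h2
    exact not_isUnit_zero h2
  choose e he using fun i => hf (π (X i))
  have heI : ∀ i, e i ∈ I := fun i => by
    rw [hI, Ideal.mem_comap]
    change f (e i) ∈ _
    rw [he]; exact hπX i
  have hnil : ∀ n i, IsNilpotent (Ideal.Quotient.mk (I ^ n) (e i)) := by
    intro n i
    refine ⟨n, ?_⟩
    rw [← map_pow, Ideal.Quotient.eq_zero_iff_mem]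
    exact Ideal.pow_mem_pow (heI i) n
  choose ψ hψC hψX using fun n => exists_evNil (R := R)
    ((Ideal.Quotient.mk (I ^ n)).comp (algebraMap R E))
    (fun i => Ideal.Quotient.mk (I ^ n) (e i)) (hnil n)
  have hcompat : ∀ {m n : ℕ} (hle : m ≤ n),
      (Ideal.Quotient.factorPow I hle).comp (ψ n) = ψ m := by
    intro m n hle
    apply evNil_unique
    · intro r
      rw [RingHom.comp_apply, hψC, hψC, RingHom.comp_apply, RingHom.comp_apply,
        Ideal.Quotient.factor_mk]
    · intro i
      rw [RingHom.comp_apply, hψX, hψX, Ideal.Quotient.factor_mk]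
    · intro i
      rw [RingHom.comp_apply, hψX, Ideal.Quotient.factor_mk]
      exact hnil m i
  obtain ⟨l₀, hl₀⟩ : ∃ l₀ : MvPowerSeries σ R →+* E,
      l₀ = IsAdicComplete.liftRingHom I ψ hcompat := ⟨_, rfl⟩
  have hmk : ∀ n x, Ideal.Quotient.mk (I ^ n) (l₀ x) = ψ n x := fun n x => by
    rw [hl₀]; exact IsAdicComplete.mk_liftRingHom I ψ hcompat n x
  have hl₀C : ∀ r, l₀ (C r) = algebraMap R E r := by
    intro r
    apply eq_of_forall_mk_eq I
    intro n
    rw [hmk, hψC]; rfl
  have hl₀X : ∀ i, l₀ (X i) = e i := by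
    intro i
    apply eq_of_forall_mk_eq I
    intro n
    rw [hmk, hψX]
  obtain ⟨l, hl⟩ : ∃ l : MvPowerSeries σ R →ₐ[R] E, ∀ x, l x = l₀ x := by
    refine ⟨{ l₀ with commutes' := fun r => ?_ }, fun x => rfl⟩
    change l₀ (algebraMap R (MvPowerSeries σ R) r) = _
    rw [MvPowerSeries.algebraMap_apply, Algebra.algebraMap_self, RingHom.id_apply, hl₀C]
  refine ⟨l, ?_⟩
  apply AlgHom.ext
  intro x
  rw [AlgHom.comp_apply, hl]
  apply eq_of_forall_mk_eq (maximalIdeal A)
  intro n
  have hθ : (Ideal.Quotient.mk (maximalIdeal A ^ n)).comp (f.toRingHom.comp l₀) =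
      (Ideal.Quotient.mk (maximalIdeal A ^ n)).comp π.toRingHom := by
    apply evNil_unique
    · intro r
      rw [RingHom.comp_apply, RingHom.comp_apply, RingHom.comp_apply, hl₀C]
      congr 1
      change f (algebraMap R E r) = π (C r)
      rw [f.commutes]
      have : (C r : MvPowerSeries σ R) = algebraMap R (MvPowerSeries σ R) r := by
        rw [MvPowerSeries.algebraMap_apply, Algebra.algebraMap_self, RingHom.id_apply]
      rw [this, π.commutes]
    · intro i
      rw [RingHom.comp_apply, RingHom.comp_apply, RingHom.comp_apply, hl₀X]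
      congr 1
      exact he i
    · intro i
      rw [RingHom.comp_apply, RingHom.comp_apply, hl₀X]
      refine ⟨n, ?_⟩
      rw [← map_pow, Ideal.Quotient.eq_zero_iff_mem]
      apply Ideal.pow_mem_pow
      change f (e i) ∈ _
      rw [he]; exact hπX i
  exact RingHom.congr_fun hθ x

end H16982

/-- Let R be a commutative ring, A a complete Noetherian local R-algebra written as a quotient of a
power series ring over R in finitely many variables by a surjective R-algebra map π, and f : E → A a
surjective R-algebra map whose kernel has square zero and is finitely generated. Then π lifts along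
f to an R-algebra map λ from the power series ring to E with f ∘ λ = π. (The published statement
takes R Artinian local and asks for a lift that is continuous for the adic topologies; this row
allows any commutative R and asks for any lift.) -/
theorem result
    {R : Type u} [CommRing R] {σ : Type v} [Finite σ]
    {A : Type w} {E : Type w'} [CommRing A] [CommRing E] [Algebra R A] [Algebra R E]
    [IsNoetherianRing A] [IsLocalRing A] [IsAdicComplete (IsLocalRing.maximalIdeal A) A]
    (π : MvPowerSeries σ R →ₐ[R] A) (hπ : Function.Surjective π)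
    (f : E →ₐ[R] A) (hf : Function.Surjective f)
    (hsq : RingHom.ker f.toRingHom ^ 2 = ⊥) (hfg : (RingHom.ker f.toRingHom).FG) :
    ∃ l : MvPowerSeries σ R →ₐ[R] E, f.comp l = π := by
  exact H16982.main π hπ f hf hsq hfg

end Groth.Agent.S16982
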