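import Groth.Statements.S16983
import Mathlib

set_option autoImplicit false
universe u
open DeformData

namespace Groth.Agent.S16983

/-- Let p be a prime, s ≥ 1, B a finite index set with a subset B₀ of exactly three elements, m_j ≥ 1
integers coprime to p, and σ_{i,j} (i < s, j ∈ B) rational numbers with m_j σ_{i,j} an integer, such
that Σ_j (σ_{i,j} − 1) = −2 for every i, the fractional part of σ_{i,j} equals that of p^i σ_{0,j},
no σ_{i,j} equals 1, and the minimum over i of ⌊σ_{i,j}⌋ is 0 for j ∈ B₀ and 1 for j ∉ B₀. Then for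
every i the fractional parts ⟨σ_{i,j}⟩ sum over j to 1 (purity), and ⌊σ_{i,j}⌋ is 0 on B₀ and 1 off
B₀ for every i. (The hypotheses are exactly the properties of the signature of a special deformation
datum on the projective line: each entry is an integer divided by a stabilizer order m_j in a group
of order prime to p, the degree identity coming from Riemann–Hurwitz, the Frobenius-twist relation
between fractional parts, and the speciality conditions; the statement is given here for any such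
tuple.) -/
theorem result
    {B : Type u} [Fintype B] [DecidableEq B] (B₀ : Finset B) (hB₀ : B₀.card = 3)
    (p : ℕ) (hp : p.Prime) (s : ℕ) (hs : 0 < s)
    (m : B → ℕ) (hm : ∀ j, 0 < m j) (hmp : ∀ j, Nat.Coprime (m j) p)
    (σ : Fin s → B → ℚ) (hint : ∀ i j, ∃ h : ℤ, σ i j = (h : ℚ) / (m j : ℚ))
    (hsum : ∀ i, ∑ j, (σ i j - 1) = -2)
    (hfract : ∀ i j, Int.fract (σ i j) = Int.fract ((p : ℚ) ^ (i : ℕ) * σ ⟨0, hs⟩ j))
    (hne : ∀ i j, σ i j ≠ 1)
    (hB₀min : ∀ j ∈ B₀, (∃ i, ⌊σ i j⌋ = 0) ∧ ∀ i, 0 ≤ ⌊σ i j⌋)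
    (hBmin : ∀ j ∉ B₀, (∃ i, ⌊σ i j⌋ = 1) ∧ ∀ i, 1 ≤ ⌊σ i j⌋) :
    (∀ i, ∑ j, Int.fract (σ i j) = 1) ∧ (∀ i j, ⌊σ i j⌋ = if j ∈ B₀ then 0 else 1) := by
  classical
  set n : ℤ := (Fintype.card B : ℤ) with hn
  let c : B → ℤ := fun j => if j ∈ B₀ then 0 else 1
  have hc_le : ∀ i j, c j ≤ ⌊σ i j⌋ := by
    intro i j
    by_cases hj : j ∈ B₀
    · simp only [c, hj, if_true]; exact (hB₀min j hj).2 i
    · simp only [c, hj, if_false]; exact (hBmin j hj).2 i
  have hc_sum : ∑ j, c j = n - 3 := by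
    have h1 : ∀ j, c j = 1 - (if j ∈ B₀ then 1 else 0) := by
      intro j; by_cases hj : j ∈ B₀ <;> simp [c, hj]
    simp only [h1, Finset.sum_sub_distrib, Finset.sum_const, Finset.card_univ, nsmul_eq_mul,
      mul_one, Finset.sum_boole]
    have h2 : (Finset.univ.filter (fun j => j ∈ B₀)) = B₀ := by
      ext j; simp
    rw [h2, hB₀]
    simp [hn]
  have hsumσ : ∀ i, ∑ j, σ i j = (n : ℚ) - 2 := by
    intro i
    have h := hsum i
    rw [Finset.sum_sub_distrib] at h
    simp only [Finset.sum_const, Finset.card_univ, nsmul_eq_mul, mul_one] at h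
    have : (n : ℚ) = (Fintype.card B : ℚ) := by simp [hn]
    linarith
  have hsplit : ∀ i, (∑ j, (⌊σ i j⌋ : ℚ)) + ∑ j, Int.fract (σ i j) = (n : ℚ) - 2 := by
    intro i
    rw [← Finset.sum_add_distrib, ← hsumσ i]
    exact Finset.sum_congr rfl (fun j _ => Int.floor_add_fract _)
  have hN : ∀ i, n - 3 ≤ ∑ j, ⌊σ i j⌋ := by
    intro i
    rw [← hc_sum]
    exact Finset.sum_le_sum (fun j _ => hc_le i j)
  have hF : ∀ i, ∑ j, Int.fract (σ i j) = 1 := by
    intro i
    have hF0 : 0 ≤ ∑ j, Int.fract (σ i j) := Finset.sum_nonneg (fun j _ => Int.fract_nonneg _)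
    set k : ℤ := n - 2 - ∑ j, ⌊σ i j⌋ with hk
    have hFeq : ∑ j, Int.fract (σ i j) = (k : ℚ) := by
      rw [hk]; push_cast; linarith [hsplit i]
    have hk0 : 0 ≤ k := by
      have : (0 : ℚ) ≤ (k : ℚ) := hFeq ▸ hF0
      exact_mod_cast this
    have hk1 : k ≤ 1 := by have := hN i; omega
    rcases (by omega : k = 0 ∨ k = 1) with hk' | hk'
    · exfalso
      have hfz : ∀ j, Int.fract (σ i j) = 0 := by
        have h0 : ∑ j, Int.fract (σ i j) = 0 := by rw [hFeq, hk']; simp
        have := (Finset.sum_eq_zero_iff_of_nonneg (fun j _ => Int.fract_nonneg (σ i j))).mp h0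
        intro j; exact this j (Finset.mem_univ j)
      have h0int : ∀ j, ∃ z : ℤ, σ ⟨0, hs⟩ j = (z : ℚ) := by
        intro j
        have h1 := hfract i j
        rw [hfz j] at h1
        obtain ⟨h, hh⟩ := hint ⟨0, hs⟩ j
        have hm0 : (m j : ℚ) ≠ 0 := by exact_mod_cast (hm j).ne'
        -- w = p^i * σ0j is an integer
        set x : ℚ := (p : ℚ) ^ (i : ℕ) * σ ⟨0, hs⟩ j with hx
        have hxw : x = (⌊x⌋ : ℚ) := by
          have := Int.floor_add_fract x
          rw [← h1, add_zero] at this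
          exact this.symm
        have hdiv : (m j : ℤ) ∣ (p : ℤ) ^ (i : ℕ) * h := by
          refine ⟨⌊x⌋, ?_⟩
          have : ((p : ℚ) ^ (i : ℕ) * h : ℚ) = (m j : ℚ) * (⌊x⌋ : ℚ) := by
            rw [← hxw, hx, hh]; field_simp
          exact_mod_cast this
        have hcop : IsCoprime (m j : ℤ) ((p : ℤ) ^ (i : ℕ)) := by
          have : Nat.Coprime (m j) (p ^ (i : ℕ)) := Nat.Coprime.pow_right _ (hmp j)
          exact_mod_cast Nat.isCoprime_iff_coprime.mpr this
        have hdvd : (m j : ℤ) ∣ h := hcop.dvd_of_dvd_mul_left hdiv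
        obtain ⟨q, hq⟩ := hdvd
        refine ⟨q, ?_⟩
        rw [hh, hq]; push_cast; field_simp
      have hall : ∀ i' j, Int.fract (σ i' j) = 0 := by
        intro i' j
        rw [hfract i' j]
        obtain ⟨z, hz⟩ := h0int j
        rw [hz]
        have : ((p : ℚ) ^ (i' : ℕ) * (z : ℚ)) = ((p ^ (i' : ℕ) * z : ℤ) : ℚ) := by push_cast; ring
        rw [this, Int.fract_intCast]
      have hσfloor : ∀ i' j, σ i' j = (⌊σ i' j⌋ : ℚ) := by
        intro i' j
        have := Int.floor_add_fract (σ i' j)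
        rw [hall i' j, add_zero] at this
        exact this.symm
      have hB : ∀ j, j ∈ B₀ := by
        intro j
        by_contra hj
        obtain ⟨i', hi'⟩ := (hBmin j hj).1
        apply hne i' j
        rw [hσfloor i' j, hi']; simp
      have hn3 : n = 3 := by
        have : B₀ = Finset.univ := Finset.eq_univ_iff_forall.mpr hB
        rw [hn, ← Finset.card_univ, ← this, hB₀]; rfl
      have hNi : ∑ j, ⌊σ i j⌋ = 1 := by omega
      have hfl0 : ∀ j, 0 ≤ ⌊σ i j⌋ := fun j => (hB₀min j (hB j)).2 i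
      have hfl1 : ∀ j, ⌊σ i j⌋ ≠ 1 := by
        intro j hj1
        apply hne i j
        rw [hσfloor i j, hj1]; simp
      -- a sum of nonnegative integers none of which is 1 cannot be 1
      by_cases hex : ∃ j, 2 ≤ ⌊σ i j⌋
      · obtain ⟨j, hj⟩ := hex
        have : ⌊σ i j⌋ ≤ ∑ j, ⌊σ i j⌋ :=
          Finset.single_le_sum (fun j _ => hfl0 j) (Finset.mem_univ j)
        omega
      · push Not at hex
        have hz : ∀ j, ⌊σ i j⌋ = 0 := by
          intro j
          have h1 := hfl0 j; have h2 := hfl1 j; have h3 := hex j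
          omega
        simp [hz] at hNi
    · rw [hFeq, hk']; simp
  refine ⟨hF, ?_⟩
  intro i j
  -- sums equal and termwise ≥ gives termwise equality
  have hNeq : ∑ j, ⌊σ i j⌋ = ∑ j, c j := by
    rw [hc_sum]
    have h1 := hsplit i
    rw [hF i] at h1
    have : ((∑ j, ⌊σ i j⌋ : ℤ) : ℚ) = ((n - 3 : ℤ) : ℚ) := by push_cast; linarith
    exact_mod_cast this
  have := (Finset.sum_eq_sum_iff_of_le (fun j _ => hc_le i j)).mp hNeq.symm j (Finset.mem_univ j)
  exact this.symm

end Groth.Agent.S16983
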