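import Groth.Statements.S16984
import Mathlib

set_option autoImplicit false
universe u v w
open Hoch

namespace Groth.Agent.S16984

open TensorProduct in
/-- Let k be a commutative ring, A a commutative k-bialgebra that is flat over k (the coordinate ring of
a flat affine group scheme over Spec k; flatness and commutativity are the standing hypotheses of
the appendix and are not needed for the assertion) and P a k-module. Then p ↦ p ⊗ 1 is an injection
of P into the induced comodule P ⊗ A (coaction id ⊗ Δ) whose image is exactly the submodule of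
invariants, i.e. the elements with coaction x ↦ x ⊗ 1. (The published statement writes the
coordinate-ring factor on the left and calls this module coinduced; this row is its degree-zero
part, the identification of P with the invariants of the coinduced module.) -/
theorem result (k : Type u) [CommRing k] (A : Type v) [CommRing A] [Bialgebra k A]
    [Module.Flat k A] (P : Type w) [AddCommGroup P] [Module k P] :
    Function.Injective ((Hoch.Ind.equiv k A P).toLinearMap ∘ₗ (TensorProduct.mk k P A).flip (1 : A)) ∧
    LinearMap.range ((Hoch.Ind.equiv k A P).toLinearMap ∘ₗ (TensorProduct.mk k P A).flip (1 : A)) =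
      HopfRep.fixedPts k A (Hoch.Ind k A P) := by
  -- the retraction `T : (P ⊗ A) ⊗ A → P ⊗ A`, `(p ⊗ a) ⊗ b ↦ p ⊗ ε(a) b`
  set T : (P ⊗[k] A) ⊗[k] A →ₗ[k] P ⊗[k] A :=
    (LinearMap.lTensor P ((TensorProduct.lid k A).toLinearMap ∘ₗ
      (Coalgebra.counit (R := k) (A := A)).rTensor A)) ∘ₗ
      (TensorProduct.assoc k P A A).toLinearMap with hT
  have hT1 : ∀ x : P ⊗[k] A, T (Hoch.Ind.coactAux k A P x) = x := by
    intro x
    induction x using TensorProduct.induction_on with
    | zero => simp
    | add x y hx hy => rw [map_add, map_add, hx, hy]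
    | tmul p a =>
      rw [Hoch.Ind.coactAux_tmul, hT]
      simp only [LinearMap.comp_apply, LinearEquiv.coe_coe, LinearEquiv.apply_symm_apply,
        LinearMap.lTensor_tmul]
      have := Coalgebra.rTensor_counit_comul (R := k) a
      rw [this]
      simp
  have hT2 : ∀ x : P ⊗[k] A, T (x ⊗ₜ[k] (1 : A)) =
      (Hoch.Ind.counit k A P (Hoch.Ind.equiv k A P x)) ⊗ₜ[k] (1 : A) := by
    intro x
    induction x using TensorProduct.induction_on with
    | zero => simp
    | add x y hx hy => rw [TensorProduct.add_tmul, map_add, hx, hy, map_add, map_add,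
        TensorProduct.add_tmul]
    | tmul p a =>
      rw [Hoch.Ind.counit_equiv_tmul, hT]
      simp only [LinearMap.comp_apply, LinearEquiv.coe_coe, TensorProduct.assoc_tmul,
        LinearMap.lTensor_tmul, LinearMap.rTensor_tmul, TensorProduct.lid_tmul]
      rw [TensorProduct.smul_tmul]
  refine ⟨?_, ?_⟩
  · intro p p' h
    have h' := congrArg (Hoch.Ind.counit k A P) h
    simpa using h'
  · apply le_antisymm
    · rintro _ ⟨p, rfl⟩
      change HopfRep.Comod.coact (k := k) (A := A) (V := Hoch.Ind k A P) _ = _
      simp only [LinearMap.comp_apply, LinearMap.flip_apply, TensorProduct.mk_apply,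
        LinearEquiv.coe_coe]
      rw [Hoch.Ind.coact_equiv_tmul, Bialgebra.comul_one, Algebra.TensorProduct.one_def,
        TensorProduct.assoc_symm_tmul]
      rfl
    · intro x hx
      have hx' : Hoch.Ind.coactAux k A P ((Hoch.Ind.equiv k A P).symm x) =
          ((Hoch.Ind.equiv k A P).symm x) ⊗ₜ[k] (1 : A) := hx
      have h1 := hT1 ((Hoch.Ind.equiv k A P).symm x)
      rw [hx', hT2] at h1
      refine ⟨Hoch.Ind.counit k A P x, ?_⟩
      simp only [LinearMap.comp_apply, LinearMap.flip_apply, TensorProduct.mk_apply,
        LinearEquiv.coe_coe]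
      rw [LinearEquiv.apply_symm_apply] at h1
      rw [h1, LinearEquiv.apply_symm_apply]

end Groth.Agent.S16984
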