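import Groth.Statements.S16985
import Mathlib

set_option autoImplicit false
universe u v
open Hoch

namespace Groth.Agent.S16985

open TensorProduct Hoch

section
variable (k : Type u) [CommRing k] (A : Type v) [CommRing A] [Bialgebra k A]
  (P : Type v) [AddCommGroup P] [Module k P]

/-- `(p ⊗ a₀) ⊗ a₁ ↦ p ⊗ ε(a₀) a₁`. -/
noncomputable def s0 : (P ⊗[k] A) ⊗[k] A →ₗ[k] P ⊗[k] A :=
  (LinearMap.lTensor P ((TensorProduct.lid k A).toLinearMap ∘ₗ
      (Coalgebra.counit (R := k) (A := A)).rTensor A)) ∘ₗ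
      (TensorProduct.assoc k P A A).toLinearMap

theorem s0_tmul (p : P) (a b : A) :
    s0 k A P ((p ⊗ₜ[k] a) ⊗ₜ[k] b) = p ⊗ₜ[k] (Coalgebra.counit (R := k) a • b) := by
  simp [s0]

/-- clean copy of the coaction of the induced comodule -/
noncomputable def co : P ⊗[k] A →ₗ[k] (P ⊗[k] A) ⊗[k] A :=
  (TensorProduct.assoc k P A A).symm.toLinearMap ∘ₗ (Coalgebra.comul (R := k) (A := A)).lTensor P

theorem co_tmul (p : P) (a : A) :
    co k A P (p ⊗ₜ a) = (TensorProduct.assoc k P A A).symm (p ⊗ₜ Coalgebra.comul (R := k) a) := rfl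

/-- clean copy of `tail` -/
noncomputable def tl :
    (P ⊗[k] A) ⊗[k] A →ₗ[k] ((P ⊗[k] A) ⊗[k] A) ⊗[k] A := tail k A (P ⊗[k] A)

theorem tl_tmul (m : P ⊗[k] A) (a : A) :
    tl k A P (m ⊗ₜ a) = (TensorProduct.assoc k (P ⊗[k] A) A A).symm
      (m ⊗ₜ (Coalgebra.comul (R := k) a - a ⊗ₜ 1 - 1 ⊗ₜ a)) := rfl

theorem s0_co (x : P ⊗[k] A) : s0 k A P (co k A P x) = x := by
  induction x using TensorProduct.induction_on with
  | zero => simp
  | add x y hx hy => rw [map_add, map_add, hx, hy]
  | tmul p a =>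
    rw [co_tmul, s0]
    simp only [LinearMap.comp_apply, LinearEquiv.coe_coe, LinearEquiv.apply_symm_apply,
      LinearMap.lTensor_tmul]
    have := Coalgebra.rTensor_counit_comul (R := k) a
    rw [this]
    simp

theorem s0_assoc_symm_comul (p : P) (a : A) :
    s0 k A P ((TensorProduct.assoc k P A A).symm (p ⊗ₜ Coalgebra.comul (R := k) a)) = p ⊗ₜ a := by
  rw [← co_tmul, s0_co]

theorem s0_rTensor_assoc_symm (p : P) (a : A) (z : A ⊗[k] A) :
    ((s0 k A P).rTensor A) ((TensorProduct.assoc k (P ⊗[k] A) A A).symm ((p ⊗ₜ[k] a) ⊗ₜ[k] z)) =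
      (TensorProduct.assoc k P A A).symm (p ⊗ₜ[k] (Coalgebra.counit (R := k) a • z)) := by
  induction z using TensorProduct.induction_on with
  | zero => simp
  | add x y hx hy => simp only [TensorProduct.tmul_add, map_add, hx, hy, smul_add]
  | tmul b c =>
    simp only [TensorProduct.assoc_symm_tmul, LinearMap.rTensor_tmul, s0_tmul,
      TensorProduct.smul_tmul']

/-- clean `d 0` -/
noncomputable def D0 : P ⊗[k] A →ₗ[k] (P ⊗[k] A) ⊗[k] A :=
  co k A P + (-1 : k) • (TensorProduct.mk k (P ⊗[k] A) A).flip 1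

/-- clean `d 1` -/
noncomputable def D1 : (P ⊗[k] A) ⊗[k] A →ₗ[k] ((P ⊗[k] A) ⊗[k] A) ⊗[k] A :=
  (D0 k A P).rTensor A + (-1 : k) • tl k A P

theorem base_clean :
    D0 k A P ∘ₗ s0 k A P + ((s0 k A P).rTensor A) ∘ₗ D1 k A P = LinearMap.id := by
  apply TensorProduct.ext_threefold
  intro p a₀ a₁
  simp only [D0, D1, LinearMap.add_apply, LinearMap.comp_apply, LinearMap.rTensor_tmul,
    LinearMap.smul_apply, LinearMap.flip_apply, TensorProduct.mk_apply, LinearMap.id_apply,
    map_add, map_smul, TensorProduct.add_tmul, ← TensorProduct.smul_tmul',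
    LinearMap.rTensor_tmul, s0_tmul, co_tmul, s0_assoc_symm_comul, tl_tmul,
    s0_rTensor_assoc_symm]
  simp only [smul_sub, TensorProduct.tmul_sub, map_sub, neg_smul, one_smul,
    TensorProduct.assoc_symm_tmul, TensorProduct.smul_tmul', TensorProduct.neg_tmul]
  abel


theorem tail_natural {M N : Type v} [AddCommGroup M] [Module k M] [AddCommGroup N] [Module k N]
    (f : M →ₗ[k] N) :
    tail k A N ∘ₗ f.rTensor A = (f.rTensor A).rTensor A ∘ₗ tail k A M := by
  have key : ∀ (m : M) (z : A ⊗[k] A), ((f.rTensor A).rTensor A)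
      ((TensorProduct.assoc k M A A).symm (m ⊗ₜ z)) =
      (TensorProduct.assoc k N A A).symm (f m ⊗ₜ z) := by
    intro m z
    induction z using TensorProduct.induction_on with
    | zero => simp
    | add x y hx hy => simp only [TensorProduct.tmul_add, map_add, hx, hy]
    | tmul a b => simp
  apply TensorProduct.ext'
  intro m a
  simp only [LinearMap.comp_apply, LinearMap.rTensor_tmul, tail_tmul, key]

theorem step {N : Type v} [AddCommGroup N] [Module k N]
    (f : N ⊗[k] A →ₗ[k] N) (g : N →ₗ[k] N ⊗[k] A) (h : N ⊗[k] A →ₗ[k] (N ⊗[k] A) ⊗[k] A)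
    (c c' : k) (hc : c + c' = 0)
    (ih : g ∘ₗ f + f.rTensor A ∘ₗ h = LinearMap.id) :
    (g.rTensor A + c • tail k A N) ∘ₗ f.rTensor A +
      (f.rTensor A).rTensor A ∘ₗ (h.rTensor A + c' • tail k A (N ⊗[k] A)) = LinearMap.id := by
  rw [LinearMap.add_comp, LinearMap.comp_add, LinearMap.smul_comp, LinearMap.comp_smul,
    ← tail_natural, ← LinearMap.rTensor_comp, ← LinearMap.rTensor_comp]
  have e : ∀ (a b c d : (N ⊗[k] A) ⊗[k] A →ₗ[k] (N ⊗[k] A) ⊗[k] A),
      a + b + (c + d) = (a + c) + (b + d) := fun a b c d => by abel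
  rw [e, ← add_smul, hc, zero_smul, add_zero, ← LinearMap.rTensor_add, ih, LinearMap.rTensor_id]


noncomputable def s : (n : ℕ) →
    ((cochain k A (Ind k A P) (n+1) : Type v) →ₗ[k] (cochain k A (Ind k A P) n : Type v))
  | 0 => s0 k A P
  | n+1 => (s n).rTensor A

theorem d0_eq : d k A (Ind k A P) 0 = D0 k A P := by
  refine LinearMap.ext fun (x : P ⊗[k] A) => ?_
  change (co k A P x - x ⊗ₜ[k] (1 : A) : (P ⊗[k] A) ⊗[k] A) =
    co k A P x + (-1 : k) • (x ⊗ₜ[k] (1 : A))
  rw [TensorProduct.smul_tmul', neg_smul, one_smul, TensorProduct.neg_tmul, sub_eq_add_neg]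

theorem d1_eq : d k A (Ind k A P) 1 = D1 k A P := by
  refine (d_succ k A (Ind k A P) 0).trans ?_
  rw [d0_eq]
  simp only [D1, zero_add, pow_one]
  rfl

theorem homotopy : ∀ n : ℕ,
    d k A (Ind k A P) n ∘ₗ s k A P n + s k A P (n+1) ∘ₗ d k A (Ind k A P) (n+1) = LinearMap.id
  | 0 => by
    rw [d0_eq, d1_eq]
    exact base_clean k A P
  | n+1 => by
    have ih := homotopy n
    rw [d_succ k A (Ind k A P) (n+1), d_succ k A (Ind k A P) n]
    exact step k A (s k A P n) (d k A (Ind k A P) n) (d k A (Ind k A P) (n+1))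
      ((-1) ^ (n+1)) ((-1) ^ (n+1+1)) (by ring) ih

end


open TensorProduct in
/-- Let k be a commutative ring, A a commutative k-bialgebra flat over k (the coordinate ring of a flat
affine group scheme over Spec k; flatness and commutativity are the standing hypotheses of the
appendix and are not needed for the assertion) and P a k-module. Then the cochain complex of the
induced comodule P ⊗ A (coaction id ⊗ Δ), with n-cochains (P ⊗ A) ⊗ A ⊗ ⋯ ⊗ A, has every
(n+1)-cocycle an (n+1)-coboundary, for all n. (The published statement is the vanishing of the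
higher derived functors of invariants on coinduced modules; this row states the vanishing in
positive degrees of the cohomology of the cochain complex above, which the same appendix identifies
with those derived functors. P is taken in the universe of A, as the cochain modules require.) -/
theorem result (k : Type u) [CommRing k] (A : Type v) [CommRing A]
    [Bialgebra k A] [Module.Flat k A] (P : Type v) [AddCommGroup P] [Module k P] (n : ℕ) :
    Hoch.cocycles k A (Hoch.Ind k A P) (n + 1) ≤ Hoch.coboundaries k A (Hoch.Ind k A P) (n + 1) := by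
  intro x hx
  have hx' : Hoch.d k A (Hoch.Ind k A P) (n + 1) x = 0 := hx
  have h := LinearMap.congr_fun (homotopy k A P n) x
  rw [LinearMap.add_apply, LinearMap.comp_apply, LinearMap.comp_apply, hx', map_zero, add_zero,
    LinearMap.id_apply] at h
  exact ⟨s k A P n x, h⟩

end Groth.Agent.S16985
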