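import Groth.Statements.S1699
import Groth.Agent.Lib.Helper3.AssPoints

set_option autoImplicit false
universe u
open CategoryTheory CategoryTheory.Limits AlgebraicGeometry TopologicalSpace
open SDiv

namespace Groth.Agent.S1699
open Groth.Agent.Lib.Helper3

section aux
variable {X : Scheme.{u}}

/-- associated points of the structure sheaf on an affine chart -/
theorem isAssociatedPrime_stalk_iff [IsLocallyNoetherian X] {W : X.Opens} (hW : IsAffineOpen W)
    (x : X) (hx : x ∈ W) :
    IsAssociatedPrime (IsLocalRing.maximalIdeal (X.presheaf.stalk x)) (X.presheaf.stalk x) ↔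
      (hW.primeIdealOf ⟨x, hx⟩).asIdeal ∈ associatedPrimes Γ(X, W) Γ(X, W) := by
  have hN : IsNoetherianRing Γ(X, W) := IsLocallyNoetherian.component_noetherian ⟨W, hW⟩
  let _ : Algebra Γ(X, W) (X.presheaf.stalk x) :=
    TopCat.Presheaf.algebra_section_stalk X.presheaf (U := W) ⟨x, hx⟩
  have hloc : IsLocalization.AtPrime (X.presheaf.stalk x) (hW.primeIdealOf ⟨x, hx⟩).asIdeal :=
    hW.isLocalization_stalk ⟨x, hx⟩
  have hcomap : Ideal.comap (algebraMap Γ(X, W) (X.presheaf.stalk x))
      (IsLocalRing.maximalIdeal (X.presheaf.stalk x)) = (hW.primeIdealOf ⟨x, hx⟩).asIdeal :=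
    IsLocalization.AtPrime.under_maximalIdeal (X.presheaf.stalk x)
      (hW.primeIdealOf ⟨x, hx⟩).asIdeal
  have h := Module.associatedPrimes.preimage_comap_associatedPrimes_eq_associatedPrimes_of_isLocalizedModule
    (hW.primeIdealOf ⟨x, hx⟩).asIdeal.primeCompl
    (Algebra.linearMap Γ(X, W) (X.presheaf.stalk x)) (R' := X.presheaf.stalk x)
  have h2 := Set.ext_iff.mp h (IsLocalRing.maximalIdeal (X.presheaf.stalk x))
  rw [Set.mem_preimage, hcomap] at h2
  exact h2.symm

theorem section_eq_zero (V : X.Opens) (s : Γ(X, V))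
    (h : ∀ (x : X) (hx : x ∈ V), X.presheaf.germ V x hx s = 0) : s = 0 := by
  refine TopCat.Presheaf.section_ext X.sheaf V s 0 fun x hx => ?_
  change X.presheaf.germ V x hx s = X.presheaf.germ V x hx 0
  rw [h x hx, map_zero]

end aux

/-- (1) if and only if (3): let X be a locally Noetherian scheme and U an open subscheme. Then U is
scheme-theoretically dense in X if and only if U contains every associated point of X (every point
whose local ring has its maximal ideal as an associated prime). -/
theorem result (X : Scheme.{u}) [IsLocallyNoetherian X] (U : X.Opens) :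
    CInt.IsSchematicallyDense U ↔ ∀ x : ↥X, IsAssociatedPrime (IsLocalRing.maximalIdeal ↑(X.presheaf.stalk x)) ↑(X.presheaf.stalk x) → x ∈ U := by
  constructor
  · intro hdense x hass
    by_contra hxU
    obtain ⟨_, ⟨W, hW, rfl⟩, hxW, -⟩ :=
      X.isBasis_affineOpens.exists_subset_of_mem_open (Set.mem_univ x) isOpen_univ
    have hN : IsNoetherianRing Γ(X, W) := IsLocallyNoetherian.component_noetherian ⟨W, hW⟩
    have hp := (isAssociatedPrime_stalk_iff hW x hxW).mp hass
    obtain ⟨hprime, a, ha⟩ := (isAssociatedPrime_iff (M := Γ(X, W))).mp hp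
    have hamem : ∀ r : Γ(X, W), r ∈ (hW.primeIdealOf ⟨x, hxW⟩).asIdeal ↔ r * a = 0 := by
      intro r
      rw [ha, Submodule.mem_colon_singleton, Submodule.mem_bot, smul_eq_mul]
    have ha0 : a ≠ 0 := by
      rintro rfl
      apply hprime.ne_top
      rw [Ideal.eq_top_iff_one, hamem, mul_zero]
    apply ha0
    apply hdense W
    rw [map_zero]
    refine section_eq_zero (W ⊓ U) _ fun y hy => ?_
    rw [TopCat.Presheaf.germ_res_apply X.presheaf (homOfLE (inf_le_left : W ⊓ U ≤ W)) y hy a]
    -- some element of `p_x` is a unit at `y`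
    have hnot : ¬ (hW.primeIdealOf ⟨x, hxW⟩).asIdeal ≤ (hW.primeIdealOf ⟨y, hy.1⟩).asIdeal := by
      rw [primeIdealOf_le_iff_specializes hW x y hxW hy.1]
      intro hspec
      exact hxU (hspec.mem_open U.2 hy.2)
    obtain ⟨r, hrx, hry⟩ := Set.not_subset.mp hnot
    have hunit : IsUnit (X.presheaf.germ W y hy.1 r) :=
      (Scheme.mem_basicOpen X r y hy.1).mp
        ((mem_basicOpen_iff_notMem_primeIdealOf hW y hy.1 r).mpr hry)
    have h0 : X.presheaf.germ W y hy.1 r * X.presheaf.germ W y hy.1 a = 0 := by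
      rw [← map_mul, (hamem r).mp hrx, map_zero]
    exact (hunit.mul_right_eq_zero).mp h0
  · intro hass V
    rw [injective_iff_map_eq_zero]
    intro s hs
    refine section_eq_zero V s fun x hxV => ?_
    obtain ⟨_, ⟨W, hW, rfl⟩, hxW, hWV⟩ :=
      X.isBasis_affineOpens.exists_subset_of_mem_open hxV V.2
    have hWV' : W ≤ V := hWV
    have hN : IsNoetherianRing Γ(X, W) := IsLocallyNoetherian.component_noetherian ⟨W, hW⟩
    set t : Γ(X, W) := X.presheaf.map (homOfLE hWV').op s with ht
    suffices h0 : t = 0 by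
      rw [← TopCat.Presheaf.germ_res_apply X.presheaf (homOfLE hWV') x hxW s, ← ht, h0, map_zero]
    by_contra hne
    have hnt : Nontrivial (Submodule.span Γ(X, W) {t}) :=
      ⟨⟨⟨t, Submodule.mem_span_singleton_self t⟩, 0, fun h => hne (congrArg Subtype.val h)⟩⟩
    obtain ⟨p, hp⟩ := associatedPrimes.nonempty Γ(X, W) (Submodule.span Γ(X, W) {t})
    have hp' : p ∈ associatedPrimes Γ(X, W) Γ(X, W) :=
      (IsAssociatedPrime.map_of_injective (f := (Submodule.span Γ(X, W) {t}).subtype) hp
        (Submodule.injective_subtype _))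
    have hpp : p.IsPrime := hp.isPrime
    obtain ⟨z, hzW, hzp⟩ := QS.exists_point_of_prime hW p
    subst hzp
    have hzU : z ∈ U := by
      apply hass z
      rw [isAssociatedPrime_stalk_iff hW z hzW]
      exact hp'
    have hzV : z ∈ V := hWV' hzW
    have hgerm : X.presheaf.germ W z hzW t = 0 := by
      rw [ht, TopCat.Presheaf.germ_res_apply X.presheaf (homOfLE hWV') z hzW s,
        ← TopCat.Presheaf.germ_res_apply X.presheaf (homOfLE (inf_le_left : V ⊓ U ≤ V)) z
          ⟨hzV, hzU⟩ s, hs, map_zero]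
    let _ : Algebra Γ(X, W) (X.presheaf.stalk z) :=
      TopCat.Presheaf.algebra_section_stalk X.presheaf (U := W) ⟨z, hzW⟩
    have hloc : IsLocalization.AtPrime (X.presheaf.stalk z) (hW.primeIdealOf ⟨z, hzW⟩).asIdeal :=
      hW.isLocalization_stalk ⟨z, hzW⟩
    obtain ⟨c, hct⟩ := (IsLocalization.map_eq_zero_iff
      (hW.primeIdealOf ⟨z, hzW⟩).asIdeal.primeCompl (X.presheaf.stalk z) t).mp hgerm
    apply c.2
    obtain ⟨y, hy⟩ := hp.2
    refine hy.ge ?_
    apply Ideal.le_radical
    rw [Submodule.mem_colon_singleton]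
    obtain ⟨a, ha⟩ := Submodule.mem_span_singleton.mp y.2
    rw [Submodule.mem_bot]
    apply Subtype.ext
    change c.1 • y.1 = 0
    rw [← ha, smul_comm, smul_eq_mul c.1 t, hct, smul_zero]

end Groth.Agent.S1699
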