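import Groth.Statements.S17006
import Groth.Agent.Lib.Helper19.QuadCentre

set_option autoImplicit false
universe u
open scoped TensorProduct
open QuadGrp

namespace Groth.Agent.S17006

/-- Let Q be a quadratic form on R^{2m}, m ≥ 2, over a commutative ring R, whose polar form is a perfect
pairing. An isometry g of Q satisfying the Dickson condition commutes, after base change to every
R-algebra A, with every isometry of Q_A satisfying the Dickson condition if and only if g is
multiplication by a scalar whose square is one. (Points-level form of: for even rank at least 4 the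
functorial centre of the special orthogonal group is the central μ₂ and coincides with that of the
naive one.) -/
theorem result (R : Type u) [CommRing R] (m : ℕ) (hm : 2 ≤ m)
    (Q : QuadraticForm R (Fin (2 * m) → R)) (hQ : QuadGrp.IsRegular Q)
    (g : (Fin (2 * m) → R) ≃ₗ[R] (Fin (2 * m) → R)) (hg : g ∈ QuadGrp.SO Q) :
    (∀ (A : Type u) [CommRing A] [Algebra R A], ∀ h ∈ QuadGrp.sorth Q A,
        g.baseChange R A (Fin (2 * m) → R) (Fin (2 * m) → R) * h = h * g.baseChange R A (Fin (2 * m) → R) (Fin (2 * m) → R)) ↔
      ∃ c : R, c * c = 1 ∧ ∀ v, g v = c • v := by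
  classical
  constructor
  · intro H
    rcases subsingleton_or_nontrivial R with hR | hR
    · exact ⟨1, Subsingleton.elim _ _, fun v => Subsingleton.elim _ _⟩
    have hfin : Module.finrank R (Fin (2 * m) → R) = 2 * m := by
      rw [Module.finrank_fin_fun]
    have hgO : g ∈ QuadGrp.O Q := by
      unfold QuadGrp.SO at hg
      rw [if_pos (by rw [hfin]; exact even_two_mul m)] at hg
      exact hg.1
    have hmem : ∀ u w : Fin (2 * m) → R,
        Groth.Agent.Lib.Helper19.QuadCentre.dualTest Q u w ∈ QuadGrp.sorth Q (DualNumber R) := by
      intro u w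
      unfold QuadGrp.sorth QuadGrp.SO
      rw [if_pos (by rw [Module.finrank_baseChange, hfin]; exact even_two_mul m)]
      exact Groth.Agent.Lib.Helper19.QuadCentre.testEq_mem_SOeven _ Q _ _ u w
    have hE := fun u w x =>
      Groth.Agent.Lib.Helper19.QuadCentre.extract Q g u w (H (DualNumber R) _ (hmem u w)) x
    have hd : ∀ p u w, Groth.Agent.Lib.Helper19.QuadCentre.dvec g p u w = 0 := fun p u w =>
      Groth.Agent.Lib.Helper19.QuadCentre.eq_zero_of_regular Q hQ _
        (Groth.Agent.Lib.Helper19.QuadCentre.polar_dvec Q g hgO hE p u w)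
    exact Groth.Agent.Lib.Helper19.QuadCentre.scalar_of_dvec_zero g (by omega) hd
  · rintro ⟨c, -, hc⟩ A _ _ h _
    exact Groth.Agent.Lib.Helper19.QuadCentre.comm_of_scalar g c hc A h

end Groth.Agent.S17006
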