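import Groth.Statements.S1701
import Groth.Agent.Lib.Helper3.SubschemeStalk
import Groth.Agent.Lib.Helper3.LocalFlatNzd

set_option autoImplicit false
universe u
open CategoryTheory CategoryTheory.Limits AlgebraicGeometry TopologicalSpace
open SDiv

namespace Groth.Agent.S1701
open Groth.Agent.Lib.Helper3

/-- Let f : X ⟶ S be a morphism, 𝓘 the ideal sheaf of an effective Cartier divisor D ⊂ X such that D ⟶ S
is flat (a relative effective Cartier divisor), and x a point of D at which the local ring of X is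
Noetherian. Then f is flat at x. -/
theorem result {X S : Scheme.{u}} (f : X ⟶ S) (𝓘 : X.IdealSheafData)
    (hD : (BlowUp.IsEffCartierIdeal 𝓘 ∧ Flat (𝓘.subschemeι ≫ f))) (d : ↥𝓘.subscheme) [IsNoetherianRing (X.presheaf.stalk (𝓘.subschemeι d))] :
    (f.stalkMap (𝓘.subschemeι d)).hom.Flat := by
  obtain ⟨hc, hf⟩ := hD
  set x := 𝓘.subschemeι d with hx
  obtain ⟨U, hxU, t, ht, hI⟩ := hc x
  have hU := U.2
  have hxs : x ∈ 𝓘.support := by
    rw [← SetLike.mem_coe, ← 𝓘.range_subschemeι]; exact ⟨d, rfl⟩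
  have hflat : ((𝓘.subschemeι.stalkMap d).hom.comp (f.stalkMap x).hom).Flat := by
    have h1 := Flat.stalkMap (𝓘.subschemeι ≫ f) d
    rw [Scheme.Hom.stalkMap_comp] at h1
    exact h1
  let _ : Algebra Γ(X, U.1) (X.presheaf.stalk x) :=
    TopCat.Presheaf.algebra_section_stalk X.presheaf (U := U.1) ⟨x, hxU⟩
  have hloc : IsLocalization.AtPrime (X.presheaf.stalk x) (hU.primeIdealOf ⟨x, hxU⟩).asIdeal :=
    hU.isLocalization_stalk ⟨x, hxU⟩
  have htnzd : (X.presheaf.germ U.1 x hxU).hom t ∈ nonZeroDivisors (X.presheaf.stalk x) :=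
    IsLocalization.map_nonZeroDivisors_le (hU.primeIdealOf ⟨x, hxU⟩).asIdeal.primeCompl
      (X.presheaf.stalk x) (Submonoid.mem_map_of_mem _ ht)
  have htm : (X.presheaf.germ U.1 x hxU).hom t ∈ IsLocalRing.maximalIdeal (X.presheaf.stalk x) := by
    rw [IsLocalRing.mem_maximalIdeal, mem_nonunits_iff]
    intro hunit
    have h1 : x ∈ X.basicOpen t := (Scheme.mem_basicOpen X t x hxU).mpr hunit
    rw [Scheme.IdealSheafData.mem_support_iff_of_mem hxU, hI, Scheme.zeroLocus_span,
      Scheme.zeroLocus_singleton] at hxs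
    exact hxs h1
  have hker : RingHom.ker (𝓘.subschemeι.stalkMap d).hom =
      Ideal.span {(X.presheaf.germ U.1 x hxU).hom t} := by
    rw [ker_stalkMap_subschemeι 𝓘 U d hxU, hI, Ideal.map_span, Set.image_singleton]
  exact ringHom_flat_of_flat_comp_surjective (f.stalkMap x).hom (𝓘.subschemeι.stalkMap d).hom
    (stalkMap_subschemeι_surjective 𝓘 d) _ htnzd htm hker hflat

end Groth.Agent.S1701
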