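import Groth.Statements.S17015
import Groth.Agent.Lib.Helper19.HalfDisc3

set_option autoImplicit false
universe u v
open QuadGrp

namespace Groth.Agent.S17015

/-- For a quadratic form Q on a free module with a basis b indexed by Fin (2m+1) over a commutative ring
R, the half-discriminant of Q relative to b is a unit if and only if for every prime ideal p of R
the base change of Q to the residue field of p is nondegenerate (zero quadratic radical and polar
kernel of dimension at most one — over a field this is the fibrewise non-degeneracy of the source:
smooth projective quadric, defect one with non-zero restriction in characteristic two). -/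
theorem result {R : Type u} [CommRing R]
    {M : Type v} [AddCommGroup M] [Module R M] [Module.Free R M]
    (m : ℕ) (b : Module.Basis (Fin (2 * m + 1)) R M) (Q : QuadraticForm R M) :
    IsUnit (QuadGrp.halfDisc b (LinearEquiv.refl R R) Q) ↔
      ∀ (p : Ideal R) [p.IsPrime], QuadraticMap.Nondegenerate (Q := QuadGrp.baseChangeForm p.ResidueField Q) := by
  have hφ : ∀ (p : Ideal R) [p.IsPrime],
      Groth.Agent.Lib.Helper19.HalfDisc.hd
        (coeffs (Algebra.TensorProduct.basis p.ResidueField b)
          (LinearEquiv.refl p.ResidueField p.ResidueField)
          (baseChangeForm p.ResidueField Q)) =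
        algebraMap R p.ResidueField (QuadGrp.halfDisc b (LinearEquiv.refl R R) Q) := by
    intro p _
    rw [Groth.Agent.Lib.Helper19.HalfDisc.halfDisc_eq_hd,
      ← Groth.Agent.Lib.Helper19.HalfDisc.hd_map]
    congr 1
    funext s
    induction s using Sym2.ind with
    | _ i j =>
      rw [Function.comp_apply, coeffs_mk, coeffs_mk]
      by_cases h : i = j
      · rw [if_pos h, if_pos h, LinearEquiv.refl_apply, LinearEquiv.refl_apply,
          Algebra.TensorProduct.basis_apply,
          Groth.Agent.Lib.Helper19.QuadCentre.bcForm_one_tmul]
      · rw [if_neg h, if_neg h, LinearEquiv.refl_apply, LinearEquiv.refl_apply,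
          Algebra.TensorProduct.basis_apply, Algebra.TensorProduct.basis_apply,
          Groth.Agent.Lib.Helper19.QuadCentre.polar_bcForm]
  constructor
  · intro hu p _
    rw [← Groth.Agent.Lib.Helper19.HalfDisc.hd_ne_zero_iff_nondegenerate
      (Algebra.TensorProduct.basis p.ResidueField b), hφ p]
    exact (hu.map (algebraMap R p.ResidueField)).ne_zero
  · intro h
    by_contra hnu
    obtain ⟨I, hI, hxI⟩ := exists_max_ideal_of_mem_nonunits hnu
    haveI := hI.isPrime
    have h1 := (Groth.Agent.Lib.Helper19.HalfDisc.hd_ne_zero_iff_nondegenerate
      (Algebra.TensorProduct.basis I.ResidueField b) _).2 (h I)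
    rw [hφ I] at h1
    exact h1 (Ideal.algebraMap_residueField_eq_zero.2 hxI)

end Groth.Agent.S17015
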