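import Groth.Statements.S17016
import Mathlib

set_option autoImplicit false
universe u
open QuadGrp

namespace Groth.Agent.S17016

section
variable (R : Type u) [CommRing R] (m : ℕ)

theorem splitForm_apply (v : Fin (m * 2) → R) :
    QuadGrp.splitForm R (m * 2) v =
      ∑ i : Fin m, v (finProdFinEquiv (i, 0)) * v (finProdFinEquiv (i, 1)) := by
  unfold QuadGrp.splitForm
  have h0 : m * 2 % 2 = 0 := Nat.mul_mod_left m 2
  have h1 : ¬ (m * 2 % 2 = 1) := by omega
  rw [dif_neg h1, add_zero, sum_apply]
  have hm : m * 2 / 2 = m := Nat.mul_div_cancel m (by norm_num)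
  refine Fintype.sum_equiv (finCongr hm) _ _ (fun i => ?_)
  simp only [QuadraticMap.linMulLin_apply, LinearMap.proj_apply]
  congr 2 <;> (ext; simp [finProdFinEquiv, h0]) <;> ring


/-- index `2i` -/
abbrev A (i : Fin m) : Fin (m * 2) := finProdFinEquiv (i, (0 : Fin 2))
/-- index `2i+1` -/
abbrev Bx (i : Fin m) : Fin (m * 2) := finProdFinEquiv (i, (1 : Fin 2))

theorem A_ne_Bx (i i' : Fin m) : A m i ≠ Bx m i' := by
  intro h
  have := finProdFinEquiv.injective h
  simp at this

theorem Q_single (j : Fin (m * 2)) : QuadGrp.splitForm R (m * 2) (Pi.single j 1) = 0 := by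
  rw [splitForm_apply]
  refine Finset.sum_eq_zero (fun i _ => ?_)
  by_cases h : finProdFinEquiv (i, (0 : Fin 2)) = j
  · have h' : finProdFinEquiv (i, (1 : Fin 2)) ≠ j := by
      rw [← h]; exact (A_ne_Bx m i i).symm
    rw [Pi.single_apply, Pi.single_apply, if_neg h', mul_zero]
  · rw [Pi.single_apply, if_neg h, zero_mul]

theorem polar_apply (v w : Fin (m * 2) → R) :
    QuadraticMap.polar (QuadGrp.splitForm R (m * 2)) v w =
      ∑ i : Fin m, (v (A m i) * w (Bx m i) + w (A m i) * v (Bx m i)) := by
  unfold QuadraticMap.polar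
  simp only [splitForm_apply, Pi.add_apply]
  rw [← Finset.sum_sub_distrib, ← Finset.sum_sub_distrib]
  refine Finset.sum_congr rfl (fun i _ => ?_)
  ring

theorem polar_pair (i : Fin m) :
    QuadraticMap.polar (QuadGrp.splitForm R (m * 2)) (Pi.single (A m i) 1) (Pi.single (Bx m i) 1) = 1 := by
  rw [polar_apply, Finset.sum_eq_single i]
  · simp [Pi.single_apply, A_ne_Bx m i i, (A_ne_Bx m i i).symm]
  · intro i' _ hi'
    have h1 : A m i' ≠ A m i := fun h => hi' (by simpa using finProdFinEquiv.injective h)
    have h2 : Bx m i' ≠ Bx m i := fun h => hi' (by simpa using finProdFinEquiv.injective h)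
    simp [Pi.single_apply, h1, h2]
  · intro h; exact absurd (Finset.mem_univ _) h

theorem polar_diff (j k : Fin (m * 2))
    (h : (finProdFinEquiv.symm j).1 ≠ (finProdFinEquiv.symm k).1) :
    QuadraticMap.polar (QuadGrp.splitForm R (m * 2)) (Pi.single j 1) (Pi.single k 1) = 0 := by
  rw [polar_apply]
  refine Finset.sum_eq_zero (fun i _ => ?_)
  have key : ∀ (c d : Fin 2), ¬ (finProdFinEquiv (i, c) = j ∧ finProdFinEquiv (i, d) = k) := by
    rintro c d ⟨h1, h2⟩
    apply h
    rw [← h1, ← h2]
    simp
  have k1 := key 0 1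
  have k2 := key 1 0
  simp only [Pi.single_apply]
  by_cases h1 : A m i = j <;> by_cases h2 : Bx m i = k <;> by_cases h3 : A m i = k <;>
    by_cases h4 : Bx m i = j <;> simp_all

end

section ringlemmas
variable {C : Type*} [Ring C]

theorem L1 (a b : C) (haa : a * a = 0) (hbb : b * b = 0) (hab : a * b + b * a = 1) :
    (1 - 2 * (a * b)) * (1 - 2 * (a * b)) = 1 := by
  have hba : b * a = 1 - a * b := eq_sub_of_add_eq' hab
  have h1 : (a * b) * (a * b) = a * b := by
    calc (a * b) * (a * b) = a * (b * a) * b := by noncomm_ring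
      _ = a * (1 - a * b) * b := by rw [hba]
      _ = a * b - (a * a) * (b * b) := by noncomm_ring
      _ = a * b := by rw [haa, hbb]; simp
  simp only [two_mul, mul_sub, sub_mul, mul_add, add_mul, mul_one, one_mul, h1]
  abel

theorem L2a (a b : C) (haa : a * a = 0) (hab : a * b + b * a = 1) :
    a * (1 - 2 * (a * b)) = - ((1 - 2 * (a * b)) * a) := by
  have hba : b * a = 1 - a * b := eq_sub_of_add_eq' hab
  have h1 : a * (a * b) = 0 := by rw [← mul_assoc, haa, zero_mul]
  have h2 : (a * b) * a = a := by
    rw [mul_assoc, hba, mul_sub, mul_one, h1, sub_zero]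
  simp only [two_mul, mul_sub, sub_mul, mul_add, add_mul, mul_one, one_mul, h1, h2]
  abel

theorem L2b (a b : C) (hbb : b * b = 0) (hab : a * b + b * a = 1) :
    b * (1 - 2 * (a * b)) = - ((1 - 2 * (a * b)) * b) := by
  have hba : b * a = 1 - a * b := eq_sub_of_add_eq' hab
  have h1 : (a * b) * b = 0 := by rw [mul_assoc, hbb, mul_zero]
  have h2 : b * (a * b) = b := by
    rw [← mul_assoc, hba, sub_mul, one_mul, h1, sub_zero]
  simp only [two_mul, mul_sub, sub_mul, mul_add, add_mul, mul_one, one_mul, h1, h2]
  abel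

theorem L3 (x a b : C) (hxa : x * a = - (a * x)) (hxb : x * b = - (b * x)) :
    x * (1 - 2 * (a * b)) = (1 - 2 * (a * b)) * x := by
  have h : x * (a * b) = (a * b) * x := by
    rw [← mul_assoc, hxa, neg_mul, mul_assoc, hxb, mul_neg, neg_neg, mul_assoc]
  simp only [two_mul, mul_sub, sub_mul, mul_add, add_mul, mul_one, one_mul, h]

theorem prod_sq_one (l : List C) (hc : ∀ x ∈ l, ∀ y ∈ l, Commute x y) (hs : ∀ x ∈ l, x * x = 1) :
    l.prod * l.prod = 1 := by
  induction l with
  | nil => simp
  | cons x l ih =>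
    have hxl : Commute x l.prod := by
      apply Commute.list_prod_right
      intro y hy
      exact hc x (List.mem_cons_self) y (List.mem_cons_of_mem _ hy)
    have ih' := ih (fun a ha b hb => hc a (List.mem_cons_of_mem _ ha) b (List.mem_cons_of_mem _ hb))
      (fun a ha => hs a (List.mem_cons_of_mem _ ha))
    rw [List.prod_cons]
    calc x * l.prod * (x * l.prod) = x * (l.prod * x) * l.prod := by noncomm_ring
      _ = x * (x * l.prod) * l.prod := by rw [hxl.eq]
      _ = (x * x) * (l.prod * l.prod) := by noncomm_ring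
      _ = 1 := by rw [hs x (List.mem_cons_self), ih', one_mul]

theorem anti_prod {ι : Type*} [DecidableEq ι] (f : ι → C) (x : C) (i₀ : ι)
    (h0 : x * f i₀ = - (f i₀ * x)) (h1 : ∀ i, i ≠ i₀ → x * f i = f i * x)
    (l : List ι) (hl : l.Nodup) :
    x * (l.map f).prod = if i₀ ∈ l then - ((l.map f).prod * x) else (l.map f).prod * x := by
  induction l with
  | nil => simp
  | cons i l ih =>
    have hnd := List.nodup_cons.mp hl
    have ih' := ih hnd.2
    rw [List.map_cons, List.prod_cons, ← mul_assoc]
    by_cases hi : i = i₀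
    · subst hi
      rw [if_neg hnd.1] at ih'
      rw [if_pos (List.mem_cons_self), h0, neg_mul, mul_assoc, ih', mul_assoc]
    · rw [h1 i hi, mul_assoc, ih']
      have : (i₀ ∈ i :: l) ↔ i₀ ∈ l := by
        rw [List.mem_cons]
        constructor
        · rintro (h | h)
          · exact absurd h.symm hi
          · exact h
        · exact Or.inr
      by_cases hm : i₀ ∈ l
      · rw [if_pos hm, if_pos (this.mpr hm), mul_neg, mul_assoc]
      · rw [if_neg hm, if_neg (fun h => hm (this.mp h)), mul_assoc]

end ringlemmas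

section cliff
variable (R : Type u) [CommRing R] (m : ℕ)

/-- the basis vectors in the Clifford algebra -/
noncomputable abbrev ee (j : Fin (m * 2)) : CliffordAlgebra (QuadGrp.splitForm R (m * 2)) :=
  CliffordAlgebra.ι (QuadGrp.splitForm R (m * 2)) (Pi.single j 1)

theorem ee_sq (j : Fin (m * 2)) : ee R m j * ee R m j = 0 := by
  rw [CliffordAlgebra.ι_sq_scalar, Q_single, map_zero]

theorem ee_pair (i : Fin m) :
    ee R m (A m i) * ee R m (Bx m i) + ee R m (Bx m i) * ee R m (A m i) = 1 := by
  rw [CliffordAlgebra.ι_mul_ι_add_swap, polar_pair, map_one]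

theorem ee_anti (j k : Fin (m * 2))
    (h : (finProdFinEquiv.symm j).1 ≠ (finProdFinEquiv.symm k).1) :
    ee R m j * ee R m k = - (ee R m k * ee R m j) := by
  have := CliffordAlgebra.ι_mul_ι_add_swap (Q := QuadGrp.splitForm R (m * 2))
    (Pi.single j (1 : R)) (Pi.single k 1)
  rw [polar_diff R m j k h, map_zero] at this
  exact eq_neg_of_add_eq_zero_left this

/-- `u i = 1 - 2 e_{2i} e_{2i+1}` -/
noncomputable abbrev uu (i : Fin m) : CliffordAlgebra (QuadGrp.splitForm R (m * 2)) :=
  1 - 2 * (ee R m (A m i) * ee R m (Bx m i))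

end cliff



/-- For the standard split quadratic form Σ x_{2i} x_{2i+1} on R^{2m} over any commutative ring R, with
standard basis vectors e_j in the Clifford algebra, the product w of the elements 1 − 2 e_{2i}
e_{2i+1} (i < m, which pairwise commute) satisfies w² = 1 and anticommutes with every e_j. (Hence w
is central in the even Clifford algebra; over rings in which 2 is invertible (1 − w)/2 is the
non-trivial central idempotent of the even part.) -/
theorem result (R : Type u) [CommRing R] (m : ℕ) :
    let Q := QuadGrp.splitForm R (m * 2)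
    let e : Fin (m * 2) → CliffordAlgebra Q := fun j => CliffordAlgebra.ι Q (Pi.single j 1)
    let w : CliffordAlgebra Q :=
      ((List.finRange m).map fun i => 1 - 2 * (e (finProdFinEquiv (i, 0)) * e (finProdFinEquiv (i, 1)))).prod
    w * w = 1 ∧ ∀ j : Fin (m * 2), e j * w = -(w * e j) := by
  intro Q e w
  have hw : w = ((List.finRange m).map (uu R m)).prod := rfl
  have hU3 : ∀ (i : Fin m) (j : Fin (m * 2)), (finProdFinEquiv.symm j).1 ≠ i →
      ee R m j * uu R m i = uu R m i * ee R m j := by
    intro i j hj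
    apply L3
    · exact ee_anti R m j (A m i) (by simpa using hj)
    · exact ee_anti R m j (Bx m i) (by simpa using hj)
  have hU2 : ∀ (j : Fin (m * 2)), ee R m j * uu R m (finProdFinEquiv.symm j).1 =
      -(uu R m (finProdFinEquiv.symm j).1 * ee R m j) := by
    intro j
    obtain ⟨⟨i, c⟩, rfl⟩ := finProdFinEquiv.surjective j
    simp only [Equiv.symm_apply_apply]
    fin_cases c
    · exact L2a _ _ (ee_sq R m _) (ee_pair R m i)
    · exact L2b _ _ (ee_sq R m _) (ee_pair R m i)
  have hcomm : ∀ i i', Commute (uu R m i) (uu R m i') := by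
    intro i i'
    by_cases h : i = i'
    · subst h; exact Commute.refl _
    · have ha : Commute (uu R m i) (ee R m (A m i')) := (hU3 i _ (by simpa using Ne.symm h)).symm
      have hb : Commute (uu R m i) (ee R m (Bx m i')) := (hU3 i _ (by simpa using Ne.symm h)).symm
      have hab : Commute (uu R m i) (ee R m (A m i') * ee R m (Bx m i')) := ha.mul_right hb
      exact (Commute.one_right _).sub_right ((Commute.ofNat_right (uu R m i) 2).mul_right hab)
  refine ⟨?_, ?_⟩
  · rw [hw]
    apply prod_sq_one
    · intro x hx y hy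
      obtain ⟨i, _, rfl⟩ := List.mem_map.mp hx
      obtain ⟨i', _, rfl⟩ := List.mem_map.mp hy
      exact hcomm i i'
    · intro x hx
      obtain ⟨i, _, rfl⟩ := List.mem_map.mp hx
      exact L1 _ _ (ee_sq R m _) (ee_sq R m _) (ee_pair R m i)
  · intro j
    rw [hw]
    have := anti_prod (uu R m) (ee R m j) (finProdFinEquiv.symm j).1 (hU2 j)
      (fun i hi => hU3 i j (Ne.symm hi)) (List.finRange m) (List.nodup_finRange m)
    rw [if_pos (List.mem_finRange _)] at this
    exact this

end Groth.Agent.S17016
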