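import Groth.Statements.S17017
import Mathlib

set_option autoImplicit false
set_option linter.unusedSimpArgs false
universe u
open QuadGrp

namespace Groth.Agent.S17017

open CliffordAlgebra

section Aux

variable (k : Type u) [Field k]

theorem Q_apply (x : Fin 3 → k) : QuadGrp.splitForm k 3 x = x 1 * x 2 + x 0 * x 0 := by
  unfold QuadGrp.splitForm
  have h31 : 3 % 2 = 1 := rfl
  rw [dif_pos h31]
  simp

/-- The form `x₀² + x₁x₂`. -/
noncomputable abbrev Q3 : QuadraticForm k (Fin 3 → k) := QuadGrp.splitForm k 3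

/-- The images of the standard basis vectors in the Clifford algebra. -/
noncomputable def E (i : Fin 3) : CliffordAlgebra (Q3 k) := ι (Q3 k) (Pi.single i (1 : k))

theorem E00 : E k 0 * E k 0 = 1 := by
  rw [E, ι_sq_scalar, Q_apply]; simp

theorem E11 : E k 1 * E k 1 = 0 := by
  rw [E, ι_sq_scalar, Q_apply]; simp

theorem E22 : E k 2 * E k 2 = 0 := by
  rw [E, ι_sq_scalar, Q_apply]; simp

theorem E10 : E k 1 * E k 0 = -(E k 0 * E k 1) := by
  have h := ι_mul_ι_add_swap (Q := Q3 k) (Pi.single 0 (1 : k)) (Pi.single 1 (1 : k))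
  have hp : QuadraticMap.polar (Q3 k) (Pi.single 0 (1 : k)) (Pi.single 1 (1 : k)) = 0 := by
    simp [QuadraticMap.polar, Q_apply]
  rw [hp, map_zero] at h
  exact eq_neg_of_add_eq_zero_right h

theorem E20 : E k 2 * E k 0 = -(E k 0 * E k 2) := by
  have h := ι_mul_ι_add_swap (Q := Q3 k) (Pi.single 0 (1 : k)) (Pi.single 2 (1 : k))
  have hp : QuadraticMap.polar (Q3 k) (Pi.single 0 (1 : k)) (Pi.single 2 (1 : k)) = 0 := by
    simp [QuadraticMap.polar, Q_apply]
  rw [hp, map_zero] at h
  exact eq_neg_of_add_eq_zero_right h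

theorem E21 : E k 2 * E k 1 = 1 - E k 1 * E k 2 := by
  have h := ι_mul_ι_add_swap (Q := Q3 k) (Pi.single 1 (1 : k)) (Pi.single 2 (1 : k))
  have hp : QuadraticMap.polar (Q3 k) (Pi.single 1 (1 : k)) (Pi.single 2 (1 : k)) = 1 := by
    simp [QuadraticMap.polar, Q_apply]
  rw [hp, map_one] at h
  exact eq_sub_of_add_eq' h

variable {k}

theorem E00' (x : CliffordAlgebra (Q3 k)) : x * E k 0 * E k 0 = x := by
  rw [mul_assoc, E00, mul_one]
theorem E11' (x : CliffordAlgebra (Q3 k)) : x * E k 1 * E k 1 = 0 := by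
  rw [mul_assoc, E11, mul_zero]
theorem E22' (x : CliffordAlgebra (Q3 k)) : x * E k 2 * E k 2 = 0 := by
  rw [mul_assoc, E22, mul_zero]
theorem E10' (x : CliffordAlgebra (Q3 k)) : x * E k 1 * E k 0 = -(x * E k 0 * E k 1) := by
  rw [mul_assoc, E10, mul_neg, mul_assoc]
theorem E20' (x : CliffordAlgebra (Q3 k)) : x * E k 2 * E k 0 = -(x * E k 0 * E k 2) := by
  rw [mul_assoc, E20, mul_neg, mul_assoc]
theorem E21' (x : CliffordAlgebra (Q3 k)) : x * E k 2 * E k 1 = x - x * E k 1 * E k 2 := by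
  rw [mul_assoc, E21, mul_sub, mul_one, mul_assoc]

variable (k)

theorem ι_eq (m : Fin 3 → k) :
    ι (Q3 k) m = m 0 • E k 0 + m 1 • E k 1 + m 2 • E k 2 := by
  have hm : m = m 0 • (Pi.single 0 (1 : k) : Fin 3 → k) + m 1 • (Pi.single 1 (1 : k) : Fin 3 → k)
      + m 2 • (Pi.single 2 (1 : k) : Fin 3 → k) := by
    funext i; fin_cases i <;> simp
  conv_lhs => rw [hm]
  simp only [map_add, map_smul, E]

/-- General element of the span of `1, E₀E₁, E₀E₂, E₁E₂`. -/
noncomputable def f (a b c d : k) : CliffordAlgebra (Q3 k) :=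
  a • 1 + b • (E k 0 * E k 1) + c • (E k 0 * E k 2) + d • (E k 1 * E k 2)

theorem f_mul (a b c d a' b' c' d' : k) :
    f k a b c d * f k a' b' c' d' =
      f k (a * a' - c * b') (a * b' + b * a' + d * b') (a * c' + c * a' + c * d')
        (a * d' - b * c' + c * b' + d * a' + d * d') := by
  simp only [f, mul_add, add_mul, mul_sub, sub_mul, smul_mul_assoc, mul_smul_comm, mul_neg,
    neg_mul, mul_one, one_mul, mul_zero, zero_mul, ← mul_assoc, E00, E11, E22, E10, E20, E21,
    E00', E11', E22', E10', E20', E21', smul_add, smul_sub, smul_neg, smul_zero, smul_smul,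
    neg_neg, sub_zero, add_zero, zero_add, neg_zero]
  module

theorem ιι_eq (m₁ m₂ : Fin 3 → k) :
    ι (Q3 k) m₁ * ι (Q3 k) m₂ =
      f k (m₁ 0 * m₂ 0 + m₁ 2 * m₂ 1) (m₁ 0 * m₂ 1 - m₁ 1 * m₂ 0) (m₁ 0 * m₂ 2 - m₁ 2 * m₂ 0)
        (m₁ 1 * m₂ 2 - m₁ 2 * m₂ 1) := by
  rw [ι_eq, ι_eq]
  simp only [f, mul_add, add_mul, mul_sub, sub_mul, smul_mul_assoc, mul_smul_comm, mul_neg,
    neg_mul, mul_one, one_mul, mul_zero, zero_mul, ← mul_assoc, E00, E11, E22, E10, E20, E21,
    E00', E11', E22', E10', E20', E21', smul_add, smul_sub, smul_neg, smul_zero, smul_smul,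
    neg_neg, sub_zero, add_zero, zero_add, neg_zero]
  module

theorem even_span (x : CliffordAlgebra (Q3 k)) (hx : x ∈ evenOdd (Q3 k) 0) :
    ∃ a b c d : k, x = f k a b c d := by
  induction x, hx using even_induction with
  | algebraMap r =>
    exact ⟨r, 0, 0, 0, by simp [f, Algebra.algebraMap_eq_smul_one]⟩
  | add x y hx hy ihx ihy =>
    obtain ⟨a, b, c, d, rfl⟩ := ihx
    obtain ⟨a', b', c', d', rfl⟩ := ihy
    exact ⟨a + a', b + b', c + c', d + d', by simp only [f]; module⟩
  | ι_mul_ι_mul m₁ m₂ x hx ih =>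
    obtain ⟨a, b, c, d, rfl⟩ := ih
    rw [ιι_eq, f_mul]
    exact ⟨_, _, _, _, rfl⟩

theorem star_E (i : Fin 3) : star (E k i) = -E k i := by rw [E, star_ι]

theorem star_f (a b c d : k) : star (f k a b c d) = f k (a + d) (-b) (-c) (-d) := by
  simp only [f, star_add, CliffordAlgebra.star_smul, star_mul, star_one, star_E]
  simp only [mul_add, add_mul, mul_sub, sub_mul, smul_mul_assoc, mul_smul_comm, mul_neg,
    neg_mul, mul_one, one_mul, mul_zero, zero_mul, ← mul_assoc, E00, E11, E22, E10, E20, E21,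
    E00', E11', E22', E10', E20', E21', smul_add, smul_sub, smul_neg, smul_zero, smul_smul,
    neg_neg, sub_zero, add_zero, zero_add, neg_zero]
  module

theorem star_mul_self_f (a b c d : k) :
    star (f k a b c d) * f k a b c d = (a * a + a * d + b * c) • 1 := by
  rw [star_f, f_mul]
  simp only [f]
  have h1 : (a + d) * b + -b * a + -d * b = 0 := by ring
  have h2 : (a + d) * c + -c * a + -c * d = 0 := by ring
  have h3 : (a + d) * d - -b * c + -c * b + -d * a + -d * d = 0 := by ring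
  have h4 : (a + d) * a - -c * b = a * a + a * d + b * c := by ring
  rw [h1, h2, h3, h4, zero_smul, zero_smul, zero_smul, add_zero, add_zero, add_zero]

theorem conj_f (a b c d : k) (m : Fin 3 → k) :
    f k a b c d * ι (Q3 k) m * f k (a + d) (-b) (-c) (-d) =
      ι (Q3 k) ![a * a * m 0 + a * d * m 0 - b * c * m 0 + a * c * m 1 + c * d * m 1 + a * b * m 2,
        a * a * m 1 + 2 * a * d * m 1 + d * d * m 1 - 2 * a * b * m 0 - 2 * b * d * m 0
          - b * b * m 2,
        a * a * m 2 - 2 * a * c * m 0 - c * c * m 1] := by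
  rw [ι_eq, ι_eq]
  simp only [Matrix.cons_val_zero, Matrix.cons_val_one, Matrix.cons_val_two, Matrix.head_cons,
    Matrix.tail_cons]
  simp only [f, mul_add, add_mul, mul_sub, sub_mul, smul_mul_assoc, mul_smul_comm, mul_neg,
    neg_mul, mul_one, one_mul, mul_zero, zero_mul, ← mul_assoc, E00, E11, E22, E10, E20, E21,
    E00', E11', E22', E10', E20', E21', smul_add, smul_sub, smul_neg, smul_zero, smul_smul,
    neg_neg, sub_zero, add_zero, zero_add, neg_zero]
  module

theorem conj_mem (u : (CliffordAlgebra (Q3 k))ˣ) (hu : u ∈ QuadGrp.evenUnits (Q3 k))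
    (m : Fin 3 → k) :
    (u : CliffordAlgebra (Q3 k)) * ι (Q3 k) m * (↑u⁻¹ : CliffordAlgebra (Q3 k)) ∈
      LinearMap.range (ι (Q3 k)) := by
  obtain ⟨a, b, c, d, hU⟩ := even_span k _ ((QuadGrp.mem_evenUnits _ u).mp hu)
  have hN := star_mul_self_f k a b c d
  rw [← hU] at hN
  have hS : star (u : CliffordAlgebra (Q3 k)) =
      (a * a + a * d + b * c) • (↑u⁻¹ : CliffordAlgebra (Q3 k)) := by
    calc star (u : CliffordAlgebra (Q3 k))
        = star (u : CliffordAlgebra (Q3 k)) * (↑u * ↑u⁻¹) := by rw [Units.mul_inv, mul_one]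
      _ = (star (u : CliffordAlgebra (Q3 k)) * ↑u) * ↑u⁻¹ := by rw [mul_assoc]
      _ = (a * a + a * d + b * c) • (↑u⁻¹ : CliffordAlgebra (Q3 k)) := by
        rw [hN, smul_mul_assoc, one_mul]
  have hV : (u : CliffordAlgebra (Q3 k)) * ι (Q3 k) m * star (u : CliffordAlgebra (Q3 k)) ∈
      LinearMap.range (ι (Q3 k)) := by
    rw [hU, star_f, conj_f]
    exact LinearMap.mem_range_self _ _
  by_cases hn : a * a + a * d + b * c = 0
  · have hs0 : star (u : CliffordAlgebra (Q3 k)) = 0 := by rw [hS, hn, zero_smul]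
    have h0 : (u : CliffordAlgebra (Q3 k)) = 0 := by
      have := congrArg star hs0
      rwa [star_star, star_zero] at this
    rw [h0, zero_mul, zero_mul]
    exact Submodule.zero_mem _
  · have hW : (↑u⁻¹ : CliffordAlgebra (Q3 k)) =
        (a * a + a * d + b * c)⁻¹ • star (u : CliffordAlgebra (Q3 k)) := by
      rw [hS, smul_smul, inv_mul_cancel₀ hn, one_smul]
    rw [hW, mul_smul_comm]
    exact Submodule.smul_mem _ _ hV

end Aux

/-- Over a field k, for the standard split quadratic form x₀² + x₁x₂ on k³, every even unit of the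
Clifford algebra normalises the subspace k³, i.e. lies in the naive Clifford group; so the even
Clifford group is the whole unit group of the even Clifford algebra. (The published claim is made
over fields of characteristic different from 2; here it is stated for every field.) -/
theorem result (k : Type u) [Field k] :
    QuadGrp.evenUnits (QuadGrp.splitForm k 3) ≤ QuadGrp.GPin' (QuadGrp.splitForm k 3) := by
  intro u hu
  rw [QuadGrp.mem_GPin']
  have aux : ∀ w ∈ QuadGrp.evenUnits (Q3 k), ∀ x ∈ LinearMap.range (ι (Q3 k)),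
      ConjAct.toConjAct w • x ∈ LinearMap.range (ι (Q3 k)) := by
    rintro w hw _ ⟨m, rfl⟩
    rw [ConjAct.units_smul_def, ConjAct.ofConjAct_toConjAct]
    exact conj_mem k w hw m
  apply le_antisymm
  · intro x hx
    obtain ⟨y, hy, rfl⟩ := (Submodule.mem_smul_pointwise_iff_exists _ _ _).mp hx
    exact aux u hu y hy
  · intro x hx
    refine (Submodule.mem_smul_pointwise_iff_exists _ _ _).mpr
      ⟨ConjAct.toConjAct u⁻¹ • x, aux u⁻¹ (Subgroup.inv_mem _ hu) x hx, ?_⟩
    rw [map_inv, smul_inv_smul]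

end Groth.Agent.S17017
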