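import Groth.Statements.S17018
import Mathlib
import Groth.Agent.Lib.Helper14.StalkTensor
import Groth.Agent.Lib.Helper3.Reduced
import Groth.Agent.Lib.Helper25.StalkStr
set_option linter.style.haveILetI false

set_option autoImplicit false
universe u
open CategoryTheory CategoryTheory.Limits AlgebraicGeometry
open scoped TensorProduct
open Models

namespace Groth.Agent.S17018

/-- Let R be a discrete valuation ring with algebraically closed residue field and f : X → Spec R a
proper flat morphism whose generic fibre (base change to the fraction field of R) is smooth of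
relative dimension 1 and connected and whose special fibre (base change to the residue field) is
connected and reduced; let ξ be the generic point of an irreducible component of the special fibre
and B a discrete valuation ring given with an isomorphism from the local ring of X at ξ under which
R → B is the map induced by f. Then the maximal ideal of B is the extension of the maximal ideal of
R: a uniformizer of R maps to a uniformizer of B. (The published setting takes everything
essentially of finite type over a field of characteristic zero; the printed argument does not use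
this and it is not imposed here.) -/
theorem result
    (R : Type u) [CommRing R] [IsDomain R] [IsDiscreteValuationRing R]
    [IsAlgClosed (IsLocalRing.ResidueField R)]
    (X : Scheme.{u}) (f : X ⟶ Spec (CommRingCat.of R)) [IsProper f] [Flat f]
    (XK : Scheme.{u}) (gK : XK ⟶ X) (fK : XK ⟶ Spec (CommRingCat.of (FractionRing R)))
    (hK : IsPullback gK fK f (Spec.map (CommRingCat.ofHom (algebraMap R (FractionRing R)))))
    [SmoothOfRelativeDimension 1 fK] [ConnectedSpace XK]
    (Xs : Scheme.{u}) (gs : Xs ⟶ X) (fs : Xs ⟶ Spec (CommRingCat.of (IsLocalRing.ResidueField R)))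
    (hs : IsPullback gs fs f (Spec.map (CommRingCat.ofHom (IsLocalRing.residue R))))
    [ConnectedSpace Xs] [IsReduced Xs]
    (ξ : Xs) (hξ : closure ({ξ} : Set Xs) ∈ irreducibleComponents Xs)
    (B : Type u) [CommRing B] [IsDomain B] [IsDiscreteValuationRing B] [Algebra R B]
    (e : X.presheaf.stalk (gs.base ξ) ≅ CommRingCat.of B)
    (he : e.hom.hom.comp ((X.presheaf.germ ⊤ (gs.base ξ) trivial).hom.comp (Coh.toGlobal f)) =
      algebraMap R B) :
    IsLocalRing.maximalIdeal B = Ideal.map (algebraMap R B) (IsLocalRing.maximalIdeal R) := by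
  classical
  letI algO : Algebra R (X.presheaf.stalk (gs.base ξ)) :=
    ((X.presheaf.germ ⊤ (gs.base ξ) trivial).hom.comp (Coh.toGlobal f)).toAlgebra
  have hc : X.fromSpecStalk (gs.base ξ) ≫ f =
      Spec.map (CommRingCat.ofHom (algebraMap R (X.presheaf.stalk (gs.base ξ)))) :=
    Groth.Agent.Lib.Helper25.StalkStr.fromSpecStalk_comp f (gs.base ξ)
  set qk := Spec.map (CommRingCat.ofHom (algebraMap R (IsLocalRing.ResidueField R))) with hqk
  have hs' : IsPullback gs fs f qk := hs
  let iso := hs'.isoPullback
  have hfst : iso.hom ≫ Limits.pullback.fst f qk = gs := hs'.isoPullback_hom_fst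
  haveI : IsReduced (Limits.pullback f qk) := isReduced_of_isOpenImmersion iso.inv
  have hy : (Limits.pullback.fst f qk) (iso.hom.base ξ) = gs.base ξ := by
    rw [← hfst]; rfl
  obtain ⟨Q, hQ, hQc, ⟨e1⟩⟩ := Groth.Agent.Lib.Helper14.StalkTensor.exists_prime_stalk_equiv f
    (IsLocalRing.ResidueField R) (gs.base ξ) hc (iso.hom.base ξ) hy
  haveI : IsReduced (Localization.AtPrime Q) :=
    isReduced_of_injective e1.symm.toRingHom e1.symm.injective
  haveI : Module.Flat R (X.presheaf.stalk (gs.base ξ)) := by
    have h1 : Flat (X.fromSpecStalk (gs.base ξ)) :=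
      Groth.Agent.Lib.Helper3.flat_fromSpecStalk X (gs.base ξ)
    have h2 : Flat (X.fromSpecStalk (gs.base ξ) ≫ f) :=
      MorphismProperty.comp_mem _ _ _ h1 inferInstance
    rw [hc, Flat.SpecMap_iff] at h2
    exact RingHom.flat_algebraMap_iff.mp h2
  let eR : (X.presheaf.stalk (gs.base ξ)) ≃+* B := e.commRingCatIsoToRingEquiv
  have heR : ∀ r : R, eR (algebraMap R (X.presheaf.stalk (gs.base ξ)) r) = algebraMap R B r :=
    fun r => DFunLike.congr_fun he r
  obtain ⟨π, hπ⟩ := IsDiscreteValuationRing.exists_irreducible R
  obtain ⟨ϖ, hϖ⟩ := IsDiscreteValuationRing.exists_irreducible B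
  have hπmem : π ∈ IsLocalRing.maximalIdeal R :=
    (IsLocalRing.mem_maximalIdeal π).mpr hπ.not_isUnit
  have hπ0 : algebraMap R (X.presheaf.stalk (gs.base ξ)) π ≠ 0 := by
    intro h0
    have hreg : IsSMulRegular (X.presheaf.stalk (gs.base ξ)) π :=
      Module.Flat.isSMulRegular_of_nonZeroDivisors (mem_nonZeroDivisors_of_ne_zero hπ.ne_zero)
    have : π • (1 : X.presheaf.stalk (gs.base ξ)) = π • 0 := by
      rw [smul_zero, ← Algebra.algebraMap_eq_smul_one]; exact h0
    exact one_ne_zero (hreg this)
  have hb0 : algebraMap R B π ≠ 0 := by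
    rw [← heR]
    exact (map_ne_zero_iff eR eR.injective).mpr hπ0
  obtain ⟨n, u, hu⟩ := IsDiscreteValuationRing.eq_unit_mul_pow_irreducible hb0 hϖ
  have hpow : (eR.symm ϖ) ^ n = eR.symm (↑u⁻¹ : B) *
      algebraMap R (X.presheaf.stalk (gs.base ξ)) π := by
    apply eR.injective
    rw [map_pow, map_mul, heR, RingEquiv.apply_symm_apply, RingEquiv.apply_symm_apply, hu,
      ← mul_assoc, Units.inv_mul, one_mul]
  have hmem := Groth.Agent.Lib.Helper25.StalkStr.mem_map_of_pow_mem Q hQc (eR.symm ϖ) n
    (by rw [hpow]; exact Ideal.mul_mem_left _ _ (Ideal.mem_map_of_mem _ hπmem))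
  have hcomp : eR.toRingHom.comp (algebraMap R (X.presheaf.stalk (gs.base ξ))) =
      algebraMap R B := RingHom.ext heR
  apply le_antisymm
  · rw [hϖ.maximalIdeal_eq, Ideal.span_singleton_le_iff_mem]
    have h1 := Ideal.mem_map_of_mem eR.toRingHom hmem
    rw [Ideal.map_map, hcomp] at h1
    have h2 : eR.toRingHom (eR.symm ϖ) = ϖ := eR.apply_symm_apply ϖ
    rw [h2] at h1
    exact h1
  · have hne := Groth.Agent.Lib.Helper25.StalkStr.map_ne_top (R := R)
      (O := X.presheaf.stalk (gs.base ξ)) Q
    rw [Ideal.map_le_iff_le_comap]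
    intro r hr
    rw [Ideal.mem_comap, IsLocalRing.mem_maximalIdeal, mem_nonunits_iff]
    intro hunit
    apply hne
    rw [Ideal.eq_top_iff_one]
    have hunit' : IsUnit (algebraMap R (X.presheaf.stalk (gs.base ξ)) r) := by
      have : algebraMap R (X.presheaf.stalk (gs.base ξ)) r = eR.symm (algebraMap R B r) := by
        rw [← heR, RingEquiv.symm_apply_apply]
      rw [this]
      exact hunit.map eR.symm
    obtain ⟨v, hv⟩ := hunit'
    have h3 : (↑v⁻¹ : X.presheaf.stalk (gs.base ξ)) *
        algebraMap R (X.presheaf.stalk (gs.base ξ)) r ∈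
        Ideal.map (algebraMap R (X.presheaf.stalk (gs.base ξ))) (IsLocalRing.maximalIdeal R) :=
      Ideal.mul_mem_left _ _ (Ideal.mem_map_of_mem _ hr)
    rw [← hv, Units.inv_mul] at h3
    exact h3

end Groth.Agent.S17018
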