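import Groth.Statements.S1702
import Groth.Agent.Lib.Helper3.RelCartier

set_option autoImplicit false
universe u
open CategoryTheory CategoryTheory.Limits AlgebraicGeometry TopologicalSpace
open SDiv

namespace Groth.Agent.S1702
open Groth.Agent.Lib.Helper3

/-- Let f : X ⟶ S be a morphism and 𝓘₁, 𝓘₂ ideal sheaves of effective Cartier divisors on X whose closed
subschemes are flat over S. Then the product ideal 𝓘₁𝓘₂ (the sum of the divisors) is again the ideal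
of an effective Cartier divisor flat over S. -/
theorem result {X S : Scheme.{u}} (f : X ⟶ S) (𝓘₁ 𝓘₂ : X.IdealSheafData)
    (h₁ : (BlowUp.IsEffCartierIdeal 𝓘₁ ∧ Flat (𝓘₁.subschemeι ≫ f))) (h₂ : (BlowUp.IsEffCartierIdeal 𝓘₂ ∧ Flat (𝓘₂.subschemeι ≫ f))) : (BlowUp.IsEffCartierIdeal (𝓘₁ * 𝓘₂) ∧ Flat ((𝓘₁ * 𝓘₂).subschemeι ≫ f)) := by
  obtain ⟨hc₁, hf₁⟩ := h₁
  obtain ⟨hc₂, hf₂⟩ := h₂
  constructor
  · intro x
    obtain ⟨U, hxU, -, ⟨a, ha, hIa⟩, ⟨b, hb, hIb⟩⟩ :=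
      exists_affine_principal_pair 𝓘₁ 𝓘₂ hc₁ hc₂ x ⊤ trivial
    refine ⟨U, hxU, a * b, mul_mem ha hb, ?_⟩
    rw [Scheme.IdealSheafData.ideal_mul, Pi.mul_apply, hIa, hIb, Ideal.span_singleton_mul_span_singleton]
  · apply flat_subschemeι_comp_of_forall
    intro d
    set x := (𝓘₁ * 𝓘₂).subschemeι d with hx
    obtain ⟨_, ⟨V, hV, rfl⟩, hxV, -⟩ :=
      S.isBasis_affineOpens.exists_subset_of_mem_open (Set.mem_univ (f x)) isOpen_univ
    obtain ⟨U, hxU, hUV, ⟨a, ha, hIa⟩, ⟨b, hb, hIb⟩⟩ :=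
      exists_affine_principal_pair 𝓘₁ 𝓘₂ hc₁ hc₂ x (f ⁻¹ᵁ V) hxV
    refine ⟨⟨V, hV⟩, U, hxU, hUV, ?_⟩
    have h1 := flat_quotient_appLE_of_flat_subschemeι_comp f 𝓘₁ ⟨V, hV⟩ U hUV
    have h2 := flat_quotient_appLE_of_flat_subschemeι_comp f 𝓘₂ ⟨V, hV⟩ U hUV
    rw [hIa] at h1
    rw [hIb] at h2
    have h3 := ringHom_flat_quotient_mul _ a b hb h1 h2
    rw [Scheme.IdealSheafData.ideal_mul, Pi.mul_apply, hIa, hIb,
      Ideal.span_singleton_mul_span_singleton]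
    exact h3

end Groth.Agent.S1702
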