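import Groth.Statements.S17023
import Mathlib
import Groth.Agent.Lib.Helper8.DvrExtComplete
set_option linter.style.haveILetI false

set_option autoImplicit false
universe u
open FlatMor

namespace Groth.Agent.S17023

/-- Let B be a discrete valuation ring, A a B-algebra of finite type and p a prime ideal of A which lies
over the maximal ideal of B (a point of the special fibre), at which A is smooth over B (the
localization A_p is formally smooth over B), and such that B maps onto the residue field κ(p). Then
there are a discrete valuation ring B' and a ring map ψ : A → B' pulling the maximal ideal of B'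
back to p, such that the composite B → A → B' is injective, the maximal ideal of B generates the
maximal ideal of B', and B maps onto the residue field of B'; in other words Spec B' → Spec A → Spec
B is surjective and unramified with trivial residue field extension. (The published statement does
not say that the closed point of Spec B' goes to p; it is required here. The published setting takes
A essentially of finite type over a field of characteristic zero; here A is taken of finite type
over B, with no ground field.) -/
theorem result
    (B : Type u) [CommRing B] [IsDomain B] [IsDiscreteValuationRing B]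
    (A : Type u) [CommRing A] [Algebra B A] [Algebra.FiniteType B A]
    (p : Ideal A) [p.IsPrime] (hp : p.comap (algebraMap B A) = IsLocalRing.maximalIdeal B)
    [Algebra.IsSmoothAt B p]
    (hres : Function.Surjective ((algebraMap A p.ResidueField).comp (algebraMap B A))) :
    ∃ (B' : Type u) (_ : CommRing B') (_ : IsDomain B') (_ : IsDiscreteValuationRing B') (ψ : A →+* B'),
      Ideal.comap ψ (IsLocalRing.maximalIdeal B') = p ∧
      Function.Injective (ψ.comp (algebraMap B A)) ∧
      Ideal.map (ψ.comp (algebraMap B A)) (IsLocalRing.maximalIdeal B) = IsLocalRing.maximalIdeal B' ∧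
      Function.Surjective ((IsLocalRing.residue B').comp (ψ.comp (algebraMap B A))) := by
  classical
  haveI hFS : Algebra.FormallySmooth B (Localization.AtPrime p) := ‹Algebra.IsSmoothAt B p›
  let φ : B →ₐ[B] p.ResidueField := Algebra.ofId B p.ResidueField
  have hφa : ∀ b : B, φ b = algebraMap A p.ResidueField (algebraMap B A b) := by
    intro b
    show algebraMap B p.ResidueField b = _
    rw [IsScalarTower.algebraMap_apply B A p.ResidueField]
  have hφs : Function.Surjective φ := by
    intro y
    obtain ⟨b, hb⟩ := hres y
    exact ⟨b, (hφa b).trans hb⟩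
  have hker : RingHom.ker φ = IsLocalRing.maximalIdeal B := by
    ext b
    rw [RingHom.mem_ker, ← hp, Ideal.mem_comap, hφa, Ideal.algebraMap_residueField_eq_zero]
  let σ : (B ⧸ RingHom.ker φ) ≃ₐ[B] p.ResidueField := Ideal.quotientKerAlgEquivOfSurjective hφs
  let τ : (B ⧸ RingHom.ker φ) ≃ₐ[B] (B ⧸ IsLocalRing.maximalIdeal B) :=
    Ideal.quotientEquivAlgOfEq B hker
  let f : Localization.AtPrime p →ₐ[B] B ⧸ IsLocalRing.maximalIdeal B :=
    (τ.toAlgHom.comp σ.symm.toAlgHom).comp
      (IsScalarTower.toAlgHom B (Localization.AtPrime p) p.ResidueField)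
  obtain ⟨g, hg⟩ := Algebra.FormallySmooth.exists_adicCompletionEvalOneₐ_comp_eq
    (I := IsLocalRing.maximalIdeal B) f
  obtain ⟨hdom, hdvr⟩ := Groth.Agent.Lib.Helper8.DvrExtComplete.isDVR_adicCompletion B
  let ψ : A →+* AdicCompletion (IsLocalRing.maximalIdeal B) B :=
    (g : Localization.AtPrime p →+* _).comp (algebraMap A (Localization.AtPrime p))
  have hψB : ψ.comp (algebraMap B A) =
      algebraMap B (AdicCompletion (IsLocalRing.maximalIdeal B) B) := by
    refine RingHom.ext (fun b => ?_)
    show g (algebraMap A (Localization.AtPrime p) (algebraMap B A b)) = _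
    rw [← IsScalarTower.algebraMap_apply B A (Localization.AtPrime p), g.commutes]
  have hmaxker : RingHom.ker (AdicCompletion.evalOneₐ (IsLocalRing.maximalIdeal B)).toRingHom =
      IsLocalRing.maximalIdeal (AdicCompletion (IsLocalRing.maximalIdeal B) B) := by
    rw [AdicCompletion.ker_evalOneₐ_eq_map _ (IsLocalRing.maximalIdeal B).fg_of_isNoetherianRing,
      AdicCompletion.maximalIdeal_eq_map]
  have hev : ∀ a : A, AdicCompletion.evalOneₐ (IsLocalRing.maximalIdeal B) (ψ a) =
      f (algebraMap A (Localization.AtPrime p) a) := by
    intro a
    exact congrFun (congrArg DFunLike.coe hg) (algebraMap A (Localization.AtPrime p) a)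
  refine ⟨AdicCompletion (IsLocalRing.maximalIdeal B) B, inferInstance, hdom, hdvr, ψ,
    ?_, ?_, ?_, ?_⟩
  · ext a
    rw [Ideal.mem_comap, ← hmaxker, RingHom.mem_ker]
    show AdicCompletion.evalOneₐ (IsLocalRing.maximalIdeal B) (ψ a) = 0 ↔ _
    rw [hev a]
    show τ (σ.symm (algebraMap (Localization.AtPrime p) p.ResidueField
      (algebraMap A (Localization.AtPrime p) a))) = 0 ↔ _
    rw [map_eq_zero_iff _ τ.injective, map_eq_zero_iff _ σ.symm.injective,
      ← IsScalarTower.algebraMap_apply A (Localization.AtPrime p) p.ResidueField,
      Ideal.algebraMap_residueField_eq_zero]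
  · rw [hψB]
    show Function.Injective (AdicCompletion.of (IsLocalRing.maximalIdeal B) B)
    exact AdicCompletion.of_injective _ _
  · rw [hψB]
    exact AdicCompletion.maximalIdeal_eq_map.symm
  · rw [hψB]
    intro y
    obtain ⟨x, rfl⟩ := IsLocalRing.residue_surjective y
    obtain ⟨b, hb⟩ := Ideal.Quotient.mk_surjective
      (AdicCompletion.evalOneₐ (IsLocalRing.maximalIdeal B) x)
    refine ⟨b, ?_⟩
    show IsLocalRing.residue _ (algebraMap B _ b) = IsLocalRing.residue _ x
    rw [← sub_eq_zero, ← map_sub, IsLocalRing.residue_eq_zero_iff, ← hmaxker, RingHom.mem_ker,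
      map_sub, sub_eq_zero]
    show AdicCompletion.evalOneₐ (IsLocalRing.maximalIdeal B)
      (AdicCompletion.of (IsLocalRing.maximalIdeal B) B b) = _
    rw [AdicCompletion.evalOneₐ_of]
    exact hb

end Groth.Agent.S17023
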