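import Groth.Statements.S1703
import Mathlib
import Groth.Agent.Lib.Helper14.FlatOpen.Stalk
import Groth.Agent.Lib.Helper14.LCF.Slice
import Groth.Agent.Lib.Helper3.RelCartier

set_option autoImplicit false
set_option linter.style.haveILetI false
universe u
open CategoryTheory CategoryTheory.Limits AlgebraicGeometry TopologicalSpace
open SDiv

namespace Groth.Agent.S1703


section Aux

open TensorProduct Polynomial
open Groth.Agent.Lib.Helper14.LCF Groth.Agent.Lib.Helper14.FlatOpen

/-- a module over a quotient `D` of `C` which is flat over `C` is flat over `D`. -/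
theorem flat_of_surjective_algebraMap {C D N : Type u} [CommRing C] [CommRing D] [Algebra C D]
    [AddCommGroup N] [Module C N] [Module D N] [IsScalarTower C D N]
    (h : Function.Surjective (algebraMap C D)) [Module.Flat C N] : Module.Flat D N := by
  haveI hbc : Module.Flat D (D ⊗[C] N) := inferInstance
  let φ : D ⊗[C] N →ₗ[D] N := LinearMap.liftBaseChange D (LinearMap.id : N →ₗ[C] N)
  have hrep : ∀ x : D ⊗[C] N, ∃ n : N, x = (1 : D) ⊗ₜ[C] n := by
    intro x
    induction x using TensorProduct.induction_on with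
    | zero => exact ⟨0, (tmul_zero _ _).symm⟩
    | tmul d n =>
      obtain ⟨c, rfl⟩ := h d
      refine ⟨c • n, ?_⟩
      rw [Algebra.algebraMap_eq_smul_one, smul_tmul]
    | add a b ha hb =>
      obtain ⟨n, rfl⟩ := ha
      obtain ⟨m, rfl⟩ := hb
      exact ⟨n + m, (tmul_add _ _ _).symm⟩
  have hφ : Function.Bijective φ := by
    constructor
    · rw [injective_iff_map_eq_zero]
      intro x hx
      obtain ⟨n, rfl⟩ := hrep x
      have hn : n = 0 := by
        have h1 : φ ((1 : D) ⊗ₜ[C] n) = (1 : D) • n := rfl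
        rw [h1, one_smul] at hx
        exact hx
      rw [hn, tmul_zero]
    · intro n
      exact ⟨(1 : D) ⊗ₜ[C] n, by
        have h1 : φ ((1 : D) ⊗ₜ[C] n) = (1 : D) • n := rfl
        rw [h1, one_smul]⟩
  exact Module.Flat.of_linearEquiv (LinearEquiv.ofBijective φ hφ).symm

/-- Tor-vanishing against an ideal of `P` passes from an algebra `R` to a flat `R`-module. -/
theorem rTensor_injective_of_flat_tower {P R W : Type u} [CommRing P] [CommRing R] [Algebra P R]
    [AddCommGroup W] [Module R W] [Module P W] [IsScalarTower P R W] [Module.Flat R W]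
    (J : Ideal P) (h : Function.Injective (J.subtype.rTensor R)) :
    Function.Injective (J.subtype.rTensor W) := by
  have hl : Function.Injective (J.subtype.lTensor R) :=
    (J.subtype.lTensor_inj_iff_rTensor_inj R).mpr h
  let ψ : R ⊗[P] J →ₗ[R] R ⊗[P] P := AlgebraTensorModule.lTensor R R J.subtype
  have hψ : Function.Injective ψ := hl
  have h2 : Function.Injective (ψ.lTensor W) :=
    Module.Flat.lTensor_preserves_injective_linearMap ψ hψ
  let e1 := AlgebraTensorModule.cancelBaseChange P R R W J
  let e2 := AlgebraTensorModule.cancelBaseChange P R R W P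
  have hsq : ∀ x, e2 ((ψ.lTensor W) x) = (J.subtype.lTensor W) (e1 x) := by
    intro x
    induction x using TensorProduct.induction_on with
    | zero => rw [map_zero, map_zero, map_zero, map_zero]
    | add a b ha hb => rw [map_add, map_add, map_add, map_add, ha, hb]
    | tmul w y =>
      induction y using TensorProduct.induction_on with
      | zero => rw [tmul_zero, map_zero, map_zero, map_zero, map_zero]
      | add a b ha hb => rw [tmul_add, map_add, map_add, map_add, map_add, ha, hb]
      | tmul r j => rfl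
  rw [← J.subtype.lTensor_inj_iff_rTensor_inj W]
  rw [injective_iff_map_eq_zero]
  intro y hy
  obtain ⟨x, rfl⟩ := e1.surjective y
  rw [← hsq] at hy
  have h3 : (ψ.lTensor W) x = 0 := e2.injective (by rw [hy, map_zero])
  rw [h2 (h3.trans (map_zero _).symm), map_zero]

/-- **converse of slicing at a point of the divisor**: if `t` is a nonzerodivisor of the finitely
presented `C`-algebra `R` with `R/t` flat over `C`, then `R_q` is flat over `C` for every prime
`q` containing `t`. -/
theorem flat_localized_of_nzd_of_flat_quot {C R : Type u} [CommRing C] [CommRing R] [Algebra C R]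
    [Algebra.FinitePresentation C R] (t : R) (ht : t ∈ nonZeroDivisors R)
    (hfl : ((Ideal.Quotient.mk (Ideal.span {t})).comp (algebraMap C R)).Flat)
    (q : Ideal R) [q.IsPrime] (htq : t ∈ q) :
    Module.Flat C (LocalizedModule q.primeCompl R) := by
  haveI hQ : Module.Flat C (R ⧸ Ideal.span {t}) := by
    rw [← RingHom.flat_algebraMap_iff]
    exact hfl
  letI : Algebra C[X] R := polyAlgebra C t
  haveI : IsScalarTower C C[X] R := polyAlgebra_isScalarTower C t
  haveI : Algebra.FinitePresentation C[X] R := polyAlgebra_finitePresentation C t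
  have hX : ∀ w : R, (Polynomial.X : C[X]) • w = t * w := by
    intro w
    rw [Algebra.smul_def]
    show Polynomial.aeval t Polynomial.X * w = t * w
    rw [Polynomial.aeval_X]
  -- Step 1: `X` is regular
  have hb : Function.Injective ((⊥ : Ideal C[X]).subtype.rTensor R) := by
    have h0 : ∀ z : (⊥ : Ideal C[X]) ⊗[C[X]] R, z = 0 := by
      intro z
      induction z using TensorProduct.induction_on with
      | zero => rfl
      | tmul x y =>
        have hx0 : x = 0 := Subtype.ext ((Submodule.mem_bot _).mp x.2)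
        rw [hx0, zero_tmul]
      | add a b ha hb => rw [ha, hb, add_zero]
    intro a b _
    rw [h0 a, h0 b]
  have hreg : ∀ w : R, (Polynomial.X : C[X]) • w ∈ (⊥ : Ideal C[X]) • (⊤ : Submodule C[X] R) →
      w ∈ (⊥ : Ideal C[X]) • (⊤ : Submodule C[X] R) := by
    intro w hw
    rw [Submodule.bot_smul, Submodule.mem_bot] at hw ⊢
    rw [hX] at hw
    exact (mul_left_mem_nonZeroDivisors_eq_zero_iff ht).mp hw
  have h1 := rTensor_injective_sup_span (⊥ : Ideal C[X]) Polynomial.X hb hreg
  rw [bot_sup_eq] at h1
  -- Step 2: flatness modulo `X`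
  have hcar : ((Ideal.span {(Polynomial.X : C[X])}) • (⊤ : Submodule C[X] R)).restrictScalars C =
      (Ideal.span {t} : Ideal R).restrictScalars C := by
    ext w
    simp only [Submodule.restrictScalars_mem]
    rw [Submodule.ideal_span_singleton_smul, Ideal.mem_span_singleton']
    constructor
    · rintro ⟨v, -, rfl⟩
      exact ⟨v, (mul_comm v t).trans (hX v).symm⟩
    · rintro ⟨v, rfl⟩
      exact ⟨v, trivial, (hX v).trans (mul_comm t v)⟩
  let e : (R ⧸ (Ideal.span {(Polynomial.X : C[X])} • (⊤ : Submodule C[X] R))) ≃ₗ[C]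
      (R ⧸ Ideal.span {t}) :=
    ((Submodule.Quotient.restrictScalarsEquiv C _).symm.trans
      (Submodule.quotEquivOfEq _ _ hcar)).trans (Submodule.Quotient.restrictScalarsEquiv C _)
  haveI hF1 : Module.Flat C
      (R ⧸ (Ideal.span {(Polynomial.X : C[X])} • (⊤ : Submodule C[X] R))) :=
    Module.Flat.of_linearEquiv e
  have hsurj : Function.Surjective
      (algebraMap C (C[X] ⧸ Ideal.span {(Polynomial.X : C[X])})) := by
    intro y
    obtain ⟨p, rfl⟩ := Ideal.Quotient.mk_surjective y
    refine ⟨p.coeff 0, ?_⟩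
    show Ideal.Quotient.mk _ (Polynomial.C (p.coeff 0)) = Ideal.Quotient.mk _ p
    rw [eq_comm, Ideal.Quotient.mk_eq_mk_iff_sub_mem, Ideal.mem_span_singleton]
    exact Polynomial.X_dvd_sub_C
  haveI : IsScalarTower C (C[X] ⧸ Ideal.span {(Polynomial.X : C[X])})
      (R ⧸ (Ideal.span {(Polynomial.X : C[X])} • (⊤ : Submodule C[X] R))) := by
    refine IsScalarTower.of_algebraMap_smul (R := C)
      (A := C[X] ⧸ Ideal.span {(Polynomial.X : C[X])})
      (M := R ⧸ (Ideal.span {(Polynomial.X : C[X])} • (⊤ : Submodule C[X] R))) (fun c x => ?_)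
    induction x using Submodule.Quotient.induction_on with
    | H w =>
      show (Submodule.Quotient.mk (algebraMap C C[X] c • w) :
        R ⧸ (Ideal.span {(Polynomial.X : C[X])} • (⊤ : Submodule C[X] R))) =
        Submodule.Quotient.mk (c • w)
      rw [algebraMap_smul]
  haveI h2 : Module.Flat (C[X] ⧸ Ideal.span {(Polynomial.X : C[X])})
      (R ⧸ (Ideal.span {(Polynomial.X : C[X])} • (⊤ : Submodule C[X] R))) :=
    flat_of_surjective_algebraMap hsurj
  -- Step 3
  have hle : Ideal.span {(Polynomial.X : C[X])} ≤ q.comap (algebraMap C[X] R) := by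
    rw [Ideal.span_le, Set.singleton_subset_iff]
    show Polynomial.aeval t Polynomial.X ∈ q
    rw [Polynomial.aeval_X]
    exact htq
  have h3 := rTensor_injective_of_le_of_flat_quot _ _ hle h1 h2
  -- Step 4
  haveI : Module.Flat R (LocalizedModule q.primeCompl R) :=
    flat_of_isLocalizedModule (A := R) (S := R) q.primeCompl
      (LocalizedModule.mkLinearMap q.primeCompl R) inferInstance
  have h4 := rTensor_injective_of_flat_tower (W := LocalizedModule q.primeCompl R) _ h3
  -- Step 5
  haveI : IsScalarTower C C[X] (LocalizedModule q.primeCompl R) := by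
    refine IsScalarTower.of_algebraMap_smul fun c w => ?_
    induction w using LocalizedModule.induction_on with
    | h m s => rw [LocalizedModule.smul'_mk, LocalizedModule.smul'_mk, algebraMap_smul]
  haveI hPW : Module.Flat C[X] (LocalizedModule q.primeCompl R) :=
    flat_of_isLocalizedModule_of_rTensor_injective (A := C[X]) (S := R) (N := R) q
      (LocalizedModule.mkLinearMap q.primeCompl R) h4
  exact Module.Flat.trans C C[X] (LocalizedModule q.primeCompl R)

theorem flat_stalkMap_ι_comp {X S : Scheme.{u}} (h : X ⟶ S) (U : X.Opens) (x : X) (hx : x ∈ U)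
    (hflat : (h.stalkMap x).hom.Flat) : ((U.ι ≫ h).stalkMap ⟨x, hx⟩).hom.Flat := by
  let x' : (U : Scheme) := ⟨x, hx⟩
  rw [Scheme.Hom.stalkMap_comp]
  exact (RingHom.Flat.respectsIso.cancel_right_isIso (h.stalkMap (U.ι x'))
    (U.ι.stalkMap x')).mpr hflat

end Aux



/-- Let f : X ⟶ S be locally of finite presentation and 𝓘 the ideal sheaf of an effective Cartier
divisor D ⊂ X with D ⟶ S flat. Then there is an open subscheme U of X containing D such that U ⟶ S
is flat. -/
theorem result {X S : Scheme.{u}} (f : X ⟶ S) [LocallyOfFinitePresentation f] (𝓘 : X.IdealSheafData)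
    (hD : (BlowUp.IsEffCartierIdeal 𝓘 ∧ Flat (𝓘.subschemeι ≫ f))) : ∃ U : X.Opens, (𝓘.support : Set ↥X) ⊆ U ∧ Flat (U.ι ≫ f) := by
  obtain ⟨hC, hDflat⟩ := hD
  haveI := hDflat
  let U : X.Opens := ⟨{x | (f.stalkMap x).hom.Flat},
    Groth.Agent.Lib.Helper14.FlatOpen.isOpen_flat_stalkMap f⟩
  refine ⟨U, ?_, ?_⟩
  · intro x hx
    show (f.stalkMap x).hom.Flat
    obtain ⟨V, hVaff, hxV, -⟩ := (Opens.isBasis_iff_nbhd.mp S.isBasis_affineOpens)
      (show f x ∈ (⊤ : S.Opens) from trivial)
    obtain ⟨W, hxW, hWV, t, ht, hI⟩ :=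
      Groth.Agent.Lib.Helper3.exists_affine_principal_le 𝓘 hC x (f ⁻¹ᵁ V) hxV
    have hfp := f.finitePresentation_appLE hVaff W.2 hWV
    have h3 := Groth.Agent.Lib.Helper3.flat_quotient_appLE_of_flat_subschemeι_comp f 𝓘
      ⟨V, hVaff⟩ W hWV
    rw [hI] at h3
    have hsupp : x ∈ 𝓘.support := hx
    rw [Scheme.IdealSheafData.mem_support_iff_of_mem hxW, Scheme.mem_zeroLocus_iff] at hsupp
    have htq : t ∈ (W.2.primeIdealOf ⟨x, hxW⟩).asIdeal := by
      by_contra hcon
      have h2 : W.2.fromSpec (W.2.primeIdealOf ⟨x, hxW⟩) ∈ X.basicOpen t := by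
        show W.2.primeIdealOf ⟨x, hxW⟩ ∈ W.2.fromSpec ⁻¹ᵁ X.basicOpen t
        rw [W.2.fromSpec_preimage_basicOpen]
        exact hcon
      rw [W.2.fromSpec_primeIdealOf] at h2
      exact hsupp t (by rw [hI]; exact Ideal.mem_span_singleton_self t) h2
    algebraize [(f.appLE V W.1 hWV).hom]
    refine (Groth.Agent.Lib.Helper14.FlatOpen.flat_stalkMap_iff V hVaff W.1 W.2 hWV hxW).mpr ?_
    exact flat_localized_of_nzd_of_flat_quot t ht h3 _ htq
  · exact Flat.of_stalkMap _ (fun w => flat_stalkMap_ι_comp f U w.1 w.2 w.2)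

end Groth.Agent.S1703
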