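import Groth.Statements.S1704
import Groth.Agent.Lib.Helper3.AssPoints

set_option autoImplicit false
universe u
open CategoryTheory CategoryTheory.Limits AlgebraicGeometry TopologicalSpace
open SDiv

namespace Groth.Agent.S1704
open Groth.Agent.Lib.Helper3

/-- Let X be a locally Noetherian scheme and F a quasi-coherent module. Then F is zero if and only if F
has no associated point. -/
theorem result (X : Scheme.{u}) [IsLocallyNoetherian X] (F : X.Modules) (hF : Coh.IsQCoh F) :
    IsZero F ↔ ∀ x : ↥X, ¬ Curv2.IsAssPoint F x := by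
  have : F.IsQuasicoherent := hF
  constructor
  · intro h x hx
    have := QS.subsingleton_stalk_of_isZero F h x
    exact not_isAssociatedPrime_of_subsingleton hx
  · intro h
    apply QS.isZero_of_subsingleton_stalk
    intro x
    obtain ⟨_, ⟨U, hU, rfl⟩, hxU, -⟩ :=
      X.isBasis_affineOpens.exists_subset_of_mem_open (Set.mem_univ x) isOpen_univ
    rw [QS.subsingleton_stalk_iff hU F x hxU]
    have hN : IsNoetherianRing Γ(X, U) := IsLocallyNoetherian.component_noetherian ⟨U, hU⟩
    have hsub : Subsingleton Γ(F, U) := by
      by_contra hne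
      rw [not_subsingleton_iff_nontrivial] at hne
      obtain ⟨p, hp⟩ := associatedPrimes.nonempty Γ(X, U) Γ(F, U)
      have hpp : p.IsPrime := hp.isPrime
      obtain ⟨z, hzU, hzp⟩ := QS.exists_point_of_prime hU p
      apply h z
      apply QS.isAssPoint_of_mem_associatedPrimes hU F z hzU
      rw [hzp]
      exact hp
    intro m
    refine ⟨1, ?_, Subsingleton.elim _ _⟩
    exact fun h1 => (hU.primeIdealOf ⟨x, hxU⟩).2.ne_top ((Ideal.eq_top_iff_one _).mpr h1)

end Groth.Agent.S1704
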