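import Groth.Statements.S1705
import Groth.Agent.Lib.Helper3.AssPoints

set_option autoImplicit false
universe u
open CategoryTheory CategoryTheory.Limits AlgebraicGeometry TopologicalSpace
open SDiv

namespace Groth.Agent.S1705
open Groth.Agent.Lib.Helper3

/-- Let X be a locally Noetherian scheme, F a quasi-coherent module and U an open subset containing
every associated point of F. Then the restriction map Γ(X, F) → Γ(U, F) is injective. -/
theorem result (X : Scheme.{u}) [IsLocallyNoetherian X] (F : X.Modules) (hF : Coh.IsQCoh F)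
    (U : X.Opens) (hU : ∀ x : ↥X, Curv2.IsAssPoint F x → x ∈ U) :
    Function.Injective (F.presheaf.map (homOfLE (le_top : U ≤ ⊤)).op) := by
  have : F.IsQuasicoherent := hF
  rw [injective_iff_map_eq_zero]
  intro s hs
  -- all germs of s vanish
  apply QS.eq_zero_of_subsingleton_stalk F ⊤ s
  intro x _
  obtain ⟨_, ⟨V, hV, rfl⟩, hxV, -⟩ :=
    X.isBasis_affineOpens.exists_subset_of_mem_open (Set.mem_univ x) isOpen_univ
  have hN : IsNoetherianRing Γ(X, V) := IsLocallyNoetherian.component_noetherian ⟨V, hV⟩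
  set t : Γ(F, V) := F.presheaf.map (homOfLE (le_top : V ≤ ⊤)).op s with ht
  suffices h0 : t = 0 by
    rw [← TopCat.Presheaf.germ_res_apply F.presheaf (homOfLE (le_top : V ≤ ⊤)) x hxV s, ← ht, h0,
      map_zero]
  by_contra hne
  -- the cyclic submodule generated by t has an associated prime
  have hnt : Nontrivial (Submodule.span Γ(X, V) {t}) :=
    ⟨⟨⟨t, Submodule.mem_span_singleton_self t⟩, 0, fun h => hne (congrArg Subtype.val h)⟩⟩
  obtain ⟨p, hp⟩ := associatedPrimes.nonempty Γ(X, V) (Submodule.span Γ(X, V) {t})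
  have hp' : p ∈ associatedPrimes Γ(X, V) Γ(F, V) :=
    (IsAssociatedPrime.map_of_injective (f := (Submodule.span Γ(X, V) {t}).subtype) hp
      (Submodule.injective_subtype _))
  have hpp : p.IsPrime := hp.isPrime
  obtain ⟨z, hzV, hzp⟩ := QS.exists_point_of_prime hV p
  have hzass : Curv2.IsAssPoint F z := by
    apply QS.isAssPoint_of_mem_associatedPrimes hV F z hzV
    rw [hzp]; exact hp'
  have hzU : z ∈ U := hU z hzass
  -- the germ of t at z vanishes
  have hgerm : F.presheaf.germ V z hzV t = 0 := by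
    rw [ht, TopCat.Presheaf.germ_res_apply F.presheaf (homOfLE (le_top : V ≤ ⊤)) z hzV s,
      ← TopCat.Presheaf.germ_res_apply F.presheaf (homOfLE (le_top : U ≤ ⊤)) z hzU s, hs, map_zero]
  obtain ⟨c, hcp, hct⟩ := (QS.germ_eq_zero_iff hV F z hzV t).mp hgerm
  rw [hzp] at hcp
  -- but the annihilator of t is contained in p
  apply hcp
  obtain ⟨y, hy⟩ := hp.2
  rw [hy]
  apply Ideal.le_radical
  rw [Submodule.mem_colon_singleton]
  obtain ⟨a, ha⟩ := Submodule.mem_span_singleton.mp y.2
  rw [Submodule.mem_bot]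
  apply Subtype.ext
  change c • y.1 = 0
  rw [← ha, smul_comm, hct, smul_zero]

end Groth.Agent.S1705
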