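import Groth.Statements.S1706
import Groth.Agent.Lib.Helper3.WeakAss

set_option autoImplicit false
universe u
open CategoryTheory CategoryTheory.Limits AlgebraicGeometry TopologicalSpace
open SDiv

namespace Groth.Agent.S1706
open Groth.Agent.Lib.Helper3

/-- Let X be a scheme, F a quasi-coherent module and U an open subset containing every weakly associated
point of F. Then the restriction map Γ(X, F) → Γ(U, F) is injective. -/
theorem result (X : Scheme.{u}) (F : X.Modules) (hF : Coh.IsQCoh F)
    (U : X.Opens) (hU : ∀ x : ↥X, Curv2.IsWeakAssPoint F x → x ∈ U) :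
    Function.Injective (F.presheaf.map (homOfLE (le_top : U ≤ ⊤)).op) := by
  have : F.IsQuasicoherent := hF
  rw [injective_iff_map_eq_zero]
  intro s hs
  apply QS.eq_zero_of_subsingleton_stalk F ⊤ s
  intro x _
  obtain ⟨_, ⟨V, hV, rfl⟩, hxV, -⟩ :=
    X.isBasis_affineOpens.exists_subset_of_mem_open (Set.mem_univ x) isOpen_univ
  set t : Γ(F, V) := F.presheaf.map (homOfLE (le_top : V ≤ ⊤)).op s with ht
  suffices h0 : t = 0 by
    rw [← TopCat.Presheaf.germ_res_apply F.presheaf (homOfLE (le_top : V ≤ ⊤)) x hxV s, ← ht, h0,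
      map_zero]
  by_contra hne
  obtain ⟨z, hzV, hzw, hzne⟩ := QS.exists_weakAssPoint_germ_ne_zero F hV t hne
  have hzU : z ∈ U := hU z hzw
  apply hzne
  rw [ht, TopCat.Presheaf.germ_res_apply F.presheaf (homOfLE (le_top : V ≤ ⊤)) z hzV s,
    ← TopCat.Presheaf.germ_res_apply F.presheaf (homOfLE (le_top : U ≤ ⊤)) z hzU s, hs, map_zero]

end Groth.Agent.S1706
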