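import Groth.Statements.S17065
import Mathlib

set_option autoImplicit false
universe u
open CAlg

namespace Groth.Agent.S17065

/-- The local algebraic statement its proof establishes: let A be a Noetherian ring, I ≤ J radical
ideals and Â the J-adic completion of A. If J^n Â ⊆ I Â for some n, then the closed set V(J) is open
inside V(I) ⊆ Spec A. (Globally: if X₂ ⊆ X₁ are the completions of a locally Noetherian scheme along
nested closed subsets Z₂ ⊆ Z₁ and the ideal of Z₁ generates an ideal of definition of X₂, then X₂ is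
a union of connected components of X₁.) -/
theorem result (A : Type u) [CommRing A] [IsNoetherianRing A]
    (I J : Ideal A) (hIJ : I ≤ J) (hI : I.IsRadical) (hJ : J.IsRadical) (n : ℕ)
    (h : (J ^ n).map (algebraMap A (AdicCompletion J A)) ≤ I.map (algebraMap A (AdicCompletion J A))) :
    IsOpen ((fun x : PrimeSpectrum.zeroLocus (I : Set A) => (x : PrimeSpectrum A)) ⁻¹'
      PrimeSpectrum.zeroLocus (J : Set A)) := by
  classical
  -- Step 1: J^n ≤ I ⊔ J^(n+1)
  have h1 : J ^ n ≤ I ⊔ J ^ (n + 1) := by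
    intro x hx
    let ev : AdicCompletion J A →ₐ[A] A ⧸ J ^ (n + 1) := AdicCompletion.evalₐ J (n + 1)
    have hx1 : algebraMap A (AdicCompletion J A) x ∈
        I.map (algebraMap A (AdicCompletion J A)) := h (Ideal.mem_map_of_mem _ hx)
    have hx2 : ev (algebraMap A (AdicCompletion J A) x) ∈
        (I.map (algebraMap A (AdicCompletion J A))).map (ev : AdicCompletion J A →+* A ⧸ J ^ (n + 1)) :=
      Ideal.mem_map_of_mem _ hx1
    rw [Ideal.map_map] at hx2
    have hcomp : ((ev : AdicCompletion J A →+* A ⧸ J ^ (n + 1)).comp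
        (algebraMap A (AdicCompletion J A))) = Ideal.Quotient.mk (J ^ (n + 1)) := by
      ext a
      simp only [RingHom.coe_comp, RingHom.coe_coe, Function.comp_apply, AlgHom.commutes]
      rfl
    rw [hcomp] at hx2
    have hx3 : ev (algebraMap A (AdicCompletion J A) x) = Ideal.Quotient.mk (J ^ (n + 1)) x := by
      rw [AlgHom.commutes]; rfl
    rw [hx3] at hx2
    rw [Ideal.mem_map_iff_of_surjective _ Ideal.Quotient.mk_surjective] at hx2
    obtain ⟨y, hy, hyx⟩ := hx2
    have : x - y ∈ J ^ (n + 1) := by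
      rw [← Ideal.Quotient.eq]; exact hyx.symm
    have hxy : x = y + (x - y) := by ring
    rw [hxy]
    exact Submodule.add_mem_sup hy this
  -- Step 2: Nakayama in A ⧸ I
  let J' : Ideal (A ⧸ I) := J.map (Ideal.Quotient.mk I)
  have h2 : J' ^ n ≤ J' • (J' ^ n) := by
    rw [smul_eq_mul, ← pow_succ']
    show (J.map (Ideal.Quotient.mk I)) ^ n ≤ (J.map (Ideal.Quotient.mk I)) ^ (n + 1)
    rw [← Ideal.map_pow, ← Ideal.map_pow]
    refine (Ideal.map_mono h1).trans ?_
    rw [Ideal.map_sup]
    refine sup_le ?_ le_rfl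
    rw [Ideal.map_quotient_self]
    exact bot_le
  obtain ⟨r', hr'1, hr'2⟩ := Submodule.exists_sub_one_mem_and_smul_eq_zero_of_fg_of_le_smul J' (J' ^ n)
    (IsNoetherian.noetherian _) h2
  obtain ⟨r, rfl⟩ := Ideal.Quotient.mk_surjective r'
  -- Step 3: the set is the preimage of a basic open
  have hset : ((fun x : PrimeSpectrum.zeroLocus (I : Set A) => (x : PrimeSpectrum A)) ⁻¹'
      PrimeSpectrum.zeroLocus (J : Set A)) =
      ((fun x : PrimeSpectrum.zeroLocus (I : Set A) => (x : PrimeSpectrum A)) ⁻¹'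
        (PrimeSpectrum.basicOpen r : Set (PrimeSpectrum A))) := by
    ext ⟨x, hxI⟩
    rw [PrimeSpectrum.mem_zeroLocus, SetLike.coe_subset_coe] at hxI
    simp only [Set.mem_preimage, PrimeSpectrum.mem_zeroLocus, SetLike.coe_subset_coe,
      SetLike.mem_coe, PrimeSpectrum.mem_basicOpen]
    constructor
    · intro hJx hrx
      rw [Ideal.mem_map_iff_of_surjective _ Ideal.Quotient.mk_surjective] at hr'1
      obtain ⟨j, hj, hjr⟩ := hr'1
      have h3 : j - (r - 1) ∈ I := by
        rw [← Ideal.Quotient.eq]; rw [hjr]; simp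
      have h4 : (1 : A) = (j - (r - 1)) - j + r := by ring
      apply x.isPrime.ne_top
      rw [Ideal.eq_top_iff_one, h4]
      exact x.asIdeal.add_mem (x.asIdeal.sub_mem (hxI h3) (hJx hj)) hrx
    · intro hrx j hj
      have h5 : (Ideal.Quotient.mk I) (j ^ n) ∈ J' ^ n := by
        rw [map_pow]
        exact Ideal.pow_mem_pow (Ideal.mem_map_of_mem _ hj) n
      have h6 := hr'2 _ h5
      rw [smul_eq_mul, ← map_mul, Ideal.Quotient.eq_zero_iff_mem] at h6
      have h7 : r * j ^ n ∈ x.asIdeal := hxI h6
      rcases x.isPrime.mem_or_mem h7 with h8 | h8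
      · exact absurd h8 hrx
      · exact x.isPrime.mem_of_pow_mem n h8
  rw [hset]
  exact (PrimeSpectrum.basicOpen r).isOpen.preimage continuous_subtype_val

end Groth.Agent.S17065
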