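import Groth.Statements.S17073
import Groth.Agent.Lib.Helper4.ReprLC

set_option autoImplicit false
open CategoryTheory
universe u
open LocCoh

namespace Groth.Agent.S17073

/-- Let R → S be a homomorphism of Noetherian rings, J an ideal of S containing elements u₁, …, u_d such
that S/(u₁, …, u_d) is a finite R-module and J lies in the radical of (u₁, …, u_d), and let F be a
finite R-module. Then the functor sending an S-module E to the set Hom_R(H^d_J(E), F) (d-th local
cohomology supported in J, scalars restricted to R) is representable by an S-module. (The published
statement gives the representing module as the degree −d cohomology of RHom_R(RΓ_J S, F) and a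
bifunctorial isomorphism; only representability is asserted here.) -/
theorem result
    (R S : Type u) [CommRing R] [CommRing S] [IsNoetherianRing R] [IsNoetherianRing S] [Algebra R S]
    (J : Ideal S) (d : ℕ) (u : Fin d → S) (hu : ∀ i, u i ∈ J)
    (hJ : J ≤ (Ideal.span (Set.range u)).radical) [Module.Finite R (S ⧸ Ideal.span (Set.range u))]
    (F : Type u) [AddCommGroup F] [Module R F] [Module.Finite R F] :
    ((localCohomology J d ⋙ ModuleCat.restrictScalars (algebraMap R S)).op ⋙
      yoneda.obj (ModuleCat.of R F)).IsRepresentable := by
  classical
  have hrad : J.radical = (Ideal.span ((Finset.univ.image u : Finset S) : Set S)).radical := by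
    rw [Finset.coe_image, Finset.coe_univ, Set.image_univ]
    apply le_antisymm
    · calc J.radical ≤ ((Ideal.span (Set.range u)).radical).radical := Ideal.radical_mono hJ
        _ = (Ideal.span (Set.range u)).radical := Ideal.radical_idem _
    · apply Ideal.radical_mono
      rw [Ideal.span_le]
      rintro _ ⟨i, rfl⟩
      exact hu i
  have hv : ∀ M : ModuleCat.{u} S,
      Subsingleton (Groth.Agent.Lib.Helper4.LC.HH J M (d + 1)) := by
    intro M
    have hcard : (Finset.univ.image u).card < d + 1 := by
      calc (Finset.univ.image u).card ≤ (Finset.univ : Finset (Fin d)).card := Finset.card_image_le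
        _ = d := by rw [Finset.card_univ, Fintype.card_fin]
        _ < d + 1 := Nat.lt_succ_self d
    have h1 := Groth.Agent.Lib.Helper4.HLVT.subsingleton_H_of_radical_eq_span J
      (Finset.univ.image u) hrad M (d + 1) hcard
    exact (Groth.Agent.Lib.Helper4.LC.subsingleton_H_iff J M (d + 1)).1 h1
  exact Groth.Agent.Lib.Helper4.ReprLC.isRepresentable J d hv (ModuleCat.of R F)

end Groth.Agent.S17073
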