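import Groth.Statements.S17075
import Mathlib

set_option autoImplicit false
universe u
open CategoryTheory CategoryTheory.Limits AlgebraicGeometry
open MorSch

namespace Groth.Agent.S17075

/-- Let g : X → S be a proper morphism, i : V → X a closed immersion and j : U → X an open immersion.
Then there is an open subset S₀ of S such that, for every scheme S' and every morphism f : S' → S,
the image of f lies in S₀ if and only if the base change V ×_S S' → X ×_S S' of i factors through
the open subscheme U ×_S S', equivalently the composite V ×_S S' → V → X has image contained in the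
image of j. -/
theorem result
    {V X U S : Scheme.{u}} (g : X ⟶ S) [IsProper g] (i : V ⟶ X) [IsClosedImmersion i]
    (j : U ⟶ X) [IsOpenImmersion j] :
    ∃ S₀ : S.Opens, ∀ (S' : Scheme.{u}) (f : S' ⟶ S),
      Set.range f ⊆ (S₀ : Set S) ↔
        Set.range (pullback.fst (i ≫ g) f ≫ i) ⊆ Set.range j := by
  -- the closed set of points of `V` outside `U`, and its closed image in `S`
  have hclosedZ : IsClosed ((i : V → X) ⁻¹' (Set.range j)ᶜ) :=
    (j.isOpenEmbedding.isOpen_range.isClosed_compl).preimage i.continuous
  have hproper : IsProper (i ≫ g) := inferInstance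
  have hclosed : IsClosed (((i ≫ g : V ⟶ S) : V → S) '' ((i : V → X) ⁻¹' (Set.range j)ᶜ)) :=
    (i ≫ g).isClosedMap _ hclosedZ
  refine ⟨⟨_, hclosed.isOpen_compl⟩, ?_⟩
  intro S' f
  have hrange : Set.range (pullback.fst (i ≫ g) f ≫ i) =
      (i : V → X) '' (((i ≫ g : V ⟶ S) : V → S) ⁻¹' Set.range f) := by
    rw [Scheme.Hom.comp_base, TopCat.coe_comp, Set.range_comp, Scheme.Pullback.range_fst]
  rw [hrange]
  constructor
  · intro h
    rintro _ ⟨v, hv, rfl⟩
    by_contra hj
    obtain ⟨s', hs'⟩ := hv
    have h1 := h ⟨s', rfl⟩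
    apply h1
    refine ⟨v, hj, ?_⟩
    exact hs'.symm
  · intro h
    rintro _ ⟨s', rfl⟩
    rintro ⟨v, hv, hvs⟩
    apply hv
    apply h
    exact ⟨v, ⟨s', hvs.symm⟩, rfl⟩

end Groth.Agent.S17075
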