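import Groth.Statements.S17076
-- import your own Groth.Agent.* helpers here
import Mathlib
import Groth.Agent.Lib.Helper12.IsoLocusBC

set_option autoImplicit false
universe u
open CategoryTheory CategoryTheory.Limits AlgebraicGeometry
open MorSch

namespace Groth.Agent.S17076

/-- Let S be a locally Noetherian scheme, X and Y schemes proper over S with X flat over S, and f : X →
Y an S-morphism. Then there is an open subset S₀ of S such that, for every locally Noetherian scheme
S' and every morphism h : S' → S, the image of h lies in S₀ if and only if the base change X ×_S S'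
→ Y ×_S S' of f is an isomorphism. (The published statement also supposes that some fibre of f is an
isomorphism; that hypothesis only serves to make S₀ nonempty and is not needed.) -/
theorem result
    {S : Scheme.{u}} [IsLocallyNoetherian S] (X Y : Over S) [IsProper X.hom] [IsProper Y.hom]
    [Flat X.hom] (f : X ⟶ Y) :
    ∃ S₀ : S.Opens, ∀ (S' : Scheme.{u}) [IsLocallyNoetherian S'] (h : S' ⟶ S),
      Set.range h ⊆ (S₀ : Set S) ↔ IsIso ((Over.pullback h).map f).left := by
  have hw : f.left ≫ Y.hom = X.hom := Over.w f
  haveI : IsProper (f.left ≫ Y.hom) := by rw [hw]; infer_instance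
  haveI : Flat (f.left ≫ Y.hom) := by rw [hw]; infer_instance
  haveI : LocallyOfFinitePresentation Y.hom :=
    Groth.Agent.Lib.Helper17.FlatLocusBase.locallyOfFinitePresentation_of_isLocallyNoetherian _
  haveI : LocallyOfFinitePresentation (f.left ≫ Y.hom) :=
    Groth.Agent.Lib.Helper17.FlatLocusBase.locallyOfFinitePresentation_of_isLocallyNoetherian _
  obtain ⟨S₀, hS₀⟩ := Groth.Agent.Lib.Helper12.IsoLocusBC.main f.left Y.hom
  refine ⟨S₀, fun S' _ h => ?_⟩
  have key : ∀ (g : (X.left : Scheme.{u}) ⟶ S) (hg : f.left ≫ Y.hom = g)
      (b : pullback g h ⟶ pullback Y.hom h)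
      (_ : b ≫ pullback.fst Y.hom h = pullback.fst g h ≫ f.left)
      (_ : b ≫ pullback.snd Y.hom h = pullback.snd g h),
      Set.range h ⊆ (S₀ : Set S) ↔ IsIso b := by
    intro g hg
    subst hg
    exact hS₀ S' h
  refine key X.hom hw _ ?_ ?_
  · simp only [Over.pullback_map_left, pullback.lift_fst]
  · simp only [Over.pullback_map_left, pullback.lift_snd]

end Groth.Agent.S17076
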