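import Groth.Statements.S17077
import Mathlib

set_option autoImplicit false
universe u
open RatCurve

namespace Groth.Agent.S17077


namespace S17077aux
open MvPolynomial

theorem aeval_line {k : Type*} [Field k] (a : Fin 2 → k) (F : MvPolynomial (Fin 2) k) (d : ℕ)
    (hF : F.IsHomogeneous d) :
    MvPolynomial.aeval (fun i => Polynomial.C (a i) * (Polynomial.X : Polynomial k)) F
      = Polynomial.C (MvPolynomial.eval a F) * Polynomial.X ^ d := by
  rw [MvPolynomial.aeval_def, MvPolynomial.eval₂_eq', MvPolynomial.eval_eq', map_sum,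
    Finset.sum_mul]
  refine Finset.sum_congr rfl fun m hm => ?_
  have hd : m 0 + m 1 = d := by
    have h1 := hF.degree_eq_sum_deg_support hm
    rw [h1]
    have : ∑ i ∈ m.support, m i = ∑ i, m i :=
      Finset.sum_subset (Finset.subset_univ _) (fun i _ hi => Finsupp.notMem_support_iff.mp hi)
    rw [this, Fin.sum_univ_two]
  rw [Fin.prod_univ_two, Fin.prod_univ_two, ← hd]
  simp only [mul_pow, map_mul, map_pow, pow_add, ← Polynomial.C_eq_algebraMap]
  ring

theorem dvd_of_eval_eq_zero {k : Type*} [Field k] (a : Fin 2 → k) (ha : a ≠ 0)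
    (F : MvPolynomial (Fin 2) k) (d : ℕ)
    (hF : F.IsHomogeneous d) (h0 : MvPolynomial.eval a F = 0) :
    (C (a 1) * X 0 - C (a 0) * X 1 : MvPolynomial (Fin 2) k) ∣ F := by
  classical
  obtain ⟨j, hj⟩ : ∃ j, a j ≠ 0 := by
    by_contra hcon; push Not at hcon; exact ha (funext hcon)
  let φ : MvPolynomial (Fin 2) k →ₐ[k] Polynomial k :=
    aeval (fun i => Polynomial.C (a i) * Polynomial.X)
  let ψ : Polynomial k →ₐ[k] MvPolynomial (Fin 2) k := Polynomial.aeval (C ((a j)⁻¹) * X j)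
  have hφF : φ F = 0 := by
    rw [show φ F = _ from aeval_line a F d hF, h0, map_zero, zero_mul]
  have hCC : (C (a j) * C ((a j)⁻¹) : MvPolynomial (Fin 2) k) = 1 := by
    rw [← C_mul, mul_inv_cancel₀ hj, C_1]
  have heq : (Ideal.Quotient.mkₐ k (Ideal.span {(C (a 1) * X 0 - C (a 0) * X 1 :
        MvPolynomial (Fin 2) k)})).comp (AlgHom.id k _) =
      (Ideal.Quotient.mkₐ k (Ideal.span {(C (a 1) * X 0 - C (a 0) * X 1 :
        MvPolynomial (Fin 2) k)})).comp (ψ.comp φ) := by
    apply MvPolynomial.algHom_ext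
    intro i
    have hψφ : ψ (φ (X i)) = C (a i) * (C ((a j)⁻¹) * X j) := by
      simp [φ, ψ]
    rw [AlgHom.comp_apply, AlgHom.comp_apply, AlgHom.comp_apply, AlgHom.id_apply, hψφ,
      Ideal.Quotient.mkₐ_eq_mk, Ideal.Quotient.eq, Ideal.mem_span_singleton]
    have key : (X i - C (a i) * (C ((a j)⁻¹) * X j) : MvPolynomial (Fin 2) k) =
        C ((a j)⁻¹) * (C (a j) * X i - C (a i) * X j) := by
      have : (X i : MvPolynomial (Fin 2) k) = (C (a j) * C ((a j)⁻¹)) * X i := by
        rw [hCC, one_mul]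
      conv_lhs => rw [this]
      ring
    rw [key]
    apply Dvd.dvd.mul_left
    fin_cases i <;> fin_cases j
    · simp
    · exact dvd_refl _
    · refine ⟨-1, ?_⟩
      simp only [Fin.mk_one, Fin.zero_eta]
      ring
    · simp
  have h1 := AlgHom.congr_fun heq F
  rw [AlgHom.comp_apply, AlgHom.comp_apply, AlgHom.comp_apply, AlgHom.id_apply, hφF, map_zero,
    map_zero, Ideal.Quotient.mkₐ_eq_mk, Ideal.Quotient.eq_zero_iff_mem,
    Ideal.mem_span_singleton] at h1
  exact h1

theorem exists_zero_of_common_factor {k : Type*} [Field k] [IsAlgClosed k] {n : ℕ}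
    (F : Fin n → MvPolynomial (Fin 2) k)
    (H : MvPolynomial (Fin 2) k) (hH : ¬ IsUnit H) (hdiv : ∀ i, H ∣ F i) :
    ∃ a : Fin 2 → k, a ≠ 0 ∧ ∀ i, eval a (F i) = 0 := by
  classical
  by_contra hcon
  push Not at hcon
  have hZ : ∀ x : Fin 2 → k, eval x H = 0 → x = 0 := by
    intro x hx
    by_contra hx0
    obtain ⟨i, hi⟩ := hcon x hx0
    obtain ⟨G, hG⟩ := hdiv i
    exact hi (by rw [hG, map_mul, hx, zero_mul])
  have hrad : ∀ j : Fin 2, (X j : MvPolynomial (Fin 2) k) ∈ (Ideal.span {H}).radical := by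
    intro j
    rw [← MvPolynomial.vanishingIdeal_zeroLocus_eq_radical (K := k),
      MvPolynomial.mem_vanishingIdeal_iff]
    intro x hx
    have hxH : eval x H = 0 := by
      have := hx H (Ideal.mem_span_singleton_self H)
      simpa [MvPolynomial.aeval_eq_eval] using this
    rw [hZ x hxH]
    simp
  obtain ⟨n0, hn0⟩ := hrad 0
  obtain ⟨n1, hn1⟩ := hrad 1
  rw [Ideal.mem_span_singleton] at hn0 hn1
  obtain ⟨i0, _, hi0⟩ := (dvd_prime_pow (MvPolynomial.X_prime) n0).mp hn0
  obtain ⟨i1, _, hi1⟩ := (dvd_prime_pow (MvPolynomial.X_prime) n1).mp hn1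
  have hi00 : i0 = 0 := by
    by_contra hne
    have h1 : (X 0 : MvPolynomial (Fin 2) k) ∣ X 1 ^ i1 := by
      have h2 : (X 0 : MvPolynomial (Fin 2) k) ∣ X 0 ^ i0 := dvd_pow_self _ hne
      exact h2.trans (hi0.symm.dvd.trans hi1.dvd)
    have h3 : (X 0 : MvPolynomial (Fin 2) k) ∣ X 1 := MvPolynomial.X_prime.dvd_of_dvd_pow h1
    obtain ⟨Q, hQ⟩ := h3
    have := congrArg (eval ![(0 : k), 1]) hQ
    simp at this
  rw [hi00, pow_zero] at hi0
  exact hH (associated_one_iff_isUnit.mp hi0)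

theorem main {k : Type*} [Field k] [IsAlgClosed k] {n : ℕ} (F : Fin n → MvPolynomial (Fin 2) k)
    (d : Fin n → ℕ) (hF : ∀ i, (F i).IsHomogeneous (d i)) :
    (∃ H : MvPolynomial (Fin 2) k, ¬ IsUnit H ∧ ∀ i, H ∣ F i) ↔
      ∃ a : Fin 2 → k, a ≠ 0 ∧ ∀ i, MvPolynomial.eval a (F i) = 0 := by
  constructor
  · rintro ⟨H, hH, hdiv⟩
    exact exists_zero_of_common_factor F H hH hdiv
  · rintro ⟨a, ha, hz⟩
    refine ⟨C (a 1) * X 0 - C (a 0) * X 1, ?_, fun i => dvd_of_eval_eq_zero a ha (F i) (d i) (hF i) (hz i)⟩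
    intro hu
    have h1 := hu.map (eval a)
    have h2 : eval a (C (a 1) * X 0 - C (a 0) * X 1 : MvPolynomial (Fin 2) k) = 0 := by
      simp; ring
    rw [h2] at h1
    exact not_isUnit_zero h1

end S17077aux

/-- Let k be an algebraically closed field and F_0, …, F_{n-1} homogeneous polynomials in k[u, v] (of
possibly different degrees). Then the F_i have a common factor which is not a unit if and only if
they have a common zero (a, b) ≠ (0, 0) in k², that is, a common zero in the projective line. -/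
theorem result
    {k : Type u} [Field k] [IsAlgClosed k] {n : ℕ} (F : Fin n → MvPolynomial (Fin 2) k)
    (d : Fin n → ℕ) (hF : ∀ i, (F i).IsHomogeneous (d i)) :
    (∃ H : MvPolynomial (Fin 2) k, ¬ IsUnit H ∧ ∀ i, H ∣ F i) ↔
      ∃ a : Fin 2 → k, a ≠ 0 ∧ ∀ i, MvPolynomial.eval a (F i) = 0 := by
  exact S17077aux.main F d hF

end Groth.Agent.S17077
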