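import Groth.Statements.S17078
import Groth.Agent.Lib.Lead.LinForms
import Groth.Agent.Lib.Lead.ProjDim
import Groth.Agent.Lib.Lead.SepN

set_option autoImplicit false
universe u
open RatCurve

namespace Groth.Agent.S17078

open MvPolynomial Groth.Agent.Lib.Lead.LineP Groth.Agent.Lib.Lead.LinForms

theorem hc_mul {σ : Type*} {R : Type*} [CommSemiring R] {F c : MvPolynomial σ R} {d m : ℕ}
    (hF : F.IsHomogeneous d) (hdm : d ≤ m) :
    homogeneousComponent m (F * c) = F * homogeneousComponent (m - d) c := by
  classical
  have h1 : ∀ j, homogeneousComponent m (F * homogeneousComponent j c)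
      = if j = m - d then F * homogeneousComponent j c else 0 := by
    intro j
    have hh : (F * homogeneousComponent j c).IsHomogeneous (d + j) :=
      hF.mul (homogeneousComponent_isHomogeneous j c)
    rw [homogeneousComponent_of_mem hh]
    by_cases hj : j = m - d
    · rw [if_pos hj, if_pos (by omega)]
    · rw [if_neg hj, if_neg (by omega)]
  conv_lhs => rw [← sum_homogeneousComponent c, Finset.mul_sum, map_sum]
  simp_rw [h1]
  rw [Finset.sum_ite_eq']
  split_ifs with hmem
  · rfl
  · rw [Finset.mem_range] at hmem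
    rw [homogeneousComponent_eq_zero _ _ (by omega), mul_zero]


/-- Let k be an algebraically closed field and F_0, …, F_{n-1} homogeneous polynomials of degree d in
k[u, v]. Then the F_i have no common factor other than units if and only if there is an integer m ≥
d such that every homogeneous polynomial of degree m can be written Σ_i F_i G_i with each G_i
homogeneous of degree m − d, i.e. the k-linear map (G_i)_i ↦ Σ_i F_i G_i from n copies of k[u,
v]_{m−d} to k[u, v]_m is surjective. -/
theorem result
    {k : Type u} [Field k] [IsAlgClosed k] {n : ℕ} (F : Fin n → MvPolynomial (Fin 2) k)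
    (d : ℕ) (hF : ∀ i, (F i).IsHomogeneous d) :
    (¬ ∃ H : MvPolynomial (Fin 2) k, ¬ IsUnit H ∧ ∀ i, H ∣ F i) ↔
      ∃ m : ℕ, d ≤ m ∧ ∀ P : MvPolynomial (Fin 2) k, P.IsHomogeneous m →
        ∃ G : Fin n → MvPolynomial (Fin 2) k, (∀ i, (G i).IsHomogeneous (m - d)) ∧
          P = ∑ i, F i * G i := by
  classical
  constructor
  · intro hno
    have h0 : ∀ z : Fin 2 → k, (∀ l, eval z (F l) = 0) → z = 0 := by
      intro z hz
      by_contra hz0
      apply hno
      obtain ⟨ℓ, hℓ⟩ : ∃ ℓ : MvPolynomial (Fin 2) k, ℓ = C (z 1) * X 0 + C (-z 0) * X 1 := ⟨_, rfl⟩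
      have hℓh : ℓ.IsHomogeneous 1 := by
        rw [hℓ]
        exact (isHomogeneous_C_mul_X _ _).add (isHomogeneous_C_mul_X _ _)
      have hℓev : ∀ x : Fin 2 → k, eval x ℓ = z 1 * x 0 - z 0 * x 1 := by
        intro x
        rw [hℓ]
        simp only [map_add, map_mul, eval_C, eval_X]
        ring
      have hℓ0 : ℓ ≠ 0 := by
        intro h
        apply hz0
        have h1 : z 1 = 0 := by
          have := hℓev ![1, 0]
          rw [h, map_zero] at this
          have e : z 1 * (![1, 0] : Fin 2 → k) 0 - z 0 * (![1, 0] : Fin 2 → k) 1 = z 1 := by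
            show z 1 * 1 - z 0 * 0 = z 1
            ring
          rw [e] at this
          exact this.symm
        have h2 : z 0 = 0 := by
          have := hℓev ![0, 1]
          rw [h, map_zero] at this
          have e : z 1 * (![0, 1] : Fin 2 → k) 0 - z 0 * (![0, 1] : Fin 2 → k) 1 = - z 0 := by
            show z 1 * 0 - z 0 * 1 = - z 0
            ring
          rw [e] at this
          exact neg_eq_zero.mp this.symm
        funext i
        fin_cases i
        · exact h2
        · exact h1
      refine ⟨ℓ, (irreducible_of_isHomogeneous_one hℓh hℓ0).not_isUnit, fun i => ?_⟩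
      apply Ideal.mem_span_singleton.mp
      apply mem_span_of_vanish hℓh hℓ0 (F i)
      intro x hx
      rw [hℓev] at hx
      obtain ⟨t, rfl⟩ : ∃ t : k, x = t • z := by
        by_cases h0' : z 0 = 0
        · have h1' : z 1 ≠ 0 := by
            intro h1'
            apply hz0
            funext i
            fin_cases i
            · exact h0'
            · exact h1'
          refine ⟨x 1 / z 1, ?_⟩
          funext i
          fin_cases i
          · show x 0 = x 1 / z 1 * z 0
            rw [h0', mul_zero]
            rw [h0', zero_mul, sub_zero] at hx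
            exact (mul_eq_zero.mp hx).resolve_left h1'
          · show x 1 = x 1 / z 1 * z 1
            rw [div_mul_cancel₀ _ h1']
        · refine ⟨x 0 / z 0, ?_⟩
          funext i
          fin_cases i
          · show x 0 = x 0 / z 0 * z 0
            rw [div_mul_cancel₀ _ h0']
          · show x 1 = x 0 / z 0 * z 1
            rw [div_mul_eq_mul_div, eq_div_iff h0']
            linear_combination (-1 : k) * hx
      rw [eval_smul_hom (hF i) t z, hz i, mul_zero]
    obtain ⟨M, hM⟩ := Groth.Agent.Lib.Lead.ProjDim.exists_pow_mem F h0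
    obtain ⟨m, hm⟩ : ∃ m, m = max d (2 * M) := ⟨_, rfl⟩
    have hdm : d ≤ m := hm ▸ le_max_left _ _
    have hMm : 2 * M ≤ m := hm ▸ le_max_right _ _
    refine ⟨m, hdm, fun P hP => ?_⟩
    have hPI : P ∈ Ideal.span (Set.range F) := by
      rw [P.as_sum]
      refine Ideal.sum_mem _ fun s hs => ?_
      have hdeg : s.degree = m := by
        have := hP (mem_support_iff.mp hs)
        rw [Finsupp.degree_eq_weight_one]
        exact this
      have hsum : s 0 + s 1 = m := by
        rw [← hdeg, Finsupp.degree_eq_sum, Fin.sum_univ_two]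
      have hcase : M ≤ s 0 ∨ M ≤ s 1 := by omega
      have hmon : monomial s (coeff s P) = C (coeff s P) * (X 0 ^ s 0 * X 1 ^ s 1) := by
        rw [monomial_eq, Finsupp.prod_fintype _ _ (fun i => pow_zero _), Fin.prod_univ_two]
      rw [hmon]
      rcases hcase with h | h
      · have e0 : (X 0 : MvPolynomial (Fin 2) k) ^ s 0 = X 0 ^ (s 0 - M) * X 0 ^ M := by
          rw [← pow_add]
          congr 1
          omega
        have e : (C (coeff s P) * (X 0 ^ s 0 * X 1 ^ s 1) : MvPolynomial (Fin 2) k)
            = (C (coeff s P) * X 0 ^ (s 0 - M) * X 1 ^ s 1) * X 0 ^ M := by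
          rw [e0]
          ring
        rw [e]
        exact Ideal.mul_mem_left _ _ (hM 0)
      · have e0 : (X 1 : MvPolynomial (Fin 2) k) ^ s 1 = X 1 ^ (s 1 - M) * X 1 ^ M := by
          rw [← pow_add]
          congr 1
          omega
        have e : (C (coeff s P) * (X 0 ^ s 0 * X 1 ^ s 1) : MvPolynomial (Fin 2) k)
            = (C (coeff s P) * X 0 ^ s 0 * X 1 ^ (s 1 - M)) * X 1 ^ M := by
          rw [e0]
          ring
        rw [e]
        exact Ideal.mul_mem_left _ _ (hM 1)
    obtain ⟨c, hc⟩ := Ideal.mem_span_range_iff_exists_fun.mp hPI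
    refine ⟨fun i => homogeneousComponent (m - d) (c i),
      fun i => homogeneousComponent_isHomogeneous _ _, ?_⟩
    have h1 : homogeneousComponent m P = P := homogeneousComponent_eq_self hP
    rw [← h1, ← hc, map_sum]
    refine Finset.sum_congr rfl fun i _ => ?_
    rw [mul_comm (c i) (F i), hc_mul (hF i) hdm]
  · rintro ⟨m, hdm, hsurj⟩ ⟨H, hHu, hHdvd⟩
    apply hHu
    have hrel : IsRelPrime (X 0 : MvPolynomial (Fin 2) k) (X 1) :=
      isRelPrime_of_eval (isHomogeneous_X _ 0) (X_ne_zero 0) ![0, 1] (by simp) (by simp)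
    have hdvdP : ∀ P : MvPolynomial (Fin 2) k, P.IsHomogeneous m → H ∣ P := by
      intro P hP
      obtain ⟨G, _, rfl⟩ := hsurj P hP
      exact Finset.dvd_sum fun i _ => Dvd.dvd.mul_right (hHdvd i) _
    exact hrel.pow (hdvdP _ (Groth.Agent.Lib.Lead.SepN.isHom_X_pow 0 m))
      (hdvdP _ (Groth.Agent.Lib.Lead.SepN.isHom_X_pow 1 m))

end Groth.Agent.S17078
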