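import Groth.Statements.S17079
import Mathlib

set_option autoImplicit false
universe u
open CategoryTheory CategoryTheory.Limits AlgebraicGeometry
open MorSch

namespace Groth.Agent.S17079

/-- Let gX : X → S and gY : Y → S be morphisms and suppose the functor Mor_S(X, Y) — sending an S-scheme
T to the set of S-morphisms T ×_S X → Y, with base change as transition maps — is represented by an
S-scheme M. Then for every morphism h : S' → S the functor Mor_{S'}(X ×_S S', Y ×_S S') on
S'-schemes is represented by M ×_S S'. (The published statement assumes X and Y projective over S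
with X flat and S, S' locally Noetherian; this row assumes only that the functor is represented by
M. Only the existence of a representing structure on M ×_S S' is asserted, not its compatibility
with the one on M.) -/
theorem result
    {X Y S S' : Scheme.{u}} (gX : X ⟶ S) (gY : Y ⟶ S) (h : S' ⟶ S)
    (M : Over S) (e : (Flatn.morS gX gY).RepresentableBy M) :
    Nonempty ((Flatn.morS (pullback.snd gX h) (pullback.snd gY h)).RepresentableBy
      (Over.mk (pullback.snd M.hom h))) := by
  classical
  -- the comparison morphism T' ×_{S'} (X ×_S S') ⟶ T' ×_S X and its inverse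
  have hcond : ∀ T' : Over S', pullback.fst T'.hom (pullback.snd gX h) ≫ T'.hom ≫ h =
      (pullback.snd T'.hom (pullback.snd gX h) ≫ pullback.fst gX h) ≫ gX := by
    intro T'
    rw [← Category.assoc, pullback.condition, Category.assoc, Category.assoc,
      pullback.condition]
  let θ : ∀ T' : Over S', pullback T'.hom (pullback.snd gX h) ⟶ pullback (T'.hom ≫ h) gX :=
    fun T' => pullback.lift (pullback.fst _ _) (pullback.snd _ _ ≫ pullback.fst gX h) (hcond T')
  have hθ_fst : ∀ T', θ T' ≫ pullback.fst (T'.hom ≫ h) gX = pullback.fst _ _ :=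
    fun T' => pullback.lift_fst _ _ _
  have hθ_snd : ∀ T', θ T' ≫ pullback.snd (T'.hom ≫ h) gX =
      pullback.snd _ _ ≫ pullback.fst gX h := fun T' => pullback.lift_snd _ _ _
  let θi : ∀ T' : Over S', pullback (T'.hom ≫ h) gX ⟶ pullback T'.hom (pullback.snd gX h) :=
    fun T' => pullback.lift (pullback.fst _ _)
      (pullback.lift (pullback.snd _ _) (pullback.fst _ _ ≫ T'.hom)
        (by rw [← pullback.condition, Category.assoc]))
      (by rw [pullback.lift_snd])
  have hθi_fst : ∀ T', θi T' ≫ pullback.fst T'.hom (pullback.snd gX h) = pullback.fst _ _ :=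
    fun T' => pullback.lift_fst _ _ _
  have hθi_snd : ∀ T', θi T' ≫ pullback.snd T'.hom (pullback.snd gX h) ≫ pullback.fst gX h =
      pullback.snd _ _ := fun T' => by
    rw [← Category.assoc]
    erw [pullback.lift_snd]
    exact pullback.lift_fst _ _ _
  have hθθi : ∀ T', θ T' ≫ θi T' = 𝟙 _ := by
    intro T'
    apply pullback.hom_ext
    · rw [Category.assoc, hθi_fst, hθ_fst, Category.id_comp]
    · apply pullback.hom_ext
      · rw [Category.assoc, Category.assoc, hθi_snd, hθ_snd, Category.id_comp]
      · rw [Category.assoc, Category.assoc, Category.id_comp, ← pullback.condition,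
          ← Category.assoc (θi T'), hθi_fst, ← Category.assoc, hθ_fst]
  have hθiθ : ∀ T', θi T' ≫ θ T' = 𝟙 _ := by
    intro T'
    apply pullback.hom_ext
    · rw [Category.assoc, hθ_fst, hθi_fst, Category.id_comp]
    · rw [Category.assoc, hθ_snd, hθi_snd, Category.id_comp]
  -- Equiv1 : Hom_{S'}(T', M ×_S S') ≃ Hom_S(T', M)
  let TS : Over S' → Over S := fun T' => Over.mk (T'.hom ≫ h)
  let E1 : ∀ T' : Over S', (T' ⟶ Over.mk (pullback.snd M.hom h)) ≃ (TS T' ⟶ M) := fun T' =>
    { toFun := fun φ => Over.homMk (φ.left ≫ pullback.fst M.hom h) (by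
        change (φ.left ≫ pullback.fst M.hom h) ≫ M.hom = T'.hom ≫ h
        rw [Category.assoc, pullback.condition, ← Category.assoc]
        congr 1
        exact Over.w φ)
      invFun := fun ψ => Over.homMk (pullback.lift ψ.left T'.hom (Over.w ψ))
        (pullback.lift_snd _ _ _)
      left_inv := fun φ => by
        apply Over.OverMorphism.ext
        apply pullback.hom_ext
        · exact pullback.lift_fst _ _ _
        · exact (pullback.lift_snd _ _ _).trans (Over.w φ).symm
      right_inv := fun ψ => by
        apply Over.OverMorphism.ext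
        exact pullback.lift_fst _ _ _ }
  -- Equiv3
  let E3 : ∀ T' : Over S',
      ((Flatn.morS gX gY).obj (Opposite.op (TS T'))) ≃
      ((Flatn.morS (pullback.snd gX h) (pullback.snd gY h)).obj (Opposite.op T')) := fun T' =>
    { toFun := fun β => Over.homMk
        (pullback.lift (θ T' ≫ β.left)
          (pullback.snd T'.hom (pullback.snd gX h) ≫ pullback.snd gX h) (by
            have hβ : β.left ≫ gY = pullback.snd (T'.hom ≫ h) gX ≫ gX := Over.w β
            rw [Category.assoc, hβ, ← Category.assoc, hθ_snd, Category.assoc, Category.assoc,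
              pullback.condition]))
        (pullback.lift_snd _ _ _)
      invFun := fun b => Over.homMk (θi T' ≫ b.left ≫ pullback.fst gY h) (by
        have hb : b.left ≫ pullback.snd gY h =
          pullback.snd T'.hom (pullback.snd gX h) ≫ pullback.snd gX h := Over.w b
        change (θi T' ≫ b.left ≫ pullback.fst gY h) ≫ gY = pullback.snd (T'.hom ≫ h) gX ≫ gX
        rw [Category.assoc, Category.assoc, pullback.condition, ← Category.assoc b.left, hb,
          Category.assoc, ← pullback.condition, ← Category.assoc, ← Category.assoc, 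
          Category.assoc (θi T'), hθi_snd])
      left_inv := fun β => by
        apply Over.OverMorphism.ext
        change θi T' ≫ pullback.lift _ _ _ ≫ pullback.fst gY h = β.left
        rw [pullback.lift_fst, ← Category.assoc, hθiθ, Category.id_comp]
      right_inv := fun b => by
        have hb : b.left ≫ pullback.snd gY h =
          pullback.snd T'.hom (pullback.snd gX h) ≫ pullback.snd gX h := Over.w b
        apply Over.OverMorphism.ext
        apply pullback.hom_ext
        · refine (pullback.lift_fst _ _ _).trans ?_
          change θ T' ≫ θi T' ≫ b.left ≫ pullback.fst gY h = _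
          rw [← Category.assoc, hθθi, Category.id_comp]
        · refine (pullback.lift_snd _ _ _).trans hb.symm }
  refine ⟨{ homEquiv := fun {T'} => (E1 T').trans (e.homEquiv.trans (E3 T'))
            homEquiv_comp := ?_ }⟩
  intro T'' T' f φ
  -- the induced morphism over S
  let fS : TS T'' ⟶ TS T' := Over.homMk f.left (by
    change f.left ≫ T'.hom ≫ h = T''.hom ≫ h
    rw [← Category.assoc]; congr 1; exact Over.w f)
  have h1 : E1 T'' (f ≫ φ) = fS ≫ E1 T' φ := by
    apply Over.OverMorphism.ext
    change (f.left ≫ φ.left) ≫ pullback.fst M.hom h = f.left ≫ φ.left ≫ pullback.fst M.hom h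
    rw [Category.assoc]
  change E3 T'' (e.homEquiv (E1 T'' (f ≫ φ))) = _
  rw [h1, e.homEquiv_comp]
  set β := e.homEquiv (E1 T' φ) with hβdef
  let pS : pullback (T''.hom ≫ h) gX ⟶ pullback (T'.hom ≫ h) gX :=
    ((Over.pullback gX).map fS).left
  let pS' : pullback T''.hom (pullback.snd gX h) ⟶ pullback T'.hom (pullback.snd gX h) :=
    ((Over.pullback (pullback.snd gX h)).map f).left
  have hpS_fst : pS ≫ pullback.fst (T'.hom ≫ h) gX = pullback.fst _ _ ≫ f.left :=
    pullback.lift_fst _ _ _
  have hpS_snd : pS ≫ pullback.snd (T'.hom ≫ h) gX = pullback.snd _ _ :=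
    pullback.lift_snd _ _ _
  have hpS'_fst : pS' ≫ pullback.fst T'.hom (pullback.snd gX h) = pullback.fst _ _ ≫ f.left :=
    pullback.lift_fst _ _ _
  have hpS'_snd : pS' ≫ pullback.snd T'.hom (pullback.snd gX h) = pullback.snd _ _ :=
    pullback.lift_snd _ _ _
  have hnat : θ T'' ≫ pS = pS' ≫ θ T' := by
    apply pullback.hom_ext
    · rw [Category.assoc, hpS_fst, ← Category.assoc, hθ_fst, Category.assoc, hθ_fst, hpS'_fst]
    · rw [Category.assoc, hpS_snd, hθ_snd, Category.assoc, hθ_snd, ← Category.assoc, hpS'_snd]
  have e1 : ∀ (T : Over S') (β : (Flatn.morS gX gY).obj (Opposite.op (TS T))),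
      (E3 T β).left ≫ pullback.fst gY h = θ T ≫ β.left := fun T β => pullback.lift_fst _ _ _
  have e2 : ∀ (T : Over S') (β : (Flatn.morS gX gY).obj (Opposite.op (TS T))),
      (E3 T β).left ≫ pullback.snd gY h =
        pullback.snd T.hom (pullback.snd gX h) ≫ pullback.snd gX h :=
    fun T β => pullback.lift_snd _ _ _
  have e3 : ((Flatn.morS gX gY).map fS.op β).left = pS ≫ β.left := rfl
  apply Over.OverMorphism.ext
  apply pullback.hom_ext
  · rw [e1, e3]
    change _ = (pS' ≫ (E3 T' β).left) ≫ pullback.fst gY h
    rw [Category.assoc, e1, ← Category.assoc, ← Category.assoc, hnat]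
  · rw [e2]
    change _ = (pS' ≫ (E3 T' β).left) ≫ pullback.snd gY h
    rw [Category.assoc, e2, ← Category.assoc, hpS'_snd]

end Groth.Agent.S17079
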