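import Groth.Statements.S17080
import Mathlib

set_option autoImplicit false
universe u
open CategoryTheory CategoryTheory.Limits AlgebraicGeometry
open MorSch

namespace Groth.Agent.S17080

section Aux
variable {X Y U S : Scheme.{u}} (gX : X ⟶ S) {gY : Y ⟶ S}

/-- `T ×_S X` over `S`. -/
noncomputable abbrev PX (T : Over S) : Over S := (Over.map gX).obj ((Over.pullback gX).obj T)

noncomputable abbrev PXmap {T T' : Over S} (f : T' ⟶ T) : PX gX T' ⟶ PX gX T :=
  (Over.map gX).map ((Over.pullback gX).map f)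

lemma PXmap_left_fst {T T' : Over S} (f : T' ⟶ T) :
    (PXmap gX f).left ≫ pullback.fst T.hom gX = pullback.fst T'.hom gX ≫ f.left := by
  simp [PXmap]
  exact pullback.lift_fst _ _ _

lemma PXmap_left_snd {T T' : Over S} (f : T' ⟶ T) :
    (PXmap gX f).left ≫ pullback.snd T.hom gX = pullback.snd T'.hom gX := by
  simp [PXmap]
  exact pullback.lift_snd _ _ _

lemma isPullback_PXmap {T M : Over S} (ψ : T ⟶ M) :
    IsPullback (PXmap gX ψ).left (pullback.fst T.hom gX) (pullback.fst M.hom gX) ψ.left := by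
  refine IsPullback.of_right ?_ (PXmap_left_fst gX ψ) (IsPullback.of_hasPullback M.hom gX).flip
  have := (IsPullback.of_hasPullback T.hom gX).flip
  rw [PXmap_left_snd, Over.w ψ]
  exact this

lemma exists_point {T M : Over S} (ψ : T ⟶ M) (z : ↑(pullback M.hom gX)) (t : T.left)
    (h : pullback.fst M.hom gX z = ψ.left t) :
    ∃ x : ↑(pullback T.hom gX), (PXmap gX ψ).left x = z := by
  have hp := isPullback_PXmap gX ψ
  obtain ⟨w, hw1, hw2⟩ := Scheme.Pullback.exists_preimage_pullback
    (f := pullback.fst M.hom gX) (g := ψ.left) z t h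
  refine ⟨hp.isoPullback.inv w, ?_⟩
  rw [← Scheme.Hom.comp_apply, hp.isoPullback_inv_fst]
  exact hw1

variable {gX}
variable {M : Over S} (e : (Flatn.morS gX gY).RepresentableBy M)

noncomputable def hE {T : Over S} (ψ : T ⟶ M) : PX gX T ⟶ Over.mk gY := e.homEquiv ψ

lemma hE_comp {T T' : Over S} (f : T' ⟶ T) (ψ : T ⟶ M) :
    hE e (f ≫ ψ) = PXmap gX f ≫ hE e ψ := e.homEquiv_comp f ψ

lemma hE_eq {T : Over S} (ψ : T ⟶ M) : hE e ψ = PXmap gX ψ ≫ hE e (𝟙 M) := by
  rw [← hE_comp, Category.comp_id]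

lemma hE_injective {T : Over S} : Function.Injective (hE e (T := T)) := e.homEquiv.injective

noncomputable def uL : pullback M.hom gX ⟶ Y := (hE e (𝟙 M)).left

lemma hE_left {T : Over S} (ψ : T ⟶ M) : (hE e ψ).left = (PXmap gX ψ).left ≫ uL e := by
  rw [hE_eq e ψ]; rfl

variable (j : U ⟶ Y) [IsOpenImmersion j]

def Zbad : Set ↑(pullback M.hom gX) := (uL e) ⁻¹' (Set.range j)ᶜ

lemma isClosed_Zbad : IsClosed (Zbad e j) :=
  (j.isOpenEmbedding.isOpen_range.isClosed_compl).preimage (uL e).continuous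

variable [IsProper gX]

noncomputable def M0 : M.left.Opens :=
  ⟨(pullback.fst M.hom gX '' Zbad e j)ᶜ,
    ((pullback.fst M.hom gX).isClosedMap _ (isClosed_Zbad e j)).isOpen_compl⟩

lemma range_iff {T : Over S} (ψ : T ⟶ M) :
    Set.range ψ.left ⊆ (M0 e j : Set M.left) ↔ Set.range (hE e ψ).left ⊆ Set.range j := by
  rw [hE_left]
  constructor
  · rintro h _ ⟨x, rfl⟩
    by_contra hx
    rw [Scheme.Hom.comp_apply] at hx
    have h1 : pullback.fst M.hom gX ((PXmap gX ψ).left x) ∈ pullback.fst M.hom gX '' Zbad e j :=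
      ⟨_, hx, rfl⟩
    have h2 : pullback.fst M.hom gX ((PXmap gX ψ).left x) = ψ.left (pullback.fst T.hom gX x) := by
      rw [← Scheme.Hom.comp_apply, ← Scheme.Hom.comp_apply, PXmap_left_fst]
    rw [h2] at h1
    exact h ⟨_, rfl⟩ h1
  · rintro h _ ⟨t, rfl⟩
    show ψ.left t ∉ pullback.fst M.hom gX '' Zbad e j
    rintro ⟨z, hz, hzt⟩
    obtain ⟨x, rfl⟩ := exists_point gX ψ z t hzt
    have := h ⟨x, rfl⟩
    rw [Scheme.Hom.comp_apply] at this
    exact hz this

noncomputable abbrev M0' : Over S := Over.mk ((M0 e j).ι ≫ M.hom)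
noncomputable abbrev ι₀ : M0' e j ⟶ M := Over.homMk (M0 e j).ι rfl
variable (gY) in
noncomputable abbrev j' : Over.mk (j ≫ gY) ⟶ Over.mk gY := Over.homMk j rfl

instance mono_j' : Mono (j' gY j) := by
  haveI : Mono (j' gY j).left := (inferInstance : Mono j)
  exact Over.mono_of_mono_left _

instance mono_ι₀ : Mono (ι₀ e j) := by
  haveI : Mono (ι₀ e j).left := (inferInstance : Mono (M0 e j).ι)
  exact Over.mono_of_mono_left _

lemma range_sub {T : Over S} (φ : T ⟶ M0' e j) :
    Set.range (hE e (φ ≫ ι₀ e j)).left ⊆ Set.range j := by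
  rw [← range_iff]
  rintro _ ⟨t, rfl⟩
  have h0 : (φ ≫ ι₀ e j).left = φ.left ≫ (M0 e j).ι := rfl
  rw [h0, Scheme.Hom.comp_apply]
  have h3 : (M0 e j).ι (φ.left t) ∈ Set.range (M0 e j).ι := ⟨_, rfl⟩
  rw [Scheme.Opens.range_ι] at h3
  exact h3

noncomputable def toFun {T : Over S} (φ : T ⟶ M0' e j) : PX gX T ⟶ Over.mk (j ≫ gY) :=
  Over.homMk (IsOpenImmersion.lift j (hE e (φ ≫ ι₀ e j)).left (range_sub e j φ)) (by
    show IsOpenImmersion.lift j (hE e (φ ≫ ι₀ e j)).left (range_sub e j φ) ≫ (j ≫ gY) = _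
    rw [← Category.assoc, IsOpenImmersion.lift_fac]
    exact Over.w (hE e (φ ≫ ι₀ e j)))

lemma toFun_comp {T : Over S} (φ : T ⟶ M0' e j) :
    toFun e j φ ≫ j' gY j = hE e (φ ≫ ι₀ e j) := by
  apply Over.OverMorphism.ext
  exact IsOpenImmersion.lift_fac _ _ _

lemma toFun_injective {T : Over S} : Function.Injective (toFun e j (T := T)) := by
  intro φ φ' h
  have h1 : hE e (φ ≫ ι₀ e j) = hE e (φ' ≫ ι₀ e j) := by rw [← toFun_comp, ← toFun_comp, h]
  have h2 := hE_injective e h1
  exact (cancel_mono _).mp h2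

lemma toFun_surjective {T : Over S} : Function.Surjective (toFun e j (T := T)) := by
  intro c
  let ψ : T ⟶ M := e.homEquiv.symm (c ≫ j' gY j)
  have hψ : hE e ψ = c ≫ j' gY j := e.homEquiv.apply_symm_apply _
  have hr : Set.range ψ.left ⊆ (M0 e j : Set M.left) := by
    rw [range_iff, hψ]
    rintro _ ⟨x, rfl⟩
    exact ⟨c.left x, rfl⟩
  let φl : T.left ⟶ (M0 e j).toScheme :=
    IsOpenImmersion.lift (M0 e j).ι ψ.left (by rw [Scheme.Opens.range_ι]; exact hr)
  have hφl : φl ≫ (M0 e j).ι = ψ.left := IsOpenImmersion.lift_fac _ _ _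
  let φ : T ⟶ M0' e j := Over.homMk φl (by
    show φl ≫ ((M0 e j).ι ≫ M.hom) = T.hom
    rw [← Category.assoc, hφl]; exact Over.w ψ)
  have hφ : φ ≫ ι₀ e j = ψ := Over.OverMorphism.ext hφl
  refine ⟨φ, ?_⟩
  rw [← cancel_mono (j' gY j), toFun_comp, hφ, hψ]

noncomputable def e0 : (Flatn.morS gX (j ≫ gY)).RepresentableBy (M0' e j) where
  homEquiv {T} := Equiv.ofBijective (toFun e j (T := T)) ⟨toFun_injective e j, toFun_surjective e j⟩
  homEquiv_comp {T T'} f φ := by
    show toFun e j (f ≫ φ) = PXmap gX f ≫ toFun e j φ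
    rw [← cancel_mono (j' gY j), toFun_comp, Category.assoc, Category.assoc, toFun_comp, hE_comp]

end Aux


/-- Let gX : X → S be proper and flat, gY : Y → S separated and j : U → Y an open immersion, and suppose
the functor Mor_S(X, Y) — S-schemes T ↦ S-morphisms T ×_S X → Y — is represented by an S-scheme M
via e. Then there are an open subset M₀ of M and a representation e₀ of Mor_S(X, U) by the open
subscheme M₀ (viewed over S through M) which is compatible with e: for every S-morphism φ : T → M₀,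
the S-morphism T ×_S X → Y classified by φ followed by the inclusion M₀ → M is the S-morphism T ×_S
X → U classified by φ, followed by j. In particular the morphism Mor_S(X, U) → Mor_S(X, Y) induced
by j is an open immersion. (Published for X projective and flat and Y quasi-projective over a
locally Noetherian S, which is how M is known to exist there; representability is taken as a
hypothesis here.) -/
theorem result
    {X Y U S : Scheme.{u}} (gX : X ⟶ S) [IsProper gX] [Flat gX] (gY : Y ⟶ S) [IsSeparated gY]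
    (j : U ⟶ Y) [IsOpenImmersion j] (M : Over S) (e : (Flatn.morS gX gY).RepresentableBy M) :
    ∃ (M₀ : M.left.Opens)
      (e₀ : (Flatn.morS gX (j ≫ gY)).RepresentableBy (Over.mk (M₀.ι ≫ M.hom))),
      ∀ (T : Over S) (φ : T ⟶ Over.mk (M₀.ι ≫ M.hom)),
        (e.homEquiv (φ ≫ Over.homMk M₀.ι rfl) :
            (Over.map gX).obj ((Over.pullback gX).obj T) ⟶ Over.mk gY) =
          (e₀.homEquiv φ : (Over.map gX).obj ((Over.pullback gX).obj T) ⟶ Over.mk (j ≫ gY)) ≫
            (Over.homMk j rfl : Over.mk (j ≫ gY) ⟶ Over.mk gY) := by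
  refine ⟨M0 e j, e0 e j, fun T φ => ?_⟩
  exact (toFun_comp e j φ).symm

end Groth.Agent.S17080
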