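import Groth.Statements.S17084
import Mathlib

set_option autoImplicit false
universe u
open CategoryTheory CategoryTheory.Limits AlgebraicGeometry
open MorSch

namespace Groth.Agent.S17084

/-- Let (X_i)_{i ∈ ι} be a finite family of schemes over S with structure morphisms g_i : X_i → S, let Y
→ S be a scheme over S and T an S-scheme. Then for every family of S-morphisms a_i : T ×_S X_i → Y
there is a unique S-morphism b : T ×_S (∐_i X_i) → Y whose restriction along each T ×_S X_i → T ×_S
(∐_i X_i) is a_i. In other words the canonical map Mor_S(∐_i X_i, Y) → ∏_i Mor_S(X_i, Y) of functors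
on S-schemes is an isomorphism. -/
theorem result
    {S Y : Scheme.{u}} {ι : Type u} [Finite ι] (X : ι → Scheme.{u}) (g : ∀ i, X i ⟶ S)
    (gY : Y ⟶ S) (T : Over S) (a : ∀ i, (Flatn.morS (g i) gY).obj (Opposite.op T)) :
    ∃! b : (Flatn.morS (Sigma.desc g) gY).obj (Opposite.op T),
      ∀ i, pullback.map T.hom (g i) T.hom (Sigma.desc g) (𝟙 T.left) (Sigma.ι X i) (𝟙 S)
          ((Category.comp_id _).trans (Category.id_comp _).symm)
          ((Category.comp_id _).trans (Sigma.ι_desc g i).symm) ≫ b.left = (a i).left := by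
  classical
  -- the restriction maps
  let m : ∀ i, pullback T.hom (g i) ⟶ pullback T.hom (Sigma.desc g) := fun i =>
    pullback.map T.hom (g i) T.hom (Sigma.desc g) (𝟙 T.left) (Sigma.ι X i) (𝟙 S)
          ((Category.comp_id _).trans (Category.id_comp _).symm)
          ((Category.comp_id _).trans (Sigma.ι_desc g i).symm)
  have hm_fst : ∀ i, m i ≫ pullback.fst T.hom (Sigma.desc g) = pullback.fst T.hom (g i) := by
    intro i; exact (pullback.lift_fst _ _ _).trans (Category.comp_id _)
  have hm_snd : ∀ i, m i ≫ pullback.snd T.hom (Sigma.desc g) =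
      pullback.snd T.hom (g i) ≫ Sigma.ι X i := by
    intro i; exact pullback.lift_snd _ _ _
  -- each square is a pullback
  have hpb : ∀ i, IsPullback (m i) (pullback.snd T.hom (g i))
      (pullback.snd T.hom (Sigma.desc g)) (Sigma.ι X i) := by
    intro i
    have hbot : IsPullback (pullback.snd T.hom (Sigma.desc g)) (pullback.fst T.hom (Sigma.desc g))
        (Sigma.desc g) T.hom := (IsPullback.of_hasPullback T.hom (Sigma.desc g)).flip
    have hbig : IsPullback (pullback.snd T.hom (g i)) (pullback.fst T.hom (g i))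
        (g i) T.hom := (IsPullback.of_hasPullback T.hom (g i)).flip
    have hbig' : IsPullback (pullback.snd T.hom (g i)) (m i ≫ pullback.fst T.hom (Sigma.desc g))
        (Sigma.ι X i ≫ Sigma.desc g) T.hom := by
      rw [hm_fst, Sigma.ι_desc]; exact hbig
    exact (IsPullback.of_bot hbig' (hm_snd i).symm hbot).flip
  -- universal colimit
  have huniv : IsUniversalColimit (Cofan.mk (∐ X) (Sigma.ι X)) :=
    FinitaryPreExtensive.isUniversal_finiteCoproducts (coproductIsCoproduct X)
  let c' : Cofan (fun i => pullback T.hom (g i)) :=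
    Cofan.mk (pullback T.hom (Sigma.desc g)) m
  obtain ⟨hc'⟩ : Nonempty (IsColimit c') := by
    refine huniv c' (Discrete.natTrans (fun i => pullback.snd T.hom (g i.as)))
      (pullback.snd T.hom (Sigma.desc g)) ?_ (NatTrans.Equifibered.of_discrete _) ?_
    · ext ⟨i⟩
      simpa [c'] using (hm_snd i).symm
    · rintro ⟨i⟩
      simpa [c'] using hpb i
  -- the glued morphism
  have ha : ∀ i, (a i).left ≫ gY = pullback.snd T.hom (g i) ≫ g i := fun i => Over.w (a i)
  let bl : pullback T.hom (Sigma.desc g) ⟶ Y := Cofan.IsColimit.desc hc' (fun i => (a i).left)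
  have hbl : ∀ i, m i ≫ bl = (a i).left := fun i => Cofan.IsColimit.fac hc' _ i
  have hw : bl ≫ gY = pullback.snd T.hom (Sigma.desc g) ≫ Sigma.desc g := by
    refine Cofan.IsColimit.hom_ext hc' _ _ (fun i => ?_)
    change m i ≫ bl ≫ gY = m i ≫ pullback.snd T.hom (Sigma.desc g) ≫ Sigma.desc g
    rw [← Category.assoc, hbl, ha, ← Category.assoc, hm_snd, Category.assoc, Sigma.ι_desc]
  refine ⟨Over.homMk bl hw, fun i => hbl i, ?_⟩
  intro b' hb'
  refine Over.OverMorphism.ext ?_
  refine Cofan.IsColimit.hom_ext hc' _ _ (fun i => ?_)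
  change m i ≫ b'.left = m i ≫ bl
  rw [hbl]
  exact hb' i

end Groth.Agent.S17084
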