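import Groth.Statements.S1709
import Groth.Agent.Lib.Helper3.WeakAssPush

set_option autoImplicit false
universe u
open CategoryTheory CategoryTheory.Limits AlgebraicGeometry TopologicalSpace
open SDiv

namespace Groth.Agent.S1709

open Groth.Agent.Lib.Helper3

theorem isAssPoint_pushforward_aux {X S : Scheme.{u}} (f : X ⟶ S) [IsAffineHom f]
    [IsLocallyNoetherian X] (F : X.Modules) [F.IsQuasicoherent] (x : X)
    (h : Curv2.IsAssPoint F x) :
    Curv2.IsAssPoint ((Scheme.Modules.pushforward f).obj F) (f x) := by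
  haveI : ((Scheme.Modules.pushforward f).obj F).IsQuasicoherent :=
    QCSec.isQuasicoherent_pushforward f F
  obtain ⟨V, hV, hsV⟩ := QCProps.exists_affine_nbhd (f x)
  have hU : IsAffineOpen (f ⁻¹ᵁ V) := hV.preimage f
  have hxU : x ∈ f ⁻¹ᵁ V := hsV
  haveI : IsNoetherianRing Γ(X, f ⁻¹ᵁ V) :=
    IsLocallyNoetherian.component_noetherian ⟨f ⁻¹ᵁ V, hU⟩
  have hfg : (hU.primeIdealOf ⟨x, hxU⟩).asIdeal.FG :=
    (isNoetherianRing_iff_ideal_fg _).mp inferInstance _
  obtain ⟨hprime, m, hm⟩ := (Submodule.isAssociatedPrime_def).mp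
    (QS.mem_associatedPrimes_of_isAssPoint hU F x hxU hfg h)
  apply QS.isAssPoint_of_mem_associatedPrimes hV _ (f x) hsV
  have h1 := IsAffineOpen.comap_primeIdealOf_appLE (f := f) V hV (f ⁻¹ᵁ V) hU le_rfl hxU
  have h2 : (hV.primeIdealOf ⟨f x, hsV⟩).asIdeal =
      Ideal.comap (f.app V).hom (hU.primeIdealOf ⟨x, hxU⟩).asIdeal := by
    rw [← h1, Scheme.Hom.app_eq_appLE]
    rfl
  have key : ∀ (m1 : Γ(F, f ⁻¹ᵁ V)) (m2 : Γ((Scheme.Modules.pushforward f).obj F, V)), m2 = m1 →
      Submodule.colon (⊥ : Submodule Γ(S, V) Γ((Scheme.Modules.pushforward f).obj F, V)) {m2} =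
      Ideal.comap (f.app V).hom (Submodule.colon (⊥ : Submodule Γ(X, f ⁻¹ᵁ V) Γ(F, f ⁻¹ᵁ V)) {m1}) := by
    intro m1 m2 h12
    subst h12
    ext a
    rw [Ideal.mem_comap, Submodule.mem_colon_singleton, Submodule.mem_colon_singleton,
      Submodule.mem_bot, Submodule.mem_bot]
    rfl
  refine (Submodule.isAssociatedPrime_def).mpr ⟨(hV.primeIdealOf ⟨f x, hsV⟩).isPrime, m, ?_⟩
  rw [h2, hm, Ideal.comap_radical, key m m rfl]

/-- Let f : X ⟶ S be an affine morphism with X locally Noetherian and F a quasi-coherent module on X.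
Then the following subsets of S coincide: the image of the associated points of F, the associated
points of f_* F, the weakly associated points of f_* F, and the image of the weakly associated
points of F. -/
theorem result {X S : Scheme.{u}} (f : X ⟶ S) [IsAffineHom f] [IsLocallyNoetherian X] (F : X.Modules)
    (hF : Coh.IsQCoh F) :
    (fun x => f x) '' {x : ↥X | Curv2.IsAssPoint F x} = {s : ↥S | Curv2.IsAssPoint ((Scheme.Modules.pushforward f).obj F) s} ∧
      {s : ↥S | Curv2.IsAssPoint ((Scheme.Modules.pushforward f).obj F) s} =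
        {s : ↥S | Curv2.IsWeakAssPoint ((Scheme.Modules.pushforward f).obj F) s} ∧
      {s : ↥S | Curv2.IsWeakAssPoint ((Scheme.Modules.pushforward f).obj F) s} =
        (fun x => f x) '' {x : ↥X | Curv2.IsWeakAssPoint F x} := by
  have : F.IsQuasicoherent := hF
  have e1 : {x : ↥X | Curv2.IsAssPoint F x} = {x : ↥X | Curv2.IsWeakAssPoint F x} := by
    ext x; exact QS.isAssPoint_iff_isWeakAssPoint F x
  have e2 : {s : ↥S | Curv2.IsAssPoint ((Scheme.Modules.pushforward f).obj F) s} =
      {s : ↥S | Curv2.IsWeakAssPoint ((Scheme.Modules.pushforward f).obj F) s} := by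
    ext s; exact QS.isAssPoint_iff_isWeakAssPoint _ s
  have e3 : {s : ↥S | Curv2.IsWeakAssPoint ((Scheme.Modules.pushforward f).obj F) s} =
      (fun x => f x) '' {x : ↥X | Curv2.IsWeakAssPoint F x} := by
    ext s
    constructor
    · intro hs
      obtain ⟨x, hx, hxF⟩ := QS.exists_weakAssPoint_of_pushforward f F s hs
      exact ⟨x, hxF, hx⟩
    · rintro ⟨x, hxF, rfl⟩
      exact (QS.isAssPoint_iff_isWeakAssPoint _ _).mp
        (isAssPoint_pushforward_aux f F x ((QS.isAssPoint_iff_isWeakAssPoint F x).mpr hxF))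
  exact ⟨by rw [e1, e2, e3], e2, e3⟩

end Groth.Agent.S1709
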