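import Groth.Statements.S1710
import Groth.Agent.Lib.Helper3.RelCartier

set_option autoImplicit false
universe u
open CategoryTheory CategoryTheory.Limits AlgebraicGeometry TopologicalSpace
open SDiv

namespace Groth.Agent.S1710
open Groth.Agent.Lib.Helper3

/-- Let f : X ⟶ S be a morphism and 𝓘₁, 𝓘₂ ideal sheaves of effective Cartier divisors D₁ ⊆ D₂ on X,
both flat over S, and let 𝓘 be the ideal sheaf of an effective Cartier divisor D with D₂ = D₁ + D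
(that is, 𝓘₁𝓘 = 𝓘₂). Then D is flat over S as well. -/
theorem result {X S : Scheme.{u}} (f : X ⟶ S) (𝓘₁ 𝓘₂ 𝓘 : X.IdealSheafData)
    (h₁ : (BlowUp.IsEffCartierIdeal 𝓘₁ ∧ Flat (𝓘₁.subschemeι ≫ f))) (h₂ : (BlowUp.IsEffCartierIdeal 𝓘₂ ∧ Flat (𝓘₂.subschemeι ≫ f))) (h : BlowUp.IsEffCartierIdeal 𝓘) (hsum : 𝓘₁ * 𝓘 = 𝓘₂) :
    Flat (𝓘.subschemeι ≫ f) := by
  obtain ⟨hc₁, hf₁⟩ := h₁
  obtain ⟨hc₂, hf₂⟩ := h₂
  apply flat_subschemeι_comp_of_forall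
  intro d
  set x := 𝓘.subschemeι d with hx
  obtain ⟨_, ⟨V, hV, rfl⟩, hxV, -⟩ :=
    S.isBasis_affineOpens.exists_subset_of_mem_open (Set.mem_univ (f x)) isOpen_univ
  obtain ⟨U, hxU, hUV, ⟨a, ha, hIa⟩, ⟨b, hb, hIb⟩⟩ :=
    exists_affine_principal_pair 𝓘 𝓘₁ h hc₁ x (f ⁻¹ᵁ V) hxV
  refine ⟨⟨V, hV⟩, U, hxU, hUV, ?_⟩
  have h1 := flat_quotient_appLE_of_flat_subschemeι_comp f 𝓘₁ ⟨V, hV⟩ U hUV
  have h2 := flat_quotient_appLE_of_flat_subschemeι_comp f 𝓘₂ ⟨V, hV⟩ U hUV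
  have h2' : 𝓘₂.ideal U = Ideal.span {a * b} := by
    rw [← hsum, Scheme.IdealSheafData.ideal_mul, Pi.mul_apply, hIa, hIb,
      Ideal.span_singleton_mul_span_singleton, mul_comm]
  rw [hIb] at h1
  rw [h2'] at h2
  rw [hIa]
  exact ringHom_flat_quotient_of_mul _ a b hb h2 h1

end Groth.Agent.S1710
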