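import Groth.Statements.S1712
import Mathlib
import Groth.Agent.Lib.Helper4.LocNorm

set_option autoImplicit false
universe u
open CategoryTheory
attribute [local instance] HasDerivedCategory.standard
open Dual

namespace Groth.Agent.S1712

/-- Let A be a Noetherian local ring with a normalized dualizing complex ω, M a finite A-module and E^j
the A-module of maps M → ω[-j] in D(A). A prime p is in the support of one of E^0, …, E^i if and
only if the depth of M_p over A_p plus the dimension of A/p is at most i. -/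
theorem result (A : Type u) [CommRing A] [IsLocalRing A] [IsNoetherianRing A] (ω : Dual.D A) (hω : Dual.IsDualizing A ω) (hn : Dual.IsNormalized A ω) (M : Type u) [AddCommGroup M] [Module A M] [Module.Finite A M] (i : ℕ) (p : PrimeSpectrum A) : (∃ j : ℕ, j ≤ i ∧ p ∈ Module.support A (Dual.inD A M ⟶ ω⟦(-(j : ℤ))⟧)) ↔ ((LocCoh.depth (Localization.AtPrime p.asIdeal) (LocalizedModule p.asIdeal.primeCompl M) : ℕ∞) : WithBot ℕ∞) + ringKrullDim (A ⧸ p.asIdeal) ≤ (i : WithBot ℕ∞) := by
  classical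
  obtain ⟨ω', n, hB, hnorm, hdeg, hExt, -⟩ :=
    Groth.Agent.Lib.Helper4.LocNorm.exists_localize_normalize ω hω p
  obtain ⟨δ, h1, h2⟩ := Groth.Agent.Lib.Helper18.DR.Dim.exists_dimension_function ω hω
  have hnp : n = -δ p := hdeg.unique (h1 p)
  have hcp : δ (IsLocalRing.closedPoint A) = 0 := by
    have := Groth.Agent.Lib.Helper18.DR.Dim.isDeg_closedPoint ω hn
      (-δ (IsLocalRing.closedPoint A)) (h1 _)
    omega
  obtain ⟨h0, hdim⟩ := Groth.Agent.Lib.Helper18.DR.Dim.ringKrullDim_quotient_eq_of_dimFun δ h2 p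
  rw [hcp, sub_zero] at h0 hdim
  obtain ⟨e, he⟩ : ∃ e : ℕ, δ p = e := ⟨(δ p).toNat, (Int.toNat_of_nonneg h0).symm⟩
  rw [he, Int.toNat_natCast] at hdim
  rw [hdim]
  have hn' : n = -(e : ℤ) := by omega
  subst hn'
  have key : ∀ j : ℕ, p ∈ Module.support A (Dual.inD A M ⟶ ω⟦(-(j : ℤ))⟧) ↔
      Nontrivial (Dual.inD (Localization.AtPrime p.asIdeal)
        (LocalizedModule p.asIdeal.primeCompl M) ⟶ ω'⟦-(j : ℤ) + (e : ℤ)⟧) := by
    intro j
    rw [Module.mem_support_iff, ← not_subsingleton_iff_nontrivial,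
      ← not_subsingleton_iff_nontrivial, hExt M (-(j : ℤ)), sub_neg_eq_add]
  by_cases hM : Subsingleton (LocalizedModule p.asIdeal.primeCompl M)
  · constructor
    · rintro ⟨j, hj, hjp⟩
      rw [key] at hjp
      haveI := Groth.Agent.Lib.Helper4.DT.subsingleton_hom_of_subsingleton ω'
        (ModuleCat.of (Localization.AtPrime p.asIdeal) (LocalizedModule p.asIdeal.primeCompl M))
        hM (-(j : ℤ) + (e : ℤ))
      exact absurd hjp (not_nontrivial _)
    · intro h
      exfalso
      rw [Groth.Agent.Lib.Helper4.depth_eq_top_of_subsingleton] at h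
      have h3 : ((⊤ : ℕ∞) : WithBot ℕ∞) + ((e : ℕ) : WithBot ℕ∞) = ((⊤ : ℕ∞) : WithBot ℕ∞) := by
        rw [show ((e : ℕ) : WithBot ℕ∞) = (((e : ℕ) : ℕ∞) : WithBot ℕ∞) from rfl,
          ← WithBot.coe_add, top_add]
      rw [h3] at h
      have h4 : ((⊤ : ℕ∞) : WithBot ℕ∞) ≤ (((i : ℕ) : ℕ∞) : WithBot ℕ∞) := h
      exact absurd (WithBot.coe_le_coe.1 h4) (by simp)
  · haveI : Nontrivial (LocalizedModule p.asIdeal.primeCompl M) :=
      not_subsingleton_iff_nontrivial.1 hM
    obtain ⟨m, hm⟩ := Groth.Agent.Lib.Helper4.exists_nat_depth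
      (R := Localization.AtPrime p.asIdeal) (M := LocalizedModule p.asIdeal.primeCompl M)
    rw [hm]
    have hT := (Groth.Agent.Lib.Helper4.DT.depth_eq_iff_T hB hnorm
      (LocalizedModule p.asIdeal.primeCompl M) m).1 hm
    constructor
    · rintro ⟨j, hj, hjp⟩
      rw [key] at hjp
      by_cases hlt : (j : ℤ) < (e : ℤ)
      · haveI := Groth.Agent.Lib.Helper4.DT.T_pos hB hnorm
          (LocalizedModule p.asIdeal.primeCompl M) (-(j : ℤ) + (e : ℤ)) (by omega)
        exact absurd hjp (not_nontrivial _)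
      · obtain ⟨k, hk⟩ : ∃ k : ℕ, (j : ℤ) = (e : ℤ) + (k : ℤ) := ⟨j - e, by omega⟩
        have hidx : -(j : ℤ) + (e : ℤ) = -(k : ℤ) := by omega
        rw [hidx] at hjp
        by_cases hkm : k < m
        · haveI := hT.1 k hkm
          exact absurd hjp (not_nontrivial _)
        · have h5 : m + e ≤ i := by omega
          exact_mod_cast h5
    · intro h
      have h' : m + e ≤ i := by exact_mod_cast h
      refine ⟨m + e, h', ?_⟩
      rw [key]
      have hidx : -(((m + e : ℕ)) : ℤ) + (e : ℤ) = -(m : ℤ) := by push_cast; ring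
      rw [hidx]
      exact hT.2

end Groth.Agent.S1712
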