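import Groth.Statements.S17143
import Mathlib
import Groth.Agent.Lib.Helper25.IsocLib
open Groth.Agent.Lib.Helper25.Isoc

set_option autoImplicit false
universe u v
open Isoc

namespace Groth.Agent.S17143

open Groth.Agent.Lib.Helper25.Isoc in
theorem iter_twist {p : ℕ} [Fact p.Prime] {k : Type u} [Field k] [CharP k p]
    {N : Type v} [AddCommGroup N] [Module (FractionRing (WittVector p k)) N]
    {τ : FractionRing (WittVector p k) →+* FractionRing (WittVector p k)}
    (F : N →ₛₗ[τ] N) (m : ℤ) (n j : ℕ) (x : N) :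
    (⇑(((p : FractionRing (WittVector p k)) ^ m) • Isoc.iter F n))^[j] x =
      ((p : FractionRing (WittVector p k)) ^ (m * j)) • (⇑F)^[n * j] x := by
  have hp := pL_ne_zero p k
  induction j with
  | zero => simp
  | succ j ih =>
    rw [Function.iterate_succ_apply', ih, LinearMap.smul_apply, map_smulₛₗ, map_p_zpow,
      Isoc.iter_apply, ← Function.iterate_add_apply, smul_smul, ← zpow_add₀ hp]
    congr 2
    · push_cast; ring
    · ring


/-- Let k be a perfect field of characteristic p, a ∈ ℤ, W = W(k) with fraction field L, and (N, F) a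
σ^a-F-isocrystal over k (N finite-dimensional over L, F a bijective σ^a-semilinear endomorphism)
with first Newton slope λ₁(N, F) = lam. Then for m ∈ ℤ and n ∈ ℕ the twisted iterate (N, p^m F^n), a
σ^(an)-F-isocrystal, has first Newton slope n · lam + m. (The published statement allows every n ∈
ℤ, with F^n the inverse iterate for n < 0; that case is false in general, since the first slope of
(N, F⁻¹) is minus the LARGEST slope of (N, F): for N = N_0 ⊕ N_1, the sum of the standard
isocrystals of slopes 0 and 1, λ₁(N, F) = 0 while λ₁(N, F⁻¹) = −1. Only n ≥ 0 is stated here.) -/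
theorem result (p : ℕ) [Fact p.Prime] (k : Type u) [Field k] [CharP k p] [PerfectRing k p] (a : ℤ)
    (N : Type v) [AddCommGroup N] [Module (WittVector p k) N] [Module (FractionRing (WittVector p k)) N]
    [IsScalarTower (WittVector p k) (FractionRing (WittVector p k)) N]
    (F : N →ₛₗ[Isoc.frob p k a] N) (hF : Isoc.IsIsoc F) (lam : ℝ) (hlam : Isoc.IsFirstSlope F lam) (m : ℤ) (n : ℕ) :
    Isoc.IsFirstSlope ((p : (FractionRing (WittVector p k))) ^ m • Isoc.iter F n) (n * lam + m) := by
  classical
  have hτ := good_frob (p := p) (k := k) a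
  obtain ⟨M, hM, o, ho, hlim⟩ := hlam
  have hM0 : M ≠ ⊥ := isOrd_ne_bot (ho 1 le_rfl)
  set G := ((p : FractionRing (WittVector p k)) ^ m) • Isoc.iter F n with hG
  -- images under iterates of G
  have himg : ∀ j : ℕ, Isoc.latImg G j M = Isoc.pPow (m * j) (Isoc.latImg F (n * j) M) := by
    intro j
    ext y
    rw [mem_latImg G (hτ.pow n), mem_pPow_iff]
    constructor
    · rintro ⟨x, hx, rfl⟩
      exact ⟨(⇑F)^[n * j] x, (mem_latImg F hτ).2 ⟨x, hx, rfl⟩, (iter_twist F m n j x).symm⟩
    · rintro ⟨z, hz, rfl⟩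
      obtain ⟨x, hx, rfl⟩ := (mem_latImg F hτ).1 hz
      exact ⟨x, hx, iter_twist F m n j x⟩
  have hord : ∀ (j : ℕ) (r : ℤ), Isoc.IsOrd M F (n * j) r → Isoc.IsOrd M G j (r + m * j) := by
    intro j r hr
    have e : ∀ r' : ℤ, Isoc.latImg G j M ≤ Isoc.pPow (r' + m * j) M ↔
        Isoc.latImg F (n * j) M ≤ Isoc.pPow r' M := by
      intro r'
      rw [himg j, add_comm r', pPow_add, pPow_le_pPow_iff]
    refine ⟨(e r).2 hr.1, fun h => hr.2 ?_⟩
    rw [show r + m * j + 1 = (r + 1) + m * j by ring] at h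
    exact (e (r + 1)).1 h
  let o₀ : ℕ → ℤ := fun i => if i = 0 then 0 else o i
  have ho₀ : ∀ i, Isoc.IsOrd M F i (o₀ i) := by
    intro i
    by_cases hi : i = 0
    · subst hi
      simp only [o₀, if_true]
      exact isOrd_zero F hM.fg hM0
    · simp only [o₀, if_neg hi]
      exact ho i (Nat.one_le_iff_ne_zero.2 hi)
  refine ⟨M, hM, fun j => o₀ (n * j) + m * j, fun j _ => hord j _ (ho₀ (n * j)), ?_⟩
  -- the limit
  have hev : (fun j : ℕ => ((o₀ (n * j) + m * j : ℤ) : ℝ) / j) =ᶠ[Filter.atTop]
      (fun j : ℕ => (n : ℝ) * ((o₀ (n * j) : ℝ) / ((n * j : ℕ) : ℝ)) + m) := by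
    filter_upwards [Filter.eventually_ge_atTop 1] with j hj
    have hj' : (j : ℝ) ≠ 0 := by exact_mod_cast (Nat.one_le_iff_ne_zero.1 hj)
    rcases Nat.eq_zero_or_pos n with rfl | hn
    · simp only [Nat.zero_mul, o₀, if_true]
      push_cast
      field_simp
      ring
    · have hn' : (n : ℝ) ≠ 0 := by exact_mod_cast hn.ne'
      push_cast
      field_simp
  refine Filter.Tendsto.congr' hev.symm ?_
  apply Filter.Tendsto.add_const
  rcases Nat.eq_zero_or_pos n with rfl | hn
  · simp only [Nat.zero_mul, o₀, if_true]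
    simp
  · apply Filter.Tendsto.const_mul
    have h1 : Filter.Tendsto (fun j : ℕ => n * j) Filter.atTop Filter.atTop :=
      Filter.tendsto_atTop_mono (fun j => Nat.le_mul_of_pos_left j hn) Filter.tendsto_id
    have h2 := hlim.comp h1
    refine Filter.Tendsto.congr' ?_ h2
    filter_upwards [Filter.eventually_ge_atTop 1] with j hj
    have hne : n * j ≠ 0 := Nat.mul_ne_zero hn.ne' (Nat.one_le_iff_ne_zero.1 hj)
    simp only [Function.comp, o₀, if_neg hne]

end Groth.Agent.S17143
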