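import Groth.Statements.S17146
import Mathlib
import Groth.Agent.Lib.Helper25.IsocRat2
import Groth.Agent.S17141
import Groth.Agent.S17142
open Groth.Agent.Lib.Helper25.Isoc

set_option autoImplicit false
universe u v
open Isoc

namespace Groth.Agent.S17146

/-- Let k be a perfect field of characteristic p, a ∈ ℤ, W = W(k) with fraction field L, and (N, F) a
σ^a-F-isocrystal over k (N finite-dimensional over L, F a bijective σ^a-semilinear endomorphism) of
height h, with b an L-basis of N indexed by Fin h, d the p-adic order of the determinant coefficient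
of F in b, and first Newton slope λ₁(N, F) = lam. Then there exist r ∈ ℤ, s ∈ ℕ with 0 < s ≤ h and a
W-lattice M in N such that lam = r/s and ord_M(F^s) = r, i.e. F^s(M) ⊆ p^r · M and F^s(M) ⊄ p^(r+1)
· M; moreover r · h ≤ s · d, so that λ₁ is a rational number ≤ d/h with denominator at most h. (The
published statement asserts r ≤ d instead of r · h ≤ s · d; since F may have denominators, d can be
negative and then r ≤ d can fail: for N = N_{-2/3} ⊕ N_{-1/2}, the sum of the standard isocrystals
of slopes −2/3 and −1/2, one has h = 5, d = −3, λ₁ = −2/3, which forces s = 3 and r = −2 > d. What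
the published argument gives is r/s = λ₁ ≤ d/h, stated here.) -/
theorem result (p : ℕ) [Fact p.Prime] (k : Type u) [Field k] [CharP k p] [PerfectRing k p] (a : ℤ)
    (N : Type v) [AddCommGroup N] [Module (WittVector p k) N] [Module (FractionRing (WittVector p k)) N]
    [IsScalarTower (WittVector p k) (FractionRing (WittVector p k)) N]
    (F : N →ₛₗ[Isoc.frob p k a] N) (hF : Isoc.IsIsoc F)
    (h : ℕ) (b : Module.Basis (Fin h) (FractionRing (WittVector p k)) N)
    (d : ℤ) (hd : Isoc.IsOrdP (Isoc.detCoeff b F) d)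
    (lam : ℝ) (hlam : Isoc.IsFirstSlope F lam) :
    ∃ (r : ℤ) (s : ℕ) (M : Submodule (WittVector p k) N), 0 < s ∧ s ≤ h ∧ lam = (r : ℝ) / s ∧
      M.IsLattice (FractionRing (WittVector p k)) ∧ Isoc.IsOrd M F s r ∧ r * h ≤ s * d := by
  have hτ : Good (Isoc.frob p k a) := good_frob a
  have hlam' := hlam
  obtain ⟨M₀, hM₀, o, ho, hlim⟩ := hlam
  have hh : 0 < h := by
    have hM0 : M₀ ≠ ⊥ := isOrd_ne_bot (ho 1 le_rfl)
    apply Nat.pos_of_ne_zero
    rintro rfl
    apply hM0
    rw [eq_bot_iff]
    intro x _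
    have hx : x = 0 := by
      have := b.sum_repr x
      rw [← this]
      exact Finset.sum_empty
    rw [hx]
    exact Submodule.zero_mem _
  haveI : Nontrivial N := ⟨⟨b ⟨0, hh⟩, 0, b.ne_zero _⟩⟩
  have hindep : ∀ M : Submodule (WittVector p k) N, M.IsLattice (FractionRing (WittVector p k)) →
      ∃ o' : ℕ → ℤ, (∀ n, 1 ≤ n → Isoc.IsOrd M F n (o' n)) ∧
        Filter.Tendsto (fun n : ℕ => (o' n : ℝ) / n) Filter.atTop (nhds lam) := by
    intro M hM
    obtain ⟨o', ho', lam', hlim'⟩ := Groth.Agent.S17141.result p k a N F hF M hM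
    have hEq : lam' = lam :=
      Groth.Agent.S17142.result p k a N F hF M M₀ hM hM₀ o' o ho' ho lam' lam hlim' hlim
    rw [hEq] at hlim'
    exact ⟨o', ho', hlim'⟩
  obtain ⟨r, s, M, hs, hsh, hlam_eq, hM, hord⟩ :=
    rational_slope_core F hτ hF.bijective.surjective hh b hlam' hindep
  refine ⟨r, s, M, hs, hsh, hlam_eq, hM, hord, ?_⟩
  obtain ⟨e, he⟩ := exists_latticeBasis b hM
  have hd' : Isoc.IsOrdP (smat b F).det d := hd
  have h1 := isOrdP_det_basis_change b e F hτ hd'
  have h2 := isOrdP_det_iter e F hτ h1 s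
  obtain ⟨w, hw⟩ := det_of_img_le he (Isoc.iter F s) (r := r) hord.1
  exact isOrdP_le h2 hw

end Groth.Agent.S17146
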