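import Groth.Statements.S17147
import Mathlib
import Groth.Agent.Lib.Helper25.IsocTwist
import Groth.Agent.Lib.Helper25.IsocDet2
open Groth.Agent.Lib.Helper25.Isoc

set_option autoImplicit false
universe u v
open Isoc

namespace Groth.Agent.S17147

/-- Let k be a perfect field of characteristic p, a ∈ ℤ, W = W(k) with fraction field L, and (N, F) a
σ^a-F-isocrystal over k (N finite-dimensional over L, F a bijective σ^a-semilinear endomorphism) of
height h, with b an L-basis of N indexed by Fin h and d the p-adic order of the determinant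
coefficient of F in b. If λ₁(N, F) = d/h, then there exists a W-lattice M in N with F^h(M) = p^d · M
(so (N, F) is isoclinic of slope d/h in the lattice sense). -/
theorem result (p : ℕ) [Fact p.Prime] (k : Type u) [Field k] [CharP k p] [PerfectRing k p] (a : ℤ)
    (N : Type v) [AddCommGroup N] [Module (WittVector p k) N] [Module (FractionRing (WittVector p k)) N]
    [IsScalarTower (WittVector p k) (FractionRing (WittVector p k)) N]
    (F : N →ₛₗ[Isoc.frob p k a] N) (hF : Isoc.IsIsoc F)
    (h : ℕ) (b : Module.Basis (Fin h) (FractionRing (WittVector p k)) N)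
    (d : ℤ) (hd : Isoc.IsOrdP (Isoc.detCoeff b F) d)
    (hlam : Isoc.IsFirstSlope F ((d : ℝ) / h)) :
    ∃ M : Submodule (WittVector p k) N, M.IsLattice (FractionRing (WittVector p k)) ∧ Isoc.latImg F h M = Isoc.pPow d M := by
  have hτ : Good (Isoc.frob p k a) := good_frob a
  have hh : 0 < h := by
    obtain ⟨M₀, hM₀, o, ho, hlim⟩ := hlam
    have hM0 : M₀ ≠ ⊥ := isOrd_ne_bot (ho 1 le_rfl)
    apply Nat.pos_of_ne_zero
    rintro rfl
    apply hM0
    rw [eq_bot_iff]
    intro x _
    have hx : x = 0 := by
      have := b.sum_repr x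
      rw [← this]
      exact Finset.sum_empty
    rw [hx]
    exact Submodule.zero_mem _
  obtain ⟨M, hM, hFM⟩ := exists_lattice_of_slope_le F hτ hF.bijective.surjective b hlam d h hh
    le_rfl
  obtain ⟨e, he⟩ := exists_latticeBasis b hM
  have hd' : Isoc.IsOrdP (smat b F).det d := hd
  have h2 := isOrdP_det_iter e F hτ (isOrdP_det_basis_change b e F hτ hd') h
  rw [mul_comm] at h2
  exact ⟨M, hM, img_eq_of_isOrdP_det he (Isoc.iter F h) (hτ.pow h) hFM h2⟩

end Groth.Agent.S17147
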