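import Groth.Statements.S17148
import Mathlib
import Groth.Agent.Lib.Helper25.IsocLib3
open Groth.Agent.Lib.Helper25.Isoc

set_option autoImplicit false
universe u v
open Isoc

namespace Groth.Agent.S17148

/-- Let k be a perfect field of characteristic p, a ∈ ℤ, W = W(k) with fraction field L, and (N, F) a
σ^a-F-isocrystal over k (N finite-dimensional over L, F a bijective σ^a-semilinear endomorphism)
that is isoclinic of slope μ, i.e. there are a W-lattice M, r ∈ ℤ and s > 0 with r/s = μ and F^s(M)
= p^r · M. Then for every F-stable L-subspace P of N, the sub-isocrystal (P, F|P) is again isoclinic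
of slope μ. -/
theorem result (p : ℕ) [Fact p.Prime] (k : Type u) [Field k] [CharP k p] [PerfectRing k p] (a : ℤ)
    (N : Type v) [AddCommGroup N] [Module (WittVector p k) N] [Module (FractionRing (WittVector p k)) N]
    [IsScalarTower (WittVector p k) (FractionRing (WittVector p k)) N]
    (F : N →ₛₗ[Isoc.frob p k a] N) (hF : Isoc.IsIsoc F) (μ : ℚ) (hμ : Isoc.IsIsoclinic F μ)
    (P : Submodule (FractionRing (WittVector p k)) N) (hP : ∀ x ∈ P, F x ∈ P) :
    Isoc.IsIsoclinic (F.restrict hP) μ := by
  obtain ⟨M, hM, r, s, hs, hrs, hFM⟩ := hμ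
  have hτ : Good (Isoc.frob p k a) := good_frob a
  haveI := frob_ringHomSurjective p k a
  haveI := hF.finite
  have hback : ∀ x : N, (⇑F)^[s] x ∈ P → x ∈ P := fun x hx =>
    mem_of_iterate_mem F hF.bijective.injective P hP s hx
  refine ⟨resL P M, resL_isLattice hM, r, s, hs, hrs, ?_⟩
  rw [← resL_latImg F hτ hP s hback, hFM, resL_pPow]

end Groth.Agent.S17148
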