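import Groth.Statements.S17150
import Mathlib
import Groth.Agent.Lib.Helper25.IsocLib2
open Groth.Agent.Lib.Helper25.Isoc

set_option autoImplicit false
universe u v w
open Isoc

namespace Groth.Agent.S17150

/-- Let k be a perfect field of characteristic p and a ∈ ℤ; let (N₁, F₁) and (N₂, F₂) be
σ^a-F-isocrystals over k that are isoclinic of slopes μ₁ and μ₂ respectively (in the lattice sense:
F_i^{s_i}(M_i) = p^{r_i} · M_i with r_i/s_i = μ_i), with μ₁ ≠ μ₂. Then every morphism of isocrystals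
f : (N₁, F₁) → (N₂, F₂), i.e. every L-linear map with f ∘ F₁ = F₂ ∘ f, is zero. -/
theorem result (p : ℕ) [Fact p.Prime] (k : Type u) [Field k] [CharP k p] [PerfectRing k p] (a : ℤ)
    (N₁ : Type v) [AddCommGroup N₁] [Module (WittVector p k) N₁] [Module (FractionRing (WittVector p k)) N₁]
    [IsScalarTower (WittVector p k) (FractionRing (WittVector p k)) N₁]
    (N₂ : Type w) [AddCommGroup N₂] [Module (WittVector p k) N₂] [Module (FractionRing (WittVector p k)) N₂]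
    [IsScalarTower (WittVector p k) (FractionRing (WittVector p k)) N₂]
    (F₁ : N₁ →ₛₗ[Isoc.frob p k a] N₁) (F₂ : N₂ →ₛₗ[Isoc.frob p k a] N₂)
    (h₁ : Isoc.IsIsoc F₁) (h₂ : Isoc.IsIsoc F₂)
    (μ₁ μ₂ : ℚ) (hμ₁ : Isoc.IsIsoclinic F₁ μ₁) (hμ₂ : Isoc.IsIsoclinic F₂ μ₂) (hne : μ₁ ≠ μ₂)
    (f : N₁ →ₗ[(FractionRing (WittVector p k))] N₂) (hf : ∀ x : N₁, f (F₁ x) = F₂ (f x)) : f = 0 := by
  classical
  obtain ⟨M₁, hM₁, r₁, s₁, hs₁, hrs₁, hF₁⟩ := hμ₁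
  obtain ⟨M₂, hM₂, r₂, s₂, hs₂, hrs₂, hF₂⟩ := hμ₂
  have hτ : Good (Isoc.frob p k a) := good_frob a
  have hR : r₁ * (s₂ : ℤ) ≠ r₂ * (s₁ : ℤ) := by
    intro h
    apply hne
    rw [← hrs₁, ← hrs₂]
    have h1 : (s₁ : ℚ) ≠ 0 := by exact_mod_cast hs₁.ne'
    have h2 : (s₂ : ℚ) ≠ 0 := by exact_mod_cast hs₂.ne'
    rw [div_eq_div_iff h1 h2]
    exact_mod_cast h
  obtain ⟨R₁, hR₁⟩ : ∃ R₁ : ℤ, R₁ = r₁ * (s₂ : ℤ) := ⟨_, rfl⟩
  obtain ⟨R₂, hR₂⟩ : ∃ R₂ : ℤ, R₂ = r₂ * (s₁ : ℤ) := ⟨_, rfl⟩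
  obtain ⟨s, hs⟩ : ∃ s : ℕ, s = s₁ * s₂ := ⟨_, rfl⟩
  rw [← hR₁, ← hR₂] at hR
  have hE₁ : ∀ n : ℕ, Isoc.latImg F₁ (s * n) M₁ = Isoc.pPow (R₁ * n) M₁ := by
    intro n
    have := latImg_mul_eq F₁ hτ hF₁ (s₂ * n)
    rw [show s₁ * (s₂ * n) = s * n by rw [hs]; ring] at this
    rw [this]; congr 1; rw [hR₁]; push_cast; ring
  have hE₂ : ∀ n : ℕ, Isoc.latImg F₂ (s * n) M₂ = Isoc.pPow (R₂ * n) M₂ := by
    intro n
    have := latImg_mul_eq F₂ hτ hF₂ (s₁ * n)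
    rw [show s₂ * (s₁ * n) = s * n by rw [hs]; ring] at this
    rw [this]; congr 1; rw [hR₂]; push_cast; ring
  obtain ⟨Q, hQ⟩ : ∃ Q, Q = mapL f M₁ := ⟨_, rfl⟩
  have hQfg : Q.FG := by rw [hQ]; exact mapL_fg hM₁.fg
  have hEQ : ∀ n : ℕ, Isoc.latImg F₂ (s * n) Q = Isoc.pPow (R₁ * n) Q := by
    intro n
    rw [hQ, ← mapL_latImg f F₁ F₂ hτ hf, hE₁, mapL_pPow]
  obtain ⟨c, hc⟩ := exists_pPow_le' (M := Q) (M' := M₂) hQfg
    (fun x _ => by rw [hM₂.span_eq_top]; trivial)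
  have hEQ' : ∀ n : ℕ, Isoc.latImg F₂ (s * n) (Isoc.pPow (c : ℤ) Q)
      = Isoc.pPow (R₁ * n) (Isoc.pPow (c : ℤ) Q) := by
    intro n
    rw [latImg_pPow F₂ hτ, hEQ, ← pPow_add, ← pPow_add, add_comm]
  have hzero : ∀ x ∈ Isoc.pPow (c : ℤ) Q, x = 0 := by
    intro x hx
    apply eq_zero_of_forall_mem_pPow hM₂.fg
    intro n
    rcases lt_or_gt_of_ne hR with hlt | hgt
    · have h1 : ((p : FractionRing (WittVector p k)) ^ (R₁ * n)) • x ∈ Isoc.pPow (R₂ * n) M₂ := by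
        rw [← hE₂]
        apply latImg_mono F₂ (s * n) hc
        rw [hEQ']
        exact smul_mem_pPow hx
      have h2 : x ∈ Isoc.pPow ((R₂ - R₁) * n) M₂ := by
        rw [mem_pPow_iff'] at h1 ⊢
        rw [smul_smul, ← zpow_add₀ (pL_ne_zero p k)] at h1
        have he : -(R₂ * (n : ℤ)) + R₁ * n = -((R₂ - R₁) * n) := by ring
        rw [he] at h1
        exact h1
      have h3 : (0 : ℤ) ≤ (R₂ - R₁ - 1) * n := mul_nonneg (by omega) (Int.natCast_nonneg n)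
      exact pPow_anti (by linarith) M₂ h2
    · have h1 : (⇑F₂)^[s * n] x ∈ Isoc.latImg F₂ (s * n) (Isoc.pPow ((R₁ - R₂) * n) M₂) := by
        rw [latImg_pPow F₂ hτ, hE₂, ← pPow_add]
        have : (R₁ - R₂) * (n : ℤ) + R₂ * n = R₁ * n := by ring
        rw [this]
        apply pPow_mono hc
        rw [← hEQ']
        exact (mem_latImg F₂ hτ).2 ⟨x, hx, rfl⟩
      obtain ⟨y, hy, hyx⟩ := (mem_latImg F₂ hτ).1 h1
      have hinj : Function.Injective (⇑F₂)^[s * n] := h₂.bijective.injective.iterate _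
      have hyx' := hinj hyx
      subst hyx'
      have h3 : (0 : ℤ) ≤ (R₁ - R₂ - 1) * n := mul_nonneg (by omega) (Int.natCast_nonneg n)
      exact pPow_anti (by linarith) M₂ hy
  have hQ0 : ∀ x ∈ M₁, f x = 0 := by
    intro x hx
    have h1 : ((p : FractionRing (WittVector p k)) ^ (c : ℤ)) • f x ∈ Isoc.pPow (c : ℤ) Q :=
      smul_mem_pPow (by rw [hQ]; exact mem_mapL.2 ⟨x, hx, rfl⟩)
    have h2 := hzero _ h1
    exact (smul_eq_zero.1 h2).resolve_left (zpow_ne_zero _ (pL_ne_zero p k))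
  apply LinearMap.ext_on hM₁.span_eq_top
  intro x hx
  rw [hQ0 x hx]; rfl

end Groth.Agent.S17150
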