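import Groth.Statements.S17151
import Mathlib
import Groth.Agent.Lib.Helper25.IsocLib4
open Groth.Agent.Lib.Helper25.Isoc

set_option autoImplicit false
universe u v
open Isoc

namespace Groth.Agent.S17151

/-- Let k be a perfect field of characteristic p, a ∈ ℤ, W = W(k) with fraction field L, and (N, F) a
σ^a-F-isocrystal over k (N finite-dimensional over L, F a bijective σ^a-semilinear endomorphism),
and let μ ∈ ℚ. The slope-μ part N_μ of N — the sum of all F-stable L-subspaces P such that (P, F|P)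
is isoclinic of slope μ — is F-stable and is itself isoclinic of slope μ; so it is the largest
F-stable subspace on which F is isoclinic of slope μ. -/
theorem result (p : ℕ) [Fact p.Prime] (k : Type u) [Field k] [CharP k p] [PerfectRing k p] (a : ℤ)
    (N : Type v) [AddCommGroup N] [Module (WittVector p k) N] [Module (FractionRing (WittVector p k)) N]
    [IsScalarTower (WittVector p k) (FractionRing (WittVector p k)) N]
    (F : N →ₛₗ[Isoc.frob p k a] N) (hF : Isoc.IsIsoc F) (μ : ℚ) :
    ∃ hP : ∀ x ∈ Isoc.slopePart F μ, F x ∈ Isoc.slopePart F μ,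
      Isoc.IsIsoclinic (F.restrict hP) μ := by
  have hτ : Good (Isoc.frob p k a) := good_frob a
  haveI := hF.finite
  obtain ⟨S, hS⟩ : ∃ S : Set (Submodule (FractionRing (WittVector p k)) N),
      S = {P | ∃ hP : ∀ x ∈ P, F x ∈ P, Isoc.IsIsoclinic (F.restrict hP) μ} := ⟨_, rfl⟩
  have hbot : ∀ x ∈ (⊥ : Submodule (FractionRing (WittVector p k)) N), F x ∈
      (⊥ : Submodule (FractionRing (WittVector p k)) N) := by
    intro x hx
    rw [Submodule.mem_bot] at hx ⊢
    rw [hx, map_zero]
  have hne : S.Nonempty := ⟨⊥, by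
    rw [hS]
    exact ⟨hbot, restrict_of_isoclinicOn F hτ hbot (isoclinicOn_bot F μ)⟩⟩
  have hsup : SupClosed S := by
    intro P₁ h₁ P₂ h₂
    rw [hS] at h₁ h₂ ⊢
    obtain ⟨hP₁, hI₁⟩ := h₁
    obtain ⟨hP₂, hI₂⟩ := h₂
    have hP : ∀ x ∈ P₁ ⊔ P₂, F x ∈ P₁ ⊔ P₂ := by
      intro x hx
      obtain ⟨x₁, hx₁, x₂, hx₂, rfl⟩ := Submodule.mem_sup.1 hx
      rw [map_add]
      exact Submodule.add_mem_sup (hP₁ _ hx₁) (hP₂ _ hx₂)
    exact ⟨hP, restrict_of_isoclinicOn F hτ hP
      ((isoclinicOn_of_restrict F hτ hP₁ hI₁).sup hτ (isoclinicOn_of_restrict F hτ hP₂ hI₂))⟩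
  have key := (CompleteLattice.isSupClosedCompact_iff_wellFoundedGT
    (Submodule (FractionRing (WittVector p k)) N)).2 inferInstance S hne hsup
  rw [hS] at key
  exact key

end Groth.Agent.S17151
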