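import Groth.Statements.S17156
import Mathlib
import Groth.Agent.Lib.Helper25.IsocRoots
import Groth.Agent.S17152
open Groth.Agent.Lib.Helper25.Isoc

set_option autoImplicit false
universe u v w
open scoped Classical
open Isoc

namespace Groth.Agent.S17156

/-- Let k be a finite field with q = p^m elements, W = W(k) with fraction field L, a ∈ ℤ, and (N, F) a
σ^a-F-isocrystal over k. Then π := F^m is L-linear; let π be given as an L-linear endomorphism of N
agreeing with F^m pointwise, with characteristic polynomial f (monic of degree the height). Let Ω be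
an algebraically closed field containing L, with the W-algebra structure through L. Each Newton
slope of (N, F), counted with multiplicity, equals ord(α)/ord(q) for the corresponding root α of f
in Ω; here this is stated as: for every μ ∈ ℚ, written num/den in lowest terms, the multiplicity m_μ
of μ as a Newton slope (the L-dimension of the slope-μ part of N) equals the number of roots α of f
in Ω, counted with multiplicity, such that α^den · p^(−num·m) is a unit of the integral closure of W
in Ω (it and its inverse are integral over W) — which says ord(α) = μ · m for the valuation on Ω ⊇ L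
normalised by ord(p) = 1, the ring W being a complete discrete valuation ring. -/
theorem result
    (p : ℕ) [Fact p.Prime] (k : Type u) [Field k] [CharP k p] [PerfectRing k p] [Fintype k]
    (m : ℕ) (hk : Fintype.card k = p ^ m) (a : ℤ)
    (N : Type v) [AddCommGroup N] [Module (WittVector p k) N] [Module (FractionRing (WittVector p k)) N]
    [IsScalarTower (WittVector p k) (FractionRing (WittVector p k)) N]
    [Module.Finite (FractionRing (WittVector p k)) N]
    (F : N →ₛₗ[Isoc.frob p k a] N) (hF : Isoc.IsIsoc F)
    (π : N →ₗ[(FractionRing (WittVector p k))] N) (hπ : ∀ x : N, π x = (⇑F)^[m] x)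
    (Ω : Type w) [Field Ω] [IsAlgClosed Ω] [Algebra (WittVector p k) Ω] [Algebra (FractionRing (WittVector p k)) Ω]
    [IsScalarTower (WittVector p k) (FractionRing (WittVector p k)) Ω] (μ : ℚ) :
    Isoc.newtonMult F μ =
      Multiset.countP
        (fun α : Ω => IsIntegral (WittVector p k) (α ^ μ.den * (algebraMap (FractionRing (WittVector p k)) Ω (p : (FractionRing (WittVector p k)))) ^ (-(μ.num * (m : ℤ))))
          ∧ IsIntegral (WittVector p k) (α ^ μ.den * (algebraMap (FractionRing (WittVector p k)) Ω (p : (FractionRing (WittVector p k)))) ^ (-(μ.num * (m : ℤ))))⁻¹)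
        ((π.charpoly.map (algebraMap (FractionRing (WittVector p k)) Ω)).roots) := by
  classical
  have hτ : Good (Isoc.frob p k a) := good_frob a
  haveI := frob_ringHomSurjective p k a
  have hInj := hF.bijective.injective
  have hm : m ≠ 0 := by
    rintro rfl
    rw [pow_zero] at hk
    have := Fintype.one_lt_card (α := k)
    omega
  have hint : DirectSum.IsInternal (fun μ : ℚ => Isoc.slopePart F μ) :=
    Groth.Agent.S17152.result p k a N F hF
  have hindep := iSupIndep_slopePart F hτ hInj
  have hfin : {μ : ℚ | Isoc.slopePart F μ ≠ ⊥}.Finite :=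
    WellFoundedGT.finite_ne_bot_of_iSupIndep hindep
  obtain ⟨T, hT⟩ : ∃ T : Finset ℚ, ∀ μ, μ ∈ T ↔ Isoc.slopePart F μ ≠ ⊥ :=
    ⟨hfin.toFinset, fun μ => hfin.mem_toFinset⟩
  have hintT : DirectSum.IsInternal (fun μ : T => Isoc.slopePart F (μ : ℚ)) := by
    rw [DirectSum.isInternal_submodule_iff_iSupIndep_and_iSup_eq_top]
    refine ⟨hindep.comp Subtype.val_injective, ?_⟩
    rw [eq_top_iff, ← hint.submodule_iSup_eq_top]
    apply iSup_le
    intro μ
    by_cases h0 : Isoc.slopePart F μ = ⊥
    · rw [h0]; exact bot_le
    · exact le_iSup (fun ν : T => Isoc.slopePart F (ν : ℚ)) ⟨μ, (hT μ).2 h0⟩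
  obtain ⟨hn, hhn⟩ : ∃ hn : T → ℕ, ∀ μ : T, hn μ =
      Module.finrank (FractionRing (WittVector p k)) (Isoc.slopePart F (μ : ℚ)) := ⟨_, fun _ => rfl⟩
  let v : ∀ μ : T, Module.Basis (Fin (hn μ)) (FractionRing (WittVector p k))
      (Isoc.slopePart F (μ : ℚ)) := fun μ =>
    (Module.finBasis (FractionRing (WittVector p k)) (Isoc.slopePart F (μ : ℚ))).reindex
      (finCongr (hhn μ).symm)
  have hstabF : ∀ ν : ℚ, ∀ x ∈ Isoc.slopePart F ν, F x ∈ Isoc.slopePart F ν :=
    fun ν => (slopePart_isoclinic F hτ ν).1
  have hstabπ : ∀ ν : T, Set.MapsTo π (Isoc.slopePart F (ν : ℚ)) (Isoc.slopePart F (ν : ℚ)) := by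
    intro ν x hx
    show π x ∈ Isoc.slopePart F (ν : ℚ)
    rw [hπ]
    exact iterate_mem_of_stable F (hstabF ν) m hx
  have hcp : π.charpoly = ∏ ν : T, (π.restrict (hstabπ ν)).charpoly :=
    charpoly_collected (fun μ : T => Isoc.slopePart F (μ : ℚ)) hintT hn v π hstabπ
  -- facts on the roots of each factor
  have hfact : ∀ ν : T, ∀ α ∈ ((π.restrict (hstabπ ν)).charpoly.map
      (algebraMap (FractionRing (WittVector p k)) Ω)).roots,
      α ≠ 0 ∧ IsIntegral (WittVector p k) (α ^ (ν : ℚ).den *
        (algebraMap (FractionRing (WittVector p k)) Ω (p : (FractionRing (WittVector p k)))) ^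
          (-((ν : ℚ).num * (m : ℤ)))) ∧
      IsIntegral (WittVector p k) (α ^ (ν : ℚ).den *
        (algebraMap (FractionRing (WittVector p k)) Ω (p : (FractionRing (WittVector p k)))) ^
          (-((ν : ℚ).num * (m : ℤ))))⁻¹ := by
    intro ν α hα
    obtain ⟨hS, M, hM, r, s, hs, hrs, hFM⟩ := slopePart_isoclinic F hτ (ν : ℚ)
    refine pred_of_roots_isoclinic (F.restrict hS) hτ (π.restrict (hstabπ ν)) m ?_ hM hs hFM hrs α hα
    intro x
    apply Subtype.ext
    rw [restrict_iterate F hS m x]
    exact hπ x
  have hcard : ∀ ν : T, Multiset.card ((π.restrict (hstabπ ν)).charpoly.map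
      (algebraMap (FractionRing (WittVector p k)) Ω)).roots =
      Module.finrank (FractionRing (WittVector p k)) (Isoc.slopePart F (ν : ℚ)) := by
    intro ν
    rw [← LinearMap.charpoly_natDegree (π.restrict (hstabπ ν)),
      ← Polynomial.natDegree_map (algebraMap (FractionRing (WittVector p k)) Ω)]
    exact (IsAlgClosed.splits _).natDegree_eq_card_roots.symm
  rw [hcp, Polynomial.map_prod, Polynomial.roots_prod _ _
    (Finset.prod_ne_zero_iff.2 (fun ν _ =>
      ((LinearMap.charpoly_monic _).map _).ne_zero)), Multiset.countP_eq_card_filter,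
    Multiset.filter_bind, Multiset.card_bind]
  simp only [Function.comp_def, ← Multiset.countP_eq_card_filter]
  show Isoc.newtonMult F μ = ∑ ν : T, _
  by_cases hμ : μ ∈ T
  · rw [Finset.sum_eq_single (⟨μ, hμ⟩ : T)]
    · rw [Multiset.countP_eq_card.2, hcard]
      · rfl
      · intro α hα
        exact (hfact ⟨μ, hμ⟩ α hα).2
    · intro ν _ hne
      rw [Multiset.countP_eq_zero]
      intro α hα hC
      obtain ⟨hα0, h1, h2⟩ := hfact ν α hα
      apply hne
      apply Subtype.ext
      exact slope_unique_of_integral hm hα0 h1 h2 hC.1 hC.2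
    · intro h; exact absurd (Finset.mem_univ _) h
  · have h0 : Isoc.slopePart F μ = ⊥ := by
      by_contra h; exact hμ ((hT μ).2 h)
    have : Isoc.newtonMult F μ = 0 := by
      unfold Isoc.newtonMult
      rw [h0]
      exact finrank_bot _ _
    rw [this]
    symm
    apply Finset.sum_eq_zero
    intro ν _
    rw [Multiset.countP_eq_zero]
    intro α hα hC
    obtain ⟨hα0, h1, h2⟩ := hfact ν α hα
    apply hμ
    have := slope_unique_of_integral hm hα0 h1 h2 hC.1 hC.2
    rw [← this]
    exact ν.2

end Groth.Agent.S17156
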