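import Groth.Statements.S17157
import Mathlib
import Groth.Agent.Lib.Helper25.IsocLib

set_option autoImplicit false
universe u
open Isoc

namespace Groth.Agent.S17157

/-- Let k be a finite field of characteristic p, W = W(k), L its fraction field with Frobenius σ, and
let U be the σ-semilinear endomorphism of L² = (Fin 2 → L) determined by U(e₀) = e₀ and U(e₁) = e₀ +
e₁ on the standard basis. Then (L², U) is an F-isocrystal in which the sub-isocrystal L · e₀ admits
no U-stable complementary L-subspace; in particular the category of F-isocrystals over a finite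
field is not semisimple. (Over an algebraically closed field a complement exists.) -/
theorem result
    (p : ℕ) [Fact p.Prime] (k : Type u) [Field k] [CharP k p] [PerfectRing k p] [Finite k]
    (U : (Fin 2 → (FractionRing (WittVector p k))) →ₛₗ[Isoc.frob p k 1] (Fin 2 → (FractionRing (WittVector p k))))
    (hU0 : U (Pi.single 0 1) = Pi.single 0 1)
    (hU1 : U (Pi.single 1 1) = Pi.single 0 1 + Pi.single 1 1)
    (Q : Submodule (FractionRing (WittVector p k)) (Fin 2 → (FractionRing (WittVector p k)))) (hQ : ∀ x ∈ Q, U x ∈ Q) :
    ¬ IsCompl (Submodule.span (FractionRing (WittVector p k)) {(Pi.single 0 1 : Fin 2 → (FractionRing (WittVector p k)))}) Q := by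
  classical
  intro hc
  have hmem : (Pi.single 1 1 : Fin 2 → FractionRing (WittVector p k)) ∈
      Submodule.span (FractionRing (WittVector p k))
        {(Pi.single 0 1 : Fin 2 → (FractionRing (WittVector p k)))} ⊔ Q := by
    rw [hc.sup_eq_top]; trivial
  obtain ⟨y, hy, q, hq, hyq⟩ := Submodule.mem_sup.1 hmem
  obtain ⟨c, rfl⟩ := Submodule.mem_span_singleton.1 hy
  have hq' : q = Pi.single 1 1 - c • (Pi.single 0 1 : Fin 2 → FractionRing (WittVector p k)) := by
    rw [← hyq]; abel
  have hUq : U q = (Pi.single 0 1 + Pi.single 1 1) -
      (Isoc.frob p k 1 c) • (Pi.single 0 1 : Fin 2 → FractionRing (WittVector p k)) := by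
    rw [hq', map_sub, map_smulₛₗ, hU0, hU1]
  have hdiff : U q - q ∈ Q := Q.sub_mem (hQ q hq) hq
  have hdiff' : U q - q = (1 - Isoc.frob p k 1 c + c) •
      (Pi.single 0 1 : Fin 2 → FractionRing (WittVector p k)) := by
    rw [hUq, hq']
    ext i
    fin_cases i <;> simp
  have hin : (1 - Isoc.frob p k 1 c + c) •
      (Pi.single 0 1 : Fin 2 → FractionRing (WittVector p k)) ∈
      Submodule.span (FractionRing (WittVector p k))
        {(Pi.single 0 1 : Fin 2 → (FractionRing (WittVector p k)))} ⊓ Q :=
    ⟨Submodule.smul_mem _ _ (Submodule.mem_span_singleton_self _), hdiff' ▸ hdiff⟩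
  rw [hc.inf_eq_bot] at hin
  have h0 := (Submodule.mem_bot _).1 hin
  have he0 : (Pi.single 0 1 : Fin 2 → FractionRing (WittVector p k)) ≠ 0 := by
    intro h
    have := congrFun h 0
    simp at this
  have hσ : Isoc.frob p k 1 c = c + 1 := by
    have := (smul_eq_zero.1 h0).resolve_right he0
    linear_combination -this
  have hiter : ∀ n : ℕ, (Isoc.frob p k 1)^[n] c = c + n := by
    intro n
    induction n with
    | zero => simp
    | succ n ih =>
      rw [Function.iterate_succ_apply', ih, map_add, hσ, map_natCast]; push_cast; ring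
  obtain ⟨f, hfpos, hf⟩ : ∃ f : ℕ, 0 < f ∧
      ∀ x : FractionRing (WittVector p k), (Isoc.frob p k 1)^[f] x = x := by
    have := Fintype.ofFinite k
    obtain ⟨n, -, hcard⟩ := FiniteField.card k p
    refine ⟨n, n.pos, ?_⟩
    have hW : ∀ w : WittVector p k, (WittVector.frobenius^[(n : ℕ)]) w = w := by
      intro w; ext i
      rw [WittVector.iterate_frobenius_coeff, ← hcard, FiniteField.pow_card]
    have hσalg : ∀ (m : ℕ) (w : WittVector p k),
        (Isoc.frob p k 1)^[m] (algebraMap _ (FractionRing (WittVector p k)) w) =
          algebraMap _ (FractionRing (WittVector p k)) (WittVector.frobenius^[m] w) := by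
      intro m
      induction m with
      | zero => intro w; rfl
      | succ m ih =>
        intro w
        rw [Function.iterate_succ_apply', ih, Function.iterate_succ_apply', Isoc.frob_algebraMap,
          zpow_one]
        rfl
    have hdiv : ∀ (m : ℕ) (x y : FractionRing (WittVector p k)),
        (Isoc.frob p k 1)^[m] (x / y) = (Isoc.frob p k 1)^[m] x / (Isoc.frob p k 1)^[m] y := by
      intro m
      induction m with
      | zero => intro x y; rfl
      | succ m ih =>
        intro x y
        simp only [Function.iterate_succ_apply', ih, map_div₀]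
    intro x
    obtain ⟨a, b, hb, rfl⟩ := IsFractionRing.div_surjective (A := WittVector p k) x
    rw [hdiv, hσalg, hσalg, hW, hW]
  have h1 := hiter f
  rw [hf] at h1
  have h2 : ((f : ℕ) : FractionRing (WittVector p k)) = 0 := by linear_combination -h1
  have := Groth.Agent.Lib.Helper25.Isoc.fraction_charZero p k
  exact absurd (Nat.cast_eq_zero.1 h2) hfpos.ne'

end Groth.Agent.S17157
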