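import Groth.Statements.S17158
import Mathlib
import Groth.Agent.Lib.Helper25.IsocNP
import Groth.Agent.S17152
open Groth.Agent.Lib.Helper25.Isoc

set_option autoImplicit false
universe u v
open Isoc

namespace Groth.Agent.S17158

/-- Let k be a perfect field of characteristic p, a ∈ ℤ, W = W(k) with fraction field L, and (N, F) a
σ^a-F-isocrystal over k of height h, with b an L-basis of N indexed by Fin h and d the p-adic order
of the determinant coefficient of F in b. Then the Newton polygon of (N, F) ends at the point (h,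
d), the end point of the Hodge polygon of any lattice: the sum over all μ ∈ ℚ of μ · m_μ, where m_μ
is the multiplicity of μ as a Newton slope (the L-dimension of the slope-μ part of N, zero for all
but finitely many μ), equals orddet(F) = d. (The comparison 'Newton polygon on or above the Hodge
polygon' of the same result is not stated here.) -/
theorem result (p : ℕ) [Fact p.Prime] (k : Type u) [Field k] [CharP k p] [PerfectRing k p] (a : ℤ)
    (N : Type v) [AddCommGroup N] [Module (WittVector p k) N] [Module (FractionRing (WittVector p k)) N]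
    [IsScalarTower (WittVector p k) (FractionRing (WittVector p k)) N]
    (F : N →ₛₗ[Isoc.frob p k a] N) (hF : Isoc.IsIsoc F)
    (h : ℕ) (b : Module.Basis (Fin h) (FractionRing (WittVector p k)) N)
    (d : ℤ) (hd : Isoc.IsOrdP (Isoc.detCoeff b F) d) :
    ∑ᶠ μ : ℚ, μ * (Isoc.newtonMult F μ : ℚ) = d := by
  classical
  have hτ : Good (Isoc.frob p k a) := good_frob a
  haveI := frob_ringHomSurjective p k a
  haveI := hF.finite
  have hInj := hF.bijective.injective
  have hint : DirectSum.IsInternal (fun μ : ℚ => Isoc.slopePart F μ) :=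
    Groth.Agent.S17152.result p k a N F hF
  have hindep := iSupIndep_slopePart F hτ hInj
  have hfin : {μ : ℚ | Isoc.slopePart F μ ≠ ⊥}.Finite :=
    WellFoundedGT.finite_ne_bot_of_iSupIndep hindep
  obtain ⟨T, hT⟩ : ∃ T : Finset ℚ, ∀ μ, μ ∈ T ↔ Isoc.slopePart F μ ≠ ⊥ :=
    ⟨hfin.toFinset, fun μ => hfin.mem_toFinset⟩
  have hintT : DirectSum.IsInternal (fun μ : T => Isoc.slopePart F (μ : ℚ)) := by
    rw [DirectSum.isInternal_submodule_iff_iSupIndep_and_iSup_eq_top]
    refine ⟨hindep.comp Subtype.val_injective, ?_⟩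
    rw [eq_top_iff, ← hint.submodule_iSup_eq_top]
    apply iSup_le
    intro μ
    by_cases h0 : Isoc.slopePart F μ = ⊥
    · rw [h0]; exact bot_le
    · exact le_iSup (fun ν : T => Isoc.slopePart F (ν : ℚ)) ⟨μ, (hT μ).2 h0⟩
  obtain ⟨hn, hhn⟩ : ∃ hn : T → ℕ, ∀ μ : T, hn μ =
      Module.finrank (FractionRing (WittVector p k)) (Isoc.slopePart F (μ : ℚ)) := ⟨_, fun _ => rfl⟩
  let v : ∀ μ : T, Module.Basis (Fin (hn μ)) (FractionRing (WittVector p k))
      (Isoc.slopePart F (μ : ℚ)) := fun μ =>
    (Module.finBasis (FractionRing (WittVector p k)) (Isoc.slopePart F (μ : ℚ))).reindex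
      (finCongr (hhn μ).symm)
  have hstab : ∀ μ : T, ∀ x ∈ Isoc.slopePart F (μ : ℚ), F x ∈ Isoc.slopePart F (μ : ℚ) :=
    fun μ => (slopePart_isoclinic F hτ μ).1
  let e : (Σ μ : T, Fin (hn μ)) ≃ Fin h := (hintT.collectedBasis v).indexEquiv b
  have hdet := det_smat_collected (fun μ : T => Isoc.slopePart F (μ : ℚ)) hintT hn v F hstab e
  have hblock : ∀ μ : T, ∃ dμ : ℤ,
      Isoc.IsOrdP (smat (v μ) (F.restrict (hstab μ))).det dμ ∧ ((μ : ℚ) * hn μ = dμ) := by
    intro μ
    obtain ⟨hS, hI⟩ := slopePart_isoclinic F hτ (μ : ℚ)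
    obtain ⟨M, hM, r, s, hs, hrs, hFM⟩ := hI
    obtain ⟨dμ, hdμ, hrd⟩ := exists_orddet_of_latImg_eq (F.restrict hS) hτ (v μ) hM hs hFM
    refine ⟨dμ, hdμ, ?_⟩
    have hs' : (s : ℚ) ≠ 0 := by exact_mod_cast hs.ne'
    rw [← hrs, div_mul_eq_mul_div, div_eq_iff hs']
    have : ((r * (hn μ : ℤ) : ℤ) : ℚ) = ((s * dμ : ℤ) : ℚ) := by rw [hrd]
    push_cast at this
    linarith
  choose dd hdd hμd using hblock
  have hprod := isOrdP_prod Finset.univ
    (fun μ : T => (smat (v μ) (F.restrict (hstab μ))).det) dd (fun μ _ => hdd μ)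
  rw [← hdet] at hprod
  have hd' : Isoc.IsOrdP (smat b F).det d := hd
  have hb := isOrdP_det_basis_change ((hintT.collectedBasis v).reindex e) b F hτ hprod
  have hdeq : d = ∑ μ : T, dd μ := isOrdP_unique hd' hb
  have hsupp : Function.support (fun μ : ℚ => μ * (Isoc.newtonMult F μ : ℚ)) ⊆ (T : Set ℚ) := by
    intro μ hμ
    rw [Function.mem_support] at hμ
    rw [Finset.mem_coe, hT]
    intro h0
    apply hμ
    have : Isoc.newtonMult F μ = 0 := by
      unfold Isoc.newtonMult
      rw [h0]
      exact finrank_bot _ _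
    rw [this]
    simp
  rw [finsum_eq_sum_of_support_subset _ hsupp, ← Finset.sum_coe_sort T, hdeq]
  push_cast
  apply Finset.sum_congr rfl
  intro μ _
  rw [← hμd μ, hhn μ]
  rfl

end Groth.Agent.S17158
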