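import Groth.Statements.S17171
import Mathlib

set_option autoImplicit false
open QSymFn

namespace Groth.Agent.S17171

namespace S17171aux

lemma mapDomain_sum_single {α β : Type*} (g : α → β) {ℓ : ℕ} (i : Fin ℓ → α) (a : Fin ℓ → ℕ) :
    Finsupp.mapDomain g (∑ t : Fin ℓ, Finsupp.single (i t) (a t)) =
      ∑ t : Fin ℓ, Finsupp.single (g (i t)) (a t) := by
  rw [Finsupp.mapDomain_finset_sum]
  exact Finset.sum_congr rfl fun t _ => Finsupp.mapDomain_single

lemma canon {n : ℕ} (e : Fin n →₀ ℕ) :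
    ∃ (k : ℕ) (i : Fin k → Fin n) (a : Fin k → ℕ), StrictMono i ∧ (∀ t, 0 < a t) ∧
      e = ∑ t : Fin k, Finsupp.single (i t) (a t) := by
  refine ⟨e.support.card, e.support.orderEmbOfFin rfl,
    fun t => e (e.support.orderEmbOfFin rfl t),
    (e.support.orderEmbOfFin rfl).strictMono, fun t => ?_, ?_⟩
  · have := Finset.orderEmbOfFin_mem e.support rfl t
    rw [Finsupp.mem_support_iff] at this
    exact Nat.pos_of_ne_zero this
  · have h1 : ∑ t : Fin e.support.card, Finsupp.single (e.support.orderEmbOfFin rfl t)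
          (e (e.support.orderEmbOfFin rfl t))
        = ∑ x ∈ Finset.univ.map (e.support.orderEmbOfFin rfl).toEmbedding,
          Finsupp.single x (e x) := by
      rw [Finset.sum_map]; rfl
    rw [h1, Finset.map_orderEmbOfFin_univ]
    exact (Finsupp.sum_single e).symm

theorem partA (F : MvPowerSeries ℕ ℤ)
    (hq : ∀ (ℓ : ℕ) (i j : Fin ℓ → ℕ) (a : Fin ℓ → ℕ), StrictMono i → StrictMono j →
      (∀ t, 0 < a t) →
        MvPowerSeries.coeff (∑ t : Fin ℓ, Finsupp.single (i t) (a t)) F =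
          MvPowerSeries.coeff (∑ t : Fin ℓ, Finsupp.single (j t) (a t)) F)
    (n m : ℕ) (φ : Fin n ↪o Fin m) (e : Fin n →₀ ℕ) :
    MvPowerSeries.coeff (Finsupp.mapDomain Fin.val e) F =
      MvPowerSeries.coeff (Finsupp.mapDomain Fin.val (Finsupp.mapDomain φ e)) F := by
  obtain ⟨k, i, a, hi, ha, rfl⟩ := canon e
  rw [mapDomain_sum_single, mapDomain_sum_single, mapDomain_sum_single]
  exact hq k (fun t => (i t : ℕ)) (fun t => (φ (i t) : ℕ)) a
    (fun s t h => Fin.lt_def.mp (hi h)) (fun s t h => Fin.lt_def.mp (φ.strictMono (hi h))) ha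

section partB
variable (d : ℕ) (f : (n : ℕ) → MvPolynomial (Fin n) ℤ)

def N (e' : ℕ →₀ ℕ) : ℕ := e'.support.sup id + 1

lemma lt_N (e' : ℕ →₀ ℕ) (x : ℕ) (hx : x ∈ e'.support) : x < N e' :=
  Nat.lt_succ_of_le (Finset.le_sup (f := id) hx)

noncomputable def hat (e' : ℕ →₀ ℕ) : Fin (N e') →₀ ℕ :=
  Finsupp.comapDomain Fin.val e' Fin.val_injective.injOn

lemma map_hat (e' : ℕ →₀ ℕ) : Finsupp.mapDomain Fin.val (hat e') = e' :=
  Finsupp.mapDomain_comapDomain Fin.val Fin.val_injective e'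
    (fun x hx => ⟨⟨x, lt_N e' x (Finset.mem_coe.mp hx)⟩, rfl⟩)

noncomputable def Fser : MvPowerSeries ℕ ℤ :=
  fun e' => MvPolynomial.coeff (hat e') (f (N e'))

lemma coeff_Fser (e' : ℕ →₀ ℕ) :
    MvPowerSeries.coeff e' (Fser f) = MvPolynomial.coeff (hat e') (f (N e')) := rfl

variable (hc : ∀ (n m : ℕ) (φ : Fin n ↪o Fin m) (e : Fin n →₀ ℕ),
        MvPolynomial.coeff e (f n) = MvPolynomial.coeff (Finsupp.mapDomain φ e) (f m))

include hc in
lemma restr (n : ℕ) (e : Fin n →₀ ℕ) :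
    MvPowerSeries.coeff (Finsupp.mapDomain Fin.val e) (Fser f) = MvPolynomial.coeff e (f n) := by
  rw [coeff_Fser]
  obtain ⟨e', he'⟩ : ∃ e' : ℕ →₀ ℕ, e' = Finsupp.mapDomain Fin.val e := ⟨_, rfl⟩
  rw [← he']
  have h1 := hc n (max n (N e')) (Fin.castLEOrderEmb (le_max_left _ _)) e
  have h2 := hc (N e') (max n (N e')) (Fin.castLEOrderEmb (le_max_right _ _)) (hat e')
  rw [h1, h2]
  congr 1
  apply Finsupp.mapDomain_injective Fin.val_injective
  rw [← Finsupp.mapDomain_comp, ← Finsupp.mapDomain_comp]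
  have hv1 : (Fin.val ∘ ⇑(Fin.castLEOrderEmb (le_max_left n (N e')))) = Fin.val := by
    funext x; rfl
  have hv2 : (Fin.val ∘ ⇑(Fin.castLEOrderEmb (le_max_right n (N e')))) = Fin.val := by
    funext x; rfl
  rw [hv1, hv2, map_hat, he']

include hc in
lemma quasi (ℓ : ℕ) (i : Fin ℓ → ℕ) (a : Fin ℓ → ℕ) (hi : StrictMono i) :
    MvPowerSeries.coeff (∑ t : Fin ℓ, Finsupp.single (i t) (a t)) (Fser f) =
      MvPolynomial.coeff (∑ t : Fin ℓ, Finsupp.single t (a t)) (f ℓ) := by
  obtain ⟨n, hn⟩ : ∃ n, ∀ t, i t < n :=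
    ⟨(∑ t, i t) + 1, fun t => Nat.lt_succ_of_le
      (Finset.single_le_sum (f := i) (fun _ _ => Nat.zero_le _) (Finset.mem_univ t))⟩
  have hi' : StrictMono (fun t => (⟨i t, hn t⟩ : Fin n)) := fun s t h => Fin.lt_def.mpr (hi h)
  have h1 : (∑ t : Fin ℓ, Finsupp.single (i t) (a t)) =
      Finsupp.mapDomain Fin.val (∑ t : Fin ℓ, Finsupp.single (⟨i t, hn t⟩ : Fin n) (a t)) := by
    rw [mapDomain_sum_single]
  rw [h1, restr f hc]
  have h2 := hc ℓ n (OrderEmbedding.ofStrictMono _ hi') (∑ t : Fin ℓ, Finsupp.single t (a t))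
  rw [h2, mapDomain_sum_single]
  rfl

include hc in
theorem partB (hf : ∀ n, (f n).IsHomogeneous d) :
    ∃! F : MvPowerSeries ℕ ℤ,
        (∀ (ℓ : ℕ) (i j : Fin ℓ → ℕ) (a : Fin ℓ → ℕ), StrictMono i → StrictMono j →
          (∀ t, 0 < a t) →
          MvPowerSeries.coeff (∑ t : Fin ℓ, Finsupp.single (i t) (a t)) F =
            MvPowerSeries.coeff (∑ t : Fin ℓ, Finsupp.single (j t) (a t)) F) ∧
        (∀ e : ℕ →₀ ℕ, MvPowerSeries.coeff e F ≠ 0 → e.degree = d) ∧
        (∀ (n : ℕ) (e : Fin n →₀ ℕ),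
          MvPowerSeries.coeff (Finsupp.mapDomain Fin.val e) F = MvPolynomial.coeff e (f n)) := by
  refine ⟨Fser f, ⟨?_, ?_, restr f hc⟩, ?_⟩
  · intro ℓ i j a hi hj _
    exact (quasi f hc ℓ i a hi).trans (quasi f hc ℓ j a hj).symm
  · intro e' h
    by_contra hne
    have hdeg : (hat e').degree = e'.degree := by
      rw [← Finsupp.degree_mapDomain Fin.val (hat e'), map_hat]
    rw [coeff_Fser] at h
    exact h ((hf (N e')).coeff_eq_zero (by rw [hdeg]; exact hne))
  · rintro F' ⟨_, _, hr'⟩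
    ext e'
    rw [coeff_Fser, ← hr' (N e') (hat e'), map_hat]

end partB

end S17171aux

/-- The ring QSym of quasisymmetric functions over ℤ, with its restriction maps to the polynomial rings
in finitely many ordered variables, is the limit of the diagram S ↦ ℤ[α_s : s ∈ S] over finite
ordered sets S and order-preserving injections (an injection φ : S → T acting by α_t ↦ α_s when t =
φ s and α_t ↦ 0 otherwise), the limit being taken in graded rings. Stated here on degree-d
components, with the variables indexed by ℕ in place of the positive integers and the finite ordered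
sets taken to be the Fin n: (a) if F is a formal power series over ℤ in variables indexed by ℕ which
is quasisymmetric (for strictly increasing i, j : Fin ℓ → ℕ and positive exponents a, the
coefficients of ∏ x_{i t}^{a t} and ∏ x_{j t}^{a t} agree) and all of whose monomials have degree d,
then its restrictions to the initial segments Fin n ⊂ ℕ are compatible with every order embedding
Fin n ↪o Fin m; (b) every family of degree-d homogeneous polynomials f n ∈ ℤ[x_s : s ∈ Fin n],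
compatible with all order embeddings Fin n ↪o Fin m in this sense, is the family of restrictions of
exactly one such quasisymmetric F of degree d. -/
theorem result (d : ℕ) :
    (∀ F : MvPowerSeries ℕ ℤ,
      (∀ (ℓ : ℕ) (i j : Fin ℓ → ℕ) (a : Fin ℓ → ℕ), StrictMono i → StrictMono j → (∀ t, 0 < a t) →
        MvPowerSeries.coeff (∑ t : Fin ℓ, Finsupp.single (i t) (a t)) F =
          MvPowerSeries.coeff (∑ t : Fin ℓ, Finsupp.single (j t) (a t)) F) →
      (∀ e : ℕ →₀ ℕ, MvPowerSeries.coeff e F ≠ 0 → e.degree = d) →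
      ∀ (n m : ℕ) (φ : Fin n ↪o Fin m) (e : Fin n →₀ ℕ),
        MvPowerSeries.coeff (Finsupp.mapDomain Fin.val e) F =
          MvPowerSeries.coeff (Finsupp.mapDomain Fin.val (Finsupp.mapDomain φ e)) F) ∧
    (∀ f : (n : ℕ) → MvPolynomial (Fin n) ℤ,
      (∀ n, (f n).IsHomogeneous d) →
      (∀ (n m : ℕ) (φ : Fin n ↪o Fin m) (e : Fin n →₀ ℕ),
        MvPolynomial.coeff e (f n) = MvPolynomial.coeff (Finsupp.mapDomain φ e) (f m)) →
      ∃! F : MvPowerSeries ℕ ℤ,
        (∀ (ℓ : ℕ) (i j : Fin ℓ → ℕ) (a : Fin ℓ → ℕ), StrictMono i → StrictMono j → (∀ t, 0 < a t) →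
          MvPowerSeries.coeff (∑ t : Fin ℓ, Finsupp.single (i t) (a t)) F =
            MvPowerSeries.coeff (∑ t : Fin ℓ, Finsupp.single (j t) (a t)) F) ∧
        (∀ e : ℕ →₀ ℕ, MvPowerSeries.coeff e F ≠ 0 → e.degree = d) ∧
        (∀ (n : ℕ) (e : Fin n →₀ ℕ),
          MvPowerSeries.coeff (Finsupp.mapDomain Fin.val e) F = MvPolynomial.coeff e (f n))) := by
  refine ⟨fun F hq _ n m φ e => S17171aux.partA F hq n m φ e, fun f hf hc => ?_⟩
  exact S17171aux.partB d f hc hf

end Groth.Agent.S17171
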