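import Groth.Statements.S17175
import Mathlib

set_option autoImplicit false
universe u
open CAlg

namespace Groth.Agent.S17175

open PowerSeries in
/-- Let k be a field, O₀ = k[[x, y]]/(xy) the complete local ring of a node and Õ₀ = k[[x]] × k[[y]] its
normalization, O₀ being embedded in Õ₀ by h ↦ (h(x, 0), h(0, y)) as the subring of pairs with equal
constant coefficients. Regard Õ₀ as an O₀-module: it is the rank-one torsion-free O₀-module that is
not free. Then every O₀-linear endomorphism of this module is Õ₀-linear, i.e. it is multiplication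
by a unique element of Õ₀; consequently its O₀-endomorphism ring is Õ₀ and its O₀-automorphism group
is the unit group of Õ₀. Here an O₀-linear endomorphism is an additive map of k[[X]] × k[[X]]
commuting with multiplication by every pair whose two constant coefficients agree. (The source works
over an algebraically closed field; only the field structure is used.) -/
theorem result (k : Type u) [Field k]
    (φ : (k⟦X⟧ × k⟦X⟧) →+ (k⟦X⟧ × k⟦X⟧))
    (hφ : ∀ a s : k⟦X⟧ × k⟦X⟧, constantCoeff a.1 = constantCoeff a.2 → φ (a * s) = a * φ s) :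
    ∃! b : k⟦X⟧ × k⟦X⟧, ∀ s : k⟦X⟧ × k⟦X⟧, φ s = b * s := by
  classical
  set b : k⟦X⟧ × k⟦X⟧ := φ 1 with hb
  have hX0 : (PowerSeries.X : k⟦X⟧) ≠ 0 := PowerSeries.X_ne_zero
  -- φ (e1)
  have h11 : (PowerSeries.X * (φ (1, 0)).1 : k⟦X⟧) = PowerSeries.X * b.1 := by
    have h1 := hφ (PowerSeries.X, 0) (1, 0) (by simp)
    have h2 := hφ (PowerSeries.X, 0) 1 (by simp)
    have h3 : ((PowerSeries.X, 0) : k⟦X⟧ × k⟦X⟧) * (1, 0) = (PowerSeries.X, 0) * 1 := by
      ext <;> simp
    rw [h3, h2] at h1
    have := congrArg Prod.fst h1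
    simpa using this.symm
  have h12 : (PowerSeries.X * (φ (1, 0)).2 : k⟦X⟧) = 0 := by
    have h1 := hφ (0, PowerSeries.X) (1, 0) (by simp)
    have h3 : ((0, PowerSeries.X) : k⟦X⟧ × k⟦X⟧) * (1, 0) = 0 := by
      ext <;> simp
    rw [h3, map_zero] at h1
    have := congrArg Prod.snd h1
    simpa using this.symm
  have h21 : (PowerSeries.X * (φ (0, 1)).1 : k⟦X⟧) = 0 := by
    have h1 := hφ (PowerSeries.X, 0) (0, 1) (by simp)
    have h3 : ((PowerSeries.X, 0) : k⟦X⟧ × k⟦X⟧) * (0, 1) = 0 := by
      ext <;> simp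
    rw [h3, map_zero] at h1
    have := congrArg Prod.fst h1
    simpa using this.symm
  have h22 : (PowerSeries.X * (φ (0, 1)).2 : k⟦X⟧) = PowerSeries.X * b.2 := by
    have h1 := hφ (0, PowerSeries.X) (0, 1) (by simp)
    have h2 := hφ (0, PowerSeries.X) 1 (by simp)
    have h3 : ((0, PowerSeries.X) : k⟦X⟧ × k⟦X⟧) * (0, 1) = (0, PowerSeries.X) * 1 := by
      ext <;> simp
    rw [h3, h2] at h1
    have := congrArg Prod.snd h1
    simpa using this.symm
  have he1 : φ (1, 0) = (b.1, 0) := by
    refine Prod.ext ?_ ?_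
    · exact mul_left_cancel₀ hX0 h11
    · exact (mul_eq_zero.1 h12).resolve_left hX0
  have he2 : φ (0, 1) = (0, b.2) := by
    refine Prod.ext ?_ ?_
    · exact (mul_eq_zero.1 h21).resolve_left hX0
    · exact mul_left_cancel₀ hX0 h22
  refine ⟨b, ?_, ?_⟩
  · intro s
    obtain ⟨s1, s2⟩ := s
    -- decompose
    have hs1 : s1 = PowerSeries.C (PowerSeries.constantCoeff s1) +
        PowerSeries.X * (PowerSeries.mk fun n => PowerSeries.coeff (n + 1) s1) := by
      conv_lhs => rw [PowerSeries.eq_X_mul_shift_add_const s1]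
      ring
    have hs2 : s2 = PowerSeries.C (PowerSeries.constantCoeff s2) +
        PowerSeries.X * (PowerSeries.mk fun n => PowerSeries.coeff (n + 1) s2) := by
      conv_lhs => rw [PowerSeries.eq_X_mul_shift_add_const s2]
      ring
    set c1 := PowerSeries.C (PowerSeries.constantCoeff s1) with hc1
    set c2 := PowerSeries.C (PowerSeries.constantCoeff s2) with hc2
    set t1 := (PowerSeries.mk fun n => PowerSeries.coeff (n + 1) s1) with ht1
    set t2 := (PowerSeries.mk fun n => PowerSeries.coeff (n + 1) s2) with ht2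
    have hdec : ((s1, s2) : k⟦X⟧ × k⟦X⟧) =
        (c1, c1) * (1, 0) + (c2, c2) * (0, 1) + (PowerSeries.X * t1, PowerSeries.X * t2) * 1 := by
      refine Prod.ext ?_ ?_
      · simpa using hs1
      · simpa using hs2
    rw [hdec, map_add, map_add, hφ _ _ rfl, hφ _ _ rfl, hφ _ _ (by simp), he1, he2, ← hb]
    refine Prod.ext ?_ ?_
    · simp only [Prod.fst_add, Prod.fst_mul, Prod.fst_one]
      ring
    · simp only [Prod.snd_one, Prod.snd_add, Prod.snd_mul]
      ring
  · intro b' hb'
    have := hb' 1
    rw [mul_one] at this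
    rw [← this]

end Groth.Agent.S17175
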