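import Groth.Statements.S17176
import Mathlib

set_option autoImplicit false
open Curves

namespace Groth.Agent.S17176

/-- Fix integers g ≥ 3 and d. For a complete subcurve Y of arithmetic genus g_Y of a nodal curve of
genus g, meeting the rest of the curve in k points, the lower extreme of the Basic Inequality for
line bundles of degree d is m = d(2g_Y - 2 + k)/(2g - 2) - k/2, which is an integer exactly when 2(g
- 1) divides d(2g_Y - 2 + k) - k(g - 1). Then gcd(d - g + 1, 2g - 2) = 1 if and only if m is not an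
integer for all integers g_Y, k with 0 < g_Y < g - 1, k ≥ 1 and k + 2g_Y - 2 < 2g - 2. (The row
makes explicit the bound 2g_Y - 2 + k < 2g - 2, which is automatic for subcurves of stable curves
and is satisfied by every subcurve to which the source applies the lemma; the source leaves the
ambient curve's class implicit.) -/
theorem result (g d : ℤ) (hg : 3 ≤ g) :
    Int.gcd (d - g + 1) (2 * g - 2) = 1 ↔
      ∀ gY k : ℤ, 0 < gY → gY < g - 1 → 1 ≤ k → k + 2 * gY - 2 < 2 * g - 2 →
        ¬ (2 * (g - 1) ∣ d * (2 * gY - 2 + k) - k * (g - 1)) := by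
  have hkey : ∀ gY k : ℤ, d * (2 * gY - 2 + k) - k * (g - 1) =
      (2 * gY - 2 + k) * (d - g + 1) + (2 * (g - 1)) * (gY - 1) := by
    intro gY k; ring
  have hdvd : ∀ gY k : ℤ, (2 * (g - 1) ∣ d * (2 * gY - 2 + k) - k * (g - 1)) ↔
      (2 * (g - 1) ∣ (2 * gY - 2 + k) * (d - g + 1)) := by
    intro gY k
    rw [hkey]
    exact (Int.dvd_add_left (Dvd.intro _ rfl))
  constructor
  · intro hgcd gY k hgY1 hgY2 hk hn hd
    rw [hdvd] at hd
    have hcop : IsCoprime (2 * (g - 1)) (d - g + 1) := by
      rw [Int.isCoprime_iff_gcd_eq_one, Int.gcd_comm]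
      have : 2 * (g - 1) = 2 * g - 2 := by ring
      rw [this]; exact hgcd
    have h1 : 2 * (g - 1) ∣ 2 * gY - 2 + k := hcop.dvd_of_dvd_mul_right hd
    have hpos : 0 < 2 * gY - 2 + k := by linarith
    have := Int.le_of_dvd hpos h1
    linarith
  · intro h
    by_contra hne
    set e : ℕ := Int.gcd (d - g + 1) (2 * g - 2) with he
    have hpos2 : (0 : ℤ) < 2 * g - 2 := by linarith
    have he0 : e ≠ 0 := by
      intro h0
      rw [he, Int.gcd_eq_zero_iff] at h0
      linarith [h0.2]
    have he2 : 2 ≤ e := by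
      rcases Nat.lt_or_ge e 2 with h2 | h2
      · interval_cases e
        · exact absurd rfl he0
        · exact absurd rfl hne
      · exact h2
    obtain ⟨n, hn⟩ : (e : ℤ) ∣ 2 * g - 2 := Int.gcd_dvd_right _ _
    obtain ⟨D', hD'⟩ : (e : ℤ) ∣ d - g + 1 := Int.gcd_dvd_left _ _
    have heZ : (2 : ℤ) ≤ e := by exact_mod_cast he2
    have hnpos : 0 < n := by
      by_contra hn0
      have : n ≤ 0 := not_lt.1 hn0
      have : (e : ℤ) * n ≤ 0 := mul_nonpos_of_nonneg_of_nonpos (by linarith) this
      linarith
    have hnlt : n < 2 * g - 2 := by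
      rw [hn]; nlinarith
    -- take gY = 1, k = n
    refine h 1 n (by norm_num) (by linarith) (by linarith) (by linarith) ?_
    rw [hdvd]
    refine ⟨D', ?_⟩
    have : 2 * (g - 1) = e * n := by rw [← hn]; ring
    rw [this, hD']; ring

end Groth.Agent.S17176
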