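import Groth.Statements.S17179
import Mathlib

set_option autoImplicit false
universe u
open LabGraph

namespace Groth.Agent.S17179

open LabGraph

section Aux

variable {V E : Type u} [Fintype V] [Fintype E] [DecidableEq V] [DecidableEq E]

/-- edge indicator of the cut -/
def cutI (ends : E → V × V) (Y : Finset V) (e : E) : ℤ :=
  if ((ends e).1 ∈ Y ∧ (ends e).2 ∉ Y) ∨ ((ends e).1 ∉ Y ∧ (ends e).2 ∈ Y) then 1 else 0

theorem cut_eq (ends : E → V × V) (Y : Finset V) :
    (cut ends Y : ℤ) = ∑ e : E, cutI ends Y e := by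
  unfold cut cutI
  rw [Finset.card_filter]
  push_cast
  rfl

/-- edge contribution to the twist on `Y` -/
def twI (ends : E → V × V) (φ : V → ℤ) (Y : Finset V) (e : E) : ℤ :=
  (if (ends e).1 ∈ Y then φ (ends e).2 - φ (ends e).1 else 0) +
    (if (ends e).2 ∈ Y then φ (ends e).1 - φ (ends e).2 else 0)

theorem sum_twist_eq (ends : E → V × V) (φ : V → ℤ) (Y : Finset V) :
    ∑ v ∈ Y, twist ends φ v = ∑ e : E, twI ends φ Y e := by
  unfold twist twI
  rw [Finset.sum_comm]
  apply Finset.sum_congr rfl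
  intro e _
  rw [Finset.sum_add_distrib, Finset.sum_ite_eq Y (ends e).1, Finset.sum_ite_eq Y (ends e).2]

theorem sum_twist_univ (ends : E → V × V) (φ : V → ℤ) : ∑ v : V, twist ends φ v = 0 := by
  rw [sum_twist_eq]
  apply Finset.sum_eq_zero
  intro e _
  unfold twI
  simp

theorem canDeg_univ_eq (ends : E → V × V) (w : V → ℕ) :
    canDeg ends w Finset.univ = 2 * genus ends w - 2 := by
  unfold canDeg genus
  have h1 : ∑ v : V, (endCount ends Finset.univ v : ℤ) = 2 * (Fintype.card E : ℤ) := by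
    unfold endCount
    push_cast
    rw [Finset.sum_comm]
    have : ∀ e : E, ∑ v : V, (((if (ends e).1 = v then 1 else 0) +
        (if (ends e).2 = v then 1 else 0) : ℤ)) = 2 := by
      intro e
      rw [Finset.sum_add_distrib, Finset.sum_ite_eq, Finset.sum_ite_eq]
      simp
    rw [Finset.sum_congr rfl (fun e _ => this e)]
    simp [mul_comm]
  rw [Finset.sum_add_distrib, Finset.sum_sub_distrib, h1, ← Finset.mul_sum]
  simp
  ring

theorem canDeg_union (ends : E → V × V) (w : V → ℕ) {Y₁ Y₂ : Finset V} (h : Disjoint Y₁ Y₂) :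
    canDeg ends w (Y₁ ∪ Y₂) = canDeg ends w Y₁ + canDeg ends w Y₂ := by
  unfold canDeg
  rw [Finset.sum_union h]

end Aux


open LabGraph in
/-- Let Γ be the weighted dual graph of a Deligne–Mumford semistable curve X of genus g ≥ 3 (connected;
every weight-zero vertex without loop joined to the other vertices by at least two edges), d a
multidegree of total degree D satisfying the Basic Inequality, and Z a set of vertices whose degree
equals the upper extreme M_Z of the inequality, that is 2((2g - 2)·d_Z - D·canDeg Z) = cut Z·(2g -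
2). Then d + z again satisfies the Basic Inequality, where z, the multidegree of O(Z) on the total
space of a regular smoothing, is the twist of the indicator function of Z (it lowers the degree on Z
by cut Z and raises it on each outside vertex by its number of edges to Z). -/
theorem result {V E : Type u} [Fintype V] [Fintype E]
    [DecidableEq V] [DecidableEq E] (ends : E → V × V) (w : V → ℕ) (hX : IsSemistableGraph ends w)
    (hg : 3 ≤ genus ends w) (d : V → ℤ) (hBI : SatisfiesBI ends w d) (Z : Finset V)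
    (hZ : 2 * (canDeg ends w Finset.univ * (∑ v ∈ Z, d v) - (∑ v : V, d v) * canDeg ends w Z) =
      (cut ends Z : ℤ) * canDeg ends w Finset.univ) :
    SatisfiesBI ends w (fun v => d v + twist ends (fun u => if u ∈ Z then 1 else 0) v) := by
  classical
  obtain ⟨K, hK⟩ : ∃ K : ℤ, K = canDeg ends w Finset.univ := ⟨_, rfl⟩
  obtain ⟨D, hD⟩ : ∃ D : ℤ, D = ∑ v : V, d v := ⟨_, rfl⟩
  have hK0 : 0 ≤ K := by
    rw [hK, canDeg_univ_eq]
    omega
  obtain ⟨φ, hφ⟩ : ∃ φ : V → ℤ, φ = fun u => if u ∈ Z then 1 else 0 := ⟨_, rfl⟩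
  rw [← hφ]
  obtain ⟨β, hβ⟩ : ∃ β : Finset V → ℤ, ∀ Y, β Y = K * (∑ v ∈ Y, d v) - D * canDeg ends w Y :=
    ⟨_, fun _ => rfl⟩
  have hβadd : ∀ Y₁ Y₂ : Finset V, Disjoint Y₁ Y₂ → β (Y₁ ∪ Y₂) = β Y₁ + β Y₂ := by
    intro Y₁ Y₂ h
    rw [hβ, hβ, hβ, Finset.sum_union h, canDeg_union ends w h]
    ring
  have hBI : ∀ Y : Finset V, 2 * |β Y| ≤ (cut ends Y : ℤ) * K := by
    intro Y
    rw [hβ, hK, hD]
    exact hBI Y
  have hZ' : 2 * β Z = (cut ends Z : ℤ) * K := by
    rw [hβ, hK, hD]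
    exact hZ
  intro Y
  have hD' : ∑ v : V, (d v + twist ends φ v) = D := by
    rw [Finset.sum_add_distrib, sum_twist_univ, add_zero, hD]
  rw [hD', Finset.sum_add_distrib, sum_twist_eq, ← hK]
  have hgoal : K * (∑ v ∈ Y, d v + ∑ e : E, twI ends φ Y e) - D * canDeg ends w Y =
      β Y + K * ∑ e : E, twI ends φ Y e := by
    rw [hβ]; ring
  rw [hgoal]
  -- decompositions
  have hYdec : Y = (Y ∩ Z) ∪ (Y \ Z) := by
    ext x
    simp only [Finset.mem_union, Finset.mem_inter, Finset.mem_sdiff]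
    tauto
  have hYdisj : Disjoint (Y ∩ Z) (Y \ Z) := by
    rw [Finset.disjoint_left]
    intro x hx hx'
    exact (Finset.mem_sdiff.1 hx').2 (Finset.mem_inter.1 hx).2
  have hZdec : Z = (Y ∩ Z) ∪ (Z \ Y) := by
    ext x
    simp only [Finset.mem_union, Finset.mem_inter, Finset.mem_sdiff]
    tauto
  have hZdisj : Disjoint (Y ∩ Z) (Z \ Y) := by
    rw [Finset.disjoint_left]
    intro x hx hx'
    exact (Finset.mem_sdiff.1 hx').2 (Finset.mem_inter.1 hx).1
  have hZYdec : Z ∪ Y = Z ∪ (Y \ Z) := by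
    ext x
    simp only [Finset.mem_union, Finset.mem_sdiff]
    tauto
  have hZYdisj : Disjoint Z (Y \ Z) := by
    rw [Finset.disjoint_left]
    intro x hx hx'
    exact (Finset.mem_sdiff.1 hx').2 hx
  have e1 : β Y = β (Y ∩ Z) + β (Y \ Z) := by
    conv_lhs => rw [hYdec]
    exact hβadd _ _ hYdisj
  have e2 : β Z = β (Y ∩ Z) + β (Z \ Y) := by
    conv_lhs => rw [hZdec]
    exact hβadd _ _ hZdisj
  have e3 : β (Z ∪ Y) = β Z + β (Y \ Z) := by
    rw [hZYdec]
    exact hβadd _ _ hZYdisj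
  -- edge inequalities
  have hU : (cut ends (Y ∩ Z) : ℤ) + cut ends (Z ∪ Y) - cut ends Z +
      2 * ∑ e : E, twI ends φ Y e ≤ cut ends Y := by
    rw [cut_eq, cut_eq, cut_eq, cut_eq, Finset.mul_sum, ← Finset.sum_add_distrib,
      ← Finset.sum_sub_distrib, ← Finset.sum_add_distrib]
    apply Finset.sum_le_sum
    intro e _
    unfold cutI twI
    rw [hφ]
    simp only [Finset.mem_inter, Finset.mem_union]
    by_cases h1 : (ends e).1 ∈ Y <;> by_cases h2 : (ends e).2 ∈ Y <;>
      by_cases h3 : (ends e).1 ∈ Z <;> by_cases h4 : (ends e).2 ∈ Z <;> simp [h1, h2, h3, h4]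
  have hL : -(cut ends Y : ℤ) ≤ (cut ends Z : ℤ) - cut ends (Z \ Y) - cut ends (Y \ Z) +
      2 * ∑ e : E, twI ends φ Y e := by
    rw [cut_eq, cut_eq, cut_eq, cut_eq, Finset.mul_sum, ← Finset.sum_sub_distrib,
      ← Finset.sum_sub_distrib, ← Finset.sum_add_distrib, ← Finset.sum_neg_distrib]
    apply Finset.sum_le_sum
    intro e _
    unfold cutI twI
    rw [hφ]
    simp only [Finset.mem_sdiff]
    by_cases h1 : (ends e).1 ∈ Y <;> by_cases h2 : (ends e).2 ∈ Y <;>
      by_cases h3 : (ends e).1 ∈ Z <;> by_cases h4 : (ends e).2 ∈ Z <;> simp [h1, h2, h3, h4]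
  have hA := hBI (Y ∩ Z)
  have hZY := hBI (Z ∪ Y)
  have hA' := hBI (Z \ Y)
  have hB := hBI (Y \ Z)
  have uA := (abs_le.1 (show |β (Y ∩ Z)| ≤ |β (Y ∩ Z)| from le_rfl))
  have uZY := (abs_le.1 (show |β (Z ∪ Y)| ≤ |β (Z ∪ Y)| from le_rfl))
  have uA' := (abs_le.1 (show |β (Z \ Y)| ≤ |β (Z \ Y)| from le_rfl))
  have uB := (abs_le.1 (show |β (Y \ Z)| ≤ |β (Y \ Z)| from le_rfl))
  obtain ⟨T, hT⟩ : ∃ T : ℤ, T = ∑ e : E, twI ends φ Y e := ⟨_, rfl⟩
  rw [← hT] at hU hL ⊢
  rw [show (2 : ℤ) * |β Y + K * T| = |2 * (β Y + K * T)| by rw [abs_mul, abs_two], abs_le]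
  constructor
  · -- lower
    have h1 : -((cut ends Y : ℤ) * K) ≤
        ((cut ends Z : ℤ) - cut ends (Z \ Y) - cut ends (Y \ Z) + 2 * T) * K := by
      have := mul_le_mul_of_nonneg_right hL hK0
      linarith
    nlinarith [uA'.2, uB.1]
  · have h1 : ((cut ends (Y ∩ Z) : ℤ) + cut ends (Z ∪ Y) - cut ends Z + 2 * T) * K ≤
        (cut ends Y : ℤ) * K := mul_le_mul_of_nonneg_right hU hK0
    nlinarith [uA.2, uZY.2]

end Groth.Agent.S17179
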