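import Groth.Statements.S17181
import Mathlib
import Groth.Agent.S1537
import Groth.Agent.S1540

set_option autoImplicit false
universe u
open CategoryTheory CategoryTheory.Limits AlgebraicGeometry
open FBase

namespace Groth.Agent.S17181

attribute [local instance] Curv2.resAlgebra

theorem field_lemma {k L M N : Type u} [Field k] [Field L] [Field M] [Field N] [Algebra k L]
    [Algebra L N] [Algebra k N] [IsScalarTower k L N] [Algebra k M] (ρ : M →ₐ[k] N)
    (h1 : ∀ b : L, IsSeparable k b → b ∈ Set.range (algebraMap k L))
    (h2 : ∀ c : N, IsSeparable L c → c ∈ Set.range (algebraMap L N))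
    (a : M) (ha : IsSeparable k a) : a ∈ Set.range (algebraMap k M) := by
  have hc : IsSeparable k (ρ a) := by
    unfold IsSeparable
    rw [minpoly.algHom_eq ρ ρ.injective]
    exact ha
  have hc' : IsSeparable L (ρ a) := IsSeparable.tower_top L hc
  obtain ⟨b, hb⟩ := h2 _ hc'
  have hbsep : IsSeparable k b := by
    apply IsSeparable.tower_bot (E := N)
    rw [hb]
    exact hc
  obtain ⟨c0, hc0⟩ := h1 b hbsep
  refine ⟨c0, ρ.injective ?_⟩
  show ρ (algebraMap k M c0) = ρ a
  rw [AlgHom.commutes, ← hb, ← hc0, ← IsScalarTower.algebraMap_apply]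

/-- Let k be a field, C an irreducible k-scheme which is geometrically irreducible over k, and f : X → C
a flat k-morphism locally of finite type with X irreducible. If the generic fibre of f is
geometrically irreducible over the residue field of the generic point of C, then X is geometrically
irreducible over k. (The published setting is a regular proper surface mapping onto a smooth
projective geometrically irreducible curve with smooth projective geometrically irreducible generic
fibre; the printed argument uses only the hypotheses kept here.) -/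
theorem result (k : Type u) [Field k]
    (X C : Scheme.{u}) [X.Over (Spec (CommRingCat.of k))] [C.Over (Spec (CommRingCat.of k))]
    (f : X ⟶ C) [f.IsOver (Spec (CommRingCat.of k))] [IrreducibleSpace X] [IrreducibleSpace C]
    [GeometricallyIrreducible (C ↘ Spec (CommRingCat.of k))] [Flat f] [LocallyOfFiniteType f]
    [GeometricallyIrreducible (f.fiberToSpecResidueField (genericPoint C))] :
    GeometricallyIrreducible (X ↘ Spec (CommRingCat.of k)) := by

  classical
  let η := genericPoint C
  let Z := f.fiber η
  let ι : Z ⟶ X := f.fiberι η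
  let t : Z ⟶ Spec (C.residueField η) := f.fiberToSpecResidueField η
  let L : Type u := C.residueField η
  letI : Z.Over (Spec (CommRingCat.of L)) := ⟨t⟩
  haveI hZgi : GeometricallyIrreducible (Z ↘ Spec (CommRingCat.of L)) :=
    ‹GeometricallyIrreducible (f.fiberToSpecResidueField (genericPoint C))›
  haveI : Subsingleton ↥(Spec (CommRingCat.of L)) :=
    inferInstanceAs (Subsingleton (PrimeSpectrum L))
  haveI : Nonempty ↥(Spec (CommRingCat.of L)) :=
    inferInstanceAs (Nonempty (PrimeSpectrum L))
  haveI hZirr : IrreducibleSpace Z :=
    GeometricallyIrreducible.irreducibleSpace_of_subsingleton (Z ↘ Spec (CommRingCat.of L))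
  let ζ := genericPoint Z
  -- the generic point of `X` maps to the generic point of `C`
  have hfac : ι ≫ f = t ≫ C.fromSpecResidueField η := f.fiber_fac η
  have hιη : ∀ z : Z, f (ι z) = η := by
    intro z
    have h1 : (ι ≫ f) z = (t ≫ C.fromSpecResidueField η) z := by rw [hfac]
    rw [Scheme.Hom.comp_apply, Scheme.Hom.comp_apply, Scheme.fromSpecResidueField_apply] at h1
    exact h1
  have hξη : f (genericPoint X) = η := by
    have h1 : f (genericPoint X) ⤳ f (ι ζ) :=
      (genericPoint_specializes (ι ζ)).map f.continuous
    rw [hιη ζ] at h1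
    exact (h1.antisymm (genericPoint_specializes _)).eq
  have hξ : genericPoint X = ι ζ := by
    have hmem : genericPoint X ∈ Set.range ι := by
      rw [show Set.range ι = f ⁻¹' {η} from f.range_fiberι η]
      exact hξη
    obtain ⟨z₀, hz₀⟩ := hmem
    have h1 : z₀ ⤳ ζ := by
      rw [← ι.isEmbedding.toIsInducing.specializes_iff, hz₀]
      exact genericPoint_specializes _
    have h2 : ζ ⤳ z₀ := genericPoint_specializes _
    rw [← hz₀, (h1.antisymm h2).eq]
  -- the two separable-closedness statements
  have hC := (Groth.Agent.S1540.result k C).mp inferInstance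
  have hZ := (Groth.Agent.S1540.result L Z).mp hZgi
  rw [Groth.Agent.S1540.result k X]
  -- reduce to the point `ι ζ`
  suffices H : ∀ x : X, x = ι ζ → ∀ a : X.residueField x, IsSeparable k a →
      a ∈ Set.range (algebraMap k (X.residueField x)) from H _ hξ
  intro x hx
  subst hx
  -- compatibility of the residue field maps
  have hcompat : ((ι.residueFieldMap ζ).hom).comp (Curv2.resMap k X (ι ζ)) =
      (Curv2.resMap L Z ζ).comp (Curv2.resMap k C η) := by
    have h1 : CommRingCat.ofHom (Curv2.resMap k X (ι ζ)) ≫ ι.residueFieldMap ζ =
        CommRingCat.ofHom (Curv2.resMap k C η) ≫ CommRingCat.ofHom (Curv2.resMap L Z ζ) := by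
      apply Spec.map_injective
      rw [Spec.map_comp, Spec.map_comp, Groth.Agent.S1537.specMap_resMap k X (ι ζ),
        Groth.Agent.S1537.specMap_resMap k C η, Groth.Agent.S1537.specMap_resMap L Z ζ,
        Scheme.Hom.SpecMap_residueFieldMap_fromSpecResidueField_assoc]
      show Z.fromSpecResidueField ζ ≫ ι ≫ (X ↘ Spec (CommRingCat.of k)) =
        (Z.fromSpecResidueField ζ ≫ t) ≫ C.fromSpecResidueField η ≫ (C ↘ Spec (CommRingCat.of k))
      rw [← comp_over f (Spec (CommRingCat.of k)), ← Category.assoc ι, hfac]
      simp only [Category.assoc]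
    exact congrArg CommRingCat.Hom.hom h1
  letI : Algebra k (Z.residueField ζ) :=
    ((algebraMap L (Z.residueField ζ)).comp (algebraMap k L)).toAlgebra
  haveI : IsScalarTower k L (Z.residueField ζ) := IsScalarTower.of_algebraMap_eq (fun _ => rfl)
  let ρ : X.residueField (ι ζ) →ₐ[k] Z.residueField ζ :=
    { toRingHom := (ι.residueFieldMap ζ).hom
      commutes' := fun c => RingHom.congr_fun hcompat c }
  intro a ha
  exact field_lemma ρ hC hZ a ha

end Groth.Agent.S17181
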