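import Groth.Statements.S17247
-- import your own Groth.Agent.* helpers here
import Groth.Agent.Lib.Helper23.FFLin2

set_option autoImplicit false
open FunFld

namespace Groth.Agent.S17247



/-- Let `K/k` be a function field of one variable of genus one over an algebraically closed field `k` of
characteristic zero (an elliptic curve `E`), `A` a place, and `g ≥ 3` an odd integer. Inside
`H⁰(O_E((2g-2)A)) = L((2g-2)A)` consider `V = L(gA)` (dimension `g`) and any hyperplane `V₁` of it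
containing `L((g-2)A)`: `L((g-2)A) ⊆ V₁ ⊆ L(gA)`, `dim V₁ = g - 1`. Vanishing orders are those of
sections of `O_E((2g-2)A)`: a member `f` vanishes to order at least `n` at a place `Q` when `f ∈
L((2g-2)A - nQ)`, and the weight of `V₁` at `Q` is `∑_{n=1}^{2g-2} dim (V₁ ∩ L((2g-2)A - nQ)) - (g-1
choose 2)` (the sum of the `g - 1` vanishing orders minus `0 + 1 + ⋯ + (g-2)`). Then the weight of
`V₁` at every place `Q ≠ A` is at most `2`. (The published statement is for a smooth elliptic curve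
over the complex numbers and allows every odd positive `g`; for `g = 1` the inclusion `O(gA) ⊆
O((2g-2)A)` it uses fails, so `g ≥ 3` here.) -/
theorem result
    (k K : Type*) [Field k] [IsAlgClosed k] [CharZero k] [Field K] [Algebra k K]
    (hK : FunFld.IsFunctionField k K) (hg1 : FunFld.genus k K = 1)
    (g : ℕ) (hodd : Odd g) (h3 : 3 ≤ g) (A : FunFld.Place k K)
    (V₁ : Submodule k K) (hlo : FunFld.L (Finsupp.single A ((g : ℤ) - 2)) ≤ V₁)
    (hhi : V₁ ≤ FunFld.L (Finsupp.single A (g : ℤ))) (hdim : Module.finrank k ↥V₁ + 1 = g)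
    (Q : FunFld.Place k K) (hQ : Q ≠ A) :
    (∑ n ∈ Finset.range (2 * g - 2), Module.finrank k
        ↥(V₁ ⊓ FunFld.L (Finsupp.single A (2 * (g : ℤ) - 2) - Finsupp.single Q ((n : ℤ) + 1)))) ≤
      (g - 1).choose 2 + 2 := by
  classical
  have core := Groth.Agent.Lib.Helper27.FF.core_of hK
  obtain ⟨g', rfl⟩ : ∃ g', g = g' + 3 := ⟨g - 3, by omega⟩
  have hAQ : A ≠ Q := hQ.symm
  have hlo' : FunFld.L (Finsupp.single A ((g' + 1 : ℕ) : ℤ) : FunFld.Divisor k K) ≤ V₁ := by
    have e : ((g' + 3 : ℕ) : ℤ) - 2 = ((g' + 1 : ℕ) : ℤ) := by push_cast; ring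
    rw [← e]
    exact hlo
  have hhi' : V₁ ≤ FunFld.L (Finsupp.single A ((g' + 3 : ℕ) : ℤ) : FunFld.Divisor k K) := hhi
  have hV : Module.finrank k ↥V₁ = g' + 2 := by omega
  -- pointwise evaluation helper
  have hev : ∀ (a n : ℤ) (R : FunFld.Place k K),
      ((Finsupp.single A a - Finsupp.single Q n : FunFld.Divisor k K) R = a ∧ R = A) ∨
      ((Finsupp.single A a - Finsupp.single Q n : FunFld.Divisor k K) R = -n ∧ R = Q) ∨
      ((Finsupp.single A a - Finsupp.single Q n : FunFld.Divisor k K) R = 0 ∧ R ≠ A ∧ R ≠ Q) := by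
    intro a n R
    by_cases hRA : R = A
    · left
      refine ⟨?_, hRA⟩
      rw [hRA, Finsupp.sub_apply, Finsupp.single_eq_same, Finsupp.single_eq_of_ne hAQ, sub_zero]
    · by_cases hRQ : R = Q
      · right; left
        refine ⟨?_, hRQ⟩
        rw [hRQ, Finsupp.sub_apply, Finsupp.single_eq_same, Finsupp.single_eq_of_ne hQ, zero_sub]
      · right; right
        refine ⟨?_, hRA, hRQ⟩
        rw [Finsupp.sub_apply, Finsupp.single_eq_of_ne hRA, Finsupp.single_eq_of_ne hRQ, sub_zero]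
  have hevA : ∀ (a : ℤ) (R : FunFld.Place k K),
      ((Finsupp.single A a : FunFld.Divisor k K) R = a ∧ R = A) ∨
      ((Finsupp.single A a : FunFld.Divisor k K) R = 0 ∧ R ≠ A) := by
    intro a R
    by_cases hRA : R = A
    · left
      exact ⟨by rw [hRA, Finsupp.single_eq_same], hRA⟩
    · right
      exact ⟨Finsupp.single_eq_of_ne hRA, hRA⟩
  -- degrees and dimensions
  have hdeg : ∀ (a n : ℤ), FunFld.Divisor.deg
      (Finsupp.single A a - Finsupp.single Q n : FunFld.Divisor k K) = a - n := by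
    intro a n
    rw [Groth.Agent.Lib.Helper27.FF.deg_sub, Groth.Agent.Lib.Helper23.FF.deg_single' hK,
      Groth.Agent.Lib.Helper23.FF.deg_single' hK]
  have hell : ∀ (a n : ℕ), n < a →
      FunFld.ell (Finsupp.single A (a : ℤ) - Finsupp.single Q (n : ℤ) : FunFld.Divisor k K)
        = a - n := by
    intro a n hna
    have h3 := core.ell_eq_of_deg_ge
      (D := (Finsupp.single A (a : ℤ) - Finsupp.single Q (n : ℤ) : FunFld.Divisor k K))
      (by rw [hdeg, hg1]; push_cast; omega)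
    rw [hdeg, hg1] at h3
    push_cast at h3
    omega
  have hellA' : ∀ a : ℕ, 1 ≤ a →
      FunFld.ell (Finsupp.single A (a : ℤ) : FunFld.Divisor k K) = a := by
    intro a ha
    have h3 := core.ell_eq_of_deg_ge (D := (Finsupp.single A (a : ℤ) : FunFld.Divisor k K))
      (by rw [Groth.Agent.Lib.Helper23.FF.deg_single' hK, hg1]; push_cast; omega)
    rw [Groth.Agent.Lib.Helper23.FF.deg_single' hK, hg1] at h3
    push_cast at h3
    omega
  have hfd : ∀ D : FunFld.Divisor k K, FiniteDimensional k ↥(FunFld.L D) := fun D =>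
    Groth.Agent.Lib.Helper27.FF.finiteDimensional_L hK D
  set E : ℕ → FunFld.Divisor k K := fun n =>
    Finsupp.single A ((g' + 3 : ℕ) : ℤ) - Finsupp.single Q (n : ℤ) with hE
  set H : ℕ → ℕ := fun n => Module.finrank k ↥(V₁ ⊓ FunFld.L (E n)) with hH
  have hHle : ∀ n, H n ≤ FunFld.ell (E n) := by
    intro n
    haveI := hfd (E n)
    exact Submodule.finrank_mono inf_le_right
  have hEell : ∀ n, n ≤ g' + 2 → FunFld.ell (E n) = g' + 3 - n := fun n hn =>
    hell (g' + 3) n (by omega)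
  have hEell3 : FunFld.ell (E (g' + 3)) ≤ 1 := by
    have h1 : E (g' + 3) ≤ E (g' + 2) := by
      intro R
      show (Finsupp.single A ((g' + 3 : ℕ) : ℤ) - Finsupp.single Q ((g' + 3 : ℕ) : ℤ)
        : FunFld.Divisor k K) R ≤ (Finsupp.single A ((g' + 3 : ℕ) : ℤ)
          - Finsupp.single Q ((g' + 2 : ℕ) : ℤ) : FunFld.Divisor k K) R
      rcases hev ((g' + 3 : ℕ) : ℤ) ((g' + 3 : ℕ) : ℤ) R with ⟨h1, hR⟩ | ⟨h1, hR⟩ | ⟨h1, hR, hR'⟩ <;>
      rcases hev ((g' + 3 : ℕ) : ℤ) ((g' + 2 : ℕ) : ℤ) R with ⟨h2, hS⟩ | ⟨h2, hS⟩ | ⟨h2, hS, hS'⟩ <;>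
      first
        | (rw [h1, h2] <;> push_cast <;> omega)
        | (exact absurd (hR.symm.trans hS) hAQ)
        | (exact absurd (hS.symm.trans hR) hAQ)
        | (exact absurd hR hS)
        | (exact absurd hR hS')
        | (exact absurd hS hR)
        | (exact absurd hS hR')
    haveI := hfd (E (g' + 2))
    have h2 := Submodule.finrank_mono (Groth.Agent.Lib.Helper27.FF.L_mono h1)
    have h3 : Module.finrank k ↥(FunFld.L (E (g' + 2))) = g' + 3 - (g' + 2) :=
      hEell (g' + 2) le_rfl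
    rw [h3] at h2
    have h4 : FunFld.ell (E (g' + 3)) = Module.finrank k ↥(FunFld.L (E (g' + 3))) := rfl
    omega
  have hHgt : ∀ n, g' + 3 < n → H n = 0 := by
    intro n hn
    have h1 : FunFld.L (E n) = ⊥ := core.L_neg _ (by
      show FunFld.Divisor.deg (Finsupp.single A ((g' + 3 : ℕ) : ℤ) - Finsupp.single Q (n : ℤ)
        : FunFld.Divisor k K) < 0
      rw [hdeg]; push_cast; omega)
    show Module.finrank k ↥(V₁ ⊓ FunFld.L (E n)) = 0
    rw [h1, inf_bot_eq, finrank_bot]
  -- key lemma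
  have hX : ∀ n, 1 ≤ n → n ≤ g' + 1 → g' + 3 - n ≤ H n →
      g' + 2 - n ≤ FunFld.ell (Finsupp.single A ((g' + 1 : ℕ) : ℤ) - Finsupp.single Q (n : ℤ)
        : FunFld.Divisor k K) := by
    intro n hn1 hn2 hHn
    haveI := hfd (E n)
    haveI := hfd (Finsupp.single A ((g' + 1 : ℕ) : ℤ) : FunFld.Divisor k K)
    haveI := hfd (Finsupp.single A ((g' + 1 : ℕ) : ℤ) - Finsupp.single Q (n : ℤ)
        : FunFld.Divisor k K)
    have h1 : V₁ ⊓ FunFld.L (E n) = FunFld.L (E n) :=
      Submodule.eq_of_le_of_finrank_le inf_le_right (by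
        have e : Module.finrank k ↥(FunFld.L (E n)) = g' + 3 - n := hEell n (by omega)
        rw [e]
        exact hHn)
    have h2 : FunFld.L (E n) ≤ V₁ := by
      rw [← h1]
      exact inf_le_left
    have h3 : FunFld.L (Finsupp.single A ((g' + 1 : ℕ) : ℤ) : FunFld.Divisor k K)
        ⊔ FunFld.L (E n) ≤ V₁ := sup_le hlo' h2
    have h4 := Submodule.finrank_sup_add_finrank_inf_eq
      (FunFld.L (Finsupp.single A ((g' + 1 : ℕ) : ℤ) : FunFld.Divisor k K)) (FunFld.L (E n))
    haveI : FiniteDimensional k ↥V₁ := Submodule.finiteDimensional_of_le hhi'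
    have h5 := Submodule.finrank_mono h3
    rw [hV] at h5
    have h6 : FunFld.L (Finsupp.single A ((g' + 1 : ℕ) : ℤ) : FunFld.Divisor k K)
        ⊓ FunFld.L (E n) ≤ FunFld.L (Finsupp.single A ((g' + 1 : ℕ) : ℤ)
          - Finsupp.single Q (n : ℤ) : FunFld.Divisor k K) := by
      apply Groth.Agent.Lib.Helper23.FF.L_inf_le
      intro R
      show min ((Finsupp.single A ((g' + 1 : ℕ) : ℤ) : FunFld.Divisor k K) R)
        ((Finsupp.single A ((g' + 3 : ℕ) : ℤ) - Finsupp.single Q (n : ℤ)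
          : FunFld.Divisor k K) R) ≤ _
      rcases hevA ((g' + 1 : ℕ) : ℤ) R with ⟨h1, hR⟩ | ⟨h1, hR⟩ <;>
      rcases hev ((g' + 3 : ℕ) : ℤ) (n : ℤ) R with ⟨h2, hS⟩ | ⟨h2, hS⟩ | ⟨h2, hS, hS'⟩ <;>
      rcases hev ((g' + 1 : ℕ) : ℤ) (n : ℤ) R with ⟨h3, hT⟩ | ⟨h3, hT⟩ | ⟨h3, hT, hT'⟩ <;>
      first
        | (rw [h1, h2, h3] <;> push_cast <;> omega)
        | (exact absurd (hR.symm.trans hS) hAQ)
        | (exact absurd (hS.symm.trans hR) hAQ)
        | (exact absurd (hS.symm.trans hT) hAQ)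
        | (exact absurd (hT.symm.trans hS) hAQ)
        | (exact absurd (hR.symm.trans hT) hAQ)
        | (exact absurd (hT.symm.trans hR) hAQ)
        | (exact absurd hR hS)
        | (exact absurd hS hR)
        | (exact absurd hS hT)
        | (exact absurd hT hS)
        | (exact absurd hT hS')
        | (exact absurd hS hT')
        | (exact absurd hR hT)
        | (exact absurd hT hR)
    have h7 := Submodule.finrank_mono h6
    have e1 : Module.finrank k ↥(FunFld.L (Finsupp.single A ((g' + 1 : ℕ) : ℤ)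
        : FunFld.Divisor k K)) = g' + 1 := hellA' (g' + 1) (by omega)
    have e2 : Module.finrank k ↥(FunFld.L (E n)) = g' + 3 - n := hEell n (by omega)
    rw [e1, e2] at h4
    have e3 : FunFld.ell (Finsupp.single A ((g' + 1 : ℕ) : ℤ) - Finsupp.single Q (n : ℤ)
        : FunFld.Divisor k K) = Module.finrank k ↥(FunFld.L (Finsupp.single A ((g' + 1 : ℕ) : ℤ)
          - Finsupp.single Q (n : ℤ) : FunFld.Divisor k K)) := rfl
    omega
  -- (a')
  have hHa : ∀ n, 1 ≤ n → n ≤ g' → H n ≤ g' + 2 - n := by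
    intro n hn1 hn2
    by_contra hcon
    have h1 := hX n hn1 (by omega) (by omega)
    rw [hell (g' + 1) n (by omega)] at h1
    omega
  -- (c)
  have hHc : H (g' + 1) + H (g' + 3) ≤ 2 := by
    have hb1 : H (g' + 1) ≤ 2 := by
      have := hHle (g' + 1)
      rw [hEell (g' + 1) (by omega)] at this
      omega
    have hb3 : H (g' + 3) ≤ 1 := (hHle (g' + 3)).trans hEell3
    by_contra hcon
    have hc1 : H (g' + 1) = 2 := by omega
    have hc3 : H (g' + 3) = 1 := by omega
    have h1 := hX (g' + 1) (by omega) le_rfl (by omega)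
    have hpos1 : 0 < FunFld.ell (Finsupp.single A ((g' + 1 : ℕ) : ℤ)
        - Finsupp.single Q ((g' + 1 : ℕ) : ℤ) : FunFld.Divisor k K) := by omega
    have hpos3 : 0 < FunFld.ell (E (g' + 3)) := by
      have := hHle (g' + 3)
      omega
    obtain ⟨f₁, hf₁0, hf₁⟩ := Groth.Agent.Lib.Helper23.FF.exists_div_eq_neg_of_deg_zero hK
      (by rw [hdeg]; ring) hpos1
    obtain ⟨f₂, hf₂0, hf₂⟩ := Groth.Agent.Lib.Helper23.FF.exists_div_eq_neg_of_deg_zero hK
      (D := E (g' + 3)) (by
        show FunFld.Divisor.deg (Finsupp.single A ((g' + 3 : ℕ) : ℤ)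
          - Finsupp.single Q ((g' + 3 : ℕ) : ℤ) : FunFld.Divisor k K) = 0
        rw [hdeg]; ring) hpos3
    obtain ⟨m, hm⟩ := hodd
    -- u = f₂ * ((f₁ * f₂⁻¹) ^ m)
    have hw0 : f₁ * f₂⁻¹ ≠ 0 := mul_ne_zero hf₁0 (inv_ne_zero hf₂0)
    have hu0 : f₂ * (f₁ * f₂⁻¹) ^ m ≠ 0 := mul_ne_zero hf₂0 (pow_ne_zero m hw0)
    have hdivu : FunFld.div k (f₂ * (f₁ * f₂⁻¹) ^ m)
        = Finsupp.single Q (1 : ℤ) - Finsupp.single A (1 : ℤ) := by
      rw [core.div_mul hf₂0 (pow_ne_zero m hw0), Groth.Agent.Lib.Helper23.FF.div_pow' hK hw0,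
        core.div_mul hf₁0 (inv_ne_zero hf₂0), Groth.Agent.Lib.Helper27.FF.div_inv' hK, hf₁, hf₂]
      ext R
      simp only [Finsupp.coe_add, Finsupp.coe_neg, Finsupp.coe_smul, Pi.add_apply, Pi.neg_apply,
        Pi.smul_apply, nsmul_eq_mul]
      show -((Finsupp.single A ((g' + 3 : ℕ) : ℤ) - Finsupp.single Q ((g' + 3 : ℕ) : ℤ)
          : FunFld.Divisor k K) R) + (m : ℤ) * (-((Finsupp.single A ((g' + 1 : ℕ) : ℤ)
            - Finsupp.single Q ((g' + 1 : ℕ) : ℤ) : FunFld.Divisor k K) R)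
          + -(-((Finsupp.single A ((g' + 3 : ℕ) : ℤ) - Finsupp.single Q ((g' + 3 : ℕ) : ℤ)
            : FunFld.Divisor k K) R)))
        = (Finsupp.single Q (1 : ℤ) - Finsupp.single A (1 : ℤ) : FunFld.Divisor k K) R
      have e5 : (Finsupp.single Q (1 : ℤ) - Finsupp.single A (1 : ℤ) : FunFld.Divisor k K) R
          = -((Finsupp.single A (1 : ℤ) - Finsupp.single Q (1 : ℤ) : FunFld.Divisor k K) R) := by
        simp only [Finsupp.sub_apply]
        ring
      rw [e5]
      have hm' : (g' : ℤ) + 3 = 2 * m + 1 := by exact_mod_cast hm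
      rcases hev ((g' + 3 : ℕ) : ℤ) ((g' + 3 : ℕ) : ℤ) R with ⟨h1, hR⟩ | ⟨h1, hR⟩ | ⟨h1, hR, hR'⟩ <;>
      rcases hev ((g' + 1 : ℕ) : ℤ) ((g' + 1 : ℕ) : ℤ) R with ⟨h2, hS⟩ | ⟨h2, hS⟩ | ⟨h2, hS, hS'⟩ <;>
      rcases hev (1 : ℤ) (1 : ℤ) R with ⟨h3, hT⟩ | ⟨h3, hT⟩ | ⟨h3, hT, hT'⟩ <;>
      first
        | (rw [h1, h2, h3] <;> push_cast <;> linear_combination (-1 : ℤ) * hm')
        | (rw [h1, h2, h3] <;> push_cast <;> linear_combination (1 : ℤ) * hm')
        | (rw [h1, h2, h3] <;> push_cast <;> ring1)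
        | (exact absurd (hR.symm.trans hS) hAQ)
        | (exact absurd (hS.symm.trans hR) hAQ)
        | (exact absurd (hS.symm.trans hT) hAQ)
        | (exact absurd (hT.symm.trans hS) hAQ)
        | (exact absurd (hR.symm.trans hT) hAQ)
        | (exact absurd (hT.symm.trans hR) hAQ)
        | (exact absurd hR hS)
        | (exact absurd hS hR)
        | (exact absurd hS hT)
        | (exact absurd hT hS)
        | (exact absurd hT hS')
        | (exact absurd hS hT')
        | (exact absurd hR hT)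
        | (exact absurd hT hR)
        | (exact absurd hR hS')
        | (exact absurd hS hR')
        | (exact absurd hR hT')
        | (exact absurd hT hR')
    have hellA : FunFld.ell (Finsupp.single A (1 : ℤ) : FunFld.Divisor k K) = 1 := by
      have := hellA' 1 le_rfl
      simpa using this
    have heq := Groth.Agent.Lib.Helper23.FF.eq_of_div_eq_sub hK
      (D₁ := Finsupp.single A (1 : ℤ)) (D₂ := Finsupp.single Q (1 : ℤ))
      (Finsupp.single_nonneg.mpr (by norm_num)) hellA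
      (Finsupp.single_nonneg.mpr (by norm_num)) hu0 hdivu
    have h5 := DFunLike.congr_fun heq Q
    rw [Finsupp.single_eq_same, Finsupp.single_eq_of_ne hQ] at h5
    exact one_ne_zero h5
  -- reduce the sum to H
  have hsum_le : (∑ n ∈ Finset.range (2 * (g' + 3) - 2), Module.finrank k
        ↥(V₁ ⊓ FunFld.L (Finsupp.single A (2 * ((g' + 3 : ℕ) : ℤ) - 2)
          - Finsupp.single Q ((n : ℤ) + 1))))
      ≤ ∑ n ∈ Finset.range (2 * g' + 4), H (n + 1) := by
    have e0 : 2 * (g' + 3) - 2 = 2 * g' + 4 := by omega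
    rw [e0]
    refine Finset.sum_le_sum fun n _ => ?_
    haveI := hfd (E (n + 1))
    haveI : FiniteDimensional k ↥(V₁ ⊓ FunFld.L (E (n + 1))) :=
      Submodule.finiteDimensional_of_le inf_le_right
    apply Submodule.finrank_mono
    refine le_inf inf_le_left ?_
    refine (inf_le_inf_right _ hhi').trans ?_
    apply Groth.Agent.Lib.Helper23.FF.L_inf_le
    intro R
    show min ((Finsupp.single A ((g' + 3 : ℕ) : ℤ) : FunFld.Divisor k K) R)
        ((Finsupp.single A (2 * ((g' + 3 : ℕ) : ℤ) - 2) - Finsupp.single Q ((n : ℤ) + 1)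
          : FunFld.Divisor k K) R)
      ≤ (Finsupp.single A ((g' + 3 : ℕ) : ℤ) - Finsupp.single Q (((n + 1 : ℕ)) : ℤ)
          : FunFld.Divisor k K) R
    rcases hevA ((g' + 3 : ℕ) : ℤ) R with ⟨h1, hR⟩ | ⟨h1, hR⟩ <;>
    rcases hev (2 * ((g' + 3 : ℕ) : ℤ) - 2) ((n : ℤ) + 1) R with
      ⟨h2, hS⟩ | ⟨h2, hS⟩ | ⟨h2, hS, hS'⟩ <;>
    rcases hev ((g' + 3 : ℕ) : ℤ) (((n + 1 : ℕ)) : ℤ) R with
      ⟨h3, hT⟩ | ⟨h3, hT⟩ | ⟨h3, hT, hT'⟩ <;>
    first
      | (rw [h1, h2, h3] <;> push_cast <;> omega)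
      | (exact absurd (hR.symm.trans hS) hAQ)
      | (exact absurd (hS.symm.trans hR) hAQ)
      | (exact absurd (hS.symm.trans hT) hAQ)
      | (exact absurd (hT.symm.trans hS) hAQ)
      | (exact absurd (hR.symm.trans hT) hAQ)
      | (exact absurd (hT.symm.trans hR) hAQ)
      | (exact absurd hR hS)
      | (exact absurd hS hR)
      | (exact absurd hS hT)
      | (exact absurd hT hS)
      | (exact absurd hT hS')
      | (exact absurd hS hT')
      | (exact absurd hR hT)
      | (exact absurd hT hR)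
  refine hsum_le.trans ?_
  -- split the sum
  have e2 : 2 * g' + 4 = g' + (3 + (g' + 1)) := by ring
  rw [e2, Finset.sum_range_add, Finset.sum_range_add]
  have hS1 : ∑ x ∈ Finset.range g', H (x + 1) ≤ ∑ x ∈ Finset.range g', (g' + 1 - x) := by
    refine Finset.sum_le_sum fun x hx => ?_
    have hx' := Finset.mem_range.mp hx
    have := hHa (x + 1) (by omega) (by omega)
    omega
  have hS1' : ∀ N : ℕ, ∑ x ∈ Finset.range N, (N + 1 - x) + 1 = (N + 2).choose 2 := by
    intro N
    induction N with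
    | zero => simp
    | succ N ih =>
      rw [Finset.sum_range_succ]
      have h1 : ∑ x ∈ Finset.range N, (N + 1 + 1 - x)
          = ∑ x ∈ Finset.range N, (N + 1 - x) + N := by
        have h0 : ∑ x ∈ Finset.range N, (N + 1 + 1 - x)
            = ∑ x ∈ Finset.range N, ((N + 1 - x) + 1) := by
          refine Finset.sum_congr rfl fun x hx => ?_
          have := Finset.mem_range.mp hx
          omega
        rw [h0, Finset.sum_add_distrib, Finset.sum_const, Finset.card_range, smul_eq_mul, mul_one]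
      rw [h1]
      have h2 : (N + 1 + 2).choose 2 = (N + 2).choose 2 + (N + 2) := by
        rw [Nat.choose_succ_succ', Nat.choose_one_right]
        ring
      rw [h2, ← ih]
      omega
  have hS2 : ∑ x ∈ Finset.range 3, H (g' + x + 1) = H (g' + 1) + H (g' + 2) + H (g' + 3) := by
    rw [Finset.sum_range_succ, Finset.sum_range_succ, Finset.sum_range_one]
  have hS3 : ∑ x ∈ Finset.range (g' + 1), H (g' + (3 + x) + 1) = 0 := by
    refine Finset.sum_eq_zero fun x _ => ?_
    exact hHgt _ (by omega)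
  have hb2 : H (g' + 2) ≤ 1 := by
    have := hHle (g' + 2)
    rw [hEell (g' + 2) le_rfl] at this
    omega
  rw [hS2, hS3]
  have h9 := hS1' g'
  have e3 : g' + 3 - 1 = g' + 2 := by omega
  rw [e3]
  omega

end Groth.Agent.S17247
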