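import Groth.Statements.S17248
-- import your own Groth.Agent.* helpers here
import Groth.Agent.Lib.Helper23.FFLin1

set_option autoImplicit false
open FunFld

namespace Groth.Agent.S17248



/-- Let `K/k` be a function field of one variable of genus one over an algebraically closed field `k` of
characteristic zero (an elliptic curve `E`), `A` a place, and `g ≥ 3` an integer. Inside
`H⁰(O_E((2g-2)A)) = L((2g-2)A)` consider `V = L(gA)` (dimension `g`) and any hyperplane `V₁` of it
containing `L((g-2)A)`: `L((g-2)A) ⊆ V₁ ⊆ L(gA)`, `dim V₁ = g - 1`. Vanishing orders are those of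
sections of `O_E((2g-2)A)`: a member `f` vanishes to order at least `n` at a place `Q` when `f ∈
L((2g-2)A - nQ)`, and the weight of `V₁` at `Q` is `∑_{n=1}^{2g-2} dim (V₁ ∩ L((2g-2)A - nQ)) - (g-1
choose 2)` (the sum of the `g - 1` vanishing orders minus `0 + 1 + ⋯ + (g-2)`). Then the weight of
`V₁` at `A` is `(g-1)² + ε` with `ε ∈ {0, 1}`. (The published statement is for a smooth elliptic
curve over the complex numbers and `g` odd positive; `g ≥ 3` here since the ambient inclusion needs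
it; this row does not assume `g` odd.) -/
theorem result
    (k K : Type*) [Field k] [IsAlgClosed k] [CharZero k] [Field K] [Algebra k K]
    (hK : FunFld.IsFunctionField k K) (hg1 : FunFld.genus k K = 1)
    (g : ℕ) (h3 : 3 ≤ g) (A : FunFld.Place k K)
    (V₁ : Submodule k K) (hlo : FunFld.L (Finsupp.single A ((g : ℤ) - 2)) ≤ V₁)
    (hhi : V₁ ≤ FunFld.L (Finsupp.single A (g : ℤ))) (hdim : Module.finrank k ↥V₁ + 1 = g) :
    ∃ ε : ℕ, ε ≤ 1 ∧
      (∑ n ∈ Finset.range (2 * g - 2), Module.finrank k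
        ↥(V₁ ⊓ FunFld.L (Finsupp.single A (2 * (g : ℤ) - 2) - Finsupp.single A ((n : ℤ) + 1)))) =
      (g - 1).choose 2 + (g - 1) ^ 2 + ε := by
  classical
  have core := Groth.Agent.Lib.Helper27.FF.core_of hK
  obtain ⟨g', rfl⟩ : ∃ g', g = g' + 3 := ⟨g - 3, by omega⟩
  -- dimensions of L(mA)
  have hellm : ∀ m : ℕ, 1 ≤ m → FunFld.ell (Finsupp.single A (m : ℤ) : FunFld.Divisor k K) = m := by
    intro m hm
    have h3 := core.ell_eq_of_deg_ge (D := (Finsupp.single A (m : ℤ) : FunFld.Divisor k K))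
      (by rw [Groth.Agent.Lib.Helper23.FF.deg_single' hK, hg1]; push_cast; omega)
    rw [Groth.Agent.Lib.Helper23.FF.deg_single' hK, hg1] at h3
    have : (FunFld.ell (Finsupp.single A (m : ℤ) : FunFld.Divisor k K) : ℤ) = m := by
      rw [h3]; push_cast; ring
    exact_mod_cast this
  have hell0 : FunFld.ell (Finsupp.single A ((0 : ℕ) : ℤ) : FunFld.Divisor k K) = 1 := by
    have : (Finsupp.single A ((0 : ℕ) : ℤ) : FunFld.Divisor k K) = 0 := by simp
    rw [this]
    exact core.ell_zero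
  have hmono : ∀ m n : ℕ, m ≤ n → FunFld.L (Finsupp.single A (m : ℤ) : FunFld.Divisor k K)
      ≤ FunFld.L (Finsupp.single A (n : ℤ)) := by
    intro m n hmn
    apply Groth.Agent.Lib.Helper27.FF.L_mono
    intro R
    simp only [Finsupp.single_apply]
    split_ifs
    · exact_mod_cast hmn
    · exact le_refl _
  set F : ℕ → ℕ := fun m => Module.finrank k
    ↥(V₁ ⊓ FunFld.L (Finsupp.single A (m : ℤ) : FunFld.Divisor k K)) with hF
  have hlo' : FunFld.L (Finsupp.single A ((g' + 1 : ℕ) : ℤ) : FunFld.Divisor k K) ≤ V₁ := by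
    have e : ((g' + 3 : ℕ) : ℤ) - 2 = ((g' + 1 : ℕ) : ℤ) := by push_cast; ring
    rw [← e]
    exact hlo
  have hhi' : V₁ ≤ FunFld.L (Finsupp.single A ((g' + 3 : ℕ) : ℤ) : FunFld.Divisor k K) := hhi
  have hV : Module.finrank k ↥V₁ = g' + 2 := by omega
  -- small m
  have hFsmall : ∀ m : ℕ, m ≤ g' + 1 → F m = if m = 0 then 1 else m := by
    intro m hm
    have h1 : V₁ ⊓ FunFld.L (Finsupp.single A (m : ℤ) : FunFld.Divisor k K)
        = FunFld.L (Finsupp.single A (m : ℤ)) :=
      inf_eq_right.mpr ((hmono m (g' + 1) hm).trans hlo')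
    show Module.finrank k ↥(V₁ ⊓ FunFld.L (Finsupp.single A (m : ℤ) : FunFld.Divisor k K)) = _
    rw [h1]
    by_cases h0 : m = 0
    · rw [if_pos h0, h0]
      exact hell0
    · rw [if_neg h0]
      exact hellm m (by omega)
  -- large m
  have hFlarge : ∀ m : ℕ, g' + 3 ≤ m → F m = g' + 2 := by
    intro m hm
    have h1 : V₁ ⊓ FunFld.L (Finsupp.single A (m : ℤ) : FunFld.Divisor k K) = V₁ :=
      inf_eq_left.mpr (hhi'.trans (hmono (g' + 3) m hm))
    show Module.finrank k ↥(V₁ ⊓ FunFld.L (Finsupp.single A (m : ℤ) : FunFld.Divisor k K)) = _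
    rw [h1, hV]
  -- middle
  haveI := Groth.Agent.Lib.Helper27.FF.finiteDimensional_L hK
    (Finsupp.single A ((g' + 2 : ℕ) : ℤ) : FunFld.Divisor k K)
  have hmid : ∃ ε : ℕ, ε ≤ 1 ∧ F (g' + 2) = g' + 1 + ε := by
    have hle1 : FunFld.L (Finsupp.single A ((g' + 1 : ℕ) : ℤ) : FunFld.Divisor k K)
        ≤ V₁ ⊓ FunFld.L (Finsupp.single A ((g' + 2 : ℕ) : ℤ)) :=
      le_inf hlo' (hmono _ _ (by omega))
    have hle2 : V₁ ⊓ FunFld.L (Finsupp.single A ((g' + 2 : ℕ) : ℤ) : FunFld.Divisor k K)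
        ≤ FunFld.L (Finsupp.single A ((g' + 2 : ℕ) : ℤ)) := inf_le_right
    haveI : FiniteDimensional k ↥(V₁ ⊓ FunFld.L (Finsupp.single A ((g' + 2 : ℕ) : ℤ)
        : FunFld.Divisor k K)) := Submodule.finiteDimensional_of_le hle2
    have h1 := Submodule.finrank_mono hle1
    have h2 := Submodule.finrank_mono hle2
    have e1 : Module.finrank k ↥(FunFld.L (Finsupp.single A ((g' + 1 : ℕ) : ℤ)
        : FunFld.Divisor k K)) = g' + 1 := hellm (g' + 1) (by omega)
    have e2 : Module.finrank k ↥(FunFld.L (Finsupp.single A ((g' + 2 : ℕ) : ℤ)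
        : FunFld.Divisor k K)) = g' + 2 := hellm (g' + 2) (by omega)
    rw [e1] at h1
    rw [e2] at h2
    refine ⟨F (g' + 2) - (g' + 1), ?_, ?_⟩
    · show Module.finrank k ↥(V₁ ⊓ FunFld.L (Finsupp.single A ((g' + 2 : ℕ) : ℤ)
        : FunFld.Divisor k K)) - (g' + 1) ≤ 1
      omega
    · show Module.finrank k ↥(V₁ ⊓ FunFld.L (Finsupp.single A ((g' + 2 : ℕ) : ℤ)
        : FunFld.Divisor k K)) = g' + 1 + (Module.finrank k ↥(V₁ ⊓ FunFld.L
          (Finsupp.single A ((g' + 2 : ℕ) : ℤ) : FunFld.Divisor k K)) - (g' + 1))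
      omega
  obtain ⟨ε, hε, hFmid⟩ := hmid
  refine ⟨ε, hε, ?_⟩
  -- rewrite the sum in terms of F
  have hsum : (∑ n ∈ Finset.range (2 * (g' + 3) - 2), Module.finrank k
        ↥(V₁ ⊓ FunFld.L (Finsupp.single A (2 * ((g' + 3 : ℕ) : ℤ) - 2)
          - Finsupp.single A ((n : ℤ) + 1))))
      = ∑ n ∈ Finset.range (2 * g' + 4), F (2 * g' + 4 - 1 - n) := by
    have e0 : 2 * (g' + 3) - 2 = 2 * g' + 4 := by omega
    rw [e0]
    refine Finset.sum_congr rfl fun n hn => ?_
    have hn' : n < 2 * g' + 4 := Finset.mem_range.mp hn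
    have e1 : (Finsupp.single A (2 * ((g' + 3 : ℕ) : ℤ) - 2) - Finsupp.single A ((n : ℤ) + 1)
        : FunFld.Divisor k K) = Finsupp.single A (((2 * g' + 4 - 1 - n : ℕ)) : ℤ) := by
      rw [← Finsupp.single_sub]
      congr 1
      have e5 : ((2 * g' + 4 - 1 - n : ℕ) : ℤ) = 2 * (g' : ℤ) + 3 - n := by omega
      rw [e5]
      push_cast
      ring
    rw [e1]
  rw [hsum, Finset.sum_range_reflect F (2 * g' + 4)]
  -- compute the sum of F
  have hS1 : ∀ N : ℕ, N ≤ g' + 1 → ∑ m ∈ Finset.range (N + 1), F m = 1 + N.choose 2 + N := by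
    intro N
    induction N with
    | zero =>
      intro _
      rw [Finset.sum_range_one, hFsmall 0 (by omega)]
      simp
    | succ N ih =>
      intro hN
      rw [Finset.sum_range_succ, ih (by omega), hFsmall (N + 1) hN, if_neg (by omega)]
      have : (N + 1).choose 2 = N.choose 2 + N := by
        rw [Nat.choose_succ_succ', Nat.choose_one_right]
        ring
      rw [this]
      ring
  have hS2 : ∑ m ∈ Finset.range (g' + 3), F m
      = 1 + (g' + 1).choose 2 + (g' + 1) + (g' + 1 + ε) := by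
    rw [Finset.sum_range_succ, hS1 (g' + 1) le_rfl, hFmid]
  have hS3 : ∀ j : ℕ, ∑ m ∈ Finset.range (g' + 3 + j), F m
      = 1 + (g' + 1).choose 2 + (g' + 1) + (g' + 1 + ε) + j * (g' + 2) := by
    intro j
    induction j with
    | zero => rw [add_zero, hS2]; ring
    | succ j ih =>
      rw [← add_assoc, Finset.sum_range_succ, ih, hFlarge (g' + 3 + j) (by omega)]
      ring
  have e2 : 2 * g' + 4 = g' + 3 + (g' + 1) := by ring
  rw [e2, hS3 (g' + 1)]
  have e3 : g' + 3 - 1 = g' + 2 := by omega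
  rw [e3]
  have e4 : (g' + 2).choose 2 = (g' + 1).choose 2 + (g' + 1) := by
    rw [Nat.choose_succ_succ', Nat.choose_one_right]
    ring
  rw [e4]
  ring

end Groth.Agent.S17248
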