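import Groth.Statements.S17249
-- import your own Groth.Agent.* helpers here
import Groth.Agent.Lib.Helper23.FFLin1

set_option autoImplicit false
open FunFld

namespace Groth.Agent.S17249



/-- Let `K/k` be a function field of one variable of genus two over an algebraically closed field `k` of
characteristic zero (a smooth curve `X` of genus `2`), `C` a canonical divisor, `A` a place with
`ℓ(2A) = 1` (not a Weierstrass point), and `P`, `Q` places with `Q ≠ A`. Then `ℓ(C + 2A - P - 3Q) =
1` and `ℓ(C + 2A - P - Q) = 2` do not both hold: the two-dimensional complete system `H⁰(ω_X(2A -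
P))` (of degree `3`) has no point `Q ≠ A` of weight three. (The published statement concerns a
general pointed curve `(X, A)` of genus two over the complex numbers and a point `P` of `X`; this
row assumes only `ℓ(2A) = 1`.) -/
theorem result
    (k K : Type*) [Field k] [IsAlgClosed k] [CharZero k] [Field K] [Algebra k K]
    (hK : FunFld.IsFunctionField k K) (hg : FunFld.genus k K = 2)
    (C : FunFld.Divisor k K) (hC : FunFld.IsCanonical k K C)
    (A P Q : FunFld.Place k K) (hA : Module.finrank k ↥(FunFld.L (Finsupp.single A (2 : ℤ))) = 1) (hQ : Q ≠ A) :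
    ¬ (Module.finrank k ↥(FunFld.L (C + Finsupp.single A (2 : ℤ) - Finsupp.single P (1 : ℤ) - Finsupp.single Q (3 : ℤ))) = 1 ∧
       Module.finrank k ↥(FunFld.L (C + Finsupp.single A (2 : ℤ) - Finsupp.single P (1 : ℤ) - Finsupp.single Q (1 : ℤ))) = 2) := by
  classical
  rintro ⟨-, h2⟩
  have core := Groth.Agent.Lib.Helper27.FF.core_of hK
  set D' : FunFld.Divisor k K := C + Finsupp.single A (2 : ℤ) - Finsupp.single P (1 : ℤ)
    - Finsupp.single Q (1 : ℤ) with hD'
  have hdeg : D'.deg = 2 * (FunFld.genus k K : ℤ) - 2 := by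
    rw [hD', Groth.Agent.Lib.Helper27.FF.deg_sub, Groth.Agent.Lib.Helper27.FF.deg_sub,
      Groth.Agent.Lib.Helper27.FF.deg_add, core.deg_canonical hC,
      Groth.Agent.Lib.Helper23.FF.deg_single' hK, Groth.Agent.Lib.Helper23.FF.deg_single' hK,
      Groth.Agent.Lib.Helper23.FF.deg_single' hK, hg]
    norm_num
  have hell : FunFld.ell D' = FunFld.genus k K := by
    rw [hg]
    exact h2
  obtain ⟨x, hx0, hx⟩ := Groth.Agent.Lib.Helper23.FF.exists_div_eq_of_deg_ell hK hC hdeg hell
  have hdiv : FunFld.div k x⁻¹ = (Finsupp.single P (1 : ℤ) + Finsupp.single Q (1 : ℤ))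
      - Finsupp.single A (2 : ℤ) := by
    rw [Groth.Agent.Lib.Helper27.FF.div_inv' hK]
    have h3 : FunFld.div k x = Finsupp.single A (2 : ℤ) - Finsupp.single P (1 : ℤ)
        - Finsupp.single Q (1 : ℤ) := by
      have h4 : C + FunFld.div k x = C + (Finsupp.single A (2 : ℤ) - Finsupp.single P (1 : ℤ)
          - Finsupp.single Q (1 : ℤ)) := by
        rw [← hx, hD']
        abel
      exact add_left_cancel h4
    rw [h3]
    abel
  have hA' : FunFld.ell (Finsupp.single A (2 : ℤ) : FunFld.Divisor k K) = 1 := hA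
  have heq := Groth.Agent.Lib.Helper23.FF.eq_of_div_eq_sub hK
    (D₁ := Finsupp.single A (2 : ℤ)) (D₂ := Finsupp.single P (1 : ℤ) + Finsupp.single Q (1 : ℤ))
    (Finsupp.single_nonneg.mpr (by norm_num)) hA'
    (add_nonneg (Finsupp.single_nonneg.mpr (by norm_num)) (Finsupp.single_nonneg.mpr (by norm_num)))
    (inv_ne_zero hx0) hdiv
  have h5 := DFunLike.congr_fun heq Q
  rw [Finsupp.add_apply, Finsupp.single_eq_same, Finsupp.single_eq_of_ne hQ] at h5
  have h6 : (0 : ℤ) ≤ (Finsupp.single P (1 : ℤ) : FunFld.Divisor k K) Q := by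
    rw [Finsupp.single_apply]
    split_ifs <;> norm_num
  omega

end Groth.Agent.S17249
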