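import Groth.Statements.S17250
-- import your own Groth.Agent.* helpers here
import Groth.Agent.Lib.Helper23.FFLin1

set_option autoImplicit false
open FunFld

namespace Groth.Agent.S17250



/-- Let `K/k` be a function field of one variable of genus two over an algebraically closed field `k` of
characteristic zero (a smooth curve `X` of genus `2`), `C` a canonical divisor, `A` a place with
`ℓ(2A) = 1`, and `P`, `Q` places different from `A`. Then `ℓ(C + 3A - P - 4Q) = 1` and `ℓ(C + 3A - P
- 2Q) = 2` do not both hold (the three-dimensional complete system `H⁰(ω_X(3A - P))`, of degree `4`,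
has no point `Q ≠ A` with two independent sections vanishing to order at least `2` there and one
vanishing to order at least `4`). (The published statement concerns a general pointed curve `(X, A)`
of genus two over the complex numbers and a point `P ≠ A`; this row assumes `ℓ(2A) = 1` in place of
generality.) -/
theorem result
    (k K : Type*) [Field k] [IsAlgClosed k] [CharZero k] [Field K] [Algebra k K]
    (hK : FunFld.IsFunctionField k K) (hg : FunFld.genus k K = 2)
    (C : FunFld.Divisor k K) (hC : FunFld.IsCanonical k K C)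
    (A P Q : FunFld.Place k K) (hA : Module.finrank k ↥(FunFld.L (Finsupp.single A (2 : ℤ))) = 1) (hP : P ≠ A) (hQ : Q ≠ A) :
    ¬ (Module.finrank k ↥(FunFld.L (C + Finsupp.single A (3 : ℤ) - Finsupp.single P (1 : ℤ) - Finsupp.single Q (4 : ℤ))) = 1 ∧
       Module.finrank k ↥(FunFld.L (C + Finsupp.single A (3 : ℤ) - Finsupp.single P (1 : ℤ) - Finsupp.single Q (2 : ℤ))) = 2) := by
  classical
  rintro ⟨h1, h2⟩
  have core := Groth.Agent.Lib.Helper27.FF.core_of hK
  have hdC := core.deg_canonical hC
  rw [hg] at hdC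
  -- (b): canonical
  set D₂ : FunFld.Divisor k K := C + Finsupp.single A (3 : ℤ) - Finsupp.single P (1 : ℤ)
    - Finsupp.single Q (2 : ℤ) with hD₂
  have hdeg₂ : D₂.deg = 2 * (FunFld.genus k K : ℤ) - 2 := by
    rw [hD₂, Groth.Agent.Lib.Helper27.FF.deg_sub, Groth.Agent.Lib.Helper27.FF.deg_sub,
      Groth.Agent.Lib.Helper27.FF.deg_add, hdC,
      Groth.Agent.Lib.Helper23.FF.deg_single' hK, Groth.Agent.Lib.Helper23.FF.deg_single' hK,
      Groth.Agent.Lib.Helper23.FF.deg_single' hK, hg]
    norm_num
  have hell₂ : FunFld.ell D₂ = FunFld.genus k K := by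
    rw [hg]
    exact h2
  obtain ⟨x, hx0, hx⟩ := Groth.Agent.Lib.Helper23.FF.exists_div_eq_of_deg_ell hK hC hdeg₂ hell₂
  -- (a): degree zero
  set D₁ : FunFld.Divisor k K := C + Finsupp.single A (3 : ℤ) - Finsupp.single P (1 : ℤ)
    - Finsupp.single Q (4 : ℤ) with hD₁
  have hdeg₁ : D₁.deg = 0 := by
    rw [hD₁, Groth.Agent.Lib.Helper27.FF.deg_sub, Groth.Agent.Lib.Helper27.FF.deg_sub,
      Groth.Agent.Lib.Helper27.FF.deg_add, hdC,
      Groth.Agent.Lib.Helper23.FF.deg_single' hK, Groth.Agent.Lib.Helper23.FF.deg_single' hK,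
      Groth.Agent.Lib.Helper23.FF.deg_single' hK]
    norm_num
  have hell₁ : 0 < FunFld.ell D₁ := by
    have : FunFld.ell D₁ = 1 := h1
    omega
  obtain ⟨y, hy0, hy⟩ := Groth.Agent.Lib.Helper23.FF.exists_div_eq_neg_of_deg_zero hK hdeg₁ hell₁
  -- 3A - P = C + div (x * x * y)
  have hxxy : x * x * y ≠ 0 := mul_ne_zero (mul_ne_zero hx0 hx0) hy0
  have hdivmul : FunFld.div k (x * x * y) = FunFld.div k x + FunFld.div k x + FunFld.div k y := by
    rw [core.div_mul (mul_ne_zero hx0 hx0) hy0, core.div_mul hx0 hx0]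
  have hkey : (Finsupp.single A (3 : ℤ) - Finsupp.single P (1 : ℤ) : FunFld.Divisor k K)
      = C + FunFld.div k (x * x * y) := by
    rw [hdivmul, hy]
    have hx' : FunFld.div k x = D₂ - C := by rw [hx]; abel
    rw [hx', hD₂, hD₁]
    ext R
    simp only [Finsupp.coe_sub, Finsupp.coe_add, Finsupp.coe_neg, Pi.sub_apply, Pi.add_apply,
      Pi.neg_apply]
    have e4 : (Finsupp.single Q (4 : ℤ) : FunFld.Divisor k K) R
        = 2 * (Finsupp.single Q (2 : ℤ) : FunFld.Divisor k K) R := by
      simp only [Finsupp.single_apply]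
      split_ifs <;> norm_num
    rw [e4]
    ring
  have hell3AP : FunFld.ell (Finsupp.single A (3 : ℤ) - Finsupp.single P (1 : ℤ)
      : FunFld.Divisor k K) = 2 := by
    rw [hkey, Groth.Agent.Lib.Helper27.FF.ell_add_div hK C hxxy, core.ell_canonical hC, hg]
  have hell3A : FunFld.ell (Finsupp.single A (3 : ℤ) : FunFld.Divisor k K) = 2 := by
    have h3 := core.ell_eq_of_deg_ge (D := (Finsupp.single A (3 : ℤ) : FunFld.Divisor k K))
      (by rw [Groth.Agent.Lib.Helper23.FF.deg_single' hK, hg]; norm_num)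
    rw [Groth.Agent.Lib.Helper23.FF.deg_single' hK, hg] at h3
    have : (FunFld.ell (Finsupp.single A (3 : ℤ) : FunFld.Divisor k K) : ℤ) = 2 := by
      rw [h3]; norm_num
    exact_mod_cast this
  have hle : (Finsupp.single A (3 : ℤ) - Finsupp.single P (1 : ℤ) : FunFld.Divisor k K)
      ≤ Finsupp.single A (3 : ℤ) := by
    rw [sub_le_self_iff]
    exact Finsupp.single_nonneg.mpr (by norm_num)
  haveI := Groth.Agent.Lib.Helper27.FF.finiteDimensional_L hK
    (Finsupp.single A (3 : ℤ) : FunFld.Divisor k K)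
  have hLeq : FunFld.L (Finsupp.single A (3 : ℤ) - Finsupp.single P (1 : ℤ)
      : FunFld.Divisor k K) = FunFld.L (Finsupp.single A (3 : ℤ)) :=
    Submodule.eq_of_le_of_finrank_eq (Groth.Agent.Lib.Helper27.FF.L_mono hle)
      (by
        have e1 : Module.finrank k ↥(FunFld.L (Finsupp.single A (3 : ℤ)
            - Finsupp.single P (1 : ℤ) : FunFld.Divisor k K)) = 2 := hell3AP
        have e2 : Module.finrank k ↥(FunFld.L (Finsupp.single A (3 : ℤ)
            : FunFld.Divisor k K)) = 2 := hell3A
        rw [e1, e2])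
  have h1mem : (1 : K) ∈ FunFld.L (Finsupp.single A (3 : ℤ) - Finsupp.single P (1 : ℤ)
      : FunFld.Divisor k K) := by
    rw [hLeq]
    exact Groth.Agent.Lib.Helper23.FF.one_mem_L (Finsupp.single_nonneg.mpr (by norm_num))
  have h4 := h1mem P
  rw [map_one, ← WithZero.exp_zero, WithZero.exp_le_exp, Finsupp.sub_apply,
    Finsupp.single_eq_same, Finsupp.single_eq_of_ne hP] at h4
  omega

end Groth.Agent.S17250
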