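import Groth.Statements.S17251
-- import your own Groth.Agent.* helpers here
import Groth.Agent.Lib.Helper23.FFLin1

set_option autoImplicit false
open FunFld

namespace Groth.Agent.S17251



/-- Let `K/k` be a function field of one variable of genus two over an algebraically closed field `k` of
characteristic zero (a smooth curve `Y` of genus `2`), `C` a canonical divisor, `B` a place with
`ℓ(2B) = 1` (not a Weierstrass point) and `Q ≠ B` a place. Then `ℓ(C + B - 2Q) = 1` and `ℓ(C + 3B -
4Q) = 1` do not both hold: the complete systems `H⁰(ω_Y(B))` (dimension `2`, degree `3`) and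
`H⁰(ω_Y(3B))` (dimension `4`, degree `5`) have no ramification point in common on `Y` minus `B`.
(The published statement concerns a general pointed curve `(Y, B)` of genus two over the complex
numbers; this row assumes only `ℓ(2B) = 1`.) -/
theorem result
    (k K : Type*) [Field k] [IsAlgClosed k] [CharZero k] [Field K] [Algebra k K]
    (hK : FunFld.IsFunctionField k K) (hg : FunFld.genus k K = 2)
    (C : FunFld.Divisor k K) (hC : FunFld.IsCanonical k K C)
    (B Q : FunFld.Place k K) (hB : Module.finrank k ↥(FunFld.L (Finsupp.single B (2 : ℤ))) = 1) (hQ : Q ≠ B) :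
    ¬ (Module.finrank k ↥(FunFld.L (C + Finsupp.single B (1 : ℤ) - Finsupp.single Q (2 : ℤ))) = 1 ∧
       Module.finrank k ↥(FunFld.L (C + Finsupp.single B (3 : ℤ) - Finsupp.single Q (4 : ℤ))) = 1) := by
  classical
  rintro ⟨h1, h2⟩
  have core := Groth.Agent.Lib.Helper27.FF.core_of hK
  have hdC := core.deg_canonical hC
  rw [hg] at hdC
  have hellC : FunFld.ell C = 2 := by rw [core.ell_canonical hC, hg]
  -- Step 1: L(C + B) = L(C)
  have hellCB : FunFld.ell (C + Finsupp.single B (1 : ℤ)) = 2 := by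
    have h3 := core.ell_eq_of_deg_ge (D := C + Finsupp.single B (1 : ℤ))
      (by rw [Groth.Agent.Lib.Helper27.FF.deg_add, hdC,
        Groth.Agent.Lib.Helper23.FF.deg_single' hK, hg]; norm_num)
    rw [Groth.Agent.Lib.Helper27.FF.deg_add, hdC,
        Groth.Agent.Lib.Helper23.FF.deg_single' hK, hg] at h3
    have : (FunFld.ell (C + Finsupp.single B (1 : ℤ)) : ℤ) = 2 := by rw [h3]; norm_num
    exact_mod_cast this
  have hleCB : C ≤ C + Finsupp.single B (1 : ℤ) := by
    rw [le_add_iff_nonneg_right]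
    exact Finsupp.single_nonneg.mpr (by norm_num)
  haveI := Groth.Agent.Lib.Helper27.FF.finiteDimensional_L hK (C + Finsupp.single B (1 : ℤ))
  have hLCB : FunFld.L C = FunFld.L (C + Finsupp.single B (1 : ℤ)) :=
    Submodule.eq_of_le_of_finrank_eq (Groth.Agent.Lib.Helper27.FF.L_mono hleCB)
      (by
        have e1 : Module.finrank k ↥(FunFld.L C) = 2 := hellC
        have e2 : Module.finrank k ↥(FunFld.L (C + Finsupp.single B (1 : ℤ))) = 2 := hellCB
        rw [e1, e2])
  -- Step 2: L(C + B - 2Q) ≤ L(C - 2Q)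
  have hsub : FunFld.L (C + Finsupp.single B (1 : ℤ) - Finsupp.single Q (2 : ℤ))
      ≤ FunFld.L (C - Finsupp.single Q (2 : ℤ)) := by
    intro f hf R
    have hfC : f ∈ FunFld.L C := by
      rw [hLCB]
      refine Groth.Agent.Lib.Helper27.FF.L_mono ?_ hf
      rw [sub_le_self_iff]
      exact Finsupp.single_nonneg.mpr (by norm_num)
    by_cases hR : R = B
    · have h3 := hfC R
      rw [Finsupp.sub_apply, hR, Finsupp.single_eq_of_ne hQ.symm, sub_zero]
      rw [hR] at h3
      exact h3
    · have h3 := hf R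
      rw [Finsupp.sub_apply, Finsupp.add_apply, Finsupp.single_eq_of_ne hR, add_zero] at h3
      rw [Finsupp.sub_apply]
      exact h3
  haveI := Groth.Agent.Lib.Helper27.FF.finiteDimensional_L hK (C - Finsupp.single Q (2 : ℤ))
  have hellpos : 0 < FunFld.ell (C - Finsupp.single Q (2 : ℤ)) := by
    have h3 := Submodule.finrank_mono hsub
    have h4 : Module.finrank k ↥(FunFld.L (C + Finsupp.single B (1 : ℤ)
        - Finsupp.single Q (2 : ℤ))) = 1 := h1
    rw [h4] at h3
    exact h3
  have hdeg0 : (C - Finsupp.single Q (2 : ℤ)).deg = 0 := by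
    rw [Groth.Agent.Lib.Helper27.FF.deg_sub, hdC, Groth.Agent.Lib.Helper23.FF.deg_single' hK]
    norm_num
  obtain ⟨f, hf0, hf⟩ := Groth.Agent.Lib.Helper23.FF.exists_div_eq_neg_of_deg_zero hK hdeg0 hellpos
  -- Step 4
  have hpos2 : 0 < FunFld.ell (C + Finsupp.single B (3 : ℤ) - Finsupp.single Q (4 : ℤ)) := by
    have : FunFld.ell (C + Finsupp.single B (3 : ℤ) - Finsupp.single Q (4 : ℤ)) = 1 := h2
    omega
  obtain ⟨y, hy0, hy⟩ := core.exists_ne_zero_of_ell_pos hpos2
  set E : FunFld.Divisor k K := C + Finsupp.single B (3 : ℤ) - Finsupp.single Q (4 : ℤ)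
    + FunFld.div k y with hE
  have hE0 : 0 ≤ E := core.le_div_of_mem_L hy0 hy
  have hdegE : E.deg = 1 := by
    rw [hE, Groth.Agent.Lib.Helper27.FF.deg_add, core.deg_div,
      Groth.Agent.Lib.Helper27.FF.deg_sub, Groth.Agent.Lib.Helper27.FF.deg_add, hdC,
      Groth.Agent.Lib.Helper23.FF.deg_single' hK, Groth.Agent.Lib.Helper23.FF.deg_single' hK]
    norm_num
  -- Step 5: 3B - E = C + div (f * f * y⁻¹)
  have hz0 : f * f * y⁻¹ ≠ 0 := mul_ne_zero (mul_ne_zero hf0 hf0) (inv_ne_zero hy0)
  have hdivz : FunFld.div k (f * f * y⁻¹) = FunFld.div k f + FunFld.div k f - FunFld.div k y := by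
    rw [core.div_mul (mul_ne_zero hf0 hf0) (inv_ne_zero hy0), core.div_mul hf0 hf0,
      Groth.Agent.Lib.Helper27.FF.div_inv' hK]
    abel
  have hkey : (Finsupp.single B (3 : ℤ) : FunFld.Divisor k K) - E
      = C + FunFld.div k (f * f * y⁻¹) := by
    rw [hdivz, hf, hE]
    ext R
    simp only [Finsupp.coe_sub, Finsupp.coe_add, Finsupp.coe_neg, Pi.sub_apply, Pi.add_apply,
      Pi.neg_apply]
    have e4 : (Finsupp.single Q (4 : ℤ) : FunFld.Divisor k K) R
        = 2 * (Finsupp.single Q (2 : ℤ) : FunFld.Divisor k K) R := by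
      simp only [Finsupp.single_apply]
      split_ifs <;> norm_num
    rw [e4]
    ring
  have hell3BE : FunFld.ell ((Finsupp.single B (3 : ℤ) : FunFld.Divisor k K) - E) = 2 := by
    rw [hkey, Groth.Agent.Lib.Helper27.FF.ell_add_div hK C hz0, hellC]
  have hell3B : FunFld.ell (Finsupp.single B (3 : ℤ) : FunFld.Divisor k K) = 2 := by
    have h3 := core.ell_eq_of_deg_ge (D := (Finsupp.single B (3 : ℤ) : FunFld.Divisor k K))
      (by rw [Groth.Agent.Lib.Helper23.FF.deg_single' hK, hg]; norm_num)
    rw [Groth.Agent.Lib.Helper23.FF.deg_single' hK, hg] at h3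
    have : (FunFld.ell (Finsupp.single B (3 : ℤ) : FunFld.Divisor k K) : ℤ) = 2 := by
      rw [h3]; norm_num
    exact_mod_cast this
  haveI := Groth.Agent.Lib.Helper27.FF.finiteDimensional_L hK
    (Finsupp.single B (3 : ℤ) : FunFld.Divisor k K)
  have hLeq : FunFld.L ((Finsupp.single B (3 : ℤ) : FunFld.Divisor k K) - E)
      = FunFld.L (Finsupp.single B (3 : ℤ)) :=
    Submodule.eq_of_le_of_finrank_eq
      (Groth.Agent.Lib.Helper27.FF.L_mono (sub_le_self _ hE0))
      (by
        have e1 : Module.finrank k ↥(FunFld.L ((Finsupp.single B (3 : ℤ)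
            : FunFld.Divisor k K) - E)) = 2 := hell3BE
        have e2 : Module.finrank k ↥(FunFld.L (Finsupp.single B (3 : ℤ)
            : FunFld.Divisor k K)) = 2 := hell3B
        rw [e1, e2])
  have h1mem : (1 : K) ∈ FunFld.L ((Finsupp.single B (3 : ℤ) : FunFld.Divisor k K) - E) := by
    rw [hLeq]
    exact Groth.Agent.Lib.Helper23.FF.one_mem_L (Finsupp.single_nonneg.mpr (by norm_num))
  -- Step 6: E = B
  have hEoff : ∀ R, R ≠ B → E R = 0 := by
    intro R hR
    have h4 := h1mem R
    rw [map_one, ← WithZero.exp_zero, WithZero.exp_le_exp, Finsupp.sub_apply,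
      Finsupp.single_eq_of_ne hR] at h4
    have h5 : (0 : ℤ) ≤ E R := hE0 R
    omega
  have hEsingle : E = Finsupp.single B (E B) := by
    ext R
    by_cases hR : R = B
    · rw [hR, Finsupp.single_eq_same]
    · rw [hEoff R hR, Finsupp.single_eq_of_ne hR]
  have hEB : E B = 1 := by
    have h4 := hdegE
    rw [hEsingle, Groth.Agent.Lib.Helper23.FF.deg_single' hK] at h4
    exact h4
  rw [hEB] at hEsingle
  -- Step 7
  have h2B : (Finsupp.single B (2 : ℤ) : FunFld.Divisor k K) = C + FunFld.div k (f * f * y⁻¹) := by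
    rw [← hkey, hEsingle]
    ext R
    simp only [Finsupp.coe_sub, Pi.sub_apply, Finsupp.single_apply]
    split_ifs <;> norm_num
  have hell2B : FunFld.ell (Finsupp.single B (2 : ℤ) : FunFld.Divisor k K) = 2 := by
    rw [h2B, Groth.Agent.Lib.Helper27.FF.ell_add_div hK C hz0, hellC]
  have hB' : FunFld.ell (Finsupp.single B (2 : ℤ) : FunFld.Divisor k K) = 1 := hB
  omega

end Groth.Agent.S17251
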