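import Groth.Statements.S17264
import Mathlib
import Groth.Agent.Lib.Helper10.FibGraph
import Groth.Agent.Lib.Helper10.FibSwap
import Groth.Agent.S12784
import Groth.Agent.S12785
import Groth.Agent.S12786

set_option autoImplicit false
open CategoryTheory
universe v u
open FibCat

namespace Groth.Agent.S17264

/-- Let C be a category with fibre products and let f : 𝒳 → 𝒴 and g : 𝒴 → 𝒵 be functors over C between
categories fibred in groupoids over C. If the composite g ∘ f is a representable 1-morphism (its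
2-fibre product with every slice category C/U is equivalent over C to a slice category) and the
diagonal 𝒴 → 𝒴 ×_𝒵 𝒴 of g is a representable 1-morphism, then f is a representable 1-morphism. This
is the case of the source's lemma in which the class of test objects is the class of representable
categories over C. -/
theorem result {C : Type u} [Category.{v} C]
    [Limits.HasPullbacks C] {𝒳 𝒴 𝒵 : BasedCategory.{v, max u v} C}
    (h𝒳 : FibCat.IsFibGrpd 𝒳.p) (h𝒴 : FibCat.IsFibGrpd 𝒴.p) (h𝒵 : FibCat.IsFibGrpd 𝒵.p)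
    (f : 𝒳 ⥤ᵇ 𝒴) (g : 𝒴 ⥤ᵇ 𝒵)
    (hgf : FibCat.IsRepresentable1 (BasedFunctor.comp f g))
    (hΔ : FibCat.IsRepresentable1 (FibCat.diag g)) :
    FibCat.IsRepresentable1 f := by
  -- the graph of `f` over `𝒵`
  let e₀ : BasedFunctor.comp (BasedFunctor.id 𝒳) (BasedFunctor.comp f g) ≅ BasedFunctor.comp f g :=
    Iso.refl _
  have hXZ : FibCat.IsFibGrpd (FibCat.fp (BasedFunctor.comp f g) g).p :=
    Groth.Agent.Lib.Helper10.Fib.isFibGrpd_fp _ _ h𝒳 h𝒴 h𝒵
  -- the graph is a base change of the diagonal of `g`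
  have h1 : FibCat.IsRepresentable1
      (FibCat.fpFst (Groth.Agent.Lib.Helper10.Fib.grN (BasedFunctor.comp f g) g f e₀) (FibCat.diag g)) :=
    Groth.Agent.S12786.result (FibCat.diag g)
      (Groth.Agent.Lib.Helper10.Fib.grN (BasedFunctor.comp f g) g f e₀) hΔ
  have h2 : FibCat.IsRepresentable1 (FibCat.fpLift (BasedFunctor.id 𝒳) f e₀) :=
    (Groth.Agent.S12784.result
      (FibCat.fpFst (Groth.Agent.Lib.Helper10.Fib.grN (BasedFunctor.comp f g) g f e₀) (FibCat.diag g))
      (FibCat.fpLift (BasedFunctor.id 𝒳) f e₀)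
      (Groth.Agent.Lib.Helper10.Fib.grLam (BasedFunctor.comp f g) g f e₀)
      (BasedFunctor.id _)
      (Groth.Agent.Lib.Helper10.Fib.isEquivOver_grLam (BasedFunctor.comp f g) g f e₀ h𝒳 h𝒴 h𝒵)
      (Groth.Agent.Lib.Helper10.Fib.isEquivOver_id _) (Iso.refl _)).1 h1
  -- the second projection is a base change of `g ∘ f`
  have h3 : FibCat.IsRepresentable1 (FibCat.fpFst g (BasedFunctor.comp f g)) :=
    Groth.Agent.S12786.result (BasedFunctor.comp f g) g hgf
  have h4 : FibCat.IsRepresentable1 (FibCat.fpSnd (BasedFunctor.comp f g) g) :=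
    (Groth.Agent.S12784.result (FibCat.fpFst g (BasedFunctor.comp f g))
      (FibCat.fpSnd (BasedFunctor.comp f g) g)
      (Groth.Agent.Lib.Helper10.Fib.fpSwap (BasedFunctor.comp f g) g) (BasedFunctor.id 𝒴)
      (Groth.Agent.Lib.Helper10.Fib.isEquivOver_fpSwap (BasedFunctor.comp f g) g)
      (Groth.Agent.Lib.Helper10.Fib.isEquivOver_id _) (Iso.refl _)).1 h3
  exact Groth.Agent.S12785.result (FibCat.fpLift (BasedFunctor.id 𝒳) f e₀)
    (FibCat.fpSnd (BasedFunctor.comp f g) g) h2 h4

end Groth.Agent.S17264
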