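import Groth.Statements.S17276
import Groth.Agent.Lib.Helper7.NefCoh
import Groth.Agent.Lib.Helper7.HilbCoeff

set_option autoImplicit false
universe u
open CategoryTheory CategoryTheory.Limits AlgebraicGeometry TopologicalSpace
open Variety

namespace Groth.Agent.S17276

/-- Let X be a proper scheme over a field k of dimension one (possibly reducible or non-reduced) and L
an invertible O_X-module that is nef, meaning χ(O_C ⊗ L) - χ(O_C) ≥ 0 for every integral closed
subscheme C ⊆ X of dimension one. Then the degree of L on X, namely χ(L) - χ(O_X), is nonnegative. -/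
theorem result (k : Type u) [Field k] (X : Scheme.{u})
    [X.Over (Spec (CommRingCat.of k))] [IsProper (X ↘ (Spec (CommRingCat.of k)))]
    (hdim : topologicalKrullDim X = 1) (L : X.Modules) (hL : PicF.IsInvertible L)
    (hnef : ∀ C : X.IdealSheafData, IsIntegral C.subscheme →
      topologicalKrullDim (C.support : Set X) = 1 →
        0 ≤ Curv2.euler k X (CohB1.tensorMod (ClSub.quotMod C) L) - Curv2.euler k X (ClSub.quotMod C)) :
    0 ≤ Curv2.deg k X L 1 := by
  have hd : topologicalKrullDim X ≤ ((1 : ℕ) : WithBot ℕ∞) := by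
    rw [hdim]
    norm_cast
  haveI : IsNoetherian X := Groth.Agent.Lib.Helper23.HilbP.isNoetherian_of_isProper k X
  have hO := Groth.Agent.Lib.Helper23.T2.isCoh_structureModule X
  have hsupp : topologicalKrullDim ↥(CohB1.support (Coh.structureModule X)) ≤
      ((1 : ℕ) : WithBot ℕ∞) :=
    Groth.Agent.Lib.Helper7.HilbCoeff.dim_support_le X 1 hd _
  have h := Groth.Agent.Lib.Helper7.NefCoh.nef_coh k X 1 hd L hL hnef (Coh.structureModule X) hO
    hsupp
  rw [Groth.Agent.Lib.Helper23.FBC.euler_eq_of_iso' k
    (Groth.Agent.Lib.Helper3.InvMonoidal.unitorL L)] at h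
  unfold Curv2.deg
  push_cast
  linarith

end Groth.Agent.S17276
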