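import Groth.Statements.S1728


set_option autoImplicit false
universe u
open InjHull

namespace Groth.Agent.S1728

theorem injective_of_retract {R : Type u} [CommRing R] {I : Type u} [AddCommGroup I] [Module R I]
    [Module.Injective R I] (E : Submodule R I) (ρ : I →ₗ[R] E) (hρ : ∀ e : E, ρ (e : I) = e) :
    Module.Injective R E := by
  constructor
  intro X Y _ _ _ _ f hf g
  obtain ⟨h, hh⟩ := Module.Injective.extension_property R I X Y f hf (E.subtype ∘ₗ g)
  refine ⟨ρ ∘ₗ h, fun x => ?_⟩
  have : h (f x) = (g x : I) := LinearMap.congr_fun hh x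
  rw [LinearMap.comp_apply, this, hρ]


/-- Let I be an injective R-module and E a submodule of I. Then E is an injective module if and only if
every submodule E' of I containing E, such that every nonzero submodule of E' meets E nontrivially,
is equal to E. -/
theorem result (R : Type u) [CommRing R] (I : Type u) [AddCommGroup I] [Module R I] [Module.Injective R I] (E : Submodule R I) : Module.Injective R E ↔ ∀ E' : Submodule R I, E ≤ E' → (∀ N : Submodule R I, N ≤ E' → N ≠ ⊥ → N ⊓ E ≠ ⊥) → E' = E := by
  constructor
  · intro hE E' hEE' hess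
    obtain ⟨r, hr⟩ := Module.Injective.extension_property R E E I E.subtype E.subtype_injective LinearMap.id
    have hr' : ∀ e : E, r (e : I) = e := fun e => LinearMap.congr_fun hr e
    refine le_antisymm ?_ hEE'
    intro x hx
    set c : I := x - (r x : I) with hc
    have hcE' : c ∈ E' := E'.sub_mem hx (hEE' (r x).2)
    have hrc : r c = 0 := by
      rw [hc, map_sub, hr' (r x), sub_self]
    by_contra hxE
    have hne : Submodule.span R {c} ≠ ⊥ := by
      rw [Ne, Submodule.span_singleton_eq_bot]
      intro h0
      apply hxE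
      have : x = (r x : I) := sub_eq_zero.mp (hc ▸ h0)
      rw [this]; exact (r x).2
    have := hess (Submodule.span R {c}) (by rw [Submodule.span_singleton_le_iff_mem]; exact hcE') hne
    apply this
    rw [eq_bot_iff]
    rintro y ⟨hy1, hy2⟩
    obtain ⟨t, rfl⟩ := Submodule.mem_span_singleton.mp hy1
    have h1 : r (t • c) = 0 := by rw [map_smul, hrc, smul_zero]
    have h2 := hr' ⟨t • c, hy2⟩
    simp only at h2
    rw [h1] at h2
    have := congrArg Subtype.val h2
    simpa using this.symm
  · intro h
    -- Zorn
    obtain ⟨C, hC⟩ := zorn_le₀ {C : Submodule R I | Disjoint C E} (by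
      intro c hcS hc
      refine ⟨sSup c, ?_, fun z hz => le_sSup hz⟩
      exact (DirectedOn.disjoint_sSup_left hc.directedOn).mpr fun b hb => hcS hb)
    have hCE : Disjoint C E := hC.1
    have hmax : ∀ K : Submodule R I, Disjoint K E → C ≤ K → K ≤ C := fun K hK hCK => hC.2 hK hCK
    let π : I →ₗ[R] (I ⧸ C) := C.mkQ
    have hιinj : Function.Injective (π ∘ₗ E.subtype) := by
      rw [← LinearMap.ker_eq_bot, eq_bot_iff]
      intro e he
      rw [LinearMap.mem_ker, LinearMap.comp_apply, Submodule.mkQ_apply,
        Submodule.Quotient.mk_eq_zero] at he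
      have : (e : I) ∈ C ⊓ E := ⟨he, e.2⟩
      rw [hCE.eq_bot] at this
      exact Subtype.ext ((Submodule.mem_bot R).mp this)
    obtain ⟨φ, hφ⟩ := Module.Injective.extension_property R I E (I ⧸ C) (π ∘ₗ E.subtype) hιinj E.subtype
    have hφe : ∀ e ∈ E, φ (π e) = e := fun e he => LinearMap.congr_fun hφ ⟨e, he⟩
    have hφc : ∀ c ∈ C, φ (π c) = 0 := fun c hc => by
      have : π c = 0 := (Submodule.Quotient.mk_eq_zero _).mpr hc
      rw [this, map_zero]
    -- general claim
    have claim : ∀ N : Submodule R I, N ⊓ E = ⊥ → ∀ y : I, φ (π y) ∈ N → y ∈ C := by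
      intro N hN y hy
      have hdis : Disjoint (Submodule.comap (φ ∘ₗ π) N) E := by
        rw [disjoint_iff, eq_bot_iff]
        rintro z ⟨hz1, hz2⟩
        have hz1' : φ (π z) ∈ N := hz1
        rw [hφe z hz2] at hz1'
        have : z ∈ N ⊓ E := ⟨hz1', hz2⟩
        rwa [hN] at this
      have hle : C ≤ Submodule.comap (φ ∘ₗ π) N := by
        intro c hc
        change φ (π c) ∈ N
        rw [hφc c hc]; exact N.zero_mem
      exact hmax _ hdis hle hy
    have hEE' : E ≤ LinearMap.range φ := fun e he => ⟨π e, hφe e he⟩
    have hrange : LinearMap.range φ = E := by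
      apply h _ hEE'
      intro N hNE' hNne hNE
      apply hNne
      rw [eq_bot_iff]
      intro n hn
      obtain ⟨z, rfl⟩ := hNE' hn
      obtain ⟨y, rfl⟩ := Submodule.mkQ_surjective C z
      have hyC := claim N hNE y hn
      have := hφc y hyC
      change φ (π y) = 0 at this
      rw [Submodule.mem_bot]
      exact this
    let ρ : I →ₗ[R] E := LinearMap.codRestrict E (φ ∘ₗ π) (fun x => by
      rw [← hrange]; exact ⟨π x, rfl⟩)
    exact injective_of_retract E ρ (fun e => Subtype.ext (hφe e e.2))

end Groth.Agent.S1728
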