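import Groth.Statements.S17280
-- import your own Groth.Agent.* helpers here
import Groth.Agent.Lib.Helper23.RegCurve
import Groth.Agent.Lib.Helper23.HiggsInv
import Groth.Agent.Lib.Helper17.LocFreeOps
import Groth.Agent.Lib.Helper17.LocConstRank

set_option autoImplicit false
universe u
open CategoryTheory CategoryTheory.Limits AlgebraicGeometry TopologicalSpace
open Variety

namespace Groth.Agent.S17280

/-- Scheme case, curve-test form of nefness: let X be a proper scheme over a field k and 0 → E' → E →
E'' → 0 a short exact sequence whose three terms are finite locally free O_X-modules. Assume that E'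
and E'' are nef in the curve-test sense: for every regular projective curve C over k (integral,
proper over k, of dimension one, all local rings regular), every k-morphism f : C → X and every
invertible quotient M of the pulled-back module, deg M = χ(M) - χ(O_C) ≥ 0. Then E is nef in the
same sense. (The source states this for proper algebraic spaces and nefness of O(1) on P(E); on
proper schemes the two senses agree by the Barton–Kleiman criterion.) -/
theorem result (k : Type u) [Field k] (X : Scheme.{u})
    [X.Over (Spec (CommRingCat.of k))] [IsProper (X ↘ (Spec (CommRingCat.of k)))] (S : ShortComplex X.Modules) (hS : S.ShortExact)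
    (h₁ : FlatMod.IsFinLocFree S.X₁) (h₂ : FlatMod.IsFinLocFree S.X₂) (h₃ : FlatMod.IsFinLocFree S.X₃)
    (hnef₁ : ∀ (C : Scheme.{u}) [C.Over (Spec (CommRingCat.of k))] [IsProper (C ↘ (Spec (CommRingCat.of k)))] [IsIntegral C],
      topologicalKrullDim C = 1 → (∀ x : C, IsRegularLocalRing (C.presheaf.stalk x)) →
      ∀ (f : C ⟶ X), f ≫ (X ↘ (Spec (CommRingCat.of k))) = C ↘ (Spec (CommRingCat.of k)) →
      ∀ (M : C.Modules), PicF.IsInvertible M →
      ∀ (q : (Scheme.Modules.pullback f).obj S.X₁ ⟶ M), Epi q → 0 ≤ Curv2.deg k C M 1)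
    (hnef₃ : ∀ (C : Scheme.{u}) [C.Over (Spec (CommRingCat.of k))] [IsProper (C ↘ (Spec (CommRingCat.of k)))] [IsIntegral C],
      topologicalKrullDim C = 1 → (∀ x : C, IsRegularLocalRing (C.presheaf.stalk x)) →
      ∀ (f : C ⟶ X), f ≫ (X ↘ (Spec (CommRingCat.of k))) = C ↘ (Spec (CommRingCat.of k)) →
      ∀ (M : C.Modules), PicF.IsInvertible M →
      ∀ (q : (Scheme.Modules.pullback f).obj S.X₃ ⟶ M), Epi q → 0 ≤ Curv2.deg k C M 1) :
    ∀ (C : Scheme.{u}) [C.Over (Spec (CommRingCat.of k))] [IsProper (C ↘ (Spec (CommRingCat.of k)))] [IsIntegral C],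
    topologicalKrullDim C = 1 → (∀ x : C, IsRegularLocalRing (C.presheaf.stalk x)) →
    ∀ (f : C ⟶ X), f ≫ (X ↘ (Spec (CommRingCat.of k))) = C ↘ (Spec (CommRingCat.of k)) →
    ∀ (M : C.Modules), PicF.IsInvertible M →
    ∀ (q : (Scheme.Modules.pullback f).obj S.X₂ ⟶ M), Epi q → 0 ≤ Curv2.deg k C M 1 := by
  intro C _ _ _ hdimC hreg f hf M hM q hq
  haveI := Groth.Agent.Lib.Helper23.Curve.isNoetherian_of_isProper k C
  have hdim : topologicalKrullDim C ≤ 1 := hdimC.le
  have hpid : ∀ x : C, IsPrincipalIdealRing (C.presheaf.stalk x) := fun x =>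
    Groth.Agent.Lib.Helper23.RegCurve.isPrincipalIdealRing_stalk_of_regular hdim x (hreg x)
  haveI : PreservesColimitsOfSize.{0, 0} (Scheme.Modules.pullback f) :=
    (Scheme.Modules.pullbackPushforwardAdjunction f).leftAdjoint_preservesColimits
  haveI : (Scheme.Modules.pullback f).Additive :=
    (Scheme.Modules.pullbackPushforwardAdjunction f).left_adjoint_additive
  haveI := hS.epi_g
  have hM1 : FlatMod.IsFinLocFreeOfRank 1 M :=
    Groth.Agent.Lib.Helper23.Curve.isFinLocFreeOfRank_one_of_isInvertible hM
  set a : (Scheme.Modules.pullback f).obj S.X₁ ⟶ M := (Scheme.Modules.pullback f).map S.f ≫ q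
    with ha
  by_cases h0 : a = 0
  · -- `q` factors through the pullback of `S.X₃`
    have hcok := CokernelCofork.mapIsColimit _ hS.gIsCokernel (Scheme.Modules.pullback f)
    let q'' := hcok.desc (CokernelCofork.ofπ q h0)
    have hq'' : (Scheme.Modules.pullback f).map S.g ≫ q'' = q :=
      hcok.fac (CokernelCofork.ofπ q h0) WalkingParallelPair.one
    have hepi : Epi ((Scheme.Modules.pullback f).map S.g ≫ q'') := by rw [hq'']; exact hq
    have hepi' : Epi q'' := @epi_of_epi _ _ _ _ _ ((Scheme.Modules.pullback f).map S.g) q'' hepi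
    exact hnef₃ C hdimC hreg f hf M hM q'' hepi'
  · -- the image of `a` is an invertible submodule of `M`
    have h1' := Groth.Agent.Lib.Helper17.LocFreeOps.isFinLocFree_pullback f S.X₁ h₁
    haveI := Groth.Agent.Lib.Helper3.LocFreeCrit.isQuasicoherent_of_isFinLocFree h1'
    have hA : Coh.IsCoh ((Scheme.Modules.pullback f).obj S.X₁) :=
      ⟨inferInstance, Groth.Agent.Lib.Helper17.LocConstRank.isFiniteType_of_isFinLocFree _ h1'⟩
    have hMc := Groth.Agent.Lib.Helper23.Curve.isCoh_of_isFinLocFreeOfRank hM1
    have hCk : Coh.IsCoh (cokernel a) := (Groth.Agent.S9514.result C hA hMc a).2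
    have hI : Coh.IsCoh (Abelian.image a) :=
      (Groth.Agent.S9514.result C hMc hCk (cokernel.π a)).1
    obtain ⟨s, hs⟩ := Groth.Agent.Lib.Helper23.LocFreeSub.isFinLocFreeOfRank_of_mono hpid hI
      (Abelian.image.ι a) hM1
    have hle : s ≤ 1 := Groth.Agent.Lib.Helper23.VBMaps.rank_le_of_mono hs hM1 (Abelian.image.ι a)
    have hs0 : s ≠ 0 := by
      rintro rfl
      have hz : IsZero (Abelian.image a) := Groth.Agent.Lib.Helper23.StableEnd.isZero_of_rank_zero hs
      apply h0
      rw [← Abelian.image.fac a, hz.eq_of_tgt (Abelian.factorThruImage a) 0, zero_comp]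
    have hs1 : s = 1 := by omega
    subst hs1
    have hIinv : PicF.IsInvertible (Abelian.image a) :=
      Groth.Agent.Lib.Helper23.HiggsInv.isInvertible_of_rank_one hs
    have hd1 := hnef₁ C hdimC hreg f hf (Abelian.image a) hIinv (Abelian.factorThruImage a)
      inferInstance
    have hd2 := (Groth.Agent.Lib.Helper23.VBMaps.deg_le_of_mono_same_rank k hdim hs hM1
      (Abelian.image.ι a)).1
    exact hd1.trans hd2

end Groth.Agent.S17280
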