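import Groth.Statements.S17281
import Mathlib
import Groth.Agent.Lib.Helper17.CurveNefA

set_option autoImplicit false
universe u
open CategoryTheory CategoryTheory.Limits AlgebraicGeometry TopologicalSpace
open Curves

namespace Groth.Agent.S17281

/-- Fix an algebraically closed field k and a regular projective curve C over it (integral, proper over
k, of dimension one, all local rings regular) of genus g = dim_k H^1(C, O_C), E a finite locally
free O_C-module that is nef in the curve-test sense (for every regular projective curve C' over k,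
every k-morphism f : C' → C and every invertible quotient M of f^*E, deg M = χ(M) - χ(O_{C'}) ≥ 0),
and H an invertible O_C-module with deg H = χ(H) - χ(O_C) ≥ 2g. Then E ⊗ H is generated by its
global sections. -/
theorem result (k : Type u) [Field k] [IsAlgClosed k]
    (X : Scheme.{u}) [X.Over (Spec (CommRingCat.of k))] [IsProper (X ↘ (Spec (CommRingCat.of k)))] [IsIntegral X]
    (hdim : topologicalKrullDim X = 1) (hreg : ∀ x : X, IsRegularLocalRing (X.presheaf.stalk x))
    (E : X.Modules) (hE : FlatMod.IsFinLocFree E)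
    (hnef : ∀ (C : Scheme.{u}) [C.Over (Spec (CommRingCat.of k))] [IsProper (C ↘ (Spec (CommRingCat.of k)))] [IsIntegral C],
      topologicalKrullDim C = 1 → (∀ x : C, IsRegularLocalRing (C.presheaf.stalk x)) →
      ∀ (f : C ⟶ X), f ≫ (X ↘ (Spec (CommRingCat.of k))) = C ↘ (Spec (CommRingCat.of k)) →
      ∀ (M : C.Modules), PicF.IsInvertible M →
      ∀ (q : (Scheme.Modules.pullback f).obj E ⟶ M), Epi q → 0 ≤ Curv2.deg k C M 1)
    (H : X.Modules) (hH : PicF.IsInvertible H)
    (hdeg : 2 * (Curv2.genus k X : ℤ) ≤ Curv2.deg k X H 1) :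
    Curv2.IsGloballyGenerated (CohB1.tensorMod E H) := by
  haveI := Groth.Agent.Lib.Helper23.Curve.isNoetherian_of_isProper k X
  haveI : LocallyOfFinitePresentation (X ↘ (Spec (CommRingCat.of k))) :=
    Groth.Agent.Lib.Helper12.SecCompBC.locallyOfFinitePresentation_of_isLocallyNoetherian _
  haveI : Smooth (X ↘ (Spec (CommRingCat.of k))) :=
    Groth.Agent.Lib.Helper12.CurveNormSm.smooth_of_regular_of_perfect k _ hreg
  obtain ⟨r, hEr⟩ := Groth.Agent.Lib.Helper25.ParShT.exists_rank_of_isFinLocFree hE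
  have hG : FlatMod.IsFinLocFreeOfRank r (CohB1.tensorMod E H) :=
    Groth.Agent.Lib.Helper23.Twist.isFinLocFreeOfRank_tensor hH hEr
  apply Groth.Agent.Lib.Helper17.CurveGGA.isGloballyGenerated_of_h1_twist k hG
  intro x hx
  by_contra h
  obtain ⟨hI, hdI⟩ := Groth.Agent.Lib.Helper7.RankTwo.pointIdeal_invertible_deg k hdim hreg x hx
  set I := ClSub.idealMod (Scheme.IdealSheafData.vanishingIdeal (⟨{x}, hx⟩ : TopologicalSpace.Closeds X)) with hIdef
  have hN : PicF.IsInvertible (CohB1.tensorMod H I) :=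
    Groth.Agent.Lib.Helper3.InvTensor.isInvertible_tensorMod hH hI
  have hdN : Curv2.deg k X (CohB1.tensorMod H I) 1 = Curv2.deg k X H 1 - 1 := by
    rw [Groth.Agent.Lib.Helper23.DegTensor.deg_tw k hdim.le
      (Groth.Agent.Lib.Helper23.Curve.isFinLocFreeOfRank_one_of_isInvertible hH) hI, hdI]
    push_cast
    ring
  let ε : CohB1.tensorMod I (CohB1.tensorMod E H) ≅ CohB1.tensorMod E (CohB1.tensorMod H I) :=
    Groth.Agent.Lib.Helper3.InvMonoidal.braid _ _ ≪≫ Groth.Agent.Lib.Helper3.InvMonoidal.assoc E H I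
  have h' : ¬ Subsingleton (Coh.HH X (CohB1.tensorMod E (CohB1.tensorMod H I)) 1) := fun hs =>
    h (Groth.Agent.Lib.Helper7.TwFun.subsingleton_HH_of_iso ε 1 hs)
  obtain ⟨M, q, hq, hM, hdM⟩ :=
    Groth.Agent.Lib.Helper17.CurveNefA.exists_quot_of_h1_tw k hdim hEr hN h'
  haveI := hq
  have hnn := hnef X hdim hreg (𝟙 X) (Category.id_comp _) M hM
    ((Scheme.Modules.pullbackId X).hom.app E ≫ q) (epi_comp _ _)
  rw [hdN] at hdM
  linarith

end Groth.Agent.S17281
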