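import Groth.Statements.S17287
import Groth.Agent.Lib.Helper6.CurveLift

set_option autoImplicit false
universe u
open CategoryTheory CategoryTheory.Limits AlgebraicGeometry TopologicalSpace
open Variety

namespace Groth.Agent.S17287

/-- Let f : Y → X be a surjective k-morphism of proper schemes over a field k and C ⊆ X an integral
closed subscheme of dimension one. Then there is an integral closed subscheme C' ⊆ Y of dimension
one with f(C') = C as closed subsets. (The source states this for proper algebraic spaces over k;
this is the case of schemes.) -/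
theorem result (k : Type u) [Field k] (X Y : Scheme.{u})
    [X.Over (Spec (CommRingCat.of k))] [IsProper (X ↘ (Spec (CommRingCat.of k)))] [Y.Over (Spec (CommRingCat.of k))] [IsProper (Y ↘ (Spec (CommRingCat.of k)))]
    (f : Y ⟶ X) (hf : f ≫ (X ↘ (Spec (CommRingCat.of k))) = Y ↘ (Spec (CommRingCat.of k))) [Surjective f]
    (C : X.IdealSheafData) [IsIntegral C.subscheme] (hC : topologicalKrullDim (C.support : Set X) = 1) :
    ∃ C' : Y.IdealSheafData, IsIntegral C'.subscheme ∧ topologicalKrullDim (C'.support : Set Y) = 1 ∧
      f.base '' (C'.support : Set Y) = (C.support : Set X) := by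
  have hft : LocallyOfFiniteType (f ≫ (X ↘ (Spec (CommRingCat.of k)))) := by
    rw [hf]; infer_instance
  have hf1 : LocallyOfFiniteType f := locallyOfFiniteType_of_comp f (X ↘ (Spec (CommRingCat.of k)))
  have hpr : IsProper (f ≫ (X ↘ (Spec (CommRingCat.of k)))) := by
    rw [hf]; infer_instance
  have hf2 : IsProper f := IsProper.of_comp f (X ↘ (Spec (CommRingCat.of k)))
  exact Groth.Agent.Lib.Helper6.CurveLift.main k (X ↘ (Spec (CommRingCat.of k))) f
    (Scheme.Hom.isClosedMap f) C hC

end Groth.Agent.S17287
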