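import Groth.Statements.S1729


set_option autoImplicit false
universe u
open Dual2

namespace Groth.Agent.S1729

open TensorProduct


/-- Over a local ring, every finite module M admits a projective cover: a surjection from a projective
module P onto M such that no proper submodule of P maps onto M. -/
theorem result (R : Type u) [CommRing R] [IsLocalRing R] (M : Type u) [AddCommGroup M] [Module R M] [Module.Finite R M] : ∃ (P : Type u) (_ : AddCommGroup P) (_ : Module R P) (f : P →ₗ[R] M), Dual2.IsProjectiveCover f := by
  let k := IsLocalRing.ResidueField R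
  let n := Module.finrank k (k ⊗[R] M)
  let b : Module.Basis (Fin n) k (k ⊗[R] M) := Module.finBasis k (k ⊗[R] M)
  have hsurj : Function.Surjective (TensorProduct.mk R k M 1) :=
    TensorProduct.mk_surjective R M k Ideal.Quotient.mk_surjective
  choose m hm using fun i => hsurj (b i)
  let φ : (Fin n → R) →ₗ[R] M := Fintype.linearCombination R m
  have hφ : Function.Surjective φ := by
    rw [← LinearMap.range_eq_top, Fintype.range_linearCombination]
    exact IsLocalRing.span_eq_top_of_tmul_eq_basis m b hm
  have hker : LinearMap.ker φ ≤ (IsLocalRing.maximalIdeal R) • (⊤ : Submodule R (Fin n → R)) := by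
    intro a ha
    rw [LinearMap.mem_ker, Fintype.linearCombination_apply] at ha
    have h1 : ∑ i, (IsLocalRing.residue R (a i)) • b i = 0 := by
      have := congrArg (TensorProduct.mk R k M 1) ha
      rw [map_sum, map_zero] at this
      rw [← this]
      refine Finset.sum_congr rfl fun i _ => ?_
      rw [map_smul, hm i]
      rfl
    have h2 := Fintype.linearIndependent_iff.mp b.linearIndependent _ h1
    have h3 : ∀ i, a i ∈ IsLocalRing.maximalIdeal R := fun i =>
      (IsLocalRing.residue_eq_zero_iff _).mp (h2 i)
    have h4 : a = ∑ i, a i • (Pi.single i 1 : Fin n → R) := by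
      ext j; simp [Finset.sum_apply, Pi.single_apply]
    rw [h4]
    exact Submodule.sum_mem _ fun i _ => Submodule.smul_mem_smul (h3 i) Submodule.mem_top
  refine ⟨Fin n → R, inferInstance, inferInstance, φ, ⟨inferInstance, hφ, ?_⟩⟩
  intro N hN
  have h5 : (⊤ : Submodule R (Fin n → R)) ≤ N ⊔ LinearMap.ker φ := by
    rw [← Submodule.comap_map_eq, hN, Submodule.comap_top]
  have h6 : (⊤ : Submodule R (Fin n → R)) ≤ N ⊔ (IsLocalRing.maximalIdeal R) • ⊤ :=
    h5.trans (sup_le_sup_left hker N)
  exact top_le_iff.mp (Submodule.le_of_le_smul_of_le_jacobson_bot Module.Finite.fg_top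
    (by rw [IsLocalRing.jacobson_eq_maximalIdeal]; exact bot_ne_top) h6)

end Groth.Agent.S1729
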