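-- Statement S17307.
import Groth.Statements.S17307
import Mathlib
import Groth.Agent.Lib.Helper1.EtCM

set_option autoImplicit false
universe u
open CurvSt

namespace Groth.Agent.S17307

open CategoryTheory AlgebraicGeometry in
/-- Let X be a proper scheme of dimension at most 1 over a field k, and Spec k → S a point of the base.
The classifying object of X in the stack of curves over S lies in the Gorenstein open substack — by
definition: the morphism of sheaves h_X → h_{Spec k} induced by X → Spec k is, in every etale chart
diagram, at every point flat with Gorenstein fibre local ring — if and only if X is Gorenstein, i.e.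
all local rings of X are Gorenstein local rings. -/
theorem result (S : Scheme.{u}) (k : Type u) [Field k] (t : Spec (CommRingCat.of k) ⟶ S)
    (X : Scheme.{u}) (p : X ⟶ Spec (CommRingCat.of k)) [IsProper p] (hdim : topologicalKrullDim ↥X ≤ 1) :
    AlgSp.LocP (fun _ _ g => ∀ x, (g.stalkMap x).hom.Flat ∧
        LocCoh.IsGorensteinLocalRing ((g.fiber (g x)).presheaf.stalk (g.asFiber x))) ((AlgSp.yon S).map (Over.homMk p rfl : Over.mk (p ≫ t) ⟶ Over.mk t)) ↔
      ∀ x : ↥X, LocCoh.IsGorensteinLocalRing (X.presheaf.stalk x) := by
  haveI : IsLocallyNoetherian X := LocallyOfFiniteType.isLocallyNoetherian p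
  constructor
  · intro h x
    have h1 := AlgSp.locP_yon_map h x
    exact (Groth.Agent.Lib.Helper1.EtCM.isGorensteinAt_iff_of_etale_field p (𝟙 _) x).1 h1
  · intro hp U V a b h ha hb hcomm
    obtain ⟨a', rfl⟩ := (AlgSp.yon S).map_surjective a
    obtain ⟨b', rfl⟩ := (AlgSp.yon S).map_surjective b
    haveI hae : Etale a'.left := (AlgSp.repWith_yon_map_iff _ _).1 ha
    haveI hbe : Etale b'.left := (AlgSp.repWith_yon_map_iff _ _).1 hb
    have hc : a' ≫ (Over.homMk p rfl : Over.mk (p ≫ t) ⟶ Over.mk t) = h ≫ b' := by
      apply (AlgSp.yon S).map_injective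
      rw [Functor.map_comp, Functor.map_comp]
      exact hcomm
    intro x
    haveI : IsLocallyNoetherian (Over.mk (p ≫ t)).left := ‹IsLocallyNoetherian X›
    exact (Groth.Agent.Lib.Helper1.EtCM.isGorensteinAt_iff_of_etale_field h.left b'.left x).2
      ((Groth.Agent.Lib.Helper1.EtCM.gor_stalk_iff_of_etale a'.left x).2 (hp _))

end Groth.Agent.S17307
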