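-- Statement S17309.
import Groth.Statements.S17309
import Mathlib

set_option autoImplicit false
universe u
open CurvSt

namespace Groth.Agent.S17309

open CategoryTheory AlgebraicGeometry in
/-- Let X be a proper scheme of dimension at most 1 over a field k with structure morphism p, and Spec k
→ S a point of the base. The classifying object of X in the stack of curves over S lies in the open
substack of curves with geometrically reduced fibres — by definition: every geometric fibre of the
family h_X → h_{Spec k}, realised as a scheme over an algebraically closed field through a cartesian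
square of sheaves, is reduced — if and only if X is geometrically reduced over k. -/
theorem result (S : Scheme.{u}) (k : Type u) [Field k] (t : Spec (CommRingCat.of k) ⟶ S)
    (X : Scheme.{u}) (p : X ⟶ Spec (CommRingCat.of k)) [IsProper p] (hdim : topologicalKrullDim ↥X ≤ 1) :
    CurvSt.GeomFib (fun _ _ _ X' _ _ => IsReduced X') ((CurvSt.toSpFam S 0).obj ⟨Over.mk t, X, p, Fin.elim0, fun i => i.elim0⟩) ↔ GeometricallyReduced p := by
  constructor
  · intro h
    refine ⟨fun K _ y Z fst snd hsq => ?_⟩
    let Ω := AlgebraicClosure K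
    let g : Spec (CommRingCat.of Ω) ⟶ Spec (CommRingCat.of K) :=
      Spec.map (CommRingCat.ofHom (algebraMap K Ω))
    let Z' := Limits.pullback snd g
    let q : Z' ⟶ Spec (CommRingCat.of Ω) := Limits.pullback.snd snd g
    have hbig : IsPullback (Limits.pullback.fst snd g ≫ fst) q p (g ≫ y) :=
      (IsPullback.of_hasPullback snd g).paste_horiz hsq
    let A : CurvSt.SpFamObj S 0 :=
      (CurvSt.toSpFam S 0).obj ⟨Over.mk t, X, p, Fin.elim0, fun i => i.elim0⟩
    have hw : (Limits.pullback.fst snd g ≫ fst) ≫ p ≫ t = (q ≫ g ≫ y) ≫ t := by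
      rw [← Category.assoc, hbig.w]
    let i' : A.ptOver (q ≫ (g ≫ y)) ⟶ Over.mk (p ≫ t) :=
      Over.homMk (Limits.pullback.fst snd g ≫ fst) hw
    have hover : IsPullback i' (A.fibHom (g ≫ y) q)
        (Over.homMk p rfl : Over.mk (p ≫ t) ⟶ Over.mk t) (A.ptHom (g ≫ y)) :=
      IsPullback.of_map (Over.forget S) (Over.OverMorphism.ext hbig.w) hbig
    have hred : IsReduced Z' := h Ω (g ≫ y) Z' q ((AlgSp.yon S).map i') (hover.map (AlgSp.yon S))
    haveI : Subsingleton ↥(Spec (CommRingCat.of K)) :=
      inferInstanceAs (Subsingleton (PrimeSpectrum K))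
    haveI : Flat snd := inferInstance
    haveI : Surjective g := ⟨fun x => ⟨default, Subsingleton.elim _ _⟩⟩
    haveI : IsSchemeTheoreticallyDominant g := .of_isDominant g
    exact IsSchemeTheoreticallyDominant.isReduced (Limits.pullback.fst snd g)
  · intro h Ω _ _ t' X' q i hP
    obtain ⟨i', rfl⟩ := (AlgSp.yon S).map_surjective i
    have comm : i' ≫ (Over.homMk p rfl : Over.mk (p ≫ t) ⟶ Over.mk t) =
        SpFamObj.fibHom ((CurvSt.toSpFam S 0).obj ⟨Over.mk t, X, p, Fin.elim0, fun i => i.elim0⟩) t' q ≫
          SpFamObj.ptHom ((CurvSt.toSpFam S 0).obj ⟨Over.mk t, X, p, Fin.elim0, fun i => i.elim0⟩) t' := by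
      apply (AlgSp.yon S).map_injective
      rw [Functor.map_comp]
      exact hP.w.trans ((AlgSp.yon S).map_comp _ _).symm
    have h1 := IsPullback.of_map (AlgSp.yon S) comm hP
    have h2 := h1.map (Over.forget S)
    exact h.geometrically_isReduced t' i'.left q h2

end Groth.Agent.S17309
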