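import Groth.Statements.S17321
import Groth.Agent.Lib.Helper26.FinAlgSection
import Mathlib.RingTheory.Finiteness.Nakayama
import Mathlib.RingTheory.Noetherian.Basic

set_option autoImplicit false
universe u v
open CAlg

namespace Groth.Agent.S17321

/-- Let k be an algebraically closed field and A a commutative k-algebra which is finite-dimensional as
a k-vector space (the coordinate ring of a finite k-scheme). Then the space Der(A) of k-derivations
A → A is zero if and only if A is reduced. -/
theorem result (k : Type u) [Field k] [IsAlgClosed k]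
    (A : Type v) [CommRing A] [Algebra k A] [Module.Finite k A] :
    Subsingleton (Derivation k A A) ↔ IsReduced A := by
  classical
  constructor
  · -- no nonzero derivation ⇒ reduced
    intro hsub
    by_contra hred
    have hart : IsArtinianRing A := IsArtinianRing.of_finite k A
    have hnoeth : IsNoetherianRing A := IsNoetherianRing.of_finite k A
    have hN : nilradical A ≠ ⊥ := by
      intro h
      apply hred
      refine ⟨fun x hx => ?_⟩
      have : x ∈ nilradical A := mem_nilradical.2 hx
      rw [h] at this
      exact (Submodule.mem_bot A).1 this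
    -- a minimal nonzero ideal inside the nilradical
    obtain ⟨S, ⟨hS0, hSN⟩, hSmin⟩ := IsArtinian.set_has_minimal
      {I : Submodule A A | I ≠ ⊥ ∧ I ≤ nilradical A} ⟨nilradical A, hN, le_rfl⟩
    obtain ⟨z, hzS, hz0⟩ := Submodule.exists_mem_ne_zero_of_ne_bot hS0
    have hzN : z ∈ nilradical A := hSN hzS
    -- the annihilator of z
    let 𝔪 : Ideal A := (Ideal.span {z}).annihilator
    have hmem : ∀ a : A, a ∈ 𝔪 ↔ a * z = 0 := by
      intro a
      change a ∈ (Ideal.span {z}).annihilator ↔ _
      rw [Submodule.mem_annihilator_span_singleton]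
      rfl
    have hkey : ∀ a : A, a ∉ 𝔪 → ∃ b : A, (1 - b * a) ∈ 𝔪 := by
      intro a ha
      have haz : a * z ≠ 0 := fun h => ha ((hmem a).2 h)
      have hle : Ideal.span {a * z} ≤ S := by
        rw [Ideal.span_le]
        rintro _ rfl
        exact S.smul_mem a hzS
      have hne : Ideal.span {a * z} ≠ ⊥ := by
        intro h
        apply haz
        have : a * z ∈ Ideal.span {a * z} := Ideal.subset_span rfl
        rw [h] at this
        exact (Submodule.mem_bot A).1 this
      have heq : Ideal.span {a * z} = S := by
        by_contra hne'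
        exact hSmin (Ideal.span {a * z}) ⟨hne, hle.trans hSN⟩ (lt_of_le_of_ne hle hne')
      have hz' : z ∈ Ideal.span {a * z} := heq ▸ hzS
      obtain ⟨b, hb⟩ := Ideal.mem_span_singleton'.1 hz'
      refine ⟨b, (hmem _).2 ?_⟩
      rw [sub_mul, one_mul, mul_assoc, hb, sub_self]
    have hmax : 𝔪.IsMaximal := by
      rw [Ideal.isMaximal_iff]
      refine ⟨fun h1 => hz0 (by simpa using (hmem 1).1 h1), ?_⟩
      intro J x hJ hx hxJ
      obtain ⟨b, hb⟩ := hkey x hx
      have : (1 : A) = (1 - b * x) + b * x := by ring
      rw [this]
      exact J.add_mem (hJ hb) (J.mul_mem_left b hxJ)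
    have hprime : 𝔪.IsPrime := hmax.isPrime
    let f : A →ₐ[k] k := Lib.Helper26.FinAlg.charOfPrime k 𝔪
    have hf : ∀ x, f x = 0 ↔ x ∈ 𝔪 := Lib.Helper26.FinAlg.charOfPrime_eq_zero_iff k 𝔪
    have hdec : ∀ x : A, x - algebraMap k A (f x) ∈ 𝔪 := by
      intro x
      rw [← hf, map_sub, AlgHom.commutes]
      simp
    have haz : ∀ a : A, a * z = f a • z := by
      intro a
      have := (hmem _).1 (hdec a)
      rw [sub_mul, sub_eq_zero] at this
      rw [this, Algebra.smul_def]
    have hz𝔪 : z ∈ 𝔪 := by
      have : nilradical A ≤ 𝔪 := by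
        rw [nilradical_eq_sInf]
        exact sInf_le hprime
      exact this hzN
    -- 𝔪 ≠ 𝔪²
    have hsq : ¬ (𝔪 ≤ 𝔪 • 𝔪) := by
      intro hle
      obtain ⟨r, hr1, hr2⟩ := Submodule.exists_sub_one_mem_and_smul_eq_zero_of_fg_of_le_smul 𝔪 𝔪
        (IsNoetherian.noetherian 𝔪) hle
      have h1 : r * z = 0 := hr2 z hz𝔪
      have h2 : (r - 1) * z = 0 := (hmem _).1 hr1
      apply hz0
      have : z = r * z - (r - 1) * z := by ring
      rw [this, h1, h2, sub_zero]
    -- the functional λ
    let W : Submodule k A := Submodule.span k {(1 : A)} ⊔ (𝔪 • 𝔪 : Ideal A).restrictScalars k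
    have hW : W < ⊤ := by
      rw [lt_top_iff_ne_top]
      intro hWtop
      apply hsq
      intro x hx
      have hxW : x ∈ W := hWtop ▸ Submodule.mem_top
      obtain ⟨u, hu, y, hy, rfl⟩ := Submodule.mem_sup.1 hxW
      obtain ⟨c, rfl⟩ := Submodule.mem_span_singleton.1 hu
      have hy' : y ∈ 𝔪 • 𝔪 := hy
      have hy𝔪 : y ∈ 𝔪 := Ideal.mul_le_left hy'
      have hc : c = 0 := by
        have h1 := (hf _).2 hx
        rw [map_add, (hf y).2 hy𝔪, add_zero, map_smul, map_one, smul_eq_mul, mul_one] at h1
        exact h1
      rw [hc, zero_smul, zero_add]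
      exact hy'
    obtain ⟨lam, hlam0, hlamW⟩ := Submodule.exists_le_ker_of_lt_top W hW
    have hlam1 : lam 1 = 0 := hlamW (Submodule.mem_sup_left (Submodule.subset_span rfl))
    have hlamsq : ∀ y ∈ 𝔪 • 𝔪, lam y = 0 := fun y hy => hlamW (Submodule.mem_sup_right hy)
    have hlamc : ∀ c : k, lam (algebraMap k A c) = 0 := by
      intro c
      rw [Algebra.algebraMap_eq_smul_one, map_smul, hlam1, smul_zero]
    have hlam_mul : ∀ a b : A, lam (a * b) = f a * lam b + f b * lam a := by
      intro a b
      have ha' := hdec a
      have hb' := hdec b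
      have hprod : (a - algebraMap k A (f a)) * (b - algebraMap k A (f b)) ∈ 𝔪 • 𝔪 :=
        Submodule.smul_mem_smul ha' hb'
      have h0 := hlamsq _ hprod
      have hexp : (a - algebraMap k A (f a)) * (b - algebraMap k A (f b)) =
          a * b - f a • b - f b • a + algebraMap k A (f a * f b) := by
        rw [map_mul, Algebra.smul_def, Algebra.smul_def]; ring
      rw [hexp, map_add, map_sub, map_sub, map_smul, map_smul, hlamc, add_zero, smul_eq_mul,
        smul_eq_mul] at h0
      linear_combination h0
    -- the derivation
    let L : A →ₗ[k] A := LinearMap.smulRight lam z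
    have hL : ∀ a, L a = lam a • z := fun a => rfl
    let D : Derivation k A A := Derivation.mk' L (fun a b => by
      rw [hL, hL, hL, hlam_mul, smul_eq_mul, smul_eq_mul, mul_smul_comm, mul_smul_comm, haz, haz,
        add_smul, mul_smul, mul_smul, smul_comm (lam b) (f a), smul_comm (lam a) (f b)])
    have hD0 : D = 0 := Subsingleton.elim _ _
    apply hlam0
    ext a
    have : D a = 0 := by rw [hD0]; rfl
    change lam a • z = 0 at this
    rcases smul_eq_zero.1 this with h | h
    · simpa using h
    · exact absurd h hz0
  · -- reduced ⇒ no nonzero derivation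
    intro hred
    refine ⟨fun D₁ D₂ => ?_⟩
    have hzero : ∀ D : Derivation k A A, D = 0 := by
      intro D
      have hidem : ∀ e : A, e * e = e → D e = 0 := by
        intro e he
        have h1 : D e = e • D e + e • D e := by
          conv_lhs => rw [← he]
          rw [Derivation.leibniz]
        have h2 : e • D e = e • D e + e • D e := by
          have := congrArg (fun x => e • x) h1
          simp only [smul_add, smul_smul, he] at this
          exact this
        have h3 : e • D e = 0 := by
          have : e • D e + 0 = e • D e + e • D e := by rw [add_zero]; exact h2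
          exact (add_left_cancel this).symm
        rw [h1, h3, add_zero]
      haveI : Fintype (A →ₐ[k] k) := Fintype.ofFinite _
      have hsurj := Lib.Helper26.FinAlg.ev_surjective (k := k) (A := A)
      have hinj : Function.Injective (Lib.Helper26.FinAlg.ev k A) := by
        rw [injective_iff_map_eq_zero]
        intro a ha
        have : a ∈ RingHom.ker (Lib.Helper26.FinAlg.ev k A) := ha
        rw [Lib.Helper26.FinAlg.ker_ev, nilradical_eq_zero] at this
        exact (Submodule.mem_bot _).1 this
      choose ε hε using fun f : A →ₐ[k] k => hsurj (Pi.single f (1 : k))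
      have hεidem : ∀ f, ε f * ε f = ε f := by
        intro f
        apply hinj
        rw [map_mul, hε]
        exact (CompleteOrthogonalIdempotents.single (fun _ : (A →ₐ[k] k) => k)).idem f
      ext c
      have hc : c = ∑ f : A →ₐ[k] k, f c • ε f := by
        apply hinj
        rw [map_sum]
        ext g
        simp [Finset.sum_apply, hε, Pi.single_apply]
      rw [hc, map_sum]
      simp only [Derivation.map_smul, hidem _ (hεidem _), smul_zero, Finset.sum_const_zero]
      rfl
    rw [hzero D₁, hzero D₂]

end Groth.Agent.S17321
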