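import Groth.Statements.S17323
import Groth.Agent.Lib.Helper26.FinAlgSection

set_option autoImplicit false
universe u v
open CAlg

namespace Groth.Agent.S17323

/-- Let k be an algebraically closed field and A a commutative k-algebra which is finite-dimensional as
a k-vector space. Then A has a largest reduced subalgebra: a k-subalgebra B which is reduced and
contains every reduced k-subalgebra of A; moreover the composite of the inclusion B → A with the
projection A → A/nilradical(A) is bijective. -/
theorem result (k : Type u) [Field k] [IsAlgClosed k]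
    (A : Type v) [CommRing A] [Algebra k A] [Module.Finite k A] :
    ∃ B : Subalgebra k A, IsReduced ↥B ∧ (∀ C : Subalgebra k A, IsReduced ↥C → C ≤ B) ∧
      Function.Bijective ((Ideal.Quotient.mkₐ k (nilradical A)).comp B.val) := by
  classical
  obtain ⟨s₀, hs₀, -⟩ := Lib.Helper26.FinAlg.existsUnique_section_ev k A
  have hs₀' : ∀ g, Lib.Helper26.FinAlg.ev k A (s₀ g) = g := fun g => congrArg (fun t => t g) hs₀
  have hidemA : ∀ e : A, IsIdempotentElem e → e ∈ s₀.range := by
    intro e he
    refine ⟨Lib.Helper26.FinAlg.ev k A e, ?_⟩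
    refine eq_of_isNilpotent_sub_of_isIdempotentElem ((he.map (Lib.Helper26.FinAlg.ev k A)).map s₀) he ?_
    apply Lib.Helper26.FinAlg.ker_ev_isNilpotent k A
    rw [RingHom.mem_ker, map_sub]
    change Lib.Helper26.FinAlg.ev k A (s₀ _) - Lib.Helper26.FinAlg.ev k A e = 0
    rw [hs₀', sub_self]
  have hinj : Function.Injective s₀ := Function.LeftInverse.injective hs₀'
  have hBred : IsReduced ↥s₀.range := by
    refine ⟨?_⟩
    rintro ⟨x, g, rfl⟩ ⟨n, hn⟩
    have hn' : (s₀ g) ^ n = 0 := by
      have := congrArg Subtype.val hn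
      simpa using this
    rw [← map_pow] at hn'
    have hg : g ^ n = 0 := hinj (by rw [hn', map_zero])
    have hg0 : g = 0 := by
      funext f
      have := congrFun hg f
      simp only [Pi.pow_apply, Pi.zero_apply] at this
      exact pow_eq_zero_iff (by
        rintro rfl
        simp at this) |>.1 this
    apply Subtype.ext
    change s₀ g = 0
    rw [hg0, map_zero]
  refine ⟨s₀.range, hBred, ?_, ?_⟩
  · intro C hC c hc
    haveI : Module.Finite k ↥C := Module.Finite.of_injective C.val.toLinearMap Subtype.val_injective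
    haveI : Fintype (↥C →ₐ[k] k) := Fintype.ofFinite _
    have hsurj := Lib.Helper26.FinAlg.ev_surjective (k := k) (A := ↥C)
    have hinjC : Function.Injective (Lib.Helper26.FinAlg.ev k ↥C) := by
      rw [injective_iff_map_eq_zero]
      intro a ha
      have : a ∈ RingHom.ker (Lib.Helper26.FinAlg.ev k ↥C) := ha
      rw [Lib.Helper26.FinAlg.ker_ev, nilradical_eq_zero] at this
      exact (Submodule.mem_bot _).1 this
    choose ε hε using fun f : ↥C →ₐ[k] k => hsurj (Pi.single f (1 : k))
    have hεidem : ∀ f, IsIdempotentElem (ε f) := by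
      intro f
      apply hinjC
      rw [map_mul, hε]
      exact (CompleteOrthogonalIdempotents.single (fun _ : (↥C →ₐ[k] k) => k)).idem f
    have hc' : (⟨c, hc⟩ : ↥C) = ∑ f : ↥C →ₐ[k] k, f ⟨c, hc⟩ • ε f := by
      apply hinjC
      rw [map_sum]
      ext g
      simp [Finset.sum_apply, hε, Pi.single_apply]
    have hcA : c = ∑ f : ↥C →ₐ[k] k, f ⟨c, hc⟩ • (ε f : A) := by
      have := congrArg (fun x : ↥C => (x : A)) hc'
      simpa using this
    rw [hcA]
    refine Subalgebra.sum_mem _ (fun f _ => Subalgebra.smul_mem _ (hidemA _ ?_) _)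
    have := congrArg (fun x : ↥C => (x : A)) (hεidem f).eq
    exact (by simpa using this : (ε f : A) * (ε f : A) = (ε f : A))
  · constructor
    · rw [injective_iff_map_eq_zero]
      rintro ⟨x, hx⟩ h0
      change Ideal.Quotient.mk (nilradical A) x = 0 at h0
      rw [Ideal.Quotient.eq_zero_iff_mem] at h0
      obtain ⟨n, hn⟩ := mem_nilradical.1 h0
      have : IsNilpotent (⟨x, hx⟩ : ↥s₀.range) := ⟨n, Subtype.ext (by simpa using hn)⟩
      exact hBred.eq_zero _ this
    · intro y
      obtain ⟨a, rfl⟩ := Ideal.Quotient.mk_surjective y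
      refine ⟨⟨s₀ (Lib.Helper26.FinAlg.ev k A a), ⟨_, rfl⟩⟩, ?_⟩
      change Ideal.Quotient.mk (nilradical A) (s₀ (Lib.Helper26.FinAlg.ev k A a)) = Ideal.Quotient.mk (nilradical A) a
      rw [Ideal.Quotient.eq, ← Lib.Helper26.FinAlg.ker_ev k A, RingHom.mem_ker, map_sub]
      change Lib.Helper26.FinAlg.ev k A (s₀ _) - Lib.Helper26.FinAlg.ev k A a = 0
      rw [hs₀', sub_self]

end Groth.Agent.S17323
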