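import Groth.Statements.S17324
import Groth.Agent.Lib.Helper26.FinAlg
import Mathlib.RingTheory.Artinian.Ring

set_option autoImplicit false
universe u v
open CAlg

namespace Groth.Agent.S17324

/-- (i) ⟺ (ii): let k be an algebraically closed field, A a commutative k-algebra which is
finite-dimensional as a k-vector space and is a local ring with maximal ideal m, and a_1, …, a_m ∈
m. Then A is generated as a k-algebra by a_1, …, a_m if and only if m is generated as an ideal by
a_1, …, a_m. (The printed lemma has a third equivalent condition, that the images of the a_i span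
m/m²; its equivalence with (ii) is Nakayama's lemma.) -/
theorem result (k : Type u) [Field k] [IsAlgClosed k]
    (A : Type v) [CommRing A] [Algebra k A] [Module.Finite k A] [IsLocalRing A]
    (m : ℕ) (a : Fin m → A) (ha : ∀ i, a i ∈ IsLocalRing.maximalIdeal A) :
    Algebra.adjoin k (Set.range a) = ⊤ ↔ Ideal.span (Set.range a) = IsLocalRing.maximalIdeal A := by
  classical
  set 𝔪 := IsLocalRing.maximalIdeal A with h𝔪
  let χ : A →ₐ[k] k := Lib.Helper26.FinAlg.charOfPrime k 𝔪
  have hχ : ∀ x, χ x = 0 ↔ x ∈ 𝔪 := Lib.Helper26.FinAlg.charOfPrime_eq_zero_iff k 𝔪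
  have hdec : ∀ x : A, x - algebraMap k A (χ x) ∈ 𝔪 := by
    intro x
    rw [← hχ, map_sub, AlgHom.commutes]
    simp
  have hJle : Ideal.span (Set.range a) ≤ 𝔪 := by
    rw [Ideal.span_le]
    rintro _ ⟨i, rfl⟩
    exact ha i
  constructor
  · intro hadj
    refine le_antisymm hJle ?_
    intro x hx
    have key : ∀ y ∈ Algebra.adjoin k (Set.range a),
        ∃ c : k, y - algebraMap k A c ∈ Ideal.span (Set.range a) := by
      intro y hy
      induction hy using Algebra.adjoin_induction with
      | mem y hy => exact ⟨0, by simpa using Ideal.subset_span hy⟩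
      | algebraMap r => exact ⟨r, by simp⟩
      | add y z _ _ ihy ihz =>
        obtain ⟨c, hc⟩ := ihy
        obtain ⟨d, hd⟩ := ihz
        refine ⟨c + d, ?_⟩
        have : y + z - algebraMap k A (c + d) = (y - algebraMap k A c) + (z - algebraMap k A d) := by
          rw [map_add]; ring
        rw [this]
        exact Ideal.add_mem _ hc hd
      | mul y z _ _ ihy ihz =>
        obtain ⟨c, hc⟩ := ihy
        obtain ⟨d, hd⟩ := ihz
        refine ⟨c * d, ?_⟩
        have : y * z - algebraMap k A (c * d) =
            (y - algebraMap k A c) * z + algebraMap k A c * (z - algebraMap k A d) := by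
          rw [map_mul]; ring
        rw [this]
        exact Ideal.add_mem _ (Ideal.mul_mem_right _ _ hc) (Ideal.mul_mem_left _ _ hd)
    obtain ⟨c, hc⟩ := key x (by rw [hadj]; exact Algebra.mem_top)
    have hc𝔪 : algebraMap k A c ∈ 𝔪 := by
      have h1 : x - algebraMap k A c ∈ 𝔪 := hJle hc
      have : algebraMap k A c = x - (x - algebraMap k A c) := by ring
      rw [this]
      exact Ideal.sub_mem _ hx h1
    have hc0 : c = 0 := by
      have := (hχ _).2 hc𝔪
      rwa [AlgHom.commutes, Algebra.algebraMap_self_apply] at this
    rw [hc0, map_zero, sub_zero] at hc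
    exact hc
  · intro hspan
    rw [eq_top_iff]
    set B := Algebra.adjoin k (Set.range a) with hB
    have haB : ∀ i, a i ∈ B := fun i => Algebra.subset_adjoin ⟨i, rfl⟩
    -- step: m^n ⊆ B + m^(n+1)
    have hstep : ∀ n : ℕ, ∀ x ∈ 𝔪 ^ n, ∃ b ∈ B, x - b ∈ 𝔪 ^ (n + 1) := by
      intro n
      induction n with
      | zero =>
        intro x _
        refine ⟨algebraMap k A (χ x), Subalgebra.algebraMap_mem _ _, ?_⟩
        simpa using hdec x
      | succ n ih =>
        intro x hx
        rw [pow_succ] at hx
        -- Q y : ∀ r ∈ m^n, ∃ b ∈ B, r * y - b ∈ m^(n+2)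
        have hQ : ∀ y ∈ 𝔪, ∀ r ∈ 𝔪 ^ n, ∃ b ∈ B, r * y - b ∈ 𝔪 ^ (n + 1 + 1) := by
          intro y hy
          rw [← hspan] at hy
          induction hy using Submodule.span_induction with
          | mem y hy =>
            obtain ⟨i, rfl⟩ := hy
            intro r hr
            obtain ⟨b, hb, hrb⟩ := ih r hr
            refine ⟨b * a i, Subalgebra.mul_mem _ hb (haB i), ?_⟩
            have : r * a i - b * a i = (r - b) * a i := by ring
            rw [this, pow_succ (𝔪) (n + 1)]
            exact Ideal.mul_mem_mul hrb (ha i)
          | zero =>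
            intro r _
            exact ⟨0, Subalgebra.zero_mem _, by simp⟩
          | add y z _ _ ihy ihz =>
            intro r hr
            obtain ⟨b, hb, h1⟩ := ihy r hr
            obtain ⟨b', hb', h2⟩ := ihz r hr
            refine ⟨b + b', Subalgebra.add_mem _ hb hb', ?_⟩
            have : r * (y + z) - (b + b') = (r * y - b) + (r * z - b') := by ring
            rw [this]
            exact Ideal.add_mem _ h1 h2
          | smul t y _ ihy =>
            intro r hr
            obtain ⟨b, hb, h1⟩ := ihy (r * t) (Ideal.mul_mem_right _ _ hr)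
            refine ⟨b, hb, ?_⟩
            have : r * (t • y) - b = r * t * y - b := by rw [smul_eq_mul]; ring
            rw [this]
            exact h1
        refine Submodule.smul_induction_on hx ?_ ?_
        · intro r hr y hy
          exact hQ y hy r hr
        · rintro y z ⟨b, hb, h1⟩ ⟨b', hb', h2⟩
          refine ⟨b + b', Subalgebra.add_mem _ hb hb', ?_⟩
          have : y + z - (b + b') = (y - b) + (z - b') := by ring
          rw [this]
          exact Ideal.add_mem _ h1 h2
    have hall : ∀ n : ℕ, ∀ x : A, ∃ b ∈ B, x - b ∈ 𝔪 ^ n := by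
      intro n
      induction n with
      | zero => intro x; exact ⟨0, Subalgebra.zero_mem _, by simp⟩
      | succ n ih =>
        intro x
        obtain ⟨b, hb, h1⟩ := ih x
        obtain ⟨b', hb', h2⟩ := hstep n _ h1
        refine ⟨b + b', Subalgebra.add_mem _ hb hb', ?_⟩
        have : x - (b + b') = x - b - b' := by ring
        rw [this]
        exact h2
    have hart : IsArtinianRing A := IsArtinianRing.of_finite k A
    obtain ⟨N, hN⟩ : ∃ N : ℕ, 𝔪 ^ N = ⊥ := by
      have := IsArtinianRing.isNilpotent_jacobson_bot (R := A)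
      rw [IsLocalRing.jacobson_eq_maximalIdeal ⊥ bot_ne_top] at this
      obtain ⟨N, hN⟩ := this
      exact ⟨N, hN⟩
    intro x _
    obtain ⟨b, hb, h1⟩ := hall N x
    rw [hN, Ideal.mem_bot, sub_eq_zero] at h1
    rw [h1]
    exact hb

end Groth.Agent.S17324
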