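import Groth.Statements.S17325
import Mathlib

set_option autoImplicit false
universe u v
open LieAlg

namespace Groth.Agent.S17325

/-- Let k be an algebraically closed field of characteristic p > 0, V a finite-dimensional k-vector
space and g a nonzero k-linear subspace of End_k(V) closed under the p-th power map u ↦ u^p. Then g
contains a nonzero u with u^p = c u for some c ∈ k, i.e. a line k u closed under p-th powers. (The
published lemma concerns an abstract nonzero finite-dimensional restricted Lie algebra; this row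
concerns subspaces of End_k(V) closed under p-th powers, a class that contains every restricted Lie
subalgebra of gl(V).) -/
theorem result (k : Type u) [Field k] [IsAlgClosed k]
    (p : ℕ) [Fact p.Prime] [CharP k p] (V : Type v) [AddCommGroup V] [Module k V] [FiniteDimensional k V]
    (g : Submodule k (Module.End k V)) (hg : ∀ u ∈ g, u ^ p ∈ g) (hne : g ≠ ⊥) :
    ∃ u ∈ g, u ≠ 0 ∧ ∃ c : k, u ^ p = c • u := by
  classical
  have hp : 1 ≤ p := (Fact.out : p.Prime).one_le
  have hex : ∃ n, ∃ u ∈ g, u ≠ 0 ∧ Module.finrank k (LinearMap.range u) = n := by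
    by_contra h
    push Not at h
    apply hne
    rw [Submodule.eq_bot_iff]
    intro u hu
    by_contra hu0
    exact h _ u hu hu0 rfl
  obtain ⟨u, hug, hu0, hun⟩ := Nat.find_spec hex
  have hmin : ∀ u' ∈ g, u' ≠ 0 →
      Module.finrank k (LinearMap.range u) ≤ Module.finrank k (LinearMap.range u') := by
    intro u' h1 h2
    rw [hun]
    exact Nat.find_min' hex ⟨u', h1, h2, rfl⟩
  refine ⟨u, hug, hu0, ?_⟩
  have hstab : ∀ x ∈ LinearMap.range u, (u ^ (p - 1)) x ∈ LinearMap.range u := by
    rintro x ⟨y, rfl⟩
    refine ⟨(u ^ (p - 1)) y, ?_⟩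
    have h : u * u ^ (p - 1) = u ^ (p - 1) * u := (Commute.refl u).pow_right _
    exact congrFun (congrArg DFunLike.coe h) y
  haveI : Nontrivial (LinearMap.range u) := by
    rw [Submodule.nontrivial_iff_ne_bot]
    intro h
    exact hu0 (LinearMap.range_eq_bot.mp h)
  obtain ⟨c, hc⟩ := Module.End.exists_eigenvalue ((u ^ (p - 1)).restrict hstab)
  obtain ⟨v, hv⟩ := hc.exists_hasEigenvector
  refine ⟨c, ?_⟩
  by_contra hne'
  have hu' : u ^ p - c • u ∈ g := g.sub_mem (hg u hug) (g.smul_mem c hug)
  have hu'0 : u ^ p - c • u ≠ 0 := fun h => hne' (sub_eq_zero.mp h)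
  have h1 := hmin _ hu' hu'0
  have hfac : u ^ p - c • u = (u ^ (p - 1) - c • 1) * u := by
    rw [sub_mul, smul_mul_assoc, one_mul, ← pow_succ, Nat.sub_add_cancel hp]
  have hrange : LinearMap.range (u ^ p - c • u) =
      LinearMap.range ((u ^ (p - 1) - c • 1) ∘ₗ (LinearMap.range u).subtype) := by
    rw [hfac, Module.End.mul_eq_comp, LinearMap.range_comp, LinearMap.range_comp,
      Submodule.range_subtype]
  have hker : v ∈ LinearMap.ker ((u ^ (p - 1) - c • 1) ∘ₗ (LinearMap.range u).subtype) := by
    rw [LinearMap.mem_ker]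
    have h3 := congrArg Subtype.val hv.apply_eq_smul
    rw [LinearMap.restrict_coe_apply] at h3
    simp only [LinearMap.comp_apply, Submodule.subtype_apply, LinearMap.sub_apply,
      LinearMap.smul_apply, Module.End.one_apply]
    rw [h3]
    simp
  have h2 := LinearMap.finrank_range_add_finrank_ker
    ((u ^ (p - 1) - c • 1) ∘ₗ (LinearMap.range u).subtype)
  have h3 : 0 < Module.finrank k
      (LinearMap.ker ((u ^ (p - 1) - c • 1) ∘ₗ (LinearMap.range u).subtype)) :=
    Module.finrank_pos_iff_exists_ne_zero.mpr
      ⟨⟨v, hker⟩, fun h => hv.2 (by simpa using congrArg Subtype.val h)⟩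
  rw [hrange] at h1
  omega

end Groth.Agent.S17325
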