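import Groth.Statements.S17326
import Groth.Agent.Lib.Helper26.FinAlg
import Mathlib.Algebra.CharP.Lemmas

set_option autoImplicit false
universe u v
open CAlg

namespace Groth.Agent.S17326

/-- Let k be an algebraically closed field of characteristic p > 0, A a commutative k-algebra which is
finite-dimensional as a k-vector space (a finite k-scheme X), and n ≥ 1. The n-th iterated relative
Frobenius morphism X → X^(p^n) is an isomorphism if and only if X is reduced; on rings: the map a ↦
a^(p^n) of A to itself (which is the ring homomorphism underlying the relative Frobenius, the twist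
A^(p^n) having the same underlying ring as A) is bijective if and only if A is reduced. -/
theorem result (k : Type u) [Field k] [IsAlgClosed k]
    (p : ℕ) [Fact p.Prime] [CharP k p] (A : Type v) [CommRing A] [Algebra k A] [Module.Finite k A]
    (n : ℕ) (hn : 1 ≤ n) :
    Function.Bijective (fun a : A => a ^ p ^ n) ↔ IsReduced A := by
  have hq : 2 ≤ p ^ n := by
    have hp : 2 ≤ p := (Fact.out : p.Prime).two_le
    calc 2 ≤ p := hp
      _ = p ^ 1 := (pow_one p).symm
      _ ≤ p ^ n := Nat.pow_le_pow_right (by omega) hn
  constructor
  · rintro ⟨hinj, -⟩
    refine ⟨fun a ha => ?_⟩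
    obtain ⟨m, hm⟩ := ha
    have key : ∀ j : ℕ, a ^ ((p ^ n) ^ j) = 0 → a = 0 := by
      intro j
      induction j with
      | zero => intro h; simpa using h
      | succ j ih =>
        intro h
        apply ih
        apply hinj
        change (a ^ (p ^ n) ^ j) ^ p ^ n = (0 : A) ^ p ^ n
        rw [← pow_mul, ← pow_succ, h, zero_pow (by omega)]
    apply key m
    exact pow_eq_zero_of_le (Nat.lt_pow_self (by omega)).le hm
  · intro hred
    -- transport along the evaluation isomorphism
    have hinj : Function.Injective (Lib.Helper26.FinAlg.ev k A) := by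
      rw [injective_iff_map_eq_zero]
      intro a ha
      have : a ∈ RingHom.ker (Lib.Helper26.FinAlg.ev k A) := ha
      rw [Lib.Helper26.FinAlg.ker_ev, nilradical_eq_zero] at this
      exact (Submodule.mem_bot A).1 this
    have hsurj := Lib.Helper26.FinAlg.ev_surjective k A
    -- q-th power on k is bijective
    have hkinj : ∀ x y : k, x ^ p ^ n = y ^ p ^ n → x = y := by
      intro x y h
      have : (x - y) ^ p ^ n = 0 := by rw [sub_pow_char_pow, h, sub_self]
      exact sub_eq_zero.1 (pow_eq_zero_iff (by omega) |>.1 this)
    constructor
    · intro a b hab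
      apply hinj
      funext f
      apply hkinj
      have := congrArg (fun c => (Lib.Helper26.FinAlg.ev k A) c f) hab
      simpa using this
    · intro b
      have : ∀ f : A →ₐ[k] k, ∃ z : k, z ^ p ^ n = f b := fun f =>
        IsAlgClosed.exists_pow_nat_eq _ (by omega)
      choose z hz using this
      obtain ⟨a, ha⟩ := hsurj z
      refine ⟨a, ?_⟩
      apply hinj
      funext f
      change (Lib.Helper26.FinAlg.ev k A) (a ^ p ^ n) f = f b
      rw [map_pow, ha, Pi.pow_apply, hz]

end Groth.Agent.S17326
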