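import Groth.Statements.S17329
import Groth.Agent.Lib.Helper19.KT3

set_option autoImplicit false
universe u v
open scoped TensorProduct
open Hopf

namespace Groth.Agent.S17329

/-- Let k be an algebraically closed field, A a commutative Hopf algebra over k which is
finite-dimensional as a k-vector space (a finite group scheme G = Spec A), and I a Hopf ideal of A
(a subgroup scheme H = Spec (A/I) of G, of order dim_k (A/I)). Let B ⊆ A be the k-subalgebra of
functions invariant under right multiplication by H: the equaliser of the two algebra maps A → A ⊗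
(A/I), a ↦ (id ⊗ π)(Δ a) and a ↦ a ⊗ 1, so that Spec B is the quotient G/H. Then the quotient
morphism G → G/H is finite locally free of rank |H|: A is a free B-module of rank dim_k (A/I) (B
being a finite product of local rings, locally free of constant rank is the same as free of that
rank). -/
theorem result (k : Type u) [Field k] [IsAlgClosed k]
    (A : Type v) [CommRing A] [HopfAlgebra k A] [Module.Finite k A] (I : Ideal A) [I.IsHopfIdeal k] :
    Module.Free
        ↥(AlgHom.equalizer
          ((Algebra.TensorProduct.map (AlgHom.id k A) (Ideal.Quotient.mkₐ k I)).comp (Bialgebra.comulAlgHom k A))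
          (Algebra.TensorProduct.includeLeft : A →ₐ[k] A ⊗[k] (A ⧸ I))) A ∧
      Module.finrank
        ↥(AlgHom.equalizer
          ((Algebra.TensorProduct.map (AlgHom.id k A) (Ideal.Quotient.mkₐ k I)).comp (Bialgebra.comulAlgHom k A))
          (Algebra.TensorProduct.includeLeft : A →ₐ[k] A ⊗[k] (A ⧸ I))) A =
        Module.finrank k (A ⧸ I) := by
  classical
  show Module.Free ↥(Groth.Agent.Lib.Helper19.KT.coinv
      (Groth.Agent.Lib.Helper19.KT.rhoQ (R := k) I)) A ∧
    Module.finrank ↥(Groth.Agent.Lib.Helper19.KT.coinv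
      (Groth.Agent.Lib.Helper19.KT.rhoQ (R := k) I)) A = Module.finrank k (A ⧸ I)
  obtain ⟨hfin, hproj, ⟨E⟩⟩ := Groth.Agent.Lib.Helper19.KT.quot_main (R := k) I
  haveI := hfin
  haveI := hproj
  haveI : Nontrivial A := ⟨⟨1, 0, fun h => by
    have h' := congrArg (Coalgebra.counit (R := k) (A := A)) h
    rw [Bialgebra.counit_one, map_zero] at h'
    exact one_ne_zero h'⟩⟩
  haveI : Nontrivial ↥(Groth.Agent.Lib.Helper19.KT.coinv
      (Groth.Agent.Lib.Helper19.KT.rhoQ (R := k) I)) :=
    ⟨⟨1, 0, fun h => one_ne_zero (α := A) (congrArg Subtype.val h)⟩⟩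
  haveI : Module.Finite k ↥(Groth.Agent.Lib.Helper19.KT.coinv
      (Groth.Agent.Lib.Helper19.KT.rhoQ (R := k) I)) :=
    Module.Finite.of_injective
      (Groth.Agent.Lib.Helper19.KT.coinv
        (Groth.Agent.Lib.Helper19.KT.rhoQ (R := k) I)).val.toLinearMap Subtype.val_injective
  haveI : IsArtinianRing ↥(Groth.Agent.Lib.Helper19.KT.coinv
      (Groth.Agent.Lib.Helper19.KT.rhoQ (R := k) I)) := IsArtinianRing.of_finite k _
  have hrank : ∀ P : PrimeSpectrum ↥(Groth.Agent.Lib.Helper19.KT.coinv
      (Groth.Agent.Lib.Helper19.KT.rhoQ (R := k) I)),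
      Module.rankAtStalk A P = Module.finrank k (A ⧸ I) := by
    intro P
    obtain ⟨q, hq, -⟩ := Groth.Agent.Lib.Helper19.KT.rankAtStalk_coinv_eq
      (Groth.Agent.Lib.Helper19.KT.rhoQ (R := k) I) E P
    rw [hq]
    have h1 := congrFun (Module.rankAtStalk_eq_finrank_of_free (R := k) (M := A ⧸ I)) q
    simpa using h1
  exact Groth.Agent.Lib.Helper19.KT.free_of_rank_const _ A _ hrank

end Groth.Agent.S17329
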