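import Groth.Statements.S17332
import Mathlib.Algebra.BigOperators.Pi
import Mathlib.Algebra.Field.Basic

set_option autoImplicit false
universe u v w
open CAlg

namespace Groth.Agent.S17332

/-- Let k be a field, E and F finite sets, and O(E), O(F) the k-algebras of k-valued functions with
pointwise operations. Then every k-algebra homomorphism u : O(F) → O(E) is pull-back along a unique
map φ : E → F, i.e. u(g) = g ∘ φ for all g. (In the source k is algebraically closed; the printed
argument only uses that k is a field.) -/
theorem result (k : Type u) [Field k] (E : Type v) [Finite E]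
    (F : Type w) [Finite F] (u : (F → k) →ₐ[k] (E → k)) :
    ∃! φ : E → F, ∀ g : F → k, u g = g ∘ φ := by
  classical
  have : Fintype F := Fintype.ofFinite F
  -- key: every character of `F → k` is an evaluation
  have key : ∀ χ : (F → k) →ₐ[k] k, ∃ f₀ : F, ∀ g : F → k, χ g = g f₀ := by
    intro χ
    have hsum : ∑ f : F, χ (Pi.single f (1 : k)) = 1 := by
      rw [← map_sum]
      have h1 : (∑ f : F, (Pi.single f (1 : k) : F → k)) = 1 := by
        ext x
        simp [Finset.sum_apply, Pi.single_apply]
      rw [h1, map_one]
    have hex : ∃ f₀ : F, χ (Pi.single f₀ (1 : k)) ≠ 0 := by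
      by_contra hcon
      have hcon' : ∀ f : F, χ (Pi.single f (1 : k)) = 0 := fun f => by
        by_contra h
        exact hcon ⟨f, h⟩
      rw [Finset.sum_eq_zero (fun f _ => hcon' f)] at hsum
      exact zero_ne_one hsum
    obtain ⟨f₀, hf₀⟩ := hex
    have hne : ∀ f : F, f ≠ f₀ → χ (Pi.single f (1 : k)) = 0 := by
      intro f hf
      have hmul : (Pi.single f (1 : k) : F → k) * Pi.single f₀ (1 : k) = 0 := by
        ext x
        simp only [Pi.mul_apply, Pi.zero_apply, Pi.single_apply]
        split_ifs with h1 h2
        · exact absurd (h1.symm.trans h2) hf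
        · simp
        · simp
        · simp
      have := congrArg χ hmul
      rw [map_mul, map_zero] at this
      exact (mul_eq_zero.1 this).resolve_right hf₀
    have hone : χ (Pi.single f₀ (1 : k)) = 1 := by
      have := Finset.sum_eq_single (f := fun f : F => χ (Pi.single f (1 : k))) f₀
        (fun f _ hf => hne f hf) (fun h => absurd (Finset.mem_univ _) h)
      rw [← this]
      exact hsum
    refine ⟨f₀, fun g => ?_⟩
    have hg : g = ∑ f : F, g f • (Pi.single f (1 : k) : F → k) := by
      ext x
      simp [Finset.sum_apply, Pi.single_apply]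
    conv_lhs => rw [hg]
    rw [map_sum]
    simp only [map_smul, smul_eq_mul]
    rw [Finset.sum_eq_single f₀ (fun f _ hf => by rw [hne f hf, mul_zero])
      (fun h => absurd (Finset.mem_univ _) h), hone, mul_one]
  choose φ hφ using fun e : E => key ((Pi.evalAlgHom k (fun _ : E => k) e).comp u)
  refine ⟨φ, ?_, ?_⟩
  · intro g
    ext e
    exact hφ e g
  · intro φ' hφ'
    ext e
    have h1 := congrFun (hφ' (Pi.single (φ e) (1 : k))) e
    have h2 := hφ e (Pi.single (φ e) (1 : k))
    simp only [AlgHom.comp_apply, Pi.evalAlgHom_apply, Pi.single_eq_same] at h2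
    rw [h2] at h1
    simp only [Function.comp_apply, Pi.single_apply] at h1
    by_contra hne
    rw [if_neg hne] at h1
    exact one_ne_zero h1

end Groth.Agent.S17332
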