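import Groth.Statements.S17333
-- import your own Groth.Agent.* helpers here

set_option autoImplicit false
universe u v w
open CAlg

namespace Groth.Agent.S17333

/-- Let k be a field and A = B × C a decomposable commutative k-algebra. Then the natural map Der(B) ×
Der(C) → Der(A) is bijective: every k-derivation D : A → A is (b, c) ↦ (D₁ b, D₂ c) for a unique
pair of k-derivations D₁ : B → B, D₂ : C → C. Compatibility with brackets is not stated. (The
published statement takes k algebraically closed; this row takes any field.) -/
theorem result (k : Type u) [Field k] (B : Type v) [CommRing B] [Algebra k B]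
    (C : Type w) [CommRing C] [Algebra k C] (D : Derivation k (B × C) (B × C)) :
    ∃! P : Derivation k B B × Derivation k C C, ∀ (b : B) (c : C), D (b, c) = (P.1 b, P.2 c) := by
  classical
  -- D kills the idempotents (1,0) and (0,1)
  have hidem : ∀ e : B × C, e * e = e → D e = 0 := by
    intro e he
    have h1 : D e = e • D e + e • D e := by
      conv_lhs => rw [← he]
      rw [Derivation.leibniz]
    -- multiply by e
    have h2 : e • D e = e • D e + e • D e := by
      have := congrArg (fun x => e • x) h1
      simp only [smul_add, smul_smul, he] at this
      exact this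
    have h3 : e • D e = 0 := by
      have : e • D e + 0 = e • D e + e • D e := by rw [add_zero]; exact h2
      exact (add_left_cancel this).symm
    rw [h1, h3, add_zero]
  have he1 : D ((1 : B), (0 : C)) = 0 := hidem _ (by ext <;> simp)
  have he2 : D ((0 : B), (1 : C)) = 0 := hidem _ (by ext <;> simp)
  have hB : ∀ b : B, (D (b, 0)).2 = 0 := by
    intro b
    have : D (b, 0) = D (((1 : B), (0 : C)) * (b, 0)) := by congr 1; ext <;> simp
    rw [this, Derivation.leibniz, he1]
    simp
  have hC : ∀ c : C, (D (0, c)).1 = 0 := by
    intro c
    have : D (0, c) = D (((0 : B), (1 : C)) * (0, c)) := by congr 1; ext <;> simp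
    rw [this, Derivation.leibniz, he2]
    simp
  let D₁ : Derivation k B B := Derivation.mk'
    { toFun := fun b => (D (b, 0)).1
      map_add' := fun b b' => by
        have : ((b + b', 0) : B × C) = (b, 0) + (b', 0) := by ext <;> simp
        rw [this, map_add]; rfl
      map_smul' := fun c b => by
        have : ((c • b, 0) : B × C) = c • (b, 0) := by ext <;> simp
        rw [this, Derivation.map_smul]; rfl }
    (fun b b' => by
      change (D (b * b', 0)).1 = b • (D (b', 0)).1 + b' • (D (b, 0)).1
      have : ((b * b', 0) : B × C) = (b, 0) * (b', 0) := by ext <;> simp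
      rw [this, Derivation.leibniz]
      simp)
  let D₂ : Derivation k C C := Derivation.mk'
    { toFun := fun c => (D (0, c)).2
      map_add' := fun c c' => by
        have : ((0, c + c') : B × C) = (0, c) + (0, c') := by ext <;> simp
        rw [this, map_add]; rfl
      map_smul' := fun a c => by
        have : ((0, a • c) : B × C) = a • (0, c) := by ext <;> simp
        rw [this, Derivation.map_smul]; rfl }
    (fun c c' => by
      change (D (0, c * c')).2 = c • (D (0, c')).2 + c' • (D (0, c)).2
      have : ((0, c * c') : B × C) = (0, c) * (0, c') := by ext <;> simp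
      rw [this, Derivation.leibniz]
      simp)
  refine ⟨(D₁, D₂), ?_, ?_⟩
  · intro b c
    have : ((b, c) : B × C) = (b, 0) + (0, c) := by ext <;> simp
    rw [this, map_add]
    ext
    · change (D (b, 0)).1 + (D (0, c)).1 = (D (b, 0)).1
      rw [hC, add_zero]
    · change (D (b, 0)).2 + (D (0, c)).2 = (D (0, c)).2
      rw [hB, zero_add]
  · rintro ⟨P₁, P₂⟩ hP
    ext b
    · change P₁ b = (D (b, 0)).1
      rw [hP b 0]
    · change P₂ b = (D (0, b)).2
      rw [hP 0 b]

end Groth.Agent.S17333
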