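import Groth.Statements.S17334
import Mathlib.RingTheory.Artinian.Module
import Mathlib.RingTheory.Artinian.Algebra
import Mathlib.RingTheory.LocalRing.Basic
import Mathlib.RingTheory.Nilpotent.Basic

set_option autoImplicit false
universe u v
open CAlg

namespace Groth.Agent.S17334

/-- Let k be a field and A a nonzero commutative k-algebra which is finite-dimensional as a k-vector
space. Then A is indecomposable (no decomposition as a product of two nonzero rings, i.e. no
idempotent other than 0 and 1) if and only if A is a local ring. (In the source k is algebraically
closed and the lemma adds that the maximal ideal is then the nilradical, is nilpotent, and has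
residue field k; the equivalence itself uses only that k is a field, and the zero algebra is
excluded here explicitly.) -/
theorem result (k : Type u) [Field k]
    (A : Type v) [CommRing A] [Algebra k A] [Module.Finite k A] [Nontrivial A] :
    (∀ e : A, IsIdempotentElem e → e = 0 ∨ e = 1) ↔ IsLocalRing A := by
  constructor
  · intro h
    have : IsArtinianRing A := IsArtinianRing.of_finite k A
    refine IsLocalRing.of_isUnit_or_isUnit_one_sub_self (fun a => ?_)
    obtain ⟨n, y, hy⟩ := IsArtinian.exists_pow_succ_smul_dvd a (1 : A)
    simp only [smul_eq_mul, mul_one, Nat.succ_eq_add_one] at hy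
    -- hy : a ^ (n+1) * y = a ^ n
    have hpow : ∀ m : ℕ, a ^ n * (a ^ m * y ^ m) = a ^ n := by
      intro m
      induction m with
      | zero => simp
      | succ m ih =>
        calc a ^ n * (a ^ (m + 1) * y ^ (m + 1))
            = (a ^ (n + 1) * y) * (a ^ m * y ^ m) := by ring
          _ = a ^ n * (a ^ m * y ^ m) := by rw [hy]
          _ = a ^ n := ih
    have he : IsIdempotentElem (a ^ n * y ^ n) := by
      unfold IsIdempotentElem
      calc a ^ n * y ^ n * (a ^ n * y ^ n) = (a ^ n * (a ^ n * y ^ n)) * y ^ n := by ring
        _ = a ^ n * y ^ n := by rw [hpow n]
    rcases h _ he with h0 | h1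
    · right
      have hnil : a ^ n = 0 := by
        have := hpow n
        rw [h0, mul_zero] at this
        exact this.symm
      exact IsNilpotent.isUnit_one_sub ⟨n, hnil⟩
    · left
      rcases Nat.eq_zero_or_pos n with hn | hn
      · subst hn
        simp only [pow_zero, zero_add, pow_one] at hy
        exact IsUnit.of_mul_eq_one _ hy
      · have : a * (a ^ (n - 1) * y ^ n) = 1 := by
          rw [← h1]
          obtain ⟨m, rfl⟩ : ∃ m, n = m + 1 := ⟨n - 1, by omega⟩
          simp only [Nat.add_sub_cancel]
          ring
        exact IsUnit.of_mul_eq_one _ this
  · intro hloc e he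
    rcases IsLocalRing.isUnit_or_isUnit_one_sub_self e with h | h
    · right
      have : e * e = e := he
      have h2 : e * (e - 1) = 0 := by rw [mul_sub, this, mul_one, sub_self]
      have := (h.mul_right_eq_zero).1 h2
      exact sub_eq_zero.1 this
    · left
      have : e * e = e := he
      have h2 : (1 - e) * e = 0 := by rw [sub_mul, this, one_mul, sub_self]
      exact (h.mul_right_eq_zero).1 h2

end Groth.Agent.S17334
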