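import Groth.Statements.S17336
import Groth.Agent.Lib.Helper26.FinAlgSection

set_option autoImplicit false
universe u v
open CAlg

namespace Groth.Agent.S17336

/-- Let k be an algebraically closed field and A a commutative k-algebra which is finite-dimensional as
a k-vector space (a finite scheme X = Spec A with largest reduced subscheme X_red = Spec
(A/nilradical A) and immersion i : X_red → X). Then there is a unique morphism r : X → X_red with r
∘ i = id; on rings: the projection A → A/nilradical(A) admits exactly one section that is a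
k-algebra homomorphism. -/
theorem result (k : Type u) [Field k]
    [IsAlgClosed k] (A : Type v) [CommRing A] [Algebra k A] [Module.Finite k A] :
    ∃! s : (A ⧸ nilradical A) →ₐ[k] A,
      (Ideal.Quotient.mkₐ k (nilradical A)).comp s = AlgHom.id k (A ⧸ nilradical A) := by
  obtain ⟨s₀, hs₀, huniq⟩ := Lib.Helper26.FinAlg.existsUnique_section_ev k A
  have hs₀' : ∀ g, Lib.Helper26.FinAlg.ev k A (s₀ g) = g := fun g => congrArg (fun t => t g) hs₀
  let eq := Lib.Helper26.FinAlg.evQuot k A
  have heq : ∀ a : A, eq (Ideal.Quotient.mkₐ k (nilradical A) a) = Lib.Helper26.FinAlg.ev k A a :=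
    fun a => rfl
  refine ⟨s₀.comp (eq : (A ⧸ nilradical A) →ₐ[k] _), ?_, ?_⟩
  · ext x : 1
    apply eq.injective
    change eq (Ideal.Quotient.mkₐ k (nilradical A) (s₀ (eq x))) = eq x
    rw [heq, hs₀']
  · intro s' hs'
    have hs'' : ∀ x, Ideal.Quotient.mkₐ k (nilradical A) (s' x) = x := fun x => congrArg (fun t => t x) hs'
    have : s'.comp (eq.symm : _ →ₐ[k] (A ⧸ nilradical A)) = s₀ := by
      apply huniq
      ext g : 1
      change Lib.Helper26.FinAlg.ev k A (s' (eq.symm g)) = g
      rw [← heq, hs'', AlgEquiv.apply_symm_apply]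
    ext x : 1
    have h2 := congrArg (fun t => t (eq x)) this
    change s' (eq.symm (eq x)) = s₀ (eq x) at h2
    rw [AlgEquiv.symm_apply_apply] at h2
    exact h2

end Groth.Agent.S17336
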