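import Groth.Statements.S1735
import Mathlib
import Groth.Agent.Lib.Helper7.ChevalleyGen

set_option autoImplicit false
universe u
open LocCoh

namespace Groth.Agent.S1735

/-- Let A be a complete Noetherian local domain and p a prime ideal with dim(A/p) = 1. For every n ≥ 1
there is m ≥ n such that the m-th symbolic power of p (the contraction of p^m A_p to A) is contained
in p^n. -/
theorem result (A : Type u) [CommRing A] [IsDomain A] [IsLocalRing A] [IsNoetherianRing A] [IsAdicComplete (IsLocalRing.maximalIdeal A) A] (p : Ideal A) [p.IsPrime] (hp : ringKrullDim (A ⧸ p) = 1) (n : ℕ) (hn : 1 ≤ n) : ∃ m : ℕ, n ≤ m ∧ ((Ideal.map (algebraMap A (Localization.AtPrime p)) p) ^ m).comap (algebraMap A (Localization.AtPrime p)) ≤ p ^ n := by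
  classical
  have hinj : Function.Injective (algebraMap A (Localization.AtPrime p)) :=
    IsLocalization.injective (Localization.AtPrime p) (Ideal.primeCompl_le_nonZeroDivisors p)
  obtain ⟨P', hP'⟩ : ∃ P' : Ideal (Localization.AtPrime p),
      P' = Ideal.map (algebraMap A (Localization.AtPrime p)) p := ⟨_, rfl⟩
  rw [← hP']
  obtain ⟨symb, hsymb⟩ : ∃ symb : ℕ → Ideal A,
      ∀ k, symb k = (P' ^ k).comap (algebraMap A (Localization.AtPrime p)) := ⟨_, fun k => rfl⟩
  have hanti : Antitone symb := fun k l hkl => by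
    rw [hsymb, hsymb]
    exact Ideal.comap_mono (Ideal.pow_le_pow_right hkl)
  have hP'top : P' ≠ ⊤ := by
    rw [hP', IsLocalization.AtPrime.map_eq_maximalIdeal p (Localization.AtPrime p)]
    exact (IsLocalRing.maximalIdeal.isMaximal (Localization.AtPrime p)).ne_top
  have hinf : (⨅ k, symb k) = ⊥ := by
    rw [eq_bot_iff]
    intro x hx
    rw [Ideal.mem_iInf] at hx
    have h1 : algebraMap A (Localization.AtPrime p) x ∈ ⨅ k : ℕ, P' ^ k := by
      rw [Ideal.mem_iInf]
      intro k
      have := hx k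
      rw [hsymb] at this
      exact this
    rw [Ideal.iInf_pow_eq_bot_of_isLocalRing P' hP'top, Ideal.mem_bot] at h1
    rw [Ideal.mem_bot]
    exact hinj (h1.trans (map_zero _).symm)
  have hmemsymb : ∀ k x, x ∈ symb k → ∃ s : A, s ∉ p ∧ s * x ∈ p ^ k := by
    intro k x hx
    rw [hsymb] at hx
    have h1 : algebraMap A (Localization.AtPrime p) x ∈
        Ideal.map (algebraMap A (Localization.AtPrime p)) (p ^ k) := by
      rw [Ideal.map_pow, ← hP']; exact hx
    rw [IsLocalization.mem_map_algebraMap_iff p.primeCompl (Localization.AtPrime p)] at h1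
    obtain ⟨⟨⟨y, hy⟩, ⟨s, hs⟩⟩, h2⟩ := h1
    refine ⟨s, hs, ?_⟩
    have h3 : algebraMap A (Localization.AtPrime p) (s * x) =
        algebraMap A (Localization.AtPrime p) y := by
      rw [map_mul, mul_comm]; exact h2
    rw [hinj h3]; exact hy
  obtain ⟨s, hsp, hs⟩ : ∃ s : A, s ∉ p ∧ ∀ x ∈ symb n, s * x ∈ p ^ n := by
    obtain ⟨T, hT⟩ := (IsNoetherian.noetherian (symb n))
    have hTmem : ∀ y ∈ T, y ∈ symb n := fun y hy => by
      rw [← hT]; exact Submodule.subset_span hy
    choose! σ hσ using fun x (hx : x ∈ symb n) => hmemsymb n x hx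
    refine ⟨∏ y ∈ T, σ y, ?_, ?_⟩
    · intro hmem
      obtain ⟨y, hyT, hy⟩ := (Ideal.IsPrime.prod_mem_iff).1 hmem
      exact (hσ y (hTmem y hyT)).1 hy
    · intro x hx
      have hle : Ideal.span (T : Set A) ≤
          Submodule.comap (LinearMap.mulLeft A (∏ y ∈ T, σ y)) (p ^ n) := by
        rw [Ideal.span_le]
        intro y hyT
        show (∏ y ∈ T, σ y) * y ∈ p ^ n
        rw [← Finset.mul_prod_erase T σ hyT, mul_comm (σ y), mul_assoc]
        exact Ideal.mul_mem_left _ _ (hσ y (hTmem y hyT)).2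
      have hx' : x ∈ Ideal.span (T : Set A) := by
        have : Ideal.span (T : Set A) = symb n := hT
        rw [this]; exact hx
      exact hle hx'
  haveI : Ring.KrullDimLE 1 (A ⧸ p) := Ring.krullDimLE_iff.2 (le_of_eq hp)
  have hrad : IsLocalRing.maximalIdeal A ≤ (p ⊔ Ideal.span {s}).radical := by
    rw [Ideal.radical_eq_sInf]
    apply le_sInf
    rintro q ⟨hq, hqprime⟩
    haveI := hqprime
    have hpq : p ≤ q := le_sup_left.trans hq
    have hsq : s ∈ q := hq (Ideal.mem_sup_right (Ideal.subset_span rfl))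
    have hq' : (q.map (Ideal.Quotient.mk p)).IsPrime :=
      Ideal.map_isPrime_of_surjective Ideal.Quotient.mk_surjective
        (by rw [Ideal.mk_ker]; exact hpq)
    have hne : q.map (Ideal.Quotient.mk p) ≠ ⊥ := by
      intro h
      have h1 : Ideal.Quotient.mk p s ∈ q.map (Ideal.Quotient.mk p) :=
        Ideal.mem_map_of_mem _ hsq
      rw [h, Ideal.mem_bot, Ideal.Quotient.eq_zero_iff_mem] at h1
      exact hsp h1
    haveI hmax : (q.map (Ideal.Quotient.mk p)).IsMaximal := hq'.isMaximal_of_ne_bot hne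
    have hqmax : q.IsMaximal := by
      have h1 := Ideal.comap_isMaximal_of_surjective (Ideal.Quotient.mk p)
        Ideal.Quotient.mk_surjective (K := q.map (Ideal.Quotient.mk p))
      rwa [Ideal.comap_map_of_surjective' _ Ideal.Quotient.mk_surjective, Ideal.mk_ker,
        sup_eq_left.2 hpq] at h1
    rw [IsLocalRing.eq_maximalIdeal hqmax]
  obtain ⟨a, ha⟩ := Ideal.exists_pow_le_of_le_radical_of_fg hrad (IsNoetherian.noetherian _)
  have hsQ : Ideal.span {s} * symb n ≤ p ^ n := by
    rw [Ideal.span_singleton_mul_le_iff]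
    intro z hz
    exact hs z hz
  have key : ∀ j, (p ⊔ Ideal.span {s}) ^ j * symb n ≤ p ^ j * symb n ⊔ p ^ n := by
    intro j
    induction j with
    | zero => rw [pow_zero, pow_zero]; exact le_sup_left
    | succ j ih =>
      calc (p ⊔ Ideal.span {s}) ^ (j + 1) * symb n
          = (p ⊔ Ideal.span {s}) * ((p ⊔ Ideal.span {s}) ^ j * symb n) := by
            rw [pow_succ', mul_assoc]
        _ ≤ (p ⊔ Ideal.span {s}) * (p ^ j * symb n ⊔ p ^ n) := Ideal.mul_mono_right ih
        _ = (p ⊔ Ideal.span {s}) * (p ^ j * symb n) ⊔ (p ⊔ Ideal.span {s}) * p ^ n :=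
            Ideal.mul_sup _ _ _
        _ ≤ p ^ (j + 1) * symb n ⊔ p ^ n := by
          apply sup_le
          · rw [Ideal.sup_mul]
            apply sup_le
            · rw [← mul_assoc, ← pow_succ']; exact le_sup_left
            · calc Ideal.span {s} * (p ^ j * symb n) = p ^ j * (Ideal.span {s} * symb n) := by
                    rw [← mul_assoc, mul_comm (Ideal.span {s}) (p ^ j), mul_assoc]
                _ ≤ p ^ j * p ^ n := Ideal.mul_mono_right hsQ
                _ ≤ p ^ n := Ideal.mul_le_right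
                _ ≤ _ := le_sup_right
          · exact Ideal.mul_le_right.trans le_sup_right
  have hmQ : IsLocalRing.maximalIdeal A ^ (a * n) * symb n ≤ p ^ n := by
    calc IsLocalRing.maximalIdeal A ^ (a * n) * symb n
        = (IsLocalRing.maximalIdeal A ^ a) ^ n * symb n := by rw [pow_mul]
      _ ≤ (p ⊔ Ideal.span {s}) ^ n * symb n := Ideal.mul_mono_left (Ideal.pow_right_mono ha n)
      _ ≤ p ^ n * symb n ⊔ p ^ n := key n
      _ ≤ p ^ n := sup_le Ideal.mul_le_left le_rfl
  obtain ⟨c, hc⟩ := Ideal.exists_pow_inf_eq_pow_smul (IsLocalRing.maximalIdeal A)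
    (symb n : Submodule A A)
  have hAR : IsLocalRing.maximalIdeal A ^ (a * n + c) ⊓ symb n ≤ p ^ n := by
    have h1 := hc (a * n + c) (Nat.le_add_left _ _)
    intro x hx
    have hx1 : x ∈ (IsLocalRing.maximalIdeal A ^ (a * n + c) • ⊤ ⊓ (symb n : Submodule A A) :
        Submodule A A) := by
      refine ⟨?_, hx.2⟩
      rw [smul_eq_mul, Ideal.mul_top]; exact hx.1
    rw [h1, Nat.add_sub_cancel] at hx1
    have hx2 : x ∈ IsLocalRing.maximalIdeal A ^ (a * n) • (symb n : Submodule A A) :=
      Submodule.smul_mono le_rfl inf_le_right hx1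
    rw [smul_eq_mul] at hx2
    exact hmQ hx2
  obtain ⟨k, hk⟩ := Groth.Agent.Lib.Helper7.ChevalleyGen.chevalley symb hanti (a * n + c)
  rw [hinf, bot_sup_eq] at hk
  refine ⟨max k n, le_max_right k n, ?_⟩
  intro x hx
  have hx' : x ∈ symb (max k n) := by rw [hsymb]; exact hx
  exact hAR ⟨hk (hanti (le_max_left k n) hx'), hanti (le_max_right k n) hx'⟩

end Groth.Agent.S1735
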