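import Groth.Statements.S17360
import Groth.Agent.Lib.Lead.AzInvCount

set_option autoImplicit false
universe u
open scoped TensorProduct
open AzInv

namespace Groth.Agent.S17360

open Groth.Agent.Lib.Lead.AzInvCount Module in
theorem result (R : Type u) [CommRing R] (hlam : ∀ r : R, (AlgEquiv.refl : R ≃ₐ[R] R) ((AlgEquiv.refl : R ≃ₐ[R] R) r) = r)
    [Nontrivial R] (h2 : IsUnit (2 : R))
    (J : (Matrix (Fin 2) (Fin 2) R)ˣ) (hJ : (↑J : Matrix (Fin 2) (Fin 2) R) = Matrix.of ![![0, -1], ![1, 0]])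
    (hJt : AzInv.LamInv.transpose (AlgEquiv.refl : R ≃ₐ[R] R) (Fin 2) hlam (↑J : Matrix (Fin 2) (Fin 2) R) = (-1 : R) • (↑J : Matrix (Fin 2) (Fin 2) R))
    (hneg : (AlgEquiv.refl : R ≃ₐ[R] R) (-1) * (-1) = 1) :
    ¬ AzInv.SameType R (AlgEquiv.refl : R ≃ₐ[R] R) (AzInv.LamInv.self (AlgEquiv.refl : R ≃ₐ[R] R) hlam) ((AzInv.LamInv.transpose (AlgEquiv.refl : R ≃ₐ[R] R) (Fin 2) hlam).conj J (-1) hJt hneg) := by
  classical
  rintro ⟨n, n', hn, hn', K, iK, iA, iE, iF, f, -, hf2⟩
  haveI : Module.Flat R K := inferInstance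
  haveI : Nontrivial K :=
    (TensorProduct.rid R K).symm.toEquiv.nontrivial
  let t₁ := (AzInv.LamInv.self (AlgEquiv.refl : R ≃ₐ[R] R) hlam).matrix (Fin n)
  let t₂ := ((AzInv.LamInv.transpose (AlgEquiv.refl : R ≃ₐ[R] R) (Fin 2) hlam).conj J (-1)
    hJt hneg).matrix (Fin n')
  let g₁ := t₁.linS R (AlgEquiv.refl : R ≃ₐ[R] R)
  let g₂ := t₂.linS R (AlgEquiv.refl : R ≃ₐ[R] R)
  have key1 : ∀ (M : Matrix (Fin n) (Fin n) R) i j, (g₁ M) i j = M j i := fun M i j => rfl
  have key2 : ∀ (M : Matrix (Fin n') (Fin n') (M2 R)) i j, (g₂ M) i j = adjL (M j i) :=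
    fun M i j => symp_apply hlam J hJ hJt hneg (M j i)
  have hE1 : LinearMap.eqLocus g₁ LinearMap.id = E1 n := by
    ext M
    rw [LinearMap.mem_eqLocus, mem_E1]
    constructor
    · intro h i j
      exact (key1 M i j).symm.trans (congrFun (congrFun h i) j)
    · intro h
      apply Matrix.ext
      intro i j
      rw [key1]
      exact h i j
  have hE2 : LinearMap.eqLocus g₂ LinearMap.id = E2 n' := by
    ext M
    rw [LinearMap.mem_eqLocus, mem_E2]
    constructor
    · intro h i j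
      exact (key2 M i j).symm.trans (congrFun (congrFun h i) j)
    · intro h
      apply Matrix.ext
      intro i j
      rw [key2]
      exact h i j
  have e12 : finrank K (Fix K g₁) = finrank K (Fix K g₂) :=
    finrank_Fix_eq_of_equiv K g₁ g₂ f.toLinearEquiv (fun x => hf2 x)
  rw [finrank_Fix K g₁ ((LinearEquiv.ofEq _ _ hE1).trans (e1 n)),
    finrank_Fix K g₂ ((LinearEquiv.ofEq _ _ hE2).trans (e2 h2 n')), finrank_T1, finrank_T2] at e12
  have hdim := f.toLinearEquiv.finrank_eq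
  rw [Module.finrank_baseChange, Module.finrank_baseChange, Module.finrank_matrix,
    Module.finrank_matrix, Module.finrank_matrix, Module.finrank_self] at hdim
  simp only [Fintype.card_fin, mul_one] at hdim
  exact arith n n' _ hn' (hdim.trans (by ring)) (card_lt n') e12

end Groth.Agent.S17360
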