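import Groth.Statements.S17362
import Groth.Agent.Lib.Lead.AzInvSym

set_option autoImplicit false
universe u v w
open scoped TensorProduct
open AzInv

namespace Groth.Agent.S17362

open Groth.Agent.Lib.Lead.AzInvSym Groth.Agent.Lib.Helper7 in
theorem result (S : Type u) (R : Type v) [CommRing S] [CommRing R] [Algebra S R]
    (lam : R ≃ₐ[S] R) (hlam : ∀ r, lam (lam r) = r) (hfix : RInv.IsFixedRing S R lam.toRingEquiv)
    (h2 : IsUnit (2 : S))
    (A : Type w) [Ring A] [Algebra S A] [Algebra R A] [IsScalarTower S R A]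
    (n : ℕ) (hn : 0 < n) (hA : AzInv.IsAzumayaDeg R A n) (t : AzInv.LamInv R A lam)
    (q : PrimeSpectrum R) (hq : ∀ r : R, lam r - r ∈ q.asIdeal) :
    ∃ f : R, f ∉ q.asIdeal ∧ ∀ q' : PrimeSpectrum R, (∀ r : R, lam r - r ∈ q'.asIdeal) → f ∉ q'.asIdeal →
      (Module.finrank q'.asIdeal.ResidueField
          (Submodule.span q'.asIdeal.ResidueField
            (Set.range fun a : {a : A // t a = a} => (1 : q'.asIdeal.ResidueField) ⊗ₜ[R] (a : A))) = Nat.choose (n + 1) 2 ↔
        Module.finrank q.asIdeal.ResidueField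
            (Submodule.span q.asIdeal.ResidueField
              (Set.range fun a : {a : A // t a = a} => (1 : q.asIdeal.ResidueField) ⊗ₜ[R] (a : A))) = Nat.choose (n + 1) 2) := by
  classical
  haveI : IsAzumaya R A := hA.1
  haveI : Module.Finite R A := inferInstance
  haveI : Module.Projective R A := inferInstance
  have hrank : ∀ P : PrimeSpectrum R, fibDim A P = n ^ 2 := by
    intro P
    unfold fibDim
    exact (Module.rankAtStalk_eq (M := A) P).symm.trans (hA.2 P)
  obtain ⟨U1, hU1, hq1, hle1⟩ :=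
    fibDim_le_nhds (A ⧸ Submodule.span R {a : A | t a = a}) q
  obtain ⟨U2, hU2, hq2, hle2⟩ :=
    fibDim_le_nhds (A ⧸ Submodule.span R {a : A | t a = -a}) q
  obtain ⟨v, ⟨f, rfl⟩, hqv, hvU⟩ :=
    PrimeSpectrum.isTopologicalBasis_basic_opens.exists_subset_of_mem_open
      (show q ∈ U1 ∩ U2 from ⟨hq1, hq2⟩) (hU1.inter hU2)
  refine ⟨f, ?_, ?_⟩
  · exact (PrimeSpectrum.mem_basicOpen f q).mp hqv
  · intro q' hq' hfq'
    have hmem : q' ∈ U1 ∩ U2 := hvU ((PrimeSpectrum.mem_basicOpen f q').mpr hfq')
    have e1 := finrank_W_add (fun a : A => t a = a) q'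
    have e2 := finrank_W_add (fun a : A => t a = -a) q'
    have e3 := finrank_W_add_W lam t h2 q' hq'
    have e1' := finrank_W_add (fun a : A => t a = a) q
    have e2' := finrank_W_add (fun a : A => t a = -a) q
    have e3' := finrank_W_add_W lam t h2 q hq
    have l1 := hle1 q' hmem.1
    have l2 := hle2 q' hmem.2
    rw [hrank] at e1 e2 e3 e1' e2' e3'
    have key : Module.finrank q'.asIdeal.ResidueField (W (fun a : A => t a = a) q') =
        Module.finrank q.asIdeal.ResidueField (W (fun a : A => t a = a) q) := by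
      have l1' : fibDim (A ⧸ Submodule.span R {a : A | t a = a}) q' ≤
          fibDim (A ⧸ Submodule.span R {a : A | t a = a}) q := l1
      have l2' : fibDim (A ⧸ Submodule.span R {a : A | t a = -a}) q' ≤
          fibDim (A ⧸ Submodule.span R {a : A | t a = -a}) q := l2
      omega
    unfold W at key
    rw [key]

end Groth.Agent.S17362
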