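import Groth.Statements.S17365
import Mathlib
import Groth.Agent.Lib.Helper14.FlatStalkDepth
import Groth.Agent.Lib.Helper26.RegularSch
import Groth.Agent.Lib.Helper26.RegularNormal
import Groth.Agent.Lib.Helper3.LocFreeCrit
import Groth.Agent.Lib.Helper17.FlatHartogs
import Groth.Agent.Lib.Helper17.ZClosS2
import Groth.Agent.Lib.Helper5.HartogsDepth

set_option autoImplicit false
universe u
open CategoryTheory CategoryTheory.Limits AlgebraicGeometry TopologicalSpace
open CInt

namespace Groth.Agent.S17365

/-- Let k be an algebraically closed field, X a smooth proper k-scheme admitting an ample invertible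
sheaf, and S a locally Noetherian k-scheme. Let E be a finite locally free module on S ×_k X and Z a
closed subset of S ×_k X whose intersection with every fibre {s} × X has codimension at least 2
there, i.e. at every point of Z the local ring of the fibre of the projection S ×_k X ⟶ S has Krull
dimension at least 2. Then, with j the inclusion of the complement of Z, the natural map E ⟶ j_*
(E|_{S × X ∖ Z}) is an isomorphism. -/
theorem result
    (k : Type u) [Field k] [IsAlgClosed k] (S X : Scheme.{u})
    (b : S ⟶ Spec (CommRingCat.of k)) (a : X ⟶ Spec (CommRingCat.of k))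
    [IsLocallyNoetherian S] [Smooth a] [IsProper a]
    (hproj : ∃ H : X.Modules, CohB1.IsAmple H)
    (E : (pullback b a).Modules) (hE : FlatMod.IsFinLocFree E)
    (Z : Closeds ↥(pullback b a))
    (hZ : ∀ x : ↥(pullback b a), x ∈ Z →
      (2 : WithBot ℕ∞) ≤ ringKrullDim ↑(CInt.fiberStalk (pullback.fst b a) x)) :
    IsIso ((Scheme.Modules.restrictAdjunction (Scheme.Opens.ι (Z.compl : (pullback b a).Opens))).unit.app E) := by
  haveI : Smooth (pullback.fst b a) := inferInstance
  haveI : IsLocallyNoetherian (pullback b a) :=
    LocallyOfFiniteType.isLocallyNoetherian (pullback.fst b a)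
  haveI : E.IsQuasicoherent := Groth.Agent.Lib.Helper3.LocFreeCrit.isQuasicoherent_of_isFinLocFree hE
  have hEfl : FlatMod.IsFlat E := by
    rw [Groth.Agent.Lib.Helper17.FlatSections.isFlat_iff_flat_sections]
    intro V hV
    obtain ⟨h1, h2⟩ := Groth.Agent.Lib.Helper3.LocFreeCrit.finite_projective_sections hE hV
    exact Module.Flat.of_projective
  apply Groth.Agent.Lib.Helper17.FlatHartogs.isIso_unit_of_flat E hEfl
  intro V _
  apply Groth.Agent.Lib.Helper5.Hartogs.bijective_of_depth
  intro x hx
  have hxZ : x ∈ Z := by
    by_contra h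
    exact hx h
  have hdim := hZ x hxZ
  obtain ⟨hdepth, -⟩ :=
    Groth.Agent.Lib.Helper14.FlatStalkDepth.depth_dim_stalk_eq (pullback.fst b a) x
  rw [hdepth]
  haveI : Smooth ((pullback.fst b a).fiberToSpecResidueField ((pullback.fst b a).base x)) :=
    (inferInstance : Smooth (pullback.snd (pullback.fst b a)
      (S.fromSpecResidueField ((pullback.fst b a).base x))))
  haveI : IsRegularLocalRing (CInt.fiberStalk (pullback.fst b a) x) :=
    Groth.Agent.Lib.Helper26.RegularSch.isRegularLocalRing_stalk_of_smooth_field
      (S.residueField ((pullback.fst b a).base x))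
      ((pullback.fst b a).fiberToSpecResidueField ((pullback.fst b a).base x))
      ((pullback.fst b a).asFiber x)
  have h3 := Groth.Agent.Lib.Helper26.RegularNormal.height_maximalIdeal_le_depth
    (CInt.fiberStalk (pullback.fst b a) x)
  rw [← IsLocalRing.maximalIdeal_height_eq_ringKrullDim,
    Groth.Agent.Lib.Helper17.ZClosS2.two_le_coe_iff] at hdim
  exact (hdim.trans h3).trans le_add_self

end Groth.Agent.S17365
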