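import Groth.Statements.S17366
import Mathlib
import Groth.Agent.Lib.Helper17.HomExtend

set_option autoImplicit false
universe u
open CategoryTheory CategoryTheory.Limits AlgebraicGeometry TopologicalSpace
open CInt

namespace Groth.Agent.S17366

/-- Let k be an algebraically closed field, X a smooth proper k-scheme admitting an ample invertible
sheaf, and S a locally Noetherian k-scheme. Let E be a coherent module on S ×_k X, flat over S,
whose restriction to every fibre {s} × X is torsion-free, let F be a finite locally free module on S
×_k X, and let U be the largest open subset of S ×_k X over which E is finite locally free. Then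
every homomorphism E|_U ⟶ F|_U is the restriction of a unique homomorphism E ⟶ F. (The published
statement also asserts the compatibility of this extension with base change along morphisms S' ⟶ S;
that clause is not restated here.) -/
theorem result
    (k : Type u) [Field k] [IsAlgClosed k] (S X : Scheme.{u})
    (b : S ⟶ Spec (CommRingCat.of k)) (a : X ⟶ Spec (CommRingCat.of k))
    [IsLocallyNoetherian S] [Smooth a] [IsProper a]
    (hproj : ∃ H : X.Modules, CohB1.IsAmple H)
    (E F : (pullback b a).Modules) (hEcoh : Coh.IsCoh E)
    (hEfl : FlatMod.IsFlatOver (pullback.fst b a) E)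
    (hEtf : ∀ s : ↥S, TorSh.IsTorsionFree
      ((Scheme.Modules.pullback ((pullback.fst b a).fiberι s)).obj E))
    (hF : FlatMod.IsFinLocFree F)
    (U : (pullback b a).Opens)
    (hU : ∀ x : ↥(pullback b a), x ∈ U ↔
      ∃ (V : (pullback b a).Opens) (n : ℕ), x ∈ V ∧ Nonempty (E.restrict V.ι ≅ FlatMod.freeMod (↑V) n))
    (ψ : E.restrict U.ι ⟶ F.restrict U.ι) :
    ∃! φ : E ⟶ F, (Scheme.Modules.restrictFunctor U.ι).map φ = ψ := by
  haveI : Smooth (pullback.fst b a) := inferInstance
  haveI : LocallyOfFiniteType (pullback.fst b a) := inferInstance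
  haveI : IsLocallyNoetherian (pullback b a) :=
    LocallyOfFiniteType.isLocallyNoetherian (pullback.fst b a)
  apply Groth.Agent.Lib.Helper17.HomExtend.existsUnique_hom_extension_of_smooth
    (pullback.fst b a) E F hEcoh hEfl hEtf hF U _ ψ
  intro x hfree
  haveI := hEcoh.1
  haveI := hEcoh.2
  haveI := Groth.Agent.Lib.Helper17.ReflE.isFinitePresentation_of_isCoh E hEcoh
  obtain ⟨V, n, e, hxV, he⟩ :=
    Groth.Agent.Lib.Helper1.FibreLocFree.mem_freeOpen_of_free_stalk E x hfree
  exact (hU x).mpr ⟨V, n, hxV, Groth.Agent.Lib.Helper3.FreeBasis.nonempty_iso_of_isBasis he⟩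

end Groth.Agent.S17366
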