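import Groth.Statements.S17367
import Mathlib

set_option autoImplicit false
universe u
open scoped TensorProduct
open Deform

namespace Groth.Agent.S17367

namespace H17367
open scoped TensorProduct

section
variable {A' : Type u} [CommRing A'] (J : Ideal A') {B' : Type u} [CommRing B'] [Algebra A' B']

/-- multiplication map -/
noncomputable def mu : B' ⊗[A'] ↥J →ₗ[A'] B' :=
  (TensorProduct.rid A' B').toLinearMap ∘ₗ LinearMap.lTensor B' (Submodule.subtype J)

theorem mu_tmul (b : B') (j : ↥J) : mu J (b ⊗ₜ[A'] j) = (j : A') • b := by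
  simp [mu]

theorem mu_smul (b : B') (z : B' ⊗[A'] ↥J) : mu J (b • z) = b * mu J z := by
  induction z using TensorProduct.induction_on with
  | zero => simp
  | tmul c j =>
    rw [TensorProduct.smul_tmul', mu_tmul, mu_tmul, smul_eq_mul, mul_smul_comm]
  | add x y hx hy => rw [smul_add, map_add, map_add, hx, hy, mul_add]

theorem exists_mu_eq {k : B'} (hk : k ∈ J.map (algebraMap A' B')) :
    ∃ z : B' ⊗[A'] ↥J, mu J z = k := by
  have hk' : k ∈ Submodule.span B' ((algebraMap A' B') '' (J : Set A')) := hk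
  refine Submodule.span_induction (p := fun k _ => ∃ z : B' ⊗[A'] ↥J, mu J z = k) ?_ ?_ ?_ ?_ hk'
  · rintro x ⟨j, hj, rfl⟩
    exact ⟨1 ⊗ₜ ⟨j, hj⟩, by rw [mu_tmul, Algebra.smul_def, mul_one]⟩
  · exact ⟨0, map_zero _⟩
  · rintro x y _ _ ⟨zx, rfl⟩ ⟨zy, rfl⟩
    exact ⟨zx + zy, map_add _ _ _⟩
  · rintro a x _ ⟨zx, rfl⟩
    exact ⟨a • zx, by rw [mu_smul, smul_eq_mul]⟩

theorem mu_injective [Module.Flat A' B'] : Function.Injective (mu J (B' := B')) := by
  intro a b h
  apply Module.Flat.lTensor_preserves_injective_linearMap (M := B') (Submodule.subtype J)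
    (Submodule.injective_subtype J)
  apply (TensorProduct.rid A' B').injective
  exact h

noncomputable def rho (Q : Type u) [CommRing Q] [Algebra A' Q] [Algebra B' Q]
    [IsScalarTower A' B' Q] : B' ⊗[A'] ↥J →ₗ[A'] Q ⊗[A'] ↥J :=
  LinearMap.rTensor ↥J (IsScalarTower.toAlgHom A' B' Q).toLinearMap

theorem rho_smul (Q : Type u) [CommRing Q] [Algebra A' Q] [Algebra B' Q]
    [IsScalarTower A' B' Q] (b : B') (z : B' ⊗[A'] ↥J) :
    rho J Q (b • z) = b • rho J Q z := by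
  induction z using TensorProduct.induction_on with
  | zero => simp
  | tmul c j =>
    unfold rho
    rw [TensorProduct.smul_tmul', LinearMap.rTensor_tmul, LinearMap.rTensor_tmul,
      TensorProduct.smul_tmul']
    congr 1
    simp [Algebra.smul_def]
  | add x y hx hy => rw [smul_add, map_add, map_add, hx, hy, smul_add]

theorem rho_eq_zero (I' : Ideal B') [Module.Flat A' (B' ⧸ I')] (Q : Type u) [CommRing Q]
    [Algebra A' Q] [Algebra B' Q] [IsScalarTower A' B' Q]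
    (hI' : ∀ b ∈ I', algebraMap B' Q b = 0) (z : B' ⊗[A'] ↥J) (hz : mu J z ∈ I') :
    rho J Q z = 0 := by
  have hk : ∀ b ∈ I', (IsScalarTower.toAlgHom A' B' Q) b = 0 := fun b hb => hI' b hb
  have hfac : (IsScalarTower.toAlgHom A' B' Q).toLinearMap
      = (Ideal.Quotient.liftₐ I' (IsScalarTower.toAlgHom A' B' Q) hk).toLinearMap ∘ₗ
        (Ideal.Quotient.mkₐ A' I').toLinearMap := by
    ext b
    simp
  unfold rho
  rw [hfac, LinearMap.rTensor_comp, LinearMap.comp_apply]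
  have h0 : LinearMap.rTensor ↥J (Ideal.Quotient.mkₐ A' I').toLinearMap z = 0 := by
    apply Module.Flat.lTensor_preserves_injective_linearMap (M := B' ⧸ I') (Submodule.subtype J)
      (Submodule.injective_subtype J)
    rw [map_zero]
    apply (TensorProduct.rid A' (B' ⧸ I')).injective
    rw [map_zero]
    have key : ∀ w : B' ⊗[A'] ↥J, TensorProduct.rid A' (B' ⧸ I')
        (LinearMap.lTensor (B' ⧸ I') (Submodule.subtype J)
          (LinearMap.rTensor ↥J (Ideal.Quotient.mkₐ A' I').toLinearMap w))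
        = Ideal.Quotient.mk I' (mu J w) := by
      intro w
      induction w using TensorProduct.induction_on with
      | zero => simp
      | tmul b j =>
        rw [LinearMap.rTensor_tmul, LinearMap.lTensor_tmul, mu_tmul]
        simp only [AlgHom.toLinearMap_apply, Submodule.subtype_apply, TensorProduct.rid_tmul]
        exact (map_smul (Ideal.Quotient.mkₐ A' I') (j : A') b).symm
      | add x y hx hy => simp only [map_add, hx, hy]
    rw [key]
    exact Ideal.Quotient.eq_zero_iff_mem.mpr hz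
  rw [h0, map_zero]

end

theorem main' (A' : Type u) [CommRing A'] (J : Ideal A') (B' : Type u) [CommRing B']
    [Algebra A' B'] [Module.Flat A' B']
    (K : Ideal B') (hK : ∀ k ∈ K, ∃ z : B' ⊗[A'] ↥J, mu J z = k)
    (I : Ideal (B' ⧸ K))
    (I' I'' : Ideal B') [Module.Flat A' (B' ⧸ I')] [Module.Flat A' (B' ⧸ I'')]
    (hI' : I'.map (Ideal.Quotient.mk K) = I)
    (hI'' : I''.map (Ideal.Quotient.mk K) = I) :
    ∃! φ : ↥I →ₗ[B'] (((B' ⧸ K) ⧸ I) ⊗[A'] ↥J),
      (∀ (x : (B' ⧸ K)) (hx : x ∈ I) (x' x'' : B'), x' ∈ I' → x'' ∈ I'' →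
          Ideal.Quotient.mk K x' = x → Ideal.Quotient.mk K x'' = x →
          ∀ z : B' ⊗[A'] ↥J, mu J z = x'' - x' →
            LinearMap.rTensor ↥J (IsScalarTower.toAlgHom A' B' ((B' ⧸ K) ⧸ I)).toLinearMap z
              = φ ⟨x, hx⟩) := by
  classical
  have hkill' : ∀ b ∈ I', algebraMap B' ((B' ⧸ K) ⧸ I) b = 0 := by
    intro b hb
    have : Ideal.Quotient.mk K b ∈ I := hI' ▸ Ideal.mem_map_of_mem _ hb
    exact Ideal.Quotient.eq_zero_iff_mem.mpr this
  have hkill'' : ∀ b ∈ I'', algebraMap B' ((B' ⧸ K) ⧸ I) b = 0 := by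
    intro b hb
    have : Ideal.Quotient.mk K b ∈ I := hI'' ▸ Ideal.mem_map_of_mem _ hb
    exact Ideal.Quotient.eq_zero_iff_mem.mpr this
  have hex : ∀ x ∈ I, ∃ (x' x'' : B') (z : B' ⊗[A'] ↥J), x' ∈ I' ∧ x'' ∈ I'' ∧
      Ideal.Quotient.mk K x' = x ∧ Ideal.Quotient.mk K x'' = x ∧ mu J z = x'' - x' := by
    intro x hx
    have h1 : x ∈ I'.map (Ideal.Quotient.mk K) := hI'.symm ▸ hx
    obtain ⟨x', hx', rfl⟩ :=
      (Ideal.mem_map_iff_of_surjective _ Ideal.Quotient.mk_surjective).1 h1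
    have h2 : Ideal.Quotient.mk K x' ∈ I''.map (Ideal.Quotient.mk K) := hI''.symm ▸ hx
    obtain ⟨x'', hx'', h⟩ :=
      (Ideal.mem_map_iff_of_surjective _ Ideal.Quotient.mk_surjective).1 h2
    have hk : x'' - x' ∈ K := Ideal.Quotient.eq.mp h
    obtain ⟨z, hz⟩ := hK _ hk
    exact ⟨x', x'', z, hx', hx'', rfl, h, hz⟩
  have hwd : ∀ (x : B' ⧸ K) (x'₁ x''₁ : B') (z₁ : B' ⊗[A'] ↥J) (x'₂ x''₂ : B')
      (z₂ : B' ⊗[A'] ↥J),
      (x'₁ ∈ I' ∧ x''₁ ∈ I'' ∧ Ideal.Quotient.mk K x'₁ = x ∧ Ideal.Quotient.mk K x''₁ = x ∧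
        mu J z₁ = x''₁ - x'₁) →
      (x'₂ ∈ I' ∧ x''₂ ∈ I'' ∧ Ideal.Quotient.mk K x'₂ = x ∧ Ideal.Quotient.mk K x''₂ = x ∧
        mu J z₂ = x''₂ - x'₂) →
      rho J ((B' ⧸ K) ⧸ I) z₁ = rho J ((B' ⧸ K) ⧸ I) z₂ := by
    rintro x x'₁ x''₁ z₁ x'₂ x''₂ z₂ ⟨h1, h2, h3, h4, h5⟩ ⟨g1, g2, g3, g4, g5⟩
    have hk' : x'₁ - x'₂ ∈ K := Ideal.Quotient.eq.mp (h3.trans g3.symm)
    have hk'' : x''₁ - x''₂ ∈ K := Ideal.Quotient.eq.mp (h4.trans g4.symm)
    obtain ⟨w', hw'⟩ := hK _ hk'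
    obtain ⟨w'', hw''⟩ := hK _ hk''
    have hz : z₁ - z₂ = w'' - w' := by
      apply mu_injective J
      rw [map_sub, map_sub, h5, g5, hw', hw'']
      ring
    have e1 : rho J ((B' ⧸ K) ⧸ I) w' = 0 :=
      rho_eq_zero J I' _ hkill' w' (hw'.symm ▸ I'.sub_mem h1 g1)
    have e2 : rho J ((B' ⧸ K) ⧸ I) w'' = 0 :=
      rho_eq_zero J I'' _ hkill'' w'' (hw''.symm ▸ I''.sub_mem h2 g2)
    have : rho J ((B' ⧸ K) ⧸ I) z₁ - rho J ((B' ⧸ K) ⧸ I) z₂ = 0 := by
      rw [← map_sub, hz, map_sub, e1, e2, sub_zero]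
    exact sub_eq_zero.mp this
  choose f' f'' fz hf using hex
  refine ⟨{ toFun := fun x => rho J ((B' ⧸ K) ⧸ I) (fz x.1 x.2), map_add' := ?_,
            map_smul' := ?_ }, ?_, ?_⟩
  · intro x y
    rw [← map_add]
    apply hwd ((x + y : ↥I) : B' ⧸ K) _ _ _ (f' x.1 x.2 + f' y.1 y.2) (f'' x.1 x.2 + f'' y.1 y.2) _
      (hf _ _)
    obtain ⟨a1, a2, a3, a4, a5⟩ := hf x.1 x.2
    obtain ⟨b1, b2, b3, b4, b5⟩ := hf y.1 y.2
    refine ⟨I'.add_mem a1 b1, I''.add_mem a2 b2, ?_, ?_, ?_⟩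
    · rw [map_add, a3, b3]; rfl
    · rw [map_add, a4, b4]; rfl
    · rw [map_add, a5, b5]; ring
  · intro b x
    rw [RingHom.id_apply, ← rho_smul]
    apply hwd ((b • x : ↥I) : B' ⧸ K) _ _ _ (b * f' x.1 x.2) (b * f'' x.1 x.2) _ (hf _ _)
    obtain ⟨a1, a2, a3, a4, a5⟩ := hf x.1 x.2
    refine ⟨I'.mul_mem_left b a1, I''.mul_mem_left b a2, ?_, ?_, ?_⟩
    · rw [map_mul, a3]
      show _ = b • (x : B' ⧸ K)
      rw [Algebra.smul_def]; rfl
    · rw [map_mul, a4]
      show _ = b • (x : B' ⧸ K)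
      rw [Algebra.smul_def]; rfl
    · rw [mu_smul, a5]; ring
  · intro x hx x' x'' h1 h2 h3 h4 z h5
    exact hwd x x' x'' z _ _ _ ⟨h1, h2, h3, h4, h5⟩ (hf x hx)
  · intro φ₂ h₂
    apply LinearMap.ext
    rintro ⟨x, hx⟩
    obtain ⟨g1, g2, g3, g4, g5⟩ := hf x hx
    exact (h₂ x hx _ _ g1 g2 g3 g4 _ g5).symm

end H17367

/-- The affine computation, for a square-zero extension of Noetherian rings. Let A' be a Noetherian
ring, J an ideal with J·J = 0 and A = A'/J; let B' be a flat A'-algebra, B = B'/JB', I an ideal of B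
with B/I flat over A, and I', I'' two ideals of B' with A'-flat quotients whose images in B are both
I (two deformations over A' of the closed subscheme V(I) of Spec B inside Spec B'). Then there is
exactly one B'-linear map φ from I to (B/I) ⊗_{A'} J (that is, Hom_B(I, (B/I) ⊗_A J)) such that for
every x in I, all lifts x' in I' and x'' in I'' of x, and every z in B' ⊗_{A'} J whose image under
multiplication is x'' - x', the image of z in (B/I) ⊗_{A'} J equals φ(x). (The published statement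
is global (X' a separated scheme over A') and does not assume X' flat over A'; this row is the
affine case X' = Spec B' and assumes B' flat over A'.) -/
theorem result (A' : Type u) [CommRing A'] [IsNoetherianRing A']
    (J : Ideal A') (hJ : J * J = ⊥) (B' : Type u) [CommRing B'] [Algebra A' B'] [Module.Flat A' B']
    (I : Ideal (B' ⧸ J.map (algebraMap A' B')))
    [Module.Flat (A' ⧸ J) ((B' ⧸ J.map (algebraMap A' B')) ⧸ I)]
    (I' I'' : Ideal B') [Module.Flat A' (B' ⧸ I')] [Module.Flat A' (B' ⧸ I'')]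
    (hI' : I'.map (Ideal.Quotient.mk (J.map (algebraMap A' B'))) = I)
    (hI'' : I''.map (Ideal.Quotient.mk (J.map (algebraMap A' B'))) = I) :
    ∃! φ : ↥I →ₗ[B'] (((B' ⧸ J.map (algebraMap A' B')) ⧸ I) ⊗[A'] ↥J),
      (∀ (x : (B' ⧸ J.map (algebraMap A' B'))) (hx : x ∈ I) (x' x'' : B'), x' ∈ I' → x'' ∈ I'' →
          Ideal.Quotient.mk (J.map (algebraMap A' B')) x' = x → Ideal.Quotient.mk (J.map (algebraMap A' B')) x'' = x →
          ∀ z : B' ⊗[A'] ↥J, TensorProduct.rid A' B' (LinearMap.lTensor B' (Submodule.subtype J) z) = x'' - x' →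
            LinearMap.rTensor ↥J (IsScalarTower.toAlgHom A' B' ((B' ⧸ J.map (algebraMap A' B')) ⧸ I)).toLinearMap z = φ ⟨x, hx⟩) := by
  exact H17367.main' A' J B' _ (fun k hk => H17367.exists_mu_eq J hk) I I' I'' hI' hI''

end Groth.Agent.S17367
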