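import Groth.Statements.S1737
import Groth.Agent.Lib.Helper4.Depth

set_option autoImplicit false
universe u
open LocCoh

namespace Groth.Agent.S1737

open Groth.Agent.Lib.Helper4


/-- Let A be a Noetherian ring, T ⊆ Spec A stable under specialization and M a finite A-module. There
are a finite A-module M' and a surjection M → M' which is bijective after localizing at every prime
outside T and such that M'_p has depth ≥ 1 over A_p for every p in T. (The source states this for
coherent modules on a Noetherian scheme, with uniqueness.) -/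
theorem result (A : Type u) [CommRing A] [IsNoetherianRing A] (T : Set (PrimeSpectrum A)) (hT : StableUnderSpecialization T) (M : Type u) [AddCommGroup M] [Module A M] [Module.Finite A M] : ∃ (M' : Type u) (_ : AddCommGroup M') (_ : Module A M') (_ : Module.Finite A M') (f : M →ₗ[A] M'), Function.Surjective f ∧ (∀ p : PrimeSpectrum A, p ∉ T → Function.Bijective (LocalizedModule.map p.asIdeal.primeCompl f)) ∧ ∀ p : PrimeSpectrum A, p ∈ T → 1 ≤ LocCoh.depth (Localization.AtPrime p.asIdeal) (LocalizedModule p.asIdeal.primeCompl M') := by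
  classical
  let H : Submodule A M :=
    { carrier := {m | ∀ p : PrimeSpectrum A, p ∉ T → ∃ s ∈ p.asIdeal.primeCompl, s • m = 0}
      zero_mem' := fun p _ => ⟨1, Submonoid.one_mem _, by simp⟩
      add_mem' := by
        intro a b ha hb p hp
        obtain ⟨s, hs, hsa⟩ := ha p hp
        obtain ⟨t, ht, htb⟩ := hb p hp
        refine ⟨t * s, Submonoid.mul_mem _ ht hs, ?_⟩
        rw [smul_add, mul_smul, hsa, smul_zero, mul_comm, mul_smul, htb, smul_zero, add_zero]
      smul_mem' := by
        intro c a ha p hp
        obtain ⟨s, hs, hsa⟩ := ha p hp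
        exact ⟨s, hs, by rw [smul_comm, hsa, smul_zero]⟩ }
  have hH : ∀ m : M, m ∈ H ↔ ∀ p : PrimeSpectrum A, p ∉ T → ∃ s ∈ p.asIdeal.primeCompl, s • m = 0 :=
    fun m => Iff.rfl
  refine ⟨M ⧸ H, inferInstance, inferInstance, inferInstance, H.mkQ, H.mkQ_surjective, ?_, ?_⟩
  · intro p hp
    refine ⟨?_, LocalizedModule.map_surjective _ _ H.mkQ_surjective⟩
    rw [injective_iff_map_eq_zero]
    intro x hx
    induction x using LocalizedModule.induction_on with
    | h m s =>
      rw [LocalizedModule.map_mk, ← LocalizedModule.zero_mk s, LocalizedModule.mk_eq] at hx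
      obtain ⟨u, hu⟩ := hx
      rw [smul_zero, smul_zero] at hu
      have h1 : (u * s : A) • m ∈ H := by
        rw [← Submodule.Quotient.mk_eq_zero, Submodule.Quotient.mk_smul, mul_smul]
        exact hu
      obtain ⟨t, ht, htm⟩ := (hH _).mp h1 p hp
      rw [← LocalizedModule.zero_mk s, LocalizedModule.mk_eq]
      refine ⟨⟨t, ht⟩ * u, ?_⟩
      rw [smul_zero, smul_zero, mul_smul]
      change t • (u : A) • (s : A) • m = 0
      rw [← mul_smul (u : A)]
      exact htm
  · intro p hp
    rcases subsingleton_or_nontrivial (LocalizedModule p.asIdeal.primeCompl (M ⧸ H)) with hs | hn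
    · rw [depth_eq_top_of_subsingleton]; exact le_top
    · rw [Order.one_le_iff_ne_zero, Ne, depth_eq_zero_iff_maximalIdeal_mem_associatedPrimes]
      intro hass
      have h1 := Module.associatedPrimes.comap_mem_associatedPrimes_of_mem_associatedPrimes_of_isLocalizedModule_of_fg
        p.asIdeal.primeCompl (LocalizedModule.mkLinearMap p.asIdeal.primeCompl (M ⧸ H))
        (IsLocalRing.maximalIdeal (Localization.AtPrime p.asIdeal)) hass
        ((isNoetherianRing_iff_ideal_fg A).mp inferInstance _)
      have hcomap : (IsLocalRing.maximalIdeal (Localization.AtPrime p.asIdeal)).comap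
          (algebraMap A (Localization.AtPrime p.asIdeal)) = p.asIdeal :=
        IsLocalization.AtPrime.under_maximalIdeal _ _
      rw [hcomap] at h1
      obtain ⟨hprime, x, hx⟩ := (isAssociatedPrime_iff).mp h1
      obtain ⟨m, rfl⟩ := H.mkQ_surjective x
      have hm : m ∈ H := by
        rw [hH]
        intro q hq
        have hnle : ¬ p ≤ q := fun hle =>
          hq (hT ((PrimeSpectrum.le_iff_specializes p q).mp hle) hp)
        obtain ⟨a, hap, haq⟩ := Set.not_subset.mp hnle
        have h2 : a • H.mkQ m = 0 := by
          have : a ∈ Submodule.colon (⊥ : Submodule A (M ⧸ H)) {H.mkQ m} := by rw [← hx]; exact hap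
          rw [Submodule.mem_colon_singleton] at this
          exact (Submodule.mem_bot A).mp this
        have h3 : a • m ∈ H := by
          rw [← Submodule.Quotient.mk_eq_zero, Submodule.Quotient.mk_smul]; exact h2
        obtain ⟨s, hs, hsm⟩ := (hH _).mp h3 q hq
        refine ⟨s * a, Submonoid.mul_mem _ hs haq, ?_⟩
        rw [mul_smul]; exact hsm
      have h4 : H.mkQ m = 0 := (Submodule.Quotient.mk_eq_zero _).mpr hm
      rw [h4] at hx
      have : (1 : A) ∈ p.asIdeal := by
        rw [hx, Submodule.mem_colon_singleton]; simp
      exact hprime.ne_top ((Ideal.eq_top_iff_one _).mpr this)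

end Groth.Agent.S1737
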