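import Groth.Statements.S17391
import Mathlib
import Groth.Agent.Lib.Helper17.BlowSep

set_option autoImplicit false
universe u
open BlowUp

namespace Groth.Agent.S17391

open AlgebraicGeometry CategoryTheory Limits in
/-- Let X and Z be schemes, p : Z → X a morphism, U ⊆ V ⊆ X open subschemes, and f : Y → Z a
quasi-compact immersion whose composite with p lands in U. Let I₁ be a quasi-coherent ideal on X
whose support contains V ∖ U and is disjoint from U, and I₂ a quasi-coherent ideal whose support
lies in supp(I₁) ∖ V. Assume that the closed subscheme p⁻¹(V(I₁²)) ∩ Ȳ of Z, where Ȳ is the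
scheme-theoretic image of f, is contained in p⁻¹(V(I₂)) as a closed subscheme: the inverse image
ideal of I₂ on Z lies in the sum of the inverse image ideal of I₁² and the kernel ideal of f. Then
for every blowing up q : X' → X of X in I₁ + I₂, writing Z' = Z ×_X X' → X' and Y' = Y ×_Z Z' → Z'
for the base changes, the closure in Z' of the image of Y' is disjoint from the preimage in Z' of
the closure in X' of q⁻¹(V ∖ U). (The blowing up is an isomorphism over V, since the support of I₁ +
I₂ is that of I₂ and lies in X ∖ V; the point is that the closure of q⁻¹(V ∖ U) in X', which may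
reach over X ∖ V, still misses the closure of Y'.) -/
theorem result
    {X Y Z X' : Scheme.{u}} (p : Z ⟶ X) (U V : X.Opens) (hUV : U ≤ V)
    (f : Y ⟶ Z) [IsImmersion f] [QuasiCompact f] (hY : Set.range (fun y => p (f y)) ⊆ (U : Set X))
    (𝓘₁ 𝓘₂ : X.IdealSheafData)
    (h₁ : (V : Set X) \ (U : Set X) ⊆ (𝓘₁.support : Set X)) (h₁' : Disjoint (𝓘₁.support : Set X) (U : Set X))
    (h₂ : (𝓘₂.support : Set X) ⊆ (𝓘₁.support : Set X) \ (V : Set X))
    (hincl : 𝓘₂.comap p ≤ (𝓘₁ * 𝓘₁).comap p ⊔ f.ker)
    (q : X' ⟶ X) (hq : BlowUp.IsBlowUp q (𝓘₁ ⊔ 𝓘₂)) :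
    Disjoint (closure (Set.range (fun y => (pullback.snd f (pullback.fst p q)) y)))
      ((fun z => (pullback.snd p q) z) ⁻¹'
        closure ((fun x' => q x') ⁻¹' ((V : Set X) \ (U : Set X)))) := by
  have hmul : 𝓘₁ * 𝓘₁ ≤ 𝓘₁ := by
    intro W
    rw [Scheme.IdealSheafData.ideal_mul]
    exact Ideal.mul_le_right
  have hincl' : 𝓘₂.comap p ≤ 𝓘₁.comap p ⊔ f.ker :=
    hincl.trans (sup_le_sup_right (Scheme.IdealSheafData.comap_mono p hmul) _)
  have hcond : pullback.snd p q ≫ q = pullback.fst p q ≫ p := pullback.condition.symm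
  have hpt : ∀ z, q ((pullback.snd p q) z) = p ((pullback.fst p q) z) := by
    intro z
    rw [← Scheme.Hom.comp_apply, ← Scheme.Hom.comp_apply, hcond]
  have hpt2 : ∀ w, (pullback.fst p q) ((pullback.snd f (pullback.fst p q)) w) =
      f ((pullback.fst f (pullback.fst p q)) w) := by
    intro w
    rw [← Scheme.Hom.comp_apply, ← Scheme.Hom.comp_apply, pullback.condition]
  have hcomap : ∀ I : X.IdealSheafData, (I.comap q).comap (pullback.snd p q) =
      (I.comap p).comap (pullback.fst p q) := by
    intro I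
    rw [← Scheme.IdealSheafData.comap_comp, ← Scheme.IdealSheafData.comap_comp, hcond]
  have key := Groth.Agent.Lib.Helper17.BlowSep.disjoint_preimage_closure_closure
    (pullback.snd p q) ((𝓘₁ ⊔ 𝓘₂).comap q) (𝓘₁.comap q) (𝓘₂.comap q)
    (f.ker.comap (pullback.fst p q))
    hq.1 (Scheme.IdealSheafData.comap_sup _ _ _) ?_
    ((fun x' => q x') ⁻¹' ((V : Set X) \ (U : Set X))) ?_ ?_
    (Set.range (fun y => (pullback.snd f (pullback.fst p q)) y)) ?_ ?_
  · exact key.symm
  · rw [hcomap, hcomap, ← Scheme.IdealSheafData.comap_sup]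
    exact Scheme.IdealSheafData.comap_mono _ hincl'
  · intro y hy
    rw [Scheme.IdealSheafData.support_comap]
    exact h₁ hy
  · refine Set.disjoint_left.2 (fun y hy hy' => ?_)
    rw [Scheme.IdealSheafData.support_comap, Scheme.IdealSheafData.support_sup] at hy'
    exact (h₂ hy'.2).2 hy.1
  · rintro _ ⟨w, rfl⟩
    rw [Scheme.IdealSheafData.support_comap]
    change (pullback.fst p q) ((pullback.snd f (pullback.fst p q)) w) ∈ (f.ker.support : Set Z)
    rw [hpt2, Scheme.Hom.support_ker]
    exact subset_closure ⟨_, rfl⟩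
  · refine Set.disjoint_left.2 ?_
    rintro _ ⟨w, rfl⟩ hy'
    rw [Scheme.IdealSheafData.support_comap, Scheme.IdealSheafData.support_comap,
      Scheme.IdealSheafData.support_sup] at hy'
    have h1 : q ((pullback.snd p q) ((pullback.snd f (pullback.fst p q)) w)) ∈
        (𝓘₁.support : Set X) := hy'.1
    rw [hpt, hpt2] at h1
    exact Set.disjoint_left.1 h₁' h1 (hY ⟨_, rfl⟩)

end Groth.Agent.S17391
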