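import Groth.Statements.S17411
-- import your own Groth.Agent.* helpers here
import Mathlib
import Groth.Agent.Lib.Helper12.FibreDim

set_option autoImplicit false
universe u
open CategoryTheory AlgebraicGeometry
open Prym5

namespace Groth.Agent.S17411

open Groth.Agent.Lib.Helper12 Groth.Agent.Lib.Helper12.SchemeDimFT

/-- Let k be an algebraically closed field of characteristic zero and X, Y, Z schemes of finite type
over k, with Y and Z irreducible of the same dimension, η : Y → Z a dominant k-morphism and ρ : X →
Y a k-morphism. Then the composite ρ ≫ η is dominant exactly when ρ is dominant. (The published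
statement concerns the forgetful map from the moduli space of étale double covers of genus-five
curves to the moduli space of genus-five curves, both irreducible of dimension 12, and a morphism
into the former; its argument uses only the hypotheses kept here.) -/
theorem result (k : Type u) [Field k] [IsAlgClosed k]
    [CharZero k] (X Y Z : Scheme.{u}) [X.Over (Spec (CommRingCat.of k))] [Y.Over (Spec (CommRingCat.of k))]
    [Z.Over (Spec (CommRingCat.of k))]
    [LocallyOfFiniteType (X ↘ Spec (CommRingCat.of k))] [QuasiCompact (X ↘ Spec (CommRingCat.of k))]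
    [LocallyOfFiniteType (Y ↘ Spec (CommRingCat.of k))] [QuasiCompact (Y ↘ Spec (CommRingCat.of k))]
    [LocallyOfFiniteType (Z ↘ Spec (CommRingCat.of k))] [QuasiCompact (Z ↘ Spec (CommRingCat.of k))]
    [IrreducibleSpace Y] [IrreducibleSpace Z] (hdim : topologicalKrullDim Y = topologicalKrullDim Z)
    (ρ : X ⟶ Y) [ρ.IsOver (Spec (CommRingCat.of k))] (η : Y ⟶ Z) [η.IsOver (Spec (CommRingCat.of k))]
    [IsDominant η] :
    IsDominant (ρ ≫ η) ↔ IsDominant ρ := by
  constructor
  · intro hdom
    haveI : IsLocallyNoetherian Z :=
      LocallyOfFiniteType.isLocallyNoetherian (Z ↘ Spec (CommRingCat.of k))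
    haveI : CompactSpace X :=
      QuasiCompact.compactSpace_of_compactSpace (X ↘ Spec (CommRingCat.of k))
    haveI : QuasiCompact (ρ ≫ η) := inferInstance
    have hζmax : IsMaxPt (genericPoint Z) := by
      intro y hy
      exact (hy.antisymm ((genericPoint_spec Z).specializes (Set.mem_univ y))).eq
    have hcomp : closure ({genericPoint Z} : Set Z) ∈ irreducibleComponents Z :=
      (closure_singleton_mem_irreducibleComponents_iff _).mpr hζmax
    obtain ⟨x, hx⟩ := GenImage.exists_preimage_of_generic (ρ ≫ η) (genericPoint Z) hcomp
    have hηy : η (ρ x) = genericPoint Z := hx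
    have hover : η ≫ (Z ↘ Spec (CommRingCat.of k)) = (Y ↘ Spec (CommRingCat.of k)) :=
      CategoryTheory.comp_over η (Spec (CommRingCat.of k))
    have h1 := trdeg_le_of_hom k (Z ↘ Spec (CommRingCat.of k)) (Y ↘ Spec (CommRingCat.of k))
      η hover (ρ x)
    rw [hηy] at h1
    have h1' : tr k Z (genericPoint Z) ≤ tr k Y (ρ x) := by
      have h2 : (tr k Z (genericPoint Z) : Cardinal.{u}) ≤ (tr k Y (ρ x) : Cardinal.{u}) := by
        rw [← tr_spec k Z, ← tr_spec k Y]; exact h1
      exact_mod_cast h2
    have hdY := topologicalKrullDim_eq_of_irreducible k Y (tr k Y (genericPoint Y))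
      (tr_spec k Y (genericPoint Y))
    have hdZ := topologicalKrullDim_eq_of_irreducible k Z (tr k Z (genericPoint Z))
      (tr_spec k Z (genericPoint Z))
    rw [hdY, hdZ] at hdim
    have hdim' : tr k Y (genericPoint Y) = tr k Z (genericPoint Z) := by exact_mod_cast hdim
    have hsp : genericPoint Y ⤳ ρ x := (genericPoint_spec Y).specializes (Set.mem_univ _)
    have heq : genericPoint Y = ρ x := by
      by_contra hne
      have := tr_lt_of_specializes k Y _ _ hsp hne
      omega
    refine ⟨?_⟩
    rw [DenseRange, dense_iff_closure_eq]
    apply Set.eq_univ_of_univ_subset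
    rw [← (genericPoint_spec Y).def]
    exact closure_mono (Set.singleton_subset_iff.mpr ⟨x, heq.symm⟩)
  · intro hdom
    infer_instance

end Groth.Agent.S17411
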