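import Groth.Statements.S17414
import Groth.Agent.Lib.Helper26.MvPolyVars

set_option autoImplicit false
universe u
open Prym5

namespace Groth.Agent.S17414

/-- Over a perfect field K of characteristic different from 2 and 3, let G₂, G₃, G₄ be polynomials in x,
y, let h = G₂ z² + 2 G₃ z + G₄ in K[x, y, z] and D = G₃² − G₂ G₄ in K[x, y]. Suppose h ∈ (x, y, z) —
the origin Q lies on the surface h = 0 — and D ∈ (x, y) — the image of Q under (x, y, z) ↦ (x, y)
lies on the discriminant curve D = 0. Then D ∈ (x, y)², i.e. the image point is singular on the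
discriminant curve, if and only if either h ∈ (x, y, z)², i.e. Q is a singular point of the surface,
or G₂, G₃, G₄ ∈ (x, y), i.e. Q lies on all three cones G₂ = G₃ = G₄ = 0. (Affine-local form, in a
chart where the node projected from sits at infinity on the z-axis and Q at the origin, of the
published claim: for a point Q ≠ P of the nodal quartic whose projection lies on the branch sextic,
the projection is singular on the sextic exactly when Q is singular on the quartic or lies on the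
cones u₂ = u₃ = u₄ = 0.) -/
theorem result (K : Type u) [Field K] [PerfectField K]
    (h2 : (2 : K) ≠ 0) (h3 : (3 : K) ≠ 0) (G₂ G₃ G₄ : MvPolynomial (Fin 2) K)
    (hQ : MvPolynomial.rename (Fin.castSucc : Fin 2 → Fin 3) G₂ * MvPolynomial.X (2 : Fin 3) ^ 2
        + 2 * MvPolynomial.rename (Fin.castSucc : Fin 2 → Fin 3) G₃ * MvPolynomial.X (2 : Fin 3)
        + MvPolynomial.rename (Fin.castSucc : Fin 2 → Fin 3) G₄
        ∈ Ideal.span (Set.range (MvPolynomial.X : Fin 3 → MvPolynomial (Fin 3) K)))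
    (hD : G₃ ^ 2 - G₂ * G₄ ∈ Ideal.span (Set.range (MvPolynomial.X : Fin 2 → MvPolynomial (Fin 2) K))) :
    G₃ ^ 2 - G₂ * G₄ ∈ (Ideal.span (Set.range (MvPolynomial.X : Fin 2 → MvPolynomial (Fin 2) K))) ^ 2 ↔
      (MvPolynomial.rename (Fin.castSucc : Fin 2 → Fin 3) G₂ * MvPolynomial.X (2 : Fin 3) ^ 2
          + 2 * MvPolynomial.rename (Fin.castSucc : Fin 2 → Fin 3) G₃ * MvPolynomial.X (2 : Fin 3)
          + MvPolynomial.rename (Fin.castSucc : Fin 2 → Fin 3) G₄
          ∈ (Ideal.span (Set.range (MvPolynomial.X : Fin 3 → MvPolynomial (Fin 3) K))) ^ 2 ∨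
        (G₂ ∈ Ideal.span (Set.range (MvPolynomial.X : Fin 2 → MvPolynomial (Fin 2) K)) ∧
          G₃ ∈ Ideal.span (Set.range (MvPolynomial.X : Fin 2 → MvPolynomial (Fin 2) K)) ∧
          G₄ ∈ Ideal.span (Set.range (MvPolynomial.X : Fin 2 → MvPolynomial (Fin 2) K)))) := by
  -- constant coefficients
  have hG4 : G₄ ∈ Lib.Helper26.MvPolyVars.mIdeal (K := K) 2 := by
    have h1 := Lib.Helper26.MvPolyVars.setZ0_mem 1 _ (by rw [pow_one]; exact hQ)
    rw [pow_one] at h1
    have h2' := Lib.Helper26.MvPolyVars.setZ0_quad G₂ G₃ G₄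
    unfold Lib.Helper26.MvPolyVars.quad at h2'
    rw [h2'] at h1
    exact h1
  have hc4 : MvPolynomial.constantCoeff G₄ = 0 := (Lib.Helper26.MvPolyVars.mem_mIdeal_iff G₄).1 hG4
  have hG3 : G₃ ∈ Lib.Helper26.MvPolyVars.mIdeal (K := K) 2 := by
    rw [Lib.Helper26.MvPolyVars.mem_mIdeal_iff]
    have hD' := (Lib.Helper26.MvPolyVars.mem_mIdeal_iff _).1 hD
    rw [map_sub, map_pow, map_mul, hc4, mul_zero, sub_zero] at hD'
    exact pow_eq_zero_iff (two_ne_zero) |>.1 hD'
  have hG3sq : G₃ ^ 2 ∈ (Lib.Helper26.MvPolyVars.mIdeal (K := K) 2) ^ 2 := Ideal.pow_mem_pow hG3 2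
  constructor
  · intro hDsq
    have hprod : G₂ * G₄ ∈ (Lib.Helper26.MvPolyVars.mIdeal (K := K) 2) ^ 2 := by
      have : G₂ * G₄ = G₃ ^ 2 - (G₃ ^ 2 - G₂ * G₄) := by ring
      rw [this]
      exact Ideal.sub_mem _ hG3sq hDsq
    by_cases hc2 : MvPolynomial.constantCoeff G₂ = 0
    · right
      exact ⟨(Lib.Helper26.MvPolyVars.mem_mIdeal_iff G₂).2 hc2, hG3, hG4⟩
    · left
      apply Lib.Helper26.MvPolyVars.quad_mem_sq G₂ G₃ G₄ hG3
      -- G₂ = c + g with g ∈ 𝔪
      set c := MvPolynomial.constantCoeff G₂ with hc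
      have hg : G₂ - MvPolynomial.C c ∈ Lib.Helper26.MvPolyVars.mIdeal (K := K) 2 := by
        rw [Lib.Helper26.MvPolyVars.mem_mIdeal_iff, map_sub, MvPolynomial.constantCoeff_C, sub_self]
      have hgG4 : (G₂ - MvPolynomial.C c) * G₄ ∈ (Lib.Helper26.MvPolyVars.mIdeal (K := K) 2) ^ 2 := by
        rw [pow_two]
        exact Ideal.mul_mem_mul hg hG4
      have hcG4 : MvPolynomial.C c * G₄ ∈ (Lib.Helper26.MvPolyVars.mIdeal (K := K) 2) ^ 2 := by
        have : MvPolynomial.C c * G₄ = G₂ * G₄ - (G₂ - MvPolynomial.C c) * G₄ := by ring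
        rw [this]
        exact Ideal.sub_mem _ hprod hgG4
      have : G₄ = MvPolynomial.C c⁻¹ * (MvPolynomial.C c * G₄) := by
        rw [← mul_assoc, ← MvPolynomial.C_mul, inv_mul_cancel₀ hc2, MvPolynomial.C_1, one_mul]
      rw [this]
      exact Ideal.mul_mem_left _ _ hcG4
  · rintro (hq | ⟨hG2, -, -⟩)
    · obtain ⟨-, hG4sq⟩ := Lib.Helper26.MvPolyVars.of_quad_mem_sq h2 G₂ G₃ G₄ hq
      exact Ideal.sub_mem _ hG3sq (Ideal.mul_mem_left _ _ hG4sq)
    · refine Ideal.sub_mem _ hG3sq ?_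
      rw [pow_two]
      exact Ideal.mul_mem_mul hG2 hG4

end Groth.Agent.S17414
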