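import Groth.Statements.S17445
import Mathlib

set_option autoImplicit false
open Finset
open SSRed

namespace Groth.Agent.S17445


lemma val_le_of_dvd {p a b : ℕ} (hp : p.Prime) (hb : b ≠ 0) (h : a ∣ b) :
    padicValNat p a ≤ padicValNat p b := by
  haveI := Fact.mk hp
  exact (padicValNat_dvd_iff_le hb).1 (dvd_trans pow_padicValNat_dvd h)

lemma dvd_of_forall_val_le {a b : ℕ} (ha : a ≠ 0)
    (h : ∀ p : ℕ, p.Prime → padicValNat p a ≤ padicValNat p b) (hb : b ≠ 0) : a ∣ b := by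
  rw [← Nat.factorization_le_iff_dvd ha hb]
  intro p
  by_cases hp : p.Prime
  · rw [Nat.factorization_def a hp, Nat.factorization_def b hp]; exact h p hp
  · rw [Nat.factorization_eq_zero_of_not_prime a hp]; exact Nat.zero_le _

lemma val_prod {ι : Type*} (p : ℕ) [Fact p.Prime] (s : Finset ι) (f : ι → ℕ)
    (hf : ∀ i ∈ s, f i ≠ 0) :
    padicValNat p (∏ i ∈ s, f i) = ∑ i ∈ s, padicValNat p (f i) := by
  classical
  induction s using Finset.induction_on with
  | empty => simp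
  | insert a s ha ih =>
    have h1 : f a ≠ 0 := hf a (Finset.mem_insert_self a s)
    have h2 : ∀ i ∈ s, f i ≠ 0 := fun i hi => hf i (Finset.mem_insert_of_mem hi)
    have h3 : ∏ i ∈ s, f i ≠ 0 := Finset.prod_ne_zero_iff.mpr h2
    rw [Finset.prod_insert ha, Finset.sum_insert ha, padicValNat.mul h1 h3, ih h2]

lemma val_factorial (p : ℕ) [Fact p.Prime] (n : ℕ) :
    padicValNat p n.factorial = ∑ i ∈ Icc 1 n, padicValNat p i := by
  induction n with
  | zero => simp
  | succ n ih =>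
    rw [Nat.factorial_succ, padicValNat.mul (Nat.succ_ne_zero n) (Nat.factorial_ne_zero n), ih,
      Finset.sum_Icc_succ_top (by omega)]
    exact add_comm _ _

lemma val_eq_of {p n k : ℕ} [Fact p.Prime] (hn : n ≠ 0) (h1 : p ^ k ∣ n)
    (h2 : ¬ p ^ (k + 1) ∣ n) : padicValNat p n = k := by
  have a1 := (padicValNat_dvd_iff_le (p := p) hn).1 h1
  have a2 : ¬ (k + 1 ≤ padicValNat p n) :=
    fun h => h2 ((padicValNat_dvd_iff_le (p := p) hn).2 h)
  omega

lemma factor_ne_zero {l a : ℕ} (hl : 2 ≤ l) (ha : 1 ≤ a) : l ^ (2 * a) - 1 ≠ 0 := by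
  have : 1 < l ^ (2 * a) := Nat.one_lt_pow (by omega) (by omega)
  omega

lemma fermat_dvd {p l : ℕ} (hp : p.Prime) (hpl : ¬ p ∣ l) : p ∣ l ^ (p - 1) - 1 := by
  have hcop : Nat.Coprime l p := ((Nat.Prime.coprime_iff_not_dvd hp).2 hpl).symm
  have h := Nat.ModEq.pow_totient hcop
  rw [Nat.totient_prime hp] at h
  have hl0 : 0 < l := Nat.pos_of_ne_zero (fun h0 => hpl (h0 ▸ dvd_zero p))
  exact (Nat.modEq_iff_dvd' (Nat.one_le_pow _ _ hl0)).1 h.symm

lemma two_val_term {l a : ℕ} (hl1 : 1 < l) (hl : ¬ 2 ∣ l) (ha : 1 ≤ a) :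
    padicValNat 2 (l ^ (2 * a) - 1) =
      padicValNat 2 (l + 1) + padicValNat 2 (l - 1) + padicValNat 2 a := by
  have h := padicValNat.pow_two_sub_one hl1 hl (n := 2 * a) (by omega) (even_two_mul a)
  have h2 : padicValNat 2 (2 * a) = 1 + padicValNat 2 a := by
    rw [padicValNat.mul (by norm_num) (by omega), padicValNat_self]
  omega

lemma two_sum {l g : ℕ} (hl1 : 1 < l) (hl : ¬ 2 ∣ l) :
    padicValNat 2 (∏ a ∈ Icc 1 g, (l ^ (2 * a) - 1)) =
      g * (padicValNat 2 (l + 1) + padicValNat 2 (l - 1)) + padicValNat 2 g.factorial := by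
  rw [val_prod 2 _ _ (fun a ha => factor_ne_zero (by omega) (Finset.mem_Icc.1 ha).1),
    val_factorial]
  rw [Finset.sum_congr rfl (fun a ha => two_val_term hl1 hl (Finset.mem_Icc.1 ha).1)]
  rw [Finset.sum_add_distrib, Finset.sum_const, Nat.card_Icc]
  simp

lemma two_c_ge {l : ℕ} (hl1 : 1 < l) (hl : ¬ 2 ∣ l) :
    3 ≤ padicValNat 2 (l + 1) + padicValNat 2 (l - 1) := by
  have h8 : 2 ^ 3 ∣ (l + 1) * (l - 1) := by
    obtain ⟨k, hk⟩ : ∃ k, l = 2 * k + 1 := ⟨l / 2, by omega⟩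
    subst hk
    obtain ⟨m, hm⟩ := Nat.even_mul_succ_self k
    refine ⟨m, ?_⟩
    have e1 : 2 * k + 1 - 1 = 2 * k := by omega
    have e2 : (2 * k + 1 + 1) * (2 * k) = 4 * (k * (k + 1)) := by ring
    rw [e1, e2, hm]; ring
  have hne : (l + 1) * (l - 1) ≠ 0 := Nat.mul_ne_zero (by omega) (by omega)
  rw [← padicValNat.mul (by omega) (by omega)]
  exact (padicValNat_dvd_iff_le hne).1 h8

lemma odd_val_term {p l i : ℕ} (hp : p.Prime) (hp2 : p ≠ 2) (hpl : ¬ p ∣ l) (hl1 : 1 < l)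
    (hi : 1 ≤ i) :
    padicValNat p (l ^ ((p - 1) * i) - 1) =
      padicValNat p (l ^ (p - 1) - 1) + padicValNat p i := by
  haveI := Fact.mk hp
  have hodd : Odd p := hp.odd_of_ne_two hp2
  have hp1 : p - 1 ≠ 0 := by have := hp.two_le; omega
  have hx1 : 1 < l ^ (p - 1) := Nat.one_lt_pow hp1 hl1
  have hnd : ¬ p ∣ l ^ (p - 1) := fun hd => hpl (hp.dvd_of_dvd_pow hd)
  have h := padicValNat.pow_sub_pow (p := p) hodd (x := l ^ (p - 1)) (y := 1) hx1
    (fermat_dvd hp hpl) hnd (n := i) (by omega)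
  rw [one_pow, ← pow_mul] at h
  exact h

lemma odd_setup {p : ℕ} (hp : p.Prime) (hp2 : p ≠ 2) :
    ∃ h, 1 ≤ h ∧ p - 1 = 2 * h := by
  obtain ⟨k, hk⟩ := hp.odd_of_ne_two hp2
  have := hp.two_le
  exact ⟨k, by omega, by omega⟩

lemma odd_lower {p l g : ℕ} (hp : p.Prime) (hp2 : p ≠ 2) (hpl : ¬ p ∣ l) (hl1 : 1 < l) :
    (2 * g) / (p - 1) + ∑ i ∈ Icc 1 ((2 * g) / (p - 1)), padicValNat p i ≤
      padicValNat p (∏ a ∈ Icc 1 g, (l ^ (2 * a) - 1)) := by
  haveI := Fact.mk hp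
  obtain ⟨h, hh1, hp1⟩ := odd_setup hp hp2
  have hr : (2 * g) / (p - 1) = g / h := by
    rw [hp1, Nat.mul_div_mul_left _ _ (by norm_num : 0 < 2)]
  rw [hr]
  rw [val_prod p _ _ (fun a ha => factor_ne_zero (by omega) (Finset.mem_Icc.1 ha).1)]
  have hsub : (Icc 1 (g / h)).image (fun i => h * i) ⊆ Icc 1 g := by
    intro a ha
    obtain ⟨i, hi, rfl⟩ := Finset.mem_image.1 ha
    rw [Finset.mem_Icc] at hi ⊢
    constructor
    · exact Nat.mul_pos hh1 hi.1
    · calc h * i ≤ h * (g / h) := Nat.mul_le_mul_left h hi.2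
        _ ≤ g := Nat.mul_div_le g h
  have hx1 : 1 < l ^ (p - 1) := Nat.one_lt_pow (by omega) hl1
  have hone : 1 ≤ padicValNat p (l ^ (p - 1) - 1) :=
    one_le_padicValNat_of_dvd (by omega) (fermat_dvd hp hpl)
  calc g / h + ∑ i ∈ Icc 1 (g / h), padicValNat p i
      = ∑ i ∈ Icc 1 (g / h), (1 + padicValNat p i) := by
        rw [Finset.sum_add_distrib, Finset.sum_const, Nat.card_Icc]; simp
    _ ≤ ∑ i ∈ Icc 1 (g / h), padicValNat p (l ^ (2 * (h * i)) - 1) := by
        apply Finset.sum_le_sum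
        intro i hi
        have hi1 := (Finset.mem_Icc.1 hi).1
        have e : 2 * (h * i) = (p - 1) * i := by rw [hp1]; ring
        rw [e, odd_val_term hp hp2 hpl hl1 hi1]
        omega
    _ = ∑ a ∈ (Icc 1 (g / h)).image (fun i => h * i), padicValNat p (l ^ (2 * a) - 1) := by
        rw [Finset.sum_image (by
          intro x _ y _ hxy
          exact Nat.eq_of_mul_eq_mul_left (by omega) hxy)]
    _ ≤ ∑ a ∈ Icc 1 g, padicValNat p (l ^ (2 * a) - 1) :=
        Finset.sum_le_sum_of_subset hsub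

lemma odd_upper {p l g : ℕ} (hp : p.Prime) (hp2 : p ≠ 2) (hpl : ¬ p ∣ l) (hl1 : 1 < l)
    (F1 : ∀ a, 1 ≤ a → p ∣ l ^ (2 * a) - 1 → (p - 1) ∣ 2 * a)
    (F2 : padicValNat p (l ^ (p - 1) - 1) = 1) :
    padicValNat p (∏ a ∈ Icc 1 g, (l ^ (2 * a) - 1)) =
      (2 * g) / (p - 1) + ∑ i ∈ Icc 1 ((2 * g) / (p - 1)), padicValNat p i := by
  haveI := Fact.mk hp
  obtain ⟨h, hh1, hp1⟩ := odd_setup hp hp2
  have hr : (2 * g) / (p - 1) = g / h := by
    rw [hp1, Nat.mul_div_mul_left _ _ (by norm_num : 0 < 2)]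
  rw [hr]
  rw [val_prod p _ _ (fun a ha => factor_ne_zero (by omega) (Finset.mem_Icc.1 ha).1)]
  have hsub : (Icc 1 (g / h)).image (fun i => h * i) ⊆ Icc 1 g := by
    intro a ha
    obtain ⟨i, hi, rfl⟩ := Finset.mem_image.1 ha
    rw [Finset.mem_Icc] at hi ⊢
    constructor
    · exact Nat.mul_pos hh1 hi.1
    · calc h * i ≤ h * (g / h) := Nat.mul_le_mul_left h hi.2
        _ ≤ g := Nat.mul_div_le g h
  have hzero : ∀ a ∈ Icc 1 g, a ∉ (Icc 1 (g / h)).image (fun i => h * i) →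
      padicValNat p (l ^ (2 * a) - 1) = 0 := by
    intro a ha hna
    by_contra hne
    have hpos : 1 ≤ padicValNat p (l ^ (2 * a) - 1) := Nat.one_le_iff_ne_zero.2 hne
    have hd : p ∣ l ^ (2 * a) - 1 := dvd_of_one_le_padicValNat hpos
    have ha' := Finset.mem_Icc.1 ha
    obtain ⟨c, hc⟩ := F1 a ha'.1 hd
    rw [hp1] at hc
    have hac : a = h * c := by
      have : 2 * a = 2 * (h * c) := by rw [hc]; ring
      omega
    apply hna
    rw [Finset.mem_image]
    refine ⟨c, Finset.mem_Icc.2 ⟨?_, ?_⟩, hac.symm⟩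
    · rcases Nat.eq_zero_or_pos c with h0 | h0
      · rw [h0, Nat.mul_zero] at hac; omega
      · exact h0
    · rw [Nat.le_div_iff_mul_le (by omega)]
      calc c * h = a := by rw [hac]; ring
        _ ≤ g := ha'.2
  rw [← Finset.sum_subset hsub hzero]
  rw [Finset.sum_image (by
    intro x _ y _ hxy
    exact Nat.eq_of_mul_eq_mul_left (by omega) hxy)]
  have hterm : ∀ i ∈ Icc 1 (g / h),
      padicValNat p (l ^ (2 * (h * i)) - 1) = 1 + padicValNat p i := by
    intro i hi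
    have hi1 := (Finset.mem_Icc.1 hi).1
    have e : 2 * (h * i) = (p - 1) * i := by rw [hp1]; ring
    rw [e, odd_val_term hp hp2 hpl hl1 hi1, F2]
  rw [Finset.sum_congr rfl hterm, Finset.sum_add_distrib, Finset.sum_const, Nat.card_Icc]
  simp

lemma exists_good_prime {p : ℕ} (hp : p.Prime) (hp2 : p ≠ 2) (B : ℕ) :
    ∃ l : ℕ, l.Prime ∧ B < l ∧ ¬ p ∣ l ∧
      (∀ a, 1 ≤ a → p ∣ l ^ (2 * a) - 1 → (p - 1) ∣ 2 * a) ∧
      padicValNat p (l ^ (p - 1) - 1) = 1 := by
  haveI := Fact.mk hp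
  have hodd : Odd p := hp.odd_of_ne_two hp2
  haveI : NeZero (p ^ 2) := ⟨pow_ne_zero _ hp.ne_zero⟩
  haveI : IsCyclic (ZMod (p ^ 2))ˣ := ZMod.isCyclic_units_of_prime_pow p hp hp2 2
  obtain ⟨u, hu⟩ := IsCyclic.exists_generator (α := (ZMod (p ^ 2))ˣ)
  have hord : orderOf u = p * (p - 1) := by
    rw [orderOf_eq_card_of_forall_mem_zpowers hu, Nat.card_eq_fintype_card,
      ZMod.card_units_eq_totient, Nat.totient_prime_pow hp (by norm_num)]
    simp
  obtain ⟨l, hlgt, hlp, hlmod⟩ :=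
    Nat.forall_exists_prime_gt_and_eq_mod (q := p ^ 2) (a := (u : ZMod (p ^ 2))) u.isUnit
      (max B p)
  have hlB : B < l := lt_of_le_of_lt (le_max_left _ _) hlgt
  have hlp' : p < l := lt_of_le_of_lt (le_max_right _ _) hlgt
  have hpl : ¬ p ∣ l := by
    intro hd
    have := (Nat.prime_dvd_prime_iff_eq hp hlp).1 hd
    omega
  have key : ∀ k, p ^ 2 ∣ l ^ k - 1 → p * (p - 1) ∣ k := by
    intro k hk
    have h1 : ((l ^ k - 1 : ℕ) : ZMod (p ^ 2)) = 0 := (ZMod.natCast_eq_zero_iff _ _).2 hk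
    have hl1 : 1 ≤ l ^ k := Nat.one_le_pow _ _ hlp.pos
    rw [Nat.cast_sub hl1, Nat.cast_pow, Nat.cast_one, hlmod, sub_eq_zero] at h1
    have h2 : u ^ k = 1 := Units.ext (by rw [Units.val_pow_eq_pow_val, h1, Units.val_one])
    rw [← hord]
    exact orderOf_dvd_of_pow_eq_one h2
  have hp1 : p - 1 ≠ 0 := by have := hp.two_le; omega
  refine ⟨l, hlp, hlB, hpl, ?_, ?_⟩
  · intro a ha hd
    have hx1 : 1 < l ^ (2 * a) := Nat.one_lt_pow (by omega) hlp.one_lt
    have hnd : ¬ p ∣ l ^ (2 * a) := fun h => hpl (hp.dvd_of_dvd_pow h)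
    have h := padicValNat.pow_sub_pow (p := p) hodd (x := l ^ (2 * a)) (y := 1) hx1 hd hnd
      (n := p) hp.ne_zero
    rw [one_pow, ← pow_mul, padicValNat_self] at h
    have h1 : 1 ≤ padicValNat p (l ^ (2 * a) - 1) := one_le_padicValNat_of_dvd (by omega) hd
    have hne : l ^ (2 * a * p) - 1 ≠ 0 := by
      have : 1 < l ^ (2 * a * p) :=
        Nat.one_lt_pow (Nat.mul_ne_zero (by omega) hp.ne_zero) hlp.one_lt
      omega
    have h2 : p ^ 2 ∣ l ^ (2 * a * p) - 1 := by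
      rw [padicValNat_dvd_iff_le hne]
      omega
    have h3 := key _ h2
    rw [mul_comm (2 * a) p] at h3
    exact Nat.dvd_of_mul_dvd_mul_left hp.pos h3
  · have hx1 : 1 < l ^ (p - 1) := Nat.one_lt_pow hp1 hlp.one_lt
    refine val_eq_of (k := 1) (by omega) (by simpa using fermat_dvd hp hpl) ?_
    intro h
    have h3 := key _ h
    have h4 := Nat.le_of_dvd (Nat.pos_of_ne_zero hp1) h3
    have h5 : 2 * (p - 1) ≤ p * (p - 1) := Nat.mul_le_mul_right (p - 1) hp.two_le
    omega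

lemma val_N_two (g e₂ : ℕ) (e : ℕ → ℕ) :
    padicValNat 2 (2 ^ e₂ * ∏ q ∈ (Icc 3 (2 * g + 1)).filter Nat.Prime, q ^ e q) = e₂ := by
  have hS : ∀ q ∈ (Icc 3 (2 * g + 1)).filter Nat.Prime, q ^ e q ≠ 0 := by
    intro q hq
    exact pow_ne_zero _ (Finset.mem_filter.1 hq).2.ne_zero
  rw [padicValNat.mul (pow_ne_zero _ two_ne_zero) (Finset.prod_ne_zero_iff.2 hS),
    val_prod 2 _ _ hS, padicValNat.pow, padicValNat_self, mul_one]
  rw [Finset.sum_eq_zero, add_zero]
  intro q hq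
  have hq' := Finset.mem_filter.1 hq
  have hqp := hq'.2
  haveI := Fact.mk hqp
  have h3 := (Finset.mem_Icc.1 hq'.1).1
  rw [padicValNat.pow, padicValNat_primes (by omega : (2 : ℕ) ≠ q), mul_zero]

lemma val_N_odd (g e₂ : ℕ) (e : ℕ → ℕ) {p : ℕ} (hp : p.Prime) (hp2 : p ≠ 2) :
    padicValNat p (2 ^ e₂ * ∏ q ∈ (Icc 3 (2 * g + 1)).filter Nat.Prime, q ^ e q) =
      if p ∈ (Icc 3 (2 * g + 1)).filter Nat.Prime then e p else 0 := by
  haveI := Fact.mk hp
  have hS : ∀ q ∈ (Icc 3 (2 * g + 1)).filter Nat.Prime, q ^ e q ≠ 0 := by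
    intro q hq
    exact pow_ne_zero _ (Finset.mem_filter.1 hq).2.ne_zero
  rw [padicValNat.mul (pow_ne_zero _ two_ne_zero) (Finset.prod_ne_zero_iff.2 hS),
    val_prod p _ _ hS, padicValNat.pow, padicValNat_primes hp2, mul_zero, zero_add]
  have hterm : ∀ q ∈ (Icc 3 (2 * g + 1)).filter Nat.Prime,
      padicValNat p (q ^ e q) = if p = q then e q else 0 := by
    intro q hq
    have hqp := (Finset.mem_filter.1 hq).2
    haveI := Fact.mk hqp
    rw [padicValNat.pow]
    split_ifs with h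
    · subst h; rw [padicValNat_self, mul_one]
    · rw [padicValNat_primes h, mul_zero]
  rw [Finset.sum_congr rfl hterm, Finset.sum_ite_eq]



/-- For natural numbers g and B with B ≥ 2g + 1, a natural number d divides ∏_{a=1}^{g} (ℓ^{2a} - 1) for
every prime ℓ > B if and only if d divides N(g) = 2^{3g + v₂(g!)} · ∏_{3 ≤ p ≤ 2g+1, p prime}
p^{[2g/(p-1)] + Σ_{1 ≤ i ≤ [2g/(p-1)]} v_p(i)}. In words: N(g) is the greatest common divisor of
these products as ℓ runs through the primes beyond any bound that is at least 2g + 1; its prime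
factors are the primes p ≤ 2g + 1. (This is the number N(g) of the published result, which bounds
the degree of the field of semistable reduction of a g-dimensional abelian variety over a strictly
henselian discretely valued field; the printed phrase is the greatest common divisor over all large
primes, made precise here by the bound 2g + 1, below which a prime ℓ ≤ 2g + 1 divides N(g) but not
its own product.) -/
theorem result (g B d : ℕ) (hB : 2 * g + 1 ≤ B) :
    (∀ ℓ : ℕ, ℓ.Prime → B < ℓ → d ∣ ∏ a ∈ Icc 1 g, (ℓ ^ (2 * a) - 1)) ↔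
      d ∣ 2 ^ (3 * g + padicValNat 2 g.factorial) *
        ∏ p ∈ (Icc 3 (2 * g + 1)).filter Nat.Prime,
          p ^ ((2 * g) / (p - 1) + ∑ i ∈ Icc 1 ((2 * g) / (p - 1)), padicValNat p i) := by
  have hP0 : ∀ l : ℕ, 2 ≤ l → ∏ a ∈ Icc 1 g, (l ^ (2 * a) - 1) ≠ 0 := by
    intro l hl
    exact Finset.prod_ne_zero_iff.2 (fun a ha => factor_ne_zero hl (Finset.mem_Icc.1 ha).1)
  have hS : ∀ q ∈ (Icc 3 (2 * g + 1)).filter Nat.Prime,
      q ^ ((2 * g) / (q - 1) + ∑ i ∈ Icc 1 ((2 * g) / (q - 1)), padicValNat q i) ≠ 0 := by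
    intro q hq
    exact pow_ne_zero _ (Finset.mem_filter.1 hq).2.ne_zero
  have hN0 : 2 ^ (3 * g + padicValNat 2 g.factorial) *
        ∏ p ∈ (Icc 3 (2 * g + 1)).filter Nat.Prime,
          p ^ ((2 * g) / (p - 1) + ∑ i ∈ Icc 1 ((2 * g) / (p - 1)), padicValNat p i) ≠ 0 :=
    Nat.mul_ne_zero (pow_ne_zero _ two_ne_zero) (Finset.prod_ne_zero_iff.2 hS)
  constructor
  · intro H
    obtain ⟨l0, hl0B, hl0p⟩ := Nat.exists_infinite_primes (B + 1)
    have hd0 : d ≠ 0 := by
      intro h0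
      have := H l0 hl0p (by omega)
      rw [h0, zero_dvd_iff] at this
      exact hP0 l0 hl0p.two_le this
    apply dvd_of_forall_val_le hd0 _ hN0
    intro p hp
    by_cases hp2 : p = 2
    · subst hp2
      obtain ⟨l, hlB, hlp, hlmod⟩ :=
        Nat.forall_exists_prime_gt_and_modEq B (q := 8) (a := 3) (by norm_num) (by norm_num)
      have hl8 : l % 8 = 3 := hlmod
      have hl1 : 1 < l := hlp.one_lt
      have hlodd : ¬ 2 ∣ l := by omega
      have h1 := val_le_of_dvd Nat.prime_two (hP0 l hlp.two_le) (H l hlp hlB)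
      have v1 : padicValNat 2 (l + 1) = 2 :=
        val_eq_of (p := 2) (n := l + 1) (k := 2) (by omega) (by show 4 ∣ l + 1; omega)
          (by show ¬ 8 ∣ l + 1; omega)
      have v2 : padicValNat 2 (l - 1) = 1 :=
        val_eq_of (p := 2) (n := l - 1) (k := 1) (by omega) (by show 2 ∣ l - 1; omega)
          (by show ¬ 4 ∣ l - 1; omega)
      rw [two_sum hl1 hlodd, v1, v2] at h1
      rw [val_N_two]
      omega
    · obtain ⟨l, hlp, hlB, hpl, F1, F2⟩ := exists_good_prime hp hp2 B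
      have h1 := val_le_of_dvd hp (hP0 l hlp.two_le) (H l hlp hlB)
      rw [odd_upper hp hp2 hpl hlp.one_lt F1 F2] at h1
      rw [val_N_odd g _ _ hp hp2]
      split_ifs with hmem
      · exact h1
      · have hp3 : 3 ≤ p := by
          have := hp.two_le; omega
        have hbig : 2 * g + 1 < p := by
          by_contra hle
          exact hmem (Finset.mem_filter.2 ⟨Finset.mem_Icc.2 ⟨hp3, by omega⟩, hp⟩)
        have hr0 : (2 * g) / (p - 1) = 0 := Nat.div_eq_of_lt (by omega)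
        rw [hr0] at h1
        simpa using h1
  · intro hdN l hlp hlB
    refine dvd_trans hdN ?_
    have hl1 : 1 < l := hlp.one_lt
    apply dvd_of_forall_val_le hN0 _ (hP0 l hlp.two_le)
    intro p hp
    by_cases hp2 : p = 2
    · subst hp2
      rw [val_N_two]
      rcases Nat.eq_zero_or_pos g with hg | hg
      · subst hg; simp
      · have hlodd : ¬ 2 ∣ l := by
          intro h2
          have := (Nat.prime_dvd_prime_iff_eq Nat.prime_two hlp).1 h2
          omega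
        rw [two_sum hl1 hlodd]
        have hc := two_c_ge hl1 hlodd
        have : 3 * g ≤ g * (padicValNat 2 (l + 1) + padicValNat 2 (l - 1)) := by
          calc 3 * g = g * 3 := mul_comm _ _
            _ ≤ _ := Nat.mul_le_mul_left g hc
        omega
    · rw [val_N_odd g _ _ hp hp2]
      split_ifs with hmem
      · have hple : p ≤ 2 * g + 1 := (Finset.mem_Icc.1 (Finset.mem_filter.1 hmem).1).2
        have hpl : ¬ p ∣ l := by
          intro h
          have := (Nat.prime_dvd_prime_iff_eq hp hlp).1 h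
          omega
        exact odd_lower hp hp2 hpl hl1
      · exact Nat.zero_le _

end Groth.Agent.S17445
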