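import Groth.Statements.S17446
import Mathlib.LinearAlgebra.FiniteDimensional.Lemmas
import Mathlib.LinearAlgebra.FiniteDimensional.Basic
-- import your own Groth.Agent.* helpers here

set_option autoImplicit false
universe u v
open SSRed

namespace Groth.Agent.S17446

section helpers
variable {K : Type u} {V : Type v} [Field K] [AddCommGroup V] [Module K V]

/-- vectors `v` with `g v - v ∈ W` for all `g ∈ H` -/
def fixMod (H : Subgroup (V ≃ₗ[K] V)) (W : Submodule K V) : Submodule K V where
  carrier := {v | ∀ g ∈ H, g v - v ∈ W}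
  add_mem' := by
    intro a b ha hb g hg
    have := W.add_mem (ha g hg) (hb g hg)
    rw [map_add]; convert this using 1; abel
  zero_mem' := by intro g hg; simp
  smul_mem' := by
    intro c a ha g hg
    have := W.smul_mem c (ha g hg)
    rw [map_smul, ← smul_sub]; exact this

lemma mem_fixMod {H : Subgroup (V ≃ₗ[K] V)} {W : Submodule K V} {v : V} :
    v ∈ fixMod H W ↔ ∀ g ∈ H, g v - v ∈ W := Iff.rfl

/-- `W` is stable under `H` -/
def Stable (H : Subgroup (V ≃ₗ[K] V)) (W : Submodule K V) : Prop :=
  ∀ g ∈ H, ∀ w ∈ W, g w ∈ W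

lemma apply_inv_apply (g : V ≃ₗ[K] V) (x : V) : g (g⁻¹ x) = x := by
  have : g (g⁻¹ x) = (g * g⁻¹) x := rfl
  rw [this, mul_inv_cancel]; rfl

lemma inv_apply_apply (g : V ≃ₗ[K] V) (x : V) : g⁻¹ (g x) = x := by
  have : g⁻¹ (g x) = (g⁻¹ * g) x := rfl
  rw [this, inv_mul_cancel]; rfl

lemma le_fixMod {H : Subgroup (V ≃ₗ[K] V)} {W : Submodule K V} (hW : Stable H W) :
    W ≤ fixMod H W :=
  fun w hw g hg => W.sub_mem (hW g hg w hw) hw

lemma stable_fixMod {H : Subgroup (V ≃ₗ[K] V)} {W : Submodule K V} (hW : Stable H W) :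
    Stable H (fixMod H W) := by
  intro g' hg' v hv g hg
  have h1 : (g'⁻¹ * g * g') ∈ H := H.mul_mem (H.mul_mem (H.inv_mem hg') hg) hg'
  have h2 := hW g' hg' _ (hv _ h1)
  convert h2 using 1
  rw [map_sub]
  congr 1
  simp only [LinearEquiv.mul_apply]
  rw [apply_inv_apply]

/-- Some vector outside `W` is fixed modulo `W`, by the maximal nonvanishing product argument. -/
lemma exists_fix (H : Subgroup (V ≃ₗ[K] V))
    (hH : ∃ n : ℕ, ∀ f : Fin n → ↥H,
      (List.ofFn fun i => (((f i : ↥H) : V ≃ₗ[K] V) : Module.End K V) - 1).prod = 0)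
    (W X : Submodule K V) (hX : Stable H X) (v : V) (hvX : v ∈ X) (hvW : v ∉ W) :
    ∃ v' ∈ X, v' ∉ W ∧ ∀ g ∈ H, g v' - v' ∈ W := by
  by_contra hcon
  push Not at hcon
  obtain ⟨n, hn⟩ := hH
  have key : ∀ j : ℕ, ∃ f : Fin j → ↥H,
      (List.ofFn fun i => (((f i : ↥H) : V ≃ₗ[K] V) : Module.End K V) - 1).prod v ∈ X ∧
      (List.ofFn fun i => (((f i : ↥H) : V ≃ₗ[K] V) : Module.End K V) - 1).prod v ∉ W := by
    intro j
    induction j with
    | zero => exact ⟨fun i => i.elim0, by simpa using hvX, by simpa using hvW⟩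
    | succ j ih =>
      obtain ⟨f, hfX, hfW⟩ := ih
      obtain ⟨g, hg, hgW⟩ := hcon _ hfX hfW
      refine ⟨Fin.cons ⟨g, hg⟩ f, ?_, ?_⟩
      · rw [List.ofFn_succ]
        simp only [Fin.cons_zero, Fin.cons_succ, List.prod_cons, Module.End.mul_apply,
          LinearMap.sub_apply, LinearEquiv.coe_coe, Module.End.one_apply]
        exact X.sub_mem (hX g hg _ hfX) hfX
      · rw [List.ofFn_succ]
        simp only [Fin.cons_zero, Fin.cons_succ, List.prod_cons, Module.End.mul_apply,
          LinearMap.sub_apply, LinearEquiv.coe_coe, Module.End.one_apply]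
        exact hgW
  obtain ⟨f, -, hfW⟩ := key n
  rw [hn f] at hfW
  exact hfW (by simp)

/-- the ascending chain `0 ⊆ fixMod 0 ⊆ …` -/
def Wseq (G : Subgroup (V ≃ₗ[K] V)) : ℕ → Submodule K V
  | 0 => ⊥
  | (i + 1) => fixMod G (Wseq G i)

end helpers

/-- Let K be a field, V a finite-dimensional K-vector space and H₁, H₂ subgroups of the group of
K-linear automorphisms of V such that H₂ normalizes H₁. Call the action of a subgroup H unipotent
when, for some n, every product (h₁ - 1)(h₂ - 1)⋯(hₙ - 1) with all hᵢ in H is the zero endomorphism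
(equivalently, V has an H-stable flag on whose successive quotients H acts trivially). If H₁ and H₂
act unipotently, then the subgroup generated by H₁ and H₂ acts unipotently. (In the published result
H₁ and H₂ are the absolute Galois groups of two finite Galois extensions of a strictly henselian
discretely valued field over which an abelian variety becomes semistable, acting on its rational
ℓ-adic Tate module, and the conclusion is semistability over the intersection of the two fields; the
printed argument uses only that H₂ normalizes H₁.) -/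
theorem result (K : Type u) (V : Type v) [Field K]
    [AddCommGroup V] [Module K V] [FiniteDimensional K V]
    (H₁ H₂ : Subgroup (V ≃ₗ[K] V)) (hnorm : ∀ g ∈ H₂, ∀ h ∈ H₁, g * h * g⁻¹ ∈ H₁)
    (h₁ : ∃ n : ℕ, ∀ f : Fin n → ↥H₁,
      (List.ofFn fun i => (((f i : ↥H₁) : V ≃ₗ[K] V) : Module.End K V) - 1).prod = 0)
    (h₂ : ∃ n : ℕ, ∀ f : Fin n → ↥H₂,
      (List.ofFn fun i => (((f i : ↥H₂) : V ≃ₗ[K] V) : Module.End K V) - 1).prod = 0) :
    ∃ n : ℕ, ∀ f : Fin n → ↥(H₁ ⊔ H₂),
      (List.ofFn fun i => (((f i : ↥(H₁ ⊔ H₂)) : V ≃ₗ[K] V) : Module.End K V) - 1).prod = 0 := by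
  classical
  set G := H₁ ⊔ H₂ with hG
  have hH₁G : H₁ ≤ G := le_sup_left
  have hH₂G : H₂ ≤ G := le_sup_right
  -- key: a proper stable subspace is strictly smaller than its fixMod
  have keyC : ∀ W : Submodule K V, Stable G W → W ≠ ⊤ → ∃ v ∈ fixMod G W, v ∉ W := by
    intro W hW hne
    obtain ⟨v₀, hv₀⟩ : ∃ v₀ : V, v₀ ∉ W := by
      by_contra hcon
      push Not at hcon
      exact hne (eq_top_iff.mpr fun x _ => hcon x)
    obtain ⟨v₁, -, hv₁W, hv₁⟩ := exists_fix H₁ h₁ W ⊤ (fun _ _ _ _ => Submodule.mem_top) v₀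
      Submodule.mem_top hv₀
    -- X₁ is stable under H₂
    have hX₁ : Stable H₂ (fixMod H₁ W) := by
      intro g hg v hv h hh
      have h1 : (g⁻¹ * h * g) ∈ H₁ := by
        have := hnorm g⁻¹ (H₂.inv_mem hg) h hh
        rwa [inv_inv] at this
      have h2 := hW g (hH₂G hg) _ (hv _ h1)
      convert h2 using 1
      rw [map_sub]
      congr 1
      simp only [LinearEquiv.mul_apply]
      rw [apply_inv_apply]
    obtain ⟨v₂, hv₂X, hv₂W, hv₂⟩ := exists_fix H₂ h₂ W (fixMod H₁ W) hX₁ v₁ hv₁ hv₁W
    refine ⟨v₂, ?_, hv₂W⟩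
    -- the subgroup of elements of G moving v₂ within W
    let T : Subgroup (V ≃ₗ[K] V) :=
      { carrier := {g | g ∈ G ∧ g v₂ - v₂ ∈ W}
        mul_mem' := by
          rintro a b ⟨haG, ha⟩ ⟨hbG, hb⟩
          refine ⟨G.mul_mem haG hbG, ?_⟩
          have := W.add_mem (hW a haG _ hb) ha
          convert this using 1
          rw [map_sub, LinearEquiv.mul_apply]; abel
        one_mem' := ⟨G.one_mem, by simp⟩
        inv_mem' := by
          rintro a ⟨haG, ha⟩
          refine ⟨G.inv_mem haG, ?_⟩
          have := W.neg_mem (hW a⁻¹ (G.inv_mem haG) _ ha)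
          convert this using 1
          rw [map_sub, inv_apply_apply]; abel }
    have hT : G ≤ T := by
      rw [hG]
      refine sup_le ?_ ?_
      · intro g hg; exact ⟨hH₁G hg, hv₂X g hg⟩
      · intro g hg; exact ⟨hH₂G hg, hv₂ g hg⟩
    intro g hg
    exact (hT hg).2
  -- the chain
  have hW0 : Wseq G 0 = ⊥ := rfl
  have hWs : ∀ i, Wseq G (i + 1) = fixMod G (Wseq G i) := fun i => rfl
  have hstab : ∀ i, Stable G (Wseq G i) := by
    intro i
    induction i with
    | zero => intro g _ w hw; rw [hW0, Submodule.mem_bot] at hw ⊢; rw [hw, map_zero]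
    | succ i ih => rw [hWs]; exact stable_fixMod ih
  have hgrow : ∀ i, Wseq G i = ⊤ ∨ i ≤ Module.finrank K ↥(Wseq G i) := by
    intro i
    induction i with
    | zero => right; exact Nat.zero_le _
    | succ i ih =>
      by_cases htop : Wseq G i = ⊤
      · left
        have := le_fixMod (hstab i)
        rw [← hWs, htop] at this
        exact top_le_iff.mp this
      · right
        obtain ⟨v, hv, hvW⟩ := keyC _ (hstab i) htop
        have hlt : Wseq G i < Wseq G (i + 1) := by
          rw [hWs]
          exact lt_of_le_of_ne (le_fixMod (hstab i)) (fun h => hvW (h ▸ hv))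
        have := Submodule.finrank_lt_finrank_of_lt hlt
        rcases ih with h | h
        · exact absurd h htop
        · omega
  have htop : Wseq G (Module.finrank K V) = ⊤ := by
    rcases hgrow (Module.finrank K V) with h | h
    · exact h
    · exact Submodule.eq_top_of_finrank_eq (le_antisymm (Submodule.finrank_le _) h)
  -- products vanish on the chain
  have hvan : ∀ (N : ℕ) (f : Fin N → ↥G) (v : V), v ∈ Wseq G N →
      (List.ofFn fun i => (((f i : ↥G) : V ≃ₗ[K] V) : Module.End K V) - 1).prod v = 0 := by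
    intro N
    induction N with
    | zero =>
      intro f v hv
      rw [hW0, Submodule.mem_bot] at hv
      rw [hv, map_zero]
    | succ N ih =>
      intro f v hv
      rw [List.ofFn_succ', List.concat_eq_append, List.prod_append, List.prod_singleton,
        Module.End.mul_apply]
      apply ih
      rw [hWs] at hv
      have := hv (f (Fin.last N)) (f (Fin.last N)).2
      simpa only [LinearMap.sub_apply, LinearEquiv.coe_coe, Module.End.one_apply] using this
  refine ⟨Module.finrank K V, fun f => ?_⟩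
  ext v
  rw [hvan _ f v (htop ▸ Submodule.mem_top)]
  rfl

end Groth.Agent.S17446
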