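import Groth.Statements.S17448
import Mathlib
import Groth.Agent.Lib.Helper15.HenselSite

set_option autoImplicit false
universe u
open CategoryTheory CategoryTheory.Limits AlgebraicGeometry
open Hensel

namespace Groth.Agent.S17448

open Groth.Agent.Lib.Helper15 IsLocalRing

set_option backward.isDefEq.respectTransparency.types false in
lemma uniq (R : Type u) [CommRing R] [IsLocalRing R] {X : Scheme.{u}}
    (f : X ⟶ Spec (CommRingCat.of R)) [Etale f] (s₁ s₂ : Spec (CommRingCat.of R) ⟶ X)
    (h₁ : s₁ ≫ f = 𝟙 _) (h₂ : s₂ ≫ f = 𝟙 _)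
    (h : Spec.map (CommRingCat.ofHom (residue R)) ≫ s₁ =
      Spec.map (CommRingCat.ofHom (residue R)) ≫ s₂) : s₁ = s₂ := by
  obtain ⟨d, hd1, hd2⟩ : ∃ d : Spec (CommRingCat.of R) ⟶ pullback f f,
      d ≫ pullback.fst f f = s₁ ∧ d ≫ pullback.snd f f = s₂ :=
    ⟨pullback.lift s₁ s₂ (h₁.trans h₂.symm), pullback.lift_fst _ _ _, pullback.lift_snd _ _ _⟩
  have hw : Spec.map (CommRingCat.ofHom (residue R)) ≫ d =
      (Spec.map (CommRingCat.ofHom (residue R)) ≫ s₁) ≫ pullback.diagonal f := by
    apply pullback.hom_ext
    · rw [Category.assoc, hd1, Category.assoc, pullback.diagonal_fst, Category.comp_id]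
    · rw [Category.assoc, hd2, Category.assoc, pullback.diagonal_snd, Category.comp_id, h]
  obtain ⟨z, hz⟩ : ∃ z : Spec (CommRingCat.of (ResidueField R)) ⟶ pullback d (pullback.diagonal f),
      z ≫ pullback.fst d (pullback.diagonal f) = Spec.map (CommRingCat.ofHom (residue R)) :=
    ⟨pullback.lift _ _ hw, pullback.lift_fst _ _ _⟩
  have hmem : closedPoint R ∈ (pullback.fst d (pullback.diagonal f)).opensRange := by
    refine ⟨z.base (default : Spec (CommRingCat.of (ResidueField R))), ?_⟩
    have h3 := congrArg (fun m => m.base (default : Spec (CommRingCat.of (ResidueField R)))) hz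
    exact h3.trans (PrimeSpectrum.comap_residue R _)
  have htop : (pullback.fst d (pullback.diagonal f)).opensRange = ⊤ :=
    (IsLocalRing.closedPoint_mem_iff _).1 hmem
  haveI : IsIso (pullback.fst d (pullback.diagonal f)) :=
    isIso_of_isOpenImmersion_of_opensRange_eq_top _ htop
  have hc := pullback.condition (f := d) (g := pullback.diagonal f)
  have e1 : pullback.fst d (pullback.diagonal f) ≫ s₁ = pullback.snd d (pullback.diagonal f) := by
    rw [← hd1, ← Category.assoc, hc, Category.assoc, pullback.diagonal_fst, Category.comp_id]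
  have e2 : pullback.fst d (pullback.diagonal f) ≫ s₂ = pullback.snd d (pullback.diagonal f) := by
    rw [← hd2, ← Category.assoc, hc, Category.assoc, pullback.diagonal_snd, Category.comp_id]
  exact (cancel_epi (pullback.fst d (pullback.diagonal f))).1 (e1.trans e2.symm)

/-- Sections over henselian rings: let R be a henselian local ring with residue field k and X → Spec R a
quasi-finite (quasi-compact with discrete fibres), separated and étale morphism. Then the natural
map from sections X(R) to points X(k) of the special fibre is bijective: for every morphism t : Spec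
k → X over Spec k → Spec R there is exactly one section s : Spec R → X of X → Spec R whose
restriction to Spec k is t. -/
theorem result (R : Type u) [CommRing R]
    [HenselianLocalRing R] {X : Scheme.{u}} (f : X ⟶ Spec (CommRingCat.of R))
    [LocallyQuasiFinite f] [QuasiCompact f] [IsSeparated f] [Etale f]
    (t : Spec (CommRingCat.of (IsLocalRing.ResidueField R)) ⟶ X)
    (ht : t ≫ f = Spec.map (CommRingCat.ofHom (IsLocalRing.residue R))) :
    ∃! s : Spec (CommRingCat.of R) ⟶ X,
      s ≫ f = 𝟙 (Spec (CommRingCat.of R)) ∧ Spec.map (CommRingCat.ofHom (IsLocalRing.residue R)) ≫ s = t := by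
  obtain ⟨s, hs1, hs2⟩ := HenselSite.exists_section_scheme R X f t ht
  refine ⟨s, ⟨hs1, hs2⟩, ?_⟩
  rintro s' ⟨hs1', hs2'⟩
  exact uniq R f s' s hs1' hs1 (hs2'.trans hs2.symm)

end Groth.Agent.S17448
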