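import Groth.Statements.S17449
import Groth.Agent.Lib.Helper13.SteinLSC
import Groth.Agent.Lib.Helper12.SecCompBC
import Groth.Agent.Lib.Helper11.GeomSep

set_option autoImplicit false
set_option linter.style.haveILetI false
universe u
open CategoryTheory CategoryTheory.Limits AlgebraicGeometry
open Stein

namespace Groth.Agent.S17449

/-- Let S be a Noetherian scheme and f : X → S a proper, flat and surjective morphism. Suppose that for
every generic point η of an irreducible component of S the fibre of f at η is geometrically
connected and smooth over the residue field κ(η). Then every fibre of f is geometrically connected. -/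
theorem result {X S : Scheme.{u}}
    (f : X ⟶ S) [IsProper f] [Flat f] [Surjective f] [IsNoetherian S]
    (h : ∀ (Z : Set ↑S) (η : ↑S), Z ∈ irreducibleComponents ↑S → IsGenericPoint η Z →
      GeometricallyConnected (f.fiberToSpecResidueField η) ∧ Smooth (f.fiberToSpecResidueField η)) :
    GeometricallyConnected f := by
  haveI : IsLocallyNoetherian S := inferInstance
  haveI : LocallyOfFinitePresentation f :=
    Groth.Agent.Lib.Helper12.SecCompBC.locallyOfFinitePresentation_of_isLocallyNoetherian f
  rw [GeometricallyConnected.iff_geometricallyConnected_fiber]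
  intro s
  obtain ⟨V, hV, hVn⟩ := Groth.Agent.Lib.Helper13.SteinLSC.lsc_flat_at f s
  -- a generic point of an irreducible component through `s`
  have hZ : irreducibleComponent s ∈ irreducibleComponents ↑S := irreducibleComponent_mem_irreducibleComponents s
  have hZirr : IsIrreducible (irreducibleComponent s) := isIrreducible_irreducibleComponent
  have hZcl : IsClosed (irreducibleComponent s) := isClosed_irreducibleComponent
  have hgen : IsGenericPoint hZirr.genericPoint (irreducibleComponent s) :=
    hZirr.isGenericPoint_genericPoint hZcl
  obtain ⟨η, hη⟩ : ∃ η : ↑S, η = hZirr.genericPoint := ⟨_, rfl⟩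
  rw [← hη] at hgen
  have hspec : η ⤳ s := by
    rw [specializes_iff_mem_closure, hgen.def]
    exact mem_irreducibleComponent
  have hηV : η ∈ V := mem_of_mem_nhds (hspec hV)
  haveI := (h _ η hZ hgen).1
  -- the geometric fibre over `η` is connected
  haveI : ConnectedSpace ↥(MoreMor.geomFiber f η) := by
    unfold MoreMor.geomFiber
    exact GeometricallyConnected.geometrically_connectedSpace _ _ _ (.of_hasPullback _ _)
  have h1 : MoreMor.nGeomConnComp f η = 1 := by
    unfold MoreMor.nGeomConnComp
    rw [ENat.card_eq_one_iff_unique]
    exact ⟨⟨⟨ConnectedComponents.mk (Classical.arbitrary _)⟩, fun a => Subsingleton.elim _ _⟩⟩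
  have h2 : MoreMor.nGeomConnComp f s ≤ 1 := h1 ▸ hVn η hηV
  -- the geometric fibre over `s` is nonempty
  obtain ⟨x, hx⟩ := f.surjective s
  haveI : Surjective (f.fiberToSpecResidueField s) :=
    inferInstanceAs (Surjective (pullback.snd f (S.fromSpecResidueField s)))
  haveI : Nonempty ↥(Spec (CommRingCat.of (SeparableClosure (S.residueField s)))) :=
    inferInstanceAs (Nonempty (PrimeSpectrum _))
  haveI : Nonempty ↥(MoreMor.geomFiber f s) := by
    unfold MoreMor.geomFiber
    obtain ⟨p⟩ := ‹Nonempty ↥(Spec (CommRingCat.of (SeparableClosure (S.residueField s))))›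
    obtain ⟨q, -⟩ := (pullback.snd (f.fiberToSpecResidueField s) (Spec.map (CommRingCat.ofHom
      (algebraMap (S.residueField s) (SeparableClosure (S.residueField s)))))).surjective p
    exact ⟨q⟩
  have h3 : Subsingleton (_root_.ConnectedComponents ↥(MoreMor.geomFiber f s)) :=
    (ENat.card_le_one_iff_subsingleton _).mp h2
  haveI : ConnectedSpace ↥(MoreMor.geomFiber f s) := by
    haveI : PreconnectedSpace ↥(MoreMor.geomFiber f s) := by
      rw [preconnectedSpace_iff_connectedComponent]
      intro x
      ext y
      simp only [Set.mem_univ, iff_true]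
      have := h3.elim (ConnectedComponents.mk y) (ConnectedComponents.mk x)
      rw [ConnectedComponents.coe_eq_coe] at this
      rw [← this]; exact mem_connectedComponent
    exact ⟨inferInstance⟩
  haveI : ConnectedSpace ↥(FBase.bc (k := S.residueField s) (f.fiberToSpecResidueField s)
      (SeparableClosure (S.residueField s))) := ‹ConnectedSpace ↥(MoreMor.geomFiber f s)›
  exact Groth.Agent.Lib.Helper11.GeomSep.geometricallyConnected_of_sepClosure
    (k := S.residueField s) (f.fiberToSpecResidueField s)

end Groth.Agent.S17449
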