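import Groth.Statements.S17463
import Groth.Agent.Lib.Helper26.Unipotent

set_option autoImplicit false
universe u v w
open SSRed

namespace Groth.Agent.S17463

/-- Let K be a field of characteristic zero, V a K-vector space, G a group with a K-linear action ρ : G
→ GL(V) such that every ρ(g) is unipotent (ρ(g) - 1 is nilpotent), and H a subgroup of G of finite
index. Then the H-invariants equal the G-invariants: a vector fixed by every element of H is fixed
by every element of G. (In the source G and H are the absolute Galois groups of K and of a finite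
extension K', acting unipotently on the rational ℓ-adic Tate module of an abelian variety.) -/
theorem result (K : Type u) (V : Type v) (G : Type w) [Field K] [CharZero K]
    [AddCommGroup V] [Module K V] [Group G] (ρ : G →* (V ≃ₗ[K] V))
    (hunip : ∀ g : G, IsNilpotent (((ρ g : V ≃ₗ[K] V) : Module.End K V) - 1))
    (H : Subgroup G) [H.FiniteIndex] (v : V) (hv : ∀ h ∈ H, ρ h v = v) (g : G) :
    ρ g v = v := by
  have hpow : ∀ (e : V ≃ₗ[K] V) (m : ℕ) (w : V),
      ((e ^ m : V ≃ₗ[K] V) : Module.End K V) w = ((e : Module.End K V) ^ m) w := by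
    intro e m
    induction m with
    | zero => intro w; simp
    | succ m ih =>
      intro w
      rw [pow_succ, pow_succ, LinearEquiv.coe_coe, LinearEquiv.mul_apply, Module.End.mul_apply,
        ← LinearEquiv.coe_coe, ih]
      rfl
  obtain ⟨n, hn, -, hgn⟩ := Subgroup.exists_pow_mem_of_index_ne_zero (Subgroup.FiniteIndex.index_ne_zero (H := H)) g
  have h1 : ρ (g ^ n) v = v := hv _ hgn
  set T : Module.End K V := ((ρ g : V ≃ₗ[K] V) : Module.End K V) with hT
  have hTn : (T ^ n) v = v := by
    have : ((ρ (g ^ n) : V ≃ₗ[K] V) : Module.End K V) = T ^ n := by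
      rw [map_pow]
      ext w
      rw [hT]
      exact hpow (ρ g) n w
    have h2 : ((ρ (g ^ n) : V ≃ₗ[K] V) : Module.End K V) v = v := h1
    rw [this] at h2
    exact h2
  have hker : v ∈ LinearMap.ker (T ^ n - 1) := by
    rw [LinearMap.mem_ker, LinearMap.sub_apply, hTn, Module.End.one_apply, sub_self]
  rw [Lib.Helper26.Unipotent.ker_pow_sub_one K V T (hunip g) n hn] at hker
  rw [LinearMap.mem_ker, LinearMap.sub_apply, Module.End.one_apply, sub_eq_zero] at hker
  exact hker

end Groth.Agent.S17463
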