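import Groth.Statements.S17466
-- import your own Groth.Agent.* helpers here

set_option autoImplicit false
universe u v
open BigOperators
open NRGIT

namespace Groth.Agent.S17466

open HomogeneousLocalization

section helpers
variable {R : Type u} {A : Type v} [CommRing R] [CommRing A] [Algebra R A]
  (𝒜 : ℕ → Submodule R A) [GradedAlgebra 𝒜]

lemma mk_congr {f : A} {d : ℕ} (hf : f ∈ 𝒜 d) {k k' : ℕ} {a a' : A} (hk : k = k') (ha : a = a')
    (h : a ∈ 𝒜 (k • d)) (h' : a' ∈ 𝒜 (k' • d)) :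
    Away.mk 𝒜 hf k a h = Away.mk 𝒜 hf k' a' h' := by
  subst hk; subst ha; rfl

lemma mk_mul_mk {f : A} {d : ℕ} (hf : f ∈ 𝒜 d) (k k' : ℕ) (a a' : A)
    (ha : a ∈ 𝒜 (k • d)) (ha' : a' ∈ 𝒜 (k' • d)) :
    Away.mk 𝒜 hf k a ha * Away.mk 𝒜 hf k' a' ha' =
      Away.mk 𝒜 hf (k + k') (a * a')
        (by rw [add_smul]; exact SetLike.mul_mem_graded ha ha') := by
  apply val_injective
  rw [val_mul, Away.val_mk, Away.val_mk, Away.val_mk, Localization.mk_mul]
  congr 1
  ext
  simp [pow_add]

lemma mk_pow' {f : A} {d : ℕ} (hf : f ∈ 𝒜 d) (k : ℕ) (a : A) (ha : a ∈ 𝒜 (k • d)) (m : ℕ) :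
    (Away.mk 𝒜 hf k a ha) ^ m =
      Away.mk 𝒜 hf (m * k) (a ^ m)
        (by rw [mul_smul]; exact SetLike.pow_mem_graded m ha) := by
  apply val_injective
  rw [val_pow, Away.val_mk, Away.val_mk, Localization.mk_pow]
  congr 1
  ext
  simp [pow_mul, mul_comm]

lemma mk_one' {f : A} {d : ℕ} (hf : f ∈ 𝒜 d) (h : (1 : A) ∈ 𝒜 (0 • d)) :
    Away.mk 𝒜 hf 0 1 h = 1 := by
  apply val_injective
  rw [Away.val_mk, val_one, ← Localization.mk_one]
  congr 1
  ext
  simp

lemma prod_mem_B {x : A} {d : ℕ} (hxs : x ∈ 𝒜 d) (B : Subalgebra (𝒜 0) (Away 𝒜 x))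
    {ι : Type*} [DecidableEq ι] (F : Finset ι) (a : ι → A) (K' : ι → ℕ)
    (ha : ∀ j, a j ∈ 𝒜 (1 • d))
    (hB : ∀ j, Away.mk 𝒜 hxs 1 (a j) (ha j) ∈ B) :
    ∀ h, Away.mk 𝒜 hxs (∑ j ∈ F, K' j) (∏ j ∈ F, a j ^ K' j) h ∈ B := by
  induction F using Finset.induction_on with
  | empty =>
    intro h
    have : Away.mk 𝒜 hxs (∑ j ∈ (∅ : Finset ι), K' j) (∏ j ∈ (∅ : Finset ι), a j ^ K' j) h
        = Away.mk 𝒜 hxs 0 1 (by simpa using h) :=
      mk_congr 𝒜 hxs (by simp) (by simp) _ _
    rw [this, mk_one']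
    exact B.one_mem
  | insert j F hj ih =>
    intro h
    have hF : (∏ j ∈ F, a j ^ K' j) ∈ 𝒜 ((∑ j ∈ F, K' j) • d) := by
      have := SetLike.prod_pow_mem_graded 𝒜 (fun _ => d) a K' (F := F) (fun k _ => by simpa using ha k)
      rwa [← Finset.sum_smul] at this
    have h1 := B.mul_mem (B.pow_mem (hB j) (K' j)) (ih hF)
    rw [mk_pow', mk_mul_mk] at h1
    convert h1 using 1
    exact mk_congr 𝒜 hxs (by rw [Finset.sum_insert hj, mul_one]) (by rw [Finset.prod_insert hj]) _ _

theorem key {f g x : A} {e : ℕ} (hf : f ∈ 𝒜 1) (hg : g ∈ 𝒜 e) (hx : x = f * g)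
    (hgen : Algebra.adjoin (𝒜 0) {z : Away 𝒜 f | ∃ a ∈ 𝒜 (1 + e),
      z.val = Localization.mk a
        ⟨f ^ (1 + e), Submonoid.pow_mem _ (Submonoid.mem_powers f) (1 + e)⟩} = ⊤)
    (B : Subalgebra (𝒜 0) (Away 𝒜 x))
    (hB : ∀ a ∈ 𝒜 (1 + e), ∀ z : Away 𝒜 x,
      z.val = Localization.mk a ⟨x, Submonoid.mem_powers _⟩ → z ∈ B)
    (hH : ∀ z : Away 𝒜 x,
      z.val = Localization.mk (g ^ (1 + e)) ⟨x ^ e, Submonoid.pow_mem _ (Submonoid.mem_powers x) e⟩ →
        z ∈ B) :
    B = ⊤ := by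
  have hxs : x ∈ 𝒜 (1 + e) := hx ▸ SetLike.mul_mem_graded hf hg
  have hB' : ∀ a (ha : a ∈ 𝒜 (1 • (1 + e))), Away.mk 𝒜 hxs 1 a ha ∈ B := by
    intro a ha
    refine hB a (by simpa using ha) _ ?_
    rw [Away.val_mk]
    congr 1
    ext
    simp
  have hgs : g ^ (1 + e) ∈ 𝒜 (e • (1 + e)) := by
    have := SetLike.pow_mem_graded (1 + e) hg
    rwa [smul_eq_mul, mul_comm] at this
  have hH' : Away.mk 𝒜 hxs e (g ^ (1 + e)) hgs ∈ B := hH _ (by rw [Away.val_mk])
  have step1 : ∀ y : Away 𝒜 f, awayMap 𝒜 hg hx y ∈ B := by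
    intro y
    have hy : y ∈ Algebra.adjoin (𝒜 0) {z : Away 𝒜 f | ∃ a ∈ 𝒜 (1 + e),
        z.val = Localization.mk a
          ⟨f ^ (1 + e), Submonoid.pow_mem _ (Submonoid.mem_powers f) (1 + e)⟩} := by
      rw [hgen]; exact Algebra.mem_top
    induction hy using Algebra.adjoin_induction with
    | mem z hz =>
      obtain ⟨a, ha, hz⟩ := hz
      have ha' : a ∈ 𝒜 ((1 + e) • 1) := by simpa using ha
      have hzz : z = Away.mk 𝒜 hf (1 + e) a ha' := by
        apply val_injective
        rw [hz, Away.val_mk]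
      have h1 := B.mul_mem (hB' a (by simpa using ha)) hH'
      rw [mk_mul_mk] at h1
      rw [hzz, awayMap_mk]
      convert h1 using 1
    | algebraMap r =>
      have := (awayMapₐ 𝒜 hg hx).commutes r
      rw [awayMapₐ_apply] at this
      rw [this]; exact B.algebraMap_mem r
    | add y z _ _ hy hz => rw [map_add]; exact B.add_mem hy hz
    | mul y z _ _ hy hz => rw [map_mul]; exact B.mul_mem hy hz
  rw [eq_top_iff]
  rintro z -
  obtain ⟨m, c, hc, rfl⟩ := Away.mk_surjective 𝒜 hxs z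
  have hc' : c ∈ 𝒜 ((m * (1 + e)) • 1) := by simpa using hc
  have hfs : f ^ (1 + e) ∈ 𝒜 (1 • (1 + e)) := by
    have := SetLike.pow_mem_graded (1 + e) hf
    simpa using this
  have h1 := B.mul_mem (step1 (Away.mk 𝒜 hf (m * (1 + e)) c hc')) (B.pow_mem (hB' _ hfs) m)
  convert h1 using 1
  apply val_injective
  rw [val_mul, val_pow, awayMap_mk, Away.val_mk, Away.val_mk, Away.val_mk, Localization.mk_pow,
    Localization.mk_mul, Localization.mk_eq_mk_iff, Localization.r_iff_exists]
  refine ⟨1, ?_⟩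
  subst hx
  simp only [OneMemClass.coe_one, one_mul, Submonoid.coe_mul, SubmonoidClass.coe_pow]
  ring

end helpers

/-- Let A be a commutative algebra graded by the natural numbers, let σ_1, …, σ_n be homogeneous
elements of degree 1 and let s ≥ 1 be an integer such that, for every i, the degree-zero homogeneous
localisation of A away from σ_i is generated over A_0 by the fractions f / σ_i ^ s with f
homogeneous of degree s. Then for every exponent vector K = (k_1, …, k_n) with k_1 + ⋯ + k_n = s,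
the degree-zero homogeneous localisation of A away from the monomial σ^K = ∏ σ_i ^ (k_i) is
generated over A_0 by the fractions f / σ^K with f homogeneous of degree s. (Equivalently: the
natural map from the degree-zero localisation of the symmetric algebra on A_s, taken away from σ^K
viewed as an element of degree one, to the degree-zero localisation of A away from σ^K is
surjective. The published lemma concerns the algebra of invariant sections of the powers of a
linearised line bundle on an irreducible projective scheme over a field, with the σ_i a basis of a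
weight space of sections, and concludes a closed immersion of a quotient into an open piece of a
projective space; this row keeps only the graded-algebra step, for any commutative graded algebra,
with the base field replaced by A_0, which generates nothing new since a / 1 = a σ^s / σ^s for a of
degree zero.) -/
theorem result
    {R : Type u} {A : Type v} [CommRing R] [CommRing A] [Algebra R A]
    (𝒜 : ℕ → Submodule R A) [GradedAlgebra 𝒜]
    {n : ℕ} (σ : Fin n → A) (hσ : ∀ i, σ i ∈ 𝒜 1) {s : ℕ} (hs : 0 < s)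
    (hgen : ∀ i, Algebra.adjoin (𝒜 0)
      {z : HomogeneousLocalization.Away 𝒜 (σ i) |
        ∃ f ∈ 𝒜 s, z.val = Localization.mk f ⟨σ i ^ s, Submonoid.pow_mem _ (Submonoid.mem_powers (σ i)) s⟩} = ⊤)
    (K : Fin n → ℕ) (hK : ∑ i, K i = s) :
    Algebra.adjoin (𝒜 0)
      {z : HomogeneousLocalization.Away 𝒜 (∏ i, σ i ^ K i) |
        ∃ f ∈ 𝒜 s, z.val = Localization.mk f ⟨∏ i, σ i ^ K i, Submonoid.mem_powers _⟩} = ⊤ := by
  classical
  obtain ⟨i, hi⟩ : ∃ i, 0 < K i := by
    by_contra h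
    push_neg at h
    have : ∑ i, K i = 0 := Finset.sum_eq_zero (fun i _ => Nat.le_zero.mp (h i))
    omega
  obtain ⟨e, rfl⟩ : ∃ e, s = 1 + e := ⟨s - 1, by omega⟩
  set K' : Fin n → ℕ := Function.update K i (K i - 1) with hK'
  have hK'i : K' i = K i - 1 := by simp [hK']
  have hK'j : ∀ j, j ≠ i → K' j = K j := fun j hj => by simp [hK', Function.update_of_ne hj]
  set g : A := ∏ j, σ j ^ K' j with hg
  have hx : ∏ j, σ j ^ K j = σ i * g := by
    rw [hg, ← Finset.mul_prod_erase Finset.univ (fun j => σ j ^ K j) (Finset.mem_univ i),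
      ← Finset.mul_prod_erase Finset.univ (fun j => σ j ^ K' j) (Finset.mem_univ i), ← mul_assoc,
      ← pow_succ', hK'i]
    congr 1
    · congr 1; omega
    · exact Finset.prod_congr rfl (fun j hj => by rw [hK'j j (Finset.ne_of_mem_erase hj)])
  have hsum : ∑ j, K' j = e := by
    have h1 := Finset.add_sum_erase Finset.univ K (Finset.mem_univ i)
    have h2 := Finset.add_sum_erase Finset.univ K' (Finset.mem_univ i)
    have h3 : ∑ j ∈ Finset.univ.erase i, K' j = ∑ j ∈ Finset.univ.erase i, K j :=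
      Finset.sum_congr rfl (fun j hj => hK'j j (Finset.ne_of_mem_erase hj))
    omega
  have hge : g ∈ 𝒜 e := by
    have := SetLike.prod_pow_mem_graded 𝒜 (fun _ => 1) σ K' (F := Finset.univ) (fun k _ => hσ k)
    simpa [hsum] using this
  have hxs : (∏ j, σ j ^ K j) ∈ 𝒜 (1 + e) := hx ▸ SetLike.mul_mem_graded (hσ i) hge
  apply key 𝒜 (hσ i) hge hx (hgen i)
  · intro a ha z hz
    exact Algebra.subset_adjoin ⟨a, ha, hz⟩
  · intro z hz
    have hB : ∀ a (ha : a ∈ 𝒜 (1 • (1 + e))), Away.mk 𝒜 hxs 1 a ha ∈ Algebra.adjoin (𝒜 0)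
        {z : HomogeneousLocalization.Away 𝒜 (∏ i, σ i ^ K i) |
          ∃ f ∈ 𝒜 (1 + e), z.val = Localization.mk f ⟨∏ i, σ i ^ K i, Submonoid.mem_powers _⟩} := by
      intro a ha
      refine Algebra.subset_adjoin ⟨a, by simpa using ha, ?_⟩
      rw [Away.val_mk]
      congr 1
      ext
      simp
    have hga : ∀ j, g * σ j ∈ 𝒜 (1 • (1 + e)) := by
      intro j
      have := SetLike.mul_mem_graded hge (hσ j)
      simpa [add_comm] using this
    have hmem : (∏ j, (g * σ j) ^ K' j) ∈ 𝒜 ((∑ j, K' j) • (1 + e)) := by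
      have := SetLike.prod_pow_mem_graded 𝒜 (fun _ => 1 + e) (fun j => g * σ j) K'
        (F := Finset.univ) (fun k _ => by simpa using hga k)
      rwa [← Finset.sum_smul] at this
    have h1 := prod_mem_B 𝒜 hxs _ Finset.univ (fun j => g * σ j) K' hga (fun j => hB _ (hga j)) hmem
    convert h1 using 1
    apply val_injective
    rw [hz, Away.val_mk]
    have hprod : (∏ j, (g * σ j) ^ K' j) = g ^ (1 + e) := by
      simp_rw [mul_pow]
      rw [Finset.prod_mul_distrib, Finset.prod_pow_eq_pow_sum, hsum, ← hg, pow_add, pow_one, mul_comm]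
    congr 1
    · exact hprod.symm
    · ext
      simp [hsum]

end Groth.Agent.S17466
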