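import Groth.Statements.S17468
import Mathlib.Algebra.Lie.Weights.Basic
import Mathlib.Algebra.Lie.Semisimple.Basic
import Mathlib.Algebra.DirectSum.LinearMap
import Mathlib.LinearAlgebra.Eigenspace.Basic
import Mathlib.LinearAlgebra.Trace
import Mathlib.Data.Nat.Choose.Cast
-- import your own Groth.Agent.* helpers here

set_option autoImplicit false
universe u v w
open LieRep

namespace Groth.Agent.S17468

open LieModule Module

section helpers
variable {k : Type u} [Field k]

lemma trace_of_eigenbasis {M : Type w} [AddCommGroup M] [Module k M] {ι : Type*} [Fintype ι]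
    [DecidableEq ι] (b : Basis ι k M) (g : M →ₗ[k] M) (c : ι → k)
    (hg : ∀ j, g (b j) = c j • b j) : LinearMap.trace k M g = ∑ j, c j := by
  rw [LinearMap.trace_eq_matrix_trace k b, Matrix.trace]
  apply Finset.sum_congr rfl
  intro j _
  simp [Matrix.diag, LinearMap.toMatrix_apply, hg]

lemma six_mul_choose (n : ℕ) : 6 * (n + 2).choose 3 = n * (n + 1) * (n + 2) := by
  have h3 : (n + 2).choose 3 * 3 = (n + 2) * (n + 1).choose 2 :=
    (Nat.add_one_mul_choose_eq (n + 1) 2).symm
  have h2 : (n + 1).choose 2 * 2 = (n + 1) * n.choose 1 := (Nat.add_one_mul_choose_eq n 1).symm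
  rw [Nat.choose_one_right] at h2
  calc 6 * (n + 2).choose 3 = 2 * ((n + 2).choose 3 * 3) := by ring
    _ = 2 * ((n + 2) * (n + 1).choose 2) := by rw [h3]
    _ = (n + 2) * ((n + 1).choose 2 * 2) := by ring
    _ = (n + 2) * ((n + 1) * n) := by rw [h2]
    _ = n * (n + 1) * (n + 2) := by ring

lemma three_mul_sum_sq (a : k) (m : ℕ) :
    3 * ∑ j ∈ Finset.range m, (a - 2 * (j : k)) ^ 2 =
      3 * m * a ^ 2 - 6 * a * m * (m - 1) + 2 * m * (m - 1) * (2 * m - 1) := by
  induction m with
  | zero => simp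
  | succ m ih =>
    rw [Finset.sum_range_succ, mul_add, ih]
    push_cast
    ring

lemma sum_sq_eq [CharZero k] (n : ℕ) :
    ∑ j ∈ Finset.range (n + 1), ((n : k) - 2 * (j : k)) ^ 2 = 2 * ((n + 1 + 1).choose 3 : k) := by
  have h1 := three_mul_sum_sq (n : k) (n + 1)
  have h2 := congrArg (Nat.cast : ℕ → k) (six_mul_choose n)
  push_cast at h1 h2
  have h3 : (3 : k) ≠ 0 := by norm_num
  apply mul_left_cancel₀ h3
  rw [h1]
  have : (3 : k) * (2 * ((n + 1 + 1).choose 3 : k)) = 6 * ((n + 2).choose 3 : k) := by ring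
  rw [this, h2]
  ring

variable [IsAlgClosed k] [CharZero k]
  {L : Type v} [LieRing L] [LieAlgebra k L]
  {h e f : L}

theorem exists_eigenbasis (t : IsSl2Triple h e f) (hspan : t.toLieSubalgebra k = ⊤)
    (M : Type w) [AddCommGroup M] [Module k M] [LieRingModule L M] [LieModule k L M]
    [FiniteDimensional k M] [LieModule.IsIrreducible k L M] :
    ∃ (n : ℕ) (b : Basis (Fin (n + 1)) k M),
      ∀ j : Fin (n + 1), ⁅h, b j⁆ = ((n : k) - 2 * ((j : ℕ) : k)) • b j := by
  haveI : Nontrivial M := LieModule.nontrivial_of_isIrreducible k L M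
  obtain ⟨μ, m, hm0, P⟩ := t.exists_hasPrimitiveVectorWith (R := k) (M := M)
  obtain ⟨n, rfl⟩ := P.exists_nat
  let ψ : ℕ → M := fun j => ((toEnd k L M f) ^ j) m
  have hψh : ∀ j, ⁅h, ψ j⁆ = ((n : k) - 2 * j) • ψ j := fun j => P.lie_h_pow_toEnd_f j
  have hψf : ∀ j, ⁅f, ψ j⁆ = ψ (j + 1) := fun j => P.lie_f_pow_toEnd_f j
  have hψe : ∀ j, ⁅e, ψ (j + 1)⁆ = ((j + 1) * ((n : k) - j)) • ψ j :=
    fun j => P.lie_e_pow_succ_toEnd_f j
  have hψe0 : ⁅e, ψ 0⁆ = 0 := by simpa [ψ] using P.lie_e
  have hψne : ∀ j ≤ n, ψ j ≠ 0 := fun j hj => P.pow_toEnd_f_ne_zero_of_eq_nat rfl hj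
  have hψz : ∀ i, ψ (n + 1 + i) = 0 := by
    intro i
    induction i with
    | zero => exact P.pow_toEnd_f_eq_zero_of_eq_nat rfl
    | succ i ih => rw [← add_assoc, ← hψf, ih, lie_zero]
  set S : Submodule k M := Submodule.span k (Set.range ψ) with hS
  have hψS : ∀ j, ψ j ∈ S := fun j => Submodule.subset_span ⟨j, rfl⟩
  have key : ∀ x : L, (∀ j, ⁅x, ψ j⁆ ∈ S) → ∀ y ∈ S, ⁅x, y⁆ ∈ S := by
    intro x hx y hy
    have : S ≤ S.comap (toEnd k L M x) :=
      Submodule.span_le.mpr (by rintro _ ⟨j, rfl⟩; exact hx j)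
    exact this hy
  have He : ∀ y ∈ S, ⁅e, y⁆ ∈ S := key e (fun j => by
    cases j with
    | zero => rw [hψe0]; exact S.zero_mem
    | succ j => rw [hψe]; exact S.smul_mem _ (hψS j))
  have Hf : ∀ y ∈ S, ⁅f, y⁆ ∈ S := key f (fun j => by rw [hψf]; exact hψS _)
  have Hh : ∀ y ∈ S, ⁅h, y⁆ ∈ S := key h (fun j => by rw [hψh]; exact S.smul_mem _ (hψS j))
  let N : LieSubmodule k L M :=
    { toSubmodule := S
      lie_mem := by
        intro x y hy
        have hx : x ∈ t.toLieSubalgebra k := by rw [hspan]; trivial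
        obtain ⟨c₁, c₂, c₃, rfl⟩ := IsSl2Triple.mem_toLieSubalgebra_iff.mp hx
        rw [t.lie_e_f]
        simp only [add_lie, smul_lie]
        exact add_mem (add_mem (S.smul_mem _ (He y hy)) (S.smul_mem _ (Hf y hy)))
          (S.smul_mem _ (Hh y hy)) }
  have hNtop : N = ⊤ := by
    refine (IsSimpleOrder.eq_bot_or_eq_top N).resolve_left (fun hbot => ?_)
    have hm : ψ 0 ∈ N := hψS 0
    rw [hbot, LieSubmodule.mem_bot] at hm
    exact hψne 0 (Nat.zero_le _) hm
  have hStop : S = ⊤ := by
    have := congrArg LieSubmodule.toSubmodule hNtop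
    rw [LieSubmodule.top_toSubmodule] at this
    exact this
  let v : Fin (n + 1) → M := fun j => ψ j
  have hinj : Function.Injective (fun j : Fin (n + 1) => (n : k) - 2 * ((j : ℕ) : k)) := by
    intro i j hij
    simp only [sub_right_inj] at hij
    have h2 : (2 : k) ≠ 0 := two_ne_zero
    have := mul_left_cancel₀ h2 hij
    exact Fin.ext (Nat.cast_injective this)
  have hli : LinearIndependent k v :=
    Module.End.eigenvectors_linearIndependent' (toEnd k L M h)
      (fun j : Fin (n + 1) => (n : k) - 2 * ((j : ℕ) : k)) hinj v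
      (fun j => ⟨Module.End.mem_eigenspace_iff.mpr (hψh j), hψne j (by omega)⟩)
  have hsp : ⊤ ≤ Submodule.span k (Set.range v) := by
    rw [← hStop, hS]
    apply Submodule.span_le.mpr
    rintro _ ⟨j, rfl⟩
    by_cases hj : j ≤ n
    · exact Submodule.subset_span ⟨⟨j, by omega⟩, rfl⟩
    · obtain ⟨i, rfl⟩ := Nat.exists_eq_add_of_le (show n + 1 ≤ j by omega)
      rw [hψz]
      exact Submodule.zero_mem _
  refine ⟨n, Basis.mk hli hsp, fun j => ?_⟩
  rw [Basis.mk_apply]
  exact hψh j

theorem trace_sq (t : IsSl2Triple h e f) (hspan : t.toLieSubalgebra k = ⊤)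
    (M : Type w) [AddCommGroup M] [Module k M] [LieRingModule L M] [LieModule k L M]
    [FiniteDimensional k M] [LieModule.IsIrreducible k L M] :
    LinearMap.trace k M ((toEnd k L M h) ^ 2) =
      2 * (((Module.finrank k M + 1).choose 3 : ℕ) : k) := by
  classical
  obtain ⟨n, b, hb⟩ := exists_eigenbasis t hspan M
  have hfr : Module.finrank k M = n + 1 := by
    rw [Module.finrank_eq_card_basis b, Fintype.card_fin]
  rw [hfr, trace_of_eigenbasis b _ (fun j : Fin (n + 1) => ((n : k) - 2 * ((j : ℕ) : k)) ^ 2),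
    Fin.sum_univ_eq_sum_range (fun j => ((n : k) - 2 * (j : k)) ^ 2) (n + 1), sum_sq_eq]
  intro j
  rw [pow_two, Module.End.mul_apply, toEnd_apply_apply, toEnd_apply_apply, hb, lie_smul, hb,
    smul_smul, pow_two]

end helpers

/-- Let k be an algebraically closed field of characteristic zero, L a Lie algebra over k spanned by an
sl_2-triple (h, e, f), and V a finite-dimensional L-module written as an internal direct sum of
finitely many irreducible Lie submodules V_i. Then the trace on V of the square of the action of h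
is 2 Σ_i C(dim V_i + 1, 3). (The published statement concerns a finite-dimensional representation V
of a simple Lie algebra restricted to the copy of sl_2 attached to the highest root θ, with h the
coroot θ^∨; there Σ_i C(dim V_i + 1, 3) is the index of V, and the trace is the sum over the weights
λ of V, with multiplicity, of ⟨λ, θ^∨⟩².) -/
theorem result
    (k : Type u) [Field k] [IsAlgClosed k] [CharZero k]
    (L : Type v) [LieRing L] [LieAlgebra k L]
    (h e f : L) (t : IsSl2Triple h e f) (hspan : t.toLieSubalgebra k = ⊤)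
    (V : Type w) [AddCommGroup V] [Module k V] [LieRingModule L V] [LieModule k L V]
    [FiniteDimensional k V]
    (ι : Type) [Fintype ι] [DecidableEq ι] (W : ι → LieSubmodule k L V)
    (hW : DirectSum.IsInternal fun i => (W i).toSubmodule)
    (hirr : ∀ i, LieModule.IsIrreducible k L (W i)) :
    LinearMap.trace k V ((LieModule.toEnd k L V h) ^ 2) =
      2 * ∑ i, (((Module.finrank k (W i) + 1).choose 3 : ℕ) : k) := by
  classical
  have hmaps : ∀ i, Set.MapsTo (((toEnd k L V h) ^ 2 : Module.End k V) : V → V)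
      ((W i).toSubmodule : Set V) ((W i).toSubmodule : Set V) := by
    intro i x hx
    rw [pow_two, Module.End.mul_apply, toEnd_apply_apply, toEnd_apply_apply]
    exact (W i).lie_mem ((W i).lie_mem hx)
  rw [LinearMap.trace_eq_sum_trace_restrict hW hmaps, Finset.mul_sum]
  apply Finset.sum_congr rfl
  intro i _
  haveI := hirr i
  have hres : ((toEnd k L V h) ^ 2).restrict (hmaps i) = (toEnd k L (W i) h) ^ 2 := by
    ext x
    rfl
  rw [hres]
  exact trace_sq t hspan (W i)

end Groth.Agent.S17468
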