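import Groth.Statements.S17469
-- import your own Groth.Agent.* helpers here

set_option autoImplicit false
universe u
open CategoryTheory AlgebraicGeometry
open Variety

namespace Groth.Agent.S17469

/-- Let X be a locally Noetherian integral scheme all of whose local rings are integrally closed domains
and U an open subset of X. A section of O_X over U that is integral over the ring of global sections
of X, the latter acting through restriction, is itself the restriction of a global section. (The
published lemma is stated for an irreducible normal variety and for the graded ring of sections over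
U of all non-negative powers of a line bundle, integral over the corresponding ring of sections over
X; for the trivial line bundle its homogeneous components are the present statement, which is made
here for any locally Noetherian normal integral scheme.) -/
theorem result
    (X : Scheme.{u}) [AlgebraicGeometry.IsIntegral X] [IsLocallyNoetherian X]
    (hX : Pi1.IsNormalScheme X) (U : X.Opens) (b : Γ(X, U))
    (hb : (X.presheaf.map (homOfLE le_top : U ⟶ ⊤).op).hom.IsIntegralElem b) :
    b ∈ Set.range (X.presheaf.map (homOfLE le_top : U ⟶ ⊤).op).hom := by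
  classical
  by_cases hU : Nonempty U
  swap
  · have hUbot : U = ⊥ := by
      ext x
      constructor
      · intro hx; exact (hU ⟨⟨x, hx⟩⟩).elim
      · intro hx; exact hx.elim
    subst hUbot
    exact ⟨0, Subsingleton.elim _ _⟩
  obtain ⟨p, hp, hpb⟩ := hb
  set η := genericPoint X with hη
  have hηU : η ∈ U :=
    ((genericPoint_spec X).mem_open_set_iff U.isOpen).mpr (by simpa using hU)
  haveI : Nonempty (⊤ : X.Opens) := ⟨⟨η, trivial⟩⟩
  let β : X.functionField := X.presheaf.germ U η hηU b
  have hβ : ∀ x : X, IsIntegral (X.presheaf.stalk x) β := by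
    intro x
    refine ⟨p.map (X.presheaf.germ ⊤ x trivial).hom, hp.map _, ?_⟩
    rw [Polynomial.eval₂_map]
    have hcomp : (algebraMap (X.presheaf.stalk x) X.functionField).comp
        (X.presheaf.germ ⊤ x trivial).hom =
        (X.presheaf.germ U η hηU).hom.comp (X.presheaf.map (homOfLE le_top : U ⟶ ⊤).op).hom := by
      ext t
      simp only [RingHom.comp_apply]
      have h1 := Scheme.algebraMap_germ_eq_germToFunctionField (X := X) (U := ⊤) (x := x)
        trivial t
      have h2 := TopCat.Presheaf.germ_res_apply X.presheaf (homOfLE le_top : U ⟶ ⊤) η hηU t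
      exact h1.trans h2.symm
    rw [hcomp, ← Polynomial.hom_eval₂, hpb, map_zero]
  have hloc : ∀ x : X, ∃ V : X.Opens, x ∈ V ∧ ∃ (hηV : η ∈ V) (s : Γ(X, V)),
      X.presheaf.germ V η hηV s = β := by
    intro x
    haveI := (hX x).2
    obtain ⟨y, hy⟩ := IsIntegrallyClosed.algebraMap_eq_of_integral (hβ x)
    obtain ⟨V, hxV, s, rfl⟩ := X.presheaf.exists_germ_eq y
    have hηV : η ∈ V := ((genericPoint_spec X).specializes trivial).mem_open V.isOpen hxV
    refine ⟨V, hxV, hηV, s, ?_⟩
    rw [← hy]
    haveI : Nonempty V := ⟨⟨x, hxV⟩⟩
    exact (Scheme.algebraMap_germ_eq_germToFunctionField (X := X) hxV s).symm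
  choose V hxV hηV s hs using hloc
  have hcompat : TopCat.Presheaf.IsCompatible X.presheaf V s := by
    intro x y
    apply germ_injective_of_isIntegral X η (show η ∈ V x ⊓ V y from ⟨hηV x, hηV y⟩)
    rw [TopCat.Presheaf.germ_res_apply, TopCat.Presheaf.germ_res_apply, hs, hs]
  obtain ⟨t, ht, -⟩ := X.sheaf.existsUnique_gluing' V ⊤ (fun x => homOfLE le_top)
    (fun x _ => TopologicalSpace.Opens.mem_iSup.mpr ⟨x, hxV x⟩) s hcompat
  refine ⟨t, ?_⟩
  apply germ_injective_of_isIntegral X η hηU
  have h1 := TopCat.Presheaf.germ_res_apply X.presheaf (homOfLE le_top : U ⟶ ⊤) η hηU t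
  have h2 := TopCat.Presheaf.germ_res_apply X.presheaf (homOfLE le_top : V η ⟶ ⊤) η (hηV η) t
  have h3 : X.presheaf.map (homOfLE le_top : V η ⟶ ⊤).op t = s η := ht η
  rw [h3, hs η] at h2
  exact h1.trans h2.symm

end Groth.Agent.S17469
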