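import Groth.Statements.S17470
import Groth.Agent.Lib.Helper7.AnUnit4

set_option autoImplicit false
open CategoryTheory AlgebraicGeometry
open An

namespace Groth.Agent.S17470

/-- Let X be a connected variety over ℂ (reduced, separated and of finite type over ℂ, connected) and u
a regular function on X with no zero at any ℂ-point, viewed as a regular map X → ℂ^×. If the
continuous map it induces from the ℂ-points X(ℂ), with their complex topology, to ℂ^× is
null-homotopic, then u has the same value at all ℂ-points: a null-homotopic regular map from a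
connected complex variety to ℂ^× is constant. -/
theorem result
    (X : Scheme.{0}) [X.Over An.SC] [IsReduced X]
    [LocallyOfFiniteType (X ↘ An.SC)] [QuasiCompact (X ↘ An.SC)] [IsSeparated (X ↘ An.SC)]
    [ConnectedSpace X] (u : Γ(X, ⊤))
    (φ : C(An.Pts X, {z : ℂ // z ≠ 0})) (hφ : ∀ x : An.Pts X, (φ x).1 = x.evTop u)
    (z₀ : {z : ℂ // z ≠ 0}) (hnull : φ.Homotopic (ContinuousMap.const (An.Pts X) z₀)) :
    ∀ x y : An.Pts X, x.evTop u = y.evTop u := by
  have F : ContinuousMap.Homotopy (ContinuousMap.const (An.Pts X) z₀) φ := hnull.symm.some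
  have cov := Complex.isCoveringMap_exp
  set f₀ : C(An.Pts X, ℂ) := ContinuousMap.const (An.Pts X) (Complex.log z₀.1) with hf₀
  have H0 : ∀ a, F.toContinuousMap (0, a) =
      (⟨Complex.exp (f₀ a), Complex.exp_ne_zero _⟩ : {z : ℂ // z ≠ 0}) := by
    intro a
    refine (F.apply_zero a).trans ?_
    apply Subtype.ext
    show z₀.1 = Complex.exp (Complex.log z₀.1)
    rw [Complex.exp_log z₀.2]
  set L := cov.liftHomotopy F.toContinuousMap f₀ H0 with hL
  have hlifts := cov.liftHomotopy_lifts F.toContinuousMap f₀ H0
  apply Groth.Agent.Lib.Helper7.AnUnit.evTop_eq_of_exp u (fun x => L (1, x))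
    (L.continuous.comp (continuous_const.prodMk continuous_id))
  intro x
  have h1 := congrFun hlifts (1, x)
  have h2 : F.toContinuousMap (1, x) = φ x := F.apply_one x
  rw [← hφ x, ← h2, ← h1]
  rfl

end Groth.Agent.S17470
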