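import Groth.Statements.S17471
-- import your own Groth.Agent.* helpers here

set_option autoImplicit false
universe u v w x
open RootCh

namespace Groth.Agent.S17471

/-- Let Φ be a finite, reduced, crystallographic, irreducible root system with a base, and θ a positive
root such that θ + β is a root for no positive root β (so θ is the highest root). Then Σ_{β>0} ⟨β,
θ^∨⟩² = 2 + Σ_{β>0} ⟨β, θ^∨⟩ = 2(1 + ⟨ρ, θ^∨⟩), ρ being half the sum of the positive roots; in the
source the left side is the index of the adjoint representation obtained from its formal character,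
and 1 + ⟨ρ, θ^∨⟩ is the dual Coxeter number. -/
theorem result
    {ι : Type u} {R : Type v} {M : Type w} {N : Type x}
    [Field R] [LinearOrder R] [IsStrictOrderedRing R]
    [AddCommGroup M] [Module R M] [AddCommGroup N] [Module R N] [Fintype ι]
    (P : RootPairing ι R M N) [P.IsRootSystem] [P.IsCrystallographic] [P.IsReduced]
    [P.IsIrreducible] (b : P.Base) (θ : ι) (hθ : b.IsPos θ)
    (hmax : ∀ i : ι, b.IsPos i → P.root θ + P.root i ∉ Set.range P.root) :
    ∑ i ∈ Finset.univ.filter (fun i => 0 < b.height i), P.pairing i θ ^ 2 =
      2 + ∑ i ∈ Finset.univ.filter (fun i => 0 < b.height i), P.pairing i θ := by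
  classical
  have hθ' : 0 < b.height θ := hθ
  -- negation index
  have hnegidx : ∀ j : ι, P.root (P.reflectionPerm j j) = -P.root j := by
    intro j
    rw [P.root_reflectionPerm, P.reflection_apply_self]
  have hnegheight : ∀ j : ι, b.height (P.reflectionPerm j j) = -b.height j := by
    intro j
    have h1 : P.root (P.reflectionPerm j j) = P.root j + (-2 : ℤ) • P.root j := by
      rw [hnegidx]; module
    have := b.height_add_zsmul h1
    rw [this]; simp; ring
  have key : ∀ i : ι, 0 < b.height i → i ≠ θ → P.pairing i θ ^ 2 = P.pairing i θ := by
    intro i hi hne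
    have hipos : b.IsPos i := hi
    have hp0 : 0 ≤ P.pairingIn ℤ i θ := by
      by_contra hlt
      rw [not_le] at hlt
      have hne' : P.root i ≠ -P.root θ := by
        intro h
        have h1 : P.root i = P.root θ + (-2 : ℤ) • P.root θ := by rw [h]; module
        have := b.height_add_zsmul h1
        simp at this
        omega
      have := P.root_add_root_mem_of_pairingIn_neg hlt hne'
      rw [add_comm] at this
      exact hmax i hipos this
    have hp1 : P.pairingIn ℤ i θ ≤ 1 := by
      by_contra hgt
      rw [not_le] at hgt
      obtain ⟨j, hj⟩ := P.root_sub_root_mem_of_pairingIn_pos (i := i) (j := θ) (by omega) hne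
      have hij : P.root i = P.root j + P.root θ := by rw [hj]; abel
      have hpj : P.pairingIn ℤ i θ = P.pairingIn ℤ j θ + P.pairingIn ℤ θ θ :=
        RootPairing.pairingIn_eq_add_of_root_eq_add hij
      rw [P.pairingIn_same] at hpj
      by_cases hjpos : b.IsPos j
      · exact hmax j hjpos ⟨i, by rw [hij]; abel⟩
      · have hjh : b.height j < 0 := by
          have h1 := b.height_ne_zero j
          have h2 : ¬ 0 < b.height j := hjpos
          omega
        have hjθ : j ≠ θ := by
          intro h; rw [h] at hjh; omega
        have hl : ∃ l, P.root l = P.root j - P.root θ := by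
          rcases (show 2 < P.pairingIn ℤ i θ ∨ P.pairingIn ℤ i θ = 2 by omega) with h2 | h2
          · exact P.root_sub_root_mem_of_pairingIn_pos (i := j) (j := θ) (by omega) hjθ
          · refine ⟨P.reflectionPerm θ i, ?_⟩
            rw [P.root_reflectionPerm, P.reflection_apply_root, ← P.algebraMap_pairingIn ℤ, h2,
              hj]
            simp only [map_ofNat]
            module
        obtain ⟨l, hl⟩ := hl
        have hj'pos : b.IsPos (P.reflectionPerm j j) := by
          show 0 < b.height _
          rw [hnegheight]; omega
        refine hmax _ hj'pos ⟨P.reflectionPerm l l, ?_⟩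
        rw [hnegidx, hnegidx, hl]; abel
    have : P.pairingIn ℤ i θ = 0 ∨ P.pairingIn ℤ i θ = 1 := by omega
    rcases this with h | h
    · rw [← P.algebraMap_pairingIn ℤ, h]; simp
    · rw [← P.algebraMap_pairingIn ℤ, h]; simp
  have hθmem : θ ∈ Finset.univ.filter (fun i => 0 < b.height i) := by simpa using hθ'
  have hsum : ∑ i ∈ Finset.univ.filter (fun i => 0 < b.height i),
      (P.pairing i θ ^ 2 - P.pairing i θ) = 2 := by
    rw [Finset.sum_eq_single_of_mem θ hθmem]
    · rw [P.pairing_same]; norm_num
    · intro i hi hne
      rw [key i (by simpa using hi) hne, sub_self]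
  rw [Finset.sum_sub_distrib] at hsum
  linarith

end Groth.Agent.S17471
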