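import Groth.Statements.S17476
import Groth.Agent.Lib.Helper26.HomRestr

set_option autoImplicit false
universe u
open CategoryTheory AlgebraicGeometry Opposite
open Coh

namespace Groth.Agent.S17476

open Groth.Agent.Lib.Helper26 Groth.Agent.Lib.Helper3 Groth.Agent.Lib.Helper3.QCSec in
theorem part1 (R : Type u) [CommRing R]
    (M : ModuleCat.{u} (CommRingCat.of R)) (U : (Spec (CommRingCat.of R)).Opens)
    (hinj : Function.Injective
      ((Spec (CommRingCat.of R)).presheaf.map (homOfLE (le_top : U ≤ ⊤)).op)) :
    Function.Injective (fun φ : AlgebraicGeometry.tilde M ⟶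
        Coh.structureModule (Spec (CommRingCat.of R)) =>
      (Scheme.Modules.restrictFunctor U.ι).map φ) := by
  intro φ ψ hφψ
  apply HomRestr.tilde_hom_ext
  intro s
  have hU' : U.ι ''ᵁ ⊤ = U := U.ι_image_top
  have hinj' := HomRestr.inj_transport U (U.ι ''ᵁ ⊤) hU' hinj
  apply hinj'
  have h1 := QCExact.app_res' φ (le_top : U.ι ''ᵁ ⊤ ≤ ⊤) s
  have h2 := QCExact.app_res' ψ (le_top : U.ι ''ᵁ ⊤ ≤ ⊤) s
  have h3 : φ.app (U.ι ''ᵁ ⊤) (res (AlgebraicGeometry.tilde M) (le_top : U.ι ''ᵁ ⊤ ≤ ⊤) s) =
      ψ.app (U.ι ''ᵁ ⊤) (res (AlgebraicGeometry.tilde M) (le_top : U.ι ''ᵁ ⊤ ≤ ⊤) s) :=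
    congrArg (fun χ : (Scheme.Modules.restrictFunctor U.ι).obj (AlgebraicGeometry.tilde M) ⟶
        (Scheme.Modules.restrictFunctor U.ι).obj (Coh.structureModule (Spec (CommRingCat.of R))) =>
      χ.app ⊤ (res (AlgebraicGeometry.tilde M) (le_top : U.ι ''ᵁ ⊤ ≤ ⊤) s)) hφψ
  exact h1.symm.trans (h3.trans h2)

/-- Let R be a Noetherian ring, Z = Spec R, M a finitely generated R-module with associated
quasi-coherent sheaf M~ (so that Hom_R(M, R) = Hom_Z(M~, O_Z)), and Z₀ ⊆ Z an open subscheme. (1) If
the restriction of functions Γ(Z, O_Z) → Γ(Z₀, O_Z) is injective, then the restriction map Hom_Z(M~,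
O_Z) → Hom_{Z₀}(M~|Z₀, O_{Z₀}) is injective. (2) If R is an integrally closed domain and the closed
complement of Z₀ has codimension at least 2 (every prime ideal outside Z₀ has height at least 2),
then that restriction map is bijective. (The published first assertion assumes only that Z₀ is
dense; for R = k[x,y]/(x², xy), M = R and Z₀ the locus y ≠ 0, which is dense, multiplication by x is
a nonzero element of Hom_R(M, R) restricting to zero, so schematic density is what is needed and
what the printed argument uses. The published second assertion is for a normal irreducible affine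
variety; any Noetherian integrally closed domain is allowed here.) -/
theorem result (R : Type u) [CommRing R] [IsNoetherianRing R]
    (M : ModuleCat.{u} (CommRingCat.of R)) [Module.Finite R M] (U : (Spec (CommRingCat.of R)).Opens) :
    (Function.Injective ((Spec (CommRingCat.of R)).presheaf.map (homOfLE (le_top : U ≤ ⊤)).op) →
      Function.Injective (fun φ : AlgebraicGeometry.tilde M ⟶ Coh.structureModule (Spec (CommRingCat.of R)) =>
        (Scheme.Modules.restrictFunctor U.ι).map φ)) ∧
    (IsDomain R → IsIntegrallyClosed R → (∀ p : PrimeSpectrum R, p ∉ U → (2 : ℕ∞) ≤ p.asIdeal.height) →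
      Function.Bijective (fun φ : AlgebraicGeometry.tilde M ⟶ Coh.structureModule (Spec (CommRingCat.of R)) =>
        (Scheme.Modules.restrictFunctor U.ι).map φ)) := by
  refine ⟨part1 R M U, fun hdom hic hht => ?_⟩
  haveI := hdom
  haveI := hic
  have hdepth : ∀ z : ↥(Spec (CommRingCat.of R)), z ∉ U →
      (2 : ℕ∞) ≤ LocCoh.depth ((Spec (CommRingCat.of R)).presheaf.stalk z)
        ((Spec (CommRingCat.of R)).presheaf.stalk z) := fun z hz =>
    Groth.Agent.Lib.Helper26.HomRestr.depth_stalk_spec R z (hht z hz)
  constructor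
  · apply part1 R M U
    have hb := Groth.Agent.Lib.Helper5.Hartogs.bijective_of_depth U hdepth ⊤
    have key : ∀ (W : (Spec (CommRingCat.of R)).Opens) (hW : W = U) (hle : W ≤ ⊤),
        Function.Injective ((Spec (CommRingCat.of R)).presheaf.map (homOfLE hle).op) →
        Function.Injective ((Spec (CommRingCat.of R)).presheaf.map
          (homOfLE (le_top : U ≤ ⊤)).op) := by
      intro W hW hle hb'
      subst hW
      exact hb'
    exact key _ (top_inf_eq U) _ hb.1
  · haveI : IsIso ((Scheme.Modules.restrictAdjunction U.ι).unit.app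
        (Coh.structureModule (Spec (CommRingCat.of R)))) :=
      Groth.Agent.Lib.Helper17.Hartogs.isIso_unit_of_depth_two
        (Coh.structureModule (Spec (CommRingCat.of R))) U
        (fun z hz => Groth.Agent.Lib.Helper26.HomRestr.two_le_depth_structureModule z
          (hdepth z hz))
    exact Groth.Agent.Lib.Helper26.HomRestr.surjective_restrict_of_isIso_unit _ _ U

end Groth.Agent.S17476
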