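import Groth.Statements.S1750
import Groth.Agent.Lib.Helper3.InjHullLocal

set_option autoImplicit false
universe u
open InjHull

namespace Groth.Agent.S1750

open Groth.Agent.Lib.Helper3


/-- Let R → S be a flat local homomorphism of Noetherian local rings with m_R S = m_S inducing a
bijection on residue fields. If κ_S → E is an injective hull of the residue field of S over S, then
E regarded as an R-module is an injective hull of the residue field of R (for a suitable R-linear
map κ_R → E). -/
theorem result (R S : Type u) [CommRing R] [CommRing S] [IsLocalRing R] [IsLocalRing S] [IsNoetherianRing R] [IsNoetherianRing S] [Algebra R S] [IsLocalHom (algebraMap R S)] [Module.Flat R S] (hm : (IsLocalRing.maximalIdeal R).map (algebraMap R S) = IsLocalRing.maximalIdeal S) (hk : Function.Bijective (IsLocalRing.ResidueField.map (algebraMap R S))) (E : Type u) [AddCommGroup E] [Module S E] [Module R E] [IsScalarTower R S E] (f : IsLocalRing.ResidueField S →ₗ[S] E) (hf : InjHull.IsInjectiveHull f) : ∃ g : IsLocalRing.ResidueField R →ₗ[R] E, InjHull.IsInjectiveHull g := by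
  have := hf.isInjective
  have hinjR : Module.Injective R E := injective_restrictScalars_of_flat R S E
  let φ := IsLocalRing.ResidueField.map (algebraMap R S)
  let g : IsLocalRing.ResidueField R →ₗ[R] E :=
    { toFun := fun x => f (φ x)
      map_add' := fun x y => by rw [map_add, map_add]
      map_smul' := fun r x => by
        simp only [RingHom.id_apply]
        rw [Algebra.smul_def, IsLocalRing.ResidueField.algebraMap_eq, map_mul,
          IsLocalRing.ResidueField.map_residue, ← algebraMap_smul S r (f (φ x)), ← map_smul,
          Algebra.smul_def (algebraMap R S r), IsLocalRing.ResidueField.algebraMap_eq] }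
  have hg : ∀ x, g x = f (φ x) := fun x => rfl
  refine ⟨g, ⟨⟨?_, ?_⟩, hinjR⟩⟩
  · intro a b hab
    rw [hg, hg] at hab
    exact hk.1 (hf.injective hab)
  · intro N hN
    obtain ⟨x, hxN, hx0⟩ := Submodule.exists_mem_ne_zero_of_ne_bot hN
    obtain ⟨n, hn⟩ := exists_pow_smul_eq_zero_of_isEssentialInj f hf.toIsEssentialInj x
    have hspan : ∀ s : S, ∃ r : R, s • x = r • x := by
      intro s
      obtain ⟨r, hr⟩ := exists_sub_algebraMap_mem_pow hm hk.2 n s
      refine ⟨r, ?_⟩
      have := hn _ hr
      rw [sub_smul, sub_eq_zero, algebraMap_smul] at this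
      exact this
    have hne : Submodule.span S {x} ≠ ⊥ := by
      rw [Ne, Submodule.span_singleton_eq_bot]; exact hx0
    have h1 := hf.essential _ hne
    obtain ⟨y, hy, hy0⟩ := Submodule.exists_mem_ne_zero_of_ne_bot h1
    obtain ⟨hy1, c, rfl⟩ := hy
    obtain ⟨s, hs⟩ := Submodule.mem_span_singleton.mp hy1
    obtain ⟨r, hr⟩ := hspan s
    intro hbot
    apply hy0
    have hmemN : f c ∈ N := by
      rw [← hs, hr]; exact N.smul_mem r hxN
    obtain ⟨c', rfl⟩ := hk.2 c
    have : f (φ c') ∈ N ⊓ LinearMap.range g := ⟨hmemN, c', rfl⟩
    rw [hbot] at this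
    exact (Submodule.mem_bot R).mp this

end Groth.Agent.S1750
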