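import Groth.Statements.S17500
import Mathlib.RingTheory.Flat.Tensor
import Mathlib.RingTheory.Flat.EquationalCriterion
import Mathlib.Data.ZMod.Units
import Mathlib.Data.ZMod.Basic
-- import your own Groth.Agent.* helpers here

set_option autoImplicit false
universe u
open TorsMod

namespace Groth.Agent.S17500

open TensorProduct

section helpers
variable (p n : ℕ) [hp : Fact p.Prime]

omit hp in
lemma pow_n_eq_zero : ((p : ZMod (p ^ n)) ^ n) = 0 := by
  have := ZMod.natCast_self (p ^ n)
  rwa [Nat.cast_pow] at this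

lemma exists_unit_mul_pow (x : ZMod (p ^ n)) :
    ∃ j ≤ n, ∃ u : (ZMod (p ^ n))ˣ, x = u * (p : ZMod (p ^ n)) ^ j := by
  haveI : NeZero (p ^ n) := ⟨pow_ne_zero _ hp.out.ne_zero⟩
  by_cases hx : x = 0
  · exact ⟨n, le_rfl, 1, by rw [pow_n_eq_zero, hx, mul_zero]⟩
  · have ha : x.val ≠ 0 := fun h => hx ((ZMod.val_eq_zero x).mp h)
    obtain ⟨j, b, hb, hab⟩ := Nat.exists_eq_pow_mul_and_not_dvd ha p hp.out.ne_one
    have hjn : j ≤ n := by
      have h1 : p ^ j ≤ x.val := by
        rw [hab]; exact Nat.le_mul_of_pos_right _ (Nat.pos_of_ne_zero (fun h => by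
          rw [h, mul_zero] at hab; exact ha hab))
      have h2 : x.val < p ^ n := ZMod.val_lt x
      have h3 : p ^ j < p ^ n := lt_of_le_of_lt h1 h2
      exact le_of_lt ((Nat.pow_lt_pow_iff_right hp.out.one_lt).mp h3)
    have hcop : Nat.Coprime b (p ^ n) :=
      Nat.Coprime.pow_right n ((Nat.Prime.coprime_iff_not_dvd hp.out).mpr hb).symm
    refine ⟨j, hjn, ZMod.unitOfCoprime b hcop, ?_⟩
    rw [ZMod.coe_unitOfCoprime]
    have : x = ((x.val : ℕ) : ZMod (p ^ n)) := (ZMod.natCast_zmod_val x).symm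
    rw [this, hab]
    push_cast
    ring

lemma exists_eq_pow_mul_of_pow_mul_eq_zero {i : ℕ} (hi : i ≤ n) (a : ZMod (p ^ n))
    (ha : (p : ZMod (p ^ n)) ^ i * a = 0) : ∃ c, a = (p : ZMod (p ^ n)) ^ (n - i) * c := by
  obtain ⟨j, -, u, rfl⟩ := exists_unit_mul_pow p n a
  have h1 : (p : ZMod (p ^ n)) ^ (i + j) = 0 := by
    have : (p : ZMod (p ^ n)) ^ i * (u * (p : ZMod (p ^ n)) ^ j) =
        u * (p : ZMod (p ^ n)) ^ (i + j) := by ring
    rw [this] at ha
    exact (Units.mul_right_eq_zero u).mp ha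
  have h2 : p ^ n ∣ p ^ (i + j) := by
    rw [← ZMod.natCast_eq_zero_iff]
    push_cast
    exact h1
  have h3 : n ≤ i + j := (Nat.pow_dvd_pow_iff_le_right hp.out.one_lt).mp h2
  refine ⟨u * (p : ZMod (p ^ n)) ^ (j - (n - i)), ?_⟩
  have : j = (n - i) + (j - (n - i)) := by omega
  conv_lhs => rw [this, pow_add]
  ring

end helpers

/-- Let p be a prime number, n a natural number and H a module over ℤ/p^nℤ. Then H is flat over ℤ/p^nℤ
if and only if, for every i with 0 ≤ i ≤ n, the kernel of multiplication by p^i on H coincides with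
the image of multiplication by p^(n-i) on H. (The published item is phrased for an fppf sheaf of
ℤ/p^nℤ-modules on a scheme; this is the case of a single module, which is the case the argument
treats.) -/
theorem result (p n : ℕ) [Fact p.Prime]
    (H : Type u) [AddCommGroup H] [Module (ZMod (p ^ n)) H] :
    Module.Flat (ZMod (p ^ n)) H ↔
      ∀ i : ℕ, i ≤ n →
        LinearMap.ker ((p ^ i : ZMod (p ^ n)) • (LinearMap.id : H →ₗ[ZMod (p ^ n)] H)) =
          LinearMap.range ((p ^ (n - i) : ZMod (p ^ n)) • (LinearMap.id : H →ₗ[ZMod (p ^ n)] H)) := by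
  classical
  set R := ZMod (p ^ n) with hR
  have hpn : ((p : R) ^ n) = 0 := pow_n_eq_zero p n
  have hmem_ker : ∀ (c : R) (h : H), h ∈ LinearMap.ker (c • (LinearMap.id : H →ₗ[R] H)) ↔
      c • h = 0 := by
    intro c h
    rw [LinearMap.mem_ker, LinearMap.smul_apply, LinearMap.id_apply]
  have hmem_range : ∀ (c : R) (h : H), h ∈ LinearMap.range (c • (LinearMap.id : H →ₗ[R] H)) ↔
      ∃ h', c • h' = h := by
    intro c h
    rw [LinearMap.mem_range]
    simp only [LinearMap.smul_apply, LinearMap.id_apply]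
  have hrange_le : ∀ i : ℕ, i ≤ n →
      LinearMap.range (((p : R) ^ (n - i)) • (LinearMap.id : H →ₗ[R] H)) ≤
        LinearMap.ker (((p : R) ^ i) • (LinearMap.id : H →ₗ[R] H)) := by
    intro i hi h hh
    obtain ⟨h', rfl⟩ := (hmem_range _ _).mp hh
    rw [hmem_ker, smul_smul, ← pow_add, Nat.add_sub_cancel' hi, hpn, zero_smul]
  constructor
  · intro hflat i hi
    refine le_antisymm ?_ (hrange_le i hi)
    intro h hh
    rw [hmem_ker] at hh
    have hrel : ∑ _x : Unit, (fun _ : Unit => (p : R) ^ i) _x • (fun _ : Unit => h) _x = 0 := by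
      simpa using hh
    obtain ⟨k, a, y, hy, ha⟩ := Module.Flat.isTrivialRelation_of_sum_smul_eq_zero hrel
    have ha' : ∀ j, ∃ c, a () j = (p : R) ^ (n - i) * c := by
      intro j
      apply exists_eq_pow_mul_of_pow_mul_eq_zero p n hi
      simpa using ha j
    choose c hc using ha'
    rw [hmem_range]
    refine ⟨∑ j, c j • y j, ?_⟩
    have hy' : h = ∑ j, a () j • y j := hy ()
    rw [Finset.smul_sum]
    conv_rhs => rw [hy']
    apply Finset.sum_congr rfl
    intro j _
    rw [hc j, mul_smul]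
  · intro hcond
    rw [Module.Flat.iff_lift_lsmul_comp_subtype_injective]
    intro I _
    -- find the generator
    have hex : ∃ i, (p : R) ^ i ∈ I := ⟨n, by rw [hpn]; exact I.zero_mem⟩
    set i := Nat.find hex with hi_def
    have hiI : (p : R) ^ i ∈ I := Nat.find_spec hex
    have hin : i ≤ n := Nat.find_min' hex (by rw [hpn]; exact I.zero_mem)
    have hgen : ∀ x ∈ I, ∃ r : R, x = r * (p : R) ^ i := by
      intro x hx
      obtain ⟨j, -, u, rfl⟩ := exists_unit_mul_pow p n x
      have hj : (p : R) ^ j ∈ I := by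
        have := I.mul_mem_left (↑u⁻¹ : R) hx
        rwa [← mul_assoc, Units.inv_mul, one_mul] at this
      have hij : i ≤ j := Nat.find_min' hex hj
      refine ⟨u * (p : R) ^ (j - i), ?_⟩
      rw [mul_assoc, ← pow_add, Nat.sub_add_cancel hij]
    -- every tensor is q ⊗ h
    have hform : ∀ t : (I : Type) ⊗[R] H, ∃ h : H, t = (⟨(p : R) ^ i, hiI⟩ : I) ⊗ₜ[R] h := by
      intro t
      induction t using TensorProduct.induction_on with
      | zero => exact ⟨0, (TensorProduct.tmul_zero _ _).symm⟩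
      | tmul x h' =>
        obtain ⟨r, hr⟩ := hgen x.1 x.2
        refine ⟨r • h', ?_⟩
        have hx : x = r • (⟨(p : R) ^ i, hiI⟩ : I) := Subtype.ext (by simpa using hr)
        rw [hx, TensorProduct.smul_tmul]
      | add t₁ t₂ h₁ h₂ =>
        obtain ⟨a₁, rfl⟩ := h₁
        obtain ⟨a₂, rfl⟩ := h₂
        exact ⟨a₁ + a₂, (TensorProduct.tmul_add _ _ _).symm⟩
    rw [injective_iff_map_eq_zero]
    intro t ht
    obtain ⟨h, rfl⟩ := hform t
    rw [TensorProduct.lift.tmul] at ht
    have hq : (p : R) ^ i • h = 0 := by simpa using ht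
    have hker : h ∈ LinearMap.ker (((p : R) ^ i) • (LinearMap.id : H →ₗ[R] H)) :=
      (hmem_ker _ _).mpr hq
    rw [hcond i hin, hmem_range] at hker
    obtain ⟨h', rfl⟩ := hker
    rw [← TensorProduct.smul_tmul]
    have : ((p : R) ^ (n - i)) • (⟨(p : R) ^ i, hiI⟩ : I) = 0 := by
      apply Subtype.ext
      show (p : R) ^ (n - i) * (p : R) ^ i = 0
      rw [← pow_add, Nat.sub_add_cancel hin, hpn]
    rw [this, TensorProduct.zero_tmul]

end Groth.Agent.S17500
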