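import Groth.Statements.S17512
import Mathlib.LinearAlgebra.LinearIndependent.Basic
import Mathlib.LinearAlgebra.Dimension.Finite
import Mathlib.LinearAlgebra.Dimension.Constructions
import Mathlib.LinearAlgebra.Dimension.Free
import Mathlib.LinearAlgebra.Pi
-- import your own Groth.Agent.* helpers here

set_option autoImplicit false
universe u
open ThetaRep
open scoped commutatorElement

namespace Groth.Agent.S17512

section helpers

/-- A bimultiplicative pairing into the units of a field, with left kernel `N₁` and right kernel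
`N₂` of finite index: then `N₁` has finite index, at most that of `N₂`
(Dedekind independence of characters). -/
lemma card_quotient_le_of_pairing {G₁ G₂ : Type*} [Group G₁] [Group G₂] {k : Type*} [Field k]
    (β : G₁ → G₂ → kˣ)
    (hβ₁ : ∀ g g' h, β (g * g') h = β g h * β g' h)
    (hβ₂ : ∀ g h h', β g (h * h') = β g h * β g h')
    (N₁ : Subgroup G₁) (N₂ : Subgroup G₂)
    (hN₁ : ∀ g, g ∈ N₁ ↔ ∀ h, β g h = 1) (hN₂ : ∀ h, h ∈ N₂ ↔ ∀ g, β g h = 1)
    [Finite (G₂ ⧸ N₂)] : Nat.card (G₁ ⧸ N₁) ≤ Nat.card (G₂ ⧸ N₂) := by
  classical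
  have hβone : ∀ g, β g 1 = 1 := by
    intro g
    have := hβ₂ g 1 1
    rw [mul_one] at this
    exact (mul_eq_left.mp this.symm)
  have hβone' : ∀ h, β 1 h = 1 := by
    intro h
    have := hβ₁ 1 1 h
    rw [mul_one] at this
    exact (mul_eq_left.mp this.symm)
  have hβinv : ∀ g h, β g⁻¹ h = (β g h)⁻¹ := by
    intro g h
    have := hβ₁ g⁻¹ g h
    rw [inv_mul_cancel, hβone'] at this
    exact eq_inv_of_mul_eq_one_left this.symm
  let χ : G₁ → (G₂ →* k) := fun g =>
    { toFun := fun h => ((β g h : kˣ) : k)
      map_one' := by rw [hβone]; rfl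
      map_mul' := fun h h' => by rw [hβ₂]; push_cast; rfl }
  let Ψ : G₁ ⧸ N₁ → (G₂ →* k) := fun x => χ x.out
  have hΨinj : Function.Injective Ψ := by
    intro x y hxy
    have h1 : ∀ h, β x.out h = β y.out h := by
      intro h
      have := DFunLike.congr_fun hxy h
      exact Units.ext this
    have h2 : x.out⁻¹ * y.out ∈ N₁ := by
      rw [hN₁]
      intro h
      rw [hβ₁, hβinv, h1 h, inv_mul_cancel]
    have h3 : ((x.out : G₁) : G₁ ⧸ N₁) = ((y.out : G₁) : G₁ ⧸ N₁) := QuotientGroup.eq.mpr h2
    rwa [QuotientGroup.out_eq', QuotientGroup.out_eq'] at h3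
  have hLI : LinearIndependent k (fun x : G₁ ⧸ N₁ => ((Ψ x : G₂ →* k) : G₂ → k)) :=
    (linearIndependent_monoidHom G₂ k).comp Ψ hΨinj
  let Φ : G₁ ⧸ N₁ → (G₂ ⧸ N₂ → k) := fun x y => ((β x.out y.out : kˣ) : k)
  let P : (G₂ ⧸ N₂ → k) →ₗ[k] (G₂ → k) :=
    LinearMap.funLeft k k (QuotientGroup.mk : G₂ → G₂ ⧸ N₂)
  have hPΦ : (P ∘ Φ) = (fun x : G₁ ⧸ N₁ => ((Ψ x : G₂ →* k) : G₂ → k)) := by
    funext x h
    show ((β x.out (QuotientGroup.mk h : G₂ ⧸ N₂).out : kˣ) : k) = ((β x.out h : kˣ) : k)
    obtain ⟨n, hn⟩ := QuotientGroup.mk_out_eq_mul N₂ h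
    rw [hn, hβ₂, (hN₂ n).mp n.2 x.out, mul_one]
  have hLIΦ : LinearIndependent k Φ := by
    apply LinearIndependent.of_comp P
    rw [hPΦ]
    exact hLI
  haveI : Fintype (G₂ ⧸ N₂) := Fintype.ofFinite _
  haveI : Finite (G₁ ⧸ N₁) := hLIΦ.finite
  haveI : Fintype (G₁ ⧸ N₁) := Fintype.ofFinite _
  have := hLIΦ.fintype_card_le_finrank
  rw [Module.finrank_fintype_fun_eq_card] at this
  rwa [Nat.card_eq_fintype_card, Nat.card_eq_fintype_card]

end helpers

/-- For the group of k-points of a non-degenerate theta group with constant K, let k be an algebraically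
closed field and Γ a group given with an injective homomorphism ι from kˣ onto the centre of Γ such
that K = Γ/ι(kˣ) is finite and commutative (all commutators lie in ι(kˣ)) of order prime to the
characteristic exponent of k — the group of k-points of a non-degenerate theta group 1 → G_m → G → K
→ 1 with rank(K) prime to char(k). Subgroups of K correspond to subgroups H of Γ containing ι(kˣ);
such an H is totally isotropic for the commutator pairing exactly when it is commutative, and its
orthogonal corresponds to the centralizer of H. For a subgroup H ⊇ ι(kˣ) the following are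
equivalent: (i) H is commutative and maximal among commutative subgroups of Γ; (ii) H is commutative
and [H : ι(kˣ)]² = [Γ : ι(kˣ)]; (iii) H is its own centralizer. (The published lemma is for an
arbitrary non-degenerate theta group scheme, where (iii) ⇔ (ii) ⇒ (i) always and (i) ⇒ (iii) needs k
algebraically closed; this row is the case of the group of k-points with K constant.) -/
theorem result
    (k : Type u) [Field k] [IsAlgClosed k]
    (Γ : Type u) [Group Γ] (ι : kˣ →* Γ) (hι : Function.Injective ι)
    (hcent : ι.range = Subgroup.center Γ) (hcomm : commutator Γ ≤ ι.range)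
    [Finite (Γ ⧸ ι.range)] (hcop : (Nat.card (Γ ⧸ ι.range)).Coprime (ringExpChar k))
    (H : Subgroup Γ) (hH : ι.range ≤ H) :
    List.TFAE [
      IsMulCommutative H ∧ ∀ H' : Subgroup Γ, IsMulCommutative H' → H ≤ H' → H' = H,
      IsMulCommutative H ∧ (ι.range.relIndex H) ^ 2 = ι.range.index,
      H = Subgroup.centralizer (H : Set Γ)] := by
  classical
  -- the commutator pairing
  have hcomm_mem : ∀ g h : Γ, ⁅g, h⁆ ∈ ι.range :=
    fun g h => hcomm (Subgroup.commutator_mem_commutator (Subgroup.mem_top g) (Subgroup.mem_top h))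
  choose e he using fun g h => MonoidHom.mem_range.mp (hcomm_mem g h)
  have hcentral : ∀ g h x : Γ, x * ⁅g, h⁆ = ⁅g, h⁆ * x := by
    intro g h x
    have : ⁅g, h⁆ ∈ Subgroup.center Γ := hcent ▸ hcomm_mem g h
    exact (Subgroup.mem_center_iff.mp this x)
  have he₁ : ∀ g g' h, e (g * g') h = e g h * e g' h := by
    intro g g' h
    apply hι
    rw [map_mul, he, he, he]
    have h1 : ⁅g * g', h⁆ = g * ⁅g', h⁆ * g⁻¹ * ⁅g, h⁆ := by
      simp only [commutatorElement_def]; group
    rw [h1, hcentral g' h g, mul_assoc (⁅g', h⁆) g g⁻¹, mul_inv_cancel, mul_one]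
    exact hcentral g h _
  have he₂ : ∀ g h h', e g (h * h') = e g h * e g h' := by
    intro g h h'
    apply hι
    rw [map_mul, he, he, he]
    have h1 : ⁅g, h * h'⁆ = ⁅g, h⁆ * (h * ⁅g, h'⁆ * h⁻¹) := by
      simp only [commutatorElement_def]; group
    rw [h1, hcentral g h' h, mul_assoc (⁅g, h'⁆) h h⁻¹, mul_inv_cancel, mul_one]
  have he_one : ∀ g h, e g h = 1 ↔ h * g = g * h := by
    intro g h
    rw [← hι.eq_iff, he, map_one, commutatorElement_eq_one_iff_commute]
    exact ⟨fun hc => hc.eq.symm, fun hc => hc.symm⟩
  -- index bookkeeping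
  have hZfin : ι.range.index ≠ 0 := Subgroup.index_ne_zero_of_finite
  have hZC : ι.range ≤ Subgroup.centralizer (H : Set Γ) := by
    rw [hcent]; exact Subgroup.center_le_centralizer _
  have hrel_ne : ι.range.relIndex H ≠ 0 := by
    intro h0
    have := Subgroup.relIndex_mul_index hH
    rw [h0, zero_mul] at this
    exact hZfin this.symm
  have hCidx_ne : (Subgroup.centralizer (H : Set Γ)).index ≠ 0 := by
    intro h0
    have := Subgroup.relIndex_mul_index hZC
    rw [h0, mul_zero] at this
    exact hZfin this.symm
  haveI hfin1 : Finite (↥H ⧸ ι.range.subgroupOf H) := Subgroup.index_ne_zero_iff_finite.mp hrel_ne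
  haveI hfin2 : Finite (Γ ⧸ Subgroup.centralizer (H : Set Γ)) :=
    Subgroup.index_ne_zero_iff_finite.mp hCidx_ne
  -- the key equality of indices
  have hkey : (Subgroup.centralizer (H : Set Γ)).index = ι.range.relIndex H := by
    apply le_antisymm
    · have := card_quotient_le_of_pairing (k := k) (fun (g : Γ) (h : ↥H) => e g h)
        (fun g g' h => he₁ g g' h) (fun g h h' => he₂ g h h')
        (Subgroup.centralizer (H : Set Γ)) (ι.range.subgroupOf H)
        (by
          intro g
          rw [Subgroup.mem_centralizer_iff]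
          constructor
          · intro hg h; exact (he_one g h).mpr (hg h h.2)
          · intro hg h hh; exact (he_one g h).mp (hg ⟨h, hh⟩))
        (by
          intro h
          rw [Subgroup.mem_subgroupOf, hcent, Subgroup.mem_center_iff]
          constructor
          · intro hh g; exact (he_one g h).mpr (hh g).symm
          · intro hh g; exact ((he_one g h).mp (hh g)).symm)
      exact this
    · have := card_quotient_le_of_pairing (k := k) (fun (h : ↥H) (g : Γ) => e g h)
        (fun h h' g => he₂ g h h') (fun h g g' => he₁ g g' h)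
        (ι.range.subgroupOf H) (Subgroup.centralizer (H : Set Γ))
        (by
          intro h
          rw [Subgroup.mem_subgroupOf, hcent, Subgroup.mem_center_iff]
          constructor
          · intro hh g; exact (he_one g h).mpr (hh g).symm
          · intro hh g; exact ((he_one g h).mp (hh g)).symm)
        (by
          intro g
          rw [Subgroup.mem_centralizer_iff]
          constructor
          · intro hg h; exact (he_one g h).mpr (hg h h.2)
          · intro hg h hh; exact (he_one g h).mp (hg ⟨h, hh⟩))
      exact this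
  have hcommiff : IsMulCommutative H ↔ H ≤ Subgroup.centralizer (H : Set Γ) :=
    Subgroup.le_centralizer_iff_isMulCommutative.symm
  tfae_have 3 → 1 := by
    intro h3
    have hle : H ≤ Subgroup.centralizer (H : Set Γ) := h3 ▸ le_rfl
    refine ⟨hcommiff.mpr hle, fun H' hH' hHH' => ?_⟩
    have h1 : H' ≤ Subgroup.centralizer (H' : Set Γ) :=
      Subgroup.le_centralizer_iff_isMulCommutative.mpr hH'
    have h2 : Subgroup.centralizer (H' : Set Γ) ≤ Subgroup.centralizer (H : Set Γ) :=
      Subgroup.centralizer_le hHH'
    exact le_antisymm (h3 ▸ (h1.trans h2)) hHH'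
  tfae_have 1 → 3 := by
    rintro ⟨hc, hmax⟩
    have hle : H ≤ Subgroup.centralizer (H : Set Γ) := hcommiff.mp hc
    refine le_antisymm hle ?_
    intro g hg
    -- the subgroup generated by H and g is commutative
    set S : Set Γ := (H : Set Γ) ∪ {g} with hS
    have hScomm : S ⊆ Subgroup.centralizer S := by
      intro a ha
      rw [SetLike.mem_coe, Subgroup.mem_centralizer_iff]
      intro b hb
      rcases ha with ha | ha <;> rcases hb with hb | hb
      · exact (Subgroup.mem_centralizer_iff.mp (hle ha) b hb)
      · rw [Set.mem_singleton_iff] at hb; subst hb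
        exact ((Subgroup.mem_centralizer_iff.mp hg) a ha).symm
      · rw [Set.mem_singleton_iff] at ha; subst ha
        exact (Subgroup.mem_centralizer_iff.mp hg) b hb
      · rw [Set.mem_singleton_iff] at ha hb; subst ha; subst hb; rfl
    have hcl : Subgroup.closure S ≤ Subgroup.centralizer (Subgroup.closure S : Set Γ) := by
      rw [Subgroup.centralizer_closure]
      exact (Subgroup.closure_le _).mpr hScomm
    have hH' := hmax (Subgroup.closure S) (Subgroup.le_centralizer_iff_isMulCommutative.mp hcl)
      (fun a ha => Subgroup.subset_closure (Or.inl ha))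
    rw [← hH']
    exact Subgroup.subset_closure (Or.inr rfl)
  tfae_have 3 → 2 := by
    intro h3
    have hle : H ≤ Subgroup.centralizer (H : Set Γ) := h3 ▸ le_rfl
    refine ⟨hcommiff.mpr hle, ?_⟩
    have h1 := Subgroup.relIndex_mul_index hH
    rw [← h1, pow_two]
    congr 1
    rw [← hkey, ← h3]
  tfae_have 2 → 3 := by
    rintro ⟨hc, hidx⟩
    have hle : H ≤ Subgroup.centralizer (H : Set Γ) := hcommiff.mp hc
    refine le_antisymm hle ?_
    rw [← Subgroup.relIndex_eq_one]
    have h1 := Subgroup.relIndex_mul_index hZC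
    have h2 := Subgroup.relIndex_mul_relIndex ι.range H (Subgroup.centralizer (H : Set Γ)) hH hle
    rw [← h2, hkey, ← hidx, pow_two] at h1
    -- ι.range.relIndex H * r * ι.range.relIndex H = ι.range.relIndex H * ι.range.relIndex H
    have hpos : 0 < ι.range.relIndex H := Nat.pos_of_ne_zero hrel_ne
    have h3 : ι.range.relIndex H * ι.range.relIndex H * (H.relIndex (Subgroup.centralizer (H : Set Γ))) =
        ι.range.relIndex H * ι.range.relIndex H * 1 := by
      rw [mul_one]
      calc ι.range.relIndex H * ι.range.relIndex H * (H.relIndex (Subgroup.centralizer (H : Set Γ)))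
          = ι.range.relIndex H * H.relIndex (Subgroup.centralizer (H : Set Γ)) *
              ι.range.relIndex H := by ring
        _ = ι.range.relIndex H * ι.range.relIndex H := h1
    exact Nat.eq_of_mul_eq_mul_left (Nat.mul_pos hpos hpos) h3
  tfae_finish

end Groth.Agent.S17512
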