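import Groth.Statements.S17517
import Mathlib

set_option autoImplicit false
universe u
open GIT

namespace Groth.Agent.S17517


namespace S17517aux

variable {E : Type*} [NormedAddCommGroup E] [InnerProductSpace ℝ E]

noncomputable def phi (F : Finset (Module.Dual ℝ E)) (hF : F.Nonempty) (v : E) : ℝ :=
  F.inf' hF (fun f => f v)

section basic
variable (F : Finset (Module.Dual ℝ E)) (hF : F.Nonempty)

lemma phi_le {f : Module.Dual ℝ E} (hf : f ∈ F) (v : E) : phi F hF v ≤ f v :=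
  Finset.inf'_le (fun f : Module.Dual ℝ E => f v) hf

lemma le_phi_iff {c : ℝ} {v : E} : c ≤ phi F hF v ↔ ∀ f ∈ F, c ≤ f v :=
  Finset.le_inf'_iff hF (fun f : Module.Dual ℝ E => f v)

lemma exists_phi_eq (v : E) : ∃ f ∈ F, phi F hF v = f v :=
  Finset.exists_mem_eq_inf' hF (fun f : Module.Dual ℝ E => f v)

lemma phi_zero : phi F hF (0:E) = 0 := by
  obtain ⟨f, -, h⟩ := exists_phi_eq F hF (0:E)
  rw [h, map_zero]

lemma phi_add_le (x y : E) : phi F hF x + phi F hF y ≤ phi F hF (x + y) := by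
  rw [le_phi_iff]
  intro f hf
  rw [map_add]
  exact add_le_add (phi_le F hF hf x) (phi_le F hF hf y)

lemma phi_smul {t : ℝ} (ht : 0 ≤ t) (x : E) : phi F hF (t • x) = t * phi F hF x := by
  apply le_antisymm
  · obtain ⟨f, hf, h⟩ := exists_phi_eq F hF x
    rw [h]
    calc phi F hF (t • x) ≤ f (t • x) := phi_le F hF hf _
      _ = t * f x := by rw [map_smul, smul_eq_mul]
  · rw [le_phi_iff]
    intro f hf
    rw [map_smul, smul_eq_mul]
    exact mul_le_mul_of_nonneg_left (phi_le F hF hf x) ht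

lemma phi_continuous [FiniteDimensional ℝ E] : Continuous (phi F hF) := by
  have h := Continuous.finset_inf'_apply (s := F)
    (f := fun (g : Module.Dual ℝ E) (x : E) => g x) hF
    (fun g _ => LinearMap.continuous_of_finiteDimensional g)
  exact h

end basic

lemma exists_max [FiniteDimensional ℝ E] (F G : Finset (Module.Dual ℝ E)) (hF : F.Nonempty)
    (hG : G.Nonempty) (hpos : ∃ v : E, 0 ≤ phi F hF v ∧ 0 < phi G hG v) :
    ∃ u : E, ‖u‖ = 1 ∧ 0 ≤ phi F hF u ∧ 0 < phi G hG u ∧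
      ∀ v : E, v ≠ 0 → 0 ≤ phi F hF v → phi G hG v / ‖v‖ ≤ phi G hG u := by
  obtain ⟨v₁, hv₁F, hv₁G⟩ := hpos
  have hv₁ : v₁ ≠ 0 := by
    rintro rfl
    rw [phi_zero] at hv₁G
    exact lt_irrefl _ hv₁G
  have hKc : IsCompact (Metric.sphere (0:E) 1 ∩ {v | 0 ≤ phi F hF v}) :=
    (isCompact_sphere (0:E) 1).inter_right (isClosed_le continuous_const (phi_continuous F hF))
  have hnorm : ∀ v : E, v ≠ 0 → 0 ≤ phi F hF v →
      ‖v‖⁻¹ • v ∈ Metric.sphere (0:E) 1 ∩ {v | 0 ≤ phi F hF v} := by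
    intro v hv hvF
    have hn : 0 < ‖v‖ := norm_pos_iff.2 hv
    refine ⟨?_, ?_⟩
    · rw [mem_sphere_zero_iff_norm, norm_smul, norm_inv, norm_norm, inv_mul_cancel₀ hn.ne']
    · show 0 ≤ phi F hF (‖v‖⁻¹ • v)
      rw [phi_smul F hF (inv_nonneg.2 hn.le)]
      exact mul_nonneg (inv_nonneg.2 hn.le) hvF
  obtain ⟨u, huK, humax⟩ := hKc.exists_isMaxOn ⟨_, hnorm v₁ hv₁ hv₁F⟩
    (phi_continuous G hG).continuousOn
  have key : ∀ v : E, v ≠ 0 → 0 ≤ phi F hF v → phi G hG v / ‖v‖ ≤ phi G hG u := by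
    intro v hv hvF
    have hn : 0 < ‖v‖ := norm_pos_iff.2 hv
    have h1 := isMaxOn_iff.1 humax _ (hnorm v hv hvF)
    rw [phi_smul G hG (inv_nonneg.2 hn.le)] at h1
    rw [div_eq_inv_mul]
    exact h1
  refine ⟨u, mem_sphere_zero_iff_norm.1 huK.1, huK.2, ?_, key⟩
  exact lt_of_lt_of_le (div_pos hv₁G (norm_pos_iff.2 hv₁)) (key v₁ hv₁ hv₁F)

lemma ray_unique (F G : Finset (Module.Dual ℝ E)) (hF : F.Nonempty) (hG : G.Nonempty)
    {u : E} (hu1 : ‖u‖ = 1) (huF : 0 ≤ phi F hF u) (hM : 0 < phi G hG u)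
    (hmax : ∀ v : E, v ≠ 0 → 0 ≤ phi F hF v → phi G hG v / ‖v‖ ≤ phi G hG u)
    {v : E} (hv : v ≠ 0) (hvF : 0 ≤ phi F hF v) (hvM : phi G hG v / ‖v‖ = phi G hG u) :
    v = ‖v‖ • u := by
  have hn : 0 < ‖v‖ := norm_pos_iff.2 hv
  obtain ⟨v', hv'⟩ : ∃ v' : E, v' = ‖v‖⁻¹ • v := ⟨_, rfl⟩
  have hv'1 : ‖v'‖ = 1 := by
    rw [hv', norm_smul, norm_inv, norm_norm, inv_mul_cancel₀ hn.ne']
  have hv'F : 0 ≤ phi F hF v' := by
    rw [hv', phi_smul F hF (inv_nonneg.2 hn.le)]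
    exact mul_nonneg (inv_nonneg.2 hn.le) hvF
  have hv'G : phi G hG v' = phi G hG u := by
    rw [hv', phi_smul G hG (inv_nonneg.2 hn.le), ← div_eq_inv_mul]
    exact hvM
  have heq : v' = u := by
    by_contra hne
    have hray : ¬ SameRay ℝ v' u := (not_sameRay_iff_of_norm_eq (hv'1.trans hu1.symm)).2 hne
    have hlt : ‖v' + u‖ < 2 := by
      have := norm_add_lt_of_not_sameRay hray
      rw [hv'1, hu1] at this
      linarith
    have hmF : 0 ≤ phi F hF (v' + u) := le_trans (add_nonneg hv'F huF) (phi_add_le F hF v' u)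
    have hmG : 2 * phi G hG u ≤ phi G hG (v' + u) := by
      have := phi_add_le G hG v' u
      rw [hv'G] at this
      linarith
    have hm0 : v' + u ≠ 0 := by
      intro h0
      rw [h0, phi_zero] at hmG
      linarith
    have hmn : 0 < ‖v' + u‖ := norm_pos_iff.2 hm0
    have h1 := hmax (v' + u) hm0 hmF
    rw [div_le_iff₀ hmn] at h1
    nlinarith [mul_pos hM (sub_pos.2 hlt)]
  rw [← heq, hv', smul_smul, mul_inv_cancel₀ hn.ne', one_smul]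

lemma perturb_false (F G : Finset (Module.Dual ℝ E)) (hF : F.Nonempty) (hG : G.Nonempty)
    {u : E} (hu1 : ‖u‖ = 1) (huF : 0 ≤ phi F hF u) (hM : 0 < phi G hG u)
    (hmax : ∀ v : E, v ≠ 0 → 0 ≤ phi F hF v → phi G hG v / ‖v‖ ≤ phi G hG u)
    {k : E} (hk : 0 < inner ℝ u k)
    (hkF : ∀ f ∈ F, f u = 0 → f k = 0) (hkG : ∀ g ∈ G, g u = phi G hG u → g k = 0) : False := by
  obtain ⟨M, hMdef⟩ : ∃ M : ℝ, M = phi G hG u := ⟨_, rfl⟩
  rw [← hMdef] at hM hmax hkG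
  have e1 : ∀ f ∈ F, ∀ᶠ t : ℝ in nhds 0, 0 ≤ f u - t * f k := by
    intro f hf
    rcases ((le_phi_iff F hF).1 huF f hf).eq_or_lt with h0 | h0
    · have hfk := hkF f hf h0.symm
      exact Filter.Eventually.of_forall (fun t => by rw [hfk, ← h0]; simp)
    · have hc : Continuous (fun t : ℝ => f u - t * f k) := by fun_prop
      have := (hc.tendsto 0).eventually_const_lt (u := 0) (by simpa using h0)
      exact this.mono (fun t ht => le_of_lt ht)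
  have e2 : ∀ g ∈ G, ∀ᶠ t : ℝ in nhds 0, M ≤ g u - t * g k := by
    intro g hg
    have hMg : M ≤ g u := by rw [hMdef]; exact phi_le G hG hg u
    rcases hMg.eq_or_lt with h0 | h0
    · have hgk := hkG g hg h0.symm
      exact Filter.Eventually.of_forall (fun t => by rw [hgk, ← h0]; simp)
    · have hc : Continuous (fun t : ℝ => g u - t * g k) := by fun_prop
      have := (hc.tendsto 0).eventually_const_lt (u := M) (by simpa using h0)
      exact this.mono (fun t ht => le_of_lt ht)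
  have e3 : ∀ᶠ t : ℝ in nhds 0, t * ‖k‖ ^ 2 < 2 * inner ℝ u k := by
    have hc : Continuous (fun t : ℝ => t * ‖k‖ ^ 2) := by fun_prop
    exact (hc.tendsto 0).eventually_lt_const (by simpa using hk)
  have eAll := ((Filter.eventually_all_finset F).2 e1).and
    (((Filter.eventually_all_finset G).2 e2).and e3)
  obtain ⟨ε, hε, hball⟩ := Metric.eventually_nhds_iff.1 eAll
  have ht0' : (0:ℝ) < ε / 2 := half_pos hε
  obtain ⟨htF', htG', ht3'⟩ := @hball (ε / 2) (by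
    rw [Real.dist_eq, sub_zero, abs_of_pos ht0']; exact half_lt_self hε)
  obtain ⟨t, htdef⟩ : ∃ t : ℝ, t = ε / 2 := ⟨_, rfl⟩
  have ht0 : 0 < t := by rw [htdef]; exact ht0'
  have htF : ∀ f ∈ F, 0 ≤ f u - t * f k := by rw [htdef]; exact htF'
  have htG : ∀ g ∈ G, M ≤ g u - t * g k := by rw [htdef]; exact htG'
  have ht3 : t * ‖k‖ ^ 2 < 2 * inner ℝ u k := by rw [htdef]; exact ht3'
  obtain ⟨v, hv⟩ : ∃ v : E, v = u - t • k := ⟨_, rfl⟩
  have hfv : ∀ f : Module.Dual ℝ E, f v = f u - t * f k := fun f => by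
    rw [hv, map_sub, map_smul, smul_eq_mul]
  have hvF : 0 ≤ phi F hF v := (le_phi_iff F hF).2 (fun f hf => by rw [hfv]; exact htF f hf)
  have hvG : M ≤ phi G hG v := (le_phi_iff G hG).2 (fun g hg => by rw [hfv]; exact htG g hg)
  have hv0 : v ≠ 0 := by
    intro h0
    rw [h0, phi_zero] at hvG
    linarith
  have hvn : 0 < ‖v‖ := norm_pos_iff.2 hv0
  have hsq : ‖v‖ ^ 2 < 1 := by
    have e : ‖v‖ ^ 2 = 1 - 2 * (t * inner ℝ u k) + t ^ 2 * ‖k‖ ^ 2 := by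
      rw [hv, norm_sub_sq_real, hu1, real_inner_smul_right, norm_smul, Real.norm_eq_abs,
        abs_of_pos ht0]
      ring
    rw [e]
    nlinarith [mul_lt_mul_of_pos_left ht3 ht0]
  have hvlt : ‖v‖ < 1 := by
    by_contra h
    push_neg at h
    nlinarith [mul_le_mul h h zero_le_one hvn.le]
  have h1 := hmax v hv0 hvF
  rw [div_le_iff₀ hvn] at h1
  nlinarith [mul_lt_mul_of_pos_left hvlt hM]

lemma exists_retraction : ∃ r : ℝ →ₗ[ℚ] ℚ, ∀ q : ℚ, r (q : ℝ) = q := by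
  obtain ⟨g, hg⟩ := LinearMap.exists_leftInverse_of_injective (Algebra.linearMap ℚ ℝ)
    (LinearMap.ker_eq_bot.2 (fun a b h => by simpa using h))
  refine ⟨g, fun q => ?_⟩
  have := LinearMap.congr_fun hg q
  simpa using this

lemma r_mul (r : ℝ →ₗ[ℚ] ℚ) (q : ℚ) (x : ℝ) : r ((q:ℝ) * x) = q * r x := by
  have h := r.map_smul q x
  rw [Algebra.smul_def, eq_ratCast, smul_eq_mul] at h
  exact h

lemma rational_combination (r : ℝ →ₗ[ℚ] ℚ) (hr : ∀ q : ℚ, r (q:ℝ) = q)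
    {ι : Type*} [Fintype ι] (a : ι → E)
    (hq : ∀ i j, ∃ q : ℚ, inner ℝ (a i) (a j) = (q:ℝ))
    {w : E} (hw : w ∈ Submodule.span ℝ (Set.range a))
    (hwq : ∀ j, ∃ q : ℚ, inner ℝ w (a j) = (q:ℝ)) :
    ∃ c : ι → ℚ, w = ∑ i, (c i : ℝ) • a i := by
  classical
  obtain ⟨lam, hlam⟩ := (Submodule.mem_span_range_iff_exists_fun ℝ).1 hw
  choose Q hQ using hq
  choose p hp using hwq
  refine ⟨fun i => r (lam i), ?_⟩
  show w = ∑ i, ((r (lam i) : ℚ) : ℝ) • a i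
  obtain ⟨w', hw'⟩ : ∃ w' : E, w' = ∑ i, ((r (lam i) : ℚ) : ℝ) • a i := ⟨_, rfl⟩
  rw [← hw']
  have hw'mem : w' ∈ Submodule.span ℝ (Set.range a) := by
    rw [hw']
    exact Submodule.sum_mem _ (fun i _ => Submodule.smul_mem _ _ (Submodule.subset_span ⟨i, rfl⟩))
  have h1 : ∀ j, inner ℝ w (a j) = ∑ i, lam i * (Q i j : ℝ) := by
    intro j
    rw [← hlam, sum_inner]
    refine Finset.sum_congr rfl (fun i _ => ?_)
    rw [real_inner_smul_left, hQ]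
  have h2 : ∀ j, inner ℝ w' (a j) = ∑ i, ((r (lam i) : ℚ) : ℝ) * (Q i j : ℝ) := by
    intro j
    rw [hw', sum_inner]
    refine Finset.sum_congr rfl (fun i _ => ?_)
    rw [real_inner_smul_left, hQ]
  have h3 : ∀ j, inner ℝ w' (a j) = inner ℝ w (a j) := by
    intro j
    rw [h2, hp j]
    have h4 : r (∑ i, lam i * (Q i j : ℝ)) = p j := by
      rw [← h1 j, hp j, hr]
    rw [map_sum] at h4
    have h5 : ∀ i, r (lam i * (Q i j : ℝ)) = Q i j * r (lam i) := by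
      intro i
      rw [mul_comm (lam i) _, r_mul]
    simp only [h5] at h4
    rw [← h4]
    push_cast
    refine Finset.sum_congr rfl (fun i _ => ?_)
    ring
  have hdmem : w - w' ∈ Submodule.span ℝ (Set.range a) := Submodule.sub_mem _ hw hw'mem
  have h6 : ∀ j, inner ℝ (w - w') (a j) = 0 := by
    intro j
    rw [inner_sub_left, h3, sub_self]
  have h7 : ∀ y ∈ Submodule.span ℝ (Set.range a), inner ℝ (w - w') y = 0 := by
    intro y hy
    obtain ⟨mu, rfl⟩ := (Submodule.mem_span_range_iff_exists_fun ℝ).1 hy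
    rw [inner_sum]
    exact Finset.sum_eq_zero (fun i _ => by rw [real_inner_smul_right, h6, mul_zero])
  exact sub_eq_zero.1 (inner_self_eq_zero.1 (h7 _ hdmem))

lemma exists_nat_smul_mem [FiniteDimensional ℝ E] (r : ℝ →ₗ[ℚ] ℚ) (hr : ∀ q : ℚ, r (q:ℝ) = q)
    (L : Submodule ℤ E) [DiscreteTopology L] [IsZLattice ℝ L]
    (hint : ∀ x ∈ L, ∀ y ∈ L, ∃ n : ℤ, inner ℝ x y = (n : ℝ))
    {x : E} (hx : ∀ ℓ ∈ L, ∃ q : ℚ, inner ℝ x ℓ = (q:ℝ)) :
    ∃ N : ℕ, 0 < N ∧ (N : ℝ) • x ∈ L := by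
  classical
  have : Module.Finite ℤ L := ZLattice.module_finite ℝ L
  have : Module.Free ℤ L := ZLattice.module_free ℝ L
  let b := Module.Free.chooseBasis ℤ L
  let e := b.ofZLatticeBasis ℝ L
  have he : ∀ i, e i = (b i : E) := fun i => b.ofZLatticeBasis_apply ℝ L i
  have heL : ∀ i, e i ∈ L := fun i => by rw [he]; exact (b i).2
  obtain ⟨c, hc⟩ := rational_combination r hr (a := ⇑e)
    (fun i j => by
      obtain ⟨n, hn⟩ := hint _ (heL i) _ (heL j)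
      exact ⟨n, by rw [hn, Rat.cast_intCast]⟩)
    (by rw [e.span_eq]; exact Submodule.mem_top)
    (fun j => hx _ (heL j))
  refine ⟨∏ i, (c i).den, Finset.prod_pos (fun i _ => (c i).den_pos), ?_⟩
  rw [hc, Finset.smul_sum]
  refine Submodule.sum_mem _ (fun i _ => ?_)
  rw [smul_smul]
  have hm' : (c i).den ∣ ∏ j, (c j).den :=
    Finset.dvd_prod_of_mem (fun j => (c j).den) (Finset.mem_univ i)
  obtain ⟨m, hm⟩ := hm'
  have key : ((∏ j, (c j).den : ℕ) : ℝ) * ((c i : ℚ) : ℝ) = (((m : ℤ) * (c i).num : ℤ) : ℝ) := by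
    rw [hm, Rat.cast_def (c i)]
    have hden : ((c i).den : ℝ) ≠ 0 := Nat.cast_ne_zero.2 (c i).den_nz
    push_cast
    field_simp
  rw [key, Int.cast_smul_eq_zsmul ℝ]
  exact L.smul_mem _ (heL i)

lemma exists_riesz [FiniteDimensional ℝ E] (f : Module.Dual ℝ E) :
    ∃ a : E, ∀ x, inner ℝ a x = f x := by
  have : CompleteSpace E := FiniteDimensional.complete ℝ E
  refine ⟨(InnerProductSpace.toDual ℝ E).symm (LinearMap.toContinuousLinearMap f), fun x => ?_⟩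
  rw [InnerProductSpace.toDual_symm_apply]
  simp

lemma exists_pos_smul_mem [FiniteDimensional ℝ E] (L : Submodule ℤ E) [DiscreteTopology L]
    [IsZLattice ℝ L]
    (hint : ∀ x ∈ L, ∀ y ∈ L, ∃ n : ℤ, inner ℝ x y = (n : ℝ))
    (F G : Finset (Module.Dual ℝ E)) (hF : F.Nonempty) (hG : G.Nonempty)
    (hFi : ∀ f ∈ F, ∀ x ∈ L, ∃ n : ℤ, f x = (n : ℝ))
    (hGi : ∀ g ∈ G, ∀ x ∈ L, ∃ n : ℤ, g x = (n : ℝ))
    {u : E} (hu1 : ‖u‖ = 1) (huF : 0 ≤ phi F hF u) (hM : 0 < phi G hG u)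
    (hmax : ∀ v : E, v ≠ 0 → 0 ≤ phi F hF v → phi G hG v / ‖v‖ ≤ phi G hG u) :
    ∃ t : ℝ, 0 < t ∧ t • u ∈ L := by
  classical
  obtain ⟨r, hr⟩ := exists_retraction
  choose az haz using (exists_riesz (E := E))
  obtain ⟨S, hS⟩ : ∃ S : Finset (Module.Dual ℝ E),
      S = (F.filter (fun f => f u = 0)) ∪ (G.filter (fun g => g u = phi G hG u)) := ⟨_, rfl⟩
  have hSF : ∀ f ∈ F, f u = 0 → f ∈ S := fun f hf h0 => by
    rw [hS]; exact Finset.mem_union_left _ (Finset.mem_filter.2 ⟨hf, h0⟩)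
  have hSG : ∀ g ∈ G, g u = phi G hG u → g ∈ S := fun g hg h0 => by
    rw [hS]; exact Finset.mem_union_right _ (Finset.mem_filter.2 ⟨hg, h0⟩)
  have hScases : ∀ s ∈ S, (s ∈ F ∧ s u = 0) ∨ (s ∈ G ∧ s u = phi G hG u) := fun s hs => by
    rw [hS] at hs
    rcases Finset.mem_union.1 hs with h | h
    · exact Or.inl (Finset.mem_filter.1 h)
    · exact Or.inr (Finset.mem_filter.1 h)
  have hSint : ∀ s ∈ S, ∀ x ∈ L, ∃ n : ℤ, s x = (n:ℝ) := fun s hs x hx => by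
    rcases hScases s hs with h | h
    · exact hFi s h.1 x hx
    · exact hGi s h.1 x hx
  have hrat : ∀ s ∈ S, ∃ N : ℕ, 0 < N ∧ (N:ℝ) • az s ∈ L := fun s hs => by
    apply exists_nat_smul_mem r hr L hint
    intro ℓ hℓ
    obtain ⟨n, hn⟩ := hSint s hs ℓ hℓ
    exact ⟨n, by rw [haz, hn, Rat.cast_intCast]⟩
  have hgram : ∀ s ∈ S, ∀ s' ∈ S, ∃ q : ℚ, inner ℝ (az s) (az s') = (q:ℝ) :=
    fun s hs s' hs' => by
    obtain ⟨N, hN, hNL⟩ := hrat s' hs'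
    obtain ⟨n, hn⟩ := hSint s hs _ hNL
    rw [map_smul, smul_eq_mul] at hn
    have hN' : (N:ℝ) ≠ 0 := Nat.cast_ne_zero.2 hN.ne'
    refine ⟨(n:ℚ) / (N:ℚ), ?_⟩
    rw [haz]
    push_cast
    rw [eq_div_iff hN', mul_comm]
    exact hn
  let a : S → E := fun s => az s.1
  obtain ⟨W, hW⟩ : ∃ W : Submodule ℝ E, W = Submodule.span ℝ (Set.range a) := ⟨_, rfl⟩
  have haW : ∀ s : S, a s ∈ W := fun s => by rw [hW]; exact Submodule.subset_span ⟨s, rfl⟩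
  have huW : u ∈ W := by
    have : CompleteSpace W := FiniteDimensional.complete ℝ W
    rw [← Submodule.orthogonal_orthogonal W, Submodule.mem_orthogonal]
    intro k hk
    have hks : ∀ s ∈ S, s k = 0 := fun s hs => by
      rw [← haz s k]
      exact (Submodule.mem_orthogonal W k).1 hk (az s) (haW ⟨s, hs⟩)
    by_contra hne
    have hc := real_inner_comm k u
    rcases lt_or_gt_of_ne hne with hlt | hgt
    · refine perturb_false F G hF hG hu1 huF hM hmax (k := -k) ?_ ?_ ?_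
      · rw [inner_neg_right]; linarith
      · intro f hf h0; rw [map_neg, hks f (hSF f hf h0), neg_zero]
      · intro g hg h0; rw [map_neg, hks g (hSG g hg h0), neg_zero]
    · refine perturb_false F G hF hG hu1 huF hM hmax (k := k) ?_ ?_ ?_
      · linarith
      · intro f hf h0; exact hks f (hSF f hf h0)
      · intro g hg h0; exact hks g (hSG g hg h0)
  obtain ⟨M, hMdef⟩ : ∃ M : ℝ, M = phi G hG u := ⟨_, rfl⟩
  rw [← hMdef] at hM hScases
  obtain ⟨w, hw⟩ : ∃ w : E, w = M⁻¹ • u := ⟨_, rfl⟩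
  have hwW : w ∈ W := by rw [hw]; exact Submodule.smul_mem _ _ huW
  have hsw : ∀ s : Module.Dual ℝ E, inner ℝ w (az s) = M⁻¹ * s u := fun s => by
    rw [real_inner_comm, haz, hw, map_smul, smul_eq_mul]
  have hws : ∀ s : S, ∃ q : ℚ, inner ℝ w (a s) = (q:ℝ) := fun s => by
    show ∃ q : ℚ, inner ℝ w (az s.1) = (q:ℝ)
    rcases hScases s.1 s.2 with h | h
    · exact ⟨0, by rw [hsw, h.2]; simp⟩
    · exact ⟨1, by rw [hsw, h.2]; simp [inv_mul_cancel₀ hM.ne']⟩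
  rw [hW] at hwW
  obtain ⟨c, hc⟩ := rational_combination r hr a (fun s s' => hgram s.1 s.2 s'.1 s'.2) hwW hws
  have hwL : ∀ ℓ ∈ L, ∃ q : ℚ, inner ℝ w ℓ = (q:ℝ) := by
    intro ℓ hℓ
    choose n hn using (fun s : S => hSint s.1 s.2 ℓ hℓ)
    refine ⟨∑ s, c s * (n s : ℚ), ?_⟩
    rw [hc, sum_inner]
    push_cast
    refine Finset.sum_congr rfl (fun s _ => ?_)
    rw [real_inner_smul_left]
    show _ * inner ℝ (az s.1) ℓ = _
    rw [haz, hn]
  obtain ⟨N, hN, hNw⟩ := exists_nat_smul_mem r hr L hint hwL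
  refine ⟨(N:ℝ) * M⁻¹, mul_pos (Nat.cast_pos.2 hN) (inv_pos.2 hM), ?_⟩
  rw [← smul_smul, ← hw]
  exact hNw

lemma exists_generator (L : Submodule ℤ E)
    (hint : ∀ x ∈ L, ∀ y ∈ L, ∃ n : ℤ, inner ℝ x y = (n : ℝ))
    {u : E} (hu1 : ‖u‖ = 1) (hex : ∃ t : ℝ, 0 < t ∧ t • u ∈ L) :
    ∃ t₀ : ℝ, 0 < t₀ ∧ t₀ • u ∈ L ∧ ∀ t : ℝ, 0 < t → t • u ∈ L → ∃ n : ℤ, t = n * t₀ := by
  classical
  have hsq : ∀ t : ℝ, t • u ∈ L → ∃ m : ℕ, t ^ 2 = (m : ℝ) := by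
    intro t ht
    obtain ⟨n, hn⟩ := hint _ ht _ ht
    rw [real_inner_self_eq_norm_sq, norm_smul, hu1, mul_one, Real.norm_eq_abs, sq_abs] at hn
    have hn0 : 0 ≤ n := by
      have h : (0:ℝ) ≤ (n:ℝ) := by rw [← hn]; positivity
      exact_mod_cast h
    obtain ⟨m, rfl⟩ := Int.eq_ofNat_of_zero_le hn0
    exact ⟨m, by rw [hn]; simp⟩
  have hP : ∃ m : ℕ, ∃ t : ℝ, 0 < t ∧ t • u ∈ L ∧ t ^ 2 = (m : ℝ) := by
    obtain ⟨t, ht, htL⟩ := hex
    obtain ⟨m, hm⟩ := hsq t htL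
    exact ⟨m, t, ht, htL, hm⟩
  obtain ⟨t₀, ht₀, ht₀L, ht₀m⟩ := Nat.find_spec hP
  refine ⟨t₀, ht₀, ht₀L, ?_⟩
  intro t ht htL
  obtain ⟨n, hn⟩ : ∃ n : ℤ, n = ⌊t / t₀⌋ := ⟨_, rfl⟩
  have hq1 : (n:ℝ) ≤ t / t₀ := by rw [hn]; exact Int.floor_le _
  have hq2 : t / t₀ < n + 1 := by rw [hn]; exact Int.lt_floor_add_one _
  obtain ⟨s, hs⟩ : ∃ s : ℝ, s = t - n * t₀ := ⟨_, rfl⟩
  have hs0 : 0 ≤ s := by
    have : (n:ℝ) * t₀ ≤ t := by
      calc (n:ℝ) * t₀ ≤ t / t₀ * t₀ := mul_le_mul_of_nonneg_right hq1 ht₀.le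
        _ = t := div_mul_cancel₀ t ht₀.ne'
    rw [hs]; linarith
  have hs1 : s < t₀ := by
    rw [div_lt_iff₀ ht₀] at hq2
    rw [hs]; linarith
  have hsL : s • u ∈ L := by
    rw [hs, sub_smul, mul_smul]
    refine L.sub_mem htL ?_
    rw [Int.cast_smul_eq_zsmul ℝ]
    exact L.smul_mem n ht₀L
  refine ⟨n, ?_⟩
  by_contra hne
  have hspos : 0 < s := lt_of_le_of_ne hs0 (fun h => hne (by rw [hs] at h; linarith))
  obtain ⟨m, hm⟩ := hsq s hsL
  have hle := Nat.find_min' hP ⟨s, hspos, hsL, hm⟩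
  have hlt : (m:ℝ) < (Nat.find hP : ℝ) := by
    rw [← hm, ← ht₀m]
    exact pow_lt_pow_left₀ hs1 hs0 two_ne_zero
  have hlt' : m < Nat.find hP := by exact_mod_cast hlt
  omega

theorem main (E : Type*) [NormedAddCommGroup E] [InnerProductSpace ℝ E] [FiniteDimensional ℝ E]
    (L : Submodule ℤ E) [DiscreteTopology L] [IsZLattice ℝ L]
    (hint : ∀ x ∈ L, ∀ y ∈ L, ∃ n : ℤ, inner ℝ x y = (n : ℝ))
    (F G : Finset (Module.Dual ℝ E)) (hF : F.Nonempty) (hG : G.Nonempty)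
    (hFi : ∀ f ∈ F, ∀ x ∈ L, ∃ n : ℤ, f x = (n : ℝ))
    (hGi : ∀ g ∈ G, ∀ x ∈ L, ∃ n : ℤ, g x = (n : ℝ))
    (hpos : ∃ v : E, 0 ≤ phi F hF v ∧ 0 < phi G hG v) :
    ∃ M : ℝ, IsGreatest ((fun v => phi G hG v / ‖v‖) '' {v : E | v ≠ 0 ∧ 0 ≤ phi F hF v}) M ∧
      ∃! v₀ : E, v₀ ∈ L ∧ v₀ ≠ 0 ∧ 0 ≤ phi F hF v₀ ∧ phi G hG v₀ / ‖v₀‖ = M ∧
        ∀ v ∈ L, v ≠ 0 → 0 ≤ phi F hF v → phi G hG v / ‖v‖ = M → ∃ n : ℤ, v = n • v₀ := by
  obtain ⟨u, hu1, huF, hM, hmax⟩ := exists_max F G hF hG hpos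
  have hu0 : u ≠ 0 := by
    rintro rfl
    simp at hu1
  obtain ⟨t₀, ht₀, ht₀L, hgen⟩ := exists_generator L hint hu1
    (exists_pos_smul_mem L hint F G hF hG hFi hGi hu1 huF hM hmax)
  refine ⟨phi G hG u, ⟨⟨u, ⟨hu0, huF⟩, by simp [hu1]⟩, ?_⟩, ?_⟩
  · rintro _ ⟨v, ⟨hv0, hvF⟩, rfl⟩
    exact hmax v hv0 hvF
  · have hray : ∀ {v : E}, v ≠ 0 → 0 ≤ phi F hF v → phi G hG v / ‖v‖ = phi G hG u →
        v = ‖v‖ • u := fun hv hvF hvM => ray_unique F G hF hG hu1 huF hM hmax hv hvF hvM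
    have hv₀0 : t₀ • u ≠ 0 := smul_ne_zero ht₀.ne' hu0
    have hv₀n : ‖t₀ • u‖ = t₀ := by
      rw [norm_smul, hu1, mul_one, Real.norm_eq_abs, abs_of_pos ht₀]
    have hv₀F : 0 ≤ phi F hF (t₀ • u) := by
      rw [phi_smul F hF ht₀.le]; exact mul_nonneg ht₀.le huF
    have hv₀G : phi G hG (t₀ • u) / ‖t₀ • u‖ = phi G hG u := by
      rw [hv₀n, phi_smul G hG ht₀.le, mul_div_cancel_left₀ _ ht₀.ne']
    have hdiv : ∀ v ∈ L, v ≠ 0 → 0 ≤ phi F hF v → phi G hG v / ‖v‖ = phi G hG u →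
        ∃ n : ℤ, v = n • (t₀ • u) := by
      intro v hvL hv0 hvF hvM
      have hv := hray hv0 hvF hvM
      obtain ⟨n, hn⟩ := hgen ‖v‖ (norm_pos_iff.2 hv0) (by rw [← hv]; exact hvL)
      refine ⟨n, ?_⟩
      rw [← Int.cast_smul_eq_zsmul ℝ, smul_smul, ← hn]
      exact hv
    refine ⟨t₀ • u, ⟨ht₀L, hv₀0, hv₀F, hv₀G, hdiv⟩, ?_⟩
    rintro v₁ ⟨hv₁L, hv₁0, hv₁F, hv₁M, hv₁div⟩
    obtain ⟨n, hn⟩ := hv₁div (t₀ • u) ht₀L hv₀0 hv₀F hv₀G
    obtain ⟨m, hm⟩ := hdiv v₁ hv₁L hv₁0 hv₁F hv₁M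
    have hn1 : ‖t₀ • u‖ = |(n:ℝ)| * ‖v₁‖ := by
      conv_lhs => rw [hn]
      rw [← Int.cast_smul_eq_zsmul ℝ, norm_smul, Real.norm_eq_abs]
    have hm1 : ‖v₁‖ = |(m:ℝ)| * ‖t₀ • u‖ := by
      conv_lhs => rw [hm]
      rw [← Int.cast_smul_eq_zsmul ℝ, norm_smul, Real.norm_eq_abs]
    have hnne : n ≠ 0 := by
      rintro rfl
      rw [zero_smul] at hn
      exact hv₀0 hn
    have hmne : m ≠ 0 := by
      rintro rfl
      rw [zero_smul] at hm
      exact hv₁0 hm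
    have hn2 : (1:ℝ) ≤ |(n:ℝ)| := by
      have : (1:ℤ) ≤ |n| := Int.one_le_abs hnne
      exact_mod_cast this
    have hm2 : (1:ℝ) ≤ |(m:ℝ)| := by
      have : (1:ℤ) ≤ |m| := Int.one_le_abs hmne
      exact_mod_cast this
    have hv₁n : 0 < ‖v₁‖ := norm_pos_iff.2 hv₁0
    have hv₀pos : 0 < ‖t₀ • u‖ := norm_pos_iff.2 hv₀0
    have hnorm_eq : ‖v₁‖ = ‖t₀ • u‖ := by
      apply le_antisymm
      · rw [hn1]; nlinarith
      · rw [hm1]; nlinarith
    calc v₁ = ‖v₁‖ • u := hray hv₁0 hv₁F hv₁M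
      _ = t₀ • u := by rw [hnorm_eq, hv₀n]

end S17517aux

/-- Let `E` be a finite-dimensional real inner product space and `L` a full lattice in `E` (a discrete
subgroup spanning `E`) on which the inner product is integer valued; let `F` and `G` be nonempty
finite sets of real linear functionals on `E` taking integer values on `L`, with `f_min v = min_{f ∈
F} f v` and `g_min v = min_{g ∈ G} g v`. If some vector `v` has `f_min v ≥ 0` and `g_min v > 0`,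
then on the set `C_F` of nonzero `v` with `f_min v ≥ 0` the function `v ↦ g_min v / ‖v‖` attains a
greatest value `M`, and there is exactly one lattice vector `v₀ ∈ C_F` with `g_min v₀ / ‖v₀‖ = M` of
which every lattice vector `v ∈ C_F` with `g_min v / ‖v‖ = M` is an integer multiple. -/
theorem result
    (E : Type u) [NormedAddCommGroup E] [InnerProductSpace ℝ E] [FiniteDimensional ℝ E]
    (L : Submodule ℤ E) [DiscreteTopology L] [IsZLattice ℝ L]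
    (hint : ∀ x ∈ L, ∀ y ∈ L, ∃ n : ℤ, inner ℝ x y = (n : ℝ))
    (F G : Finset (Module.Dual ℝ E)) (hF : F.Nonempty) (hG : G.Nonempty)
    (hFi : ∀ f ∈ F, ∀ x ∈ L, ∃ n : ℤ, f x = (n : ℝ)) (hGi : ∀ g ∈ G, ∀ x ∈ L, ∃ n : ℤ, g x = (n : ℝ))
    (hpos : ∃ v : E, 0 ≤ F.inf' hF (fun f => f v) ∧ 0 < G.inf' hG (fun g => g v)) :
    ∃ M : ℝ, IsGreatest ((fun v => G.inf' hG (fun g => g v) / ‖v‖) ''
        {v : E | v ≠ 0 ∧ 0 ≤ F.inf' hF (fun f => f v)}) M ∧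
      ∃! v₀ : E, v₀ ∈ L ∧ v₀ ≠ 0 ∧ 0 ≤ F.inf' hF (fun f => f v₀) ∧
        G.inf' hG (fun g => g v₀) / ‖v₀‖ = M ∧
        ∀ v ∈ L, v ≠ 0 → 0 ≤ F.inf' hF (fun f => f v) → G.inf' hG (fun g => g v) / ‖v‖ = M →
          ∃ n : ℤ, v = n • v₀ := by
  exact S17517aux.main E L hint F G hF hG hFi hGi hpos

end Groth.Agent.S17517
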