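import Groth.Statements.S17538
-- import your own Groth.Agent.* helpers here

set_option autoImplicit false
universe u v
open CAlg

namespace Groth.Agent.S17538

/-- For a commutative ring A, an ideal I and an A-module M, the canonical map from the I-adic completion
M^ to the I-adic completion of M^ admits an A-linear retraction (it is a split injection). (That M^
is I-adically separated is standard.) -/
theorem result {A : Type u} [CommRing A] (I : Ideal A)
    (M : Type v) [AddCommGroup M] [Module A M] :
    ∃ ψ : AdicCompletion I (AdicCompletion I M) →ₗ[A] AdicCompletion I M,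
      ψ ∘ₗ AdicCompletion.of I (AdicCompletion I M) = LinearMap.id := by
  -- the maps `M^^ → M / I^n M`
  let g : ∀ n : ℕ, AdicCompletion I (AdicCompletion I M) →ₗ[A] M ⧸ (I ^ n • ⊤ : Submodule A M) :=
    fun n => ((I ^ n • ⊤ : Submodule A (AdicCompletion I M)).liftQ (AdicCompletion.eval I M n)
      (AdicCompletion.pow_smul_top_le_ker_eval (I := I) (M := M) n)).comp
        (AdicCompletion.eval I (AdicCompletion I M) n)
  have hg : ∀ {m n : ℕ} (hle : m ≤ n), AdicCompletion.transitionMap I M hle ∘ₗ g n = g m := by
    intro m n hle
    ext y
    simp only [LinearMap.comp_apply, g]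
    obtain ⟨x, hx⟩ := Submodule.mkQ_surjective _ (AdicCompletion.eval I (AdicCompletion I M) n y)
    have hm : AdicCompletion.eval I (AdicCompletion I M) m y =
        Submodule.mkQ (I ^ m • ⊤ : Submodule A (AdicCompletion I M)) x := by
      have h1 := AdicCompletion.transitionMap_comp_eval_apply I (AdicCompletion I M) hle y
      have hx' : y.val n = Submodule.mkQ (I ^ n • ⊤ : Submodule A (AdicCompletion I M)) x :=
        hx.symm
      rw [AdicCompletion.eval_apply, ← h1, hx']
      rfl
    rw [hm, ← hx]
    simp only [Submodule.mkQ_apply, Submodule.liftQ_apply]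
    exact AdicCompletion.transitionMap_comp_eval_apply I M hle x
  refine ⟨AdicCompletion.lift I g hg, ?_⟩
  ext x n
  simp only [LinearMap.comp_apply, LinearMap.id_apply, AdicCompletion.eval_lift_apply, g]
  rw [AdicCompletion.eval_of]
  simp only [Submodule.mkQ_apply, Submodule.liftQ_apply]
  rfl

end Groth.Agent.S17538
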