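import Groth.Statements.S17540
-- import your own Groth.Agent.* helpers here

set_option autoImplicit false
universe u v w
open W4c5adicflatcompl
open CAlg

namespace Groth.Agent.S17540

section helpers
variable {A : Type u} [CommRing A] (I : Ideal A) {M : Type v} [AddCommGroup M] [Module A M]
  {Z : Type w} (m : Z → M)

lemma mem_smul_top_self_iff (n : ℕ) (a : A) :
    a ∈ (I ^ n • ⊤ : Submodule A A) ↔ a ∈ I ^ n := by
  rw [smul_eq_mul, Ideal.mul_top]

/-- one approximation step -/
lemma step (hspan : Submodule.span A (Set.range m) ⊔ I • (⊤ : Submodule A M) = ⊤) (k : ℕ)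
    (x : M) (hx : x ∈ (I ^ k • ⊤ : Submodule A M)) :
    ∃ c : Z →₀ A, (∀ z, c z ∈ I ^ k) ∧
      x - Finsupp.linearCombination A m c ∈ (I ^ (k + 1) • ⊤ : Submodule A M) := by
  refine Submodule.smul_induction_on hx ?_ ?_
  · intro a ha y _
    have hy : y ∈ Submodule.span A (Set.range m) ⊔ I • (⊤ : Submodule A M) := by
      rw [hspan]; exact Submodule.mem_top
    obtain ⟨u, hu, w, hw, rfl⟩ := Submodule.mem_sup.mp hy
    obtain ⟨b, rfl⟩ := (Finsupp.mem_span_range_iff_exists_finsupp).mp hu
    refine ⟨a • b, fun z => ?_, ?_⟩
    · rw [Finsupp.smul_apply, smul_eq_mul]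
      exact Ideal.mul_mem_right _ _ ha
    · have h1 : a • ((b.sum fun i c => c • m i) + w) - Finsupp.linearCombination A m (a • b) =
          a • w := by
        rw [map_smul, Finsupp.linearCombination_apply, smul_add]
        abel
      rw [h1, pow_succ, Submodule.mul_smul]
      exact Submodule.smul_mem_smul ha hw
  · intro x₁ x₂ h₁ h₂
    obtain ⟨c₁, hc₁, hx₁⟩ := h₁
    obtain ⟨c₂, hc₂, hx₂⟩ := h₂
    refine ⟨c₁ + c₂, fun z => ?_, ?_⟩
    · rw [Finsupp.add_apply]; exact Ideal.add_mem _ (hc₁ z) (hc₂ z)
    · have h1 : x₁ + x₂ - Finsupp.linearCombination A m (c₁ + c₂) =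
          (x₁ - Finsupp.linearCombination A m c₁) + (x₂ - Finsupp.linearCombination A m c₂) := by
        rw [map_add]; abel
      rw [h1]
      exact Submodule.add_mem _ hx₁ hx₂

end helpers

/-- Let A be I-adically complete, M an I-adically complete A-module and m : Z → M a family. The images
of the m z generate M/IM (the span of the family together with IM is all of M) if and only if the
family I-adically generates M: every x in M is the I-adically convergent sum of g z • m z for some
I-adically decaying function g : Z → A. -/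
theorem result {A : Type u} [CommRing A] (I : Ideal A) [IsAdicComplete I A]
    (M : Type v) [AddCommGroup M] [Module A M] [IsAdicComplete I M] (Z : Type w) (m : Z → M) :
    Submodule.span A (Set.range m) ⊔ I • ⊤ = ⊤ ↔
      ∀ x : M, ∃ g : Z → A, g ∈ decaying I Z A ∧
        ∀ n : ℕ, ∃ S : Finset Z,
          (∀ z, z ∉ S → g z • m z ∈ (I ^ n • ⊤ : Submodule A M)) ∧
          x - (∑ z ∈ S, g z • m z) ∈ (I ^ n • ⊤ : Submodule A M) := by
  classical
  constructor
  · intro hspan x
    -- choose the step function
    choose cf hcf1 hcf2 using step I m hspan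
    -- the sequence of remainders, as elements of `I ^ k • ⊤`
    let Xs : ∀ k : ℕ, {y : M // y ∈ (I ^ k • ⊤ : Submodule A M)} := fun k =>
      Nat.rec (motive := fun k => {y : M // y ∈ (I ^ k • ⊤ : Submodule A M)})
        ⟨x, by simp⟩
        (fun k X => ⟨X.1 - Finsupp.linearCombination A m (cf k X.1 X.2), hcf2 k X.1 X.2⟩) k
    let C : ℕ → (Z →₀ A) := fun k => cf k (Xs k).1 (Xs k).2
    have hXs_succ : ∀ k, (Xs (k + 1)).1 = (Xs k).1 - Finsupp.linearCombination A m (C k) :=
      fun k => rfl
    have hC : ∀ k z, C k z ∈ I ^ k := fun k z => hcf1 k (Xs k).1 (Xs k).2 z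
    let G : ℕ → (Z →₀ A) := fun n => ∑ k ∈ Finset.range n, C k
    have hG_succ : ∀ n, G (n + 1) = G n + C n := fun n => Finset.sum_range_succ _ _
    have hxG : ∀ n, x - Finsupp.linearCombination A m (G n) = (Xs n).1 := by
      intro n
      induction n with
      | zero => simp [G, Xs]
      | succ n ih =>
        rw [hG_succ, map_add, hXs_succ, ← ih]; abel
    -- Cauchy in A
    have hGmono : ∀ z {a b : ℕ}, a ≤ b → G b z - G a z ∈ I ^ a := by
      intro z a b hab
      induction b, hab using Nat.le_induction with
      | base => simp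
      | succ b hab ih =>
        rw [hG_succ, Finsupp.add_apply]
        have : G b z + C b z - G a z = (G b z - G a z) + C b z := by ring
        rw [this]
        exact Ideal.add_mem _ ih (Ideal.pow_le_pow_right hab (hC b z))
    have hlim : ∀ z, ∃ L : A, ∀ n, G n z ≡ L [SMOD (I ^ n • ⊤ : Submodule A A)] := by
      intro z
      apply IsPrecomplete.prec' (I := I) (M := A) (fun n => G n z)
      intro a b hab
      rw [SModEq.sub_mem, mem_smul_top_self_iff]
      have := hGmono z hab
      have h2 : G a z - G b z = -(G b z - G a z) := by ring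
      rw [h2]
      exact Ideal.neg_mem_iff _ |>.mpr this
    choose g hg using hlim
    have hg' : ∀ n z, g z - G n z ∈ I ^ n := by
      intro n z
      have := (SModEq.sub_mem).mp (hg z n)
      rw [mem_smul_top_self_iff] at this
      have h2 : g z - G n z = -(G n z - g z) := by ring
      rw [h2]
      exact (Ideal.neg_mem_iff _).mpr this
    have hgz : ∀ n z, z ∉ (G n).support → g z ∈ I ^ n := by
      intro n z hz
      have h0 : G n z = 0 := Finsupp.notMem_support_iff.mp hz
      have := hg' n z
      rwa [h0, sub_zero] at this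
    refine ⟨g, ?_, ?_⟩
    · intro n
      refine (G n).support.finite_toSet.subset ?_
      intro z hz
      by_contra hzS
      apply hz
      rw [mem_smul_top_self_iff]
      exact hgz n z hzS
    · intro n
      refine ⟨(G n).support, fun z hz => ?_, ?_⟩
      · exact Submodule.smul_mem_smul (hgz n z hz) Submodule.mem_top
      · have h1 : x - ∑ z ∈ (G n).support, g z • m z =
            (x - Finsupp.linearCombination A m (G n)) -
              ∑ z ∈ (G n).support, (g z - G n z) • m z := by
          rw [Finsupp.linearCombination_apply, Finsupp.sum]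
          simp only [sub_smul, Finset.sum_sub_distrib]
          abel
        rw [h1, hxG]
        refine Submodule.sub_mem _ (Xs n).2 (Submodule.sum_mem _ fun z _ => ?_)
        exact Submodule.smul_mem_smul (hg' n z) Submodule.mem_top
  · intro H
    rw [eq_top_iff]
    rintro x -
    obtain ⟨g, -, hg⟩ := H x
    obtain ⟨S, -, hS⟩ := hg 1
    rw [pow_one] at hS
    have h1 : x = (∑ z ∈ S, g z • m z) + (x - ∑ z ∈ S, g z • m z) := by abel
    rw [h1]
    refine Submodule.add_mem_sup (Submodule.sum_mem _ fun z _ => ?_) hS
    exact Submodule.smul_mem _ _ (Submodule.subset_span ⟨z, rfl⟩)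

end Groth.Agent.S17540
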