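import Groth.Statements.S17544
import Groth.Agent.S17541
import Groth.Agent.S17542

set_option autoImplicit false
universe u v w
open W4c5adicflatcompl
open CAlg

namespace Groth.Agent.S17544

/-- For a Noetherian ring A which is I-adically complete, a set Z and n ≥ 0, reduction modulo I^n maps
the decaying functions Z → A onto the finitely supported functions Z → A/I^n, and its kernel, the
decaying functions with all values in I^n, equals I^n times the module of decaying functions; so
(A/I^n) ⊗ F_dec(Z, A) → F_fin(Z, A/I^n) is bijective. -/
theorem result {A : Type u} [CommRing A] [IsNoetherianRing A]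
    (I : Ideal A) [IsAdicComplete I A] (Z : Type v) (n : ℕ) :
    (∀ g : Z →₀ A ⧸ I ^ n, ∃ f : decaying I Z A,
        ∀ z, Ideal.Quotient.mk (I ^ n) ((f : Z → A) z) = g z) ∧
      ∀ f : decaying I Z A,
        f ∈ (I ^ n • ⊤ : Submodule A (decaying I Z A)) ↔ ∀ z, (f : Z → A) z ∈ I ^ n := by
  classical
  have hAtop : ∀ (m : ℕ) (a : A), a ∈ (I ^ m • ⊤ : Submodule A A) ↔ a ∈ I ^ m := by
    intro m a
    rw [smul_eq_mul, Ideal.mul_top]
  constructor
  · intro g
    let lift : A ⧸ I ^ n → A := Function.surjInv Ideal.Quotient.mk_surjective
    have hlift : ∀ y, Ideal.Quotient.mk (I ^ n) (lift y) = y :=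
      Function.surjInv_eq Ideal.Quotient.mk_surjective
    let f : Z → A := fun z => if g z = 0 then 0 else lift (g z)
    have hf : f ∈ decaying I Z A := by
      intro m
      refine g.support.finite_toSet.subset ?_
      intro z hz
      rw [Finset.mem_coe, Finsupp.mem_support_iff]
      intro h0
      apply hz
      show (if g z = 0 then 0 else lift (g z)) ∈ _
      rw [if_pos h0]
      exact Submodule.zero_mem _
    refine ⟨⟨f, hf⟩, fun z => ?_⟩
    show Ideal.Quotient.mk (I ^ n) (if g z = 0 then 0 else lift (g z)) = g z
    split_ifs with h0
    · rw [map_zero, h0]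
    · exact hlift _
  · intro f
    constructor
    · intro hf z
      let ev : decaying I Z A →ₗ[A] A := (LinearMap.proj z).comp (decaying I Z A).subtype
      have hle : (I ^ n • ⊤ : Submodule A (decaying I Z A)) ≤
          (I ^ n • ⊤ : Submodule A A).comap ev := by
        rw [← Submodule.map_le_iff_le_comap, Submodule.map_smul'']
        exact Submodule.smul_mono le_rfl le_top
      exact (hAtop n _).mp (hle hf)
    · intro hf
      -- generators of I ^ n
      obtain ⟨s, hs⟩ := (IsNoetherian.noetherian (I ^ n) : (I ^ n).FG)
      have hsmem : ∀ a : s, (a : A) ∈ I ^ n := fun a => by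
        rw [← hs]; exact Submodule.subset_span a.2
      let v : s → ↥(I ^ n) := fun a => ⟨a, hsmem a⟩
      let φ : (s → A) →ₗ[A] ↥(I ^ n) := Fintype.linearCombination A v
      have hφ : Function.Surjective φ := by
        rw [← LinearMap.range_eq_top, Fintype.range_linearCombination]
        apply Submodule.map_injective_of_injective (I ^ n).subtype_injective
        rw [Submodule.map_span, Submodule.map_subtype_top, ← Set.range_comp]
        have : ((I ^ n).subtype ∘ v) = (fun a : s => (a : A)) := rfl
        rw [this, Subtype.range_coe_subtype]
        exact hs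
      let g' : Z → ↥(I ^ n) := fun z => ⟨(f : Z → A) z, hf z⟩
      have hg' : g' ∈ decaying I Z ↥(I ^ n) := by
        rw [Groth.Agent.S17541.result I Z A (I ^ n) g']
        exact f.2
      obtain ⟨F, hF, hFg⟩ := Groth.Agent.S17542.result I Z φ hφ g' hg'
      -- components
      have hFa : ∀ a : s, (fun z => F z a) ∈ decaying I Z A := by
        intro a m
        refine (hF m).subset ?_
        intro z hz hmem
        apply hz
        let eva : (s → A) →ₗ[A] A := LinearMap.proj a
        have hle : (I ^ m • ⊤ : Submodule A (s → A)) ≤ (I ^ m • ⊤ : Submodule A A).comap eva := by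
          rw [← Submodule.map_le_iff_le_comap, Submodule.map_smul'']
          exact Submodule.smul_mono le_rfl le_top
        exact hle hmem
      have hsum : f = ∑ a : s, (a : A) • (⟨fun z => F z a, hFa a⟩ : decaying I Z A) := by
        apply Subtype.ext
        funext z
        have h1 := congrArg (Subtype.val) (hFg z)
        simp only [g'] at h1
        rw [← h1]
        show ((Fintype.linearCombination A v (F z) : ↥(I ^ n)) : A) = _
        rw [Fintype.linearCombination_apply]
        simp only [Submodule.coe_sum, Submodule.coe_smul, AddSubmonoidClass.coe_finset_sum,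
          Finset.sum_apply, Pi.smul_apply, smul_eq_mul, v]
        apply Finset.sum_congr rfl
        intro a _
        exact mul_comm _ _
      rw [hsum]
      exact Submodule.sum_mem _ fun a _ => Submodule.smul_mem_smul (hsmem a) Submodule.mem_top

end Groth.Agent.S17544
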