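import Groth.Statements.S17552
import Groth.Agent.Lib.Helper26.AdicFree
import Groth.Agent.S17545

set_option autoImplicit false
universe u
open W4c5adicflatcompl
open CAlg

namespace Groth.Agent.S17552

/-- For a complete Noetherian local ring A (maximal ideal m, m-adic completion Â), an A-module M is
isomorphic to the module of m-adically decaying functions Z → Â for some set Z (m-adically free)
exactly when M is flat and m-adically complete. M and Z live in the universe of A. -/
theorem result {A : Type u} [CommRing A] [IsNoetherianRing A] [IsLocalRing A]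
    [IsAdicComplete (IsLocalRing.maximalIdeal A) A]
    (M : Type u) [AddCommGroup M] [Module A M] :
    IsAdicFree (IsLocalRing.maximalIdeal A) M ↔
      Module.Flat A M ∧ IsAdicComplete (IsLocalRing.maximalIdeal A) M := by
  classical
  have hfg : ∀ k, (IsLocalRing.maximalIdeal A ^ k).FG :=
    fun k => IsNoetherian.noetherian (IsLocalRing.maximalIdeal A ^ k)
  haveI : IsAdicComplete (IsLocalRing.maximalIdeal A)
      (AdicCompletion (IsLocalRing.maximalIdeal A) A) :=
    AdicCompletion.isAdicComplete (IsNoetherian.noetherian _)
  have hD : ∀ Z : Type u, IsAdicComplete (IsLocalRing.maximalIdeal A)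
      (decaying (IsLocalRing.maximalIdeal A) Z (AdicCompletion (IsLocalRing.maximalIdeal A) A)) :=
    fun Z => Lib.Helper26.Decaying.isAdicComplete_decaying _ Z _ hfg
  constructor
  · rintro ⟨Z, ⟨e⟩⟩
    haveI := hD Z
    refine ⟨?_, ?_⟩
    · haveI : Module.Flat A (decaying (IsLocalRing.maximalIdeal A) Z A) :=
        Groth.Agent.S17545.result (IsLocalRing.maximalIdeal A) Z
      exact Module.Flat.of_linearEquiv (e.trans
        (Lib.Helper26.AdicFree.decayingCongr (IsLocalRing.maximalIdeal A) Z
          (AdicCompletion.ofLinearEquiv (IsLocalRing.maximalIdeal A) A).symm))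
    · exact Lib.Helper26.DecSum.isAdicComplete_of_retract (IsLocalRing.maximalIdeal A)
        e.toLinearMap e.symm.toLinearMap (by ext x; simp)
  · rintro ⟨hflat, hc⟩
    obtain ⟨Z, f, hspan, hli⟩ := Lib.Helper26.AdicFree.exists_family_of_isLocalRing (A := A) M
    obtain ⟨φ, hφ, -⟩ := Lib.Helper26.DecSum.existsUnique_single_one
      (IsLocalRing.maximalIdeal A) hfg f
    have hbij := Lib.Helper26.AdicFree.bijective_of_flat (IsLocalRing.maximalIdeal A) hfg f
      hspan hli φ hφ
    exact ⟨Z, ⟨(LinearEquiv.ofBijective φ hbij).symm⟩⟩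

end Groth.Agent.S17552
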