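import Groth.Statements.S17553
import Groth.Agent.Lib.Helper26.DecSum

set_option autoImplicit false
universe u v w
open W4c5adicflatcompl
open CAlg

namespace Groth.Agent.S17553

/-- Let A be I-adically complete, M an I-adically complete A-module, Z a set and f : Z → M a function.
There is an A-linear map from the I-adically decaying functions Z → A to M whose value on g is the
I-adically convergent sum of the g z • f z. -/
theorem result {A : Type u} [CommRing A] (I : Ideal A) [IsAdicComplete I A]
    (Z : Type v) (M : Type w) [AddCommGroup M] [Module A M] [IsAdicComplete I M] (f : Z → M) :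
    ∃ φ : decaying I Z A →ₗ[A] M, ∀ (g : decaying I Z A) (n : ℕ), ∃ S : Finset Z,
      (∀ z, z ∉ S → (g : Z → A) z • f z ∈ (I ^ n • ⊤ : Submodule A M)) ∧
      φ g - (∑ z ∈ S, (g : Z → A) z • f z) ∈ (I ^ n • ⊤ : Submodule A M) := by
  classical
  refine ⟨Lib.Helper26.DecSum.decSum I (fun z => LinearMap.toSpanSingleton A M (f z)), ?_⟩
  intro g n
  let S : Finset Z := (g.2 n).toFinset
  have hS : ∀ z, z ∉ S → (g : Z → A) z ∈ (I ^ n • ⊤ : Submodule A A) := by
    intro z hz
    by_contra h
    exact hz ((g.2 n).mem_toFinset.mpr h)
  refine ⟨S, ?_, ?_⟩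
  · intro z hz
    have := Lib.Helper26.Decaying.map_mem_smul_top I (LinearMap.toSpanSingleton A M (f z)) n
      (hS z hz)
    simpa [LinearMap.toSpanSingleton_apply] using this
  · have := Lib.Helper26.DecSum.decSum_sub_sum_mem I
      (fun z => LinearMap.toSpanSingleton A M (f z)) n g S hS
    simpa [LinearMap.toSpanSingleton_apply] using this

end Groth.Agent.S17553
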