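import Groth.Statements.S17581
import Groth.Agent.Lib.Helper3.BaseLocus

set_option autoImplicit false
open CategoryTheory CategoryTheory.Limits AlgebraicGeometry
open PosLin

namespace Groth.Agent.S17581

open Groth.Agent.Lib.Helper3 BaseLocus in
theorem minimal_iff17581 {X : Scheme.{0}} [TopologicalSpace.NoetherianSpace X] (L : X.Modules)
    (hL : PicF.IsInvertible L) :
    (∃ m : ℕ, 0 < m ∧ Bs L m = SB L) ∧
    ∀ m : ℕ, 0 < m →
      ((∀ m' : ℕ, 0 < m' → Bs L m' ⊆ Bs L m → Bs L m' = Bs L m) ↔ Bs L m = SB L) := by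
  obtain ⟨n₀, hn₀, h⟩ := exists_bs_eq_sb hL
  refine ⟨⟨n₀, hn₀, h⟩, fun m hm => ⟨fun hmin => ?_, fun heq m' hm' hle => ?_⟩⟩
  · apply Set.Subset.antisymm
    · have h1 := hmin (m * n₀) (Nat.mul_pos hm hn₀) (bs_mul_subset_left hL m hn₀)
      rw [← h1, ← h]
      exact bs_mul_subset_right hL n₀ hm
    · exact sb_subset_bs L hm
  · apply Set.Subset.antisymm hle
    rw [heq]
    exact sb_subset_bs L hm'

open Groth.Agent.Lib.Helper3 BaseLocus in

/-- Let X be a projective variety over the complex numbers (an integral scheme, proper over ℂ, with an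
ample invertible module) and L an invertible O_X-module; for m ≥ 1 let Bs(L^⊗m) be the base locus of
L^⊗m (the points lying in no open X_s over which a global section s : O_X → L^⊗m is an isomorphism)
and B(L) = ⋂_{m ≥ 1} Bs(L^⊗m) the stable base locus. Then, among the closed sets Bs(L^⊗m) with m ≥
1, B(L) occurs and is the only minimal one: B(L) = Bs(L^⊗m) for some m ≥ 1, and for each m ≥ 1,
Bs(L^⊗m) is minimal in this family if and only if it coincides with B(L). -/
theorem result (X : Scheme.{0}) [X.Over (Spec (CommRingCat.of ℂ))] [IsIntegral X]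
    [IsProper (X ↘ Spec (CommRingCat.of ℂ))] (H : X.Modules) (hH : CohB1.IsAmple H)
    (L : X.Modules) (hL : PicF.IsInvertible L) :
    (∃ m : ℕ, 0 < m ∧ {x : X | ∀ s : Coh.structureModule X ⟶ CohB1.tensorPow L m, x ∉ CohB1.genLocus (CohB1.tensorPow L m) s} = {x : X | ∀ m : ℕ, 0 < m → ∀ s : Coh.structureModule X ⟶ CohB1.tensorPow L m, x ∉ CohB1.genLocus (CohB1.tensorPow L m) s}) ∧
    ∀ m : ℕ, 0 < m →
      ((∀ m' : ℕ, 0 < m' →
          {x : X | ∀ s : Coh.structureModule X ⟶ CohB1.tensorPow L m', x ∉ CohB1.genLocus (CohB1.tensorPow L m') s} ⊆ {x : X | ∀ s : Coh.structureModule X ⟶ CohB1.tensorPow L m, x ∉ CohB1.genLocus (CohB1.tensorPow L m) s} →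
          {x : X | ∀ s : Coh.structureModule X ⟶ CohB1.tensorPow L m', x ∉ CohB1.genLocus (CohB1.tensorPow L m') s} = {x : X | ∀ s : Coh.structureModule X ⟶ CohB1.tensorPow L m, x ∉ CohB1.genLocus (CohB1.tensorPow L m) s}) ↔
        {x : X | ∀ s : Coh.structureModule X ⟶ CohB1.tensorPow L m, x ∉ CohB1.genLocus (CohB1.tensorPow L m) s} = {x : X | ∀ m : ℕ, 0 < m → ∀ s : Coh.structureModule X ⟶ CohB1.tensorPow L m, x ∉ CohB1.genLocus (CohB1.tensorPow L m) s}) := by
  haveI := noetherianSpace_of_proper_over_field (X ↘ Spec (CommRingCat.of ℂ))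
  exact minimal_iff17581 L hL

end Groth.Agent.S17581
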