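import Groth.Statements.S17586
import Groth.Agent.Lib.Helper7.GrowthH

set_option autoImplicit false
open CategoryTheory CategoryTheory.Limits AlgebraicGeometry
open PosLin

namespace Groth.Agent.S17586

/-- Let X be a projective variety over the complex numbers (an integral scheme, proper over ℂ, with an
ample invertible module) of dimension n, and L an invertible O_X-module (the module of a Cartier
divisor D). The following two characterisations of bigness of D are equivalent: (a) for every ample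
invertible O_X-module A there are m > 0 and a monomorphism A → L^⊗m (that is, mD is linearly
equivalent to A plus an effective divisor); (b) there are a constant C > 0 and m₁ such that dim_ℂ
H^0(X, L^⊗m) ≥ C·m^n for all m ≥ m₁. (In the text both are shown equivalent to D having Iitaka
dimension n; this row states their equivalence with each other.) -/
theorem result (X : Scheme.{0}) [X.Over (Spec (CommRingCat.of ℂ))] [IsIntegral X]
    [IsProper (X ↘ Spec (CommRingCat.of ℂ))] (H : X.Modules) (hH : CohB1.IsAmple H)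
    (n : ℕ) (hn : topologicalKrullDim X = n)
    (L : X.Modules) (hL : PicF.IsInvertible L) :
    (∀ A : X.Modules, CohB1.IsAmple A → ∃ (m : ℕ) (φ : A ⟶ CohB1.tensorPow L m), 0 < m ∧ Mono φ) ↔
      ∃ C : ℝ, 0 < C ∧ ∃ m₁ : ℕ, ∀ m : ℕ, m₁ ≤ m →
        C * (m : ℝ) ^ n ≤ (Module.finrank ℂ (Coh.HH X (CohB1.tensorPow L m) 0) : ℝ) := by
  constructor
  · intro hbig
    obtain ⟨m₀, φ, hm₀, hφ⟩ := hbig H hH
    obtain ⟨eH⟩ := Groth.Agent.Lib.Helper23.Inverse.tensor_dual_iso hH.1
    obtain ⟨s, hs⟩ := Groth.Agent.Lib.Helper7.GrowthG.section_of_mono hH.1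
      (Groth.Agent.Lib.Helper3.InvMonoidal.braid _ _ ≪≫ eH) _ φ
    have hnt := Groth.Agent.Lib.Helper7.SurfSecB.nontrivial_H0_of_section _ s hs
    obtain ⟨c, hc, N, hN⟩ := Groth.Agent.Lib.Helper7.GrowthD.exists_lower_bound ℂ X n hn hH _
      (Groth.Agent.Lib.Helper3.InvMonoidal.braid _ _ ≪≫ eH) L hL m₀ hm₀ hnt
    refine ⟨(c : ℝ), by exact_mod_cast hc, N, fun m hm => ?_⟩
    have h1 := hN m hm
    have h2 : ((c * (m : ℚ) ^ n : ℚ) : ℝ) ≤
        ((Module.finrank ℂ (Coh.HH X (CohB1.tensorPow L m) 0) : ℚ) : ℝ) := by exact_mod_cast h1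
    push_cast at h2
    exact h2
  · rintro ⟨C, hC, m₁, hm₁⟩ A hA
    have hfreq : ∃ᶠ m : ℕ in Filter.atTop, (C / 2) * (m : ℝ) ^ n <
        (Module.finrank ℂ (Coh.HH X (CohB1.tensorPow L m) 0) : ℝ) := by
      apply Filter.Eventually.frequently
      filter_upwards [Filter.eventually_ge_atTop (max m₁ 1)] with m hm
      have h1 := hm₁ m (le_of_max_le_left hm)
      have hm1 : (0 : ℝ) < (m : ℝ) := by exact_mod_cast le_of_max_le_right hm
      have h2 : (0 : ℝ) < (m : ℝ) ^ n := by positivity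
      nlinarith
    have hbig := Groth.Agent.Lib.Helper7.GrowthD.hbig_of_frequently _ n (C / 2) (by positivity)
      hfreq
    obtain ⟨eA⟩ := Groth.Agent.Lib.Helper23.Inverse.tensor_dual_iso hA.1
    obtain ⟨m, hm, hnt⟩ := Groth.Agent.Lib.Helper7.GrowthC.kodaira ℂ X n hn hA _
      (Groth.Agent.Lib.Helper3.InvMonoidal.braid _ _ ≪≫ eA) L hL hbig
    obtain ⟨s, hs⟩ := Groth.Agent.Lib.Helper7.SecDeg.exists_section_ne_zero X _ hnt
    obtain ⟨φ, hφ⟩ := Groth.Agent.Lib.Helper7.GrowthG.mono_of_section hA.1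
      (Groth.Agent.Lib.Helper3.InvMonoidal.braid _ _ ≪≫ eA) _
      (Groth.Agent.Lib.Helper3.InvTensor.isInvertible_tensorPow hL m) s hs
    exact ⟨m, φ, hm, hφ⟩

end Groth.Agent.S17586
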