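import Groth.Statements.S17587
import Groth.Agent.Lib.Helper7.GrowthH

set_option autoImplicit false
open CategoryTheory CategoryTheory.Limits AlgebraicGeometry
open PosLin

namespace Groth.Agent.S17587

/-- Let X be a projective variety over the complex numbers (an integral scheme, proper over ℂ, with an
ample invertible module), and L an invertible O_X-module which is big, bigness being expressed
through the equivalent condition that every ample invertible O_X-module A admits a monomorphism A →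
L^⊗m for some m > 0. Then the exponent of L is 1, that is, H^0(X, L^⊗m) ≠ 0 for every sufficiently
large m. -/
theorem result (X : Scheme.{0}) [X.Over (Spec (CommRingCat.of ℂ))] [IsIntegral X]
    [IsProper (X ↘ Spec (CommRingCat.of ℂ))] (H : X.Modules) (hH : CohB1.IsAmple H)
    (L : X.Modules) (hL : PicF.IsInvertible L)
    (hbig : ∀ A : X.Modules, CohB1.IsAmple A → ∃ (m : ℕ) (φ : A ⟶ CohB1.tensorPow L m), 0 < m ∧ Mono φ) :
    ∃ m₁ : ℕ, ∀ m : ℕ, m₁ ≤ m → Nontrivial (Coh.HH X (CohB1.tensorPow L m) 0) := by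
  obtain ⟨m₀, φ, hm₀, hφ⟩ := hbig H hH
  obtain ⟨eH⟩ := Groth.Agent.Lib.Helper23.Inverse.tensor_dual_iso hH.1
  obtain ⟨s, hs⟩ := Groth.Agent.Lib.Helper7.GrowthG.section_of_mono hH.1
    (Groth.Agent.Lib.Helper3.InvMonoidal.braid _ _ ≪≫ eH) _ φ
  have hnt := Groth.Agent.Lib.Helper7.SurfSecB.nontrivial_H0_of_section _ s hs
  obtain ⟨d, hd⟩ : ∃ d : ℕ, topologicalKrullDim X = d := by
    haveI : IsNoetherian X := Groth.Agent.Lib.Helper23.HilbP.isNoetherian_of_isProper ℂ X
    exact Groth.Agent.Lib.Helper7.GrowthH.exists_dim_eq ℂ X hH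
  obtain ⟨c, hc, N, hN⟩ := Groth.Agent.Lib.Helper7.GrowthD.exists_lower_bound ℂ X d hd hH _
    (Groth.Agent.Lib.Helper3.InvMonoidal.braid _ _ ≪≫ eH) L hL m₀ hm₀ hnt
  refine ⟨max N 1, fun n hn => ?_⟩
  have h1 := hN n (le_of_max_le_left hn)
  have hn1 : (0 : ℚ) < (n : ℚ) := by exact_mod_cast le_of_max_le_right hn
  have h2 : (0 : ℚ) < c * (n : ℚ) ^ d := by positivity
  have h3 : 0 < Module.finrank ℂ (Coh.HH X (CohB1.tensorPow L n) 0) := by
    exact_mod_cast lt_of_lt_of_le h2 h1
  exact Module.nontrivial_of_finrank_pos h3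

end Groth.Agent.S17587
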