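import Groth.Statements.S17592
import Groth.Agent.Lib.Helper26.PairHensNbhd

set_option autoImplicit false
universe u
open Hensel

namespace Groth.Agent.S17592

open Groth.Agent.Lib.Helper26.PairHensNbhd Groth.Agent.Lib.Helper26.PairHensConstr

/-- Let R → S be an étale ring map and I an ideal of R such that the induced map R/I → S/IS is
bijective. Then a Henselization of the pair (S, IS), regarded as an R-algebra, is a Henselization of
the pair (R, I). -/
theorem result (R : Type u) [CommRing R] (I : Ideal R)
    (S : Type u) [CommRing S] [Algebra R S] [Algebra.Etale R S]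
    (hq : Function.Bijective
      (Ideal.quotientMap (I.map (algebraMap R S)) (algebraMap R S) Ideal.le_comap_map))
    (H : Type u) [CommRing H] [Algebra S H] [Algebra R H] [IsScalarTower R S H]
    (hH : Hens2.IsPairHenselization S (I.map (algebraMap R S)) H) :
    Hens2.IsPairHenselization R I H := by
  have hmap : (I.map (algebraMap R S)).map (algebraMap S H) = I.map (algebraMap R H) := by
    rw [Ideal.map_map, ← IsScalarTower.algebraMap_eq]
  refine ⟨by rw [← hmap]; exact hH.1, ?_⟩
  intro C _ J f hC hf
  letI : Algebra R C := f.toAlgebra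
  haveI := hC
  have hIJ : I.map (algebraMap R C) ≤ J := hf
  have hs := ((quotBij_iff I S).mp hq).1
  obtain ⟨σ, -⟩ := QuotBij.exists_sigma hq
  obtain ⟨φ₀, -⟩ := exists_algHom_etale_of_henselian I σ C J hIJ
  have hφ₀ : (I.map (algebraMap R S)).map (φ₀ : S →+* C) ≤ J := by
    rw [Ideal.map_map]
    have : (φ₀ : S →+* C).comp (algebraMap R S) = algebraMap R C := φ₀.comp_algebraMap
    rw [this]; exact hIJ
  obtain ⟨g, hg, hgu⟩ := hH.2 C J (φ₀ : S →+* C) hC hφ₀
  refine ⟨g, ?_, fun g' hg' => hgu g' ?_⟩
  · show g.comp (algebraMap R H) = f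
    rw [IsScalarTower.algebraMap_eq R S H, ← RingHom.comp_assoc, hg]
    exact φ₀.comp_algebraMap
  · show g'.comp (algebraMap S H) = (φ₀ : S →+* C)
    let ψ : S →ₐ[R] C :=
      { toRingHom := g'.comp (algebraMap S H)
        commutes' := fun a => by
          show g' (algebraMap S H (algebraMap R S a)) = f a
          rw [← IsScalarTower.algebraMap_apply]; exact RingHom.congr_fun hg' a }
    have := algHom_nbhd_ext hs J hC.jac hIJ ψ φ₀
    ext x; exact DFunLike.congr_fun this x

end Groth.Agent.S17592
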