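import Groth.Statements.S17593
import Mathlib
import Groth.Agent.Lib.Helper14.FlatOpen.RelOpen
import Groth.Agent.Lib.Helper26.AwayCover
import Groth.Agent.Lib.Helper25.FlatAtCrit

set_option autoImplicit false
universe u
open Hensel

namespace Groth.Agent.S17593

/-- Suppose (A, I) is a Henselian pair, and R is an A-algebra of finite presentation for which A → R is
flat at each prime of R that contains IR. Then there is an étale R-algebra R' such that R/IR →
R'/IR' is bijective and A → R' is flat. -/
theorem result (A : Type u) [CommRing A] (I : Ideal A) [HenselianRing A I]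
    (R : Type u) [CommRing R] [Algebra A R] [Algebra.FinitePresentation A R]
    (h : ∀ (p : Ideal R) [p.IsPrime], I.map (algebraMap A R) ≤ p → Module.Flat A (Localization.AtPrime p))
    : ∃ (R' : Type u) (_ : CommRing R') (_ : Algebra R R') (_ : Algebra A R') (_ : IsScalarTower A R R'),
      Algebra.Etale R R' ∧
      Function.Bijective (Ideal.quotientMap ((I.map (algebraMap A R)).map (algebraMap R R'))
        (algebraMap R R') Ideal.le_comap_map) ∧ Module.Flat A R' := by
  classical
  have key : ∀ (p : Ideal R) [p.IsPrime], Module.Flat A (Localization.AtPrime p) ↔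
      Module.Flat A (LocalizedModule p.primeCompl R) := by
    intro p _
    haveI : IsLocalizedModule p.primeCompl (Algebra.linearMap R (Localization.AtPrime p)) :=
      isLocalizedModule_iff_isLocalization.mpr inferInstance
    exact (Module.Flat.equiv_iff ((IsLocalizedModule.iso p.primeCompl
      (Algebra.linearMap R (Localization.AtPrime p))).restrictScalars A)).symm
  obtain ⟨U, hUdef⟩ : ∃ U : Set (PrimeSpectrum R),
      U = {q : PrimeSpectrum R | Module.Flat A (LocalizedModule q.asIdeal.primeCompl R)} :=
    ⟨_, rfl⟩
  have hU : IsOpen U := by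
    rw [hUdef]
    exact Groth.Agent.Lib.Helper14.FlatOpen.isOpen_flat_locus (R := A) (S := R) (M := R)
  have hsub : PrimeSpectrum.zeroLocus ((I.map (algebraMap A R) : Ideal R) : Set R) ⊆ U := by
    intro p hp
    rw [PrimeSpectrum.mem_zeroLocus] at hp
    rw [hUdef]
    exact (key p.asIdeal).mp (h p.asIdeal hp)
  obtain ⟨s, hsK, hsU⟩ := Lib.Helper26.AwayCover.exists_basicOpen_subset
    (I.map (algebraMap A R)) U hU hsub
  have hfl : Module.Flat A (LocalizedModule (Submonoid.powers s) R) := by
    rw [Groth.Agent.Lib.Helper25.FlatAtCrit.flat_localized_iff]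
    intro P₁ P₂ _ _ _ _ g hg z hz
    obtain ⟨J, hJ⟩ : ∃ J : Ideal R, J = LinearMap.ker (LinearMap.toSpanSingleton R (TensorProduct A R P₁) z) :=
      ⟨_, rfl⟩
    have hJmem : ∀ r : R, r ∈ J ↔ r • z = 0 := by
      intro r
      rw [hJ, LinearMap.mem_ker, LinearMap.toSpanSingleton_apply]
    have hrad : s ∈ J.radical := by
      rw [Ideal.radical_eq_sInf, Ideal.mem_sInf]
      rintro q ⟨hJq, hq⟩
      by_contra hsq
      have hqU : (⟨q, hq⟩ : PrimeSpectrum R) ∈ U := hsU (by
        change (⟨q, hq⟩ : PrimeSpectrum R) ∈ PrimeSpectrum.basicOpen s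
        rw [PrimeSpectrum.mem_basicOpen]
        exact hsq)
      rw [hUdef] at hqU
      obtain ⟨t, ht, htz⟩ :=
        (Groth.Agent.Lib.Helper25.FlatAtCrit.flat_localized_iff R q.primeCompl).mp hqU
          P₁ P₂ g hg z hz
      exact ht (hJq ((hJmem t).mpr htz))
    obtain ⟨n, hn⟩ := hrad
    exact ⟨s ^ n, ⟨n, rfl⟩, (hJmem _).mp hn⟩
  have hfl' : Module.Flat A (Localization.Away s) := by
    haveI : IsLocalizedModule (Submonoid.powers s) (Algebra.linearMap R (Localization.Away s)) :=
      isLocalizedModule_iff_isLocalization.mpr inferInstance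
    exact (Module.Flat.equiv_iff ((IsLocalizedModule.iso (Submonoid.powers s)
      (Algebra.linearMap R (Localization.Away s))).restrictScalars A)).mp hfl
  exact ⟨Localization.Away s, inferInstance, inferInstance, inferInstance, inferInstance,
    Algebra.Etale.of_isLocalizationAway s,
    Lib.Helper26.AwayCover.quotientMap_away_bijective _ s hsK, hfl'⟩

end Groth.Agent.S17593
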