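import Groth.Statements.S17595
import Groth.Agent.Lib.Helper26.AwayCover
import Mathlib.RingTheory.ZariskisMainTheorem
import Mathlib.RingTheory.RingHom.QuasiFinite
import Mathlib.RingTheory.Etale.Basic

set_option autoImplicit false
universe u
open Hensel

namespace Groth.Agent.S17595

lemma exists_notMem_quasiFinite {A R : Type*} [CommRing A] [CommRing R] [Algebra A R]
    [Algebra.FiniteType A R] (p : Ideal R) [p.IsPrime] [Algebra.QuasiFiniteAt A p] :
    ∃ g ∉ p, Algebra.QuasiFinite A (Localization.Away g) := by
  obtain ⟨S', hS', r, hrp, H⟩ :=
    Algebra.QuasiFiniteAt.exists_fg_and_exists_notMem_and_awayMap_bijective (R := A) p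
  have : Module.Finite A S' := ⟨(Submodule.fg_top _).mpr hS'⟩
  have : Algebra.QuasiFinite A (Localization.Away r) := .trans _ S' _
  exact ⟨r.1, hrp, .of_surjective_algHom (Localization.awayMapₐ S'.val r) H.2⟩

lemma quasiFinite_away_away {A R : Type*} [CommRing A] [CommRing R] [Algebra A R] (s g : R)
    [Algebra.QuasiFinite A (Localization.Away g)] :
    Algebra.QuasiFinite A
      (Localization.Away (algebraMap R (Localization.Away s) g)) := by
  haveI : Algebra.QuasiFinite (Localization.Away g)
      (Localization.Away (algebraMap R (Localization.Away g) s)) :=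
    Algebra.QuasiFinite.of_isLocalization
      (Submonoid.powers (algebraMap R (Localization.Away g) s))
  haveI : Algebra.QuasiFinite A (Localization.Away (algebraMap R (Localization.Away g) s)) :=
    .trans _ (Localization.Away g) _
  let e : Localization.Away (algebraMap R (Localization.Away g) s) ≃ₐ[R]
      Localization.Away (algebraMap R (Localization.Away s) g) :=
    IsLocalization.algEquiv (Submonoid.powers (s * g)) _ _
  exact (Algebra.QuasiFinite.iff_of_algEquiv (e.restrictScalars A)).mp inferInstance

/-- Suppose (A, I) is a Henselian pair, and R is an A-algebra of finite presentation for which A → R is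
quasi-finite at each prime of R that contains IR. Then there is an étale R-algebra R' such that R/IR
→ R'/IR' is bijective and A → R' is quasi-finite. -/
theorem result (A : Type u) [CommRing A] (I : Ideal A) [HenselianRing A I]
    (R : Type u) [CommRing R] [Algebra A R] [Algebra.FinitePresentation A R]
    (h : ∀ (p : Ideal R) [p.IsPrime], I.map (algebraMap A R) ≤ p → Algebra.QuasiFiniteAt A p)
    : ∃ (R' : Type u) (_ : CommRing R') (_ : Algebra R R') (_ : Algebra A R') (_ : IsScalarTower A R R'),
      Algebra.Etale R R' ∧
      Function.Bijective (Ideal.quotientMap ((I.map (algebraMap A R)).map (algebraMap R R'))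
        (algebraMap R R') Ideal.le_comap_map) ∧ Algebra.QuasiFinite A R' := by
  classical
  let K : Ideal R := I.map (algebraMap A R)
  let G : Set R := {g | Algebra.QuasiFinite A (Localization.Away g)}
  have hG : ∀ (p : Ideal R) [p.IsPrime], K ≤ p → ∃ g ∈ G, g ∉ p := by
    intro p hp hKp
    haveI := h p hKp
    obtain ⟨g, hgp, hg⟩ := exists_notMem_quasiFinite (A := A) p
    exact ⟨g, hg, hgp⟩
  obtain ⟨s, hs, hsK⟩ := Lib.Helper26.AwayCover.exists_away_cover K G hG
  refine ⟨Localization.Away s, inferInstance, inferInstance, inferInstance, inferInstance,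
    Algebra.Etale.of_isLocalizationAway s,
    Lib.Helper26.AwayCover.quotientMap_away_bijective _ s hsK, ?_⟩
  rw [← RingHom.quasiFinite_algebraMap]
  apply RingHom.QuasiFinite.ofLocalizationSpanTarget (algebraMap A (Localization.Away s))
    ((algebraMap R (Localization.Away s)) '' G)
  · rw [← Ideal.map_span]
    have hmem : algebraMap R (Localization.Away s) s ∈
        (Ideal.span G).map (algebraMap R (Localization.Away s)) := Ideal.mem_map_of_mem _ hs
    exact Ideal.eq_top_of_isUnit_mem _ hmem (IsLocalization.Away.algebraMap_isUnit s)
  · rintro ⟨_, g, hg, rfl⟩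
    haveI : Algebra.QuasiFinite A (Localization.Away g) := hg
    have := quasiFinite_away_away (A := A) s g
    rw [← RingHom.quasiFinite_algebraMap] at this
    rwa [IsScalarTower.algebraMap_eq A (Localization.Away s)
      (Localization.Away (algebraMap R (Localization.Away s) g))] at this

end Groth.Agent.S17595
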