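import Groth.Statements.S17596
import Groth.Agent.Lib.Helper26.HenselSplit
import Groth.Agent.Lib.Helper26.PairHensOps

set_option autoImplicit false
universe u
open Hensel

namespace Groth.Agent.S17596

open Groth.Agent.Lib.Helper26.PairHensConstr Groth.Agent.Lib.Helper26.PairHensNbhd
  Groth.Agent.Lib.Helper26.PairHensOps Groth.Agent.Lib.Helper26.HenselSplit

/-- An idempotent in the Jacobson radical vanishes. -/
theorem eq_zero_of_idempotent_of_mem_jacobson {D : Type*} [CommRing D] {x : D}
    (hx : IsIdempotentElem x) (hJ : x ∈ Ideal.jacobson (⊥ : Ideal D)) : x = 0 := by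
  have hu : IsUnit (1 - x) := by
    have := (Ideal.mem_jacobson_bot.mp hJ) (-1)
    have e1 : x * (-1) + 1 = 1 - x := by ring
    rwa [e1] at this
  have h0 : (1 - x) * x = 0 := by rw [sub_mul, one_mul, hx.eq, sub_self]
  exact (hu.mul_right_eq_zero).mp h0

/-- Let (A, I) be a Henselian pair and let B be a Henselization of the pair (R, IR) for a finitely
presented A-algebra R (that is, A → B is a Henselian finitely presented map of Henselian pairs). If
the induced map A/I → B/IB is module-finite, then B is module-finite and finitely presented over A. -/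
theorem result (A : Type u) [CommRing A] (I : Ideal A)
    [HenselianRing A I] (R : Type u) [CommRing R] [Algebra A R] [Algebra.FinitePresentation A R]
    (B : Type u) [CommRing B] [Algebra R B] [Algebra A B] [IsScalarTower A R B]
    (hB : Hens2.IsPairHenselization R (I.map (algebraMap A R)) B)
    (hfin : (Ideal.quotientMap (I.map (algebraMap A B)) (algebraMap A B) Ideal.le_comap_map).Finite) :
    Module.Finite A B ∧ Algebra.FinitePresentation A B := by
  classical
  -- `R/IR` is finite over `A`
  have hmapB : (I.map (algebraMap A R)).map (algebraMap R B) = I.map (algebraMap A B) := by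
    rw [Ideal.map_map, ← IsScalarTower.algebraMap_eq]
  have hfinB : Module.Finite (A ⧸ I) (B ⧸ I.map (algebraMap A B)) :=
    RingHom.finite_algebraMap.mp hfin
  haveI : Module.Finite A (B ⧸ I.map (algebraMap A B)) := Module.Finite.trans (A ⧸ I) _
  have h1 := quotBij_pow hB 1
  rw [pow_one, quotBij_iff, hmapB] at h1
  let g : (R ⧸ I.map (algebraMap A R)) →ₐ[A] (B ⧸ I.map (algebraMap A B)) :=
    Ideal.quotientMapₐ (I.map (algebraMap A B)) (IsScalarTower.toAlgHom A R B) (by
      rw [← hmapB]; exact Ideal.le_comap_map)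
  have hg : ∀ r : R, g (Ideal.Quotient.mk _ r) = Ideal.Quotient.mk _ (algebraMap R B r) :=
    fun r => rfl
  have hgbij : Function.Bijective g := by
    constructor
    · rw [injective_iff_map_eq_zero]
      intro x hx
      obtain ⟨r, rfl⟩ := Ideal.Quotient.mk_surjective x
      rw [hg, Ideal.Quotient.eq_zero_iff_mem] at hx
      exact Ideal.Quotient.eq_zero_iff_mem.mpr (h1.2 r hx)
    · intro y
      obtain ⟨b, rfl⟩ := Ideal.Quotient.mk_surjective y
      obtain ⟨r, hr⟩ := h1.1 b
      refine ⟨Ideal.Quotient.mk _ r, ?_⟩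
      rw [hg]
      exact (Ideal.Quotient.eq.mpr hr).symm
  haveI : Module.Finite A (R ⧸ I.map (algebraMap A R)) :=
    Module.Finite.equiv (LinearEquiv.ofBijective g.toLinearMap hgbij).symm
  -- split off the finite part
  obtain ⟨e, he, h1e, M, hM, hex⟩ := exists_idempotent_split A I R
  set 𝔞 : Ideal R := Ideal.span {1 - e} with h𝔞
  haveI : Module.Finite A M := Module.Finite.iff_fg.mpr hM
  haveI : Module.Finite A (R ⧸ 𝔞) := by
    apply Module.Finite.of_surjective ((Ideal.Quotient.mkₐ A 𝔞).toLinearMap.comp M.subtype)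
    intro y
    obtain ⟨x, rfl⟩ := Ideal.Quotient.mk_surjective y
    refine ⟨⟨e * x, hex x⟩, ?_⟩
    show Ideal.Quotient.mk 𝔞 (e * x) = Ideal.Quotient.mk 𝔞 x
    rw [Ideal.Quotient.eq, h𝔞, Ideal.mem_span_singleton]
    exact ⟨-x, by ring⟩
  haveI : Algebra.IsIntegral A (R ⧸ 𝔞) := Algebra.IsIntegral.of_finite A _
  haveI : Algebra.FinitePresentation A (R ⧸ 𝔞) :=
    Algebra.FinitePresentation.quotient ⟨{1 - e}, by simp [h𝔞]⟩
  -- `R/𝔞` is a henselization of `(R, IR)`
  have hR' : Hens2.IsPairHenselization R (I.map (algebraMap A R)) (R ⧸ 𝔞) := by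
    constructor
    · have : (I.map (algebraMap A R)).map (algebraMap R (R ⧸ 𝔞)) = I.map (algebraMap A (R ⧸ 𝔞)) := by
        rw [Ideal.map_map, ← IsScalarTower.algebraMap_eq]
      rw [this]
      exact Groth.Agent.S0526.result A I (R ⧸ 𝔞)
    · intro D _ J f hD hf
      have hfe : f (1 - e) = 0 := by
        apply eq_zero_of_idempotent_of_mem_jacobson ((he.one_sub).map f)
        exact hD.jac (hf (Ideal.mem_map_of_mem f h1e))
      have hker : ∀ a ∈ 𝔞, f a = 0 := by
        intro a ha
        rw [h𝔞, Ideal.mem_span_singleton] at ha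
        obtain ⟨c, rfl⟩ := ha
        rw [map_mul, hfe, zero_mul]
      refine ⟨Ideal.Quotient.lift 𝔞 f hker, ?_, ?_⟩
      · ext x
        rfl
      · intro g' hg'
        apply Ideal.Quotient.ringHom_ext
        ext x
        exact RingHom.congr_fun hg' x
  obtain ⟨eqv⟩ := nonempty_algEquiv_of_isPairHenselization hR' hB
  exact ⟨Module.Finite.equiv (eqv.restrictScalars A).toLinearEquiv,
    Algebra.FinitePresentation.equiv (eqv.restrictScalars A)⟩

end Groth.Agent.S17596
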