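import Groth.Statements.S17609
import Groth.Agent.Lib.Helper26.PairHensComp

set_option autoImplicit false
universe u
open Hensel

namespace Groth.Agent.S17609

open Groth.Agent.Lib.Helper26.PairHensConstr Groth.Agent.Lib.Helper26.PairHensNbhd
  Groth.Agent.Lib.Helper26.PairHensOps Groth.Agent.Lib.Helper26.PairHensComp TensorProduct

/-- Let (A, I) be a Henselian pair and let B, C be Henselizations of the pairs (R, IR), (S, IS) for
finitely presented A-algebras R and S, with their induced A-algebra structures (so A → B and A → C
are Henselian finitely presented). Then every A-algebra map B → C (encoded as a B-algebra structure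
on C compatible with that of A) is Henselian finitely presented: there are a finitely presented
B-algebra T and a T-algebra structure on C compatible with that of B for which C is a Henselization
of the pair (T, IBT). -/
theorem result (A : Type u) [CommRing A] (I : Ideal A) [HenselianRing A I]
    (R : Type u) [CommRing R] [Algebra A R] [Algebra.FinitePresentation A R]
    (B : Type u) [CommRing B] [Algebra R B] [Algebra A B] [IsScalarTower A R B]
    (hB : Hens2.IsPairHenselization R (I.map (algebraMap A R)) B)
    (S : Type u) [CommRing S] [Algebra A S] [Algebra.FinitePresentation A S]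
    (C : Type u) [CommRing C] [Algebra S C] [Algebra A C] [IsScalarTower A S C]
    (hC : Hens2.IsPairHenselization S (I.map (algebraMap A S)) C)
    [Algebra B C] [IsScalarTower A B C] :
    ∃ (T : Type u) (_ : CommRing T) (_ : Algebra B T) (_ : Algebra T C) (_ : IsScalarTower B T C),
      Algebra.FinitePresentation B T ∧
      Hens2.IsPairHenselization T ((I.map (algebraMap A B)).map (algebraMap B T)) C := by
  classical
  obtain ⟨n, π, hπ, s, hs⟩ := Algebra.FinitePresentation.out (R := A) (A := R)
  let ρ₀ : R →ₐ[A] C := (IsScalarTower.toAlgHom A B C).comp (IsScalarTower.toAlgHom A R B)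
  let c : Fin n → C := fun i => ρ₀ (π (MvPolynomial.X i))
  obtain ⟨N, _, _, _, hN, φ, hφ⟩ := exists_nbhd_of_finset hC (Finset.univ.image c)
  choose y hy using fun i => hφ (c i) (Finset.mem_image_of_mem c (Finset.mem_univ i))
  letI : Algebra A N := ((algebraMap S N).comp (algebraMap A S)).toAlgebra
  haveI : IsScalarTower A S N := IsScalarTower.of_algebraMap_eq' rfl
  let ev : MvPolynomial (Fin n) A →ₐ[A] N := MvPolynomial.aeval y
  have hφev : (φ.restrictScalars A).comp ev = ρ₀.comp π := by
    apply MvPolynomial.algHom_ext
    intro i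
    show φ (MvPolynomial.aeval y (MvPolynomial.X i)) = c i
    rw [MvPolynomial.aeval_X, hy]
  have hφev' : ∀ p, φ (ev p) = ρ₀ (π p) := fun p => AlgHom.congr_fun hφev p
  obtain ⟨N', _, _, _, hN', ψ, hψ⟩ := exists_nbhd_of_finset_map_eq_zero hC hN φ (s.image ev) (by
    intro x hx
    obtain ⟨p, hp, rfl⟩ := Finset.mem_image.mp hx
    have hpk : p ∈ RingHom.ker π.toRingHom := by rw [← hs]; exact Ideal.subset_span hp
    have hp0 : π p = 0 := hpk
    rw [hφev', hp0, map_zero])
  letI : Algebra A N' := ((algebraMap S N').comp (algebraMap A S)).toAlgebra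
  haveI : IsScalarTower A S N' := IsScalarTower.of_algebraMap_eq' rfl
  let g : MvPolynomial (Fin n) A →ₐ[A] N' := (ψ.restrictScalars A).comp ev
  have H : RingHom.ker π.toRingHom ≤ RingHom.ker g.toRingHom := by
    rw [← hs, Ideal.span_le]
    intro p hp
    show g p = 0
    exact hψ (ev p) (Finset.mem_image_of_mem ev hp)
  let ρ : R →ₐ[A] N' := AlgHom.liftOfSurjective π hπ g H
  haveI := hC.1
  obtain ⟨u'⟩ := nonempty_unique_algHom_nbhd (B := C) hN'
  obtain ⟨u⟩ := nonempty_unique_algHom_nbhd (B := C) hN
  let φ' : N' →ₐ[S] C := u'.default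
  have hφ'ψ : φ'.comp ψ = φ := (u.uniq _).trans (u.uniq _).symm
  have hcompat : ∀ r : R, φ' (ρ r) = ρ₀ r := by
    intro r
    obtain ⟨p, rfl⟩ := hπ r
    rw [AlgHom.liftOfSurjective_apply, ← hφev']
    exact AlgHom.congr_fun hφ'ψ (ev p)
  letI : Algebra R N' := ρ.toRingHom.toAlgebra
  haveI : IsScalarTower A R N' :=
    IsScalarTower.of_algebraMap_eq (fun a => (ρ.commutes a).symm)
  letI : Algebra N' C := φ'.toRingHom.toAlgebra
  haveI : IsScalarTower S N' C :=
    IsScalarTower.of_algebraMap_eq (fun x => (φ'.commutes x).symm)
  have hCN' := isPairHenselization_of_nbhd hC hN'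
  have hI : (I.map (algebraMap A S)).map (algebraMap S N') =
      (I.map (algebraMap A R)).map (algebraMap R N') := by
    rw [Ideal.map_map, Ideal.map_map, ← IsScalarTower.algebraMap_eq, ← IsScalarTower.algebraMap_eq]
  rw [hI] at hCN'
  haveI : Algebra.FinitePresentation A N' := Algebra.FinitePresentation.trans A S N'
  haveI : Algebra.FinitePresentation R N' :=
    Algebra.FinitePresentation.of_restrict_scalars_finitePresentation A R N'
  obtain ⟨T, i1, i2, i3, i4, h5, h6⟩ := exists_fp_of_compat (I.map (algebraMap A R)) hB
    (N := N') (C := C) (fun r => (hcompat r).symm) hCN'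
  refine ⟨T, i1, i2, i3, i4, h5, ?_⟩
  have : (I.map (algebraMap A B)).map (algebraMap B T) =
      ((I.map (algebraMap A R)).map (algebraMap R B)).map (algebraMap B T) := by
    rw [Ideal.map_map (algebraMap A R), ← IsScalarTower.algebraMap_eq]
  rw [this]; exact h6

end Groth.Agent.S17609
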