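import Groth.Statements.S17598
import Groth.Agent.S17609
import Groth.Agent.S17597
import Groth.Agent.Lib.Helper26.PairHensTrunc
import Groth.Agent.Lib.Helper26.TruncFormal
import Groth.Agent.Lib.Helper26.HenselLiftQuot
import Groth.Agent.Lib.Helper26.HenselFEtLift

set_option autoImplicit false
universe u
open Hensel

namespace Groth.Agent.S17598

open Groth.Agent.Lib.Helper26.PairHensConstr Groth.Agent.Lib.Helper26.PairHensNbhd
  Groth.Agent.Lib.Helper26.PairHensTrunc Groth.Agent.Lib.Helper26.TruncFormal
  Groth.Agent.Lib.Helper26.HenselLiftQuot Groth.Agent.Lib.Helper26.HenselFEtLift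

/-- The comparison map from the henselization of an étale lift of `B/IB`. -/
theorem aux (A : Type u) [CommRing A] (I : Ideal A)
    [HenselianRing A I] (R₀ : Type u) [CommRing R₀] [Algebra A R₀] [Algebra.FinitePresentation A R₀]
    (B : Type u) [CommRing B] [Algebra R₀ B] [Algebra A B] [IsScalarTower A R₀ B]
    (hB : Hens2.IsPairHenselization R₀ (I.map (algebraMap A R₀)) B)
    (het : ∀ r : ℕ, 1 ≤ r → Algebra.FormallySmooth (A ⧸ I ^ r) (B ⧸ (I ^ r).map (algebraMap A B)))
    (R : Type u) [CommRing R] [Algebra A R] [Algebra.Etale A R]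
    (π : R →ₐ[A] B ⧸ I.map (algebraMap A B)) (hπ : Function.Surjective π)
    (hkerπ : RingHom.ker π = I.map (algebraMap A R))
    (H : Type u) [CommRing H] [Algebra R H] [Algebra A H] [IsScalarTower A R H]
    (hH : Hens2.IsPairHenselization R (I.map (algebraMap A R)) H) :
    ∃ φ : H →ₐ[A] B, Function.Surjective φ ∧ (RingHom.ker φ).FG ∧
      ∀ n : ℕ, RingHom.ker φ ≤ (I ^ n).map (algebraMap A H) := by
  classical
  have hmapB : (I.map (algebraMap A R₀)).map (algebraMap R₀ B) = I.map (algebraMap A B) := by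
    rw [Ideal.map_map, ← IsScalarTower.algebraMap_eq]
  haveI hBhens : HenselianRing B (I.map (algebraMap A B)) := by rw [← hmapB]; exact hB.1
  have hmapH : (I.map (algebraMap A R)).map (algebraMap R H) = I.map (algebraMap A H) := by
    rw [Ideal.map_map, ← IsScalarTower.algebraMap_eq]
  haveI hHhens : HenselianRing H (I.map (algebraMap A H)) := by rw [← hmapH]; exact hH.1
  obtain ⟨ψ, hψ⟩ := exists_algHom_lift_quot B (I.map (algebraMap A B)) π
  have hle : (I.map (algebraMap A R)).map ψ.toRingHom ≤ I.map (algebraMap A B) := by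
    rw [Ideal.map_map]
    have : ψ.toRingHom.comp (algebraMap A R) = algebraMap A B := ψ.comp_algebraMap
    rw [this]
  obtain ⟨Φ, hΦ, -⟩ := hH.2 B (I.map (algebraMap A B)) ψ.toRingHom hBhens hle
  have hΦ' : ∀ x : R, Φ (algebraMap R H x) = ψ x := fun x => RingHom.congr_fun hΦ x
  let φ : H →ₐ[A] B :=
    { Φ with
      commutes' := fun a => by
        show Φ (algebraMap A H a) = algebraMap A B a
        rw [IsScalarTower.algebraMap_apply A R H, hΦ', ψ.commutes] }
  have hφR : ∀ x : R, φ (algebraMap R H x) = ψ x := hΦ'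
  letI algHB : Algebra H B := φ.toRingHom.toAlgebra
  haveI : IsScalarTower A H B := IsScalarTower.of_algebraMap_eq (fun a => (φ.commutes a).symm)
  have halg : ∀ h : H, algebraMap H B h = φ h := fun _ => rfl
  obtain ⟨T, _, _, _, _, hTfp, hT⟩ := Groth.Agent.S17609.result A I R H hH R₀ B hB
  have hq1 := (quotBij_iff _ H).mp (by have := quotBij_pow hH 1; rwa [pow_one] at this)
  rw [hmapH] at hq1
  have hmapHB : (I.map (algebraMap A H)).map (algebraMap H B) = I.map (algebraMap A B) := by
    rw [Ideal.map_map, ← IsScalarTower.algebraMap_eq]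
  have hsurj : Function.Surjective (Ideal.quotientMap
      ((I.map (algebraMap A H)).map (algebraMap H B)) (algebraMap H B) Ideal.le_comap_map) := by
    intro y
    obtain ⟨b, rfl⟩ := Ideal.Quotient.mk_surjective y
    obtain ⟨x, hx⟩ := hπ (Ideal.Quotient.mk _ b)
    refine ⟨Ideal.Quotient.mk _ (algebraMap R H x), ?_⟩
    rw [Ideal.quotientMap_mk, Ideal.Quotient.eq, hmapHB, halg, hφR, ← Ideal.Quotient.eq, hψ, hx]
  have hφsurj : Function.Surjective φ :=
    Groth.Agent.S17597.result H (I.map (algebraMap A H)) T B hT hsurj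
  obtain ⟨-, hfpB⟩ := Groth.Agent.S17596.result H (I.map (algebraMap A H)) T B hT
    (RingHom.Finite.of_surjective _ hsurj)
  have hkerFG : (RingHom.ker φ).FG := by
    have h2 : RingHom.ker φ = RingHom.ker (Algebra.ofId H B).toRingHom := by
      ext x; exact Iff.rfl
    rw [h2]
    exact Algebra.FinitePresentation.ker_fG_of_surjective (Algebra.ofId H B) hφsurj
  have hkerI : ∀ x : H, φ x = 0 → x ∈ I.map (algebraMap A H) := by
    intro x hx
    obtain ⟨y, hy⟩ := hq1.1 x
    have h1 : φ (x - algebraMap R H y) ∈ I.map (algebraMap A B) := algHom_map_mem' I φ hy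
    rw [map_sub, hx, zero_sub, hφR, neg_mem_iff] at h1
    have h2 : π y = 0 := by rw [← hψ]; exact Ideal.Quotient.eq_zero_iff_mem.mpr h1
    have h3 : y ∈ I.map (algebraMap A R) := by rw [← hkerπ]; exact h2
    have h4 : algebraMap R H y ∈ I.map (algebraMap A H) := by
      rw [← hmapH]; exact Ideal.mem_map_of_mem _ h3
    have : x = (x - algebraMap R H y) + algebraMap R H y := by ring
    rw [this]; exact Ideal.add_mem _ hy h4
  refine ⟨φ, hφsurj, hkerFG, fun n => ?_⟩
  rcases Nat.eq_zero_or_pos n with rfl | hn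
  · rw [pow_zero, Ideal.one_eq_top, Ideal.map_top]; exact le_top
  intro x hx
  have hx0 : φ x = 0 := hx
  have hleIH : (I ^ n).map (algebraMap A H) ≤ I.map (algebraMap A H) :=
    Ideal.map_mono (Ideal.pow_le_self (by omega))
  have hE : (I ^ n).map (algebraMap A (H ⧸ (I ^ n).map (algebraMap A H))) = ⊥ := by
    rw [IsScalarTower.algebraMap_eq A H (H ⧸ (I ^ n).map (algebraMap A H)), ← Ideal.map_map,
      Ideal.Quotient.algebraMap_eq, Ideal.map_quotient_self]
  have hC : (I ^ n).map (algebraMap A (H ⧸ I.map (algebraMap A H))) = ⊥ := by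
    rw [eq_bot_iff, IsScalarTower.algebraMap_eq A H (H ⧸ I.map (algebraMap A H)), ← Ideal.map_map,
      Ideal.Quotient.algebraMap_eq]
    refine (Ideal.map_mono hleIH).trans ?_
    rw [Ideal.map_quotient_self]
  let p : (H ⧸ (I ^ n).map (algebraMap A H)) →ₐ[A] (H ⧸ I.map (algebraMap A H)) :=
    Ideal.Quotient.factorₐ A hleIH
  have hp : Function.Surjective p := Ideal.Quotient.factor_surjective hleIH
  have hnil : IsNilpotent (RingHom.ker (p : (H ⧸ (I ^ n).map (algebraMap A H)) →+*
      (H ⧸ I.map (algebraMap A H)))) := by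
    refine ⟨n, ?_⟩
    have : RingHom.ker (p : (H ⧸ (I ^ n).map (algebraMap A H)) →+*
        (H ⧸ I.map (algebraMap A H))) =
        (I.map (algebraMap A H)).map (Ideal.Quotient.mk _) := Ideal.Quotient.factor_ker hleIH
    rw [this, ← Ideal.map_pow, ← Ideal.map_pow, Ideal.zero_eq_bot, Ideal.map_quotient_self]
  let u : B →ₐ[A] (H ⧸ I.map (algebraMap A H)) :=
    AlgHom.liftOfSurjective φ hφsurj (Ideal.Quotient.mkₐ A _) (fun y hy =>
      (Ideal.Quotient.eq_zero_iff_mem.mpr (hkerI y hy) : Ideal.Quotient.mk _ y = 0))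
  haveI := het n hn
  obtain ⟨g, hg⟩ := exists_lift_of_formallySmooth I n _ _ hE hC p hp hnil u
  haveI : Algebra.FormallyUnramified (A ⧸ I ^ n) (H ⧸ (I ^ n).map (algebraMap A H)) := by
    haveI := etale_trunc I hH n; infer_instance
  have huniq := lift_unique_of_formallyUnramified I n _ _ hE p hp hnil hC (g.comp φ)
    (Ideal.Quotient.mkₐ A _) (by
      ext h
      show p (g (φ h)) = p (Ideal.Quotient.mk _ h)
      have : p (g (φ h)) = u (φ h) := AlgHom.congr_fun hg (φ h)
      rw [this, AlgHom.liftOfSurjective_apply]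
      rfl)
  have h0 : Ideal.Quotient.mk ((I ^ n).map (algebraMap A H)) x = 0 := by
    have h1 := AlgHom.congr_fun huniq x
    rw [AlgHom.comp_apply, hx0, map_zero] at h1
    exact h1.symm
  exact Ideal.Quotient.eq_zero_iff_mem.mp h0

/-- Let (A, I) be a Henselian pair and let B be a Henselization of the pair (R₀, IR₀) for a finitely
presented A-algebra R₀ (so A → B is a Henselian finitely presented map of Henselian pairs). Assume
that A/I^r → B/I^rB is étale for every r ≥ 1 (for Henselian finitely presented maps this is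
equivalent to the h-formally étale lifting property). Then there exist an étale A-algebra R, a
Henselization H of the pair (R, IR) and a surjective A-algebra map H → B whose kernel is a finitely
generated ideal contained in I^n H for every n. -/
theorem result (A : Type u) [CommRing A] (I : Ideal A)
    [HenselianRing A I] (R₀ : Type u) [CommRing R₀] [Algebra A R₀] [Algebra.FinitePresentation A R₀]
    (B : Type u) [CommRing B] [Algebra R₀ B] [Algebra A B] [IsScalarTower A R₀ B]
    (hB : Hens2.IsPairHenselization R₀ (I.map (algebraMap A R₀)) B)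
    (het : ∀ r : ℕ, 1 ≤ r → Algebra.Etale (A ⧸ I ^ r) (B ⧸ (I ^ r).map (algebraMap A B))) :
    ∃ (R : Type u) (_ : CommRing R) (_ : Algebra A R) (H : Type u) (_ : CommRing H) (_ : Algebra R H)
      (_ : Algebra A H) (_ : IsScalarTower A R H),
      Algebra.Etale A R ∧ Hens2.IsPairHenselization R (I.map (algebraMap A R)) H ∧
      ∃ φ : H →ₐ[A] B, Function.Surjective φ ∧ (RingHom.ker φ).FG ∧
        ∀ n : ℕ, RingHom.ker φ ≤ (I ^ n).map (algebraMap A H) := by
  classical
  haveI het1 : Algebra.Etale (A ⧸ I) (B ⧸ I.map (algebraMap A B)) := by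
    have := het 1 le_rfl
    rwa [pow_one] at this
  obtain ⟨R, _, _, _, π, hπ, hkerπ⟩ := exists_etale_lift A I (B ⧸ I.map (algebraMap A B))
  letI algAH : Algebra A (PH R (I.map (algebraMap A R))) :=
    ((algebraMap R (PH R (I.map (algebraMap A R)))).comp (algebraMap A R)).toAlgebra
  haveI : IsScalarTower A R (PH R (I.map (algebraMap A R))) := IsScalarTower.of_algebraMap_eq' rfl
  refine ⟨R, inferInstance, inferInstance, PH R (I.map (algebraMap A R)), inferInstance,
    inferInstance, algAH, inferInstance, inferInstance, isPairHenselization_PH, ?_⟩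
  exact aux A I R₀ B hB (fun r hr => by haveI := het r hr; infer_instance) R π hπ hkerπ
    (PH R (I.map (algebraMap A R))) isPairHenselization_PH

end Groth.Agent.S17598
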