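import Groth.Statements.S1760
import Groth.Agent.Lib.Helper4.GorField

set_option autoImplicit false
universe u
open scoped TensorProduct
open Goren

namespace Groth.Agent.S1760

/-- First assertion, written for the local ring B = O_{X,x}. Let k'/k be a finitely generated field
extension, B a Noetherian local k-algebra, and q a prime of B ⊗_k k' lying over the maximal ideal of
B. Then B is Gorenstein if and only if the localization of B ⊗_k k' at q is Gorenstein. -/
theorem result (k k' : Type u) [Field k] [Field k'] [Algebra k k'] (hfg : ∃ s : Finset k', IntermediateField.adjoin k (s : Set k') = ⊤) (B : Type u) [CommRing B] [IsLocalRing B] [IsNoetherianRing B] [Algebra k B] (q : PrimeSpectrum (B ⊗[k] k')) (hq : q.asIdeal.comap (algebraMap B (B ⊗[k] k')) = IsLocalRing.maximalIdeal B) : LocCoh.IsGorensteinLocalRing B ↔ LocCoh.IsGorensteinLocalRing (Localization.AtPrime q.asIdeal) := by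
  haveI hN' : IsNoetherianRing (k' ⊗[k] B) :=
    Groth.Agent.Lib.Helper4.GorField.noetherian_tensor_of_fg k k' B hfg
  haveI hN : IsNoetherianRing (B ⊗[k] k') :=
    isNoetherianRing_of_ringEquiv _ (Algebra.TensorProduct.comm k k' B).toRingEquiv
  have hfib : LocCoh.IsGorensteinRing ((IsLocalRing.maximalIdeal B).Fiber (B ⊗[k] k')) := by
    have h1 : LocCoh.IsGorensteinRing (k' ⊗[k] (IsLocalRing.maximalIdeal B).ResidueField) :=
      Groth.Agent.Lib.Helper4.GorField.gorRing_tensor_of_fg k k' _ hfg
        (Groth.Agent.Lib.Helper4.GorRing.gorRing_of_isRegularRing _)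
    have c1 : (IsLocalRing.maximalIdeal B).ResidueField ⊗[B] (B ⊗[k] k') ≃ₐ[B]
        (IsLocalRing.maximalIdeal B).ResidueField ⊗[k] k' :=
      Algebra.TensorProduct.cancelBaseChange k B B _ k'
    have c2 : (IsLocalRing.maximalIdeal B).ResidueField ⊗[k] k' ≃ₐ[k]
        k' ⊗[k] (IsLocalRing.maximalIdeal B).ResidueField :=
      Algebra.TensorProduct.comm k _ _
    exact Groth.Agent.Lib.Helper4.GorRing.gorRing_of_ringEquiv
      (c1.toRingEquiv.trans c2.toRingEquiv).symm h1
  have hfl : LocCoh.IsGorensteinLocalRing (EGA4.FibLocRing B (B ⊗[k] k') q.asIdeal) :=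
    (Groth.Agent.Lib.Helper4.GorFibre.isGorensteinRing_fiber_iff B (B ⊗[k] k')
      (IsLocalRing.maximalIdeal B)).mp hfib q.asIdeal hq
  rw [Groth.Agent.Lib.Helper4.GorRing.gor_atPrime_iff B (B ⊗[k] k') q.asIdeal]
  constructor
  · intro hB
    refine ⟨?_, hfl⟩
    rw [Groth.Agent.Lib.Helper4.GorRing.gor_atPrime_congr _ (IsLocalRing.maximalIdeal B) hq,
      Groth.Agent.Lib.Helper4.GorRing.gor_atPrime_maximalIdeal_iff]
    exact hB
  · rintro ⟨h1, _⟩
    rw [Groth.Agent.Lib.Helper4.GorRing.gor_atPrime_congr _ (IsLocalRing.maximalIdeal B) hq,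
      Groth.Agent.Lib.Helper4.GorRing.gor_atPrime_maximalIdeal_iff] at h1
    exact h1

end Groth.Agent.S1760
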