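import Groth.Statements.S17600
import Groth.Agent.S17598
import Groth.Agent.Lib.Helper26.FlatKer
import Groth.Agent.Lib.Helper26.PairHensOps

set_option autoImplicit false
universe u
open Hensel

namespace Groth.Agent.S17600

open Groth.Agent.Lib.Helper26.PairHensOps Groth.Agent.Lib.Helper26.FlatKer

/-- A surjection `φ : H → B` of `A`-algebras with `B` flat, `IH ≤ rad H`, finitely generated
kernel contained in `IH` is bijective. -/
theorem bijective_of_flat {A H B : Type*} [CommRing A] [CommRing H] [CommRing B]
    [Algebra A H] [Algebra A B] [Module.Flat A B] (I : Ideal A) (φ : H →ₐ[A] B)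
    (hφ : Function.Surjective φ) (hjac : I.map (algebraMap A H) ≤ Ideal.jacobson ⊥)
    (hFG : (RingHom.ker φ).FG) (hker : RingHom.ker φ ≤ I.map (algebraMap A H)) :
    Function.Bijective φ := by
  have hle : (RingHom.ker φ : Submodule H H) ≤ (I.map (algebraMap A H)) • (RingHom.ker φ : Ideal H) :=
    fun x hx => mem_smul_ker_of_flat I φ hφ hx (hker hx)
  have hbot : RingHom.ker φ = ⊥ :=
    Submodule.eq_bot_of_le_smul_of_le_jacobson_bot _ _ hFG hle hjac
  exact ⟨(RingHom.injective_iff_ker_eq_bot (φ : H →+* B)).mpr hbot, hφ⟩

/-- Let (A, I) be a Henselian pair and let B be a Henselization of the pair (R₀, IR₀) for a finitely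
presented A-algebra R₀ (so A → B is Henselian finitely presented). If B is flat over A and A/I^r →
B/I^rB is étale for every r ≥ 1 (the h-formally étale property, in its equivalent form for Henselian
finitely presented maps), then A → B is h-étale: there is an étale A-algebra R, with an R-algebra
structure on B compatible with that of A, such that B is a Henselization of the pair (R, IR). -/
theorem result (A : Type u) [CommRing A] (I : Ideal A)
    [HenselianRing A I] (R₀ : Type u) [CommRing R₀] [Algebra A R₀] [Algebra.FinitePresentation A R₀]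
    (B : Type u) [CommRing B] [Algebra R₀ B] [Algebra A B] [IsScalarTower A R₀ B]
    (hB : Hens2.IsPairHenselization R₀ (I.map (algebraMap A R₀)) B) [Module.Flat A B]
    (het : ∀ r : ℕ, 1 ≤ r → Algebra.Etale (A ⧸ I ^ r) (B ⧸ (I ^ r).map (algebraMap A B))) :
    ∃ (R : Type u) (_ : CommRing R) (_ : Algebra A R) (_ : Algebra R B) (_ : IsScalarTower A R B),
      Algebra.Etale A R ∧ Hens2.IsPairHenselization R (I.map (algebraMap A R)) B := by
  classical
  obtain ⟨R, _, _, H, _, _, _, _, hRet, hH, φ, hφsurj, hFG, hker⟩ :=
    Groth.Agent.S17598.result A I R₀ B hB het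
  have hmapH : (I.map (algebraMap A R)).map (algebraMap R H) = I.map (algebraMap A H) := by
    rw [Ideal.map_map, ← IsScalarTower.algebraMap_eq]
  have hjac : I.map (algebraMap A H) ≤ Ideal.jacobson ⊥ := by rw [← hmapH]; exact hH.1.jac
  have hbij : Function.Bijective φ := bijective_of_flat I φ hφsurj hjac hFG (by
    have := hker 1; rwa [pow_one] at this)
  let e : H ≃+* B := RingEquiv.ofBijective (φ : H →+* B) hbij
  letI algRB : Algebra R B := ((φ : H →+* B).comp (algebraMap R H)).toAlgebra
  haveI : IsScalarTower A R B := IsScalarTower.of_algebraMap_eq (fun a => by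
    show algebraMap A B a = φ (algebraMap R H (algebraMap A R a))
    rw [← IsScalarTower.algebraMap_apply A R H, φ.commutes])
  exact ⟨R, inferInstance, inferInstance, algRB, inferInstance, hRet,
    isPairHenselization_of_ringEquiv hH e (fun s => rfl)⟩

end Groth.Agent.S17600
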