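import Groth.Statements.S17604
import Groth.Agent.Lib.Helper26.PairHensNbhd
import Groth.Agent.Lib.Helper26.HenselLiftQuot

set_option autoImplicit false
universe u
open Hensel

namespace Groth.Agent.S17604

open Groth.Agent.Lib.Helper26.PairHensNbhd Groth.Agent.Lib.Helper26.PairHensConstr
  Groth.Agent.Lib.Helper26.HenselLiftQuot

/-- Let (A, I) be a Henselian pair, R and R' étale A-algebras, and B, B' Henselizations of the pairs (R,
IR), (R', IR') with their induced A-algebra structures (so B and B' are h-étale over A). Then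
reduction modulo I is a bijection from A-algebra maps B → B' to A-algebra maps B/IB → B'/IB': two
A-algebra maps B → B' that agree modulo IB' are equal, and every A-algebra map B/IB → B'/IB' is
induced by an A-algebra map B → B'. -/
theorem result (A : Type u) [CommRing A]
    (I : Ideal A) [HenselianRing A I]
    (R : Type u) [CommRing R] [Algebra A R] [Algebra.Etale A R]
    (B : Type u) [CommRing B] [Algebra R B] [Algebra A B] [IsScalarTower A R B]
    (hB : Hens2.IsPairHenselization R (I.map (algebraMap A R)) B)
    (R' : Type u) [CommRing R'] [Algebra A R'] [Algebra.Etale A R']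
    (B' : Type u) [CommRing B'] [Algebra R' B'] [Algebra A B'] [IsScalarTower A R' B']
    (hB' : Hens2.IsPairHenselization R' (I.map (algebraMap A R')) B') :
    (∀ φ ψ : B →ₐ[A] B', (∀ b : B, φ b - ψ b ∈ I.map (algebraMap A B')) → φ = ψ) ∧
    ∀ χ : (B ⧸ I.map (algebraMap A B)) →ₐ[A] (B' ⧸ I.map (algebraMap A B')),
      ∃ φ : B →ₐ[A] B', ∀ b : B,
        Ideal.Quotient.mk (I.map (algebraMap A B')) (φ b) = χ (Ideal.Quotient.mk (I.map (algebraMap A B)) b) := by
  haveI hB'hens : HenselianRing B' (I.map (algebraMap A B')) := by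
    have hmap : (I.map (algebraMap A R')).map (algebraMap R' B') = I.map (algebraMap A B') := by
      rw [Ideal.map_map, ← IsScalarTower.algebraMap_eq]
    rw [← hmap]; exact hB'.1
  have hmapB' : ∀ f : R →+* B', f.comp (algebraMap A R) = algebraMap A B' →
      (I.map (algebraMap A R)).map f ≤ I.map (algebraMap A B') := by
    intro f hf
    rw [Ideal.map_map, hf]
  -- uniqueness of maps out of `B` given their restriction to `R`
  have huniq : ∀ φ ψ : B →ₐ[A] B',
      (φ : B →+* B').comp (algebraMap R B) = (ψ : B →+* B').comp (algebraMap R B) → φ = ψ := by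
    intro φ ψ h
    have hφR : ((φ : B →+* B').comp (algebraMap R B)).comp (algebraMap A R) = algebraMap A B' := by
      rw [RingHom.comp_assoc, ← IsScalarTower.algebraMap_eq]; exact φ.comp_algebraMap
    obtain ⟨g, -, hgu⟩ := hB.2 B' (I.map (algebraMap A B'))
      ((φ : B →+* B').comp (algebraMap R B)) hB'hens (hmapB' _ hφR)
    have h1 : (φ : B →+* B') = g := hgu _ rfl
    have h2 : (ψ : B →+* B') = g := hgu _ h.symm
    ext x
    exact RingHom.congr_fun (h1.trans h2.symm) x
  refine ⟨fun φ ψ h => ?_, fun χ => ?_⟩
  · apply huniq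
    let φR : R →ₐ[A] B' := φ.comp (IsScalarTower.toAlgHom A R B)
    let ψR : R →ₐ[A] B' := ψ.comp (IsScalarTower.toAlgHom A R B)
    have : φR = ψR := algHom_eq_of_sub_mem_jacobson (I.map (algebraMap A B')) hB'hens.jac φR ψR
      (fun s => h _)
    ext x
    exact DFunLike.congr_fun this x
  · let σ' : R →ₐ[A] B' ⧸ I.map (algebraMap A B') :=
      (χ.comp (Ideal.Quotient.mkₐ A _)).comp (IsScalarTower.toAlgHom A R B)
    obtain ⟨ρ, hρ⟩ := exists_algHom_lift_quot B' (I.map (algebraMap A B')) σ'
    obtain ⟨g, hg, -⟩ := hB.2 B' (I.map (algebraMap A B')) (ρ : R →+* B') hB'hens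
      (hmapB' _ ρ.comp_algebraMap)
    let φ : B →ₐ[A] B' :=
      { toRingHom := g
        commutes' := fun a => by
          show g (algebraMap A B a) = algebraMap A B' a
          rw [IsScalarTower.algebraMap_apply A R B]
          have := RingHom.congr_fun hg (algebraMap A R a)
          simp only [RingHom.comp_apply] at this
          rw [this]
          exact ρ.commutes a }
    refine ⟨φ, fun b => ?_⟩
    have hmapB : (I.map (algebraMap A R)).map (algebraMap R B) = I.map (algebraMap A B) := by
      rw [Ideal.map_map, ← IsScalarTower.algebraMap_eq]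
    obtain ⟨r, hr⟩ := ((quotBij_iff _ B).mp (quotBij_pow hB 1)).1 b
    rw [pow_one, hmapB] at hr
    -- `b = r + y` with `y ∈ I B`
    have h1 : Ideal.Quotient.mk (I.map (algebraMap A B)) b =
        Ideal.Quotient.mk (I.map (algebraMap A B)) (algebraMap R B r) := Ideal.Quotient.eq.mpr hr
    have h2 : φ b - φ (algebraMap R B r) ∈ I.map (algebraMap A B') := by
      rw [← map_sub]; exact algHom_map_mem I φ hr
    have h3 : Ideal.Quotient.mk (I.map (algebraMap A B')) (φ b) =
        Ideal.Quotient.mk (I.map (algebraMap A B')) (φ (algebraMap R B r)) :=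
      Ideal.Quotient.eq.mpr h2
    rw [h3, h1]
    have h4 : φ (algebraMap R B r) = ρ r := RingHom.congr_fun hg r
    rw [h4, hρ r]
    rfl

end Groth.Agent.S17604
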