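import Groth.Statements.S17605
-- import your own Groth.Agent.* helpers here

set_option autoImplicit false
universe u
open Hensel

namespace Groth.Agent.S17605

/-- Let A be a ring with an ideal I and let f₁, f₂ be elements of A such that D(f₂) ∩ V(I) ⊆ D(f₁) ∩
V(I) in Spec A. If H₁ is a Henselization of the pair (A_{f₁}, IA_{f₁}) and H₂ a Henselization of the
pair (A_{f₂}, IA_{f₂}), with their induced A-algebra structures, then there is exactly one A-algebra
map H₁ → H₂. -/
theorem result (A : Type u) [CommRing A]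
    (I : Ideal A) (f₁ f₂ : A)
    (h : (PrimeSpectrum.basicOpen f₂ : Set (PrimeSpectrum A)) ∩ PrimeSpectrum.zeroLocus (I : Set A) ⊆
      (PrimeSpectrum.basicOpen f₁ : Set (PrimeSpectrum A)) ∩ PrimeSpectrum.zeroLocus (I : Set A))
    (H₁ : Type u) [CommRing H₁] [Algebra (Localization.Away f₁) H₁] [Algebra A H₁]
    [IsScalarTower A (Localization.Away f₁) H₁]
    (hH₁ : Hens2.IsPairHenselization (Localization.Away f₁)
      (I.map (algebraMap A (Localization.Away f₁))) H₁)
    (H₂ : Type u) [CommRing H₂] [Algebra (Localization.Away f₂) H₂] [Algebra A H₂]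
    [IsScalarTower A (Localization.Away f₂) H₂]
    (hH₂ : Hens2.IsPairHenselization (Localization.Away f₂)
      (I.map (algebraMap A (Localization.Away f₂))) H₂) :
    Nonempty (H₁ →ₐ[A] H₂) ∧ Subsingleton (H₁ →ₐ[A] H₂) := by
  classical
  -- Step 1: `f₂ ∈ rad (I ⊔ span {f₁})`
  have hrad : f₂ ∈ (I ⊔ Ideal.span {f₁}).radical := by
    rw [Ideal.radical_eq_sInf, Ideal.mem_sInf]
    rintro p ⟨hp, hpp⟩
    by_contra hf₂
    have h1 : (⟨p, hpp⟩ : PrimeSpectrum A) ∈
        (PrimeSpectrum.basicOpen f₂ : Set (PrimeSpectrum A)) ∩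
          PrimeSpectrum.zeroLocus (I : Set A) := by
      refine ⟨hf₂, ?_⟩
      rw [PrimeSpectrum.mem_zeroLocus]
      exact fun x hx => hp (Ideal.mem_sup_left hx)
    have h2 := (h h1).1
    exact h2 (hp (Ideal.mem_sup_right (Ideal.mem_span_singleton_self f₁)))
  obtain ⟨n, hn⟩ := hrad
  obtain ⟨i, hi, y, hy, hiy⟩ := Submodule.mem_sup.mp hn
  obtain ⟨a, rfl⟩ := Ideal.mem_span_singleton'.mp hy
  -- Step 2: `f₁` is a unit in `H₂`
  have hjac := hH₂.1.jac
  have hf₂unit : IsUnit (algebraMap A H₂ f₂) := by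
    rw [IsScalarTower.algebraMap_apply A (Localization.Away f₂) H₂]
    exact (IsLocalization.Away.algebraMap_isUnit f₂).map _
  have himem : algebraMap A H₂ i ∈
      (I.map (algebraMap A (Localization.Away f₂))).map (algebraMap (Localization.Away f₂) H₂) := by
    rw [IsScalarTower.algebraMap_apply A (Localization.Away f₂) H₂]
    exact Ideal.mem_map_of_mem _ (Ideal.mem_map_of_mem _ hi)
  have hunit : IsUnit (algebraMap A H₂ f₁) := by
    have h1 : algebraMap A H₂ a * algebraMap A H₂ f₁ =
        algebraMap A H₂ f₂ ^ n - algebraMap A H₂ i := by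
      rw [← map_mul, ← map_pow, ← map_sub, ← hiy]; congr 1; ring
    have h2 : IsUnit (algebraMap A H₂ f₂ ^ n - algebraMap A H₂ i) := by
      have hu := hf₂unit.pow n
      obtain ⟨u, hu'⟩ := hu
      have h3 := (Ideal.mem_jacobson_bot.mp (hjac himem)) (-(↑u⁻¹ : H₂))
      have h4 : algebraMap A H₂ f₂ ^ n - algebraMap A H₂ i =
          (u : H₂) * (algebraMap A H₂ i * -(↑u⁻¹ : H₂) + 1) := by
        rw [← hu']
        have : (u : H₂) * (↑u⁻¹ : H₂) = 1 := Units.mul_inv u
        linear_combination (algebraMap A H₂ i) * this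
      rw [h4]
      exact u.isUnit.mul h3
    rw [← h1] at h2
    exact isUnit_of_mul_isUnit_right h2
  -- Step 3: the map `A_{f₁} → H₂`
  let φ₀ : Localization.Away f₁ →+* H₂ :=
    IsLocalization.Away.lift (S := Localization.Away f₁) f₁ (g := algebraMap A H₂) hunit
  have hφ₀ : φ₀.comp (algebraMap A (Localization.Away f₁)) = algebraMap A H₂ :=
    IsLocalization.Away.lift_comp _ _
  have hle : (I.map (algebraMap A (Localization.Away f₁))).map φ₀ ≤
      (I.map (algebraMap A (Localization.Away f₂))).map (algebraMap (Localization.Away f₂) H₂) := by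
    rw [Ideal.map_map, hφ₀, Ideal.map_map, ← IsScalarTower.algebraMap_eq]
  obtain ⟨g, hg, hguniq⟩ := hH₁.2 H₂ _ φ₀ hH₂.1 hle
  refine ⟨⟨{ g with commutes' := ?_ }⟩, ⟨?_⟩⟩
  · intro r
    have h1 := congrArg (fun ψ : Localization.Away f₁ →+* H₂ =>
      ψ (algebraMap A (Localization.Away f₁) r)) hg
    simp only [RingHom.comp_apply] at h1
    have h2 := congrArg (fun ψ : A →+* H₂ => ψ r) hφ₀
    simp only [RingHom.comp_apply] at h2
    change g (algebraMap A H₁ r) = algebraMap A H₂ r
    rw [IsScalarTower.algebraMap_apply A (Localization.Away f₁) H₁, h1, h2]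
  · intro ψ₁ ψ₂
    have key : ∀ ψ : H₁ →ₐ[A] H₂,
        (ψ : H₁ →+* H₂).comp (algebraMap (Localization.Away f₁) H₁) = φ₀ := by
      intro ψ
      apply IsLocalization.ringHom_ext (Submonoid.powers f₁)
      rw [hφ₀, RingHom.comp_assoc, ← IsScalarTower.algebraMap_eq]
      ext r
      simp
    have e1 := hguniq _ (key ψ₁)
    have e2 := hguniq _ (key ψ₂)
    apply AlgHom.coe_ringHom_injective
    rw [e1, e2]

end Groth.Agent.S17605
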