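import Groth.Statements.S17607
import Groth.Agent.Lib.Helper26.PairHensOps

set_option autoImplicit false
universe u
open Hensel

namespace Groth.Agent.S17607

open Groth.Agent.Lib.Helper26.PairHensNbhd Groth.Agent.Lib.Helper26.PairHensConstr
  Groth.Agent.Lib.Helper26.PairHensOps

/-- Let (A, I) and (B, IB) be Henselian pairs with B an A-algebra. Then the following are equivalent:
(i) A → B is Henselian finitely presented, i.e. there are n, a Henselization P of the pair
(A[X₁,…,Xₙ], I·A[X₁,…,Xₙ]) (a Henselized polynomial ring) and a surjective A-algebra map P → B with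
finitely generated kernel; (ii) there are a finitely presented A-algebra R and an R-algebra
structure on B compatible with that of A for which B is a Henselization of the pair (R, IR). -/
theorem result (A : Type u) [CommRing A] (I : Ideal A)
    [HenselianRing A I] (B : Type u) [CommRing B] [Algebra A B]
    [HenselianRing B (I.map (algebraMap A B))] :
    (∃ (n : ℕ) (P : Type u) (_ : CommRing P) (_ : Algebra (MvPolynomial (Fin n) A) P) (_ : Algebra A P)
        (_ : IsScalarTower A (MvPolynomial (Fin n) A) P),
        Hens2.IsPairHenselization (MvPolynomial (Fin n) A)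
          (I.map (algebraMap A (MvPolynomial (Fin n) A))) P ∧
        ∃ φ : P →ₐ[A] B, Function.Surjective φ ∧ (RingHom.ker φ).FG) ↔
    ∃ (R : Type u) (_ : CommRing R) (_ : Algebra A R) (_ : Algebra R B) (_ : IsScalarTower A R B),
      Algebra.FinitePresentation A R ∧ Hens2.IsPairHenselization R (I.map (algebraMap A R)) B := by
  constructor
  · rintro ⟨n, P, _, _, _, _, hP, φ, hφs, hφk⟩
    classical
    obtain ⟨s, hs⟩ := hφk
    obtain ⟨N, _, _, _, hN, ρ, hρ⟩ := exists_nbhd_of_finset hP s
    letI : Algebra A N := ((algebraMap (MvPolynomial (Fin n) A) N).comp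
      (algebraMap A (MvPolynomial (Fin n) A))).toAlgebra
    haveI : IsScalarTower A (MvPolynomial (Fin n) A) N := IsScalarTower.of_algebraMap_eq' rfl
    haveI : Algebra.FinitePresentation A N :=
      Algebra.FinitePresentation.trans A (MvPolynomial (Fin n) A) N
    choose! y hy using hρ
    let t : Finset N := s.image y
    let 𝔟 : Ideal N := Ideal.span (t : Set N)
    have h𝔟fg : 𝔟.FG := ⟨t, rfl⟩
    letI : Algebra N P := ρ.toRingHom.toAlgebra
    haveI : IsScalarTower (MvPolynomial (Fin n) A) N P :=
      IsScalarTower.of_algebraMap_eq (fun a => (ρ.commutes a).symm)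
    have hPN := isPairHenselization_of_nbhd hP hN
    have hPq := isPairHenselization_quotient hPN 𝔟
    have h𝔟map : 𝔟.map (algebraMap N P) = RingHom.ker (φ : P →+* B) := by
      have hs' : Ideal.span (s : Set P) = RingHom.ker (φ : P →+* B) := hs
      rw [← hs', Ideal.map_span]
      congr 1
      ext x
      simp only [t, Finset.coe_image, Set.mem_image, Finset.mem_coe]
      constructor
      · rintro ⟨_, ⟨z, hz, rfl⟩, rfl⟩
        have : algebraMap N P (y z) = z := hy z hz
        rw [this]; exact hz
      · intro hx
        exact ⟨y x, ⟨x, hx, rfl⟩, hy x hx⟩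
    let e : (P ⧸ 𝔟.map (algebraMap N P)) ≃+* B :=
      (Ideal.quotEquivOfEq h𝔟map).trans (RingHom.quotientKerEquivOfSurjective (f := (φ : P →+* B)) hφs)
    letI : Algebra (N ⧸ 𝔟) B :=
      ((e : _ →+* B).comp (algebraMap (N ⧸ 𝔟) (P ⧸ 𝔟.map (algebraMap N P)))).toAlgebra
    have hRB := isPairHenselization_of_ringEquiv hPq e (fun s => rfl)
    refine ⟨N ⧸ 𝔟, inferInstance, inferInstance, inferInstance, ?_,
      Algebra.FinitePresentation.quotient h𝔟fg, ?_⟩
    · apply IsScalarTower.of_algebraMap_eq
      intro a
      show algebraMap A B a = e (Ideal.Quotient.mk _ (ρ (algebraMap (MvPolynomial (Fin n) A) N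
        (algebraMap A (MvPolynomial (Fin n) A) a))))
      rw [ρ.commutes, ← IsScalarTower.algebraMap_apply A (MvPolynomial (Fin n) A) P]
      show algebraMap A B a = φ (algebraMap A P a)
      rw [φ.commutes]
    · have : I.map (algebraMap A (N ⧸ 𝔟)) =
          ((I.map (algebraMap A (MvPolynomial (Fin n) A))).map
            (algebraMap (MvPolynomial (Fin n) A) N)).map (Ideal.Quotient.mk 𝔟) := by
        rw [Ideal.map_map, Ideal.map_map]
        rfl
      rw [this]; exact hRB
  · rintro ⟨R, _, _, _, _, hfp, hRB⟩
    obtain ⟨n, f, hfs, hfk⟩ := hfp.out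
    letI : Algebra A (PH (MvPolynomial (Fin n) A) (I.map (algebraMap A (MvPolynomial (Fin n) A)))) :=
      ((algebraMap (MvPolynomial (Fin n) A) (PH (MvPolynomial (Fin n) A)
        (I.map (algebraMap A (MvPolynomial (Fin n) A))))).comp
        (algebraMap A (MvPolynomial (Fin n) A))).toAlgebra
    haveI : IsScalarTower A (MvPolynomial (Fin n) A)
        (PH (MvPolynomial (Fin n) A) (I.map (algebraMap A (MvPolynomial (Fin n) A)))) :=
      IsScalarTower.of_algebraMap_eq' rfl
    have hP : Hens2.IsPairHenselization (MvPolynomial (Fin n) A)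
        (I.map (algebraMap A (MvPolynomial (Fin n) A)))
        (PH (MvPolynomial (Fin n) A) (I.map (algebraMap A (MvPolynomial (Fin n) A)))) :=
      isPairHenselization_PH
    refine ⟨n, PH (MvPolynomial (Fin n) A) (I.map (algebraMap A (MvPolynomial (Fin n) A))),
      inferInstance, inferInstance, inferInstance, inferInstance, hP, ?_⟩
    have hQ' := isPairHenselization_quotient hP (RingHom.ker (f : MvPolynomial (Fin n) A →+* R))
    let e₀ : (MvPolynomial (Fin n) A ⧸ RingHom.ker (f : MvPolynomial (Fin n) A →+* R)) ≃+* R :=
      RingHom.quotientKerEquivOfSurjective (f := (f : MvPolynomial (Fin n) A →+* R)) hfs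
    letI : Algebra (MvPolynomial (Fin n) A ⧸ RingHom.ker (f : MvPolynomial (Fin n) A →+* R)) B :=
      ((algebraMap R B).comp (e₀ : _ →+* R)).toAlgebra
    have hK : ((I.map (algebraMap A (MvPolynomial (Fin n) A))).map
        (Ideal.Quotient.mk (RingHom.ker (f : MvPolynomial (Fin n) A →+* R)))).map
        (e₀ : _ →+* R) = I.map (algebraMap A R) := by
      rw [Ideal.map_map, Ideal.map_map]
      congr 1
      ext a
      show f (algebraMap A (MvPolynomial (Fin n) A) a) = algebraMap A R a
      exact f.commutes a
    have hB' := isPairHenselization_of_base_ringEquiv e₀ hK (fun s => rfl) hRB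
    obtain ⟨ε⟩ := nonempty_algEquiv_of_isPairHenselization hQ' hB'
    let φ : PH (MvPolynomial (Fin n) A) (I.map (algebraMap A (MvPolynomial (Fin n) A))) →ₐ[A] B :=
      { toRingHom := ε.toRingEquiv.toRingHom.comp (Ideal.Quotient.mk _)
        commutes' := fun a => by
          show ε (Ideal.Quotient.mk _ (algebraMap (MvPolynomial (Fin n) A) _
            (algebraMap A (MvPolynomial (Fin n) A) a))) = algebraMap A B a
          have h1 : Ideal.Quotient.mk ((RingHom.ker (f : MvPolynomial (Fin n) A →+* R)).map
              (algebraMap (MvPolynomial (Fin n) A) (PH (MvPolynomial (Fin n) A)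
                (I.map (algebraMap A (MvPolynomial (Fin n) A))))))
              (algebraMap (MvPolynomial (Fin n) A) _ (algebraMap A (MvPolynomial (Fin n) A) a)) =
              algebraMap (MvPolynomial (Fin n) A ⧸ RingHom.ker (f : MvPolynomial (Fin n) A →+* R)) _
                (Ideal.Quotient.mk _ (algebraMap A (MvPolynomial (Fin n) A) a)) := rfl
          rw [h1, ε.commutes]
          show algebraMap R B (f (algebraMap A (MvPolynomial (Fin n) A) a)) = _
          rw [f.commutes, ← IsScalarTower.algebraMap_apply] }
    refine ⟨φ, ε.surjective.comp Ideal.Quotient.mk_surjective, ?_⟩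
    have hker : RingHom.ker φ = (RingHom.ker (f : MvPolynomial (Fin n) A →+* R)).map
        (algebraMap (MvPolynomial (Fin n) A) (PH (MvPolynomial (Fin n) A)
          (I.map (algebraMap A (MvPolynomial (Fin n) A))))) := by
      ext x
      rw [RingHom.mem_ker]
      show ε (Ideal.Quotient.mk _ x) = 0 ↔ _
      rw [map_eq_zero_iff ε ε.injective, Ideal.Quotient.eq_zero_iff_mem]
    rw [hker]
    exact Ideal.FG.map hfk _

end Groth.Agent.S17607
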