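import Groth.Statements.S17608
import Groth.Agent.Lib.Helper26.PairHensComp

set_option autoImplicit false
universe u
open Hensel

namespace Groth.Agent.S17608

open Groth.Agent.Lib.Helper26.PairHensConstr Groth.Agent.Lib.Helper26.PairHensNbhd
  Groth.Agent.Lib.Helper26.PairHensOps Groth.Agent.Lib.Helper26.PairHensComp TensorProduct

attribute [local instance] Algebra.TensorProduct.rightAlgebra

/-- Let (A, I) be a Henselian pair, let B be a Henselization of the pair (R, IR) for a finitely
presented A-algebra R, and let C be a Henselization of the pair (S, IS) for a finitely presented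
B-algebra S, all algebra structures being compatible (so A → B and B → C are Henselian finitely
presented maps of Henselian pairs). Then the composite A → C is Henselian finitely presented: there
are a finitely presented A-algebra T and a T-algebra structure on C compatible with that of A for
which C is a Henselization of the pair (T, IT). -/
theorem result (A : Type u) [CommRing A] (I : Ideal A) [HenselianRing A I]
    (R : Type u) [CommRing R] [Algebra A R] [Algebra.FinitePresentation A R]
    (B : Type u) [CommRing B] [Algebra R B] [Algebra A B] [IsScalarTower A R B]
    (hB : Hens2.IsPairHenselization R (I.map (algebraMap A R)) B)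
    (S : Type u) [CommRing S] [Algebra B S] [Algebra A S] [IsScalarTower A B S] [Algebra.FinitePresentation B S]
    (C : Type u) [CommRing C] [Algebra S C] [Algebra B C] [Algebra A C] [IsScalarTower B S C]
    [IsScalarTower A B C]
    (hC : Hens2.IsPairHenselization S (I.map (algebraMap A S)) C) :
    ∃ (T : Type u) (_ : CommRing T) (_ : Algebra A T) (_ : Algebra T C) (_ : IsScalarTower A T C),
      Algebra.FinitePresentation A T ∧ Hens2.IsPairHenselization T (I.map (algebraMap A T)) C := by
  classical
  let P := Algebra.Presentation.ofFinitePresentation B S
  obtain ⟨N, _, _, _, hN, φ, hφ⟩ :=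
    exists_nbhd_of_finset hB (Algebra.Presentation.finite_coeffs (P := P)).toFinset
  letI : Algebra N B := φ.toRingHom.toAlgebra
  haveI : IsScalarTower R N B := IsScalarTower.of_algebraMap_eq (fun r => (φ.commutes r).symm)
  letI : Algebra N S := ((algebraMap B S).comp (algebraMap N B)).toAlgebra
  haveI : IsScalarTower N B S := IsScalarTower.of_algebraMap_eq' rfl
  haveI : P.HasCoeffs N := ⟨fun x hx => by
    obtain ⟨y, hy⟩ := hφ x ((Set.Finite.mem_toFinset _).mpr hx)
    exact ⟨y, hy⟩⟩
  letI algAN : Algebra A N := ((algebraMap R N).comp (algebraMap A R)).toAlgebra
  haveI : IsScalarTower A R N := IsScalarTower.of_algebraMap_eq' rfl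
  haveI : Algebra.FinitePresentation A N := Algebra.FinitePresentation.trans A R N
  have hBN := isPairHenselization_of_nbhd hB hN
  have hAS : ∀ a, algebraMap A S a = algebraMap N S (algebraMap A N a) := by
    intro a
    show algebraMap A S a = algebraMap B S (algebraMap N B (algebraMap R N (algebraMap A R a)))
    rw [← IsScalarTower.algebraMap_apply R N B, ← IsScalarTower.algebraMap_apply A R B,
      ← IsScalarTower.algebraMap_apply A B S]
  have hIN : (I.map (algebraMap A R)).map (algebraMap R N) = I.map (algebraMap A N) := by
    rw [Ideal.map_map]; rfl
  rw [hIN] at hBN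
  have hC' : Hens2.IsPairHenselization S ((I.map (algebraMap A N)).map (algebraMap N S)) C := by
    have : (I.map (algebraMap A N)).map (algebraMap N S) = I.map (algebraMap A S) := by
      rw [Ideal.map_map]
      congr 1
      ext a
      exact (hAS a).symm
    rw [this]; exact hC
  refine exists_fp_of_tensorEquiv I hBN (P.tensorModelOfHasCoeffsEquiv N) (fun a => ?_) hC'
  rw [← hAS, IsScalarTower.algebraMap_apply A B S, ← IsScalarTower.algebraMap_apply B S C,
    ← IsScalarTower.algebraMap_apply A B C]

end Groth.Agent.S17608
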