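import Groth.Statements.S17613
import Groth.Agent.Lib.Helper26.HenselDirectLimit

set_option autoImplicit false
universe u
open Hensel

namespace Groth.Agent.S17613

open Groth.Agent.Lib.Helper26.HenselDirectLimit

/-- Let (A, I) be a Henselian pair and let B be a Henselization of the pair (R₀, IR₀) for a finitely
presented A-algebra R₀ (so A → B is Henselian finitely presented). Let (R_a) be a directed system of
A-algebras with A-compatible transition maps such that each (R_a, IR_a) is a Henselian pair, and let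
L be its direct limit with the induced A-algebra structure. Then the canonical map from the colimit
of the Hom_A(B, R_a) to Hom_A(B, L) is bijective: every A-algebra map B → L factors through some
R_a, and two A-algebra maps B → R_a whose composites with R_a → L agree become equal after passing
to some R_b. (Index set in the universe of the rings.) -/
theorem result (A : Type u) [CommRing A] (I : Ideal A)
    [HenselianRing A I] (R₀ : Type u) [CommRing R₀] [Algebra A R₀] [Algebra.FinitePresentation A R₀]
    (B : Type u) [CommRing B] [Algebra R₀ B] [Algebra A B] [IsScalarTower A R₀ B]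
    (hB : Hens2.IsPairHenselization R₀ (I.map (algebraMap A R₀)) B)
    {κ : Type u} [Preorder κ] [IsDirectedOrder κ] [Nonempty κ]
    (Ra : κ → Type u) [∀ a, CommRing (Ra a)] [∀ a, Algebra A (Ra a)]
    [∀ a, HenselianRing (Ra a) (I.map (algebraMap A (Ra a)))]
    (t : ∀ a b : κ, a ≤ b → (Ra a →+* Ra b)) [DirectedSystem Ra (fun a b h => t a b h)]
    (ht : ∀ (a b : κ) (h : a ≤ b), (t a b h).comp (algebraMap A (Ra a)) = algebraMap A (Ra b))
    [Algebra A (DirectLimit Ra t)]
    (halg : ∀ (a : κ) (x : A), algebraMap A (DirectLimit Ra t) x =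
      DirectLimit.Ring.of Ra t a (algebraMap A (Ra a) x)) :
    (∀ χ : B →ₐ[A] DirectLimit Ra t, ∃ (a : κ) (φ : B →ₐ[A] Ra a),
        ∀ x : B, DirectLimit.Ring.of Ra t a (φ x) = χ x) ∧
    ∀ (a : κ) (φ ψ : B →ₐ[A] Ra a),
      (∀ x : B, DirectLimit.Ring.of Ra t a (φ x) = DirectLimit.Ring.of Ra t a (ψ x)) →
      ∃ (b : κ) (h : a ≤ b), ∀ x : B, t a b h (φ x) = t a b h (ψ x) := by
  classical
  let ofA : ∀ a, Ra a →ₐ[A] DirectLimit Ra t := fun a =>
    { toRingHom := DirectLimit.Ring.of Ra t a, commutes' := fun x => (halg a x).symm }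
  let tA : ∀ a b (h : a ≤ b), Ra a →ₐ[A] Ra b := fun a b h =>
    { toRingHom := t a b h, commutes' := fun x => RingHom.congr_fun (ht a b h) x }
  have hK : ∀ a b (h : a ≤ b), (I.map (algebraMap A (Ra a))).map (t a b h) ≤
      I.map (algebraMap A (Ra b)) := by
    intro a b h; rw [Ideal.map_map, ht a b h]
  have hL : HenselianRing (DirectLimit Ra t) (I.map (algebraMap A (DirectLimit Ra t))) := by
    have h1 := henselianRing_directLimit Ra t (fun a => I.map (algebraMap A (Ra a))) hK
    have h2 : (⨆ a, (I.map (algebraMap A (Ra a))).map (DirectLimit.Ring.of Ra t a)) =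
        I.map (algebraMap A (DirectLimit Ra t)) := by
      have : ∀ a, (I.map (algebraMap A (Ra a))).map (DirectLimit.Ring.of Ra t a) =
          I.map (algebraMap A (DirectLimit Ra t)) := by
        intro a; rw [Ideal.map_map]; congr 1; ext x; exact (halg a x).symm
      simp_rw [this]; exact iSup_const
    rw [← h2]; exact h1
  obtain ⟨n, π, hπs, hπk⟩ := (inferInstance : Algebra.FinitePresentation A R₀).out
  obtain ⟨s, hs⟩ := hπk
  have hs' : Ideal.span (s : Set (MvPolynomial (Fin n) A)) = RingHom.ker π := hs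
  have hBuniq : ∀ (C : Type u) [CommRing C] [Algebra A C]
      (hC : HenselianRing C (I.map (algebraMap A C))) (φ ψ : B →ₐ[A] C),
      (∀ r : R₀, φ (algebraMap R₀ B r) = ψ (algebraMap R₀ B r)) → φ = ψ := by
    intro C _ _ hC φ ψ h
    have hmap : (I.map (algebraMap A R₀)).map ((φ : B →+* C).comp (algebraMap R₀ B)) ≤
        I.map (algebraMap A C) := by
      rw [Ideal.map_map]
      have : ((φ : B →+* C).comp (algebraMap R₀ B)).comp (algebraMap A R₀) = algebraMap A C := by
        rw [RingHom.comp_assoc, ← IsScalarTower.algebraMap_eq]; exact φ.comp_algebraMap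
      rw [this]
    obtain ⟨g, -, hgu⟩ := hB.2 C _ ((φ : B →+* C).comp (algebraMap R₀ B)) hC hmap
    have h1 : (φ : B →+* C) = g := hgu _ rfl
    have h2 : (ψ : B →+* C) = g := hgu _ (by ext r; exact (h r).symm)
    ext x; exact RingHom.congr_fun (h1.trans h2.symm) x
  have hBex : ∀ (C : Type u) [CommRing C] [Algebra A C]
      (hC : HenselianRing C (I.map (algebraMap A C))) (ρ : R₀ →ₐ[A] C),
      ∃ φ : B →ₐ[A] C, ∀ r, φ (algebraMap R₀ B r) = ρ r := by
    intro C _ _ hC ρ
    have hmap : (I.map (algebraMap A R₀)).map (ρ : R₀ →+* C) ≤ I.map (algebraMap A C) := by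
      rw [Ideal.map_map, ρ.comp_algebraMap]
    obtain ⟨g, hg, -⟩ := hB.2 C _ (ρ : R₀ →+* C) hC hmap
    refine ⟨{ toRingHom := g, commutes' := fun a => ?_ }, fun r => RingHom.congr_fun hg r⟩
    show g (algebraMap A B a) = algebraMap A C a
    rw [IsScalarTower.algebraMap_apply A R₀ B]
    have := RingHom.congr_fun hg (algebraMap A R₀ a)
    simp only [RingHom.comp_apply] at this
    rw [this]; exact ρ.commutes a
  refine ⟨fun χ => ?_, fun a φ ψ h => ?_⟩
  · let χ₀ : R₀ →ₐ[A] DirectLimit Ra t := χ.comp (IsScalarTower.toAlgHom A R₀ B)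
    obtain ⟨a₀, d, hd⟩ := exists_stage_finset Ra t (Finset.univ : Finset (Fin n))
      (fun k => χ₀ (π (MvPolynomial.X k)))
    have haeval : ∀ (a : κ) (d' : Fin n → Ra a),
        (∀ k, DirectLimit.Ring.of Ra t a (d' k) = χ₀ (π (MvPolynomial.X k))) →
        ∀ p, DirectLimit.Ring.of Ra t a (MvPolynomial.aeval d' p) = χ₀ (π p) := by
      intro a d' hd' p
      have : (ofA a).comp (MvPolynomial.aeval d') = χ₀.comp π := by
        apply MvPolynomial.algHom_ext
        intro k
        simp only [AlgHom.comp_apply, MvPolynomial.aeval_X]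
        exact hd' k
      exact DFunLike.congr_fun this p
    have hzero : ∀ p ∈ s, DirectLimit.Ring.of Ra t a₀ (MvPolynomial.aeval d p) =
        DirectLimit.Ring.of Ra t a₀ 0 := by
      intro p hp
      rw [haeval a₀ d (fun k => hd k (Finset.mem_univ k)) p, map_zero]
      have : p ∈ RingHom.ker π := by rw [← hs']; exact Ideal.subset_span hp
      rw [(RingHom.mem_ker).mp this, map_zero]
    obtain ⟨a₁, h01, ha₁⟩ := exists_stage_eq_finset Ra t s a₀
      (fun p => MvPolynomial.aeval d p) (fun _ => 0) hzero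
    let d' : Fin n → Ra a₁ := fun k => t a₀ a₁ h01 (d k)
    have hd' : ∀ k, DirectLimit.Ring.of Ra t a₁ (d' k) = χ₀ (π (MvPolynomial.X k)) := by
      intro k
      show DirectLimit.Ring.of Ra t a₁ (t a₀ a₁ h01 (d k)) = _
      rw [DirectLimit.Ring.of_f]; exact hd k (Finset.mem_univ k)
    have hcomp : (tA a₀ a₁ h01).comp (MvPolynomial.aeval d) = MvPolynomial.aeval d' := by
      apply MvPolynomial.algHom_ext
      intro k
      simp only [AlgHom.comp_apply, MvPolynomial.aeval_X]
      rfl
    have hker : ∀ p ∈ RingHom.ker π, MvPolynomial.aeval d' p = 0 := by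
      have : RingHom.ker π ≤
          RingHom.ker (MvPolynomial.aeval d' : MvPolynomial (Fin n) A →ₐ[A] Ra a₁) := by
        rw [← hs', Ideal.span_le]
        intro p hp
        rw [SetLike.mem_coe, RingHom.mem_ker, ← hcomp]
        show t a₀ a₁ h01 (MvPolynomial.aeval d p) = 0
        rw [ha₁ p hp, map_zero]
      exact fun p hp => this hp
    let ρ : R₀ →ₐ[A] Ra a₁ :=
      (Ideal.Quotient.liftₐ (RingHom.ker π) (MvPolynomial.aeval d') hker).comp
        (Ideal.quotientKerAlgEquivOfSurjective hπs).symm.toAlgHom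
    have hρ : ∀ p, ρ (π p) = MvPolynomial.aeval d' p := by
      intro p
      have : (Ideal.quotientKerAlgEquivOfSurjective hπs).symm (π p) = Ideal.Quotient.mk _ p := by
        rw [AlgEquiv.symm_apply_eq]; rfl
      show Ideal.Quotient.liftₐ _ _ hker
        ((Ideal.quotientKerAlgEquivOfSurjective hπs).symm (π p)) = _
      rw [this]; rfl
    obtain ⟨φ, hφ⟩ := hBex (Ra a₁) inferInstance ρ
    refine ⟨a₁, φ, ?_⟩
    have : (ofA a₁).comp φ = χ := by
      apply hBuniq _ hL
      intro r
      obtain ⟨p, rfl⟩ := hπs r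
      show DirectLimit.Ring.of Ra t a₁ (φ (algebraMap R₀ B (π p))) = χ (algebraMap R₀ B (π p))
      rw [hφ, hρ, haeval a₁ d' hd' p]; rfl
    exact fun x => DFunLike.congr_fun this x
  · have hgen : ∀ k ∈ (Finset.univ : Finset (Fin n)),
        DirectLimit.Ring.of Ra t a (φ (algebraMap R₀ B (π (MvPolynomial.X k)))) =
        DirectLimit.Ring.of Ra t a (ψ (algebraMap R₀ B (π (MvPolynomial.X k)))) := fun k _ => h _
    obtain ⟨b, hab, hb⟩ := exists_stage_eq_finset Ra t Finset.univ a _ _ hgen
    refine ⟨b, hab, ?_⟩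
    have : (tA a b hab).comp φ = (tA a b hab).comp ψ := by
      apply hBuniq _ inferInstance
      intro r
      obtain ⟨p, rfl⟩ := hπs r
      have e : (((tA a b hab).comp φ).comp (IsScalarTower.toAlgHom A R₀ B)).comp π =
          (((tA a b hab).comp ψ).comp (IsScalarTower.toAlgHom A R₀ B)).comp π := by
        apply MvPolynomial.algHom_ext
        intro k
        exact hb k (Finset.mem_univ k)
      exact DFunLike.congr_fun e p
    exact fun x => DFunLike.congr_fun this x

end Groth.Agent.S17613
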