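import Groth.Statements.S17615
import Mathlib
import Groth.Agent.Lib.Helper26.PairHensNbhd
import Groth.Agent.S17593
import Groth.Agent.Lib.Helper25.FlatAtCrit

set_option autoImplicit false
universe u
open Hensel

namespace Groth.Agent.S17615

/-- Let (A, I) be a Henselian pair and let B be a Henselization of the pair (R₀, IR₀) for a finitely
presented A-algebra R₀ (so A → B is a Henselian finitely presented map of Henselian pairs). If B is
flat over A, then there are a finitely presented A-algebra S that is flat over A and an S-algebra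
structure on B compatible with that of A for which B is a Henselization of the pair (S, IS). -/
theorem result (A : Type u) [CommRing A]
    (I : Ideal A) [HenselianRing A I]
    (R₀ : Type u) [CommRing R₀] [Algebra A R₀] [Algebra.FinitePresentation A R₀]
    (B : Type u) [CommRing B] [Algebra R₀ B] [Algebra A B] [IsScalarTower A R₀ B]
    (hB : Hens2.IsPairHenselization R₀ (I.map (algebraMap A R₀)) B) [Module.Flat A B] :
    ∃ (S : Type u) (_ : CommRing S) (_ : Algebra A S) (_ : Algebra S B) (_ : IsScalarTower A S B),
      Algebra.FinitePresentation A S ∧ Module.Flat A S ∧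
      Hens2.IsPairHenselization S (I.map (algebraMap A S)) B := by
  classical
  have key : ∀ (p : Ideal R₀) [p.IsPrime], Module.Flat A (Localization.AtPrime p) ↔
      Module.Flat A (LocalizedModule p.primeCompl R₀) := by
    intro p _
    have : IsLocalizedModule p.primeCompl (Algebra.linearMap R₀ (Localization.AtPrime p)) :=
      isLocalizedModule_iff_isLocalization.mpr inferInstance
    exact (Module.Flat.equiv_iff ((IsLocalizedModule.iso p.primeCompl
      (Algebra.linearMap R₀ (Localization.AtPrime p))).restrictScalars A)).symm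
  have hflatB : Module.Flat R₀ B :=
    Groth.Agent.Lib.Helper26.PairHensConstr.flat_of_isPairHenselization hB
  have hQB : Groth.Agent.Lib.Helper26.PairHensNbhd.QuotBij (I.map (algebraMap A R₀)) B := by
    have := Groth.Agent.Lib.Helper26.PairHensNbhd.quotBij_pow hB 1
    rwa [pow_one] at this
  obtain ⟨σ, -⟩ := hQB.exists_sigma
  have h1 : ∀ (p : Ideal R₀) [p.IsPrime], I.map (algebraMap A R₀) ≤ p →
      Module.Flat A (Localization.AtPrime p) := by
    intro p hp hKp
    rw [key p]
    obtain ⟨χ, hχ⟩ : ∃ χ : B →+* R₀ ⧸ p, χ = (Ideal.Quotient.factor hKp).comp σ.toRingHom :=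
      ⟨_, rfl⟩
    have hχa : ∀ a : R₀, χ (algebraMap R₀ B a) = Ideal.Quotient.mk p a := by
      intro a
      rw [hχ]
      change Ideal.Quotient.factor hKp (σ (algebraMap R₀ B a)) = _
      rw [σ.commutes, Ideal.Quotient.algebraMap_eq, Ideal.Quotient.factor_mk]
    have hr : (RingHom.ker χ).IsPrime := RingHom.ker_isPrime χ
    have hrp : p = (RingHom.ker χ).comap (algebraMap R₀ B) := by
      ext a
      rw [Ideal.mem_comap, RingHom.mem_ker, hχa, Ideal.Quotient.eq_zero_iff_mem]
    have hX : Module.Flat A (TensorProduct R₀ B R₀) :=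
      Module.Flat.of_linearEquiv
        ((TensorProduct.AlgebraTensorModule.rid R₀ B B).restrictScalars A)
    have hloc : Module.Flat A (LocalizedModule (RingHom.ker χ).primeCompl (TensorProduct R₀ B R₀)) := by
      rw [Groth.Agent.Lib.Helper25.FlatAtCrit.flat_localized_iff]
      intro P₁ P₂ _ _ _ _ g hg z hz
      have hinj : Function.Injective (g.lTensor (TensorProduct R₀ B R₀)) :=
        Module.Flat.lTensor_preserves_injective_linearMap g hg
      have hz0 : z = 0 := hinj (hz.trans (map_zero _).symm)
      exact ⟨1, Submonoid.one_mem _, by rw [hz0, smul_zero]⟩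
    exact Groth.Agent.Lib.Helper25.FlatAtCrit.desc (A' := A) (B' := R₀) (C' := B) R₀
      (RingHom.ker χ) p hrp hloc
  obtain ⟨R', _, _, _, _, hEt, hbij, hflatR'⟩ := Groth.Agent.S17593.result A I R₀ h1
  have hQR' : Groth.Agent.Lib.Helper26.PairHensNbhd.QuotBij (I.map (algebraMap A R₀)) R' := hbij
  haveI hBhens : HenselianRing B ((I.map (algebraMap A R₀)).map (algebraMap R₀ B)) := hB.1
  obtain ⟨hu⟩ := Groth.Agent.Lib.Helper26.PairHensNbhd.nonempty_unique_algHom_nbhd
    (I := I.map (algebraMap A R₀)) (B := B) hQR'
  obtain ⟨φ, -⟩ : ∃ φ : R' →ₐ[R₀] B, True := ⟨hu.default, trivial⟩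
  letI algR'B : Algebra R' B := φ.toRingHom.toAlgebra
  have halg : ∀ x : R', algebraMap R' B x = φ x := fun _ => rfl
  haveI t1 : IsScalarTower R₀ R' B := IsScalarTower.of_algebraMap_eq (fun a => by
    rw [halg, φ.commutes])
  haveI t2 : IsScalarTower A R' B := IsScalarTower.of_algebraMap_eq (fun a => by
    rw [halg, IsScalarTower.algebraMap_apply A R₀ R', φ.commutes,
      ← IsScalarTower.algebraMap_apply A R₀ B])
  have hfp : Algebra.FinitePresentation A R' := Algebra.FinitePresentation.trans A R₀ R'
  have hPH := Groth.Agent.Lib.Helper26.PairHensNbhd.isPairHenselization_of_nbhd hB hQR'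
  have hmap : (I.map (algebraMap A R₀)).map (algebraMap R₀ R') = I.map (algebraMap A R') := by
    rw [Ideal.map_map, ← IsScalarTower.algebraMap_eq]
  rw [hmap] at hPH
  exact ⟨R', inferInstance, inferInstance, algR'B, t2, hfp, hflatR', hPH⟩

end Groth.Agent.S17615
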