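import Groth.Statements.S17616
import Mathlib.RingTheory.RingHom.FinitePresentation
import Mathlib.RingTheory.Localization.Ideal

set_option autoImplicit false
universe u
open Hensel

namespace Groth.Agent.S17616

lemma quotientMap_away_bijective {R : Type*} [CommRing R] (K : Ideal R) (g : R)
    (hg : 1 - g ∈ K) :
    Function.Bijective (Ideal.quotientMap (K.map (algebraMap R (Localization.Away g)))
      (algebraMap R (Localization.Away g)) Ideal.le_comap_map) := by
  have hpow : ∀ n : ℕ, 1 - g ^ n ∈ K := by
    intro n
    rw [← Ideal.Quotient.eq_zero_iff_mem, map_sub, map_pow, map_one]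
    have : Ideal.Quotient.mk K g = 1 := by
      have := Ideal.Quotient.eq_zero_iff_mem.mpr hg
      rw [map_sub, map_one, sub_eq_zero] at this
      exact this.symm
    rw [this, one_pow, sub_self]
  constructor
  · rw [injective_iff_map_eq_zero]
    intro x hx
    obtain ⟨r, rfl⟩ := Ideal.Quotient.mk_surjective x
    rw [Ideal.quotientMap_mk, Ideal.Quotient.eq_zero_iff_mem,
      IsLocalization.mem_map_algebraMap_iff (Submonoid.powers g)] at hx
    obtain ⟨⟨i, m⟩, hm⟩ := hx
    rw [← map_mul, IsLocalization.eq_iff_exists (Submonoid.powers g)] at hm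
    obtain ⟨m', hm'⟩ := hm
    obtain ⟨a, ha⟩ := m.2
    obtain ⟨b, hb⟩ := m'.2
    simp only at ha hb hm'
    rw [Ideal.Quotient.eq_zero_iff_mem]
    have h1 : g ^ (b + a) * r ∈ K := by
      have : g ^ (b + a) * r = (m' : R) * (i : R) := by
        rw [pow_add, hb, ha, ← hm']; ring
      rw [this]
      exact Ideal.mul_mem_left _ _ i.2
    have h2 : r = g ^ (b + a) * r + (1 - g ^ (b + a)) * r := by ring
    rw [h2]
    exact Ideal.add_mem _ h1 (Ideal.mul_mem_right _ _ (hpow _))
  · intro y
    obtain ⟨y, rfl⟩ := Ideal.Quotient.mk_surjective y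
    obtain ⟨⟨x, m⟩, hxm⟩ := IsLocalization.surj (Submonoid.powers g) y
    obtain ⟨n, hn⟩ := m.2
    simp only at hn
    refine ⟨Ideal.Quotient.mk K x, ?_⟩
    rw [Ideal.quotientMap_mk, Ideal.Quotient.eq]
    have h1 : algebraMap R (Localization.Away g) x - y =
        - (y * algebraMap R (Localization.Away g) (1 - g ^ n)) := by
      simp only at hxm
      rw [map_sub, map_one, hn, ← hxm]; ring
    rw [h1]
    exact Ideal.neg_mem_iff _ |>.mpr
      (Ideal.mul_mem_left _ _ (Ideal.mem_map_of_mem _ (hpow n)))

/-- Let P be a property of ring maps (between rings in a fixed universe), and say that f : B → B' has P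
at a prime q of B' if the composite B → B' → B'_g has P for some g ∉ q. Assume (i) for every
finitely presented f : B → B' the set of primes of B' at which f has P is ind-constructible in Spec
B', and f has P as soon as it has P at every prime; (ii) every étale ring map has P; (iii) for g : C
→ C' and h : C' → C'', if h has P at a prime q of C'' and g has P at the inverse image of q in C',
then h ∘ g has P at q. Now suppose (A, I) is a Henselian pair, and take an A-algebra R of finite
presentation for which A → R has P at each prime of R that contains IR. Then there is an étale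
R-algebra R' with R/IR → R'/IR' bijective such that A → R' has P. -/
theorem result
    (P : ∀ ⦃B B' : Type u⦄ [CommRing B] [CommRing B'], (B →+* B') → Prop)
    (PAt : ∀ ⦃B B' : Type u⦄ [CommRing B] [CommRing B'], (B →+* B') → Ideal B' → Prop)
    (hPAt : ∀ ⦃B B' : Type u⦄ [CommRing B] [CommRing B'] (f : B →+* B') (q : Ideal B'),
      PAt f q ↔ ∃ g : B', g ∉ q ∧ P ((algebraMap B' (Localization.Away g)).comp f))
    (h₁ : ∀ ⦃B B' : Type u⦄ [CommRing B] [CommRing B'] (f : B →+* B'), f.FinitePresentation →
      ProCons.IsIndConstructible {q : PrimeSpectrum B' | PAt f q.asIdeal} ∧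
        ((∀ q : PrimeSpectrum B', PAt f q.asIdeal) → P f))
    (h₂ : ∀ ⦃B B' : Type u⦄ [CommRing B] [CommRing B'] (f : B →+* B'), f.Etale → P f)
    (h₃ : ∀ ⦃C C' C'' : Type u⦄ [CommRing C] [CommRing C'] [CommRing C''] (g : C →+* C')
      (h : C' →+* C'') (q : Ideal C'') [q.IsPrime],
      PAt h q → PAt g (q.comap h) → PAt (h.comp g) q)
    (A : Type u) [CommRing A] (I : Ideal A) [HenselianRing A I]
    (R : Type u) [CommRing R] [Algebra A R] [Algebra.FinitePresentation A R]
    (hR : ∀ (p : Ideal R) [p.IsPrime], I.map (algebraMap A R) ≤ p → PAt (algebraMap A R) p) :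
    ∃ (R' : Type u) (_ : CommRing R') (_ : Algebra R R') (_ : Algebra A R') (_ : IsScalarTower A R R'),
      Algebra.Etale R R' ∧
      Function.Bijective (Ideal.quotientMap ((I.map (algebraMap A R)).map (algebraMap R R'))
        (algebraMap R R') Ideal.le_comap_map) ∧ P (algebraMap A R') := by
  classical
  let K : Ideal R := I.map (algebraMap A R)
  let G : Set R := {g | P ((algebraMap R (Localization.Away g)).comp (algebraMap A R))}
  -- Step 2: `K ⊔ span G = ⊤`
  have htop : K ⊔ Ideal.span G = ⊤ := by
    by_contra hne
    obtain ⟨m, hm, hle⟩ := Ideal.exists_le_maximal _ hne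
    haveI := hm.isPrime
    have hKm : K ≤ m := le_trans le_sup_left hle
    obtain ⟨g, hgm, hgP⟩ := (hPAt (algebraMap A R) m).mp (hR m hKm)
    exact hgm (hle (Ideal.mem_sup_right (Ideal.subset_span hgP)))
  obtain ⟨j, hj, s, hs, hjs⟩ := Submodule.mem_sup.mp (htop ▸ Submodule.mem_top (x := (1 : R)))
  have hg₀ : 1 - s ∈ K := by
    have : 1 - s = j := by rw [← hjs]; ring
    rw [this]; exact hj
  refine ⟨Localization.Away s, inferInstance, inferInstance, inferInstance, inferInstance,
    Algebra.Etale.of_isLocalizationAway s, quotientMap_away_bijective K s hg₀, ?_⟩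
  haveI : Algebra.FinitePresentation R (Localization.Away s) :=
    IsLocalization.Away.finitePresentation s
  haveI : Algebra.FinitePresentation A (Localization.Away s) :=
    Algebra.FinitePresentation.trans A R (Localization.Away s)
  have hfp : (algebraMap A (Localization.Away s)).FinitePresentation :=
    RingHom.finitePresentation_algebraMap.mpr inferInstance
  refine (h₁ (algebraMap A (Localization.Away s)) hfp).2 ?_
  intro q
  have hcomp : algebraMap A (Localization.Away s) =
      (algebraMap R (Localization.Away s)).comp (algebraMap A R) :=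
    IsScalarTower.algebraMap_eq A R (Localization.Away s)
  rw [hcomp]
  apply h₃
  · -- étale maps have `P` at every prime
    rw [hPAt]
    refine ⟨1, fun h1 => q.isPrime.ne_top ((Ideal.eq_top_iff_one _).mpr h1), ?_⟩
    apply h₂
    have e1 : (algebraMap R (Localization.Away s)).Etale :=
      RingHom.etale_algebraMap.mpr (Algebra.Etale.of_isLocalizationAway s)
    have e2 : (algebraMap (Localization.Away s)
        (Localization.Away (1 : Localization.Away s))).Etale :=
      RingHom.etale_algebraMap.mpr (Algebra.Etale.of_isLocalizationAway 1)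
    exact RingHom.Etale.stableUnderComposition _ _ e1 e2
  · rw [hPAt]
    -- some `g ∈ G` is not in the contraction of `q`
    by_contra hcon
    push Not at hcon
    have hGle : Ideal.span G ≤ q.asIdeal.comap (algebraMap R (Localization.Away s)) := by
      rw [Ideal.span_le]
      intro g hg
      by_contra hgq
      exact hcon g hgq hg
    have hsq : algebraMap R (Localization.Away s) s ∈ q.asIdeal := hGle hs
    have hu : IsUnit (algebraMap R (Localization.Away s) s) :=
      IsLocalization.Away.algebraMap_isUnit s
    exact q.isPrime.ne_top (Ideal.eq_top_of_isUnit_mem _ hsq hu)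

end Groth.Agent.S17616
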