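import Groth.Statements.S17617
import Groth.Agent.Lib.Helper26.HensStalkExact

set_option autoImplicit false
universe u
open Hensel

namespace Groth.Agent.S17617

/-- Let (A, I) be a Henselian pair and let M' → M → M'' be A-linear maps with zero composite. Then M' →
M → M'' is exact if and only if for every prime ideal p of A containing I and every Henselization H
of the pair (A_p, IA_p), the sequence H ⊗_A M' → H ⊗_A M → H ⊗_A M'' is exact. (The modules H ⊗_A M
are the stalks at p of the sheaf associated to M on the affine Henselian scheme of (A, I), and
exactness of a sequence of such sheaves is exactness at every stalk, so this is the statement that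
the sequence of modules is exact exactly when the associated sequence of sheaves is.) -/
theorem result (A : Type u) [CommRing A]
    (I : Ideal A) [HenselianRing A I]
    (M' M M'' : Type u) [AddCommGroup M'] [Module A M'] [AddCommGroup M] [Module A M]
    [AddCommGroup M''] [Module A M''] (f : M' →ₗ[A] M) (g : M →ₗ[A] M'') (hfg : g.comp f = 0) :
    Function.Exact f g ↔
    ∀ (p : Ideal A) [p.IsPrime], I ≤ p →
      ∀ (H : Type u) [CommRing H] [Algebra (Localization.AtPrime p) H] [Algebra A H]
        [IsScalarTower A (Localization.AtPrime p) H],
        Hens2.IsPairHenselization (Localization.AtPrime p)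
          (I.map (algebraMap A (Localization.AtPrime p))) H →
        Function.Exact (f.baseChange H) (g.baseChange H) := by
  constructor
  · intro hex p _ hIp H _ _ _ _ hH
    haveI : Module.Flat (Localization.AtPrime p) H :=
      Groth.Agent.Lib.Helper26.PairHensConstr.flat_of_isPairHenselization hH
    haveI : Module.Flat A H := Module.Flat.trans A (Localization.AtPrime p) H
    have := Module.Flat.lTensor_exact H hex
    intro y
    exact this y
  · intro hyp x
    constructor
    · intro hgx
      by_contra hxf
      have h𝔞 : LinearMap.ker (LinearMap.toSpanSingleton A (M ⧸ LinearMap.range f)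
          (Submodule.Quotient.mk x)) ≠ (⊤ : Ideal A) := by
        intro htop
        have h1 : (1 : A) ∈ LinearMap.ker (LinearMap.toSpanSingleton A (M ⧸ LinearMap.range f)
          (Submodule.Quotient.mk x)) := by rw [htop]; trivial
        rw [LinearMap.mem_ker, LinearMap.toSpanSingleton_apply, one_smul,
          Submodule.Quotient.mk_eq_zero] at h1
        exact hxf h1
      obtain ⟨m, hm, h𝔞m⟩ := Ideal.exists_le_maximal _ h𝔞
      haveI : m.IsPrime := hm.isPrime
      have hIm : I ≤ m := le_trans HenselianRing.jac (sInf_le ⟨bot_le, hm⟩)
      letI : Algebra A (Groth.Agent.Lib.Helper26.PairHensConstr.PH (Localization.AtPrime m)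
          (I.map (algebraMap A (Localization.AtPrime m)))) :=
        ((algebraMap (Localization.AtPrime m) (Groth.Agent.Lib.Helper26.PairHensConstr.PH
          (Localization.AtPrime m) (I.map (algebraMap A (Localization.AtPrime m))))).comp
          (algebraMap A (Localization.AtPrime m))).toAlgebra
      haveI : IsScalarTower A (Localization.AtPrime m)
          (Groth.Agent.Lib.Helper26.PairHensConstr.PH (Localization.AtPrime m)
          (I.map (algebraMap A (Localization.AtPrime m)))) := IsScalarTower.of_algebraMap_eq' rfl
      have hPH := Groth.Agent.Lib.Helper26.PairHensConstr.isPairHenselization_PH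
        (A := Localization.AtPrime m) (I := I.map (algebraMap A (Localization.AtPrime m)))
      have hexH := hyp m hIm _ hPH
      obtain ⟨s, hsm, hs⟩ := Groth.Agent.Lib.Helper26.HensStalkExact.aux I m hIm _ hPH f g hexH x hgx
      apply hsm
      apply h𝔞m
      rw [LinearMap.mem_ker, LinearMap.toSpanSingleton_apply, ← Submodule.Quotient.mk_smul,
        Submodule.Quotient.mk_eq_zero]
      exact hs
    · rintro ⟨y, rfl⟩
      exact LinearMap.congr_fun hfg y

end Groth.Agent.S17617
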