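import Groth.Statements.S17620
import Groth.Agent.Lib.Helper26.PairHens
import Mathlib.FieldTheory.Separable

set_option autoImplicit false
universe u
open Hensel

namespace Groth.Agent.S17620

/-- Let R be a local ring and J an ideal of R contained in the maximal ideal, let H be a Henselization
of the pair (R, J) which is a local ring with local structure map R → H, and let S be a strict
Henselization of the local ring H. Then S, with its composite R-algebra structure, is a strict
Henselization of the local ring R. (This is the identification of the strict Henselization of the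
local ring of a scheme at a point with that of the local ring of its Henselization along a closed
subscheme through the point.) -/
theorem result
    (R : Type u) [CommRing R] [IsLocalRing R] (J : Ideal R) (hJ : J ≤ IsLocalRing.maximalIdeal R)
    (H : Type u) [CommRing H] [IsLocalRing H] [Algebra R H] [IsLocalHom (algebraMap R H)]
    (hH : Hens2.IsPairHenselization R J H)
    (S : Type u) [CommRing S] [IsLocalRing S] [Algebra H S] [IsLocalHom (algebraMap H S)]
    [Hensel.IsStrictHenselization H S]
    [Algebra R S] [IsScalarTower R H S] [IsLocalHom (algebraMap R S)] :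
    Hensel.IsStrictHenselization R S := by
  classical
  have hHS : Hensel.IsStrictHenselization H S := inferInstance
  have key := Lib.Helper26.PairHens.exists_sub_mem J hH
  have hmemR : ∀ {r : R}, r ∈ IsLocalRing.maximalIdeal R ↔
      algebraMap R H r ∈ IsLocalRing.maximalIdeal H := by
    intro r
    rw [IsLocalRing.mem_maximalIdeal, IsLocalRing.mem_maximalIdeal, mem_nonunits_iff,
      mem_nonunits_iff, not_iff_not]
    exact ⟨fun h => h.map _, fun h => isUnit_of_map_unit (algebraMap R H) r h⟩
  have hJH : J.map (algebraMap R H) ≤ IsLocalRing.maximalIdeal H := by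
    rw [Ideal.map_le_iff_le_comap]
    intro x hx
    exact hmemR.mp (hJ hx)
  -- every residue class of `H` comes from `R`
  have hres : ∀ x : H, ∃ r : R, IsLocalRing.residue H x = IsLocalRing.residue H (algebraMap R H r) := by
    intro x
    obtain ⟨r, hr⟩ := key x
    refine ⟨r, ?_⟩
    rw [← sub_eq_zero, ← map_sub, IsLocalRing.residue_eq_zero_iff]
    exact hJH hr
  have hsurj : Function.Surjective
      (algebraMap (IsLocalRing.ResidueField R) (IsLocalRing.ResidueField H)) := by
    intro y
    obtain ⟨x, rfl⟩ := IsLocalRing.residue_surjective y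
    obtain ⟨r, hr⟩ := hres x
    exact ⟨IsLocalRing.residue R r, by rw [IsLocalRing.ResidueField.algebraMap_residue, hr]⟩
  have hbij : Function.Bijective
      (algebraMap (IsLocalRing.ResidueField R) (IsLocalRing.ResidueField H)) :=
    ⟨(algebraMap (IsLocalRing.ResidueField R) (IsLocalRing.ResidueField H)).injective, hsurj⟩
  let e : IsLocalRing.ResidueField R ≃+* IsLocalRing.ResidueField H :=
    RingEquiv.ofBijective _ hbij
  refine { henselian := hHS.henselian, isSepClosure := ⟨hHS.isSepClosure.sep_closed, ?_⟩,
           universal := ?_ }
  · haveI : Algebra.IsSeparable (IsLocalRing.ResidueField H) (IsLocalRing.ResidueField S) :=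
      hHS.isSepClosure.separable
    refine Algebra.IsSeparable.of_equiv_equiv e.symm (RingEquiv.refl _) ?_
    ext x
    obtain ⟨y, rfl⟩ := e.surjective x
    simp only [RingHom.coe_comp, RingHom.coe_coe, Function.comp_apply, RingEquiv.symm_apply_apply,
      RingEquiv.refl_apply]
    exact IsScalarTower.algebraMap_apply (IsLocalRing.ResidueField R) (IsLocalRing.ResidueField H)
      (IsLocalRing.ResidueField S) y
  · intro T _ _ f hf τ hτ
    have hmemT : ∀ {r : R}, r ∈ IsLocalRing.maximalIdeal R → f r ∈ IsLocalRing.maximalIdeal T := by
      intro r hr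
      rw [IsLocalRing.mem_maximalIdeal, mem_nonunits_iff] at hr ⊢
      exact fun h => hr (isUnit_of_map_unit f r h)
    have hJT : J.map f ≤ IsLocalRing.maximalIdeal T := by
      rw [Ideal.map_le_iff_le_comap]
      intro x hx
      exact hmemT (hJ hx)
    obtain ⟨h, hh, hhuniq⟩ := hH.2 T (IsLocalRing.maximalIdeal T) f inferInstance hJT
    have hhr : ∀ r : R, h (algebraMap R H r) = f r := fun r =>
      congrArg (fun ψ : R →+* T => ψ r) hh
    have hhJ : ∀ y ∈ J.map (algebraMap R H), h y ∈ IsLocalRing.maximalIdeal T := by
      intro y hy
      have : J.map (algebraMap R H) ≤ (IsLocalRing.maximalIdeal T).comap h := by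
        rw [← Ideal.map_le_iff_le_comap, Ideal.map_map, hh]
        exact hJT
      exact this hy
    haveI hloc : IsLocalHom h := by
      constructor
      intro x hx
      by_contra hnu
      have hxm : x ∈ IsLocalRing.maximalIdeal H := by
        rw [IsLocalRing.mem_maximalIdeal, mem_nonunits_iff]; exact hnu
      obtain ⟨r, hr⟩ := key x
      have h1 : algebraMap R H r ∈ IsLocalRing.maximalIdeal H := by
        have : algebraMap R H r = x - (x - algebraMap R H r) := by ring
        rw [this]
        exact Ideal.sub_mem _ hxm (hJH hr)
      have h2 : f r ∈ IsLocalRing.maximalIdeal T := hmemT (hmemR.mpr h1)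
      have h3 : h x ∈ IsLocalRing.maximalIdeal T := by
        have : h x = h (x - algebraMap R H r) + f r := by
          rw [map_sub, hhr]; ring
        rw [this]
        exact Ideal.add_mem _ (hhJ _ hr) h2
      rw [IsLocalRing.mem_maximalIdeal, mem_nonunits_iff] at h3
      exact h3 hx
    have hτ' : τ.comp (IsLocalRing.ResidueField.map (algebraMap H S)) =
        IsLocalRing.ResidueField.map h := by
      apply RingHom.ext
      intro y
      obtain ⟨x, rfl⟩ := IsLocalRing.residue_surjective y
      obtain ⟨r, hr⟩ := hres x
      rw [hr, RingHom.comp_apply, IsLocalRing.ResidueField.map_residue,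
        IsLocalRing.ResidueField.map_residue, hhr, ← IsScalarTower.algebraMap_apply]
      have := congrArg (fun ψ : IsLocalRing.ResidueField R →+* IsLocalRing.ResidueField T =>
        ψ (IsLocalRing.residue R r)) hτ
      simp only [RingHom.comp_apply, IsLocalRing.ResidueField.map_residue] at this
      exact this
    obtain ⟨g, ⟨hg1, hg2⟩, hguniq⟩ := hHS.universal T h τ hτ'
    refine ⟨g, ⟨?_, hg2⟩, ?_⟩
    · rw [IsScalarTower.algebraMap_eq R H S, ← RingHom.comp_assoc, hg1, hh]
    · rintro g' ⟨hg'1, hg'2⟩
      apply hguniq
      refine ⟨?_, hg'2⟩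
      apply hhuniq
      rw [RingHom.comp_assoc, ← IsScalarTower.algebraMap_eq, hg'1]

end Groth.Agent.S17620
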