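import Groth.Statements.S17626
import Groth.Agent.Lib.Helper7.GrowthF

set_option autoImplicit false
universe u
open CategoryTheory CategoryTheory.Limits AlgebraicGeometry
open Variety

namespace Groth.Agent.S17626

/-- Let X be an integral scheme, proper over an algebraically closed field k of characteristic zero and
admitting an ample invertible module, of dimension n ≥ 1 (stated in the source over the complex
numbers), and L an invertible O_X-module which is big, in the sense that its volume ĥ^0(X, L) =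
limsup_m dim_k H^0(X, L^{⊗m}) · n!/m^n is positive. Then ĥ^n(X, L) = 0. (The published statement
allows n = 0, where it fails: X is then a point, every L is big and ĥ^0(X, L) = 1; the printed
argument uses that L and its inverse cannot both be big, which needs n ≥ 1.) -/
theorem result (k : Type u) [Field k] [IsAlgClosed k] [CharZero k] (X : Scheme.{u})
    [X.Over (Spec (CommRingCat.of k))] [AlgebraicGeometry.IsIntegral X]
    [IsProper (X ↘ Spec (CommRingCat.of k))] (hproj : ∃ A : X.Modules, CohB1.IsAmple A)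
    (n : ℕ) (hn : topologicalKrullDim X = n) (hn1 : 1 ≤ n)
    (L : X.Modules) (hL : PicF.IsInvertible L) (hbig : 0 < W4c5asymptcohfn.hhat k X n 0 L) :
    W4c5asymptcohfn.hhat k X n n L = 0 := by
  obtain ⟨A, hA⟩ := hproj
  obtain ⟨e, rfl⟩ : ∃ e, n = e + 1 := ⟨n - 1, by omega⟩
  have hbig' : 0 < Filter.limsup (fun m : ℕ =>
      (Module.finrank k (Coh.HH X (CohB1.tensorPow L m) 0) : ℝ) * ((e + 1).factorial : ℝ) /
        (m : ℝ) ^ (e + 1)) Filter.atTop := hbig
  have hcob : Filter.IsCoboundedUnder (· ≤ ·) Filter.atTop (fun m : ℕ =>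
      (Module.finrank k (Coh.HH X (CohB1.tensorPow L m) 0) : ℝ) * ((e + 1).factorial : ℝ) /
        (m : ℝ) ^ (e + 1)) :=
    Filter.isCoboundedUnder_le_of_le Filter.atTop (x := 0) (fun m => by positivity)
  obtain ⟨r, hr0, hr1⟩ := exists_between hbig'
  have hfreq := Filter.frequently_lt_of_lt_limsup hcob hr1
  have hfac : (0 : ℝ) < ((e + 1).factorial : ℝ) := by exact_mod_cast Nat.factorial_pos _
  have hfreq' : ∃ᶠ m : ℕ in Filter.atTop, (r / ((e + 1).factorial : ℝ)) * (m : ℝ) ^ (e + 1) <
      (Module.finrank k (Coh.HH X (CohB1.tensorPow L m) 0) : ℝ) := by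
    refine (hfreq.and_eventually (Filter.eventually_ge_atTop 1)).mono ?_
    rintro m ⟨h1, hm⟩
    have hm' : (0 : ℝ) < (m : ℝ) := by exact_mod_cast hm
    have hmpos : (0 : ℝ) < (m : ℝ) ^ (e + 1) := by positivity
    rw [lt_div_iff₀ hmpos] at h1
    rw [div_mul_eq_mul_div, div_lt_iff₀ hfac]
    exact h1
  have hbig'' := Groth.Agent.Lib.Helper7.GrowthD.hbig_of_frequently _ (e + 1)
    (r / ((e + 1).factorial : ℝ)) (by positivity) hfreq'
  obtain ⟨eA⟩ := Groth.Agent.Lib.Helper23.Inverse.tensor_dual_iso hA.1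
  obtain ⟨m₀, hm₀, hnt⟩ := Groth.Agent.Lib.Helper7.GrowthC.kodaira k X (e + 1) hn hA _
    (Groth.Agent.Lib.Helper3.InvMonoidal.braid _ _ ≪≫ eA) L hL hbig''
  obtain ⟨N, hN⟩ := Groth.Agent.Lib.Helper7.GrowthF.eventually_top_vanishing k X e hn hA _
    (Groth.Agent.Lib.Helper3.InvMonoidal.braid _ _ ≪≫ eA) L hL m₀ hm₀ hnt
  unfold W4c5asymptcohfn.hhat
  have hev : ∀ᶠ m : ℕ in Filter.atTop,
      (Module.finrank k (Coh.HH X (CohB1.tensorPow L m) (e + 1)) : ℝ) *
        ((e + 1).factorial : ℝ) / (m : ℝ) ^ (e + 1) = 0 := by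
    filter_upwards [Filter.eventually_ge_atTop N] with m hm
    rw [hN m hm]
    simp
  rw [Filter.limsup_congr hev, Filter.limsup_const]

end Groth.Agent.S17626
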