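import Mathlib
import Groth.Agent.Lib.Helper20.LCH1
import Groth.Statements.S1763
-- import your own Groth.Agent.* helpers here

set_option autoImplicit false
universe u
open LocCoh

open Groth.Agent.Lib.Helper4.LC

namespace Groth.Agent.S1763

/-- Fix a Noetherian ring A, an ideal I of A and a finitely generated A-module M. The local cohomology
module H¹_I(M) is finitely generated over A if and only if, for each associated prime p of M with I
⊄ p, the module H¹_I(A/p) is finitely generated over A. (Affine form, through finiteness of H¹_I, of
a statement about coherence of direct images along the inclusion of the open complement of V(I).) -/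
theorem result (A : Type u) [CommRing A] [IsNoetherianRing A] (I : Ideal A) (M : Type u) [AddCommGroup M] [Module A M] [Module.Finite A M] : Module.Finite A (LocCoh.H I 1 M) ↔ ∀ p : Ideal A, p ∈ associatedPrimes A M → ¬ I ≤ p → Module.Finite A (LocCoh.H I 1 (A ⧸ p)) := by
  have key : ∀ (N : Type u) [AddCommGroup N] [Module A N],
      Module.Finite A (LocCoh.H I 1 N) ↔ Groth.Agent.Lib.Helper20.LCH1.Fg1 I N := by
    intro N _ _
    constructor
    · intro h
      exact Module.Finite.equiv (lcEquiv I (ModuleCat.of A N) 1)
    · intro h
      haveI : Module.Finite A (HH I (ModuleCat.of A N) 1) := h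
      exact Module.Finite.equiv (lcEquiv I (ModuleCat.of A N) 1).symm
  constructor
  · intro h p hp _
    exact (key (A ⧸ p)).2
      (Groth.Agent.Lib.Helper20.LCH1.fg1_quotient_of_mem_associatedPrimes I M ((key M).1 h) p hp)
  · intro h
    exact (key M).2 (Groth.Agent.Lib.Helper20.LCH1.fg1_of_associatedPrimes I M
      (fun p hp hIp => (key (A ⧸ p)).1 (h p hp hIp)))

end Groth.Agent.S1763
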