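import Groth.Statements.S17635
import Mathlib

set_option autoImplicit false
open Finset
open Variety

namespace Groth.Agent.S17635

/-- Let r and n be natural numbers and f : ℚ^r → ℝ a nonnegative function which is homogeneous of degree
n for positive rational scalars, f(q · v) = q^n · f(v) for q > 0; give ℚ^r the maximum norm ‖v‖ =
max_j |v_j| of its standard basis. Suppose that for every standard basis vector e_i there is a
constant C_i with |f(v − b · e_i) − f(v)| ≤ C_i · Σ_{q=1}^{n} ‖v‖^{n−q} · b^q for all v ∈ ℚ^r and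
all integers b ≥ 1. Then there is a constant C > 0 such that |f(v) − f(w)| ≤ C · Σ_{q=1}^{n}
max(‖v‖, ‖w‖)^{n−q} · ‖v − w‖^q for all v, w ∈ ℚ^r. (The source allows any norm on an r-dimensional
rational vector space with a chosen basis and argues with the maximum norm of that basis, which is
the case stated here.) -/
theorem result (r n : ℕ) (f : (Fin r → ℚ) → ℝ)
    (hf0 : ∀ v, 0 ≤ f v)
    (hhom : ∀ (q : ℚ) (v : Fin r → ℚ), 0 < q → f (q • v) = (q : ℝ) ^ n * f v)
    (hdir : ∀ i : Fin r, ∃ Ci : ℝ, ∀ (v : Fin r → ℚ) (b : ℕ), 1 ≤ b →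
      |f (v - (b : ℚ) • Pi.single i 1) - f v| ≤
        Ci * (Finset.Icc 1 n).sum (fun q => ‖(fun j => ((v j : ℚ) : ℝ))‖ ^ (n - q) * (b : ℝ) ^ q)) :
    ∃ C : ℝ, 0 < C ∧ ∀ v w : Fin r → ℚ,
      |f v - f w| ≤ C * (Finset.Icc 1 n).sum (fun q =>
        (max ‖(fun j => ((v j : ℚ) : ℝ))‖ ‖(fun j => ((w j : ℚ) : ℝ))‖) ^ (n - q) *
          ‖(fun j => ((v j - w j : ℚ) : ℝ))‖ ^ q) := by
  classical
  choose C hC using hdir
  obtain ⟨N, hN⟩ : ∃ N : (Fin r → ℚ) → ℝ, ∀ v, N v = ‖(fun j => ((v j : ℚ) : ℝ))‖ := ⟨_, fun _ => rfl⟩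
  have N_nonneg : ∀ v, 0 ≤ N v := fun v => by rw [hN]; exact norm_nonneg _
  have N_coord : ∀ v j, |((v j : ℚ) : ℝ)| ≤ N v := by
    intro v j
    have := norm_le_pi_norm (fun j => ((v j : ℚ) : ℝ)) j
    rw [hN]; rwa [Real.norm_eq_abs] at this
  have N_le : ∀ v (M : ℝ), 0 ≤ M → (∀ j, |((v j : ℚ) : ℝ)| ≤ M) → N v ≤ M := by
    intro v M hM h
    rw [hN]
    exact (pi_norm_le_iff_of_nonneg hM).2 (fun j => by rw [Real.norm_eq_abs]; exact h j)
  have N_smul : ∀ (t : ℚ) v, 0 < t → N (t • v) = (t:ℝ) * N v := by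
    intro t v ht
    have : (fun j => (((t • v) j : ℚ) : ℝ)) = (t:ℝ) • (fun j => ((v j : ℚ) : ℝ)) := by
      funext j; simp
    rw [hN, hN, this, norm_smul, Real.norm_eq_abs, abs_of_pos (by exact_mod_cast ht)]
  -- Step 1: rational steps
  have H1 : ∀ i v (b : ℚ), 0 < b → |f (v - b • Pi.single i 1) - f v| ≤
      C i * (Finset.Icc 1 n).sum (fun q => N v ^ (n - q) * (b:ℝ) ^ q) := by
    intro i v b hb
    have hnum : 0 < b.num := Rat.num_pos.2 hb
    obtain ⟨s, hs⟩ : ∃ s : ℕ, (s : ℤ) = b.num := ⟨b.num.toNat, Int.toNat_of_nonneg hnum.le⟩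
    have hs1 : 1 ≤ s := by omega
    obtain ⟨t, ht, htpos⟩ : ∃ t : ℚ, t = (b.den : ℚ) ∧ 0 < t :=
      ⟨_, rfl, by exact_mod_cast b.den_pos⟩
    have hsb : (s : ℚ) = b * t := by
      have h1 : (b.num : ℚ) = b * b.den := (Rat.mul_den_eq_num b).symm
      have h2 : ((s : ℤ) : ℚ) = (s : ℚ) := by push_cast; rfl
      rw [← h2, hs, h1, ht]
    have key : t • (v - b • Pi.single i 1) = t • v - (s:ℚ) • Pi.single i 1 := by
      rw [smul_sub, smul_smul, hsb, mul_comm]
    have e1 := hhom t (v - b • Pi.single i 1) htpos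
    have e2 := hhom t v htpos
    have e3 := hC i (t • v) s hs1
    have htn : 0 < (t:ℝ)^n := pow_pos (by exact_mod_cast htpos) n
    rw [← key, e1, e2, ← mul_sub, abs_mul, abs_of_pos htn] at e3
    have hsum : (Finset.Icc 1 n).sum
          (fun q => ‖(fun j => (((t • v) j : ℚ) : ℝ))‖ ^ (n - q) * (s : ℝ) ^ q)
        = (t:ℝ)^n * (Finset.Icc 1 n).sum (fun q => N v ^ (n - q) * (b:ℝ) ^ q) := by
      rw [Finset.mul_sum]
      refine Finset.sum_congr rfl ?_
      intro q hq
      have hq' := (Finset.mem_Icc.1 hq).2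
      have h1 : ‖(fun j => (((t • v) j : ℚ) : ℝ))‖ = (t:ℝ) * N v := by
        rw [← hN]; exact N_smul t v htpos
      have h2 : (s:ℝ) = (b:ℝ) * (t:ℝ) := by exact_mod_cast hsb
      have h3 : (t:ℝ)^n = (t:ℝ)^(n-q) * (t:ℝ)^q := by rw [← pow_add, Nat.sub_add_cancel hq']
      rw [h1, h2, mul_pow, mul_pow, h3]; ring
    rw [hsum] at e3
    have e4 : (t:ℝ)^n * |f (v - b • Pi.single i 1) - f v| ≤
        (t:ℝ)^n * (C i * (Finset.Icc 1 n).sum (fun q => N v ^ (n - q) * (b:ℝ) ^ q)) := by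
      calc _ ≤ _ := e3
        _ = _ := by ring
    exact le_of_mul_le_mul_left e4 htn
  -- Step 2: single step with uniform bound
  have H2 : ∀ i (u : Fin r → ℚ) (d : ℚ) (M δ : ℝ), N u ≤ M → N (u - d • Pi.single i 1) ≤ M →
      |(d:ℝ)| ≤ δ → |f (u - d • Pi.single i 1) - f u| ≤
        |C i| * (Finset.Icc 1 n).sum (fun q => M ^ (n - q) * δ ^ q) := by
    intro i u d M δ hu hu' hd
    have hM : 0 ≤ M := (N_nonneg u).trans hu
    have hδ : 0 ≤ δ := (abs_nonneg _).trans hd
    have hB : 0 ≤ (Finset.Icc 1 n).sum (fun q => M ^ (n - q) * δ ^ q) :=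
      Finset.sum_nonneg (fun q _ => mul_nonneg (pow_nonneg hM _) (pow_nonneg hδ _))
    have mono : ∀ (v : Fin r → ℚ) (b : ℚ), N v ≤ M → 0 < b → (b:ℝ) ≤ δ →
        C i * (Finset.Icc 1 n).sum (fun q => N v ^ (n - q) * (b:ℝ) ^ q) ≤
          |C i| * (Finset.Icc 1 n).sum (fun q => M ^ (n - q) * δ ^ q) := by
      intro v b hv hb hbδ
      have hb0 : (0:ℝ) ≤ b := by exact_mod_cast hb.le
      have hS : 0 ≤ (Finset.Icc 1 n).sum (fun q => N v ^ (n - q) * (b:ℝ) ^ q) :=
        Finset.sum_nonneg (fun q _ => mul_nonneg (pow_nonneg (N_nonneg v) _) (pow_nonneg hb0 _))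
      have hle : (Finset.Icc 1 n).sum (fun q => N v ^ (n - q) * (b:ℝ) ^ q) ≤
          (Finset.Icc 1 n).sum (fun q => M ^ (n - q) * δ ^ q) :=
        Finset.sum_le_sum (fun q _ => mul_le_mul (pow_le_pow_left₀ (N_nonneg v) hv _)
          (pow_le_pow_left₀ hb0 hbδ _) (pow_nonneg hb0 _) (pow_nonneg hM _))
      calc C i * _ ≤ |C i| * _ := mul_le_mul_of_nonneg_right (le_abs_self _) hS
        _ ≤ |C i| * _ := mul_le_mul_of_nonneg_left hle (abs_nonneg _)
    rcases lt_trichotomy d 0 with hd0 | hd0 | hd0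
    · have hneg : 0 < -d := by linarith
      have e := H1 i (u - d • Pi.single i 1) (-d) hneg
      have hback : u - d • Pi.single i 1 - (-d) • Pi.single i 1 = u := by
        rw [neg_smul, sub_neg_eq_add, sub_add_cancel]
      rw [hback, abs_sub_comm] at e
      refine e.trans (mono _ _ hu' hneg ?_)
      have : ((-d : ℚ) : ℝ) = -(d:ℝ) := by push_cast; rfl
      rw [this]; exact (neg_le_abs _).trans hd
    · subst hd0
      simp only [zero_smul, sub_zero, sub_self, abs_zero]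
      exact mul_nonneg (abs_nonneg _) hB
    · refine (H1 i u d hd0).trans (mono _ _ hu hd0 ?_)
      exact (le_abs_self _).trans hd
  -- Step 3: the path
  refine ⟨(Finset.univ.sum fun k => |C k|) + 1, by
    have : 0 ≤ Finset.univ.sum fun k => |C k| := Finset.sum_nonneg (fun k _ => abs_nonneg _)
    linarith, ?_⟩
  intro v w
  have hNv : ‖(fun j => ((v j : ℚ) : ℝ))‖ = N v := (hN v).symm
  have hNw : ‖(fun j => ((w j : ℚ) : ℝ))‖ = N w := (hN w).symm
  have hNvw : ‖(fun j => ((v j - w j : ℚ) : ℝ))‖ = N (v - w) := (hN (v - w)).symm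
  rw [hNv, hNw, hNvw]
  obtain ⟨M, hM⟩ : ∃ M, M = max (N v) (N w) := ⟨_, rfl⟩
  obtain ⟨δ, hδ⟩ : ∃ δ, δ = N (v - w) := ⟨_, rfl⟩
  rw [← hM, ← hδ]
  have hM0 : 0 ≤ M := by rw [hM]; exact (N_nonneg v).trans (le_max_left _ _)
  have hδ0 : 0 ≤ δ := by rw [hδ]; exact N_nonneg _
  have hB : 0 ≤ (Finset.Icc 1 n).sum (fun q => M ^ (n - q) * δ ^ q) :=
    Finset.sum_nonneg (fun q _ => mul_nonneg (pow_nonneg hM0 _) (pow_nonneg hδ0 _))
  let u : Finset (Fin r) → (Fin r → ℚ) := fun S j => if j ∈ S then v j else w j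
  have hu_le : ∀ S, N (u S) ≤ M := by
    intro S
    refine N_le _ _ hM0 (fun j => ?_)
    show |(((if j ∈ S then v j else w j : ℚ)) : ℝ)| ≤ M
    split_ifs
    · exact (N_coord v j).trans (by rw [hM]; exact le_max_left _ _)
    · exact (N_coord w j).trans (by rw [hM]; exact le_max_right _ _)
  have hstep : ∀ (S : Finset (Fin r)) (k : Fin r), k ∉ S →
      u (insert k S) = u S - (w k - v k) • Pi.single k 1 := by
    intro S k hk
    funext j
    by_cases hjk : j = k
    · subst hjk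
      simp [u, hk]
    · simp [u, hjk, Pi.single_eq_of_ne hjk]
  have claim : ∀ S : Finset (Fin r), |f (u S) - f w| ≤
      (S.sum fun k => |C k|) * (Finset.Icc 1 n).sum (fun q => M ^ (n - q) * δ ^ q) := by
    intro S
    induction S using Finset.induction_on with
    | empty =>
      have : u ∅ = w := by funext j; simp [u]
      rw [this]; simp
    | insert k S hk ih =>
      have hd : |((w k - v k : ℚ) : ℝ)| ≤ δ := by
        have := N_coord (v - w) k
        rw [hδ]
        have e : ((w k - v k : ℚ) : ℝ) = -(((v - w) k : ℚ) : ℝ) := by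
          simp
        rw [e, abs_neg]; exact this
      have h2 := H2 k (u S) (w k - v k) M δ (hu_le S)
        (by rw [← hstep S k hk]; exact hu_le _) hd
      rw [← hstep S k hk] at h2
      rw [Finset.sum_insert hk, add_mul]
      calc |f (u (insert k S)) - f w|
          = |(f (u (insert k S)) - f (u S)) + (f (u S) - f w)| := by ring_nf
        _ ≤ |f (u (insert k S)) - f (u S)| + |f (u S) - f w| := abs_add_le _ _
        _ ≤ _ := add_le_add h2 ih
  have huniv : u Finset.univ = v := by funext j; simp [u]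
  have := claim Finset.univ
  rw [huniv] at this
  refine this.trans ?_
  have : (Finset.univ.sum fun k => |C k|) ≤ (Finset.univ.sum fun k => |C k|) + 1 := by linarith
  exact mul_le_mul_of_nonneg_right this hB

end Groth.Agent.S17635
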