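import Groth.Statements.S17649
import Groth.Agent.Lib.Helper3.QCPush
import Groth.Agent.Lib.Helper3.QCLim

set_option autoImplicit false
universe u
open CategoryTheory CategoryTheory.Limits AlgebraicGeometry
open QCohCat

namespace Groth.Agent.S17649

open TopologicalSpace Opposite
open Groth.Agent.Lib.Helper3 Scheme.Modules

theorem subsingleton_of_isZero_restrict {X : Scheme.{u}} {F : X.Modules} {Y : X.Opens}
    (h : IsZero ((Scheme.Modules.restrictFunctor Y.ι).obj F)) {Z : X.Opens} (hZ : Z ≤ Y) :
    Subsingleton Γ(F, Z) := by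
  have h1 : Subsingleton Γ(F, Y.ι ''ᵁ (Y.ι ⁻¹ᵁ Z)) :=
    ModBasic.subsingleton_of_isZero h (Y.ι ⁻¹ᵁ Z)
  have e : Y.ι ''ᵁ (Y.ι ⁻¹ᵁ Z) = Z := by
    rw [Scheme.Hom.image_preimage_eq_opensRange_inf, Scheme.Opens.opensRange_ι]
    exact inf_eq_right.mpr hZ
  rwa [e] at h1

/-- Suppose the scheme X is quasi-compact and quasi-separated, and take two quasi-compact opens U, V ⊆
X. Given a quasi-compact open W, denote by S_W the class of quasi-coherent O_X-modules that restrict
to zero on W. Then S_{U ∩ V} is the smallest localizing subcategory of Qcoh(X) that contains both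
S_U and S_V; concretely (this is the inclusion that is not formal): any quasi-coherent O_X-module F
satisfying F|_{U ∩ V} = 0 arises as an extension of a quasi-coherent module that is zero on V by a
quasi-coherent submodule that is zero on U — one can find a monomorphism A ⟶ F where A is
quasi-coherent, A|_U = 0 and (F/A)|_V = 0. -/
theorem result {X : Scheme.{u}}
    [CompactSpace X] [QuasiSeparatedSpace X] (U V : X.Opens) [QuasiCompact U.ι] [QuasiCompact V.ι]
    (F : X.Modules) (hF : Coh.IsQCoh F) (h : IsZero ((Scheme.Modules.restrictFunctor (U ⊓ V).ι).obj F)) :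
    ∃ (A : X.Modules) (i : A ⟶ F), Mono i ∧ Coh.IsQCoh A ∧
      IsZero ((Scheme.Modules.restrictFunctor U.ι).obj A) ∧
      IsZero ((Scheme.Modules.restrictFunctor V.ι).obj (cokernel i)) := by
  haveI : F.IsQuasicoherent := hF
  let adj := Scheme.Modules.restrictAdjunction U.ι
  let η : F ⟶ (Scheme.Modules.pushforward U.ι).obj (F.restrict U.ι) := adj.unit.app F
  haveI hFr : (F.restrict U.ι).IsQuasicoherent :=
    Scheme.Modules.isQuasicoherent_restrictFunctor U.ι F
  haveI hP : ((Scheme.Modules.pushforward U.ι).obj (F.restrict U.ι)).IsQuasicoherent :=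
    QCSec.isQuasicoherent_pushforward U.ι (F.restrict U.ι)
  have hA : (kernel η : X.Modules).IsQuasicoherent := QCProps.isQuasicoherent_kernel η
  refine ⟨kernel η, kernel.ι η, inferInstance, hA, ?_, ?_⟩
  · -- A|U = 0
    have htri : (restrictFunctor U.ι).map η ≫
        adj.counit.app ((restrictFunctor U.ι).obj F) = 𝟙 _ := adj.left_triangle_components F
    haveI hcou : IsIso (adj.counit.app ((restrictFunctor U.ι).obj F)) := inferInstance
    have hb : IsIso ((restrictFunctor U.ι).map η) := by
      haveI : IsIso ((restrictFunctor U.ι).map η ≫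
          adj.counit.app ((restrictFunctor U.ι).obj F)) := by
        rw [htri]; infer_instance
      exact IsIso.of_isIso_comp_right _ (adj.counit.app ((restrictFunctor U.ι).obj F))
    haveI : Mono ((restrictFunctor U.ι).map η) := @IsIso.mono_of_iso _ _ _ _ _ hb
    have hz : IsZero (kernel ((restrictFunctor U.ι).map η)) := isZero_kernel_of_mono _
    exact hz.of_iso (PreservesKernel.iso (restrictFunctor U.ι) η)
  · -- (F/A)|V = 0
    have hPV : IsZero ((restrictFunctor V.ι).obj
        ((Scheme.Modules.pushforward U.ι).obj (F.restrict U.ι))) := by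
      apply ModBasic.isZero_of_subsingleton
      intro W
      show Subsingleton Γ(F, U.ι ''ᵁ (U.ι ⁻¹ᵁ (V.ι ''ᵁ W)))
      apply subsingleton_of_isZero_restrict h
      rw [Scheme.Hom.image_preimage_eq_opensRange_inf, Scheme.Opens.opensRange_ι]
      exact inf_le_inf_left U (V.ι_image_le W)
    haveI : Mono (Abelian.factorThruCoimage η) := inferInstance
    haveI hm : Mono ((restrictFunctor V.ι).map (Abelian.factorThruCoimage η)) :=
      QCProps.mono_restrict_map V.ι (Abelian.factorThruCoimage η)
    exact IsZero.of_mono ((restrictFunctor V.ι).map (Abelian.factorThruCoimage η)) hPV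

end Groth.Agent.S17649
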