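import Mathlib
import Groth.Agent.Lib.Helper20.FaltMainB
import Groth.Statements.S1765
-- import your own Groth.Agent.* helpers here

set_option autoImplicit false
universe u
open CategoryTheory
attribute [local instance] HasDerivedCategory.standard
open LocCoh

namespace Groth.Agent.S1765

/-- Let A be a Noetherian ring with a dualizing complex, I an ideal, M a finite A-module, p a prime not
containing I and s ≥ 0. Suppose that for all primes p' ⊆ p and all primes q ⊇ I with p' ⊆ q,
depth(M_{p'}) plus the Krull dimension of the interval of primes [p', q] exceeds s. Then there is f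
∉ p annihilating H^i_I(M) for all i ≤ s. -/
theorem result (A : Type u) [CommRing A] [IsNoetherianRing A] (hA : ∃ ω : Dual.D A, Dual.IsDualizing A ω) (I : Ideal A) (M : Type u) [AddCommGroup M] [Module A M] [Module.Finite A M] (p : PrimeSpectrum A) (hp : ¬ I ≤ p.asIdeal) (s : ℕ) (h : ∀ p' q : PrimeSpectrum A, p' ≤ p → I ≤ q.asIdeal → p' ≤ q → (s : WithBot ℕ∞) < ((LocCoh.depth (Localization.AtPrime p'.asIdeal) (LocalizedModule p'.asIdeal.primeCompl M) : ℕ∞) : WithBot ℕ∞) + Order.krullDim (Set.Icc p' q)) : ∃ f : A, f ∉ p.asIdeal ∧ ∀ i : ℕ, i ≤ s → ∀ x : LocCoh.H I i M, f • x = 0 := by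
  obtain ⟨ω, hω⟩ := hA
  have hT : StableUnderSpecialization (PrimeSpectrum.zeroLocus (I : Set A)) :=
    (PrimeSpectrum.isClosed_zeroLocus _).stableUnderSpecialization
  have hT' : StableUnderSpecialization {r : PrimeSpectrum A | ¬ r ≤ p} := by
    intro r r' hrr' hr hr'p
    exact hr (((PrimeSpectrum.le_iff_specializes r r').2 hrr').trans hr'p)
  obtain ⟨J, hJ, hkill⟩ := Groth.Agent.Lib.Helper20.FaltLoc.kills_of_depth ω hω
    (PrimeSpectrum.zeroLocus (I : Set A)) {r : PrimeSpectrum A | ¬ r ≤ p} hT hT' s M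
    (fun p' q hp' hq hp'q => by
      have h1 : p' ≤ p := not_not.1 hp'
      have h2 : I ≤ q.asIdeal := by
        rw [PrimeSpectrum.mem_zeroLocus, SetLike.coe_subset_coe] at hq
        exact hq
      exact h p' q h1 h2 hp'q)
  have hJp : ¬ J ≤ p.asIdeal := by
    intro hle
    have hmem : p ∈ PrimeSpectrum.zeroLocus (J : Set A) := by
      rw [PrimeSpectrum.mem_zeroLocus, SetLike.coe_subset_coe]
      exact hle
    exact hJ hmem le_rfl
  obtain ⟨f, hfJ, hfp⟩ := SetLike.not_le_iff_exists.1 hJp
  refine ⟨f, hfp, fun i hi x => ?_⟩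
  have h3 := (Groth.Agent.Lib.Helper20.Falt.kills_HH_iff I (PrimeSpectrum.zeroLocus (I : Set A))
    subset_rfl (ModuleCat.of A M) i subset_rfl f).2 (hkill i hi f hfJ)
  apply (Groth.Agent.Lib.Helper4.LC.lcEquiv I (ModuleCat.of A M) i).injective
  rw [map_smul, map_zero]
  exact h3 _

end Groth.Agent.S1765
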