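import Groth.Statements.S17651
import Groth.Agent.Lib.Helper7.GGNodal

set_option autoImplicit false
universe u
open CategoryTheory CategoryTheory.Limits AlgebraicGeometry TopologicalSpace
open Curves

namespace Groth.Agent.S17651

/-- Let k be an algebraically closed field and B a connected scheme, proper over k, of dimension one,
with at-worst-nodal singularities and with H^1(B, O_B) = 0. Let E be a finite locally free
O_B-module generated by its global sections and p a closed point of B, with I_p the ideal sheaf of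
functions vanishing at p. Then H^1(B, E ⊗ I_p) = 0; since E is locally free, E ⊗ I_p is the
submodule I_p E of sections vanishing at p. (The source works over the complex numbers; the
statement and its proof are unchanged over any algebraically closed field.) -/
theorem result (k : Type u) [Field k] [IsAlgClosed k]
    (B : Scheme.{u}) [B.Over (Spec (CommRingCat.of k))] [IsProper (B ↘ Spec (CommRingCat.of k))]
    [ConnectedSpace ↥B] (hdim : topologicalKrullDim ↥B = 1) (hnod : Curv2.AtWorstNodal k B)
    (hg : Subsingleton (Coh.HH B (Coh.structureModule B) 1))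
    (E : B.Modules) (hE : FlatMod.IsFinLocFree E) (hgg : Curv2.IsGloballyGenerated E)
    (p : ↥B) (hp : IsClosed ({p} : Set ↥B)) :
    Subsingleton (Coh.HH B (CohB1.tensorMod E
      (ClSub.idealMod (Scheme.IdealSheafData.vanishingIdeal (⟨{p}, hp⟩ : Closeds ↥B)))) 1) := by
  have hEcoh : Coh.IsCoh E := Groth.Agent.Lib.Helper13.StalkPd.coh_of_lf hE
  obtain ⟨N, s, hs⟩ := Groth.Agent.Lib.Helper7.GGNodal.exists_finite_epi k hEcoh hgg
  haveI := hs
  set I := ClSub.idealMod (Scheme.IdealSheafData.vanishingIdeal (⟨{p}, hp⟩ : Closeds ↥B)) with hI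
  have hIcoh : Coh.IsCoh I := Groth.Agent.Lib.Helper7.PtDiv.isCoh_idealMod' k _
  haveI := hIcoh.1
  haveI := hEcoh.1
  haveI hOq : (∐ fun _ : Fin N => Coh.structureModule B).IsQuasicoherent :=
    (Groth.Agent.Lib.Helper23.Dev.isCoh_freeMod (X := B) N).1
  have hI1 : Subsingleton (Coh.HH B I 1) :=
    Groth.Agent.Lib.Helper7.GGNodal.h1_idealMod_point k p hp hg
  have hOI : Subsingleton (Coh.HH B ((Groth.Agent.Lib.Helper7.TwFun.twR I).obj (Coh.structureModule B)) 1) :=
    (Groth.Agent.Lib.Helper23.T2.HmapEquiv (Groth.Agent.Lib.Helper3.InvMonoidal.unitorL I) 1).toEquiv.subsingleton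
  have hF := Groth.Agent.Lib.Helper7.GGNodal.subsingleton_HH_copower
    (Groth.Agent.Lib.Helper7.TwFun.twR I) N 1 hOI
  haveI : Epi ((Groth.Agent.Lib.Helper7.TwFun.twR I).map s) :=
    Groth.Agent.Lib.Helper7.GGNodal.epi_twR I s
  have hq1 : ((Groth.Agent.Lib.Helper7.TwFun.twR I).obj
      (∐ fun _ : Fin N => Coh.structureModule B)).IsQuasicoherent :=
    Groth.Agent.Lib.Helper17.TensorSec.isQuasicoherent_tensorMod _ I
  have hq2 : ((Groth.Agent.Lib.Helper7.TwFun.twR I).obj E).IsQuasicoherent :=
    Groth.Agent.Lib.Helper17.TensorSec.isQuasicoherent_tensorMod E I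
  have hfin := Groth.Agent.Lib.Helper7.GGNodal.h1_zero_of_epi k hdim.le hq1 hq2
    ((Groth.Agent.Lib.Helper7.TwFun.twR I).map s) hF
  exact hfin

end Groth.Agent.S17651
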