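import Groth.Statements.S17657
import Groth.Agent.Lib.Helper7.DefAmple

set_option autoImplicit false
universe u
open CategoryTheory CategoryTheory.Limits AlgebraicGeometry TopologicalSpace
attribute [local instance] HasDerivedCategory.standard
open Curves

namespace Groth.Agent.S17657

/-- Let k be an algebraically closed field and B a connected scheme, proper over k, of dimension one,
with at-worst-nodal singularities and H^1(B, O_B) = 0, and let ω_B be its dualizing module over k
(the cohomology sheaf in degree −1 of the upper-shriek pull-back of O_{Spec k}; the existence of the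
upper-shriek functor is assumed). Call a finite locally free O_B-module deformation ample when it is
generated by global sections and H^1(B, E ⊗ ω_B) = 0. If E is a deformation ample finite locally
free O_B-module then every tensor power E^{⊗ n} with n ≥ 1 is deformation ample. (The source states
this for a family of prestable genus-zero curves over an arbitrary base T, with relative global
generation and R^1 of the direct image in place of global generation and H^1; this is the case T =
Spec k of a field base, the general case needing relative duality not available here. The source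
also assumes the sheaves nonzero (positive rank), which the conclusion does not need.) -/
theorem result (k : Type u) [Field k] [IsAlgClosed k]
    (B : Scheme.{u}) [B.Over (Spec (CommRingCat.of k))] [IsProper (B ↘ Spec (CommRingCat.of k))]
    [ConnectedSpace ↥B] (hdim : topologicalKrullDim ↥B = 1) (hnod : Curv2.AtWorstNodal k B)
    (hg : Subsingleton (Coh.HH B (Coh.structureModule B) 1))
    [DCoh.HasRpush (B ↘ Spec (CommRingCat.of k))] (h : DCoh.RpushPreservesQCoh (B ↘ Spec (CommRingCat.of k))) [DCoh.HasShriek (B ↘ Spec (CommRingCat.of k)) h]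
    (OY : DCoh.DQCoh (Spec (CommRingCat.of k))) (hOY : Nonempty (OY.obj ≅ DCoh.inD (Spec (CommRingCat.of k)) (Coh.structureModule (Spec (CommRingCat.of k)))))
    (E : B.Modules) (hE : FlatMod.IsFinLocFree E) (h₁ : (Curv2.IsGloballyGenerated E ∧ Subsingleton (Coh.HH B (CohB1.tensorMod E (DCoh.dualizingMod (B ↘ Spec (CommRingCat.of k)) h OY 1)) 1))) (n : ℕ) (hn : 1 ≤ n) :
    (Curv2.IsGloballyGenerated (CohB1.tensorPow E n) ∧ Subsingleton (Coh.HH B (CohB1.tensorMod (CohB1.tensorPow E n) (DCoh.dualizingMod (B ↘ Spec (CommRingCat.of k)) h OY 1)) 1)) := by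
  obtain ⟨hgg, hH1⟩ := h₁
  have hωq : (DCoh.dualizingMod (B ↘ Spec (CommRingCat.of k)) h OY 1).IsQuasicoherent :=
    ((DCoh.shriek (B ↘ Spec (CommRingCat.of k)) h).obj OY).property (-((1 : ℕ) : ℤ))
  generalize DCoh.dualizingMod (B ↘ Spec (CommRingCat.of k)) h OY 1 = ω at hH1 hωq ⊢
  have hEcoh : Coh.IsCoh E := Groth.Agent.Lib.Helper13.StalkPd.coh_of_lf hE
  haveI := Groth.Agent.Lib.Helper23.Curve.isNoetherian_of_isProper k B
  have key : ∀ m : ℕ, Coh.IsCoh (CohB1.tensorPow E m) ∧
      Curv2.IsGloballyGenerated (CohB1.tensorPow E m) := by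
    intro m
    induction m with
    | zero =>
      exact ⟨Groth.Agent.Lib.Helper23.T2.isCoh_structureModule B,
        Groth.Agent.Lib.Helper7.DefAmple.isGloballyGenerated_structureModule⟩
    | succ m ih =>
      exact ⟨Groth.Agent.Lib.Helper23.EffCart.isCoh_tensor B ih.1 hEcoh,
        Groth.Agent.Lib.Helper7.DefAmple.isGloballyGenerated_tensorMod k ih.1 ih.2 hgg⟩
  obtain ⟨m, rfl⟩ : ∃ m, n = m + 1 := ⟨n - 1, by omega⟩
  refine ⟨(key (m + 1)).2, ?_⟩
  obtain ⟨N, s, hs⟩ := Groth.Agent.Lib.Helper7.GGNodal.exists_finite_epi k (key m).1 (key m).2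
  haveI := hs
  haveI := hωq
  haveI := hEcoh.1
  haveI := (key m).1.1
  haveI hOq : (∐ fun _ : Fin N => Coh.structureModule B).IsQuasicoherent :=
    (Groth.Agent.Lib.Helper23.Dev.isCoh_freeMod (X := B) N).1
  let T := Groth.Agent.Lib.Helper7.TwFun.twR E ⋙ Groth.Agent.Lib.Helper7.TwFun.twR ω
  have hOE : Subsingleton (Coh.HH B (T.obj (Coh.structureModule B)) 1) :=
    @Equiv.subsingleton _ _ (Groth.Agent.Lib.Helper23.T2.HmapEquiv
      ((Groth.Agent.Lib.Helper7.TwFun.twR ω).mapIso
        (Groth.Agent.Lib.Helper3.InvMonoidal.unitorL E)) 1).toEquiv hH1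
  have hF := Groth.Agent.Lib.Helper7.GGNodal.subsingleton_HH_copower T N 1 hOE
  haveI h1e : Epi ((Groth.Agent.Lib.Helper7.TwFun.twR E).map s) :=
    Groth.Agent.Lib.Helper7.GGNodal.epi_twR E s
  have h2e : Epi (T.map s) :=
    Groth.Agent.Lib.Helper7.GGNodal.epi_twR ω ((Groth.Agent.Lib.Helper7.TwFun.twR E).map s)
  haveI := h2e
  haveI hq0 : (CohB1.tensorMod (∐ fun _ : Fin N => Coh.structureModule B) E).IsQuasicoherent :=
    Groth.Agent.Lib.Helper17.TensorSec.isQuasicoherent_tensorMod _ E
  haveI hq0' : (CohB1.tensorMod (CohB1.tensorPow E m) E).IsQuasicoherent :=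
    Groth.Agent.Lib.Helper17.TensorSec.isQuasicoherent_tensorMod _ E
  have hq1 : (T.obj (∐ fun _ : Fin N => Coh.structureModule B)).IsQuasicoherent :=
    Groth.Agent.Lib.Helper17.TensorSec.isQuasicoherent_tensorMod
      (CohB1.tensorMod (∐ fun _ : Fin N => Coh.structureModule B) E) ω
  have hq2 : (T.obj (CohB1.tensorPow E m)).IsQuasicoherent :=
    Groth.Agent.Lib.Helper17.TensorSec.isQuasicoherent_tensorMod
      (CohB1.tensorMod (CohB1.tensorPow E m) E) ω
  have hfin := Groth.Agent.Lib.Helper7.GGNodal.h1_zero_of_epi k hdim.le hq1 hq2 (T.map s) hF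
  exact hfin

end Groth.Agent.S17657
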