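import Groth.Statements.S17658
-- import your own Groth.Agent.* helpers here

set_option autoImplicit false
universe u
open Surf

namespace Groth.Agent.S17658

open MvPolynomial in
/-- If every monomial of `S` is the leading monomial of a nonzero element of `T ≤ restrictSupport S`,
then `T` is all of `restrictSupport S`. -/
lemma restrictSupport_le_of_degree {σ : Type*} {k : Type*} [Field k] (mo : MonomialOrder σ)
    (S : Set (σ →₀ ℕ)) (T : Submodule k (MvPolynomial σ k))
    (hT : T ≤ restrictSupport k S)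
    (h : ∀ e ∈ S, ∃ t ∈ T, t ≠ 0 ∧ mo.degree t = e) :
    restrictSupport k S ≤ T := by
  suffices H : ∀ d, ∀ f : MvPolynomial σ k, mo.toSyn (mo.degree f) = d →
      f ∈ restrictSupport k S → f ∈ T from fun f hf => H _ f rfl hf
  intro d
  induction d using WellFoundedLT.induction with
  | ind d ih =>
  intro f hd hf
  by_cases hf0 : f = 0
  · rw [hf0]; exact T.zero_mem
  have he : mo.degree f ∈ S := hf (by exact_mod_cast mo.degree_mem_support hf0)
  obtain ⟨t, htT, ht0, htd⟩ := h _ he
  have hsP : mo.sPolynomial f t = mo.leadingCoeff t • f - mo.leadingCoeff f • t := by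
    unfold MonomialOrder.sPolynomial
    rw [htd, tsub_self]
    simp [MvPolynomial.smul_eq_C_mul]
  have hlt0 : mo.leadingCoeff t ≠ 0 := mo.leadingCoeff_ne_zero_iff.mpr ht0
  have hsT : mo.sPolynomial f t ∈ T := by
    by_cases hs : mo.sPolynomial f t = 0
    · rw [hs]; exact T.zero_mem
    · have hlt := mo.sPolynomial_lt_of_degree_ne_zero_of_degree_eq htd.symm hs
      refine ih _ (hd ▸ hlt) _ rfl ?_
      rw [hsP]
      exact Submodule.sub_mem _ (Submodule.smul_mem _ _ hf) (Submodule.smul_mem _ _ (hT htT))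
  have : f = (mo.leadingCoeff t)⁻¹ • (mo.sPolynomial f t + mo.leadingCoeff f • t) := by
    rw [hsP, sub_add_cancel, smul_smul, inv_mul_cancel₀ hlt0, one_smul]
  rw [this]
  exact Submodule.smul_mem _ _ (Submodule.add_mem _ hsT (Submodule.smul_mem _ _ htT))

/-- The index sets of the bigraded pieces. -/
def bd (a b : ℕ) : Set (Fin 4 →₀ ℕ) := {e | e 2 + e 3 = a ∧ e 0 + e 1 = b + e 2}

lemma span_eq (k : Type*) [Field k] (a b : ℕ) :
    Submodule.span k {f : MvPolynomial (Fin 4) k | ∃ e : Fin 4 →₀ ℕ, e 2 + e 3 = a ∧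
      e 0 + e 1 = b + e 2 ∧ f = MvPolynomial.monomial e 1} =
    MvPolynomial.restrictSupport k (bd a b) := by
  rw [MvPolynomial.restrictSupport_eq_span]
  congr 1
  ext f
  simp only [Set.mem_setOf_eq, Set.mem_image, bd]
  constructor
  · rintro ⟨e, h1, h2, rfl⟩; exact ⟨e, ⟨h1, h2⟩, rfl⟩
  · rintro ⟨e, ⟨h1, h2⟩, rfl⟩; exact ⟨e, h1, h2, rfl⟩

open Pointwise in
lemma bd_add_subset (a b c : ℕ) : bd a b + bd 0 c ⊆ bd a (b + c) := by
  rintro _ ⟨e, ⟨h1, h2⟩, e', ⟨h1', h2'⟩, rfl⟩
  simp only [bd, Set.mem_setOf_eq, Finsupp.add_apply]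
  constructor <;> omega

/-- In the polynomial ring k[T₀,T₁,U,V] over a field k, bigraded by deg T₀ = deg T₁ = (0,1), deg U =
(1,−1), deg V = (1,0) (the Cox ring of the Hirzebruch surface F₁; its piece of bidegree (a,b) is the
space of sections of O(a(E+F)+bF)), let S_(a,b) denote the k-span of the monomials of bidegree
(a,b), so that S_(0,c) is the space of forms of degree c in T₀, T₁. A subspace W ⊆ S_(a,b) is called
c-generating when W·S_(0,c) = S_(a,b+c). Fix a monomial order and natural numbers a, b, c, and let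
W₀(a,b,c) be the set of monomials U^i V^(a−i) T₀^(b+i−j(c+1)) T₁^(j(c+1)) with 0 ≤ i ≤ a, j ≥ 0 and
j(c+1) < b+i, together with the monomials U^i V^(a−i) T₁^(b+i) with 0 ≤ i ≤ a. If every monomial of
W₀(a,b,c) is the leading monomial of some nonzero element of W, then W is c-generating. (The source
fixes the graded lexicographic order with U > V > T₀ > T₁ and works over the complex numbers; its
argument uses only that leading monomials are multiplicative and that W₀(a,b,c)·S_(0,c) contains
every monomial of S_(a,b+c), so any monomial order and any field are allowed here. The printed index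
j runs from 1; with that range the statement fails already for a = 0, b = c = 1 and W spanned by T₁,
and the range from 0 used here is the one matching the accompanying dimension count.) Variables are
indexed T₀ = 0, T₁ = 1, U = 2, V = 3. -/
theorem result (k : Type u) [Field k]
    (mo : MonomialOrder (Fin 4)) (a b c : ℕ) (W : Submodule k (MvPolynomial (Fin 4) k))
    (hW : W ≤ Submodule.span k {f : MvPolynomial (Fin 4) k | ∃ e : Fin 4 →₀ ℕ, e 2 + e 3 = a ∧ e 0 + e 1 = b + e 2 ∧ f = MvPolynomial.monomial e 1})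
    (h₁ : ∀ i j : ℕ, i ≤ a → j * (c + 1) < b + i → ∃ w ∈ W, w ≠ 0 ∧
      mo.degree w = Finsupp.single 0 (b + i - j * (c + 1)) + Finsupp.single 1 (j * (c + 1)) +
        Finsupp.single 2 i + Finsupp.single 3 (a - i))
    (h₂ : ∀ i : ℕ, i ≤ a → ∃ w ∈ W, w ≠ 0 ∧
      mo.degree w = Finsupp.single 1 (b + i) + Finsupp.single 2 i + Finsupp.single 3 (a - i)) :
    W * Submodule.span k {f : MvPolynomial (Fin 4) k | ∃ e : Fin 4 →₀ ℕ, e 2 + e 3 = 0 ∧ e 0 + e 1 = c + e 2 ∧ f = MvPolynomial.monomial e 1} =
      Submodule.span k {f : MvPolynomial (Fin 4) k | ∃ e : Fin 4 →₀ ℕ, e 2 + e 3 = a ∧ e 0 + e 1 = (b + c) + e 2 ∧ f = MvPolynomial.monomial e 1} := by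
  classical
  rw [span_eq, span_eq] at *
  have hle : W * MvPolynomial.restrictSupport k (bd 0 c) ≤
      MvPolynomial.restrictSupport k (bd a (b + c)) := by
    refine (mul_le_mul' hW le_rfl).trans ?_
    rw [← MvPolynomial.restrictSupport_add]
    exact MvPolynomial.restrictSupport_mono k (bd_add_subset a b c)
  refine le_antisymm hle (restrictSupport_le_of_degree mo _ _ hle ?_)
  rintro e ⟨he1, he2⟩
  -- e 2 = i, e 3 = a - i, e 0 = p, e 1 = q
  have hi : e 2 ≤ a := by omega
  set q := e 1 with hq
  set j := q / (c + 1) with hj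
  set ρ := q % (c + 1) with hρ
  have hdiv : (c + 1) * j + ρ = q := Nat.div_add_mod q (c + 1)
  have hρlt : ρ < c + 1 := Nat.mod_lt _ (Nat.succ_pos c)
  have hcomm : (c + 1) * j = j * (c + 1) := mul_comm _ _
  by_cases hcase : j * (c + 1) < b + e 2
  · obtain ⟨w, hwW, hw0, hwd⟩ := h₁ (e 2) j hi hcase
    set m' : Fin 4 →₀ ℕ := Finsupp.single 0 (c - ρ) + Finsupp.single 1 ρ with hm'
    have hm0 : (MvPolynomial.monomial m' (1 : k)) ≠ 0 := by
      simp
    refine ⟨w * MvPolynomial.monomial m' 1, Submodule.mul_mem_mul hwW ?_, mul_ne_zero hw0 hm0, ?_⟩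
    · rw [MvPolynomial.monomial_mem_restrictSupport]
      left
      simp only [bd, Set.mem_setOf_eq, hm', Finsupp.add_apply, Finsupp.single_apply]
      simp
      omega
    · rw [mo.degree_mul hw0 hm0, hwd, mo.degree_monomial, if_neg one_ne_zero]
      generalize j * (c + 1) = J at *
      ext x
      fin_cases x <;> simp [hm', Finsupp.single_apply] <;> omega
  · obtain ⟨w, hwW, hw0, hwd⟩ := h₂ (e 2) hi
    set m' : Fin 4 →₀ ℕ := Finsupp.single 0 (e 0) + Finsupp.single 1 (q - (b + e 2)) with hm'
    have hm0 : (MvPolynomial.monomial m' (1 : k)) ≠ 0 := by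
      simp
    refine ⟨w * MvPolynomial.monomial m' 1, Submodule.mul_mem_mul hwW ?_, mul_ne_zero hw0 hm0, ?_⟩
    · rw [MvPolynomial.monomial_mem_restrictSupport]
      left
      simp only [bd, Set.mem_setOf_eq, hm', Finsupp.add_apply, Finsupp.single_apply]
      simp
      generalize j * (c + 1) = J at *
      omega
    · rw [mo.degree_mul hw0 hm0, hwd, mo.degree_monomial, if_neg one_ne_zero]
      generalize j * (c + 1) = J at *
      ext x
      fin_cases x <;> simp [hm', Finsupp.single_apply] <;> omega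

end Groth.Agent.S17658
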