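-- Statement S17661.
import Groth.Statements.S17661
import Mathlib
import Groth.Agent.Lib.Helper1.LiftSmooth

set_option autoImplicit false
universe u
open CategoryTheory CategoryTheory.Limits AlgebraicGeometry
open Ribbon

namespace Groth.Agent.S17661

/-- Let k be a field, C a scheme locally of finite type over k and I ⊂ O_C a quasi-coherent ideal with
I² = 0, with closed subscheme D ⊂ C; suppose D is affine, connected and smooth over k and that I,
regarded as an O_D-module, is invertible (so C is a ribbon on the smooth affine scheme D, and D is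
the reduced scheme underlying C). Then the ribbon is split: the inclusion D → C admits a retraction
C → D over k. -/
theorem result (k : Type u) [Field k] (C : Scheme.{u}) [C.Over (Spec (CommRingCat.of k))]
    [LocallyOfFiniteType (C ↘ (Spec (CommRingCat.of k)))]
    (I : C.IdealSheafData) (hI : I ^ 2 = ⊥) [IsAffine I.subscheme] [ConnectedSpace I.subscheme]
    [Smooth (I.subschemeι ≫ (C ↘ (Spec (CommRingCat.of k))))]
    (hconormal : PicF.IsInvertible ((Scheme.Modules.pullback I.subschemeι).obj (ClSub.idealMod I))) :
    ∃ r : C ⟶ I.subscheme, I.subschemeι ≫ r = 𝟙 I.subscheme ∧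
      r ≫ I.subschemeι ≫ (C ↘ (Spec (CommRingCat.of k))) = C ↘ (Spec (CommRingCat.of k)) := by
  have hker : I.subschemeι.ker * I.subschemeι.ker = ⊥ := by
    rw [Scheme.IdealSheafData.ker_subschemeι, ← pow_two, hI]
  have hsupp : I.support = ⊤ := by
    rw [← Scheme.IdealSheafData.support_pow _ 2 two_ne_zero, hI,
      Scheme.IdealSheafData.support_bot]
  have hsurj : Function.Surjective I.subschemeι := by
    rw [← Set.range_eq_univ, Scheme.IdealSheafData.range_subschemeι, hsupp]
    rfl
  have hi : MoreMor.IsFirstOrderThickening I.subschemeι := ⟨⟨inferInstance, ⟨hsurj⟩⟩, hker⟩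
  obtain ⟨r, hr₁, hr₂⟩ := Groth.Agent.Lib.Helper1.LiftSmooth.exists_lift_of_smooth
    (I.subschemeι ≫ (C ↘ (Spec (CommRingCat.of k)))) I.subschemeι hi
    (C ↘ (Spec (CommRingCat.of k))) (𝟙 I.subscheme) (Category.id_comp _)
  exact ⟨r, hr₂, hr₁⟩

end Groth.Agent.S17661
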