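import Groth.Statements.S17662
import Groth.Agent.Lib.Helper27.CauchyBinet

set_option autoImplicit false
universe u
open CIDisc

namespace Groth.Agent.S17662

open Finset Matrix in
/-- Sum over strictly monotone maps `Fin e → ι` equals the sum over `e`-subsets. -/
lemma sum_strictMono_eq {ι : Type*} [Fintype ι] [LinearOrder ι] {N : Type*} [AddCommMonoid N]
    (e : ℕ) (f : (Fin e → ι) → N) :
    ∑ s ∈ univ.filter (fun s : Fin e → ι => StrictMono s), f s =
      ∑ L : {s : Finset ι // s.card = e}, f (L.1.orderEmbOfFin L.2) := by
  classical
  symm
  refine Finset.sum_bij (fun L _ => (L.1.orderEmbOfFin L.2 : Fin e → ι)) ?_ ?_ ?_ ?_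
  · intro L _
    simp only [mem_filter, mem_univ, true_and]
    exact (L.1.orderEmbOfFin L.2).strictMono
  · intro L₁ _ L₂ _ h
    apply Subtype.ext
    have h1 := Finset.range_orderEmbOfFin L₁.1 L₁.2
    have h2 := Finset.range_orderEmbOfFin L₂.1 L₂.2
    have : (L₁.1 : Set ι) = L₂.1 := by
      rw [← h1, ← h2, h]
    exact_mod_cast this
  · intro s hs
    simp only [mem_filter, mem_univ, true_and] at hs
    have hcard : (univ.image s).card = e := by
      rw [Finset.card_image_of_injective _ hs.injective]; simp
    refine ⟨⟨univ.image s, hcard⟩, mem_univ _, ?_⟩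
    have := Finset.orderEmbOfFin_unique (s := univ.image s) hcard (f := s)
      (fun x => by simp) hs
    exact this.symm
  · intro L _; rfl

open Finset Matrix in
/-- Cauchy–Binet in the shape needed: the minors of `A * M` are combinations of minors of `M`. -/
lemma det_mul_submatrix {R : Type*} [CommRing R] (e r n : ℕ)
    (A : Matrix (Fin e) (Fin r) R) (M : Matrix (Fin r) (Fin n) R) (t : Fin e → Fin n) :
    ((A * M).submatrix id t).det =
      ∑ L : {s : Finset (Fin r) // s.card = e},
        (A.submatrix id (L.1.orderEmbOfFin L.2)).det *
          (M.submatrix (L.1.orderEmbOfFin L.2) t).det := by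
  have h1 : (A * M).submatrix id t = A * ((M.submatrix id t)ᵀ)ᵀ := by
    rw [Matrix.transpose_transpose]
    ext i j
    simp [Matrix.mul_apply]
  rw [h1, Groth.Agent.Lib.Helper27.CB.cauchyBinet_strictMono, sum_strictMono_eq]
  refine Finset.sum_congr rfl fun L _ => ?_
  congr 1
  rw [← Matrix.det_transpose]
  rfl

/-- Let R be a commutative ring, M an r × n matrix over R and e ≥ 0; for each e-element set L of row
indices let A_L be an e × r matrix over R, and form the square matrix, indexed by the e-element sets
of row indices, whose (L, L') entry is the e × e minor of A_L on the columns L'. If the determinant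
of that square matrix is a unit, then the sum over L of the ideals generated by the e × e minors of
the products A_L · M is the ideal generated by all e × e minors of M. (In the source R is the
coordinate ring of an affine scheme X of codimension e cut out by f_1, …, f_r in affine n-space, M
is the image of the Jacobian matrix of the f_j, the A_L have entries in the ground field and cut out
complete intersections Z_L = V(A_L · f), so that the two sides are Σ_L Jac(Z_L) and Jac(X); the
source states the equality for general A_L and establishes it under the present invertibility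
condition, which it shows to be generic.) -/
theorem result {R : Type u} [CommRing R] (e r n : ℕ)
    (M : Matrix (Fin r) (Fin n) R)
    (A : {s : Finset (Fin r) // s.card = e} → Matrix (Fin e) (Fin r) R)
    (hA : IsUnit (Matrix.det (Matrix.of fun i j : {s : Finset (Fin r) // s.card = e} =>
      ((A i).submatrix id (j.1.orderEmbOfFin j.2)).det))) :
    (⨆ i, Ideal.span (Set.range fun t : {s : Finset (Fin n) // s.card = e} =>
        ((A i * M).submatrix id (t.1.orderEmbOfFin t.2)).det)) =
      Ideal.span (Set.range fun p : {s : Finset (Fin r) // s.card = e} × {s : Finset (Fin n) // s.card = e} =>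
        (M.submatrix (p.1.1.orderEmbOfFin p.1.2) (p.2.1.orderEmbOfFin p.2.2)).det) := by
  classical
  set N : Matrix {s : Finset (Fin r) // s.card = e} {s : Finset (Fin r) // s.card = e} R :=
    Matrix.of fun i j : {s : Finset (Fin r) // s.card = e} =>
      ((A i).submatrix id (j.1.orderEmbOfFin j.2)).det with hN
  set P : Matrix {s : Finset (Fin r) // s.card = e} {s : Finset (Fin n) // s.card = e} R :=
    Matrix.of fun L T => (M.submatrix (L.1.orderEmbOfFin L.2) (T.1.orderEmbOfFin T.2)).det with hP
  set Q : Matrix {s : Finset (Fin r) // s.card = e} {s : Finset (Fin n) // s.card = e} R :=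
    Matrix.of fun L T => ((A L * M).submatrix id (T.1.orderEmbOfFin T.2)).det with hQ
  have hQNP : Q = N * P := by
    ext L T
    simp only [hQ, hN, hP, Matrix.of_apply, Matrix.mul_apply]
    exact det_mul_submatrix e r n (A L) M _
  have hPQ : P = N⁻¹ * Q := by
    rw [hQNP, ← Matrix.mul_assoc, Matrix.nonsing_inv_mul _ hA, Matrix.one_mul]
  apply le_antisymm
  · refine iSup_le fun L => ?_
    rw [Ideal.span_le]
    rintro _ ⟨T, rfl⟩
    have : ((A L * M).submatrix id (T.1.orderEmbOfFin T.2)).det = (N * P) L T := by
      rw [← hQNP]; rfl
    simp only [this, Matrix.mul_apply]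
    refine Ideal.sum_mem _ fun L' _ => Ideal.mul_mem_left _ _ (Ideal.subset_span ⟨(L', T), rfl⟩)
  · rw [Ideal.span_le]
    rintro _ ⟨⟨L, T⟩, rfl⟩
    have : (M.submatrix (L.1.orderEmbOfFin L.2) (T.1.orderEmbOfFin T.2)).det = (N⁻¹ * Q) L T := by
      rw [← hPQ]; rfl
    simp only [this, Matrix.mul_apply]
    refine Ideal.sum_mem _ fun L' _ => Ideal.mul_mem_left _ _ ?_
    exact (le_iSup (fun i => Ideal.span (Set.range fun t : {s : Finset (Fin n) // s.card = e} =>
        ((A i * M).submatrix id (t.1.orderEmbOfFin t.2)).det)) L') (Ideal.subset_span ⟨T, rfl⟩)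

end Groth.Agent.S17662
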