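import Groth.Statements.S17677
import Mathlib.RingTheory.Coalgebra.MonoidAlgebra
import Mathlib.RingTheory.Bialgebra.MonoidAlgebra

set_option autoImplicit false
universe u
open Hoch

namespace Groth.Agent.S17677

open TensorProduct

section general

variable (k : Type u) [CommRing k] (A : Type u) [Ring A] [Bialgebra k A]
  (e : A →ₗ[k] k)

/-- contraction of the last tensor factor with the functional `e` -/
noncomputable def contr (W : Type u) [AddCommGroup W] [Module k W] : W ⊗[k] A →ₗ[k] W :=
  (TensorProduct.rid k W).toLinearMap ∘ₗ e.lTensor W

@[simp] lemma contr_tmul (W : Type u) [AddCommGroup W] [Module k W] (w : W) (a : A) :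
    contr k A e W (w ⊗ₜ a) = e a • w := by
  simp [contr]

variable (V : Type u) [AddCommGroup V] [Module k V] [HopfRep.Comod k A V]

lemma contr_rTensor (f : V →ₗ[k] V ⊗[k] A) (x : V ⊗[k] A) :
    contr k A e (V ⊗[k] A) (f.rTensor A x) = f (contr k A e V x) := by
  induction x using TensorProduct.induction_on with
  | zero => simp
  | tmul v a => simp
  | add x y hx hy => simp only [map_add, hx, hy]

lemma contr_assoc_symm (v : V) (t : A ⊗[k] A) :
    contr k A e (V ⊗[k] A) ((TensorProduct.assoc k V A A).symm (v ⊗ₜ t)) =
      v ⊗ₜ (contr k A e A t) := by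
  induction t using TensorProduct.induction_on with
  | zero => simp
  | tmul b b' => simp [TensorProduct.tmul_smul]
  | add x y hx hy => simp only [TensorProduct.tmul_add, map_add, hx, hy]

lemma contr_tail (he1 : e 1 = 1)
    (he2 : ∀ a : A, contr k A e A (Coalgebra.comul (R := k) a) = e a • (1 : A))
    (x : V ⊗[k] A) :
    contr k A e (V ⊗[k] A) (Hoch.tail k A V x) = -x := by
  induction x using TensorProduct.induction_on with
  | zero => simp
  | tmul v a =>
    rw [Hoch.tail_tmul, contr_assoc_symm]
    simp only [map_sub, he2, contr_tmul, he1, one_smul]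
    rw [sub_sub_cancel_left, TensorProduct.tmul_neg]
  | add x y hx hy => simp only [map_add, hx, hy, neg_add]

theorem cocycles_le_coboundaries (he1 : e 1 = 1)
    (he2 : ∀ a : A, contr k A e A (Coalgebra.comul (R := k) a) = e a • (1 : A)) :
    Hoch.cocycles k A V 1 ≤ Hoch.coboundaries k A V 1 := by
  intro c hc
  change Hoch.d k A V 1 c = 0 at hc
  change c ∈ LinearMap.range (Hoch.d k A V 0)
  rw [Hoch.d_succ] at hc
  have h1 := congrArg (contr k A e (V ⊗[k] A)) hc
  rw [map_zero] at h1
  erw [LinearMap.add_apply, LinearMap.smul_apply, map_add, map_smul] at h1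
  erw [contr_rTensor k A e V (Hoch.d k A V 0) c, contr_tail k A e V he1 he2 c] at h1
  refine ⟨-(contr k A e V c), ?_⟩
  rw [map_neg]
  have : (Hoch.d k A V 0) (contr k A e V c) = -c := by
    have h2 : (Hoch.d k A V 0) (contr k A e V c) + (-1 : k) ^ (0 + 1) • (-c) = 0 := h1
    simp only [zero_add, pow_one, neg_smul, one_smul, neg_neg] at h2
    exact eq_neg_of_add_eq_zero_left h2
  rw [this, neg_neg]

end general

/-- Let k be a commutative ring, M a commutative monoid and V a right comodule over the monoid bialgebra
k[M] (a quasi-coherent module with an action of the diagonalizable monoid scheme Spec k[M]). Then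
every 1-cocycle of the Hochschild complex of V is a 1-coboundary, i.e. the first Hochschild
cohomology module of the diagonalizable monoid with coefficients in V is zero. (The source works
over an algebraic space with M finitely generated and cancellative, hypotheses it uses only to
identify modules under the monoid with comodules; the cocycle computation, which is the affine
statement given here, uses neither.) -/
theorem result (k : Type u) [CommRing k] (M : Type u)
    [AddCommMonoid M] (V : Type u) [AddCommGroup V] [Module k V]
    [HopfRep.Comod k (AddMonoidAlgebra k M) V] :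
    Hoch.cocycles k (AddMonoidAlgebra k M) V 1 ≤ Hoch.coboundaries k (AddMonoidAlgebra k M) V 1 := by
  classical
  let e : AddMonoidAlgebra k M →ₗ[k] k :=
    (Finsupp.lapply (0 : M)) ∘ₗ (AddMonoidAlgebra.coeffLinearEquiv k).toLinearMap
  have he : ∀ (m : M) (r : k), e (AddMonoidAlgebra.single m r) = if m = 0 then r else 0 := by
    intro m r
    simp only [e, LinearMap.comp_apply, LinearEquiv.coe_coe, Finsupp.lapply_apply]
    change (AddMonoidAlgebra.single m r).coeff 0 = _
    rw [AddMonoidAlgebra.coeff_single, Finsupp.single_apply]
  apply cocycles_le_coboundaries k (AddMonoidAlgebra k M) e V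
  · rw [AddMonoidAlgebra.one_def, he, if_pos rfl]
  · intro a
    induction a using AddMonoidAlgebra.induction_linear with
    | zero => simp
    | add a b ha hb => simp only [map_add, ha, hb, add_smul]
    | single m r =>
      rw [AddMonoidAlgebra.comul_single, CommSemiring.comul_apply, TensorProduct.map_tmul,
        contr_tmul]
      simp only [AddMonoidAlgebra.lsingle_apply]
      rw [he]
      by_cases hm : m = 0
      · subst hm
        rw [if_pos rfl, AddMonoidAlgebra.one_def]
      · rw [if_neg hm, zero_smul, zero_smul]

end Groth.Agent.S17677
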