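import Groth.Statements.S17678
import Mathlib.RingTheory.RingHom.Flat
import Mathlib.Algebra.MonoidAlgebra.Basic
import Mathlib.Algebra.MonoidAlgebra.MapDomain
import Mathlib.RingTheory.Flat.Basic

set_option autoImplicit false
universe u v
open DiagMon

namespace Groth.Agent.S17678

/-- Let R be a commutative ring and N an abelian group. Then the ring map R[N] → R[N × N] of monoid
algebras induced by the diagonal n ↦ (n, n), which is the comorphism of the multiplication morphism
of the diagonalizable group scheme Spec R[N] over Spec R, is flat. (The published statement asserts
flatness for every cancellative commutative monoid N, on the ground that N acts freely on N × N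
through the diagonal; but for the submonoid N of the natural numbers generated by 2 and 3, the pairs
(x, x − 1) with x ≥ 3 form one orbit class that is not a free orbit, and the corresponding direct
summand of k[N × N] is the ideal t³k[t] viewed as a module over k[t², t³], which is not flat. The
statement is therefore given for groups, where N × N is a free N-set with basis the pairs (0, b).) -/
theorem result (R : Type u) [CommRing R] (N : Type v)
    [AddCommGroup N] :
    (AddMonoidAlgebra.mapDomainRingHom R ((AddMonoidHom.id N).prod (AddMonoidHom.id N))).Flat := by
  classical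
  -- the shear automorphism `(a, b) ↦ (a - b, b)` of `N × N`
  let ψ : N × N ≃+ N × N :=
    { toFun := fun p => (p.1 - p.2, p.2)
      invFun := fun p => (p.1 + p.2, p.2)
      left_inv := fun p => by simp
      right_inv := fun p => by simp
      map_add' := fun p q => by
        ext
        · simp only [Prod.fst_add, Prod.snd_add]; abel
        · simp }
  let E : AddMonoidAlgebra R (N × N) ≃+* AddMonoidAlgebra (AddMonoidAlgebra R N) N :=
    (AddMonoidAlgebra.mapDomainRingEquiv R ψ).trans AddMonoidAlgebra.curryRingEquiv
  have key : AddMonoidAlgebra.mapDomainRingHom R ((AddMonoidHom.id N).prod (AddMonoidHom.id N)) =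
      (E.symm : AddMonoidAlgebra (AddMonoidAlgebra R N) N →+* AddMonoidAlgebra R (N × N)).comp
        (algebraMap (AddMonoidAlgebra R N) (AddMonoidAlgebra (AddMonoidAlgebra R N) N)) := by
    have h : ∀ (a : N) (r : R),
        E (AddMonoidAlgebra.mapDomainRingHom R ((AddMonoidHom.id N).prod (AddMonoidHom.id N))
          (AddMonoidAlgebra.single a r)) =
        algebraMap (AddMonoidAlgebra R N) (AddMonoidAlgebra (AddMonoidAlgebra R N) N)
          (AddMonoidAlgebra.single a r) := by
      intro a r
      have h1 : AddMonoidAlgebra.mapDomainRingHom R
          ((AddMonoidHom.id N).prod (AddMonoidHom.id N)) (AddMonoidAlgebra.single a r) =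
          AddMonoidAlgebra.single (a, a) r := by
        simp [AddMonoidAlgebra.mapDomainRingHom, AddMonoidAlgebra.mapDomain_single]
      rw [h1, AddMonoidAlgebra.coe_algebraMap]
      simp only [E, RingEquiv.trans_apply, AddMonoidAlgebra.mapDomainRingEquiv_single,
        Function.comp_apply, Algebra.algebraMap_self, RingHom.id_apply]
      have h2 : ψ (a, a) = (0, a) := by
        change (a - a, a) = (0, a)
        rw [sub_self]
      rw [h2, AddMonoidAlgebra.curryRingEquiv_single]
    apply AddMonoidAlgebra.ringHom_ext
    · intro r
      rw [RingHom.comp_apply, ← h 0 r]
      simp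
    · intro a
      rw [RingHom.comp_apply, ← h a 1]
      simp
  rw [key]
  refine RingHom.Flat.comp ?_ (RingHom.Flat.of_bijective E.symm.bijective)
  rw [RingHom.flat_algebraMap_iff]
  infer_instance

end Groth.Agent.S17678
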