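import Groth.Statements.S17679
import Mathlib.LinearAlgebra.Dimension.OrzechProperty
import Mathlib.LinearAlgebra.Dimension.Constructions
import Mathlib.Algebra.Group.Submonoid.Finsupp
import Mathlib.LinearAlgebra.Dimension.Free
import Mathlib.LinearAlgebra.FreeModule.Finite.Basic
import Mathlib.RingTheory.OrzechProperty
import Mathlib.RingTheory.FiniteType
import Mathlib.RingTheory.Noetherian.Orzech

set_option autoImplicit false
open DiagMon

namespace Groth.Agent.S17679

/-- For n ≥ 1 the minimal number of generators of ℤ^n as an additive monoid is n + 1: some n + 1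
elements generate ℤ^n as a monoid, and every finite set generating ℤ^n as a monoid has at least n +
1 elements. (For n = 0 the empty set generates the zero monoid, so the count n + 1 is stated for n ≥
1 only.) -/
theorem result (n : ℕ) (hn : 1 ≤ n) :
    (∃ s : Finset (Fin n → ℤ), s.card = n + 1 ∧ AddSubmonoid.closure (s : Set (Fin n → ℤ)) = ⊤) ∧
    ∀ s : Finset (Fin n → ℤ), AddSubmonoid.closure (s : Set (Fin n → ℤ)) = ⊤ → n + 1 ≤ s.card := by
  classical
  constructor
  · -- generators `e_i` and `-(e_1 + ... + e_n)`
    let w : Fin n → ℤ := fun _ => -1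
    let e : Fin n → (Fin n → ℤ) := fun i => Pi.single i 1
    have hinj : Function.Injective e := fun i j hij => by
      by_contra hne
      have := congrFun hij i
      simp only [e, Pi.single_eq_same, Pi.single_eq_of_ne hne] at this
      exact one_ne_zero this
    have hw : w ∉ Finset.univ.image e := by
      intro h
      obtain ⟨i, -, hi⟩ := Finset.mem_image.mp h
      have := congrFun hi i
      simp only [e, w, Pi.single_eq_same] at this
      omega
    refine ⟨insert w (Finset.univ.image e), ?_, ?_⟩
    · rw [Finset.card_insert_of_notMem hw, Finset.card_image_of_injective _ hinj,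
        Finset.card_univ, Fintype.card_fin]
    · rw [eq_top_iff]
      intro v _
      let m : ℕ := ∑ i, (v i).natAbs
      have hm : ∀ j, 0 ≤ v j + (m : ℤ) := by
        intro j
        have h1 : (v j).natAbs ≤ m :=
          Finset.single_le_sum (f := fun i => (v i).natAbs) (fun i _ => Nat.zero_le _)
            (Finset.mem_univ j)
        have h2 : -v j ≤ ((v j).natAbs : ℤ) := by
          rw [Int.natCast_natAbs]; exact neg_le_abs (v j)
        have h3 : ((v j).natAbs : ℤ) ≤ (m : ℤ) := by exact_mod_cast h1
        linarith
      have hv : v = ∑ i, (v i + (m : ℤ)).toNat • e i + m • w := by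
        funext j
        rw [Pi.add_apply, Finset.sum_apply, Finset.sum_eq_single j]
        · simp only [Pi.smul_apply, e, w, Pi.single_eq_same, nsmul_eq_mul, mul_one]
          rw [Int.toNat_of_nonneg (hm j)]
          ring
        · intro i _ hij
          simp only [Pi.smul_apply, e, Pi.single_eq_of_ne hij.symm, smul_zero]
        · intro h
          exact absurd (Finset.mem_univ j) h
      rw [hv]
      refine add_mem (sum_mem fun i _ => nsmul_mem (AddSubmonoid.subset_closure ?_) _)
        (nsmul_mem (AddSubmonoid.subset_closure ?_) _)
      · simp only [Finset.coe_insert, Finset.coe_image, Finset.coe_univ, Set.image_univ,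
          Set.mem_insert_iff, Set.mem_range]
        exact Or.inr ⟨i, rfl⟩
      · simp
  · intro s hs
    by_contra hlt
    push Not at hlt
    have hcard : s.card ≤ n := by omega
    let b : s → (Fin n → ℤ) := Subtype.val
    have hspan : ⊤ ≤ Submodule.span ℤ (Set.range b) := by
      intro x _
      have hx : x ∈ AddSubmonoid.closure (s : Set (Fin n → ℤ)) := by rw [hs]; trivial
      have hle : AddSubmonoid.closure (s : Set (Fin n → ℤ)) ≤
          (Submodule.span ℤ (Set.range b)).toAddSubmonoid := by
        rw [AddSubmonoid.closure_le]
        intro y hy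
        exact Submodule.subset_span ⟨⟨y, hy⟩, rfl⟩
      exact hle hx
    have hli : LinearIndependent ℤ b := by
      apply linearIndependent_of_top_le_span_of_card_le_finrank hspan
      rw [Fintype.card_coe, Module.finrank_fin_fun]
      exact hcard
    -- `s` is nonempty
    have hne : s.Nonempty := by
      rw [Finset.nonempty_iff_ne_empty]
      rintro rfl
      rw [Finset.coe_empty, AddSubmonoid.closure_empty] at hs
      have h0 : (Pi.single (⟨0, hn⟩ : Fin n) (1 : ℤ) : Fin n → ℤ) ∈ (⊥ : AddSubmonoid (Fin n → ℤ)) := by
        rw [hs]; trivial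
      rw [AddSubmonoid.mem_bot] at h0
      have := congrFun h0 ⟨0, hn⟩
      simp at this
    obtain ⟨x₀, hx₀⟩ := hne
    have hneg : -x₀ ∈ AddSubmonoid.closure (s : Set (Fin n → ℤ)) := by rw [hs]; trivial
    obtain ⟨a, ha⟩ := AddSubmonoid.mem_closure_finset'.mp hneg
    have hrel : ∑ i : s, ((a i : ℤ) + if i = ⟨x₀, hx₀⟩ then 1 else 0) • b i = 0 := by
      simp only [add_smul, Finset.sum_add_distrib, ite_smul, one_smul, zero_smul,
        Finset.sum_ite_eq', Finset.mem_univ, if_true, b]
      have : ∑ i : s, (a i : ℤ) • (i : Fin n → ℤ) = ∑ i : s, a i • (i : Fin n → ℤ) := by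
        apply Finset.sum_congr rfl
        intro i _
        rw [natCast_zsmul]
      rw [this, ← ha]
      simp
    have := (Fintype.linearIndependent_iff.mp hli) _ hrel ⟨x₀, hx₀⟩
    simp only [if_true] at this
    omega

end Groth.Agent.S17679
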