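import Groth.Statements.S17683
-- import your own Groth.Agent.* helpers here

set_option autoImplicit false
universe u
open DiagMon

namespace Groth.Agent.S17683

lemma comapDomain_single_of_not_mem {N : Type*} [AddCommMonoid N] (F : AddSubmonoid N) {r : ℤ}
    {n : N} (hn : n ∉ F) :
    AddMonoidAlgebra.comapDomain ((↑) : F → N) Subtype.val_injective
      (AddMonoidAlgebra.single n r) = 0 := by
  classical
  ext m
  simp only [AddMonoidAlgebra.coeff_comapDomain, Finsupp.comapDomain_apply,
    AddMonoidAlgebra.coeff_single, AddMonoidAlgebra.coeff_zero, Finsupp.coe_zero, Pi.zero_apply]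
  rw [Finsupp.single_apply, if_neg]
  intro h
  exact hn (h ▸ m.2)

/-- Let N be a commutative monoid and F a submonoid of N. The additive projection ℤ[N] → ℤ[F] of monoid
algebras keeping the monomials with exponent in F and killing the others is multiplicative, i.e. F
is a face of N, if and only if for all x, y in N the sum x + y lies in F exactly when both x and y
do. -/
theorem result {N : Type u} [AddCommMonoid N] (F : AddSubmonoid N) :
    (∀ a b : AddMonoidAlgebra ℤ N,
        AddMonoidAlgebra.comapDomain ((↑) : F → N) Subtype.val_injective (a * b) =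
          AddMonoidAlgebra.comapDomain ((↑) : F → N) Subtype.val_injective a *
            AddMonoidAlgebra.comapDomain ((↑) : F → N) Subtype.val_injective b) ↔
      ∀ x y : N, x + y ∈ F ↔ (x ∈ F ∧ y ∈ F) := by
  classical
  have hinj : Function.Injective ((↑) : F → N) := Subtype.val_injective
  constructor
  · intro h x y
    constructor
    · intro hxy
      have h1 := h (AddMonoidAlgebra.single x 1) (AddMonoidAlgebra.single y 1)
      rw [AddMonoidAlgebra.single_mul_single, mul_one] at h1
      have h2 : AddMonoidAlgebra.comapDomain ((↑) : F → N) Subtype.val_injective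
          (AddMonoidAlgebra.single (x + y) (1 : ℤ)) =
          AddMonoidAlgebra.single (⟨x + y, hxy⟩ : F) 1 :=
        AddMonoidAlgebra.comapDomain_single_map ((↑) : F → N) Subtype.val_injective
          (⟨x + y, hxy⟩ : F) (1 : ℤ)
      rw [h2] at h1
      have hne : AddMonoidAlgebra.single (⟨x + y, hxy⟩ : F) (1 : ℤ) ≠ 0 :=
        AddMonoidAlgebra.single_ne_zero.mpr one_ne_zero
      refine ⟨?_, ?_⟩
      · by_contra hx
        apply hne
        rw [h1, comapDomain_single_of_not_mem F hx,
          zero_mul]
      · by_contra hy
        apply hne
        rw [h1, comapDomain_single_of_not_mem F hy, mul_zero]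
    · rintro ⟨hx, hy⟩
      exact F.add_mem hx hy
  · intro h a b
    induction a using AddMonoidAlgebra.induction_linear with
    | zero => simp
    | add a₁ a₂ h₁ h₂ =>
      rw [add_mul, AddMonoidAlgebra.comapDomain_add, AddMonoidAlgebra.comapDomain_add, add_mul,
        h₁, h₂]
    | single x r =>
      induction b using AddMonoidAlgebra.induction_linear with
      | zero => simp
      | add b₁ b₂ h₁ h₂ =>
        rw [mul_add, AddMonoidAlgebra.comapDomain_add, AddMonoidAlgebra.comapDomain_add, mul_add,
          h₁, h₂]
      | single y r' =>
        rw [AddMonoidAlgebra.single_mul_single]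
        by_cases hxy : x + y ∈ F
        · obtain ⟨hx, hy⟩ := (h x y).mp hxy
          have e1 := AddMonoidAlgebra.comapDomain_single_map ((↑) : F → N)
            Subtype.val_injective (⟨x + y, hxy⟩ : F) (r * r')
          have e2 := AddMonoidAlgebra.comapDomain_single_map ((↑) : F → N)
            Subtype.val_injective (⟨x, hx⟩ : F) r
          have e3 := AddMonoidAlgebra.comapDomain_single_map ((↑) : F → N)
            Subtype.val_injective (⟨y, hy⟩ : F) r'
          simp only at e1 e2 e3
          rw [e1, e2, e3, AddMonoidAlgebra.single_mul_single]
          rfl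
        · rw [comapDomain_single_of_not_mem F hxy]
          have hnot : ¬ (x ∈ F ∧ y ∈ F) := fun hh => hxy ((h x y).mpr hh)
          by_cases hx : x ∈ F
          · have hy : y ∉ F := fun hy => hnot ⟨hx, hy⟩
            rw [comapDomain_single_of_not_mem F hy, mul_zero]
          · rw [comapDomain_single_of_not_mem F hx, zero_mul]

end Groth.Agent.S17683
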