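import Groth.Statements.S17687
-- import your own Groth.Agent.* helpers here

set_option autoImplicit false
universe u v w
open DiagMon

namespace Groth.Agent.S17687

open DirectSum

section

variable {R : Type*} [CommRing R] {A : Type*} [CommRing A] [Algebra R A] {M : Type*}
  [AddCommMonoid M] [DecidableEq M] (𝒜 : M → Submodule R A) [GradedAlgebra 𝒜]
  (N : AddSubmonoid M) (K : Ideal A)

/-- all components of `x` of degree outside `N` lie in `K` -/
def H (x : A) : Prop := ∀ m, m ∉ N → (decompose 𝒜 x m : A) ∈ K

lemma H_of_homog {x : A} {i : M} (hx : x ∈ 𝒜 i) (h : i ∉ N → x ∈ K) : H 𝒜 N K x := by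
  intro m hm
  by_cases him : i = m
  · subst him
    rw [decompose_of_mem_same 𝒜 hx]
    exact h hm
  · rw [decompose_of_mem_ne 𝒜 hx him]
    exact K.zero_mem

lemma H_zero : H 𝒜 N K 0 := by
  intro m _
  rw [decompose_zero, DirectSum.zero_apply, ZeroMemClass.coe_zero]
  exact K.zero_mem

lemma H_add {x y : A} (hx : H 𝒜 N K x) (hy : H 𝒜 N K y) : H 𝒜 N K (x + y) := by
  intro m hm
  rw [decompose_add, DirectSum.add_apply, Submodule.coe_add]
  exact K.add_mem (hx m hm) (hy m hm)

lemma H_sum {ι : Type*} (s : Finset ι) (f : ι → A) (h : ∀ i ∈ s, H 𝒜 N K (f i)) :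
    H 𝒜 N K (∑ i ∈ s, f i) := by
  classical
  induction s using Finset.induction_on with
  | empty => rw [Finset.sum_empty]; exact H_zero 𝒜 N K
  | insert a s ha ih =>
    rw [Finset.sum_insert ha]
    exact H_add 𝒜 N K (h a (Finset.mem_insert_self a s))
      (ih fun i hi => h i (Finset.mem_insert_of_mem hi))

lemma H_comp {x : A} (hx : H 𝒜 N K x) (i : M) : H 𝒜 N K (decompose 𝒜 x i : A) :=
  H_of_homog 𝒜 N K (decompose 𝒜 x i).2 (fun hi => hx i hi)

lemma H_mul_homog {x y : A} {i j : M} (hxi : x ∈ 𝒜 i) (hyj : y ∈ 𝒜 j)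
    (hx : H 𝒜 N K x) (hy : H 𝒜 N K y) : H 𝒜 N K (x * y) := by
  apply H_of_homog 𝒜 N K (SetLike.mul_mem_graded hxi hyj)
  intro hij
  by_cases hi : i ∈ N
  · have hj : j ∉ N := fun hj => hij (N.add_mem hi hj)
    have := hy j hj
    rw [decompose_of_mem_same 𝒜 hyj] at this
    exact K.mul_mem_left _ this
  · have := hx i hi
    rw [decompose_of_mem_same 𝒜 hxi] at this
    exact K.mul_mem_right _ this

lemma H_mul {x y : A} (hx : H 𝒜 N K x) (hy : H 𝒜 N K y) : H 𝒜 N K (x * y) := by
  classical
  rw [← sum_support_decompose 𝒜 x, ← sum_support_decompose 𝒜 y, Finset.sum_mul_sum]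
  apply H_sum
  intro i _
  apply H_sum
  intro j _
  exact H_mul_homog 𝒜 N K (decompose 𝒜 x i).2 (decompose 𝒜 y j).2 (H_comp 𝒜 N K hx i)
    (H_comp 𝒜 N K hy j)

end

/-- Let R be a commutative ring and A a commutative R-algebra of finite type graded by a commutative
monoid M. Then the set of ideals J_N, N running over all submonoids of M, where J_N is generated by
the homogeneous elements of degree not in N (the ideal of the attractor of Spec A for the magnet N),
is finite: Spec A has finitely many attractors and hence finitely many pure magnets. (The source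
assumes Spec A of finite presentation over the base; its proof uses only a finite set of homogeneous
algebra generators, so finite type is assumed here.) -/
theorem result (R : Type u) [CommRing R] (A : Type v) [CommRing A]
    [Algebra R A] [Algebra.FiniteType R A] (M : Type w) [AddCommMonoid M] [DecidableEq M]
    (𝒜 : M → Submodule R A) [GradedAlgebra 𝒜] :
    (Set.range fun N : AddSubmonoid M => Ideal.span {a : A | ∃ m : M, m ∉ N ∧ a ∈ 𝒜 m}).Finite := by
  classical
  obtain ⟨T, hT⟩ := (inferInstance : Algebra.FiniteType R A).out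
  -- the finite set of (degree, homogeneous component) pairs of the generators
  let P : Finset (M × A) := T.biUnion fun t =>
    (decompose 𝒜 t).support.image fun m => (m, (decompose 𝒜 t m : A))
  have hPmem : ∀ p ∈ P, p.2 ∈ 𝒜 p.1 := by
    intro p hp
    obtain ⟨t, -, hp⟩ := Finset.mem_biUnion.mp hp
    obtain ⟨m, -, rfl⟩ := Finset.mem_image.mp hp
    exact (decompose 𝒜 t m).2
  have hadj : Algebra.adjoin R ((P.image Prod.snd : Finset A) : Set A) = ⊤ := by
    rw [eq_top_iff, ← hT]
    apply Algebra.adjoin_le
    intro t ht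
    rw [← sum_support_decompose 𝒜 t]
    apply Subalgebra.sum_mem
    intro m hm
    apply Algebra.subset_adjoin
    rw [Finset.mem_coe, Finset.mem_image]
    refine ⟨(m, (decompose 𝒜 t m : A)), ?_, rfl⟩
    exact Finset.mem_biUnion.mpr ⟨t, ht, Finset.mem_image.mpr ⟨m, hm, rfl⟩⟩
  -- key identity
  have key : ∀ N : AddSubmonoid M, Ideal.span {a : A | ∃ m : M, m ∉ N ∧ a ∈ 𝒜 m} =
      Ideal.span (((P.filter fun p => p.1 ∉ N).image Prod.snd : Finset A) : Set A) := by
    intro N
    apply le_antisymm
    · rw [Ideal.span_le]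
      rintro a ⟨m, hm, ha⟩
      set K : Ideal A := Ideal.span (((P.filter fun p => p.1 ∉ N).image Prod.snd : Finset A) : Set A)
        with hK
      have hall : ∀ x : A, H 𝒜 N K x := by
        intro x
        have hx : x ∈ Algebra.adjoin R ((P.image Prod.snd : Finset A) : Set A) := by
          rw [hadj]; trivial
        induction hx using Algebra.adjoin_induction with
        | mem g hg =>
          rw [Finset.mem_coe, Finset.mem_image] at hg
          obtain ⟨p, hp, rfl⟩ := hg
          apply H_of_homog 𝒜 N K (hPmem p hp)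
          intro hpN
          apply Ideal.subset_span
          rw [Finset.mem_coe, Finset.mem_image]
          exact ⟨p, Finset.mem_filter.mpr ⟨hp, hpN⟩, rfl⟩
        | algebraMap r =>
          apply H_of_homog 𝒜 N K (SetLike.algebraMap_mem_graded 𝒜 r)
          intro h0
          exact absurd N.zero_mem h0
        | add x y _ _ hx hy => exact H_add 𝒜 N K hx hy
        | mul x y _ _ hx hy => exact H_mul 𝒜 N K hx hy
      have := hall a m hm
      rwa [decompose_of_mem_same 𝒜 ha] at this
    · rw [Ideal.span_le]
      intro g hg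
      rw [Finset.mem_coe, Finset.mem_image] at hg
      obtain ⟨p, hp, rfl⟩ := hg
      obtain ⟨hpP, hpN⟩ := Finset.mem_filter.mp hp
      exact Ideal.subset_span ⟨p.1, hpN, hPmem p hpP⟩
  apply Set.Finite.subset
    (((P.powerset : Finset (Finset (M × A))) : Set (Finset (M × A))).toFinite.image
      (fun S : Finset (M × A) => Ideal.span ((S.image Prod.snd : Finset A) : Set A)))
  rintro _ ⟨N, rfl⟩
  refine ⟨P.filter fun p => p.1 ∉ N, ?_, (key N).symm⟩
  rw [Finset.mem_coe, Finset.mem_powerset]
  exact Finset.filter_subset _ _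

end Groth.Agent.S17687
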