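import Groth.Statements.S17688
import Groth.Agent.Lib.Helper26.SchDominant

set_option autoImplicit false
universe u
open CategoryTheory CategoryTheory.Limits AlgebraicGeometry MonObj
open Neron

namespace Groth.Agent.S17688

/-- Let R be a discrete valuation ring whose fraction field K has characteristic p > 0, and let U be a
flat, separated, commutative group scheme over Spec R whose generic fibre U_K is annihilated by a
power p^N of p (in the group of endomorphisms of U_K as a K-scheme, the p^N-th power of the identity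
is the unit). Then for every prime ℓ invertible in R the ℓ-th power map of U (the ℓ-th power of the
identity in the group of R-morphisms U → U) is an isomorphism. -/
theorem result
    (R : Type u) [CommRing R] [IsDomain R] [IsDiscreteValuationRing R]
    (p : ℕ) (hp : p.Prime) [CharP (FractionRing R) p]
    (U : Over (Spec (CommRingCat.of R))) [GrpObj U] [IsCommMonObj U] [Flat U.hom] [IsSeparated U.hom]
    (N : ℕ) (hN : (𝟙 (Red.bc (Neron.genPt R) U) : Red.bc (Neron.genPt R) U ⟶ Red.bc (Neron.genPt R) U) ^ (p ^ N) = 1)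
    (ℓ : ℕ) (hℓ : ℓ.Prime) (hℓu : IsUnit (ℓ : R)) :
    IsIso ((𝟙 U : U ⟶ U) ^ ℓ) := by
  classical
  -- the generic point is scheme-theoretically dominant
  haveI hdom : IsSchemeTheoreticallyDominant (Neron.genPt R) :=
    Groth.Agent.Lib.Helper26.SchDominant.isSchemeTheoreticallyDominant_SpecMap _
      (IsFractionRing.injective R (FractionRing R))
  -- step 1: the p^N-th power of the identity of U is trivial
  have h1 : (𝟙 U : U ⟶ U) ^ (p ^ N) = 1 := by
    apply Groth.Agent.Lib.Helper26.SchDominant.over_hom_ext_of_pullback_map_eq (Neron.genPt R)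
    have hpow : (Over.pullback (Neron.genPt R)).map ((𝟙 U : U ⟶ U) ^ (p ^ N)) =
        ((Over.pullback (Neron.genPt R)).map (𝟙 U)) ^ (p ^ N) :=
      map_pow (Functor.homMonoidHom (Over.pullback (Neron.genPt R)) (X := U) (M := U)) (𝟙 U) (p ^ N)
    rw [hpow, Functor.map_one, CategoryTheory.Functor.map_id]
    exact hN
  -- ℓ ≠ p
  have hpR : ((p : ℕ) : R) = 0 := by
    apply IsFractionRing.injective R (FractionRing R)
    rw [map_natCast, map_zero]
    exact CharP.cast_eq_zero _ p
  have hne : ℓ ≠ p := by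
    rintro rfl
    rw [hpR] at hℓu
    exact not_isUnit_zero hℓu
  have hcop : Nat.Coprime ℓ (p ^ N) :=
    Nat.Coprime.pow_right N ((Nat.coprime_primes hℓ hp).mpr hne)
  -- Bezout
  obtain ⟨a, b, hab⟩ : ∃ a b : ℕ, ℓ * a = 1 + (p ^ N) * b := by
    rcases Nat.lt_or_ge 1 (p ^ N) with hk | hk
    · obtain ⟨m, -, hm⟩ := Nat.exists_mul_mod_eq_one_of_coprime hcop hk
      refine ⟨m, ℓ * m / p ^ N, ?_⟩
      have := Nat.div_add_mod (ℓ * m) (p ^ N)
      rw [hm] at this
      omega
    · have hk1 : p ^ N = 1 := le_antisymm hk (Nat.one_le_pow _ _ hp.pos)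
      refine ⟨1, ℓ - 1, ?_⟩
      rw [hk1]
      have := hℓ.one_lt
      omega
  have hx : (𝟙 U : U ⟶ U) ^ (ℓ * a) = 𝟙 U := by
    rw [hab, pow_add, pow_one, pow_mul, h1, one_pow, _root_.mul_one]
  refine ⟨(𝟙 U : U ⟶ U) ^ a, ?_, ?_⟩
  · rw [MonObj.comp_pow, Category.comp_id, ← pow_mul, hx]
  · rw [MonObj.comp_pow, Category.comp_id, ← pow_mul, mul_comm, hx]

end Groth.Agent.S17688
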