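import Groth.Statements.S17689
import Groth.Agent.Lib.Helper26.UnivHomeo

set_option autoImplicit false
universe u
open CategoryTheory AlgebraicGeometry
open Neron

namespace Groth.Agent.S17689

/-- Let R ⊆ S be a finite extension of discrete valuation rings (the structure map R → S is injective
and S is a finite R-module) such that the induced extension K ⊆ L of fraction fields is purely
inseparable. Then the morphism Spec S → Spec R is a universal homeomorphism: every base change of it
is a homeomorphism on underlying spaces. (No excellence hypothesis is needed here.) -/
theorem result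
    (R S K L : Type u) [CommRing R] [IsDomain R] [IsDiscreteValuationRing R]
    [CommRing S] [IsDomain S] [IsDiscreteValuationRing S] [Algebra R S] [Module.Finite R S] [FaithfulSMul R S]
    [Field K] [Field L] [Algebra R K] [IsFractionRing R K] [Algebra S L] [IsFractionRing S L]
    [Algebra K L] [Algebra R L] [IsScalarTower R S L] [IsScalarTower R K L] [IsPurelyInseparable K L] :
    FlatMor.IsUnivHomeo (Spec.map (CommRingCat.ofHom (algebraMap R S))) := by
  classical
  haveI hqK : ExpChar K (ringExpChar K) := ringExpChar.expChar K
  haveI hqR : ExpChar R (ringExpChar K) :=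
    (algebraMap R K).expChar (IsFractionRing.injective R K) (ringExpChar K)
  have hint : (algebraMap R S).IsIntegral :=
    algebraMap_isIntegral_iff.mpr (Algebra.IsIntegral.of_finite R S)
  have hinj : Function.Injective (algebraMap R S) := FaithfulSMul.algebraMap_injective R S
  refine Groth.Agent.Lib.Helper26.UnivHomeo.isUnivHomeo_SpecMap
    (CommRingCat.ofHom (algebraMap R S)) (ringExpChar K) hint ?_ ?_
  · exact hint.comap_surjective hinj
  · intro s
    obtain ⟨n, y, hy⟩ := IsPurelyInseparable.pow_mem K (ringExpChar K) (algebraMap S L s)
    -- y : K is integral over R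
    have hsint : IsIntegral R (s ^ (ringExpChar K) ^ n) := Algebra.IsIntegral.isIntegral _
    have hLint : IsIntegral R (algebraMap S L (s ^ (ringExpChar K) ^ n)) :=
      hsint.map (IsScalarTower.toAlgHom R S L)
    have hyint : IsIntegral R y := by
      rw [map_pow, ← hy] at hLint
      exact (isIntegral_algHom_iff (IsScalarTower.toAlgHom R K L)
        (algebraMap K L).injective).mp hLint
    obtain ⟨r, hr⟩ := IsIntegrallyClosed.isIntegral_iff.mp hyint
    refine ⟨n, r, ?_⟩
    apply IsFractionRing.injective S L
    show algebraMap S L (algebraMap R S r) = _
    rw [map_pow, ← hy, ← hr, ← IsScalarTower.algebraMap_apply, ← IsScalarTower.algebraMap_apply]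

end Groth.Agent.S17689
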