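import Groth.Statements.S17690
import Mathlib
import Groth.Agent.Lib.Helper26.NagThmA
import Groth.Agent.Lib.Helper14.IadicFibresReg
import Groth.Agent.Lib.Helper14.GeomReducedFin
import Groth.Agent.Lib.Helper9.RegLocal
import Groth.Agent.S2657

set_option autoImplicit false
universe u
open Neron

namespace Groth.Agent.S17690

/-- Let R be an excellent discrete valuation ring (Noetherian, universally catenary, G-ring, J-2) with
fraction field K, and let L be a finite purely inseparable field extension of K. Then the integral
closure S of R in L is a discrete valuation ring, and S is a finite R-module. -/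
theorem result
    (R K L : Type u) [CommRing R] [IsDomain R] [IsDiscreteValuationRing R] (hR : EGA4.IsExcellent R)
    [Field K] [Algebra R K] [IsFractionRing R K] [Field L] [Algebra K L] [FiniteDimensional K L]
    [IsPurelyInseparable K L] [Algebra R L] [IsScalarTower R K L] :
    IsDiscreteValuationRing ↥(integralClosure R L) ∧ Module.Finite R ↥(integralClosure R L) := by
  classical
  haveI : IsNoetherianRing R := hR.1
  have hG : CAlg.IsGRing R := hR.2.2.1
  have hreg : CAlg.IsRegularHom R (EGA4.Cpl R) :=
    Groth.Agent.Lib.Helper14.IadicFibresReg.isRegularHom_adicCompletion R hG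
      (IsLocalRing.maximalIdeal R)
  have hred : EGA4.HasGeomReducedFormalFibres R := by
    intro q hq
    apply Groth.Agent.Lib.Helper14.GeomReducedFin.isGeometricallyReduced_of_forall_finite
    intro K' _ _ hfin
    haveI : IsRegularRing (TensorProduct q.ResidueField K' (q.Fiber (EGA4.Cpl R))) :=
      (hreg.2 q).2 K' hfin
    apply Groth.Agent.Lib.Helper14.GeomReducedFin.isReduced_of_forall_isDomain
    intro r hr
    haveI : IsRegularLocalRing (Localization.AtPrime r) := inferInstance
    exact Groth.Agent.Lib.Helper9.RegLocal.isDomain_of_isRegularLocalRing _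
  have hNag : CAlg.IsNagata R := Groth.Agent.S2657.result R hred
  have hN2 : Groth.Agent.Lib.Helper12.N2.N2' R :=
    Groth.Agent.Lib.Helper26.NagThmA.N2'_of_isNagata_domain R hNag
  have hinjRL : Function.Injective (algebraMap R L) := by
    rw [IsScalarTower.algebraMap_eq R K L]
    exact (algebraMap K L).injective.comp (IsFractionRing.injective R K)
  have hfin : Module.Finite R (integralClosure R L) :=
    hN2 L hinjRL (Groth.Agent.Lib.Helper12.N2.finGen_of_finiteDimensional R K L)
  refine ⟨?_, hfin⟩
  haveI : IsNoetherianRing (integralClosure R L) := IsNoetherianRing.of_finite R _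
  have hinjRS : Function.Injective (algebraMap R (integralClosure R L)) := by
    intro a b hab
    apply hinjRL
    exact congrArg Subtype.val hab
  haveI : ExpChar K (ringExpChar K) := inferInstance
  have hpow : ∀ x : integralClosure R L, ∃ n > 0,
      x ^ n ∈ (algebraMap R (integralClosure R L)).range := by
    intro x
    obtain ⟨n, y, hy⟩ := IsPurelyInseparable.pow_mem K (ringExpChar K) (x : L)
    have hqpos : 0 < ringExpChar K := expChar_pos K (ringExpChar K)
    have hint : IsIntegral R (algebraMap K L y) := by
      rw [hy]
      exact (x.2 : IsIntegral R (x : L)).pow _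
    have hinty : IsIntegral R y :=
      (isIntegral_algebraMap_iff (algebraMap K L).injective).1 hint
    obtain ⟨r, hr⟩ := IsIntegrallyClosed.isIntegral_iff.1 hinty
    refine ⟨ringExpChar K ^ n, pow_pos hqpos n, r, ?_⟩
    apply Subtype.ext
    show algebraMap R L r = ((x ^ (ringExpChar K ^ n) : integralClosure R L) : L)
    rw [IsScalarTower.algebraMap_apply R K L, hr, hy]
    rfl
  have hhomeo := PrimeSpectrum.isHomeomorph_comap (algebraMap R (integralClosure R L)) hpow (by
    rw [(RingHom.injective_iff_ker_eq_bot _).1 hinjRS]
    exact bot_le)
  have hspinj : Function.Injective (PrimeSpectrum.comap (algebraMap R (integralClosure R L))) :=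
    hhomeo.injective
  haveI : IsLocalRing (integralClosure R L) := by
    apply IsLocalRing.of_unique_max_ideal
    obtain ⟨M, hM⟩ := Ideal.exists_maximal (integralClosure R L)
    refine ⟨M, hM, fun M' hM' => ?_⟩
    haveI := hM
    haveI := hM'
    have h1 : (M.comap (algebraMap R (integralClosure R L))).IsMaximal :=
      Ideal.isMaximal_comap_of_isIntegral_of_isMaximal M
    have h2 : (M'.comap (algebraMap R (integralClosure R L))).IsMaximal :=
      Ideal.isMaximal_comap_of_isIntegral_of_isMaximal M'
    have h3 : M.comap (algebraMap R (integralClosure R L)) =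
        M'.comap (algebraMap R (integralClosure R L)) := by
      rw [IsLocalRing.eq_maximalIdeal h1, IsLocalRing.eq_maximalIdeal h2]
    have h4 : (⟨M', hM'.isPrime⟩ : PrimeSpectrum (integralClosure R L)) = ⟨M, hM.isPrime⟩ := by
      apply hspinj
      apply PrimeSpectrum.ext
      exact h3.symm
    exact congrArg PrimeSpectrum.asIdeal h4
  have hnf : ¬ IsField (integralClosure R L) := fun hf =>
    IsDiscreteValuationRing.not_isField R (isField_of_isIntegral_of_isField hinjRS hf)
  haveI : IsFractionRing (integralClosure R L) L :=
    integralClosure.isFractionRing_of_finite_extension K L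
  have hDed : IsDedekindDomain (integralClosure R L) := by
    rw [isDedekindDomain_iff (integralClosure R L) L]
    refine ⟨inferInstance, inferInstance, inferInstance, ?_⟩
    intro x hx
    have hxR : IsIntegral R x := isIntegral_trans x hx
    exact ⟨⟨x, hxR⟩, rfl⟩
  exact ((IsDiscreteValuationRing.TFAE (integralClosure R L) hnf).out 0 2).mpr hDed

end Groth.Agent.S17690
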