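import Groth.Statements.S17703
import Mathlib
import Groth.Agent.Lib.Helper26.DvrGRing
import Groth.Agent.Lib.Helper14.IadicFibresReg
import Groth.Agent.Lib.Helper14.GeomReducedFin
import Groth.Agent.Lib.Helper9.RegLocal
import Groth.Agent.S2620

set_option autoImplicit false
universe u
open Neron

namespace Groth.Agent.S17703

/-- Let R be a discrete valuation ring with fraction field K, R̂ its completion and K̂ = Frac R̂. Then R
is excellent (Noetherian, universally catenary, G-ring and J-2) if and only if K̂ is geometrically
reduced over K, i.e. K ⊆ K̂ is separable; here K̂ is written as the generic formal fibre κ(0) ⊗_R R̂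
of R, which is R̂ with the uniformizer inverted. -/
theorem result
    (R : Type u) [CommRing R] [IsDomain R] [IsDiscreteValuationRing R] :
    EGA4.IsExcellent R ↔
      Algebra.IsGeometricallyReduced (⊥ : Ideal R).ResidueField (EGA4.formalFibre R (⊥ : Ideal R)) := by
  constructor
  · intro hR
    haveI : IsNoetherianRing R := hR.1
    have hG : CAlg.IsGRing R := hR.2.2.1
    have hreg : CAlg.IsRegularHom R (EGA4.Cpl R) :=
      Groth.Agent.Lib.Helper14.IadicFibresReg.isRegularHom_adicCompletion R hG
        (IsLocalRing.maximalIdeal R)
    apply Groth.Agent.Lib.Helper14.GeomReducedFin.isGeometricallyReduced_of_forall_finite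
    intro K' _ _ hfin
    haveI : IsRegularRing (TensorProduct (⊥ : Ideal R).ResidueField K'
        ((⊥ : Ideal R).Fiber (EGA4.Cpl R))) := (hreg.2 ⊥).2 K' hfin
    apply Groth.Agent.Lib.Helper14.GeomReducedFin.isReduced_of_forall_isDomain
    intro r hr
    haveI : IsRegularLocalRing (Localization.AtPrime r) := inferInstance
    exact Groth.Agent.Lib.Helper9.RegLocal.isDomain_of_isRegularLocalRing _
  · intro h
    refine ⟨inferInstance,
      Groth.Agent.Lib.Helper26.DvrGRing.isUniversallyCatenary_of_isDedekindDomain R,
      Groth.Agent.Lib.Helper26.DvrGRing.isGRing_of_dvr R h, ?_⟩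
    apply Groth.Agent.S2620.result R
    · exact Set.Finite.subset (Set.finite_singleton (IsLocalRing.maximalIdeal R))
        (fun I hI => IsLocalRing.eq_maximalIdeal hI)
    · exact Groth.Agent.Lib.Helper26.DvrGRing.ringKrullDim_le_one R

end Groth.Agent.S17703
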