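import Groth.Statements.S17713
import Mathlib
import Groth.Agent.Lib.Helper25.ToddCoeff

set_option autoImplicit false
open MoretBailly

namespace Groth.Agent.S17713

/-- Let n ≥ 2 and d ≥ 1 be natural numbers and s an integer, and write B(x) = x/(1 - e^(-x)) for the
exponential generating series of the Bernoulli numbers B'_i (convention B'_1 = 1/2). For a natural
number p consider the product B(-dx)^(-1) B(-dpx) B(x)^(n+1) e^((dp-d-n-1+s)x) in ℚ[[x]] (the
Todd-class integrand of a Hirzebruch–Riemann–Roch computation) and let λ_n(p) be its coefficient of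
x^n. Then λ_n(p) is a polynomial in p whose two top terms are B'_n (dp)^n/n! and ((2s-d-n-1)/2)
B'_(n-1) (dp)^(n-1)/(n-1)!: there is a polynomial P over ℚ of degree at most n - 2 with λ_n(p) equal
to the sum of these two terms and P(p), for every p. -/
theorem result (n d : ℕ) (s : ℤ) (hn : 2 ≤ n) (hd : 1 ≤ d) :
    ∃ P : Polynomial ℚ, P.natDegree ≤ n - 2 ∧ ∀ p : ℕ,
      PowerSeries.coeff n ((PowerSeries.rescale (-(d : ℚ)) (bernoulli'PowerSeries ℚ))⁻¹ * PowerSeries.rescale (-((d : ℚ) * p)) (bernoulli'PowerSeries ℚ) * bernoulli'PowerSeries ℚ ^ (n + 1) * PowerSeries.rescale ((d : ℚ) * p - d - n - 1 + s) (PowerSeries.exp ℚ)) =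
        bernoulli' n * ((d : ℚ) * p) ^ n / (Nat.factorial n : ℚ) +
          (2 * (s : ℚ) - d - n - 1) / 2 * bernoulli' (n - 1) * ((d : ℚ) * p) ^ (n - 1) / (Nat.factorial (n - 1) : ℚ) +
          P.eval (p : ℚ) := by
  classical
  obtain ⟨B, hB⟩ : ∃ B : PowerSeries ℚ, B = bernoulli'PowerSeries ℚ := ⟨_, rfl⟩
  obtain ⟨E, hE⟩ : ∃ E : PowerSeries ℚ, E = PowerSeries.exp ℚ := ⟨_, rfl⟩
  rw [← hB, ← hE]
  -- reflection formula
  have hrefl : PowerSeries.rescale (-1 : ℚ) B * E = B := by
    have h1 : B * (E - 1) = PowerSeries.X * E := by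
      rw [hB, hE]; exact bernoulli'PowerSeries_mul_exp_sub_one ℚ
    have h2 := congrArg (PowerSeries.rescale (-1 : ℚ)) h1
    rw [map_mul, map_sub, map_one, map_mul, PowerSeries.rescale_neg_one_X] at h2
    have h3 : E * PowerSeries.rescale (-1 : ℚ) E = 1 := by
      rw [hE]; exact PowerSeries.exp_mul_exp_neg_eq_one
    have h4 : PowerSeries.rescale (-1 : ℚ) B * (E - 1) = PowerSeries.X := by
      linear_combination (-E) * h2 + (PowerSeries.rescale (-1 : ℚ) B + PowerSeries.X) * h3
    have hne : E - 1 ≠ 0 := by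
      intro h
      have := congrArg (PowerSeries.coeff 1) h
      rw [hE] at this
      simp [PowerSeries.coeff_exp, PowerSeries.coeff_one] at this
    apply mul_right_cancel₀ hne
    linear_combination E * h4 - h1
  have hrefl2 : ∀ a : ℚ, PowerSeries.rescale (-a) B * PowerSeries.rescale a E =
      PowerSeries.rescale a B := by
    intro a
    have := congrArg (PowerSeries.rescale a) hrefl
    rw [map_mul, PowerSeries.rescale_rescale, neg_one_mul] at this
    exact this
  -- the p-independent factor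
  obtain ⟨v, hv⟩ : ∃ v : ℚ, v = -(d : ℚ) - n - 1 + s := ⟨_, rfl⟩
  obtain ⟨G, hG⟩ : ∃ G : PowerSeries ℚ, G = (PowerSeries.rescale (-(d : ℚ)) B)⁻¹ * B ^ (n + 1) *
      PowerSeries.rescale v E := ⟨_, rfl⟩
  have hprod : ∀ p : ℕ, (PowerSeries.rescale (-(d : ℚ)) B)⁻¹ *
      PowerSeries.rescale (-((d : ℚ) * p)) B * B ^ (n + 1) *
      PowerSeries.rescale ((d : ℚ) * p - d - n - 1 + s) E =
      PowerSeries.rescale ((d : ℚ) * p) B * G := by
    intro p
    have h1 : PowerSeries.rescale ((d : ℚ) * p - d - n - 1 + s) E =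
        PowerSeries.rescale ((d : ℚ) * p) E * PowerSeries.rescale v E := by
      rw [hE, PowerSeries.exp_mul_exp_eq_exp_add, hv]
      congr 2
      ring
    rw [h1, hG]
    linear_combination ((PowerSeries.rescale (-(d : ℚ)) B)⁻¹ * B ^ (n + 1) *
      PowerSeries.rescale v E) * hrefl2 ((d : ℚ) * p)
  -- low coefficients of G
  have hB0 : PowerSeries.coeff 0 B = 1 := by rw [hB]; exact Groth.Agent.Lib.Helper25.Todd.coeff_bern_0
  have hB1 : PowerSeries.coeff 1 B = 1 / 2 := by rw [hB]; exact Groth.Agent.Lib.Helper25.Todd.coeff_bern_1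
  have hpow : ∀ k : ℕ, PowerSeries.coeff 0 (B ^ k) = 1 ∧ PowerSeries.coeff 1 (B ^ k) = (k : ℚ) / 2 := by
    intro k
    induction k with
    | zero => simp [PowerSeries.coeff_one]
    | succ k ih =>
      rw [pow_succ, Groth.Agent.Lib.Helper25.Todd.coeff_mul_0,
        Groth.Agent.Lib.Helper25.Todd.coeff_mul_1, ih.1, ih.2, hB0, hB1]
      constructor
      · ring
      · push_cast; ring
  have hI := Groth.Agent.Lib.Helper25.Todd.coeff_inv_low (PowerSeries.rescale (-(d : ℚ)) B)
    (by rw [PowerSeries.coeff_rescale, pow_zero, one_mul, hB0])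
  have hI0 := hI.1
  have hI1 : PowerSeries.coeff 1 (PowerSeries.rescale (-(d : ℚ)) B)⁻¹ = (d : ℚ) / 2 := by
    rw [hI.2.1, PowerSeries.coeff_rescale, hB1]; ring
  have hEv0 : PowerSeries.coeff 0 (PowerSeries.rescale v E) = 1 := by
    rw [PowerSeries.coeff_rescale, hE, Groth.Agent.Lib.Helper25.Todd.coeff_exp_0]; ring
  have hEv1 : PowerSeries.coeff 1 (PowerSeries.rescale v E) = v := by
    rw [PowerSeries.coeff_rescale, hE, Groth.Agent.Lib.Helper25.Todd.coeff_exp_1]; ring
  have hG0 : PowerSeries.coeff 0 G = 1 := by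
    rw [hG, Groth.Agent.Lib.Helper25.Todd.coeff_mul_0, Groth.Agent.Lib.Helper25.Todd.coeff_mul_0,
      hI0, (hpow (n + 1)).1, hEv0]
    ring
  have hG1 : PowerSeries.coeff 1 G = (2 * (s : ℚ) - d - n - 1) / 2 := by
    rw [hG, Groth.Agent.Lib.Helper25.Todd.coeff_mul_1, Groth.Agent.Lib.Helper25.Todd.coeff_mul_0,
      Groth.Agent.Lib.Helper25.Todd.coeff_mul_1, hI0, hI1, (hpow (n + 1)).1, (hpow (n + 1)).2,
      hEv0, hEv1, hv]
    push_cast
    ring
  -- the polynomial
  obtain ⟨m, rfl⟩ : ∃ m, n = m + 2 := ⟨n - 2, by omega⟩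
  refine ⟨∑ k ∈ Finset.range (m + 1), Polynomial.C ((d : ℚ) ^ k * PowerSeries.coeff k B *
      PowerSeries.coeff (m + 2 - k) G) * Polynomial.X ^ k, ?_, ?_⟩
  · apply Polynomial.natDegree_sum_le_of_forall_le
    intro k hk
    refine le_trans (Polynomial.natDegree_C_mul_X_pow_le _ _) ?_
    have := Finset.mem_range.1 hk
    omega
  · intro p
    rw [hprod p, PowerSeries.coeff_mul, Finset.Nat.sum_antidiagonal_eq_sum_range_succ_mk,
      Finset.sum_range_succ, Finset.sum_range_succ]
    have e1 : m + 2 - (m + 1) = 1 := by omega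
    have e2 : m + 2 - (m + 2) = 0 := by omega
    have e3 : m + 2 - 1 = m + 1 := by omega
    simp only [e1, e2, e3, hG0, hG1, PowerSeries.coeff_rescale, Polynomial.eval_finset_sum,
      Polynomial.eval_mul, Polynomial.eval_C, Polynomial.eval_pow, Polynomial.eval_X]
    have hBk : ∀ k, PowerSeries.coeff k B = bernoulli' k / (Nat.factorial k : ℚ) := by
      intro k
      rw [hB]
      simp [bernoulli'PowerSeries]
    rw [hBk (m + 1), hBk (m + 2)]
    have hsum : ∑ x ∈ Finset.range (m + 1), ((d : ℚ) * p) ^ x * PowerSeries.coeff x B *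
        PowerSeries.coeff (m + 2 - x) G = ∑ x ∈ Finset.range (m + 1), (d : ℚ) ^ x *
        PowerSeries.coeff x B * PowerSeries.coeff (m + 2 - x) G * (p : ℚ) ^ x := by
      apply Finset.sum_congr rfl
      intro x _
      rw [mul_pow]; ring
    rw [hsum]
    push_cast
    ring

end Groth.Agent.S17713
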