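import Groth.Statements.S17714
import Mathlib
import Groth.Agent.S17713
import Groth.Agent.Lib.Helper25.BernSign

set_option autoImplicit false
open MoretBailly

namespace Groth.Agent.S17714

/-- Let n ≥ 2 and d ≥ 1 be natural numbers with n congruent to 0 or 1 modulo 4, and s an integer with 2s
> n + d + 1. Write B(x) = x/(1 - e^(-x)) for the exponential generating series of the Bernoulli
numbers (B'_1 = 1/2). Then for all sufficiently large natural numbers p the coefficient of x^n in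
B(-dx)^(-1) B(-dpx) B(x)^(n+1) e^((dp-d-n-1+s)x) is strictly negative. (The published statement
asserts this for every n ≥ 2 not congruent to 2 modulo 4. For n congruent to 3 modulo 4 the
coefficient is a polynomial in p of degree n - 1 with leading coefficient (2s-d-n-1) B'_(n-1)
d^(n-1)/(2 (n-1)!) > 0, so it is eventually positive: for n = 3, d = 1, s = 3 it equals (p^2 -
1)/24. The residues 0 and 1 are exactly the ones the leading-term argument gives.) -/
theorem result (n d : ℕ) (s : ℤ) (hn : 2 ≤ n)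
    (hmod : n % 4 = 0 ∨ n % 4 = 1) (hd : 1 ≤ d) (hs : (n : ℤ) + d + 1 < 2 * s) :
    ∃ P : ℕ, ∀ p : ℕ, P ≤ p →
      PowerSeries.coeff n ((PowerSeries.rescale (-(d : ℚ)) (bernoulli'PowerSeries ℚ))⁻¹ * PowerSeries.rescale (-((d : ℚ) * p)) (bernoulli'PowerSeries ℚ) * bernoulli'PowerSeries ℚ ^ (n + 1) * PowerSeries.rescale ((d : ℚ) * p - d - n - 1 + s) (PowerSeries.exp ℚ)) < 0 := by
  obtain ⟨P, hPdeg, hP⟩ := Groth.Agent.S17713.result n d s hn hd
  obtain ⟨m, rfl⟩ : ∃ m, n = m + 2 := ⟨n - 2, by omega⟩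
  have e1 : m + 2 - 1 = m + 1 := by omega
  have e2 : m + 2 - 2 = m := by omega
  rw [e2] at hPdeg
  simp only [e1] at hP
  have hspos : 0 < (2 * (s : ℚ) - d - ((m + 2 : ℕ) : ℚ) - 1) / 2 := by
    have : (((m + 2 : ℕ) : ℤ) : ℚ) + (d : ℤ) + 1 < 2 * (s : ℤ) := by exact_mod_cast hs
    push_cast at this ⊢
    linarith
  have hdpos : (0 : ℚ) < d := by exact_mod_cast hd
  obtain ⟨c, hc_def⟩ : ∃ c : ℚ, c = bernoulli' (m + 2) * (d : ℚ) ^ (m + 2) /
      ((m + 2).factorial : ℚ) := ⟨_, rfl⟩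
  obtain ⟨b', hb_def⟩ : ∃ b' : ℚ, b' = (2 * (s : ℚ) - d - ((m + 2 : ℕ) : ℚ) - 1) / 2 *
      bernoulli' (m + 1) * (d : ℚ) ^ (m + 1) / ((m + 1).factorial : ℚ) := ⟨_, rfl⟩
  have hexpr : ∀ p : ℕ, bernoulli' (m + 2) * ((d : ℚ) * p) ^ (m + 2) / ((m + 2).factorial : ℚ) +
      (2 * (s : ℚ) - d - ((m + 2 : ℕ) : ℚ) - 1) / 2 * bernoulli' (m + 1) *
        ((d : ℚ) * p) ^ (m + 1) / ((m + 1).factorial : ℚ) + P.eval (p : ℚ) =
      c * (p : ℚ) ^ (m + 2) + (b' * (p : ℚ) ^ (m + 1) + P.eval (p : ℚ)) := by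
    intro p
    rw [hc_def, hb_def, mul_pow, mul_pow]
    ring
  rcases hmod with h0 | h1
  · obtain ⟨j, hj⟩ : ∃ j, m + 2 = 4 * j := ⟨(m + 2) / 4, by omega⟩
    have hj1 : 1 ≤ j := by omega
    have hB : bernoulli' (m + 2) < 0 := by
      rw [hj]; exact Groth.Agent.Lib.Helper25.BernSign.bernoulli'_four_mul_neg hj1
    have hc : c < 0 := by
      rw [hc_def]
      exact div_neg_of_neg_of_pos (mul_neg_of_neg_of_pos hB (by positivity)) (by positivity)
    obtain ⟨N, hN⟩ := Groth.Agent.Lib.Helper25.BernSign.eventually_neg_lead (m + 1) c hc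
      (Polynomial.C b' * Polynomial.X ^ (m + 1) + P)
      (Polynomial.natDegree_add_le_of_degree_le (Polynomial.natDegree_C_mul_X_pow_le _ _)
        (le_trans hPdeg (Nat.le_succ m)))
    refine ⟨N, fun p hp => ?_⟩
    rw [hP p, hexpr p]
    have := hN p hp
    simpa using this
  · obtain ⟨j, hj⟩ : ∃ j, m + 1 = 4 * j := ⟨(m + 1) / 4, by omega⟩
    have hj1 : 1 ≤ j := by omega
    have hB0 : bernoulli' (m + 2) = 0 :=
      bernoulli'_eq_zero_of_odd (by rw [Nat.odd_iff]; omega) (by omega)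
    have hB : bernoulli' (m + 1) < 0 := by
      rw [hj]; exact Groth.Agent.Lib.Helper25.BernSign.bernoulli'_four_mul_neg hj1
    have hc : c = 0 := by rw [hc_def, hB0]; ring
    have hb : b' < 0 := by
      rw [hb_def]
      exact div_neg_of_neg_of_pos (mul_neg_of_neg_of_pos (mul_neg_of_pos_of_neg hspos hB)
        (by positivity)) (by positivity)
    obtain ⟨N, hN⟩ := Groth.Agent.Lib.Helper25.BernSign.eventually_neg_lead m b' hb P hPdeg
    refine ⟨N, fun p hp => ?_⟩
    rw [hP p, hexpr p, hc, zero_mul, zero_add]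
    exact hN p hp

end Groth.Agent.S17714
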