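import Groth.Statements.S17715
import Mathlib
import Groth.Agent.Lib.Helper25.ToddCoeff

set_option autoImplicit false
open MoretBailly

namespace Groth.Agent.S17715

/-- Write B(x) = x/(1 - e^(-x)) for the exponential generating series of the Bernoulli numbers (B'_1 =
1/2). For all natural numbers d and p the coefficient of x^3 in B(-dx)^(-1) B(-dpx) B(x)^4
e^((dp-d-3)x), i.e. the case n = 3, s = 1 of the Todd-class integrand, equals
-d(d+2)(p-1)(dp-d-2)/24 = -(d^3+2d^2) p^2/24 + (d^3+3d^2+2d) p/12 - (d^3+4d^2+4d)/24. (The published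
closed form has the same p^2 and p coefficients but constant term -(d^3+2d^2+2d)/24; direct
expansion gives the value stated here, which vanishes at p = 1.) -/
theorem result (d p : ℕ) :
    PowerSeries.coeff 3 ((PowerSeries.rescale (-(d : ℚ)) (bernoulli'PowerSeries ℚ))⁻¹ * PowerSeries.rescale (-((d : ℚ) * p)) (bernoulli'PowerSeries ℚ) * bernoulli'PowerSeries ℚ ^ (4) * PowerSeries.rescale ((d : ℚ) * p - d - 3) (PowerSeries.exp ℚ)) =
      -((d : ℚ) * (d + 2) * (p - 1) * (d * p - d - 2)) / 24 := by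
  open Groth.Agent.Lib.Helper25.Todd in
  have hr0 : ∀ a : ℚ, PowerSeries.coeff 0 (PowerSeries.rescale a (bernoulli'PowerSeries ℚ)) = 1 := by
    intro a; rw [PowerSeries.coeff_rescale, coeff_bern_0]; simp
  have hr1 : ∀ a : ℚ, PowerSeries.coeff 1 (PowerSeries.rescale a (bernoulli'PowerSeries ℚ)) = a / 2 := by
    intro a; rw [PowerSeries.coeff_rescale, coeff_bern_1]; ring
  have hr2 : ∀ a : ℚ, PowerSeries.coeff 2 (PowerSeries.rescale a (bernoulli'PowerSeries ℚ)) = a ^ 2 / 12 := by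
    intro a; rw [PowerSeries.coeff_rescale, coeff_bern_2]; ring
  have hr3 : ∀ a : ℚ, PowerSeries.coeff 3 (PowerSeries.rescale a (bernoulli'PowerSeries ℚ)) = 0 := by
    intro a; rw [PowerSeries.coeff_rescale, coeff_bern_3]; ring
  have he0 : ∀ a : ℚ, PowerSeries.coeff 0 (PowerSeries.rescale a (PowerSeries.exp ℚ)) = 1 := by
    intro a; rw [PowerSeries.coeff_rescale, coeff_exp_0]; simp
  have he1 : ∀ a : ℚ, PowerSeries.coeff 1 (PowerSeries.rescale a (PowerSeries.exp ℚ)) = a := by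
    intro a; rw [PowerSeries.coeff_rescale, coeff_exp_1]; ring
  have he2 : ∀ a : ℚ, PowerSeries.coeff 2 (PowerSeries.rescale a (PowerSeries.exp ℚ)) = a ^ 2 / 2 := by
    intro a; rw [PowerSeries.coeff_rescale, coeff_exp_2]; ring
  have he3 : ∀ a : ℚ, PowerSeries.coeff 3 (PowerSeries.rescale a (PowerSeries.exp ℚ)) = a ^ 3 / 6 := by
    intro a; rw [PowerSeries.coeff_rescale, coeff_exp_3]; ring
  obtain ⟨hi0, hi1, hi2, hi3⟩ :=
    coeff_inv_low (PowerSeries.rescale (-(d : ℚ)) (bernoulli'PowerSeries ℚ)) (hr0 _)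
  rw [hr1, hr2] at hi2
  rw [hr1, hr2, hr3] at hi3
  rw [hr1] at hi1
  -- B^2 and B^4
  have hb2 : (bernoulli'PowerSeries ℚ) ^ 4 =
      ((bernoulli'PowerSeries ℚ) * (bernoulli'PowerSeries ℚ)) *
        ((bernoulli'PowerSeries ℚ) * (bernoulli'PowerSeries ℚ)) := by ring
  have b20 : PowerSeries.coeff 0 ((bernoulli'PowerSeries ℚ) * (bernoulli'PowerSeries ℚ)) = 1 := by
    rw [coeff_mul_0, coeff_bern_0]; norm_num
  have b21 : PowerSeries.coeff 1 ((bernoulli'PowerSeries ℚ) * (bernoulli'PowerSeries ℚ)) = 1 := by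
    rw [coeff_mul_1, coeff_bern_0, coeff_bern_1]; norm_num
  have b22 : PowerSeries.coeff 2 ((bernoulli'PowerSeries ℚ) * (bernoulli'PowerSeries ℚ)) = 5 / 12 := by
    rw [coeff_mul_2, coeff_bern_0, coeff_bern_1, coeff_bern_2]; norm_num
  have b23 : PowerSeries.coeff 3 ((bernoulli'PowerSeries ℚ) * (bernoulli'PowerSeries ℚ)) = 1 / 12 := by
    rw [coeff_mul_3, coeff_bern_0, coeff_bern_1, coeff_bern_2, coeff_bern_3]; norm_num
  have b40 : PowerSeries.coeff 0 ((bernoulli'PowerSeries ℚ) ^ 4) = 1 := by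
    rw [hb2, coeff_mul_0, b20]; norm_num
  have b41 : PowerSeries.coeff 1 ((bernoulli'PowerSeries ℚ) ^ 4) = 2 := by
    rw [hb2, coeff_mul_1, b20, b21]; norm_num
  have b42 : PowerSeries.coeff 2 ((bernoulli'PowerSeries ℚ) ^ 4) = 11 / 6 := by
    rw [hb2, coeff_mul_2, b20, b21, b22]; norm_num
  have b43 : PowerSeries.coeff 3 ((bernoulli'PowerSeries ℚ) ^ 4) = 1 := by
    rw [hb2, coeff_mul_3, b20, b21, b22, b23]; norm_num
  simp only [coeff_mul_3, coeff_mul_2, coeff_mul_1, coeff_mul_0, hi0, hi1, hi2, hi3, hr0, hr1, hr2, hr3,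
    he0, he1, he2, he3, b40, b41, b42, b43]
  ring

end Groth.Agent.S17715
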