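import Groth.Statements.S17718
import Mathlib
import Groth.Agent.S17714

set_option autoImplicit false
open MoretBailly

namespace Groth.Agent.S17718

/-- Let n ≥ 2 and d ≥ 1 be natural numbers with n not congruent to 2 modulo 4, and write B(x) = x/(1 -
e^(-x)) for the exponential generating series of the Bernoulli numbers (B'_1 = 1/2). Then there is
an integer s ≥ 1 such that for all sufficiently large natural numbers p the coefficient of x^n in
B(-dx)^(-1) B(-dpx) B(x)^(n+1) e^((dp-d-n-1+s)x) is strictly negative. (The published argument fixes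
any s with 2s > n + d + 1, which gives the sign only for n congruent to 0 or 1 modulo 4; for n
congruent to 3 modulo 4 the choice s = 1 makes the leading coefficient (2s-d-n-1) B'_(n-1)
d^(n-1)/(2 (n-1)!) negative instead.) -/
theorem result (n d : ℕ) (hn : 2 ≤ n)
    (hmod : n % 4 ≠ 2) (hd : 1 ≤ d) :
    ∃ s : ℤ, 1 ≤ s ∧ ∃ P : ℕ, ∀ p : ℕ, P ≤ p →
      PowerSeries.coeff n ((PowerSeries.rescale (-(d : ℚ)) (bernoulli'PowerSeries ℚ))⁻¹ * PowerSeries.rescale (-((d : ℚ) * p)) (bernoulli'PowerSeries ℚ) * bernoulli'PowerSeries ℚ ^ (n + 1) * PowerSeries.rescale ((d : ℚ) * p - d - n - 1 + s) (PowerSeries.exp ℚ)) < 0 := by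
  have hcases : n % 4 = 0 ∨ n % 4 = 1 ∨ n % 4 = 3 := by omega
  rcases hcases with h0 | h1 | h3
  · refine ⟨(n : ℤ) + d + 1, by omega, ?_⟩
    exact Groth.Agent.S17714.result n d ((n : ℤ) + d + 1) hn (Or.inl h0) hd (by omega)
  · refine ⟨(n : ℤ) + d + 1, by omega, ?_⟩
    exact Groth.Agent.S17714.result n d ((n : ℤ) + d + 1) hn (Or.inr h1) hd (by omega)
  · refine ⟨1, le_refl _, ?_⟩
    obtain ⟨P, hPdeg, hP⟩ := Groth.Agent.S17713.result n d 1 hn hd
    obtain ⟨m, rfl⟩ : ∃ m, n = m + 2 := ⟨n - 2, by omega⟩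
    have e1 : m + 2 - 1 = m + 1 := by omega
    have e2 : m + 2 - 2 = m := by omega
    rw [e2] at hPdeg
    simp only [e1] at hP
    have hdpos : (0 : ℚ) < d := by exact_mod_cast hd
    have hsneg : (2 * ((1 : ℤ) : ℚ) - d - ((m + 2 : ℕ) : ℚ) - 1) / 2 < 0 := by
      push_cast
      have : (0 : ℚ) ≤ m := by positivity
      linarith
    obtain ⟨c, hc_def⟩ : ∃ c : ℚ, c = bernoulli' (m + 2) * (d : ℚ) ^ (m + 2) /
        ((m + 2).factorial : ℚ) := ⟨_, rfl⟩
    obtain ⟨b', hb_def⟩ : ∃ b' : ℚ, b' = (2 * ((1 : ℤ) : ℚ) - d - ((m + 2 : ℕ) : ℚ) - 1) / 2 *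
        bernoulli' (m + 1) * (d : ℚ) ^ (m + 1) / ((m + 1).factorial : ℚ) := ⟨_, rfl⟩
    have hexpr : ∀ p : ℕ, bernoulli' (m + 2) * ((d : ℚ) * p) ^ (m + 2) / ((m + 2).factorial : ℚ) +
        (2 * ((1 : ℤ) : ℚ) - d - ((m + 2 : ℕ) : ℚ) - 1) / 2 * bernoulli' (m + 1) *
          ((d : ℚ) * p) ^ (m + 1) / ((m + 1).factorial : ℚ) + P.eval (p : ℚ) =
        c * (p : ℚ) ^ (m + 2) + (b' * (p : ℚ) ^ (m + 1) + P.eval (p : ℚ)) := by
      intro p
      rw [hc_def, hb_def, mul_pow, mul_pow]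
      ring
    obtain ⟨j, hj⟩ : ∃ j, m + 1 = 4 * j + 2 := ⟨(m + 1) / 4, by omega⟩
    have hB0 : bernoulli' (m + 2) = 0 :=
      bernoulli'_eq_zero_of_odd (by rw [Nat.odd_iff]; omega) (by omega)
    have hB : 0 < bernoulli' (m + 1) := by
      rw [hj]; exact Groth.Agent.Lib.Helper25.BernSign.bernoulli'_four_mul_add_two_pos j
    have hc : c = 0 := by rw [hc_def, hB0]; ring
    have hb : b' < 0 := by
      rw [hb_def]
      exact div_neg_of_neg_of_pos (mul_neg_of_neg_of_pos (mul_neg_of_neg_of_pos hsneg hB)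
        (by positivity)) (by positivity)
    obtain ⟨N, hN⟩ := Groth.Agent.Lib.Helper25.BernSign.eventually_neg_lead m b' hb P hPdeg
    refine ⟨N, fun p hp => ?_⟩
    rw [hP p, hexpr p, hc, zero_mul, zero_add]
    exact hN p hp

end Groth.Agent.S17718
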