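import Groth.Statements.S17720
import Groth.Agent.Lib.Helper7.PowSerCRing
-- import your own Groth.Agent.* helpers here

set_option autoImplicit false
universe u
open CAlg

namespace Groth.Agent.S17720

section Node

open MvPowerSeries

variable {A : Type u} [CommRing A]

/-- weight `i - j` of the monomial `x^i y^j` -/
noncomputable def wt (n : Fin 2 →₀ ℕ) : A := (n 0 : A) - (n 1 : A)

/-- the Euler vector field `x ∂/∂x - y ∂/∂y` on `A[[x,y]]` -/
noncomputable def E0 : MvPowerSeries (Fin 2) A →ₗ[A] MvPowerSeries (Fin 2) A where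
  toFun F := (fun n => wt n * coeff n F : MvPowerSeries (Fin 2) A)
  map_add' F G := by
    ext n
    show wt n * coeff n (F + G) = wt n * coeff n F + wt n * coeff n G
    rw [map_add, mul_add]
  map_smul' c F := by
    ext n
    show wt n * coeff n (c • F) = c • (wt n * coeff n F)
    rw [map_smul, smul_eq_mul, smul_eq_mul]
    ring

theorem coeff_E0 (n : Fin 2 →₀ ℕ) (F : MvPowerSeries (Fin 2) A) :
    coeff n (E0 F) = wt n * coeff n F := rfl

theorem E0_mul (F G : MvPowerSeries (Fin 2) A) : E0 (F * G) = F * E0 G + E0 F * G := by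
  ext n
  rw [coeff_E0, map_add, coeff_mul, coeff_mul, coeff_mul, Finset.mul_sum,
    ← Finset.sum_add_distrib]
  refine Finset.sum_congr rfl fun p hp => ?_
  rw [coeff_E0, coeff_E0]
  have hn : p.1 + p.2 = n := Finset.HasAntidiagonal.mem_antidiagonal.mp hp
  have hw : (wt n : A) = wt p.1 + wt p.2 := by
    rw [← hn]
    simp only [wt, Finsupp.add_apply, Nat.cast_add]
    ring
  rw [hw]
  ring

theorem E0_X0 : E0 (X 0 : MvPowerSeries (Fin 2) A) = X 0 := by
  ext n
  rw [coeff_E0, coeff_X]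
  split_ifs with h
  · subst h
    simp [wt]
  · simp

theorem E0_X1 : E0 (X 1 : MvPowerSeries (Fin 2) A) = - X 1 := by
  ext n
  rw [coeff_E0, map_neg, coeff_X]
  split_ifs with h
  · subst h
    simp [wt]
  · simp

theorem E0_C (c : A) : E0 (C c : MvPowerSeries (Fin 2) A) = 0 := by
  ext n
  rw [coeff_E0, coeff_C, map_zero]
  split_ifs with h
  · subst h
    simp [wt]
  · simp

variable (γ : A)

/-- the ideal `(xy - γ)` -/
noncomputable abbrev rel : Ideal (MvPowerSeries (Fin 2) A) :=
  Ideal.span {(X 0 * X 1 - C γ : MvPowerSeries (Fin 2) A)}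

/-- the node algebra `A[[x,y]]/(xy - γ)` -/
abbrev N : Type u := MvPowerSeries (Fin 2) A ⧸ rel γ

theorem E0_rel : E0 (X 0 * X 1 - C γ : MvPowerSeries (Fin 2) A) = 0 := by
  rw [map_sub, E0_mul, E0_X0, E0_X1, E0_C]
  ring

theorem E0_mem {F : MvPowerSeries (Fin 2) A} (hF : F ∈ rel γ) : E0 F ∈ rel γ := by
  obtain ⟨G, rfl⟩ := Ideal.mem_span_singleton'.mp hF
  rw [E0_mul, E0_rel, mul_zero, zero_add]
  exact Ideal.mul_mem_left _ _ (Ideal.mem_span_singleton_self _)

/-- the augmentation `N γ → A/γ` -/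
noncomputable def eps : N γ →+* A ⧸ Ideal.span {γ} :=
  Ideal.Quotient.lift (rel γ)
    ((Ideal.Quotient.mk (Ideal.span {γ})).comp (constantCoeff (σ := Fin 2) (R := A))) (by
    intro a ha
    have hle : rel γ ≤ RingHom.ker
        ((Ideal.Quotient.mk (Ideal.span {γ})).comp (constantCoeff (σ := Fin 2) (R := A))) := by
      rw [Ideal.span_le, Set.singleton_subset_iff, SetLike.mem_coe, RingHom.mem_ker,
        RingHom.comp_apply, map_sub, map_mul, constantCoeff_X, zero_mul, constantCoeff_C,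
        zero_sub, map_neg, Ideal.Quotient.eq_zero_iff_mem.mpr (Ideal.mem_span_singleton_self γ),
        neg_zero]
    exact hle ha)

theorem eps_mk (F : MvPowerSeries (Fin 2) A) :
    eps γ (Ideal.Quotient.mk (rel γ) F) =
      Ideal.Quotient.mk (Ideal.span {γ}) (constantCoeff F) := rfl

theorem algebraMap_eq_mk_C (c : A) :
    algebraMap A (N γ) c = Ideal.Quotient.mk (rel γ) (C c) := by
  rw [← Ideal.Quotient.mk_algebraMap, MvPowerSeries.algebraMap_apply,
    Algebra.algebraMap_self_apply]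

theorem x_mul_y : (Ideal.Quotient.mk (rel γ) (X 0) * Ideal.Quotient.mk (rel γ) (X 1) : N γ) =
    algebraMap A (N γ) γ := by
  rw [algebraMap_eq_mk_C, ← map_mul, Ideal.Quotient.eq]
  exact Ideal.mem_span_singleton_self _

theorem constantCoeff_mem (P Q G : MvPowerSeries (Fin 2) A)
    (h : G * (X 0 * X 1 - C γ) = X 0 * Q + X 1 * P) :
    constantCoeff P ∈ Ideal.span {γ} ∧ constantCoeff Q ∈ Ideal.span {γ} := by
  constructor
  · have h1 := congrArg (coeff (Finsupp.single (1 : Fin 2) 1)) h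
    rw [mul_sub, map_sub, map_add] at h1
    have a1 : coeff (Finsupp.single (1 : Fin 2) 1) (G * (X 0 * X 1)) = 0 :=
      (X_dvd_iff (s := (0 : Fin 2))).mp (Dvd.intro (G * X 1) (by ring)) _
        (by simp)
    have a2 : coeff (Finsupp.single (1 : Fin 2) 1) (X 0 * Q) = 0 :=
      (X_dvd_iff (s := (0 : Fin 2))).mp (Dvd.intro Q rfl) _ (by simp)
    have a3 : coeff (Finsupp.single (1 : Fin 2) 1) (X 1 * P) = constantCoeff P := by
      have := coeff_add_monomial_mul (Finsupp.single (1 : Fin 2) 1) 0 P (1 : A)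
      rwa [add_zero, one_mul, ← X_def, coeff_zero_eq_constantCoeff_apply] at this
    rw [a1, a2, a3, coeff_mul_C, zero_sub, zero_add] at h1
    rw [← h1]
    exact neg_mem (Ideal.mul_mem_left _ _ (Ideal.mem_span_singleton_self γ))
  · have h1 := congrArg (coeff (Finsupp.single (0 : Fin 2) 1)) h
    rw [mul_sub, map_sub, map_add] at h1
    have a1 : coeff (Finsupp.single (0 : Fin 2) 1) (G * (X 0 * X 1)) = 0 :=
      (X_dvd_iff (s := (1 : Fin 2))).mp (Dvd.intro (G * X 0) (by ring)) _
        (by simp)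
    have a2 : coeff (Finsupp.single (0 : Fin 2) 1) (X 1 * P) = 0 :=
      (X_dvd_iff (s := (1 : Fin 2))).mp (Dvd.intro P rfl) _ (by simp)
    have a3 : coeff (Finsupp.single (0 : Fin 2) 1) (X 0 * Q) = constantCoeff Q := by
      have := coeff_add_monomial_mul (Finsupp.single (0 : Fin 2) 1) 0 Q (1 : A)
      rwa [add_zero, one_mul, ← X_def, coeff_zero_eq_constantCoeff_apply] at this
    rw [a1, a2, a3, coeff_mul_C, zero_sub, add_zero] at h1
    rw [← h1]
    exact neg_mem (Ideal.mul_mem_left _ _ (Ideal.mem_span_singleton_self γ))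

/-- every `A`-linear vector field on the node algebra vanishes at the singular locus `x = y = 0` -/
theorem eps_D_eq_zero (D : N γ → N γ)
    (hadd : ∀ a b, D (a + b) = D a + D b)
    (hmul : ∀ a b, D (a * b) = a * D b + b * D a)
    (halg : ∀ c : A, D (algebraMap A (N γ) c) = 0) (f : N γ) :
    eps γ (D f) = 0 := by
  have h0 : Ideal.Quotient.mk (rel γ) (X 0) * D (Ideal.Quotient.mk (rel γ) (X 1)) +
      Ideal.Quotient.mk (rel γ) (X 1) * D (Ideal.Quotient.mk (rel γ) (X 0)) = 0 := by
    rw [← hmul, x_mul_y, halg]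
  obtain ⟨P, hP⟩ := Ideal.Quotient.mk_surjective (D (Ideal.Quotient.mk (rel γ) (X 0)))
  obtain ⟨Q, hQ⟩ := Ideal.Quotient.mk_surjective (D (Ideal.Quotient.mk (rel γ) (X 1)))
  have h1 : X 0 * Q + X 1 * P ∈ rel γ := by
    rw [← Ideal.Quotient.eq_zero_iff_mem, map_add, map_mul, map_mul, hP, hQ]
    exact h0
  obtain ⟨G, hG⟩ := Ideal.mem_span_singleton'.mp h1
  obtain ⟨hPc, hQc⟩ := constantCoeff_mem γ P Q G hG
  have ex : eps γ (Ideal.Quotient.mk (rel γ) (X 0)) = 0 := by
    rw [eps_mk, constantCoeff_X, map_zero]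
  have ey : eps γ (Ideal.Quotient.mk (rel γ) (X 1)) = 0 := by
    rw [eps_mk, constantCoeff_X, map_zero]
  have eDx : eps γ (D (Ideal.Quotient.mk (rel γ) (X 0))) = 0 := by
    rw [← hP, eps_mk]
    exact Ideal.Quotient.eq_zero_iff_mem.mpr hPc
  have eDy : eps γ (D (Ideal.Quotient.mk (rel γ) (X 1))) = 0 := by
    rw [← hQ, eps_mk]
    exact Ideal.Quotient.eq_zero_iff_mem.mpr hQc
  have e1 : ∀ g : N γ, eps γ (D (Ideal.Quotient.mk (rel γ) (X 0) * g)) = 0 := by
    intro g
    rw [hmul, map_add, map_mul, map_mul, ex, eDx, zero_mul, mul_zero, add_zero]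
  have e2 : ∀ g : N γ, eps γ (D (Ideal.Quotient.mk (rel γ) (X 1) * g)) = 0 := by
    intro g
    rw [hmul, map_add, map_mul, map_mul, ey, eDy, zero_mul, mul_zero, add_zero]
  obtain ⟨F, rfl⟩ := Ideal.Quotient.mk_surjective f
  obtain ⟨h, -, hF⟩ := Groth.Agent.Lib.Helper7.PowSerCRing.decomp (⊤ : Ideal A) 0 F
    (Groth.Agent.Lib.Helper7.PowSerCRing.mem_W_top 1 F)
  rw [Fin.sum_univ_two] at hF
  have hdec : Ideal.Quotient.mk (rel γ) F = algebraMap A (N γ) (constantCoeff F) +
      (Ideal.Quotient.mk (rel γ) (X 0) * Ideal.Quotient.mk (rel γ) (h 0) +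
        Ideal.Quotient.mk (rel γ) (X 1) * Ideal.Quotient.mk (rel γ) (h 1)) := by
    rw [algebraMap_eq_mk_C, ← map_mul, ← map_mul, ← map_add, ← map_add]
    exact congrArg _ hF
  rw [hdec, hadd, hadd, halg, zero_add, map_add, e1, e2, add_zero]

/-- the Euler vector field on the node algebra -/
noncomputable def Ebar (z : N γ) : N γ := Ideal.Quotient.mk (rel γ) (E0 (Quotient.out z))

theorem Ebar_mk (F : MvPowerSeries (Fin 2) A) :
    Ebar γ (Ideal.Quotient.mk (rel γ) F) = Ideal.Quotient.mk (rel γ) (E0 F) := by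
  unfold Ebar
  rw [Ideal.Quotient.eq, ← map_sub]
  apply E0_mem
  rw [← Ideal.Quotient.eq, Ideal.Quotient.mk_out]

theorem Ebar_add (a b : N γ) : Ebar γ (a + b) = Ebar γ a + Ebar γ b := by
  obtain ⟨F, rfl⟩ := Ideal.Quotient.mk_surjective a
  obtain ⟨G, rfl⟩ := Ideal.Quotient.mk_surjective b
  rw [← map_add, Ebar_mk, Ebar_mk, Ebar_mk, map_add, map_add]

theorem Ebar_mul (a b : N γ) : Ebar γ (a * b) = a * Ebar γ b + b * Ebar γ a := by
  obtain ⟨F, rfl⟩ := Ideal.Quotient.mk_surjective a
  obtain ⟨G, rfl⟩ := Ideal.Quotient.mk_surjective b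
  rw [← map_mul, Ebar_mk, Ebar_mk, Ebar_mk, E0_mul, map_add, map_mul, map_mul]
  ring

theorem Ebar_algebraMap (c : A) : Ebar γ (algebraMap A (N γ) c) = 0 := by
  rw [algebraMap_eq_mk_C, Ebar_mk, E0_C, map_zero]

theorem Ebar_x : Ebar γ (Ideal.Quotient.mk (rel γ) (X 0)) = Ideal.Quotient.mk (rel γ) (X 0) := by
  rw [Ebar_mk, E0_X0]

/-- the ideal `(α)` is an invariant of the `A`-algebra `A[[x,y]]/(xy - α)`: the vector field
`x ∂/∂x - y ∂/∂y` shows that `x` is a value of a vector field, vector fields vanish on the singular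
locus `x = y = 0`, and `α = xy`. -/
theorem key (α β : A) (φ : N α ≃ₐ[A] N β) : α ∈ Ideal.span {β} := by
  let D : N β → N β := fun z => φ (Ebar α (φ.symm z))
  have hadd : ∀ a b, D (a + b) = D a + D b := by
    intro a b
    show φ (Ebar α (φ.symm (a + b))) = φ (Ebar α (φ.symm a)) + φ (Ebar α (φ.symm b))
    rw [map_add, Ebar_add, map_add]
  have hmul : ∀ a b, D (a * b) = a * D b + b * D a := by
    intro a b
    show φ (Ebar α (φ.symm (a * b))) = a * φ (Ebar α (φ.symm b)) + b * φ (Ebar α (φ.symm a))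
    rw [map_mul, Ebar_mul, map_add, map_mul, map_mul, AlgEquiv.apply_symm_apply,
      AlgEquiv.apply_symm_apply]
  have halg : ∀ c : A, D (algebraMap A (N β) c) = 0 := by
    intro c
    show φ (Ebar α (φ.symm (algebraMap A (N β) c))) = 0
    rw [AlgEquiv.commutes, Ebar_algebraMap, map_zero]
  have hx : D (φ (Ideal.Quotient.mk (rel α) (X 0))) = φ (Ideal.Quotient.mk (rel α) (X 0)) := by
    show φ (Ebar α (φ.symm (φ (Ideal.Quotient.mk (rel α) (X 0))))) = _
    rw [AlgEquiv.symm_apply_apply, Ebar_x]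
  have h1 : eps β (φ (Ideal.Quotient.mk (rel α) (X 0))) = 0 := by
    rw [← hx]
    exact eps_D_eq_zero β D hadd hmul halg _
  have h2 : algebraMap A (N β) α =
      φ (Ideal.Quotient.mk (rel α) (X 0)) * φ (Ideal.Quotient.mk (rel α) (X 1)) := by
    rw [← map_mul, x_mul_y, AlgEquiv.commutes]
  have h3 : Ideal.Quotient.mk (Ideal.span {β}) α = 0 := by
    have := congrArg (eps β) h2
    rwa [algebraMap_eq_mk_C, eps_mk, constantCoeff_C, map_mul, h1, zero_mul] at this
  exact Ideal.Quotient.eq_zero_iff_mem.mp h3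

end Node

open MvPowerSeries IsLocalRing in
/-- Let A be a Noetherian local ring and α, β two elements of its maximal ideal. If the quotient of the
power series ring in two variables over A by xy − α is isomorphic, as an A-algebra, to the quotient
by xy − β, then αA = βA. (The published statement allows any local ring A; it is taken Noetherian
here, the case in which an algebra isomorphism between these complete local rings is continuous for
their adic topologies.) -/
theorem result
    (A : Type u) [CommRing A] [IsLocalRing A] [IsNoetherianRing A]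
    (α β : A) (hα : α ∈ maximalIdeal A) (hβ : β ∈ maximalIdeal A)
    (φ : (MvPowerSeries (Fin 2) A ⧸ Ideal.span {(X 0 * X 1 - C α : MvPowerSeries (Fin 2) A)}) ≃ₐ[A] (MvPowerSeries (Fin 2) A ⧸ Ideal.span {(X 0 * X 1 - C β : MvPowerSeries (Fin 2) A)})) :
    Ideal.span {α} = Ideal.span {β} := by
  apply le_antisymm
  · exact (Ideal.span_singleton_le_iff_mem _).mpr (key α β φ)
  · exact (Ideal.span_singleton_le_iff_mem _).mpr (key β α φ.symm)

end Groth.Agent.S17720
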