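import Groth.Statements.S17721
import Mathlib.RingTheory.PowerSeries.NoZeroDivisors
import Mathlib.RingTheory.DiscreteValuationRing.Basic
import Mathlib.RingTheory.Multiplicity
import Mathlib.RingTheory.PrincipalIdealDomain
import Mathlib.RingTheory.UniqueFactorizationDomain.Basic
import Mathlib.RingTheory.UniqueFactorizationDomain.Multiplicity

set_option autoImplicit false
universe u
open CAlg

namespace Groth.Agent.S17721

open PowerSeries in
theorem exists_factor {R : Type u} [CommRing R] [IsDomain R] [IsDiscreteValuationRing R] (ϖ : R)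
    (hϖ : Irreducible ϖ) (h : PowerSeries R) (hh : h ≠ 0) :
    ∃ (s : ℕ) (h₀ : PowerSeries R), h = C (ϖ ^ s) * h₀ ∧ ∃ j, ¬ ϖ ∣ coeff j h₀ := by
  classical
  obtain ⟨j₀, hj₀⟩ : ∃ j, coeff j h ≠ 0 := by
    by_contra hc
    push Not at hc
    exact hh (PowerSeries.ext hc)
  have hex : ∃ s, ¬ ∀ j, ϖ ^ (s + 1) ∣ coeff j h := by
    obtain ⟨n, hn⟩ := FiniteMultiplicity.def.mp (FiniteMultiplicity.of_not_isUnit hϖ.not_isUnit hj₀)
    exact ⟨n, fun hall => hn (hall j₀)⟩
  obtain ⟨s, hs, hmin⟩ : ∃ s, (¬ ∀ j, ϖ ^ (s + 1) ∣ coeff j h) ∧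
      ∀ m < s, ∀ j, ϖ ^ (m + 1) ∣ coeff j h := by
    refine ⟨Nat.find hex, Nat.find_spec hex, fun m hm => ?_⟩
    have := Nat.find_min hex hm
    exact not_not.mp this
  have hdiv : ∀ j, ϖ ^ s ∣ coeff j h := by
    rcases Nat.eq_zero_or_pos s with h0 | hpos
    · intro j
      rw [h0, pow_zero]
      exact one_dvd _
    · obtain ⟨m, rfl⟩ : ∃ m, s = m + 1 := ⟨s - 1, by omega⟩
      exact hmin m (by omega)
  choose q hq using hdiv
  refine ⟨s, mk q, ?_, ?_⟩
  · ext j
    rw [coeff_C_mul, coeff_mk]
    exact hq j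
  · by_contra hc
    push Not at hc
    apply hs
    intro j
    obtain ⟨r, hr⟩ := hc j
    rw [coeff_mk] at hr
    rw [hq j, hr, pow_succ]
    exact ⟨r, by ring⟩

open Polynomial IsLocalRing in
/-- Let R be a complete discrete valuation ring with fraction field K, and f a polynomial over R with
non-zero constant term a₀ such that a₀ does not divide some coefficient of f of positive degree
(equivalently, the Newton polygon of f has a side of negative slope). Let b be the power series over
K with b · f = a₀, the expansion of the geometric series in 1 − f/a₀. Then the valuations of the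
coefficients b_j are not bounded below: for every non-zero c in R there is an index j with c · b_j
outside R. -/
theorem result
    (R : Type u) [CommRing R] [IsDomain R] [IsDiscreteValuationRing R]
    [IsAdicComplete (maximalIdeal R) R]
    (K : Type u) [Field K] [Algebra R K] [IsFractionRing R K]
    (f : R[X]) (h0 : f.coeff 0 ≠ 0) (hslope : ∃ i : ℕ, 0 < i ∧ ¬ (f.coeff 0 ∣ f.coeff i))
    (b : PowerSeries K)
    (hb : b * ((f.map (algebraMap R K) : K[X]) : PowerSeries K) = PowerSeries.C (algebraMap R K (f.coeff 0))) :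
    ∀ c : R, c ≠ 0 → ∃ j : ℕ, algebraMap R K c * PowerSeries.coeff j b ∉ (algebraMap R K).range := by
  intro c hc
  by_contra hcon
  push Not at hcon
  have hcon' : ∀ j, ∃ r : R, algebraMap R K r = algebraMap R K c * PowerSeries.coeff j b :=
    fun j => hcon j
  choose g hg using hcon'
  obtain ⟨ϖ, hϖ⟩ := IsDiscreteValuationRing.exists_irreducible R
  obtain ⟨G, hG⟩ : ∃ G : PowerSeries R, G = PowerSeries.mk g := ⟨_, rfl⟩
  have hinjK : Function.Injective (algebraMap R K) := IsFractionRing.injective R K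
  have hinj : Function.Injective (PowerSeries.map (algebraMap R K)) := by
    intro x y hxy
    ext j
    apply hinjK
    rw [← PowerSeries.coeff_map, ← PowerSeries.coeff_map, hxy]
  have hmapG : PowerSeries.map (algebraMap R K) G = PowerSeries.C (algebraMap R K c) * b := by
    ext j
    rw [PowerSeries.coeff_map, hG, PowerSeries.coeff_mk, PowerSeries.coeff_C_mul]
    exact hg j
  have hGf : G * (f : PowerSeries R) = PowerSeries.C (c * f.coeff 0) := by
    apply hinj
    rw [map_mul, hmapG, PowerSeries.map_C, ← Polynomial.polynomial_map_coe, mul_assoc, hb,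
      ← map_mul, ← map_mul]
  have ha₀c : c * f.coeff 0 ≠ 0 := mul_ne_zero hc h0
  have hG0 : G ≠ 0 := by
    intro h
    rw [h, zero_mul] at hGf
    have := congrArg (PowerSeries.coeff 0) hGf
    rw [map_zero, PowerSeries.coeff_zero_C] at this
    exact ha₀c this.symm
  have hf0 : (f : PowerSeries R) ≠ 0 := by
    intro h
    have := congrArg (PowerSeries.coeff 0) h
    rw [Polynomial.coeff_coe, map_zero] at this
    exact h0 this
  obtain ⟨s, G₀, hG₀, jG, hjG⟩ := exists_factor ϖ hϖ G hG0
  obtain ⟨t, f₀, hf₀, jf, hjf⟩ := exists_factor ϖ hϖ (f : PowerSeries R) hf0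
  have hprod : PowerSeries.C (ϖ ^ (s + t)) * (G₀ * f₀) = PowerSeries.C (c * f.coeff 0) := by
    rw [← hGf, hG₀, hf₀, pow_add, map_mul]
    ring
  have hcoef : ∀ n, 0 < n → PowerSeries.coeff n (G₀ * f₀) = 0 := by
    intro n hn
    have := congrArg (PowerSeries.coeff n) hprod
    rw [PowerSeries.coeff_C_mul, PowerSeries.coeff_C, if_neg (by omega)] at this
    exact (mul_eq_zero.mp this).resolve_left (pow_ne_zero _ hϖ.ne_zero)
  have hprime : (Ideal.span {ϖ}).IsPrime :=
    (Ideal.span_singleton_prime hϖ.ne_zero).mpr hϖ.prime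
  haveI : IsDomain (R ⧸ Ideal.span {ϖ}) := Ideal.Quotient.isDomain _
  have hred : ∀ (x : PowerSeries R) (j : ℕ), ¬ ϖ ∣ PowerSeries.coeff j x →
      PowerSeries.map (Ideal.Quotient.mk (Ideal.span {ϖ})) x ≠ 0 := by
    intro x j hj h
    have := congrArg (PowerSeries.coeff j) h
    rw [PowerSeries.coeff_map, map_zero, Ideal.Quotient.eq_zero_iff_mem,
      Ideal.mem_span_singleton] at this
    exact hj this
  have hmul_ne : PowerSeries.map (Ideal.Quotient.mk (Ideal.span {ϖ})) G₀ *
      PowerSeries.map (Ideal.Quotient.mk (Ideal.span {ϖ})) f₀ ≠ 0 :=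
    mul_ne_zero (hred G₀ jG hjG) (hred f₀ jf hjf)
  have hC : G₀ * f₀ = PowerSeries.C (PowerSeries.coeff 0 (G₀ * f₀)) := by
    ext n
    rcases Nat.eq_zero_or_pos n with h | h
    · rw [h, PowerSeries.coeff_zero_C]
    · rw [hcoef n h, PowerSeries.coeff_C, if_neg (by omega)]
  have hw : Ideal.Quotient.mk (Ideal.span {ϖ}) (PowerSeries.coeff 0 (G₀ * f₀)) ≠ 0 := by
    intro h
    apply hmul_ne
    rw [← map_mul, hC, PowerSeries.map_C, h, map_zero]
  have hndvd0 : ¬ ϖ ∣ PowerSeries.coeff 0 f₀ := by
    intro hd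
    apply hw
    rw [PowerSeries.coeff_zero_eq_constantCoeff_apply, map_mul, map_mul]
    have : Ideal.Quotient.mk (Ideal.span {ϖ}) (PowerSeries.constantCoeff f₀) = 0 := by
      rw [Ideal.Quotient.eq_zero_iff_mem, Ideal.mem_span_singleton]
      rwa [PowerSeries.coeff_zero_eq_constantCoeff_apply] at hd
    rw [this, mul_zero]
  have hu : IsUnit (PowerSeries.coeff 0 f₀) := by
    by_contra hnu
    apply hndvd0
    have hmem : PowerSeries.coeff 0 f₀ ∈ IsLocalRing.maximalIdeal R :=
      (IsLocalRing.mem_maximalIdeal _).mpr hnu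
    rw [hϖ.maximalIdeal_eq, Ideal.mem_span_singleton] at hmem
    exact hmem
  have hcoefff : ∀ i, f.coeff i = ϖ ^ t * PowerSeries.coeff i f₀ := by
    intro i
    have := congrArg (PowerSeries.coeff i) hf₀
    rwa [Polynomial.coeff_coe, PowerSeries.coeff_C_mul] at this
  obtain ⟨i, hi, hndvd⟩ := hslope
  apply hndvd
  rw [hcoefff i, hcoefff 0]
  exact (IsUnit.mul_right_dvd hu).mpr (Dvd.intro _ rfl)

end Groth.Agent.S17721
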