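import Mathlib
import Groth.Statements.S17722


set_option autoImplicit false
universe u
open CAlg

namespace Groth.Agent.S17722

/-- Let R → R' be a faithfully flat ring map between Noetherian integrally closed local domains, and p
an ideal of R. If the ideal pR' generated by the image of p is principal, then p is principal. (The
second assertion of the published lemma, descent of unique factorization, is not part of this row.) -/
theorem result
    (R R' : Type u) [CommRing R] [CommRing R'] [IsDomain R] [IsDomain R']
    [IsNoetherianRing R] [IsNoetherianRing R'] [IsLocalRing R] [IsLocalRing R']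
    [IsIntegrallyClosed R] [IsIntegrallyClosed R']
    [Algebra R R'] [Module.FaithfullyFlat R R']
    (p : Ideal R) (hp : (p.map (algebraMap R R')).IsPrincipal) :
    p.IsPrincipal := by
  classical
  set φ := algebraMap R R' with hφ
  obtain ⟨a₁, hmap'⟩ := hp
  have hmap : Ideal.map φ p = Ideal.span {a₁} := hmap'
  by_cases ha₁0 : a₁ = 0
  · have h1 := Ideal.comap_map_eq_self_of_faithfullyFlat (B := R') p
    have h2 := Ideal.comap_map_eq_self_of_faithfullyFlat (B := R') (⊥ : Ideal R)
    have : p = ⊥ := by
      rw [← h1, ← h2, Ideal.map_bot]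
      show Ideal.comap φ (Ideal.map φ p) = Ideal.comap φ ⊥
      rw [hmap, ha₁0]; simp
    rw [this]; exact ⟨0, by simp⟩
  obtain ⟨s, hsp, hs⟩ : ∃ s ∈ p, Ideal.span {φ s} = Ideal.span {a₁} := by
    by_contra hcon
    push Not at hcon
    have hall : ∀ s ∈ p, φ s ∈ Ideal.span {a₁} * IsLocalRing.maximalIdeal R' := by
      intro s hs
      have h1 : φ s ∈ Ideal.span {a₁} := by rw [← hmap]; exact Ideal.mem_map_of_mem _ hs
      obtain ⟨t, ht⟩ := Ideal.mem_span_singleton.mp h1
      rw [Ideal.mem_span_singleton_mul]
      refine ⟨t, ?_, ht.symm⟩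
      by_contra htm
      have htu : IsUnit t := by
        rwa [IsLocalRing.mem_maximalIdeal, mem_nonunits_iff, not_not] at htm
      apply hcon s hs
      rw [ht]; exact Ideal.span_singleton_mul_right_unit htu a₁
    have hle : Ideal.span {a₁} ≤ Ideal.span {a₁} * IsLocalRing.maximalIdeal R' := by
      have hle' : Ideal.map φ p ≤ Ideal.span {a₁} * IsLocalRing.maximalIdeal R' :=
        Ideal.map_le_iff_le_comap.mpr (fun s hs => hall s hs)
      rwa [hmap] at hle'
    have hmem : a₁ ∈ Ideal.span {a₁} * IsLocalRing.maximalIdeal R' :=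
      hle (Ideal.mem_span_singleton_self a₁)
    obtain ⟨m, hm, hm'⟩ := Ideal.mem_span_singleton_mul.mp hmem
    have hm1 : m = 1 := by
      have : a₁ * m = a₁ * 1 := by rw [hm', mul_one]
      exact mul_left_cancel₀ ha₁0 this
    rw [hm1] at hm
    exact (Ideal.ne_top_iff_one _).mp (IsLocalRing.maximalIdeal.isMaximal R').ne_top hm
  have hps : p = Ideal.span {s} := by
    have h1 := Ideal.comap_map_eq_self_of_faithfullyFlat (B := R') p
    have h2 := Ideal.comap_map_eq_self_of_faithfullyFlat (B := R') (Ideal.span {s})
    rw [← h1, ← h2, Ideal.map_span, Set.image_singleton]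
    show Ideal.comap φ (Ideal.map φ p) = Ideal.comap φ (Ideal.span {φ s})
    rw [hmap, ← hs]
  exact ⟨s, hps⟩

end Groth.Agent.S17722
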