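import Groth.Statements.S17723
import Mathlib

set_option autoImplicit false
universe u
open LabGraph

namespace Groth.Agent.S17723

theorem aux {V E : Type u} [Fintype V] [Fintype E] [DecidableEq V] [DecidableEq E]
    (ends : E → V × V) (l : E → ℕ) (L : ℕ) (hL : ∀ e, l e ∣ L) (hL0 : 0 < L) :
    ∀ q n : ℕ, 0 < n → n * q = L → ∀ f : V → ℤ, LabGraph.IsCartier ends l f →
    (∀ v, (n:ℤ) ∣ f v) →
    f ∈ Submodule.span ℤ {g : V → ℤ | ∃ n : ℕ, 0 < n ∧ (∀ v, (n : ℤ) ∣ g v) ∧
      ∀ e, ¬ (l e ∣ n) → g (ends e).1 = g (ends e).2} := by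
  intro q
  induction q using Nat.strong_induction_on with
  | _ q ih =>
  intro n hn hnq f hf hdiv
  by_cases hq1 : q = 1
  · subst hq1
    rw [mul_one] at hnq
    subst hnq
    exact Submodule.subset_span ⟨n, hn, hdiv, fun e he => absurd (hL e) he⟩
  have hq0 : q ≠ 0 := by
    rintro rfl
    rw [mul_zero] at hnq; omega
  obtain ⟨p, hp, hpq⟩ := Nat.exists_prime_and_dvd hq1
  obtain ⟨j, M, hpM, hqe⟩ := Nat.exists_eq_pow_mul_and_not_dvd hq0 p hp.ne_one
  have hj : j ≠ 0 := by
    rintro rfl
    rw [pow_zero, one_mul] at hqe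
    exact hpM (hqe ▸ hpq)
  have hM0 : 0 < M := by
    rcases Nat.eq_zero_or_pos M with h | h
    · rw [h, mul_zero] at hqe; exact absurd hqe hq0
    · exact h
  have hp0 : 0 < p := hp.pos
  have hpj2 : 2 ≤ p ^ j := hp.two_le.trans (Nat.le_self_pow hj p)
  have hcop : Nat.Coprime (p ^ j) M :=
    Nat.Coprime.pow_left j ((Nat.Prime.coprime_iff_not_dvd hp).2 hpM)
  obtain ⟨α, β, hαβ⟩ := Nat.isCoprime_iff_coprime.2 hcop
  obtain ⟨S, hS⟩ : ∃ S : Submodule ℤ (V → ℤ), S = Submodule.span ℤ {g : V → ℤ | ∃ n : ℕ, 0 < n ∧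
      (∀ v, (n : ℤ) ∣ g v) ∧ ∀ e, ¬ (l e ∣ n) → g (ends e).1 = g (ends e).2} := ⟨_, rfl⟩
  rw [← hS]
  -- term 1
  have h1 : ((p ^ j : ℕ) : ℤ) • f ∈ S := by
    rw [hS]
    refine ih M ?_ (n * p ^ j) (by positivity) (by rw [← hnq, hqe]; ring) _ ?_ ?_
    · rw [hqe]; nlinarith
    · intro e
      simp only [Pi.smul_apply, smul_eq_mul, ← mul_sub]
      exact Dvd.dvd.mul_left (hf e) _
    · intro v
      simp only [Pi.smul_apply, smul_eq_mul]
      push_cast
      rw [mul_comm]
      exact mul_dvd_mul dvd_rfl (hdiv v)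
  -- term 2
  have h2 : ((M : ℕ) : ℤ) • f ∈ S := by
    have hdiv' : ∀ v, ∃ c, f v = (n:ℤ) * c := hdiv
    choose h hh using hdiv'
    let r : V → V → Prop := fun u v =>
      ∃ e, ¬ (l e ∣ n * M) ∧ (ends e = (u, v) ∨ ends e = (v, u))
    have key : ∀ u v, Relation.EqvGen r u v → (p:ℤ) ∣ h u - h v := by
      intro u v huv
      induction huv with
      | rel u v huv =>
        obtain ⟨e, hne, hends⟩ := huv
        have hc : (l e : ℤ) ∣ (n:ℤ) * (h u - h v) := by
          have := hf e
          rcases hends with h' | h'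
          · rw [h'] at this; simp only at this
            rw [hh u, hh v, ← mul_sub] at this; exact this
          · rw [h'] at this; simp only at this
            rw [hh u, hh v, ← mul_sub] at this
            have := (dvd_neg (a := (l e : ℤ))).2 this
            rwa [← mul_neg, neg_sub] at this
        by_contra hpd
        apply hne
        have hD : ¬ p ∣ (h u - h v).natAbs := fun hh' => hpd (Int.natCast_dvd.2 hh')
        have hc' : l e ∣ n * (h u - h v).natAbs := by
          have := Int.natCast_dvd.1 hc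
          rwa [Int.natAbs_mul, Int.natAbs_natCast] at this
        have hcopD : Nat.Coprime (p ^ j) (h u - h v).natAbs :=
          Nat.Coprime.pow_left j ((Nat.Prime.coprime_iff_not_dvd hp).2 hD)
        have hLe : l e ∣ n * (p ^ j * M) := by rw [← hqe, hnq]; exact hL e
        have hg : l e ∣ Nat.gcd (n * (h u - h v).natAbs) (n * (p ^ j * M)) := Nat.dvd_gcd hc' hLe
        rw [Nat.gcd_mul_left, Nat.Coprime.gcd_mul_left_cancel_right M hcopD] at hg
        exact hg.trans (Nat.mul_dvd_mul_left n (Nat.gcd_dvd_right _ _))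
      | refl u => simp
      | symm u v _ ih' =>
        have := (dvd_neg (a := (p : ℤ))).2 ih'; rwa [neg_sub] at this
      | trans u v w _ _ ih1 ih2 =>
        have := dvd_add ih1 ih2; rwa [sub_add_sub_cancel] at this
    let st : Setoid V := Relation.EqvGen.setoid r
    let h' : V → ℤ := fun v => h (Quotient.out (Quotient.mk st v))
    have h'_eq : ∀ u v, r u v → h' u = h' v := by
      intro u v huv
      show h (Quotient.out (Quotient.mk st u)) = h (Quotient.out (Quotient.mk st v))
      have : Quotient.mk st u = Quotient.mk st v := Quotient.sound (Relation.EqvGen.rel _ _ huv)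
      rw [this]
    have h'_cong : ∀ v, (p:ℤ) ∣ h v - h' v := by
      intro v
      have h0 : Relation.EqvGen r (Quotient.out (Quotient.mk st v)) v :=
        Quotient.exact (Quotient.out_eq (Quotient.mk st v))
      have := key _ _ h0
      have := (dvd_neg (a := (p : ℤ))).2 this; rwa [neg_sub] at this
    have hg : (fun v => ((n * M : ℕ) : ℤ) * h' v) ∈ S := by
      rw [hS]
      refine Submodule.subset_span ⟨n * M, by positivity, fun v => dvd_mul_right _ _, ?_⟩
      intro e he
      show ((n * M : ℕ) : ℤ) * h' (ends e).1 = ((n * M : ℕ) : ℤ) * h' (ends e).2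
      rw [h'_eq (ends e).1 (ends e).2 ⟨e, he, Or.inl rfl⟩]
    have hf3 : (fun v => ((n * M : ℕ) : ℤ) * (h v - h' v)) ∈ S := by
      rw [hS]
      obtain ⟨j', rfl⟩ := Nat.exists_eq_succ_of_ne_zero hj
      refine ih (p ^ j') ?_ (n * M * p) (by positivity) ?_ _ ?_ ?_
      · rw [hqe, pow_succ]
        have h5 : 0 < p ^ j' := by positivity
        have h6 : 2 ≤ p := hp.two_le
        have h3 : 1 < p * M := by nlinarith
        calc p ^ j' = p ^ j' * 1 := (mul_one _).symm
          _ < p ^ j' * (p * M) := (Nat.mul_lt_mul_left h5).2 h3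
          _ = p ^ j' * p * M := by ring
      · rw [← hnq, hqe, pow_succ]; ring
      · intro e
        show (l e : ℤ) ∣ ((n * M : ℕ) : ℤ) * (h (ends e).1 - h' (ends e).1)
          - ((n * M : ℕ) : ℤ) * (h (ends e).2 - h' (ends e).2)
        by_cases he : l e ∣ n * M
        · have : (l e : ℤ) ∣ ((n * M : ℕ) : ℤ) := Int.natCast_dvd_natCast.2 he
          exact dvd_sub (Dvd.dvd.mul_right this _) (Dvd.dvd.mul_right this _)
        · rw [h'_eq _ _ ⟨e, he, Or.inl rfl⟩]
          have := hf e
          rw [hh, hh (ends e).2, ← mul_sub] at this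
          have e2 : ((n * M : ℕ):ℤ) * (h (ends e).1 - h' (ends e).2)
              - ((n * M : ℕ):ℤ) * (h (ends e).2 - h' (ends e).2)
              = (M:ℤ) * ((n:ℤ) * (h (ends e).1 - h (ends e).2)) := by push_cast; ring
          rw [e2]; exact Dvd.dvd.mul_left this _
      · intro v
        show ((n * M * p : ℕ) : ℤ) ∣ ((n * M : ℕ):ℤ) * (h v - h' v)
        push_cast
        exact mul_dvd_mul dvd_rfl (h'_cong v)
    have : ((M:ℕ):ℤ) • f = (fun v => ((n * M : ℕ) : ℤ) * (h v - h' v))
        + (fun v => ((n * M : ℕ) : ℤ) * h' v) := by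
      funext v
      simp only [Pi.smul_apply, Pi.add_apply, smul_eq_mul, hh v]; push_cast; ring
    rw [this]; exact S.add_mem hf3 hg
  have : f = α • (((p ^ j : ℕ) : ℤ) • f) + β • (((M : ℕ) : ℤ) • f) := by
    rw [smul_smul, smul_smul, ← add_smul, hαβ, one_smul]
  rw [this]; exact S.add_mem (S.smul_mem _ h1) (S.smul_mem _ h2)


/-- Let G be a finite connected multigraph with endpoint map ends and edge labels l taking positive
integer values. We say g : V → ℤ is elementary-Cartier if, for some integer n ≥ 1, all values of g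
are multiples of n and, for each edge whose label fails to divide n, g agrees at its two endpoints
(equivalently, once the edges with label dividing n are removed, g takes a single value on each
connected piece of what remains). Then every Cartier function f (for each edge, the label divides
the difference of the values of f at its endpoints) lies in the ℤ-span of the elementary-Cartier
functions. -/
theorem result
    {V E : Type u} [Fintype V] [Fintype E] [DecidableEq V] [DecidableEq E]
    (ends : E → V × V) (l : E → ℕ) (hl : ∀ e, 0 < l e) (hconn : LabGraph.Connected ends)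
    (f : V → ℤ) (hf : LabGraph.IsCartier ends l f) :
    f ∈ Submodule.span ℤ {g : V → ℤ | ∃ n : ℕ, 0 < n ∧ (∀ v, (n : ℤ) ∣ g v) ∧
      ∀ e, ¬ (l e ∣ n) → g (ends e).1 = g (ends e).2} := by
  refine aux ends l (∏ e, l e) (fun e => Finset.dvd_prod_of_mem l (Finset.mem_univ e))
    (Finset.prod_pos (fun e _ => hl e)) (∏ e, l e) 1 one_pos (one_mul _) f hf (fun v => ?_)
  simp

end Groth.Agent.S17723
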