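import Groth.Statements.S17725
import Mathlib

set_option autoImplicit false
universe u
open SpecSp

namespace Groth.Agent.S17725

open AlgebraicGeometry in
/-- In a connected Noetherian scheme any two points p, q are linked by a finite chain of points p = x₁,
…, xₙ = q such that for each i one of x_i, x_{i+1} is a specialization of the other; equivalently, p
and q are related by the equivalence relation generated by the specialization relation. -/
theorem result
    (X : Scheme.{u}) [IsNoetherian X] [ConnectedSpace X] (p q : X) :
    Relation.EqvGen (fun x y : X => x ⤳ y) p q := by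
  classical
  -- every point is related to every point of its irreducible component
  have hcomp : ∀ x y : X, y ∈ irreducibleComponent x →
      Relation.EqvGen (fun x y : X => x ⤳ y) x y := by
    intro x y hy
    obtain ⟨η, hη⟩ := QuasiSober.sober (isIrreducible_irreducibleComponent (x := x))
      isClosed_irreducibleComponent
    have h1 : η ⤳ x := hη.specializes mem_irreducibleComponent
    have h2 : η ⤳ y := hη.specializes hy
    exact Relation.EqvGen.trans _ _ _ (Relation.EqvGen.symm _ _ (Relation.EqvGen.rel _ _ h1))
      (Relation.EqvGen.rel _ _ h2)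
  -- closedness of unions of irreducible components
  have hclosed : ∀ P : X → Prop, IsClosed (⋃ x ∈ {x | P x}, irreducibleComponent x) := by
    intro P
    have hfin : (irreducibleComponents X).Finite :=
      TopologicalSpace.NoetherianSpace.finite_irreducibleComponents
    have : (⋃ x ∈ {x | P x}, irreducibleComponent x) =
        ⋃₀ {Z | Z ∈ irreducibleComponents X ∧ ∃ x, P x ∧ Z = irreducibleComponent x} := by
      ext y
      simp only [Set.mem_iUnion, Set.mem_ofPred_eq, Set.mem_sUnion]
      constructor
      · rintro ⟨x, hx, hy⟩
        exact ⟨_, ⟨irreducibleComponent_mem_irreducibleComponents x, x, hx, rfl⟩, hy⟩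
      · rintro ⟨Z, ⟨-, x, hx, rfl⟩, hy⟩
        exact ⟨x, hx, hy⟩
    rw [this, Set.sUnion_eq_biUnion]
    refine Set.Finite.isClosed_biUnion (hfin.subset (fun Z hZ => hZ.1)) ?_
    rintro Z ⟨hZ, -⟩
    exact isClosed_of_mem_irreducibleComponents Z hZ
  set C : Set X := {x | Relation.EqvGen (fun x y : X => x ⤳ y) p x} with hC
  have hC1 : C = ⋃ x ∈ {x | Relation.EqvGen (fun x y : X => x ⤳ y) p x}, irreducibleComponent x := by
    ext y
    simp only [Set.mem_iUnion, Set.mem_ofPred_eq, hC]
    constructor
    · intro hy; exact ⟨y, hy, mem_irreducibleComponent⟩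
    · rintro ⟨x, hx, hy⟩
      exact Relation.EqvGen.trans _ _ _ hx (hcomp x y hy)
  have hC2 : Cᶜ = ⋃ x ∈ {x | ¬ Relation.EqvGen (fun x y : X => x ⤳ y) p x},
      irreducibleComponent x := by
    ext y
    simp only [Set.mem_iUnion, Set.mem_ofPred_eq, hC, Set.mem_compl_iff]
    constructor
    · intro hy; exact ⟨y, hy, mem_irreducibleComponent⟩
    · rintro ⟨x, hx, hy⟩ hpy
      exact hx (Relation.EqvGen.trans _ _ _ hpy (Relation.EqvGen.symm _ _ (hcomp x y hy)))
  have hclopen : IsClopen C := by
    constructor
    · rw [hC1]; exact hclosed _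
    · rw [← isClosed_compl_iff, hC2]; exact hclosed _
  have huniv : C = Set.univ :=
    IsClopen.eq_univ hclopen ⟨p, Relation.EqvGen.refl p⟩
  have : q ∈ C := by rw [huniv]; trivial
  exact this

end Groth.Agent.S17725
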