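import Groth.Statements.S17726
import Mathlib

set_option autoImplicit false
universe u
open CAlg

namespace Groth.Agent.S17726

/-- Let f and g be non-zero-divisors of a commutative ring A, not both units; think of them as local
equations, at a point of the union of the supports, of two effective Cartier divisors E and D. If
the ideals generated by g^{m₁} and f^{n₁} coincide, and likewise for g^{m₂} and f^{n₂}, then m₁ n₂ =
m₂ n₁. So all pairs (m, n) with m D = n E locally at the point are proportional, and the saturation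
of the monoid they form is generated by a single element. -/
theorem result
    (A : Type u) [CommRing A] (f g : A)
    (hf : f ∈ nonZeroDivisors A) (hg : g ∈ nonZeroDivisors A) (hfg : ¬ (IsUnit f ∧ IsUnit g))
    (m₁ n₁ m₂ n₂ : ℕ)
    (h₁ : Ideal.span {g ^ m₁} = Ideal.span {f ^ n₁})
    (h₂ : Ideal.span {g ^ m₂} = Ideal.span {f ^ n₂}) :
    m₁ * n₂ = m₂ * n₁ := by
  -- associated-ness from equality of principal ideals
  have hdvd : ∀ {x y : A}, Ideal.span {x} = Ideal.span {y} → x ∣ y ∧ y ∣ x := by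
    intro x y h
    constructor
    · rw [← Ideal.mem_span_singleton, h]; exact Ideal.mem_span_singleton_self y
    · rw [← Ideal.mem_span_singleton, ← h]; exact Ideal.mem_span_singleton_self x
  -- if f^a ∣ f^b ... with a > b then f is a unit
  have hunit : ∀ (x : A), x ∈ nonZeroDivisors A → ∀ a b : ℕ, b < a → x ^ a ∣ x ^ b → IsUnit x := by
    intro x hx a b hab hdiv
    obtain ⟨c, hc⟩ := hdiv
    obtain ⟨e, rfl⟩ := Nat.exists_eq_add_of_lt hab
    have hxb : x ^ b ∈ nonZeroDivisors A := pow_mem hx b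
    have h1 : x ^ b * (x ^ (e + 1) * c) = x ^ b * 1 := by
      rw [mul_one, ← mul_assoc, ← pow_add]
      exact hc.symm
    have h2 : x ^ (e + 1) * c = 1 := (mul_cancel_left_mem_nonZeroDivisors hxb).1 h1
    have h3 : IsUnit (x ^ (e + 1)) := IsUnit.of_mul_eq_one _ h2
    exact (isUnit_pow_iff (Nat.succ_ne_zero e)).1 h3
  by_contra hne
  obtain ⟨h1a, h1b⟩ := hdvd h₁
  obtain ⟨h2a, h2b⟩ := hdvd h₂
  -- g^(m₁ m₂) associated to both f^(n₁ m₂) and f^(n₂ m₁)
  have e1 : f ^ (n₁ * m₂) ∣ f ^ (n₂ * m₁) := by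
    calc f ^ (n₁ * m₂) = (f ^ n₁) ^ m₂ := pow_mul f n₁ m₂
      _ ∣ (g ^ m₁) ^ m₂ := pow_dvd_pow_of_dvd h1b m₂
      _ = (g ^ m₂) ^ m₁ := by rw [← pow_mul, ← pow_mul, mul_comm]
      _ ∣ (f ^ n₂) ^ m₁ := pow_dvd_pow_of_dvd h2a m₁
      _ = f ^ (n₂ * m₁) := (pow_mul f n₂ m₁).symm
  have e2 : f ^ (n₂ * m₁) ∣ f ^ (n₁ * m₂) := by
    calc f ^ (n₂ * m₁) = (f ^ n₂) ^ m₁ := pow_mul f n₂ m₁
      _ ∣ (g ^ m₂) ^ m₁ := pow_dvd_pow_of_dvd h2b m₁
      _ = (g ^ m₁) ^ m₂ := by rw [← pow_mul, ← pow_mul, mul_comm]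
      _ ∣ (f ^ n₁) ^ m₂ := pow_dvd_pow_of_dvd h1a m₂
      _ = f ^ (n₁ * m₂) := (pow_mul f n₁ m₂).symm
  have hne' : n₁ * m₂ ≠ n₂ * m₁ := by
    intro h; apply hne; rw [mul_comm m₁ n₂, mul_comm m₂ n₁]; exact h.symm
  have hfu : IsUnit f := by
    rcases Nat.lt_or_gt_of_ne hne' with hlt | hgt
    · exact hunit f hf _ _ hlt e2
    · exact hunit f hf _ _ hgt e1
  -- now g is a unit
  have hgu : IsUnit g := by
    have hm : m₁ ≠ 0 ∨ m₂ ≠ 0 := by
      by_contra hcon
      rw [not_or, not_not, not_not] at hcon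
      apply hne; rw [hcon.1, hcon.2]; simp
    rcases hm with hm | hm
    · have : IsUnit (g ^ m₁) := isUnit_of_dvd_unit h1a (hfu.pow n₁)
      exact (isUnit_pow_iff hm).1 this
    · have : IsUnit (g ^ m₂) := isUnit_of_dvd_unit h2a (hfu.pow n₂)
      exact (isUnit_pow_iff hm).1 this
  exact hfg ⟨hfu, hgu⟩

end Groth.Agent.S17726
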