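import Groth.Statements.S17728
import Groth.Agent.Lib.Helper27.SecEtA
import Groth.Agent.Lib.Helper14.FlatOpen.Stalk

set_option autoImplicit false
universe u
open Neron

namespace Groth.Agent.S17728

open CategoryTheory AlgebraicGeometry in
/-- Let S be a Noetherian scheme, U ⊆ S a dense open subscheme and f : X → S a morphism locally of
finite type which restricts to an isomorphism over U and for which the preimage of U is
schematically dense in X. For a point x of X the following are equivalent: f is étale on some open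
neighbourhood of x; f is flat at x, that is, the local ring of X at x is flat over the local ring of
S at f(x); some open neighbourhood V of f(x) carries a section σ of f over V passing through x. -/
theorem result
    {X S : Scheme.{u}} [IsNoetherian S] (f : X ⟶ S) [LocallyOfFiniteType f]
    (U : S.Opens) (hU : Dense (U : Set S))
    (hiso : IsIso (morphismRestrict f U)) (hdense : CInt.IsSchematicallyDense (f ⁻¹ᵁ U))
    (x : X) :
    List.TFAE [
      ∃ W : X.Opens, x ∈ W ∧ Etale (W.ι ≫ f),
      (f.stalkMap x).hom.Flat,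
      ∃ (V : S.Opens) (hV : f.base x ∈ V) (σ : (V : Scheme.{u}) ⟶ X),
        σ ≫ f = V.ι ∧ σ.base ⟨f.base x, hV⟩ = x] := by
  classical
  have := hiso
  have : IsLocallyNoetherian X := LocallyOfFiniteType.isLocallyNoetherian f
  -- the mono property over `U`
  have hmonoW : ∀ (W : X.Opens) {T : Scheme.{u}} (a b : T ⟶ (W : Scheme.{u})),
      a ≫ (W.ι ≫ f) = b ≫ (W.ι ≫ f) → (∀ t, (W.ι ≫ f) (a t) ∈ U) → a = b := by
    intro W T a b hab ha
    have := Groth.Agent.Lib.Helper27.SecEtA.eq_of_comp_eq_of_isIso_restrict f U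
      (a ≫ W.ι) (b ≫ W.ι) (by simpa [CategoryTheory.Category.assoc] using hab)
      (fun t => by simpa using ha t)
    exact (CategoryTheory.cancel_mono _).mp this
  tfae_have 1 → 2 := by
    rintro ⟨W, hxW, hW⟩
    let x' : ↥(W : Scheme.{u}) := ⟨x, hxW⟩
    have h1 := AlgebraicGeometry.Flat.stalkMap (W.ι ≫ f) x'
    rw [AlgebraicGeometry.Scheme.Hom.stalkMap_comp] at h1
    have hxx : W.ι x' = x := rfl
    have h2 : (f.stalkMap (W.ι x')).hom =
        ((CategoryTheory.inv (W.ι.stalkMap x')).hom).comp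
          (f.stalkMap (W.ι x') ≫ W.ι.stalkMap x').hom := by
      rw [← CommRingCat.hom_comp, CategoryTheory.Category.assoc, CategoryTheory.IsIso.hom_inv_id,
        CategoryTheory.Category.comp_id]
    rw [← hxx, h2]
    refine RingHom.Flat.comp h1 (RingHom.Flat.of_bijective ?_)
    exact (CategoryTheory.ConcreteCategory.isIso_iff_bijective _).mp inferInstance
  tfae_have 2 → 1 := by
    intro hfl
    have hopen := Groth.Agent.Lib.Helper14.FlatOpen.isOpen_flat_stalkMap f
    let W : X.Opens := ⟨_, hopen⟩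
    have hxW : x ∈ W := hfl
    refine ⟨W, hxW, ?_⟩
    have : AlgebraicGeometry.Flat (W.ι ≫ f) := by
      rw [AlgebraicGeometry.Flat.iff_flat_stalkMap]
      intro w
      rw [AlgebraicGeometry.Scheme.Hom.stalkMap_comp]
      have hw : (f.stalkMap (W.ι w)).hom.Flat := w.2
      show ((W.ι.stalkMap w).hom.comp (f.stalkMap (W.ι w)).hom).Flat
      refine RingHom.Flat.comp hw (RingHom.Flat.of_bijective ?_)
      exact (CategoryTheory.ConcreteCategory.isIso_iff_bijective _).mp inferInstance
    exact Groth.Agent.Lib.Helper27.SecEtA.etale_of_flat_of_mono_over (W.ι ≫ f) U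
      (W.ι ⁻¹ᵁ (f ⁻¹ᵁ U))
      (Groth.Agent.Lib.Helper27.SchDomImm.isSchematicallyDense_preimage_of_flat W.ι _ hdense)
      (le_of_eq rfl) (hmonoW W)
  tfae_have 1 → 3 := by
    rintro ⟨W, hxW, hW⟩
    have hex : ∃ W' : X.Opens, IsAffineOpen W' ∧ x ∈ W' ∧ W' ≤ W := by
      obtain ⟨_, ⟨W', hW', rfl⟩, hxW', hW'W⟩ :=
        X.isBasis_affineOpens.exists_subset_of_mem_open hxW W.2
      exact ⟨W', hW', hxW', hW'W⟩
    obtain ⟨W', hW', hxW', hle⟩ := hex
    have : IsAffine (W' : Scheme.{u}) := hW'
    have : Etale (W'.ι ≫ f) := by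
      rw [← X.homOfLE_ι hle, CategoryTheory.Category.assoc]
      infer_instance
    have : IsSeparated (W'.ι ≫ f) := by
      have : IsSeparated ((W'.ι ≫ f) ≫ CategoryTheory.Limits.terminal.from S) := by
        rw [CategoryTheory.Limits.terminal.comp_from]
        infer_instance
      exact IsSeparated.of_comp (W'.ι ≫ f) (CategoryTheory.Limits.terminal.from S)
    have hoi : IsOpenImmersion (W'.ι ≫ f) :=
      Groth.Agent.Lib.Helper27.SecEtA.isOpenImmersion_of_etale_of_mono_over (W'.ι ≫ f) U hU
        (hmonoW W')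
    let g := W'.ι ≫ f
    let x' : ↥(W' : Scheme.{u}) := ⟨x, hxW'⟩
    have hgx : g x' = f x := rfl
    have hV : f.base x ∈ g.opensRange := ⟨x', hgx⟩
    refine ⟨g.opensRange, hV, g.isoOpensRange.inv ≫ W'.ι, ?_, ?_⟩
    · rw [CategoryTheory.Category.assoc]
      exact AlgebraicGeometry.Scheme.Hom.isoOpensRange_inv_comp g
    · have h1 : g.isoOpensRange.hom x' = ⟨f.base x, hV⟩ := by
        apply Subtype.ext
        show (g.isoOpensRange.hom ≫ g.opensRange.ι) x' = f x
        rw [AlgebraicGeometry.Scheme.Hom.isoOpensRange_hom_ι]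
        rfl
      rw [← h1]
      show (g.isoOpensRange.hom ≫ g.isoOpensRange.inv ≫ W'.ι) x' = x
      rw [CategoryTheory.Iso.hom_inv_id_assoc]
      rfl
  tfae_have 3 → 1 := by
    rintro ⟨V, hV, σ, hσ, hσx⟩
    have : IsOpenImmersion σ :=
      Groth.Agent.Lib.Helper27.SecEtA.isOpenImmersion_section f U hdense V σ hσ
    refine ⟨σ.opensRange, ⟨_, hσx⟩, ?_⟩
    have : σ.opensRange.ι ≫ f = σ.isoOpensRange.inv ≫ V.ι := by
      rw [← AlgebraicGeometry.Scheme.Hom.isoOpensRange_inv_comp σ, CategoryTheory.Category.assoc, hσ]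
    rw [this]
    infer_instance
  tfae_finish

end Groth.Agent.S17728
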