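import Groth.Statements.S17730
import Mathlib
import Groth.Agent.Lib.Helper8.SmoothBranchesPrime
import Groth.Agent.Lib.Helper8.SmoothUnibranch
import Groth.Agent.Lib.Helper8.Hzl.PairUniversal

set_option autoImplicit false
universe u
open Hensel

namespace Groth.Agent.S17730

open IsLocalRing in
/-- Let R be a Noetherian local ring which is strictly henselian (henselian with separably closed
residue field), Δ a prime element of R, R' a smooth R-algebra, q a prime ideal of R' containing the
image of the maximal ideal of R, and T a strict henselization of the localization R'_q. Then the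
image of Δ in T is a prime element of T. (This is the published statement, that a prime element of
the étale local ring of the base at a geometric point remains prime in the étale local ring of a
smooth scheme over it at a geometric point above, written for the base the spectrum of R; the
published hypothesis that the base be smooth-factorial, meaning that all its smooth schemes are
locally factorial, is not used by the argument and is omitted; R is taken Noetherian, which the
published statement does not state and the argument requires.) -/
theorem result
    (R R' T : Type u) [CommRing R] [IsNoetherianRing R] [HenselianLocalRing R]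
    [IsSepClosed (ResidueField R)]
    [CommRing R'] [Algebra R R'] [Algebra.Smooth R R']
    (q : Ideal R') [q.IsPrime] (hq : (maximalIdeal R).map (algebraMap R R') ≤ q)
    [CommRing T] [IsLocalRing T] [Algebra (Localization.AtPrime q) T]
    [IsLocalHom (algebraMap (Localization.AtPrime q) T)]
    [Hensel.IsStrictHenselization (Localization.AtPrime q) T]
    (Δ : R) (hΔ : Prime Δ) :
    Prime (algebraMap (Localization.AtPrime q) T
      (algebraMap R' (Localization.AtPrime q) (algebraMap R R' Δ))) := by
  haveI hlo : q.LiesOver (maximalIdeal R) := ⟨by
    have h1 : maximalIdeal R ≤ q.comap (algebraMap R R') := Ideal.map_le_iff_le_comap.mp hq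
    exact (IsLocalRing.maximalIdeal.isMaximal R).eq_of_le
      (Ideal.comap_ne_top _ (Ideal.IsPrime.ne_top inferInstance)) h1⟩
  let e : R ≃ₐ[R] Localization.AtPrime (maximalIdeal R) :=
    IsLocalization.atUnits R (maximalIdeal R).primeCompl
      (fun x hx => (IsUnit.mem_submonoid_iff x).mpr (IsLocalRing.notMem_maximalIdeal.mp hx))
  haveI hH : HenselianLocalRing (Localization.AtPrime (maximalIdeal R)) :=
    Groth.Agent.Lib.Helper8.Hzl.henselianLocalRing_of_ringEquiv e.toRingEquiv
  haveI hSC : IsSepClosed (ResidueField (Localization.AtPrime (maximalIdeal R))) :=
    Groth.Agent.Lib.Helper8.Hzl.isSepClosed_of_ringEquiv (ResidueField.mapEquiv e.toRingEquiv)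
  haveI hLH : IsLocalHom (algebraMap (Localization.AtPrime (maximalIdeal R)) (Localization.AtPrime (maximalIdeal R))) :=
    ⟨fun _ h => h⟩
  haveI hRh := Groth.Agent.Lib.Helper8.SmoothUnibranch.isStrictHenselization_self
    (Localization.AtPrime (maximalIdeal R))
  obtain ⟨g, hg⟩ := Groth.Agent.Lib.Helper8.SmoothBranchesPrime.exists_compat R R' (maximalIdeal R) q
    (Localization.AtPrime (maximalIdeal R)) T
  have hx : Prime (algebraMap R (Localization.AtPrime (maximalIdeal R)) Δ) := by
    have h0 : e Δ = algebraMap R (Localization.AtPrime (maximalIdeal R)) Δ := e.commutes Δ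
    rw [← h0]
    exact (MulEquiv.prime_iff e.toMulEquiv).mpr hΔ
  have h1 := Groth.Agent.Lib.Helper8.SmoothBranchesPrime.prime_map_of_prime R R' (maximalIdeal R) q
    (Localization.AtPrime (maximalIdeal R)) T g hg _ hx
  have h2 := RingHom.congr_fun hg (algebraMap R (Localization.AtPrime (maximalIdeal R)) Δ)
  rw [RingHom.comp_apply, RingHom.comp_apply, Localization.localRingHom_to_map] at h2
  rw [← h2]
  exact h1


end Groth.Agent.S17730
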