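import Groth.Statements.S17731
import Mathlib

set_option autoImplicit false
universe u
open Neron

namespace Groth.Agent.S17731

open CategoryTheory AlgebraicGeometry in
/-- Let S be a scheme, U ⊆ S a schematically dense open subscheme and N → S a smooth S-scheme having
uniqueness in the Néron mapping property with respect to U: for every smooth S-scheme Y, restriction
to U is injective on S-morphisms Y → N. Then for every smooth morphism g : S' → S the base change N
×_S S' → S' has uniqueness in the Néron mapping property with respect to g⁻¹(U): for every smooth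
S'-scheme Y', restriction to g⁻¹(U) is injective on S'-morphisms Y' → N ×_S S'. (The published
statement is for models which are algebraic spaces, tested against smooth algebraic spaces; this row
states the case of a scheme model tested against smooth schemes. The companion assertion that Néron
models are preserved by smooth base change is not restated here.) -/
theorem result
    {S S' : Scheme.{u}} (g : S' ⟶ S) [Smooth g]
    (U : S.Opens) (hU : CInt.IsSchematicallyDense U) (N : Over S) [Smooth N.hom]
    (hN : ∀ Y : Over S, Smooth Y.hom →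
      Function.Injective (fun f : Y ⟶ N => (Over.pullback U.ι).map f))
    (Y' : Over S') [Smooth Y'.hom] :
    Function.Injective (fun f : Y' ⟶ (Over.pullback g).obj N => (Over.pullback (g ⁻¹ᵁ U).ι).map f) := by
  classical
  intro f₁ f₂ h12
  have h12' : (Over.pullback (g ⁻¹ᵁ U).ι).map f₁ = (Over.pullback (g ⁻¹ᵁ U).ι).map f₂ := h12
  -- Y' regarded over S
  let Y : Over S := Over.mk (Y'.hom ≫ g)
  have hYs : Smooth Y.hom := by
    change Smooth (Y'.hom ≫ g)
    infer_instance
  have hw : ∀ f : Y' ⟶ (Over.pullback g).obj N, f.left ≫ Limits.pullback.snd N.hom g = Y'.hom :=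
    fun f => Over.w f
  let φ : (Y' ⟶ (Over.pullback g).obj N) → (Y ⟶ N) := fun f =>
    Over.homMk (f.left ≫ Limits.pullback.fst N.hom g) (by
      change (f.left ≫ Limits.pullback.fst N.hom g) ≫ N.hom = Y'.hom ≫ g
      rw [Category.assoc, Limits.pullback.condition, ← Category.assoc, hw])
  -- the comparison map
  have hrange : Set.range (Limits.pullback.fst (Y'.hom ≫ g) U.ι ≫ Y'.hom).base ⊆
      Set.range (g ⁻¹ᵁ U).ι.base := by
    rintro _ ⟨x, rfl⟩
    rw [Scheme.Opens.range_ι]
    change g.base ((Limits.pullback.fst (Y'.hom ≫ g) U.ι ≫ Y'.hom).base x) ∈ U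
    have : g.base ((Limits.pullback.fst (Y'.hom ≫ g) U.ι ≫ Y'.hom).base x) =
        (Limits.pullback.fst (Y'.hom ≫ g) U.ι ≫ Y'.hom ≫ g).base x := by
      simp
    rw [this, Limits.pullback.condition]
    have : (Limits.pullback.snd (Y'.hom ≫ g) U.ι ≫ U.ι).base x =
        U.ι.base ((Limits.pullback.snd (Y'.hom ≫ g) U.ι).base x) := by simp
    rw [this]
    exact ((Limits.pullback.snd (Y'.hom ≫ g) U.ι).base x).2
  let θ : Limits.pullback (Y'.hom ≫ g) U.ι ⟶ Limits.pullback Y'.hom (g ⁻¹ᵁ U).ι :=
    Limits.pullback.lift (Limits.pullback.fst _ _)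
      (IsOpenImmersion.lift (g ⁻¹ᵁ U).ι (Limits.pullback.fst _ _ ≫ Y'.hom) hrange)
      (by rw [IsOpenImmersion.lift_fac])
  have hθ : θ ≫ Limits.pullback.fst Y'.hom (g ⁻¹ᵁ U).ι = Limits.pullback.fst _ _ := Limits.pullback.lift_fst _ _ _
  have hmapfst : ∀ f : Y' ⟶ (Over.pullback g).obj N,
      ((Over.pullback (g ⁻¹ᵁ U).ι).map f).left ≫ Limits.pullback.fst _ _ =
        Limits.pullback.fst Y'.hom (g ⁻¹ᵁ U).ι ≫ f.left := fun f => Limits.pullback.lift_fst _ _ _
  have hkey : Limits.pullback.fst Y'.hom (g ⁻¹ᵁ U).ι ≫ f₁.left =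
      Limits.pullback.fst Y'.hom (g ⁻¹ᵁ U).ι ≫ f₂.left := by
    rw [← hmapfst f₁, ← hmapfst f₂, h12']
  have hφ : φ f₁ = φ f₂ := by
    apply hN Y hYs
    change (Over.pullback U.ι).map (φ f₁) = (Over.pullback U.ι).map (φ f₂)
    apply Over.OverMorphism.ext
    apply Limits.pullback.hom_ext
    · have e1 : ∀ f, ((Over.pullback U.ι).map (φ f)).left ≫ Limits.pullback.fst N.hom U.ι =
          Limits.pullback.fst (Y'.hom ≫ g) U.ι ≫ f.left ≫ Limits.pullback.fst N.hom g :=
        fun f => Limits.pullback.lift_fst _ _ _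
      rw [e1, e1, ← hθ, Category.assoc, Category.assoc, ← Category.assoc _ f₁.left, hkey,
        Category.assoc]
    · have e2 : ∀ f, ((Over.pullback U.ι).map (φ f)).left ≫ Limits.pullback.snd N.hom U.ι =
          Limits.pullback.snd (Y'.hom ≫ g) U.ι := fun f => Limits.pullback.lift_snd _ _ _
      rw [e2, e2]
  apply Over.OverMorphism.ext
  apply Limits.pullback.hom_ext
  · exact congrArg (fun ψ : Y ⟶ N => ψ.left) hφ
  · exact (hw f₁).trans (hw f₂).symm

end Groth.Agent.S17731
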