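import Groth.Statements.S17733
import Groth.Agent.Lib.Helper27.CartEqB
import Groth.Agent.Lib.Helper27.SmEtA

set_option autoImplicit false
universe u
open CDiv

namespace Groth.Agent.S17733

open CategoryTheory AlgebraicGeometry in
/-- Let S be a locally Noetherian normal scheme (every local ring an integrally closed domain), f : S' →
S a proper morphism whose scheme-theoretic image is S (its kernel ideal sheaf is zero), and U ⊆ S a
schematically dense open subscheme such that f⁻¹(U) is also schematically dense in S'. Suppose D and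
E are effective Cartier divisors of S, encoded by ideal sheaves each locally generated on an affine
open by one non-zero-divisor, with supports disjoint from U. If the pulled-back ideal sheaves of D
and E along f coincide, then D = E. -/
theorem result
    {S S' : Scheme.{u}} [IsLocallyNoetherian S]
    (hnorm : ∀ x : S, IsDomain (S.presheaf.stalk x) ∧ IsIntegrallyClosed (S.presheaf.stalk x))
    (f : S' ⟶ S) [IsProper f] (hdom : f.ker = ⊥)
    (U : S.Opens) (hU : CInt.IsSchematicallyDense U) (hU' : CInt.IsSchematicallyDense (f ⁻¹ᵁ U))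
    (D E : S.IdealSheafData)
    (hD : (∀ x : S, ∃ U : S.affineOpens, x ∈ (U : S.Opens) ∧ ∃ g : Γ(S, U), g ∈ nonZeroDivisors Γ(S, U) ∧ D.ideal U = Ideal.span {g}))
    (hE : (∀ x : S, ∃ U : S.affineOpens, x ∈ (U : S.Opens) ∧ ∃ g : Γ(S, U), g ∈ nonZeroDivisors Γ(S, U) ∧ E.ideal U = Ideal.span {g}))
    (hDU : (D.support : Set S) ⊆ (U : Set S)ᶜ) (hEU : (E.support : Set S) ⊆ (U : Set S)ᶜ)
    (h : D.comap f = E.comap f) : D = E := by
  classical
  have hUd : Dense (U : Set S) := Groth.Agent.Lib.Helper27.SmEtA.dense_of_isSchematicallyDense U hU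
  have hdomi : IsSchemeTheoreticallyDominant f := ⟨hdom⟩
  have hdomi' : IsDominant f := inferInstance
  have hsurj : Function.Surjective f :=
    (surjective_of_isDominant_of_isClosed_range f f.isClosedMap.isClosed_range).surj
  have key : ∀ x : S, ∃ W : S.affineOpens, x ∈ W.1 ∧ D.ideal W = E.ideal W := by
    intro x
    obtain ⟨U₁, hxU₁, g₁, -, hg₁⟩ := hD x
    obtain ⟨U₂, hxU₂, h₁, -, hh₁⟩ := hE x
    have : IsDomain (S.presheaf.stalk x) := (hnorm x).1
    obtain ⟨W, hxW, hWaff, hWle, hinj⟩ :=
      S.exists_le_and_germ_injective x (U₁.1 ⊓ U₂.1) ⟨hxU₁, hxU₂⟩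
    have hdomW : IsDomain Γ(S, W) := Function.Injective.isDomain (S.presheaf.germ W x hxW).hom hinj
    let Wa : S.affineOpens := ⟨W, hWaff⟩
    have hW1 : Wa ≤ U₁ := hWle.trans inf_le_left
    have hW2 : Wa ≤ U₂ := hWle.trans inf_le_right
    have hDg : D.ideal Wa = Ideal.span {(S.presheaf.map (homOfLE hW1).op).hom g₁} := by
      rw [← D.map_ideal hW1, hg₁, Ideal.map_span, Set.image_singleton]
    have hEh : E.ideal Wa = Ideal.span {(S.presheaf.map (homOfLE hW2).op).hom h₁} := by
      rw [← E.map_ideal hW2, hh₁, Ideal.map_span, Set.image_singleton]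
    haveI : IsDomain Γ(S, Wa.1) := hdomW
    exact ⟨Wa, hxW, le_antisymm
      (Groth.Agent.Lib.Helper27.CartEqB.ideal_le_of_comap_le hnorm f hsurj U hUd hU' D E hDU hEU
        h.le Wa _ _ hDg hEh)
      (Groth.Agent.Lib.Helper27.CartEqB.ideal_le_of_comap_le hnorm f hsurj U hUd hU' E D hEU hDU
        h.ge Wa _ _ hEh hDg)⟩
  choose Wx hxWx hWx using key
  refine Scheme.IdealSheafData.ext_of_iSup_eq_top Wx ?_ hWx
  rw [eq_top_iff]
  intro x _
  exact TopologicalSpace.Opens.mem_iSup.mpr ⟨x, hxWx x⟩

end Groth.Agent.S17733
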