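import Groth.Statements.S17737
import Groth.Agent.S17720
-- import your own Groth.Agent.* helpers here

set_option autoImplicit false
universe u
open DualGr

namespace Groth.Agent.S17737

open MvPowerSeries IsLocalRing Groth.Agent.S17720

section General

variable {A : Type u} [CommRing A] (γ : A)

/-- variant of `S17720.eps_D_eq_zero` for a vector field that only kills `γ`: its value at the
singular locus only depends on the constant term. -/
theorem exists_eps_D_eq (D : N γ → N γ)
    (hadd : ∀ a b, D (a + b) = D a + D b)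
    (hmul : ∀ a b, D (a * b) = a * D b + b * D a)
    (hγ : D (Ideal.Quotient.mk (rel γ) (C γ)) = 0) (f : N γ) :
    ∃ c : A, eps γ (D f) = eps γ (D (Ideal.Quotient.mk (rel γ) (C c))) := by
  have h0 : Ideal.Quotient.mk (rel γ) (X 0) * D (Ideal.Quotient.mk (rel γ) (X 1)) +
      Ideal.Quotient.mk (rel γ) (X 1) * D (Ideal.Quotient.mk (rel γ) (X 0)) = 0 := by
    rw [← hmul, x_mul_y, algebraMap_eq_mk_C, hγ]
  obtain ⟨P, hP⟩ := Ideal.Quotient.mk_surjective (D (Ideal.Quotient.mk (rel γ) (X 0)))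
  obtain ⟨Q, hQ⟩ := Ideal.Quotient.mk_surjective (D (Ideal.Quotient.mk (rel γ) (X 1)))
  have h1 : X 0 * Q + X 1 * P ∈ rel γ := by
    rw [← Ideal.Quotient.eq_zero_iff_mem, map_add, map_mul, map_mul, hP, hQ]
    exact h0
  obtain ⟨G, hG⟩ := Ideal.mem_span_singleton'.mp h1
  obtain ⟨hPc, hQc⟩ := constantCoeff_mem γ P Q G hG
  have ex : eps γ (Ideal.Quotient.mk (rel γ) (X 0)) = 0 := by
    rw [eps_mk, constantCoeff_X, map_zero]
  have ey : eps γ (Ideal.Quotient.mk (rel γ) (X 1)) = 0 := by
    rw [eps_mk, constantCoeff_X, map_zero]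
  have eDx : eps γ (D (Ideal.Quotient.mk (rel γ) (X 0))) = 0 := by
    rw [← hP, eps_mk]
    exact Ideal.Quotient.eq_zero_iff_mem.mpr hPc
  have eDy : eps γ (D (Ideal.Quotient.mk (rel γ) (X 1))) = 0 := by
    rw [← hQ, eps_mk]
    exact Ideal.Quotient.eq_zero_iff_mem.mpr hQc
  have e1 : ∀ g : N γ, eps γ (D (Ideal.Quotient.mk (rel γ) (X 0) * g)) = 0 := by
    intro g
    rw [hmul, map_add, map_mul, map_mul, ex, eDx, zero_mul, mul_zero, add_zero]
  have e2 : ∀ g : N γ, eps γ (D (Ideal.Quotient.mk (rel γ) (X 1) * g)) = 0 := by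
    intro g
    rw [hmul, map_add, map_mul, map_mul, ey, eDy, zero_mul, mul_zero, add_zero]
  obtain ⟨F, rfl⟩ := Ideal.Quotient.mk_surjective f
  obtain ⟨h, -, hF⟩ := Groth.Agent.Lib.Helper7.PowSerCRing.decomp (⊤ : Ideal A) 0 F
    (Groth.Agent.Lib.Helper7.PowSerCRing.mem_W_top 1 F)
  rw [Fin.sum_univ_two] at hF
  have hdec : Ideal.Quotient.mk (rel γ) F = Ideal.Quotient.mk (rel γ) (C (constantCoeff F)) +
      (Ideal.Quotient.mk (rel γ) (X 0) * Ideal.Quotient.mk (rel γ) (h 0) +
        Ideal.Quotient.mk (rel γ) (X 1) * Ideal.Quotient.mk (rel γ) (h 1)) := by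
    rw [← map_mul, ← map_mul, ← map_add, ← map_add]
    exact congrArg _ hF
  refine ⟨constantCoeff F, ?_⟩
  rw [hdec, hadd, hadd, map_add, map_add, e1, e2, add_zero, add_zero]

end General

section Completion

variable {R : Type u} [CommRing R] [IsLocalRing R] [IsNoetherianRing R]

local notation "Rh" => AdicCompletion (maximalIdeal R) R
local notation "ι" => algebraMap R (AdicCompletion (maximalIdeal R) R)

theorem key2 (a b : R) (ψ : N (ι a) ≃+* N (ι b))
    (hψ : ∀ r : R, ψ (Ideal.Quotient.mk (rel (ι a)) (C (ι r))) =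
      Ideal.Quotient.mk (rel (ι b)) (C (ι r))) :
    a ∈ Ideal.span {b} := by
  have hψs : ∀ r : R, ψ.symm (Ideal.Quotient.mk (rel (ι b)) (C (ι r))) =
      Ideal.Quotient.mk (rel (ι a)) (C (ι r)) := by
    intro r
    rw [RingEquiv.symm_apply_eq, hψ]
  let D : N (ι b) → N (ι b) := fun z => ψ (Ebar (ι a) (ψ.symm z))
  have hadd : ∀ u v, D (u + v) = D u + D v := by
    intro u v
    show ψ (Ebar (ι a) (ψ.symm (u + v))) =
      ψ (Ebar (ι a) (ψ.symm u)) + ψ (Ebar (ι a) (ψ.symm v))
    rw [map_add, Ebar_add, map_add]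
  have hmul : ∀ u v, D (u * v) = u * D v + v * D u := by
    intro u v
    show ψ (Ebar (ι a) (ψ.symm (u * v))) =
      u * ψ (Ebar (ι a) (ψ.symm v)) + v * ψ (Ebar (ι a) (ψ.symm u))
    rw [map_mul, Ebar_mul, map_add, map_mul, map_mul, RingEquiv.apply_symm_apply,
      RingEquiv.apply_symm_apply]
  have hR : ∀ r : R, D (Ideal.Quotient.mk (rel (ι b)) (C (ι r))) = 0 := by
    intro r
    show ψ (Ebar (ι a) (ψ.symm (Ideal.Quotient.mk (rel (ι b)) (C (ι r))))) = 0
    rw [hψs, Ebar_mk, E0_C, map_zero, map_zero]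
  have hx : D (ψ (Ideal.Quotient.mk (rel (ι a)) (X 0))) =
      ψ (Ideal.Quotient.mk (rel (ι a)) (X 0)) := by
    show ψ (Ebar (ι a) (ψ.symm (ψ (Ideal.Quotient.mk (rel (ι a)) (X 0))))) = _
    rw [RingEquiv.symm_apply_apply, Ebar_x]
  -- values of `D` on constants are `m^n`-divisible for every `n`
  have hJ : ∀ (n : ℕ) (c : Rh), eps (ι b) (D (Ideal.Quotient.mk (rel (ι b)) (C c))) ∈
      Ideal.map (algebraMap R (Rh ⧸ Ideal.span {ι b})) (maximalIdeal R ^ n) := by
    intro n c
    have hP : ∀ u ∈ (maximalIdeal R ^ n • ⊤ : Submodule R Rh),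
        eps (ι b) (D (Ideal.Quotient.mk (rel (ι b)) (C u))) ∈
          Ideal.map (algebraMap R (Rh ⧸ Ideal.span {ι b})) (maximalIdeal R ^ n) := by
      intro u hu
      refine Submodule.smul_induction_on hu ?_ ?_
      · intro s hs v _
        have hsv : (s • v : Rh) = ι s * v := Algebra.smul_def s v
        rw [hsv, map_mul, map_mul, hmul, hR, mul_zero, add_zero, map_mul, eps_mk, constantCoeff_C]
        exact Ideal.mul_mem_right _ _ (Ideal.mem_map_of_mem _ hs)
      · intro u v hu hv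
        rw [map_add, map_add, hadd, map_add]
        exact Ideal.add_mem _ hu hv
    obtain ⟨r, hr⟩ := Submodule.mkQ_surjective _ (AdicCompletion.eval (maximalIdeal R) R n c)
    have hmem : c - ι r ∈ (maximalIdeal R ^ n • ⊤ : Submodule R Rh) := by
      rw [AdicCompletion.pow_smul_top_eq_ker_eval (maximalIdeal R).fg_of_isNoetherianRing,
        LinearMap.mem_ker, map_sub, sub_eq_zero, ← hr]
      exact (AdicCompletion.eval_of (maximalIdeal R) R n r).symm
    have h3 := hP _ hmem
    have hc : c = (c - ι r) + ι r := by ring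
    rw [hc, map_add, map_add, hadd, hR, add_zero]
    exact h3
  -- hence `a` lies in `(b) + m^n` for every `n`
  have hxy : Ideal.Quotient.mk (rel (ι b)) (C (ι a)) =
      ψ (Ideal.Quotient.mk (rel (ι a)) (X 0)) * ψ (Ideal.Quotient.mk (rel (ι a)) (X 1)) := by
    rw [← map_mul, x_mul_y, algebraMap_eq_mk_C, hψ]
  have hmemJ : ∀ n : ℕ, algebraMap R (Rh ⧸ Ideal.span {ι b}) a ∈
      Ideal.map (algebraMap R (Rh ⧸ Ideal.span {ι b})) (maximalIdeal R ^ n) := by
    intro n
    obtain ⟨c, hc⟩ := exists_eps_D_eq (ι b) D hadd hmul (hR b)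
      (ψ (Ideal.Quotient.mk (rel (ι a)) (X 0)))
    have h4 : eps (ι b) (ψ (Ideal.Quotient.mk (rel (ι a)) (X 0))) ∈
        Ideal.map (algebraMap R (Rh ⧸ Ideal.span {ι b})) (maximalIdeal R ^ n) := by
      rw [← hx, hc]
      exact hJ n c
    have h5 := congrArg (eps (ι b)) hxy
    rw [eps_mk, constantCoeff_C, map_mul] at h5
    have h6 : algebraMap R (Rh ⧸ Ideal.span {ι b}) a = Ideal.Quotient.mk (Ideal.span {ι b}) (ι a) :=
      rfl
    rw [h6, h5]
    exact Ideal.mul_mem_right _ _ h4
  have hsup : ∀ n : ℕ, a ∈ Ideal.span {b} ⊔ maximalIdeal R ^ n := by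
    intro n
    have hle' : maximalIdeal R ^ n ≤ Ideal.span {b} ⊔ maximalIdeal R ^ n := le_sup_right
    let g : Rh →+* R ⧸ (Ideal.span {b} ⊔ maximalIdeal R ^ n) :=
      (Ideal.Quotient.factor hle').comp
        (AdicCompletion.evalₐ (maximalIdeal R) n).toRingHom
    have hg : ∀ r : R, g (ι r) = Ideal.Quotient.mk _ r := by
      intro r
      show Ideal.Quotient.factor hle' (AdicCompletion.evalₐ (maximalIdeal R) n
        (AdicCompletion.of (maximalIdeal R) R r)) = _
      rw [AdicCompletion.evalₐ_of, Ideal.Quotient.factor_mk]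
    have hgb : ∀ z ∈ Ideal.span {ι b}, g z = 0 := by
      intro z hz
      obtain ⟨w, rfl⟩ := Ideal.mem_span_singleton'.mp hz
      rw [map_mul, hg, Ideal.Quotient.eq_zero_iff_mem.mpr
        (Ideal.mem_sup_left (Ideal.mem_span_singleton_self b)), mul_zero]
    let Θ : Rh ⧸ Ideal.span {ι b} →+* R ⧸ (Ideal.span {b} ⊔ maximalIdeal R ^ n) :=
      Ideal.Quotient.lift _ g hgb
    have hΘ : ∀ r : R, Θ (algebraMap R (Rh ⧸ Ideal.span {ι b}) r) = Ideal.Quotient.mk _ r := by
      intro r
      show Θ (Ideal.Quotient.mk _ (ι r)) = _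
      rw [Ideal.Quotient.lift_mk, hg]
    have hle : Ideal.map (algebraMap R (Rh ⧸ Ideal.span {ι b})) (maximalIdeal R ^ n) ≤
        RingHom.ker Θ := by
      rw [Ideal.map_le_iff_le_comap]
      intro s hs
      rw [Ideal.mem_comap, RingHom.mem_ker, hΘ, Ideal.Quotient.eq_zero_iff_mem]
      exact Ideal.mem_sup_right hs
    have h7 := hle (hmemJ n)
    rw [RingHom.mem_ker, hΘ, Ideal.Quotient.eq_zero_iff_mem] at h7
    exact h7
  -- Krull's intersection theorem
  have hk : Ideal.Quotient.mk (Ideal.span {b}) a ∈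
      (⨅ i : ℕ, maximalIdeal R ^ i • ⊤ : Submodule R (R ⧸ Ideal.span {b})) := by
    rw [Submodule.mem_iInf]
    intro n
    obtain ⟨β, hβ, μ, hμ, hsum⟩ := Submodule.mem_sup.mp (hsup n)
    have h8 : Ideal.Quotient.mk (Ideal.span {b}) a = μ • (1 : R ⧸ Ideal.span {b}) := by
      rw [← hsum, map_add, Ideal.Quotient.eq_zero_iff_mem.mpr hβ, zero_add, Algebra.smul_def,
        mul_one]
      rfl
    rw [h8]
    exact Submodule.smul_mem_smul hμ Submodule.mem_top
  rw [Ideal.iInf_pow_smul_eq_bot_of_isLocalRing _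
    (IsLocalRing.maximalIdeal.isMaximal R).ne_top, Submodule.mem_bot] at hk
  exact Ideal.Quotient.eq_zero_iff_mem.mp hk

end Completion

open IsLocalRing in
/-- Let R be a Noetherian local ring, A a local ring with a ring map φ : R → A, and a, b two elements of
the maximal ideal of R such that A is formally a node over R both of thickness (a) and of thickness
(b): the completion of A is isomorphic, compatibly with R, to R̂[[x,y]]/(xy − a) and also to
R̂[[x,y]]/(xy − b). Then aR = bR. (This is the uniqueness assertion: the element in a node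
presentation is not unique but the principal ideal it generates is; it is stated for presentations
with the element taken in R, whose ideal in R is then determined.) -/
theorem result
    (R A : Type u) [CommRing R] [IsLocalRing R] [IsNoetherianRing R] [CommRing A] [IsLocalRing A]
    (φ : R →+* A) (a b : R) (ha : a ∈ maximalIdeal R) (hb : b ∈ maximalIdeal R)
    (h₁ : DualGr.IsThickNode φ a) (h₂ : DualGr.IsThickNode φ b) :
    Ideal.span {a} = Ideal.span {b} := by
  obtain ⟨e₁, he₁⟩ := h₁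
  obtain ⟨e₂, he₂⟩ := h₂
  apply le_antisymm
  · refine (Ideal.span_singleton_le_iff_mem _).mpr (key2 a b (e₁.symm.trans e₂) ?_)
    intro r
    rw [RingEquiv.trans_apply, ← he₁ r, RingEquiv.symm_apply_apply, he₂ r]
  · refine (Ideal.span_singleton_le_iff_mem _).mpr (key2 b a (e₂.symm.trans e₁) ?_)
    intro r
    rw [RingEquiv.trans_apply, ← he₂ r, RingEquiv.symm_apply_apply, he₁ r]

end Groth.Agent.S17737
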