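import Groth.Statements.S17743
import Groth.Agent.Lib.Lead.PtChow

set_option autoImplicit false
set_option linter.style.haveILetI false
universe u
open CategoryTheory AlgebraicGeometry
open QsChow

namespace Groth.Agent.S17743

/-- Let K be a separable algebraic field extension of k and suppose that some intermediate field L of K
over k is finite Galois over k with degree [L:k] not of the form p^n for a prime p and n ≥ 0 (so
[L:k] has at least two prime factors). Then the subgroup of the Chow group of zero-cycles of Spec k
generated by the classes of push-forwards from Spec F, over the intermediate fields F of K over k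
that are finite over k and different from k, is the whole group; that is, the conormed Chow group of
the point relative to K over k is zero. (Degree 1 = p^0 must be excluded: for L = K = k the quotient
is ℤ.) -/
theorem result
    (k : Type u) [Field k] (K : Type u) [Field K] [Algebra k K] [Algebra.IsSeparable k K]
    (L : IntermediateField k K) [FiniteDimensional k L] [IsGalois k L]
    (hL : ∀ p n : ℕ, p.Prime → Module.finrank k L ≠ p ^ n) :
    QsChow.ptNormSubgroup k K = ⊤ := by
  classical
  rw [Groth.Agent.Lib.Lead.PtChow.ptNormSubgroup_eq]
  have hT : AddSubgroup.closure (Groth.Agent.Lib.Lead.PtChow.degSet k K) = ⊤ := by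
    rw [eq_top_iff]
    have h1 : (1 : ℤ) ∈ AddSubgroup.closure (Groth.Agent.Lib.Lead.PtChow.degSet k K) := by
      apply Groth.Agent.Lib.Lead.PtChow.one_mem_of_ordCompl _ (Module.finrank k L)
        (Module.finrank_pos).ne'
      intro q hq
      haveI : Fact q.Prime := ⟨hq⟩
      obtain ⟨P⟩ : Nonempty (Sylow q (L ≃ₐ[k] L)) := inferInstance
      obtain ⟨F, hFfin, hF⟩ := Groth.Agent.Lib.Lead.PtChow.exists_subfield_degree k K L
        (P : Subgroup (L ≃ₐ[k] L))
      have hcard : Nat.card (P : Subgroup (L ≃ₐ[k] L)) =
          q ^ (Module.finrank k L).factorization q := by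
        have := P.card_eq_multiplicity
        rwa [IsGalois.card_aut_eq_finrank] at this
      rw [hcard] at hF
      have hd : Module.finrank k F =
          Module.finrank k L / q ^ (Module.finrank k L).factorization q :=
        (Nat.div_eq_of_eq_mul_left (pow_pos hq.pos _) hF.symm).symm
      rw [← hd]
      apply AddSubgroup.subset_closure
      refine ⟨F, hFfin, ?_, 1, by simp⟩
      intro hbot
      subst hbot
      rw [IntermediateField.finrank_bot, one_mul] at hF
      exact hL q _ hq hF.symm
    intro x _
    have hx : x = x • (1 : ℤ) := by simp
    rw [hx]
    exact AddSubgroup.zsmul_mem _ h1 x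
  rw [hT, ← AddMonoidHom.range_eq_map, AddMonoidHom.range_eq_top]
  exact Groth.Agent.Lib.Lead.PtChow.Φ_surjective k

end Groth.Agent.S17743
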