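import Groth.Statements.S17744
import Groth.Agent.Lib.Lead.PtChow

set_option autoImplicit false
set_option linter.style.haveILetI false
universe u
open CategoryTheory AlgebraicGeometry
open QsChow

namespace Groth.Agent.S17744

/-- Let K be a separable algebraic field extension of k, let L be an intermediate field of K over k that
is finite Galois over k of degree p^n with p prime and n ≥ 1, and suppose that every intermediate
field of K over k that is finite over k has degree a power of p. Then the subgroup of the Chow group
of zero-cycles of Spec k generated by the classes of push-forwards from Spec F, over the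
intermediate fields F of K over k that are finite over k and different from k, has index p; that is,
the conormed Chow group of the point relative to K over k is cyclic of order p (the field with p
elements, in the source's ring language). (For n = 0, i.e. L = k, the assertion fails with K = k, so
n ≥ 1 is required.) -/
theorem result
    (k : Type u) [Field k] (K : Type u) [Field K] [Algebra k K] [Algebra.IsSeparable k K]
    (L : IntermediateField k K) [FiniteDimensional k L] [IsGalois k L]
    (p n : ℕ) (hp : p.Prime) (hn : 1 ≤ n) (hL : Module.finrank k L = p ^ n)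
    (hF : ∀ F : IntermediateField k K, FiniteDimensional k F → ∃ e : ℕ, Module.finrank k F = p ^ e) :
    (QsChow.ptNormSubgroup k K).index = p := by
  classical
  rw [Groth.Agent.Lib.Lead.PtChow.ptNormSubgroup_eq,
    AddSubgroup.index_map_of_bijective (Groth.Agent.Lib.Lead.PtChow.Φ_bijective k)]
  have hT : AddSubgroup.closure (Groth.Agent.Lib.Lead.PtChow.degSet k K) =
      AddSubgroup.zmultiples (p : ℤ) := by
    apply le_antisymm
    · rw [AddSubgroup.closure_le]
      rintro m ⟨F, hFfin, hne, a, rfl⟩
      obtain ⟨e, he⟩ := hF F hFfin
      have he0 : e ≠ 0 := by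
        rintro rfl
        apply hne
        rw [pow_zero] at he
        exact IntermediateField.finrank_eq_one_iff.mp he
      rw [SetLike.mem_coe, AddSubgroup.mem_zmultiples_iff]
      obtain ⟨e', rfl⟩ := Nat.exists_eq_succ_of_ne_zero he0
      refine ⟨a * (p : ℤ) ^ e', ?_⟩
      rw [he]
      push_cast
      rw [smul_eq_mul, Nat.succ_eq_add_one, pow_succ]
      ring
    · rw [AddSubgroup.zmultiples_le]
      haveI : Fact p.Prime := ⟨hp⟩
      have hcardG : Nat.card (L ≃ₐ[k] L) = p ^ n := by
        rw [IsGalois.card_aut_eq_finrank, hL]
      obtain ⟨n', rfl⟩ := Nat.exists_eq_succ_of_ne_zero (by omega : n ≠ 0)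
      obtain ⟨H, hH⟩ := Sylow.exists_subgroup_card_pow_prime (G := L ≃ₐ[k] L) p (n := n')
        (by rw [hcardG]; exact pow_dvd_pow p (Nat.le_succ n'))
      obtain ⟨F, hFfin, hFd⟩ := Groth.Agent.Lib.Lead.PtChow.exists_subfield_degree k K L H
      rw [hH, hL, pow_succ] at hFd
      have hd : Module.finrank k F = p :=
        Nat.eq_of_mul_eq_mul_right (pow_pos hp.pos n') (hFd.trans (mul_comm _ _))
      apply AddSubgroup.subset_closure
      refine ⟨F, hFfin, ?_, 1, by rw [hd]; simp⟩
      intro hbot
      subst hbot
      rw [IntermediateField.finrank_bot] at hd
      exact hp.one_lt.ne hd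
  rw [hT, Int.index_zmultiples]
  simp

end Groth.Agent.S17744
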