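import Groth.Statements.S17745
import Groth.Agent.Lib.Lead.CycClosed
import Groth.Agent.Lib.Helper3.CycPush

set_option autoImplicit false
set_option linter.style.haveILetI false
universe u
open CategoryTheory AlgebraicGeometry
open QsChow

namespace Groth.Agent.S17745

/-- For a field extension K of k (separable algebraic) and a k-scheme X with weight function δ, call
norm subgroup of CH_j(X) the subgroup generated by the classes of the push-forwards to X of j-cycles
on the base changes X_F, over the intermediate fields F of K over k that are finite over k and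
different from k (the quotient by it is the degree-j part of the conormed Chow group of X relative
to K over k). Let F be an intermediate field of K over k, finite over k and different from k, and
let X be a smooth variety over F (a scheme with a smooth, separated and quasi-compact morphism g to
Spec F), regarded as a k-scheme by composing g with Spec F → Spec k. Then for every weight function
δ on X (a dimension function induced from weight 0 on Spec k) and every integer j the norm subgroup
of CH_j(X) relative to K over k is the whole Chow group: all conormed Chow groups of X vanish. (The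
source's F is tacitly different from k; for F = k the assertion fails, e.g. with K = k.) -/
theorem result
    (k : Type u) [Field k] (K : Type u) [Field K] [Algebra k K] [Algebra.IsSeparable k K]
    (F : IntermediateField k K) [FiniteDimensional k F] (hF : F ≠ ⊥)
    (X : Scheme.{u}) [X.Over (Spec (CommRingCat.of k))] (g : X ⟶ Spec (CommRingCat.of F))
    (hg : g ≫ Spec.map (CommRingCat.ofHom (algebraMap k F)) = X ↘ Spec (CommRingCat.of k))
    (hsm : Smooth g) [IsSeparated g] [QuasiCompact g]
    (δ : X → ℤ) (hδ : Cyc.IsSetup X δ)
    (hcompat : Cyc.DeltaCompat (X ↘ Spec (CommRingCat.of k)) δ (fun _ => 0)) (j : ℤ) :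
    QsChow.normSubgroup k K X δ j = ⊤ := by
  classical
  have hcond : 𝟙 X ≫ (X ↘ Spec (CommRingCat.of k)) =
      g ≫ Spec.map (CommRingCat.ofHom (algebraMap k F)) := by rw [Category.id_comp, hg]
  let π : Curv2.bc k X F ⟶ X := Curv2.bcFst k X F
  let s : X ⟶ Curv2.bc k X F := Limits.pullback.lift (𝟙 X) g hcond
  have hs : s ≫ π = 𝟙 X := Limits.pullback.lift_fst _ _ _
  haveI : IsClosedImmersion (s ≫ π) := by rw [hs]; infer_instance
  haveI : IsClosedImmersion s := IsClosedImmersion.of_comp s π
  let δ' : ↥(Curv2.bc k X F) → ℤ := δ ∘ ⇑π.base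
  have hπs : ∀ x : X, π (s x) = x := fun x => by
    have h := congrArg (fun f : X ⟶ X => f x) hs
    simpa using h
  have hw : ∀ x : X, δ x = δ' (s x) := fun x => by
    show δ x = δ (π (s x))
    rw [hπs]
  rw [eq_top_iff]
  intro c _
  obtain ⟨⟨β, hβ⟩, rfl⟩ := QuotientAddGroup.mk_surjective c
  apply AddSubgroup.subset_closure
  obtain ⟨α, hα1, hα2⟩ : ∃ α : AlgebraicCycle (Curv2.bc k X F) ℤ,
      (∀ x, α (s x) = β x) ∧ (∀ z, z ∉ Set.range s → α z = 0) :=
    ⟨AlgebraicCycle.map s δ δ' β,
      fun x => Groth.Agent.Lib.Lead.CycClosed.map_apply_closedImmersion s δ δ' hw β x,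
      fun z hr => Groth.Agent.Lib.Lead.CycClosed.map_apply_of_notMem_range s δ δ' β z hr⟩
  have hα : α ∈ Cyc.Zk (Curv2.bc k X F) δ' j := by
    intro z hz
    by_cases hr : z ∈ Set.range s
    · obtain ⟨x, rfl⟩ := hr
      rw [hα1 x]
      exact hβ x (by rw [hw x]; exact hz)
    · exact hα2 z hr
  have hmap : AlgebraicCycle.map π δ' δ α = β := by
    ext x
    simp only [AlgebraicCycle.map, Function.locallyFinsupp.map_apply]
    rw [finsum_mem_def, finsum_eq_single _ (s x)]
    · rw [Set.indicator_of_mem (show s x ∈ π ⁻¹' {x} from hπs x)]
      have hc : AlgebraicCycle.mapCoeff π δ' δ (s x) = 1 := by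
        unfold AlgebraicCycle.mapCoeff
        rw [if_pos (show δ' (s x) = δ (π (s x)) from rfl)]
        have h2 := Groth.Agent.Lib.Helper3.residueDegree_comp s π x
        rw [hs, Scheme.Hom.residueDegree_id] at h2
        exact (Nat.eq_one_of_mul_eq_one_right h2.symm)
      rw [hα1 x, hc]; simp
    · intro z hz
      by_cases hm : z ∈ π ⁻¹' {x}
      · rw [Set.indicator_of_mem hm]
        have h0 : α z = 0 := by
          by_cases hr : z ∈ Set.range s
          · obtain ⟨x', rfl⟩ := hr
            exfalso
            apply hz
            have hx' : x' = x := by rw [← hπs x']; exact hm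
            rw [hx']
          · exact hα2 z hr
        rw [h0, zero_mul]
      · exact Set.indicator_of_notMem hm _
  have hmem : AlgebraicCycle.map π δ' δ α ∈ Cyc.Zk X δ j := by
    rw [hmap]; exact hβ
  refine ⟨F, inferInstance, hF, α, hα, hmem, ?_⟩
  show (QuotientAddGroup.mk (⟨β, hβ⟩ : ↥(ChowOps.zk X δ j)) : ChowOps.CH X δ j) =
    ChowOps.cl _ hmem
  unfold ChowOps.cl ChowOps.clHom
  congr 1
  exact Subtype.ext hmap.symm

end Groth.Agent.S17745
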