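import Groth.Statements.S17752
import Mathlib
import Groth.Agent.Lib.Helper25.ArithRank

set_option autoImplicit false
universe u
open LocCoh

namespace Groth.Agent.S17752

/-- Let R be a Noetherian ring of Krull dimension d and I an ideal of R. Then there are d + 1 elements
f_0, …, f_d of I such that I and the ideal they generate have the same radical; in other words the
arithmetic rank of I is at most d + 1. -/
theorem result (R : Type u) [CommRing R] [IsNoetherianRing R] (d : ℕ) (hd : ringKrullDim R = d) (I : Ideal R) : ∃ f : Fin (d + 1) → R, (∀ i, f i ∈ I) ∧ I.radical = (Ideal.span (Set.range f)).radical := by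
  obtain ⟨f, hfI, hf⟩ := Groth.Agent.Lib.Helper25.ArithRank.exists_fin_height_le R I (d + 1)
  refine ⟨f, hfI, ?_⟩
  have hle : Ideal.span (Set.range f) ≤ I := by
    rw [Ideal.span_le]
    rintro _ ⟨i, rfl⟩
    exact hfI i
  apply le_antisymm
  · -- I.radical ≤ (span f).radical : every prime containing span f contains I
    rw [Ideal.radical_eq_sInf (Ideal.span (Set.range f))]
    refine le_sInf ?_
    rintro p ⟨hp, hpprime⟩
    have : I ≤ p := by
      by_contra hIp
      have h1 : ((d + 1 : ℕ) : ℕ∞) ≤ p.height := hf p hp hIp
      have h2 : (p.height : WithBot ℕ∞) ≤ ringKrullDim R := Ideal.height_le_ringKrullDim_of_isPrime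
      rw [hd] at h2
      have h3 : p.height ≤ (d : ℕ∞) := by exact_mod_cast h2
      have h4 : ((d + 1 : ℕ) : ℕ∞) ≤ (d : ℕ∞) := h1.trans h3
      have : d + 1 ≤ d := by exact_mod_cast h4
      omega
    exact (Ideal.IsPrime.radical_le_iff hpprime).2 this
  · exact Ideal.radical_mono hle

end Groth.Agent.S17752
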