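import Groth.Statements.S17753
import Mathlib
import Groth.Agent.Lib.Helper25.ArithRank

set_option autoImplicit false
universe u
open LocCoh

namespace Groth.Agent.S17753

/-- Let R be a Noetherian local ring of Krull dimension d and I a proper ideal of R. Then there are d
elements f_1, …, f_d of I such that I and the ideal they generate have the same radical, so the
arithmetic rank of I is at most d. (The published statement has no properness hypothesis; for the
unit ideal of a field, d = 0 and no empty family generates the unit ideal up to radical, and the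
published proof uses that the maximal ideal contains I.) -/
theorem result (R : Type u) [CommRing R] [IsNoetherianRing R] [IsLocalRing R] (d : ℕ) (hd : ringKrullDim R = d) (I : Ideal R) (hI : I ≠ ⊤) : ∃ f : Fin d → R, (∀ i, f i ∈ I) ∧ I.radical = (Ideal.span (Set.range f)).radical := by
  obtain ⟨f, hfI, hf⟩ := Groth.Agent.Lib.Helper25.ArithRank.exists_fin_height_le R I d
  refine ⟨f, hfI, ?_⟩
  have hle : Ideal.span (Set.range f) ≤ I := by
    rw [Ideal.span_le]
    rintro _ ⟨i, rfl⟩
    exact hfI i
  apply le_antisymm
  · rw [Ideal.radical_eq_sInf (Ideal.span (Set.range f))]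
    refine le_sInf ?_
    rintro p ⟨hp, hpprime⟩
    have : I ≤ p := by
      by_contra hIp
      have h1 : ((d : ℕ) : ℕ∞) ≤ p.height := hf p hp hIp
      have hpm : p ≤ IsLocalRing.maximalIdeal R := IsLocalRing.le_maximalIdeal hpprime.ne_top
      have hIm : I ≤ IsLocalRing.maximalIdeal R := IsLocalRing.le_maximalIdeal hI
      have hne : p ≠ IsLocalRing.maximalIdeal R := fun h => hIp (h ▸ hIm)
      have hlt : p < IsLocalRing.maximalIdeal R := lt_of_le_of_ne hpm hne
      have h2 : p.height < (IsLocalRing.maximalIdeal R).height :=
        Ideal.height_strict_mono_of_isPrime hlt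
      have h3 : ((IsLocalRing.maximalIdeal R).height : WithBot ℕ∞) ≤ ringKrullDim R :=
        Ideal.height_le_ringKrullDim_of_isPrime
      rw [hd] at h3
      have h4 : (IsLocalRing.maximalIdeal R).height ≤ (d : ℕ∞) := by exact_mod_cast h3
      exact absurd (lt_of_le_of_lt h1 (lt_of_lt_of_le h2 h4)) (lt_irrefl _)
    exact (Ideal.IsPrime.radical_le_iff hpprime).2 this
  · exact Ideal.radical_mono hle

end Groth.Agent.S17753
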