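import Groth.Statements.S17754
import Mathlib

set_option autoImplicit false
universe u
open CAlg

namespace Groth.Agent.S17754

/-- Let R be a complete Noetherian local ring with maximal ideal m, and let I_0 ⊇ I_1 ⊇ I_2 ⊇ ⋯ be a
descending sequence of ideals of R whose intersection is zero. Then for every natural number n there
is an index s with I_s contained in m^n; that is, the filtration by the I_s is at least as fine as
the m-adic one. -/
theorem result (R : Type u) [CommRing R] [IsNoetherianRing R] [IsLocalRing R] [IsAdicComplete (IsLocalRing.maximalIdeal R) R] (I : ℕ → Ideal R) (hI : Antitone I) (hinf : ⨅ s, I s = ⊥) (n : ℕ) : ∃ s : ℕ, I s ≤ IsLocalRing.maximalIdeal R ^ n := by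
  classical
  set m := IsLocalRing.maximalIdeal R with hm
  -- (1) stabilization modulo m^t
  have hstab : ∀ t : ℕ, ∃ s0, ∀ s, s0 ≤ s → I s ⊔ m ^ t = I s0 ⊔ m ^ t := by
    intro t
    rcases Nat.eq_zero_or_pos t with rfl | ht
    · refine ⟨0, fun s _ => ?_⟩
      simp
    · have hmin : m ∈ (m ^ t).minimalPrimes := by
        refine ⟨⟨inferInstance, Ideal.pow_le_self ht.ne'⟩, ?_⟩
        rintro q ⟨hq, hmq⟩ -
        exact hq.le_of_pow_le hmq
      have hart : IsArtinianRing (R ⧸ m ^ t) :=
        IsLocalRing.quotient_artinian_of_mem_minimalPrimes_of_isLocalRing (m ^ t) hmin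
      let f : ℕ →o (Ideal (R ⧸ m ^ t))ᵒᵈ :=
        { toFun := fun s => OrderDual.toDual ((I s).map (Ideal.Quotient.mk (m ^ t)))
          monotone' := fun a b hab => Ideal.map_mono (hI hab) }
      obtain ⟨s0, hs0⟩ := IsArtinian.monotone_stabilizes f
      refine ⟨s0, fun s hs => ?_⟩
      have h1 : (I s0).map (Ideal.Quotient.mk (m ^ t)) = (I s).map (Ideal.Quotient.mk (m ^ t)) :=
        hs0 s hs
      have h2 := congrArg (Ideal.comap (Ideal.Quotient.mk (m ^ t))) h1
      rw [Ideal.comap_map_of_surjective _ Ideal.Quotient.mk_surjective,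
        Ideal.comap_map_of_surjective _ Ideal.Quotient.mk_surjective, ← RingHom.ker_eq_comap_bot,
        Ideal.mk_ker] at h2
      exact h2.symm
  choose σ hσ using hstab
  have hE : ∀ t s, I (σ t) ⊔ m ^ t ≤ I s ⊔ m ^ t := by
    intro t s
    rcases le_total s (σ t) with h | h
    · exact sup_le_sup_right (hI h) _
    · exact (hσ t s h).ge
  have hlift : ∀ t x, x ∈ I (σ t) ⊔ m ^ t →
      ∃ y, y ∈ I (σ (t + 1)) ⊔ m ^ (t + 1) ∧ y - x ∈ m ^ t := by
    intro t x hx
    obtain ⟨a, ha, b, hb, rfl⟩ := Submodule.mem_sup.1 (hE t (σ (t + 1)) hx)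
    refine ⟨a, Ideal.mem_sup_left ha, ?_⟩
    have : a - (a + b) = -b := by ring
    rw [this]
    exact neg_mem hb
  by_contra hcon
  push Not at hcon
  obtain ⟨x0, hx0I, hx0⟩ := Set.not_subset.1 (hcon (σ n))
  -- the sequence
  let seq : ∀ k : ℕ, {x : R // x ∈ I (σ (n + k)) ⊔ m ^ (n + k)} := fun k =>
    Nat.rec (motive := fun k => {x : R // x ∈ I (σ (n + k)) ⊔ m ^ (n + k)})
      ⟨x0, Ideal.mem_sup_left hx0I⟩
      (fun k x => ⟨Classical.choose (hlift (n + k) x.1 x.2),
        (Classical.choose_spec (hlift (n + k) x.1 x.2)).1⟩) k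
  have hseq0 : (seq 0).1 = x0 := rfl
  have hseqS : ∀ k, (seq (k + 1)).1 - (seq k).1 ∈ m ^ (n + k) := fun k =>
    (Classical.choose_spec (hlift (n + k) (seq k).1 (seq k).2)).2
  have hseqle : ∀ a b, a ≤ b → (seq b).1 - (seq a).1 ∈ m ^ (n + a) := by
    intro a b hab
    induction b, hab using Nat.le_induction with
    | base => simp
    | succ b hab ih =>
      have h1 := hseqS b
      have h2 : m ^ (n + b) ≤ m ^ (n + a) := Ideal.pow_le_pow_right (by omega)
      have : (seq (b + 1)).1 - (seq a).1 = ((seq (b + 1)).1 - (seq b).1) + ((seq b).1 - (seq a).1) := by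
        ring
      rw [this]
      exact add_mem (h2 h1) ih
  -- limit
  have hprec : IsPrecomplete m R := inferInstance
  obtain ⟨L, hL⟩ := hprec.prec' (fun j => (seq j).1) (by
    intro a b hab
    rw [SModEq.sub_mem]
    have h1 := hseqle a b hab
    have h2 : m ^ (n + a) ≤ m ^ a := Ideal.pow_le_pow_right (by omega)
    have h3 : (seq a).1 - (seq b).1 = -((seq b).1 - (seq a).1) := by ring
    rw [h3]
    simpa using neg_mem (h2 h1))
  have hL' : ∀ j, (seq j).1 - L ∈ m ^ j := by
    intro j
    have := hL j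
    rw [SModEq.sub_mem] at this
    simpa using this
  -- L ∉ m^n
  have hLn : L ∉ m ^ n := by
    intro hLmem
    apply hx0
    have h1 : (seq n).1 - x0 ∈ m ^ n := by
      have := hseqle 0 n (Nat.zero_le n)
      simpa [hseq0] using this
    have h2 := hL' n
    have : x0 = (seq n).1 - ((seq n).1 - x0) := by ring
    rw [this]
    have h3 : (seq n).1 = ((seq n).1 - L) + L := by ring
    exact sub_mem (h3 ▸ add_mem h2 hLmem) h1
  -- L ∈ I s for all s
  have hLI : ∀ s, L ∈ I s := by
    intro s
    have hall : ∀ j, L ∈ I s ⊔ m ^ j := by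
      intro j
      have h1 : (seq j).1 ∈ I s ⊔ m ^ j := by
        have h2 := hE (n + j) s (seq j).2
        have h3 : m ^ (n + j) ≤ m ^ j := Ideal.pow_le_pow_right (by omega)
        exact (sup_le_sup_left h3 _) h2
      have h4 : L = (seq j).1 - ((seq j).1 - L) := by ring
      rw [h4]
      exact sub_mem h1 (Ideal.mem_sup_right (hL' j))
    -- closedness of I s
    have hfin : Module.Finite R (R ⧸ I s) := inferInstance
    have hbot := Ideal.iInf_pow_smul_eq_bot_of_isLocalRing (R := R) (M := R ⧸ I s) (I := m)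
      (Ideal.IsPrime.ne_top inferInstance)
    have hmem : (Ideal.Quotient.mk (I s) L : R ⧸ I s) ∈
        (⨅ i : ℕ, m ^ i • ⊤ : Submodule R (R ⧸ I s)) := by
      rw [Submodule.mem_iInf]
      intro j
      obtain ⟨a, ha, b, hb, hab⟩ := Submodule.mem_sup.1 (hall j)
      have : (Ideal.Quotient.mk (I s) L : R ⧸ I s) = b • (1 : R ⧸ I s) := by
        rw [← hab, map_add, Ideal.Quotient.eq_zero_iff_mem.2 ha, zero_add, Algebra.smul_def, mul_one]
        rfl
      rw [this]
      exact Submodule.smul_mem_smul hb Submodule.mem_top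
    rw [hbot, Submodule.mem_bot] at hmem
    exact Ideal.Quotient.eq_zero_iff_mem.1 hmem
  have hL0 : L ∈ (⨅ s, I s) := (Ideal.mem_iInf).2 hLI
  rw [hinf, Ideal.mem_bot] at hL0
  exact hLn (hL0 ▸ Ideal.zero_mem _)

end Groth.Agent.S17754
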