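-- Statement S17756.
import Groth.Statements.S17756
import Mathlib
import Groth.Agent.Lib.Helper1.Matlis

set_option autoImplicit false
universe u
open Matlis

namespace Groth.Agent.S17756

/-- Let R be a Noetherian local ring with maximal ideal m and residue field k, E an injective hull of k,
and M a finitely generated R-module with Matlis dual M^v = Hom_R(M, E). Then the minimal number of
generators of M equals the k-dimension of the socle of M^v, the submodule of elements of M^v killed
by m (stated as its length as an R-module). -/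
theorem result (R : Type u) [CommRing R] [IsNoetherianRing R] [IsLocalRing R] (E : Type u) [AddCommGroup E] [Module R E] (f : IsLocalRing.ResidueField R →ₗ[R] E) (hf : InjHull.IsInjectiveHull f) (M : Type u) [AddCommGroup M] [Module R M] [Module.Finite R M] : ((⊤ : Submodule R M).spanFinrank : ℕ∞) = Module.length R (LocCoh.torsionBy (IsLocalRing.maximalIdeal R) (M →ₗ[R] E)) := by
  classical
  set 𝔪 := IsLocalRing.maximalIdeal R with h𝔪
  -- the socle of the dual is the dual of `M/𝔪M`
  let N := M ⧸ (𝔪 • (⊤ : Submodule R M))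
  have hΨ : ∀ χ : N →ₗ[R] E, χ ∘ₗ (𝔪 • (⊤ : Submodule R M)).mkQ ∈
      LocCoh.torsionBy 𝔪 (M →ₗ[R] E) := by
    intro χ
    rw [Submodule.mem_torsionBySet_iff]
    rintro ⟨a, ha⟩
    ext x
    change a • χ (Submodule.Quotient.mk x) = 0
    rw [← map_smul, ← Submodule.Quotient.mk_smul,
      (Submodule.Quotient.mk_eq_zero _).2 (Submodule.smul_mem_smul ha Submodule.mem_top), map_zero]
  let Ψ : (N →ₗ[R] E) →ₗ[R] LocCoh.torsionBy 𝔪 (M →ₗ[R] E) :=
    LinearMap.codRestrict _ (LinearMap.lcomp R E (𝔪 • (⊤ : Submodule R M)).mkQ) hΨ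
  have hΨbij : Function.Bijective Ψ := by
    constructor
    · intro χ₁ χ₂ h
      have h' : χ₁ ∘ₗ (𝔪 • (⊤ : Submodule R M)).mkQ = χ₂ ∘ₗ (𝔪 • (⊤ : Submodule R M)).mkQ :=
        congrArg Subtype.val h
      apply LinearMap.ext
      intro y
      obtain ⟨x, rfl⟩ := Submodule.Quotient.mk_surjective _ y
      exact LinearMap.congr_fun h' x
    · rintro ⟨φ, hφ⟩
      rw [Submodule.mem_torsionBySet_iff] at hφ
      have hle : 𝔪 • (⊤ : Submodule R M) ≤ LinearMap.ker φ := by
        rw [Submodule.smul_le]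
        intro a ha x _
        rw [LinearMap.mem_ker, map_smul]
        exact LinearMap.congr_fun (hφ ⟨a, ha⟩) x
      refine ⟨(𝔪 • (⊤ : Submodule R M)).liftQ φ hle, ?_⟩
      apply Subtype.ext
      ext x
      rfl
  have h1 : Module.length R (LocCoh.torsionBy 𝔪 (M →ₗ[R] E)) = Module.length R (N →ₗ[R] E) :=
    ((LinearEquiv.ofBijective Ψ hΨbij).length_eq).symm
  -- `μ(M) = length (M/𝔪M)`
  have hfg : (⊤ : Submodule R M).FG := Module.Finite.fg_top
  have h2 := IsLocalRing.spanFinrank_eq_finrank_quotient (⊤ : Submodule R M) hfg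
  have hfin : Module.Finite (R ⧸ 𝔪)
      ((⊤ : Submodule R M) ⧸ 𝔪 • (⊤ : Submodule R (⊤ : Submodule R M))) :=
    Module.Finite.of_restrictScalars_finite R _ _
  have h3 : Module.length (R ⧸ 𝔪)
      ((⊤ : Submodule R M) ⧸ 𝔪 • (⊤ : Submodule R (⊤ : Submodule R M))) =
      (Module.finrank (R ⧸ 𝔪)
        ((⊤ : Submodule R M) ⧸ 𝔪 • (⊤ : Submodule R (⊤ : Submodule R M))) : ℕ∞) := by
    letI : Field (R ⧸ 𝔪) := Ideal.Quotient.field 𝔪
    exact Module.length_eq_finrank (R ⧸ 𝔪) _
  have h4 : Module.length R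
      ((⊤ : Submodule R M) ⧸ 𝔪 • (⊤ : Submodule R (⊤ : Submodule R M))) =
      Module.length (R ⧸ 𝔪)
      ((⊤ : Submodule R M) ⧸ 𝔪 • (⊤ : Submodule R (⊤ : Submodule R M))) :=
    Module.length_eq_of_surjective Ideal.Quotient.mk_surjective
  let e : ((⊤ : Submodule R M) ⧸ 𝔪 • (⊤ : Submodule R (⊤ : Submodule R M))) ≃ₗ[R] N :=
    Submodule.Quotient.equiv _ _ Submodule.topEquiv (by
      rw [Submodule.map_smul'', Submodule.map_top]
      congr 1
      exact LinearMap.range_eq_top.2 Submodule.topEquiv.surjective)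
  have h5 : Module.length R N = (((⊤ : Submodule R M).spanFinrank : ℕ) : ℕ∞) := by
    rw [← e.length_eq, h4, h3, h2]
  have hNfl : IsFiniteLength R N := by
    rw [← Module.length_ne_top_iff, h5]
    exact ENat.coe_ne_top _
  rw [h1, Groth.Agent.Lib.Helper1.Matlis.length_hom_eq_of_isFiniteLength f hf N hNfl, h5]

end Groth.Agent.S17756
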