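import Groth.Statements.S17758
import Groth.Agent.Lib.Helper4.HLVT2
import Groth.Agent.Lib.Helper20.LCNonVanish3

set_option autoImplicit false
universe u
open LocCoh

namespace Groth.Agent.S17758

/-- Let R be a complete Noetherian local domain of Krull dimension d with maximal ideal m, and I a
proper ideal of R of arithmetic rank at most d − 2: there are elements f_1, …, f_t with t + 2 ≤ d
such that I and (f_1, …, f_t) have the same radical. Then the punctured spectrum of R ⧸ I, viewed as
the set of prime ideals of R that contain I and differ from m, is a nonempty connected subset of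
Spec R. (Connectedness is taken here to include nonemptiness, so the unit ideal, whose punctured
spectrum is empty, is excluded; for a proper I nonemptiness is automatic, since otherwise I would be
m-primary and m would be minimal over an ideal generated by t ≤ d − 2 elements, against Krull's
height bound.) -/
theorem result (R : Type u) [CommRing R] [IsDomain R] [IsNoetherianRing R] [IsLocalRing R] [IsAdicComplete (IsLocalRing.maximalIdeal R) R] (d : ℕ) (hd : ringKrullDim R = d) (t : ℕ) (ht : t + 2 ≤ d) (f : Fin t → R) (I : Ideal R) (hItop : I ≠ ⊤) (hI : I.radical = (Ideal.span (Set.range f)).radical) : IsConnected {x : PrimeSpectrum R | I ≤ x.asIdeal ∧ x.asIdeal ≠ IsLocalRing.maximalIdeal R} := by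
  classical
  have hmprime : (IsLocalRing.maximalIdeal R).IsPrime := (IsLocalRing.maximalIdeal.isMaximal R).isPrime
  have hIm : I ≤ IsLocalRing.maximalIdeal R := IsLocalRing.le_maximalIdeal hItop
  have hs : (Ideal.span ((Finset.univ.image f : Finset R) : Set R)) = Ideal.span (Set.range f) := by
    rw [Finset.coe_image, Finset.coe_univ, Set.image_univ]
  have hscard : (Finset.univ.image f : Finset R).card ≤ t := by
    refine (Finset.card_image_le).trans ?_
    simp
  have hcd : ∀ J : Ideal R, J.radical = I.radical → ∀ i : ℕ, t < i →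
      Subsingleton (LocCoh.H J i R) := by
    intro J hJ i hi
    exact Groth.Agent.Lib.Helper4.HLVT.subsingleton_H_of_radical_eq_span J (Finset.univ.image f)
      (by rw [hJ, hI, hs]) R i (lt_of_le_of_lt hscard hi)
  have hnv : ∀ J : Ideal R, J.radical = IsLocalRing.maximalIdeal R →
      ¬ Subsingleton (LocCoh.H J d R) := by
    intro J hJ hsub
    rw [Groth.Agent.Lib.Helper4.LC.subsingleton_H_iff] at hsub
    have hd' : ringKrullDim (R ⧸ (⊥ : Ideal R)) = d :=
      (ringKrullDim_eq_of_ringEquiv (RingEquiv.quotientBot R)).trans hd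
    have h1 := Groth.Agent.Lib.Helper20.LCNonVanish.radical_sup_ne_of_subsingleton_top R J d hd hsub
      ⊥ hd'
    rw [bot_sup_eq] at h1
    exact h1 hJ
  refine ⟨?_, ?_⟩
  · by_contra hne
    rw [Set.not_nonempty_iff_eq_empty] at hne
    have hrad : I.radical = IsLocalRing.maximalIdeal R := by
      apply le_antisymm
      · exact hmprime.radical_le_iff.2 hIm
      · rw [Ideal.radical_eq_sInf]
        refine le_sInf fun P hP => ?_
        have hPeq : P = IsLocalRing.maximalIdeal R := by
          by_contra hPm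
          have h1 : (⟨P, hP.2⟩ : PrimeSpectrum R) ∈
              ({x : PrimeSpectrum R | I ≤ x.asIdeal ∧ x.asIdeal ≠ IsLocalRing.maximalIdeal R}) :=
            ⟨hP.1, hPm⟩
          rw [hne] at h1
          exact h1
        rw [hPeq]
    exact hnv (IsLocalRing.maximalIdeal R) hmprime.radical
      (hcd (IsLocalRing.maximalIdeal R) (by rw [hmprime.radical, hrad]) d (by omega))
  · rw [isPreconnected_closed_iff]
    intro Z1 Z2 hZ1 hZ2 hcover hne1 hne2
    obtain ⟨a', rfl⟩ := (PrimeSpectrum.isClosed_iff_zeroLocus_ideal Z1).1 hZ1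
    obtain ⟨b', rfl⟩ := (PrimeSpectrum.isClosed_iff_zeroLocus_ideal Z2).1 hZ2
    by_contra hemp
    rw [Set.not_nonempty_iff_eq_empty] at hemp
    obtain ⟨q1, ⟨hq1I, hq1m⟩, hq1a⟩ := hne1
    obtain ⟨q2, ⟨hq2I, hq2m⟩, hq2b⟩ := hne2
    have hq1a' : a' ≤ q1.asIdeal := fun x hx => ((PrimeSpectrum.mem_zeroLocus _ _).1 hq1a) hx
    have hq2b' : b' ≤ q2.asIdeal := fun x hx => ((PrimeSpectrum.mem_zeroLocus _ _).1 hq2b) hx
    have hq1le : q1.asIdeal ≤ IsLocalRing.maximalIdeal R :=
      IsLocalRing.le_maximalIdeal q1.isPrime.ne_top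
    have hq2le : q2.asIdeal ≤ IsLocalRing.maximalIdeal R :=
      IsLocalRing.le_maximalIdeal q2.isPrime.ne_top
    have haq : a' ⊔ I ≤ q1.asIdeal := sup_le hq1a' hq1I
    have hbq : b' ⊔ I ≤ q2.asIdeal := sup_le hq2b' hq2I
    have hrad1 : ((a' ⊔ I) ⊓ (b' ⊔ I)).radical = I.radical := by
      apply le_antisymm
      · rw [Ideal.radical_le_radical_iff, Ideal.radical_eq_sInf I]
        refine le_sInf fun P hP => ?_
        by_cases hPm : P = IsLocalRing.maximalIdeal R
        · rw [hPm]
          exact inf_le_left.trans (haq.trans hq1le)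
        · have h1 : (⟨P, hP.2⟩ : PrimeSpectrum R) ∈
              ({x : PrimeSpectrum R | I ≤ x.asIdeal ∧ x.asIdeal ≠ IsLocalRing.maximalIdeal R}) :=
            ⟨hP.1, hPm⟩
          rcases hcover h1 with h2 | h2
          · have h3 : a' ≤ P := fun x hx => ((PrimeSpectrum.mem_zeroLocus _ _).1 h2) hx
            exact inf_le_left.trans (sup_le h3 hP.1)
          · have h3 : b' ≤ P := fun x hx => ((PrimeSpectrum.mem_zeroLocus _ _).1 h2) hx
            exact inf_le_right.trans (sup_le h3 hP.1)
      · exact Ideal.radical_mono (le_inf le_sup_right le_sup_right)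
    have hrad2 : ((a' ⊔ I) ⊔ (b' ⊔ I)).radical = IsLocalRing.maximalIdeal R := by
      apply le_antisymm
      · exact hmprime.radical_le_iff.2 (sup_le (haq.trans hq1le) (hbq.trans hq2le))
      · rw [Ideal.radical_eq_sInf]
        refine le_sInf fun P hP => ?_
        have hPeq : P = IsLocalRing.maximalIdeal R := by
          by_contra hPm
          have hIP : I ≤ P := le_sup_right.trans (le_sup_left.trans hP.1)
          have haP : a' ≤ P := le_sup_left.trans (le_sup_left.trans hP.1)
          have hbP : b' ≤ P := le_sup_left.trans (le_sup_right.trans hP.1)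
          have h1 : (⟨P, hP.2⟩ : PrimeSpectrum R) ∈
              ({x : PrimeSpectrum R | I ≤ x.asIdeal ∧ x.asIdeal ≠ IsLocalRing.maximalIdeal R} ∩
                (PrimeSpectrum.zeroLocus (a' : Set R) ∩ PrimeSpectrum.zeroLocus (b' : Set R))) :=
            ⟨⟨hIP, hPm⟩, (PrimeSpectrum.mem_zeroLocus _ _).2 (fun x hx => haP hx),
              (PrimeSpectrum.mem_zeroLocus _ _).2 (fun x hx => hbP hx)⟩
          rw [hemp] at h1
          exact h1
        rw [hPeq]
    obtain ⟨e, rfl⟩ : ∃ e, d = e + 1 := ⟨d - 1, by omega⟩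
    have hva : Subsingleton (LocCoh.H (a' ⊔ I) (e + 1) R) :=
      Groth.Agent.Lib.Helper4.HLVT.subsingleton_H_top_of_domain_of_le_prime (a' ⊔ I) q1.asIdeal haq
        hq1m R (e + 1) (le_of_eq hd)
    have hvb : Subsingleton (LocCoh.H (b' ⊔ I) (e + 1) R) :=
      Groth.Agent.Lib.Helper4.HLVT.subsingleton_H_top_of_domain_of_le_prime (b' ⊔ I) q2.asIdeal hbq
        hq2m R (e + 1) (le_of_eq hd)
    have hv0 : Subsingleton (LocCoh.H ((a' ⊔ I) ⊓ (b' ⊔ I)) e R) :=
      hcd ((a' ⊔ I) ⊓ (b' ⊔ I)) hrad1 e (by omega)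
    exact hnv ((a' ⊔ I) ⊔ (b' ⊔ I)) hrad2
      (Groth.Agent.Lib.Helper4.HLVT.subsingleton_H_sup_of_mv (a' ⊔ I) (b' ⊔ I) R e hv0 hva hvb)

end Groth.Agent.S17758
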