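import Mathlib
import Groth.Agent.Lib.Helper20.LCNonVanish
import Groth.Statements.S17761
-- import your own Groth.Agent.* helpers here

set_option autoImplicit false
universe u
open LocCoh

open CategoryTheory Groth.Agent.Lib.Helper4.LC Pointwise

namespace Groth.Agent.S17761

/-- Let R be a Noetherian local ring with maximal ideal m and M a finitely generated R-module whose
support has positive dimension n. Then the local cohomology module H^n_m(M) is not a finitely
generated R-module. -/
theorem result (R : Type u) [CommRing R] [IsNoetherianRing R] [IsLocalRing R] (M : Type u) [AddCommGroup M] [Module R M] [Module.Finite R M] (n : ℕ) (hn0 : 0 < n) (hn : Module.supportDim R M = n) : ¬ Module.Finite R (LocCoh.H (IsLocalRing.maximalIdeal R) n M) := by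
  classical
  intro hfin
  haveI : Module.Finite R (HH (IsLocalRing.maximalIdeal R) (ModuleCat.of R M) n) :=
    Module.Finite.equiv (lcEquiv (IsLocalRing.maximalIdeal R) (ModuleCat.of R M) n)
  have hnt : Nontrivial (HH (IsLocalRing.maximalIdeal R) (ModuleCat.of R M) n) :=
    Groth.Agent.Lib.Helper20.LCNonVanish.nontrivial_top n M hn
  -- prime avoidance
  have hSfin : ((Module.annihilator R M).minimalPrimes).Finite :=
    Ideal.finite_minimalPrimes_of_isNoetherianRing R _
  have hSne : ∀ P ∈ (Module.annihilator R M).minimalPrimes, P ≠ IsLocalRing.maximalIdeal R := by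
    intro P hP hPm
    -- then the support is `{𝔪}` and the dimension is `≤ 0`
    have hle : Module.supportDim R M ≤ 0 := by
      unfold Module.supportDim
      have key : ∀ q ∈ Module.support R M, q.asIdeal = IsLocalRing.maximalIdeal R := by
        intro q hq
        have hq' := Module.mem_support_iff_of_finite.1 hq
        have h1 : P ≤ q.asIdeal := by
          rw [hPm]
          rw [hPm] at hP
          exact hP.2 ⟨q.isPrime, hq'⟩ (IsLocalRing.le_maximalIdeal q.isPrime.ne_top)
        rw [hPm] at h1
        exact ((IsLocalRing.maximalIdeal.isMaximal R).eq_of_le q.isPrime.ne_top h1).symm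
      haveI : Subsingleton (Module.support R M) := by
        refine ⟨fun ⟨a, ha⟩ ⟨b, hb⟩ => ?_⟩
        apply Subtype.ext
        apply PrimeSpectrum.ext
        rw [key a ha, key b hb]
      exact Order.krullDim_nonpos_of_subsingleton
    rw [hn] at hle
    have : (n : WithBot ℕ∞) ≤ ((0 : ℕ) : WithBot ℕ∞) := hle
    have h0 : n ≤ 0 := by exact_mod_cast this
    omega
  have hnot : ¬ (((IsLocalRing.maximalIdeal R : Ideal R) : Set R) ⊆
      ⋃ P ∈ (↑hSfin.toFinset : Set (Ideal R)), ((id P : Ideal R) : Set R)) := by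
    rw [Ideal.subset_union_prime (f := id) ⊥ ⊥
      (fun P hP _ _ => (hSfin.mem_toFinset.1 hP).1.1)]
    rintro ⟨P, hP, hle⟩
    have hP' := hSfin.mem_toFinset.1 hP
    exact hSne P hP'
      ((IsLocalRing.maximalIdeal.isMaximal R).eq_of_le hP'.1.1.ne_top hle).symm
  rw [Set.not_subset] at hnot
  obtain ⟨x, hxm, hxS⟩ := hnot
  have hx : ∀ P ∈ (Module.annihilator R M).minimalPrimes, x ∉ P := fun P hP hxP =>
    hxS (Set.mem_biUnion (Finset.mem_coe.2 (hSfin.mem_toFinset.2 hP)) hxP)
  have hdimQ := Module.supportDim_quotSMulTop_succ_le_of_notMem_minimalPrimes (M := M) hx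
  -- vanishing of `H^n(M/xM)`
  have hQ0 : Subsingleton (HH (IsLocalRing.maximalIdeal R) (ModuleCat.of R (QuotSMulTop x M)) n) := by
    apply HH.subsingleton_of_supportDim_lt_finite
    rw [hn] at hdimQ
    cases h : Module.supportDim R (QuotSMulTop x M) with
    | bot => exact WithBot.bot_lt_coe _
    | coe a =>
      rw [h] at hdimQ
      have h1 : ((a + 1 : ℕ∞) : WithBot ℕ∞) ≤ ((n : ℕ∞) : WithBot ℕ∞) := by exact_mod_cast hdimQ
      have h2 : a + 1 ≤ (n : ℕ∞) := WithBot.coe_le_coe.1 h1
      have h3 : a < (n : ℕ∞) := lt_of_lt_of_le (ENat.lt_add_one_iff (by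
        intro ht; rw [ht] at h2; simp at h2) |>.2 le_rfl) h2
      exact_mod_cast WithBot.coe_lt_coe.2 h3
  -- the two short exact sequences
  let g1 : M →ₗ[R] (x • (⊤ : Submodule R M) : Submodule R M) :=
    (LinearMap.lsmul R M x).codRestrict (x • ⊤)
      (fun m => Submodule.smul_mem_pointwise_smul m x ⊤ trivial)
  have hg1 : Function.Surjective g1 := by
    rintro ⟨y, hy⟩
    obtain ⟨m, -, rfl⟩ := (Submodule.mem_smul_pointwise_iff_exists y x ⊤).1 hy
    exact ⟨m, rfl⟩
  have hS1 := sesOf_shortExact (LinearMap.ker g1).subtype g1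
    (LinearMap.exact_subtype_ker_map g1) (Submodule.injective_subtype _) hg1
  have hS2 := sesOf_shortExact (x • (⊤ : Submodule R M)).subtype (x • (⊤ : Submodule R M)).mkQ
    (LinearMap.exact_subtype_mkQ _) (Submodule.injective_subtype _)
    (Submodule.mkQ_surjective _)
  have hK0 : Subsingleton (HH (IsLocalRing.maximalIdeal R)
      (ModuleCat.of R (LinearMap.ker g1)) (n + 1)) := by
    apply HH.subsingleton_of_supportDim_lt_finite
    refine lt_of_le_of_lt (Module.supportDim_le_of_injective (LinearMap.ker g1).subtype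
      (Submodule.injective_subtype _)) ?_
    rw [hn]
    exact_mod_cast Nat.lt_succ_self n
  have hs1 := HH.map_g_surjective (IsLocalRing.maximalIdeal R) hS1 n hK0
  have hs2 := HH.map_f_surjective (IsLocalRing.maximalIdeal R) hS2 n hQ0
  -- multiplication by `x` is surjective
  have hcomp : (x • 𝟙 (ModuleCat.of R M) : ModuleCat.of R M ⟶ ModuleCat.of R M) =
      ModuleCat.ofHom g1 ≫ ModuleCat.ofHom (x • (⊤ : Submodule R M)).subtype := by
    apply ModuleCat.hom_ext
    apply LinearMap.ext
    intro m
    rfl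
  have hsurj : ∀ z : HH (IsLocalRing.maximalIdeal R) (ModuleCat.of R M) n, ∃ w, z = x • w := by
    intro z
    obtain ⟨y, hy⟩ := hs2 z
    obtain ⟨w, hw⟩ := hs1 y
    refine ⟨w, ?_⟩
    rw [HH.smul_eq_map, hcomp, HH.map_comp]
    show z = HH.map _ (ModuleCat.ofHom (x • (⊤ : Submodule R M)).subtype) n
      (HH.map _ (ModuleCat.ofHom g1) n w)
    rw [show HH.map (IsLocalRing.maximalIdeal R) (ModuleCat.ofHom g1) n w = y from hw]
    exact hy.symm
  -- Nakayama
  have htop : (⊤ : Submodule R (HH (IsLocalRing.maximalIdeal R) (ModuleCat.of R M) n)) = ⊥ := by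
    apply Submodule.eq_bot_of_le_smul_of_le_jacobson_bot (IsLocalRing.maximalIdeal R) ⊤
      (Module.Finite.fg_top)
    · intro z _
      obtain ⟨w, rfl⟩ := hsurj z
      exact Submodule.smul_mem_smul hxm trivial
    · exact IsLocalRing.maximalIdeal_le_jacobson ⊥
  obtain ⟨a, b, hab⟩ := hnt
  apply hab
  have ha : a ∈ (⊤ : Submodule R (HH (IsLocalRing.maximalIdeal R) (ModuleCat.of R M) n)) := trivial
  have hb : b ∈ (⊤ : Submodule R (HH (IsLocalRing.maximalIdeal R) (ModuleCat.of R M) n)) := trivial
  rw [htop, Submodule.mem_bot] at ha hb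
  rw [ha, hb]

end Groth.Agent.S17761
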