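import Groth.Statements.S17764
import Mathlib

set_option autoImplicit false
universe u
open InjHull

namespace Groth.Agent.S17764

/-- Let R be a commutative ring and M an R-module which is torsion-free (no nonzero element of R kills a
nonzero element of M) and divisible (multiplication by every nonzero element of R is surjective on
M). Then M is an injective R-module. (Over a ring with zero divisors the two hypotheses force M =
0.) -/
theorem result (R : Type u) [CommRing R] (M : Type u) [AddCommGroup M] [Module R M] [NoZeroSMulDivisors R M] (hdiv : ∀ r : R, r ≠ 0 → Function.Surjective (fun m : M => r • m)) : Module.Injective R M := by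
  classical
  apply Module.Baer.injective
  intro I g
  by_cases hI : ∃ a : R, a ∈ I ∧ a ≠ 0
  · obtain ⟨a, haI, ha0⟩ := hI
    obtain ⟨m, hm⟩ := hdiv a ha0 (g ⟨a, haI⟩)
    refine ⟨LinearMap.toSpanSingleton R M m, ?_⟩
    intro x hx
    rw [LinearMap.toSpanSingleton_apply]
    -- a • (g x - x • m) = 0
    have h1 : a • g ⟨x, hx⟩ = a • (x • m) := by
      have e1 : a • g ⟨x, hx⟩ = g (a • ⟨x, hx⟩) := (map_smul g a _).symm
      have e2 : (a • (⟨x, hx⟩ : I)) = x • (⟨a, haI⟩ : I) := by
        ext; simp [mul_comm]
      rw [e1, e2, map_smul, ← hm]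
      simp only
      rw [smul_smul, smul_smul, mul_comm]
    have h2 : a • (g ⟨x, hx⟩ - x • m) = 0 := by rw [smul_sub, h1, sub_self]
    have h3 := (eq_zero_or_eq_zero_of_smul_eq_zero h2).resolve_left ha0
    exact (sub_eq_zero.1 h3).symm
  · push Not at hI
    refine ⟨0, ?_⟩
    intro x hx
    have hx0 : x = 0 := hI x hx
    subst hx0
    have : (⟨0, hx⟩ : I) = 0 := rfl
    rw [this, map_zero, map_zero]

end Groth.Agent.S17764
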