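import Groth.Statements.S17765
import Groth.Agent.Lib.Helper26.RegularAB

set_option autoImplicit false
universe u
open CategoryTheory
open LocCoh

namespace Groth.Agent.S17765

/-- Let B be a regular local ring, M a finitely generated B-module and p an associated prime ideal of M.
Then the height of p is at most the projective dimension of M: for every n such that M has
projective dimension at most n, ht p ≤ n. -/
theorem result (B : Type u) [CommRing B] [IsRegularLocalRing B] (M : Type u) [AddCommGroup M] [Module B M] [Module.Finite B M] (p : Ideal B) (hp : p ∈ associatedPrimes B M) (n : ℕ) (hn : HasProjectiveDimensionLE (ModuleCat.of B M) n) : p.height ≤ n := by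
  haveI : p.IsPrime := hp.isPrime
  haveI : IsRegularLocalRing (Localization.AtPrime p) :=
    Groth.Agent.Lib.Helper26.RegularRing.isRegularLocalRing_localization_atPrime B p
  haveI := hn
  have h1 : HasProjectiveDimensionLE ((ModuleCat.of B M).localizedModule p.primeCompl) n :=
    ModuleCat.localizedModule_hasProjectiveDimensionLE n p.primeCompl (ModuleCat.of B M)
  haveI hloc := ModuleCat.localizedModule_isLocalizedModule (ModuleCat.of B M) p.primeCompl
  have hass : IsLocalRing.maximalIdeal (Localization.AtPrime p) ∈
      associatedPrimes (Localization.AtPrime p)
        ((ModuleCat.of B M).localizedModule p.primeCompl) := by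
    apply Module.associatedPrimes.mem_associatedPrimes_of_comap_mem_associatedPrimes_of_isLocalizedModule
      p.primeCompl ((ModuleCat.of B M).localizedModuleMkLinearMap p.primeCompl)
    simpa [Localization.AtPrime.under_maximalIdeal] using hp
  obtain ⟨h, hh⟩ := Groth.Agent.Lib.Helper26.SerreReg.exists_nat_ringKrullDim
    (Localization.AtPrime p)
  have hle := Groth.Agent.Lib.Helper26.RegularAB.le_of_hasProjectiveDimensionLT_of_mem_associatedPrimes
    (Localization.AtPrime p) hh _ hass n h1
  have hht := IsLocalization.AtPrime.ringKrullDim_eq_height p (Localization.AtPrime p)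
  rw [hh] at hht
  have : p.height = (h : ℕ∞) := by exact_mod_cast hht.symm
  rw [this]
  exact_mod_cast hle

end Groth.Agent.S17765
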