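import Mathlib
import Groth.Agent.Lib.Helper20.GrLES2
import Groth.Agent.Lib.Helper20.GrArtin
import Groth.Agent.Lib.Helper20.LCArtinMax
import Groth.Statements.S17767
-- import your own Groth.Agent.* helpers here

set_option autoImplicit false
universe u
open GrLC

open GrLC Groth.Agent.Lib.Helper20.GrLES2 Groth.Agent.Lib.Helper20.GrLES Groth.Agent.Lib.Helper20.GrArtin

namespace Groth.Agent.S17767

/-- Let R = ⊕_{n ≥ 0} R_n be a Noetherian positively ℤ-graded ring which is *local, i.e. has a unique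
homogeneous maximal ideal m (equivalently R_0 is local), and let M be a finitely generated graded
R-module. Then for every i the homogeneous pieces H^i_m(M)_n of the graded local cohomology with
support in m, computed from any *injective resolution of M in the graded category, are zero for all
sufficiently large n. -/
theorem result (R : Type u) [CommRing R] [IsNoetherianRing R] (𝒜 : ℤ → AddSubgroup R) [GradedRing 𝒜] (hpos : ∀ n : ℤ, n < 0 → 𝒜 n = ⊥) (m : HomogeneousIdeal 𝒜) (hm : GrLC.IsStarLocal 𝒜 m) (M : Type u) [AddCommGroup M] [Module R M] [Module.Finite R M] (ℳ : ℤ → AddSubgroup M) [DirectSum.Decomposition ℳ] [SetLike.GradedSMul 𝒜 ℳ] (E : GrLC.StarInjRes 𝒜 ℳ) (i : ℕ) : ∃ N : ℤ, ∀ n : ℤ, N ≤ n → E.Hcomp m i n = ⊥ := by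
  haveI := isMaximal_of_isCoatom 𝒜 hpos m hm.1
  haveI : IsArtinian R (Groth.Agent.Lib.Helper4.LC.HH m.toIdeal (ModuleCat.of R M) i) :=
    Groth.Agent.Lib.Helper20.LCArtinMax.HH.isArtinian_of_isMaximal m.toIdeal i M
  haveI : IsArtinian R (E.H m i) := isArtinian_of_linearEquiv (cmpE E m i).symm
  letI := decH E m i
  obtain ⟨N, hN⟩ := eventually_bot_of_isArtinian 𝒜 (E.Hgr m i) hpos
  refine ⟨N, fun n hn => ?_⟩
  have h1 := hN n hn
  rw [eq_bot_iff]
  intro x hx
  have h2 : x ∈ E.Hgr m i n := hx
  rw [h1, AddSubgroup.mem_bot] at h2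
  rw [h2]
  exact zero_mem _

end Groth.Agent.S17767
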