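import Mathlib
import Groth.Agent.Lib.Helper20.GrLES2
import Groth.Agent.Lib.Helper20.GrArtin
import Groth.Agent.Lib.Helper20.LCArtinMax
import Groth.Statements.S17768
-- import your own Groth.Agent.* helpers here

set_option autoImplicit false
universe u
open GrLC

open GrLC Groth.Agent.Lib.Helper20.GrLES2 Groth.Agent.Lib.Helper20.GrLES Groth.Agent.Lib.Helper20.GrArtin

namespace Groth.Agent.S17768

/-- Let R = ⊕_{n ≥ 0} R_n be a Noetherian positively ℤ-graded ring which is *local with unique
homogeneous maximal ideal m (equivalently R_0 is local), and let M be a finitely generated graded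
R-module. Then for every i and every n the homogeneous piece H^i_m(M)_n of the graded local
cohomology with support in m, computed from any *injective resolution of M in the graded category,
is an Artinian R_0-module. -/
theorem result (R : Type u) [CommRing R] [IsNoetherianRing R] (𝒜 : ℤ → AddSubgroup R) [GradedRing 𝒜] (hpos : ∀ n : ℤ, n < 0 → 𝒜 n = ⊥) (m : HomogeneousIdeal 𝒜) (hm : GrLC.IsStarLocal 𝒜 m) (M : Type u) [AddCommGroup M] [Module R M] [Module.Finite R M] (ℳ : ℤ → AddSubgroup M) [DirectSum.Decomposition ℳ] [SetLike.GradedSMul 𝒜 ℳ] (E : GrLC.StarInjRes 𝒜 ℳ) (i : ℕ) (n : ℤ) : IsArtinian (GrLC.deg0 𝒜) (E.Hcomp m i n) := by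
  haveI := isMaximal_of_isCoatom 𝒜 hpos m hm.1
  haveI : IsArtinian R (Groth.Agent.Lib.Helper4.LC.HH m.toIdeal (ModuleCat.of R M) i) :=
    Groth.Agent.Lib.Helper20.LCArtinMax.HH.isArtinian_of_isMaximal m.toIdeal i M
  haveI : IsArtinian R (E.H m i) := isArtinian_of_linearEquiv (cmpE E m i).symm
  letI := decH E m i
  have h := isArtinian_comp_of_isArtinian 𝒜 (E.Hgr m i) hpos n
  have he : GrLC.comp 𝒜 (E.Hgr m i) n = E.Hcomp m i n := by
    ext x
    exact Iff.rfl
  rw [← he]
  exact h

end Groth.Agent.S17768
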