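import Groth.Statements.S1777
import Mathlib
import Groth.Agent.Lib.Helper18.MaxCrit5

set_option autoImplicit false
universe u
open CategoryTheory
attribute [local instance] HasDerivedCategory.standard
open Dual

namespace Groth.Agent.S1777

/-- Let A → B be a flat local homomorphism of Noetherian local rings with m_A B = m_B and ω a normalized
dualizing complex for A. Assuming the derived base change functor D(A) → D(B) exists, the base
change of ω is a normalized dualizing complex for B. -/
theorem result (A B : Type u) [CommRing A] [CommRing B] [IsLocalRing A] [IsLocalRing B] [Algebra A B] [IsLocalHom (algebraMap A B)] [IsNoetherianRing A] [IsNoetherianRing B] [Module.Flat A B] (hm : (IsLocalRing.maximalIdeal A).map (algebraMap A B) = IsLocalRing.maximalIdeal B) [DRing.HasLBaseChange (algebraMap A B)] (ω : Dual.D A) (hω : Dual.IsDualizing A ω) (hn : Dual.IsNormalized A ω) : Dual.IsDualizing B ((DRing.LBaseChange (algebraMap A B)).obj ω) ∧ Dual.IsNormalized B ((DRing.LBaseChange (algebraMap A B)).obj ω) := by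
  have hmax : ∀ m' : Ideal B, m'.IsMaximal → ∃ m : Ideal A, m.map (algebraMap A B) = m' :=
    fun m' hm' => ⟨IsLocalRing.maximalIdeal A, hm.trans (IsLocalRing.eq_maximalIdeal hm').symm⟩
  refine ⟨Groth.Agent.Lib.Helper18.DR.MaxCrit.isDualizing_LBaseChange_of_maximal_map ω hω hmax, ?_⟩
  intro i hi
  obtain ⟨e⟩ := Groth.Agent.Lib.Helper18.DR.HomBC.nonempty_LBaseChange_iso_extD (A := A) (B := B) ω
  obtain ⟨a, b, hab⟩ := hω.finite_injective_dimension
  have hfid : Groth.Agent.Lib.Helper18.DR.HomLoc.FidIn ω a b := hab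
  haveI := hfid.isGE
  have h1 : Subsingleton (Groth.Agent.Lib.Helper18.DR.Sg 0
      (ModuleCat.of A (A ⧸ IsLocalRing.maximalIdeal A)) ⟶ ω⟦i⟧) := hn i hi
  have h2 := Groth.Agent.Lib.Helper18.DR.MaxCrit.subsingleton_hom_quot_extD (B := B) ω a
    (IsLocalRing.maximalIdeal A) i h1
  let eq : ModuleCat.of B (B ⧸ (IsLocalRing.maximalIdeal A).map (algebraMap A B)) ≅
      ModuleCat.of B (IsLocalRing.ResidueField B) :=
    (Submodule.quotEquivOfEq _ _ hm).toModuleIso
  let σ := (DerivedCategory.singleFunctor (ModuleCat.{u} B) 0).mapIso eq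
  exact ⟨fun x y => by
    rw [← cancel_epi σ.hom, ← cancel_mono ((shiftFunctor (Dual.D B) i).map e.hom)]
    exact h2.elim _ _⟩

end Groth.Agent.S1777
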