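import Mathlib
import Groth.Agent.Lib.Helper20.GrSerre2
import Groth.Agent.S17770
import Groth.Agent.Lib.Helper20.DepthMaxLoc
import Groth.Agent.Lib.Helper20.GrHeight2
import Groth.Statements.S17772
-- import your own Groth.Agent.* helpers here

set_option autoImplicit false
universe u
open GrLC

namespace Groth.Agent.S17772

/-- Let R = ⊕_{n ≥ 0} R_n be a positively ℤ-graded ring which is standard graded (irrelevant ideal
generated by R_1), with R_0 Artinian, *local with unique homogeneous maximal ideal m, and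
Cohen–Macaulay of Krull dimension d; let H_R(n) = ℓ_{R_0}(R_n) be its Hilbert function and P_R ∈
ℚ[X] its Hilbert polynomial (a polynomial agreeing with H_R for all large n, taken as given). Then
the a-invariant of R, the largest degree in which H^d_m(R) is nonzero (computed from any *injective
resolution of R), equals the supremum of the integers n with P_R(n) ≠ H_R(n). (The published text
writes 'min' for this supremum; the set of such n is unbounded below whenever it is nonempty, e.g.
all n < 0 for a polynomial ring over a field, and the published one-line proof H_R(n) − P_R(n) =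
(−1)^d ℓ(H^d_m(R)_n) identifies the set with the nonzero degrees of H^d_m(R), whose largest element
is a(R).) -/
theorem result (R : Type u) [CommRing R] [LocCoh.IsCohenMacaulayRing R] (𝒜 : ℤ → AddSubgroup R) [GradedRing 𝒜] (hpos : ∀ n : ℤ, n < 0 → 𝒜 n = ⊥) (hstd : Ideal.span (⋃ n ∈ Set.Ioi (0 : ℤ), (𝒜 n : Set R)) = Ideal.span ((𝒜 1 : AddSubgroup R) : Set R)) [IsArtinianRing (GrLC.deg0 𝒜)] (m : HomogeneousIdeal 𝒜) (hm : GrLC.IsStarLocal 𝒜 m) (d : ℕ) (hd : ringKrullDim R = d) (I : GrLC.StarInjRes 𝒜 𝒜) (P : Polynomial ℚ) (hP : ∃ N : ℤ, ∀ n : ℤ, N ≤ n → P.eval (n : ℚ) = ((Module.length (GrLC.deg0 𝒜) (GrLC.comp 𝒜 𝒜 n)).toNat : ℚ)) : GrLC.endDeg (I.Hgr m d) = ⨆ (n : ℤ) (_ : P.eval (n : ℚ) ≠ ((Module.length (GrLC.deg0 𝒜) (GrLC.comp 𝒜 𝒜 n)).toNat : ℚ)), ((n : WithTop ℤ) : WithBot (WithTop ℤ)) := by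
  classical
  have hmax : m.toIdeal.IsMaximal :=
    Groth.Agent.Lib.Helper20.GrArtin.isMaximal_of_isCoatom 𝒜 hpos m hm.1
  have hdim := Groth.Agent.Lib.Helper20.GrHeight2.ringKrullDim_eq_height 𝒜 m hm hpos
  rw [hd] at hdim
  have hht : m.toIdeal.height = ((d : ℕ) : ℕ∞) := by
    have : ((m.toIdeal.height : ℕ∞) : WithBot ℕ∞) = (((d : ℕ) : ℕ∞) : WithBot ℕ∞) := by
      rw [← hdim]
      rfl
    exact_mod_cast this
  have ha : (GrSyz.irrel 𝒜).toIdeal = Ideal.span (⋃ n ∈ Set.Ioi (0 : ℤ), (𝒜 n : Set R)) := by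
    change Ideal.span {r : R | ∃ n : ℤ, 0 < n ∧ r ∈ 𝒜 n} = _
    congr 1
    ext r
    simp only [Set.mem_ofPred_eq, Set.mem_iUnion, Set.mem_Ioi, SetLike.mem_coe, exists_prop]
  have hgam : ∀ (X : Type u) [AddCommGroup X] [Module R X],
      GrLC.gam m.toIdeal X = GrLC.gam (GrSyz.irrel 𝒜).toIdeal X :=
    fun X _ _ => Groth.Agent.Lib.Helper20.GrIrrelRad.gam_eq_irrel 𝒜 hpos m hm X
  have key : ∀ n : ℤ, (P.eval (n : ℚ) ≠
      ((Module.length (GrLC.deg0 𝒜) (GrLC.comp 𝒜 𝒜 n)).toNat : ℚ)) ↔ I.Hgr m d n ≠ ⊥ := by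
    intro n
    have h := Groth.Agent.S17770.result R 𝒜 hpos hstd m hm d hd R 𝒜 I P hP n
    have hvan : ∀ i ∈ Finset.range (d + 1), i ≠ d →
        (-1 : ℚ) ^ i * ((Module.length (GrLC.deg0 𝒜) (I.Hcomp m i n)).toNat : ℚ) = 0 := by
      intro i hi hne
      have hlt : i < d := by
        have := Finset.mem_range.1 hi
        omega
      have hHH := Groth.Agent.Lib.Helper20.DepthMaxLoc.HH.subsingleton_of_lt_height m.toIdeal i (by
        rw [hht]
        exact_mod_cast hlt)
      haveI : Subsingleton (I.H m i) :=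
        Groth.Agent.Lib.Helper20.GrLES2.subsingleton_H_of_HH I m i hHH
      have h0 : Module.length (GrLC.deg0 𝒜) (I.Hcomp m i n) = 0 := by
        rw [Module.length_eq_zero_iff]
        infer_instance
      rw [h0]
      simp
    rw [Finset.sum_eq_single_of_mem d (Finset.self_mem_range_succ d) hvan] at h
    have hlen := Groth.Agent.Lib.Helper20.GrSerre2.len_Hcomp_sameGam I m (GrSyz.irrel 𝒜) hgam d n
    have hfin := Groth.Agent.Lib.Helper20.GrSerre.length_Hcomp_ne_top (GrSyz.irrel 𝒜) ha I d n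
    constructor
    · intro hne hbot
      apply hne
      have hb : I.Hcomp m d n = ⊥ := by
        rw [Submodule.eq_bot_iff]
        intro z hz
        have : z ∈ I.Hgr m d n := hz
        rw [hbot] at this
        exact (AddSubgroup.mem_bot).1 this
      haveI : Subsingleton (I.Hcomp m d n) := by
        rw [hb]
        infer_instance
      have h0 : Module.length (GrLC.deg0 𝒜) (I.Hcomp m d n) = 0 := by
        rw [Module.length_eq_zero_iff]
        infer_instance
      rw [h0] at h
      simp at h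
      linarith
    · intro hne heq
      apply hne
      rw [heq, sub_self] at h
      have h0 : ((Module.length (GrLC.deg0 𝒜) (I.Hcomp m d n)).toNat : ℚ) = 0 := by
        have h1 := mul_eq_zero.1 h.symm
        rcases h1 with h1 | h1
        · exact absurd h1 (pow_ne_zero _ (by norm_num))
        · exact h1
      have h1 : Groth.Agent.Lib.Helper20.LenEuler.len (GrLC.deg0 𝒜)
          (I.Hcomp (GrSyz.irrel 𝒜) d n) = 0 := by
        rw [← hlen]
        exact h0
      have h2 : (Module.length (GrLC.deg0 𝒜) (I.Hcomp (GrSyz.irrel 𝒜) d n)).toNat = 0 := by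
        unfold Groth.Agent.Lib.Helper20.LenEuler.len at h1
        exact_mod_cast h1
      have h3 : Module.length (GrLC.deg0 𝒜) (I.Hcomp (GrSyz.irrel 𝒜) d n) = 0 := by
        rcases (ENat.toNat_eq_zero).1 h2 with h | h
        · exact h
        · exact absurd h hfin
      rw [Module.length_eq_zero_iff] at h3
      have h4 : I.Hcomp (GrSyz.irrel 𝒜) d n = ⊥ := by
        rw [Submodule.eq_bot_iff]
        intro z hz
        have := Subsingleton.elim (⟨z, hz⟩ : I.Hcomp (GrSyz.irrel 𝒜) d n) 0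
        exact congrArg Subtype.val this
      have h5 := Groth.Agent.Lib.Helper20.GrIrrelRad.Hcomp_eq_bot_of_sameGam 𝒜 (GrSyz.irrel 𝒜) m
        (fun X _ _ => (hgam X).symm) I d n h4
      show (I.Hcomp m d n).toAddSubgroup = ⊥
      rw [h5]
      rfl
  unfold GrLC.endDeg
  apply le_antisymm
  · apply iSup₂_le
    intro n hn
    exact le_iSup₂ (f := fun (n : ℤ) (_ : P.eval (n : ℚ) ≠
      ((Module.length (GrLC.deg0 𝒜) (GrLC.comp 𝒜 𝒜 n)).toNat : ℚ)) =>
        ((n : WithTop ℤ) : WithBot (WithTop ℤ))) n ((key n).2 hn)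
  · apply iSup₂_le
    intro n hn
    exact le_iSup₂ (f := fun (n : ℤ) (_ : I.Hgr m d n ≠ ⊥) =>
        ((n : WithTop ℤ) : WithBot (WithTop ℤ))) n ((key n).1 hn)

end Groth.Agent.S17772
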