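import Groth.Statements.S17774
import Groth.Agent.Lib.Helper4.GorDim

set_option autoImplicit false
universe u
open CategoryTheory Opposite
open LocCoh

namespace Groth.Agent.S17774

/-- Let (S, n) be a Gorenstein local ring, I an ideal of S of height g such that R = S ⧸ I is a
Cohen–Macaulay local ring, of Krull dimension d, and E an injective hull of the residue field of S.
Then the canonical module of R is Ext^g_S(R, S), in the following sense: the Matlis dual
Hom_S(Ext^g_S(R, S), E) is isomorphic as an S-module to the top local cohomology H^d_n(R) of R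
regarded as an S-module (existence of an S-linear isomorphism; Hom into E over S and local
cohomology with support in n agree with the corresponding notions over R for R-modules). -/
theorem result (S : Type u) [CommRing S] [LocCoh.IsGorensteinLocalRing S] (I : Ideal S) (g : ℕ) (hg : I.height = g) [LocCoh.IsCohenMacaulayLocalRing (S ⧸ I)] (d : ℕ) (hd : ringKrullDim (S ⧸ I) = d) (E : Type u) [AddCommGroup E] [Module S E] (f : IsLocalRing.ResidueField S →ₗ[S] E) (hf : InjHull.IsInjectiveHull f) : Nonempty ((((Ext S (ModuleCat.{u} S) g).obj (op (ModuleCat.of S (S ⧸ I)))).obj (ModuleCat.of S S) →ₗ[S] E) ≃ₗ[S] LocCoh.H (IsLocalRing.maximalIdeal S) d (S ⧸ I)) := by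
  classical
  obtain ⟨n, hn⟩ := Groth.Agent.Lib.Helper4.StalkDual.gor_exists_nat_dim S
  have hdg : d + g = n :=
    Groth.Agent.Lib.Helper4.StalkDual.gor_dim_add_height_eq S I g d n hg hd hn
  haveI := hf.isInjective
  obtain ⟨g', hg'⟩ := Groth.Agent.Lib.Helper4.LC.gor_exists_isInjectiveHull_H_top S n hn
  obtain ⟨e, _⟩ := Groth.Agent.S0302.result S (IsLocalRing.ResidueField S) E
    (LocCoh.H (IsLocalRing.maximalIdeal S) n S) f hf g' hg'
  have eS : (S →ₗ[S] E) ≃ₗ[S] LocCoh.H (IsLocalRing.maximalIdeal S) n S :=
    (LinearMap.ringLmapEquivSelf S S E).trans e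
  obtain ⟨e1⟩ := Groth.Agent.Lib.Helper4.LC.nonempty_H_equiv_dual_ext n hn
    (fun j hj => Groth.Agent.Lib.Helper4.LC.gor_HH_self_subsingleton_of_lt S n hn j hj) E S eS
    (S ⧸ I) g d hdg
  exact ⟨e1.symm⟩

end Groth.Agent.S17774
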