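import Groth.Statements.S17779
import Mathlib

set_option autoImplicit false
open DRR

namespace Groth.Agent.S17779

open Finset Nat Function in
theorem fwdDiff_iter_pow_succ (n : ℕ) :
    (fwdDiff (1 : ℤ))^[n] (fun (r : ℤ) ↦ r ^ (n + 1)) =
      fun y => ((n + 1)! : ℤ) * y + ((n ! : ℤ) * ((n + 1).choose 2 : ℤ)) := by
  induction n with
  | zero => funext y; simp
  | succ n IH =>
    have h1 : (fwdDiff (1 : ℤ) fun (r : ℤ) ↦ r ^ (n + 1 + 1)) =
        ∑ i ∈ range (n + 1 + 1), (n + 1 + 1).choose i • fun r ↦ r ^ i := by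
      ext x
      simp [nsmul_eq_mul, fwdDiff, add_pow, sum_range_succ, mul_comm]
    rw [iterate_succ_apply, h1, fwdDiff_iter_finsetSum]
    simp_rw [fwdDiff_iter_const_smul]
    rw [sum_range_succ, sum_range_succ, IH, fwdDiff_iter_eq_factorial,
      sum_eq_zero (fun i hi => by
        rw [fwdDiff_iter_pow_eq_zero_of_lt (mem_range.mp hi), smul_zero])]
    funext y
    have e1 : ((n + 1 + 1).choose (n + 1) : ℤ) = n + 2 := by
      rw [Nat.choose_succ_self_right]; push_cast; ring
    have e2 : ((n + 1 + 1).choose n : ℤ) = ((n + 2).choose 2 : ℤ) := by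
      congr 1
      rw [show n + 1 + 1 = n + 2 from rfl, ← Nat.choose_symm_add]
    have e3 : (((n + 2).choose 2 : ℕ) : ℤ) * 2 = (n + 2) * (n + 1) := by
      have := Nat.choose_two_right (n + 2)
      have h2 : (n + 2).choose 2 * 2 = (n + 2) * (n + 1) := by
        rw [this]
        have : 2 ∣ (n + 2) * (n + 2 - 1) := by
          have := Nat.even_mul_pred_self (n + 2)
          exact this.two_dvd
        rw [Nat.div_mul_cancel this]; rfl
      exact_mod_cast h2
    have e4 : (((n + 1).choose 2 : ℕ) : ℤ) * 2 = (n + 1) * n := by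
      have := Nat.choose_two_right (n + 1)
      have h2 : (n + 1).choose 2 * 2 = (n + 1) * n := by
        rw [this]
        have : 2 ∣ (n + 1) * (n + 1 - 1) := by
          have := Nat.even_mul_pred_self (n + 1)
          exact this.two_dvd
        rw [Nat.div_mul_cancel this]; rfl
      exact_mod_cast h2
    simp only [zero_add, Pi.add_apply, Pi.mul_apply, nsmul_eq_mul, Pi.natCast_def]
    rw [e1, e2]
    have e5 : (((n + 1 + 1)! : ℕ) : ℤ) = (n + 2) * ((n + 1) * (n ! : ℤ)) := by
      rw [Nat.factorial_succ, Nat.factorial_succ]; push_cast; ring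
    have e6 : (((n + 1)! : ℕ) : ℤ) = (n + 1) * (n ! : ℤ) := by
      rw [Nat.factorial_succ]; push_cast; ring
    rw [e5, e6]
    have e7 : (((n + 1 + 1).choose 2 : ℕ) : ℤ) = ((n + 2).choose 2 : ℤ) := rfl
    rw [e7]
    apply mul_right_cancel₀ (two_ne_zero : (2 : ℤ) ≠ 0)
    linear_combination ((n : ℤ) + 2) * (n ! : ℤ) * e4 + (n ! : ℤ) * e3 - ((n : ℤ) + 1) * (n ! : ℤ) * e3


/-- For natural numbers n and k with k ≤ n + 1, the alternating sum over j = 0, …, n of (−1)^(n−j) C(n,
j) j^k (with the convention 0^0 = 1) equals n! · n(n+1)/2 when k = n + 1, equals n! when k = n, and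
vanishes when k < n. (The published statement takes n ≥ 1 and divides through by n!; the case n = 0
holds as well and is included.) -/
theorem result (n k : ℕ) (hk : k ≤ n + 1) :
    (∑ j ∈ Finset.range (n + 1), (-1 : ℤ) ^ (n - j) * (n.choose j : ℤ) * (j : ℤ) ^ k) =
      (if k = n + 1 then (((n + 1).choose 2 * n.factorial : ℕ) : ℤ)
        else if k = n then (n.factorial : ℤ) else 0) := by
  have hsum := fwdDiff_iter_eq_sum_shift (h := (1 : ℤ)) (fun r : ℤ => r ^ k) n 0
  have hL : (∑ j ∈ Finset.range (n + 1), (-1 : ℤ) ^ (n - j) * (n.choose j : ℤ) * (j : ℤ) ^ k) =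
      (fwdDiff (1 : ℤ))^[n] (fun r : ℤ => r ^ k) 0 := by
    rw [hsum]
    refine Finset.sum_congr rfl (fun j _ => ?_)
    simp
  rw [hL]
  rcases Nat.lt_or_ge k n with hlt | hge
  · rw [fwdDiff_iter_pow_eq_zero_of_lt hlt]
    have h1 : k ≠ n + 1 := by omega
    have h2 : k ≠ n := by omega
    simp [h1, h2]
  · rcases Nat.eq_or_lt_of_le hge with heq | hgt
    · subst heq
      rw [fwdDiff_iter_eq_factorial]
      simp
    · have hk' : k = n + 1 := by omega
      subst hk'
      rw [fwdDiff_iter_pow_succ]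
      simp [mul_comm]

end Groth.Agent.S17779
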