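import Groth.Statements.S17780
import Mathlib
import Groth.Agent.S17779

set_option autoImplicit false
universe u
open DRR

namespace Groth.Agent.S17780

/-- For x, y in a commutative ring and a natural number n, (n+1)! · x · y^n equals the sum over j = 0,
…, n of (−1)^(n−j) C(n, j) (x + j y)^(n+1), minus (n · (n+1)!/2) · y^(n+1). (The published identity
is stated in ℚ[x, y] with an overall factor 1/(n+1) and the coefficients C(n, j)(−1)^(n−j)/n!; it is
given here multiplied through by (n+1)!, which makes it an identity with integer coefficients valid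
in every commutative ring; n · (n+1)!/2 is an integer.) -/
theorem result (A : Type u) [CommRing A] (x y : A) (n : ℕ) :
    ((n + 1).factorial : A) * x * y ^ n =
      (∑ j ∈ Finset.range (n + 1), (-1 : A) ^ (n - j) * (n.choose j : A) * (x + (j : A) * y) ^ (n + 1))
        - ((n * (n + 1).factorial / 2 : ℕ) : A) * y ^ (n + 1) := by
  classical
  -- the integer sums, cast to A
  have hS : ∀ k : ℕ, k ≤ n + 1 →
      (∑ j ∈ Finset.range (n + 1), (-1 : A) ^ (n - j) * (n.choose j : A) * (j : A) ^ k) =
        (if k = n + 1 then (((n + 1).choose 2 * n.factorial : ℕ) : A)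
          else if k = n then (n.factorial : A) else 0) := by
    intro k hk
    have h := congrArg (Int.cast : ℤ → A) (Groth.Agent.S17779.result n k hk)
    rw [Int.cast_sum] at h
    have h' : (∑ j ∈ Finset.range (n + 1), (-1 : A) ^ (n - j) * (n.choose j : A) * (j : A) ^ k) =
        ∑ x ∈ Finset.range (n + 1), ((((-1 : ℤ) ^ (n - x) * (n.choose x : ℤ) * (x : ℤ) ^ k : ℤ)) : A) := by
      refine Finset.sum_congr rfl (fun j _ => ?_)
      push_cast; ring
    rw [h', h]
    split_ifs <;> simp
  -- expand
  have hexp : (∑ j ∈ Finset.range (n + 1), (-1 : A) ^ (n - j) * (n.choose j : A) * (x + (j : A) * y) ^ (n + 1)) =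
      ∑ m ∈ Finset.range (n + 1 + 1), x ^ m * y ^ (n + 1 - m) * ((n + 1).choose m : A) *
        (∑ j ∈ Finset.range (n + 1), (-1 : A) ^ (n - j) * (n.choose j : A) * (j : A) ^ (n + 1 - m)) := by
    have : ∀ j : ℕ, (-1 : A) ^ (n - j) * (n.choose j : A) * (x + (j : A) * y) ^ (n + 1) =
        ∑ m ∈ Finset.range (n + 1 + 1), x ^ m * y ^ (n + 1 - m) * ((n + 1).choose m : A) *
          ((-1 : A) ^ (n - j) * (n.choose j : A) * (j : A) ^ (n + 1 - m)) := by
      intro j
      rw [add_pow, Finset.mul_sum]
      refine Finset.sum_congr rfl (fun m _ => ?_)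
      rw [mul_pow]; ring
    simp_rw [this]
    rw [Finset.sum_comm]
    refine Finset.sum_congr rfl (fun m _ => ?_)
    rw [Finset.mul_sum]
  rw [hexp, Finset.sum_range_succ', Finset.sum_range_succ']
  have hrest : ∀ m ∈ Finset.range n, x ^ (m + 1 + 1) * y ^ (n + 1 - (m + 1 + 1)) * ((n + 1).choose (m + 1 + 1) : A) *
        (∑ j ∈ Finset.range (n + 1), (-1 : A) ^ (n - j) * (n.choose j : A) * (j : A) ^ (n + 1 - (m + 1 + 1))) = 0 := by
    intro m hm
    have hm' := Finset.mem_range.1 hm
    obtain ⟨k, hk⟩ : ∃ k, n + 1 - (m + 1 + 1) = k := ⟨_, rfl⟩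
    rw [hk, hS k (by omega), if_neg (by omega), if_neg (by omega), mul_zero]
  rw [Finset.sum_eq_zero hrest]
  have h4 : n + 1 - (0 + 1) = n := by omega
  have h5 : n + 1 - 0 = n + 1 := by omega
  rw [h4, h5, hS n (by omega), hS (n + 1) le_rfl, if_neg (by omega : n ≠ n + 1), if_pos rfl,
    if_pos rfl]
  -- arithmetic
  have e1 : ((n * (n + 1).factorial / 2 : ℕ) : A) = (((n + 1).choose 2 * n.factorial : ℕ) : A) := by
    congr 1
    rw [Nat.choose_two_right, Nat.factorial_succ]
    have h2 : 2 ∣ (n + 1) * (n + 1 - 1) := (Nat.even_mul_pred_self (n + 1)).two_dvd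
    obtain ⟨c, hc⟩ := h2
    rw [hc, Nat.mul_div_cancel_left _ (by norm_num : 0 < 2)]
    have : n * ((n + 1) * n.factorial) = 2 * (c * n.factorial) := by
      have hc' : (n + 1) * n = 2 * c := by simpa using hc
      calc n * ((n + 1) * n.factorial) = ((n + 1) * n) * n.factorial := by ring
        _ = 2 * (c * n.factorial) := by rw [hc']; ring
    rw [this, Nat.mul_div_cancel_left _ (by norm_num : 0 < 2)]
  rw [e1]
  have e2 : ((n + 1).choose (0 + 1) : A) = (n : A) + 1 := by simp
  have e3 : ((n + 1).factorial : A) = ((n : A) + 1) * (n.factorial : A) := by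
    rw [Nat.factorial_succ]; push_cast; ring
  rw [e2, e3]
  simp only [zero_add, pow_one, pow_zero, Nat.choose_zero_right, Nat.cast_one, Nat.cast_mul]
  ring

end Groth.Agent.S17780
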