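import Groth.Statements.S1779
import Mathlib
import Groth.Agent.S0543
import Groth.Agent.Lib.Helper18.MaxCrit5

set_option autoImplicit false
universe u
open CategoryTheory
attribute [local instance] HasDerivedCategory.standard
open Dual

namespace Groth.Agent.S1779

/-- Let A be a Noetherian ring, I an ideal and ω a dualizing complex for A. Assuming the derived base
change functor to the I-adic completion exists, the base change of ω is a dualizing complex for the
I-adic completion of A. -/
theorem result (A : Type u) [CommRing A] [IsNoetherianRing A] (I : Ideal A) [DRing.HasLBaseChange (algebraMap A (AdicCompletion I A))] (ω : Dual.D A) (hω : Dual.IsDualizing A ω) : Dual.IsDualizing (AdicCompletion I A) ((DRing.LBaseChange (algebraMap A (AdicCompletion I A))).obj ω) := by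
  haveI : IsNoetherianRing (AdicCompletion I A) := Groth.Agent.S0543.result A I
  have fg : I.FG := IsNoetherian.noetherian I
  haveI : IsAdicComplete (I.map (algebraMap A (AdicCompletion I A))) (AdicCompletion I A) :=
    AdicCompletion.isAdicComplete_self I fg
  refine Groth.Agent.Lib.Helper18.DR.MaxCrit.isDualizing_LBaseChange_of_maximal_map ω hω
    (Groth.Agent.Lib.Helper18.DR.MaxCrit.exists_map_eq_of_surj I (fun y => ?_)
      (IsAdicComplete.le_jacobson_bot _))
  obtain ⟨a, ha⟩ := Ideal.Quotient.mk_surjective (AdicCompletion.evalOneₐ I y)
  refine ⟨a, ?_⟩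
  rw [← AdicCompletion.ker_evalOneₐ_eq_map I fg, RingHom.mem_ker]
  change AdicCompletion.evalOneₐ I (y - algebraMap A (AdicCompletion I A) a) = 0
  rw [map_sub, sub_eq_zero, AlgHom.commutes, ← ha]
  rfl

end Groth.Agent.S1779
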