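import Groth.Statements.S17797
import Mathlib

set_option autoImplicit false
universe u
open CAlg

namespace Groth.Agent.S17797


namespace H17797
open IsLocalRing

theorem main (k : Type u) [Field k] (S : Type u) [CommRing S] [IsDomain S] [IsLocalRing S]
    [Algebra k S] [Algebra.EssFiniteType k S] :
    ∃ (K : Type u) (_ : Field K) (_ : Algebra k K) (A : Type u) (_ : CommRing A) (_ : Algebra K A)
      (_ : Algebra k A) (_ : IsScalarTower k K A) (_ : Algebra.FiniteType K A) (m : Ideal A)
      (_ : m.IsMaximal), Nonempty (S ≃ₐ[k] Localization.AtPrime m) := by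
  classical
  haveI : FaithfulSMul k (ResidueField S) :=
    (faithfulSMul_iff_algebraMap_injective k _).2 (algebraMap k (ResidueField S)).injective
  obtain ⟨ι, t, ht⟩ := exists_isTranscendenceBasis' k (ResidueField S)
  choose s hs using fun i => residue_surjective (t i)
  obtain ⟨ev, hevdef⟩ : ∃ ev : MvPolynomial ι k →ₐ[k] S, ev = MvPolynomial.aeval s := ⟨_, rfl⟩
  have hev : ∀ p, residue S (ev p) = MvPolynomial.aeval t p := by
    intro p
    have h1 : (IsScalarTower.toAlgHom k S (ResidueField S)).comp ev = MvPolynomial.aeval t := by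
      apply MvPolynomial.algHom_ext
      intro i
      rw [AlgHom.comp_apply, hevdef, MvPolynomial.aeval_X, MvPolynomial.aeval_X]
      exact hs i
    exact AlgHom.congr_fun h1 p
  have htinj : Function.Injective (MvPolynomial.aeval t : MvPolynomial ι k →ₐ[k] ResidueField S) :=
    algebraicIndependent_iff_injective_aeval.1 ht.1
  have hunit : ∀ y : nonZeroDivisors (MvPolynomial ι k), IsUnit (ev.toRingHom y) := by
    intro y
    have hy0 : (y : MvPolynomial ι k) ≠ 0 := nonZeroDivisors.ne_zero y.2
    rw [← residue_ne_zero_iff_isUnit]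
    change residue S (ev y) ≠ 0
    rw [hev]
    exact fun h => hy0 (htinj (h.trans (map_zero _).symm))
  obtain ⟨j, hjdef⟩ : ∃ j : FractionRing (MvPolynomial ι k) →+* S,
      j = IsLocalization.lift (M := nonZeroDivisors (MvPolynomial ι k)) hunit := ⟨_, rfl⟩
  have hj : ∀ p, j (algebraMap _ _ p) = ev p := fun p => by
    rw [hjdef]; exact IsLocalization.lift_eq hunit p
  letI algKS : Algebra (FractionRing (MvPolynomial ι k)) S := j.toAlgebra
  haveI towerkKS : IsScalarTower k (FractionRing (MvPolynomial ι k)) S :=
    IsScalarTower.of_algebraMap_eq (fun c => by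
      change algebraMap k S c = j (algebraMap k (FractionRing (MvPolynomial ι k)) c)
      rw [IsScalarTower.algebraMap_apply k (MvPolynomial ι k) (FractionRing (MvPolynomial ι k)),
        hj, MvPolynomial.algebraMap_eq, hevdef, MvPolynomial.aeval_C])
  have halgκ : ∀ z : ResidueField S, IsAlgebraic (FractionRing (MvPolynomial ι k)) z := by
    intro z
    haveI := ht.isAlgebraic
    have h1 : IsAlgebraic (Algebra.adjoin k (Set.range t)) z := Algebra.IsAlgebraic.isAlgebraic z
    obtain ⟨f, hfdef⟩ : ∃ f : Algebra.adjoin k (Set.range t) →+* FractionRing (MvPolynomial ι k),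
        f = (algebraMap (MvPolynomial ι k) (FractionRing (MvPolynomial ι k))).comp
          (ht.1.aevalEquiv.symm : Algebra.adjoin k (Set.range t) →+* MvPolynomial ι k) := ⟨_, rfl⟩
    have hf : Function.Injective f := by
      rw [hfdef]
      exact (IsFractionRing.injective _ _).comp ht.1.aevalEquiv.symm.injective
    have h := IsAlgebraic.ringHom_of_comp_eq f (RingHom.id (ResidueField S)) h1 hf (by
      ext r
      change algebraMap (FractionRing (MvPolynomial ι k)) (ResidueField S) (f r) =
        algebraMap (Algebra.adjoin k (Set.range t)) (ResidueField S) r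
      rw [hfdef, RingHom.comp_apply,
        IsScalarTower.algebraMap_apply (FractionRing (MvPolynomial ι k)) S (ResidueField S),
        ResidueField.algebraMap_eq]
      change residue S (j _) = _
      rw [hj, hev]
      change MvPolynomial.aeval t (ht.1.aevalEquiv.symm r) = _
      rw [← ht.1.algebraMap_aevalEquiv, AlgEquiv.apply_symm_apply])
    exact h
  obtain ⟨σ, hσ⟩ := (Algebra.essFiniteType_iff k S).1 inferInstance
  obtain ⟨A, hAdef⟩ : ∃ A : Subalgebra (FractionRing (MvPolynomial ι k)) S,
      A = Algebra.adjoin _ (σ : Set S) := ⟨_, rfl⟩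
  have hkA : ∀ z ∈ Algebra.adjoin k (σ : Set S), z ∈ A := by
    intro z hz
    induction hz using Algebra.adjoin_induction with
    | mem y hy => rw [hAdef]; exact Algebra.subset_adjoin hy
    | algebraMap r =>
      rw [IsScalarTower.algebraMap_apply k (FractionRing (MvPolynomial ι k)) S]
      exact A.algebraMap_mem _
    | add a b _ _ ha hb => exact A.add_mem ha hb
    | mul a b _ _ ha hb => exact A.mul_mem ha hb
  obtain ⟨m, hmdef⟩ : ∃ m : Ideal A, m = (maximalIdeal S).comap (algebraMap A S) := ⟨_, rfl⟩
  have hm_mem : ∀ a : A, a ∈ m ↔ (a : S) ∈ maximalIdeal S := fun a => by rw [hmdef]; rfl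
  have hmmax : m.IsMaximal := by
    rw [Ideal.isMaximal_iff]
    refine ⟨fun h1 => ?_, ?_⟩
    · rw [hm_mem] at h1
      exact (Ideal.ne_top_iff_one _).1 (maximalIdeal.isMaximal S).ne_top h1
    · intro J a hmJ ha haJ
      have hā0 : residue S (a : S) ≠ 0 := by
        rw [Ne, residue_eq_zero_iff, ← hm_mem]; exact ha
      have hint : IsIntegral (FractionRing (MvPolynomial ι k)) (residue S (a : S)) :=
        (halgκ _).isIntegral
      obtain ⟨q, hq⟩ : ∃ q, q = minpoly (FractionRing (MvPolynomial ι k)) (residue S (a : S)) :=
        ⟨_, rfl⟩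
      have hq0 : q.coeff 0 ≠ 0 := by rw [hq]; exact minpoly.coeff_zero_ne_zero hint hā0
      have hqa : Polynomial.aeval (residue S (a : S)) q = 0 := by rw [hq]; exact minpoly.aeval _ _
      have hmem : Polynomial.aeval a q ∈ m := by
        rw [hm_mem, ← residue_eq_zero_iff]
        have h1 := Polynomial.aeval_algHom_apply
          ((IsScalarTower.toAlgHom (FractionRing (MvPolynomial ι k)) S (ResidueField S)).comp A.val)
          a q
        have h1' : residue S ((Polynomial.aeval a q : A) : S) =
            Polynomial.aeval (residue S (a : S)) q := h1.symm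
        rw [h1', hqa]
      have h2 : Polynomial.aeval a q = a * Polynomial.aeval a q.divX +
          algebraMap (FractionRing (MvPolynomial ι k)) A (q.coeff 0) := by
        conv_lhs => rw [← Polynomial.X_mul_divX_add q]
        rw [map_add, map_mul, Polynomial.aeval_X, Polynomial.aeval_C]
      have h3 : (1 : A) = algebraMap (FractionRing (MvPolynomial ι k)) A (q.coeff 0)⁻¹ *
          Polynomial.aeval a q -
          algebraMap (FractionRing (MvPolynomial ι k)) A (q.coeff 0)⁻¹ *
            Polynomial.aeval a q.divX * a := by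
        have h4 : algebraMap (FractionRing (MvPolynomial ι k)) A (q.coeff 0)⁻¹ *
            algebraMap (FractionRing (MvPolynomial ι k)) A (q.coeff 0) = 1 := by
          rw [← map_mul, inv_mul_cancel₀ hq0, map_one]
        rw [h2]
        linear_combination (-1 : A) * h4
      rw [h3]
      exact J.sub_mem (J.mul_mem_left _ (hmJ hmem)) (J.mul_mem_left _ haJ)
  haveI hloc : IsLocalization m.primeCompl S := by
    constructor; constructor
    · intro y
      have hy : (y : A) ∉ m := y.2
      by_contra hnu
      exact hy ((hm_mem _).2 ((mem_maximalIdeal _).2 (mem_nonunits_iff.2 hnu)))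
    · intro z
      obtain ⟨t₀, ht₀, hu, hz⟩ := hσ z
      refine ⟨⟨⟨z * t₀, hkA _ hz⟩, ⟨⟨t₀, hkA _ ht₀⟩, ?_⟩⟩, rfl⟩
      intro hmem
      have hmem' : (⟨t₀, hkA _ ht₀⟩ : A) ∈ m := hmem
      rw [hm_mem] at hmem'
      exact (mem_nonunits_iff.1 ((mem_maximalIdeal _).1 hmem')) hu
    · intro x y e
      exact ⟨1, by simpa using Subtype.ext e⟩
  refine ⟨FractionRing (MvPolynomial ι k), inferInstance, inferInstance, A, inferInstance,
    inferInstance, inferInstance, inferInstance,
    ⟨(Subalgebra.fg_top A).2 (by rw [hAdef]; exact Subalgebra.fg_adjoin_finset σ)⟩, m, hmmax, ⟨?_⟩⟩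
  exact (IsLocalization.algEquiv m.primeCompl S (Localization.AtPrime m)).restrictScalars k

end H17797

/-- Suppose k is a field of characteristic zero and S is a local domain that is an essentially
finite-type k-algebra. Then there are an extension field K of k, a K-algebra A of finite type and a
maximal ideal m of A such that S is isomorphic over k to the localization A_m. -/
theorem result (k : Type u) [Field k] [CharZero k] (S : Type u) [CommRing S] [IsDomain S] [IsLocalRing S] [Algebra k S] [Algebra.EssFiniteType k S] : ∃ (K : Type u) (_ : Field K) (_ : Algebra k K) (A : Type u) (_ : CommRing A) (_ : Algebra K A) (_ : Algebra k A) (_ : IsScalarTower k K A) (_ : Algebra.FiniteType K A) (m : Ideal A) (_ : m.IsMaximal), Nonempty (S ≃ₐ[k] Localization.AtPrime m) := by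
  exact H17797.main k S

end Groth.Agent.S17797
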