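import Groth.Statements.S17825
import Mathlib

set_option autoImplicit false
universe u
open CategoryTheory CategoryTheory.Limits AlgebraicGeometry
open JacVar

namespace Groth.Agent.S17825

/-- Let S be a scheme, Y an S-scheme separated over S, F a presheaf of sets on the category of
S-schemes, f : h_Y ⟶ F a morphism from the functor of points of Y, and s : F ⟶ h_Y a section of f (s
followed by f is the identity). Then F is represented by a closed subscheme of Y: there are an
S-scheme Z, a morphism i : Z ⟶ Y over S which is a closed immersion, and an isomorphism F ≅ h_Z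
whose composite with h_i : h_Z ⟶ h_Y is s. (The published lemma treats the case where Y is the r-th
symmetric power of a curve, F the functor of degree-r invertible families modulo twisting and f the
divisor-class map.) -/
theorem result {S : Scheme.{u}} (Y : Over S) [IsSeparated Y.hom]
    (F : (Over S)ᵒᵖ ⥤ Type u) (f : yoneda.obj Y ⟶ F) (s : F ⟶ yoneda.obj Y) (hsf : s ≫ f = 𝟙 F) :
    ∃ (Z : Over S) (i : Z ⟶ Y), IsClosedImmersion i.left ∧
      ∃ e : F ≅ yoneda.obj Z, e.hom ≫ yoneda.map i = s := by
  classical
  -- the idempotent endomorphism of Y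
  let ε : Y ⟶ Y := (f ≫ s).app (Opposite.op Y) (𝟙 Y)
  have hε : ∀ (T : Over S) (y : T ⟶ Y), s.app (Opposite.op T) (f.app (Opposite.op T) y) = y ≫ ε := by
    intro T y
    have h := NatTrans.naturality_apply (f ≫ s) y.op (𝟙 Y)
    have h2 : (yoneda.obj Y).map y.op (𝟙 Y) = y := by simp
    rw [h2] at h
    change (f ≫ s).app (Opposite.op T) y = y ≫ ε
    rw [h]
    simp [ε]
  have hsf' : ∀ (T : Over S) (a : F.obj (Opposite.op T)),
      f.app (Opposite.op T) (s.app (Opposite.op T) a) = a := by
    intro T a
    have := congrArg (fun α => α.app (Opposite.op T) a) hsf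
    simpa using this
  let Z : Over S := Limits.equalizer ε (𝟙 Y)
  let i : Z ⟶ Y := Limits.equalizer.ι ε (𝟙 Y)
  have hi : i ≫ ε = i := by
    have := Limits.equalizer.condition ε (𝟙 Y)
    simpa using this
  have hfix : ∀ (T : Over S) (a : F.obj (Opposite.op T)),
      s.app (Opposite.op T) a ≫ ε = s.app (Opposite.op T) a ≫ 𝟙 Y := by
    intro T a
    rw [← hε, hsf', Category.comp_id]
  refine ⟨Z, i, inferInstance, ?_⟩
  let homT : F ⟶ yoneda.obj Z :=
    { app := fun T => ↾(fun a => Limits.equalizer.lift (s.app T a) (hfix T.unop a))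
      naturality := by
        intro T T' g
        ext a
        apply Limits.equalizer.hom_ext
        have h := NatTrans.naturality_apply s g a
        change Limits.equalizer.lift (s.app T' (F.map g a)) (hfix T'.unop (F.map g a)) ≫
            Limits.equalizer.ι ε (𝟙 Y) =
          (g.unop ≫ Limits.equalizer.lift (s.app T a) (hfix T.unop a)) ≫ Limits.equalizer.ι ε (𝟙 Y)
        rw [Limits.equalizer.lift_ι, Category.assoc, Limits.equalizer.lift_ι, h]
        rfl }
  have hhom : ∀ (T : Over S) (a : F.obj (Opposite.op T)),
      homT.app (Opposite.op T) a ≫ i = s.app (Opposite.op T) a := by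
    intro T a
    exact Limits.equalizer.lift_ι _ _
  refine ⟨{ hom := homT
            inv := yoneda.map i ≫ f
            hom_inv_id := ?_
            inv_hom_id := ?_ }, ?_⟩
  · ext T a
    obtain ⟨T⟩ := T
    change f.app (Opposite.op T) (homT.app (Opposite.op T) a ≫ i) = a
    rw [hhom, hsf']
  · ext T z
    obtain ⟨T⟩ := T
    apply Limits.equalizer.hom_ext
    change homT.app (Opposite.op T) (f.app (Opposite.op T) (z ≫ i)) ≫ i = z ≫ i
    rw [hhom, hε, Category.assoc, hi]
  · ext T a
    obtain ⟨T⟩ := T
    exact hhom T a

end Groth.Agent.S17825
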