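import Groth.Statements.S17839
import Groth.Agent.S9684
import Groth.Agent.Lib.Lead.CycPullGeo
import Groth.Agent.Lib.Helper4.RkLift
import Groth.Agent.Lib.Helper9.RegLocal

set_option autoImplicit false
set_option linter.style.haveILetI false
universe u
open CategoryTheory AlgebraicGeometry
open Cyc

namespace Groth.Agent.S17839

open Groth.Agent.Lib.Lead.CycPull

/-- Let S be a locally Noetherian scheme all of whose local rings are regular and universally catenary,
and δS : S → ℤ the function with δS(s) = −dim O_{S,s}. Let f : X ⟶ S be locally of finite type and δ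
: X → ℤ the induced function, δ(x) = δS(f x) + trdeg_{κ(f x)} κ(x) — the S-dimension: for X
irreducible with generic point ξ, δ(ξ) is the transcendence degree of the function field of X over
κ(f ξ) minus dim O_{S, f ξ}. Then δ is a dimension function on X: it drops strictly along every
nontrivial specialization and by exactly one along immediate ones; equivalently, for irreducible
closed subsets V ⊆ W of X with generic points v and w, codim(V, W) = δ(w) − δ(v). (The published
statement fixes S Noetherian, excellent, regular and separated and X separated of finite type over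
S; its proof uses only the hypotheses listed.) -/
theorem result {X S : Scheme.{u}} (f : X ⟶ S)
    [LocallyOfFiniteType f] [IsLocallyNoetherian S]
    (hreg : ∀ s : S, IsRegularLocalRing (S.presheaf.stalk s))
    (huc : ∀ s : S, CAlg.IsUniversallyCatenary (S.presheaf.stalk s))
    (δS : S → ℤ) (hδS : ∀ s : S, ringKrullDim (S.presheaf.stalk s) = ((-δS s).toNat : WithBot ℕ∞) ∧ δS s ≤ 0)
    (δ : X → ℤ) (hδ : Cyc.DeltaCompat f δ δS) :
    Cyc.IsDimFun X δ := by
  have hdimS : Cyc.IsDimFun S δS := by
    intro x y hxy hne
    haveI := hreg y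
    haveI : IsDomain (S.presheaf.stalk y) :=
      Groth.Agent.Lib.Helper9.RegLocal.isDomain_of_isRegularLocalRing _
    haveI hPp : (RingHom.ker (Cyc.specMap y x hxy)).IsPrime := RingHom.ker_isPrime _
    have hdx : ringKrullDim (S.presheaf.stalk x) =
        ((RingHom.ker (Cyc.specMap y x hxy)).height : WithBot ℕ∞) := by
      letI := (S.presheaf.stalkSpecializes hxy).hom.toAlgebra
      haveI := isLocalization_stalkSpecializes y x hxy
      exact IsLocalization.AtPrime.ringKrullDim_eq_height (RingHom.ker (Cyc.specMap y x hxy))
        (S.presheaf.stalk x)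
    have hdy : ((IsLocalRing.maximalIdeal (S.presheaf.stalk y)).height : WithBot ℕ∞) =
        ringKrullDim (S.presheaf.stalk y) :=
      IsLocalRing.maximalIdeal_height_eq_ringKrullDim
    have hPm : RingHom.ker (Cyc.specMap y x hxy) ≠
        IsLocalRing.maximalIdeal (S.presheaf.stalk y) := by
      intro hEq
      apply hne
      have h1 : RingHom.ker (Cyc.specMap y y (specializes_refl y)) ≤
          RingHom.ker (Cyc.specMap y x hxy) := by
        rw [ker_specMap_self, hEq]
      have h2 : y ⤳ x := (ker_specMap_le_iff y y x (specializes_refl y) hxy).mp h1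
      exact (hxy.antisymm h2).eq
    have hlt : RingHom.ker (Cyc.specMap y x hxy) <
        IsLocalRing.maximalIdeal (S.presheaf.stalk y) :=
      lt_of_le_of_ne (IsLocalRing.le_maximalIdeal hPp.ne_top) hPm
    have hht : (RingHom.ker (Cyc.specMap y x hxy)).height <
        (IsLocalRing.maximalIdeal (S.presheaf.stalk y)).height :=
      Ideal.height_strict_mono_of_isPrime hlt
    obtain ⟨hx1, hx2⟩ := hδS x
    obtain ⟨hy1, hy2⟩ := hδS y
    have hPx : (RingHom.ker (Cyc.specMap y x hxy)).height = (((-δS x).toNat : ℕ) : ℕ∞) := by
      have h0 := hdx.symm.trans hx1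
      exact_mod_cast h0
    have hmy : (IsLocalRing.maximalIdeal (S.presheaf.stalk y)).height =
        (((-δS y).toNat : ℕ) : ℕ∞) := by
      have h0 := hdy.trans hy1
      exact_mod_cast h0
    have hnum : (-δS x).toNat < (-δS y).toNat := by
      rw [hPx, hmy] at hht
      exact_mod_cast hht
    refine ⟨by omega, fun himm => ?_⟩
    have hc : CAlg.IsCatenary (S.presheaf.stalk y) :=
      (huc y).2 (S.presheaf.stalk y) inferInstance
    have heq : EGA4.IsEquidim (S.presheaf.stalk y) := by
      intro p hp
      have hp0 : p = ⊥ := by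
        rw [IsDomain.minimalPrimes_eq_singleton_bot] at hp
        exact hp
      rw [hp0]
      exact ringKrullDim_eq_of_ringEquiv (RingEquiv.quotientBot _)
    have hcov : (⟨RingHom.ker (Cyc.specMap y x hxy), hPp⟩ : PrimeSpectrum (S.presheaf.stalk y)) ⋖
        ⟨IsLocalRing.maximalIdeal (S.presheaf.stalk y), inferInstance⟩ := by
      refine ⟨hlt, fun Q hPQ hQm => ?_⟩
      obtain ⟨z, hz, hQz⟩ := exists_eq_ker_specMap y Q.asIdeal Q.isPrime
      have h1 : RingHom.ker (Cyc.specMap y x hxy) ≤ Q.asIdeal := hPQ.le
      rw [hQz] at h1
      have hxz : x ⤳ z := (ker_specMap_le_iff y x z hxy hz).mp h1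
      rcases himm z hxz hz with h | h
      · have h4 : RingHom.ker (Cyc.specMap y z hz) ≤ RingHom.ker (Cyc.specMap y x hxy) :=
          (ker_specMap_le_iff y z x hz hxy).mpr (specializes_of_eq h)
        rw [← hQz] at h4
        have h3 : RingHom.ker (Cyc.specMap y x hxy) < Q.asIdeal := hPQ
        exact lt_irrefl _ (lt_of_lt_of_le h3 h4)
      · have h4 : RingHom.ker (Cyc.specMap y y (specializes_refl y)) ≤
            RingHom.ker (Cyc.specMap y z hz) :=
          (ker_specMap_le_iff y y z (specializes_refl y) hz).mpr (specializes_of_eq h.symm)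
        rw [ker_specMap_self, ← hQz] at h4
        have h3 : Q.asIdeal < IsLocalRing.maximalIdeal (S.presheaf.stalk y) := hQm
        exact lt_irrefl _ (lt_of_lt_of_le h3 h4)
    have hh := Groth.Agent.Lib.Helper4.RkLift.height_eq_add_one_of_covBy hc heq hcov
    have hh' : (IsLocalRing.maximalIdeal (S.presheaf.stalk y)).height =
        (RingHom.ker (Cyc.specMap y x hxy)).height + 1 := hh
    rw [hPx, hmy] at hh'
    have hnum2 : (-δS y).toNat = (-δS x).toNat + 1 := by exact_mod_cast hh'
    omega
  exact Groth.Agent.S9684.result f δS ⟨inferInstance, huc, hdimS⟩ δ hδ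

end Groth.Agent.S17839
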