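import Groth.Statements.S17843
import Mathlib

set_option autoImplicit false
universe u v
open CAlg

namespace Groth.Agent.S17843


open Polynomial

/-- scaling of the variable -/
noncomputable def sc {A : Type*} [CommRing A] (c : A) : A[X] →ₐ[A] A[X] := aeval (C c * X)

theorem sc_coeff {A : Type*} [CommRing A] (c : A) (p : A[X]) (i : ℕ) :
    (sc c p).coeff i = p.coeff i * c ^ i := by
  show (aeval (C c * X) p).coeff i = _
  rw [← comp_eq_aeval, comp_C_mul_X_coeff]

theorem sc_sc {A : Type*} [CommRing A] (c d : A) (p : A[X]) : sc c (sc d p) = sc (d * c) p := by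
  ext i; rw [sc_coeff, sc_coeff, sc_coeff, mul_pow, mul_assoc]

theorem sc_eval_zero {A : Type*} [CommRing A] (c : A) (p : A[X]) :
    (sc c p).eval 0 = p.eval 0 := by
  rw [← coeff_zero_eq_eval_zero, ← coeff_zero_eq_eval_zero, sc_coeff, pow_zero, mul_one]

theorem map_sc {A B : Type*} [CommRing A] [CommRing B] (φ : A →+* B) (c : A) (p : A[X]) :
    (sc c p).map φ = sc (φ c) (p.map φ) := by
  ext i; rw [coeff_map, sc_coeff, sc_coeff, coeff_map, map_mul, map_pow]

theorem lemmaA {R : Type*} [CommRing R] (r : R) (P : (Localization.Away r)[X]) (a₀ : R)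
    (h0 : P.eval 0 = algebraMap R (Localization.Away r) a₀) :
    ∃ (e : ℕ) (Q : R[X]), Q.map (algebraMap R (Localization.Away r)) =
      sc (algebraMap R (Localization.Away r) (r ^ e)) P ∧ Q.eval 0 = a₀ := by
  obtain ⟨b, ⟨e, rfl⟩, hb⟩ :=
    IsLocalization.integerNormalization_spec (Submonoid.powers r) (divX P)
  have h0' : P.coeff 0 = algebraMap R (Localization.Away r) a₀ := by
    rw [coeff_zero_eq_eval_zero]; exact h0
  refine ⟨e, C a₀ + X * sc (r ^ e)
    (IsLocalization.integerNormalization (Submonoid.powers r) (divX P)), ?_, ?_⟩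
  · rw [Polynomial.map_add, Polynomial.map_mul, map_C, map_X, map_sc, hb]
    ext i
    rw [sc_coeff]
    cases i with
    | zero => simp [h0']
    | succ i =>
      rw [coeff_add, coeff_C_succ, zero_add, coeff_X_mul, sc_coeff, coeff_smul, coeff_divX,
        Algebra.smul_def, pow_succ]
      ring
  · simp

theorem lemmaB {R : Type*} [CommRing R] (r : R) (G : R[X])
    (hG : G.map (algebraMap R (Localization.Away r)) = 0) (hG0 : G.eval 0 = 0) :
    ∃ s : ℕ, ∀ n, s ≤ n → sc (r ^ n) G = 0 := by
  classical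
  have h1 : ∀ i, ∃ e, r ^ e * G.coeff i = 0 := fun i => by
    have h2 : algebraMap R (Localization.Away r) (G.coeff i) = 0 := by
      rw [← coeff_map, hG, coeff_zero]
    obtain ⟨⟨_, e, rfl⟩, he⟩ :=
      (IsLocalization.map_eq_zero_iff (Submonoid.powers r) (Localization.Away r) _).mp h2
    exact ⟨e, he⟩
  choose e he using h1
  refine ⟨G.support.sup e, fun n hn => ?_⟩
  ext i
  rw [sc_coeff, coeff_zero]
  by_cases hi : i ∈ G.support
  · cases i with
    | zero => rw [coeff_zero_eq_eval_zero, hG0, zero_mul]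
    | succ i =>
      have h3 : e (i + 1) ≤ n * (i + 1) :=
        (Finset.le_sup hi).trans (hn.trans (Nat.le_mul_of_pos_right n (Nat.succ_pos i)))
      have h4 : (r ^ n) ^ (i + 1) = r ^ (n * (i + 1) - e (i + 1)) * r ^ e (i + 1) := by
        rw [← pow_mul, ← pow_add, Nat.sub_add_cancel h3]
      rw [h4, mul_comm (G.coeff (i + 1)), mul_assoc, he, mul_zero]
  · rw [notMem_support_iff.mp hi, zero_mul]

/-- In the case of an affine scheme of finite presentation, let B be a finitely presented R-algebra, r ∈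
R, and x : B → R[1/r][T] an R-algebra homomorphism whose value at T = 0, a homomorphism B → R[1/r],
is induced by a homomorphism x̃₀ : B → R. Then for every large enough n, the homomorphism x(rⁿT) : B
→ R[1/r][T] is induced by a homomorphism x̃ : B → R[T] whose value at T = 0 is x̃₀. The published
statement is for algebraic spaces locally of finite presentation over R; this row takes an affine
scheme of finite presentation. -/
theorem result
    (R : Type u) (B : Type v) [CommRing R] [CommRing B] [Algebra R B]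
    [Algebra.FinitePresentation R B] (r : R)
    (x : B →ₐ[R] Polynomial (Localization.Away r))
    (x₀ : B →ₐ[R] R)
    (hx₀ : (algebraMap R (Localization.Away r)).comp x₀.toRingHom =
      (Polynomial.evalRingHom 0).comp x.toRingHom) :
    ∃ N : ℕ, ∀ n : ℕ, N ≤ n →
      ∃ y : B →ₐ[R] Polynomial R,
        (Polynomial.evalRingHom 0).comp y.toRingHom = x₀.toRingHom ∧
        (Polynomial.mapRingHom (algebraMap R (Localization.Away r))).comp y.toRingHom =
          (Polynomial.aeval (Polynomial.C (algebraMap R (Localization.Away r) (r ^ n)) * Polynomial.X) :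
              Polynomial (Localization.Away r) →ₐ[Localization.Away r] Polynomial (Localization.Away r)).toRingHom.comp
            x.toRingHom := by
  classical
  obtain ⟨k, π, hπ, hker⟩ := Algebra.FinitePresentation.out (R := R) (A := B)
  obtain ⟨fs, hfs⟩ := hker
  let ι : R →+* Localization.Away r := algebraMap R (Localization.Away r)
  have hA : ∀ j : Fin k, ∃ (e : ℕ) (Q : R[X]),
      Q.map ι = sc (ι (r ^ e)) (x (π (MvPolynomial.X j))) ∧
      Q.eval 0 = x₀ (π (MvPolynomial.X j)) := by
    intro j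
    apply lemmaA r
    exact (RingHom.congr_fun hx₀ (π (MvPolynomial.X j))).symm
  choose e Q hQmap hQ0 using hA
  let n₀ := Finset.univ.sup e
  let Q' : Fin k → R[X] := fun j => sc (r ^ (n₀ - e j)) (Q j)
  have hQ'map : ∀ j, (Q' j).map ι = sc (ι (r ^ n₀)) (x (π (MvPolynomial.X j))) := by
    intro j
    show (sc (r ^ (n₀ - e j)) (Q j)).map ι = _
    rw [map_sc, hQmap, sc_sc, ← map_mul, ← pow_add,
      Nat.add_sub_cancel' (Finset.le_sup (Finset.mem_univ j))]
  have hQ'0 : ∀ j, (Q' j).eval 0 = x₀ (π (MvPolynomial.X j)) := fun j => by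
    show (sc _ (Q j)).eval 0 = _
    rw [sc_eval_zero, hQ0]
  let Φ : MvPolynomial (Fin k) R →ₐ[R] R[X] := MvPolynomial.aeval Q'
  have hΦ0 : ∀ g, (Φ g).eval 0 = x₀ (π g) := by
    intro g
    have h1 : ((Polynomial.aeval (0 : R)).comp Φ : MvPolynomial (Fin k) R →ₐ[R] R) =
        x₀.comp π := by
      apply MvPolynomial.algHom_ext
      intro j
      rw [AlgHom.comp_apply, AlgHom.comp_apply]
      show Polynomial.aeval (0 : R) (MvPolynomial.aeval Q' (MvPolynomial.X j)) = _
      rw [MvPolynomial.aeval_X, Polynomial.coe_aeval_eq_eval]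
      exact hQ'0 j
    have h2 := AlgHom.congr_fun h1 g
    rw [AlgHom.comp_apply, AlgHom.comp_apply, Polynomial.coe_aeval_eq_eval] at h2
    exact h2
  have hΦmap : ∀ g, (Φ g).map ι = sc (ι (r ^ n₀)) (x (π g)) := by
    intro g
    have h1 : ((Polynomial.mapAlgHom (Algebra.ofId R (Localization.Away r))).comp Φ :
        MvPolynomial (Fin k) R →ₐ[R] (Localization.Away r)[X]) =
        (((sc (ι (r ^ n₀))).restrictScalars R).comp x).comp π := by
      apply MvPolynomial.algHom_ext
      intro j
      rw [AlgHom.comp_apply, AlgHom.comp_apply, AlgHom.comp_apply]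
      show (MvPolynomial.aeval Q' (MvPolynomial.X j)).map ι = sc (ι (r ^ n₀)) _
      rw [MvPolynomial.aeval_X]
      exact hQ'map j
    exact AlgHom.congr_fun h1 g
  have hB : ∀ f ∈ fs, ∃ s : ℕ, ∀ n, s ≤ n → sc (r ^ n) (Φ f) = 0 := by
    intro f hf
    have hfk : π f = 0 := by
      have h1 : f ∈ RingHom.ker π.toRingHom := by rw [← hfs]; exact Submodule.subset_span hf
      exact h1
    apply lemmaB r
    · show (Φ f).map ι = 0
      rw [hΦmap, hfk, map_zero, map_zero]
    · rw [hΦ0, hfk, map_zero]
  choose! s hs using hB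
  refine ⟨n₀ + fs.sup s, fun n hn => ?_⟩
  let Φn : MvPolynomial (Fin k) R →ₐ[R] R[X] := (sc (r ^ (n - n₀))).comp Φ
  have hkerle : RingHom.ker π.toRingHom ≤ RingHom.ker Φn.toRingHom := by
    rw [← hfs, Submodule.span_le]
    intro f hf
    rw [SetLike.mem_coe, RingHom.mem_ker]
    show sc (r ^ (n - n₀)) (Φ f) = 0
    have h1 : s f ≤ fs.sup s := Finset.le_sup hf
    exact hs f hf (n - n₀) (by omega)
  let y : B →ₐ[R] R[X] := AlgHom.liftOfSurjective π hπ Φn hkerle
  have hy : ∀ g, y (π g) = sc (r ^ (n - n₀)) (Φ g) :=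
    fun g => AlgHom.liftOfSurjective_apply π hπ Φn hkerle g
  refine ⟨y, ?_, ?_⟩
  · apply RingHom.ext
    intro b
    obtain ⟨g, rfl⟩ := hπ b
    show (y (π g)).eval 0 = x₀ (π g)
    rw [hy, sc_eval_zero, hΦ0]
  · apply RingHom.ext
    intro b
    obtain ⟨g, rfl⟩ := hπ b
    show (y (π g)).map ι = sc (ι (r ^ n)) (x (π g))
    rw [hy, map_sc, hΦmap, sc_sc, ← map_mul, ← pow_add,
      Nat.add_sub_cancel' (by omega : n₀ ≤ n)]

end Groth.Agent.S17843
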