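-- Statement S17859.
import Groth.Statements.S17859
import Mathlib

set_option autoImplicit false
open CategoryTheory MonoidalCategory
universe u
open Algz

namespace Groth.Agent.S17859

section aux

open TensorProduct

variable {R : Type u} [CommRing R] {M : Type u} [AddCommGroup M] [Module R M]

/-- The coevaluation attached to a finite dual basis. -/
noncomputable def coev {n : ℕ} (m : Fin n → M) (φ : Fin n → Module.Dual R M) :
    R →ₗ[R] M ⊗[R] Module.Dual R M :=
  LinearMap.toSpanSingleton R _ (∑ i, m i ⊗ₜ[R] φ i)

lemma coev_apply {n : ℕ} (m : Fin n → M) (φ : Fin n → Module.Dual R M) (c : R) :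
    coev m φ c = c • ∑ i, m i ⊗ₜ[R] φ i := rfl

lemma dual_eq_sum {n : ℕ} (m : Fin n → M) (φ : Fin n → Module.Dual R M)
    (hx : ∀ x : M, ∑ i, φ i x • m i = x) (f : Module.Dual R M) :
    ∑ i, f (m i) • φ i = f := by
  ext x
  simp only [LinearMap.coe_sum, Finset.sum_apply, LinearMap.smul_apply, smul_eq_mul]
  conv_rhs => rw [← hx x, map_sum]
  refine Finset.sum_congr rfl fun i _ => ?_
  rw [map_smul, smul_eq_mul, mul_comm]

theorem contractLeft_assoc_coev {n : ℕ} (m : Fin n → M) (φ : Fin n → Module.Dual R M)
    (hx : ∀ x : M, ∑ i, φ i x • m i = x) :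
    (contractLeft R M).rTensor _ ∘ₗ
        (TensorProduct.assoc R _ _ _).symm.toLinearMap ∘ₗ
          (coev m φ).lTensor (Module.Dual R M) =
      (TensorProduct.lid R _).symm.toLinearMap ∘ₗ (TensorProduct.rid R _).toLinearMap := by
  apply TensorProduct.ext'
  intro f c
  simp only [LinearMap.coe_comp, Function.comp_apply, LinearEquiv.coe_toLinearMap,
    LinearMap.lTensor_tmul, coev_apply, rid_tmul, lid_symm_apply]
  rw [TensorProduct.tmul_smul, map_smul, map_smul, TensorProduct.tmul_sum, map_sum, map_sum]
  have : ∀ i : Fin n, (LinearMap.rTensor (Module.Dual R M) (contractLeft R M))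
      ((TensorProduct.assoc R (Module.Dual R M) M (Module.Dual R M)).symm
        (f ⊗ₜ[R] (m i ⊗ₜ[R] φ i))) = (1 : R) ⊗ₜ[R] (f (m i) • φ i) := by
    intro i
    rw [assoc_symm_tmul, LinearMap.rTensor_tmul, contractLeft_apply]
    rw [show f (m i) = (f (m i)) • (1 : R) by rw [smul_eq_mul, mul_one],
      TensorProduct.smul_tmul, smul_eq_mul, mul_one]
  rw [Finset.sum_congr rfl (fun i _ => this i), ← TensorProduct.tmul_sum,
    dual_eq_sum m φ hx f, TensorProduct.tmul_smul]

theorem contractLeft_assoc_coev' {n : ℕ} (m : Fin n → M) (φ : Fin n → Module.Dual R M)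
    (hx : ∀ x : M, ∑ i, φ i x • m i = x) :
    (contractLeft R M).lTensor _ ∘ₗ
        (TensorProduct.assoc R _ _ _).toLinearMap ∘ₗ (coev m φ).rTensor M =
      (TensorProduct.rid R _).symm.toLinearMap ∘ₗ (TensorProduct.lid R _).toLinearMap := by
  apply TensorProduct.ext'
  intro c x
  simp only [LinearMap.coe_comp, Function.comp_apply, LinearEquiv.coe_toLinearMap,
    LinearMap.rTensor_tmul, coev_apply, lid_tmul, rid_symm_apply]
  rw [← TensorProduct.smul_tmul', map_smul, map_smul, TensorProduct.sum_tmul, map_sum, map_sum]
  have : ∀ i : Fin n, (LinearMap.lTensor M (contractLeft R M))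
      ((TensorProduct.assoc R M (Module.Dual R M) M)
        ((m i ⊗ₜ[R] φ i) ⊗ₜ[R] x)) = (φ i x • m i) ⊗ₜ[R] (1 : R) := by
    intro i
    rw [assoc_tmul, LinearMap.lTensor_tmul, contractLeft_apply]
    rw [show φ i x = (φ i x) • (1 : R) by rw [smul_eq_mul, mul_one],
      ← TensorProduct.smul_tmul, smul_eq_mul, mul_one]
  rw [Finset.sum_congr rfl (fun i _ => this i), ← TensorProduct.sum_tmul, hx x,
    TensorProduct.smul_tmul']

end aux


/-- Over an affine scheme, that is for modules over a commutative ring `R`, a finitely generated
projective `R`-module `M`, viewed as an object of the monoidal category of `R`-modules (tensor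
product over `R`), has a right dual. (The published statement is the equivalence, for quasi-coherent
sheaves on a quasi-compact quasi-separated scheme, between being dualizable and being a vector
bundle; stated here is the affine case of the implication from vector bundle to dualizable. The
converse implication, that a module admitting a dual is finitely generated projective, is stated
separately and is not repeated here.) -/
theorem result (R : Type u) [CommRing R] (M : ModuleCat.{u} R)
    [Module.Finite R M] [Module.Projective R M] : Nonempty (HasRightDual M) := by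
  classical
  obtain ⟨n, f, g, -, -, hfg⟩ := Module.Finite.exists_comp_eq_id_of_projective R M
  let m : Fin n → M := fun i => f (fun j => if i = j then 1 else 0)
  let φ : Fin n → Module.Dual R M := fun i => (LinearMap.proj i) ∘ₗ g
  have hx : ∀ x : M, ∑ i, φ i x • m i = x := by
    intro x
    have h1 : x = f (g x) := by
      rw [← LinearMap.comp_apply, hfg]; rfl
    conv_rhs => rw [h1, LinearMap.pi_apply_eq_sum_univ f (g x)]
    rfl
  exact ⟨{
    rightDual := ModuleCat.of R (Module.Dual R M)
    exact := {
      coevaluation' := ModuleCat.ofHom (coev m φ)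
      evaluation' := ModuleCat.ofHom (contractLeft R M)
      coevaluation_evaluation' := by
        apply ModuleCat.hom_ext
        exact contractLeft_assoc_coev m φ hx
      evaluation_coevaluation' := by
        apply ModuleCat.hom_ext
        exact contractLeft_assoc_coev' m φ hx } }⟩

end Groth.Agent.S17859
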