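import Groth.Statements.S1786
import Mathlib
import Groth.Agent.Lib.Helper18.GfD

set_option autoImplicit false
universe u
open CategoryTheory
attribute [local instance] HasDerivedCategory.standard
open scoped TensorProduct
open Dual2

namespace Groth.Agent.S1786

/-- Let R → A be a ring map between Noetherian rings which is flat and of finite type, presented as a
surjection ψ : P = R[x_1, …, x_n] → A. For K in D(R) form φ^!(K) = RHom_P(A, K ⊗^L_R P)[n], where
the derived base change D(R) → D(P) is assumed to exist and RHom_P(A, −) : D(P) → D(A) is taken to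
be a right adjoint of restriction of scalars along ψ, and put ω_{A/R} = φ^!(R); assume also that the
derived base change functors D(A) → D(A_f) exist for all f ∈ A. Then all fibre rings A ⊗_R κ(p), for
p a prime of R, are Gorenstein if and only if ω_{A/R} is invertible in the following sense: for
every prime q of A there are f ∈ A with f ∉ q and an integer m such that ω_{A/R} ⊗^L_A A_f ≅ A_f[m]
in D(A_f). -/
theorem result (R A : Type u) [CommRing R] [CommRing A] [IsNoetherianRing R] [IsNoetherianRing A] [Algebra R A] (n : ℕ) (ψ : MvPolynomial (Fin n) R →ₐ[R] A) (hψ : Function.Surjective ψ) [DRing.HasLBaseChange (algebraMap R (MvPolynomial (Fin n) R))] (Rψ : Dual.D (MvPolynomial (Fin n) R) ⥤ Dual.D A) (adj : DRing.restrictD ψ.toRingHom ⊣ Rψ) [Module.Flat R A] [hL : ∀ f : A, DRing.HasLBaseChange (algebraMap A (Localization.Away f))] : (∀ p : PrimeSpectrum R, LocCoh.IsGorensteinRing (A ⊗[R] p.asIdeal.ResidueField)) ↔ (∀ q : PrimeSpectrum A, ∃ (f : A) (_ : f ∉ q.asIdeal) (m : ℤ), Nonempty ((DRing.LBaseChange (algebraMap A (Localization.Away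 f))).obj (Dual2.shriekVia n Rψ (Dual.inD R R)) ≅ (Dual.inD (Localization.Away f) (Localization.Away f))⟦m⟧)) := by
  constructor
  · intro hG q
    haveI : (q.asIdeal.comap (algebraMap R A)).IsPrime := inferInstance
    have hG' : LocCoh.IsGorensteinRing
        ((q.asIdeal.comap (algebraMap R A)).ResidueField ⊗[R] A) :=
      Groth.Agent.Lib.Helper4.GorRing.gorRing_of_ringEquiv
        (Algebra.TensorProduct.comm R A (q.asIdeal.comap (algebraMap R A)).ResidueField).toRingEquiv
        (hG ⟨q.asIdeal.comap (algebraMap R A), inferInstance⟩)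
    obtain ⟨f, hfq, m, ⟨e⟩⟩ :=
      Groth.Agent.Lib.Helper18.DR.Gf.exists_away_iso_of_gorenstein_fibre R A n ψ hψ Rψ adj q hG'
    obtain ⟨e'⟩ := Groth.Agent.Lib.Helper18.DR.HomBC.nonempty_LBaseChange_iso_extD (A := A)
      (B := Localization.Away f) (Dual2.shriekVia n Rψ (Dual.inD R R))
    exact ⟨f, hfq, m, ⟨e' ≪≫ e⟩⟩
  · intro hInv p
    exact Groth.Agent.Lib.Helper4.GorRing.gorRing_of_ringEquiv
      (Algebra.TensorProduct.comm R p.asIdeal.ResidueField A).toRingEquiv
      (Groth.Agent.Lib.Helper18.DR.Gf.gorenstein_fibre_of_invertible R A n ψ hψ Rψ adj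
        p.asIdeal.ResidueField hInv)

end Groth.Agent.S1786
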