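-- Statement S17863.
import Groth.Statements.S17863
import Mathlib

set_option autoImplicit false
open CategoryTheory AlgebraicGeometry
universe u
open Algz

namespace Groth.Agent.S17863

/-- Let `A` be a commutative ring which is `I`-adically complete for an ideal `I` and let `X` be a
quasi-affine scheme. Then the natural map from `X(A)` to compatible systems in the `X(A/I^n)` is
bijective: two morphisms `Spec A ⟶ X` with the same restriction to every `Spec (A/I^n)` are equal,
and every family of morphisms `Spec (A/I^n) ⟶ X` compatible with the transition maps `Spec (A/I^n) ⟶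
Spec (A/I^(n+1))` is the family of restrictions of a morphism `Spec A ⟶ X`. -/
theorem result (A : Type u) [CommRing A] (I : Ideal A) [IsAdicComplete I A]
    (X : Scheme.{u}) [X.IsQuasiAffine] :
    (∀ f g : Spec (CommRingCat.of A) ⟶ X,
      (∀ n : ℕ, Spec.map (CommRingCat.ofHom (Ideal.Quotient.mk (I ^ n))) ≫ f =
        Spec.map (CommRingCat.ofHom (Ideal.Quotient.mk (I ^ n))) ≫ g) → f = g) ∧
    (∀ e : ∀ n : ℕ, Spec (CommRingCat.of (A ⧸ I ^ n)) ⟶ X,
      (∀ n : ℕ, Spec.map (CommRingCat.ofHom (Ideal.Quotient.factorPowSucc I n)) ≫ e (n + 1) = e n) →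
      ∃ f : Spec (CommRingCat.of A) ⟶ X,
        ∀ n : ℕ, Spec.map (CommRingCat.ofHom (Ideal.Quotient.mk (I ^ n))) ≫ f = e n) := by
  haveI : IsOpenImmersion X.toSpecΓ := inferInstance
  constructor
  · intro f g h
    rw [← cancel_mono X.toSpecΓ]
    obtain ⟨φ, hφ⟩ := Spec.homEquiv.symm.surjective (f ≫ X.toSpecΓ)
    obtain ⟨ψ, hψ⟩ := Spec.homEquiv.symm.surjective (g ≫ X.toSpecΓ)
    have hφ' : Spec.map φ = f ≫ X.toSpecΓ := hφ
    have hψ' : Spec.map ψ = g ≫ X.toSpecΓ := hψ
    rw [← hφ', ← hψ']
    congr 1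
    have key : ∀ n : ℕ, φ ≫ CommRingCat.ofHom (Ideal.Quotient.mk (I ^ n))
        = ψ ≫ CommRingCat.ofHom (Ideal.Quotient.mk (I ^ n)) := by
      intro n
      apply Spec.map_injective
      rw [Spec.map_comp, Spec.map_comp, hφ', hψ', ← Category.assoc, ← Category.assoc, h n]
    ext x
    rw [← sub_eq_zero]
    apply IsHausdorff.haus (inferInstance : IsHausdorff I A)
    intro n
    rw [smul_eq_mul, Ideal.mul_top, SModEq.zero, ← Ideal.Quotient.eq_zero_iff_mem, map_sub,
      sub_eq_zero]
    exact congrArg (fun t => t.hom x) (key n)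
  · intro e he
    -- the ring maps
    choose φ hφ using fun n => Spec.homEquiv.symm.surjective (e n ≫ X.toSpecΓ)
    have hφ' : ∀ n, Spec.map (φ n) = e n ≫ X.toSpecΓ := hφ
    have hsucc : ∀ n, φ (n + 1) ≫ CommRingCat.ofHom (Ideal.Quotient.factorPowSucc I n) = φ n := by
      intro n
      apply Spec.map_injective
      rw [Spec.map_comp, hφ', hφ', ← Category.assoc, he n]
    have hf : ∀ {m n : ℕ} (hle : m ≤ n),
        (Ideal.Quotient.factorPow I hle).comp (φ n).hom = (φ m).hom :=
      IsAdicComplete.StrictMono.factorPow_comp_eq_of_factorPow_comp_succ_eq' strictMono_id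
        (fun n => (φ n).hom) (fun {m} => by
          have := congrArg CommRingCat.Hom.hom (hsucc m)
          exact this)
    let Φ : Γ(X, ⊤) →+* A := IsAdicComplete.liftRingHom I (fun n => (φ n).hom) hf
    let F : Spec (CommRingCat.of A) ⟶ Spec Γ(X, ⊤) := Spec.map (CommRingCat.ofHom Φ)
    have hF : ∀ n, Spec.map (CommRingCat.ofHom (Ideal.Quotient.mk (I ^ n))) ≫ F
        = e n ≫ X.toSpecΓ := by
      intro n
      rw [← hφ' n, ← Spec.map_comp]
      congr 1
      ext x
      exact IsAdicComplete.mk_liftRingHom I (fun n => (φ n).hom) hf n x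
    -- the range of `F` lies in the open `X ⊆ Spec Γ(X, ⊤)`
    have hrange : Set.range F ⊆ Set.range X.toSpecΓ := by
      rintro _ ⟨p, rfl⟩
      by_contra hp
      -- the closed complement of the preimage
      have hC : IsClosed (F ⁻¹' (Set.range X.toSpecΓ)ᶜ) :=
        (X.toSpecΓ.isOpenEmbedding.isOpen_range.isClosed_compl).preimage F.continuous
      obtain ⟨m, hm, hpm⟩ := Ideal.exists_le_maximal p.asIdeal p.isPrime.ne_top
      let q : Spec (CommRingCat.of A) := ⟨m, hm.isPrime⟩
      have hsp : p ⤳ q := (PrimeSpectrum.le_iff_specializes p q).1 hpm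
      have hq : q ∈ F ⁻¹' (Set.range X.toSpecΓ)ᶜ := hsp.mem_closed hC hp
      have hIm : I ^ 1 ≤ m := by
        rw [pow_one]
        exact (IsAdicComplete.le_jacobson_bot I).trans (sInf_le ⟨bot_le, hm⟩)
      have : q ∈ Set.range (Spec.map (CommRingCat.ofHom (Ideal.Quotient.mk (I ^ 1)))) := by
        have h1 := _root_.range_comap_of_surjective (A ⧸ I ^ 1) (Ideal.Quotient.mk (I ^ 1))
          Ideal.Quotient.mk_surjective
        rw [Ideal.mk_ker] at h1
        have : q ∈ PrimeSpectrum.zeroLocus ((I ^ 1 : Ideal A) : Set A) := hIm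
        rw [← h1] at this
        exact this
      obtain ⟨q', hq'⟩ := this
      apply hq
      rw [← hq']
      have h2 := congrArg (fun G => G q') (hF 1)
      exact ⟨e 1 q', h2.symm⟩
    refine ⟨IsOpenImmersion.lift X.toSpecΓ F hrange, fun n => ?_⟩
    rw [← cancel_mono X.toSpecΓ, Category.assoc, IsOpenImmersion.lift_fac, hF n]

end Groth.Agent.S17863
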