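-- Statement S17864.
import Groth.Statements.S17864
import Mathlib

set_option autoImplicit false
universe u
open Algz

namespace Groth.Agent.S17864

section aux

variable {A : Type u} [CommRing A] (I : Ideal A)

/-- A linear map sends `J • ⊤` into `J • ⊤`. -/
lemma map_mem_smul_top {M N : Type*} [AddCommGroup M] [Module A M] [AddCommGroup N] [Module A N]
    (J : Ideal A) (h : M →ₗ[A] N) {x : M} (hx : x ∈ (J • ⊤ : Submodule A M)) :
    h x ∈ (J • ⊤ : Submodule A N) := by
  have : (J • ⊤ : Submodule A M).map h ≤ (J • ⊤ : Submodule A N) := by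
    rw [Submodule.map_smul'']
    exact Submodule.smul_mono le_rfl le_top
  exact this ⟨x, hx, rfl⟩

lemma mem_smul_top_pi {k : ℕ} (J : Ideal A) (w : Fin k → A) (hw : ∀ j, w j ∈ J) :
    w ∈ (J • ⊤ : Submodule A (Fin k → A)) := by
  classical
  have : w = ∑ j, w j • (Pi.single j (1 : A) : Fin k → A) := by
    ext i
    simp [Finset.sum_apply, Pi.single_apply]
  rw [this]
  exact Submodule.sum_mem _ fun j _ => Submodule.smul_mem_smul (hw j) Submodule.mem_top

lemma coord_mem_of_mem_smul_top {k : ℕ} (J : Ideal A) (w : Fin k → A)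
    (hw : w ∈ (J • ⊤ : Submodule A (Fin k → A))) (j : Fin k) : w j ∈ J := by
  have := map_mem_smul_top J (LinearMap.proj (R := A) (φ := fun _ : Fin k => A) j) hw
  rwa [smul_eq_mul, Ideal.mul_top] at this

variable {Q : Type u} [AddCommGroup Q] [Module A Q]

/-- A retract of a finite free module over a Hausdorff ring is Hausdorff. -/
lemma hausdorff_of_retract [IsHausdorff I A] {k : ℕ} (iQ : Q →ₗ[A] (Fin k → A))
    (pQ : (Fin k → A) →ₗ[A] Q) (h : pQ ∘ₗ iQ = LinearMap.id) (y : Q)
    (hy : ∀ n : ℕ, y ∈ (I ^ n • ⊤ : Submodule A Q)) : y = 0 := by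
  have h0 : iQ y = 0 := by
    ext j
    apply IsHausdorff.haus (I := I) inferInstance
    intro n
    rw [SModEq.zero, smul_eq_mul, Ideal.mul_top]
    exact coord_mem_of_mem_smul_top _ _ (map_mem_smul_top _ iQ (hy n)) j
  have : y = pQ (iQ y) := by rw [← LinearMap.comp_apply, h]; rfl
  rw [this, h0, map_zero]

/-- A retract of a finite free module over a precomplete ring is precomplete. -/
lemma precomplete_of_retract [IsPrecomplete I A] {k : ℕ} (iQ : Q →ₗ[A] (Fin k → A))
    (pQ : (Fin k → A) →ₗ[A] Q) (h : pQ ∘ₗ iQ = LinearMap.id) (q : ℕ → Q)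
    (hq : ∀ n : ℕ, q n - q (n + 1) ∈ (I ^ n • ⊤ : Submodule A Q)) :
    ∃ y : Q, ∀ n : ℕ, q n - y ∈ (I ^ n • ⊤ : Submodule A Q) := by
  have hc : ∀ j : Fin k, ∃ L : A, ∀ n, iQ (q n) j ≡ L [SMOD (I ^ n • ⊤ : Submodule A A)] := by
    intro j
    apply IsPrecomplete.prec (I := I) inferInstance
    have : AdicCompletion.IsAdicCauchy I A (fun n => iQ (q n) j) := by
      rw [AdicCompletion.isAdicCauchy_iff]
      intro n
      rw [SModEq.sub_mem, smul_eq_mul, Ideal.mul_top]
      have := coord_mem_of_mem_smul_top _ _ (map_mem_smul_top _ iQ (hq n)) j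
      rwa [map_sub] at this
    exact fun {m n} hmn => this hmn
  choose L hL using hc
  refine ⟨pQ L, fun n => ?_⟩
  have h1 : iQ (q n) - L ∈ (I ^ n • ⊤ : Submodule A (Fin k → A)) := by
    apply mem_smul_top_pi
    intro j
    have := hL j n
    rw [SModEq.sub_mem, smul_eq_mul, Ideal.mul_top] at this
    exact this
  have h2 : q n = pQ (iQ (q n)) := by rw [← LinearMap.comp_apply, h]; rfl
  rw [h2, ← map_sub]
  exact map_mem_smul_top _ pQ h1

end aux


/-- The full-faithfulness assertion. Let `A` be a commutative ring which is `I`-adically complete for an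
ideal `I`, and `P`, `Q` finitely generated projective `A`-modules. An `A`-linear map `P → Q` is
determined by its reductions modulo the powers `I^n`, and every family of `A`-linear maps `P/I^n P →
Q/I^n Q` compatible with the transition maps is the family of reductions of an `A`-linear map `P →
Q`. (The companion assertion, that compatible systems of finite projective modules over the rings
`A/I^n` lift to `A`, is not restated here.) -/
theorem result (A : Type u) [CommRing A] (I : Ideal A)
    [IsAdicComplete I A] (P Q : Type u) [AddCommGroup P] [Module A P] [Module.Finite A P]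
    [Module.Projective A P] [AddCommGroup Q] [Module A Q] [Module.Finite A Q] [Module.Projective A Q] :
    (∀ f f' : P →ₗ[A] Q, (∀ n : ℕ, f.reduceModIdeal (I ^ n) = f'.reduceModIdeal (I ^ n)) → f = f') ∧
    (∀ g : ∀ n : ℕ, P ⧸ (I ^ n • ⊤ : Submodule A P) →ₗ[A] Q ⧸ (I ^ n • ⊤ : Submodule A Q),
      (∀ n : ℕ, AdicCompletion.transitionMap I Q (Nat.le_succ n) ∘ₗ g (n + 1) =
        g n ∘ₗ AdicCompletion.transitionMap I P (Nat.le_succ n)) →
      ∃ f : P →ₗ[A] Q, ∀ n : ℕ, f.reduceModIdeal (I ^ n) = g n) := by
  classical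
  obtain ⟨k, pQ, iQ, -, -, hQ⟩ := Module.Finite.exists_comp_eq_id_of_projective A Q
  have haus : ∀ y : Q, (∀ n : ℕ, y ∈ (I ^ n • ⊤ : Submodule A Q)) → y = 0 :=
    hausdorff_of_retract I iQ pQ hQ
  refine ⟨?_, ?_⟩
  · intro f f' hff
    ext x
    rw [← sub_eq_zero]
    apply haus
    intro n
    have := congrArg (fun h => h (Submodule.Quotient.mk x)) (hff n)
    simp only [LinearMap.reduceModIdeal_apply] at this
    exact (Submodule.Quotient.eq _).mp this
  · intro g hg
    have hex : ∀ x : P, ∃ y : Q, ∀ n : ℕ,
        (Submodule.Quotient.mk y : Q ⧸ (I ^ n • ⊤ : Submodule A Q)) =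
          g n (Submodule.Quotient.mk x) := by
      intro x
      choose q hq using fun n : ℕ =>
        Submodule.Quotient.mk_surjective (I ^ n • ⊤ : Submodule A Q) (g n (Submodule.Quotient.mk x))
      have hstep : ∀ n : ℕ, q n - q (n + 1) ∈ (I ^ n • ⊤ : Submodule A Q) := by
        intro n
        rw [← Submodule.Quotient.eq, hq n]
        have := congrArg (fun h => h (Submodule.Quotient.mk x)) (hg n)
        simp only [LinearMap.comp_apply] at this
        rw [← hq (n + 1)] at this
        exact this.symm
      obtain ⟨y, hy⟩ := precomplete_of_retract I iQ pQ hQ q hstep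
      refine ⟨y, fun n => ?_⟩
      rw [← hq n, eq_comm, Submodule.Quotient.eq]
      exact hy n
    choose F hF using hex
    have huniq : ∀ (x : P) (y : Q), (∀ n : ℕ,
        (Submodule.Quotient.mk y : Q ⧸ (I ^ n • ⊤ : Submodule A Q)) =
          g n (Submodule.Quotient.mk x)) → y = F x := by
      intro x y hy
      rw [← sub_eq_zero]
      apply haus
      intro n
      rw [← Submodule.Quotient.eq, hy n, hF x n]
    refine ⟨{ toFun := F, map_add' := ?_, map_smul' := ?_ }, ?_⟩
    · intro x y
      symm
      apply huniq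
      intro n
      rw [Submodule.Quotient.mk_add, Submodule.Quotient.mk_add, map_add, hF x n, hF y n]
    · intro c x
      symm
      apply huniq
      intro n
      rw [RingHom.id_apply, Submodule.Quotient.mk_smul, Submodule.Quotient.mk_smul, map_smul,
        hF x n]
    · intro n
      apply LinearMap.ext
      intro z
      obtain ⟨x, rfl⟩ := Submodule.Quotient.mk_surjective _ z
      rw [LinearMap.coe_restrictScalars, LinearMap.reduceModIdeal_apply]
      exact hF x n

end Groth.Agent.S17864
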