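import Groth.Statements.S17865
import Mathlib

set_option autoImplicit false
open CategoryTheory AlgebraicGeometry
universe u
open Algz

namespace Groth.Agent.S17865

/-- In the case of schemes. Let `f : U ⟶ Y` be a Nisnevich cover of length at most `m` of quasi-compact
quasi-separated schemes (an etale morphism together with a chain of `m` closed constructible subsets
`∅ = Z_0 ⊆ ⋯ ⊆ Z_m = Y` such that `f` has a section over each `Z_(k+1) ∖ Z_k`), and `g : Y' ⟶ Y` a
morphism from a quasi-compact quasi-separated scheme. Then the base change `U ×_Y Y' ⟶ Y'` is a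
Nisnevich cover of length at most `m`. (The original form is for quasi-compact quasi-separated
algebraic spaces; stated here for schemes.) -/
theorem result {U Y Y' : Scheme.{u}} (f : U ⟶ Y) (g : Y' ⟶ Y)
    [CompactSpace U] [QuasiSeparatedSpace U] [CompactSpace Y] [QuasiSeparatedSpace Y]
    [CompactSpace Y'] [QuasiSeparatedSpace Y'] (m : ℕ)
    (hf : W4c5algebraiztannaka.IsNisCoverLen f m) :
    W4c5algebraiztannaka.IsNisCoverLen (Limits.pullback.snd f g) m := by
  obtain ⟨het, Z, h0, hlast, hmono, hcc, hsect⟩ := hf
  have hcons : ∀ s : Set Y, Topology.IsConstructible s → Topology.IsConstructible (g ⁻¹' s) := fun s hs =>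
    hs.preimage g.continuous (fun s hso hsr =>
      (g.isSpectralMap.isCompact_preimage_of_isOpen hso hsr.isCompact).isRetrocompact
        (hso.preimage g.continuous))
  refine ⟨MorphismProperty.pullback_snd (P := @Etale) f g het, fun k => g ⁻¹' Z k, ?_, ?_, ?_, ?_, ?_⟩
  · show g ⁻¹' Z 0 = ∅
    rw [h0]; rfl
  · show g ⁻¹' Z (Fin.last m) = Set.univ
    rw [hlast]; rfl
  · intro a b hab
    exact Set.preimage_mono (hmono hab)
  · intro k
    exact ⟨(hcc k).1.preimage g.continuous, hcons _ (hcc k).2⟩
  · intro k
    obtain ⟨T, i, s, himm, hrange, hfac⟩ := hsect k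
    refine ⟨Limits.pullback i g, Limits.pullback.snd i g,
      Limits.pullback.lift (Limits.pullback.fst i g ≫ s) (Limits.pullback.snd i g) ?_,
      MorphismProperty.pullback_snd (P := @IsImmersion) i g himm, ?_,
      Limits.pullback.lift_snd _ _ _⟩
    · rw [Category.assoc, hfac, Limits.pullback.condition]
    · show Set.range (Limits.pullback.snd i g) = g ⁻¹' Z k.succ \ g ⁻¹' Z k.castSucc
      rw [Scheme.Pullback.range_snd, ← Set.preimage_sdiff]
      exact congrArg _ hrange

end Groth.Agent.S17865
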