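import Groth.Statements.S17866
import Mathlib

set_option autoImplicit false
open CategoryTheory AlgebraicGeometry
universe u
open Algz

namespace Groth.Agent.S17866

open Topology in
/-- constructible subsets of a spectral-like space are compact -/
lemma isCompact_of_isConstructible {X : Type*} [TopologicalSpace X] [CompactSpace X] [QuasiSober X]
    [PrespectralSpace X] [QuasiSeparatedSpace X] {s : Set X} (hs : Topology.IsConstructible s) :
    IsCompact s := by
  have hclopen : IsOpen[constructibleTopology X] s ∧ IsOpen[constructibleTopology X] sᶜ := by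
    induction hs using Topology.IsConstructible.empty_union_induction with
    | open_retrocompact U hUopen hUcomp =>
      have hc : IsCompact U := hUcomp.isCompact
      exact ⟨hc.isOpen_constructibleTopology_of_isOpen hUopen,
        IsCompact.isOpen_constructibleTopology_of_isClosed (by rwa [compl_compl])
          hUopen.isClosed_compl⟩
    | union s hs t ht hs' ht' =>
      refine ⟨?_, ?_⟩
      · exact @IsOpen.union X s t (constructibleTopology X) hs'.1 ht'.1
      · rw [Set.compl_union]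
        exact @IsOpen.inter X (constructibleTopology X) sᶜ tᶜ hs'.2 ht'.2
    | compl s hs hs' => exact ⟨hs'.2, by rw [compl_compl]; exact hs'.1⟩
  have hle : constructibleTopology X ≤ ‹TopologicalSpace X› := by
    have h1 := (PrespectralSpace.isTopologicalBasis (X := X)).eq_generateFrom
    calc constructibleTopology X
        = TopologicalSpace.generateFrom (constructibleTopologySubbasis X) := rfl
      _ ≤ TopologicalSpace.generateFrom {U : Set X | IsOpen U ∧ IsCompact U} :=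
          TopologicalSpace.generateFrom_anti Set.subset_union_left
      _ = _ := h1.symm
  haveI : CompactSpace (WithConstructibleTopology X) := compactSpace_withConstructibleTopology
  have hcl : IsClosed (WithTopology.ofTopology ⁻¹' s : Set (WithConstructibleTopology X)) := by
    rw [WithTopology.isClosed_iff]
    exact @IsClosed.mk X (constructibleTopology X) _ hclopen.2
  have hcomp := hcl.isCompact
  have hcont : Continuous (WithTopology.ofTopology : WithConstructibleTopology X → X) := by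
    refine ⟨fun U hU => ?_⟩
    rw [WithTopology.isOpen_iff]
    exact hle U hU
  have := hcomp.image hcont
  rwa [Set.image_preimage_eq _ (WithTopology.ofTopology_surjective _)] at this

lemma isConstructible_image_of_isEmbedding {T Y : Type*} [TopologicalSpace T] [TopologicalSpace Y]
    [CompactSpace Y] [QuasiSober Y] [PrespectralSpace Y] [QuasiSeparatedSpace Y]
    {f : T → Y} (hf : Topology.IsEmbedding f) (hr : Topology.IsConstructible (Set.range f))
    {E : Set T} (hE : Topology.IsConstructible E) : Topology.IsConstructible (f '' E) := by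
  haveI : CompactSpace T := by
    refine ⟨?_⟩
    rw [hf.isInducing.isCompact_iff, Set.image_univ]
    exact isCompact_of_isConstructible hr
  induction hE using Topology.IsConstructible.empty_union_induction with
  | open_retrocompact V hVopen hVcomp =>
    have hVc : IsCompact V := hVcomp.isCompact
    obtain ⟨U', hU'open, hU'V⟩ := hf.isInducing.isOpen_iff.mp hVopen
    obtain ⟨W, hWc, hWo, hVW, hWU⟩ := PrespectralSpace.exists_isCompact_and_isOpen_between
      (hVc.image hf.continuous) hU'open (by rw [← hU'V]; exact Set.image_preimage_subset f U')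
    have : f '' V = W ∩ Set.range f := by
      apply Set.Subset.antisymm
      · exact Set.subset_inter hVW (Set.image_subset_range f V)
      · rintro _ ⟨hyW, t, rfl⟩
        exact ⟨t, by rw [← hU'V]; exact hWU hyW, rfl⟩
    rw [this]
    exact (hWc.isConstructible hWo).inter hr
  | union s hs t ht hs' ht' => rw [Set.image_union]; exact hs'.union ht'
  | compl s hs hs' =>
    rw [← Set.range_sdiff_image hf.injective]
    exact hr.sdiff hs'

lemma isClosed_union_image {T Y : Type*} [TopologicalSpace T] [TopologicalSpace Y] {f : T → Y}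
    (hf : Topology.IsInducing f) {B B' : Set Y} (hB : IsClosed B) (hB' : IsClosed B')
    (hr : Set.range f = B' \ B) {C : Set T} (hC : IsClosed C) : IsClosed (B ∪ f '' C) := by
  obtain ⟨D, hD, rfl⟩ := hf.isClosed_iff.mp hC
  have : B ∪ f '' (f ⁻¹' D) = B ∪ (D ∩ B') := by
    rw [Set.image_preimage_eq_inter_range, hr]
    ext x; simp only [Set.mem_union, Set.mem_inter_iff, Set.mem_sdiff]; tauto
  rw [this]; exact hB.union (hD.inter hB')

lemma extend_flag {Y : Type*} [TopologicalSpace Y] (m : ℕ) (Z : Fin (m + 1) → Set Y)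
    (h0 : Z 0 = ∅) (hl : Z (Fin.last m) = Set.univ) (hmono : Monotone Z)
    (hcc : ∀ k, IsClosed (Z k) ∧ Topology.IsConstructible (Z k)) :
    ∃ A : ℕ → Set Y, A 0 = ∅ ∧ A m = Set.univ ∧ Monotone A ∧
      (∀ l, IsClosed (A l) ∧ Topology.IsConstructible (A l)) ∧
      ∀ (l : ℕ) (h : l < m), A (l + 1) = Z (Fin.succ ⟨l, h⟩) ∧ A l = Z (Fin.castSucc ⟨l, h⟩) := by
  refine ⟨fun l => if h : l < m + 1 then Z ⟨l, h⟩ else Set.univ, ?_, ?_, ?_, ?_, ?_⟩
  · show (if h : 0 < m + 1 then Z ⟨0, h⟩ else Set.univ) = ∅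
    rw [dif_pos (Nat.succ_pos m)]; exact h0
  · show (if h : m < m + 1 then Z ⟨m, h⟩ else Set.univ) = Set.univ
    rw [dif_pos (Nat.lt_succ_self m)]; exact hl
  · intro a b hab
    show (if h : a < m + 1 then Z ⟨a, h⟩ else Set.univ) ≤
      (if h : b < m + 1 then Z ⟨b, h⟩ else Set.univ)
    by_cases hb : b < m + 1
    · rw [dif_pos hb, dif_pos (lt_of_le_of_lt hab hb)]
      exact hmono (Fin.mk_le_mk.mpr hab)
    · rw [dif_neg hb]; exact Set.subset_univ _
  · intro l
    show IsClosed (if h : l < m + 1 then Z ⟨l, h⟩ else Set.univ) ∧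
      Topology.IsConstructible (if h : l < m + 1 then Z ⟨l, h⟩ else Set.univ)
    by_cases hb : l < m + 1
    · rw [dif_pos hb]; exact hcc _
    · rw [dif_neg hb]; exact ⟨isClosed_univ, Topology.IsConstructible.univ⟩
  · intro l h
    constructor
    · show (if h' : l + 1 < m + 1 then Z ⟨l + 1, h'⟩ else Set.univ) = _
      rw [dif_pos (Nat.succ_lt_succ h)]; rfl
    · show (if h' : l < m + 1 then Z ⟨l, h'⟩ else Set.univ) = _
      rw [dif_pos (Nat.lt_succ_of_lt h)]; rfl

lemma divmod_succ (m j : ℕ) (hpos : 0 < m) :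
    (j % m + 1 < m ∧ (j + 1) / m = j / m ∧ (j + 1) % m = j % m + 1) ∨
    (j % m + 1 = m ∧ (j + 1) / m = j / m + 1 ∧ (j + 1) % m = 0) := by
  have hj := Nat.div_add_mod j m
  have hl := Nat.mod_lt j hpos
  rcases Nat.lt_or_ge (j % m + 1) m with h | h
  · left
    have := (Nat.div_mod_unique hpos (a := j + 1) (c := j % m + 1) (d := j / m)).mpr
      ⟨by omega, h⟩
    exact ⟨h, this.1, this.2⟩
  · right
    have h' : j % m + 1 = m := by omega
    have := (Nat.div_mod_unique hpos (a := j + 1) (c := 0) (d := j / m + 1)).mpr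
      ⟨by rw [Nat.mul_add, Nat.mul_one]; omega, hpos⟩
    exact ⟨h', this.1, this.2⟩



/-- In the case of schemes. Let `g₁ : Y₁ ⟶ Y₂` and `g₂ : Y₂ ⟶ Y₃` be Nisnevich covers of quasi-compact
quasi-separated schemes of lengths at most `m₁` and `m₂` respectively. Then `g₁ ≫ g₂` is a Nisnevich
cover of length at most `m₁ * m₂`. (The original form is for quasi-compact quasi-separated algebraic
spaces; stated here for schemes.) -/
theorem result {Y₁ Y₂ Y₃ : Scheme.{u}} (g₁ : Y₁ ⟶ Y₂) (g₂ : Y₂ ⟶ Y₃)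
    [CompactSpace Y₁] [QuasiSeparatedSpace Y₁] [CompactSpace Y₂] [QuasiSeparatedSpace Y₂]
    [CompactSpace Y₃] [QuasiSeparatedSpace Y₃] (m₁ m₂ : ℕ)
    (h₁ : W4c5algebraiztannaka.IsNisCoverLen g₁ m₁) (h₂ : W4c5algebraiztannaka.IsNisCoverLen g₂ m₂) :
    W4c5algebraiztannaka.IsNisCoverLen (g₁ ≫ g₂) (m₁ * m₂) := by
  obtain ⟨het₁, Z₁, h0₁, hl₁, hmono₁, hcc₁, hs₁⟩ := h₁
  obtain ⟨het₂, Z₂, h0₂, hl₂, hmono₂, hcc₂, hs₂⟩ := h₂
  have het : Etale (g₁ ≫ g₂) := by
    haveI := het₁; haveI := het₂; infer_instance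
  rcases Nat.eq_zero_or_pos m₁ with rfl | hpos
  · -- `Y₂` is empty
    have hY₂ : ∀ y : Y₂, False := fun y => by
      have h1 : y ∈ Z₁ (Fin.last 0) := by rw [hl₁]; trivial
      have h' : Fin.last 0 = (0 : Fin (0 + 1)) := rfl
      rw [h', h0₁] at h1; exact h1
    have hZ₂ : ∀ k : Fin (m₂ + 1), Z₂ k = ∅ := by
      intro k
      induction k using Fin.induction with
      | zero => exact h0₂
      | succ k ih =>
        obtain ⟨T, i, s, himm, hrange, hfac⟩ := hs₂ k
        have hTe : ∀ t : T, False := fun t => hY₂ (s t)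
        have h2 : Z₂ k.succ \ Z₂ k.castSucc = ∅ := by
          rw [← hrange]; exact Set.range_eq_empty_iff.mpr ⟨hTe⟩
        rw [ih, Set.diff_empty] at h2; exact h2
    rw [Nat.zero_mul]
    refine ⟨het, fun _ => ∅, rfl, ?_, fun _ _ _ => le_rfl,
      fun _ => ⟨isClosed_empty, Topology.IsConstructible.empty⟩, fun k => k.elim0⟩
    show (∅ : Set Y₃) = Set.univ
    rw [← hl₂, hZ₂]
  obtain ⟨A, hA0, hA1, hAmono, hAcc, hAsec⟩ := extend_flag m₁ Z₁ h0₁ hl₁ hmono₁ hcc₁
  obtain ⟨B, hB0, hB1, hBmono, hBcc, hBsec⟩ := extend_flag m₂ Z₂ h0₂ hl₂ hmono₂ hcc₂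
  choose T i s himm hrange hfac using hs₂
  choose T' i' s' himm' hrange' hfac' using hs₁
  have hBge : ∀ k, m₂ ≤ k → B k = Set.univ := fun k hk =>
    Set.eq_univ_of_univ_subset (by rw [← hB1]; exact hBmono hk)
  have hri : ∀ k (h : k < m₂), Set.range (i ⟨k, h⟩) = B (k + 1) \ B k := by
    intro k h
    obtain ⟨e1, e2⟩ := hBsec k h
    rw [e1, e2]; exact hrange ⟨k, h⟩
  have hri' : ∀ l (h : l < m₁), Set.range (i' ⟨l, h⟩) = A (l + 1) \ A l := by
    intro l h
    obtain ⟨e1, e2⟩ := hAsec l h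
    rw [e1, e2]; exact hrange' ⟨l, h⟩
  obtain ⟨P, hPpos, hPneg⟩ : ∃ P : ℕ → ℕ → Set Y₃,
      (∀ k l (h : k < m₂), P k l = (i ⟨k, h⟩) '' ((s ⟨k, h⟩) ⁻¹' A l)) ∧
      (∀ k l, ¬ k < m₂ → P k l = ∅) :=
    ⟨fun k l => if h : k < m₂ then (i ⟨k, h⟩) '' ((s ⟨k, h⟩) ⁻¹' A l) else ∅,
      fun k l h => dif_pos h, fun k l h => dif_neg h⟩
  have hP0 : ∀ k, P k 0 = ∅ := by
    intro k
    by_cases h : k < m₂
    · rw [hPpos k 0 h, hA0, Set.preimage_empty, Set.image_empty]
    · exact hPneg k 0 h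
  have hF1 : ∀ k l, IsClosed (B k ∪ P k l) ∧ Topology.IsConstructible (B k ∪ P k l) := by
    intro k l
    by_cases h : k < m₂
    · rw [hPpos k l h]
      haveI := himm ⟨k, h⟩
      refine ⟨isClosed_union_image (i ⟨k, h⟩).isEmbedding.isInducing (hBcc k).1 (hBcc (k + 1)).1
        (hri k h) ((hAcc l).1.preimage (s ⟨k, h⟩).continuous), (hBcc k).2.union ?_⟩
      exact isConstructible_image_of_isEmbedding (i ⟨k, h⟩).isEmbedding
        (by rw [hri k h]; exact (hBcc (k + 1)).2.sdiff (hBcc k).2)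
        ((s ⟨k, h⟩).isConstructible_preimage (hAcc l).2)
    · rw [hPneg k l h, Set.union_empty, hBge k (not_lt.mp h)]
      exact ⟨isClosed_univ, Topology.IsConstructible.univ⟩
  have hF2 : ∀ k l, B k ∪ P k l ⊆ B k ∪ P k (l + 1) := by
    intro k l
    by_cases h : k < m₂
    · rw [hPpos k l h, hPpos k (l + 1) h]
      exact Set.union_subset_union_right _
        (Set.image_mono (Set.preimage_mono (hAmono (Nat.le_succ l))))
    · rw [hPneg k l h, hPneg k (l + 1) h]
  have hF3 : ∀ k, B k ∪ P k m₁ = B (k + 1) ∪ P (k + 1) 0 := by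
    intro k
    rw [hP0 (k + 1), Set.union_empty]
    by_cases h : k < m₂
    · rw [hPpos k m₁ h, hA1, Set.preimage_univ, Set.image_univ, hri k h]
      exact Set.union_diff_cancel (hBmono (Nat.le_succ k))
    · rw [hPneg k m₁ h, Set.union_empty, hBge k (not_lt.mp h),
        hBge (k + 1) (le_trans (not_lt.mp h) (Nat.le_succ k))]
  have hstep : ∀ j : ℕ, B ((j + 1) / m₁) ∪ P ((j + 1) / m₁) ((j + 1) % m₁) =
      B (j / m₁) ∪ P (j / m₁) (j % m₁ + 1) := by
    intro j
    rcases divmod_succ m₁ j hpos with ⟨_, e1, e2⟩ | ⟨e0, e1, e2⟩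
    · rw [e1, e2]
    · rw [e1, e2, e0]
      exact (hF3 (j / m₁)).symm
  have hVmono : Monotone (fun j : ℕ => B (j / m₁) ∪ P (j / m₁) (j % m₁)) := by
    refine monotone_nat_of_le_succ (fun j => ?_)
    show B (j / m₁) ∪ P (j / m₁) (j % m₁) ⊆ B ((j + 1) / m₁) ∪ P ((j + 1) / m₁) ((j + 1) % m₁)
    rw [hstep j]
    exact hF2 _ _
  refine ⟨het, fun j => B (j.val / m₁) ∪ P (j.val / m₁) (j.val % m₁), ?_, ?_, ?_, ?_, ?_⟩
  · show B ((0 : Fin (m₁ * m₂ + 1)).val / m₁) ∪ P ((0 : Fin (m₁ * m₂ + 1)).val / m₁)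
      ((0 : Fin (m₁ * m₂ + 1)).val % m₁) = ∅
    rw [Fin.val_zero, Nat.zero_div, Nat.zero_mod, hB0, hP0, Set.union_empty]
  · show B ((Fin.last (m₁ * m₂)).val / m₁) ∪ P ((Fin.last (m₁ * m₂)).val / m₁)
      ((Fin.last (m₁ * m₂)).val % m₁) = Set.univ
    rw [Fin.val_last, Nat.mul_div_cancel_left _ hpos, hB1, Set.univ_union]
  · intro a b hab
    exact hVmono (Fin.le_def.mp hab)
  · intro j
    exact hF1 _ _
  · intro j
    show W4c5algebraiztannaka.HasSectOver (g₁ ≫ g₂)
      ((B ((j.val + 1) / m₁) ∪ P ((j.val + 1) / m₁) ((j.val + 1) % m₁)) \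
        (B (j.val / m₁) ∪ P (j.val / m₁) (j.val % m₁)))
    rw [hstep j.val]
    have hk : j.val / m₁ < m₂ := Nat.div_lt_of_lt_mul j.isLt
    have hl : j.val % m₁ < m₁ := Nat.mod_lt _ hpos
    generalize j.val / m₁ = k at hk
    generalize j.val % m₁ = l at hl
    rw [hPpos k (l + 1) hk, hPpos k l hk]
    haveI := himm ⟨k, hk⟩
    haveI : IsImmersion (Limits.pullback.fst (s ⟨k, hk⟩) (i' ⟨l, hl⟩)) :=
      MorphismProperty.pullback_fst (P := @IsImmersion) _ _ (himm' ⟨l, hl⟩)
    refine ⟨_, Limits.pullback.fst (s ⟨k, hk⟩) (i' ⟨l, hl⟩) ≫ i ⟨k, hk⟩,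
      Limits.pullback.snd (s ⟨k, hk⟩) (i' ⟨l, hl⟩) ≫ s' ⟨l, hl⟩, inferInstance, ?_, ?_⟩
    · have hcomp : (fun t => (Limits.pullback.fst (s ⟨k, hk⟩) (i' ⟨l, hl⟩) ≫ i ⟨k, hk⟩) t) =
          (i ⟨k, hk⟩) ∘ (Limits.pullback.fst (s ⟨k, hk⟩) (i' ⟨l, hl⟩)) := funext fun t => rfl
      rw [hcomp, Set.range_comp, Scheme.Pullback.range_fst, hri' l hl, Set.preimage_sdiff,
        Set.image_sdiff (i ⟨k, hk⟩).isEmbedding.injective]
      have hdisj : ∀ y ∈ (i ⟨k, hk⟩) '' ((s ⟨k, hk⟩) ⁻¹' A (l + 1)), y ∉ B k := by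
        rintro _ ⟨t, -, rfl⟩ hyB
        have h3 : (i ⟨k, hk⟩) t ∈ Set.range (i ⟨k, hk⟩) := ⟨t, rfl⟩
        rw [hri k hk] at h3; exact h3.2 hyB
      ext y
      simp only [Set.mem_sdiff, Set.mem_union]
      constructor
      · rintro ⟨h1, h2⟩
        exact ⟨Or.inr h1, fun h => h.elim (hdisj y h1) h2⟩
      · rintro ⟨h1 | h1, h2⟩
        · exact absurd (Or.inl h1) h2
        · exact ⟨h1, fun h => h2 (Or.inr h)⟩
    · rw [Category.assoc, ← Category.assoc (s' ⟨l, hl⟩) g₁ g₂, hfac' ⟨l, hl⟩, ← Category.assoc,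
        ← Limits.pullback.condition, Category.assoc, hfac ⟨k, hk⟩]

end Groth.Agent.S17866
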