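import Groth.Statements.S17869
import Mathlib

set_option autoImplicit false
open CategoryTheory AlgebraicGeometry
universe u
open Algz

namespace Groth.Agent.S17869

/-- In the case of schemes. Let `U` be a quasi-compact quasi-separated scheme and `V 0, …, V (k-1)`
quasi-compact open subschemes which cover `U`. Then the canonical morphism from the disjoint union
`∐ V i` to `U` is a Nisnevich cover of length at most `k`. (The published example states more
generally that, for a Nisnevich cover of `Y` of length at most `m` with source `U`, the composite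
from the disjoint union `∐ V i` to `Y` has length at most `m * k`; stated here is the case of the
identity of `U`, to which the published argument reduces, and the general bound follows by composing
Nisnevich covers. The original form is for quasi-compact quasi-separated algebraic spaces, with the
members of the cover quasi-compact; stated here for schemes.) -/
theorem result {U : Scheme.{u}} [CompactSpace U] [QuasiSeparatedSpace U]
    (k : ℕ) (V : Fin k → U.Opens) (hV : ∀ i, IsCompact (V i : Set U)) (hcov : ⨆ i, V i = ⊤) :
    W4c5algebraiztannaka.IsNisCoverLen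
      (Limits.Sigma.desc (fun i => (V i).ι) : (∐ fun i => ((V i : U.Opens) : Scheme.{u})) ⟶ U) k := by
  classical
  let Z : Fin (k + 1) → Set U := fun j => {x | ∀ i : Fin k, (j : ℕ) ≤ (i : ℕ) → x ∉ V i}
  have hZeq : ∀ j : Fin (k + 1),
      Z j = (⋃ i : {i : Fin k // (j : ℕ) ≤ (i : ℕ)}, ((V i.1 : U.Opens) : Set U))ᶜ := by
    intro j
    ext x
    simp only [Z, Set.mem_setOf_eq, Set.mem_compl_iff, Set.mem_iUnion, SetLike.mem_coe,
      not_exists, Subtype.forall]
  have hopen : ∀ j : Fin (k + 1),
      IsOpen (⋃ i : {i : Fin k // (j : ℕ) ≤ (i : ℕ)}, ((V i.1 : U.Opens) : Set U)) :=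
    fun j => isOpen_iUnion fun i => (V i.1).isOpen
  have hclosed : ∀ j, IsClosed (Z j) := fun j => by
    rw [hZeq]; exact (hopen j).isClosed_compl
  refine ⟨IsZariskiLocalAtSource.sigmaDesc (P := @Etale) (fun i => inferInstance), Z,
    ?_, ?_, ?_, ?_, ?_⟩
  · ext x
    simp only [Z, Set.mem_setOf_eq, Set.mem_empty_iff_false, iff_false]
    intro h
    have hx : x ∈ (⨆ i, V i) := by rw [hcov]; trivial
    obtain ⟨i, hi⟩ := TopologicalSpace.Opens.mem_iSup.mp hx
    exact h i (Nat.zero_le _) hi
  · ext x
    simp only [Z, Set.mem_setOf_eq, Set.mem_univ, iff_true]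
    intro i hi
    have := i.2
    rw [Fin.val_last] at hi
    omega
  · intro a b hab x hx i hi
    exact hx i (le_trans (show (a : ℕ) ≤ (b : ℕ) from hab) hi)
  · intro j
    refine ⟨hclosed j, ?_⟩
    rw [hZeq]
    exact (IsCompact.isConstructible (isCompact_iUnion fun i : {i : Fin k // (j : ℕ) ≤ (i : ℕ)} => hV i.1) (hopen j)).compl
  · intro j
    have hS : Z j.succ \ Z j.castSucc = Z j.succ ∩ ((V j : U.Opens) : Set U) := by
      ext x
      simp only [Z, Set.mem_sdiff, Set.mem_setOf_eq, Set.mem_inter_iff, SetLike.mem_coe,
        Fin.val_succ, Fin.val_castSucc, not_forall, not_not]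
      constructor
      · rintro ⟨h1, i, hi, hxi⟩
        refine ⟨h1, ?_⟩
        by_cases hij : (i : ℕ) = j
        · have : i = j := Fin.ext hij
          rwa [← this]
        · exact absurd hxi (h1 i (by omega))
      · rintro ⟨h1, h2⟩
        exact ⟨h1, j, le_rfl, h2⟩
    let C : TopologicalSpace.Closeds U := ⟨Z j.succ, hclosed _⟩
    let I := Scheme.IdealSheafData.vanishingIdeal C
    let O : I.subscheme.Opens := I.subschemeι ⁻¹ᵁ V j
    have hrι : Set.range I.subschemeι = Z j.succ := by
      rw [Scheme.IdealSheafData.range_subschemeι,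
        Scheme.IdealSheafData.coe_support_vanishingIdeal]
      rfl
    have hrange : Set.range (fun t : O.toScheme => (O.ι ≫ I.subschemeι) t) =
        Z j.succ ∩ ((V j : U.Opens) : Set U) := by
      ext x
      constructor
      · rintro ⟨t, rfl⟩
        have ht : O.ι t ∈ (O : Set I.subscheme) := by
          rw [← O.range_ι]; exact Set.mem_range_self t
        refine ⟨?_, ht⟩
        rw [← hrι]
        exact ⟨O.ι t, rfl⟩
      · rintro ⟨hx1, hx2⟩
        rw [← hrι] at hx1
        obtain ⟨y, rfl⟩ := hx1
        have hy : y ∈ (O : Set I.subscheme) := hx2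
        rw [← O.range_ι] at hy
        obtain ⟨t, rfl⟩ := hy
        exact ⟨t, rfl⟩
    have hsub : Set.range (O.ι ≫ I.subschemeι) ⊆ Set.range (V j).ι := by
      rw [Scheme.Opens.range_ι]
      intro x hx
      have : x ∈ Z j.succ ∩ ((V j : U.Opens) : Set U) := by rw [← hrange]; exact hx
      exact this.2
    refine ⟨O.toScheme, O.ι ≫ I.subschemeι,
      IsOpenImmersion.lift (V j).ι (O.ι ≫ I.subschemeι) hsub ≫
        Limits.Sigma.ι (fun i => ((V i : U.Opens) : Scheme.{u})) j, inferInstance, ?_, ?_⟩
    · rw [hS]; exact hrange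
    · rw [Category.assoc, Limits.Sigma.ι_desc, IsOpenImmersion.lift_fac]

end Groth.Agent.S17869
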