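-- Statement S17875.
import Groth.Statements.S17875
import Mathlib

set_option autoImplicit false
universe u
open Polynomial
open GRRSing

namespace Groth.Agent.S17875

/-- Let R be a commutative ℚ-algebra, r an element of R and δ a natural number with (r - 1) ^ (δ + 1) =
0. Write s(k, j) for the signed Stirling numbers of the first kind, the coefficients of x (x - 1) ⋯
(x - k + 1) = Σ_j s(k, j) x ^ j. Then (i) for every natural number n, r ^ n = Σ_{k ≤ δ} [n (n - 1) ⋯
(n - k + 1) / k!] (r - 1) ^ k; and (ii) in the polynomial ring R[x], Σ_{k ≤ δ} [x (x - 1) ⋯ (x - k +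
1) / k!] (r - 1) ^ k = Σ_{j ≤ δ} [Σ_{k ≤ δ} Σ_{u ≤ k} (-1) ^ (k - u) s(k, j) / (u! (k - u)!) · r ^
u] x ^ j. -/
theorem result {R : Type u} [CommRing R] [Algebra ℚ R]
    (r : R) (δ : ℕ) (hr : (r - 1) ^ (δ + 1) = 0) :
    (∀ n : ℕ, r ^ n = ∑ k ∈ Finset.range (δ + 1), ((descPochhammer ℚ k).eval (n : ℚ) / (k.factorial : ℚ)) • (r - 1) ^ k) ∧
    (∑ k ∈ Finset.range (δ + 1), ((k.factorial : ℚ)⁻¹ • (descPochhammer R k * Polynomial.C ((r - 1) ^ k))) =
      ∑ j ∈ Finset.range (δ + 1), Polynomial.C (∑ k ∈ Finset.range (δ + 1), ∑ u ∈ Finset.range (k + 1),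
        (((-1 : ℚ) ^ (k - u) * (((descPochhammer ℤ k).coeff j : ℤ) : ℚ)) / ((u.factorial * (k - u).factorial : ℕ) : ℚ)) • r ^ u) * Polynomial.X ^ j) := by
  classical
  refine ⟨fun n => ?_, ?_⟩
  · -- (i)
    have hterm : ∀ k : ℕ, ((descPochhammer ℚ k).eval (n : ℚ) / (k.factorial : ℚ)) • (r - 1) ^ k =
        (n.choose k : R) * (r - 1) ^ k := by
      intro k
      rw [descPochhammer_eval_eq_descFactorial, Nat.descFactorial_eq_factorial_mul_choose]
      push_cast
      rw [mul_div_cancel_left₀ _ (Nat.cast_ne_zero.mpr (Nat.factorial_ne_zero k)),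
        Nat.cast_smul_eq_nsmul, nsmul_eq_mul]
    rw [Finset.sum_congr rfl (fun k _ => hterm k)]
    have h1 : r ^ n = ∑ m ∈ Finset.range (n + 1), (n.choose m : R) * (r - 1) ^ m := by
      conv_lhs => rw [show r = (r - 1) + 1 by ring, add_pow]
      refine Finset.sum_congr rfl fun m _ => ?_
      rw [one_pow, mul_one, mul_comm]
    rw [h1]
    have e1 : ∑ m ∈ Finset.range (n + 1), (n.choose m : R) * (r - 1) ^ m =
        ∑ m ∈ Finset.range (n + 1 + (δ + 1)), (n.choose m : R) * (r - 1) ^ m := by
      refine Finset.sum_subset (Finset.range_subset_range.mpr (by omega)) fun m _ hm => ?_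
      have : n < m := by
        rw [Finset.mem_range, not_lt] at hm
        omega
      rw [Nat.choose_eq_zero_of_lt this, Nat.cast_zero, zero_mul]
    have e2 : ∑ m ∈ Finset.range (δ + 1), (n.choose m : R) * (r - 1) ^ m =
        ∑ m ∈ Finset.range (n + 1 + (δ + 1)), (n.choose m : R) * (r - 1) ^ m := by
      refine Finset.sum_subset (Finset.range_subset_range.mpr (by omega)) fun m _ hm => ?_
      have : δ + 1 ≤ m := by
        rw [Finset.mem_range, not_lt] at hm
        exact hm
      rw [pow_eq_zero_of_le this hr, mul_zero]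
    rw [e1, e2]
  · -- (ii)
    ext j
    simp only [Polynomial.finset_sum_coeff, Polynomial.coeff_smul, Polynomial.coeff_mul_C,
      Polynomial.coeff_C_mul, Polynomial.coeff_X_pow]
    -- coefficients of descPochhammer
    have hdP : ∀ k : ℕ, (descPochhammer R k).coeff j =
        algebraMap ℚ R (((descPochhammer ℤ k).coeff j : ℤ) : ℚ) := by
      intro k
      rw [← descPochhammer_map (Int.castRingHom R) k, Polynomial.coeff_map, eq_intCast, map_intCast]
    have hzero : ∀ k : ℕ, k < j → (descPochhammer ℤ k).coeff j = 0 := by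
      intro k hk
      apply Polynomial.coeff_eq_zero_of_natDegree_lt
      rw [descPochhammer_natDegree]
      exact hk
    -- binomial expansion of (r-1)^k
    have hpow : ∀ k : ℕ, (r - 1) ^ k =
        ∑ u ∈ Finset.range (k + 1),
          algebraMap ℚ R ((-1 : ℚ) ^ (k - u) * (k.choose u : ℚ)) * r ^ u := by
      intro k
      rw [show r - 1 = r + (-1) by ring, add_pow]
      refine Finset.sum_congr rfl fun u _ => ?_
      rw [map_mul, map_pow, map_neg, map_one, map_natCast]
      ring
    have hk : ∀ k : ℕ, ((k.factorial : ℚ)⁻¹ • ((descPochhammer R k).coeff j * (r - 1) ^ k)) =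
        ∑ u ∈ Finset.range (k + 1),
          (((-1 : ℚ) ^ (k - u) * (((descPochhammer ℤ k).coeff j : ℤ) : ℚ)) /
            ((u.factorial * (k - u).factorial : ℕ) : ℚ)) • r ^ u := by
      intro k
      rw [hdP, hpow, Finset.mul_sum, Finset.smul_sum]
      refine Finset.sum_congr rfl fun u hu => ?_
      have huk : u ≤ k := Nat.lt_succ_iff.mp (Finset.mem_range.mp hu)
      rw [Algebra.smul_def, Algebra.smul_def, ← mul_assoc, ← mul_assoc, ← map_mul, ← map_mul]
      congr 2
      rw [Nat.cast_choose ℚ huk]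
      have h1 : ((k.factorial : ℕ) : ℚ) ≠ 0 := Nat.cast_ne_zero.mpr (Nat.factorial_ne_zero k)
      have h2 : ((u.factorial : ℕ) : ℚ) ≠ 0 := Nat.cast_ne_zero.mpr (Nat.factorial_ne_zero u)
      have h3 : (((k - u).factorial : ℕ) : ℚ) ≠ 0 :=
        Nat.cast_ne_zero.mpr (Nat.factorial_ne_zero _)
      push_cast
      field_simp
    rw [Finset.sum_congr rfl (fun k _ => hk k)]
    rw [Finset.sum_mul_boole]
    by_cases hj : j ∈ Finset.range (δ + 1)
    · rw [if_pos hj]
    · rw [if_neg hj]
      refine Finset.sum_eq_zero fun k hk' => Finset.sum_eq_zero fun u _ => ?_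
      have : k < j := by
        have := Finset.mem_range.mp hk'
        rw [Finset.mem_range, not_lt] at hj
        omega
      rw [hzero k this]
      simp

end Groth.Agent.S17875
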