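-- Statement S17878.
import Groth.Statements.S17878
import Mathlib

set_option autoImplicit false
universe u
open Filter Topology
open GRRSing

namespace Groth.Agent.S17878

section aux

open Finset in
/-- The recurrence satisfied by the coefficients of `2 / (e^t + 1)`. -/
lemma euler_rec (E : ℕ → ℚ)
    (hE : PowerSeries.mk (fun j => E j / (j.factorial : ℚ)) * (PowerSeries.exp ℚ + 1) = 2) (j : ℕ) :
    (∑ i ∈ Finset.range j, (j.choose i : ℚ) * E i) + 2 * E j = if j = 0 then 2 else 0 := by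
  have h := congrArg (PowerSeries.coeff j) hE
  rw [mul_add, mul_one, map_add, PowerSeries.coeff_mul, PowerSeries.coeff_mk] at h
  have h2 : (PowerSeries.coeff j) (2 : PowerSeries ℚ) = if j = 0 then 2 else 0 := by
    have : (2 : PowerSeries ℚ) = PowerSeries.C (2 : ℚ) := (map_ofNat (PowerSeries.C (R := ℚ)) 2).symm
    rw [this, PowerSeries.coeff_C]
  rw [h2, Finset.Nat.sum_antidiagonal_eq_sum_range_succ_mk] at h
  simp only [PowerSeries.coeff_mk, PowerSeries.coeff_exp] at h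
  have hfac : ((j.factorial : ℕ) : ℚ) ≠ 0 := Nat.cast_ne_zero.mpr (Nat.factorial_ne_zero j)
  have key : ∀ i ∈ Finset.range (j + 1),
      E i / (i.factorial : ℚ) * (algebraMap ℚ ℚ) (1 / ((j - i).factorial : ℚ)) * (j.factorial : ℚ)
        = (j.choose i : ℚ) * E i := by
    intro i hi
    have hij : i ≤ j := Nat.lt_succ_iff.mp (Finset.mem_range.mp hi)
    rw [Nat.cast_choose ℚ hij]
    have h1 : ((i.factorial : ℕ) : ℚ) ≠ 0 := Nat.cast_ne_zero.mpr (Nat.factorial_ne_zero i)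
    have h3 : (((j - i).factorial : ℕ) : ℚ) ≠ 0 := Nat.cast_ne_zero.mpr (Nat.factorial_ne_zero _)
    simp only [Algebra.algebraMap_self, RingHom.id_apply]
    field_simp
  have h' := congrArg (fun q : ℚ => q * (j.factorial : ℚ)) h
  simp only [add_mul, Finset.sum_mul] at h'
  rw [Finset.sum_congr rfl key, Finset.sum_range_succ, Nat.choose_self, Nat.cast_one, one_mul,
    div_mul_cancel₀ _ hfac] at h'
  rw [two_mul, ← add_assoc, h']
  split_ifs with hj
  · subst hj; simp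
  · simp

/-- The recurrence for the sums `S_j(y) = ∑ k^j y^k`. -/
lemma S_rec (j : ℕ) (y : ℂ) (hy : ‖y‖ < 1) :
    (1 - y) * (∑' k : ℕ, (k : ℂ) ^ j * y ^ k) =
      (if j = 0 then 1 else 0) +
        y * ∑ i ∈ Finset.range j, (j.choose i : ℂ) * ∑' k : ℕ, (k : ℂ) ^ i * y ^ k := by
  have hs : ∀ i : ℕ, Summable (fun k : ℕ => (k : ℂ) ^ i * y ^ k) :=
    fun i => summable_pow_mul_geometric_of_norm_lt_one i hy
  have h1 : ∑' k : ℕ, (k : ℂ) ^ j * y ^ k =
      ((0 : ℕ) : ℂ) ^ j * y ^ 0 + ∑' k : ℕ, ((k + 1 : ℕ) : ℂ) ^ j * y ^ (k + 1) :=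
    (hs j).tsum_eq_zero_add
  have h2 : ∀ k : ℕ, ((k + 1 : ℕ) : ℂ) ^ j * y ^ (k + 1) =
      y * ∑ i ∈ Finset.range (j + 1), (j.choose i : ℂ) * ((k : ℂ) ^ i * y ^ k) := by
    intro k
    push_cast
    rw [add_pow, Finset.sum_mul, Finset.mul_sum]
    refine Finset.sum_congr rfl fun i _ => ?_
    rw [one_pow, pow_succ]
    ring
  have h3 : ∑' k : ℕ, ((k + 1 : ℕ) : ℂ) ^ j * y ^ (k + 1) =
      y * ∑ i ∈ Finset.range (j + 1), (j.choose i : ℂ) * ∑' k : ℕ, (k : ℂ) ^ i * y ^ k := by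
    rw [tsum_congr h2, tsum_mul_left]
    congr 1
    rw [Summable.tsum_finsetSum (fun i _ => (hs i).mul_left _)]
    refine Finset.sum_congr rfl fun i _ => ?_
    rw [tsum_mul_left]
  rw [Finset.sum_range_succ, Nat.choose_self, Nat.cast_one, one_mul] at h3
  have h0 : ((0 : ℕ) : ℂ) ^ j * y ^ 0 = if j = 0 then 1 else 0 := by
    rw [pow_zero, mul_one, Nat.cast_zero, zero_pow_eq]
  rw [h0, h3] at h1
  linear_combination (1 : ℂ) * h1

open Filter Topology in
lemma S_tendsto (E : ℕ → ℚ)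
    (hErec : ∀ j : ℕ,
      (∑ i ∈ Finset.range j, (j.choose i : ℚ) * E i) + 2 * E j = if j = 0 then 2 else 0)
    (j : ℕ) :
    Tendsto (fun y : ℝ => ∑' k : ℕ, (k : ℂ) ^ j * (y : ℂ) ^ k) (𝓝[Set.Ioo (-1 : ℝ) 1] (-1 : ℝ))
      (𝓝 (((E j : ℚ) : ℂ) / 2)) := by
  induction j using Nat.strong_induction_on with
  | _ j ih =>
    have hy_tend : Tendsto (fun y : ℝ => (y : ℂ)) (𝓝[Set.Ioo (-1 : ℝ) 1] (-1 : ℝ))
        (𝓝 ((-1 : ℝ) : ℂ)) :=
      (Complex.continuous_ofReal.tendsto (-1)).mono_left nhdsWithin_le_nhds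
    have hnum : Tendsto (fun y : ℝ => ((if j = 0 then 1 else 0 : ℂ)) +
        (y : ℂ) * ∑ i ∈ Finset.range j, (j.choose i : ℂ) * ∑' k : ℕ, (k : ℂ) ^ i * (y : ℂ) ^ k)
        (𝓝[Set.Ioo (-1 : ℝ) 1] (-1 : ℝ))
        (𝓝 ((if j = 0 then 1 else 0 : ℂ) +
          ((-1 : ℝ) : ℂ) * ∑ i ∈ Finset.range j, (j.choose i : ℂ) * (((E i : ℚ) : ℂ) / 2))) := by
      refine tendsto_const_nhds.add (hy_tend.mul ?_)
      refine tendsto_finset_sum _ fun i hi => ?_
      exact (ih i (Finset.mem_range.mp hi)).const_mul _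
    have hden : Tendsto (fun y : ℝ => (1 : ℂ) - (y : ℂ)) (𝓝[Set.Ioo (-1 : ℝ) 1] (-1 : ℝ))
        (𝓝 ((1 : ℂ) - ((-1 : ℝ) : ℂ))) := tendsto_const_nhds.sub hy_tend
    have hden0 : (1 : ℂ) - ((-1 : ℝ) : ℂ) ≠ 0 := by
      push_cast; norm_num
    have hdiv := hnum.div hden hden0
    have hval : ((if j = 0 then 1 else 0 : ℂ) +
          ((-1 : ℝ) : ℂ) * ∑ i ∈ Finset.range j, (j.choose i : ℂ) * (((E i : ℚ) : ℂ) / 2)) /
        ((1 : ℂ) - ((-1 : ℝ) : ℂ)) = ((E j : ℚ) : ℂ) / 2 := by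
      have hq := congrArg (fun q : ℚ => (q : ℂ)) (hErec j)
      simp only [Rat.cast_add, Rat.cast_sum, Rat.cast_mul, Rat.cast_natCast, Rat.cast_ofNat] at hq
      have hsum : ∑ i ∈ Finset.range j, (j.choose i : ℂ) * (((E i : ℚ) : ℂ) / 2) =
          (∑ i ∈ Finset.range j, (j.choose i : ℂ) * ((E i : ℚ) : ℂ)) / 2 := by
        rw [Finset.sum_div]
        refine Finset.sum_congr rfl fun i _ => ?_
        ring
      rw [hsum]
      push_cast
      have h2 : ((1 : ℂ) - -1) = 2 := by norm_num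
      rw [h2]
      by_cases hj : j = 0
      · simp only [hj, if_true] at hq ⊢
        push_cast at hq
        linear_combination (-1 / 4 : ℂ) * hq
      · simp only [hj, if_false] at hq ⊢
        push_cast at hq
        linear_combination (-1 / 4 : ℂ) * hq
    rw [hval] at hdiv
    refine hdiv.congr' ?_
    filter_upwards [self_mem_nhdsWithin] with y hy
    have hyn : ‖(y : ℂ)‖ < 1 := by
      rw [Complex.norm_real, Real.norm_eq_abs, abs_lt]
      exact ⟨hy.1, hy.2⟩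
    have hne : (1 : ℂ) - (y : ℂ) ≠ 0 := by
      intro h
      have : (y : ℂ) = 1 := (sub_eq_zero.mp h).symm
      rw [this, norm_one] at hyn
      exact lt_irrefl _ hyn
    rw [Pi.div_apply, ← S_rec j (y : ℂ) hyn, mul_comm, mul_div_assoc, div_self hne, mul_one]

end aux


/-- Let T be a nonzero commutative normed ℂ-algebra such that the map ℂ → T/nilradical(T) is surjective,
let P = Σ_j d_j x ^ j be a polynomial over T and put h_k = P(k). Let E_0, E_1, … be the rational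
numbers with 2/(e^t + 1) = Σ_j E_j t ^ j / j! (so E_0 = 1, E_1 = -1/2). Then for every complex y
with |y| < 1 the series Σ_k h_k y ^ k converges in T, and as y → -1 along real y in (-1, 1) its sum
tends to (1/2) Σ_j E_j d_j. (The published statement allows any norm topology on T as a complex
vector space; this row takes T a normed ℂ-algebra.) -/
theorem result {T : Type u} [NormedCommRing T] [NormedAlgebra ℂ T] [Nontrivial T]
    (hT : Function.Surjective (algebraMap ℂ (T ⧸ nilradical T)))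
    (E : ℕ → ℚ) (hE : PowerSeries.mk (fun j => E j / (j.factorial : ℚ)) * (PowerSeries.exp ℚ + 1) = 2)
    (P : Polynomial T) :
    (∀ y : ℂ, ‖y‖ < 1 → Summable (fun k : ℕ => y ^ k • P.eval (k : T))) ∧
    Tendsto (fun y : ℝ => ∑' k : ℕ, ((y : ℂ) ^ k) • P.eval (k : T)) (𝓝[Set.Ioo (-1 : ℝ) 1] (-1 : ℝ))
      (𝓝 ((2 : ℂ)⁻¹ • ∑ j ∈ Finset.range (P.natDegree + 1), ((E j : ℚ) : ℂ) • P.coeff j)) := by
  classical
  have hErec := euler_rec E hE
  have hterm : ∀ (y : ℂ) (k : ℕ), y ^ k • P.eval (k : T) =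
      ∑ j ∈ Finset.range (P.natDegree + 1), ((k : ℂ) ^ j * y ^ k) • P.coeff j := by
    intro y k
    rw [Polynomial.eval_eq_sum_range, Finset.smul_sum]
    refine Finset.sum_congr rfl fun j _ => ?_
    have : (k : T) = algebraMap ℂ T (k : ℂ) := (map_natCast _ k).symm
    rw [this, ← map_pow, mul_comm, ← Algebra.smul_def, smul_smul, mul_comm]
  have hsumm : ∀ (y : ℂ), ‖y‖ < 1 → ∀ j : ℕ,
      Summable (fun k : ℕ => ((k : ℂ) ^ j * y ^ k) • P.coeff j) :=
    fun y hy j => (summable_pow_mul_geometric_of_norm_lt_one j hy).smul_const _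
  refine ⟨?_, ?_⟩
  · intro y hy
    rw [show (fun k : ℕ => y ^ k • P.eval (k : T)) = fun k : ℕ =>
      ∑ j ∈ Finset.range (P.natDegree + 1), ((k : ℂ) ^ j * y ^ k) • P.coeff j from
      funext (hterm y)]
    exact summable_sum fun j _ => hsumm y hy j
  · have htsum : ∀ y : ℝ, y ∈ Set.Ioo (-1 : ℝ) 1 →
        ∑' k : ℕ, ((y : ℂ) ^ k) • P.eval (k : T) =
          ∑ j ∈ Finset.range (P.natDegree + 1),
            (∑' k : ℕ, (k : ℂ) ^ j * (y : ℂ) ^ k) • P.coeff j := by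
      intro y hy
      have hyn : ‖(y : ℂ)‖ < 1 := by
        rw [Complex.norm_real, Real.norm_eq_abs, abs_lt]
        exact ⟨hy.1, hy.2⟩
      rw [tsum_congr (hterm (y : ℂ)), Summable.tsum_finsetSum (fun j _ => hsumm _ hyn j)]
      refine Finset.sum_congr rfl fun j _ => ?_
      exact (summable_pow_mul_geometric_of_norm_lt_one j hyn).tsum_smul_const _
    have hlim : Tendsto (fun y : ℝ => ∑ j ∈ Finset.range (P.natDegree + 1),
          (∑' k : ℕ, (k : ℂ) ^ j * (y : ℂ) ^ k) • P.coeff j)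
        (𝓝[Set.Ioo (-1 : ℝ) 1] (-1 : ℝ))
        (𝓝 (∑ j ∈ Finset.range (P.natDegree + 1), ((((E j : ℚ) : ℂ)) / 2) • P.coeff j)) :=
      tendsto_finset_sum _ fun j _ => (S_tendsto E hErec j).smul_const _
    have hval : (2 : ℂ)⁻¹ • ∑ j ∈ Finset.range (P.natDegree + 1), ((E j : ℚ) : ℂ) • P.coeff j =
        ∑ j ∈ Finset.range (P.natDegree + 1), ((((E j : ℚ) : ℂ)) / 2) • P.coeff j := by
      rw [Finset.smul_sum]
      refine Finset.sum_congr rfl fun j _ => ?_
      rw [smul_smul]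
      congr 1
      ring
    rw [hval]
    refine hlim.congr' ?_
    filter_upwards [self_mem_nhdsWithin] with y hy
    exact (htsum y hy).symm

end Groth.Agent.S17878
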