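import Groth.Statements.S17880
-- import your own Groth.Agent.* helpers here
import Mathlib
import Groth.Agent.Lib.Helper12.ApproxOver
import Groth.Agent.S9199

set_option autoImplicit false
universe u
open CategoryTheory AlgebraicGeometry
open Lim

namespace Groth.Agent.S17880
open Limits TopologicalSpace Opposite Groth.Agent.Lib.Helper12.ApproxOver

set_option backward.isDefEq.respectTransparency false
set_option linter.style.haveILetI false

/-- Let f : Y → X be a morphism of schemes with X and Y quasi-compact and quasi-separated. Then f is the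
composite of an affine morphism Y → Z and a morphism Z → X of finite presentation (locally of finite
presentation, quasi-compact and quasi-separated); if f is separated, Z → X can in addition be chosen
separated. Both assertions are packaged in one existential. -/
theorem result {X Y : Scheme.{u}} (f : Y ⟶ X)
    [CompactSpace X] [QuasiSeparatedSpace X] [CompactSpace Y] [QuasiSeparatedSpace Y] :
    ∃ (Z : Scheme.{u}) (g : Y ⟶ Z) (h : Z ⟶ X), IsAffineHom g ∧ LocallyOfFinitePresentation h ∧
      QuasiCompact h ∧ QuasiSeparated h ∧ (IsSeparated f → IsSeparated h) ∧ g ≫ h = f := by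
  classical
  obtain ⟨I, iI1, iI2, iI3, D, π, hlim, hlim', hD, haff⟩ := exists_approx_over f
  let c : Cone D := { pt := Over.mk f, π := π }
  let D' : Iᵒᵖ ⥤ Scheme.{u} := D ⋙ Over.forget X
  let t : D' ⟶ (Functor.const Iᵒᵖ).obj X :=
    { app := fun i => (D.obj i).hom
      naturality := fun i j a => by
        show (D.map a).left ≫ (D.obj j).hom = (D.obj i).hom ≫ 𝟙 X
        rw [Over.w, Category.comp_id] }
  haveI : ∀ {i j : Iᵒᵖ} (a : i ⟶ j), IsAffineHom (D'.map a) := fun {i j} a => haff i j a
  haveI : ∀ (i j : Iᵒᵖ) (a : i ⟶ j), IsAffineHom (D'.map a) := fun i j a => haff i j a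
  haveI : ∀ i, CompactSpace (D'.obj i) := fun i => (hD i).2.2.2.1
  haveI : ∀ i, QuasiSeparatedSpace (D'.obj i) := fun i => (hD i).2.2.2.2
  have haffπ : ∀ i, IsAffineHom (c.π.app i).left := fun i =>
    isAffineHom_π_app D' ((Over.forget X).mapCone c) hlim' i
  obtain ⟨i₀⟩ := (inferInstance : Nonempty Iᵒᵖ)
  by_cases hsep : IsSeparated f
  · haveI : IsSeparated (((Over.forget X).mapCone c).π.app i₀ ≫ t.app i₀) := by
      show IsSeparated ((c.π.app i₀).left ≫ (D.obj i₀).hom)
      rw [Over.w]
      exact hsep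
    obtain ⟨i₁, hi₁⟩ := Groth.Agent.S9199.result X D' t ((Over.forget X).mapCone c) hlim' i₀
    exact ⟨(D.obj i₁).left, (c.π.app i₁).left, (D.obj i₁).hom, haffπ i₁, (hD i₁).1, (hD i₁).2.1,
      (hD i₁).2.2.1, fun _ => hi₁ i₁ (𝟙 _), Over.w _⟩
  · exact ⟨(D.obj i₀).left, (c.π.app i₀).left, (D.obj i₀).hom, haffπ i₀, (hD i₀).1, (hD i₀).2.1,
      (hD i₀).2.2.1, fun h => absurd h hsep, Over.w _⟩

end Groth.Agent.S17880
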