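import Groth.Statements.S17882
import Mathlib

set_option autoImplicit false
universe u
open CAlg

namespace Groth.Agent.S17882

/-- Let B be a commutative ring, r ≥ 1, N a finitely generated submodule of B^r, and n_1, …, n_r ∈ N.
Suppose the determinant of the matrix with rows n_1, …, n_r is a nonzerodivisor of B and that the
determinant of every matrix whose rows lie in N is a multiple of it (the image of the top exterior
power of N in that of B^r ≅ B is the principal ideal generated by n_1 ∧ ⋯ ∧ n_r, a nonzerodivisor).
Then n_1, …, n_r are linearly independent over B and span N: N is free of rank r with this basis. -/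
theorem result (B : Type u) [CommRing B] (r : ℕ) (hr : 0 < r)
    (N : Submodule B (Fin r → B)) (hN : N.FG) (n : Fin r → (Fin r → B)) (hn : ∀ i, n i ∈ N)
    (hgen : ∀ m : Fin r → (Fin r → B), (∀ i, m i ∈ N) →
      Matrix.det (Matrix.of m) ∈ Ideal.span {Matrix.det (Matrix.of n)})
    (hnzd : Matrix.det (Matrix.of n) ∈ nonZeroDivisors B) :
    LinearIndependent B n ∧ Submodule.span B (Set.range n) = N := by
  classical
  set M : Matrix (Fin r) (Fin r) B := Matrix.of n with hM
  set D : B := M.det with hD
  constructor
  · rw [Fintype.linearIndependent_iff]
    intro c hc
    have h1 : Matrix.vecMul c M = 0 := by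
      funext j
      have := congrFun hc j
      simpa [Matrix.vecMul, dotProduct, hM] using this
    have h2 : Matrix.vecMul c (M * M.adjugate) = 0 := by
      rw [← Matrix.vecMul_vecMul, h1, Matrix.zero_vecMul]
    rw [Matrix.mul_adjugate] at h2
    intro i
    have h3 := congrFun h2 i
    simp only [Matrix.vecMul_smul, Matrix.vecMul_one, Pi.smul_apply, smul_eq_mul,
      Pi.zero_apply] at h3
    have h4 : c i * D = 0 := by rw [mul_comm]; exact h3
    exact hnzd.2 _ h4
  · apply le_antisymm
    · rw [Submodule.span_le]
      rintro _ ⟨i, rfl⟩
      exact hn i
    · intro m hm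
      -- coefficients from hgen
      have hex : ∀ i, ∃ a : B, a * D = (M.updateRow i m).det := by
        intro i
        have hrows : ∀ k, (Function.update n i m) k ∈ N := by
          intro k
          by_cases hk : k = i
          · subst hk; simpa using hm
          · simpa [Function.update_of_ne hk] using hn k
        have := hgen (Function.update n i m) hrows
        rw [Ideal.mem_span_singleton'] at this
        obtain ⟨a, ha⟩ := this
        refine ⟨a, ?_⟩
        rw [ha]
        congr 1
      choose a ha using hex
      have hcr := Matrix.mulVec_cramer M.transpose m
      rw [Matrix.det_transpose] at hcr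
      have hmeq : m = ∑ i, a i • n i := by
        funext j
        have h5 := congrFun hcr j
        simp only [Matrix.mulVec, dotProduct, Matrix.transpose_apply, Matrix.cramer_transpose_apply,
          Pi.smul_apply, smul_eq_mul] at h5
        have h6 : D * (∑ i, a i • n i) j = D * m j := by
          rw [← h5, Finset.sum_apply, Finset.mul_sum]
          refine Finset.sum_congr rfl (fun i _ => ?_)
          rw [← ha i]
          simp only [Pi.smul_apply, smul_eq_mul, hM, Matrix.of_apply]
          ring
        have h7 : D * ((∑ i, a i • n i) j - m j) = 0 := by rw [mul_sub, h6, sub_self]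
        have h8 := hnzd.1 _ h7
        exact (sub_eq_zero.1 h8).symm
      rw [hmeq]
      exact Submodule.sum_mem _ (fun i _ => Submodule.smul_mem _ _ (Submodule.subset_span ⟨i, rfl⟩))

end Groth.Agent.S17882
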