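import Groth.Statements.S17885
-- import your own Groth.Agent.* helpers here
import Mathlib
import Groth.Agent.Lib.Helper12.AffLim
import Groth.Agent.Lib.Helper12.ApproxOver
import Groth.Agent.Lib.Helper12.UpSet
import Groth.Agent.S9200

set_option autoImplicit false
universe u
open CategoryTheory AlgebraicGeometry
open Lim

namespace Groth.Agent.S17885
open Limits Opposite Groth.Agent.Lib.Helper12 Groth.Agent.Lib.Helper12.UpSet
set_option backward.isDefEq.respectTransparency false
set_option linter.style.haveILetI false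

/-- Let f : Y → X be a morphism of schemes with X and Y quasi-compact and quasi-separated. Then f is
affine if and only if the X-scheme Y is a limit, in the category of schemes over X, of a filtered
inverse system of X-schemes that are affine and of finite presentation over X. -/
theorem result {X Y : Scheme.{u}} (f : Y ⟶ X)
    [CompactSpace X] [QuasiSeparatedSpace X] [CompactSpace Y] [QuasiSeparatedSpace Y] :
    IsAffineHom f ↔
      ∃ (I : Type u) (_ : SmallCategory I) (_ : IsFiltered I) (D : Iᵒᵖ ⥤ Over X)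
        (c : Limits.Cone D) (_ : Limits.IsLimit c),
        (∀ i, IsAffineHom (D.obj i).hom ∧ LocallyOfFinitePresentation (D.obj i).hom) ∧
        Nonempty (c.pt ≅ Over.mk f) := by
  constructor
  · intro hf
    obtain ⟨I, iI1, iI2, iI3, D, π, hlim, hlim', hst, haff⟩ := ApproxOver.exists_approx_over f
    haveI : Nonempty I := iI3
    obtain ⟨i₀⟩ := iI3
    let D' : Iᵒᵖ ⥤ Scheme.{u} := D ⋙ Over.forget X
    let t : D' ⟶ (Functor.const Iᵒᵖ).obj X :=
      { app := fun i => (D.obj i).hom
        naturality := fun i j a => by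
          dsimp [D']
          simp }
    haveI : ∀ (i j : Iᵒᵖ) (a : i ⟶ j), IsAffineHom (D'.map a) := fun i j a => haff i j a
    haveI : ∀ i, CompactSpace (D'.obj i) := fun i => (hst i).2.2.2.1
    haveI : ∀ i, QuasiSeparatedSpace (D'.obj i) := fun i => (hst i).2.2.2.2
    let c' : Cone D' := (Over.forget X).mapCone ({ pt := Over.mk f, π := π } : Cone D)
    have hw : c'.π.app (op i₀) ≫ t.app (op i₀) = f := Over.w (π.app (op i₀))
    haveI : IsAffineHom (c'.π.app (op i₀) ≫ t.app (op i₀)) := by rw [hw]; exact hf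
    obtain ⟨i₁, hi₁⟩ := Groth.Agent.S9200.result X D' t c' hlim' (op i₀)
    let I₁ := Up i₁.unop
    let D₁ : I₁ᵒᵖ ⥤ Over X := upFunctor i₁.unop ⋙ D
    let c₁ : Cone D₁ := ({ pt := Over.mk f, π := π } : Cone D).whisker (upFunctor i₁.unop)
    have hc₁ : IsLimit c₁ :=
      (Functor.Initial.isLimitWhiskerEquiv (upFunctor i₁.unop) _).symm hlim
    refine ⟨I₁, inferInstance, inferInstance, D₁, c₁, hc₁, fun k => ⟨?_, (hst _).1⟩, ⟨Iso.refl _⟩⟩
    exact hi₁ (op k.unop.1) (homOfLE k.unop.2).op
  · rintro ⟨I, iI1, iI2, D, c, hc, hD, ⟨e⟩⟩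
    let D' : Iᵒᵖ ⥤ Scheme.{u} := D ⋙ Over.forget X
    haveI : ∀ {i j : Iᵒᵖ} (a : i ⟶ j), IsAffineHom (D'.map a) := fun {i j} a => by
      haveI : IsAffineHom (D.obj j).hom := (hD j).1
      haveI : IsAffineHom ((D.map a).left ≫ (D.obj j).hom) := by
        rw [Over.w]; exact (hD i).1
      exact IsAffineHom.of_comp (D.map a).left (D.obj j).hom
    haveI : HasLimit (D ⋙ Over.forget X) := AffLim.hasLimit D'
    haveI : IsConnected Iᵒᵖ := IsCofiltered.isConnected _
    haveI : PreservesLimit D (Over.forget X) := preservesLimit_of_createsLimit_and_hasLimit _ _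
    have hc' : IsLimit ((Over.forget X).mapCone c) := isLimitOfPreserves (Over.forget X) hc
    obtain ⟨i⟩ := IsFiltered.nonempty (C := I)
    have h1 : IsAffineHom (c.π.app (op i)).left := isAffineHom_π_app D' _ hc' (op i)
    haveI : IsAffineHom (D.obj (op i)).hom := (hD (op i)).1
    have h2 : f = e.inv.left ≫ (c.π.app (op i)).left ≫ (D.obj (op i)).hom := by
      rw [Over.w]
      exact (Over.w e.inv).symm
    rw [h2]
    infer_instance

end Groth.Agent.S17885
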