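import Groth.Statements.S17886
import Groth.Agent.Lib.Helper3.ChowTop
import Groth.Agent.Lib.Helper3.QProj
import Groth.Agent.Lib.Helper3.AmpleMisc
import Groth.Agent.Lib.Helper3.InvGen

set_option autoImplicit false
universe u
open CategoryTheory AlgebraicGeometry
open FlatMor

namespace Groth.Agent.S17886

open Groth.Agent.Lib.Helper3 TopologicalSpace

/-- Let S be a Noetherian scheme and f : X → S separated and of finite type. Then X is covered by
finitely many affine opens U_1, …, U_n each of which is dense in X and quasi-projective over S (of
finite type with a relatively ample invertible module). -/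
theorem result {S X : Scheme.{u}} (f : X ⟶ S)
    [IsNoetherian S] [IsSeparated f] [QuasiCompact f] [LocallyOfFiniteType f] :
    ∃ (n : ℕ) (U : Fin n → X.Opens), (⨆ i, U i) = ⊤ ∧
      ∀ i, IsAffineOpen (U i) ∧ Dense ((U i : Set X)) ∧ RelProj.IsQuasiProjective ((U i).ι ≫ f) := by
  classical
  haveI : IsLocallyNoetherian X := LocallyOfFiniteType.isLocallyNoetherian f
  haveI : CompactSpace X := QuasiCompact.compactSpace_of_compactSpace f
  haveI : IsNoetherian X := {}
  haveI : NoetherianSpace X := inferInstance
  have hfin : (irreducibleComponents (X : Type u)).Finite :=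
    NoetherianSpace.finite_irreducibleComponents
  obtain ⟨κ, hκ, U, hUaff, hcov, hmeet⟩ := ChowTop.exists_affine_cover X hfin
  haveI := hκ
  obtain ⟨n, ⟨e⟩⟩ := Finite.exists_equiv_fin κ
  refine ⟨n, fun i => U (e.symm i), ?_, fun i => ⟨hUaff _, ?_, ?_⟩⟩
  · rw [← hcov]
    exact e.symm.iSup_comp (g := U)
  · intro x
    have hC := irreducibleComponent_mem_irreducibleComponents x
    have hne : ((irreducibleComponent x) ∩ (U (e.symm i) : Set X)).Nonempty := by
      rw [Set.inter_comm]
      exact hmeet _ hC (e.symm i)
    have h1 := subset_closure_inter_of_isPreirreducible_of_isOpen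
      (isIrreducible_irreducibleComponent (x := x)).isPreirreducible (U (e.symm i)).2 hne
    exact closure_mono Set.inter_subset_right (h1 mem_irreducibleComponent)
  · haveI : IsAffine (U (e.symm i)).toScheme := hUaff _
    refine ⟨inferInstance, inferInstance, Coh.structureModule _, ?_⟩
    exact QProj.isRelAmple_of_isAmple _
      (AmpleMisc.isAmple_of_isAffine (InvGen.isInvertible_structureModule _))

end Groth.Agent.S17886
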