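import Groth.Statements.S17889
import Mathlib
import Groth.Agent.Lib.Helper17.BlowSep

set_option autoImplicit false
universe u
open CategoryTheory AlgebraicGeometry TopologicalSpace
open BlowUp

namespace Groth.Agent.S17889

/-- Let X be a Noetherian scheme, X₀ ⊆ X an open subscheme, p : Z → X a morphism of finite type with Z
Noetherian, and F ⊆ X, G ⊆ Z closed subsets with p⁻¹(F ∩ X₀) ∩ G = ∅. Let a be a quasi-coherent
ideal sheaf on X whose support does not meet X₀, which contains the vanishing ideal I_F of F, and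
which is contained in the kernel ideal of V(I_F·O_Z + I_G) → Z → X (the ideal of the
scheme-theoretic image under p of p⁻¹(F) ∩ G). Let π : X' → X be a blowing-up along a, Z' = Z ×_X X'
with projections π' : Z' → Z and p' : Z' → X'. Then p'⁻¹ of the closure in X' of π⁻¹(F ∩ X₀) is
disjoint from the closure in Z' of π'⁻¹(G ∩ p⁻¹(X₀)). Taking a to be that kernel ideal shows such an
a exists. -/
theorem result
    {X Z : Scheme.{u}} [IsNoetherian X] [IsNoetherian Z] (p : Z ⟶ X) [LocallyOfFiniteType p]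
    (X₀ : X.Opens) (F : Closeds X) (G : Closeds Z)
    (hFG : p.base ⁻¹' ((F : Set X) ∩ (X₀ : Set X)) ∩ (G : Set Z) = ∅)
    (𝔞 : X.IdealSheafData) (h₁ : Disjoint (𝔞.support : Set X) (X₀ : Set X))
    (h₂ : Scheme.IdealSheafData.vanishingIdeal F ≤ 𝔞)
    (h₃ : 𝔞 ≤ (((Scheme.IdealSheafData.vanishingIdeal F).comap p ⊔
      Scheme.IdealSheafData.vanishingIdeal G).subschemeι ≫ p).ker)
    {X' : Scheme.{u}} (π : X' ⟶ X) (hπ : BlowUp.IsBlowUp π 𝔞) :
    (Limits.pullback.snd p π).base ⁻¹' closure (π.base ⁻¹' ((F : Set X) ∩ (X₀ : Set X))) ∩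
      closure ((Limits.pullback.fst p π).base ⁻¹' ((G : Set Z) ∩ (p ⁻¹ᵁ X₀ : Set Z))) = ∅ := by
  have h3' : 𝔞.comap p ≤ (Scheme.IdealSheafData.vanishingIdeal F).comap p ⊔
      Scheme.IdealSheafData.vanishingIdeal G :=
    Scheme.IdealSheafData.le_map_iff_comap_le.1 h₃
  have hcond : Limits.pullback.snd p π ≫ π = Limits.pullback.fst p π ≫ p :=
    Limits.pullback.condition.symm
  have hpt : ∀ z, π ((Limits.pullback.snd p π) z) = p ((Limits.pullback.fst p π) z) := by
    intro z
    rw [← Scheme.Hom.comp_apply, ← Scheme.Hom.comp_apply, hcond]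
  have hcomap : ∀ I : X.IdealSheafData, (I.comap π).comap (Limits.pullback.snd p π) =
      (I.comap p).comap (Limits.pullback.fst p π) := by
    intro I
    rw [← Scheme.IdealSheafData.comap_comp, ← Scheme.IdealSheafData.comap_comp, hcond]
  have key := Groth.Agent.Lib.Helper17.BlowSep.disjoint_preimage_closure_closure
    (Limits.pullback.snd p π) (𝔞.comap π) ((Scheme.IdealSheafData.vanishingIdeal F).comap π)
    (𝔞.comap π) ((Scheme.IdealSheafData.vanishingIdeal G).comap (Limits.pullback.fst p π))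
    hπ.1 (sup_eq_right.2 (Scheme.IdealSheafData.comap_mono π h₂)).symm ?_
    (π.base ⁻¹' ((F : Set X) ∩ (X₀ : Set X))) ?_ ?_
    ((Limits.pullback.fst p π).base ⁻¹' ((G : Set Z) ∩ (p ⁻¹ᵁ X₀ : Set Z))) ?_ ?_
  · exact Set.disjoint_iff_inter_eq_empty.1 key
  · rw [hcomap, hcomap, ← Scheme.IdealSheafData.comap_sup]
    exact Scheme.IdealSheafData.comap_mono _ h3'
  · intro y hy
    rw [Scheme.IdealSheafData.support_comap]
    change π y ∈ ((Scheme.IdealSheafData.vanishingIdeal F).support : Set X)
    rw [Scheme.IdealSheafData.coe_support_vanishingIdeal]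
    exact hy.1
  · refine Set.disjoint_left.2 (fun y hy hy' => ?_)
    rw [Scheme.IdealSheafData.support_comap] at hy'
    exact Set.disjoint_left.1 h₁ hy' hy.2
  · intro y hy
    rw [Scheme.IdealSheafData.support_comap]
    change (Limits.pullback.fst p π) y ∈ ((Scheme.IdealSheafData.vanishingIdeal G).support : Set Z)
    rw [Scheme.IdealSheafData.coe_support_vanishingIdeal]
    exact hy.1
  · refine Set.disjoint_left.2 (fun y hy hy' => ?_)
    rw [Scheme.IdealSheafData.support_comap, Scheme.IdealSheafData.support_comap] at hy'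
    have h1 : π ((Limits.pullback.snd p π) y) ∈ (𝔞.support : Set X) := hy'
    rw [hpt] at h1
    exact Set.disjoint_left.1 h₁ h1 hy.2

end Groth.Agent.S17889
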