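import Groth.Statements.S17897
import Mathlib
import Groth.Agent.Lib.Helper17.ValDense

set_option autoImplicit false
universe u
open CategoryTheory AlgebraicGeometry
open ValCrit

namespace Groth.Agent.S17897

/-- Let f : Y → X be a morphism of schemes (not assumed separated), R a valuation ring with fraction
field K, and i : Spec K → Y, φ : Spec R → X with i ≫ f = (Spec K → Spec R) ≫ φ. Let y be the point
of Y hit by i and g : κ(y) → K the induced embedding, R' = g⁻¹(R) the induced valuation ring of κ(y)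
and ρ : R' → R the restriction of g. Then φ factors uniquely through Spec R → Spec R': there is a
unique φ' : Spec R' → X with (Spec ρ) ≫ φ' = φ whose restriction to the generic point Spec κ(y) is
the canonical morphism Spec κ(y) → Y followed by f. (Here y and g are given as data with Spec g
followed by Spec κ(y) → Y equal to i, and ρ as data by its defining equation.) -/
theorem result {X Y : Scheme.{u}} (f : Y ⟶ X)
    (K : Type u) [Field K] (R : ValuationSubring K)
    (i : Spec (CommRingCat.of K) ⟶ Y) (φ : Spec (CommRingCat.of ↥R) ⟶ X)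
    (w : Spec.map (CommRingCat.ofHom R.subtype) ≫ φ = i ≫ f)
    (y : Y) (g : Y.residueField y ⟶ CommRingCat.of K) (hg : Spec.map g ≫ Y.fromSpecResidueField y = i)
    (ρ : ↥(R.comap g.hom) →+* ↥R)
    (hρ : ∀ x : ↥(R.comap g.hom), ((ρ x : ↥R) : K) = g.hom (x : ↑(Y.residueField y))) :
    ∃! φ' : Spec (CommRingCat.of ↥(R.comap g.hom)) ⟶ X,
      Spec.map (CommRingCat.ofHom ρ) ≫ φ' = φ ∧
      Spec.map (CommRingCat.ofHom (R.comap g.hom).subtype) ≫ φ' = Y.fromSpecResidueField y ≫ f := by
  classical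
  -- `ρ` is a local homomorphism
  have hρloc : IsLocalHom ρ := by
    refine ⟨fun a ha => ?_⟩
    have ha0 : (a : Y.residueField y) ≠ 0 := by
      intro h0
      have h1 : ((ρ a : R) : K) = 0 := by rw [hρ, h0, map_zero]
      have h2 : ρ a = 0 := Subtype.ext h1
      rw [h2] at ha
      exact not_isUnit_zero ha
    obtain ⟨b, hb⟩ := isUnit_iff_exists_inv.mp ha
    have hb' : g.hom (a : Y.residueField y) * (b : K) = 1 := by
      rw [← hρ]
      exact congrArg Subtype.val hb
    have hinv : g.hom ((a : Y.residueField y)⁻¹) = (b : K) := by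
      rw [map_inv₀]
      exact (eq_inv_of_mul_eq_one_right hb').symm
    have hmem : (a : Y.residueField y)⁻¹ ∈ R.comap g.hom := by
      rw [ValuationSubring.mem_comap, hinv]
      exact b.2
    exact isUnit_iff_exists_inv.mpr ⟨⟨_, hmem⟩, Subtype.ext (mul_inv_cancel₀ ha0)⟩
  set x : X := φ (IsLocalRing.closedPoint R) with hx
  obtain ⟨W, hW, hxW⟩ : ∃ W : X.Opens, IsAffineOpen W ∧ x ∈ W := by
    obtain ⟨_, ⟨W, hW, rfl⟩, hy', -⟩ :=
      X.isBasis_affineOpens.exists_subset_of_mem_open (Set.mem_univ x) isOpen_univ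
    exact ⟨W, hW, hy'⟩
  let α : Γ(X, W) ⟶ .of R := X.presheaf.germ W _ hxW ≫ Scheme.stalkClosedPointTo φ
  have hα : Spec.map α ≫ hW.fromSpec = φ :=
    Groth.Agent.Lib.Helper17.DvrCrit.spec_factor_affine φ hW hxW
  obtain ⟨q, hq⟩ : ∃ q : Spec (.of (Y.residueField y)) ⟶ X, q = Y.fromSpecResidueField y ≫ f := ⟨_, rfl⟩
  have hiq : i ≫ f = Spec.map g ≫ q := by rw [hq, ← Category.assoc, hg]
  have hqW : q (IsLocalRing.closedPoint (Y.residueField y)) ∈ W := by
    have h1 : φ ⁻¹ᵁ W = ⊤ := Scheme.preimage_eq_top_of_closedPoint_mem φ hxW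
    have h2 : ∀ z : Spec (.of K), (Spec.map g ≫ q) z ∈ W := by
      intro z
      rw [← hiq, ← w]
      have : (Spec.map (CommRingCat.ofHom R.subtype)) z ∈ φ ⁻¹ᵁ W := by rw [h1]; trivial
      exact this
    have h3 : (Spec.map g) (IsLocalRing.closedPoint K) = IsLocalRing.closedPoint (Y.residueField y) :=
      Subsingleton.elim _ _
    have h4 := h2 (IsLocalRing.closedPoint K)
    change q ((Spec.map g) (IsLocalRing.closedPoint K)) ∈ W at h4
    rwa [h3] at h4
  let γ : Γ(X, W) ⟶ .of (Y.residueField y) := X.presheaf.germ W _ hqW ≫ Scheme.stalkClosedPointTo q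
  have hγ : Spec.map γ ≫ hW.fromSpec = q :=
    Groth.Agent.Lib.Helper17.DvrCrit.spec_factor_affine q hW hqW
  have hcompat : α ≫ CommRingCat.ofHom R.subtype = γ ≫ g := by
    apply Spec.map_injective
    rw [← cancel_mono hW.fromSpec, Spec.map_comp, Category.assoc, hα, w, hiq, Spec.map_comp,
      Category.assoc, hγ]
  have hcompat' : ∀ c, g.hom (γ.hom c) = ((α.hom c : R) : K) := by
    intro c
    exact (congrArg (fun ψ => ψ.hom c) hcompat).symm
  have hγmem : ∀ c, γ.hom c ∈ (R.comap g.hom).toSubring := by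
    intro c
    change γ.hom c ∈ R.comap g.hom
    rw [ValuationSubring.mem_comap, hcompat']
    exact (α.hom c).2
  let γ' : Γ(X, W) →+* (R.comap g.hom) := γ.hom.codRestrict (R.comap g.hom).toSubring hγmem
  have e1 : CommRingCat.ofHom γ' ≫ CommRingCat.ofHom ρ = α := by
    ext c
    change ((ρ (γ' c) : R) : K) = _
    rw [hρ]
    exact hcompat' c
  have e2 : CommRingCat.ofHom γ' ≫ CommRingCat.ofHom (R.comap g.hom).subtype = γ := by
    ext c; rfl
  have hφ'1 : Spec.map (CommRingCat.ofHom ρ) ≫ Spec.map (CommRingCat.ofHom γ') ≫ hW.fromSpec = φ := by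
    rw [← Category.assoc, ← Spec.map_comp, e1, hα]
  have hφ'2 : Spec.map (CommRingCat.ofHom (R.comap g.hom).subtype) ≫ Spec.map (CommRingCat.ofHom γ') ≫
      hW.fromSpec = q := by
    rw [← Category.assoc, ← Spec.map_comp, e2, hγ]
  refine ⟨Spec.map (CommRingCat.ofHom γ') ≫ hW.fromSpec, ⟨hφ'1, by rw [← hq]; exact hφ'2⟩, ?_⟩
  rintro φ'' ⟨h1, h2⟩
  have hcl : (Spec.map (CommRingCat.ofHom ρ)) (IsLocalRing.closedPoint R) =
      IsLocalRing.closedPoint (R.comap g.hom) := IsLocalRing.comap_closedPoint ρ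
  have hcl1 : φ'' (IsLocalRing.closedPoint (R.comap g.hom)) ∈ W := by
    rw [← hcl]
    change (Spec.map (CommRingCat.ofHom ρ) ≫ φ'') (IsLocalRing.closedPoint R) ∈ W
    rw [h1]
    exact hxW
  have hcl2 : (Spec.map (CommRingCat.ofHom γ') ≫ hW.fromSpec) (IsLocalRing.closedPoint (R.comap g.hom)) ∈ W := by
    rw [← hcl]
    change (Spec.map (CommRingCat.ofHom ρ) ≫ Spec.map (CommRingCat.ofHom γ') ≫ hW.fromSpec)
      (IsLocalRing.closedPoint R) ∈ W
    rw [hφ'1]
    exact hxW
  refine Groth.Agent.Lib.Helper17.ValDense.eq_of_generic_eq (K := Y.residueField y)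
    (fun a b hab => Subtype.ext hab) φ'' _ hW hcl1 hcl2 ?_
  change Spec.map (CommRingCat.ofHom (R.comap g.hom).subtype) ≫ φ'' = Spec.map (CommRingCat.ofHom (R.comap g.hom).subtype) ≫ _
  rw [h2, hφ'2, hq]

end Groth.Agent.S17897
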