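import Groth.Statements.S17898
import Mathlib
import Groth.Agent.Lib.Helper17.ValDense

set_option autoImplicit false
universe u
open CategoryTheory AlgebraicGeometry
open ValCrit

namespace Groth.Agent.S17898

/-- Let f : Y → X be a morphism of schemes (not assumed separated), K a field with valuation rings R ⊆
R' (inclusion ι), i : Spec K → Y and φ : Spec R → X a commutative square over f, and g : Spec R' → Y
a lift of Spec R' → Spec R → X restricting to i on Spec K. Let K̃ be the residue field of R', R̃ ⊆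
K̃ the image of R (a valuation ring of K̃) with the surjection σ : R → R̃. Then every h̃ : Spec R̃ →
Y whose restriction to Spec K̃ is Spec K̃ → Spec R' → Y (via g) and which lies over Spec R̃ → Spec R
→ X is induced by a unique h : Spec R → Y compatible with the whole diagram: h restricts to i on
Spec K, lies over φ, restricts to g along Spec R' → Spec R and to h̃ along Spec R̃ → Spec R. (ι, R̃,
σ are given as data pinned by their defining equations.) -/
theorem result {X Y : Scheme.{u}} (f : Y ⟶ X)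
    (K : Type u) [Field K] (R R' : ValuationSubring K) (hRR' : R ≤ R')
    (ι : ↥R →+* ↥R') (hι : ∀ x : ↥R, ((ι x : ↥R') : K) = (x : K))
    (i : Spec (CommRingCat.of K) ⟶ Y) (φ : Spec (CommRingCat.of ↥R) ⟶ X)
    (w : Spec.map (CommRingCat.ofHom R.subtype) ≫ φ = i ≫ f)
    (g : Spec (CommRingCat.of ↥R') ⟶ Y) (hg₁ : Spec.map (CommRingCat.ofHom R'.subtype) ≫ g = i)
    (hg₂ : g ≫ f = Spec.map (CommRingCat.ofHom ι) ≫ φ)
    (Rt : ValuationSubring (IsLocalRing.ResidueField ↥R')) (σ : ↥R →+* ↥Rt) (hσs : Function.Surjective σ)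
    (hσ : ∀ x : ↥R, ((σ x : ↥Rt) : IsLocalRing.ResidueField ↥R') = IsLocalRing.residue ↥R' (ι x))
    (ht : Spec (CommRingCat.of ↥Rt) ⟶ Y)
    (hht₁ : Spec.map (CommRingCat.ofHom Rt.subtype) ≫ ht =
      Spec.map (CommRingCat.ofHom (IsLocalRing.residue ↥R')) ≫ g)
    (hht₂ : ht ≫ f = Spec.map (CommRingCat.ofHom σ) ≫ φ) :
    ∃! h : Spec (CommRingCat.of ↥R) ⟶ Y, Spec.map (CommRingCat.ofHom R.subtype) ≫ h = i ∧ h ≫ f = φ ∧
      Spec.map (CommRingCat.ofHom ι) ≫ h = g ∧ Spec.map (CommRingCat.ofHom σ) ≫ h = ht := by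
  classical
  have hσloc : IsLocalHom σ := IsLocalHom.of_surjective σ hσs
  have hclσ : (Spec.map (CommRingCat.ofHom σ)) (IsLocalRing.closedPoint Rt) =
      IsLocalRing.closedPoint R := IsLocalRing.comap_closedPoint σ
  set y₁ : Y := ht (IsLocalRing.closedPoint Rt) with hy₁
  obtain ⟨V, hV, hy₁V⟩ : ∃ V : Y.Opens, IsAffineOpen V ∧ y₁ ∈ V := by
    obtain ⟨_, ⟨V, hV, rfl⟩, hy', -⟩ :=
      Y.isBasis_affineOpens.exists_subset_of_mem_open (Set.mem_univ y₁) isOpen_univ
    exact ⟨V, hV, hy'⟩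
  let τ : Γ(Y, V) ⟶ .of Rt := Y.presheaf.germ V _ hy₁V ≫ Scheme.stalkClosedPointTo ht
  have hτ : Spec.map τ ≫ hV.fromSpec = ht :=
    Groth.Agent.Lib.Helper17.DvrCrit.spec_factor_affine ht hV hy₁V
  have hgV : g (IsLocalRing.closedPoint R') ∈ V := by
    have h1 : ht ⁻¹ᵁ V = ⊤ := Scheme.preimage_eq_top_of_closedPoint_mem ht hy₁V
    have h2 : ∀ z : Spec (.of (IsLocalRing.ResidueField R')),
        (Spec.map (CommRingCat.ofHom (IsLocalRing.residue R')) ≫ g) z ∈ V := by
      intro z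
      rw [← hht₁]
      have : (Spec.map (CommRingCat.ofHom Rt.subtype)) z ∈ ht ⁻¹ᵁ V := by rw [h1]; trivial
      exact this
    have h3 : (Spec.map (CommRingCat.ofHom (IsLocalRing.residue R')))
        (IsLocalRing.closedPoint (IsLocalRing.ResidueField R')) = IsLocalRing.closedPoint R' :=
      IsLocalRing.comap_closedPoint (IsLocalRing.residue R')
    have h4 := h2 (IsLocalRing.closedPoint (IsLocalRing.ResidueField R'))
    change g ((Spec.map (CommRingCat.ofHom (IsLocalRing.residue R')))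
      (IsLocalRing.closedPoint (IsLocalRing.ResidueField R'))) ∈ V at h4
    rwa [h3] at h4
  let δ : Γ(Y, V) ⟶ .of R' := Y.presheaf.germ V _ hgV ≫ Scheme.stalkClosedPointTo g
  have hδ : Spec.map δ ≫ hV.fromSpec = g :=
    Groth.Agent.Lib.Helper17.DvrCrit.spec_factor_affine g hV hgV
  have hcompat : τ ≫ CommRingCat.ofHom Rt.subtype =
      δ ≫ CommRingCat.ofHom (IsLocalRing.residue R') := by
    apply Spec.map_injective
    rw [← cancel_mono hV.fromSpec, Spec.map_comp, Category.assoc, hτ, hht₁, Spec.map_comp,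
      Category.assoc, hδ]
  have hcompat' : ∀ c, IsLocalRing.residue R' (δ.hom c) =
      ((τ.hom c : Rt) : IsLocalRing.ResidueField R') := by
    intro c
    exact (congrArg (fun ψ => ψ.hom c) hcompat).symm
  -- the image of `δ` lies in `R`
  have hδmem : ∀ c, (R'.subtype.comp δ.hom) c ∈ R.toSubring := by
    intro c
    obtain ⟨r, hr⟩ := hσs (τ.hom c)
    have h1 : IsLocalRing.residue R' (δ.hom c - ι r) = 0 := by
      rw [map_sub, hcompat', ← hr, hσ, sub_self]
    have h2 : δ.hom c - ι r ∈ IsLocalRing.maximalIdeal R' :=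
      (IsLocalRing.residue_eq_zero_iff _).mp h1
    have h3 : ((δ.hom c - ι r : R') : K) ∈ R := by
      rcases R.mem_or_inv_mem ((δ.hom c - ι r : R') : K) with h | h
      · exact h
      · by_cases h0 : ((δ.hom c - ι r : R') : K) = 0
        · rw [h0]; exact R.zero_mem
        · exfalso
          apply h2
          refine isUnit_iff_exists_inv.mpr ⟨⟨_, hRR' h⟩, Subtype.ext ?_⟩
          exact mul_inv_cancel₀ h0
    have h4 : (R'.subtype.comp δ.hom) c = ((δ.hom c - ι r : R') : K) + (r : K) := by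
      change ((δ.hom c : R') : K) = _
      rw [← hι r]
      push_cast
      ring
    rw [h4]
    exact R.add_mem _ _ h3 r.2
  let ε : Γ(Y, V) →+* R := (R'.subtype.comp δ.hom).codRestrict R.toSubring hδmem
  have e1 : CommRingCat.ofHom ε ≫ CommRingCat.ofHom R.subtype =
      δ ≫ CommRingCat.ofHom R'.subtype := by
    ext c; rfl
  have e3 : CommRingCat.ofHom ε ≫ CommRingCat.ofHom ι = δ := by
    ext c
    change ((ι (ε c) : R') : K) = _
    rw [hι]
    rfl
  have e4 : CommRingCat.ofHom ε ≫ CommRingCat.ofHom σ = τ := by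
    ext c
    change ((σ (ε c) : Rt) : IsLocalRing.ResidueField R') = _
    rw [hσ, ← hcompat']
    congr 1
    exact congrArg (fun ψ => ψ.hom c) e3
  obtain ⟨h, hh⟩ : ∃ h : Spec (.of R) ⟶ Y, h = Spec.map (CommRingCat.ofHom ε) ≫ hV.fromSpec :=
    ⟨_, rfl⟩
  have p1 : Spec.map (CommRingCat.ofHom R.subtype) ≫ h = i := by
    rw [hh, ← Category.assoc, ← Spec.map_comp, e1, Spec.map_comp, Category.assoc, hδ, hg₁]
  have p3 : Spec.map (CommRingCat.ofHom ι) ≫ h = g := by
    rw [hh, ← Category.assoc, ← Spec.map_comp, e3, hδ]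
  have p4 : Spec.map (CommRingCat.ofHom σ) ≫ h = ht := by
    rw [hh, ← Category.assoc, ← Spec.map_comp, e4, hτ]
  have hinj : Function.Injective (algebraMap R K) := fun a b hab => Subtype.ext hab
  have p2 : h ≫ f = φ := by
    obtain ⟨W, hW, hxW⟩ : ∃ W : X.Opens, IsAffineOpen W ∧ φ (IsLocalRing.closedPoint R) ∈ W := by
      obtain ⟨_, ⟨W, hW, rfl⟩, hy', -⟩ :=
        X.isBasis_affineOpens.exists_subset_of_mem_open
          (Set.mem_univ (φ (IsLocalRing.closedPoint R))) isOpen_univ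
      exact ⟨W, hW, hy'⟩
    refine Groth.Agent.Lib.Helper17.ValDense.eq_of_generic_eq (K := K) hinj (h ≫ f) φ hW ?_ hxW ?_
    · rw [← hclσ]
      change (Spec.map (CommRingCat.ofHom σ) ≫ h ≫ f) (IsLocalRing.closedPoint Rt) ∈ W
      rw [← Category.assoc, p4, hht₂]
      change φ ((Spec.map (CommRingCat.ofHom σ)) (IsLocalRing.closedPoint Rt)) ∈ W
      rw [hclσ]
      exact hxW
    · change Spec.map (CommRingCat.ofHom R.subtype) ≫ h ≫ f =
        Spec.map (CommRingCat.ofHom R.subtype) ≫ φ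
      rw [← Category.assoc, p1, w]
  refine ⟨h, ⟨p1, p2, p3, p4⟩, ?_⟩
  rintro h' ⟨q1, -, -, q4⟩
  have hcl' : h' (IsLocalRing.closedPoint R) ∈ V := by
    rw [← hclσ]
    change (Spec.map (CommRingCat.ofHom σ) ≫ h') (IsLocalRing.closedPoint Rt) ∈ V
    rw [q4]
    exact hy₁V
  have hcl : h (IsLocalRing.closedPoint R) ∈ V := by
    rw [← hclσ]
    change (Spec.map (CommRingCat.ofHom σ) ≫ h) (IsLocalRing.closedPoint Rt) ∈ V
    rw [p4]
    exact hy₁V
  refine Groth.Agent.Lib.Helper17.ValDense.eq_of_generic_eq (K := K) hinj h' h hV hcl' hcl ?_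
  change Spec.map (CommRingCat.ofHom R.subtype) ≫ h' = Spec.map (CommRingCat.ofHom R.subtype) ≫ h
  rw [q1, p1]

end Groth.Agent.S17898
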