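import Groth.Statements.S17899
import Groth.Agent.Lib.Helper24.SemiVal

set_option autoImplicit false
universe u
open TensorProduct
open CAlg

namespace Groth.Agent.S17899

/-- Let A be a local ring with residue field K, R a valuation ring of K and O ⊆ A the preimage of R
under A → K (so O is a semi-valuation ring with semi-fraction ring A, S = Spec O is glued from U =
Spec A and T = Spec R). Let C be an O-algebra of finite type which is U-admissible (C → A ⊗_O C
injective) and such that A ⊗_O C is flat and of finite presentation over A. Then C is flat and of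
finite presentation over O. (The published assertion is more general: the base may be any
quasi-compact quasi-separated U-admissible scheme over Spec O, and the scheme over it any
quasi-compact quasi-separated admissible scheme. This row is the case of an affine scheme over Spec
O itself, the case in which the published proof carries out its argument.) -/
theorem result
    (A : Type u) [CommRing A] [IsLocalRing A] (R : ValuationSubring (IsLocalRing.ResidueField A))
    (O : Subring A) (hO : O = R.toSubring.comap (IsLocalRing.residue A))
    (C : Type u) [CommRing C] [Algebra ↥O C] [Algebra.FiniteType ↥O C]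
    (hadm : Function.Injective (Algebra.TensorProduct.includeRight : C →ₐ[↥O] A ⊗[↥O] C))
    (hflat : Module.Flat A (A ⊗[↥O] C)) (hfp : Algebra.FinitePresentation A (A ⊗[↥O] C)) :
    Module.Flat ↥O C ∧ Algebra.FinitePresentation ↥O C := by
  classical
  subst hO
  have hmemO : ∀ a : A, a ∈ R.toSubring.comap (IsLocalRing.residue A) ↔
      IsLocalRing.residue A a ∈ R := fun a => Iff.rfl
  have hinj : Function.Injective (algebraMap ↥(R.toSubring.comap (IsLocalRing.residue A)) A) :=
    Subtype.val_injective
  have hrange : ∀ a : A, a ∈ (algebraMap ↥(R.toSubring.comap (IsLocalRing.residue A)) A).range ↔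
      a ∈ R.toSubring.comap (IsLocalRing.residue A) := by
    intro a
    constructor
    · rintro ⟨x, rfl⟩; exact x.2
    · intro h; exact ⟨⟨a, h⟩, rfl⟩
  have hP : Groth.Agent.Lib.Helper24.SemiVal.Pivot
      ↥(R.toSubring.comap (IsLocalRing.residue A)) A := by
    intro ι _ b
    by_cases hι : IsEmpty ι
    · left; intro i; exact (hι.false i).elim
    rw [not_isEmpty_iff] at hι
    obtain ⟨i₀, -, hmax⟩ := Finset.exists_max_image Finset.univ
      (fun i => R.valuation (IsLocalRing.residue A (b i))) Finset.univ_nonempty
    by_cases h1 : R.valuation (IsLocalRing.residue A (b i₀)) ≤ 1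
    · left
      intro i
      rw [hrange, hmemO, ← ValuationSubring.valuation_le_one_iff]
      exact (hmax i (Finset.mem_univ _)).trans h1
    · right
      rw [not_le] at h1
      have hne : IsLocalRing.residue A (b i₀) ≠ 0 := by
        intro h
        rw [h, map_zero] at h1
        exact absurd h1 (not_lt_of_ge zero_le_one)
      have hunit : IsUnit (b i₀) := (IsLocalRing.residue_ne_zero_iff_isUnit _).mp hne
      obtain ⟨t', ht'⟩ := hunit.exists_left_inv
      have hres : IsLocalRing.residue A t' = (IsLocalRing.residue A (b i₀))⁻¹ := by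
        apply eq_inv_of_mul_eq_one_left
        rw [← map_mul, ht', map_one]
      have hpos : 0 < R.valuation (IsLocalRing.residue A (b i₀)) := lt_trans zero_lt_one h1
      have hval : ∀ i, R.valuation (IsLocalRing.residue A (t' * b i)) ≤ 1 := by
        intro i
        rw [map_mul, map_mul, hres, map_inv₀, inv_mul_le_iff₀ hpos, mul_one]
        exact hmax i (Finset.mem_univ _)
      have ht'O : t' ∈ R.toSubring.comap (IsLocalRing.residue A) := by
        rw [hmemO, ← ValuationSubring.valuation_le_one_iff]
        have := hval i₀
        rw [ht', map_one, map_one] at this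
        rw [hres, map_inv₀]
        exact inv_le_one_of_one_le₀ h1.le
      refine ⟨i₀, ⟨t', ht'O⟩, ht', fun i => ?_⟩
      rw [hrange, hmemO, ← ValuationSubring.valuation_le_one_iff]
      exact hval i
  let ρ : ↥(R.toSubring.comap (IsLocalRing.residue A)) →+* ↥R :=
    (IsLocalRing.residue A).restrict (R.toSubring.comap (IsLocalRing.residue A)) R (fun x hx => hx)
  have hρval : ∀ o, ((ρ o : ↥R) : IsLocalRing.ResidueField A) = IsLocalRing.residue A o :=
    fun o => rfl
  have hρ : Function.Surjective ρ := by
    intro r
    obtain ⟨a, ha⟩ := IsLocalRing.residue_surjective (R := A) (r : IsLocalRing.ResidueField A)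
    have haO : a ∈ R.toSubring.comap (IsLocalRing.residue A) := by
      rw [hmemO, ha]; exact r.2
    exact ⟨⟨a, haO⟩, Subtype.ext ha⟩
  have hρ0 : ∀ o, ρ o = 0 ↔ IsLocalRing.residue A o = 0 := by
    intro o
    rw [← hρval, Subtype.ext_iff]
    rfl
  have hρU : ∀ o : ↥(R.toSubring.comap (IsLocalRing.residue A)), ρ o ≠ 0 →
      IsUnit (algebraMap ↥(R.toSubring.comap (IsLocalRing.residue A)) A o) := by
    intro o ho
    rw [Ne, hρ0] at ho
    exact (IsLocalRing.residue_ne_zero_iff_isUnit _).mp ho
  have hdiv : ∀ o m : ↥(R.toSubring.comap (IsLocalRing.residue A)),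
      IsUnit (algebraMap ↥(R.toSubring.comap (IsLocalRing.residue A)) A o) → ρ m = 0 →
      ∃ m', ρ m' = 0 ∧ m = o * m' := by
    intro o m ho hm
    rw [hρ0] at hm
    obtain ⟨t', ht'⟩ := ho.exists_left_inv
    have ht'' : t' * (o : A) = 1 := ht'
    have hres : IsLocalRing.residue A (t' * (m : A)) = 0 := by rw [map_mul, hm, mul_zero]
    have hmem : t' * (m : A) ∈ R.toSubring.comap (IsLocalRing.residue A) := by
      rw [hmemO, hres]; exact zero_mem _
    refine ⟨⟨t' * (m : A), hmem⟩, (hρ0 _).mpr hres, Subtype.ext ?_⟩
    show (m : A) = (o : A) * (t' * (m : A))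
    rw [← mul_assoc, mul_comm (o : A), ht'', one_mul]
  have hMinj : Function.Injective
      (fun c : C => (1 : A) ⊗ₜ[↥(R.toSubring.comap (IsLocalRing.residue A))] c) := hadm
  haveI := hflat
  haveI := hfp
  haveI hflatC : Module.Flat ↥(R.toSubring.comap (IsLocalRing.residue A)) C :=
    Groth.Agent.Lib.Helper24.SemiVal.flat_of_pivot hinj hP C hMinj
  exact ⟨hflatC, Groth.Agent.Lib.Helper24.SemiVal.finitePresentation_of_pivot ρ hρ hinj hP hρU hdiv C
    hMinj⟩

end Groth.Agent.S17899
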