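import Groth.Statements.S17901
import Groth.Agent.Lib.Helper26.FlatKerSq

set_option autoImplicit false
universe u
open TensorProduct
open Pinch

namespace Groth.Agent.S17901

open Groth.Agent.Lib.Helper26.FlatKer Groth.Agent.Lib.Helper26.FlatKer.FibreSq

lemma map_eq_lTensor {R R' X Y : Type*} [CommRing R] [CommRing R'] [Algebra R R'] [CommRing X]
    [CommRing Y] [Algebra R X] [Algebra R Y] (h : X →ₐ[R] Y) (z : R' ⊗[R] X) :
    Algebra.TensorProduct.map (AlgHom.id R R') h z = h.toLinearMap.lTensor R' z := by
  induction z using TensorProduct.induction_on with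
  | zero => simp
  | tmul a b => simp
  | add a b ha hb => rw [map_add, map_add, ha, hb]

/-- Let R be a commutative ring and let B' → B → A, B' → A' → A be a fibre square of R-algebras (B' = B
×_A A') with A' → A surjective, where B, A' and A are flat over R. Then for every commutative
R-algebra R' the square obtained by applying R' ⊗_R − is again a fibre square: R' ⊗_R A' → R' ⊗_R A
is surjective and every pair of elements of R' ⊗_R B and R' ⊗_R A' with the same image in R' ⊗_R A
is the image of a unique element of R' ⊗_R B'. (The published lemma concludes that the base-changed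
square of spectra is co-cartesian in ringed spaces; this row states the ring form, surjective edge
and fibre product, which its proof establishes before translating it to ringed spaces.) -/
theorem result (R B' B A' A : Type u) [CommRing R] [CommRing B'] [CommRing B] [CommRing A'] [CommRing A]
    [Algebra B' B] [Algebra B' A'] [Algebra B A] [Algebra A' A] [Algebra B' A]
    [IsScalarTower B' B A] [IsScalarTower B' A' A]
    [Algebra R B'] [Algebra R B] [Algebra R A'] [Algebra R A]
    [IsScalarTower R B' B] [IsScalarTower R B' A'] [IsScalarTower R B' A] [IsScalarTower R B A] [IsScalarTower R A' A]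
    (hsq : EtMil.IsFibreSquare B' B A' A)
    [Module.Flat R B] [Module.Flat R A'] [Module.Flat R A]
    (R' : Type u) [CommRing R'] [Algebra R R'] :
    Function.Surjective (Algebra.TensorProduct.map (AlgHom.id R R') (IsScalarTower.toAlgHom R A' A)) ∧
    ∀ (x : R' ⊗[R] B) (y : R' ⊗[R] A'),
      Algebra.TensorProduct.map (AlgHom.id R R') (IsScalarTower.toAlgHom R B A) x =
        Algebra.TensorProduct.map (AlgHom.id R R') (IsScalarTower.toAlgHom R A' A) y →
      ∃! z : R' ⊗[R] B',
        Algebra.TensorProduct.map (AlgHom.id R R') (IsScalarTower.toAlgHom R B' B) z = x ∧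
        Algebra.TensorProduct.map (AlgHom.id R R') (IsScalarTower.toAlgHom R B' A') z = y := by
  classical
  set g := gMap R B' B A' with hgdef
  set f := fMap R B A' A with hfdef
  have hg := gMap_injective R hsq
  have hf := fMap_surjective R hsq
  have H := FibreSq.exact R hsq
  have hinj : Function.Injective (g.lTensor R') :=
    LinearMap.lTensor_injective_of_exact_of_flat f hf g hg H R'
  have hex : Function.Exact (g.lTensor R') (f.lTensor R') := lTensor_exact R' H hf
  -- the four maps
  set φB := (IsScalarTower.toAlgHom R B' B).toLinearMap with hφB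
  set φA' := (IsScalarTower.toAlgHom R B' A').toLinearMap with hφA'
  set α := (IsScalarTower.toAlgHom R B A).toLinearMap with hα
  set β := (IsScalarTower.toAlgHom R A' A).toLinearMap with hβ
  have h1 : LinearMap.fst R B A' ∘ₗ g = φB := by ext x; simp [hgdef, hφB]
  have h2 : LinearMap.snd R B A' ∘ₗ g = φA' := by ext x; simp [hgdef, hφA']
  have h3 : f ∘ₗ LinearMap.inl R B A' = α := by ext x; simp [hfdef, hα]
  have h4 : f ∘ₗ LinearMap.inr R B A' = -β := by ext x; simp [hfdef, hβ]
  have h5 : LinearMap.inl R B A' ∘ₗ LinearMap.fst R B A' +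
      LinearMap.inr R B A' ∘ₗ LinearMap.snd R B A' = LinearMap.id := by
    ext x <;> simp
  have h6 : LinearMap.fst R B A' ∘ₗ LinearMap.inl R B A' = LinearMap.id := by ext x; simp
  have h7 : LinearMap.fst R B A' ∘ₗ LinearMap.inr R B A' = 0 := by ext x; simp
  have h8 : LinearMap.snd R B A' ∘ₗ LinearMap.inl R B A' = 0 := by ext x; simp
  have h9 : LinearMap.snd R B A' ∘ₗ LinearMap.inr R B A' = LinearMap.id := by ext x; simp
  refine ⟨?_, ?_⟩
  · intro z
    have hβs : Function.Surjective β := hsq.1
    obtain ⟨w, hw⟩ := LinearMap.lTensor_surjective R' hβs z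
    exact ⟨w, by rw [map_eq_lTensor]; exact hw⟩
  · intro x y hxy
    rw [map_eq_lTensor, map_eq_lTensor] at hxy
    change α.lTensor R' x = β.lTensor R' y at hxy
    set w := (LinearMap.inl R B A').lTensor R' x + (LinearMap.inr R B A').lTensor R' y with hw
    have hfw : f.lTensor R' w = 0 := by
      rw [hw, map_add, ← LinearMap.lTensor_comp_apply, ← LinearMap.lTensor_comp_apply, h3, h4,
        LinearMap.lTensor_neg, LinearMap.neg_apply, hxy, add_neg_cancel]
    obtain ⟨z, hz⟩ := (hex w).mp hfw
    have hfst : (LinearMap.fst R B A').lTensor R' w = x := by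
      rw [hw, map_add, ← LinearMap.lTensor_comp_apply, ← LinearMap.lTensor_comp_apply, h6, h7,
        LinearMap.lTensor_id, LinearMap.lTensor_zero]
      simp
    have hsnd : (LinearMap.snd R B A').lTensor R' w = y := by
      rw [hw, map_add, ← LinearMap.lTensor_comp_apply, ← LinearMap.lTensor_comp_apply, h8, h9,
        LinearMap.lTensor_id, LinearMap.lTensor_zero]
      simp
    refine ⟨z, ⟨?_, ?_⟩, ?_⟩
    · rw [map_eq_lTensor]
      change φB.lTensor R' z = x
      rw [← h1, LinearMap.lTensor_comp_apply, hz, hfst]
    · rw [map_eq_lTensor]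
      change φA'.lTensor R' z = y
      rw [← h2, LinearMap.lTensor_comp_apply, hz, hsnd]
    · rintro z' ⟨hz1, hz2⟩
      rw [map_eq_lTensor] at hz1 hz2
      change φB.lTensor R' z' = x at hz1
      change φA'.lTensor R' z' = y at hz2
      apply hinj
      rw [hz]
      have : g.lTensor R' z' = (LinearMap.id : B × A' →ₗ[R] B × A').lTensor R' (g.lTensor R' z') := by
        rw [LinearMap.lTensor_id]; rfl
      rw [this, ← h5, LinearMap.lTensor_add, LinearMap.add_apply, LinearMap.lTensor_comp_apply,
        LinearMap.lTensor_comp_apply, ← LinearMap.lTensor_comp_apply _ _ g,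
        ← LinearMap.lTensor_comp_apply _ _ g, h1, h2, hz1, hz2]

end Groth.Agent.S17901
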