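import Groth.Statements.S17933
import Groth.Agent.Lib.Helper26.MultCrvBasic

set_option autoImplicit false
universe u
open MultCrv

namespace Groth.Agent.S17933

/-- Let R be a discrete valuation ring, n ≥ 1, A = R[X]/(X^n) with z the class of X, and M a finitely
generated A-module. Then M is torsion-free as an R-module if and only if the submodule M^(1) of
elements killed by z is a free R-module. (This is the statement at a closed point of the sheaf
statement: for a primitive multiple curve of multiplicity n the local ring at a closed point is of
the form R[X]/(X^n) with R the local ring of the reduced smooth curve, torsion-freeness is the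
absence of sections with finite support, and local freeness on the reduced curve is freeness of the
stalk; the row is stated for every discrete valuation ring R.) -/
theorem result (R : Type u) [CommRing R] [IsDomain R] [IsDiscreteValuationRing R] (n : ℕ) (hn : 1 ≤ n) (M : Type u) [AddCommGroup M] [Module (MultCrv.Rn R n) M] [Module R M] [IsScalarTower R (MultCrv.Rn R n) M] [Module.Finite (MultCrv.Rn R n) M] : Module.IsTorsionFree R M ↔ Module.Free R ↥(MultCrv.filt2 R n M 1) := by
  classical
  haveI hfinN : Module.Finite R ↥(MultCrv.filt2 R n M 1) :=
    Groth.Agent.Lib.Helper26.MultCrvBasic.finite_submodule _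
  constructor
  · intro hM
    haveI : Module.IsTorsionFree R ↥(MultCrv.filt2 R n M 1) :=
      Function.Injective.moduleIsTorsionFree
        (fun x : ↥(MultCrv.filt2 R n M 1) => (x : M)) Subtype.val_injective (fun r m => rfl)
    exact Module.free_iff_isTorsionFree.mpr inferInstance
  · intro hfree
    haveI : Module.IsTorsionFree R ↥(MultCrv.filt2 R n M 1) :=
      Module.free_iff_isTorsionFree.mp hfree
    rw [Module.isTorsionFree_iff_smul_eq_zero]
    intro r m hrm
    by_contra hcon
    push Not at hcon
    obtain ⟨hr, hm⟩ := hcon
    -- minimal k with z^k • m = 0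
    have hex : ∃ k : ℕ, MultCrv.z R n ^ k • m = 0 :=
      ⟨n, by rw [Groth.Agent.Lib.Helper26.MultCrvBasic.z_pow_n]; exact zero_smul (MultCrv.Rn R n) m⟩
    set k := Nat.find hex with hk
    have hk0 : MultCrv.z R n ^ k • m = 0 := Nat.find_spec hex
    have hkpos : k ≠ 0 := by
      intro h0
      rw [h0, pow_zero, one_smul] at hk0
      exact hm hk0
    obtain ⟨j, hj⟩ := Nat.exists_eq_succ_of_ne_zero hkpos
    have hjm : MultCrv.z R n ^ j • m ≠ 0 := by
      intro h
      have := Nat.find_min' hex h
      omega
    -- m' = z^j • m lies in filt2 1
    have hmem : MultCrv.z R n ^ j • m ∈ MultCrv.filt2 R n M 1 := by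
      change MultCrv.z R n ^ 1 • (MultCrv.z R n ^ j • m) = 0
      rw [smul_smul, ← pow_add, add_comm, ← Nat.succ_eq_add_one, ← hj]
      exact hk0
    have hr' : r • (⟨MultCrv.z R n ^ j • m, hmem⟩ : ↥(MultCrv.filt2 R n M 1)) = 0 := by
      apply Subtype.ext
      change r • (MultCrv.z R n ^ j • m) = 0
      rw [smul_comm, hrm, smul_zero]
    rcases (Module.isTorsionFree_iff_smul_eq_zero.mp inferInstance) r _ hr' with h | h
    · exact hr h
    · exact hjm (congrArg Subtype.val h)

end Groth.Agent.S17933
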