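import Groth.Statements.S17942
import Mathlib
import Groth.Agent.Lib.Helper25.MultCrvExt

set_option autoImplicit false
universe u
open MultCrv

namespace Groth.Agent.S17942

open CategoryTheory in
/-- Let R be a discrete valuation ring, n ≥ 1, A = R[X]/(X^n), and M a finitely generated A-module. Then
Ext^i_A(M, A) = 0 for every i ≥ 2. (Statement at a closed point of the sheaf statement on a
primitive multiple curve of multiplicity n, whose local rings are of the form R[X]/(X^n) with R the
local ring of the reduced smooth curve; stated for every discrete valuation ring R.) -/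
theorem result (R : Type u) [CommRing R] [IsDomain R] [IsDiscreteValuationRing R] (n : ℕ) (hn : 1 ≤ n) (M : Type u) [AddCommGroup M] [Module (MultCrv.Rn R n) M] [Module.Finite (MultCrv.Rn R n) M] (i : ℕ) (hi : 2 ≤ i) : Subsingleton (Abelian.Ext (ModuleCat.of (MultCrv.Rn R n) M) (ModuleCat.of (MultCrv.Rn R n) (MultCrv.Rn R n)) i) := by
  obtain ⟨j, rfl⟩ : ∃ j, i = j + 1 + 1 := ⟨i - 2, by omega⟩
  refine subsingleton_of_forall_eq 0 (fun x => ?_)
  obtain ⟨x₁, hx₁⟩ := Groth.Agent.Lib.Helper25.MultCrvExt.ext_shift R n M _ j x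
  rw [← hx₁, Groth.Agent.Lib.Helper25.MultCrvExt.ext_self_eq_zero R n hn j
    (Groth.Agent.Lib.Helper25.MultCrvExt.presKer R n M) x₁, CategoryTheory.Abelian.Ext.comp_zero]

end Groth.Agent.S17942
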