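import Groth.Statements.S17943
import Mathlib

set_option autoImplicit false
universe u
open MultCrv

namespace Groth.Agent.S17943


section aux
variable {R : Type u} [CommRing R] [IsDomain R] [IsNoetherianRing R]
  {A : Type u} [CommRing A] [Algebra R A]
  {M : Type u} [AddCommGroup M] [Module A M] [Module R M] [IsScalarTower R A M] [Module.Finite R M]

theorem finite_sub (N : Submodule A M) : Module.Finite R ↥N := by
  have h1 : Module.Finite R ↥(N.restrictScalars R) := inferInstance
  exact Module.Finite.equiv ((Submodule.restrictScalarsEquiv R A M N).restrictScalars R)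

theorem quot_add (N : Submodule A M) :
    Module.finrank R (M ⧸ N) + Module.finrank R ↥N = Module.finrank R M :=
  (N.restrictScalars R).finrank_quotient_add_finrank

theorem range_add_ker (f : M →ₗ[A] M) :
    Module.finrank R ↥(LinearMap.range f) + Module.finrank R ↥(LinearMap.ker f) =
      Module.finrank R M := by
  rw [← quot_add (R := R) (LinearMap.ker f)]
  congr 1
  exact ((f.quotKerEquivRange).restrictScalars R).finrank_eq.symm

theorem comap_eq {P Q : Submodule A M} (h : P ≤ Q) :
    Module.finrank R ↥(Submodule.comap Q.subtype P) = Module.finrank R ↥P :=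
  ((Submodule.comapSubtypeEquivOfLe h).restrictScalars R).finrank_eq

end aux

/-- Let R be a discrete valuation ring, n ≥ 1, A = R[X]/(X^n) with z the class of X, and M a finitely
generated A-module. For 0 ≤ i < n the R-modules G^(i+1)(M) = M^(i+1)/M^(i) (M^(j) the elements
killed by z^j) and G_i(M) = z^i M/z^(i+1) M have the same rank over R. (Statement at a closed point
of the sheaf statement on a primitive multiple curve of multiplicity n with local rings R[X]/(X^n),
where the rank of a coherent sheaf on the reduced smooth curve is its generic rank, here the rank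
over R of the stalk; the equality of degrees that the published statement gives together with this
rank equality is a statement on the global curve and is not part of this row; stated for every
discrete valuation ring R.) -/
theorem result (R : Type u) [CommRing R] [IsDomain R] [IsDiscreteValuationRing R] (n : ℕ) (hn : 1 ≤ n) (M : Type u) [AddCommGroup M] [Module (MultCrv.Rn R n) M] [Module R M] [IsScalarTower R (MultCrv.Rn R n) M] [Module.Finite (MultCrv.Rn R n) M] (i : ℕ) (hi : i < n) : Module.finrank R (MultCrv.G2 R n M (i + 1)) = Module.finrank R (MultCrv.G1 R n M i) := by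
  classical
  have hfinA : Module.Finite R (MultCrv.Rn R n) := (Polynomial.monic_X_pow n).finite_adjoinRoot
  have hfinM : Module.Finite R M := Module.Finite.trans (MultCrv.Rn R n) M
  -- the multiplication maps
  have hker : ∀ j : ℕ, LinearMap.ker ((MultCrv.z R n ^ j) • (LinearMap.id : M →ₗ[MultCrv.Rn R n] M)) =
      MultCrv.filt2 R n M j := by
    intro j
    ext x
    simp [MultCrv.filt2, Submodule.mem_torsionBy_iff]
  have hrk : ∀ j : ℕ, Module.finrank R ↥(MultCrv.filt R n M j) +
      Module.finrank R ↥(MultCrv.filt2 R n M j) = Module.finrank R M := by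
    intro j
    have := range_add_ker (R := R) ((MultCrv.z R n ^ j) • (LinearMap.id : M →ₗ[MultCrv.Rn R n] M))
    rw [hker j] at this
    exact this
  have hle2 : MultCrv.filt2 R n M i ≤ MultCrv.filt2 R n M (i + 1) := by
    intro x hx
    simp only [MultCrv.filt2, Submodule.mem_torsionBy_iff] at hx ⊢
    rw [pow_succ', mul_smul, hx, smul_zero]
  have hle1 : MultCrv.filt R n M (i + 1) ≤ MultCrv.filt R n M i := by
    rintro x ⟨y, rfl⟩
    refine ⟨MultCrv.z R n • y, ?_⟩
    simp only [LinearMap.smul_apply, LinearMap.id_coe, id_eq]
    rw [smul_smul, ← pow_succ]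
  have : Module.Finite R ↥(MultCrv.filt2 R n M (i + 1)) := finite_sub _
  have : Module.Finite R ↥(MultCrv.filt R n M i) := finite_sub _
  have e1 : Module.finrank R (MultCrv.G2 R n M (i + 1)) +
      Module.finrank R ↥(Submodule.comap (MultCrv.filt2 R n M (i + 1)).subtype (MultCrv.filt2 R n M i))
      = Module.finrank R ↥(MultCrv.filt2 R n M (i + 1)) :=
    quot_add (R := R) (Submodule.comap (MultCrv.filt2 R n M (i + 1)).subtype (MultCrv.filt2 R n M i))
  have e2 : Module.finrank R (MultCrv.G1 R n M i) +
      Module.finrank R ↥(Submodule.comap (MultCrv.filt R n M i).subtype (MultCrv.filt R n M (i + 1)))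
      = Module.finrank R ↥(MultCrv.filt R n M i) :=
    quot_add (R := R) (Submodule.comap (MultCrv.filt R n M i).subtype (MultCrv.filt R n M (i + 1)))
  rw [comap_eq (R := R) hle2] at e1
  rw [comap_eq (R := R) hle1] at e2
  have h3 := hrk i
  have h4 := hrk (i + 1)
  omega

end Groth.Agent.S17943
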