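import Groth.Statements.S17962
import Mathlib

set_option autoImplicit false
open CategoryTheory CategoryTheory.Limits AlgebraicGeometry
universe u
open Hensel

namespace Groth.Agent.S17962

/-- Let i : X₀ ⟶ X be a closed immersion such that (X, X₀) is a henselian couple, i.e. for every finite
morphism g : Y ⟶ X every open-closed subset of Y ×_X X₀ is the inverse image under the first
projection of exactly one open-closed subset of Y. Then for every finite morphism h : Y ⟶ X the
couple (Y, Y ×_X X₀), with the first projection as closed immersion, is again henselian. -/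
theorem result {X X₀ : Scheme.{u}}
    (i : X₀ ⟶ X) [IsClosedImmersion i]
    (hX : ∀ (Y : Scheme.{u}) (g : Y ⟶ X), IsFinite g →
      ∀ V : Set ↥(pullback g (i)), IsClopen V →
        ∃! U : Set ↥Y, IsClopen U ∧ (pullback.fst g (i)).base ⁻¹' U = V)
    {Y : Scheme.{u}} (h : Y ⟶ X) [IsFinite h] :
    ∀ (Z : Scheme.{u}) (g : Z ⟶ Y), IsFinite g →
      ∀ V : Set ↥(pullback g (pullback.fst h i)), IsClopen V →
        ∃! U : Set ↥Z, IsClopen U ∧ (pullback.fst g (pullback.fst h i)).base ⁻¹' U = V := by
  intro Z g hg V hV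
  let φ := pullbackRightPullbackFstIso h i g
  let e : ↥(pullback g (pullback.fst h i)) ≃ₜ ↥(pullback (g ≫ h) i) := Scheme.homeoOfIso φ
  have hfin : IsFinite (g ≫ h) := inferInstance
  have hcomm : ∀ x, (pullback.fst (g ≫ h) i).base (e x) =
      (pullback.fst g (pullback.fst h i)).base x := by
    intro x
    have h1 : φ.hom ≫ pullback.fst (g ≫ h) i = pullback.fst g (pullback.fst h i) :=
      pullbackRightPullbackFstIso_hom_fst h i g
    have h2 := congrArg (fun f => f.base x) h1
    simpa [e, Scheme.homeoOfIso_apply] using h2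
  obtain ⟨U, ⟨hU1, hU2⟩, huniq⟩ := hX Z (g ≫ h) hfin (e '' V) ⟨e.isClosed_image.mpr hV.1, e.isOpen_image.mpr hV.2⟩
  refine ⟨U, ⟨hU1, ?_⟩, ?_⟩
  · ext x
    rw [Set.mem_preimage, ← hcomm x, ← Set.mem_preimage, hU2]
    exact e.injective.mem_set_image
  · rintro U' ⟨hU'1, hU'2⟩
    apply huniq
    refine ⟨hU'1, ?_⟩
    ext y
    obtain ⟨x, rfl⟩ := e.surjective y
    rw [Set.mem_preimage, hcomm x, ← Set.mem_preimage, hU'2]
    exact e.injective.mem_set_image.symm

end Groth.Agent.S17962
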