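import Groth.Statements.S17969
import Mathlib.RingTheory.Adjoin.PowerBasis
import Mathlib.LinearAlgebra.Matrix.Charpoly.Minpoly
import Mathlib.RingTheory.Polynomial.GaussLemma
import Mathlib.RingTheory.IsTensorProduct
import Mathlib.RingTheory.Localization.BaseChange
import Mathlib.LinearAlgebra.Charpoly.ToMatrix

set_option autoImplicit false
universe u
open scoped TensorProduct
open CAlg

namespace Groth.Agent.S17969

section aux
variable {R S : Type u} [CommRing R] [IsDomain R] [CommRing S] [Algebra R S]

instance locMod : IsLocalizedModule (nonZeroDivisors R) (TensorProduct.mk R (FractionRing R) S 1) :=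
  (isLocalizedModule_iff_isBaseChange (nonZeroDivisors R) (FractionRing R) _).mpr
    (TensorProduct.isBaseChange R S (FractionRing R))

lemma phi_eq_zero {s : S} (h : (1 : FractionRing R) ⊗ₜ[R] s = 0) :
    ∃ r : R, r ≠ 0 ∧ r • s = 0 := by
  have := (IsLocalizedModule.eq_zero_iff (nonZeroDivisors R)
    (TensorProduct.mk R (FractionRing R) S 1) (m := s)).1 h
  obtain ⟨r, hr⟩ := this
  exact ⟨r, nonZeroDivisors.ne_zero r.2, hr⟩

end aux

/-- Let A be an integrally closed domain with fraction field K and B a commutative A-algebra which is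
finite and torsion-free as an A-module and generated as an A-algebra by a single element x. Let P be
the characteristic polynomial of multiplication by 1 ⊗ x on the finite free K-module K ⊗_A B. Then P
has coefficients in A, namely P is the image of a monic polynomial over A, and the kernel of the
A-algebra map A[T] → B sending T to x is generated by that polynomial, so that B is A[T]/(P). -/
theorem result
    (A : Type u) [CommRing A] [IsDomain A] [IsIntegrallyClosed A]
    (B : Type u) [CommRing B] [Algebra A B] [Module.Finite A B] [NoZeroSMulDivisors A B]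
    (x : B) (hx : Algebra.adjoin A {x} = ⊤) :
    ∃ P : Polynomial A, P.Monic ∧
      Polynomial.map (algebraMap A (FractionRing A)) P =
        (LinearMap.mulLeft (FractionRing A) ((1 : FractionRing A) ⊗ₜ[A] x)).charpoly ∧
      RingHom.ker (Polynomial.aeval x).toRingHom = Ideal.span {P} := by
  classical
  set K := FractionRing A
  set L := K ⊗[A] B
  set ξ : L := (1 : K) ⊗ₜ[A] x with hξ
  let φ : B →ₐ[A] L := Algebra.TensorProduct.includeRight
  have hφ : ∀ b, φ b = (1 : K) ⊗ₜ[A] b := fun _ => rfl
  have hφinj : Function.Injective φ := by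
    rw [injective_iff_map_eq_zero]
    intro b hb
    obtain ⟨r, hr0, hr⟩ := phi_eq_zero ((hφ b).symm.trans hb)
    exact (smul_eq_zero.1 hr).resolve_left hr0
  -- ξ generates L over K
  have haeval : ∀ Q : Polynomial A,
      Polynomial.aeval ξ (Q.map (algebraMap A K)) = φ (Polynomial.aeval x Q) := by
    intro Q
    rw [Polynomial.aeval_map_algebraMap, ← Polynomial.aeval_algHom_apply]
    rfl
  have hgen : Algebra.adjoin K {ξ} = ⊤ := by
    rw [eq_top_iff]
    intro t _
    clear * - hx haeval hφ
    induction t using TensorProduct.induction_on with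
    | zero => exact zero_mem _
    | add a b ha hb => exact add_mem ha hb
    | tmul c b =>
      have hb : b ∈ Algebra.adjoin A {x} := by rw [hx]; trivial
      rw [Algebra.adjoin_singleton_eq_range_aeval] at hb
      obtain ⟨Q, rfl⟩ := hb
      have h1 : c ⊗ₜ[A] (Polynomial.aeval x Q) = c • φ (Polynomial.aeval x Q) := by
        rw [hφ, TensorProduct.smul_tmul', smul_eq_mul, mul_one]
      change c ⊗ₜ[A] (Polynomial.aeval x Q) ∈ _
      rw [h1, ← haeval]
      exact Subalgebra.smul_mem _ (Polynomial.aeval_mem_adjoin_singleton _ _) _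
  have hxint : IsIntegral A x := Algebra.IsIntegral.isIntegral x
  have hξint : IsIntegral K ξ := Algebra.IsIntegral.isIntegral ξ
  -- charpoly = minpoly
  have hchar : (LinearMap.mulLeft K ξ).charpoly = minpoly K ξ := by
    have h1 := charpoly_leftMulMatrix (PowerBasis.ofAdjoinEqTop hξint hgen)
    rw [PowerBasis.ofAdjoinEqTop_gen, Algebra.leftMulMatrix_apply, LinearMap.charpoly_toMatrix] at h1
    exact h1
  -- minpoly has coefficients in A
  obtain ⟨f, hfm, hf⟩ := hxint
  have hdvd : minpoly K ξ ∣ f.map (algebraMap A K) := by
    apply minpoly.dvd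
    rw [haeval, Polynomial.aeval_def, hf, map_zero]
  obtain ⟨P, hP⟩ := IsIntegrallyClosed.eq_map_mul_C_of_dvd K hfm hdvd
  rw [(minpoly.monic hξint).leadingCoeff, Polynomial.C_1, mul_one] at hP
  have hinjK : Function.Injective (algebraMap A K) := IsFractionRing.injective A K
  have hPm : P.Monic := by
    have := minpoly.monic hξint
    rw [← hP] at this
    exact Polynomial.monic_of_injective hinjK this
  refine ⟨P, hPm, by rw [hP, hchar], ?_⟩
  ext Q
  rw [RingHom.mem_ker, Ideal.mem_span_singleton]
  change Polynomial.aeval x Q = 0 ↔ _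
  rw [← Polynomial.map_dvd_map _ hinjK hPm, hP, minpoly.dvd_iff, haeval,
    map_eq_zero_iff _ hφinj]

end Groth.Agent.S17969
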