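import Groth.Statements.S17970
import Mathlib

set_option autoImplicit false
universe u
open Hensel

namespace Groth.Agent.S17970

theorem lift_of_equiv {B : Type*} [CommRing B] (J : Ideal B) {ι : Type*} [Fintype ι]
    (C : ι → Type*) [∀ j, CommRing (C j)] [∀ j, IsLocalRing (C j)] (φ : B ≃+* (Π j, C j))
    (b : B) (hb : b * b - b ∈ J) : ∃ e : B, IsIdempotentElem e ∧ b - e ∈ J := by
  classical
  let ψ : ∀ j, B →+* C j := fun j => (Pi.evalRingHom C j).comp (φ : B →+* (Π j, C j))
  have hψ : ∀ j, Function.Surjective (ψ j) := fun j c => ⟨φ.symm (Pi.single j c), by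
    show (φ (φ.symm (Pi.single j c))) j = c
    rw [RingEquiv.apply_symm_apply, Pi.single_eq_same]⟩
  let K : ∀ j, Ideal (C j) := fun j => Ideal.map (ψ j) J
  have hK : ∀ j, ψ j b * ψ j b - ψ j b ∈ K j := fun j => by
    have := Ideal.mem_map_of_mem (ψ j) hb
    rwa [map_sub, map_mul] at this
  let ε : Π j, C j := fun j => if ψ j b - 1 ∈ K j then 1 else 0
  have hε : ∀ j, ψ j b - ε j ∈ K j := by
    intro j
    by_cases h : ψ j b - 1 ∈ K j
    · have h1 : ε j = 1 := if_pos h
      rw [h1]; exact h
    · have h0 : ε j = 0 := if_neg h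
      rw [h0, sub_zero]
      have hnu : ψ j b ∈ nonunits (C j) := by
        rw [mem_nonunits_iff]
        intro hu
        obtain ⟨v, hv⟩ := hu.exists_left_inv
        apply h
        have h2 : ψ j b - 1 = v * (ψ j b * ψ j b - ψ j b) := by
          rw [mul_sub, ← mul_assoc, hv, one_mul]
        rw [h2]
        exact Ideal.mul_mem_left _ _ (hK j)
      have hu := IsLocalRing.isUnit_one_sub_self_of_mem_nonunits _ hnu
      obtain ⟨w, hw⟩ := hu.exists_left_inv
      have h3 : ψ j b = -w * (ψ j b * ψ j b - ψ j b) := by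
        have h4 : -w * (ψ j b * ψ j b - ψ j b) = w * (1 - ψ j b) * ψ j b := by ring
        rw [h4, hw, one_mul]
      rw [h3]
      exact Ideal.mul_mem_left _ _ (hK j)
  have hεi : IsIdempotentElem ε := by
    funext j
    show ε j * ε j = ε j
    by_cases h : ψ j b - 1 ∈ K j
    · have h1 : ε j = 1 := if_pos h
      rw [h1, one_mul]
    · have h0 : ε j = 0 := if_neg h
      rw [h0, zero_mul]
  refine ⟨φ.symm ε, ?_, ?_⟩
  · show φ.symm ε * φ.symm ε = φ.symm ε
    rw [← map_mul, hεi.eq]
  · choose k hkJ hk using fun j => (Ideal.mem_map_iff_of_surjective (ψ j) (hψ j)).1 (hε j)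
    have key : b - φ.symm ε = ∑ j, φ.symm (Pi.single j 1) * k j := by
      apply φ.injective
      rw [map_sub, RingEquiv.apply_symm_apply, map_sum]
      funext i
      rw [Finset.sum_apply, Pi.sub_apply]
      simp only [map_mul, RingEquiv.apply_symm_apply, Pi.mul_apply]
      rw [Finset.sum_eq_single i]
      · rw [Pi.single_eq_same, one_mul]
        exact (hk i).symm
      · intro j _ hji
        rw [Pi.single_eq_of_ne hji.symm, zero_mul]
      · intro h; exact absurd (Finset.mem_univ i) h
    rw [key]
    exact Ideal.sum_mem _ (fun j _ => Ideal.mul_mem_left _ _ (hkJ j))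

theorem map_le_jacobson (A : Type*) [CommRing A] [IsLocalRing A] (B : Type*) [CommRing B]
    [Algebra A B] [Module.Finite A B] :
    (IsLocalRing.maximalIdeal A).map (algebraMap A B) ≤ Ideal.jacobson ⊥ := by
  haveI : Algebra.IsIntegral A B := Algebra.IsIntegral.of_finite A B
  show _ ≤ sInf {J : Ideal B | ⊥ ≤ J ∧ J.IsMaximal}
  refine le_sInf ?_
  rintro n ⟨-, hn⟩
  haveI := hn
  rw [Ideal.map_le_iff_le_comap]
  have hmax : (n.comap (algebraMap A B)).IsMaximal :=
    Ideal.isMaximal_comap_of_isIntegral_of_isMaximal n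
  rw [IsLocalRing.eq_maximalIdeal hmax]

theorem eq_zero_of_idem_of_mem_jacobson {B : Type*} [CommRing B] {e : B}
    (he : IsIdempotentElem e) (hj : e ∈ Ideal.jacobson (⊥ : Ideal B)) : e = 0 := by
  have hu : IsUnit (1 - e) := by
    have h1 : -e ∈ Ideal.jacobson (⊥ : Ideal B) := (Ideal.neg_mem_iff _).2 hj
    have h2 := (Ideal.mem_jacobson_bot.1 h1) 1
    rwa [mul_one, neg_add_eq_sub] at h2
  have h0 : e * (1 - e) = 0 := by rw [mul_sub, mul_one, he.eq, sub_self]
  exact (hu.mul_left_eq_zero).1 h0

theorem exists_equiv_of_artinian {B : Type u} [CommRing B] (J : Ideal B)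
    (hJ : J ≤ Ideal.jacobson ⊥) [IsArtinianRing (B ⧸ J)]
    (hs : ∀ ē : B ⧸ J, IsIdempotentElem ē →
      ∃ e : B, IsIdempotentElem e ∧ Ideal.Quotient.mk J e = ē) :
    ∃ (ι : Type u) (_ : Fintype ι) (C : ι → Type u) (_ : ∀ j, CommRing (C j)),
      (∀ j, IsLocalRing (C j)) ∧ Nonempty (B ≃+* (∀ j, C j)) := by
  classical
  let θ : (B ⧸ J) ≃+* MaximalSpectrum.PiLocalization (B ⧸ J) :=
    (MaximalSpectrum.toPiLocalizationEquiv (B ⧸ J)).toRingEquiv
  haveI : Finite (MaximalSpectrum (B ⧸ J)) :=
    MaximalSpectrum.finite_of_toPiLocalization_surjective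
      (PrimeSpectrum.maximalSpectrumToPiLocalization_surjective_of_discreteTopology (B ⧸ J))
  letI : Fintype (MaximalSpectrum (B ⧸ J)) := Fintype.ofFinite _
  let ebar : MaximalSpectrum (B ⧸ J) → B ⧸ J := fun n => θ.symm (Pi.single n 1)
  have hθe : ∀ n, θ (ebar n) = Pi.single n 1 := fun n => θ.apply_symm_apply _
  have hebar : CompleteOrthogonalIdempotents ebar :=
    (CompleteOrthogonalIdempotents.single
      (fun n : MaximalSpectrum (B ⧸ J) => Localization.AtPrime n.asIdeal)).map
      (θ.symm : MaximalSpectrum.PiLocalization (B ⧸ J) →+* B ⧸ J)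
  choose e he_idem he_mk using fun n => hs (ebar n) (hebar.idem n)
  have hortho : ∀ n k, n ≠ k → e n * e k = 0 := by
    intro n k hnk
    apply eq_zero_of_idem_of_mem_jacobson
    · show e n * e k * (e n * e k) = e n * e k
      rw [mul_mul_mul_comm, (he_idem n).eq, (he_idem k).eq]
    · apply hJ
      rw [← Ideal.Quotient.eq_zero_iff_mem, map_mul, he_mk, he_mk]
      exact hebar.ortho hnk
  have he : CompleteOrthogonalIdempotents e := by
    have h1 : OrthogonalIdempotents e := ⟨he_idem, fun n k hnk => hortho n k hnk⟩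
    refine ⟨h1, ?_⟩
    have h2 : IsIdempotentElem (1 - ∑ n, e n) :=
      (h1.isIdempotentElem_sum (s := Finset.univ)).one_sub
    have h3 : 1 - ∑ n, e n = 0 := by
      apply eq_zero_of_idem_of_mem_jacobson h2
      apply hJ
      rw [← Ideal.Quotient.eq_zero_iff_mem, map_sub, map_one, map_sum]
      simp only [he_mk]
      rw [hebar.complete, sub_self]
    exact (sub_eq_zero.1 h3).symm
  have hJu : ∀ j ∈ J, IsUnit (1 + j) := fun j hj => by
    have := (Ideal.mem_jacobson_bot.1 (hJ hj)) 1
    rwa [mul_one, add_comm] at this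
  have hloc : ∀ n, IsLocalRing (B ⧸ Ideal.span {1 - e n}) := by
    intro n
    let π : B →+* B ⧸ Ideal.span {1 - e n} := Ideal.Quotient.mk (Ideal.span {1 - e n})
    have hπe : π (e n) = 1 := by
      have h0 : π (1 - e n) = 0 := Ideal.Quotient.eq_zero_iff_mem.2 (Ideal.subset_span rfl)
      rw [map_sub, map_one, sub_eq_zero] at h0
      exact h0.symm
    haveI : Nontrivial (B ⧸ Ideal.span {1 - e n}) := by
      apply Ideal.Quotient.nontrivial_iff.2
      intro htop
      have h1 : (1 : B) ∈ Ideal.span {1 - e n} := htop ▸ Submodule.mem_top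
      obtain ⟨c, hc⟩ := Ideal.mem_span_singleton'.1 h1
      have h2 : e n = 0 := by
        calc e n = e n * 1 := (mul_one _).symm
          _ = e n * (c * (1 - e n)) := by rw [hc]
          _ = c * (e n - e n * e n) := by ring
          _ = 0 := by rw [(he_idem n).eq, sub_self, mul_zero]
      have h3 : ebar n = 0 := by rw [← he_mk n, h2, map_zero]
      have h4 : (Pi.single n 1 : MaximalSpectrum.PiLocalization (B ⧸ J)) = 0 := by
        rw [← hθe n, h3, map_zero]
      have h5 := congrFun h4 n
      rw [Pi.single_eq_same, Pi.zero_apply] at h5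
      exact one_ne_zero h5
    have key : ∀ b : B, IsUnit (θ (Ideal.Quotient.mk J b) n) → IsUnit (π b) := by
      intro b hb
      obtain ⟨v, hv⟩ := hb.exists_right_inv
      obtain ⟨c, hc⟩ := Ideal.Quotient.mk_surjective (θ.symm (Pi.single n v))
      have h1 : θ (Ideal.Quotient.mk J (b * c * e n)) = θ (Ideal.Quotient.mk J (e n)) := by
        rw [map_mul, map_mul, map_mul, map_mul, hc, he_mk, θ.apply_symm_apply, hθe]
        funext k
        by_cases hk : k = n
        · rw [hk]
          simp only [Pi.mul_apply, Pi.single_eq_same, mul_one]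
          exact hv
        · simp only [Pi.mul_apply, Pi.single_eq_of_ne hk, mul_zero]
      have h2 : b * c * e n - e n ∈ J := Ideal.Quotient.eq.1 (θ.injective h1)
      have h3 : π b * π c = π (1 + (b * c * e n - e n)) := by
        simp only [map_add, map_sub, map_mul, map_one, hπe]
        ring
      have h4 : IsUnit (π b * π c) := by rw [h3]; exact (hJu _ h2).map π
      exact isUnit_of_mul_isUnit_left h4
    refine IsLocalRing.of_isUnit_or_isUnit_one_sub_self (fun x => ?_)
    obtain ⟨b, rfl⟩ := Ideal.Quotient.mk_surjective x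
    rcases IsLocalRing.isUnit_or_isUnit_one_sub_self (θ (Ideal.Quotient.mk J b) n) with h | h
    · exact Or.inl (key b h)
    · right
      have h6 : IsUnit (π (1 - b)) := key (1 - b) (by
        rw [map_sub, map_sub, map_one, map_one]; exact h)
      rwa [map_sub, map_one] at h6
  exact ⟨MaximalSpectrum (B ⧸ J), inferInstance, fun n => B ⧸ Ideal.span {1 - e n},
    fun n => inferInstance, hloc, ⟨RingEquiv.ofBijective _ he.bijective_pi⟩⟩

theorem isArtinianRing_quot (A : Type u) [CommRing A] [IsLocalRing A] (B : Type u) [CommRing B]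
    [Algebra A B] [Module.Finite A B] :
    IsArtinianRing (B ⧸ (IsLocalRing.maximalIdeal A).map (algebraMap A B)) := by
  letI : Field (A ⧸ IsLocalRing.maximalIdeal A) := Ideal.Quotient.field _
  haveI : Module.Finite A (B ⧸ (IsLocalRing.maximalIdeal A).map (algebraMap A B)) :=
    Module.Finite.of_surjective (Ideal.Quotient.mkₐ A _).toLinearMap
      (Ideal.Quotient.mkₐ_surjective A _)
  haveI : Module.Finite (A ⧸ IsLocalRing.maximalIdeal A)
      (B ⧸ (IsLocalRing.maximalIdeal A).map (algebraMap A B)) :=
    Module.Finite.of_restrictScalars_finite A _ _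
  exact IsArtinianRing.of_finite (A ⧸ IsLocalRing.maximalIdeal A) _

/-- Let A be a local ring with maximal ideal m and B a commutative A-algebra which is finitely generated
as an A-module. Then B is ring-isomorphic to a finite product of local rings if and only if every
idempotent of B/mB is the image of an idempotent of B. (Reduction modulo mB is always injective on
the idempotents of B, because mB lies in the Jacobson radical of B; so this surjectivity amounts to
the bijectivity on idempotents in the printed assertion.) -/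
theorem result
    (A : Type u) [CommRing A] [IsLocalRing A] (B : Type u) [CommRing B] [Algebra A B] [Module.Finite A B] :
    (∃ (ι : Type u) (_ : Fintype ι) (C : ι → Type u) (_ : ∀ j, CommRing (C j)),
        (∀ j, IsLocalRing (C j)) ∧ Nonempty (B ≃+* (∀ j, C j))) ↔
      Set.SurjOn (Ideal.Quotient.mk (Ideal.map (algebraMap A B) (IsLocalRing.maximalIdeal A)))
        {e : B | IsIdempotentElem e} {e | IsIdempotentElem e} := by
  constructor
  · rintro ⟨ι, hι, C, hC, hloc, ⟨φ⟩⟩
    intro ē hē
    obtain ⟨b, rfl⟩ := Ideal.Quotient.mk_surjective ē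
    have hb : b * b - b ∈ Ideal.map (algebraMap A B) (IsLocalRing.maximalIdeal A) := by
      apply Ideal.Quotient.eq.1
      rw [map_mul]
      exact hē
    obtain ⟨e, hei, hbe⟩ := lift_of_equiv _ C φ b hb
    exact ⟨e, hei, (Ideal.Quotient.eq.2 hbe).symm⟩
  · intro hs
    haveI := isArtinianRing_quot A B
    exact exists_equiv_of_artinian _ (map_le_jacobson A B) (fun ē hē => by
      obtain ⟨e, he, hmk⟩ := hs hē
      exact ⟨e, he, hmk⟩)

end Groth.Agent.S17970
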