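import Groth.Statements.S17973
import Mathlib
import Groth.Agent.Lib.Helper8.LocEtDesc

set_option autoImplicit false
universe u
open EGA4loc

namespace Groth.Agent.S17973

/-- Let A be a local ring, B a local ring which is a local-etale A-algebra (isomorphic over A to the
localization of an etale A-algebra at a prime ideal lying over the maximal ideal of A), and C a
local-etale B-algebra, regarded as an A-algebra through B. Then C is a local-etale A-algebra. -/
theorem result (A : Type u) [CommRing A] [IsLocalRing A]
    (B : Type u) [CommRing B] [IsLocalRing B] [Algebra A B]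
    (C : Type u) [CommRing C] [Algebra B C] [Algebra A C] [IsScalarTower A B C]
    (hB : EGA4loc.IsEssentiallyEtale A B) (hC : EGA4loc.IsEssentiallyEtale B C) :
    EGA4loc.IsEssentiallyEtale A C := by

  obtain ⟨C₁, _, _, q, _, hC₁, hq, ⟨eB⟩⟩ := hB
  obtain ⟨C₂, _, _, q₂, _, hC₂, hq₂, ⟨eC⟩⟩ := hC
  letI : Algebra C₁ B :=
    (eB.symm.toRingEquiv.toRingHom.comp (algebraMap C₁ (Localization.AtPrime q))).toAlgebra
  haveI : IsScalarTower A C₁ B := IsScalarTower.of_algebraMap_eq (fun a => by
    change _ = eB.symm (algebraMap C₁ (Localization.AtPrime q) (algebraMap A C₁ a))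
    rw [← IsScalarTower.algebraMap_apply A C₁ (Localization.AtPrime q), eB.symm.commutes])
  haveI : IsLocalization.AtPrime B q :=
    IsLocalization.isLocalization_of_algEquiv q.primeCompl
      (AlgEquiv.ofRingEquiv (f := eB.symm.toRingEquiv) (fun c => rfl) :
        Localization.AtPrime q ≃ₐ[C₁] B)
  letI : Algebra C₁ C₂ := ((algebraMap B C₂).comp (algebraMap C₁ B)).toAlgebra
  haveI : IsScalarTower C₁ B C₂ := IsScalarTower.of_algebraMap_eq (fun _ => rfl)
  obtain ⟨D, _, _, _, _, _, hloc⟩ :=
    Groth.Agent.Lib.Helper8.LocSys.exists_etale_model q.primeCompl B C₂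
  letI : Algebra A D := ((algebraMap C₁ D).comp (algebraMap A C₁)).toAlgebra
  haveI : IsScalarTower A C₁ D := IsScalarTower.of_algebraMap_eq (fun _ => rfl)
  haveI : Algebra.Etale A D := Algebra.Etale.comp A C₁ D
  haveI : IsLocalization.AtPrime (Localization.AtPrime q₂) (q₂.comap (algebraMap D C₂)) :=
    IsLocalization.isLocalization_isLocalization_atPrime_isLocalization
      (Algebra.algebraMapSubmonoid D q.primeCompl) (Localization.AtPrime q₂) q₂
  let e₃ : Localization.AtPrime (q₂.comap (algebraMap D C₂)) ≃ₐ[D] Localization.AtPrime q₂ :=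
    IsLocalization.algEquiv (q₂.comap (algebraMap D C₂)).primeCompl _ _
  refine ⟨D, inferInstance, inferInstance, q₂.comap (algebraMap D C₂), inferInstance,
    inferInstance, ?_, ⟨AlgEquiv.ofRingEquiv (f := eC.toRingEquiv.trans e₃.symm.toRingEquiv)
      (fun a => ?_)⟩⟩
  · have h1 : (algebraMap D C₂).comp (algebraMap A D) =
        ((algebraMap B C₂).comp (algebraMap C₁ B)).comp (algebraMap A C₁) := by
      ext a
      change algebraMap D C₂ (algebraMap C₁ D (algebraMap A C₁ a)) = _
      rw [← IsScalarTower.algebraMap_apply C₁ D C₂]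
      rfl
    have h2 : (IsLocalRing.maximalIdeal B).comap (algebraMap C₁ B) = q :=
      IsLocalization.AtPrime.comap_maximalIdeal B q
    rw [Ideal.comap_comap, h1, ← Ideal.comap_comap, ← Ideal.comap_comap, hq₂, h2, hq]
  · change e₃.symm (eC (algebraMap A C a)) = _
    rw [IsScalarTower.algebraMap_apply A B C, eC.commutes,
      IsScalarTower.algebraMap_apply B C₂ (Localization.AtPrime q₂),
      IsScalarTower.algebraMap_apply A C₁ B]
    have h3 : algebraMap B C₂ (algebraMap C₁ B (algebraMap A C₁ a)) =
        algebraMap D C₂ (algebraMap A D a) := by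
      change algebraMap C₁ C₂ (algebraMap A C₁ a) = _
      rw [IsScalarTower.algebraMap_apply C₁ D C₂]
      rfl
    rw [h3, ← IsScalarTower.algebraMap_apply D C₂ (Localization.AtPrime q₂), e₃.symm.commutes,
      ← IsScalarTower.algebraMap_apply A D]


end Groth.Agent.S17973
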