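import Groth.Statements.S17974
import Mathlib

set_option autoImplicit false
universe u
open Unram

namespace Groth.Agent.S17974

/-- Let A be a commutative ring, B an unramified A-algebra (formally unramified and of finite type), C
an A-algebra, p a prime ideal of C, and u, v : B → C two A-algebra homomorphisms which agree after
composition with C → C/p. Then there is an element f of C not in p such that u and v agree after
composition with the localization map C → C[1/f]. -/
theorem result
    (A : Type u) [CommRing A] (B : Type u) [CommRing B] [Algebra A B]
    [Algebra.FormallyUnramified A B] [Algebra.FiniteType A B]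
    (C : Type u) [CommRing C] [Algebra A C] (p : Ideal C) [p.IsPrime]
    (u v : B →ₐ[A] C)
    (huv : (Ideal.Quotient.mk p).comp u.toRingHom = (Ideal.Quotient.mk p).comp v.toRingHom) :
    ∃ f : C, f ∉ p ∧
      (algebraMap C (Localization.Away f)).comp u.toRingHom =
        (algebraMap C (Localization.Away f)).comp v.toRingHom := by
  classical
  obtain ⟨t, ht1, ht2⟩ := Algebra.FormallyUnramified.iff_exists_tensorProduct.mp
    (inferInstance : Algebra.FormallyUnramified A B)
  have huv' : ∀ b : B, v b - u b ∈ p := by
    intro b
    have := congrArg (fun f => f b) huv
    simp only [RingHom.coe_comp, Function.comp_apply] at this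
    rw [← Ideal.Quotient.eq]
    exact this.symm
  -- key: the product map agrees with `u ∘ mul` modulo `p`
  have key : ∀ x : TensorProduct A B B, Algebra.TensorProduct.productMap u v x -
      u (Algebra.TensorProduct.lmul' A x) ∈ p := by
    intro x
    induction x using TensorProduct.induction_on with
    | zero => simp
    | tmul a b =>
      rw [Algebra.TensorProduct.productMap_apply_tmul, Algebra.TensorProduct.lmul'_apply_tmul,
        map_mul, ← mul_sub]
      exact Ideal.mul_mem_left _ _ (huv' b)
    | add x y hx hy =>
      rw [map_add, map_add, map_add, add_sub_add_comm]
      exact Ideal.add_mem _ hx hy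
  refine ⟨Algebra.TensorProduct.productMap u v t, ?_, ?_⟩
  · intro h
    have h1 := key t
    rw [ht2, map_one] at h1
    have := Ideal.sub_mem _ h h1
    rw [sub_sub_cancel] at this
    exact (Ideal.IsPrime.ne_top inferInstance) ((Ideal.eq_top_iff_one _).mpr this)
  · ext b
    have h1 : Algebra.TensorProduct.productMap u v
        (((1 : B) ⊗ₜ[A] b - b ⊗ₜ[A] (1 : B)) * t) = 0 := by rw [ht1, map_zero]
    rw [map_mul, map_sub, Algebra.TensorProduct.productMap_apply_tmul,
      Algebra.TensorProduct.productMap_apply_tmul, map_one, map_one, one_mul, mul_one] at h1
    have hunit : IsUnit (algebraMap C (Localization.Away (Algebra.TensorProduct.productMap u v t))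
        (Algebra.TensorProduct.productMap u v t)) :=
      IsLocalization.Away.algebraMap_isUnit _
    have h2 := congrArg (algebraMap C (Localization.Away (Algebra.TensorProduct.productMap u v t))) h1
    rw [map_mul, map_zero, hunit.mul_left_eq_zero, map_sub, sub_eq_zero] at h2
    simp only [RingHom.coe_comp, Function.comp_apply]
    exact h2.symm

end Groth.Agent.S17974
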