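-- Statement S17975.
import Groth.Statements.S17975
import Mathlib

set_option autoImplicit false
universe u
open Hensel

namespace Groth.Agent.S17975

section Aux

open Polynomial

variable {A : Type u} [CommRing A] [IsLocalRing A] {C : Type u} [CommRing C] [Algebra A C]

lemma hkey (I : Ideal C) (Q₀ : Polynomial (IsLocalRing.ResidueField A))
    (e : (C ⧸ I) ≃ₐ[A] AdjoinRoot Q₀) (x : C)
    (hx : e (Ideal.Quotient.mk I x) = AdjoinRoot.root Q₀) (G : Polynomial A) :
    e (Ideal.Quotient.mk I (Polynomial.aeval x G)) =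
      AdjoinRoot.mk Q₀ (Polynomial.map (IsLocalRing.residue A) G) := by
  have h1 : Ideal.Quotient.mk I (Polynomial.aeval x G) =
      Polynomial.aeval (Ideal.Quotient.mk I x) G :=
    (Polynomial.aeval_algHom_apply (Ideal.Quotient.mkₐ A I) x G).symm
  have h2 : e (Polynomial.aeval (Ideal.Quotient.mk I x) G) =
      Polynomial.aeval (e (Ideal.Quotient.mk I x)) G :=
    (Polynomial.aeval_algHom_apply e.toAlgHom (Ideal.Quotient.mk I x) G).symm
  rw [h1, h2, hx, ← AdjoinRoot.aeval_eq]
  exact (Polynomial.aeval_map_algebraMap (IsLocalRing.ResidueField A) (AdjoinRoot.root Q₀) G).symm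

lemma span_eq_top [Module.Finite A C] (Q₀ : Polynomial (IsLocalRing.ResidueField A))
    (hQ₀ : Q₀.Monic)
    (e : (C ⧸ Ideal.map (algebraMap A C) (IsLocalRing.maximalIdeal A)) ≃ₐ[A] AdjoinRoot Q₀)
    (x : C)
    (hx : e (Ideal.Quotient.mk (Ideal.map (algebraMap A C) (IsLocalRing.maximalIdeal A)) x) =
      AdjoinRoot.root Q₀) :
    (Polynomial.degreeLT A Q₀.natDegree).map (Polynomial.aeval x).toLinearMap = ⊤ := by
  rw [eq_top_iff]
  apply Submodule.le_of_le_smul_of_le_jacobson_bot (I := IsLocalRing.maximalIdeal A)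
    Module.Finite.fg_top (IsLocalRing.maximalIdeal_le_jacobson ⊥)
  intro c _
  obtain ⟨g, hg⟩ := AdjoinRoot.mk_surjective
    (e (Ideal.Quotient.mk (Ideal.map (algebraMap A C) (IsLocalRing.maximalIdeal A)) c))
  have hg' : AdjoinRoot.mk Q₀ (g %ₘ Q₀) = AdjoinRoot.mk Q₀ g := by
    rw [AdjoinRoot.mk_eq_mk]
    refine ⟨-(g /ₘ Q₀), ?_⟩
    have := Polynomial.modByMonic_add_div g Q₀
    linear_combination this
  have hdeg : (g %ₘ Q₀).degree < Q₀.degree := Polynomial.degree_modByMonic_lt g hQ₀
  obtain ⟨G, hG, hGdeg⟩ := Polynomial.mem_lifts_and_degree_eq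
    ((Polynomial.mem_lifts _).mpr
      (Polynomial.map_surjective _ IsLocalRing.residue_surjective (g %ₘ Q₀)))
  have hmem : c - Polynomial.aeval x G ∈
      Ideal.map (algebraMap A C) (IsLocalRing.maximalIdeal A) := by
    rw [← Ideal.Quotient.eq]
    apply e.injective
    rw [hkey _ Q₀ e x hx G, hG, hg', hg]
  refine Submodule.mem_sup.mpr ⟨Polynomial.aeval x G, ⟨G, ?_, rfl⟩, c - Polynomial.aeval x G, ?_,
    add_sub_cancel _ _⟩
  · rw [SetLike.mem_coe, Polynomial.mem_degreeLT, hGdeg]
    rwa [Polynomial.degree_eq_natDegree hQ₀.ne_zero] at hdeg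
  · rw [Ideal.smul_top_eq_map]
    exact hmem

end Aux

/-- Let A be a local ring with maximal ideal m and residue field k, C a commutative A-algebra which is
finitely generated as an A-module, Q₀ a monic polynomial of degree n over k, e an A-algebra
isomorphism from C/mC to k[T]/(Q₀), and x an element of C whose class is sent by e to the class of
T. Then x generates C as an A-algebra, and x is a root of a monic polynomial Q over A of degree n
whose reduction modulo m equals Q₀. -/
theorem result
    (A : Type u) [CommRing A] [IsLocalRing A] (C : Type u) [CommRing C] [Algebra A C] [Module.Finite A C]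
    (Q₀ : Polynomial (IsLocalRing.ResidueField A)) (hQ₀ : Q₀.Monic)
    (e : (C ⧸ Ideal.map (algebraMap A C) (IsLocalRing.maximalIdeal A)) ≃ₐ[A] AdjoinRoot Q₀)
    (x : C) (hx : e (Ideal.Quotient.mk (Ideal.map (algebraMap A C) (IsLocalRing.maximalIdeal A)) x) = AdjoinRoot.root Q₀) :
    Algebra.adjoin A {x} = ⊤ ∧
      ∃ Q : Polynomial A, Q.Monic ∧ Q.natDegree = Q₀.natDegree ∧
        Polynomial.map (IsLocalRing.residue A) Q = Q₀ ∧ Polynomial.aeval x Q = 0 := by
  classical
  have htop := span_eq_top Q₀ hQ₀ e x hx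
  constructor
  · rw [eq_top_iff]
    intro c _
    have hc : c ∈ (Polynomial.degreeLT A Q₀.natDegree).map (Polynomial.aeval x).toLinearMap := by
      rw [htop]; trivial
    obtain ⟨G, -, rfl⟩ := hc
    exact Polynomial.aeval_mem_adjoin_singleton A x
  · have hc : x ^ Q₀.natDegree ∈
        (Polynomial.degreeLT A Q₀.natDegree).map (Polynomial.aeval x).toLinearMap := by
      rw [htop]; trivial
    obtain ⟨P, hP, hPx⟩ := hc
    rw [SetLike.mem_coe, Polynomial.mem_degreeLT] at hP
    have hPx' : Polynomial.aeval x P = x ^ Q₀.natDegree := hPx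
    have hmonic : (Polynomial.X ^ Q₀.natDegree - P).Monic := Polynomial.monic_X_pow_sub hP
    have hdeg : (Polynomial.X ^ Q₀.natDegree - P).natDegree = Q₀.natDegree := by
      apply Polynomial.natDegree_eq_of_degree_eq_some
      rw [Polynomial.degree_sub_eq_left_of_degree_lt (by rwa [Polynomial.degree_X_pow]),
        Polynomial.degree_X_pow]
    have hroot : Polynomial.aeval x (Polynomial.X ^ Q₀.natDegree - P) = 0 := by
      rw [map_sub, map_pow, Polynomial.aeval_X, hPx', sub_self]
    refine ⟨Polynomial.X ^ Q₀.natDegree - P, hmonic, hdeg, ?_, hroot⟩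
    have h0 := hkey _ Q₀ e x hx (Polynomial.X ^ Q₀.natDegree - P)
    rw [hroot, map_zero, map_zero] at h0
    have hdvd : Q₀ ∣ Polynomial.map (IsLocalRing.residue A) (Polynomial.X ^ Q₀.natDegree - P) :=
      AdjoinRoot.mk_eq_zero.mp h0.symm
    exact Polynomial.eq_of_monic_of_dvd_of_natDegree_le hQ₀ (hmonic.map _) hdvd
      (by rw [hmonic.natDegree_map, hdeg])

end Groth.Agent.S17975
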