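import Groth.Statements.S17976
import Mathlib
import Groth.Agent.Lib.Helper26.IdemNbhd
import Groth.Agent.Lib.Helper26.ZMTIdem

set_option autoImplicit false
universe u
open Hensel

namespace Groth.Agent.S17976

open Polynomial TensorProduct
open Groth.Agent.Lib.Helper26.PairHensNbhd Groth.Agent.Lib.Helper26.HenselEtale

section aux

variable {A : Type u} [CommRing A] (I : Ideal A)

/-- The image of `I·B` under an `A`-algebra map lands in `I·C`. -/
theorem map_mem {B C : Type*} [CommRing B] [CommRing C] [Algebra A B] [Algebra A C]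
    (φ : B →ₐ[A] C) {x : B} (hx : x ∈ I.map (algebraMap A B)) :
    φ x ∈ I.map (algebraMap A C) := by
  have : (I.map (algebraMap A B)).map φ.toRingHom = I.map (algebraMap A C) := by
    rw [Ideal.map_map]
    congr 1
    exact φ.comp_algebraMap
  rw [← this]
  exact Ideal.mem_map_of_mem _ hx

theorem pow_sub_one_mem {R : Type*} [CommRing R] (J : Ideal R) {s : R} (hs : s - 1 ∈ J) (k : ℕ) :
    s ^ k - 1 ∈ J := by
  induction k with
  | zero => simp
  | succ k ih =>
    have : s ^ (k + 1) - 1 = s ^ k * (s - 1) + (s ^ k - 1) := by ring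
    rw [this]; exact J.add_mem (J.mul_mem_left _ hs) ih

theorem step1 (B : Type u) [CommRing B] [Algebra A B] [Algebra.FiniteType A B]
    (hfin : Module.Finite A (B ⧸ Ideal.map (algebraMap A B) I)) :
    ∃ g : integralClosure A B,
      g * g - g ∈ I.map (algebraMap A (integralClosure A B)) ∧
      (g : B) - 1 ∈ I.map (algebraMap A B) ∧
      ∀ x : B, ∃ m : ℕ, IsIntegral A ((g : B) ^ m * x) := by
  have he : IsIdempotentElem (1 : B ⧸ Ideal.map (algebraMap A B) I) := IsIdempotentElem.one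
  have hfin' : Module.Finite (A ⧸ I)
      ((B ⧸ Ideal.map (algebraMap A B) I) ⧸
        Ideal.span {(1 : B ⧸ Ideal.map (algebraMap A B) I) - 1}) := by
    haveI := hfin
    haveI : Module.Finite A ((B ⧸ Ideal.map (algebraMap A B) I) ⧸
        Ideal.span {(1 : B ⧸ Ideal.map (algebraMap A B) I) - 1}) :=
      Module.Finite.of_surjective (Ideal.Quotient.mkₐ A _).toLinearMap
        (Ideal.Quotient.mkₐ_surjective A _)
    exact Module.Finite.of_restrictScalars_finite A (A ⧸ I) _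
  obtain ⟨g₀, hg₀, hg₀e⟩ := Groth.Agent.Lib.Helper26.ZMTIdem.exists_good_lift A B I 1 he hfin'
  have hint : g₀ ∈ integralClosure A B := hg₀.1
  have hy : (((⟨g₀, hint⟩ : integralClosure A B) * ⟨g₀, hint⟩ - ⟨g₀, hint⟩ :
      integralClosure A B) : B) ∈ I.map (algebraMap A B) := by
    rw [← Ideal.Quotient.eq_zero_iff_mem]
    show Ideal.Quotient.mk _ (g₀ * g₀ - g₀) = 0
    rw [map_sub, map_mul, hg₀e, mul_one, sub_self]
  obtain ⟨c, hc⟩ := Groth.Agent.Lib.Helper26.ZMTIdem.exists_pow_mul_mem I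
    (⟨g₀, hint⟩ : integralClosure A B) hg₀.2 _ hy
  refine ⟨(⟨g₀, hint⟩ : integralClosure A B) ^ (c + 1), ?_, ?_, ?_⟩
  · have hidem : IsIdempotentElem
        (Ideal.Quotient.mk (I.map (algebraMap A (integralClosure A B)))
          ((⟨g₀, hint⟩ : integralClosure A B) ^ (c + 1))) := by
      rw [map_pow]
      apply Groth.Agent.Lib.Helper26.ZMTIdem.isIdempotentElem_pow_succ
      rw [← map_pow, ← map_mul, ← map_sub, ← map_mul]
      exact Ideal.Quotient.eq_zero_iff_mem.mpr hc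
    rw [← Ideal.Quotient.eq_zero_iff_mem, map_sub, map_mul, hidem.eq, sub_self]
  · rw [← Ideal.Quotient.eq_zero_iff_mem, map_sub, map_one]
    show Ideal.Quotient.mk _ (g₀ ^ (c + 1)) - 1 = 0
    rw [map_pow, hg₀e, one_pow, sub_self]
  · intro x
    exact (Groth.Agent.Lib.Helper26.ZMTIdem.Good.pow_succ hg₀ c).2 x

theorem exists_shrink {A₁ : Type*} [CommRing A₁] (J : Ideal A₁) {T : Type*} [CommRing T]
    [Algebra A₁ T] [Algebra.IsIntegral A₁ T] (e γ : T) (he : IsIdempotentElem e)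
    (heγ : e - γ ∈ J.map (algebraMap A₁ T)) :
    ∃ s : A₁, s - 1 ∈ J ∧ ∃ h : T, e * γ * h = algebraMap A₁ T s * e := by
  obtain ⟨K, hK⟩ : ∃ K : Ideal T, K = Ideal.span {1 - e} := ⟨_, rfl⟩
  haveI : Algebra.IsIntegral A₁ (T ⧸ K) :=
    Algebra.IsIntegral.of_surjective (Ideal.Quotient.mkₐ A₁ K) (Ideal.Quotient.mkₐ_surjective A₁ K)
  have hmke : Ideal.Quotient.mk K e = 1 := by
    have : Ideal.Quotient.mk K (1 - e) = 0 :=
      Ideal.Quotient.eq_zero_iff_mem.mpr (hK ▸ Ideal.mem_span_singleton_self _)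
    rw [map_sub, map_one, sub_eq_zero] at this
    exact this.symm
  have hx : Ideal.Quotient.mk K γ - 1 ∈ J.map (algebraMap A₁ (T ⧸ K)) := by
    have h1 := map_mem J (Ideal.Quotient.mkₐ A₁ K) heγ
    have h2 : Ideal.Quotient.mk K γ - 1 = -(Ideal.Quotient.mkₐ A₁ K (e - γ)) := by
      rw [Ideal.Quotient.mkₐ_eq_mk, map_sub, hmke]; ring
    rw [h2]; exact neg_mem h1
  obtain ⟨Q, hQm, hQ0, hQc⟩ := Polynomial.exists_monic_aeval_eq_zero_forall_mem_of_mem_map hx
  obtain ⟨P, hP⟩ : ∃ P : A₁[X], P = Q.comp (X - 1) := ⟨_, rfl⟩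
  have hP0 : aeval (Ideal.Quotient.mk K γ) P = 0 := by
    rw [hP, Polynomial.aeval_comp]; simpa using hQ0
  have hPdecomp : P = P.divX * X + C (P.coeff 0) := (Polynomial.divX_mul_X_add P).symm
  have ha0 : P.coeff 0 = Q.eval (-1) := by
    rw [Polynomial.coeff_zero_eq_eval_zero, hP, Polynomial.eval_comp]; simp
  have ha0mem : Q.eval (-1) - (-1) ^ Q.natDegree ∈ J := by
    rw [Polynomial.eval_eq_sum_range, Finset.sum_range_succ, hQm.coeff_natDegree, one_mul,
      add_sub_cancel_right]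
    exact Ideal.sum_mem _ (fun i hi =>
      Ideal.mul_mem_right _ _ (hQc i (Finset.mem_range.mp hi).ne))
  refine ⟨(-1) ^ Q.natDegree * Q.eval (-1), ?_, ?_⟩
  · have : (-1 : A₁) ^ Q.natDegree * Q.eval (-1) - 1 =
        (-1) ^ Q.natDegree * (Q.eval (-1) - (-1) ^ Q.natDegree) := by
      rw [mul_sub, ← mul_pow]; simp
    rw [this]; exact Ideal.mul_mem_left _ _ ha0mem
  · have h4 : aeval (Ideal.Quotient.mk K γ) P =
        aeval (Ideal.Quotient.mk K γ) P.divX * Ideal.Quotient.mk K γ +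
          algebraMap A₁ (T ⧸ K) (P.coeff 0) := by
      conv_lhs => rw [hPdecomp]
      simp
    rw [hP0, ha0] at h4
    have h5 : Ideal.Quotient.mk K (aeval γ P.divX) = aeval (Ideal.Quotient.mk K γ) P.divX := by
      have := Polynomial.aeval_algHom_apply (Ideal.Quotient.mkₐ A₁ K) γ P.divX
      simpa using this.symm
    have h3 : Ideal.Quotient.mk K (γ * -(aeval γ P.divX) - algebraMap A₁ T (Q.eval (-1))) = 0 := by
      have h6 : Ideal.Quotient.mk K (algebraMap A₁ T (Q.eval (-1))) =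
          algebraMap A₁ (T ⧸ K) (Q.eval (-1)) := rfl
      rw [map_sub, map_mul, map_neg, h5, h6]
      linear_combination h4
    obtain ⟨t, ht⟩ := Ideal.mem_span_singleton'.mp (hK ▸ Ideal.Quotient.eq_zero_iff_mem.mp h3)
    refine ⟨algebraMap A₁ T ((-1) ^ Q.natDegree) * -(aeval γ P.divX), ?_⟩
    have h7 : e * (γ * -(aeval γ P.divX) - algebraMap A₁ T (Q.eval (-1))) = 0 := by
      rw [← ht]
      have : e * (t * (1 - e)) = t * (e - e * e) := by ring
      rw [this, he.eq, sub_self, mul_zero]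
    rw [map_mul]
    linear_combination (algebraMap A₁ T ((-1) ^ Q.natDegree)) * h7

theorem quotBij_away_of_sub_one_mem {A₁ : Type*} [CommRing A₁] (J : Ideal A₁) (s : A₁)
    (hs : s - 1 ∈ J) : QuotBij J (Localization.Away s) := by
  rw [quotBij_iff]
  refine ⟨fun x => ?_, fun a ha => ?_⟩
  · obtain ⟨⟨a, ⟨t, ht⟩⟩, hx⟩ := IsLocalization.surj (Submonoid.powers s) x
    obtain ⟨k, rfl⟩ := (Submonoid.mem_powers_iff _ _).mp ht
    have hx' : x * algebraMap A₁ (Localization.Away s) (s ^ k) = algebraMap A₁ _ a := hx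
    refine ⟨a, ?_⟩
    have h1 : x - algebraMap A₁ (Localization.Away s) a =
        -(x * algebraMap A₁ (Localization.Away s) (s ^ k - 1)) := by
      rw [← hx', map_sub, map_one]; ring
    rw [h1]
    exact neg_mem (Ideal.mul_mem_left _ _ (Ideal.mem_map_of_mem _ (pow_sub_one_mem J hs k)))
  · rw [IsLocalization.mem_map_algebraMap_iff (Submonoid.powers s)] at ha
    obtain ⟨⟨⟨j, hj⟩, ⟨t, ht⟩⟩, h⟩ := ha
    obtain ⟨k, rfl⟩ := (Submonoid.mem_powers_iff _ _).mp ht
    have h2 : algebraMap A₁ (Localization.Away s) (a * s ^ k) = algebraMap A₁ _ j := by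
      rw [map_mul]; exact h
    obtain ⟨⟨t', ht'⟩, hm⟩ := (IsLocalization.eq_iff_exists (Submonoid.powers s) _).mp h2
    obtain ⟨m, rfl⟩ := (Submonoid.mem_powers_iff _ _).mp ht'
    have hm' : s ^ m * (a * s ^ k) = s ^ m * j := hm
    have h3 : s ^ (m + k) * a ∈ J := by
      have : s ^ (m + k) * a = s ^ m * j := by rw [← hm']; ring
      rw [this]; exact J.mul_mem_left _ hj
    have h4 : a = s ^ (m + k) * a - (s ^ (m + k) - 1) * a := by ring
    rw [h4]; exact J.sub_mem h3 (J.mul_mem_right _ (pow_sub_one_mem J hs _))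

theorem exists_nbhd_unit {B' : Type u} [CommRing B'] [Algebra A B'] [Algebra.IsIntegral A B']
    (g : B') (hg : g * g - g ∈ I.map (algebraMap A B')) :
    ∃ (A' : Type u) (_ : CommRing A') (_ : Algebra A A') (_ : Algebra.Etale A A'), QuotBij I A' ∧
      ∃ e' h : A' ⊗[A] B', IsIdempotentElem e' ∧
        e' - 1 ⊗ₜ g ∈ I.map (algebraMap A (A' ⊗[A] B')) ∧ e' * (1 ⊗ₜ g) * h = e' := by
  obtain ⟨A₁, _, _, _, hQ₁, e₁, he₁, he₁g⟩ :=
    Groth.Agent.Lib.Helper26.IdemNbhd.exists_nbhd_idempotent I g hg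
  obtain ⟨s, hs, h₁, hh₁⟩ := exists_shrink (I.map (algebraMap A A₁)) e₁ (1 ⊗ₜ g) he₁ (by
      rw [Ideal.map_map, ← IsScalarTower.algebraMap_eq]; exact he₁g)
  haveI : Algebra.Etale A (Localization.Away s) := Algebra.Etale.comp A A₁ (Localization.Away s)
  have hQ₂ : QuotBij I (Localization.Away s) :=
    quotBij_trans hQ₁ (quotBij_away_of_sub_one_mem _ s hs)
  obtain ⟨ψ, hψ⟩ : ∃ ψ : A₁ ⊗[A] B' →ₐ[A] Localization.Away s ⊗[A] B', ψ =
    Algebra.TensorProduct.map (IsScalarTower.toAlgHom A A₁ (Localization.Away s))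
      (AlgHom.id A B') := ⟨_, rfl⟩
  obtain ⟨sinv, hsinv⟩ : ∃ t : Localization.Away s, t * algebraMap A₁ (Localization.Away s) s = 1 :=
    ⟨IsLocalization.Away.invSelf s, by
      rw [mul_comm]; exact IsLocalization.Away.mul_invSelf s⟩
  have h5 : ψ (1 ⊗ₜ g) = 1 ⊗ₜ g := by rw [hψ]; simp
  have h4 : ψ (algebraMap A₁ (A₁ ⊗[A] B') s) =
      (algebraMap A₁ (Localization.Away s) s) ⊗ₜ 1 := by
    rw [hψ, Algebra.TensorProduct.algebraMap_apply, Algebra.TensorProduct.map_tmul]; simp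
  refine ⟨Localization.Away s, inferInstance, inferInstance, inferInstance, hQ₂, ψ e₁,
    (sinv ⊗ₜ 1) * ψ h₁, he₁.map ψ, ?_, ?_⟩
  · have := map_mem I ψ he₁g
    rwa [map_sub, h5] at this
  · have h3 := congrArg ψ hh₁
    rw [map_mul, map_mul, map_mul, h4, h5] at h3
    calc ψ e₁ * (1 ⊗ₜ g) * ((sinv ⊗ₜ 1) * ψ h₁)
        = (sinv ⊗ₜ 1) * (ψ e₁ * (1 ⊗ₜ g) * ψ h₁) := by ring
      _ = (sinv ⊗ₜ 1) * ((algebraMap A₁ (Localization.Away s) s) ⊗ₜ 1 * ψ e₁) := by rw [h3]
      _ = ((sinv * algebraMap A₁ (Localization.Away s) s) ⊗ₜ ((1 : B') * 1)) * ψ e₁ := by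
          rw [← Algebra.TensorProduct.tmul_mul_tmul]; ring
      _ = ψ e₁ := by
          rw [hsinv, mul_one, ← Algebra.TensorProduct.one_def, one_mul]

end aux


section final

variable {A : Type u} [CommRing A] (I : Ideal A)
variable (B : Type u) [CommRing B] [Algebra A B] [Algebra.FiniteType A B]
variable (A' : Type u) [CommRing A'] [Algebra A A'] [Algebra.Etale A A']
variable (gB : B) (eb hb : A' ⊗[A] B)
variable (C : Type u) [CommRing C] [Algebra (A' ⊗[A] B) C]
  [IsLocalization.Away (eb * (1 ⊗ₜ[A] gB)) C]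
  [Algebra A C] [IsScalarTower A (A' ⊗[A] B) C] [Algebra A' C] [IsScalarTower A' (A' ⊗[A] B) C]
  [IsScalarTower A A' C]

local notation "loc" => algebraMap (A' ⊗[A] B) C

theorem final (hQ : QuotBij I A') (hg2 : gB - 1 ∈ I.map (algebraMap A B))
    (hg3 : ∀ x : B, ∃ m : ℕ, IsIntegral A (gB ^ m * x))
    (heb : IsIdempotentElem eb)
    (hebg : eb - 1 ⊗ₜ gB ∈ I.map (algebraMap A (A' ⊗[A] B)))
    (hunit : eb * (1 ⊗ₜ gB) * hb = eb) (hhb : IsIntegral A' hb) :
    ∃ (_ : Algebra B C) (_ : IsScalarTower A B C),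
      Algebra.Etale B C ∧ Module.Finite A' C ∧
      Function.Surjective
        ((Ideal.Quotient.mk (Ideal.map (algebraMap A C) I)).comp (algebraMap B C)) ∧
      RingHom.ker ((Ideal.Quotient.mk (Ideal.map (algebraMap A C) I)).comp (algebraMap B C)) =
        Ideal.map (algebraMap A B) I := by
  classical
  letI algBTB : Algebra B (A' ⊗[A] B) := Algebra.TensorProduct.rightAlgebra
  letI algBC : Algebra B C :=
    ((algebraMap (A' ⊗[A] B) C).comp (algebraMap B (A' ⊗[A] B))).toAlgebra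
  haveI towBTC : IsScalarTower B (A' ⊗[A] B) C := IsScalarTower.of_algebraMap_eq (fun _ => rfl)
  haveI towABT : IsScalarTower A B (A' ⊗[A] B) := IsScalarTower.of_algebraMap_eq (fun a =>
    ((Algebra.TensorProduct.includeRight : B →ₐ[A] A' ⊗[A] B).commutes a).symm)
  haveI towABC : IsScalarTower A B C := IsScalarTower.of_algebraMap_eq (fun a => by
    rw [IsScalarTower.algebraMap_apply A (A' ⊗[A] B) C,
      IsScalarTower.algebraMap_apply A B (A' ⊗[A] B)]
    rfl)
  have hu_unit : IsUnit (loc (eb * (1 ⊗ₜ[A] gB))) :=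
    IsLocalization.Away.algebraMap_isUnit _
  have h_eb_unit : IsUnit (loc eb) := by
    rw [map_mul] at hu_unit
    exact isUnit_of_mul_isUnit_left hu_unit
  have h_eb_one : loc eb = 1 := by
    have h1 : loc eb * loc eb = loc eb * 1 := by
      rw [← map_mul, heb.eq, mul_one]
    exact h_eb_unit.mul_left_cancel h1
  have h_inv : loc (1 ⊗ₜ[A] gB) * loc hb = 1 := by
    have := congrArg (loc) hunit
    rw [map_mul, map_mul, h_eb_one, one_mul] at this
    exact this
  have hlocu : loc (eb * (1 ⊗ₜ[A] gB)) = loc (1 ⊗ₜ[A] gB) := by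
    rw [map_mul, h_eb_one, one_mul]
  have hint_hb : IsIntegral A' (loc hb) := hhb.map (IsScalarTower.toAlgHom A' (A' ⊗[A] B) C)
  have hint_b : ∀ b : B, IsIntegral A' (loc (1 ⊗ₜ[A] b)) := by
    intro b
    obtain ⟨m, hm⟩ := hg3 b
    have h1 : IsIntegral A' ((1 : A') ⊗ₜ[A] (gB ^ m * b)) := IsIntegral.tmul 1 hm
    have h2 : (1 : A') ⊗ₜ[A] (gB ^ m * b) = (1 ⊗ₜ[A] gB) ^ m * (1 ⊗ₜ[A] b) := by
      rw [Algebra.TensorProduct.tmul_pow, one_pow, Algebra.TensorProduct.tmul_mul_tmul, one_mul]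
    have h3 : loc (1 ⊗ₜ[A] b) = (loc hb) ^ m * loc ((1 : A') ⊗ₜ[A] (gB ^ m * b)) := by
      rw [h2, map_mul, map_pow, ← mul_assoc, ← mul_pow, mul_comm (loc hb), h_inv, one_pow,
        one_mul]
    rw [h3]
    exact (hint_hb.pow m).mul (h1.map (IsScalarTower.toAlgHom A' (A' ⊗[A] B) C))
  have hint_all : ∀ x : A' ⊗[A] B, IsIntegral A' (loc x) := by
    intro x
    induction x using TensorProduct.induction_on with
    | zero => rw [map_zero]; exact isIntegral_zero
    | tmul a b =>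
      have h1 : a ⊗ₜ[A] b = algebraMap A' (A' ⊗[A] B) a * (1 ⊗ₜ[A] b) := by
        simp [Algebra.TensorProduct.algebraMap_apply]
      rw [h1, map_mul, ← IsScalarTower.algebraMap_apply A' (A' ⊗[A] B) C]
      exact isIntegral_algebraMap.mul (hint_b b)
    | add x y hx hy => rw [map_add]; exact hx.add hy
  have hrepr : ∀ c : C, ∃ (x : A' ⊗[A] B) (k : ℕ), c = loc x * (loc hb) ^ k := by
    intro c
    obtain ⟨⟨x, ⟨t, ht⟩⟩, hc⟩ := IsLocalization.surj (Submonoid.powers (eb * (1 ⊗ₜ[A] gB))) c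
    obtain ⟨k, rfl⟩ := (Submonoid.mem_powers_iff _ _).mp ht
    have hc' : c * loc (1 ⊗ₜ[A] gB) ^ k = loc x := by
      rw [← hlocu, ← map_pow]; exact hc
    exact ⟨x, k, by rw [← hc', mul_assoc, ← mul_pow, h_inv, one_pow, mul_one]⟩
  have hloc_mem : ∀ x ∈ I.map (algebraMap A (A' ⊗[A] B)), loc x ∈ I.map (algebraMap A C) :=
    fun x hx => map_mem I (IsScalarTower.toAlgHom A (A' ⊗[A] B) C) hx
  have hγ1 : (1 : A') ⊗ₜ[A] gB - 1 ∈ I.map (algebraMap A (A' ⊗[A] B)) := by
    have := map_mem I (Algebra.TensorProduct.includeRight : B →ₐ[A] A' ⊗[A] B) hg2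
    rwa [map_sub, map_one, Algebra.TensorProduct.includeRight_apply] at this
  have hu1 : eb * (1 ⊗ₜ[A] gB) - 1 ∈ I.map (algebraMap A (A' ⊗[A] B)) := by
    have : eb * (1 ⊗ₜ[A] gB) - 1 = (eb - 1 ⊗ₜ[A] gB) * (1 ⊗ₜ[A] gB) +
        ((1 ⊗ₜ[A] gB - 1) * (1 ⊗ₜ[A] gB) + (1 ⊗ₜ[A] gB - 1)) := by ring
    rw [this]
    exact Ideal.add_mem _ (Ideal.mul_mem_right _ _ hebg)
      (Ideal.add_mem _ (Ideal.mul_mem_right _ _ hγ1) hγ1)
  have hlochb1 : loc hb - 1 ∈ I.map (algebraMap A C) := by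
    have h1 : loc hb - 1 = -(loc hb * loc (eb * (1 ⊗ₜ[A] gB) - 1)) := by
      rw [map_sub, map_one, hlocu, mul_sub, mul_one, mul_comm (loc hb), h_inv]; ring
    rw [h1]; exact neg_mem (Ideal.mul_mem_left _ _ (hloc_mem _ hu1))
  have hS1 : ∀ x : A' ⊗[A] B, ∃ b : B, x - 1 ⊗ₜ[A] b ∈ I.map (algebraMap A (A' ⊗[A] B)) := by
    intro x
    induction x using TensorProduct.induction_on with
    | zero => exact ⟨0, by simp⟩
    | tmul a' b₀ =>
      obtain ⟨a, ha⟩ := ((quotBij_iff I A').mp hQ).1 a'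
      refine ⟨a • b₀, ?_⟩
      have h2 : (1 : A') ⊗ₜ[A] (a • b₀) = (algebraMap A A' a) ⊗ₜ[A] b₀ := by
        rw [TensorProduct.tmul_smul, TensorProduct.smul_tmul', Algebra.smul_def, mul_one]
      have h1 : a' ⊗ₜ[A] b₀ - 1 ⊗ₜ[A] (a • b₀) =
          algebraMap A' (A' ⊗[A] B) (a' - algebraMap A A' a) * (1 ⊗ₜ[A] b₀) := by
        rw [h2, ← TensorProduct.sub_tmul]; simp [Algebra.TensorProduct.algebraMap_apply]
      rw [h1]
      exact Ideal.mul_mem_right _ _ (map_mem I (IsScalarTower.toAlgHom A A' (A' ⊗[A] B)) ha)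
    | add x y hx hy =>
      obtain ⟨b₁, h₁⟩ := hx
      obtain ⟨b₂, h₂⟩ := hy
      refine ⟨b₁ + b₂, ?_⟩
      have : x + y - 1 ⊗ₜ[A] (b₁ + b₂) = (x - 1 ⊗ₜ[A] b₁) + (y - 1 ⊗ₜ[A] b₂) := by
        rw [TensorProduct.tmul_add]; ring
      rw [this]; exact Ideal.add_mem _ h₁ h₂
  refine ⟨algBC, towABC, ?_, ?_, ?_, ?_⟩
  · haveI : Algebra.Etale B (A' ⊗[A] B) :=
      Algebra.Etale.of_equiv (Algebra.TensorProduct.commRight A B A')
    haveI : Algebra.Etale (A' ⊗[A] B) C :=
      Algebra.Etale.of_isLocalizationAway (eb * (1 ⊗ₜ[A] gB))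
    exact Algebra.Etale.comp B (A' ⊗[A] B) C
  · haveI hint_C : Algebra.IsIntegral A' C := ⟨fun c => by
      obtain ⟨x, k, rfl⟩ := hrepr c
      exact (hint_all x).mul (hint_hb.pow k)⟩
    haveI := IsLocalization.Away.finitePresentation (R := A' ⊗[A] B) (S := C)
      (eb * (1 ⊗ₜ[A] gB))
    haveI : Algebra.FiniteType A' C :=
      Algebra.FiniteType.trans (inferInstance : Algebra.FiniteType A' (A' ⊗[A] B)) inferInstance
    exact Algebra.IsIntegral.finite
  · intro z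
    obtain ⟨c, rfl⟩ := Ideal.Quotient.mk_surjective z
    obtain ⟨x, k, rfl⟩ := hrepr c
    obtain ⟨b, hb'⟩ := hS1 x
    refine ⟨b, ?_⟩
    show Ideal.Quotient.mk _ (loc (1 ⊗ₜ[A] b)) = Ideal.Quotient.mk _ (loc x * (loc hb) ^ k)
    rw [Ideal.Quotient.eq]
    have h2 : loc (1 ⊗ₜ[A] b) - loc x * (loc hb) ^ k =
        -(loc x * ((loc hb) ^ k - 1) + loc (x - 1 ⊗ₜ[A] b)) := by
      rw [map_sub]; ring
    rw [h2]
    exact neg_mem (Ideal.add_mem _ (Ideal.mul_mem_left _ _ (pow_sub_one_mem _ hlochb1 k))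
      (hloc_mem _ hb'))
  · obtain ⟨σ, -⟩ := hQ.exists_sigma
    obtain ⟨f₁, hf₁⟩ : ∃ f : A' →ₐ[A] (B ⧸ I.map (algebraMap A B)), f =
      (Ideal.quotientMapₐ (I.map (algebraMap A B)) (Algebra.ofId A B)
        Ideal.le_comap_map).comp σ := ⟨_, rfl⟩
    obtain ⟨ρ, hρ⟩ : ∃ ρ : A' ⊗[A] B →ₐ[A] (B ⧸ I.map (algebraMap A B)), ρ =
      Algebra.TensorProduct.productMap f₁ (Ideal.Quotient.mkₐ A (I.map (algebraMap A B))) :=
      ⟨_, rfl⟩
    have hρ1 : ∀ b : B, ρ (1 ⊗ₜ[A] b) = Ideal.Quotient.mk _ b := by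
      intro b
      rw [hρ, Algebra.TensorProduct.productMap_apply_tmul, map_one, one_mul]
      rfl
    have hbot : I.map (algebraMap A (B ⧸ I.map (algebraMap A B))) = ⊥ := by
      rw [eq_bot_iff, Ideal.map_le_iff_le_comap]
      intro a ha
      rw [Ideal.mem_comap, Ideal.mem_bot,
        IsScalarTower.algebraMap_apply A B (B ⧸ I.map (algebraMap A B)),
        Ideal.Quotient.algebraMap_eq, Ideal.Quotient.eq_zero_iff_mem]
      exact Ideal.mem_map_of_mem _ ha
    have hρI : ∀ x ∈ I.map (algebraMap A (A' ⊗[A] B)), ρ x = 0 := by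
      intro x hx
      have := map_mem I ρ hx
      rwa [hbot, Ideal.mem_bot] at this
    have hρu : ρ (eb * (1 ⊗ₜ[A] gB)) = 1 := by
      have := hρI _ hu1
      rwa [map_sub, map_one, sub_eq_zero] at this
    obtain ⟨ρC, hρC⟩ : ∃ ρC : C →+* (B ⧸ I.map (algebraMap A B)), ∀ x, ρC (loc x) = ρ x :=
      ⟨IsLocalization.Away.lift (eb * (1 ⊗ₜ[A] gB)) (g := (ρ : A' ⊗[A] B →+* _)) (by
          show IsUnit (ρ (eb * (1 ⊗ₜ[A] gB))); rw [hρu]; exact isUnit_one),
        fun x => IsLocalization.Away.lift_eq _ _ x⟩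
    have hIC : I.map (algebraMap A C) ≤ RingHom.ker ρC := by
      rw [Ideal.map_le_iff_le_comap]
      intro a ha
      rw [Ideal.mem_comap, RingHom.mem_ker, IsScalarTower.algebraMap_apply A (A' ⊗[A] B) C, hρC]
      exact hρI _ (Ideal.mem_map_of_mem _ ha)
    ext b
    rw [RingHom.mem_ker, RingHom.comp_apply, Ideal.Quotient.eq_zero_iff_mem]
    constructor
    · intro hb'
      have h1 := hIC hb'
      rw [RingHom.mem_ker] at h1
      have h2 : ρC (algebraMap B C b) = ρ (1 ⊗ₜ[A] b) := hρC _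
      rw [h2, hρ1, Ideal.Quotient.eq_zero_iff_mem] at h1
      exact h1
    · intro hb'
      exact map_mem I (IsScalarTower.toAlgHom A B C) hb'

end final

/-- Let A be a commutative ring, I an ideal of A and B an A-algebra of finite type such that B/IB is a
finite A-module. Then there exist an etale A-algebra A' such that A → A'/IA' is surjective with
kernel I, and a commutative ring C which is an A'-algebra finite over A' and an etale B-algebra,
with compatible A-algebra structures, such that B → C/IC is surjective with kernel IB. In scheme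
language: an etale affine neighbourhood S' of Spec (A/I) in Spec A and an etale neighbourhood Z =
Spec C of Spec (B/IB) in Spec B, finite over S', forming a commutative square. -/
theorem result
    (A : Type u) [CommRing A] (I : Ideal A) (B : Type u) [CommRing B] [Algebra A B] [Algebra.FiniteType A B]
    (hfin : Module.Finite A (B ⧸ Ideal.map (algebraMap A B) I)) :
    ∃ (A' : Type u) (_ : CommRing A') (_ : Algebra A A') (_ : Algebra.Etale A A')
      (C : Type u) (_ : CommRing C) (_ : Algebra A C) (_ : Algebra A' C) (_ : Algebra B C)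
      (_ : IsScalarTower A A' C) (_ : IsScalarTower A B C),
      Function.Surjective ((Ideal.Quotient.mk (Ideal.map (algebraMap A A') I)).comp (algebraMap A A')) ∧
      RingHom.ker ((Ideal.Quotient.mk (Ideal.map (algebraMap A A') I)).comp (algebraMap A A')) = I ∧
      Algebra.Etale B C ∧ Module.Finite A' C ∧
      Function.Surjective ((Ideal.Quotient.mk (Ideal.map (algebraMap A C) I)).comp (algebraMap B C)) ∧
      RingHom.ker ((Ideal.Quotient.mk (Ideal.map (algebraMap A C) I)).comp (algebraMap B C)) =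
        Ideal.map (algebraMap A B) I := by
  obtain ⟨g, hg1, hg2, hg3⟩ := step1 I B hfin
  obtain ⟨A', _, _, _, hQ, e', h, he', he'g, hunit⟩ := exists_nbhd_unit I g hg1
  obtain ⟨ι, hι⟩ : ∃ ι : A' ⊗[A] integralClosure A B →ₐ[A'] A' ⊗[A] B, ι =
    Algebra.TensorProduct.map (AlgHom.id A' A') (integralClosure A B).val := ⟨_, rfl⟩
  have hι1 : ι (1 ⊗ₜ[A] g) = 1 ⊗ₜ[A] (g : B) := by rw [hι]; simp
  have hebg : ι e' - 1 ⊗ₜ[A] (g : B) ∈ I.map (algebraMap A (A' ⊗[A] B)) := by
    have := map_mem I (ι.restrictScalars A) he'g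
    rwa [AlgHom.restrictScalars_apply, map_sub, hι1] at this
  have hunit' : ι e' * (1 ⊗ₜ[A] (g : B)) * ι h = ι e' := by
    have := congrArg ι hunit
    rwa [map_mul, map_mul, hι1] at this
  have hhb : IsIntegral A' (ι h) := (Algebra.IsIntegral.isIntegral h).map ι
  obtain ⟨algBC, tow, h1, h2, h3, h4⟩ := final I B A' (g : B) (ι e') (ι h)
    (Localization.Away (ι e' * (1 ⊗ₜ[A] (g : B)))) hQ hg2 hg3 (he'.map ι) hebg hunit' hhb
  have hQ' := (quotBij_iff I A').mp hQ
  refine ⟨A', inferInstance, inferInstance, inferInstance,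
    Localization.Away (ι e' * (1 ⊗ₜ[A] (g : B))), inferInstance, inferInstance, inferInstance,
    algBC, inferInstance, tow, ?_, ?_, h1, h2, h3, h4⟩
  · intro z
    obtain ⟨x, rfl⟩ := Ideal.Quotient.mk_surjective z
    obtain ⟨a, ha⟩ := hQ'.1 x
    refine ⟨a, ?_⟩
    rw [RingHom.comp_apply, Ideal.Quotient.eq]
    have : algebraMap A A' a - x = -(x - algebraMap A A' a) := by ring
    rw [this]; exact neg_mem ha
  · ext a
    rw [RingHom.mem_ker, RingHom.comp_apply, Ideal.Quotient.eq_zero_iff_mem]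
    exact ⟨hQ'.2 a, fun ha => Ideal.mem_map_of_mem _ ha⟩

end Groth.Agent.S17976
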