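import Groth.Statements.S17977
import Mathlib

set_option autoImplicit false
universe u
open EGA4loc

namespace Groth.Agent.S17977

/-- Let A be a local ring, B a local ring which is a local-etale A-algebra, and C a local ring with a
local structure map A → C. Then every A-algebra homomorphism B → C is local. (The source states this
for local ind-etale B, i.e. filtered colimits of local-etale algebras along local maps, and reduces
at once to the local-etale case stated here.) -/
theorem result (A : Type u) [CommRing A] [IsLocalRing A]
    (B : Type u) [CommRing B] [IsLocalRing B] [Algebra A B] (hB : EGA4loc.IsEssentiallyEtale A B)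
    (C : Type u) [CommRing C] [IsLocalRing C] [Algebra A C] [IsLocalHom (algebraMap A C)]
    (φ : B →ₐ[A] C) : IsLocalHom φ.toRingHom := by
  classical
  obtain ⟨C', _, _, q, _, hEt, hq, ⟨e⟩⟩ := hB
  have hfu : Algebra.FormallyUnramified A (Localization.AtPrime q) :=
    haveI : Algebra.FormallyUnramified C' (Localization.AtPrime q) :=
      Algebra.FormallyUnramified.of_isLocalization q.primeCompl
    Algebra.FormallyUnramified.comp A C' (Localization.AtPrime q)
  have hft : Algebra.EssFiniteType A (Localization.AtPrime q) :=
    haveI : Algebra.EssFiniteType C' (Localization.AtPrime q) :=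
      Algebra.EssFiniteType.of_isLocalization _ q.primeCompl
    Algebra.EssFiniteType.comp A C' (Localization.AtPrime q)
  have hloc : IsLocalHom (algebraMap A (Localization.AtPrime q)) := by
    constructor
    intro a ha
    by_contra hna
    have h1 : a ∈ IsLocalRing.maximalIdeal A := (IsLocalRing.mem_maximalIdeal _).mpr hna
    rw [← hq, Ideal.mem_comap] at h1
    have h2 : algebraMap C' (Localization.AtPrime q) (algebraMap A C' a) ∈
        IsLocalRing.maximalIdeal (Localization.AtPrime q) :=
      (IsLocalization.AtPrime.to_map_mem_maximal_iff (Localization.AtPrime q) q _).mpr h1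
    rw [← IsScalarTower.algebraMap_apply] at h2
    exact (IsLocalRing.mem_maximalIdeal _).mp h2 ha
  have hmax : (IsLocalRing.maximalIdeal A).map (algebraMap A (Localization.AtPrime q)) =
      IsLocalRing.maximalIdeal (Localization.AtPrime q) :=
    Algebra.FormallyUnramified.map_maximalIdeal
  have hAC : (IsLocalRing.maximalIdeal A).map (algebraMap A C) ≤ IsLocalRing.maximalIdeal C :=
    ((IsLocalRing.local_hom_TFAE (algebraMap A C)).out 0 2 rfl rfl).mp ‹_›
  constructor
  intro b hb
  -- transport to the localization
  have hs : IsUnit (e b) := by
    by_contra hns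
    have h1 : e b ∈ IsLocalRing.maximalIdeal (Localization.AtPrime q) :=
      (IsLocalRing.mem_maximalIdeal _).mpr hns
    rw [← hmax] at h1
    have hle : (IsLocalRing.maximalIdeal A).map (algebraMap A (Localization.AtPrime q)) ≤
        (IsLocalRing.maximalIdeal C).comap (φ.comp e.symm.toAlgHom).toRingHom := by
      rw [Ideal.map_le_iff_le_comap]
      intro a ha
      rw [Ideal.mem_comap, Ideal.mem_comap]
      have : (φ.comp e.symm.toAlgHom).toRingHom (algebraMap A (Localization.AtPrime q) a) =
          algebraMap A C a := (φ.comp e.symm.toAlgHom).commutes a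
      rw [this]
      exact hAC (Ideal.mem_map_of_mem _ ha)
    have h3 := hle h1
    rw [Ideal.mem_comap] at h3
    have h4 : (φ.comp e.symm.toAlgHom).toRingHom (e b) = φ b := by
      simp
    rw [h4] at h3
    exact (IsLocalRing.mem_maximalIdeal _).mp h3 hb
  have := hs.map e.symm
  simpa using this

end Groth.Agent.S17977
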