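import Groth.Statements.S17978
import Mathlib

set_option autoImplicit false
universe u
open EGA4loc

namespace Groth.Agent.S17978


open scoped TensorProduct in
/-- Two algebra maps out of a formally unramified algebra, essentially of finite type, into a local
ring which agree modulo the maximal ideal are equal. -/
theorem eq_of_residue_comp_eq {A : Type u} [CommRing A] {S : Type u} [CommRing S] [Algebra A S]
    [Algebra.FormallyUnramified A S] [Algebra.EssFiniteType A S]
    {C : Type u} [CommRing C] [IsLocalRing C] [Algebra A C]
    (u v : S →ₐ[A] C)
    (huv' : ∀ b : S, v b - u b ∈ IsLocalRing.maximalIdeal C) : u = v := by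
  classical
  obtain ⟨t, ht1, ht2⟩ := Algebra.FormallyUnramified.iff_exists_tensorProduct.mp
    (inferInstance : Algebra.FormallyUnramified A S)
  have key : ∀ x : TensorProduct A S S, Algebra.TensorProduct.productMap u v x -
      u (Algebra.TensorProduct.lmul' A x) ∈ IsLocalRing.maximalIdeal C := by
    intro x
    induction x using TensorProduct.induction_on with
    | zero => simp
    | tmul a b =>
      rw [Algebra.TensorProduct.productMap_apply_tmul, Algebra.TensorProduct.lmul'_apply_tmul,
        map_mul, ← mul_sub]
      exact Ideal.mul_mem_left _ _ (huv' b)
    | add x y hx hy =>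
      rw [map_add, map_add, map_add, add_sub_add_comm]
      exact Ideal.add_mem _ hx hy
  have hunit : IsUnit (Algebra.TensorProduct.productMap u v t) := by
    by_contra h
    have h0 : Algebra.TensorProduct.productMap u v t ∈ IsLocalRing.maximalIdeal C :=
      (IsLocalRing.mem_maximalIdeal _).mpr h
    have h1 := key t
    rw [ht2, map_one] at h1
    have := Ideal.sub_mem _ h0 h1
    rw [sub_sub_cancel] at this
    exact (Ideal.IsPrime.ne_top inferInstance) ((Ideal.eq_top_iff_one _).mpr this)
  ext b
  have h1 : Algebra.TensorProduct.productMap u v
      (((1 : S) ⊗ₜ[A] b - b ⊗ₜ[A] (1 : S)) * t) = 0 := by rw [ht1, map_zero]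
  rw [map_mul, map_sub, Algebra.TensorProduct.productMap_apply_tmul,
    Algebra.TensorProduct.productMap_apply_tmul, map_one, map_one, one_mul, mul_one,
    hunit.mul_left_eq_zero, sub_eq_zero] at h1
  exact h1.symm

/-- Let A be a local ring, B a local ring which is a local-etale A-algebra, and C a local ring with a
local structure map A → C. Then two A-algebra homomorphisms B → C which agree after composition with
the residue map of C are equal; in other words an A-algebra map B → C is determined by the map it
induces on residue fields. (The source states this for local ind-etale B and reduces to the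
local-etale case stated here; C is an arbitrary local A-algebra with local structure map.) -/
theorem result (A : Type u) [CommRing A] [IsLocalRing A]
    (B : Type u) [CommRing B] [IsLocalRing B] [Algebra A B] (hB : EGA4loc.IsEssentiallyEtale A B)
    (C : Type u) [CommRing C] [IsLocalRing C] [Algebra A C] [IsLocalHom (algebraMap A C)]
    (u v : B →ₐ[A] C)
    (h : (IsLocalRing.residue C).comp u.toRingHom = (IsLocalRing.residue C).comp v.toRingHom) :
    u = v := by
  classical
  obtain ⟨C', _, _, q, _, hEt, hq, ⟨e⟩⟩ := hB
  have hfu : Algebra.FormallyUnramified A (Localization.AtPrime q) :=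
    haveI : Algebra.FormallyUnramified C' (Localization.AtPrime q) :=
      Algebra.FormallyUnramified.of_isLocalization q.primeCompl
    Algebra.FormallyUnramified.comp A C' (Localization.AtPrime q)
  have hft : Algebra.EssFiniteType A (Localization.AtPrime q) :=
    haveI : Algebra.EssFiniteType C' (Localization.AtPrime q) :=
      Algebra.EssFiniteType.of_isLocalization _ q.primeCompl
    Algebra.EssFiniteType.comp A C' (Localization.AtPrime q)
  have huv' : ∀ b : B, v b - u b ∈ IsLocalRing.maximalIdeal C := by
    intro b
    have := congrArg (fun f => f b) h
    simp only [RingHom.coe_comp, Function.comp_apply] at this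
    rw [← IsLocalRing.residue_eq_zero_iff, map_sub, sub_eq_zero]
    exact this.symm
  have key := eq_of_residue_comp_eq (u.comp e.symm.toAlgHom) (v.comp e.symm.toAlgHom)
    (fun b => huv' (e.symm b))
  ext b
  have := congrArg (fun f => f (e b)) key
  simpa using this

end Groth.Agent.S17978
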