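import Groth.Statements.S17979
import Mathlib

set_option autoImplicit false
universe u
open Hensel

namespace Groth.Agent.S17979

/-- Let A be a local ring with residue field k and Q, R polynomials over A with Q monic. If the images
of Q and R in k[T] generate the unit ideal, then Q and R already generate the unit ideal of A[T]. -/
theorem result (A : Type u) [CommRing A] [IsLocalRing A]
    (Q R : Polynomial A) (hQ : Q.Monic)
    (h : IsCoprime (Polynomial.map (IsLocalRing.residue A) Q) (Polynomial.map (IsLocalRing.residue A) R)) :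
    IsCoprime Q R := by
  classical
  -- it is enough to show that the class of `R` is a unit in `A[T]/(Q)`
  suffices hu : IsUnit (AdjoinRoot.mk Q R) by
    obtain ⟨w, hw⟩ := hu.exists_right_inv
    obtain ⟨b, rfl⟩ := AdjoinRoot.mk_surjective w
    rw [← map_mul, ← map_one (AdjoinRoot.mk Q), AdjoinRoot.mk_eq_mk] at hw
    obtain ⟨a, ha⟩ := hw
    refine ⟨-a, b, ?_⟩
    linear_combination ha
  by_contra hnu
  obtain ⟨𝔫, h𝔫, hr⟩ := exists_max_ideal_of_mem_nonunits (mem_nonunits_iff.mpr hnu)
  have hfin : Module.Finite A (AdjoinRoot Q) := hQ.finite_adjoinRoot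
  have hint : Algebra.IsIntegral A (AdjoinRoot Q) := Algebra.IsIntegral.of_finite A (AdjoinRoot Q)
  have hmax : (𝔫.comap (algebraMap A (AdjoinRoot Q))).IsMaximal :=
    Ideal.isMaximal_comap_of_isIntegral_of_isMaximal (R := A) (S := AdjoinRoot Q) 𝔫
  have hm : 𝔫.comap (algebraMap A (AdjoinRoot Q)) = IsLocalRing.maximalIdeal A :=
    IsLocalRing.eq_maximalIdeal hmax
  obtain ⟨a', b', hab⟩ := h
  obtain ⟨a, rfl⟩ := Polynomial.map_surjective _ IsLocalRing.residue_surjective a'
  obtain ⟨b, rfl⟩ := Polynomial.map_surjective _ IsLocalRing.residue_surjective b'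
  -- g = a Q + b R - 1 has coefficients in the maximal ideal
  have hg : ∀ i : ℕ, (a * Q + b * R - 1).coeff i ∈ IsLocalRing.maximalIdeal A := by
    intro i
    rw [← IsLocalRing.residue_eq_zero_iff, ← Polynomial.coeff_map]
    have : Polynomial.map (IsLocalRing.residue A) (a * Q + b * R - 1) = 0 := by
      rw [Polynomial.map_sub, Polynomial.map_add, Polynomial.map_mul, Polynomial.map_mul,
        Polynomial.map_one, hab, sub_self]
    rw [this, Polynomial.coeff_zero]
  have hmem : (a * Q + b * R - 1) ∈ 𝔫.comap (AdjoinRoot.mk Q) := by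
    apply Ideal.polynomial_mem_ideal_of_coeff_mem_ideal
    intro i
    rw [Ideal.mem_comap, Ideal.mem_comap, AdjoinRoot.mk_C]
    have := hg i
    rw [← hm, Ideal.mem_comap] at this
    exact this
  rw [Ideal.mem_comap, map_sub, map_add, map_mul, map_mul, AdjoinRoot.mk_self, mul_zero,
    zero_add, map_one] at hmem
  have h1 : (1 : AdjoinRoot Q) ∈ 𝔫 := by
    have h2 : (AdjoinRoot.mk Q) b * (AdjoinRoot.mk Q) R ∈ 𝔫 := Ideal.mul_mem_left _ _ hr
    have := Ideal.sub_mem _ h2 hmem
    simpa using this
  exact h𝔫.ne_top ((Ideal.eq_top_iff_one _).mpr h1)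

end Groth.Agent.S17979
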