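import Groth.Statements.S1798
import Groth.Agent.Lib.Lead.HomExt5
import Groth.Agent.Lib.Helper3.LocFreeCrit

set_option linter.style.haveILetI false

set_option autoImplicit false
universe u
open CategoryTheory AlgebraicGeometry
open LocCoh

namespace Groth.Agent.S1798

open Groth.Agent.Lib.Lead.HomExt Groth.Agent.Lib.Helper3 Groth.Agent.Lib.Helper3.QCSec
  Groth.Agent.Lib.Helper3.FreeBasis TopologicalSpace Opposite

section aux

variable (A : Type u) [CommRing A] (I : Ideal A)

/-- the global function on the punctured open attached to an element of `A` -/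
noncomputable abbrev τ (g : A) : Γ((↑(puncturedOpen A I) : Scheme.{u}), ⊤) :=
  Coh.toGlobal (puncturedOpen A I).ι g

theorem basicOpen_τ (g : A) :
    (↑(puncturedOpen A I) : Scheme.{u}).basicOpen (τ A I g) =
      (puncturedOpen A I).ι ⁻¹ᵁ (PrimeSpectrum.basicOpen g : (Spec (CommRingCat.of A)).Opens) := by
  rw [← basicOpen_eq_of_affine (R := CommRingCat.of A) g, Scheme.preimage_basicOpen_top]
  rfl

theorem isAffineOpen_basicOpen_τ (g : A)
    (hg : (PrimeSpectrum.basicOpen g : (Spec (CommRingCat.of A)).Opens) ≤ puncturedOpen A I) :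
    IsAffineOpen ((↑(puncturedOpen A I) : Scheme.{u}).basicOpen (τ A I g)) := by
  rw [basicOpen_τ]
  have hle : (PrimeSpectrum.basicOpen g : (Spec (CommRingCat.of A)).Opens) ≤
      (puncturedOpen A I).ι.opensRange := by
    rw [Scheme.Opens.opensRange_ι]
    exact hg
  have haff : IsAffineOpen (X := Spec (CommRingCat.of A)) (PrimeSpectrum.basicOpen g) :=
    IsAffineOpen.Spec_basicOpen (R := CommRingCat.of A) g
  exact haff.preimage_of_isOpenImmersion (puncturedOpen A I).ι hle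

theorem local_data (F : (↑(puncturedOpen A I) : Scheme.{u}).Modules) (hF : FlatMod.IsFinLocFree F)
    (x : (↑(puncturedOpen A I) : Scheme.{u})) :
    ∃ g : A, (PrimeSpectrum.basicOpen g : (Spec (CommRingCat.of A)).Opens) ≤ puncturedOpen A I ∧
      x ∈ (↑(puncturedOpen A I) : Scheme.{u}).basicOpen (τ A I g) ∧
      ∃ (n : ℕ) (e : Fin n → Γ(F, (↑(puncturedOpen A I) : Scheme.{u}).basicOpen (τ A I g))),
        IsBasis F _ e := by
  obtain ⟨V, n, e, hxV, hb⟩ := LocFreeCrit.isFinLocFree_iff.mp hF x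
  have hx' : (puncturedOpen A I).ι x ∈ (puncturedOpen A I).ι ''ᵁ V := ⟨x, hxV, rfl⟩
  obtain ⟨U', ⟨g, rfl⟩, hxg, hgV⟩ := Opens.isBasis_iff_nbhd.mp
    (PrimeSpectrum.isBasis_basic_opens (R := A)) hx'
  have hle : (↑(puncturedOpen A I) : Scheme.{u}).basicOpen (τ A I g) ≤ V := by
    rw [basicOpen_τ]
    intro y hy
    obtain ⟨z, hz, hzy⟩ := hgV hy
    have : z = y := (puncturedOpen A I).ι.isOpenEmbedding.injective hzy
    exact this ▸ hz
  refine ⟨g, hgV.trans ((puncturedOpen A I).ι_image_le V), ?_, n, fun i => res F hle (e i),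
    hb.mono hle⟩
  rw [basicOpen_τ]
  exact hxg

end aux

/-- Let A be a ring, J ⊆ I finitely generated ideals, U the open complement of V(I) in Spec A and p ≥ 0.
If some power of J kills H^p(U, O_U), then for each finite locally free O_U-module F some power of J
kills H^p(U, F). -/
theorem result (A : Type u) [CommRing A] (J I : Ideal A) (hJI : J ≤ I) (hJ : J.FG) (hI : I.FG) (p n : ℕ) (hO : ∀ a ∈ J ^ n, ∀ x : Coh.HH (↑(LocCoh.puncturedOpen A I)) (Coh.structureModule (↑(LocCoh.puncturedOpen A I))) p, a • x = 0) (F : (↑(LocCoh.puncturedOpen A I) : Scheme.{u}).Modules) (hF : FlatMod.IsFinLocFree F) : ∃ m : ℕ, ∀ a ∈ J ^ m, ∀ x : Coh.HH (↑(LocCoh.puncturedOpen A I)) F p, a • x = 0 := by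
  classical
  haveI : F.IsQuasicoherent := LocFreeCrit.isQuasicoherent_of_isFinLocFree hF
  have hUc : IsCompact ((puncturedOpen A I : (Spec (CommRingCat.of A)).Opens) :
      Set (Spec (CommRingCat.of A))) :=
    (PrimeSpectrum.isCompact_isOpen_iff_ideal.mpr ⟨I, hI, rfl⟩).1
  haveI : CompactSpace (↑(puncturedOpen A I) : Scheme.{u}) := isCompact_iff_compactSpace.mp hUc
  choose g hgU hxg r e hb using local_data A I F hF
  obtain ⟨t, ht⟩ := isCompact_univ.elim_finite_subcover
    (fun x : (↑(puncturedOpen A I) : Scheme.{u}) =>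
      (((↑(puncturedOpen A I) : Scheme.{u}).basicOpen (τ A I (g x)) :
        (↑(puncturedOpen A I) : Scheme.{u}).Opens) : Set (↑(puncturedOpen A I) : Scheme.{u})))
    (fun x => ((↑(puncturedOpen A I) : Scheme.{u}).basicOpen (τ A I (g x))).2)
    (fun x _ => Set.mem_iUnion.mpr ⟨x, hxg x⟩)
  let c : Charts F (t : Type u) :=
    { W := fun k => (↑(puncturedOpen A I) : Scheme.{u}).basicOpen (τ A I (g k.1))
      aff := fun k => isAffineOpen_basicOpen_τ A I (g k.1) (hgU k.1)
      inter := fun k l => by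
        have h1 : (↑(puncturedOpen A I) : Scheme.{u}).basicOpen (τ A I (g k.1)) ⊓
            (↑(puncturedOpen A I) : Scheme.{u}).basicOpen (τ A I (g l.1)) =
            (↑(puncturedOpen A I) : Scheme.{u}).basicOpen (τ A I (g k.1 * g l.1)) := by
          rw [← Scheme.basicOpen_mul]
          congr 1
          exact (map_mul (Coh.toGlobal (puncturedOpen A I).ι) _ _).symm
        rw [h1]
        exact (isAffineOpen_basicOpen_τ A I (g k.1 * g l.1)
          ((PrimeSpectrum.basicOpen_mul_le_left _ _).trans (hgU k.1))).isCompact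
      cov := fun V y _ => by
        obtain ⟨x, hx⟩ := Set.mem_iUnion.mp (ht (Set.mem_univ y))
        obtain ⟨hxt, hyx⟩ := Set.mem_iUnion.mp hx
        exact Opens.mem_iSup.mpr ⟨⟨x, hxt⟩, hyx⟩
      n := fun k => r k.1
      e := fun k => e k.1
      basis := fun k => hb k.1 }
  have key : ∀ k : (t : Type u), ∃ L : ℕ, ∀ s ∈ J ^ n,
      ∀ x : Coh.HH (↑(puncturedOpen A I)) F p, (s * g k.1 ^ L) • x = 0 := by
    intro k
    obtain ⟨L, bb, aa, h⟩ := exists_trace c (τ A I (g k.1)) (e k.1) (hb k.1)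
    refine ⟨L, fun s hs x => ?_⟩
    have h1 := smul_smulTop_eq_zero A p bb aa
      (Coh.toGlobal (puncturedOpen A I).ι (g k.1) ^ L) h s (hO s hs) x
    have h2 : (s * g k.1 ^ L) • x =
        s • ((Coh.toGlobal (puncturedOpen A I).ι (g k.1)) ^ L • x) := by
      change Coh.toGlobal (puncturedOpen A I).ι (s * g k.1 ^ L) • x =
        Coh.toGlobal (puncturedOpen A I).ι s •
          ((Coh.toGlobal (puncturedOpen A I).ι (g k.1)) ^ L • x)
      rw [map_mul, map_pow, mul_smul]
    rw [h2, h1]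
  choose L hL using key
  let 𝔟 : Ideal A := Ideal.span (Set.range fun k : (t : Type u) => g k.1 ^ L k)
  have h𝔟 : ∀ b ∈ 𝔟, ∀ s ∈ J ^ n, ∀ x : Coh.HH (↑(puncturedOpen A I)) F p, (s * b) • x = 0 := by
    intro b hb'
    refine Submodule.span_induction ?_ ?_ ?_ ?_ hb'
    · rintro _ ⟨k, rfl⟩ s hs x
      exact hL k s hs x
    · intro s _ x
      rw [mul_zero, zero_smul]
    · intro b₁ b₂ _ _ h₁ h₂ s hs x
      rw [mul_add, add_smul, h₁ s hs x, h₂ s hs x, add_zero]
    · intro a b₁ _ h₁ s hs x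
      rw [smul_eq_mul, mul_left_comm, mul_smul, h₁ s hs x, smul_zero]
  have hrad : I ≤ 𝔟.radical := by
    rw [Ideal.radical_eq_sInf]
    intro a ha
    rw [Ideal.mem_sInf]
    rintro P ⟨h𝔟P, hP⟩
    by_contra haP
    have hPU : (⟨P, hP⟩ : PrimeSpectrum A) ∈
        ((puncturedOpen A I : (Spec (CommRingCat.of A)).Opens) : Set (Spec (CommRingCat.of A))) := by
      intro hz
      exact haP (hz ha)
    let y : (↑(puncturedOpen A I) : Scheme.{u}) := ⟨⟨P, hP⟩, hPU⟩
    obtain ⟨x, hx⟩ := Set.mem_iUnion.mp (ht (Set.mem_univ y))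
    obtain ⟨hxt, hyx⟩ := Set.mem_iUnion.mp hx
    have hyx' : y ∈ (↑(puncturedOpen A I) : Scheme.{u}).basicOpen (τ A I (g x)) := hyx
    rw [basicOpen_τ] at hyx'
    have h1 : g x ∉ P := hyx'
    have h2 : g x ^ L ⟨x, hxt⟩ ∈ P := h𝔟P (Ideal.subset_span ⟨⟨x, hxt⟩, rfl⟩)
    exact h1 (hP.mem_of_pow_mem _ h2)
  obtain ⟨m, hm⟩ := Ideal.exists_pow_le_of_le_radical_of_fg (hJI.trans hrad) hJ
  refine ⟨n + m, fun a ha x => ?_⟩
  rw [pow_add] at ha
  refine Submodule.mul_induction_on ha ?_ ?_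
  · intro s hs b hb'
    exact h𝔟 b (hm hb') s hs x
  · intro a₁ a₂ h₁ h₂
    rw [add_smul, h₁, h₂, add_zero]

end Groth.Agent.S1798
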