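import Groth.Statements.S17980
import Mathlib
import Groth.Agent.S17979

set_option autoImplicit false
universe u
open Hensel

namespace Groth.Agent.S17980

/-- Let A be a local ring with residue field k, and let Q R = U V be two factorizations of one
polynomial over A with Q and U monic, such that Q and U have the same image in k[T], R and V have
the same image in k[T], and the images of Q and R in k[T] generate the unit ideal. Then Q = U and R
= V. -/
theorem result (A : Type u) [CommRing A] [IsLocalRing A]
    (Q R U V : Polynomial A) (hQ : Q.Monic) (hU : U.Monic)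
    (hQU : Polynomial.map (IsLocalRing.residue A) Q = Polynomial.map (IsLocalRing.residue A) U)
    (hRV : Polynomial.map (IsLocalRing.residue A) R = Polynomial.map (IsLocalRing.residue A) V)
    (hcop : IsCoprime (Polynomial.map (IsLocalRing.residue A) Q) (Polynomial.map (IsLocalRing.residue A) R))
    (h : Q * R = U * V) : Q = U ∧ R = V := by
  classical
  have hQV : IsCoprime Q V := Groth.Agent.S17979.result A Q V hQ (by rw [← hRV]; exact hcop)
  have hdvd : Q ∣ U := by
    have : Q ∣ U * V := ⟨R, h.symm⟩
    exact hQV.dvd_of_dvd_mul_right this
  have hdeg : U.natDegree ≤ Q.natDegree := by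
    have h1 := hQ.natDegree_map (IsLocalRing.residue A)
    have h2 := hU.natDegree_map (IsLocalRing.residue A)
    rw [← h1, ← h2, hQU]
  have hQU' : U = Q := Polynomial.eq_of_monic_of_dvd_of_natDegree_le hQ hU hdvd hdeg
  refine ⟨hQU'.symm, ?_⟩
  rw [hQU'] at h
  exact hQ.isRegular.left h

end Groth.Agent.S17980
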