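import Groth.Statements.S17981
import Mathlib

set_option autoImplicit false
universe u
open Hensel

namespace Groth.Agent.S17981

/-- Let A be a commutative ring, I an ideal contained in the Jacobson radical of A, and B a commutative
A-algebra which is finitely generated as an A-module. Then two idempotents of B with the same image
in B/IB are equal. -/
theorem result (A : Type u) [CommRing A] (I : Ideal A)
    (hI : I ≤ Ideal.jacobson ⊥) (B : Type u) [CommRing B] [Algebra A B] [Module.Finite A B] :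
    Set.InjOn (Ideal.Quotient.mk (Ideal.map (algebraMap A B) I)) {e : B | IsIdempotentElem e} := by
  classical
  have hIB : Ideal.map (algebraMap A B) I ≤ Ideal.jacobson (⊥ : Ideal B) := by
    rw [Ideal.map_le_iff_le_comap]
    intro a ha
    rw [Ideal.mem_comap, Ideal.jacobson, Ideal.mem_sInf]
    rintro J ⟨-, hJ⟩
    have : J.IsMaximal := hJ
    have hmax : (J.comap (algebraMap A B)).IsMaximal :=
      Ideal.isMaximal_comap_of_isIntegral_of_isMaximal (R := A) (S := B) J
    have : a ∈ J.comap (algebraMap A B) := by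
      have h1 : a ∈ Ideal.jacobson (⊥ : Ideal A) := hI ha
      rw [Ideal.jacobson, Ideal.mem_sInf] at h1
      exact h1 ⟨bot_le, hmax⟩
    exact this
  intro e₁ he₁ e₂ he₂ h
  have he₁' : e₁ * e₁ = e₁ := he₁
  have he₂' : e₂ * e₂ = e₂ := he₂
  have hd : e₁ - e₂ ∈ Ideal.jacobson (⊥ : Ideal B) := by
    apply hIB
    rw [← Ideal.Quotient.eq]
    exact h
  have hd2 : -((e₁ - e₂) * (e₁ - e₂)) ∈ Ideal.jacobson (⊥ : Ideal B) :=
    neg_mem (Ideal.mul_mem_left _ _ hd)
  have hu : IsUnit (1 - (e₁ - e₂) * (e₁ - e₂)) := by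
    apply Ideal.isUnit_of_sub_one_mem_jacobson_bot
    have : 1 - (e₁ - e₂) * (e₁ - e₂) - 1 = -((e₁ - e₂) * (e₁ - e₂)) := by ring
    rw [this]; exact hd2
  have hz : (e₁ - e₂) * (1 - (e₁ - e₂) * (e₁ - e₂)) = 0 := by
    have : (e₁ - e₂) * (1 - (e₁ - e₂) * (e₁ - e₂))
        = (e₁ - e₂) - (e₁ * e₁ * e₁ - 3 * (e₁ * e₁) * e₂ + 3 * e₁ * (e₂ * e₂) - e₂ * e₂ * e₂) := by ring
    rw [this, he₁', he₁', he₂', he₂']
    have : e₁ - e₂ - (e₁ - 3 * e₁ * e₂ + 3 * e₁ * e₂ - e₂) = 0 := by ring
    exact this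
  have := hu.mul_left_eq_zero.mp hz
  exact sub_eq_zero.mp this

end Groth.Agent.S17981
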