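import Groth.Statements.S17982
import Mathlib

set_option autoImplicit false
universe u
open Hensel

namespace Groth.Agent.S17982

theorem pi_surjective {ι : Type*} [Fintype ι] (C : ι → Type*) [∀ j, CommRing (C j)]
    [∀ j, IsLocalRing (C j)] :
    Function.Surjective (MaximalSpectrum.toPiLocalization (Π j, C j)) := by
  classical
  intro x
  let n : ι → MaximalSpectrum (Π j, C j) := fun j =>
    ⟨Ideal.comap (Pi.evalRingHom C j) (IsLocalRing.maximalIdeal (C j)),
      Ideal.comap_isMaximal_of_surjective (f := Pi.evalRingHom C j)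
        (fun c => ⟨Pi.single j c, Pi.single_eq_same j c⟩)⟩
  have hn : ∀ I : MaximalSpectrum (Π j, C j), ∃ j, I = n j := by
    intro I
    have h1 : ∃ j, (Pi.single j 1 : Π j, C j) ∉ I.asIdeal := by
      by_contra hcon
      push_neg at hcon
      have hone : (1 : Π j, C j) = ∑ j, Pi.single j 1 :=
        (Finset.univ_sum_single (1 : Π j, C j)).symm
      have : (1 : Π j, C j) ∈ I.asIdeal := by
        rw [hone]
        exact Ideal.sum_mem _ (fun j _ => hcon j)
      exact I.isMaximal.ne_top ((Ideal.eq_top_iff_one _).2 this)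
    obtain ⟨j, hj⟩ := h1
    refine ⟨j, ?_⟩
    have hle : I.asIdeal ≤ (n j).asIdeal := by
      intro y hy
      show y j ∈ IsLocalRing.maximalIdeal (C j)
      rw [IsLocalRing.mem_maximalIdeal, mem_nonunits_iff]
      intro hu
      obtain ⟨v, hv⟩ := hu.exists_right_inv
      apply hj
      have : (Pi.single j 1 : Π j, C j) = Pi.single j v * y := by
        funext i
        by_cases hi : i = j
        · subst hi
          rw [Pi.mul_apply, Pi.single_eq_same, Pi.single_eq_same, mul_comm, hv]
        · rw [Pi.mul_apply, Pi.single_eq_of_ne hi, Pi.single_eq_of_ne hi, zero_mul]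
      rw [this]
      exact Ideal.mul_mem_left _ _ hy
    exact MaximalSpectrum.ext (I.isMaximal.eq_of_le (n j).isMaximal.ne_top hle)
  have hrep : ∀ j, ∃ (a : Π j, C j) (s : (n j).asIdeal.primeCompl),
      x (n j) = IsLocalization.mk' (Localization.AtPrime (n j).asIdeal) a s := fun j => by
    obtain ⟨⟨a, s⟩, h⟩ := IsLocalization.mk'_surjective (n j).asIdeal.primeCompl (x (n j))
    exact ⟨a, s, h.symm⟩
  choose a s hx using hrep
  have hu : ∀ j, IsUnit ((s j : Π j, C j) j) := fun j => by
    have h1 : (s j : Π j, C j) ∉ (n j).asIdeal := (s j).2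
    by_contra hcon
    exact h1 (show (s j : Π j, C j) j ∈ IsLocalRing.maximalIdeal (C j) from
      (IsLocalRing.mem_maximalIdeal _).2 (mem_nonunits_iff.2 hcon))
  choose u hu' using fun j => (hu j).exists_right_inv
  let r : Π j, C j := fun j => a j j * u j
  refine ⟨r, ?_⟩
  funext I
  obtain ⟨j, rfl⟩ := hn I
  rw [hx j]
  show algebraMap (Π j, C j) (Localization.AtPrime (n j).asIdeal) r = _
  rw [IsLocalization.eq_mk'_iff_mul_eq, ← map_mul]
  have he : (Pi.single j 1 : Π j, C j) * (r * (s j : Π j, C j)) = Pi.single j 1 * a j := by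
    funext i
    by_cases hi : i = j
    · subst hi
      simp only [Pi.mul_apply, Pi.single_eq_same, one_mul]
      show a i i * u i * (s i : Π j, C j) i = a i i
      rw [mul_assoc, mul_comm (u i), hu' i, mul_one]
    · simp only [Pi.mul_apply, Pi.single_eq_of_ne hi, zero_mul]
  have hej : (Pi.single j 1 : Π j, C j) ∈ (n j).asIdeal.primeCompl := by
    show (Pi.single j 1 : Π j, C j) ∉ (n j).asIdeal
    intro hmem
    have h2 : (Pi.single j 1 : Π j, C j) j ∈ IsLocalRing.maximalIdeal (C j) := hmem
    rw [Pi.single_eq_same] at h2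
    exact (Ideal.ne_top_iff_one _).1 (IsLocalRing.maximalIdeal.isMaximal (C j)).ne_top h2
  exact (IsLocalization.eq_iff_exists (n j).asIdeal.primeCompl _).2 ⟨⟨_, hej⟩, he⟩

theorem surjective_of_ringEquiv {B : Type*} [CommRing B] {ι : Type*} [Fintype ι]
    (C : ι → Type*) [∀ j, CommRing (C j)] [∀ j, IsLocalRing (C j)]
    (φ : B ≃+* (Π j, C j)) : Function.Surjective (MaximalSpectrum.toPiLocalization B) := by
  classical
  have h1 := MaximalSpectrum.mapPiLocalization_naturality (φ : B →+* (Π j, C j)) φ.bijective
  have h2 := MaximalSpectrum.mapPiLocalization_bijective (φ : B →+* (Π j, C j)) φ.bijective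
  have h3 : Function.Surjective ((MaximalSpectrum.toPiLocalization (Π j, C j)).toRingHom.comp
      (φ : B →+* (Π j, C j))) := by
    rw [RingHom.coe_comp]
    exact (pi_surjective C).comp φ.surjective
  rw [← h1, RingHom.coe_comp] at h3
  exact Function.Surjective.of_comp_left h3 h2.1

/-- Let A be a local ring and B a commutative A-algebra which is finitely generated as an A-module. Then
B is ring-isomorphic to a finite product of local rings if and only if the canonical homomorphism
from B to the product of the localizations of B at its maximal ideals is bijective. -/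
theorem result
    (A : Type u) [CommRing A] [IsLocalRing A] (B : Type u) [CommRing B] [Algebra A B] [Module.Finite A B] :
    (∃ (ι : Type u) (_ : Fintype ι) (C : ι → Type u) (_ : ∀ j, CommRing (C j)),
        (∀ j, IsLocalRing (C j)) ∧ Nonempty (B ≃+* (∀ j, C j))) ↔
    Function.Bijective
      (RingHom.pi (fun n : MaximalSpectrum B => algebraMap B (Localization.AtPrime n.asIdeal))) := by
  have hfun : ⇑(RingHom.pi (fun n : MaximalSpectrum B =>
      algebraMap B (Localization.AtPrime n.asIdeal))) =
      ⇑(MaximalSpectrum.toPiLocalization B) := rfl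
  rw [hfun]
  constructor
  · rintro ⟨ι, hι, C, hC, hloc, ⟨φ⟩⟩
    exact ⟨MaximalSpectrum.toPiLocalization_injective B, surjective_of_ringEquiv C φ⟩
  · intro h
    haveI : Finite (MaximalSpectrum B) :=
      MaximalSpectrum.finite_of_toPiLocalization_surjective h.2
    exact ⟨MaximalSpectrum B, Fintype.ofFinite _, fun n => Localization.AtPrime n.asIdeal,
      fun n => inferInstance, fun n => inferInstance,
      ⟨RingEquiv.ofBijective (MaximalSpectrum.toPiLocalization B) h⟩⟩

end Groth.Agent.S17982
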