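import Groth.Statements.S17983
import Mathlib

set_option autoImplicit false
universe u
open WeilNum

namespace Groth.Agent.S17983


namespace S17983aux
open Polynomial

theorem main (p e : ℕ) [Fact p.Prime] (K : Type*) [Field K] [CharZero K] (π : K)
    (hπ : IsIntegral ℤ π)
    (hweil : ∀ z ∈ (minpoly ℤ π).aroots ℂ, ‖z‖ = Real.sqrt ((p : ℝ) ^ e))
    (hnr : ∀ z ∈ (minpoly ℤ π).aroots ℂ, z.im ≠ 0) :
    Even (minpoly ℤ π).natDegree ∧
      ∀ r ≤ (minpoly ℤ π).natDegree / 2,
        (minpoly ℤ π).coeff ((minpoly ℤ π).natDegree / 2 - r) =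
          (p : ℤ) ^ (e * r) * (minpoly ℤ π).coeff ((minpoly ℤ π).natDegree / 2 + r) := by
  classical
  obtain ⟨P, hP⟩ : ∃ P, P = minpoly ℤ π := ⟨_, rfl⟩
  rw [← hP] at hweil hnr ⊢
  have hmonic : P.Monic := hP ▸ minpoly.monic hπ
  obtain ⟨n, hn⟩ : ∃ n, n = P.natDegree := ⟨_, rfl⟩
  rw [← hn]
  set Pc : ℂ[X] := P.map (Int.castRingHom ℂ) with hPc
  have hPcmonic : Pc.Monic := hmonic.map _
  have hPcdeg : Pc.natDegree = n := by rw [hn]; exact hmonic.natDegree_map _
  have hPc0 : Pc ≠ 0 := hPcmonic.ne_zero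
  have haroots : P.aroots ℂ = Pc.roots := by rw [aroots_def, algebraMap_int_eq]
  rw [haroots] at hweil hnr
  have hp0 : (0:ℝ) < (p:ℝ) := Nat.cast_pos.mpr (Fact.out : p.Prime).pos
  have hpe_pos : (0:ℝ) < (p:ℝ)^e := pow_pos hp0 e
  obtain ⟨q, hq⟩ : ∃ q : ℂ, q = (p : ℂ) ^ e := ⟨_, rfl⟩
  have hq0 : q ≠ 0 := by
    rw [hq]; exact pow_ne_zero _ (Nat.cast_ne_zero.mpr (Fact.out : p.Prime).ne_zero)
  have hqreal : (((p:ℝ)^e : ℝ) : ℂ) = q := by rw [hq]; push_cast; rfl
  obtain ⟨a, ha⟩ : ∃ a : ℕ → ℂ, a = fun i => (P.coeff i : ℂ) := ⟨_, rfl⟩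
  have hcoeff : ∀ i, Pc.coeff i = a i := fun i => by simp [hPc, ha, coeff_map]
  -- separability
  have hsep : Pc.Separable := by
    have h1 : minpoly ℚ π = P.map (algebraMap ℤ ℚ) := by
      rw [hP]; exact minpoly.isIntegrallyClosed_eq_field_fractions' ℚ hπ
    have h2 : (P.map (algebraMap ℤ ℚ)).Separable := by
      rw [← h1]; exact (minpoly.irreducible hπ.tower_top).separable
    have h3 : Pc = (P.map (algebraMap ℤ ℚ)).map (algebraMap ℚ ℂ) := by
      rw [Polynomial.map_map, hPc]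
      congr 1
    rw [h3]; exact h2.map
  have hnodup : Pc.roots.Nodup := nodup_roots hsep
  have hcard : Pc.roots.card = n := by
    rw [← hPcdeg]; exact splits_iff_card_roots.mp (IsAlgClosed.splits Pc)
  obtain ⟨S, hS⟩ : ∃ S, S = Pc.roots.toFinset := ⟨_, rfl⟩
  have hScard : S.card = n := by rw [hS, Multiset.toFinset_card_of_nodup hnodup, hcard]
  have hmemS : ∀ z, z ∈ S ↔ eval z Pc = 0 := fun z => by
    rw [hS, Multiset.mem_toFinset, mem_roots hPc0, IsRoot.def]
  have hconj : ∀ z, eval z Pc = 0 → eval (starRingEnd ℂ z) Pc = 0 := by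
    intro z hz
    have : eval (starRingEnd ℂ z) Pc = starRingEnd ℂ (eval z Pc) := by
      rw [hPc, eval_map, eval_map, hom_eval₂]
      congr 1
      exact Subsingleton.elim _ _
    rw [this, hz, map_zero]
  have hzz : ∀ z, eval z Pc = 0 → z * starRingEnd ℂ z = q := by
    intro z hz
    have hzr : z ∈ Pc.roots := (mem_roots hPc0).mpr hz
    rw [Complex.mul_conj, Complex.normSq_eq_norm_sq, hweil z hzr, Real.sq_sqrt hpe_pos.le, hqreal]
  -- the polynomial Q
  obtain ⟨Q, hQ⟩ : ∃ Q : ℂ[X], Q = ∑ i ∈ Finset.range (n+1), C (a i * q^i) * X^(n-i) :=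
    ⟨_, rfl⟩
  have hQeval : ∀ w w' : ℂ, w * w' = q → eval w Q = w^n * eval w' Pc := by
    intro w w' hww
    rw [hQ, eval_finsetSum, eval_eq_sum_range, hPcdeg, Finset.mul_sum]
    refine Finset.sum_congr rfl fun i hi => ?_
    have hi' : i ≤ n := Nat.lt_succ_iff.mp (Finset.mem_range.mp hi)
    rw [eval_mul, eval_C, eval_pow, eval_X, hcoeff, ← hww, mul_pow]
    have : w^n = w^i * w^(n-i) := by rw [← pow_add, Nat.add_sub_cancel' hi']
    rw [this]; ring
  have hQcoeff : ∀ j, j ≤ n → Q.coeff j = a (n-j) * q^(n-j) := by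
    intro j hj
    rw [hQ, finsetSum_coeff, Finset.sum_eq_single (n-j)]
    · rw [coeff_C_mul_X_pow, if_pos (by omega)]
    · intro i hi hne
      rw [coeff_C_mul_X_pow, if_neg]
      have := Finset.mem_range.mp hi
      omega
    · intro h; exfalso; apply h; rw [Finset.mem_range]; omega
  have hQdeg : Q.natDegree ≤ n := by
    rw [hQ]
    apply natDegree_sum_le_of_forall_le
    intro i _
    exact (natDegree_C_mul_X_pow_le _ _).trans (Nat.sub_le _ _)
  have han : a n = 1 := by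
    rw [ha]
    show ((P.coeff n : ℤ) : ℂ) = 1
    rw [hn, hmonic.coeff_natDegree]; simp
  have hD : Q = C (a 0) * Pc := by
    by_contra hne
    obtain ⟨D, hDdef⟩ : ∃ D, D = Q - C (a 0) * Pc := ⟨_, rfl⟩
    have hD0 : D ≠ 0 := by rw [hDdef]; exact sub_ne_zero.mpr hne
    have hDle : D.natDegree ≤ n := by
      rw [hDdef]
      exact (natDegree_sub_le _ _).trans
        (max_le hQdeg ((natDegree_C_mul_le _ _).trans hPcdeg.le))
    have hDn : D.coeff n = 0 := by
      rw [hDdef, coeff_sub, hQcoeff n le_rfl, coeff_C_mul, hcoeff, han]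
      simp
    have hDlt : D.natDegree < S.card := by
      rw [hScard]
      rcases lt_or_eq_of_le hDle with h | h
      · exact h
      · exfalso; apply hD0; rw [← leadingCoeff_eq_zero, leadingCoeff, h]; exact hDn
    apply hD0
    apply eq_zero_of_natDegree_lt_card_of_eval_eq_zero' D S _ hDlt
    intro z hz
    rw [hmemS] at hz
    rw [hDdef, eval_sub, eval_mul, eval_C, hz, mul_zero, sub_zero, hQeval z _ (hzz z hz),
      hconj z hz, mul_zero]
  have hstar : ∀ j, j ≤ n → a (n-j) * q^(n-j) = a 0 * a j := by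
    intro j hj
    rw [← hQcoeff j hj, hD, coeff_C_mul, hcoeff]
  -- evaluate at ±s
  obtain ⟨s, hs⟩ : ∃ s : ℂ, s = ((Real.sqrt ((p:ℝ)^e) : ℝ) : ℂ) := ⟨_, rfl⟩
  have hss : s * s = q := by
    rw [hs, ← Complex.ofReal_mul, Real.mul_self_sqrt hpe_pos.le, hqreal]
  have hs0 : s ≠ 0 := by
    intro h; rw [h, mul_zero] at hss; exact hq0 hss.symm
  have hreal : ∀ x : ℝ, eval (x : ℂ) Pc ≠ 0 := by
    intro x hx
    exact hnr _ ((mem_roots hPc0).mpr hx) (Complex.ofReal_im x)
  have h1 : a 0 = s^n := by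
    have := hQeval s s hss
    rw [hD, eval_mul, eval_C] at this
    rw [hs] at this ⊢
    exact mul_right_cancel₀ (hreal _) this
  have h2 : a 0 = (-s)^n := by
    have := hQeval (-s) (-s) (by rw [neg_mul_neg, hss])
    rw [hD, eval_mul, eval_C] at this
    have hneg : (-s) = ((-(Real.sqrt ((p:ℝ)^e)) : ℝ) : ℂ) := by rw [hs]; push_cast; rfl
    rw [hneg] at this ⊢
    exact mul_right_cancel₀ (hreal _) this
  have heven : Even n := by
    have hsn : s^n ≠ 0 := pow_ne_zero _ hs0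
    have : (-1 : ℂ)^n = 1 := by
      have h3 : (-s)^n = (-1)^n * s^n := by rw [neg_eq_neg_one_mul, mul_pow]
      rw [h3, ← h1] at h2
      rw [h1] at h2
      have : (-1:ℂ)^n * s^n = 1 * s^n := by rw [one_mul]; exact h2.symm
      exact mul_right_cancel₀ hsn this
    exact (neg_one_pow_eq_one_iff_even (by norm_num)).mp this
  refine ⟨heven, ?_⟩
  obtain ⟨d, hd⟩ := heven
  have hnd : n / 2 = d := by omega
  rw [hnd]
  intro r hr
  have ha0 : a 0 = q^d := by
    rw [h1, hd, pow_add, ← mul_pow, hss]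
  have hj := hstar (d + r) (by omega)
  have hsub : n - (d + r) = d - r := by omega
  rw [hsub, ha0] at hj
  have hqd : q^d = q^(d-r) * q^r := by rw [← pow_add]; congr 1; omega
  rw [hqd] at hj
  have hq' : q^(d-r) ≠ 0 := pow_ne_zero _ hq0
  have hfin : a (d - r) = q^r * a (d + r) := by
    apply mul_right_cancel₀ hq'
    rw [hj]; ring
  have hfin' : ((P.coeff (d - r) : ℤ) : ℂ) = ((p:ℂ)^e)^r * ((P.coeff (d + r) : ℤ) : ℂ) := by
    have := hfin
    rw [ha, hq] at this
    exact this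
  have : ((P.coeff (d - r) : ℤ) : ℂ) = (((p:ℤ)^(e*r) * P.coeff (d + r) : ℤ) : ℂ) := by
    push_cast
    rw [hfin', pow_mul]
  exact_mod_cast this

end S17983aux

/-- Let p be a prime number, e ≥ 1 and q = p^e. Let π be an element of a field of characteristic zero
which is integral over ℤ, with minimal polynomial P over ℤ, and assume that every complex root of P
has absolute value √q and that no complex root of P is real (π is a nonreal Weil q-number). Then the
degree of P is even, say 2d, and writing a_j for the coefficient of x^j in P one has a_{d−r} = q^r ·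
a_{d+r} for every 0 ≤ r ≤ d. -/
theorem result (p e : ℕ) [Fact p.Prime] (he : 0 < e)
    (K : Type u) [Field K] [CharZero K] (π : K) (hπ : IsIntegral ℤ π)
    (hweil : ∀ z ∈ (minpoly ℤ π).aroots ℂ, ‖z‖ = Real.sqrt ((p : ℝ) ^ e))
    (hnr : ∀ z ∈ (minpoly ℤ π).aroots ℂ, z.im ≠ 0) :
    Even (minpoly ℤ π).natDegree ∧
      ∀ r ≤ (minpoly ℤ π).natDegree / 2,
        (minpoly ℤ π).coeff ((minpoly ℤ π).natDegree / 2 - r) =
          (p : ℤ) ^ (e * r) * (minpoly ℤ π).coeff ((minpoly ℤ π).natDegree / 2 + r) := by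
  exact S17983aux.main p e K π hπ hweil hnr

end Groth.Agent.S17983
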