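import Groth.Statements.S18015
import Mathlib

set_option autoImplicit false
universe u
open CategoryTheory
open Coh

namespace Groth.Agent.S18015

/-- Let A be a Noetherian commutative ring and F an additive functor from A-modules to A-modules which
is half-exact, i.e. for every short exact sequence 0 → M' → M → M'' → 0 the sequence F(M') → F(M) →
F(M'') is exact at F(M). Then F(M) is a finitely generated A-module for every finitely generated
A-module M if and only if F(A/p) is a finitely generated A-module for every prime ideal p of A. (The
published statement takes F from quasi-coherent sheaves on Spec A to abelian groups, with A acting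
on each F(M) through F; this row allows any additive functor between A-module categories, A-linear
or not, and the same argument applies, since it uses only that each map F(f) is A-linear.) -/
theorem result {A : Type u} [CommRing A] [IsNoetherianRing A]
    (F : ModuleCat.{u} A ⥤ ModuleCat.{u} A) [F.Additive]
    (hF : ∀ S : ShortComplex (ModuleCat.{u} A), S.ShortExact → (S.map F).Exact) :
    (∀ M : ModuleCat.{u} A, Module.Finite A M → Module.Finite A (F.obj M)) ↔
      ∀ p : PrimeSpectrum A, Module.Finite A (F.obj (ModuleCat.of A (A ⧸ p.asIdeal))) := by
  constructor
  · intro h p
    exact h _ (inferInstanceAs (Module.Finite A (A ⧸ p.asIdeal)))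
  · intro h M hM
    suffices key : ∀ (N : Type u) [AddCommGroup N] [Module A N] [Module.Finite A N],
        Module.Finite A (F.obj (ModuleCat.of A N)) from key M
    intro N _ _ hN
    induction hN using IsNoetherianRing.induction_on_isQuotientEquivQuotientPrime A with
    | subsingleton N =>
      have h1 : Limits.IsZero (ModuleCat.of A N) := ModuleCat.isZero_of_subsingleton _
      have h2 : Limits.IsZero (F.obj (ModuleCat.of A N)) := F.map_isZero h1
      have h3 : Subsingleton (F.obj (ModuleCat.of A N)) := ModuleCat.subsingleton_of_isZero h2
      infer_instance
    | quotient N p e =>
      have i : ModuleCat.of A N ≅ ModuleCat.of A (A ⧸ p.1) := e.toModuleIso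
      have hp := h p
      exact Module.Finite.equiv (F.mapIso i).symm.toLinearEquiv
    | exact N₁ N₂ N₃ f g hf hg hfg h1 h3 =>
      let S : ShortComplex (ModuleCat.{u} A) :=
        ShortComplex.mk (ModuleCat.ofHom f) (ModuleCat.ofHom g) (by
          ext x
          exact hfg.apply_apply_eq_zero x)
      have hS : S.ShortExact := ModuleCat.shortComplex_shortExact S hfg hf hg
      have hex := hF S hS
      rw [ShortComplex.ShortExact.moduleCat_exact_iff_function_exact] at hex
      -- restrict the second map to its range
      have hfin : Module.Finite A (LinearMap.range (F.map S.g).hom) := by
        have : IsNoetherian A (F.obj (ModuleCat.of A N₃)) := isNoetherian_of_isNoetherianRing_of_finite A _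
        exact Module.IsNoetherian.finite A _
      have hex' : Function.Exact (F.map S.f).hom (F.map S.g).hom.rangeRestrict := by
        intro x
        have hx' := hex x
        constructor
        · intro hx
          have h5 := congrArg Subtype.val hx
          exact hx'.mp h5
        · intro hx
          apply Subtype.ext
          exact hx'.mpr hx
      exact Module.Finite.of_exact hex' (LinearMap.surjective_rangeRestrict _)

end Groth.Agent.S18015
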