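import Groth.Statements.S18016
import Groth.Agent.Lib.Helper24.NilPairD

set_option autoImplicit false
universe u
open CategoryTheory CategoryTheory.Limits
open Lim

namespace Groth.Agent.S18016

/-- In ring form, let R be a commutative ring, f : B → D any map of R-algebras and i : D' → D a
surjective map of R-algebras every element of whose kernel is nilpotent (so Spec D → Spec D' is a
locally nilpotent closed immersion of affine R-schemes and Spec D → Spec B is affine), and let q₁ :
P → B, q₂ : P → D' exhibit P as the fibre product ring B ×_D D' (the pushout of the two affine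
schemes). Then the diagram B → D ← D' is a filtered colimit, in R-algebras, of diagrams B_j → D_j ←
D'_j of R-algebras of finite presentation in which D'_j → D_j is surjective with locally nilpotent
kernel; and the fibre products P_j = B_j ×_{D_j} D'_j form a compatible diagram whose colimit is P.
Moreover: if f is surjective (resp. surjective with locally nilpotent kernel, resp. integral) then
every B_j → D_j can be taken surjective (resp. surjective with locally nilpotent kernel, resp.
integral). (The published statement also covers two further classes, maps that become a closed or a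
locally nilpotent immersion after composing with a locally nilpotent closed immersion; those two
clauses are not stated here.) -/
theorem result {R B D D' P : Type u} [CommRing R] [CommRing B]
    [CommRing D] [CommRing D'] [CommRing P] [Algebra R B] [Algebra R D] [Algebra R D'] [Algebra R P]
    (f : B →ₐ[R] D) (i : D' →ₐ[R] D) (hi : Function.Surjective i)
    (hnil : ∀ x ∈ RingHom.ker i.toRingHom, IsNilpotent x) (q₁ : P →ₐ[R] B) (q₂ : P →ₐ[R] D')
    (hP : IsPullback (CommRingCat.ofHom q₁.toRingHom) (CommRingCat.ofHom q₂.toRingHom)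
      (CommRingCat.ofHom f.toRingHom) (CommRingCat.ofHom i.toRingHom)) :
    ∃ (ι : Type u) (_ : SmallCategory ι) (_ : IsFiltered ι) (DB DD DD' DP : ι ⥤ Under (CommRingCat.of R))
      (φ : DB ⟶ DD) (ψ : DD' ⟶ DD) (π₁ : DP ⟶ DB) (π₂ : DP ⟶ DD')
      (cB : DB ⟶ (Functor.const ι).obj (Under.mk (CommRingCat.ofHom (algebraMap R B))))
      (cD : DD ⟶ (Functor.const ι).obj (Under.mk (CommRingCat.ofHom (algebraMap R D))))
      (cD' : DD' ⟶ (Functor.const ι).obj (Under.mk (CommRingCat.ofHom (algebraMap R D'))))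
      (cP : DP ⟶ (Functor.const ι).obj (Under.mk (CommRingCat.ofHom (algebraMap R P)))),
      Nonempty (IsColimit (Cocone.mk _ cB)) ∧ Nonempty (IsColimit (Cocone.mk _ cD)) ∧
      Nonempty (IsColimit (Cocone.mk _ cD')) ∧ Nonempty (IsColimit (Cocone.mk _ cP)) ∧
      (∀ j, (φ.app j).right ≫ (cD.app j).right = (cB.app j).right ≫ CommRingCat.ofHom f.toRingHom) ∧
      (∀ j, (ψ.app j).right ≫ (cD.app j).right = (cD'.app j).right ≫ CommRingCat.ofHom i.toRingHom) ∧
      (∀ j, (π₁.app j).right ≫ (cB.app j).right = (cP.app j).right ≫ CommRingCat.ofHom q₁.toRingHom) ∧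
      (∀ j, (π₂.app j).right ≫ (cD'.app j).right = (cP.app j).right ≫ CommRingCat.ofHom q₂.toRingHom) ∧
      (∀ j, (DB.obj j).hom.hom.FinitePresentation ∧ (DD.obj j).hom.hom.FinitePresentation ∧
        (DD'.obj j).hom.hom.FinitePresentation) ∧
      (∀ j, Function.Surjective (ψ.app j).right.hom ∧ ∀ x ∈ RingHom.ker (ψ.app j).right.hom, IsNilpotent x) ∧
      (∀ j, IsPullback (π₁.app j).right (π₂.app j).right (φ.app j).right (ψ.app j).right) ∧
      (Function.Surjective f → ∀ j, Function.Surjective (φ.app j).right.hom) ∧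
      (Function.Surjective f → (∀ x ∈ RingHom.ker f.toRingHom, IsNilpotent x) →
        ∀ j, Function.Surjective (φ.app j).right.hom ∧ ∀ x ∈ RingHom.ker (φ.app j).right.hom, IsNilpotent x) ∧
      (f.toRingHom.IsIntegral → ∀ j, (φ.app j).right.hom.IsIntegral) := by
  have hψ := Groth.Agent.Lib.Helper24.NilPair.nilLegHyp (R := R) i hnil
  by_cases h1 : Function.Surjective f
  · by_cases h2 : ∀ x ∈ RingHom.ker f.toRingHom, IsNilpotent x
    · have hφ := Groth.Agent.Lib.Helper24.NilPair.nilLegHyp (R := R) f h2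
      have hid : ∀ (C : Type u) [CommRing C],
          Groth.Agent.Lib.Helper24.NilPair.NilLeg (RingHom.id C) := by
        intro C _
        refine ⟨fun y => ⟨y, rfl⟩, fun x hx => ?_⟩
        have hx0 : x = 0 := (RingHom.mem_ker).1 hx
        rw [hx0]
        exact IsNilpotent.zero
      obtain ⟨ι, i1, i2, DB, DD, DD', DP, φ, ψ, π₁, π₂, cB, cD, cD', cP, c1, c2, c3, c4, c5, c6,
        c7, c8, c9, c10, c11, hE⟩ :=
        Groth.Agent.Lib.Helper24.NilPair.main
          (E := fun C C' _ _ l => Groth.Agent.Lib.Helper24.NilPair.NilLeg l) hi hψ q₁ q₂ hP hφ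
          (Groth.Agent.Lib.Helper24.NilPair.claimB_of_pair hi hφ.iso hid)
          (Groth.Agent.Lib.Helper24.NilPair.claimD'_of_surj h1 hφ.iso hid)
      exact ⟨ι, i1, i2, DB, DD, DD', DP, φ, ψ, π₁, π₂, cB, cD, cD', cP, c1, c2, c3, c4, c5, c6,
        c7, c8, c9, c10, c11, fun _ j => (hE j).1, fun _ _ j => hE j,
        fun _ j => RingHom.isIntegral_of_surjective _ (hE j).1⟩
    · have hφ := Groth.Agent.Lib.Helper24.NilPair.surjLegHyp (R := R) f
      have hid : ∀ (C : Type u) [CommRing C], Function.Surjective (RingHom.id C) :=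
        fun C _ y => ⟨y, rfl⟩
      obtain ⟨ι, i1, i2, DB, DD, DD', DP, φ, ψ, π₁, π₂, cB, cD, cD', cP, c1, c2, c3, c4, c5, c6,
        c7, c8, c9, c10, c11, hE⟩ :=
        Groth.Agent.Lib.Helper24.NilPair.main
          (E := fun C C' _ _ l => Function.Surjective l) hi hψ q₁ q₂ hP hφ
          (Groth.Agent.Lib.Helper24.NilPair.claimB_of_pair hi hφ.iso hid)
          (Groth.Agent.Lib.Helper24.NilPair.claimD'_of_surj h1 hφ.iso hid)
      exact ⟨ι, i1, i2, DB, DD, DD', DP, φ, ψ, π₁, π₂, cB, cD, cD', cP, c1, c2, c3, c4, c5, c6,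
        c7, c8, c9, c10, c11, fun _ j => hE j, fun _ h => absurd h h2,
        fun _ j => RingHom.isIntegral_of_surjective _ (hE j)⟩
  · by_cases h3 : f.toRingHom.IsIntegral
    · have hφ := Groth.Agent.Lib.Helper24.NilPair.intLegHyp (R := R) f
      have hid : ∀ (C : Type u) [CommRing C], (RingHom.id C).IsIntegral :=
        fun C _ => RingHom.isIntegral_of_surjective _ (fun y => ⟨y, rfl⟩)
      obtain ⟨ι, i1, i2, DB, DD, DD', DP, φ, ψ, π₁, π₂, cB, cD, cD', cP, c1, c2, c3, c4, c5, c6,
        c7, c8, c9, c10, c11, hE⟩ :=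
        Groth.Agent.Lib.Helper24.NilPair.main
          (E := fun C C' _ _ l => l.IsIntegral) hi hψ q₁ q₂ hP hφ
          (Groth.Agent.Lib.Helper24.NilPair.claimB_of_pair hi hφ.iso hid)
          (Groth.Agent.Lib.Helper24.NilPair.claimD'_int hi hnil h3)
      exact ⟨ι, i1, i2, DB, DD, DD', DP, φ, ψ, π₁, π₂, cB, cD, cD', cP, c1, c2, c3, c4, c5, c6,
        c7, c8, c9, c10, c11, fun h => absurd h h1, fun h _ => absurd h h1, fun _ j => hE j⟩
    · have hφ := Groth.Agent.Lib.Helper24.NilPair.trivLegHyp (R := R) f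
      obtain ⟨ι, i1, i2, DB, DD, DD', DP, φ, ψ, π₁, π₂, cB, cD, cD', cP, c1, c2, c3, c4, c5, c6,
        c7, c8, c9, c10, c11, hE⟩ :=
        Groth.Agent.Lib.Helper24.NilPair.main
          (E := fun _ _ _ _ _ => True) hi hψ q₁ q₂ hP hφ
          (Groth.Agent.Lib.Helper24.NilPair.claimB_of_pair hi hφ.iso (fun _ _ => trivial))
          Groth.Agent.Lib.Helper24.NilPair.claimD'_triv
      exact ⟨ι, i1, i2, DB, DD, DD', DP, φ, ψ, π₁, π₂, cB, cD, cD', cP, c1, c2, c3, c4, c5, c6,
        c7, c8, c9, c10, c11, fun h => absurd h h1, fun h _ => absurd h h1,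
        fun h => absurd h h3⟩

end Groth.Agent.S18016
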