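import Groth.Statements.S18019
import Mathlib

set_option autoImplicit false
universe u
open ClassStk

namespace Groth.Agent.S18019

open Polynomial in
/-- Let R be an integral domain of characteristic 2 and let a be a nonzero element of R, so that x ↦ x +
a defines an R-algebra involution of the polynomial ring R[x] (an action of the group of order two).
A polynomial f is invariant, f(x + a) = f(x), if and only if f belongs to the R-subalgebra generated
by u = x (x + a); in other words the ring of invariants is the polynomial ring R[u]. -/
theorem result (R : Type u) [CommRing R] [IsDomain R]
    [CharP R 2] (a : R) (ha : a ≠ 0) (f : Polynomial R) :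
    f.comp (X + C a) = f ↔ f ∈ Algebra.adjoin R ({X * (X + C a)} : Set (Polynomial R)) := by
  classical
  have h2 : (2 : R) = 0 := by
    have := CharP.cast_eq_zero R 2
    exact_mod_cast this
  set u : Polynomial R := X * (X + C a) with hu_def
  have hu_monic : u.Monic := by
    rw [hu_def]
    exact monic_X.mul (monic_X_add_C a)
  have hu_deg : u.natDegree = 2 := by
    rw [hu_def, (monic_X).natDegree_mul (monic_X_add_C a), natDegree_X, natDegree_X_add_C]
  have hu_inv : u.comp (X + C a) = u := by
    rw [hu_def]
    simp only [mul_comp, X_comp, add_comp, C_comp]
    have : C a + C a = (0 : Polynomial R) := by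
      rw [← C_add, ← two_mul, h2, zero_mul, C_0]
    rw [add_assoc, this, add_zero, mul_comm]
  constructor
  · -- invariant implies in the subalgebra: division by the monic polynomial `u`
    intro hf
    induction hn : f.natDegree using Nat.strong_induction_on generalizing f with
    | _ n ih =>
      have hdiv : f %ₘ u + u * (f /ₘ u) = f := modByMonic_add_div f u
      set q := f /ₘ u with hq
      set r := f %ₘ u with hr
      have hr_deg : r.natDegree < 2 := by
        rw [← hu_deg]
        refine natDegree_modByMonic_lt f hu_monic ?_
        intro h
        have h7 := congrArg natDegree h
        rw [hu_deg, natDegree_one] at h7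
        omega
      have hσr_deg : (r.comp (X + C a)).natDegree < 2 := by
        refine lt_of_le_of_lt natDegree_comp_le ?_
        rw [natDegree_X_add_C, mul_one]; exact hr_deg
      -- apply the substitution to the division identity
      have hσ : r.comp (X + C a) + u * q.comp (X + C a) = r + u * q := by
        have := congrArg (fun g => g.comp (X + C a)) hdiv
        simp only [add_comp, mul_comp, hu_inv, hf] at this
        rw [this, hdiv]
      have hkey : u * (q.comp (X + C a) - q) = r - r.comp (X + C a) := by
        linear_combination hσ
      have hq_inv : q.comp (X + C a) = q := by
        by_contra hne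
        have hne' : q.comp (X + C a) - q ≠ 0 := sub_ne_zero.mpr hne
        have h1 : (u * (q.comp (X + C a) - q)).natDegree = 2 + (q.comp (X + C a) - q).natDegree := by
          rw [hu_monic.natDegree_mul' hne', hu_deg]
        have h3 : (r - r.comp (X + C a)).natDegree < 2 :=
          lt_of_le_of_lt (natDegree_sub_le _ _) (max_lt hr_deg hσr_deg)
        rw [hkey] at h1
        omega
      have hr_inv : r.comp (X + C a) = r := by
        rw [hq_inv, sub_self, mul_zero] at hkey
        exact (sub_eq_zero.mp hkey.symm).symm
      -- r is constant
      have hr1 : r.coeff 1 = 0 := by
        have h0 : (r.comp (X + C a)).coeff 0 = r.coeff 0 := by rw [hr_inv]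
        rw [coeff_zero_eq_eval_zero, eval_comp, eval_add, eval_X, eval_C, zero_add,
          eval_eq_sum_range' hr_deg] at h0
        simp only [Finset.sum_range_succ, Finset.sum_range_zero, pow_zero, mul_one, pow_one,
          zero_add] at h0
        have : r.coeff 1 * a = 0 := by linear_combination h0
        rcases mul_eq_zero.mp this with h | h
        · exact h
        · exact absurd h ha
      have hr_const : r = C (r.coeff 0) := by
        ext i
        rcases i with _ | _ | i
        · simp
        · simp [hr1]
        · rw [coeff_C, if_neg (by omega)]
          exact coeff_eq_zero_of_natDegree_lt (by omega)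
      have hu_mem : u ∈ Algebra.adjoin R ({u} : Set (Polynomial R)) :=
        Algebra.subset_adjoin rfl
      have hr_mem : r ∈ Algebra.adjoin R ({u} : Set (Polynomial R)) := by
        rw [hr_const]
        exact Subalgebra.algebraMap_mem _ _
      by_cases hq0 : q = 0
      · rw [← hdiv, hq0, mul_zero, add_zero]
        exact hr_mem
      · have hq_lt : q.natDegree < n := by
          have h5 : q.natDegree = f.natDegree - u.natDegree := natDegree_divByMonic f hu_monic
          have h6 : u.natDegree ≤ f.natDegree := by
            by_contra hlt
            rw [not_le] at hlt
            have : f /ₘ u = 0 := (divByMonic_eq_zero_iff hu_monic).mpr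
              (degree_lt_degree hlt)
            exact hq0 this
          omega
        have hq_mem := ih q.natDegree hq_lt q hq_inv rfl
        rw [← hdiv]
        exact Subalgebra.add_mem _ hr_mem (Subalgebra.mul_mem _ hu_mem hq_mem)
  · intro hf
    induction hf using Algebra.adjoin_induction with
    | mem x hx =>
      rw [Set.mem_singleton_iff] at hx
      rw [hx]; exact hu_inv
    | algebraMap r => simp
    | add x y _ _ hx hy => rw [add_comp, hx, hy]
    | mul x y _ _ hx hy => rw [mul_comp, hx, hy]

end Groth.Agent.S18019
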