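import Groth.Statements.S18029
import Groth.Agent.Lib.Helper28.SubGrp.Spread
import Groth.Agent.Lib.Helper12.StalkLim

set_option autoImplicit false
universe u
open CategoryTheory MonoidalCategory CartesianMonoidalCategory MonObj GrpObj AlgebraicGeometry CategoryTheory.Limits
open AlgGrp

namespace Groth.Agent.S18029

/-- Closed subgroups of the generic fibre spread out. Let `X` be an integral scheme with generic point
`η : Spec K(X) ⟶ X`, `G` an affine `X`-group scheme locally of finite presentation and `H_η` a
closed subgroup scheme of the generic fibre `G_η = G ×_X Spec K(X)`. Then there are a non-empty open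
`U ⊆ X` (through which `η` factors) and a closed subgroup scheme `H_U` of `G ×_X U` whose generic
fibre is `H_η`: a cartesian square presents `H_η` as `H_U ×_U Spec K(X)`, compatibly with the
embeddings into `G`. -/
theorem result
    (X : Scheme.{u}) [IsIntegral X] (G : Over X) [GrpObj G]
    [IsAffineHom G.hom] [LocallyOfFinitePresentation G.hom]
    (Hη : Over (Spec X.functionField)) [GrpObj Hη]
    (i : Hη ⟶ Red.bc (X.fromSpecStalk (genericPoint X)) G) [IsMonHom i] [IsClosedImmersion i.left] :
    ∃ (U : X.Opens) (ηU : Spec X.functionField ⟶ (U : Scheme.{u})) (HU : Over (U : Scheme.{u}))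
      (_ : GrpObj HU) (j : HU ⟶ Red.bc U.ι G) (φ : Hη.left ⟶ HU.left),
      ηU ≫ U.ι = X.fromSpecStalk (genericPoint X) ∧ IsMonHom j ∧ IsClosedImmersion j.left ∧
      IsPullback φ Hη.hom HU.hom ηU ∧
      φ ≫ j.left ≫ pullback.fst G.hom U.ι = i.left ≫ pullback.fst G.hom (X.fromSpecStalk (genericPoint X)) := by
  have e0 : i.left ≫ (Red.bc (X.fromSpecStalk (genericPoint X)) G).hom = Hη.hom := Over.w i
  have : LocallyOfFinitePresentation (Red.bc (X.fromSpecStalk (genericPoint X)) G).hom := by
    show LocallyOfFinitePresentation (pullback.snd G.hom (X.fromSpecStalk (genericPoint X)))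
    infer_instance
  have : IsAffineHom (Red.bc (X.fromSpecStalk (genericPoint X)) G).hom := by
    show IsAffineHom (pullback.snd G.hom (X.fromSpecStalk (genericPoint X)))
    exact MorphismProperty.of_isPullback (P := @IsAffineHom)
      (IsPullback.of_hasPullback G.hom (X.fromSpecStalk (genericPoint X))) inferInstance
  have : IsLocallyNoetherian (Red.bc (X.fromSpecStalk (genericPoint X)) G).left :=
    LocallyOfFiniteType.isLocallyNoetherian (Red.bc (X.fromSpecStalk (genericPoint X)) G).hom
  have : LocallyOfFinitePresentation i.left := inferInstance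
  have h1 : LocallyOfFinitePresentation Hη.hom := by rw [← e0]; infer_instance
  have h2 : QuasiCompact Hη.hom := by rw [← e0]; infer_instance
  have h3 : QuasiSeparated Hη.hom := by rw [← e0]; infer_instance
  obtain ⟨W, HU, inst, j, φ, hj, hci, hpb, hcomp⟩ :=
    @Groth.Agent.Lib.Helper28.SubGrp.spread_closed_subgroup
      (Groth.Agent.Lib.Helper12.StalkLim.AffNhd X (genericPoint X)) _ _
      (Groth.Agent.Lib.Helper12.StalkLim.diag X (genericPoint X))
      (Groth.Agent.Lib.Helper12.StalkLim.cone X (genericPoint X))
      (Groth.Agent.Lib.Helper12.StalkLim.isLimitCone X (genericPoint X)) _ _ _ X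
      (fun W => W.U.ι)
      (fun {W' W} b => X.homOfLE_ι (Groth.Agent.Lib.Helper12.StalkLim.AffNhd.le_iff.mp b.le))
      (X.fromSpecStalk (genericPoint X))
      (fun W => Scheme.Opens.fromSpecStalkOfMem_ι _ _ _) G _ _ _ Hη i (show GrpObj Hη from inferInstance)
      (show IsMonHom i from inferInstance) (show IsClosedImmersion i.left from inferInstance)
      h1 h2 h3
  exact ⟨W.U, (Groth.Agent.Lib.Helper12.StalkLim.cone X (genericPoint X)).π.app W, HU, inst, j, φ,
    Scheme.Opens.fromSpecStalkOfMem_ι _ _ _, hj, hci, hpb, hcomp⟩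

end Groth.Agent.S18029
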