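import Groth.Statements.S1803
import Groth.Agent.Lib.Helper4.GorField

set_option autoImplicit false
universe u
open scoped TensorProduct
open Goren

namespace Groth.Agent.S1803

/-- Let k'/k be any field extension, C a k-algebra of finite type, q a prime of C ⊗_k k' and p its
contraction to C. Then C_p is Gorenstein if and only if (C ⊗_k k')_q is Gorenstein. -/
theorem result (k k' : Type u) [Field k] [Field k'] [Algebra k k'] (C : Type u) [CommRing C] [Algebra k C] [Algebra.FiniteType k C] (q : PrimeSpectrum (C ⊗[k] k')) : LocCoh.IsGorensteinLocalRing (Localization.AtPrime (q.asIdeal.comap (algebraMap C (C ⊗[k] k')))) ↔ LocCoh.IsGorensteinLocalRing (Localization.AtPrime q.asIdeal) := by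
  haveI : IsNoetherianRing C := Algebra.FiniteType.isNoetherianRing k C
  haveI hN' : IsNoetherianRing (k' ⊗[k] C) := Algebra.FiniteType.isNoetherianRing k' (k' ⊗[k] C)
  haveI hN : IsNoetherianRing (C ⊗[k] k') :=
    isNoetherianRing_of_ringEquiv _ (Algebra.TensorProduct.comm k k' C).toRingEquiv
  have hfgκ : ∃ s : Finset (q.asIdeal.comap (algebraMap C (C ⊗[k] k'))).ResidueField,
      IntermediateField.adjoin k
        (s : Set (q.asIdeal.comap (algebraMap C (C ⊗[k] k'))).ResidueField) = ⊤ := by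
    haveI : Algebra.EssFiniteType k (q.asIdeal.comap (algebraMap C (C ⊗[k] k'))).ResidueField :=
      Algebra.EssFiniteType.comp k C _
    exact IntermediateField.fg_top k _
  have hfib : LocCoh.IsGorensteinRing
      ((q.asIdeal.comap (algebraMap C (C ⊗[k] k'))).Fiber (C ⊗[k] k')) := by
    have h1 : LocCoh.IsGorensteinRing
        ((q.asIdeal.comap (algebraMap C (C ⊗[k] k'))).ResidueField ⊗[k] k') :=
      Groth.Agent.Lib.Helper4.GorField.gorRing_tensor_of_fg k _ k' hfgκ
        (Groth.Agent.Lib.Helper4.GorRing.gorRing_of_isRegularRing k')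
    have c1 : (q.asIdeal.comap (algebraMap C (C ⊗[k] k'))).ResidueField ⊗[C] (C ⊗[k] k') ≃ₐ[C]
        (q.asIdeal.comap (algebraMap C (C ⊗[k] k'))).ResidueField ⊗[k] k' :=
      Algebra.TensorProduct.cancelBaseChange k C C _ k'
    exact Groth.Agent.Lib.Helper4.GorRing.gorRing_of_ringEquiv c1.toRingEquiv.symm h1
  have hfl : LocCoh.IsGorensteinLocalRing (EGA4.FibLocRing C (C ⊗[k] k') q.asIdeal) :=
    (Groth.Agent.Lib.Helper4.GorFibre.isGorensteinRing_fiber_iff C (C ⊗[k] k')
      (q.asIdeal.comap (algebraMap C (C ⊗[k] k')))).mp hfib q.asIdeal rfl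
  rw [Groth.Agent.Lib.Helper4.GorRing.gor_atPrime_iff C (C ⊗[k] k') q.asIdeal]
  exact ⟨fun h => ⟨h, hfl⟩, fun h => h.1⟩

end Groth.Agent.S1803
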