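import Groth.Statements.S18040
import Mathlib

set_option autoImplicit false
universe u
open AdjLin

namespace Groth.Agent.S18040

/-- Let k be an algebraically closed field of characteristic zero and Z a finite set of points of
projective 3-space over k, realised as points of the projectivization of k⁴, a homogeneous form in
four variables being evaluated at the chosen representative of a point (its vanishing does not
depend on the choice). Suppose Z has the Cayley–Bacharach property in degree n: every form of degree
n vanishing at all points of Z but one vanishes at that point as well. Then for every m ≤ n, either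
there is a nonzero form of degree n − m vanishing at every point of Z, or the rank of the evaluation
map from forms of degree m to functions on Z is at most the number of points of Z minus the
dimension of the space of forms of degree n − m. -/
theorem result (k : Type u) [Field k] [IsAlgClosed k] [CharZero k]
    (Z : Finset (Projectivization k (Fin 4 → k))) (n : ℕ)
    (hCB : (∀ z ∈ Z, ∀ p : MvPolynomial (Fin 4) k, p.IsHomogeneous n →
      (∀ z' ∈ Z, z' ≠ z → MvPolynomial.eval z'.rep p = 0) → MvPolynomial.eval z.rep p = 0))
    (m : ℕ) (hm : m ≤ n) :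
    (∃ s : MvPolynomial (Fin 4) k, s.IsHomogeneous (n - m) ∧ s ≠ 0 ∧ ∀ z ∈ Z, MvPolynomial.eval z.rep s = 0) ∨
      Module.finrank k (LinearMap.range
          ((LinearMap.pi fun z : ↥Z => (MvPolynomial.aeval (R := k) z.1.rep).toLinearMap) ∘ₗ
            (MvPolynomial.homogeneousSubmodule (Fin 4) k m).subtype)) +
        Module.finrank k ↥(MvPolynomial.homogeneousSubmodule (Fin 4) k (n - m)) ≤ Z.card := by
  classical
  by_cases hs : ∃ s : MvPolynomial (Fin 4) k, s.IsHomogeneous (n - m) ∧ s ≠ 0 ∧
      ∀ z ∈ Z, MvPolynomial.eval z.rep s = 0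
  · exact Or.inl hs
  right
  set ev : MvPolynomial (Fin 4) k →ₗ[k] (↥Z → k) :=
    LinearMap.pi fun z : ↥Z => (MvPolynomial.aeval (R := k) z.1.rep).toLinearMap with hev
  have ev_apply : ∀ (p : MvPolynomial (Fin 4) k) (z : ↥Z), ev p z = MvPolynomial.eval z.1.rep p :=
    fun p z => rfl
  have ev_mul : ∀ p q : MvPolynomial (Fin 4) k, ev (p * q) = ev p * ev q := by
    intro p q
    funext z
    rw [Pi.mul_apply, ev_apply, ev_apply, ev_apply, map_mul]
  -- the image of forms of degree n contains no coordinate vector
  have hsingle : ∀ z : ↥Z, (Pi.single z (1 : k) : ↥Z → k) ∉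
      (MvPolynomial.homogeneousSubmodule (Fin 4) k n).map ev := by
    intro z hz
    obtain ⟨g, hg, hgz⟩ := hz
    have hg' : g.IsHomogeneous n := (MvPolynomial.mem_homogeneousSubmodule n g).mp hg
    have h0 := hCB z.1 z.2 g hg' (by
      intro z' hz' hne
      have h1 := congrFun hgz ⟨z', hz'⟩
      rw [ev_apply] at h1
      rw [h1, Pi.single_apply, if_neg]
      intro h
      exact hne (congrArg Subtype.val h))
    have h2 := congrFun hgz z
    rw [ev_apply, Pi.single_eq_same, h0] at h2
    exact zero_ne_one h2
  obtain ⟨φ, hφE, hφ⟩ := Module.Dual.exists_forall_mem_ne_zero_of_forall_exists (K := k)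
      ((MvPolynomial.homogeneousSubmodule (Fin 4) k n).map ev).dualAnnihilator
      (fun z : ↥Z => Module.Dual.eval k (↥Z → k) (Pi.single z 1)) (by
        intro z
        obtain ⟨f, hf1, hf2⟩ := Submodule.exists_le_ker_of_notMem (hsingle z)
        refine ⟨f, ?_, ?_⟩
        · rw [Submodule.mem_dualAnnihilator]
          intro w hw
          exact LinearMap.mem_ker.mp (hf2 hw)
        · rw [Module.Dual.eval_apply]
          exact hf1)
  have hφ' : ∀ z : ↥Z, φ (Pi.single z 1) ≠ 0 := by
    intro z
    have := hφ z
    rwa [Module.Dual.eval_apply] at this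
  let ψ : (↥Z → k) →ₗ[k] Module.Dual k (↥Z → k) := (LinearMap.mul k (↥Z → k)).compr₂ φ
  have hψ : ∀ u v : ↥Z → k, ψ u v = φ (u * v) := fun u v => rfl
  have hψinj : Function.Injective ψ := by
    rw [← LinearMap.ker_eq_bot, LinearMap.ker_eq_bot']
    intro u hu
    funext z
    have h1 : ψ u (Pi.single z 1) = 0 := by
      rw [hu]
      rfl
    rw [hψ] at h1
    have h2 : u * Pi.single z (1 : k) = u z • Pi.single z (1 : k) := by
      funext w
      by_cases hw : w = z
      · subst hw
        simp
      · simp [Pi.single_apply, hw]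
    rw [h2, map_smul, smul_eq_mul] at h1
    rcases mul_eq_zero.mp h1 with h | h
    · exact h
    · exact absurd h (hφ' z)
  set fm := ev ∘ₗ (MvPolynomial.homogeneousSubmodule (Fin 4) k m).subtype with hfm
  set fnm := ev ∘ₗ (MvPolynomial.homogeneousSubmodule (Fin 4) k (n - m)).subtype with hfnm
  have hinj : Function.Injective fnm := by
    rw [← LinearMap.ker_eq_bot, LinearMap.ker_eq_bot']
    intro s hs0
    by_contra hne
    apply hs
    refine ⟨s.1, (MvPolynomial.mem_homogeneousSubmodule _ _).mp s.2,
      fun h => hne (Subtype.ext h), ?_⟩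
    intro z hz
    have h1 := congrFun hs0 ⟨z, hz⟩
    exact h1
  have hI : Module.finrank k (LinearMap.range fnm) =
      Module.finrank k ↥(MvPolynomial.homogeneousSubmodule (Fin 4) k (n - m)) :=
    LinearMap.finrank_range_of_inj hinj
  have hJI : ∀ u ∈ LinearMap.range fm, ψ u ∈ (LinearMap.range fnm).dualAnnihilator := by
    rintro _ ⟨f, rfl⟩
    rw [Submodule.mem_dualAnnihilator]
    rintro _ ⟨g, rfl⟩
    rw [hψ]
    have h1 : fm f * fnm g = ev (f.1 * g.1) := (ev_mul _ _).symm
    rw [h1]
    have hfg : (f.1 * g.1).IsHomogeneous n := by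
      have h2 := ((MvPolynomial.mem_homogeneousSubmodule _ _).mp f.2).mul
        ((MvPolynomial.mem_homogeneousSubmodule _ _).mp g.2)
      rwa [Nat.add_sub_cancel' hm] at h2
    exact (Submodule.mem_dualAnnihilator φ).mp hφE _
      ⟨f.1 * g.1, (MvPolynomial.mem_homogeneousSubmodule _ _).mpr hfg, rfl⟩
  let Ψ : ↥(LinearMap.range fm) →ₗ[k] ↥(LinearMap.range fnm).dualAnnihilator :=
    (ψ.domRestrict (LinearMap.range fm)).codRestrict _ (fun u => hJI u.1 u.2)
  have hΨ : Function.Injective Ψ := by
    intro u v huv
    apply Subtype.ext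
    apply hψinj
    exact congrArg Subtype.val huv
  have h1 := LinearMap.finrank_le_finrank_of_injective hΨ
  have h2 := Subspace.finrank_add_finrank_dualAnnihilator_eq (LinearMap.range fnm)
  rw [Module.finrank_fintype_fun_eq_card, Fintype.card_coe, hI] at h2
  omega

end Groth.Agent.S18040
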