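import Groth.Statements.S18042
import Groth.Agent.Lib.Lead.CB

set_option autoImplicit false
universe u
open AdjLin

namespace Groth.Agent.S18042

/-- Let k be an algebraically closed field of characteristic zero, n ≥ 1, and Z a finite set of points
of projective 3-space over k (points of the projectivization of k⁴, forms in four variables being
evaluated at the chosen representative) with the Cayley–Bacharach property in degree n: every form
of degree n vanishing at all points of Z but one vanishes at that point as well. If Z has at most 3n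
+ 1 points, then either all points of Z lie in one plane (a common 3-dimensional subspace of k⁴), or
they lie on the union of two skew lines (two 2-dimensional subspaces of k⁴ meeting in zero), each
line carrying at least n + 1 points of Z, and Z has at least 2n + 3 points. (The source states this
for an arbitrary zero-dimensional subscheme, with a third alternative, containment in the
first-order thickening of a line; for the reduced subschemes treated here that alternative is a case
of coplanarity.) -/
theorem result (k : Type u) [Field k] [IsAlgClosed k] [CharZero k]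
    (Z : Finset (Projectivization k (Fin 4 → k))) (n : ℕ) (hn : 1 ≤ n)
    (hCB : (∀ z ∈ Z, ∀ p : MvPolynomial (Fin 4) k, p.IsHomogeneous n →
      (∀ z' ∈ Z, z' ≠ z → MvPolynomial.eval z'.rep p = 0) → MvPolynomial.eval z.rep p = 0))
    (hcard : Z.card ≤ 3 * n + 1) :
    (∃ W : Submodule k (Fin 4 → k), Module.finrank k ↥W = 3 ∧ ∀ z ∈ Z, z.submodule ≤ W) ∨
      (∃ W₁ W₂ : Submodule k (Fin 4 → k), Module.finrank k ↥W₁ = 2 ∧ Module.finrank k ↥W₂ = 2 ∧ W₁ ⊓ W₂ = ⊥ ∧
        (∀ z ∈ Z, z.submodule ≤ W₁ ∨ z.submodule ≤ W₂) ∧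
        n + 1 ≤ Set.ncard {z : Projectivization k (Fin 4 → k) | z ∈ Z ∧ z.submodule ≤ W₁} ∧
        n + 1 ≤ Set.ncard {z : Projectivization k (Fin 4 → k) | z ∈ Z ∧ z.submodule ≤ W₂} ∧
        2 * n + 3 ≤ Z.card) := by
  classical
  have hCB' : Groth.Agent.Lib.Lead.CB.CB n Z := hCB
  rcases Groth.Agent.Lib.Lead.CB.cb_main n hn Z hCB' hcard with ⟨f, hf, hfZ⟩ |
    ⟨W₁, W₂, h1, h2, hinf, hcov, ⟨A, hAZ, hAW, hAc⟩, ⟨B, hBZ, hBW, hBc⟩, hZc⟩
  · left
    refine ⟨LinearMap.ker f, ?_, ?_⟩
    · have h3 := Groth.Agent.Lib.Lead.LineP.finrank_ker_of_ne_zero f hf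
      rw [Fintype.card_fin] at h3
      omega
    · intro z hz
      exact (Groth.Agent.Lib.Lead.CB.submodule_le_iff z _).mpr (LinearMap.mem_ker.mpr (hfZ z hz))
  · right
    refine ⟨W₁, W₂, h1, h2, hinf, ?_, ?_, ?_, hZc⟩
    · intro z hz
      rcases hcov z hz with h | h
      · exact Or.inl ((Groth.Agent.Lib.Lead.CB.submodule_le_iff z _).mpr h)
      · exact Or.inr ((Groth.Agent.Lib.Lead.CB.submodule_le_iff z _).mpr h)
    · have hsub : (↑A : Set (Projectivization k (Fin 4 → k))) ⊆
          {z : Projectivization k (Fin 4 → k) | z ∈ Z ∧ z.submodule ≤ W₁} := by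
        intro z hz
        exact ⟨hAZ hz, (Groth.Agent.Lib.Lead.CB.submodule_le_iff z _).mpr (hAW z hz)⟩
      have hfin : Set.Finite {z : Projectivization k (Fin 4 → k) | z ∈ Z ∧ z.submodule ≤ W₁} :=
        Z.finite_toSet.subset (fun z hz => hz.1)
      have h3 := Set.ncard_le_ncard hsub hfin
      rw [Set.ncard_coe_finset] at h3
      omega
    · have hsub : (↑B : Set (Projectivization k (Fin 4 → k))) ⊆
          {z : Projectivization k (Fin 4 → k) | z ∈ Z ∧ z.submodule ≤ W₂} := by
        intro z hz
        exact ⟨hBZ hz, (Groth.Agent.Lib.Lead.CB.submodule_le_iff z _).mpr (hBW z hz)⟩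
      have hfin : Set.Finite {z : Projectivization k (Fin 4 → k) | z ∈ Z ∧ z.submodule ≤ W₂} :=
        Z.finite_toSet.subset (fun z hz => hz.1)
      have h3 := Set.ncard_le_ncard hsub hfin
      rw [Set.ncard_coe_finset] at h3
      omega

end Groth.Agent.S18042
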