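import Groth.Statements.S18049
import Mathlib

set_option autoImplicit false
open STCI

namespace Groth.Agent.S18049

/-- For natural numbers 0 < k < N such that k does not divide N, ⌊N/k⌋ ≤ (N - k)/gcd(k, N); stated here
in the equivalent cleared form ⌊N/k⌋ · gcd(k, N) ≤ N - k. -/
theorem result (k N : ℕ) (hk : 0 < k) (hkN : k < N) (hndvd : ¬ k ∣ N) :
    N / k * Nat.gcd k N ≤ N - k := by
  have hdm : k * (N / k) + N % k = N := Nat.div_add_mod N k
  have hr_pos : 0 < N % k := by
    rcases Nat.eq_zero_or_pos (N % k) with h | h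
    · exact absurd (Nat.dvd_of_mod_eq_zero h) hndvd
    · exact h
  have hr_lt : N % k < k := Nat.mod_lt N hk
  have hgpos : 0 < Nat.gcd k N := Nat.gcd_pos_of_pos_left N hk
  obtain ⟨a, ha⟩ := Nat.gcd_dvd_left k N
  have hgr : Nat.gcd k N ∣ N % k := by
    rw [Nat.dvd_mod_iff (Nat.gcd_dvd_left k N)]
    exact Nat.gcd_dvd_right k N
  obtain ⟨b, hb⟩ := hgr
  have hb1 : 1 ≤ b := by
    rcases Nat.eq_zero_or_pos b with h | h
    · rw [h, mul_zero] at hb; omega
    · exact h
  have ha2 : 2 ≤ a := by
    by_contra hlt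
    have ha01 : a = 0 ∨ a = 1 := by omega
    rcases ha01 with h | h
    · rw [h, mul_zero] at ha; omega
    · rw [h, mul_one] at ha
      apply hndvd
      rw [ha]; exact Nat.gcd_dvd_right k N
  have hq1 : 1 ≤ N / k := Nat.div_pos hkN.le hk
  set g := Nat.gcd k N with hg
  set q := N / k with hq
  -- goal: q * g ≤ N - k
  have hN : N = g * a * q + g * b := by
    rw [← hb, ← ha]; exact hdm.symm
  have hk' : k = g * a := ha
  have key : q * g + k ≤ N := by
    rw [hN, hk']
    have h1 : q + a ≤ a * q + b := by nlinarith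
    nlinarith
  omega

end Groth.Agent.S18049
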