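import Groth.Statements.S18050
import Mathlib
import Groth.Agent.Lib.Helper27.Euclid

set_option autoImplicit false
open STCI

namespace Groth.Agent.S18050


open W4c5stcicurvesp3 Groth.Agent.Lib.Helper27

theorem sum_Icc_one (f : ℕ → ℕ) (t : ℕ) :
    ∑ i ∈ Finset.Icc 1 t, f i = ∑ i ∈ Finset.range t, f (i + 1) := by
  induction t with
  | zero => simp
  | succ t ih =>
    rw [Finset.sum_Icc_succ_top (by omega), ih, Finset.sum_range_succ]

theorem aux : ∀ (t k N : ℕ), 0 < k → k ≤ N → 0 < t → irem N k t = 0 →
    (∀ i, 0 < i → i < t → irem N k i ≠ 0) →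
    (∑ i ∈ Finset.Icc 1 t, idiv N k i) * Nat.gcd k N ≤ N := by
  intro t
  induction t with
  | zero => intro k N _ _ ht; omega
  | succ t ih =>
    intro k N hk hkN _ hzero hmin
    rcases Nat.eq_zero_or_pos t with rfl | htpos
    · have hzero' : N % k = 0 := by
        have := hzero
        rw [zero_add, irem_one] at this
        exact this
      have hdvd : k ∣ N := Nat.dvd_of_mod_eq_zero hzero'
      rw [sum_Icc_one]
      simp only [zero_add, Finset.range_one, Finset.sum_singleton, idiv_one]
      rw [Nat.gcd_eq_left hdvd]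
      exact (Nat.div_mul_cancel hdvd).le
    · have h1 : N % k ≠ 0 := by
        have := hmin 1 one_pos (by omega)
        rwa [irem_one] at this
      have hr_pos : 0 < N % k := Nat.pos_of_ne_zero h1
      have hr_lt : N % k < k := Nat.mod_lt N hk
      have IH := ih (N % k) k hr_pos hr_lt.le htpos
        (by rw [← irem_shift N k h1]; exact hzero)
        (by
          intro i hi hit
          rw [← irem_shift N k h1]
          exact hmin (i + 1) (by omega) (by omega))
      have hsum : ∑ i ∈ Finset.Icc 1 (t + 1), idiv N k i =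
          N / k + ∑ i ∈ Finset.Icc 1 t, idiv k (N % k) i := by
        rw [sum_Icc_one, sum_Icc_one, Finset.sum_range_succ', add_comm]
        refine congrArg₂ (· + ·) ?_ ?_
        · rw [zero_add, idiv_one]
        · apply Finset.sum_congr rfl
          intro i _
          exact idiv_shift N k h1 i
      have hg : Nat.gcd (N % k) k = Nat.gcd k N := by
        exact (Nat.gcd_rec k N).symm
      rw [hg] at IH
      rw [hsum, add_mul]
      have hdm : k * (N / k) + N % k = N := Nat.div_add_mod N k
      have hgk : Nat.gcd k N ≤ k := Nat.gcd_le_left N hk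
      have hgr : Nat.gcd k N ≤ N % k := by
        apply Nat.le_of_dvd hr_pos
        rw [Nat.dvd_mod_iff (Nat.gcd_dvd_left k N)]
        exact Nat.gcd_dvd_right k N
      have hq1 : 1 ≤ N / k := Nat.div_pos hkN hk
      set g := Nat.gcd k N
      set q := N / k
      set r := N % k
      obtain ⟨q', hq'⟩ : ∃ q', q = q' + 1 := ⟨q - 1, by omega⟩
      obtain ⟨e, he⟩ : ∃ e, k = g + e := ⟨k - g, by omega⟩
      have h5 : q * g + k ≤ k * q + r := by
        rw [hq', he]
        nlinarith [Nat.zero_le (q' * e)]
      omega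

open W4c5stcicurvesp3 in
/-- Let k ≤ N be positive integers, let t be the least positive integer with rem_t(N, k) = 0, where
rem_0 = k, rem_1 = N mod k and rem_i is the remainder of rem_{i-2} by rem_{i-1} (iterated Euclidean
remainders), and let d_i be the corresponding iterated quotients (d_1 = ⌊N/k⌋, d_i =
⌊rem_{i-2}/rem_{i-1}⌋). Then d_1 + ⋯ + d_t ≤ N/gcd(k, N); stated in the cleared form (d_1 + ⋯ + d_t)
· gcd(k, N) ≤ N. -/
theorem result (k N t : ℕ) (hk : 0 < k) (hkN : k ≤ N) (ht : 0 < t)
    (hzero : irem N k t = 0) (hmin : ∀ i, 0 < i → i < t → irem N k i ≠ 0) :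
    (∑ i ∈ Finset.Icc 1 t, idiv N k i) * Nat.gcd k N ≤ N := by
  exact aux t k N hk hkN ht hzero hmin

end Groth.Agent.S18050
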