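import Groth.Statements.S18051
import Mathlib

set_option autoImplicit false
open STCI

namespace Groth.Agent.S18051


theorem ineq (a b c p q : ℚ) (hc : 0 < c) (hcb : c < b) (hp : 2 ≤ p) (hq : q = 1 ∨ 2 ≤ q)
    (ha : a = b * q + c) :
    (a - b) / p + (b - c) / (p + q) + c / (p + q + 1) ≤ a ^ 2 / (a * p + b) := by
  have hb : 0 < b := lt_trans hc hcb
  have hq0 : 0 < q := by rcases hq with h | h <;> linarith
  have hp0 : 0 < p := by linarith
  have ha0 : 0 < a := by rw [ha]; positivity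
  have hD4 : 0 < a * p + b := by positivity
  have hs : 0 < p + q := by positivity
  have ht : 0 < p + q + 1 := by positivity
  have key : 0 ≤ b * (a * (p * q - p - q) + b * q) * (p + q + 1) + c * p * (p * a + b) := by
    rcases hq with h | h
    · have e : b * (a * (p * q - p - q) + b * q) * (p + q + 1) + c * p * (p * a + b) =
          c * (p ^ 2 * a - 2 * b) := by
        rw [ha, h]; ring
      rw [e]
      have h4 : 4 ≤ p ^ 2 := by
        nlinarith [mul_nonneg (sub_nonneg.mpr hp) (by linarith : (0 : ℚ) ≤ p + 2)]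
      have hab : b ≤ a := by rw [ha, h]; linarith
      have := mul_le_mul_of_nonneg_right h4 ha0.le
      exact mul_nonneg hc.le (by linarith)
    · have hpq : 0 ≤ p * q - p - q := by
        nlinarith [mul_nonneg (sub_nonneg.mpr hp) (sub_nonneg.mpr h)]
      have t1 : 0 ≤ a * (p * q - p - q) := mul_nonneg ha0.le hpq
      exact add_nonneg
        (mul_nonneg (mul_nonneg hb.le (add_nonneg t1 (mul_nonneg hb.le hq0.le))) ht.le)
        (mul_nonneg (mul_nonneg hc.le hp0.le) (by positivity))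
  rw [div_add_div _ _ hp0.ne' hs.ne', div_add_div _ _ (mul_ne_zero hp0.ne' hs.ne') ht.ne',
    div_le_div_iff₀ (mul_pos (mul_pos hp0 hs) ht) hD4]
  linarith [key]

open W4c5stcicurvesp3 in
/-- Let k ≤ N/2 be positive integers and let r_i = rem_i(N, k), d_i = div_i(N, k) be the iterated
Euclidean remainders and quotients of (N, k) (r_0 = k, r_1 = N mod k, r_2 = r_0 mod r_1, d_1 =
⌊N/k⌋, d_2 = ⌊r_0/r_1⌋). If the least positive t with r_t = 0 satisfies t ≥ 3, i.e. r_1 ≠ 0 and r_2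
≠ 0, then (r_0 - r_1)/d_1 + (r_1 - r_2)/(d_1 + d_2) + r_2/(d_1 + d_2 + 1) ≤ k²/N (in ℚ). -/
theorem result (k N : ℕ) (hk : 0 < k) (hkN : 2 * k ≤ N)
    (h1 : irem N k 1 ≠ 0) (h2 : irem N k 2 ≠ 0) :
    ((irem N k 0 : ℚ) - irem N k 1) / (idiv N k 1)
      + ((irem N k 1 : ℚ) - irem N k 2) / ((idiv N k 1 : ℚ) + idiv N k 2)
      + (irem N k 2 : ℚ) / ((idiv N k 1 : ℚ) + idiv N k 2 + 1)
      ≤ (k : ℚ) ^ 2 / N := by
  have e0 : irem N k 0 = k := rfl
  have e1 : irem N k 1 = N % k := rfl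
  have e2 : irem N k 2 = k % (N % k) := by
    have : irem N k 2 = if irem N k 1 = 0 then 0 else irem N k 0 % irem N k 1 := rfl
    rw [this, if_neg h1, e0, e1]
  have f1 : idiv N k 1 = N / k := rfl
  have f2 : idiv N k 2 = k / (N % k) := by
    have : idiv N k 2 = if irem N k 1 = 0 then 0 else irem N k 0 / irem N k 1 := rfl
    rw [this, if_neg h1, e0, e1]
  rw [e1] at h1
  rw [e2] at h2
  rw [e0, e1, e2, f1, f2]
  have hr1pos : 0 < N % k := Nat.pos_of_ne_zero h1
  have hr1k : N % k < k := Nat.mod_lt _ hk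
  have hr2pos : 0 < k % (N % k) := Nat.pos_of_ne_zero h2
  have hr2r1 : k % (N % k) < N % k := Nat.mod_lt _ hr1pos
  have hd1 : 2 ≤ N / k := (Nat.le_div_iff_mul_le hk).mpr hkN
  have hd2 : 1 ≤ k / (N % k) := Nat.div_pos hr1k.le hr1pos
  have hN : (N : ℚ) = (k : ℚ) * ((N / k : ℕ) : ℚ) + ((N % k : ℕ) : ℚ) := by
    exact_mod_cast (Nat.div_add_mod N k).symm
  have hkk : (k : ℚ) = ((N % k : ℕ) : ℚ) * ((k / (N % k) : ℕ) : ℚ) +
      ((k % (N % k) : ℕ) : ℚ) := by
    exact_mod_cast (Nat.div_add_mod k (N % k)).symm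
  rw [hN]
  refine ineq (k : ℚ) ((N % k : ℕ) : ℚ) ((k % (N % k) : ℕ) : ℚ) ((N / k : ℕ) : ℚ)
    ((k / (N % k) : ℕ) : ℚ) (by exact_mod_cast hr2pos) (by exact_mod_cast hr2r1)
    (by exact_mod_cast hd1) ?_ hkk
  rcases Nat.eq_or_lt_of_le hd2 with h | h
  · left; exact_mod_cast h.symm
  · right; exact_mod_cast h

end Groth.Agent.S18051
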