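import Groth.Statements.S18052
import Mathlib
import Groth.Prelude.Def_W4c5stcicurvesp3Euclid

set_option autoImplicit false
open STCI

namespace Groth.Agent.S18052


namespace S18052aux
open W4c5stcicurvesp3

def Rm (N k : ℕ) : ℕ → ℕ
  | 0 => N
  | (j+1) => irem N k j

theorem irem_zero (a b : ℕ) : irem a b 0 = b := by rw [irem]
theorem irem_one (a b : ℕ) : irem a b 1 = a % b := by rw [irem]
theorem irem_succ_succ (a b n : ℕ) :
    irem a b (n+2) = if irem a b (n+1) = 0 then 0 else irem a b n % irem a b (n+1) := by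
  rw [irem]
theorem idiv_one (a b : ℕ) : idiv a b 1 = a / b := by rw [idiv]
theorem idiv_succ_succ (a b n : ℕ) :
    idiv a b (n+2) = if irem a b (n+1) = 0 then 0 else irem a b n / irem a b (n+1) := by
  rw [idiv]

theorem key_ineq (b r e : ℚ) (hb : 0 < b) (hr0 : 0 ≤ r) (hrb : r ≤ b) (he : 1 ≤ e) :
    (b - r) / e + r ^ 2 / (b + e * r) ≤ b ^ 2 / (e * b + r) := by
  have he0 : 0 < e := by linarith
  have h1 : 0 < b + e * r := by positivity
  have h2 : 0 < e * b + r := by positivity
  have : b ^ 2 / (e * b + r) - ((b - r) / e + r ^ 2 / (b + e * r)) =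
      (e - 1) * b * r * (b - r) / (e * (e * b + r) * (b + e * r)) := by
    field_simp
    ring
  have h3 : 0 ≤ (e - 1) * b * r * (b - r) / (e * (e * b + r) * (b + e * r)) := by
    apply div_nonneg
    · apply mul_nonneg (mul_nonneg (mul_nonneg _ hb.le) hr0) <;> linarith
    · positivity
  linarith

theorem main (k N t : ℕ) (hk : 0 < k) (hkN : k ≤ N)
    (hzero : irem N k t = 0) (hmin : ∀ i, 0 < i → i < t → irem N k i ≠ 0) :
    ∑ i ∈ Finset.range t, ((irem N k i : ℚ) - irem N k (i + 1)) /
        (∑ j ∈ Finset.Icc 1 (i + 1), (idiv N k j : ℚ))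
      ≤ (k : ℚ) ^ 2 / N := by
  have hne : ∀ i, i < t → irem N k i ≠ 0 := by
    intro i hi
    rcases Nat.eq_zero_or_pos i with rfl | h0
    · rw [irem_zero]; omega
    · exact hmin i h0 hi
  have hrec : ∀ j, irem N k j ≠ 0 →
      Rm N k j = idiv N k (j+1) * irem N k j + irem N k (j+1) := by
    intro j hj
    cases j with
    | zero =>
      rw [Rm, idiv_one, irem_zero, irem_one]
      exact (Nat.div_add_mod' N k).symm
    | succ n =>
      rw [Rm, idiv_succ_succ, irem_succ_succ, if_neg hj, if_neg hj]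
      exact (Nat.div_add_mod' _ _).symm
  have hlt : ∀ j, irem N k j ≠ 0 → irem N k (j+1) < irem N k j := by
    intro j hj
    cases j with
    | zero =>
      rw [irem_zero, irem_one]
      exact Nat.mod_lt _ hk
    | succ n =>
      rw [irem_succ_succ, if_neg hj]
      exact Nat.mod_lt _ (Nat.pos_of_ne_zero hj)
  have hRge : ∀ j, j < t → irem N k j ≤ Rm N k j := by
    intro j hj
    cases j with
    | zero => rw [Rm, irem_zero]; exact hkN
    | succ n =>
      rw [Rm]
      exact (hlt n (hne n (by omega))).le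
  have hd1 : ∀ j, j < t → 1 ≤ idiv N k (j+1) := by
    intro j hj
    have h1 := hrec j (hne j hj)
    have h2 := hlt j (hne j hj)
    have h3 := hRge j hj
    apply Nat.pos_of_ne_zero
    intro h0
    rw [h0] at h1
    omega
  set D : ℕ → ℚ := fun i => ∑ j ∈ Finset.Icc 1 i, (idiv N k j : ℚ) with hD
  have hD0 : D 0 = 0 := by simp [hD]
  have hDs : ∀ i, D (i+1) = D i + idiv N k (i+1) := fun i => by
    simp only [hD]
    rw [Finset.sum_Icc_succ_top (by omega)]
  have hDnn : ∀ i, 0 ≤ D i := fun i => Finset.sum_nonneg fun _ _ => Nat.cast_nonneg _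
  have claim : ∀ m j, j + m = t →
      ∑ i ∈ Finset.Ico j t, ((irem N k i : ℚ) - irem N k (i + 1)) / D (i+1)
      ≤ (irem N k j : ℚ)^2 / ((Rm N k j : ℚ) + D j * irem N k j) := by
    intro m
    induction m with
    | zero =>
      intro j hj
      have : j = t := by omega
      subst this
      simp [hzero]
    | succ m ih =>
      intro j hj
      have hjt : j < t := by omega
      have ih' := ih (j+1) (by omega)
      rw [Finset.sum_eq_sum_Ico_succ_bot hjt]
      have hb : (0:ℚ) < irem N k j := by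
        exact_mod_cast Nat.pos_of_ne_zero (hne j hjt)
      have hr0 : (0:ℚ) ≤ irem N k (j+1) := Nat.cast_nonneg _
      have hrb : (irem N k (j+1) : ℚ) ≤ irem N k j := by
        exact_mod_cast (hlt j (hne j hjt)).le
      have he : 1 ≤ D (j+1) := by
        rw [hDs]
        have : (1:ℚ) ≤ idiv N k (j+1) := by exact_mod_cast hd1 j hjt
        linarith [hDnn j]
      have hR : (Rm N k j : ℚ) = idiv N k (j+1) * irem N k j + irem N k (j+1) := by
        exact_mod_cast hrec j (hne j hjt)
      have hden : (Rm N k j : ℚ) + D j * irem N k j = D (j+1) * irem N k j + irem N k (j+1) := by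
        rw [hR, hDs]; ring
      have hden' : (Rm N k (j+1) : ℚ) + D (j+1) * irem N k (j+1)
          = irem N k j + D (j+1) * irem N k (j+1) := by
        rw [Rm]
      rw [hden]
      rw [hden'] at ih'
      have := key_ineq (irem N k j) (irem N k (j+1)) (D (j+1)) hb hr0 hrb he
      linarith
  have := claim t 0 (by omega)
  rw [← Finset.range_eq_Ico, irem_zero, Rm, hD0, zero_mul, add_zero] at this
  exact this

end S18052aux

open W4c5stcicurvesp3 in
/-- Let k ≤ N/2 be positive integers, let r_i = rem_i(N, k) and d_i = div_i(N, k) be the iterated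
Euclidean remainders and quotients of (N, k) (r_0 = k, r_1 = N mod k, …; d_1 = ⌊N/k⌋, d_i =
⌊r_{i-2}/r_{i-1}⌋), and let t be the least positive integer with r_t = 0. Then the sum over i = 0,
…, t - 1 of (r_i - r_{i+1})/(d_1 + ⋯ + d_{i+1}) is at most k²/N (in ℚ). -/
theorem result (k N t : ℕ) (hk : 0 < k) (hkN : 2 * k ≤ N) (ht : 0 < t)
    (hzero : irem N k t = 0) (hmin : ∀ i, 0 < i → i < t → irem N k i ≠ 0) :
    ∑ i ∈ Finset.range t, ((irem N k i : ℚ) - irem N k (i + 1)) / (∑ j ∈ Finset.Icc 1 (i + 1), (idiv N k j : ℚ))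
      ≤ (k : ℚ) ^ 2 / N := by
  exact S18052aux.main k N t hk (by omega) hzero hmin

end Groth.Agent.S18052
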