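import Groth.Statements.S18053
import Mathlib

set_option autoImplicit false
open STCI

namespace Groth.Agent.S18053


theorem ilp (a b c d e f : ℕ) (h1 : 2 * a + 5 * b ≤ 45) (h2 : a + b + c + d + e ≤ 19)
    (h3 : c ≤ b) (h4 : d ≤ c) (h5 : e ≤ 17 * d) (h6 : f ≤ e)
    (h7 : 360 ≤ 15 * a + 30 * b + 10 * c + 5 * d + 3 * e) :
    a = 0 ∧ ((b = 9 ∧ c = 8 ∧ d = 2 ∧ f = 0) ∨ (b = 9 ∧ c = 9 ∧ d = 0 ∧ f = 0) ∨
      (b = 9 ∧ c = 9 ∧ d = 1 ∧ f = 0)) := by
  have hb : b ≤ 9 := by omega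
  interval_cases b <;> try omega
  all_goals (interval_cases c <;> try omega)
  all_goals (interval_cases d <;> omega)

/-- Let (p_k)_{k ≥ 1} be a sequence of nonnegative integers and n a nonnegative integer such that (i)
p_1 ≤ 9 - (2/5)n, (ii) p_1 ≥ p_2 ≥ p_3 ≥ ⋯, (iii) Σ_k p_k ≤ 19 - n, and (iv) n/4 + Σ_{k ≥ 1}
p_k/(k(k+1)) ≥ 6. Then n = 0 and (p_k) is one of (9, 8, 2), (9, 9), (9, 9, 1) (followed by zeros).
Here the sequence is indexed from 0 (so p 0 is p_1 and the weight of p k is 1/((k+1)(k+2))), (iii)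
is stated for every partial sum, and the series in (iv) is the real sum Σ' over all k. -/
theorem result (p : ℕ → ℕ) (n : ℕ)
    (h1 : (p 0 : ℝ) ≤ 9 - (2 / 5 : ℝ) * n) (h2 : Antitone p)
    (h3 : ∀ m : ℕ, ((∑ k ∈ Finset.range m, p k : ℕ) : ℝ) ≤ 19 - (n : ℝ))
    (h4 : (6 : ℝ) ≤ (n : ℝ) / 4 + ∑' k : ℕ, (p k : ℝ) / (((k : ℝ) + 1) * ((k : ℝ) + 2))) :
    n = 0 ∧ (p = (fun k => if k = 0 then 9 else if k = 1 then 8 else if k = 2 then 2 else 0)
      ∨ p = (fun k => if k = 0 then 9 else if k = 1 then 9 else 0)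
      ∨ p = (fun k => if k = 0 then 9 else if k = 1 then 9 else if k = 2 then 1 else 0)) := by
  have hnR : (0:ℝ) ≤ n := Nat.cast_nonneg n
  have hzero : ∀ k, 20 ≤ k → p k = 0 := by
    intro k hk
    by_contra hne
    have hpos : 1 ≤ p k := Nat.one_le_iff_ne_zero.mpr hne
    have hall : ∀ j ∈ Finset.range 20, 1 ≤ p j := fun j hj =>
      le_trans hpos (h2 (by have := Finset.mem_range.mp hj; omega))
    have hsum : 20 ≤ ∑ j ∈ Finset.range 20, p j := by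
      calc 20 = ∑ j ∈ Finset.range 20, 1 := by simp
        _ ≤ _ := Finset.sum_le_sum hall
    have h320 := h3 20
    have : ((∑ j ∈ Finset.range 20, p j : ℕ) : ℝ) ≥ 20 := by exact_mod_cast hsum
    linarith
  have htsum : ∑' k : ℕ, (p k : ℝ) / (((k : ℝ) + 1) * ((k : ℝ) + 2)) =
      ∑ k ∈ Finset.range 20, (p k : ℝ) / (((k : ℝ) + 1) * ((k : ℝ) + 2)) := by
    apply tsum_eq_sum
    intro k hk
    rw [Finset.mem_range, not_lt] at hk
    rw [hzero k hk, Nat.cast_zero, zero_div]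
  have hsplit : ∀ {M : Type} [AddCommMonoid M] (F : ℕ → M),
      ∑ k ∈ Finset.range 20, F k = F 0 + F 1 + F 2 + ∑ k ∈ Finset.range 17, F (k + 3) := by
    intro M _ F
    rw [show (20:ℕ) = 17 + 1 + 1 + 1 from rfl, Finset.sum_range_succ', Finset.sum_range_succ',
      Finset.sum_range_succ']
    simp only [add_assoc, Nat.reduceAdd, zero_add]
    abel
  have htail : ∑ k ∈ Finset.range 17, (p (k + 3) : ℝ) /
        ((((k + 3 : ℕ) : ℝ) + 1) * (((k + 3 : ℕ) : ℝ) + 2)) ≤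
      (∑ k ∈ Finset.range 17, (p (k + 3) : ℝ)) / 20 := by
    rw [Finset.sum_div]
    refine Finset.sum_le_sum (fun k _ => ?_)
    have hk : (0:ℝ) ≤ k := Nat.cast_nonneg k
    have hp : (0:ℝ) ≤ p (k + 3) := Nat.cast_nonneg _
    push_cast
    exact div_le_div_of_nonneg_left hp (by norm_num) (by nlinarith)
  have hub : ∑' k : ℕ, (p k : ℝ) / (((k : ℝ) + 1) * ((k : ℝ) + 2)) ≤
      (p 0 : ℝ) / 2 + (p 1 : ℝ) / 6 + (p 2 : ℝ) / 12 +
        (∑ k ∈ Finset.range 17, (p (k + 3) : ℝ)) / 20 := by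
    rw [htsum, hsplit]
    have e0 : (p 0 : ℝ) / ((((0:ℕ) : ℝ) + 1) * (((0:ℕ) : ℝ) + 2)) = (p 0 : ℝ) / 2 := by
      norm_num
    have e1 : (p 1 : ℝ) / ((((1:ℕ) : ℝ) + 1) * (((1:ℕ) : ℝ) + 2)) = (p 1 : ℝ) / 6 := by
      norm_num
    have e2 : (p 2 : ℝ) / ((((2:ℕ) : ℝ) + 1) * (((2:ℕ) : ℝ) + 2)) = (p 2 : ℝ) / 12 := by
      norm_num
    beta_reduce
    rw [e0, e1, e2]
    linarith [htail]
  have hT : ((∑ k ∈ Finset.range 17, p (k + 3) : ℕ) : ℝ) =
      ∑ k ∈ Finset.range 17, (p (k + 3) : ℝ) := by push_cast; rfl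
  have hineq : (360:ℝ) ≤ 15 * n + 30 * p 0 + 10 * p 1 + 5 * p 2 +
      3 * ((∑ k ∈ Finset.range 17, p (k + 3) : ℕ) : ℝ) := by
    rw [hT]; linarith [h4, hub]
  have hineqN : 360 ≤ 15 * n + 30 * p 0 + 10 * p 1 + 5 * p 2 +
      3 * (∑ k ∈ Finset.range 17, p (k + 3)) := by exact_mod_cast hineq
  have h1N : 5 * p 0 + 2 * n ≤ 45 := by
    have : (5:ℝ) * p 0 + 2 * n ≤ 45 := by linarith
    exact_mod_cast this
  have h3N : p 0 + p 1 + p 2 + (∑ k ∈ Finset.range 17, p (k + 3)) + n ≤ 19 := by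
    have h320 := h3 20
    have : ((∑ k ∈ Finset.range 20, p k : ℕ) : ℝ) + n ≤ 19 := by linarith
    have hN : (∑ k ∈ Finset.range 20, p k) + n ≤ 19 := by exact_mod_cast this
    rw [hsplit] at hN
    exact hN
  have h10 : p 1 ≤ p 0 := h2 (by norm_num)
  have h21 : p 2 ≤ p 1 := h2 (by norm_num)
  have hTc : (∑ k ∈ Finset.range 17, p (k + 3)) ≤ 17 * p 2 := by
    calc (∑ k ∈ Finset.range 17, p (k + 3)) ≤ ∑ k ∈ Finset.range 17, p 2 :=
          Finset.sum_le_sum (fun k _ => h2 (by omega))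
      _ = 17 * p 2 := by simp
  have hp3 : p 3 ≤ ∑ k ∈ Finset.range 17, p (k + 3) :=
    Finset.single_le_sum (f := fun k => p (k + 3)) (fun _ _ => Nat.zero_le _)
      (Finset.mem_range.mpr (by norm_num : 0 < 17))
  obtain ⟨hn0, hcases⟩ := ilp n (p 0) (p 1) (p 2) (∑ k ∈ Finset.range 17, p (k + 3)) (p 3)
    (by omega) (by omega) h10 h21 hTc hp3 (by omega)
  have htz : p 3 = 0 → ∀ k, 3 ≤ k → p k = 0 := fun h k hk =>
    Nat.le_zero.mp (le_trans (h2 hk) (le_of_eq h))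
  refine ⟨hn0, ?_⟩
  rcases hcases with ⟨a0, a1, a2, a3⟩ | ⟨a0, a1, a2, a3⟩ | ⟨a0, a1, a2, a3⟩
  · left
    funext k
    rcases k with _ | _ | _ | k
    · simp [a0]
    · simp [a1]
    · simp [a2]
    · rw [htz a3 (k + 1 + 1 + 1) (by omega)]
      split_ifs <;> first | rfl | omega
  · right; left
    funext k
    rcases k with _ | _ | _ | k
    · simp [a0]
    · simp [a1]
    · simp [a2]
    · rw [htz a3 (k + 1 + 1 + 1) (by omega)]
      split_ifs <;> first | rfl | omega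
  · right; right
    funext k
    rcases k with _ | _ | _ | k
    · simp [a0]
    · simp [a1]
    · simp [a2]
    · rw [htz a3 (k + 1 + 1 + 1) (by omega)]
      split_ifs <;> first | rfl | omega

end Groth.Agent.S18053
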