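import Groth.Statements.S18054
import Mathlib

set_option autoImplicit false
open STCI

namespace Groth.Agent.S18054

/-- Let s, t, d, g be integers with t ≥ s ≥ 4, d ≥ 1, g ≥ 0 and d dividing st; put n = st/d and assume n
≥ 2; put r = d[n(s - 4) + t] + (2 - 2g)n and assume r ≤ (s/3)(2s² - 6s + 7) - 1. Then d ≤ g + 3.
(The bound is written cleared of the denominator 3; s(2s² - 6s + 7) is always divisible by 3, so
this is the same condition.) -/
theorem result (s t d g n : ℤ) (hs : 4 ≤ s) (hst : s ≤ t) (hd : 1 ≤ d) (hg : 0 ≤ g)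
    (hn : s * t = d * n) (hn2 : 2 ≤ n)
    (hr : 3 * (d * (n * (s - 4) + t) + (2 - 2 * g) * n) ≤ s * (2 * s ^ 2 - 6 * s + 7) - 3) :
    d ≤ g + 3 := by
  by_contra hcon
  push_neg at hcon
  have hd4 : g + 4 ≤ d := by omega
  have hn0 : (0:ℤ) ≤ n := by linarith
  have h1 : (10 - 2*d)*n ≤ (2 - 2*g)*n := by
    nlinarith [mul_nonneg (sub_nonneg.mpr hd4) hn0]
  have h2 : d * (n*(s-4) + t) = s*t*(s-4) + d*t := by linear_combination (-(s - 4)) * hn
  have hmain : 3 * (s^2*t - 6*s*t + d*t + 10*n) ≤ s*(2*s^2 - 6*s + 7) - 3 := by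
    nlinarith [h1, h2, hr, hn]
  have hdpos : (4:ℤ) ≤ d := by linarith
  have ht4 : (4:ℤ) ≤ t := by linarith
  rcases le_or_gt 6 s with hs6 | hs5
  · have e : d*t*n = s*t^2 := by linear_combination (-t) * hn
    have hX : 360 * s * t^2 ≤ (3*d*t + 30*n)^2 := by
      nlinarith [sq_nonneg (3*d*t - 30*n), e]
    have hY : 3*d*t + 30*n ≤ -s^3 + 12*s^2 + 7*s - 3 := by
      nlinarith [hmain, mul_nonneg (mul_nonneg (by linarith : (0:ℤ) ≤ s) (sub_nonneg.mpr hs6))
        (sub_nonneg.mpr hst)]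
    have hXpos : 0 < 3*d*t + 30*n := by
      have := mul_pos (by linarith : (0:ℤ) < d) (by linarith : (0:ℤ) < t)
      nlinarith
    have hs12 : s ≤ 12 := by
      by_contra h
      push_neg at h
      have h13 : (13:ℤ) ≤ s := by omega
      nlinarith [mul_nonneg (sub_nonneg.mpr h13) (sq_nonneg s),
        mul_nonneg (by linarith : (0:ℤ) ≤ s) (sub_nonneg.mpr h13)]
    have ht2 : s^2 ≤ t^2 := pow_le_pow_left₀ (by linarith) hst 2
    have hYX : (3*d*t + 30*n)^2 ≤ (-s^3 + 12*s^2 + 7*s - 3)^2 :=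
      pow_le_pow_left₀ hXpos.le hY 2
    have h3 : 360 * s^3 ≤ (-s^3 + 12*s^2 + 7*s - 3)^2 := by
      have : 360 * s * s^2 ≤ 360 * s * t^2 := mul_le_mul_of_nonneg_left ht2 (by linarith)
      nlinarith [this]
    have key : ∀ s : ℤ, 6 ≤ s → s ≤ 12 →
        360 * s^3 ≤ (-s^3 + 12*s^2 + 7*s - 3)^2 → False := by
      intro s h1 h2 h3
      interval_cases s <;> norm_num at h3
    exact key s hs6 hs12 h3
  · have hs' : s = 4 ∨ s = 5 := by omega
    rcases hs' with rfl | rfl
    · norm_num at hmain hn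
      rcases le_or_gt 8 d with hd8 | hd7
      · nlinarith [mul_nonneg (sub_nonneg.mpr hd8) (by linarith : (0:ℤ) ≤ t)]
      · interval_cases d <;> omega
    · norm_num at hmain hn
      rcases le_or_gt 10 d with hd10 | hd9
      · nlinarith [mul_nonneg (sub_nonneg.mpr hd10) (by linarith : (0:ℤ) ≤ t)]
      · interval_cases d <;> omega

end Groth.Agent.S18054
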