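import Groth.Statements.S18055
import Mathlib

set_option autoImplicit false
open STCI

namespace Groth.Agent.S18055

/-- Let d ≥ 1, g ≥ 0 and 1 ≤ s ≤ t be integers with d dividing st, put n = st/d and r = d[n(s - 4) + t]
+ (2 - 2g)n, and assume n ≥ 2, r > 0 and (n - 1) divides r. Then s < 2d² and t < 2d⁴. This is the
statement about the degree data (d, g the degree and genus of the curve, s ≤ t the degrees of the
two surfaces) to which the published proof reduces the degree bound: there the divisibility and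
positivity express that r/(n - 1), the common value of the type numbers of the pair, is a positive
integer; the geometric hypotheses themselves are not part of this row. -/
theorem result (d g s t n : ℤ) (hd : 1 ≤ d) (hg : 0 ≤ g) (hs : 1 ≤ s) (hst : s ≤ t)
    (hn : s * t = d * n) (hn2 : 2 ≤ n)
    (hpos : 0 < d * (n * (s - 4) + t) + (2 - 2 * g) * n)
    (hdvd : (n - 1) ∣ d * (n * (s - 4) + t) + (2 - 2 * g) * n) :
    s < 2 * d ^ 2 ∧ t < 2 * d ^ 4 := by
  have ht : 1 ≤ t := le_trans hs hst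
  have hd0 : 0 ≤ d := by linarith
  have hn0 : 0 < n := by linarith
  obtain ⟨u, hu⟩ : ∃ u : ℤ, u = d * (s - 4) + 2 - 2 * g := ⟨_, rfl⟩
  have hr1 : d * (n * (s - 4) + t) + (2 - 2 * g) * n = n * u + d * t := by rw [hu]; ring
  rw [hr1] at hpos hdvd
  have hdt : 0 < d * t := mul_pos (by linarith) (by linarith)
  have hu_le : u ≤ d * (s - 4) + 2 := by rw [hu]; linarith
  -- first divisibility: (n-1) ∣ u + d t
  have hm_pos : 0 < u + d * t := by
    by_contra hcon
    push_neg at hcon
    have hu0 : u ≤ 0 := by linarith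
    have h1 : n * u ≤ 1 * u := mul_le_mul_of_nonpos_right (by linarith) hu0
    linarith
  have hm_dvd : (n - 1) ∣ u + d * t := by
    have e : n * u + d * t = (n - 1) * u + (u + d * t) := by ring
    rw [e] at hdvd
    exact (Int.dvd_add_right (Dvd.intro _ rfl)).1 hdvd
  have hm_le : n - 1 ≤ u + d * t := Int.le_of_dvd hm_pos hm_dvd
  have hdd : d ≤ d ^ 2 := by nlinarith
  have hpart1 : s < 2 * d ^ 2 := by
    by_contra hcon
    push_neg at hcon
    have h1 : d * n ≤ d * (d * (s - 4) + 2 + d * t + 1) :=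
      mul_le_mul_of_nonneg_left (by linarith) hd0
    have h2 : 2 * d ^ 2 * t ≤ s * t := mul_le_mul_of_nonneg_right hcon (by linarith)
    have h3 : d ^ 2 * s ≤ d ^ 2 * t := mul_le_mul_of_nonneg_left hst (by positivity)
    nlinarith [h1, h2, h3, hn, hdd]
  refine ⟨hpart1, ?_⟩
  -- second divisibility: (n-1) ∣ s u + d^2
  have hM : s * (n * u + d * t) = n * (s * u + d ^ 2) := by
    have e : s * (n * u + d * t) = n * (s * u) + d * (s * t) := by ring
    rw [e, hn]; ring
  have hM_pos : 0 < s * u + d ^ 2 := by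
    have h1 : 0 < s * (n * u + d * t) := mul_pos (by linarith) hpos
    rw [hM] at h1
    exact (mul_pos_iff_of_pos_left hn0).1 h1
  have hM_dvd : (n - 1) ∣ s * u + d ^ 2 := by
    have h1 : (n - 1) ∣ s * (n * u + d * t) := Dvd.dvd.mul_left hdvd s
    rw [hM] at h1
    have e : n * (s * u + d ^ 2) = (n - 1) * (s * u + d ^ 2) + (s * u + d ^ 2) := by ring
    rw [e] at h1
    exact (Int.dvd_add_right (Dvd.intro _ rfl)).1 h1
  have hM_le : n - 1 ≤ s * u + d ^ 2 := Int.le_of_dvd hM_pos hM_dvd
  have hsu : s * u ≤ s * (d * (s - 4) + 2) := mul_le_mul_of_nonneg_left hu_le (by linarith)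
  by_contra hcon
  push_neg at hcon
  have h1 : d * n ≤ d * (s * (d * (s - 4) + 2) + d ^ 2 + 1) :=
    mul_le_mul_of_nonneg_left (by linarith) hd0
  have h2 : 2 * d ^ 4 * s ≤ t * s := mul_le_mul_of_nonneg_right hcon (by linarith)
  have hs2 : 0 ≤ 2 * d ^ 2 - 1 - s := by linarith
  have hp1 : 0 ≤ d ^ 2 * (s - 1) * (2 * d ^ 2 - 1 - s) :=
    mul_nonneg (mul_nonneg (by positivity) (by linarith)) hs2
  have hp2 : 0 ≤ (s - 1) * (4 * d ^ 2 - 2 * d) := mul_nonneg (by linarith) (by linarith)
  have hd3 : 1 ≤ d ^ 3 := one_le_pow₀ hd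
  have hp3 : 0 ≤ d ^ 3 * (d - 1) := mul_nonneg (by positivity) (by linarith)
  have hp4 : 0 ≤ d * (d - 1) := mul_nonneg hd0 (by linarith)
  nlinarith [h1, h2, hp1, hp2, hd3, hp3, hp4, hn]

end Groth.Agent.S18055
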