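import Groth.Statements.S18057
import Groth.Agent.Lib.Helper21.ArtinFS
import Groth.Agent.Lib.Helper1.FSmoothHom

set_option autoImplicit false
universe u
open STCI

namespace Groth.Agent.S18057

open AlgebraicGeometry CategoryTheory in
theorem isArtinianRing_stalk_genericPoint (X : Scheme.{u}) [IrreducibleSpace ↥X] [IsNoetherian X] :
    IsArtinianRing (X.presheaf.stalk (genericPoint X)) := by
  have key : ∀ y : Spec (X.presheaf.stalk (genericPoint X)),
      X.fromSpecStalk (genericPoint X) y = genericPoint X := by
    intro y
    have h1 : X.fromSpecStalk (genericPoint X) y ⤳ genericPoint X := by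
      have : X.fromSpecStalk (genericPoint X) y ∈ Set.range (X.fromSpecStalk (genericPoint X)) :=
        ⟨y, rfl⟩
      rw [Scheme.range_fromSpecStalk] at this
      exact this
    exact (h1.antisymm (genericPoint_specializes _)).eq
  have hinj : Function.Injective (X.fromSpecStalk (genericPoint X)) :=
    (X.fromSpecStalk (genericPoint X)).isEmbedding.injective
  rw [isArtinianRing_iff_isNoetherianRing_krullDimLE_zero]
  refine ⟨inferInstance, ?_⟩
  rw [Ring.krullDimLE_zero_iff]
  intro I hI
  have h2 : (⟨I, hI⟩ : PrimeSpectrum (X.presheaf.stalk (genericPoint X)))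
      = IsLocalRing.closedPoint (X.presheaf.stalk (genericPoint X)) := by
    apply hinj
    exact (key _).trans (key _).symm
  have h3 : I = IsLocalRing.maximalIdeal (X.presheaf.stalk (genericPoint X)) :=
    congrArg PrimeSpectrum.asIdeal h2
  rw [h3]; infer_instance

open AlgebraicGeometry CategoryTheory in
/-- For a morphism f : X' → X between irreducible Noetherian schemes that is flat and formally smooth,
with X defined over a field (rendered: the ring of global sections of X contains a subring that is a
field, which for nonempty X is the same as giving a morphism from X to the spectrum of a field), the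
local rings of X' and X at their generic points η', η (Artinian local rings) satisfy length
O_{X',η'} = length O_{X,η}. Formal smoothness is the infinitesimal lifting property against
square-zero thickenings of affine schemes. -/
theorem result {X' X : Scheme.{u}} (f : X' ⟶ X)
    [IrreducibleSpace ↥X'] [IrreducibleSpace ↥X] [IsNoetherian X'] [IsNoetherian X] [Flat f]
    (hf : MoreMor.IsFormallySmoothHom f) (hK : ∃ K : Subring Γ(X, ⊤), IsField K) :
    Module.length (X'.presheaf.stalk (genericPoint X')) (X'.presheaf.stalk (genericPoint X'))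
      = Module.length (X.presheaf.stalk (genericPoint X)) (X.presheaf.stalk (genericPoint X)) := by
  have hgen : f (genericPoint X') = genericPoint X := by
    obtain ⟨a', ha', hfa'⟩ := Flat.generalizingMap f (genericPoint_specializes (f (genericPoint X')))
    have : a' = genericPoint X' := (ha'.antisymm (genericPoint_specializes a')).eq
    rw [← hfa', this]
  set x' := genericPoint X' with hx'
  have hArtB : IsArtinianRing (X'.presheaf.stalk x') := isArtinianRing_stalk_genericPoint X'
  have hArtA : IsArtinianRing (X.presheaf.stalk (f x')) := by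
    rw [hgen]; exact isArtinianRing_stalk_genericPoint X
  rw [← hgen]
  obtain ⟨V, hV, hxV, -⟩ := TopologicalSpace.Opens.isBasis_iff_nbhd.mp X.isBasis_affineOpens
    (show f x' ∈ (⊤ : X.Opens) from trivial)
  obtain ⟨U, hU, hxU, hUV⟩ := TopologicalSpace.Opens.isBasis_iff_nbhd.mp X'.isBasis_affineOpens
    (show x' ∈ f ⁻¹ᵁ V from hxV)
  have hV' : IsAffineOpen V := hV
  have hU' : IsAffineOpen U := hU
  letI aRA : Algebra Γ(X, V) (X.presheaf.stalk (f x')) :=
    X.presheaf.algebra_section_stalk ⟨f x', hxV⟩
  haveI locA := hV'.isLocalization_stalk ⟨f x', hxV⟩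
  letI aSB : Algebra Γ(X', U) (X'.presheaf.stalk x') :=
    X'.presheaf.algebra_section_stalk ⟨x', hxU⟩
  haveI locB := hU'.isLocalization_stalk ⟨x', hxU⟩
  letI aRS : Algebra Γ(X, V) Γ(X', U) := (f.appLE V U hUV).hom.toAlgebra
  letI aAB : Algebra (X.presheaf.stalk (f x')) (X'.presheaf.stalk x') :=
    (f.stalkMap x').hom.toAlgebra
  letI aRB : Algebra Γ(X, V) (X'.presheaf.stalk x') :=
    ((algebraMap Γ(X', U) (X'.presheaf.stalk x')).comp (algebraMap Γ(X, V) Γ(X', U))).toAlgebra
  haveI : IsScalarTower Γ(X, V) Γ(X', U) (X'.presheaf.stalk x') :=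
    IsScalarTower.of_algebraMap_eq (fun _ => rfl)
  haveI : IsScalarTower Γ(X, V) (X.presheaf.stalk (f x')) (X'.presheaf.stalk x') := by
    refine IsScalarTower.of_algebraMap_eq (fun r => ?_)
    change (X'.presheaf.germ U x' hxU).hom ((f.appLE V U hUV).hom r)
      = (f.stalkMap x').hom ((X.presheaf.germ V (f x') hxV).hom r)
    erw [Scheme.Hom.germ_stalkMap_apply]
    simp only [Scheme.Hom.appLE, CommRingCat.hom_comp, RingHom.coe_comp, Function.comp_apply]
    erw [X'.presheaf.germ_res_apply]
  haveI : Algebra.FormallySmooth Γ(X, V) Γ(X', U) :=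
    Groth.Agent.Lib.Helper1.FSmoothHom.formallySmooth_appLE f hf hU' hV' hUV
  haveI : Algebra.FormallySmooth Γ(X', U) (X'.presheaf.stalk x') :=
    Algebra.FormallySmooth.of_isLocalization (hU'.primeIdealOf ⟨x', hxU⟩).asIdeal.primeCompl
  haveI : Algebra.FormallySmooth Γ(X, V) (X'.presheaf.stalk x') :=
    Algebra.FormallySmooth.comp _ Γ(X', U) _
  haveI : Algebra.FormallySmooth (X.presheaf.stalk (f x')) (X'.presheaf.stalk x') :=
    Algebra.FormallySmooth.localization_base (R := Γ(X, V))
      (hV'.primeIdealOf ⟨f x', hxV⟩).asIdeal.primeCompl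
  haveI : Module.Flat (X.presheaf.stalk (f x')) (X'.presheaf.stalk x') := Flat.stalkMap f x'
  exact (Groth.Agent.Lib.Helper21.ArtinFS.S18056_aux (X.presheaf.stalk (f x'))
    (X'.presheaf.stalk x')).symm

end Groth.Agent.S18057
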