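import Groth.Statements.S1809
import Mathlib
import Groth.Agent.Lib.Helper18.DSchB
import Groth.Agent.Lib.Helper18.DSchC
import Groth.Agent.S0372

set_option autoImplicit false
universe u
open CategoryTheory CategoryTheory.Limits AlgebraicGeometry
attribute [local instance] HasDerivedCategory.standard
open Dual

namespace Groth.Agent.S1809

/-- Let X be a locally Noetherian scheme and ω a dualizing complex on X (affine-locally the derived
tilde of a dualizing complex of the ring; exactness of restriction of module sheaves to opens and of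
M ↦ M~ is assumed through instance binders). Then for every point x the local ring O_{X,x} is
Cohen–Macaulay if and only if exactly one cohomology sheaf of ω has nonzero stalk at x; and the set
of points whose local ring is Cohen–Macaulay is open. -/
theorem result (X : Scheme.{u}) [IsLocallyNoetherian X] [∀ (U : Scheme.{u}) (j : U ⟶ X) [IsOpenImmersion j], PreservesFiniteLimits (Scheme.Modules.restrictFunctor j)] [∀ (R : CommRingCat.{u}), PreservesFiniteLimits (tilde.functor R)] (ω : DCoh.D X) (hω : Dual2.IsDualizingSch X ω) : (∀ x : X, LocCoh.IsCohenMacaulayLocalRing (X.presheaf.stalk x) ↔ ∃! i : ℤ, Nontrivial ((DCoh.HD ω i).presheaf.stalk x)) ∧ IsOpen {x : X | LocCoh.IsCohenMacaulayLocalRing (X.presheaf.stalk x)} := by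
  have key : ∀ (U : X.affineOpens) (y : PrimeSpectrum Γ(X, U.1)),
      LocCoh.IsCohenMacaulayLocalRing (X.presheaf.stalk (U.2.fromSpec y)) ↔
        ∃! i : ℤ, Nontrivial ((DCoh.HD ω i).presheaf.stalk (U.2.fromSpec y)) := by
    intro U y
    obtain ⟨ωA, hωA, ⟨e⟩⟩ := Groth.Agent.Lib.Helper18.DSch.exists_chart ω hω U
    haveI : IsNoetherianRing Γ(X, U.1) := IsLocallyNoetherian.component_noetherian U
    rw [Groth.Agent.Lib.Helper18.DSch.cm_stalk_iff U y,
      Groth.Agent.Lib.Helper18.DR.DSchB.cm_iff_existsUnique ωA hωA y]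
    simp only [Groth.Agent.Lib.Helper18.DSch.nontrivial_stalk_HD_iff ω U ωA e]
  refine ⟨fun x => ?_, ?_⟩
  · obtain ⟨_, ⟨U, hU, rfl⟩, hxU, -⟩ :=
      X.isBasis_affineOpens.exists_subset_of_mem_open (Set.mem_univ x) isOpen_univ
    obtain ⟨y, rfl⟩ := Groth.Agent.Lib.Helper18.DSch.exists_prime_of_mem ⟨U, hU⟩ x hxU
    exact key ⟨U, hU⟩ y
  · apply Groth.Agent.Lib.Helper18.DSch.isOpen_of_affine_charts
    intro U
    obtain ⟨ωA, hωA, -⟩ := Groth.Agent.Lib.Helper18.DSch.exists_chart ω hω U
    haveI : IsNoetherianRing Γ(X, U.1) := IsLocallyNoetherian.component_noetherian U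
    have h := (Groth.Agent.S0372.result Γ(X, U.1) ωA hωA).1
    have hset : {y : PrimeSpectrum Γ(X, U.1) | U.2.fromSpec y ∈
        {x : X | LocCoh.IsCohenMacaulayLocalRing (X.presheaf.stalk x)}} =
        {p : PrimeSpectrum Γ(X, U.1) |
          LocCoh.IsCohenMacaulayLocalRing (Localization.AtPrime p.asIdeal)} := by
      ext y
      exact Groth.Agent.Lib.Helper18.DSch.cm_stalk_iff U y
    rw [hset]
    exact h

end Groth.Agent.S1809
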