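import Groth.Statements.S18112
import Mathlib

set_option autoImplicit false
universe u
open CategoryTheory CategoryTheory.Limits MonoidalCategory CartesianMonoidalCategory MonObj GrpObj AlgebraicGeometry
open AbVar

namespace Groth.Agent.S18112

section numthy
open Polynomial

theorem prod_fact (i : ℕ) : ∏ j ∈ Finset.range i, ((i : ℚ) - (j : ℚ)) = (i.factorial : ℚ) := by
  induction i with
  | zero => simp
  | succ i ih =>
    rw [Finset.prod_range_succ', Nat.factorial_succ]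
    have h : ∀ j ∈ Finset.range i, (((i + 1 : ℕ) : ℚ) - ((j + 1 : ℕ) : ℚ)) = (i : ℚ) - (j : ℚ) := by
      intro j _; push_cast; ring
    rw [Finset.prod_congr rfl h, ih]
    push_cast
    ring

theorem prod_negfact (n : ℕ) (c : ℚ) :
    ∏ k ∈ Finset.range n, (c - (c + 1 + (k : ℚ))) = (-1) ^ n * (n.factorial : ℚ) := by
  induction n with
  | zero => simp
  | succ n ih =>
    rw [Finset.prod_range_succ, ih, Nat.factorial_succ]
    push_cast
    ring

theorem prod_diff (g i : ℕ) (hi : i ≤ g) :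
    ∏ j ∈ (Finset.range (g + 1)).erase i, ((i : ℚ) - (j : ℚ))
      = (-1) ^ (g - i) * (i.factorial : ℚ) * ((g - i).factorial : ℚ) := by
  have hsplit : (Finset.range (g + 1)).erase i = Finset.range i ∪ Finset.Ico (i + 1) (g + 1) := by
    ext j
    simp only [Finset.mem_erase, Finset.mem_range, Finset.mem_union, Finset.mem_Ico]
    omega
  have hdisj : Disjoint (Finset.range i) (Finset.Ico (i + 1) (g + 1)) := by
    rw [Finset.disjoint_left]
    intro j hj hj'
    simp only [Finset.mem_range, Finset.mem_Ico] at hj hj'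
    omega
  rw [hsplit, Finset.prod_union hdisj, prod_fact, Finset.prod_Ico_eq_prod_range]
  have hn : g + 1 - (i + 1) = g - i := by omega
  rw [hn]
  have h : ∀ k ∈ Finset.range (g - i), ((i : ℚ) - ((i + 1 + k : ℕ) : ℚ))
      = (i : ℚ) - ((i : ℚ) + 1 + (k : ℚ)) := by
    intro k _; push_cast; ring
  rw [Finset.prod_congr rfl h, prod_negfact]
  ring

theorem intValued (g : ℕ) (P : ℚ[X]) (hdeg : P.natDegree ≤ g)
    (hval : ∀ i ∈ Finset.range (g + 1), ∃ z : ℤ, P.eval (i : ℚ) = z) :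
    ∃ R : ℤ[X], R.map (Int.castRingHom ℚ) = C (g.factorial : ℚ) * P := by
  classical
  have hinj : Set.InjOn (fun i : ℕ => (i : ℚ)) (Finset.range (g + 1) : Set ℕ) :=
    fun a _ b _ h => Nat.cast_injective h
  have hdeglt : P.degree < (Finset.range (g + 1)).card := by
    rw [Finset.card_range]
    exact lt_of_le_of_lt degree_le_natDegree (by exact_mod_cast Nat.lt_succ_of_le hdeg)
  have hP := Lagrange.eq_interpolate (v := fun i : ℕ => (i : ℚ)) hinj hdeglt
  rw [Lagrange.interpolate_apply] at hP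
  choose! z hz using hval
  have hterm : ∀ i ∈ Finset.range (g + 1),
      (C (z i * ((-1) ^ (g - i) * (g.choose i : ℤ))) *
        ∏ j ∈ (Finset.range (g + 1)).erase i, (X - C ((j : ℕ) : ℤ)) : ℤ[X]).map (Int.castRingHom ℚ)
      = C (g.factorial : ℚ) * (C (P.eval (i : ℚ)) *
        Lagrange.basis (Finset.range (g + 1)) (fun i : ℕ => (i : ℚ)) i) := by
    intro i hi
    have hig : i ≤ g := Nat.lt_succ_iff.mp (Finset.mem_range.mp hi)
    have hC : ∏ j ∈ (Finset.range (g + 1)).erase i, C ((i : ℚ) - (j : ℚ))⁻¹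
        = C (∏ j ∈ (Finset.range (g + 1)).erase i, ((i : ℚ) - (j : ℚ))⁻¹) :=
      (map_prod C _ _).symm
    have hbasis : Lagrange.basis (Finset.range (g + 1)) (fun i : ℕ => (i : ℚ)) i
        = C ((-1) ^ (g - i) * (i.factorial : ℚ) * ((g - i).factorial : ℚ))⁻¹ *
          ∏ j ∈ (Finset.range (g + 1)).erase i, (X - C (j : ℚ)) := by
      have h0 : Lagrange.basis (Finset.range (g + 1)) (fun i : ℕ => (i : ℚ)) i
          = ∏ j ∈ (Finset.range (g + 1)).erase i,
            (C ((i : ℚ) - (j : ℚ))⁻¹ * (X - C (j : ℚ))) := rfl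
      rw [h0, Finset.prod_mul_distrib, hC, Finset.prod_inv_distrib, prod_diff g i hig]
    have hmap : (∏ j ∈ (Finset.range (g + 1)).erase i, (X - C ((j : ℕ) : ℤ)) : ℤ[X]).map
        (Int.castRingHom ℚ) = ∏ j ∈ (Finset.range (g + 1)).erase i, (X - C (j : ℚ)) := by
      rw [Polynomial.map_prod]
      refine Finset.prod_congr rfl fun j _ => ?_
      simp
    have h1 : ((-1 : ℚ) ^ (g - i)) ≠ 0 := pow_ne_zero _ (by norm_num)
    have h2 : (i.factorial : ℚ) ≠ 0 := by exact_mod_cast i.factorial_ne_zero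
    have h3 : ((g - i).factorial : ℚ) ≠ 0 := by exact_mod_cast (g - i).factorial_ne_zero
    have hch : (g.factorial : ℚ) = (g.choose i : ℚ) * i.factorial * (g - i).factorial := by
      exact_mod_cast (Nat.choose_mul_factorial_mul_factorial hig).symm
    have key : (g.factorial : ℚ) * ((-1 : ℚ) ^ (g - i) * (i.factorial : ℚ)
        * ((g - i).factorial : ℚ))⁻¹ = (-1) ^ (g - i) * (g.choose i : ℚ) := by
      rw [hch, _root_.mul_inv, _root_.mul_inv, ← inv_pow, inv_neg_one]
      calc (g.choose i : ℚ) * i.factorial * (g - i).factorial *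
            ((-1) ^ (g - i) * (i.factorial : ℚ)⁻¹ * ((g - i).factorial : ℚ)⁻¹)
          = (-1) ^ (g - i) * (g.choose i : ℚ) * ((i.factorial : ℚ) * (i.factorial : ℚ)⁻¹)
            * (((g - i).factorial : ℚ) * ((g - i).factorial : ℚ)⁻¹) := by ring
        _ = _ := by rw [mul_inv_cancel₀ h2, mul_inv_cancel₀ h3, _root_.mul_one, _root_.mul_one]
    rw [Polynomial.map_mul, hmap, Polynomial.map_C, hbasis, hz i hi]
    have harith : (Int.castRingHom ℚ) (z i * ((-1) ^ (g - i) * (g.choose i : ℤ)))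
        = (g.factorial : ℚ) * (z i : ℚ) * ((-1 : ℚ) ^ (g - i) * (i.factorial : ℚ)
          * ((g - i).factorial : ℚ))⁻¹ := by
      calc (Int.castRingHom ℚ) (z i * ((-1) ^ (g - i) * (g.choose i : ℤ)))
          = (z i : ℚ) * ((-1) ^ (g - i) * (g.choose i : ℚ)) := by simp
        _ = (z i : ℚ) * ((g.factorial : ℚ) * ((-1 : ℚ) ^ (g - i) * (i.factorial : ℚ)
            * ((g - i).factorial : ℚ))⁻¹) := by rw [key]
        _ = _ := by ring
    rw [harith, C_mul, C_mul]
    ring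
  refine ⟨∑ i ∈ Finset.range (g + 1), C (z i * ((-1) ^ (g - i) * (g.choose i : ℤ))) *
    ∏ j ∈ (Finset.range (g + 1)).erase i, (X - C ((j : ℕ) : ℤ)), ?_⟩
  rw [Polynomial.map_sum]
  conv_rhs => rw [hP, Finset.mul_sum]
  exact Finset.sum_congr rfl hterm

theorem stepM (g : ℕ) (u v : ℚ) (Q : ℚ[X]) (hQ : Q.natDegree ≤ g)
    (hval : ∀ (a : ℤ) (b : ℕ), 0 < b → u < (a : ℚ) / (b : ℚ) → (a : ℚ) / (b : ℚ) < v →
      ∃ n : ℕ, (n : ℚ) / (b : ℚ) ^ (2 * g) = Q.eval ((a : ℚ) / (b : ℚ)))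
    (b : ℕ) (hb : 0 < b) (a₀ : ℤ)
    (ha : ∀ i ∈ Finset.range (g + 1), u < ((a₀ + (i : ℤ) : ℤ) : ℚ) / (b : ℚ) ∧
      ((a₀ + (i : ℤ) : ℤ) : ℚ) / (b : ℚ) < v) (j : ℕ) :
    ∃ z : ℤ, (g.factorial : ℚ) * (b : ℚ) ^ (2 * g) * Q.coeff j = z := by
  have hb0 : (b : ℚ) ≠ 0 := by exact_mod_cast hb.ne'
  obtain ⟨Pt, hPt⟩ : ∃ Pt : ℚ[X], Pt = C ((b : ℚ) ^ (2 * g)) *
      Q.comp (C (1 / (b : ℚ)) * (X + C (a₀ : ℚ))) := ⟨_, rfl⟩
  have hdeg : Pt.natDegree ≤ g := by
    rw [hPt]
    refine (natDegree_C_mul_le _ _).trans ?_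
    refine natDegree_comp_le.trans ?_
    have h1 : (C (1 / (b : ℚ)) * (X + C (a₀ : ℚ))).natDegree ≤ 1 := by
      refine (natDegree_C_mul_le _ _).trans ?_
      rw [natDegree_X_add_C]
    calc Q.natDegree * (C (1 / (b : ℚ)) * (X + C (a₀ : ℚ))).natDegree ≤ g * 1 :=
          Nat.mul_le_mul hQ h1
      _ = g := _root_.mul_one g
  have hev : ∀ i ∈ Finset.range (g + 1), ∃ z : ℤ, Pt.eval (i : ℚ) = z := by
    intro i hi
    obtain ⟨h1, h2⟩ := ha i hi
    obtain ⟨n, hn⟩ := hval (a₀ + i) b hb h1 h2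
    refine ⟨n, ?_⟩
    rw [hPt, eval_mul, eval_C, eval_comp, eval_mul, eval_C, eval_add, eval_X, eval_C]
    have harg : 1 / (b : ℚ) * ((i : ℚ) + a₀) = ((a₀ + (i : ℤ) : ℤ) : ℚ) / b := by
      push_cast; ring
    rw [harg, ← hn, Int.cast_natCast]
    field_simp
  obtain ⟨R, hR⟩ := intValued g Pt hdeg hev
  have hcomp : Pt.comp (C (b : ℚ) * X - C (a₀ : ℚ)) = C ((b : ℚ) ^ (2 * g)) * Q := by
    rw [hPt, Polynomial.mul_comp, C_comp, comp_assoc]
    have h : (C (1 / (b : ℚ)) * (X + C (a₀ : ℚ))).comp (C (b : ℚ) * X - C (a₀ : ℚ)) = X := by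
      rw [Polynomial.mul_comp, C_comp, add_comp, X_comp, C_comp, sub_add_cancel, ← _root_.mul_assoc, ← C_mul,
        one_div, inv_mul_cancel₀ hb0, C_1, _root_.one_mul]
    rw [h, comp_X]
  have hmapΨ : (C (b : ℤ) * X - C a₀ : ℤ[X]).map (Int.castRingHom ℚ)
      = C (b : ℚ) * X - C (a₀ : ℚ) := by simp
  have hfinal : (R.comp (C (b : ℤ) * X - C a₀)).map (Int.castRingHom ℚ)
      = C (g.factorial : ℚ) * (C ((b : ℚ) ^ (2 * g)) * Q) := by
    rw [Polynomial.map_comp, hR, hmapΨ, Polynomial.mul_comp, C_comp, hcomp]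
  refine ⟨(R.comp (C (b : ℤ) * X - C a₀)).coeff j, ?_⟩
  have h := congrArg (fun p => p.coeff j) hfinal
  simp only [coeff_map, coeff_C_mul] at h
  have h2 : (((R.comp (C (b : ℤ) * X - C a₀)).coeff j : ℤ) : ℚ)
      = (g.factorial : ℚ) * ((b : ℚ) ^ (2 * g) * Q.coeff j) := by
    rw [← eq_intCast (Int.castRingHom ℚ)]; exact h
  rw [h2]; ring

theorem numthy (g : ℕ) (u v : ℚ) (huv : u < v) (Q : ℚ[X]) (hQ : Q.natDegree ≤ g)
    (hval : ∀ (a : ℤ) (b : ℕ), 0 < b → u < (a : ℚ) / (b : ℚ) → (a : ℚ) / (b : ℚ) < v →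
      ∃ n : ℕ, (n : ℚ) / (b : ℚ) ^ (2 * g) = Q.eval ((a : ℚ) / (b : ℚ)))
    (j : ℕ) : ∃ z : ℤ, (g.factorial : ℚ) * Q.coeff j = z := by
  have hd : 0 < v - u := sub_pos.mpr huv
  obtain ⟨B, hB⟩ : ∃ B : ℕ, ((g : ℚ) + 2) / (v - u) ≤ B :=
    ⟨⌈((g : ℚ) + 2) / (v - u)⌉₊, Nat.le_ceil _⟩
  have hstep : ∀ b : ℕ, B < b →
      ∃ z : ℤ, (g.factorial : ℚ) * (b : ℚ) ^ (2 * g) * Q.coeff j = z := by
    intro b hb
    have hbpos : 0 < b := by omega
    have hbq : (0 : ℚ) < b := by exact_mod_cast hbpos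
    have hbig : (g : ℚ) + 2 < b * (v - u) := by
      have h1 : ((g : ℚ) + 2) / (v - u) < b := lt_of_le_of_lt hB (by exact_mod_cast hb)
      rwa [div_lt_iff₀ hd] at h1
    apply stepM g u v Q hQ hval b hbpos (⌊(b : ℚ) * u⌋ + 1)
    intro i hi
    have hi' : (i : ℚ) ≤ g := by exact_mod_cast Nat.lt_succ_iff.mp (Finset.mem_range.mp hi)
    have hi0 : (0 : ℚ) ≤ i := Nat.cast_nonneg i
    have hfl1 : (b : ℚ) * u < ⌊(b : ℚ) * u⌋ + 1 := Int.lt_floor_add_one _
    have hfl2 : (⌊(b : ℚ) * u⌋ : ℚ) ≤ b * u := Int.floor_le _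
    constructor
    · rw [lt_div_iff₀ hbq]; push_cast; linarith
    · rw [div_lt_iff₀ hbq]; push_cast; linarith
  obtain ⟨z1, hz1⟩ := hstep (B + 1) (by omega)
  obtain ⟨z2, hz2⟩ := hstep (B + 2) (by omega)
  have hcop : IsCoprime (((B + 1 : ℕ) : ℤ) ^ (2 * g)) (((B + 2 : ℕ) : ℤ) ^ (2 * g)) := by
    apply IsCoprime.pow
    exact ⟨-1, 1, by push_cast; ring⟩
  obtain ⟨s, t, hst⟩ := hcop
  refine ⟨s * z1 + t * z2, ?_⟩
  have hstq : (s : ℚ) * ((B + 1 : ℕ) : ℚ) ^ (2 * g) + (t : ℚ) * ((B + 2 : ℕ) : ℚ) ^ (2 * g) = 1 := by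
    exact_mod_cast hst
  rw [Int.cast_add, Int.cast_mul, Int.cast_mul, ← hz1, ← hz2]
  linear_combination (-((g.factorial : ℚ) * Q.coeff j)) * hstq

end numthy

/-- Let k be an algebraically closed field of characteristic zero, A an abelian variety over k (a proper
smooth k-group scheme with geometrically connected fibres) of dimension g, (A^t, φ) a given dual
abelian variety of A for the fppf topology with A^t itself an abelian variety, and P an invertible
module on A ×_k A^t whose class is a Poincaré class; for a k-point α of A^t write P_α for the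
restriction of P to A × {α}. Let L be an ample invertible O_A-module with an inverse L' (L ⊗ L' ≅
O_A), negative powers of L meaning powers of L'. For a coherent O_A-module G write h^i_gen(G) for
the generic value of h^i(A, G ⊗ P_α), rendered as the minimum over all k-points α of A^t (the
generic value by semicontinuity), and for b ≥ 1 let b_A : A → A be multiplication by b. Let F be a
coherent O_A-module and i ≥ 0, and consider the i-th cohomological rank function of F with respect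
to L, the function on the rationals x = a/b (b ≥ 1) with value b^{-2g} · h^i_gen(b_A^* F ⊗ L^{ab}).
Suppose that on an open interval (u, v), u < v rational, this function agrees with a polynomial Q
with rational coefficients of degree at most g. Then every coefficient of Q lies in (1/g!)ℤ, i.e. g!
· Q has integer coefficients. (Stated for a coherent module; the source allows any object of the
bounded derived category of coherent modules. The degree bound on Q, which the source takes from the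
local polynomiality of rank functions, is made a hypothesis here.) -/
theorem result (k : Type u) [Field k] [IsAlgClosed k] [CharZero k]
    (A At : Over (Spec (CommRingCat.of k))) [GrpObj A] [IsProper A.hom] [Smooth A.hom] [GeometricallyConnected A.hom]
    [GrpObj At] [IsProper At.hom] [Smooth At.hom] [GeometricallyConnected At.hom]
    (φ : ∀ T : Over (Spec (CommRingCat.of k)), PicF.Cl (PicF.XT A.hom T) → (T ⟶ At))
    (hφ : AbDual.IsDualAV Scheme.fppfPrecoverage A At φ)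
    (P : (pullback A.hom At.hom).Modules) (hP : PicF.IsInvertible P)
    (hPξ : AbDual.IsPoincareCl A At φ (PicF.cl P))
    (g : ℕ) (hg : topologicalKrullDim ↥A.left = g)
    (L L' : A.left.Modules) (hL : CohB1.IsAmple L) (hLL' : Nonempty (CohB1.tensorMod L L' ≅ Coh.structureModule A.left))
    (F : A.left.Modules) (hF : Coh.IsCoh F) (i : ℕ) (u v : ℚ) (huv : u < v)
    (Q : Polynomial ℚ) (hQ : Q.natDegree ≤ g)
    (hpoly : ∀ (a : ℤ) (b : ℕ), 0 < b → u < (a : ℚ) / (b : ℚ) → (a : ℚ) / (b : ℚ) < v →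
      ((W4c5cohrankabvar.hgen k P (W4c5cohrankabvar.twist A F L L' b (a * b)) i : ℕ) : ℚ) / (b : ℚ) ^ (2 * g) =
        Q.eval ((a : ℚ) / (b : ℚ)))
    (j : ℕ) : ∃ z : ℤ, (Nat.factorial g : ℚ) * Q.coeff j = (z : ℚ) := by
  exact numthy g u v huv Q hQ (fun a b hb h1 h2 => ⟨_, hpoly a b hb h1 h2⟩) j

end Groth.Agent.S18112
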