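import Groth.Statements.S18125
import Mathlib

set_option autoImplicit false
universe u
open Pinch

namespace Groth.Agent.S18125


section aux
variable {P : Type*} [CommRing P]

theorem mem3 {a b c x : P} (p q r : P) (h : x = p * a + q * b + r * c) :
    x ∈ Ideal.span ({a, b, c} : Set P) := by
  rw [h]
  exact Ideal.add_mem _ (Ideal.add_mem _
    (Ideal.mul_mem_left _ _ (Ideal.subset_span (by simp)))
    (Ideal.mul_mem_left _ _ (Ideal.subset_span (by simp))))
    (Ideal.mul_mem_left _ _ (Ideal.subset_span (by simp)))

theorem exists3 {a b c x : P} (h : x ∈ Ideal.span ({a, b, c} : Set P)) :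
    ∃ p q r : P, x = p * a + q * b + r * c := by
  rw [Ideal.mem_span_insert] at h
  obtain ⟨p, z, hz, rfl⟩ := h
  rw [Ideal.mem_span_pair] at hz
  obtain ⟨q, r, rfl⟩ := hz
  exact ⟨p, q, r, by ring⟩

end aux

/-- Let K be a field in which 2 ≠ 0, n ≥ 0, S = K[u, v, w, t_1, …, t_n] (u, v, w the first three
variables), h = u^2 - v^2 w the equation of the pinch-point model, and Jac the ideal generated by h
and its three partial derivatives 2u, -2vw, -v^2, which cuts out the scheme-theoretic singular locus
of {h = 0}. Then the ideal (u, v) of the double locus is Jac + (v), and the colon ideal of Jac by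
(v) is (u, v, w). Consequently (u, v)/Jac, the ideal of the double locus restricted to the singular
locus, is an invertible sheaf on the pinch locus u = v = w = 0: it is free of rank one over K[t_1,
…, t_n] on the class of v. (The text states this for every semi-smooth variety and reduces to this
model; K algebraically closed is not needed for the model computation.) -/
theorem result
    (K : Type u) [Field K] [NeZero (2 : K)] (n : ℕ) :
    letI u : MvPolynomial (Fin (n + 3)) K := MvPolynomial.X 0
    letI v : MvPolynomial (Fin (n + 3)) K := MvPolynomial.X 1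
    letI w : MvPolynomial (Fin (n + 3)) K := MvPolynomial.X 2
    letI Jac : Ideal (MvPolynomial (Fin (n + 3)) K) :=
      Ideal.span {u ^ 2 - v ^ 2 * w, 2 * u, -(2 * v * w), -(v ^ 2)}
    Ideal.span {u, v} = Jac ⊔ Ideal.span {v} ∧ Jac.colon (Ideal.span {v}) = Ideal.span {u, v, w} := by
  classical
  set u : MvPolynomial (Fin (n + 3)) K := MvPolynomial.X 0 with hu
  set v : MvPolynomial (Fin (n + 3)) K := MvPolynomial.X 1 with hv
  set w : MvPolynomial (Fin (n + 3)) K := MvPolynomial.X 2 with hw
  set Jac : Ideal (MvPolynomial (Fin (n + 3)) K) :=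
    Ideal.span {u ^ 2 - v ^ 2 * w, 2 * u, -(2 * v * w), -(v ^ 2)} with hJac
  have h10 : (1 : Fin (n + 3)) ≠ 0 := by
    intro h; have := congrArg Fin.val h; simp at this
  have h20 : (2 : Fin (n + 3)) ≠ 0 := by
    intro h
    have h' := congrArg Fin.val h
    rw [Fin.val_two, Fin.val_zero] at h'
    omega
  have h2unit : IsUnit (2 : MvPolynomial (Fin (n + 3)) K) := by
    have h : (2 : MvPolynomial (Fin (n + 3)) K) =
        algebraMap K (MvPolynomial (Fin (n + 3)) K) 2 := (map_ofNat _ 2).symm
    rw [h]
    exact (IsUnit.mk0 (2 : K) (NeZero.ne 2)).map _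
  have huJ : u ∈ Jac :=
    (Ideal.unit_mul_mem_iff_mem Jac h2unit).mp
      (Ideal.subset_span (Set.mem_insert_of_mem _ (Set.mem_insert _ _)))
  have hvwJ : v * w ∈ Jac := by
    have h1 : -(2 * v * w) ∈ Jac :=
      Ideal.subset_span (Set.mem_insert_of_mem _ (Set.mem_insert_of_mem _ (Set.mem_insert _ _)))
    have h2 : 2 * (v * w) ∈ Jac := by
      have := neg_mem h1
      rwa [neg_neg, mul_assoc] at this
    exact (Ideal.unit_mul_mem_iff_mem Jac h2unit).mp h2
  have hv2J : v ^ 2 ∈ Jac := by
    have h1 : -(v ^ 2) ∈ Jac :=
      Ideal.subset_span (Set.mem_insert_of_mem _ (Set.mem_insert_of_mem _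
        (Set.mem_insert_of_mem _ (Set.mem_singleton _))))
    have := neg_mem h1
    rwa [neg_neg] at this
  refine ⟨?_, ?_⟩
  · apply le_antisymm
    · rw [Ideal.span_le]
      intro x hx
      rcases hx with rfl | rfl
      · exact Ideal.mem_sup_left huJ
      · exact Ideal.mem_sup_right (Ideal.subset_span rfl)
    · refine sup_le ?_ ?_
      · rw [hJac, Ideal.span_le]
        intro x hx
        rcases hx with rfl | rfl | rfl | rfl
        · exact Ideal.mem_span_pair.mpr ⟨u, -(v * w), by ring⟩
        · exact Ideal.mem_span_pair.mpr ⟨2, 0, by ring⟩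
        · exact Ideal.mem_span_pair.mpr ⟨0, -(2 * w), by ring⟩
        · exact Ideal.mem_span_pair.mpr ⟨0, -v, by ring⟩
      · rw [Ideal.span_le]
        intro x hx
        rw [Set.mem_singleton_iff] at hx
        rw [hx]
        exact Ideal.subset_span (by simp)
  · -- the substitution u ↦ 0
    set φ : MvPolynomial (Fin (n + 3)) K →ₐ[K] MvPolynomial (Fin (n + 3)) K :=
      MvPolynomial.aeval (fun i : Fin (n + 3) =>
        if i = 0 then (0 : MvPolynomial (Fin (n + 3)) K) else MvPolynomial.X i) with hφ_def
    have hφX : ∀ i : Fin (n + 3), i ≠ 0 → φ (MvPolynomial.X i) = MvPolynomial.X i := by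
      intro i hi
      rw [hφ_def, MvPolynomial.aeval_X, if_neg hi]
    have hφu : φ u = 0 := by
      rw [hφ_def, hu, MvPolynomial.aeval_X, if_pos rfl]
    have hφv : φ v = v := hφX 1 h10
    have hφw : φ w = w := hφX 2 h20
    have hφ : ∀ f : MvPolynomial (Fin (n + 3)) K, f - φ f ∈ Ideal.span ({u} : Set _) := by
      intro f
      induction f using MvPolynomial.induction_on with
      | C a =>
        have : φ (MvPolynomial.C a) = MvPolynomial.C a := by
          rw [hφ_def, MvPolynomial.aeval_C]; rfl
        rw [this, sub_self]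
        exact zero_mem _
      | add p q hp hq =>
        have : p + q - φ (p + q) = (p - φ p) + (q - φ q) := by rw [map_add]; ring
        rw [this]
        exact add_mem hp hq
      | mul_X p i hp =>
        have : p * MvPolynomial.X i - φ (p * MvPolynomial.X i) =
            (p - φ p) * MvPolynomial.X i + φ p * (MvPolynomial.X i - φ (MvPolynomial.X i)) := by
          rw [map_mul]; ring
        rw [this]
        refine add_mem (Ideal.mul_mem_right _ _ hp) (Ideal.mul_mem_left _ _ ?_)
        by_cases hi : i = 0
        · subst hi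
          have h0 : φ (MvPolynomial.X 0) = 0 := hφu
          rw [h0, sub_zero]
          exact Ideal.subset_span rfl
        · rw [hφX i hi, sub_self]
          exact zero_mem _
    have hJle : Jac ≤ Ideal.span ({u, v * w, v ^ 2} : Set _) := by
      rw [hJac, Ideal.span_le]
      intro x hx
      rcases hx with rfl | rfl | rfl | rfl
      · exact mem3 u (-v) 0 (by ring)
      · exact mem3 2 0 0 (by ring)
      · exact mem3 0 (-2) 0 (by ring)
      · exact mem3 0 0 (-1) (by ring)
    ext f
    rw [Ideal.mem_colon_span_singleton]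
    constructor
    · intro hf
      obtain ⟨p, q, r', h⟩ := exists3 (hJle hf)
      have h1 := congrArg φ h
      simp only [map_mul, map_add, map_pow, hφu, hφv, hφw, mul_zero, zero_add] at h1
      have h2 : φ f * v = (φ q * w + φ r' * v) * v := by rw [h1]; ring
      have hv0 : v ≠ 0 := MvPolynomial.X_ne_zero 1
      have h3 : φ f = φ q * w + φ r' * v := mul_right_cancel₀ hv0 h2
      have h4 : f = (f - φ f) + φ f := by ring
      rw [h4]
      refine add_mem ?_ ?_
      · have hle : Ideal.span ({u} : Set (MvPolynomial (Fin (n + 3)) K)) ≤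
            Ideal.span {u, v, w} := Ideal.span_mono (by simp)
        exact hle (hφ f)
      · rw [h3]
        exact mem3 0 (φ r') (φ q) (by ring)
    · intro hf
      obtain ⟨p, q, r', h⟩ := exists3 hf
      have h1 : f * v = (p * v) * u + q * v ^ 2 + r' * (v * w) := by rw [h]; ring
      rw [h1]
      exact add_mem (add_mem (Ideal.mul_mem_left _ _ huJ) (Ideal.mul_mem_left _ _ hv2J))
        (Ideal.mul_mem_left _ _ hvwJ)

end Groth.Agent.S18125
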