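import Groth.Statements.S18127
import Mathlib

set_option autoImplicit false
universe u
open LocAlg

namespace Groth.Agent.S18127

/-- Let R be a local ring with maximal ideal m and algebraically closed residue field, and M an n × n
matrix over R whose reduction modulo m has rank at most r. Then the determinant of M lies in m^(n −
r). (The published setting is the local ring of germs of holomorphic functions at a point of a
complex manifold, where this says that the determinant vanishes to order at least n − r at a point
where the matrix has rank at most r.) -/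
theorem result
    {R : Type u} [CommRing R] [IsLocalRing R] [IsAlgClosed (IsLocalRing.ResidueField R)]
    {n : ℕ} (M : Matrix (Fin n) (Fin n) R) (r : ℕ)
    (hr : (M.map (IsLocalRing.residue R)).rank ≤ r) :
    M.det ∈ IsLocalRing.maximalIdeal R ^ (n - r) := by
  classical
  set Mb : Matrix (Fin n) (Fin n) (IsLocalRing.ResidueField R) :=
    M.map (IsLocalRing.residue R) with hMb
  -- the columns of the reduced matrix
  let v : Fin n → (Fin n → IsLocalRing.ResidueField R) := Mb.col
  obtain ⟨b, -, -, hspan, hli⟩ := exists_linearIndepOn_extension
    (K := IsLocalRing.ResidueField R) (v := v) (s := ∅) (t := Set.univ)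
    (linearIndepOn_empty (IsLocalRing.ResidueField R) v) (Set.empty_subset _)
  set S : Finset (Fin n) := Finset.univ.filter (· ∈ b) with hS
  have hcard : S.card ≤ r := by
    have h0 : Fintype.card b = S.card := Fintype.card_of_subtype S (by simp [S])
    have h1 : Module.finrank (IsLocalRing.ResidueField R)
        (Submodule.span (IsLocalRing.ResidueField R) (Set.range (fun x : b => v x))) =
        Fintype.card b :=
      finrank_span_eq_card (show LinearIndependent (IsLocalRing.ResidueField R)
        (fun x : b => v x) from hli)
    have h2 : Submodule.span (IsLocalRing.ResidueField R) (Set.range (fun x : b => v x)) ≤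
        Submodule.span (IsLocalRing.ResidueField R) (Set.range v) :=
      Submodule.span_mono (by rintro _ ⟨x, rfl⟩; exact ⟨x, rfl⟩)
    have h3 := Submodule.finrank_mono h2
    rw [h1] at h3
    have h4 : Mb.rank = Module.finrank (IsLocalRing.ResidueField R)
        (Submodule.span (IsLocalRing.ResidueField R) (Set.range v)) :=
      Matrix.rank_eq_finrank_span_cols Mb
    omega
  -- coefficients expressing every column through the columns in `b`, lifted to `R`
  have hcoef : ∀ j : Fin n, ∃ c : Fin n → R, (∀ l, l ∉ b → c l = 0) ∧
      ∀ i, IsLocalRing.residue R (M i j) =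
        ∑ l, IsLocalRing.residue R (M i l) * IsLocalRing.residue R (c l) := by
    intro j
    have hj : v j ∈ Submodule.span (IsLocalRing.ResidueField R) (v '' b) :=
      hspan ⟨j, Set.mem_univ j, rfl⟩
    rw [Finsupp.mem_span_image_iff_linearCombination] at hj
    obtain ⟨l, hl, hlj⟩ := hj
    rw [Finsupp.mem_supported'] at hl
    refine ⟨fun p => if p ∈ b then Function.surjInv IsLocalRing.residue_surjective (l p) else 0,
      ?_, ?_⟩
    · intro p hp
      simp [hp]
    · intro i
      have h5 := congrFun hlj i
      rw [Finsupp.linearCombination_apply, Finsupp.sum_fintype _ _ (by simp)] at h5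
      simp only [Finset.sum_apply, Pi.smul_apply, smul_eq_mul] at h5
      have h6 : v j i = IsLocalRing.residue R (M i j) := rfl
      rw [h6] at h5
      rw [← h5]
      apply Finset.sum_congr rfl
      intro p _
      have h7 : v p i = IsLocalRing.residue R (M i p) := rfl
      rw [h7]
      by_cases hp : p ∈ b
      · simp only [if_pos hp, Function.surjInv_eq]
        rw [mul_comm]
      · simp only [if_neg hp, hl p hp, map_zero, zero_mul, mul_zero]
  choose c hc0 hc using hcoef
  set N : Matrix (Fin n) (Fin n) R := Matrix.of (fun l j => if j ∈ b then 0 else c j l) with hN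
  have hNN : N * N = 0 := by
    ext l j
    rw [Matrix.mul_apply, Matrix.zero_apply]
    apply Finset.sum_eq_zero
    intro p _
    by_cases hp : p ∈ b
    · have h8 : N l p = 0 := by simp [N, hp]
      rw [h8, zero_mul]
    · have h8 : N p j = 0 := by
        simp only [N, Matrix.of_apply]
        split_ifs
        · rfl
        · exact hc0 j p hp
      rw [h8, mul_zero]
  set E : Matrix (Fin n) (Fin n) R := M * (1 - N) with hE_def
  have hME : M = E * (1 + N) := by
    have h9 : (1 - N) * (1 + N) = 1 := by
      rw [sub_mul, one_mul, mul_add, mul_one, hNN, add_zero, add_sub_cancel_right]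
    rw [hE_def, Matrix.mul_assoc, h9, Matrix.mul_one]
  have hE : ∀ j, j ∉ b → ∀ i, E i j ∈ IsLocalRing.maximalIdeal R := by
    intro j hj i
    rw [← IsLocalRing.residue_eq_zero_iff]
    have h10 : E i j = M i j - ∑ l, M i l * N l j := by
      simp only [E, Matrix.mul_sub, Matrix.mul_one, Matrix.sub_apply, Matrix.mul_apply]
    rw [h10, map_sub, map_sum, hc j i, sub_eq_zero]
    apply Finset.sum_congr rfl
    intro l _
    rw [map_mul]
    simp [N, hj]
  have hdetE : E.det ∈ IsLocalRing.maximalIdeal R ^ (n - r) := by
    rw [Matrix.det_apply']
    apply Ideal.sum_mem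
    intro σ _
    apply Ideal.mul_mem_left
    rw [← Finset.prod_mul_prod_compl S (fun i => E (σ i) i)]
    apply Ideal.mul_mem_left
    have h1 : ∏ i ∈ Sᶜ, E (σ i) i ∈ ∏ i ∈ Sᶜ, IsLocalRing.maximalIdeal R := by
      apply Ideal.prod_mem_prod
      intro i hi
      apply hE
      simpa [S] using hi
    rw [Finset.prod_const] at h1
    refine Ideal.pow_le_pow_right ?_ h1
    rw [Finset.card_compl, Fintype.card_fin]
    omega
  rw [hME, Matrix.det_mul]
  exact Ideal.mul_mem_right _ _ hdetE

end Groth.Agent.S18127
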