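import Groth.Statements.S18136
import Mathlib


set_option autoImplicit false
universe u v
open IsLocalRing
open CAlg

namespace Groth.Agent.S18136

lemma psi_local_q {A : Type u} [CommRing A]
    {ι : Type v} [Preorder ι] [IsDirected ι (· ≤ ·)]
    (B : ι → Type u) [∀ j, CommRing (B j)]
    (φ : ∀ i j, i ≤ j → (B i →+* B j)) (hφloc : ∀ i j (h : i ≤ j), IsLocalHom (φ i j h))
    (hφ : ∀ i j l (hij : i ≤ j) (hjl : j ≤ l), (φ j l hjl).comp (φ i j hij) = φ i l (hij.trans hjl))
    (ψ : ∀ j, B j →+* A) (hψ : ∀ i j (h : i ≤ j), (ψ j).comp (φ i j h) = ψ i)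
    (hsurj : ∀ a : A, ∃ j, ∃ x : B j, ψ j x = a)
    (hker : ∀ j (x : B j), ψ j x = 0 → ∃ l, ∃ h : j ≤ l, φ j l h x = 0)
    (j : ι) (x : B j) (hx : IsUnit (ψ j x)) : IsUnit x := by
  obtain ⟨y, hy⟩ := hx.exists_right_inv
  obtain ⟨l, y', hy'⟩ := hsurj y
  obtain ⟨m, hjm, hlm⟩ := exists_ge_ge j l
  have e1 : ψ m (φ j m hjm x) = ψ j x := RingHom.congr_fun (hψ j m hjm) x
  have e2 : ψ m (φ l m hlm y') = ψ l y' := RingHom.congr_fun (hψ l m hlm) y'
  have h0 : ψ m (φ j m hjm x * φ l m hlm y' - 1) = 0 := by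
    rw [map_sub, map_mul, map_one, e1, e2, hy', hy, sub_self]
  obtain ⟨n, hmn, hn⟩ := hker m _ h0
  rw [map_sub, map_mul, map_one, sub_eq_zero] at hn
  have e3 : φ m n hmn (φ j m hjm x) = φ j n (hjm.trans hmn) x :=
    RingHom.congr_fun (hφ j m n hjm hmn) x
  rw [e3] at hn
  have hu : IsUnit (φ j n (hjm.trans hmn) x) := IsUnit.of_mul_eq_one _ hn
  haveI := hφloc j n (hjm.trans hmn)
  exact (isUnit_map_iff (φ j n (hjm.trans hmn)) x).mp hu

lemma li_transfer_q {A B : Type u} [CommRing A] [IsLocalRing A] [CommRing B] [IsLocalRing B]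
    (ψ : B →+* A) (hloc : ∀ x : B, IsUnit (ψ x) → IsUnit x)
    {κ : Type*} [Fintype κ] (v : κ → maximalIdeal B) (w : κ → maximalIdeal A)
    (hvw : ∀ i, ψ (v i : B) = (w i : A))
    (hind : LinearIndependent (ResidueField A) (⇑(maximalIdeal A).toCotangent ∘ w)) :
    LinearIndependent (ResidueField B) (⇑(maximalIdeal B).toCotangent ∘ v) := by
  rw [Fintype.linearIndependent_iff] at hind ⊢
  intro g hg i
  have hlift : ∀ i, ∃ b : B, residue B b = g i := fun i => residue_surjective (g i)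
  choose b hb using hlift
  have h1 : (maximalIdeal B).toCotangent (∑ i, b i • v i) = 0 := by
    rw [map_sum]
    refine Eq.trans (Finset.sum_congr rfl fun i _ => ?_) hg
    rw [map_smul, Function.comp_apply, ← hb i]
    exact (algebraMap_smul (ResidueField B) (b i) _).symm
  rw [Ideal.toCotangent_eq_zero] at h1
  have hle : (maximalIdeal B).map ψ ≤ maximalIdeal A := by
    rw [Ideal.map_le_iff_le_comap]
    intro x hx
    rw [Ideal.mem_comap, mem_maximalIdeal, mem_nonunits_iff]
    intro hu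
    exact (mem_nonunits_iff.mp ((mem_maximalIdeal x).mp hx)) (hloc x hu)
  have h2 : ψ ((∑ i, b i • v i : maximalIdeal B) : B) ∈ maximalIdeal A ^ 2 := by
    have h2' : ψ ((∑ i, b i • v i : maximalIdeal B) : B) ∈ (maximalIdeal B ^ 2).map ψ :=
      Ideal.mem_map_of_mem ψ h1
    rw [Ideal.map_pow] at h2'
    exact Ideal.pow_right_mono hle 2 h2'
  have h3 : ψ ((∑ i, b i • v i : maximalIdeal B) : B) =
      ((∑ i, ψ (b i) • w i : maximalIdeal A) : A) := by
    simp [hvw]
  rw [h3, ← Ideal.toCotangent_eq_zero, map_sum] at h2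
  have h4 : ∑ i, residue A (ψ (b i)) • ((maximalIdeal A).toCotangent ∘ w) i = 0 := by
    refine Eq.trans (Finset.sum_congr rfl fun i _ => ?_) h2
    rw [map_smul, Function.comp_apply]
    exact algebraMap_smul (ResidueField A) (ψ (b i)) _
  have h5 := hind (fun i => residue A (ψ (b i))) h4 i
  rw [residue_eq_zero_iff] at h5
  rw [← hb i, residue_eq_zero_iff, mem_maximalIdeal, mem_nonunits_iff]
  intro hu
  exact (mem_nonunits_iff.mp ((mem_maximalIdeal _).mp h5)) (hu.map ψ)

lemma lift_common_q {A : Type u} [CommRing A]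
    {ι : Type v} [Preorder ι] [Nonempty ι] [IsDirected ι (· ≤ ·)]
    (B : ι → Type u) [∀ j, CommRing (B j)]
    (φ : ∀ i j, i ≤ j → (B i →+* B j))
    (ψ : ∀ j, B j →+* A) (hψ : ∀ i j (h : i ≤ j), (ψ j).comp (φ i j h) = ψ i)
    (hsurj : ∀ a : A, ∃ j, ∃ x : B j, ψ j x = a)
    {κ : Type*} [Finite κ] (a : κ → A) :
    ∃ j₀ : ι, ∃ x : κ → B j₀, ∀ k, ψ j₀ (x k) = a k := by
  choose jf xf hxf using fun k => hsurj (a k)
  obtain ⟨M, hM⟩ := Finite.exists_le jf
  exact ⟨M, fun k => φ (jf k) M (hM k) (xf k), fun k => by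
    rw [← hxf k]; exact RingHom.congr_fun (hψ (jf k) M (hM k)) (xf k)⟩

lemma map_span_range_q {R S : Type*} [CommRing R] [CommRing S] (f : R →+* S) {κ : Type*}
    (p : κ → R) (p' : κ → S) (h : ∀ k, f (p k) = p' k) :
    (Ideal.span (Set.range p)).map f = Ideal.span (Set.range p') := by
  have hpp : (⇑f ∘ p) = p' := funext h
  rw [Ideal.map_span, ← Set.range_comp, hpp]

/-- Let A be a regular local ring with maximal ideal m and residue field k, written as a directed
colimit of regular local rings A_j with local transition maps (compatible maps ψ_j : A_j → A that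
are jointly surjective, an element dying in A dying at some later stage). Let f_1, …, f_c, g_1, …,
g_d ∈ m have linearly independent classes in m/m^2 over k, and put I = (f_1, …, f_c) ⊆ I' = (f_1, …,
f_c, g_1, …, g_d) (so I is generated by part of a regular system of parameters of A and I'/I by part
of a regular system of parameters of A/I; for a regular local ring the condition on I ⊆ I' is stated
through such a joint family). Then there are an index j_0 and ideals I_j ⊆ I'_j ⊆ A_j for j ≥ j_0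
such that: each I_j is generated by c elements and I'_j by these together with d further elements of
the maximal ideal m_j, the c + d classes in m_j/m_j^2 being linearly independent over the residue
field of A_j; the transition maps carry I_i, I'_i onto generators of I_j, I'_j for j_0 ≤ i ≤ j; and
I_j, I'_j generate I, I' in A. -/
theorem result
    {A : Type u} [CommRing A] [IsRegularLocalRing A]
    {ι : Type v} [Preorder ι] [Nonempty ι] [IsDirected ι (· ≤ ·)]
    (B : ι → Type u) [∀ j, CommRing (B j)] [∀ j, IsRegularLocalRing (B j)]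
    (φ : ∀ i j, i ≤ j → (B i →+* B j)) (hφloc : ∀ i j (h : i ≤ j), IsLocalHom (φ i j h))
    (hφ : ∀ i j l (hij : i ≤ j) (hjl : j ≤ l), (φ j l hjl).comp (φ i j hij) = φ i l (hij.trans hjl))
    (ψ : ∀ j, B j →+* A) (hψ : ∀ i j (h : i ≤ j), (ψ j).comp (φ i j h) = ψ i)
    (hsurj : ∀ a : A, ∃ j, ∃ x : B j, ψ j x = a)
    (hker : ∀ j (x : B j), ψ j x = 0 → ∃ l, ∃ h : j ≤ l, φ j l h x = 0)
    (c d : ℕ) (f : Fin c → maximalIdeal A) (g : Fin d → maximalIdeal A)
    (hind : LinearIndependent (ResidueField A) (⇑(maximalIdeal A).toCotangent ∘ Sum.elim f g)) :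
    ∃ j₀ : ι, ∃ (P : ∀ j, j₀ ≤ j → Ideal (B j)) (Q : ∀ j, j₀ ≤ j → Ideal (B j)),
      (∀ j (hj : j₀ ≤ j), ∃ (F : Fin c → maximalIdeal (B j)) (E : Fin d → maximalIdeal (B j)),
        LinearIndependent (ResidueField (B j)) (⇑(maximalIdeal (B j)).toCotangent ∘ Sum.elim F E) ∧
        P j hj = Ideal.span (Set.range (fun s => (F s : B j))) ∧
        Q j hj = P j hj ⊔ Ideal.span (Set.range (fun t => (E t : B j)))) ∧
      (∀ i j (hi : j₀ ≤ i) (hij : i ≤ j),
        (P i hi).map (φ i j hij) = P j (le_trans hi hij) ∧ (Q i hi).map (φ i j hij) = Q j (le_trans hi hij)) ∧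
      (∀ j (hj : j₀ ≤ j),
        (P j hj).map (ψ j) = Ideal.span (Set.range (fun s => (f s : A))) ∧
        (Q j hj).map (ψ j) = Ideal.span (Set.range (fun s => (f s : A))) ⊔ Ideal.span (Set.range (fun t => (g t : A)))) := by
  classical
  have hloc : ∀ j (x : B j), IsUnit (ψ j x) → IsUnit x :=
    fun j x hx => psi_local_q B φ hφloc hφ ψ hψ hsurj hker j x hx
  obtain ⟨j₀, x, hx⟩ := lift_common_q B φ ψ hψ hsurj
    (fun k : Fin c ⊕ Fin d => ((Sum.elim f g k : maximalIdeal A) : A))
  have hψx : ∀ j (hj : j₀ ≤ j) k, ψ j (φ j₀ j hj (x k)) = ((Sum.elim f g k : maximalIdeal A) : A) :=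
    fun j hj k => (RingHom.congr_fun (hψ j₀ j hj) (x k)).trans (hx k)
  have hmem : ∀ j (hj : j₀ ≤ j) k, φ j₀ j hj (x k) ∈ maximalIdeal (B j) := by
    intro j hj k
    rw [mem_maximalIdeal, mem_nonunits_iff]
    intro hu
    have hu2 : IsUnit (ψ j (φ j₀ j hj (x k))) := hu.map (ψ j)
    rw [hψx j hj k] at hu2
    exact (mem_nonunits_iff.mp ((mem_maximalIdeal _).mp (Sum.elim f g k).2)) hu2
  refine ⟨j₀, fun j hj => Ideal.span (Set.range fun s : Fin c => φ j₀ j hj (x (Sum.inl s))),
    fun j hj => Ideal.span (Set.range fun s : Fin c => φ j₀ j hj (x (Sum.inl s))) ⊔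
      Ideal.span (Set.range fun t : Fin d => φ j₀ j hj (x (Sum.inr t))), ?_, ?_, ?_⟩
  · intro j hj
    have hLI : LinearIndependent (ResidueField (B j)) (⇑(maximalIdeal (B j)).toCotangent ∘
        (fun k : Fin c ⊕ Fin d => (⟨φ j₀ j hj (x k), hmem j hj k⟩ : maximalIdeal (B j)))) :=
      li_transfer_q (ψ j) (hloc j) _ (Sum.elim f g) (fun k => hψx j hj k) hind
    refine ⟨fun s => ⟨φ j₀ j hj (x (Sum.inl s)), hmem j hj _⟩,
      fun t => ⟨φ j₀ j hj (x (Sum.inr t)), hmem j hj _⟩, ?_, rfl, rfl⟩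
    have hSum : Sum.elim
        (fun s : Fin c => (⟨φ j₀ j hj (x (Sum.inl s)), hmem j hj _⟩ : maximalIdeal (B j)))
        (fun t : Fin d => (⟨φ j₀ j hj (x (Sum.inr t)), hmem j hj _⟩ : maximalIdeal (B j))) =
        (fun k : Fin c ⊕ Fin d => (⟨φ j₀ j hj (x k), hmem j hj k⟩ : maximalIdeal (B j))) := by
      funext k
      cases k <;> rfl
    rw [hSum]
    exact hLI
  · intro i j hi hij
    have e : ∀ k, φ i j hij (φ j₀ i hi (x k)) = φ j₀ j (le_trans hi hij) (x k) := fun k =>
      RingHom.congr_fun (hφ j₀ i j hi hij) (x k)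
    constructor
    · exact map_span_range_q _ _ _ (fun s => e _)
    · beta_reduce
      rw [Ideal.map_sup, map_span_range_q (φ i j hij) _ _ (fun s : Fin c => e (Sum.inl s)),
        map_span_range_q (φ i j hij) _ _ (fun t : Fin d => e (Sum.inr t))]
  · intro j hj
    constructor
    · exact map_span_range_q _ _ _ (fun s => hψx j hj (Sum.inl s))
    · beta_reduce
      rw [Ideal.map_sup, map_span_range_q (ψ j) _ (fun s : Fin c => (f s : A))
          (fun s : Fin c => hψx j hj (Sum.inl s)),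
        map_span_range_q (ψ j) _ (fun t : Fin d => (g t : A))
          (fun t : Fin d => hψx j hj (Sum.inr t))]

end Groth.Agent.S18136
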