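import Groth.Statements.S18153
import Mathlib

set_option autoImplicit false
universe u w
open FrobAlg

namespace Groth.Agent.S18153


section aux
open MvPolynomial

variable {R : Type u} [CommRing R] {m : ℕ} {σ : Type w}

theorem det_eq_zero_of_col_sum (A : Matrix (Fin m) (Fin m) R) (i₀ : Fin m)
    (h : ∀ j, ∑ i, A i j = 0) : A.det = 0 := by
  have h1 := Matrix.det_updateRow_sum A i₀ (fun _ => (1:R))
  rw [one_smul] at h1
  rw [← h1]
  refine Matrix.det_eq_zero_of_row_eq_zero i₀ fun j => ?_
  rw [Matrix.updateRow_self]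
  simp only [one_smul, Finset.sum_apply]
  exact h j

variable (R m σ) in
noncomputable def Lmap :
    MvPolynomial (Fin m ⊕ σ) R →ₗ[R] (Fin m → MvPolynomial (Fin m ⊕ σ) R) :=
  LinearMap.pi fun j => (pderiv (Sum.inl j) : Derivation R _ _).toLinearMap

noncomputable def Phi (μ : (Fin m ⊕ σ) →₀ ℕ) :
    MultilinearMap R (fun _ : Fin m => MvPolynomial (Fin m ⊕ σ) R) R :=
  (lcoeff R μ).compMultilinearMap
    (((Matrix.detRowAlternating (n := Fin m)
      (R := MvPolynomial (Fin m ⊕ σ) R)).toMultilinearMap.restrictScalars R).compLinearMap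
        (fun _ => Lmap R m σ))

theorem Phi_apply (μ : (Fin m ⊕ σ) →₀ ℕ) (f : Fin m → MvPolynomial (Fin m ⊕ σ) R) :
    Phi μ f = coeff μ (Matrix.of fun i j => pderiv (Sum.inl j) (f i)).det := rfl

variable (m σ) in
noncomputable def evec : (Fin m ⊕ σ) →₀ ℕ := ∑ i : Fin m, Finsupp.single (Sum.inl i) 1

theorem evec_inl (j : Fin m) : evec m σ (Sum.inl j) = 1 := by
  classical
  simp [evec, Finsupp.finset_sum_apply, Finsupp.single_apply]

theorem mono_case (p : ℕ) [CharP R p] (hm : 0 < m) (μ : (Fin m ⊕ σ) →₀ ℕ)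
    (hμ : ∀ j : Fin m, μ (Sum.inl j) + 1 = p)
    (a : Fin m → ((Fin m ⊕ σ) →₀ ℕ)) :
    coeff μ (Matrix.of fun i j : Fin m =>
      pderiv (Sum.inl j) (monomial (a i) (1:R))).det = 0 := by
  classical
  have hterm : ∀ π : Equiv.Perm (Fin m),
      coeff μ (∏ i, (Matrix.of fun i j : Fin m =>
        pderiv (Sum.inl j) (monomial (a i) (1:R))) (π i) i) =
        if ∑ i, a i = μ + evec m σ then ∏ i, ((a (π i) (Sum.inl i) : ℕ) : R) else 0 := by
    intro π
    simp only [Matrix.of_apply, pderiv_monomial, one_mul]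
    rw [← monomial_sum_prod, coeff_monomial]
    by_cases hz : ∃ i, a (π i) (Sum.inl i) = 0
    · obtain ⟨i, hi⟩ := hz
      have hP : ∏ i, ((a (π i) (Sum.inl i) : ℕ) : R) = 0 :=
        Finset.prod_eq_zero (Finset.mem_univ i) (by rw [hi, Nat.cast_zero])
      simp only [hP, ite_self]
    · push_neg at hz
      have hsum : ∑ i, (a (π i) - Finsupp.single (Sum.inl i) 1) + evec m σ = ∑ i, a i := by
        rw [← Equiv.sum_comp π a, evec, ← Finset.sum_add_distrib]
        refine Finset.sum_congr rfl fun i _ => ?_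
        exact tsub_add_cancel_of_le
          (Finsupp.single_le_iff.mpr (Nat.one_le_iff_ne_zero.mpr (hz i)))
      have hiff : (∑ i, (a (π i) - Finsupp.single (Sum.inl i) 1) = μ) ↔
          (∑ i, a i = μ + evec m σ) := by
        constructor
        · intro h; rw [← hsum, h]
        · intro h; rw [← hsum] at h; exact add_right_cancel h
      by_cases hc : ∑ i, a i = μ + evec m σ
      · rw [if_pos hc, if_pos (hiff.mpr hc)]
      · rw [if_neg hc, if_neg (fun h => hc (hiff.mp h))]
  rw [Matrix.det_apply', coeff_sum]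
  trans ∑ π : Equiv.Perm (Fin m), (((Equiv.Perm.sign π : ℤˣ) : ℤ) : R) *
      (if ∑ i, a i = μ + evec m σ then ∏ i, ((a (π i) (Sum.inl i) : ℕ) : R) else 0)
  · refine Finset.sum_congr rfl fun π _ => ?_
    rw [← map_intCast (C : R →+* MvPolynomial (Fin m ⊕ σ) R), coeff_C_mul]
    exact congrArg _ (hterm π)
  · by_cases hc : ∑ i, a i = μ + evec m σ
    · simp only [if_pos hc]
      have hdet : ∑ π : Equiv.Perm (Fin m), (((Equiv.Perm.sign π : ℤˣ) : ℤ) : R) *
          ∏ i, ((a (π i) (Sum.inl i) : ℕ) : R) =
          (Matrix.of fun i j : Fin m => ((a i (Sum.inl j) : ℕ) : R)).det :=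
        (Matrix.det_apply' (Matrix.of fun i j : Fin m => ((a i (Sum.inl j) : ℕ) : R))).symm
      rw [hdet]
      apply det_eq_zero_of_col_sum _ ⟨0, hm⟩
      intro j
      have h1 : ∑ i, (Matrix.of fun i j : Fin m => ((a i (Sum.inl j) : ℕ) : R)) i j =
          (((∑ i, a i) (Sum.inl j) : ℕ) : R) := by
        simp only [Matrix.of_apply, Finsupp.finset_sum_apply, Nat.cast_sum]
      rw [h1, hc, Finsupp.add_apply, evec_inl, hμ j]
      exact CharP.cast_eq_zero R p
    · simp only [if_neg hc, mul_zero, Finset.sum_const_zero]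

end aux

/-- Let R be a commutative ring of prime characteristic p and f_1, …, f_m (m ≥ 1) polynomials over R in
the variables t_1, …, t_m and a further, possibly empty, family of variables s_a. Then in the m × m
Jacobian determinant det(∂f_i/∂t_j) with respect to the t-variables, the coefficient of the monomial
t_1^{p-1} ⋯ t_m^{p-1} (all s-exponents zero) vanishes. (In the source this is the claim, for formal
power series in n ≥ m variables over the base field, to which the proof of the proposition reduces;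
the coefficient in question only involves truncations of the f_i, so the polynomial form over any
ring of characteristic p is the same assertion.) -/
theorem result
    (p : ℕ) [Fact p.Prime] (R : Type u) [CommRing R] [CharP R p]
    {m : ℕ} (hm : 0 < m) (σ : Type w) (f : Fin m → MvPolynomial (Fin m ⊕ σ) R) :
    MvPolynomial.coeff
        (Finsupp.sumElim (Finsupp.equivFunOnFinite.symm fun _ : Fin m => p - 1) (0 : σ →₀ ℕ))
        (Matrix.of fun i j : Fin m => MvPolynomial.pderiv (Sum.inl j) (f i)).det = 0 := by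
  classical
  have hμ : ∀ j : Fin m, (Finsupp.sumElim (Finsupp.equivFunOnFinite.symm fun _ : Fin m => p - 1)
      (0 : σ →₀ ℕ)) (Sum.inl j) + 1 = p := by
    intro j
    have hp : 1 ≤ p := (Fact.out : p.Prime).pos
    simp only [Finsupp.sumElim_inl, Finsupp.equivFunOnFinite_symm_apply_apply]
    omega
  have hΦ : Phi (R := R) (Finsupp.sumElim (Finsupp.equivFunOnFinite.symm fun _ : Fin m => p - 1)
      (0 : σ →₀ ℕ)) = 0 := by
    refine Module.Basis.ext_multilinear (fun _ => MvPolynomial.basisMonomials (Fin m ⊕ σ) R)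
      fun v => ?_
    rw [MultilinearMap.zero_apply, Phi_apply]
    simp only [MvPolynomial.coe_basisMonomials]
    exact mono_case p hm _ hμ v
  have h := congrArg (fun g => g f) hΦ
  exact h

end Groth.Agent.S18153
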