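import Groth.Statements.S18156
import Mathlib

set_option autoImplicit false
universe u v
open CAlg

namespace Groth.Agent.S18156


section aux
variable {k : Type*} [Field k] {A : Type*} [CommRing A] [Algebra k A] (D : Derivation k A A)
  (I : Ideal A)

theorem deriv_pow (n : ℕ) : ∀ x ∈ I ^ (n + 1), D x ∈ I ^ n := by
  induction n with
  | zero => intro x _; simp
  | succ n ih =>
    intro x hx
    rw [pow_succ] at hx
    refine Submodule.mul_induction_on hx ?_ ?_
    · intro a ha b hb
      rw [D.leibniz]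
      refine Ideal.add_mem _ ?_ ?_
      · rw [smul_eq_mul]; exact Ideal.mul_mem_right _ _ ha
      · rw [smul_eq_mul, pow_succ, mul_comm b (D a)]
        exact Ideal.mul_mem_mul (ih a ha) hb
    · intro a b ha hb; rw [map_add]; exact Ideal.add_mem _ ha hb

theorem smul_top_eq (n : ℕ) : (I ^ n • ⊤ : Ideal A) = I ^ n := by ext x; simp

/-- the map induced by `D` from `A / I^(n+1)` to `A / I^n` -/
noncomputable def Dn (n : ℕ) (x : A ⧸ (I ^ (n + 1) • ⊤ : Ideal A)) : A ⧸ (I ^ n • ⊤ : Ideal A) :=
  Quotient.liftOn' x (fun a => Ideal.Quotient.mk (I ^ n • ⊤ : Ideal A) (D a)) (by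
    intro a b hab
    have hab' : a - b ∈ (I ^ (n + 1) • ⊤ : Ideal A) := (Submodule.quotientRel_def _).mp hab
    rw [smul_top_eq] at hab'
    rw [Ideal.Quotient.eq, ← map_sub, smul_top_eq]
    exact deriv_pow D I n _ hab')

theorem Dn_mk (n : ℕ) (a : A) :
    Dn D I n (Ideal.Quotient.mk (I ^ (n + 1) • ⊤ : Ideal A) a) =
      Ideal.Quotient.mk (I ^ n • ⊤ : Ideal A) (D a) := rfl

theorem transition_mk {m n : ℕ} (hmn : m ≤ n) (a : A) :
    AdicCompletion.transitionMap I A hmn (Ideal.Quotient.mk (I ^ n • ⊤ : Ideal A) a) =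
      Ideal.Quotient.mk (I ^ m • ⊤ : Ideal A) a := rfl

noncomputable def Dhat (x : AdicCompletion I A) : AdicCompletion I A :=
  ⟨fun n => Dn D I n (x.val (n + 1)), by
    intro m n hmn
    have hx := x.property (Nat.succ_le_succ hmn)
    show AdicCompletion.transitionMap I A hmn (Dn D I n (x.val (n + 1))) = Dn D I m (x.val (m + 1))
    rw [← hx]
    obtain ⟨a, ha⟩ := Ideal.Quotient.mk_surjective (x.val (n + 1))
    rw [← ha, transition_mk, Dn_mk, Dn_mk, transition_mk]⟩

theorem Dhat_val (x : AdicCompletion I A) (n : ℕ) :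
    (Dhat D I x).val n = Dn D I n (x.val (n + 1)) := rfl

theorem Dhat_add (x y : AdicCompletion I A) : Dhat D I (x + y) = Dhat D I x + Dhat D I y := by
  apply AdicCompletion.ext
  intro n
  rw [AdicCompletion.val_add_apply, Dhat_val, Dhat_val, Dhat_val, AdicCompletion.val_add_apply]
  obtain ⟨a, ha⟩ := Ideal.Quotient.mk_surjective (x.val (n + 1))
  obtain ⟨b, hb⟩ := Ideal.Quotient.mk_surjective (y.val (n + 1))
  rw [← ha, ← hb, ← map_add, Dn_mk, Dn_mk, Dn_mk, map_add, map_add]

theorem Dhat_smul (c : k) (x : AdicCompletion I A) : Dhat D I (c • x) = c • Dhat D I x := by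
  apply AdicCompletion.ext
  intro n
  rw [AdicCompletion.val_smul_apply, Dhat_val, Dhat_val, AdicCompletion.val_smul_apply]
  obtain ⟨a, ha⟩ := Ideal.Quotient.mk_surjective (x.val (n + 1))
  rw [← ha]
  have h1 : c • (Ideal.Quotient.mk (I ^ (n + 1) • ⊤ : Ideal A)) a =
      (Ideal.Quotient.mk (I ^ (n + 1) • ⊤ : Ideal A)) (c • a) := rfl
  have h2 : c • (Ideal.Quotient.mk (I ^ n • ⊤ : Ideal A)) (D a) =
      (Ideal.Quotient.mk (I ^ n • ⊤ : Ideal A)) (c • D a) := rfl
  rw [h1, Dn_mk, Dn_mk, h2, D.map_smul]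

theorem Dhat_mul (x y : AdicCompletion I A) :
    Dhat D I (x * y) = x * Dhat D I y + y * Dhat D I x := by
  apply AdicCompletion.ext
  intro n
  rw [AdicCompletion.val_add_apply, AdicCompletion.val_mul, AdicCompletion.val_mul,
    Dhat_val, Dhat_val, Dhat_val, AdicCompletion.val_mul]
  have hx := x.property (Nat.le_succ n)
  have hy := y.property (Nat.le_succ n)
  rw [← hx, ← hy]
  obtain ⟨a, ha⟩ := Ideal.Quotient.mk_surjective (x.val (n + 1))
  obtain ⟨b, hb⟩ := Ideal.Quotient.mk_surjective (y.val (n + 1))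
  rw [← ha, ← hb, transition_mk, transition_mk, ← map_mul, Dn_mk, Dn_mk, Dn_mk, ← map_mul,
    ← map_mul, ← map_add, D.leibniz]
  simp only [smul_eq_mul]

noncomputable def DhatLin : AdicCompletion I A →ₗ[k] AdicCompletion I A where
  toFun := Dhat D I
  map_add' := Dhat_add D I
  map_smul' := Dhat_smul D I

end aux

/-- Let k be a field and A a regular local ring that is a k-algebra, with maximal ideal m and m-adic
completion Â. Then every k-derivation D of A into itself extends to a k-derivation D̂ of Â into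
itself along the canonical map ρ : A → Â, in the sense that D̂(ρ(a)) = ρ(D(a)) for every a ∈ A. (The
source works throughout over an algebraically closed field of characteristic p; neither assumption
enters this statement.) -/
theorem result
    (k : Type u) [Field k] (A : Type v) [CommRing A] [Algebra k A] [IsRegularLocalRing A]
    (D : Derivation k A A) :
    ∃ Dhat : Derivation k (AdicCompletion (IsLocalRing.maximalIdeal A) A)
        (AdicCompletion (IsLocalRing.maximalIdeal A) A),
      ∀ a : A, Dhat (algebraMap A (AdicCompletion (IsLocalRing.maximalIdeal A) A) a) =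
        algebraMap A (AdicCompletion (IsLocalRing.maximalIdeal A) A) (D a) := by
  refine ⟨Derivation.mk' (DhatLin D (IsLocalRing.maximalIdeal A)) ?_, ?_⟩
  · intro a b
    show Dhat D (IsLocalRing.maximalIdeal A) (a * b) = a • Dhat D (IsLocalRing.maximalIdeal A) b +
      b • Dhat D (IsLocalRing.maximalIdeal A) a
    rw [Dhat_mul, smul_eq_mul, smul_eq_mul]
  · intro a
    apply AdicCompletion.ext
    intro n
    rfl

end Groth.Agent.S18156
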