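import Groth.Statements.S18158
import Groth.Agent.Lib.Helper24.EtThickGlue
import Groth.Agent.Lib.Helper20.W2

set_option autoImplicit false
universe u
open CategoryTheory CategoryTheory.Limits AlgebraicGeometry
open Lift

namespace Groth.Agent.S18158

/-- Let k be an algebraically closed field of characteristic p and q : Y → X an étale morphism to a
smooth k-scheme X. Suppose X has a W_2-lifting of its Frobenius: a scheme X~ flat over Spec W_2(k),
a morphism i : X → X~ making X the base change of X~ along Spec k → Spec W_2(k) (the residue map),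
and an endomorphism F~ of X~ with i ∘ F_X = F~ ∘ i, F_X the absolute Frobenius. Then Y has one as
well: there are a scheme Y~ flat over Spec W_2(k), a morphism j : Y → Y~ making Y the base change of
Y~ along the same map, and an endomorphism G~ of Y~ with j ∘ F_Y = G~ ∘ j. (The source speaks of an
étale cover Y → X of smooth varieties; its argument uses only that Y is étale over X and that X
lifts, so X is taken smooth over k and Y étale over X, with no integrality, separatedness or
quasi-compactness assumed.) -/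
theorem result
    (p : ℕ) [Fact p.Prime] (k : Type u) [Field k] [IsAlgClosed k] [CharP k p]
    (X Y : Scheme.{u}) (f : X ⟶ Spec (CommRingCat.of k)) [Smooth f]
    (q : Y ⟶ X) [AlgebraicGeometry.Etale q]
    [FrobSch.IsCharP X p] [FrobSch.IsCharP Y p]
    (Xl : Scheme.{u}) (g : Xl ⟶ Spec (CommRingCat.of (FrobAlg.W2 p k))) [Flat g]
    (i : X ⟶ Xl) (hsq : IsPullback i f g (Spec.map (CommRingCat.ofHom (FrobAlg.res p k))))
    (Fl : Xl ⟶ Xl) (hF : i ≫ Fl = FrobSch.frob X p ≫ i) :
    ∃ (Yl : Scheme.{u}) (gY : Yl ⟶ Spec (CommRingCat.of (FrobAlg.W2 p k))) (j : Y ⟶ Yl) (Gl : Yl ⟶ Yl),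
      Flat gY ∧ IsPullback j (q ≫ f) gY (Spec.map (CommRingCat.ofHom (FrobAlg.res p k))) ∧
        j ≫ Gl = FrobSch.frob Y p ≫ j := by
  haveI : ExpChar k p := ExpChar.prime (Fact.out : p.Prime)
  haveI : PerfectRing k p := PerfectField.toPerfectRing p
  -- `Spec k ⟶ Spec W₂(k)` is a surjective closed immersion
  have hres : Function.Surjective (FrobAlg.res p k) := by
    intro x
    refine ⟨TruncatedWittVector.mk p ![x, 0], ?_⟩
    rw [FrobAlg.res_apply]
    rfl
  haveI hr1 : IsClosedImmersion (Spec.map (CommRingCat.ofHom (FrobAlg.res p k))) :=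
    IsClosedImmersion.spec_of_surjective _ hres
  have hnil : (RingHom.ker (FrobAlg.res p k) : Set (FrobAlg.W2 p k)) ⊆
      nilradical (FrobAlg.W2 p k) := by
    intro x hx
    have hx' : x ∈ RingHom.ker (FrobAlg.res p k) := hx
    rw [Groth.Agent.Lib.Helper20.ker_res, Ideal.mem_span_singleton] at hx'
    obtain ⟨y, rfl⟩ := hx'
    refine ⟨2, ?_⟩
    have := Groth.Agent.Lib.Helper20.p_mul_p p k
    calc ((p : FrobAlg.W2 p k) * y) ^ 2 = ((p : FrobAlg.W2 p k) * (p : FrobAlg.W2 p k)) * (y * y) := by ring
      _ = 0 := by rw [this, zero_mul]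
  have hcomap : Function.Surjective (PrimeSpectrum.comap (FrobAlg.res p k)) := by
    rw [← Set.range_eq_univ, _root_.range_comap_of_surjective _ _ hres,
      PrimeSpectrum.zeroLocus_eq_univ_iff]
    exact hnil
  haveI hr2 : Surjective (Spec.map (CommRingCat.ofHom (FrobAlg.res p k))) := ⟨hcomap⟩
  -- hence so is `i`
  haveI hi1 : IsClosedImmersion i :=
    MorphismProperty.of_isPullback (P := @IsClosedImmersion) hsq.flip hr1
  haveI hi2 : Surjective i :=
    MorphismProperty.of_isPullback (P := @Surjective) hsq.flip hr2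
  obtain ⟨Yl, qY, j, hqY, hpb⟩ := Groth.Agent.Lib.Helper24.EtThick.exists_etale_lift i q
  haveI := hqY
  haveI hj1 : IsClosedImmersion j :=
    MorphismProperty.of_isPullback (P := @IsClosedImmersion) hpb.flip hi1
  haveI hj2 : Surjective j :=
    MorphismProperty.of_isPullback (P := @Surjective) hpb.flip hi2
  haveI : Flat qY := (Etale.iff_flat_and_formallyUnramified.mp hqY).1
  -- the lift of Frobenius
  have h₀ : (FrobSch.frob Y p ≫ j) ≫ qY = j ≫ (qY ≫ Fl) := by
    rw [Category.assoc, hpb.w, FrobSch.frob_comp_assoc, ← hF, ← Category.assoc, ← hpb.w,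
      Category.assoc]
  obtain ⟨Gl, -, hGl⟩ := Groth.Agent.Lib.Helper15.ThickLift.exists_lift qY (qY ≫ Fl) j
    (FrobSch.frob Y p ≫ j) h₀
  exact ⟨Yl, qY ≫ g, j, Gl, inferInstance, hpb.paste_vert hsq, hGl⟩

end Groth.Agent.S18158
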