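import Groth.Statements.S18179
import Mathlib
import Groth.Agent.Lib.Helper27.FunFld21
open Groth.Agent.Lib.Helper27.FF

set_option autoImplicit false
open FunFld

namespace Groth.Agent.S18179

/-- Let `k` be an algebraically closed field of characteristic zero and `K/k` a function field of one
variable (the function field of a smooth projective curve over `k`). A `g^r_d` is a divisor `D` of
degree `d` with a subspace `V ⊆ L(D)` of dimension `r + 1`; for a place `P` and `n ≥ 0`, `V(-nP) = V
∩ L(D - nP)` is the space of members vanishing to order at least `n` at `P`, so `dim V(-nP)` counts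
the vanishing orders `m_0 < ⋯ < m_r` of `V` at `P` that are at least `n`, and the weight of `V` at
`P` is `∑_{n=1}^{d} dim V(-nP) - r(r+1)/2`. Aspects `(D_Y, V_Y)` on `K_Y` and `(D_Z, V_Z)` on `K_Z`
of a limit `g^r_d` on two components meeting in a node (a place `P` of `K_Y` and a place `Q` of
`K_Z`) are compatible there when `m_i(V_Y, P) + m_{r-i}(V_Z, Q) = d` for every `i`, equivalently
`dim V_Y(-nP) + dim V_Z(-(d+1-n)Q) = r + 1` for `0 ≤ n ≤ d + 1`. A backbone is a chain of rational
components `Z_0, …, Z_N` (function fields `K_i` of genus `0`), `Z_i` meeting `Z_{i+1}` in a node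
given by a place `B_i` of `K_i` and a place `A_{i+1}` of `K_{i+1}`, the two node places `A_i ≠ B_i`
of an inner component being distinct; each `Z_i` carries an aspect `(D_i, V_i)` of a limit `g^r_d`
and consecutive aspects are compatible at the nodes. A set `T` of indices marks the components
carrying a tail: for `i ∈ T` the aspect `V_i` has at least a cusp (`dim V_i(-2Q_i) ≥ r`) at a
further place `Q_i` of `K_i`, distinct from the node places of `Z_i`. (In the source these are the
backbone components of a flag curve to which a chain of rational curves ending in an elliptic tail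
is attached, `T` has `g` elements, and the cusp is forced by that chain.) Conclusion: `r · |T| ≤
(r+1)(d-r)`, that is, the Brill–Noether number `ρ(|T|, r, d) = |T| - (r+1)(|T| - d + r)` is
nonnegative. (The source deduces from this, by degenerating a general curve of genus `g` to a flag
curve with `g` tails, that a general curve has no `g^r_d` when `ρ < 0`; that consequence is not
stated here.) (The source states this for curves over the complex numbers.) -/
theorem result
    (k : Type*) [Field k] [IsAlgClosed k] [CharZero k]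
    (N : ℕ) (Z : Fin (N + 1) → Type*) [∀ i, Field (Z i)] [∀ i, Algebra k (Z i)]
    (hZ : ∀ i, FunFld.IsFunctionField k (Z i)) (hrat : ∀ i, FunFld.genus k (Z i) = 0)
    (d r : ℕ) (D : ∀ i, FunFld.Divisor k (Z i)) (hD : ∀ i, (D i).deg = d)
    (V : ∀ i, Submodule k (Z i)) (hV : ∀ i, V i ≤ FunFld.L (D i))
    (hVr : ∀ i, Module.finrank k ↥(V i) = r + 1)
    (A B : ∀ i, FunFld.Place k (Z i))
    (hAB : ∀ i : Fin (N + 1), 0 < (i : ℕ) → (i : ℕ) < N → A i ≠ B i)
    (hcomp : ∀ (l : Fin N) (m : ℕ), m ≤ d + 1 →
      Module.finrank k ↥((V l.castSucc) ⊓ FunFld.L ((D l.castSucc) - Finsupp.single (B l.castSucc) ((m : ℤ)))) +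
        Module.finrank k ↥((V l.succ) ⊓ FunFld.L ((D l.succ) - Finsupp.single (A l.succ) ((d : ℤ) + 1 - m))) = r + 1)
    (T : Finset (Fin (N + 1))) (Q : ∀ i, FunFld.Place k (Z i))
    (hQA : ∀ i ∈ T, 0 < (i : ℕ) → Q i ≠ A i) (hQB : ∀ i ∈ T, (i : ℕ) < N → Q i ≠ B i)
    (hcusp : ∀ i ∈ T, r ≤ Module.finrank k ↥((V i) ⊓ FunFld.L ((D i) - Finsupp.single (Q i) ((2 : ℤ))))) :
    r * T.card + r * (r + 1) ≤ (r + 1) * d := by
  classical
  have hdvd : 2 ∣ r * (r + 1) := (Nat.even_mul_succ_self r).two_dvd
  have heven : r * (r + 1) / 2 * 2 = r * (r + 1) := Nat.div_mul_cancel hdvd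
  have hTle := map_val_le T
  have hcardT : T.card = (T.map Fin.valEmbedding).card := (Finset.card_map _).symm
  have hcard2 := card_eq_filter_lt_add (T.map Fin.valEmbedding) N hTle
  have hNlt : N < N + 1 := Nat.lt_succ_self N
  have hZN := hZ ⟨N, hNlt⟩
  rcases Nat.eq_zero_or_pos N with hN0 | hNpos
  · -- a single component
    have hfilter : ((T.map Fin.valEmbedding).filter (· < N)).card = 0 := by
      rw [Finset.card_eq_zero, Finset.filter_eq_empty_iff]
      intro x _
      omega
    have hb := end_bound hZN (deg_eq_one' hZN) (hD ⟨N, hNlt⟩) (hV _) (hVr _) (Q ⟨N, hNlt⟩) (Q ⟨N, hNlt⟩)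
      False (fun h => h.elim) (fun h => h.elim)
    rw [if_neg not_false] at hb
    by_cases hNT : N ∈ T.map Fin.valEmbedding
    · have hNT' := (mem_map_val_iff T N hNlt).mp hNT
      have h2 := sum_av_ge_of_cusp hZN (hD ⟨N, hNlt⟩) (hV _) (hVr _) (deg_eq_one' hZN (Q ⟨N, hNlt⟩))
        (hcusp _ hNT')
      rw [if_pos hNT] at hcard2
      unfold wsum at hb
      have : T.card = 1 := by omega
      rw [this]
      omega
    · rw [if_neg hNT] at hcard2
      have h2 := sum_av_ge hZN (hD ⟨N, hNlt⟩) (hV _) (hVr _) (deg_eq_one' hZN (Q ⟨N, hNlt⟩))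
      unfold wsum at hb
      have : T.card = 0 := by omega
      rw [this]
      omega
  · obtain ⟨hL, -⟩ := chain_weights k N Z hZ hrat d r D hD V hV hVr A B hAB hcomp T Q hQA hQB hcusp
    have h1 := hL N hNlt hNpos
    have hb := end_bound hZN (deg_eq_one' hZN) (hD ⟨N, hNlt⟩) (hV _) (hVr _) (A ⟨N, hNlt⟩) (Q ⟨N, hNlt⟩)
      ((⟨N, hNlt⟩ : Fin (N + 1)) ∈ T) (fun h => hcusp _ h) (fun h => hQA _ h hNpos)
    rw [hcardT, hcard2, mul_add]
    by_cases hNT : N ∈ T.map Fin.valEmbedding
    · have hNT' := (mem_map_val_iff T N hNlt).mp hNT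
      rw [if_pos hNT, if_pos hNT'] at *
      omega
    · have hNT' : (⟨N, hNlt⟩ : Fin (N + 1)) ∉ T := fun h => hNT ((mem_map_val_iff T N hNlt).mpr h)
      rw [if_neg hNT] 
      rw [if_neg hNT'] at hb
      omega

end Groth.Agent.S18179
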