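import Groth.Statements.S18183
import Mathlib
import Groth.Agent.Lib.Helper27.FunFld22
open Groth.Agent.Lib.Helper27.FF

set_option autoImplicit false
open FunFld

namespace Groth.Agent.S18183

/-- Let `k` be an algebraically closed field of characteristic zero and `K/k` a function field of one
variable (the function field of a smooth projective curve over `k`). A `g^r_d` is a divisor `D` of
degree `d` with a subspace `V ⊆ L(D)` of dimension `r + 1`; for a place `P` and `n ≥ 0`, `V(-nP) = V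
∩ L(D - nP)` is the space of members vanishing to order at least `n` at `P`, so `dim V(-nP)` counts
the vanishing orders `m_0 < ⋯ < m_r` of `V` at `P` that are at least `n`, and the weight of `V` at
`P` is `∑_{n=1}^{d} dim V(-nP) - r(r+1)/2`. Aspects `(D_Y, V_Y)` on `K_Y` and `(D_Z, V_Z)` on `K_Z`
of a limit `g^r_d` on two components meeting in a node (a place `P` of `K_Y` and a place `Q` of
`K_Z`) are compatible there when `m_i(V_Y, P) + m_{r-i}(V_Z, Q) = d` for every `i`, equivalently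
`dim V_Y(-nP) + dim V_Z(-(d+1-n)Q) = r + 1` for `0 ≤ n ≤ d + 1`. A backbone is a chain of rational
components `Z_0, …, Z_N` (function fields `K_i` of genus `0`), `Z_i` meeting `Z_{i+1}` in a node
given by a place `B_i` of `K_i` and a place `A_{i+1}` of `K_{i+1}`, the two node places `A_i ≠ B_i`
of an inner component being distinct; each `Z_i` carries an aspect `(D_i, V_i)` of a limit `g^r_d`
and consecutive aspects are compatible at the nodes. A set `T` of indices marks the components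
carrying a tail: for `i ∈ T` the aspect `V_i` has at least a cusp (`dim V_i(-2Q_i) ≥ r`) at a
further place `Q_i` of `K_i`, distinct from the node places of `Z_i`. (In the source these are the
backbone components of a flag curve to which a chain of rational curves ending in an elliptic tail
is attached, `T` has `g` elements, and the cusp is forced by that chain.) Let `Q'` be a place of
some `Z_i` other than its node places and other than `Q_i` when `i ∈ T`. Then `w(V_i, Q') ≤
(r+1)(d-r) - r · |T|`, that is `∑_{j=1}^{d} dim V_i(-jQ') + r · |T| + r(r+1) ≤ (r+1)d + r(r+1)/2`.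
Hence, when `|T| = g` and the moving-point Brill–Noether number `ρ = 1 + g - (r+1)(g+r-d) - ∑(m_i -
i)` is `≤ 0`, a point with vanishing sequence `(m_i)`, whose weight is then at least `(r+1)(d-r) -
rg + 1`, cannot lie on a backbone component away from the nodes; the source states this as: the
limit of the ramification point lies on an elliptic tail. (The printed argument bounds such weights
only by `(r+1)(d-r) - r(g-1)`; the sharper bound here also uses that the aspect has weight at least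
`r` at a cusp.) (The source states this for curves over the complex numbers.) -/
theorem result
    (k : Type*) [Field k] [IsAlgClosed k] [CharZero k]
    (N : ℕ) (Z : Fin (N + 1) → Type*) [∀ i, Field (Z i)] [∀ i, Algebra k (Z i)]
    (hZ : ∀ i, FunFld.IsFunctionField k (Z i)) (hrat : ∀ i, FunFld.genus k (Z i) = 0)
    (d r : ℕ) (D : ∀ i, FunFld.Divisor k (Z i)) (hD : ∀ i, (D i).deg = d)
    (V : ∀ i, Submodule k (Z i)) (hV : ∀ i, V i ≤ FunFld.L (D i))
    (hVr : ∀ i, Module.finrank k ↥(V i) = r + 1)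
    (A B : ∀ i, FunFld.Place k (Z i))
    (hAB : ∀ i : Fin (N + 1), 0 < (i : ℕ) → (i : ℕ) < N → A i ≠ B i)
    (hcomp : ∀ (l : Fin N) (m : ℕ), m ≤ d + 1 →
      Module.finrank k ↥((V l.castSucc) ⊓ FunFld.L ((D l.castSucc) - Finsupp.single (B l.castSucc) ((m : ℤ)))) +
        Module.finrank k ↥((V l.succ) ⊓ FunFld.L ((D l.succ) - Finsupp.single (A l.succ) ((d : ℤ) + 1 - m))) = r + 1)
    (T : Finset (Fin (N + 1))) (Q : ∀ i, FunFld.Place k (Z i))
    (hQA : ∀ i ∈ T, 0 < (i : ℕ) → Q i ≠ A i) (hQB : ∀ i ∈ T, (i : ℕ) < N → Q i ≠ B i)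
    (hcusp : ∀ i ∈ T, r ≤ Module.finrank k ↥((V i) ⊓ FunFld.L ((D i) - Finsupp.single (Q i) ((2 : ℤ)))))
    (i : Fin (N + 1)) (Q' : FunFld.Place k (Z i)) (hQ'A : 0 < (i : ℕ) → Q' ≠ A i)
    (hQ'B : (i : ℕ) < N → Q' ≠ B i) (hQ'Q : i ∈ T → Q' ≠ Q i) :
    (∑ j ∈ Finset.range d, Module.finrank k ↥((V i) ⊓ FunFld.L ((D i) - Finsupp.single Q' ((j : ℤ) + 1)))) + r * T.card + r * (r + 1) ≤
      (r + 1) * d + r * (r + 1) / 2 := by
  classical
  obtain ⟨hL, hR⟩ := chain_weights k N Z hZ hrat d r D hD V hV hVr A B hAB hcomp T Q hQA hQB hcusp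
  obtain ⟨j, h⟩ := i
  have hZ' := hZ ⟨j, h⟩
  have hdvd : 2 ∣ r * (r + 1) := (Nat.even_mul_succ_self r).two_dvd
  have heven : r * (r + 1) / 2 * 2 = r * (r + 1) := Nat.div_mul_cancel hdvd
  set T' : Finset ℕ := T.map Fin.valEmbedding with hT'
  have hmem : j ∈ T' ↔ (⟨j, h⟩ : Fin (N + 1)) ∈ T := mem_map_val_iff T j h
  have hTle := map_val_le T
  -- lower bounds
  have h1 : 0 < j → r * (T'.filter (· < j)).card + r * (r + 1) / 2 ≤
      wsum d (V ⟨j, h⟩) (D ⟨j, h⟩) (A ⟨j, h⟩) := fun hj => hL j h hj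
  have h2 : j < N → r * (T'.filter (j < ·)).card + r * (r + 1) / 2 ≤
      wsum d (V ⟨j, h⟩) (D ⟨j, h⟩) (B ⟨j, h⟩) := fun hj => hR j h hj
  have h3 : (⟨j, h⟩ : Fin (N + 1)) ∈ T → r + r * (r + 1) / 2 ≤
      wsum d (V ⟨j, h⟩) (D ⟨j, h⟩) (Q ⟨j, h⟩) := fun hjT =>
    sum_av_ge_of_cusp hZ' (hD ⟨j, h⟩) (hV _) (hVr _) (deg_eq_one' hZ' (Q ⟨j, h⟩)) (hcusp _ hjT)
  have h1' : ¬ 0 < j → (T'.filter (· < j)).card = 0 := by
    intro hj
    rw [Finset.card_eq_zero, Finset.filter_eq_empty_iff]
    intro x _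
    omega
  have h2' : ¬ j < N → (T'.filter (j < ·)).card = 0 := by
    intro hj
    rw [Finset.card_eq_zero, Finset.filter_eq_empty_iff]
    intro x hx
    have := hTle x hx
    omega
  have hcard : T.card = (T'.filter (· < j)).card + (T'.filter (j < ·)).card +
      (if (⟨j, h⟩ : Fin (N + 1)) ∈ T then 1 else 0) := by
    rw [← card_erase_eq, ← Finset.card_map Fin.valEmbedding, ← hT']
    split_ifs with hjT
    · have hj' := hmem.mpr hjT
      rw [Finset.card_erase_of_mem hj']
      have := Finset.card_pos.mpr ⟨j, hj'⟩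
      omega
    · have hj' : j ∉ T' := fun hh => hjT (hmem.mp hh)
      rw [Finset.erase_eq_of_notMem hj']
      omega
  have hP := plucker_fin hZ' (hrat _) (hD ⟨j, h⟩) (hV _) (hVr _)
    (![Q', A ⟨j, h⟩, B ⟨j, h⟩, Q ⟨j, h⟩])
    (fun a : Fin 4 => a = 0 ∨ (a = 1 ∧ 0 < j) ∨ (a = 2 ∧ j < N) ∨
      (a = 3 ∧ (⟨j, h⟩ : Fin (N + 1)) ∈ T)) (by
      intro a b ha hb hab
      fin_cases a <;> fin_cases b <;> first | rfl | skip
      all_goals simp at ha hb hab
      · exact absurd hab (hQ'A hb)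
      · exact absurd hab (hQ'B hb)
      · exact absurd hab (hQ'Q hb)
      · exact absurd hab.symm (hQ'A ha)
      · exact absurd hab (hAB ⟨j, h⟩ ha hb)
      · exact absurd hab.symm (hQA ⟨j, h⟩ hb ha)
      · exact absurd hab.symm (hQ'B ha)
      · exact absurd hab.symm (hAB ⟨j, h⟩ hb ha)
      · exact absurd hab.symm (hQB ⟨j, h⟩ hb ha)
      · exact absurd hab.symm (hQ'Q ha)
      · exact absurd hab (hQA ⟨j, h⟩ ha hb)
      · exact absurd hab (hQB ⟨j, h⟩ ha hb))
  simp only [Fin.sum_univ_four, Matrix.cons_val_zero, Matrix.cons_val_one,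
    Matrix.cons_val_two, Matrix.vecHead, Matrix.vecTail, Function.comp, Matrix.cons_val_succ,
    Matrix.cons_val_fin_one, Matrix.cons_val_three] at hP
  have e2 : (r + 1) * r = r * (r + 1) := by ring
  rw [e2] at hP
  rw [hcard]
  have e : r * ((T'.filter (· < j)).card + (T'.filter (j < ·)).card +
      (if (⟨j, h⟩ : Fin (N + 1)) ∈ T then 1 else 0)) =
      r * (T'.filter (· < j)).card + r * (T'.filter (j < ·)).card +
      (if (⟨j, h⟩ : Fin (N + 1)) ∈ T then r else 0) := by
    split_ifs <;> ring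
  rw [e]
  show (∑ n ∈ Finset.range d, av (V ⟨j, h⟩) (D ⟨j, h⟩) Q' ((n : ℤ) + 1)) + _ + _ ≤ _
  have hw : wsum d (V ⟨j, h⟩) (D ⟨j, h⟩) Q' =
      ∑ n ∈ Finset.range d, av (V ⟨j, h⟩) (D ⟨j, h⟩) Q' ((n : ℤ) + 1) := rfl
  rw [← hw]
  simp only [Fin.isValue, true_or, true_and, if_true, Fin.reduceEq, false_and, false_or,
    or_false] at hP
  have hA : r * (T'.filter (· < j)).card + (if 0 < j then r * (r + 1) / 2 else 0) ≤
      (if 0 < j then wsum d (V ⟨j, h⟩) (D ⟨j, h⟩) (A ⟨j, h⟩) else 0) := by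
    split_ifs with hj
    · exact h1 hj
    · rw [h1' hj]; simp
  have hB : r * (T'.filter (j < ·)).card + (if j < N then r * (r + 1) / 2 else 0) ≤
      (if j < N then wsum d (V ⟨j, h⟩) (D ⟨j, h⟩) (B ⟨j, h⟩) else 0) := by
    split_ifs with hj
    · exact h2 hj
    · rw [h2' hj]; simp
  have hQ : (if (⟨j, h⟩ : Fin (N + 1)) ∈ T then r + r * (r + 1) / 2 else 0) ≤
      (if (⟨j, h⟩ : Fin (N + 1)) ∈ T then wsum d (V ⟨j, h⟩) (D ⟨j, h⟩) (Q ⟨j, h⟩) else 0) := by
    split_ifs with hj
    · exact h3 hj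
    · exact le_rfl
  split_ifs at hP hA hB hQ ⊢ <;> omega

end Groth.Agent.S18183
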