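import Groth.Statements.S18185
import Mathlib
import Groth.Agent.Lib.Helper27.FunFld19
import Groth.Agent.S18184
open Groth.Agent.Lib.Helper27.FF

set_option autoImplicit false
open FunFld

namespace Groth.Agent.S18185

/-- Let `k` be an algebraically closed field of characteristic zero and `K/k` a function field of one
variable (the function field of a smooth projective curve over `k`). A `g^r_d` is a divisor `D` of
degree `d` with a subspace `V ⊆ L(D)` of dimension `r + 1`; for a place `P` and `n ≥ 0`, `V(-nP) = V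
∩ L(D - nP)` is the space of members vanishing to order at least `n` at `P`, so `dim V(-nP)` counts
the vanishing orders `m_0 < ⋯ < m_r` of `V` at `P` that are at least `n`, and the weight of `V` at
`P` is `∑_{n=1}^{d} dim V(-nP) - r(r+1)/2`. Aspects `(D_Y, V_Y)` on `K_Y` and `(D_Z, V_Z)` on `K_Z`
of a limit `g^r_d` on two components meeting in a node (a place `P` of `K_Y` and a place `Q` of
`K_Z`) are compatible there when `m_i(V_Y, P) + m_{r-i}(V_Z, Q) = d` for every `i`, equivalently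
`dim V_Y(-nP) + dim V_Z(-(d+1-n)Q) = r + 1` for `0 ≤ n ≤ d + 1`. Consider a chain of components
`U_0, U_1, …, U_n` (`n ≥ 1`; function fields `K_l`), `U_l` meeting `U_{l+1}` in a node given by
places `B_l` of `K_l` and `A_{l+1}` of `K_{l+1}`, with `A_l ≠ B_l` on the inner components `U_1, …,
U_{n-1}`, which have genus `0`; each `U_l` carries an aspect `(D_l, V_l)` of a limit `g^r_d`,
consecutive aspects compatible at the nodes, and the weight of `V_0` at `B_0` is at most `(r+1)(d-r)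
- c`. (In the source `U_0` is a backbone component of a flag curve with `g` tails, `U_1, …, U_{n-1}`
the chain of rational curves attached to it at `B_0`, `U_n` the elliptic tail, and `c = r(g-1)`, the
weight bound at `B_0` being the one established for backbone components.) Assume moreover that `U_n`
has positive genus. Then at every place `Q'` of an inner component `U_l` (`0 < l < n`) other than
`A_l, B_l`, the weight of `V_l` is at most `(r+1)(d-r) - c - r`: `∑_{j=1}^{d} dim V_l(-jQ') + c + r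
+ r(r+1) ≤ (r+1)d + r(r+1)/2`. With `c = r(g-1)` this is `(r+1)(d-r) - rg`, so when `ρ ≤ 0` the
limit of the moving ramification point (weight `≥ (r+1)(d-r) - rg + 1`) is not on the chain curves
either. (The printed argument bounds such weights only by `(r+1)(d-r) - r(g-1)`; the extra `r` comes
from the cusp that `V_l` has at `B_l`.) (The source states this for curves over the complex
numbers.) -/
theorem result
    (k : Type*) [Field k] [IsAlgClosed k] [CharZero k]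
    (n : ℕ) (hn : 0 < n) (U : Fin (n + 1) → Type*) [∀ l, Field (U l)] [∀ l, Algebra k (U l)]
    (hU : ∀ l, FunFld.IsFunctionField k (U l))
    (hrat : ∀ l : Fin (n + 1), 0 < (l : ℕ) → (l : ℕ) < n → FunFld.genus k (U l) = 0)
    (d r : ℕ) (D : ∀ l, FunFld.Divisor k (U l)) (hD : ∀ l, (D l).deg = d)
    (V : ∀ l, Submodule k (U l)) (hV : ∀ l, V l ≤ FunFld.L (D l))
    (hVr : ∀ l, Module.finrank k ↥(V l) = r + 1)
    (A B : ∀ l, FunFld.Place k (U l))
    (hAB : ∀ l : Fin (n + 1), 0 < (l : ℕ) → (l : ℕ) < n → A l ≠ B l)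
    (hcomp : ∀ (l : Fin n) (m : ℕ), m ≤ d + 1 →
      Module.finrank k ↥((V l.castSucc) ⊓ FunFld.L ((D l.castSucc) - Finsupp.single (B l.castSucc) ((m : ℤ)))) +
        Module.finrank k ↥((V l.succ) ⊓ FunFld.L ((D l.succ) - Finsupp.single (A l.succ) ((d : ℤ) + 1 - m))) = r + 1)
    (c : ℕ) (hc : (∑ j ∈ Finset.range d, Module.finrank k ↥((V 0) ⊓ FunFld.L ((D 0) - Finsupp.single (B 0) ((j : ℤ) + 1)))) + c + r * (r + 1) ≤ (r + 1) * d + r * (r + 1) / 2)
    (hpos : 0 < FunFld.genus k (U (Fin.last n)))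
    (l : Fin (n + 1)) (hl0 : 0 < (l : ℕ)) (hln : (l : ℕ) < n)
    (Q' : FunFld.Place k (U l)) (hQ'A : Q' ≠ A l) (hQ'B : Q' ≠ B l) :
    (∑ j ∈ Finset.range d, Module.finrank k ↥((V l) ⊓ FunFld.L ((D l) - Finsupp.single Q' ((j : ℤ) + 1)))) + c + r + r * (r + 1) ≤ (r + 1) * d + r * (r + 1) / 2 := by
  have hdvd : 2 ∣ r * (r + 1) := (Nat.even_mul_succ_self r).two_dvd
  have heven : r * (r + 1) / 2 * 2 = r * (r + 1) := Nat.div_mul_cancel hdvd
  have hS := Groth.Agent.S18184.result k n hn U hU hrat d r D hD V hV hVr A B hAB hcomp c hc l hl0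
  obtain ⟨m, hm⟩ := l
  have hl0' : 0 < m := hl0
  have hln' : m < n := hln
  have hUl := hU ⟨m, hm⟩
  have hrd := finrank_le_of_le_L hUl (hV ⟨m, hm⟩) (hD ⟨m, hm⟩)
  rw [hVr] at hrd
  rcases Nat.eq_zero_or_pos d with hd0 | hdpos
  · subst hd0
    have hr0 : r = 0 := by omega
    subst hr0
    simp only [Finset.range_zero, Finset.sum_empty] at hc ⊢
    omega
  -- the chain claim
  have key : ∀ (t i : ℕ) (h : i < n + 1), i + t = n → 0 < i →
      av (V ⟨i, h⟩) (D ⟨i, h⟩) (A ⟨i, h⟩) ((d : ℤ) - 1) ≤ 1 := by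
    intro t
    induction t with
    | zero =>
      intro i h hi _
      have hi' : i = n := by omega
      subst hi'
      have hW' := hU ⟨i, h⟩
      exact av_pred_le_one_of_genus_pos hW' hpos _ (hD _) (deg_eq_one' hW' _)
    | succ t ih =>
      intro i h hi hi0
      have hj : i + 1 < n + 1 := by omega
      have hin : i < n := by omega
      have ih' := ih (i + 1) hj (by omega) (by omega)
      have h1 : Module.finrank k ↥((V ⟨i, h⟩) ⊓ FunFld.L ((D ⟨i, h⟩) -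
            Finsupp.single (B ⟨i, h⟩) ((2 : ℕ) : ℤ))) +
          Module.finrank k ↥((V ⟨i + 1, hj⟩) ⊓ FunFld.L ((D ⟨i + 1, hj⟩) -
            Finsupp.single (A ⟨i + 1, hj⟩) ((d : ℤ) + 1 - ((2 : ℕ) : ℤ)))) = r + 1 :=
        hcomp ⟨i, hin⟩ 2 (by omega)
      have e : (d : ℤ) + 1 - ((2 : ℕ) : ℤ) = (d : ℤ) - 1 := by push_cast; ring
      rw [e] at h1
      have ih'' : Module.finrank k ↥((V ⟨i + 1, hj⟩) ⊓ FunFld.L ((D ⟨i + 1, hj⟩) -
          Finsupp.single (A ⟨i + 1, hj⟩) ((d : ℤ) - 1))) ≤ 1 := ih'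
      have h1' : r ≤ av (V ⟨i, h⟩) (D ⟨i, h⟩) (B ⟨i, h⟩) ((2 : ℕ) : ℤ) := by
        show r ≤ Module.finrank k ↥((V ⟨i, h⟩) ⊓ FunFld.L ((D ⟨i, h⟩) -
          Finsupp.single (B ⟨i, h⟩) ((2 : ℕ) : ℤ)))
        omega
      have hW' := hU ⟨i, h⟩
      have hne : A ⟨i, h⟩ ≠ B ⟨i, h⟩ := hAB ⟨i, h⟩ hi0 hin
      have h2 := av_add_av_le hW' (hV ⟨i, h⟩) (deg_eq_one' hW' (A ⟨i, h⟩)) (deg_eq_one' hW' (B ⟨i, h⟩))
        hne (n := (d : ℤ) - 1) (m := ((2 : ℕ) : ℤ))
        (by have : (1 : ℤ) ≤ d := by exact_mod_cast hdpos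
            linarith) (by positivity) (by rw [hD]; push_cast; linarith)
      rw [hVr] at h2
      omega
  -- cusp at B_l
  have hj : m + 1 < n + 1 := by omega
  have hk := key (n - (m + 1)) (m + 1) hj (by omega) (by omega)
  have h1 : Module.finrank k ↥((V ⟨m, hm⟩) ⊓ FunFld.L ((D ⟨m, hm⟩) -
        Finsupp.single (B ⟨m, hm⟩) ((2 : ℕ) : ℤ))) +
      Module.finrank k ↥((V ⟨m + 1, hj⟩) ⊓ FunFld.L ((D ⟨m + 1, hj⟩) -
        Finsupp.single (A ⟨m + 1, hj⟩) ((d : ℤ) + 1 - ((2 : ℕ) : ℤ)))) = r + 1 :=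
    hcomp ⟨m, hln'⟩ 2 (by omega)
  have e : (d : ℤ) + 1 - ((2 : ℕ) : ℤ) = (d : ℤ) - 1 := by push_cast; ring
  rw [e] at h1
  have hk' : Module.finrank k ↥((V ⟨m + 1, hj⟩) ⊓ FunFld.L ((D ⟨m + 1, hj⟩) -
      Finsupp.single (A ⟨m + 1, hj⟩) ((d : ℤ) - 1))) ≤ 1 := hk
  have hcusp : r ≤ av (V ⟨m, hm⟩) (D ⟨m, hm⟩) (B ⟨m, hm⟩) 2 := by
    show r ≤ Module.finrank k ↥((V ⟨m, hm⟩) ⊓ FunFld.L ((D ⟨m, hm⟩) -
      Finsupp.single (B ⟨m, hm⟩) (2 : ℤ)))
    have e2 : ((2 : ℕ) : ℤ) = (2 : ℤ) := by norm_num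
    rw [e2] at h1
    omega
  have hne : A ⟨m, hm⟩ ≠ B ⟨m, hm⟩ := hAB ⟨m, hm⟩ hl0' hln'
  have h3 := sum_av_add_sum_av_add_le_of_cusp hUl (hrat ⟨m, hm⟩ hl0' hln') (deg_eq_one' hUl)
    (hD ⟨m, hm⟩) (hV ⟨m, hm⟩) (hVr ⟨m, hm⟩) hcusp hne hQ'B (Ne.symm hQ'A)
  have hS' : c + r * (r + 1) / 2 ≤ ∑ j ∈ Finset.range d,
      av (V ⟨m, hm⟩) (D ⟨m, hm⟩) (A ⟨m, hm⟩) ((j : ℤ) + 1) := hS
  show (∑ j ∈ Finset.range d, av (V ⟨m, hm⟩) (D ⟨m, hm⟩) Q' ((j : ℤ) + 1)) + c + r + r * (r + 1) ≤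
      (r + 1) * d + r * (r + 1) / 2
  omega

end Groth.Agent.S18185
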