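import Mathlib
import Groth.Statements.S18187
import Groth.Agent.Lib.Helper19.ArtFunLength
import Groth.Agent.Lib.Helper19.ArtFunTorsor

set_option autoImplicit false
universe u v
open CategoryTheory
open T1Lift

namespace Groth.Agent.S18187

open ArtFun ArtFun.Art Polynomial

section RingFacts

variable (k : Type u) [Field k]

theorem αAlg_mk (m : ℕ) (P : k[X]) :
    T1Lift.αAlg k m (AdjoinRoot.mk _ P) = AdjoinRoot.mk _ P := by
  rw [← AdjoinRoot.aeval_eq, ← Polynomial.aeval_algHom_apply, T1Lift.αAlg_t, AdjoinRoot.aeval_eq]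

theorem α_surjective (m : ℕ) : Function.Surjective (T1Lift.α k m) := by
  intro b
  obtain ⟨P, rfl⟩ := AdjoinRoot.mk_surjective b
  exact ⟨AdjoinRoot.mk _ P, αAlg_mk k m P⟩

theorem ker_αAlg (m : ℕ) (a : T1Lift.Tr k (m + 1)) (ha : T1Lift.αAlg k m a = 0) :
    ∃ c : k, a = algebraMap k _ c * T1Lift.t k (m + 1) ^ (m + 1) := by
  obtain ⟨P, rfl⟩ := AdjoinRoot.mk_surjective a
  rw [αAlg_mk, AdjoinRoot.mk_eq_zero] at ha
  obtain ⟨Q, rfl⟩ := ha
  obtain ⟨c, b, hb⟩ : ∃ (c : k) (b : T1Lift.Tr k (m + 1)),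
      AdjoinRoot.mk _ Q = algebraMap k _ c + T1Lift.t k (m + 1) * b := by
    obtain ⟨b, hb⟩ := T1Lift.eq_algebraMap_add_t_mul k (m + 1) (AdjoinRoot.mk _ Q)
    exact ⟨_, b, hb⟩
  refine ⟨c, ?_⟩
  have ht := T1Lift.t_pow k (m + 1)
  rw [map_mul, map_pow, AdjoinRoot.mk_X, hb]
  linear_combination b * ht

theorem t_pow_ne_zero (m : ℕ) : T1Lift.t k m ^ m ≠ 0 := by
  intro h
  have h1 : AdjoinRoot.mk ((X : k[X]) ^ (m + 1)) (X ^ m) = 0 := by
    rw [map_pow, AdjoinRoot.mk_X]; exact h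
  rw [AdjoinRoot.mk_eq_zero] at h1
  have := (pow_dvd_pow_iff (X_ne_zero : (X : k[X]) ≠ 0) not_isUnit_X).1 h1
  omega

theorem mul_eq_zero_aux (m : ℕ) (r s : T1Lift.Tr k (m + 1))
    (hr' : T1Lift.resA k (m + 1) r = 0) (hs : T1Lift.αAlg k m s = 0) : r * s = 0 := by
  obtain ⟨b, hb⟩ := T1Lift.eq_algebraMap_add_t_mul k (m + 1) r
  rw [hr', map_zero, zero_add] at hb
  obtain ⟨c, hc⟩ := ker_αAlg k m s hs
  have ht := T1Lift.t_pow k (m + 1)
  rw [hb, hc]
  linear_combination (b * algebraMap k _ c) * ht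

theorem dual_mul_eq_zero_aux (n : ℕ) (r s : DualNumber (T1Lift.Tr k (n + 1)))
    (hr' : T1Lift.resA k (n + 1) r.fst = 0) (hsfst : s.fst = 0)
    (hssnd : T1Lift.αAlg k n s.snd = 0) : r * s = 0 := by
  refine TrivSqZeroExt.ext ?_ ?_
  · rw [TrivSqZeroExt.fst_mul, hsfst, mul_zero]; rfl
  · rw [TrivSqZeroExt.snd_mul, hsfst]
    simp only [MulOpposite.op_zero, zero_smul, add_zero, smul_eq_mul, TrivSqZeroExt.snd_zero]
    exact mul_eq_zero_aux k n _ _ hr' hssnd

theorem isSemismallExt_α (m : ℕ) : IsSemismallExt (T1Lift.α k m) := by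
  refine ⟨α_surjective k m, ?_⟩
  rw [← le_bot_iff, Ideal.mul_le]
  intro r hr s hs
  rw [Ideal.mem_bot]
  have hr' : T1Lift.resA k (m + 1) r = 0 := (mem_maximalIdeal_iff (T1Lift.A k (m + 1)) r).1 hr
  exact mul_eq_zero_aux k m r s hr' (RingHom.mem_ker.1 hs)

theorem snd_pow {R : Type*} [CommRing R] (a : R) (m : ℕ) :
    (((TrivSqZeroExt.inl a : DualNumber R) + DualNumber.eps) ^ (m + 1)).snd = (m + 1) • a ^ m := by
  induction m with
  | zero => simp
  | succ m ih =>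
    rw [pow_succ, TrivSqZeroExt.snd_mul, ih, TrivSqZeroExt.fst_pow]
    simp [nsmul_eq_mul] <;> ring

theorem eps_inj_aux [CharZero k] (m : ℕ) (c : k)
    (h : T1Lift.εAlg k m (algebraMap k _ c * T1Lift.t k (m + 1) ^ (m + 1)) = 0) : c = 0 := by
  rw [map_mul, AlgHom.commutes, map_pow, T1Lift.εAlg_t, ← Algebra.smul_def] at h
  have h1 := congrArg TrivSqZeroExt.snd h
  rw [TrivSqZeroExt.snd_smul, snd_pow, TrivSqZeroExt.snd_zero] at h1
  rcases smul_eq_zero.1 h1 with hc | h2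
  · exact hc
  · exfalso
    rw [← Nat.cast_smul_eq_nsmul k] at h2
    rcases smul_eq_zero.1 h2 with h3 | h3
    · exact absurd h3 (Nat.cast_ne_zero.2 (Nat.succ_ne_zero m))
    · exact t_pow_ne_zero k m h3

theorem I1 (m : ℕ) : T1Lift.ε k m ≫ T1Lift.β k m = T1Lift.α k m := by
  apply Art.hom_ext
  apply AdjoinRoot.algHom_ext
  show (T1Lift.εAlg k m (T1Lift.t k (m + 1))).fst = T1Lift.αAlg k m (T1Lift.t k (m + 1))
  rw [T1Lift.εAlg_t, T1Lift.αAlg_t]
  simp

theorem I2 (m : ℕ) :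
    T1Lift.ε k (m + 1) ≫ T1Lift.ξ k m = T1Lift.α k (m + 1) ≫ T1Lift.ε k m := by
  apply Art.hom_ext
  apply AdjoinRoot.algHom_ext
  show T1Lift.dualMap k (T1Lift.αAlg k m) (T1Lift.εAlg k (m + 1) (T1Lift.t k (m + 1 + 1))) =
    T1Lift.εAlg k m (T1Lift.αAlg k (m + 1) (T1Lift.t k (m + 1 + 1)))
  rw [T1Lift.εAlg_t, T1Lift.αAlg_t, T1Lift.εAlg_t]
  refine TrivSqZeroExt.ext ?_ ?_
  · show T1Lift.αAlg k m
      ((TrivSqZeroExt.inl (T1Lift.t k (m + 1)) + DualNumber.eps : DualNumber _)).fst = _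
    simp
  · show T1Lift.αAlg k m
      ((TrivSqZeroExt.inl (T1Lift.t k (m + 1)) + DualNumber.eps : DualNumber _)).snd = _
    simp

theorem I4 (m : ℕ) :
    T1Lift.ξ k m ≫ T1Lift.β k m = T1Lift.β k (m + 1) ≫ T1Lift.α k m := by
  apply Art.hom_ext
  apply AlgHom.ext
  intro x
  rfl

end RingFacts

section FibreProd

variable {k : Type u} [Field k]

theorem hom_eq_of_isFibreProd {B A A' A'' Z : Art k k} {p' : B ⟶ A'} {p'' : B ⟶ A''}
    {f' : A' ⟶ A} {f'' : A'' ⟶ A} (h : IsFibreProd p' p'' f' f'') (u v : Z ⟶ B)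
    (h1 : u ≫ p' = v ≫ p') (h2 : u ≫ p'' = v ≫ p'') : u = v := by
  apply Art.hom_ext
  apply AlgHom.ext
  intro a
  exact h.inj _ _ (congrArg (fun f : Z ⟶ A' => f a) h1) (congrArg (fun f : Z ⟶ A'' => f a) h2)

theorem isSemismallExt_ψ (n : ℕ) {C : Art k k} {q₁ : C ⟶ T1Lift.B k n}
    {q₂ : C ⟶ T1Lift.A k (n + 1)}
    (hC : IsFibreProd q₁ q₂ (T1Lift.β k n) (T1Lift.α k n)) (ψ : T1Lift.B k (n + 1) ⟶ C)
    (h1 : ψ ≫ q₁ = T1Lift.ξ k n) (h2 : ψ ≫ q₂ = T1Lift.β k (n + 1)) : IsSemismallExt ψ := by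
  have e1 : ∀ y, q₁ (ψ y) = T1Lift.ξ k n y :=
    fun y => congrArg (fun f : T1Lift.B k (n + 1) ⟶ T1Lift.B k n => f y) h1
  have e2 : ∀ y, q₂ (ψ y) = T1Lift.β k (n + 1) y :=
    fun y => congrArg (fun f : T1Lift.B k (n + 1) ⟶ T1Lift.A k (n + 1) => f y) h2
  constructor
  · intro c
    obtain ⟨b', hb'⟩ := α_surjective k n ((q₁ c : DualNumber (T1Lift.Tr k n)).snd)
    refine ⟨((q₂ c : T1Lift.Tr k (n + 1)), (b' : T1Lift.Tr k (n + 1))), hC.inj _ _ ?_ ?_⟩
    · rw [e1]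
      refine TrivSqZeroExt.ext ?_ ?_
      · exact (hC.w_apply c).symm
      · exact hb'
    · rw [e2]; rfl
  · rw [← le_bot_iff, Ideal.mul_le]
    intro r hr s hs
    rw [Ideal.mem_bot]
    have hs0 : ψ s = 0 := RingHom.mem_ker.1 hs
    have hs1 : T1Lift.ξ k n s = 0 := by rw [← e1, hs0, map_zero]
    have hs2 : T1Lift.β k (n + 1) s = 0 := by rw [← e2, hs0, map_zero]
    have hsfst : (s : DualNumber (T1Lift.Tr k (n + 1))).fst = 0 := hs2
    have hssnd : T1Lift.αAlg k n (s : DualNumber (T1Lift.Tr k (n + 1))).snd = 0 :=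
      congrArg TrivSqZeroExt.snd hs1
    have hr' : T1Lift.resA k (n + 1) (r : DualNumber (T1Lift.Tr k (n + 1))).fst = 0 :=
      (mem_maximalIdeal_iff (T1Lift.B k (n + 1)) r).1 hr
    exact dual_mul_eq_zero_aux k n r s hr' hsfst hssnd

end FibreProd


/-- In the set-valued case, let k be a field of characteristic zero and F a functor on local Artinian
k-algebras with residue field k such that F(k) is one point, F satisfies the Rim–Schlessinger
condition (for every fibre-product square A' ×_A A'' with A'' → A surjective the comparison map F(A'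
×_A A'') → F(A') ×_{F(A)} F(A'') is bijective), and F has an obstruction theory with values in a
k-vector space V which is moreover functorial for every commutative square of surjections whose
kernels are killed by the maximal ideal. Write A_m = k[t]/(t^(m+1)), B_m = A_m[y]/(y²), α : A_(m+1)
→ A_m and ξ : B_(m+1) → B_m for t ↦ t, β : B_m → A_m for y ↦ 0 and ε : A_(m+1) → B_m for t ↦ t + y.
Then an element X ∈ F(A_(n+1)) lifts to F(A_(n+2)) along α if and only if there is Y ∈ F(B_(n+1))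
with F(β) Y = X and F(ξ) Y = F(ε) X, i.e. if and only if the element of the first-order tangent set
T¹(F(α)X / A_n) defined by F(ε) X lies in the image of T¹(X / A_(n+1)). (Stated here for functors
with values in sets; the version for predeformation categories in groupoids satisfying the
Rim–Schlessinger condition specialises to it. The functoriality of the obstruction theory for
arbitrary commutative squares is an explicit hypothesis, pinned through linear maps between the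
kernels that agree with the given ring map.) -/
theorem result (k : Type u) [Field k] [CharZero k]
    (F : ArtFun.Art k k ⥤ Type v) (h0 : ArtFun.H0 F)
    (hRS : ∀ ⦃P A A' A'' : ArtFun.Art k k⦄ (p' : P ⟶ A') (p'' : P ⟶ A'') (f' : A' ⟶ A) (f'' : A'' ⟶ A)
      (h : ArtFun.Art.IsFibreProd p' p'' f' f''), Function.Surjective f'' → Function.Bijective (ArtFun.cmp F h))
    (V : Type u) [AddCommGroup V] [Module k V] (O : ArtFun.ObsTheory F V)
    (hnat : ∀ ⦃A' A C' C : ArtFun.Art k k⦄ (φ : A' ⟶ A) (hφ : ArtFun.Art.IsSemismallExt φ)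
      (ψ : C' ⟶ C) (hψ : ArtFun.Art.IsSemismallExt ψ) (g' : A' ⟶ C') (g : A ⟶ C), φ ≫ g = g' ≫ ψ →
      ∀ (ℓ : ↥(RingHom.ker φ.toAlgHom) →ₗ[k] ↥(RingHom.ker ψ.toAlgHom)),
        (∀ j : ↥(RingHom.ker φ.toAlgHom), ((ℓ j : ↥(RingHom.ker ψ.toAlgHom)) : C') = g' (j : A')) →
        ∀ u : F.obj A, O.obs ψ hψ (F.map g u) = LinearMap.lTensor V ℓ (O.obs φ hφ u))
    (n : ℕ) (X : F.obj (T1Lift.A k (n + 1))) :
    (∃ X' : F.obj (T1Lift.A k (n + 2)), F.map (T1Lift.α k (n + 1)) X' = X) ↔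
      ∃ Y : F.obj (T1Lift.B k (n + 1)), F.map (T1Lift.β k (n + 1)) Y = X ∧
        F.map (T1Lift.ξ k n) Y = F.map (T1Lift.ε k n) X := by
  constructor
  · rintro ⟨X', rfl⟩
    refine ⟨F.map (T1Lift.ε k (n + 1)) X', ?_, ?_⟩
    · rw [← FunctorToTypes.map_comp_apply, I1]
    · rw [← FunctorToTypes.map_comp_apply, ← FunctorToTypes.map_comp_apply, I2]
  · rintro ⟨Y, hY1, hY2⟩
    obtain ⟨C, q₁, q₂, hC⟩ := Groth.Agent.Lib.Helper19.ArtFunLength.exists_isFibreProd
      (T1Lift.β k n) (T1Lift.α k n) (α_surjective k n)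
    obtain ⟨ψ, hψ1, hψ2⟩ := Groth.Agent.Lib.Helper19.ArtFunTorsor.exists_hom_of_isFibreProd hC
      (T1Lift.ξ k n) (T1Lift.β k (n + 1)) (I4 k n)
    obtain ⟨g, hg1, hg2⟩ := Groth.Agent.Lib.Helper19.ArtFunTorsor.exists_hom_of_isFibreProd hC
      (T1Lift.ε k n) (𝟙 _) (by rw [I1, Category.id_comp])
    have hsq : T1Lift.α k (n + 1) ≫ g = T1Lift.ε k (n + 1) ≫ ψ := by
      refine hom_eq_of_isFibreProd hC _ _ ?_ ?_
      · rw [Category.assoc, hg1, Category.assoc, hψ1, I2]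
      · rw [Category.assoc, hg2, Category.comp_id, Category.assoc, hψ2, I1]
    have hφ : ArtFun.Art.IsSemismallExt (T1Lift.α k (n + 1)) := isSemismallExt_α k (n + 1)
    have hψ : ArtFun.Art.IsSemismallExt ψ := isSemismallExt_ψ n hC ψ hψ1 hψ2
    have hmemker : ∀ j : ↥(RingHom.ker (T1Lift.α k (n + 1)).toAlgHom),
        (T1Lift.ε k (n + 1)).toAlgHom (j : T1Lift.A k (n + 1 + 1)) ∈ RingHom.ker ψ.toAlgHom := by
      intro j
      rw [RingHom.mem_ker]
      have h1 : g ((T1Lift.α k (n + 1)) (j : T1Lift.A k (n + 1 + 1))) =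
          ψ ((T1Lift.ε k (n + 1)) (j : T1Lift.A k (n + 1 + 1))) :=
        congrArg (fun f : T1Lift.A k (n + 1 + 1) ⟶ C => f (j : T1Lift.A k (n + 1 + 1))) hsq
      have hj : (T1Lift.α k (n + 1)) (j : T1Lift.A k (n + 1 + 1)) = 0 := RingHom.mem_ker.1 j.2
      show ψ ((T1Lift.ε k (n + 1)) (j : T1Lift.A k (n + 1 + 1))) = 0
      rw [← h1, hj, map_zero]
    let ℓ : ↥(RingHom.ker (T1Lift.α k (n + 1)).toAlgHom) →ₗ[k] ↥(RingHom.ker ψ.toAlgHom) :=
      { toFun := fun j => ⟨(T1Lift.ε k (n + 1)).toAlgHom (j : T1Lift.A k (n + 1 + 1)), hmemker j⟩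
        map_add' := fun a b => Subtype.ext (by simp)
        map_smul' := fun c a => Subtype.ext (by simp) }
    have hℓ : ∀ j : ↥(RingHom.ker (T1Lift.α k (n + 1)).toAlgHom),
        ((ℓ j : ↥(RingHom.ker ψ.toAlgHom)) : T1Lift.B k (n + 1)) =
          (T1Lift.ε k (n + 1)) (j : T1Lift.A k (n + 1 + 1)) := fun j => rfl
    have hℓinj : Function.Injective ℓ := by
      rw [injective_iff_map_eq_zero]
      intro j hj
      have hj0 : (T1Lift.εAlg k (n + 1)) j.1 = 0 :=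
        congrArg Subtype.val hj
      obtain ⟨c, hc⟩ := ker_αAlg k (n + 1) j.1 (RingHom.mem_ker.1 j.2)
      have hc0 : c = 0 := eps_inj_aux k (n + 1) c (by rw [← hc]; exact hj0)
      apply Subtype.ext
      rw [hc, hc0, map_zero, zero_mul]
      rfl
    have key := hnat (T1Lift.α k (n + 1)) hφ ψ hψ (T1Lift.ε k (n + 1)) g hsq ℓ hℓ X
    have hZ : F.map g X = F.map ψ Y := by
      apply (hRS q₁ q₂ (T1Lift.β k n) (T1Lift.α k n) hC (α_surjective k n)).1
      refine ArtFun.FibProd.ext ?_ ?_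
      · show F.map q₁ (F.map g X) = F.map q₁ (F.map ψ Y)
        rw [← FunctorToTypes.map_comp_apply, ← FunctorToTypes.map_comp_apply, hg1, hψ1, hY2]
      · show F.map q₂ (F.map g X) = F.map q₂ (F.map ψ Y)
        rw [← FunctorToTypes.map_comp_apply, ← FunctorToTypes.map_comp_apply, hg2, hψ2, hY1,
          FunctorToTypes.map_id_apply]
    have h0' : O.obs ψ hψ (F.map ψ Y) = 0 := (O.obs_eq_zero_iff ψ hψ _).2 ⟨Y, rfl⟩
    rw [hZ, h0'] at key
    have hinj : Function.Injective (LinearMap.lTensor V ℓ) :=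
      Module.Flat.lTensor_preserves_injective_linearMap ℓ hℓinj
    have hobs : O.obs (T1Lift.α k (n + 1)) hφ X = 0 := hinj (by rw [← key, map_zero])
    exact (O.obs_eq_zero_iff _ hφ X).1 hobs

end Groth.Agent.S18187
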