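import Groth.Statements.S18188
import Mathlib

set_option autoImplicit false
universe u
open OrbRR

namespace Groth.Agent.S18188


section aux
variable {K : Type*} [Field K]

theorem geom_zero {x : K} {N : ℕ} (hx1 : x ≠ 1) (hxN : x ^ N = 1) :
    ∑ i ∈ Finset.range N, x ^ i = 0 := by
  have h := geom_sum_mul x N
  rw [hxN, sub_self] at h
  exact (mul_eq_zero.mp h).resolve_right (sub_ne_zero.mpr hx1)

theorem sum_range_eq_Ioo (N : ℕ) (hN : 0 < N) (f : ℕ → K) :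
    ∑ i ∈ Finset.range N, f i = f 0 + ∑ i ∈ Finset.Ioo 0 N, f i := by
  have h : Finset.range N = insert 0 (Finset.Ioo 0 N) := by
    ext i; simp only [Finset.mem_range, Finset.mem_insert, Finset.mem_Ioo]; omega
  rw [h, Finset.sum_insert (by simp)]

theorem sum_quad (h2 : (2:K) ≠ 0) (M : K) (n : ℕ) :
    (∑ j ∈ Finset.range n, (j:K) * ((j:K) - M) / 2) * 12 =
      (n:K) * ((n:K) - 1) * (2 * (n:K) - 1) - 3 * M * (n:K) * ((n:K) - 1) := by
  induction n with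
  | zero => simp
  | succ n ih =>
    rw [Finset.sum_range_succ, add_mul, ih]
    push_cast
    field_simp
    ring

noncomputable def dd (ζ : K) (i : ℕ) : K := 2 - ζ ^ i - (ζ ^ i)⁻¹
noncomputable def SS (ζ : K) (N j : ℕ) : K := ∑ i ∈ Finset.Ioo 0 N, ζ ^ (i * j) / dd ζ i

theorem dd_ne_zero (ζ : K) (N : ℕ) (hζ : IsPrimitiveRoot ζ N) (hζ0 : ζ ≠ 0) :
    ∀ i ∈ Finset.Ioo 0 N, dd ζ i ≠ 0 := by
  intro i hi h
  rw [Finset.mem_Ioo] at hi
  have hzi : ζ ^ i ≠ 0 := pow_ne_zero _ hζ0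
  apply hζ.pow_ne_one_of_pos_of_lt hi.1.ne' hi.2
  have h' : (ζ ^ i - 1) ^ 2 = 0 := by
    have : (ζ ^ i - 1) ^ 2 = - ζ ^ i * dd ζ i := by
      have e : ζ ^ i * (ζ ^ i)⁻¹ = 1 := mul_inv_cancel₀ hzi
      unfold dd
      linear_combination (-1 : K) * e
    rw [this, h, mul_zero]
  exact sub_eq_zero.mp (pow_eq_zero_iff two_ne_zero |>.mp h')

theorem second_diff (ζ : K) (N : ℕ) (hζ0 : ζ ≠ 0) (hd : ∀ i ∈ Finset.Ioo 0 N, dd ζ i ≠ 0) (j : ℕ) :
    SS ζ N (j+2) - 2 * SS ζ N (j+1) + SS ζ N j = - ∑ i ∈ Finset.Ioo 0 N, ζ ^ (i * (j+1)) := by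
  unfold SS
  rw [Finset.mul_sum, ← Finset.sum_sub_distrib, ← Finset.sum_add_distrib, ← Finset.sum_neg_distrib]
  refine Finset.sum_congr rfl fun i hi => ?_
  have hdi := hd i hi
  have hzi : ζ ^ i ≠ 0 := pow_ne_zero _ hζ0
  have e : ζ ^ (i * (j+2)) - 2 * ζ ^ (i*(j+1)) + ζ^(i*j) = - ζ ^ (i * (j+1)) * dd ζ i := by
    have e1 : ζ ^ (i * (j+2)) = ζ ^ (i*j) * (ζ^i)^2 := by
      rw [← pow_mul, ← pow_add]; congr 1; ring
    have e2 : ζ ^ (i * (j+1)) = ζ ^ (i*j) * ζ^i := by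
      rw [← pow_add]; congr 1
    have e3 : ζ ^ i * (ζ ^ i)⁻¹ = 1 := mul_inv_cancel₀ hzi
    rw [e1, e2]; unfold dd
    linear_combination (-(ζ ^ (i*j))) * e3
  rw [← mul_div_assoc, ← sub_div, ← add_div, e, mul_div_assoc, div_self hdi, mul_one]

theorem sum_Ioo_pow (ζ : K) (N : ℕ) (hζ : IsPrimitiveRoot ζ N) (hN : 0 < N) (m : ℕ) (hm0 : m ≠ 0)
    (hm : m < N) : ∑ i ∈ Finset.Ioo 0 N, ζ ^ (i * m) = -1 := by
  have h1 : ζ ^ m ≠ 1 := hζ.pow_ne_one_of_pos_of_lt hm0 hm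
  have h2 : (ζ ^ m) ^ N = 1 := by rw [← pow_mul, mul_comm, pow_mul, hζ.pow_eq_one, one_pow]
  have h := geom_zero h1 h2
  rw [sum_range_eq_Ioo N hN, pow_zero] at h
  have h' : ∑ i ∈ Finset.Ioo 0 N, ζ ^ (i * m) = ∑ i ∈ Finset.Ioo 0 N, (ζ ^ m) ^ i :=
    Finset.sum_congr rfl fun i _ => by rw [← pow_mul, mul_comm]
  rw [h']; linear_combination h

theorem SS_period (ζ : K) (N : ℕ) (hζ : IsPrimitiveRoot ζ N) : SS ζ N N = SS ζ N 0 := by
  unfold SS
  refine Finset.sum_congr rfl fun i _ => ?_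
  rw [pow_mul', hζ.pow_eq_one, one_pow, mul_zero, pow_zero]

theorem sum_SS (ζ : K) (N : ℕ) (hζ : IsPrimitiveRoot ζ N) :
    ∑ j ∈ Finset.range N, SS ζ N j = 0 := by
  unfold SS
  rw [Finset.sum_comm]
  refine Finset.sum_eq_zero fun i hi => ?_
  rw [Finset.mem_Ioo] at hi
  rw [← Finset.sum_div]
  have h1 : ζ ^ i ≠ 1 := hζ.pow_ne_one_of_pos_of_lt hi.1.ne' hi.2
  have h2 : (ζ ^ i) ^ N = 1 := by rw [← pow_mul, mul_comm, pow_mul, hζ.pow_eq_one, one_pow]
  have h := geom_zero h1 h2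
  have h' : ∑ j ∈ Finset.range N, ζ ^ (i * j) = ∑ j ∈ Finset.range N, (ζ ^ i) ^ j :=
    Finset.sum_congr rfl fun j _ => by rw [← pow_mul]
  rw [h', h, zero_div]

theorem SS_closed (ζ : K) (N : ℕ) (h2 : (2:K) ≠ 0)
    (hrec : ∀ j, j + 1 < N → SS ζ N (j+2) - 2 * SS ζ N (j+1) + SS ζ N j = 1) :
    ∀ j, j + 1 ≤ N →
      (SS ζ N j = SS ζ N 0 + (j:K) * (SS ζ N 1 - SS ζ N 0) + (j:K) * ((j:K) - 1) / 2) ∧
      (SS ζ N (j+1) = SS ζ N 0 + ((j:K)+1) * (SS ζ N 1 - SS ζ N 0) +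
        ((j:K)+1) * (((j:K)+1) - 1) / 2) := by
  intro j
  induction j with
  | zero => intro _; constructor <;> simp
  | succ j ih =>
    intro hj
    obtain ⟨ih1, ih2⟩ := ih (by omega)
    refine ⟨by rw [ih2]; push_cast; ring, ?_⟩
    have hr := hrec j (by omega)
    have e : SS ζ N (j+1+1) = 2 * SS ζ N (j+1) - SS ζ N j + 1 := by linear_combination hr
    rw [e, ih1, ih2]
    push_cast
    field_simp
    ring

theorem main (h6 : (6 : K) ≠ 0) (N : ℕ) (hN : 0 < N) (ζ : K) (hζ : IsPrimitiveRoot ζ N) :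
    ∀ j, j < N → SS ζ N j = (j : K) * ((j : K) - (N : K)) / 2 + ((N : K) ^ 2 - 1) / 12 := by
  have h2 : (2:K) ≠ 0 := fun h => h6 (by rw [show (6:K) = 2 * 3 by norm_num, h, zero_mul])
  have h12 : (12:K) ≠ 0 := by rw [show (12:K) = 2 * 6 by norm_num]; exact mul_ne_zero h2 h6
  have hN0 : N ≠ 0 := hN.ne'
  have : NeZero N := ⟨hN0⟩
  have hNK : (N:K) ≠ 0 := (hζ.neZero' (R := K)).ne
  have hζ0 : ζ ≠ 0 := hζ.ne_zero hN0
  have hd := dd_ne_zero ζ N hζ hζ0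
  have hrec : ∀ j, j + 1 < N → SS ζ N (j+2) - 2 * SS ζ N (j+1) + SS ζ N j = 1 := by
    intro j hj
    rw [second_diff ζ N hζ0 hd j, sum_Ioo_pow ζ N hζ hN (j+1) (by omega) hj, neg_neg]
  have hcl := SS_closed ζ N h2 hrec
  have hN1 := (hcl (N - 1) (by omega)).2
  rw [Nat.sub_add_cancel hN, SS_period ζ N hζ, Nat.cast_sub hN, Nat.cast_one, sub_add_cancel] at hN1
  have hc : SS ζ N 1 - SS ζ N 0 = -((N:K) - 1)/2 := by
    have h0 : (N:K) * (SS ζ N 1 - SS ζ N 0 + ((N:K) - 1)/2) = 0 := by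
      linear_combination -hN1
    have h1 := (mul_eq_zero.mp h0).resolve_left hNK
    linear_combination h1
  have hSj : ∀ j, j < N → SS ζ N j = SS ζ N 0 + (j:K) * ((j:K) - (N:K)) / 2 := by
    intro j hj
    have h := (hcl j (by omega)).1
    rw [hc] at h
    rw [h]; ring
  have hsum := sum_SS ζ N hζ
  rw [Finset.sum_congr rfl (fun j hj => hSj j (Finset.mem_range.mp hj)), Finset.sum_add_distrib,
    Finset.sum_const, Finset.card_range, nsmul_eq_mul] at hsum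
  have hq := sum_quad h2 (N:K) N
  have hS0 : SS ζ N 0 = ((N:K)^2 - 1)/12 := by
    have h0 : (N:K) * (12 * SS ζ N 0 - ((N:K)^2 - 1)) = 0 := by
      linear_combination 12 * hsum - hq
    have h1 := (mul_eq_zero.mp h0).resolve_left hNK
    field_simp
    linear_combination h1
  intro j hj
  rw [hSj j hj, hS0]; ring

end aux

/-- Let K be a field in which 6 ≠ 0, let j < N be natural numbers (so N ≥ 1), and let ζ ∈ K be a
primitive N-th root of unity. Then the sum over i = 1, …, N − 1 of ζ^{ij} / (2 − ζ^i − ζ^{−i})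
equals j(j − N)/2 + (N² − 1)/12. (The published setting is characteristic zero; the identity is
stated here over any field of characteristic different from 2 and 3, where the published proof
applies unchanged: a field containing a primitive N-th root of unity has characteristic prime to N,
and each denominator 2 − ζ^i − ζ^{−i} = −(1 − ζ^i)²/ζ^i with 0 < i < N is nonzero. In
characteristics 2 and 3 the right-hand side has no meaning.) -/
theorem result (K : Type u) [Field K] (h6 : (6 : K) ≠ 0)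
    (N j : ℕ) (hj : j < N) (ζ : K) (hζ : IsPrimitiveRoot ζ N) :
    ∑ i ∈ Finset.Ioo 0 N, ζ ^ (i * j) / (2 - ζ ^ i - (ζ ^ i)⁻¹) =
      (j : K) * ((j : K) - (N : K)) / 2 + ((N : K) ^ 2 - 1) / 12 := by
  have hN : 0 < N := by omega
  exact main h6 N hN ζ hζ j hj

end Groth.Agent.S18188
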