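import Groth.Statements.S18189
import Groth.Agent.S18188
import Mathlib

set_option autoImplicit false
open OrbRR

namespace Groth.Agent.S18189


section aux

theorem norm_pow_root (ζ : ℂ) (N : ℕ) (hN0 : N ≠ 0) (hζ : IsPrimitiveRoot ζ N) (l : ℕ) :
    ‖ζ ^ l‖ = 1 := by
  rw [norm_pow, hζ.norm'_eq_one hN0, one_pow]

theorem denom_eq (ζ : ℂ) (N : ℕ) (hN0 : N ≠ 0) (hζ : IsPrimitiveRoot ζ N) (l : ℕ) :
    2 - ζ ^ l - (ζ ^ l)⁻¹ = ((2 - 2 * (ζ ^ l).re : ℝ) : ℂ) := by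
  rw [Complex.inv_eq_conj (norm_pow_root ζ N hN0 hζ l), sub_sub, Complex.add_conj]
  push_cast; ring

theorem re_le_one (ζ : ℂ) (N : ℕ) (hN0 : N ≠ 0) (hζ : IsPrimitiveRoot ζ N) (l : ℕ) :
    (ζ ^ l).re ≤ 1 := by
  have h := Complex.re_le_norm (ζ ^ l)
  rw [norm_pow_root ζ N hN0 hζ l] at h
  exact h

theorem rr_nonneg (ζ : ℂ) (N : ℕ) (hN0 : N ≠ 0) (hζ : IsPrimitiveRoot ζ N) (l : ℕ) :
    0 ≤ (2 - 2 * (ζ ^ l).re)⁻¹ := by
  have h := re_le_one ζ N hN0 hζ l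
  exact inv_nonneg.mpr (by linarith)

end aux

/-- Let N ≥ 1 be a natural number, let ζ ∈ ℂ be a primitive N-th root of unity, and put f(i) = i(i −
N)/2 + (N² − 1)/12 for 0 ≤ i < N. For every natural number m the complex number ε_m = (1/N)
∑_{i=0}^{N−1} f(i) ζ^{mi}, an eigenvalue of the symmetric circulant N × N matrix with (i, j) entry
f(j − i)/N, is real and nonnegative. -/
theorem result (N : ℕ) (hN : 0 < N) (ζ : ℂ)
    (hζ : IsPrimitiveRoot ζ N) (m : ℕ) :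
    (∑ i ∈ Finset.range N,
        ((i : ℂ) * ((i : ℂ) - (N : ℂ)) / 2 + ((N : ℂ) ^ 2 - 1) / 12) / (N : ℂ) * ζ ^ (m * i)).im = 0 ∧
    0 ≤ (∑ i ∈ Finset.range N,
        ((i : ℂ) * ((i : ℂ) - (N : ℂ)) / 2 + ((N : ℂ) ^ 2 - 1) / 12) / (N : ℂ) * ζ ^ (m * i)).re := by
  have h6 : (6:ℂ) ≠ 0 := by norm_num
  have hN0 : N ≠ 0 := hN.ne'
  have hNC : (N:ℂ) ≠ 0 := Nat.cast_ne_zero.mpr hN0
  have key : (∑ i ∈ Finset.range N,
        ((i : ℂ) * ((i : ℂ) - (N : ℂ)) / 2 + ((N : ℂ) ^ 2 - 1) / 12) / (N : ℂ) * ζ ^ (m * i))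
      = ((∑ l ∈ Finset.Ioo 0 N, (2 - 2 * (ζ ^ l).re)⁻¹ *
          (if ζ ^ (l + m) = 1 then (1:ℝ) else 0) : ℝ) : ℂ) := by
    have h1 : ∀ i ∈ Finset.range N,
        ((i : ℂ) * ((i : ℂ) - (N : ℂ)) / 2 + ((N : ℂ) ^ 2 - 1) / 12) / (N : ℂ) * ζ ^ (m * i)
        = ∑ l ∈ Finset.Ioo 0 N, ((2 - 2 * (ζ ^ l).re : ℝ) : ℂ)⁻¹ * ((ζ ^ (l + m)) ^ i / N) := by
      intro i hi
      rw [← Groth.Agent.S18188.result ℂ h6 N i (Finset.mem_range.mp hi) ζ hζ, Finset.sum_div,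
        Finset.sum_mul]
      refine Finset.sum_congr rfl fun l _ => ?_
      rw [denom_eq ζ N hN0 hζ l, ← pow_mul, add_mul, pow_add]
      ring
    rw [Finset.sum_congr rfl h1, Finset.sum_comm, Complex.ofReal_sum]
    refine Finset.sum_congr rfl fun l _ => ?_
    by_cases h : ζ ^ (l + m) = 1
    · rw [if_pos h, ← Finset.mul_sum, ← Finset.sum_div, h]
      simp only [one_pow, Finset.sum_const, Finset.card_range, nsmul_eq_mul, mul_one]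
      rw [div_self hNC]; push_cast; ring
    · have hN' : (ζ ^ (l+m)) ^ N = 1 := by
        rw [← pow_mul, mul_comm, pow_mul, hζ.pow_eq_one, one_pow]
      rw [if_neg h, ← Finset.mul_sum, ← Finset.sum_div, Groth.Agent.S18188.geom_zero h hN',
        zero_div, mul_zero, mul_zero, Complex.ofReal_zero]
  rw [key]
  refine ⟨Complex.ofReal_im _, ?_⟩
  rw [Complex.ofReal_re]
  refine Finset.sum_nonneg fun l _ => mul_nonneg (rr_nonneg ζ N hN0 hζ l) ?_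
  split_ifs <;> norm_num

end Groth.Agent.S18189
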