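import Groth.Statements.S18190
import Groth.Agent.S18189
import Mathlib

set_option autoImplicit false
open OrbRR

namespace Groth.Agent.S18190


section aux

theorem triple_sum {ι : Type*} [Fintype ι] (s : Finset ℕ) (c : ℕ → ℂ) (v w : ℕ → ι → ℂ)
    (x : ι → ℂ) :
    ∑ i, x i * ∑ j, (∑ l ∈ s, v l j * w l i * c l) * x j =
      ∑ l ∈ s, c l * ((∑ j, x j * v l j) * (∑ i, x i * w l i)) := by
  have h1 : ∑ i, x i * ∑ j, (∑ l ∈ s, v l j * w l i * c l) * x j =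
      ∑ i, ∑ j, ∑ l ∈ s, x i * x j * (v l j * w l i * c l) := by
    refine Finset.sum_congr rfl fun i _ => ?_
    rw [Finset.mul_sum]
    refine Finset.sum_congr rfl fun j _ => ?_
    rw [Finset.sum_mul, Finset.mul_sum]
    refine Finset.sum_congr rfl fun l _ => ?_
    ring
  have h2 : ∑ l ∈ s, c l * ((∑ j, x j * v l j) * (∑ i, x i * w l i)) =
      ∑ l ∈ s, ∑ j, ∑ i, x i * x j * (v l j * w l i * c l) := by
    refine Finset.sum_congr rfl fun l _ => ?_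
    rw [Finset.sum_mul_sum, Finset.mul_sum]
    refine Finset.sum_congr rfl fun j _ => ?_
    rw [Finset.mul_sum]
    refine Finset.sum_congr rfl fun i _ => ?_
    ring
  rw [h1, h2]
  exact (Finset.sum_comm).trans ((Finset.sum_congr rfl fun j _ => Finset.sum_comm).trans
    Finset.sum_comm)

variable (N : ℕ) [NeZero N]

noncomputable def F (k : ℕ) : ℝ :=
  ((k : ℝ) * ((k : ℝ) - (N : ℝ))) / 2 + ((N : ℝ) ^ 2 - 1) / 12

theorem F_neg (a : ZMod N) : F N (-a).val = F N a.val := by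
  rw [ZMod.neg_val]
  split_ifs with h
  · rw [h, ZMod.val_zero]
  · unfold F
    rw [Nat.cast_sub (ZMod.val_lt a).le]
    ring

noncomputable def rr (ζ : ℂ) (l : ℕ) : ℝ := (2 - 2 * (ζ ^ l).re)⁻¹

theorem F_eq (ζ : ℂ) (hζ : IsPrimitiveRoot ζ N) (a : ZMod N) :
    ((F N a.val : ℝ) : ℂ) = ∑ l ∈ Finset.Ioo 0 N, (ζ ^ l) ^ a.val * ((rr ζ l : ℝ) : ℂ) := by
  have hN0 : N ≠ 0 := NeZero.ne N
  have h := Groth.Agent.S18188.result ℂ (by norm_num) N a.val (ZMod.val_lt a) ζ hζ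
  have e1 : ((F N a.val : ℝ) : ℂ) =
      (a.val : ℂ) * ((a.val : ℂ) - (N : ℂ)) / 2 + ((N : ℂ) ^ 2 - 1) / 12 := by
    unfold F; push_cast; ring
  rw [e1, ← h]
  refine Finset.sum_congr rfl fun l _ => ?_
  unfold rr
  rw [Groth.Agent.S18189.denom_eq ζ N hN0 hζ l, pow_mul, div_eq_mul_inv, Complex.ofReal_inv]

noncomputable def psi (ζ : ℂ) (hζ : IsPrimitiveRoot ζ N) (l : ℕ) : AddChar (ZMod N) ℂ :=
  AddChar.zmodChar N (show (ζ ^ l) ^ N = 1 by
    rw [← pow_mul, mul_comm, pow_mul, hζ.pow_eq_one, one_pow])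

theorem psi_apply (ζ : ℂ) (hζ : IsPrimitiveRoot ζ N) (l : ℕ) (a : ZMod N) :
    psi N ζ hζ l a = (ζ ^ l) ^ a.val := rfl

theorem psi_norm (ζ : ℂ) (hζ : IsPrimitiveRoot ζ N) (l : ℕ) (a : ZMod N) :
    ‖psi N ζ hζ l a‖ = 1 := by
  rw [psi_apply, norm_pow, norm_pow, hζ.norm'_eq_one (NeZero.ne N), one_pow, one_pow]

theorem M_eq (ζ : ℂ) (hζ : IsPrimitiveRoot ζ N) (i j : ZMod N) :
    ((F N (j - i).val / (N:ℝ) : ℝ) : ℂ) =
      ∑ l ∈ Finset.Ioo 0 N, psi N ζ hζ l j * (starRingEnd ℂ) (psi N ζ hζ l i) *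
        ((rr ζ l : ℂ) / (N : ℂ)) := by
  rw [Complex.ofReal_div, F_eq N ζ hζ (j - i), Complex.ofReal_natCast, Finset.sum_div]
  refine Finset.sum_congr rfl fun l _ => ?_
  have e : (ζ ^ l) ^ (j - i).val = psi N ζ hζ l j * (starRingEnd ℂ) (psi N ζ hζ l i) := by
    rw [← psi_apply N ζ hζ l (j - i), AddChar.map_sub_eq_div, div_eq_mul_inv,
      Complex.inv_eq_conj (psi_norm N ζ hζ l i)]
  rw [e, mul_div_assoc]

theorem quad_eq (ζ : ℂ) (hζ : IsPrimitiveRoot ζ N) (x : ZMod N → ℝ) :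
    ∑ i, x i * ∑ j, F N (j - i).val / (N:ℝ) * x j =
      ∑ l ∈ Finset.Ioo 0 N, rr ζ l / N * Complex.normSq (∑ j, (x j : ℂ) * psi N ζ hζ l j) := by
  apply Complex.ofReal_injective
  simp only [Complex.ofReal_sum, Complex.ofReal_mul]
  simp only [M_eq N ζ hζ]
  refine (triple_sum (Finset.Ioo 0 N) (fun l => (rr ζ l : ℂ) / (N : ℂ))
    (fun l j => psi N ζ hζ l j) (fun l i => (starRingEnd ℂ) (psi N ζ hζ l i))
    (fun i => (x i : ℂ))).trans ?_
  refine Finset.sum_congr rfl fun l _ => ?_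
  simp only [← Complex.mul_conj, map_sum, map_mul, Complex.conj_ofReal, Complex.ofReal_div,
    Complex.ofReal_natCast]

end aux

/-- Let N ≥ 1 and let f : ℤ/Nℤ → ℚ be f(x) = x(x − N)/2 + (N² − 1)/12, where x is read as its
representative with 0 ≤ x < N. The real N × N matrix indexed by ℤ/Nℤ whose (i, j) entry is f(j −
i)/N, a symmetric circulant matrix, is positive semidefinite. -/
theorem result (N : ℕ) [NeZero N] :
    (Matrix.of fun i j : ZMod N =>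
        ((((j - i).val : ℝ) * (((j - i).val : ℝ) - (N : ℝ))) / 2 + ((N : ℝ) ^ 2 - 1) / 12) / (N : ℝ)).PosSemidef := by
  have hN0 : N ≠ 0 := NeZero.ne N
  have hζ : IsPrimitiveRoot (Complex.exp (2 * Real.pi * Complex.I / N)) N :=
    Complex.isPrimitiveRoot_exp N hN0
  refine Matrix.PosSemidef.of_dotProduct_mulVec_nonneg ?_ ?_
  · refine Matrix.IsHermitian.ext fun i j => ?_
    show F N (i - j).val / N = F N (j - i).val / N
    rw [← neg_sub j i, F_neg]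
  · intro x
    show 0 ≤ ∑ i, x i * ∑ j, F N (j - i).val / (N:ℝ) * x j
    rw [quad_eq N _ hζ x]
    refine Finset.sum_nonneg fun l _ => mul_nonneg (div_nonneg ?_ (Nat.cast_nonneg N))
      (Complex.normSq_nonneg _)
    exact Groth.Agent.S18189.rr_nonneg _ N hN0 hζ l

end Groth.Agent.S18190
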