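import Groth.Statements.S18197
import Mathlib
import Groth.Agent.Lib.Helper27.LocImm

set_option autoImplicit false
universe u
open LocImm

namespace Groth.Agent.S18197


open CategoryTheory CategoryTheory.Limits AlgebraicGeometry Topology in
/-- Two morphisms `a b : T ⟶ X` agreeing over a separated `s : X ⟶ Z` and agreeing after precomposition
with `ι : W ⟶ T` agree on every point in the closure of the range of `ι`. -/
lemma apply_eq_of_mem_closure_range {W T X Z : Scheme.{u}} {a b : T ⟶ X}
    (s : X ⟶ Z) [IsSeparated s] (h : a ≫ s = b ≫ s)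
    (ι : W ⟶ T) (hU : ι ≫ a = ι ≫ b) (t : T) (ht : t ∈ closure (Set.range ι)) : a t = b t := by
  let T' : Over Z := Over.mk (a ≫ s)
  let X' : Over Z := Over.mk s
  let W' : Over Z := Over.mk (ι ≫ a ≫ s)
  let a' : T' ⟶ X' := Over.homMk a
  let b' : T' ⟶ X' := Over.homMk b
  let ι' : W' ⟶ T' := Over.homMk ι
  have : IsSeparated X'.hom := ‹_›
  have hcl : IsClosed (Set.range (equalizer.ι a' b').left) :=
    (Scheme.Hom.isClosedEmbedding _).isClosed_range
  have hι : ι' ≫ a' = ι' ≫ b' := by ext1; exact hU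
  have hsub : Set.range ι ⊆ Set.range (equalizer.ι a' b').left := by
    rintro _ ⟨w, rfl⟩
    refine ⟨(equalizer.lift ι' hι).left w, ?_⟩
    rw [← Scheme.Hom.comp_apply, ← Over.comp_left, equalizer.lift_ι]
    rfl
  obtain ⟨e, rfl⟩ := closure_minimal hsub hcl ht
  have hc : (equalizer.ι a' b').left ≫ a = (equalizer.ι a' b').left ≫ b :=
    congr($(equalizer.condition a' b').left)
  rw [← Scheme.Hom.comp_apply, ← Scheme.Hom.comp_apply, hc]

open CategoryTheory CategoryTheory.Limits AlgebraicGeometry Topology in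
/-- A topological embedding with generization-stable range maps maximal points to maximal points. -/
lemma maximalPt_of_embedding {T X : Type*} [TopologicalSpace T] [TopologicalSpace X] (a : T → X)
    (ha : IsEmbedding a) (hr : StableUnderGeneralization (Set.range a)) {η : T}
    (hη : ∀ η' : T, η' ⤳ η → η' = η) : ∀ ξ' : X, ξ' ⤳ a η → ξ' = a η := by
  intro ξ' hξ'
  obtain ⟨η', rfl⟩ := hr hξ' ⟨η, rfl⟩
  rw [ha.isInducing.specializes_iff] at hξ'
  rw [hη η' hξ']

open CategoryTheory CategoryTheory.Limits AlgebraicGeometry Topology in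
/-- If the stalk map of `f` at `x` is an isomorphism, the local scheme `Spec 𝒪_{Y,y}` at `y = f x`
lifts to `X` through `x`. -/
lemma exists_lift_fromSpecStalk {X Y : Scheme.{u}} (f : X ⟶ Y) (x : X) [IsIso (f.stalkMap x)]
    (y : Y) (hx : f x = y) :
    ∃ a : Spec (Y.presheaf.stalk y) ⟶ X, a ≫ f = Y.fromSpecStalk y ∧
      a (IsLocalRing.closedPoint (Y.presheaf.stalk y)) = x ∧ IsEmbedding a ∧
      StableUnderGeneralization (Set.range a) := by
  subst hx
  refine ⟨Spec.map (inv (f.stalkMap x)) ≫ X.fromSpecStalk x, ?_, ?_, ?_, ?_⟩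
  · rw [Category.assoc, ← Scheme.SpecMap_stalkMap_fromSpecStalk, ← Category.assoc,
      ← Spec.map_comp, IsIso.hom_inv_id, Spec.map_id, Category.id_comp]
  · rw [Scheme.Hom.comp_apply]
    have : IsLocalHom (inv (f.stalkMap x)).hom := isLocalHom_of_isIso _
    have h1 : Spec.map (inv (f.stalkMap x)) (IsLocalRing.closedPoint (Y.presheaf.stalk (f x))) =
        IsLocalRing.closedPoint (X.presheaf.stalk x) :=
      IsLocalRing.comap_closedPoint (inv (f.stalkMap x)).hom
    rw [h1, Scheme.fromSpecStalk_closedPoint]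
  · exact (X.fromSpecStalk x).isEmbedding.comp
      (Spec.map (inv (f.stalkMap x))).isOpenEmbedding.isEmbedding
  · have hsurj : Function.Surjective (Spec.map (inv (f.stalkMap x))) :=
      (Spec.map (inv (f.stalkMap x))).homeomorph.surjective
    have : Set.range (Spec.map (inv (f.stalkMap x)) ≫ X.fromSpecStalk x) =
        Set.range (X.fromSpecStalk x) := by
      ext z
      constructor
      · rintro ⟨t, rfl⟩
        exact ⟨_, rfl⟩
      · rintro ⟨t, rfl⟩
        obtain ⟨t', rfl⟩ := hsurj t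
        exact ⟨t', rfl⟩
    rw [this, Scheme.range_fromSpecStalk]
    intro z z' hz' hz
    exact hz'.trans hz

open CategoryTheory CategoryTheory.Limits AlgebraicGeometry Topology in
/-- If `f` has an isomorphism as stalk map at `ξ`, then `Spec 𝒪_{X,ξ} ⟶ X ⟶ Y` is a monomorphism; stated
in a form allowing two propositionally equal points. -/
lemma comp_fromSpecStalk_eq {X Y W : Scheme.{u}} (f : X ⟶ Y) (hiso : ∀ x, IsIso (f.stalkMap x))
    (ξ₁ ξ₂ : X) (hξ : ξ₁ = ξ₂) (g₁ : W ⟶ Spec (X.presheaf.stalk ξ₁))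
    (g₂ : W ⟶ Spec (X.presheaf.stalk ξ₂))
    (h : (g₁ ≫ X.fromSpecStalk ξ₁) ≫ f = (g₂ ≫ X.fromSpecStalk ξ₂) ≫ f) :
    g₁ ≫ X.fromSpecStalk ξ₁ = g₂ ≫ X.fromSpecStalk ξ₂ := by
  subst hξ
  haveI := hiso ξ₁
  have hm : Mono (X.fromSpecStalk ξ₁ ≫ f) := by
    rw [← Scheme.SpecMap_stalkMap_fromSpecStalk]
    infer_instance
  rw [Category.assoc, Category.assoc] at h
  rw [(cancel_mono _).mp h]

open CategoryTheory AlgebraicGeometry in
/-- Let `f : X ⟶ Y` be a localizing morphism of Noetherian schemes. Then `f` is injective on points if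
and only if `f` is separated and injective on the set of maximal points of `X` (the generic points
of its irreducible components, i.e. the points with no proper generization). -/
theorem result {X Y : Scheme.{u}} [IsNoetherian X] [IsNoetherian Y] (f : X ⟶ Y) (hf : LocImm.IsLocalizing f) :
    Function.Injective f.base ↔ (IsSeparated f ∧ Set.InjOn (fun x => f x) {x : X | ∀ x' : X, x' ⤳ x → x' = x}) := by
  have hiso : ∀ x, IsIso (f.stalkMap x) :=
    Groth.Agent.Lib.Helper27.LocImmLib.isIso_stalkMap_of_isLocalizing f hf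
  constructor
  · intro hinj
    have hpre : IsPreimmersion f :=
      Groth.Agent.Lib.Helper27.LocImmLib.isPreimmersion_of_isLocImmersion f ⟨hf, hinj⟩
    exact ⟨inferInstance, fun x₁ _ x₂ _ h => hinj h⟩
  · rintro ⟨hsep, hinjOn⟩ x₁ x₂ h
    haveI := hiso x₁
    haveI := hiso x₂
    obtain ⟨a₁, h1f, h1c, h1e, h1r⟩ := exists_lift_fromSpecStalk f x₁ (f x₂) h
    obtain ⟨a₂, h2f, h2c, h2e, h2r⟩ := exists_lift_fromSpecStalk f x₂ (f x₂) rfl
    -- a minimal prime of the local ring
    obtain ⟨q, hqmin, -⟩ := Ideal.exists_minimalPrimes_le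
      (bot_le : (⊥ : Ideal (Y.presheaf.stalk (f x₂))) ≤
        IsLocalRing.maximalIdeal (Y.presheaf.stalk (f x₂)))
    have hqp : q.IsPrime := hqmin.1.1
    let η : PrimeSpectrum (Y.presheaf.stalk (f x₂)) := ⟨q, hqp⟩
    have hη : ∀ η' : PrimeSpectrum (Y.presheaf.stalk (f x₂)), η' ⤳ η → η' = η := by
      intro η' hη'
      rw [← PrimeSpectrum.le_iff_specializes] at hη'
      apply le_antisymm hη'
      exact hqmin.2 ⟨η'.isPrime, bot_le⟩ hη'
    have hm1 := maximalPt_of_embedding a₁ h1e h1r hη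
    have hm2 := maximalPt_of_embedding a₂ h2e h2r hη
    have hfη : f (a₁ η) = f (a₂ η) := by
      rw [← Scheme.Hom.comp_apply, ← Scheme.Hom.comp_apply, h1f, h2f]
    have hξ : a₁ η = a₂ η := hinjOn hm1 hm2 hfη
    let T := Spec (Y.presheaf.stalk (f x₂))
    have key : T.fromSpecStalk η ≫ a₁ = T.fromSpecStalk η ≫ a₂ := by
      rw [← Scheme.SpecMap_stalkMap_fromSpecStalk (f := a₁),
        ← Scheme.SpecMap_stalkMap_fromSpecStalk (f := a₂)]
      apply comp_fromSpecStalk_eq f hiso _ _ hξ
      rw [Scheme.SpecMap_stalkMap_fromSpecStalk, Scheme.SpecMap_stalkMap_fromSpecStalk,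
        Category.assoc, Category.assoc, h1f, h2f]
    have hcp : IsLocalRing.closedPoint (Y.presheaf.stalk (f x₂)) ∈
        closure (Set.range (T.fromSpecStalk η)) := by
      have h1 : η ∈ Set.range (T.fromSpecStalk η) :=
        ⟨IsLocalRing.closedPoint _, Scheme.fromSpecStalk_closedPoint⟩
      have h2 : η ⤳ IsLocalRing.closedPoint (Y.presheaf.stalk (f x₂)) :=
        IsLocalRing.specializes_closedPoint η
      exact closure_mono (Set.singleton_subset_iff.mpr h1) (specializes_iff_mem_closure.mp h2)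
    have := apply_eq_of_mem_closure_range f (h1f.trans h2f.symm) (T.fromSpecStalk η) key _ hcp
    exact h1c.symm.trans (this.trans h2c)

end Groth.Agent.S18197
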