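import Groth.Statements.S18208
-- import your own Groth.Agent.* helpers here
import Groth.Agent.Lib.Helper27.LocImm

set_option autoImplicit false
set_option linter.style.haveILetI false
universe u
open LocImm

namespace Groth.Agent.S18208

/-- Localizing maps are stable under "localizing the square away from an element". -/
theorem isLocHom_of_square {A B A' B' : Type u} [CommRing A] [CommRing B] [CommRing A']
    [CommRing B'] (φ : A →+* B) (hφ : LocImm.IsLocHom φ) (a : A) (α : A →+* A') (β : B →+* B')
    (ψ : A' →+* B')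
    (hα : @IsLocalization.Away _ _ a A' _ α.toAlgebra)
    (hβ : @IsLocalization.Away _ _ (φ a) B' _ β.toAlgebra)
    (comm : ψ.comp α = β.comp φ) : LocImm.IsLocHom ψ := by
  letI := φ.toAlgebra
  letI := α.toAlgebra
  letI := β.toAlgebra
  letI := ψ.toAlgebra
  letI : Algebra A B' := (β.comp φ).toAlgebra
  haveI : IsScalarTower A B B' := IsScalarTower.of_algebraMap_eq fun _ => rfl
  haveI : IsScalarTower A A' B' := IsScalarTower.of_algebraMap_eq fun x => by
    change (β.comp φ) x = (ψ.comp α) x
    rw [comm]
  obtain ⟨S, hS⟩ := hφ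
  haveI : IsLocalization (Submonoid.powers (algebraMap A B a)) B' := hβ
  haveI := IsLocalization.localization_localization_isLocalization S
    (Submonoid.powers (algebraMap A B a)) B'
  haveI : IsLocalization (Submonoid.powers a) A' := hα
  have hle : Submonoid.powers a ≤
      IsLocalization.localizationLocalizationSubmodule S (Submonoid.powers (algebraMap A B a)) := by
    rw [Submonoid.powers_le]
    change a ∈ (Submonoid.powers (algebraMap A B a) ⊔ S.map (algebraMap A B)).comap
      (algebraMap A B)
    exact Submonoid.mem_sup_left (Submonoid.mem_powers _)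
  exact ⟨_, IsLocalization.isLocalization_of_submonoid_le A' B' (Submonoid.powers a) _ hle⟩

open CategoryTheory AlgebraicGeometry in
/-- A morphism `f : X ⟶ Y` of Noetherian schemes is a localizing immersion (localizing and injective on
points) if and only if every point of `f(X)` has an affine open neighbourhood `V` in `Y` whose
preimage `f⁻¹V` is affine with `Γ(Y, V) → Γ(X, f⁻¹V)` a localizing ring map (its target is the
localization of its source at some submonoid). In particular such an `f` is quasi-affine. -/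
theorem result {X Y : Scheme.{u}} [IsNoetherian X] [IsNoetherian Y] (f : X ⟶ Y) :
    LocImm.IsLocImmersion f ↔ ∀ x : X, ∃ V : Y.Opens, f x ∈ V ∧ IsAffineOpen V ∧ IsAffineOpen (f ⁻¹ᵁ V) ∧ LocImm.IsLocHom (f.app V).hom := by
  constructor
  · intro hf x
    have hpre := Groth.Agent.Lib.Helper27.LocImmLib.isPreimmersion_of_isLocImmersion f hf
    obtain ⟨U, V0, hxV0, e, hloc⟩ := hf.1 x
    -- V0 is the preimage of an open W
    obtain ⟨W, hWo, hW⟩ : ∃ W : Set Y, IsOpen W ∧ f.base ⁻¹' W = (V0.1 : Set X) := by
      have := (f.isEmbedding.isInducing.isOpen_iff (s := (V0.1 : Set X))).mp V0.1.isOpen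
      exact this
    let W' : Y.Opens := ⟨W, hWo⟩
    have hfxW : f x ∈ W' ⊓ U.1 := by
      refine ⟨?_, e hxV0⟩
      change x ∈ f.base ⁻¹' W
      rw [hW]; exact hxV0
    obtain ⟨a, ha1, ha2⟩ := U.2.exists_basicOpen_le (V := W' ⊓ U.1) ⟨f x, hfxW⟩ (e hxV0)
    refine ⟨Y.basicOpen a, ha2, U.2.basicOpen a, ?_, ?_⟩
    all_goals
      have hle0 : f ⁻¹ᵁ Y.basicOpen a ≤ V0.1 := by
        intro z hz
        have : f z ∈ W' := (ha1 hz).1
        change z ∈ f.base ⁻¹' W at this
        rw [hW] at this; exact this
      have heq : f ⁻¹ᵁ Y.basicOpen a = X.basicOpen ((f.appLE U.1 V0.1 e).hom a) := by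
        rw [Scheme.Hom.appLE, CommRingCat.hom_comp, RingHom.comp_apply, Scheme.basicOpen_res,
          ← Scheme.preimage_basicOpen]
        exact (inf_eq_right.mpr hle0).symm
    · rw [heq]; exact V0.2.basicOpen _
    · refine isLocHom_of_square (f.appLE U.1 V0.1 e).hom hloc a
        (Y.presheaf.map (homOfLE (Y.basicOpen_le a)).op).hom
        (X.presheaf.map (homOfLE hle0).op).hom (f.app (Y.basicOpen a)).hom
        (U.2.isLocalization_basicOpen a)
        (V0.2.isLocalization_of_eq_basicOpen _ (homOfLE hle0) heq) ?_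
      rw [← CommRingCat.hom_comp, ← CommRingCat.hom_comp]
      congr 1
      rw [Scheme.Hom.appLE, Category.assoc, ← Functor.map_comp, ← op_comp]
      rw [Scheme.Hom.naturality]
      rfl
  · intro h
    constructor
    · intro x
      obtain ⟨V, hxV, hV, hV', hloc⟩ := h x
      refine ⟨⟨V, hV⟩, ⟨f ⁻¹ᵁ V, hV'⟩, hxV, le_rfl, ?_⟩
      rw [← Scheme.Hom.app_eq_appLE]; exact hloc
    · intro x x' hxx'
      obtain ⟨V, hxV, hV, hV', hloc⟩ := h x
      have hx'V : x' ∈ f ⁻¹ᵁ V := by
        change f x' ∈ V
        rw [← show f x = f x' from hxx']; exact hxV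
      obtain ⟨x₀, rfl⟩ : ∃ x₀, hV'.fromSpec x₀ = x := by
        have : x ∈ Set.range hV'.fromSpec := by rw [hV'.range_fromSpec]; exact hxV
        exact this
      obtain ⟨x₀', rfl⟩ : ∃ x₀, hV'.fromSpec x₀ = x' := by
        have : x' ∈ Set.range hV'.fromSpec := by rw [hV'.range_fromSpec]; exact hx'V
        exact this
      congr 1
      have hsq := hV.SpecMap_appLE_fromSpec f hV' le_rfl
      have h1 : hV.fromSpec (Spec.map (f.appLE V (f ⁻¹ᵁ V) le_rfl) x₀) =
          hV.fromSpec (Spec.map (f.appLE V (f ⁻¹ᵁ V) le_rfl) x₀') := by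
        rw [← Scheme.Hom.comp_apply, ← Scheme.Hom.comp_apply, hsq, Scheme.Hom.comp_apply,
          Scheme.Hom.comp_apply]
        exact hxx'
      have h2 := hV.fromSpec.isOpenEmbedding.injective h1
      rw [← Scheme.Hom.app_eq_appLE] at h2
      letI := (f.app V).hom.toAlgebra
      obtain ⟨S, hS⟩ := hloc
      have hinj := PrimeSpectrum.localization_comap_injective (S := Γ(X, f ⁻¹ᵁ V)) S
      exact hinj h2

end Groth.Agent.S18208
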