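import Groth.Statements.S18194
-- import your own Groth.Agent.* helpers here
import Groth.Agent.Lib.Lead.LocImmSpread
import Groth.Agent.S18208
import Groth.Agent.S18197
import Groth.Agent.S18203

set_option autoImplicit false
set_option linter.style.haveILetI false
universe u
open LocImm
open CategoryTheory AlgebraicGeometry

namespace Groth.Agent.S18194

/-- Composing a localizing map with a localization away from an element is localizing. -/
theorem isLocHom_comp_away {A B B' : Type u} [CommRing A] [CommRing B] [CommRing B']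
    (φ : A →+* B) (hφ : IsLocHom φ) (c : B) (β : B →+* B')
    (hβ : @IsLocalization.Away _ _ c B' _ β.toAlgebra) : IsLocHom (β.comp φ) := by
  letI := φ.toAlgebra
  letI := β.toAlgebra
  letI : Algebra A B' := (β.comp φ).toAlgebra
  haveI : IsScalarTower A B B' := IsScalarTower.of_algebraMap_eq fun _ => rfl
  obtain ⟨S, hS⟩ := hφ
  haveI : IsLocalization (Submonoid.powers c) B' := hβ
  exact ⟨_, IsLocalization.localization_localization_isLocalization S (Submonoid.powers c) B'⟩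

/-- Ring-level core in `IsLocHom` form. -/
theorem isLocHom_away_of_essFiniteType {R A C : Type u} [CommRing R] [CommRing A] [CommRing C]
    [IsNoetherianRing R] (φ : R →+* A) (ψ : A →+* C) (hφ : φ.EssFiniteType)
    (hψ : IsLocHom ψ) (hψφ : IsLocHom (ψ.comp φ)) :
    ∃ a : A, IsUnit (ψ a) ∧ ∀ (D : Type u) [CommRing D] (δ : A →+* D),
      @IsLocalization.Away _ _ a D _ δ.toAlgebra → IsLocHom (δ.comp φ) := by
  letI := φ.toAlgebra
  letI := ψ.toAlgebra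
  letI : Algebra R C := (ψ.comp φ).toAlgebra
  haveI : IsScalarTower R A C := IsScalarTower.of_algebraMap_eq fun _ => rfl
  haveI : Algebra.EssFiniteType R A := hφ
  obtain ⟨S, hS⟩ := hψ
  obtain ⟨T, hT⟩ := hψφ
  obtain ⟨a, haS, ha⟩ := Groth.Agent.Lib.Lead.LocImmSpread.exists_away_isLocalization
    (R := R) (A := A) (C := C) S T
  refine ⟨a, IsLocalization.map_units C (⟨a, haS⟩ : S), ?_⟩
  intro D _ δ hδ
  letI := δ.toAlgebra
  letI : Algebra R D := (δ.comp φ).toAlgebra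
  haveI : IsScalarTower R A D := IsScalarTower.of_algebraMap_eq fun _ => rfl
  haveI : IsLocalization.Away a D := hδ
  exact ⟨_, ha D⟩

/-- Shrinking both affine opens along a basic open keeps a localizing chart localizing. -/
theorem isLocHom_appLE_basicOpen {X Y : Scheme.{u}} (f : X ⟶ Y) {U : Y.Opens}
    (hU : IsAffineOpen U) {V : X.Opens} (hV : IsAffineOpen V) (e : V ≤ f ⁻¹ᵁ U)
    (hloc : IsLocHom (f.appLE U V e).hom) (h : Γ(Y, U)) :
    X.basicOpen ((f.appLE U V e).hom h) = V ⊓ f ⁻¹ᵁ (Y.basicOpen h) ∧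
    ∃ e' : X.basicOpen ((f.appLE U V e).hom h) ≤ f ⁻¹ᵁ (Y.basicOpen h),
      IsLocHom (f.appLE (Y.basicOpen h) (X.basicOpen ((f.appLE U V e).hom h)) e').hom := by
  have heq : X.basicOpen ((f.appLE U V e).hom h) = V ⊓ f ⁻¹ᵁ (Y.basicOpen h) := by
    rw [Scheme.Hom.appLE, CommRingCat.hom_comp, RingHom.comp_apply, Scheme.basicOpen_res,
      ← Scheme.preimage_basicOpen]
  refine ⟨heq, heq.le.trans inf_le_right, ?_⟩
  refine Groth.Agent.S18208.isLocHom_of_square (f.appLE U V e).hom hloc h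
    (Y.presheaf.map (homOfLE (Y.basicOpen_le h)).op).hom
    (X.presheaf.map (homOfLE (X.basicOpen_le _)).op).hom _
    (hU.isLocalization_basicOpen h) (hV.isLocalization_basicOpen _) ?_
  rw [← CommRingCat.hom_comp, ← CommRingCat.hom_comp, Scheme.Hom.map_appLE, Scheme.Hom.appLE_map]

/-- Shrinking the source affine open to a basic open keeps a localizing chart localizing. -/
theorem isLocHom_appLE_basicOpen_source {X Y : Scheme.{u}} (f : X ⟶ Y) {U : Y.Opens}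
    {V : X.Opens} (hV : IsAffineOpen V) (e : V ≤ f ⁻¹ᵁ U)
    (hloc : IsLocHom (f.appLE U V e).hom) (c : Γ(X, V)) (W : X.Opens) (hW : W = X.basicOpen c) :
    ∃ e' : W ≤ f ⁻¹ᵁ U, IsLocHom (f.appLE U W e').hom := by
  subst hW
  refine ⟨(X.basicOpen_le c).trans e, ?_⟩
  have := isLocHom_comp_away (f.appLE U V e).hom hloc c
    (X.presheaf.map (homOfLE (X.basicOpen_le c)).op).hom (hV.isLocalization_basicOpen c)
  rwa [← CommRingCat.hom_comp, Scheme.Hom.appLE_map] at this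


/-- Local chart: around `f₁ x` the morphism `g` is localizing on an affine open. -/
theorem exists_local_chart {X Y₁ Y₂ : Scheme.{u}} [IsNoetherian Y₂]
    (f₁ : X ⟶ Y₁) (f₂ : X ⟶ Y₂) (g : Y₁ ⟶ Y₂) (hf₁ : IsLocalizing f₁) (hf₂ : IsLocalizing f₂)
    [EssFT.LocallyEssFiniteType g] (h : f₁ ≫ g = f₂) (x : X) :
    ∃ (N : Y₁.Opens) (U₂ : Y₂.Opens), IsAffineOpen N ∧ IsAffineOpen U₂ ∧ f₁ x ∈ N ∧
      ∃ e : N ≤ g ⁻¹ᵁ U₂, IsLocHom (g.appLE U₂ N e).hom := by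
  subst h
  obtain ⟨U₂, V₂, hxV₂, e₂, hloc₂⟩ := hf₂ x
  obtain ⟨U₁'', V₁'', hxV₁'', e₁'', hloc₁''⟩ := hf₁ x
  have hy₁ : f₁ x ∈ U₁''.1 := e₁'' hxV₁''
  have hgy : f₁ x ∈ g ⁻¹ᵁ U₂.1 := e₂ hxV₂
  obtain ⟨h', hh'1, hh'2⟩ := U₁''.2.exists_basicOpen_le (V := g ⁻¹ᵁ U₂.1) ⟨f₁ x, hgy⟩ hy₁
  obtain ⟨heq', e₁', hloc₁'⟩ := isLocHom_appLE_basicOpen f₁ U₁''.2 V₁''.2 e₁'' hloc₁'' h'
  have hU₁' : IsAffineOpen (Y₁.basicOpen h') := U₁''.2.basicOpen h'
  have hV₁' : IsAffineOpen (X.basicOpen ((f₁.appLE U₁'' V₁'' e₁'').hom h')) := V₁''.2.basicOpen _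
  have hxV₁' : x ∈ X.basicOpen ((f₁.appLE U₁'' V₁'' e₁'').hom h') := by
    rw [heq']; exact ⟨hxV₁'', hh'2⟩
  -- essentially finite type chart
  have hLoc : RingHom.Locally RingHom.EssFiniteType (g.appLE U₂.1 (Y₁.basicOpen h') hh'1).hom :=
    HasRingHomProperty.appLE (P := @EssFT.LocallyEssFiniteType) g inferInstance U₂
      ⟨_, hU₁'⟩ hh'1
  obtain ⟨s, hs, hst⟩ :=
    (RingHom.locally_iff_isLocalization RingHom.EssFiniteType.respectsIso _).mp hLoc
  obtain ⟨t, hts, hyt⟩ : ∃ t ∈ s, f₁ x ∈ Y₁.basicOpen t := by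
    have := (hU₁'.iSup_basicOpen_eq_self_iff (s := (s : Set Γ(Y₁, Y₁.basicOpen h')))).mpr hs
    have hy : f₁ x ∈ ⨆ f : (s : Set Γ(Y₁, Y₁.basicOpen h')), Y₁.basicOpen (f : Γ(Y₁, Y₁.basicOpen h')) := by
      rw [this]; exact hh'2
    obtain ⟨⟨t, ht⟩, hyt⟩ := TopologicalSpace.Opens.mem_iSup.mp hy
    exact ⟨t, ht, hyt⟩
  have hU₁ : IsAffineOpen (Y₁.basicOpen t) := hU₁'.basicOpen t
  have hEss : (g.appLE U₂.1 (Y₁.basicOpen t) ((Y₁.basicOpen_le t).trans hh'1)).hom.EssFiniteType := by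
    have := @hst t hts Γ(Y₁, Y₁.basicOpen t) _ _ (hU₁'.isLocalization_basicOpen t)
    rw [RingHom.algebraMap_toAlgebra, ← CommRingCat.hom_comp, Scheme.Hom.appLE_map] at this
    exact this
  obtain ⟨heq₁, e₁, hloc₁⟩ := isLocHom_appLE_basicOpen f₁ hU₁' hV₁' e₁' hloc₁' t
  have hV₁ : IsAffineOpen (X.basicOpen ((f₁.appLE _ _ e₁').hom t)) := hV₁'.basicOpen _
  have hxV₁ : x ∈ X.basicOpen ((f₁.appLE _ _ e₁').hom t) := by
    rw [heq₁]; exact ⟨hxV₁', hyt⟩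
  obtain ⟨c₁, c₂, hc, hxc⟩ := exists_basicOpen_le_affine_inter hV₁ V₂.2 x ⟨hxV₁, hxV₂⟩
  obtain ⟨e₁V, hlocV₁⟩ := isLocHom_appLE_basicOpen_source f₁ hV₁ e₁ hloc₁ c₁ _ rfl
  obtain ⟨e₂V, hlocV₂⟩ := isLocHom_appLE_basicOpen_source (f₁ ≫ g) V₂.2 e₂ hloc₂ c₂ _ hc
  haveI : IsNoetherianRing Γ(Y₂, U₂.1) := IsLocallyNoetherian.component_noetherian U₂
  obtain ⟨a, hau, hD⟩ := isLocHom_away_of_essFiniteType _ _ hEss hlocV₁ (by
    rw [← CommRingCat.hom_comp, Scheme.Hom.appLE_comp_appLE]; exact hlocV₂)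
  refine ⟨Y₁.basicOpen a, U₂.1, hU₁.basicOpen a, U₂.2, ?_,
    (Y₁.basicOpen_le a).trans ((Y₁.basicOpen_le t).trans hh'1), ?_⟩
  · have hVaff : IsAffineOpen (X.basicOpen c₁) := hV₁.basicOpen c₁
    obtain ⟨heqa, -, -⟩ := isLocHom_appLE_basicOpen f₁ hU₁ hVaff e₁V hlocV₁ a
    rw [X.basicOpen_of_isUnit hau] at heqa
    have : x ∈ X.basicOpen c₁ ⊓ f₁ ⁻¹ᵁ Y₁.basicOpen a := by rw [← heqa]; exact hxc
    exact this.2
  · have := hD Γ(Y₁, Y₁.basicOpen a) (Y₁.presheaf.map (homOfLE (Y₁.basicOpen_le a)).op).hom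
      (hU₁.isLocalization_basicOpen a)
    rw [← CommRingCat.hom_comp, Scheme.Hom.appLE_map] at this
    exact this


/-- A localizing chart around every point of an open `U'` makes `U'.ι ≫ g` localizing. -/
theorem isLocalizing_ι_comp {Y₁ Y₂ : Scheme.{u}} (g : Y₁ ⟶ Y₂) (U' : Y₁.Opens)
    (H : ∀ y ∈ U', ∃ (N : Y₁.Opens) (U₂ : Y₂.Opens), IsAffineOpen N ∧ IsAffineOpen U₂ ∧ y ∈ N ∧
      ∃ e : N ≤ g ⁻¹ᵁ U₂, IsLocHom (g.appLE U₂ N e).hom) :
    IsLocalizing (U'.ι ≫ g) := by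
  intro y'
  obtain ⟨N, U₂, hN, hU₂, hyN, e, hloc⟩ := H (U'.ι y') y'.2
  obtain ⟨b, hb1, hb2⟩ := hN.exists_basicOpen_le (V := U') ⟨U'.ι y', y'.2⟩ hyN
  obtain ⟨eD, hlocD⟩ := isLocHom_appLE_basicOpen_source g hN e hloc b _ rfl
  have hD : IsAffineOpen (Y₁.basicOpen b) := hN.basicOpen b
  have hDle : Y₁.basicOpen b ≤ U'.ι.opensRange := by rw [Scheme.Opens.opensRange_ι]; exact hb1
  have hM : IsAffineOpen (U'.ι ⁻¹ᵁ Y₁.basicOpen b) := hD.preimage_of_isOpenImmersion U'.ι hDle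
  refine ⟨⟨U₂, hU₂⟩, ⟨U'.ι ⁻¹ᵁ Y₁.basicOpen b, hM⟩, hb2, ?_, ?_⟩
  · intro z hz
    exact eD hz
  · have hcomp : (U'.ι ≫ g).appLE U₂ (U'.ι ⁻¹ᵁ Y₁.basicOpen b) (fun z hz => eD hz) =
        g.appLE U₂ (Y₁.basicOpen b) eD ≫ U'.ι.app (Y₁.basicOpen b) := by
      rw [Scheme.Hom.app_eq_appLE, Scheme.Hom.appLE_comp_appLE]
    haveI : IsIso (U'.ι.app (Y₁.basicOpen b)) := U'.ι.isIso_app _ hDle
    have hbij : Function.Bijective (U'.ι.app (Y₁.basicOpen b)).hom :=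
      ConcreteCategory.bijective_of_isIso _
    change IsLocHom ((U'.ι ≫ g).appLE U₂ (U'.ι ⁻¹ᵁ Y₁.basicOpen b) _).hom
    rw [hcomp, CommRingCat.hom_comp]
    refine isLocHom_comp_away _ hlocD 1 _ ?_
    letI := (U'.ι.app (Y₁.basicOpen b)).hom.toAlgebra
    exact IsLocalization.away_of_isUnit_of_bijective _ isUnit_one hbij

/-- A point without proper generizations in a quasi-sober space is the generic point of an
irreducible component. -/
lemma mem_genericPoints_of_maximal {α : Type*} [TopologicalSpace α] [QuasiSober α] {η : α}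
    (hη : ∀ η' : α, η' ⤳ η → η' = η) : η ∈ genericPoints α := by
  have hZ := irreducibleComponent_mem_irreducibleComponents η
  let Z : irreducibleComponents α := ⟨irreducibleComponent η, hZ⟩
  have hgen := genericPoints.isGenericPoint_ofComponent Z
  have hmem : η ∈ closure {(genericPoints.ofComponent Z).1} := by
    rw [hgen.def]; exact mem_irreducibleComponent
  have := hη _ (specializes_iff_mem_closure.mpr hmem)
  rw [← this]; exact (genericPoints.ofComponent Z).2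

open CategoryTheory AlgebraicGeometry in
/-- Let `X, Y₁, Y₂` be Noetherian schemes, `f_i : X ⟶ Y_i` separated localizing immersions (localizing
and injective on points) and `g : Y₁ ⟶ Y₂` a separated morphism essentially of finite type with `f₁
≫ g = f₂`. Then there is an open `U ⊆ Y₁` containing the image of `f₁` such that the restriction `U
⟶ Y₂` of `g` is a localizing immersion. -/
theorem result {X Y₁ Y₂ : Scheme.{u}} [IsNoetherian X] [IsNoetherian Y₁] [IsNoetherian Y₂]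
    (f₁ : X ⟶ Y₁) (f₂ : X ⟶ Y₂) (g : Y₁ ⟶ Y₂) (hf₁ : LocImm.IsLocImmersion f₁) (hf₂ : LocImm.IsLocImmersion f₂)
    [IsSeparated f₁] [IsSeparated f₂] [IsSeparated g] [EssFT.EssFiniteType g] (h : f₁ ≫ g = f₂) :
    ∃ U : Y₁.Opens, Set.range (fun x => f₁ x) ⊆ (U : Set Y₁) ∧ LocImm.IsLocImmersion (U.ι ≫ g) := by
  classical
  have hch := fun x => exists_local_chart f₁ f₂ g hf₁.1 hf₂.1 h x
  choose N U₂ hN hU₂ hxN eN hlocN using hch
  let U : Y₁.Opens := ⨆ x, N x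
  let B : Set Y₁ := {η | (∀ η' : Y₁, η' ⤳ η → η' = η) ∧ η ∉ Set.range (fun x => f₁ x)}
  have hBfin : B.Finite :=
    (genericPoints.finite TopologicalSpace.NoetherianSpace.finite_irreducibleComponents).subset
      fun η hη => mem_genericPoints_of_maximal hη.1
  let U' : Y₁.Opens := ⟨(U : Set Y₁) \ closure B, U.isOpen.sdiff isClosed_closure⟩
  obtain ⟨hemb, hgen, hiso⟩ := Groth.Agent.S18203.result f₁ hf₁
  have hrange : Set.range (fun x => f₁ x) ⊆ (U' : Set Y₁) := by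
    rintro _ ⟨x, rfl⟩
    refine ⟨TopologicalSpace.Opens.mem_iSup.mpr ⟨x, hxN x⟩, fun hcl => ?_⟩
    rw [← Set.biUnion_of_singleton B, hBfin.closure_biUnion] at hcl
    obtain ⟨η, hηB, hη⟩ := Set.mem_iUnion₂.mp hcl
    have hsp : η ⤳ f₁ x := specializes_iff_mem_closure.mpr hη
    exact hηB.2 (hgen hsp ⟨x, rfl⟩)
  have hloc : IsLocalizing (U'.ι ≫ g) := by
    apply isLocalizing_ι_comp
    intro y hy
    obtain ⟨x, hx⟩ := TopologicalSpace.Opens.mem_iSup.mp hy.1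
    exact ⟨N x, U₂ x, hN x, hU₂ x, hx, eN x, hlocN x⟩
  refine ⟨U', hrange, hloc, ?_⟩
  haveI : CompactSpace ↥(U' : Scheme.{u}) :=
    isCompact_iff_compactSpace.mp (TopologicalSpace.NoetherianSpace.isCompact (U' : Set Y₁))
  haveI : IsNoetherian (U' : Scheme.{u}) := {}
  rw [Groth.Agent.S18197.result (U'.ι ≫ g) hloc]
  refine ⟨inferInstance, ?_⟩
  have key : ∀ ζ : (U' : Scheme.{u}), (∀ x' : (U' : Scheme.{u}), x' ⤳ ζ → x' = ζ) →
      ∃ ξ : X, f₁ ξ = U'.ι ζ := by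
    intro ζ hζ
    by_contra hne
    have hmax : ∀ η' : Y₁, η' ⤳ U'.ι ζ → η' = U'.ι ζ := by
      intro η' hsp
      have hη'U : η' ∈ U' := hsp.mem_open U'.isOpen ζ.2
      let ζ' : (U' : Scheme.{u}) := ⟨η', hη'U⟩
      have hζ' : U'.ι ζ' = η' := rfl
      have := hζ ζ' ((U'.ι.isOpenEmbedding.isInducing.specializes_iff).mp (by rw [hζ']; exact hsp))
      rw [← this, hζ']
    have hB : U'.ι ζ ∈ B := ⟨hmax, fun ⟨ξ, hξ⟩ => hne ⟨ξ, hξ⟩⟩
    exact ζ.2.2 (subset_closure hB)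
  intro η hη η' hη' hgη
  obtain ⟨ξ, hξ⟩ := key η hη
  obtain ⟨ξ', hξ'⟩ := key η' hη'
  have h2 : f₂ ξ = f₂ ξ' := by
    rw [← h, Scheme.Hom.comp_apply, Scheme.Hom.comp_apply, hξ, hξ',
      ← Scheme.Hom.comp_apply, ← Scheme.Hom.comp_apply]
    exact hgη
  have h3 := hf₂.2 h2
  apply U'.ι.isOpenEmbedding.injective
  rw [← hξ, ← hξ', h3]

end Groth.Agent.S18194
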