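import Groth.Statements.S18195
-- import your own Groth.Agent.* helpers here
import Groth.Agent.S18208

set_option autoImplicit false
set_option linter.style.haveILetI false
universe u
open LocImm

namespace Groth.Agent.S18195

/-- If `φ ∘ γ` is localizing and `φ` is injective then `φ` is localizing. -/
theorem isLocHom_of_comp_injective {C A B : Type u} [CommRing C] [CommRing A] [CommRing B]
    (γ : C →+* A) (φ : A →+* B) (hinj : Function.Injective φ)
    (hloc : LocImm.IsLocHom (φ.comp γ)) : LocImm.IsLocHom φ := by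
  letI := (φ.comp γ).toAlgebra
  obtain ⟨S, hS⟩ := hloc
  letI := φ.toAlgebra
  refine ⟨S.map γ, (isLocalization_iff _ _).mpr ⟨?_, ?_, ?_⟩⟩
  · rintro ⟨_, ⟨s, hs, rfl⟩⟩
    exact IsLocalization.map_units B (⟨s, hs⟩ : S)
  · intro b
    obtain ⟨⟨c, s⟩, hcs⟩ := IsLocalization.surj S b
    exact ⟨⟨γ c, ⟨γ s, ⟨s, s.2, rfl⟩⟩⟩, hcs⟩
  · intro a a' haa'
    exact ⟨1, by rw [hinj haa']⟩

open CategoryTheory AlgebraicGeometry in
theorem injective_map_of_eq {X : Scheme.{u}} (W W' : X.Opens) (h : W = W') (i : W ⟶ W') :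
    Function.Injective (X.presheaf.map i.op).hom := by
  subst h
  have : i = 𝟙 _ := Subsingleton.elim _ _
  subst this
  intro a b hab
  simpa using hab

open CategoryTheory AlgebraicGeometry in
/-- Let `f : X ⟶ Y` and `g : Y ⟶ Z` be morphisms of Noetherian schemes with `g` separated and `f ≫ g` a
localizing immersion (localizing and injective on points). If `f` has schematically dense image,
i.e. each ring map `Γ(Y, U) → Γ(X, f⁻¹U)` is injective, then `f` is a localizing immersion. -/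
theorem result {X Y Z : Scheme.{u}} [IsNoetherian X] [IsNoetherian Y] [IsNoetherian Z]
    (f : X ⟶ Y) (g : Y ⟶ Z) (hfg : LocImm.IsLocImmersion (f ≫ g)) [IsSeparated g]
    (hd : ∀ U : Y.Opens, Function.Injective (f.app U).hom) : LocImm.IsLocImmersion f := by
  constructor
  · intro x
    have hpre := Groth.Agent.Lib.Helper27.LocImmLib.isPreimmersion_of_isLocImmersion (f ≫ g) hfg
    obtain ⟨V, hzV, hV, hV', hloc⟩ := (Groth.Agent.S18208.result (f ≫ g)).mp hfg x
    have hy : f x ∈ g ⁻¹ᵁ V := by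
      change g (f x) ∈ V
      rw [← Scheme.Hom.comp_apply]; exact hzV
    obtain ⟨_, ⟨U, hU, rfl⟩, hyU, hUle0⟩ :=
      Y.isBasis_affineOpens.exists_subset_of_mem_open hy (g ⁻¹ᵁ V).2
    have hUle : U ≤ g ⁻¹ᵁ V := hUle0
    have hyU : f x ∈ U := hyU
    have hU : IsAffineOpen U := hU
    -- f⁻¹U is the preimage of an open V' of Z under the embedding f ≫ g
    obtain ⟨W0, hW0o, hW0⟩ : ∃ W0 : Set Z, IsOpen W0 ∧ (f ≫ g).base ⁻¹' W0 = ((f ⁻¹ᵁ U : X.Opens) : Set X) :=
      ((f ≫ g).isEmbedding.isInducing.isOpen_iff (s := ((f ⁻¹ᵁ U : X.Opens) : Set X))).mp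
        (f ⁻¹ᵁ U).isOpen
    let V' : Z.Opens := ⟨W0, hW0o⟩
    have hzV' : (f ≫ g) x ∈ V' ⊓ V := by
      refine ⟨?_, hzV⟩
      change x ∈ (f ≫ g).base ⁻¹' W0
      rw [hW0]; exact hyU
    obtain ⟨c, hc1, hc2⟩ := hV.exists_basicOpen_le (V := V' ⊓ V) ⟨(f ≫ g) x, hzV'⟩ hzV
    -- the opens
    have hUc : Y.basicOpen ((g.appLE V U hUle).hom c) = U ⊓ g ⁻¹ᵁ Z.basicOpen c := by
      rw [Scheme.Hom.appLE, CommRingCat.hom_comp, RingHom.comp_apply, Scheme.basicOpen_res,
        ← Scheme.preimage_basicOpen]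
    have hWle : (f ≫ g) ⁻¹ᵁ Z.basicOpen c ≤ f ⁻¹ᵁ U := by
      intro w hw
      have : (f ≫ g) w ∈ V' := (hc1 hw).1
      change w ∈ (f ≫ g).base ⁻¹' W0 at this
      rw [hW0] at this; exact this
    have hWeq : (f ≫ g) ⁻¹ᵁ Z.basicOpen c = f ⁻¹ᵁ Y.basicOpen ((g.appLE V U hUle).hom c) := by
      rw [hUc]
      apply le_antisymm
      · intro w hw
        exact ⟨hWle hw, hw⟩
      · intro w hw
        exact hw.2
    have hWaff : IsAffineOpen ((f ≫ g) ⁻¹ᵁ Z.basicOpen c) := by
      rw [Scheme.preimage_basicOpen]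
      exact hV'.basicOpen _
    refine ⟨⟨_, hU.basicOpen ((g.appLE V U hUle).hom c)⟩, ⟨_, hWaff⟩, hc2, hWeq.le, ?_⟩
    -- the localizing property of (f ≫ g) over the basic open D(c)
    have hlocc : LocImm.IsLocHom ((f ≫ g).app (Z.basicOpen c)).hom := by
      have hle0 : (f ≫ g) ⁻¹ᵁ Z.basicOpen c ≤ (f ≫ g) ⁻¹ᵁ V :=
        Scheme.Hom.preimage_mono _ (Z.basicOpen_le c)
      refine Groth.Agent.S18208.isLocHom_of_square ((f ≫ g).app V).hom hloc c
        (Z.presheaf.map (homOfLE (Z.basicOpen_le c)).op).hom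
        (X.presheaf.map (homOfLE hle0).op).hom ((f ≫ g).app (Z.basicOpen c)).hom
        (hV.isLocalization_basicOpen c)
        (hV'.isLocalization_of_eq_basicOpen _ (homOfLE hle0) (Scheme.preimage_basicOpen _ _)) ?_
      rw [← CommRingCat.hom_comp, ← CommRingCat.hom_comp]
      congr 1
      rw [Scheme.Hom.naturality]
      rfl
    change LocImm.IsLocHom (f.appLE (Y.basicOpen ((g.appLE V U hUle).hom c))
      ((f ≫ g) ⁻¹ᵁ Z.basicOpen c) hWeq.le).hom
    refine isLocHom_of_comp_injective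
      (g.appLE (Z.basicOpen c) (Y.basicOpen ((g.appLE V U hUle).hom c))
        (by rw [hUc]; exact inf_le_right)).hom _ ?_ ?_
    · -- injectivity
      change Function.Injective (f.app _ ≫ X.presheaf.map (homOfLE hWeq.le).op).hom
      rw [CommRingCat.hom_comp]
      exact (injective_map_of_eq _ _ hWeq _).comp (hd _)
    · rw [← CommRingCat.hom_comp, Scheme.Hom.appLE_comp_appLE, ← Scheme.Hom.app_eq_appLE]
      exact hlocc
  · intro x x' hxx'
    apply hfg.2
    rw [Scheme.Hom.comp_apply, Scheme.Hom.comp_apply]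
    exact congrArg _ hxx'

end Groth.Agent.S18195
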