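import Groth.Statements.S18196
import Groth.Agent.Lib.Helper27.LocImm
import Mathlib

set_option autoImplicit false
universe u
open LocImm

namespace Groth.Agent.S18196

open Groth.Agent.Lib.Helper27.LocImmLib

open CategoryTheory AlgebraicGeometry in
/-- Let `f : X ⟶ Y` and `g : Y ⟶ Z` be morphisms of Noetherian schemes with `g` separated and `f ≫ g` a
localizing immersion (localizing and injective on points). If `f` is proper then `f` is a closed
immersion. -/
theorem result {X Y Z : Scheme.{u}} [IsNoetherian X] [IsNoetherian Y] [IsNoetherian Z]
    (f : X ⟶ Y) (g : Y ⟶ Z) (hfg : LocImm.IsLocImmersion (f ≫ g)) [IsSeparated g] [IsProper f] : IsClosedImmersion f := by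
  have hinj : Function.Injective f := by
    intro a b hab
    apply hfg.2
    show (f ≫ g) a = (f ≫ g) b
    rw [Scheme.Hom.comp_apply, Scheme.Hom.comp_apply, hab]
  have hemb : Topology.IsClosedEmbedding f :=
    Topology.IsClosedEmbedding.of_continuous_injective_isClosedMap f.continuous hinj f.isClosedMap
  have hpre : IsPreimmersion f :=
    { isEmbedding := hemb.isEmbedding
      stalkMap_surjective := fun x => by
        have h0 := isIso_stalkMap_of_isLocalizing (f ≫ g) hfg.1 x
        have h : IsIso (g.stalkMap (f x) ≫ f.stalkMap x) := by
          rw [← Scheme.Hom.stalkMap_comp]; exact h0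
        have hb := (ConcreteCategory.isIso_iff_bijective _).mp h
        have hs : Function.Surjective (⇑(f.stalkMap x) ∘ ⇑(g.stalkMap (f x))) := hb.2
        exact hs.of_comp }
  exact IsClosedImmersion.of_isPreimmersion f hemb.isClosed_range

end Groth.Agent.S18196
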