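import Groth.Statements.S18202
-- import your own Groth.Agent.* helpers here
import Groth.Agent.S18208

set_option autoImplicit false
set_option linter.style.haveILetI false
universe u
open LocImm

namespace Groth.Agent.S18202

open CategoryTheory in
/-- Localizing ring maps are stable under cobase change. -/
theorem isLocHom_of_isPushout {R A B P : CommRingCat.{u}} (φ : R ⟶ A) (ψ : R ⟶ B) (a : A ⟶ P)
    (b : B ⟶ P) (H : IsPushout φ ψ a b) (hφ : LocImm.IsLocHom φ.hom) : LocImm.IsLocHom b.hom := by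
  letI := φ.hom.toAlgebra
  letI := ψ.hom.toAlgebra
  letI := a.hom.toAlgebra
  letI := b.hom.toAlgebra
  letI : Algebra R P := (ψ ≫ b).hom.toAlgebra
  haveI : IsScalarTower R B P := IsScalarTower.of_algebraMap_eq fun _ => rfl
  haveI : IsScalarTower R A P := IsScalarTower.of_algebraMap_eq fun x => by
    change (ψ ≫ b).hom x = (φ ≫ a).hom x
    rw [H.w]
  obtain ⟨M, hM⟩ := hφ
  have HP : Algebra.IsPushout R B A P := by
    refine CommRingCat.isPushout_iff_isPushout.mp ?_
    exact H.flip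
  exact ⟨Algebra.algebraMapSubmonoid B M, (Algebra.isLocalization_iff_isPushout M A).mpr HP⟩

open CategoryTheory AlgebraicGeometry Limits in
/-- Let `f : X ⟶ Y` be a localizing immersion (localizing and injective on points) of Noetherian schemes
and `g : Y' ⟶ Y` a morphism with `Y'` Noetherian. Then the base change `X ×_Y Y' ⟶ Y'` is a
localizing immersion. -/
theorem result {X Y Y' : Scheme.{u}} [IsNoetherian X] [IsNoetherian Y] [IsNoetherian Y']
    (f : X ⟶ Y) (g : Y' ⟶ Y) (hf : LocImm.IsLocImmersion f) : LocImm.IsLocImmersion (pullback.snd f g) := by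
  constructor
  · intro z
    obtain ⟨V, hxV, hV, hV', hloc⟩ := (Groth.Agent.S18208.result f).mp hf (pullback.fst f g z)
    have hy' : pullback.snd f g z ∈ g ⁻¹ᵁ V := by
      change g (pullback.snd f g z) ∈ V
      rw [← Scheme.Hom.comp_apply, ← pullback.condition, Scheme.Hom.comp_apply]
      exact hxV
    obtain ⟨_, ⟨U', hU', rfl⟩, hzU', hU'le⟩ :=
      Y'.isBasis_affineOpens.exists_subset_of_mem_open hy' (g ⁻¹ᵁ V).2
    have H : IsPullback (pullback.fst f g) (pullback.snd f g) f g := IsPullback.of_hasPullback f g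
    have hUY : (pullback.fst f g ⁻¹ᵁ (f ⁻¹ᵁ V) ⊓ pullback.snd f g ⁻¹ᵁ U') =
        pullback.fst f g ⁻¹ᵁ (f ⁻¹ᵁ V) ⊓ pullback.snd f g ⁻¹ᵁ U' := rfl
    have hW : IsAffineOpen (pullback.fst f g ⁻¹ᵁ (f ⁻¹ᵁ V) ⊓ pullback.snd f g ⁻¹ᵁ U') := by
      haveI : IsAffine (V : Scheme) := hV
      haveI : IsAffine (U' : Scheme) := hU'
      haveI : IsAffine ((f ⁻¹ᵁ V : X.Opens) : Scheme) := hV'
      exact .of_isIso (Scheme.Hom.isPullback_resLE H (show U' ≤ g ⁻¹ᵁ V from hU'le)
        (le_refl (f ⁻¹ᵁ V)) hUY).isoPullback.hom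
    have hzW : z ∈ pullback.fst f g ⁻¹ᵁ (f ⁻¹ᵁ V) ⊓ pullback.snd f g ⁻¹ᵁ U' := ⟨hxV, hzU'⟩
    refine ⟨⟨U', hU'⟩, ⟨_, hW⟩, hzW, inf_le_right, ?_⟩
    have HPO := (isIso_pushoutSection_iff H (show U' ≤ g ⁻¹ᵁ V from hU'le)
      (le_refl (f ⁻¹ᵁ V)) hUY).mp
        (isIso_pushoutSection_of_isAffineOpen H _ _ hUY hV hU' hV')
    refine isLocHom_of_isPushout _ _ _ _ HPO ?_
    rw [← Scheme.Hom.app_eq_appLE]
    exact hloc
  · haveI := Groth.Agent.Lib.Helper27.LocImmLib.isPreimmersion_of_isLocImmersion f hf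
    exact (pullback.snd f g).isEmbedding.injective

end Groth.Agent.S18202
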