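import Groth.Statements.S18247
import Mathlib

set_option autoImplicit false
universe u
open W4c5m1nsnscurves
open Curves

namespace Groth.Agent.S18247


section aux
open MvPolynomial W4c5m1nsnscurves

noncomputable def gfun : UGen 2 → MvPolynomial (Fin 6) ℤ
  | .a => X 0
  | .c => (X 0 + X 1 + X 2 + X 3 + X 4 - X 5) * X 3 + X 5 * X 1 - X 1 * X 3
  | .cb => (X 0 + X 1 + X 2 + X 3 + X 4 - X 5) * X 2 + X 5 * X 4 - X 2 * X 4
  | .ci i => if i = 0 then X 1 else X 3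
  | .cbi i => if i = 0 then X 2 else X 4
  | .cij i _ _ => if i = 0 then X 5 else X 0 + X 1 + X 2 + X 3 + X 4 - X 5

noncomputable def G : MvPolynomial (UGen 2) ℤ →ₐ[ℤ] MvPolynomial (Fin 6) ℤ := aeval gfun

theorem G_rel : ∀ r ∈ URel ℤ 2, G r = 0 := by
  intro r hr
  simp only [URel, Set.mem_union, Set.mem_range] at hr
  rcases hr with ((⟨q, rfl⟩ | ⟨q, rfl⟩) | ⟨q, rfl⟩) | ⟨q, rfl⟩
  · obtain ⟨⟨i, j⟩, hij⟩ := q
    fin_cases i <;> fin_cases j <;> simp [G, gfun] at hij ⊢ <;> ring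
  · obtain ⟨⟨i, j⟩, hij⟩ := q
    fin_cases i <;> fin_cases j <;> simp [G, gfun] at hij ⊢ <;> ring
  · obtain ⟨⟨i, j⟩, hij⟩ := q
    fin_cases i <;> fin_cases j <;> simp [G, gfun] at hij ⊢ <;> ring
  · obtain ⟨⟨i, j, l⟩, h1, h2, h3⟩ := q
    exfalso
    fin_cases i <;> fin_cases j <;> fin_cases l <;> simp at h1 h2 h3

noncomputable def Gbar : URing ℤ 2 →ₐ[ℤ] MvPolynomial (Fin 6) ℤ :=
  Ideal.Quotient.liftₐ (Ideal.span (URel ℤ 2)) G (fun a ha => by
    have h : Ideal.span (URel ℤ 2) ≤ RingHom.ker G.toRingHom :=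
      Ideal.span_le.mpr (fun r hr => RingHom.mem_ker.mpr (G_rel r hr))
    exact RingHom.mem_ker.mp (h ha))

theorem Gbar_ugen (g : UGen 2) : Gbar (ugen ℤ 2 g) = gfun g := by
  show G (X g) = gfun g
  simp [G]

noncomputable def F : MvPolynomial (Fin 6) ℤ →ₐ[ℤ] URing ℤ 2 :=
  MvPolynomial.aeval (R := ℤ) (S₁ := URing ℤ 2)
      ![ugen ℤ 2 .a, ugen ℤ 2 (.ci 0), ugen ℤ 2 (.cbi 0), ugen ℤ 2 (.ci 1), ugen ℤ 2 (.cbi 1),
        ugen ℤ 2 (.cij 0 1 Fin.zero_ne_one)]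

theorem mk_rel_eq_zero (r : MvPolynomial (UGen 2) ℤ) (hr : r ∈ URel ℤ 2) :
    Ideal.Quotient.mk (Ideal.span (URel ℤ 2)) r = 0 :=
  Ideal.Quotient.eq_zero_iff_mem.mpr (Ideal.subset_span hr)

theorem hrel1 : ugen ℤ 2 (.cij 0 1 Fin.zero_ne_one) + ugen ℤ 2 (.cij 1 0 Fin.zero_ne_one.symm) -
    (ugen ℤ 2 .a + ugen ℤ 2 (.ci 0) + ugen ℤ 2 (.cbi 0) + ugen ℤ 2 (.ci 1) + ugen ℤ 2 (.cbi 1)) = 0 := by
  have h := mk_rel_eq_zero _ (show _ ∈ URel ℤ 2 from
    Or.inl (Or.inl (Or.inl ⟨⟨(0, 1), Fin.zero_ne_one⟩, rfl⟩)))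
  simp only [map_add, map_sub] at h
  exact h

theorem hrel2 : ugen ℤ 2 (.cij 1 0 Fin.zero_ne_one.symm) * ugen ℤ 2 (.ci 1) +
    ugen ℤ 2 (.cij 0 1 Fin.zero_ne_one) * ugen ℤ 2 (.ci 0) - ugen ℤ 2 (.ci 0) * ugen ℤ 2 (.ci 1) -
      ugen ℤ 2 .c = 0 := by
  have h := mk_rel_eq_zero _ (show _ ∈ URel ℤ 2 from
    Or.inl (Or.inl (Or.inr ⟨⟨(0, 1), Fin.zero_ne_one⟩, rfl⟩)))
  simp only [map_add, map_sub, map_mul] at h
  exact h

theorem hrel3 : ugen ℤ 2 (.cij 1 0 Fin.zero_ne_one.symm) * ugen ℤ 2 (.cbi 0) +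
    ugen ℤ 2 (.cij 0 1 Fin.zero_ne_one) * ugen ℤ 2 (.cbi 1) -
      ugen ℤ 2 (.cbi 0) * ugen ℤ 2 (.cbi 1) - ugen ℤ 2 .cb = 0 := by
  have h := mk_rel_eq_zero _ (show _ ∈ URel ℤ 2 from
    Or.inl (Or.inr ⟨⟨(0, 1), Fin.zero_ne_one⟩, rfl⟩))
  simp only [map_add, map_sub, map_mul] at h
  exact h

theorem F_gfun (g : UGen 2) : F (gfun g) = ugen ℤ 2 g := by
  cases g with
  | a => simp [F, gfun]
  | c =>
    simp only [F, gfun, map_add, map_sub, map_mul, aeval_X]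
    simp only [Matrix.cons_val]
    linear_combination hrel2 - (ugen ℤ 2 (.ci 1)) * hrel1
  | cb =>
    simp only [F, gfun, map_add, map_sub, map_mul, aeval_X]
    simp only [Matrix.cons_val]
    linear_combination hrel3 - (ugen ℤ 2 (.cbi 0)) * hrel1
  | ci i => fin_cases i <;> simp [F, gfun]
  | cbi i => fin_cases i <;> simp [F, gfun]
  | cij i j h =>
    fin_cases i <;> fin_cases j
    · exact absurd rfl h
    · simp [F, gfun]
    · simp [F, gfun]
      linear_combination (-1 : URing ℤ 2) * hrel1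
    · exact absurd rfl h

end aux

/-- Case n = 5: the coordinate ring of U_5 over ℤ (m = 2 indices, standing for the points 4 and 5;
generators a, c, c̄, c_4, c̄_4, c_5, c̄_5, c_{45}, c_{54} with the linear and the two quadratic
relations for the one pair of indices, and no triple) is the polynomial ring on a, c_4, c̄_4, c_5,
c̄_5, c_{45}: the ℤ-algebra map from the polynomial ring in six variables sending the variables to
these six classes, in this order, is bijective. -/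
theorem result :
    Function.Bijective (MvPolynomial.aeval (R := ℤ) (S₁ := URing ℤ 2)
      ![ugen ℤ 2 .a, ugen ℤ 2 (.ci 0), ugen ℤ 2 (.cbi 0), ugen ℤ 2 (.ci 1), ugen ℤ 2 (.cbi 1),
        ugen ℤ 2 (.cij 0 1 Fin.zero_ne_one)]) := by
  show Function.Bijective F
  rw [Function.bijective_iff_has_inverse]
  refine ⟨Gbar, ?_, ?_⟩
  · intro p
    have h : Gbar.comp F = AlgHom.id ℤ _ := by
      apply MvPolynomial.algHom_ext
      intro i
      rw [AlgHom.comp_apply, AlgHom.id_apply]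
      fin_cases i <;> simp [F, Gbar_ugen, gfun]
    exact AlgHom.congr_fun h p
  · intro u
    have h : F.comp Gbar = AlgHom.id ℤ _ := by
      apply Ideal.Quotient.algHom_ext
      apply MvPolynomial.algHom_ext
      intro g
      show F (Gbar (ugen ℤ 2 g)) = ugen ℤ 2 g
      rw [Gbar_ugen, F_gfun]
    exact AlgHom.congr_fun h u

end Groth.Agent.S18247
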