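import Groth.Statements.S18251
import Mathlib

set_option autoImplicit false
universe u
open W4c5m1nsnscurves
open Curves

namespace Groth.Agent.S18251

section aux
open Polynomial

variable (R : Type u) [CommRing R] (a b c d : R)

/-- the relation polynomial -/
noncomputable abbrev rel : MvPolynomial (Fin 2) R :=
  MvPolynomial.X 0 * MvPolynomial.X 1 ^ 2 - MvPolynomial.X 0 ^ 2 * MvPolynomial.X 1 -
    (MvPolynomial.C a * MvPolynomial.X 0 * MvPolynomial.X 1 + MvPolynomial.C b * MvPolynomial.X 0 +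
      MvPolynomial.C c * MvPolynomial.X 1 + MvPolynomial.C d)

/-- monomial representatives -/
noncomputable def mrep : (Option (ℕ ⊕ (Fin 2 × ℕ))) → MvPolynomial (Fin 2) R
  | none => 1
  | some (Sum.inl k) => MvPolynomial.X 0 ^ (k + 1) * MvPolynomial.X 1
  | some (Sum.inr (y, k)) => MvPolynomial.X y ^ (k + 1)

theorem cmon3_eq (s : (Option (ℕ ⊕ (Fin 2 × ℕ)))) : cmon3 R a b c d s =
    Ideal.Quotient.mk (Ideal.span {rel R a b c d}) (mrep R s) := by
  rcases s with _ | (k | ⟨y, k⟩)
  · exact (map_one _).symm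
  · rfl
  · rfl

theorem mk_C_mul (r : R) (g : MvPolynomial (Fin 2) R) :
    Ideal.Quotient.mk (Ideal.span {rel R a b c d}) (MvPolynomial.C r * g) =
      r • Ideal.Quotient.mk (Ideal.span {rel R a b c d}) g := by
  rw [← MvPolynomial.smul_eq_C_mul]
  exact map_smul (Ideal.Quotient.mkₐ R (Ideal.span {rel R a b c d})) r g

theorem span_aux : ∀ (j i : ℕ), Ideal.Quotient.mk (Ideal.span {rel R a b c d})
      (MvPolynomial.X 0 ^ i * MvPolynomial.X 1 ^ j) ∈
      Submodule.span R (Set.range (cmon3 R a b c d)) := by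
  intro j
  induction j using Nat.strong_induction_on with
  | _ j ih =>
    intro i
    rcases Nat.lt_or_ge j 2 with hj | hj
    · interval_cases j
      · rcases i with _ | k
        · have h1 : (MvPolynomial.X 0 ^ 0 * MvPolynomial.X 1 ^ 0 : MvPolynomial (Fin 2) R) =
              mrep R none := by simp [mrep]
          rw [h1, ← cmon3_eq]; exact Submodule.subset_span ⟨_, rfl⟩
        · have h1 : (MvPolynomial.X 0 ^ (k + 1) * MvPolynomial.X 1 ^ 0 :
              MvPolynomial (Fin 2) R) = mrep R (some (Sum.inr (0, k))) := by simp [mrep]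
          rw [h1, ← cmon3_eq]; exact Submodule.subset_span ⟨_, rfl⟩
      · rcases i with _ | k
        · have h1 : (MvPolynomial.X 0 ^ 0 * MvPolynomial.X 1 ^ 1 : MvPolynomial (Fin 2) R) =
              mrep R (some (Sum.inr (1, 0))) := by simp [mrep]
          rw [h1, ← cmon3_eq]; exact Submodule.subset_span ⟨_, rfl⟩
        · have h1 : (MvPolynomial.X 0 ^ (k + 1) * MvPolynomial.X 1 ^ 1 :
              MvPolynomial (Fin 2) R) = mrep R (some (Sum.inl k)) := by simp [mrep]
          rw [h1, ← cmon3_eq]; exact Submodule.subset_span ⟨_, rfl⟩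
    · obtain ⟨j', rfl⟩ : ∃ j', j = j' + 2 := ⟨j - 2, by omega⟩
      rcases i with _ | i'
      · have h1 : (MvPolynomial.X 0 ^ 0 * MvPolynomial.X 1 ^ (j' + 2) :
            MvPolynomial (Fin 2) R) = mrep R (some (Sum.inr (1, j' + 1))) := by simp [mrep]
        rw [h1, ← cmon3_eq]; exact Submodule.subset_span ⟨_, rfl⟩
      · have key : (MvPolynomial.X 0 ^ (i' + 1) * MvPolynomial.X 1 ^ (j' + 2) :
            MvPolynomial (Fin 2) R) -
            (MvPolynomial.X 0 ^ (i' + 2) * MvPolynomial.X 1 ^ (j' + 1) +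
              MvPolynomial.C a * (MvPolynomial.X 0 ^ (i' + 1) * MvPolynomial.X 1 ^ (j' + 1)) +
              MvPolynomial.C b * (MvPolynomial.X 0 ^ (i' + 1) * MvPolynomial.X 1 ^ j') +
              MvPolynomial.C c * (MvPolynomial.X 0 ^ i' * MvPolynomial.X 1 ^ (j' + 1)) +
              MvPolynomial.C d * (MvPolynomial.X 0 ^ i' * MvPolynomial.X 1 ^ j')) =
            (MvPolynomial.X 0 ^ i' * MvPolynomial.X 1 ^ j') * rel R a b c d := by
          ring
        have hmem : (MvPolynomial.X 0 ^ (i' + 1) * MvPolynomial.X 1 ^ (j' + 2) :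
            MvPolynomial (Fin 2) R) -
            (MvPolynomial.X 0 ^ (i' + 2) * MvPolynomial.X 1 ^ (j' + 1) +
              MvPolynomial.C a * (MvPolynomial.X 0 ^ (i' + 1) * MvPolynomial.X 1 ^ (j' + 1)) +
              MvPolynomial.C b * (MvPolynomial.X 0 ^ (i' + 1) * MvPolynomial.X 1 ^ j') +
              MvPolynomial.C c * (MvPolynomial.X 0 ^ i' * MvPolynomial.X 1 ^ (j' + 1)) +
              MvPolynomial.C d * (MvPolynomial.X 0 ^ i' * MvPolynomial.X 1 ^ j')) ∈
            Ideal.span {rel R a b c d} := by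
          rw [key]; exact Ideal.mul_mem_left _ _ (Ideal.subset_span rfl)
        rw [Ideal.Quotient.eq.2 hmem, map_add, map_add, map_add, map_add, mk_C_mul, mk_C_mul,
          mk_C_mul, mk_C_mul]
        exact Submodule.add_mem _ (Submodule.add_mem _ (Submodule.add_mem _ (Submodule.add_mem _
          (ih (j' + 1) (by omega) _) (Submodule.smul_mem _ _ (ih (j' + 1) (by omega) _)))
          (Submodule.smul_mem _ _ (ih j' (by omega) _)))
          (Submodule.smul_mem _ _ (ih (j' + 1) (by omega) _)))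
          (Submodule.smul_mem _ _ (ih j' (by omega) _))

theorem span_all (p : MvPolynomial (Fin 2) R) : ∀ i j : ℕ,
    Ideal.Quotient.mk (Ideal.span {rel R a b c d})
      (p * MvPolynomial.X 0 ^ i * MvPolynomial.X 1 ^ j) ∈
      Submodule.span R (Set.range (cmon3 R a b c d)) := by
  induction p using MvPolynomial.induction_on with
  | C r =>
    intro i j
    have e : (MvPolynomial.C r * MvPolynomial.X 0 ^ i * MvPolynomial.X 1 ^ j :
        MvPolynomial (Fin 2) R) =
        MvPolynomial.C r * (MvPolynomial.X 0 ^ i * MvPolynomial.X 1 ^ j) := mul_assoc _ _ _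
    rw [e, mk_C_mul]
    exact Submodule.smul_mem _ _ (span_aux R a b c d j i)
  | add p q hp hq =>
    intro i j
    rw [add_mul, add_mul, map_add]
    exact Submodule.add_mem _ (hp i j) (hq i j)
  | mul_X p n hp =>
    intro i j
    obtain rfl | rfl : n = 0 ∨ n = 1 := by fin_cases n <;> simp
    · have e : p * MvPolynomial.X 0 * MvPolynomial.X 0 ^ i * MvPolynomial.X 1 ^ j =
          p * MvPolynomial.X 0 ^ (i + 1) * MvPolynomial.X 1 ^ j := by ring
      rw [e]; exact hp (i + 1) j
    · have e : p * MvPolynomial.X 1 * MvPolynomial.X 0 ^ i * MvPolynomial.X 1 ^ j =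
          p * MvPolynomial.X 0 ^ i * MvPolynomial.X 1 ^ (j + 1) := by ring
      rw [e]; exact hp i (j + 1)

theorem span_top' : Submodule.span R (Set.range (cmon3 R a b c d)) = ⊤ := by
  rw [eq_top_iff]
  intro x _
  obtain ⟨p, rfl⟩ := Ideal.Quotient.mk_surjective x
  have h1 := span_all R a b c d p 0 0
  rwa [pow_zero, pow_zero, mul_one, mul_one] at h1

/-- the map to `R[X][X]` -/
noncomputable def psi : MvPolynomial (Fin 2) R →ₐ[R] R[X][X] :=
  MvPolynomial.aeval ![C X, X]

theorem psi_X0 : psi R (MvPolynomial.X 0) = C X := by simp [psi]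
theorem psi_X1 : psi R (MvPolynomial.X 1) = X := by simp [psi]
theorem psi_C (r : R) : psi R (MvPolynomial.C r) = C (C r) := by
  rw [psi, MvPolynomial.aeval_C, Polynomial.algebraMap_apply, Polynomial.algebraMap_eq]

/-- exponent (outer, inner) of the standard monomials -/
def expo : (Option (ℕ ⊕ (Fin 2 × ℕ))) → ℕ × ℕ
  | none => (0, 0)
  | some (Sum.inl k) => (1, k + 1)
  | some (Sum.inr (y, k)) => if y = 0 then (0, k + 1) else (k + 1, 0)

/-- decoding -/
def dec : ℕ × ℕ → (Option (ℕ ⊕ (Fin 2 × ℕ)))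
  | (0, 0) => none
  | (0, β + 1) => some (Sum.inr (0, β))
  | (α + 1, 0) => some (Sum.inr (1, α))
  | (_ + 1, β + 1) => some (Sum.inl β)

theorem dec_expo (s : (Option (ℕ ⊕ (Fin 2 × ℕ)))) : dec (expo s) = s := by
  rcases s with _ | (k | ⟨y, k⟩)
  · rfl
  · rfl
  · obtain rfl | rfl : y = 0 ∨ y = 1 := by fin_cases y <;> simp
    · rfl
    · rfl

theorem expo_inj : Function.Injective expo :=
  Function.LeftInverse.injective dec_expo

theorem expo_std (s : (Option (ℕ ⊕ (Fin 2 × ℕ)))) (α β : ℕ) : (α + 2, β + 1) ≠ expo s := by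
  intro h
  rcases s with _ | (k | ⟨y, k⟩)
  · simp only [expo, Prod.mk.injEq] at h; omega
  · simp only [expo, Prod.mk.injEq] at h; omega
  · simp only [expo] at h
    split_ifs at h <;> (simp only [Prod.mk.injEq] at h; omega)

theorem psi_mrep (s : (Option (ℕ ⊕ (Fin 2 × ℕ)))) :
    psi R (mrep R s) = C (X ^ (expo s).2) * X ^ (expo s).1 := by
  rcases s with _ | (k | ⟨y, k⟩)
  · simp [mrep, expo]
  · simp [mrep, expo, psi_X0, psi_X1]
  · obtain rfl | rfl : y = 0 ∨ y = 1 := by fin_cases y <;> simp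
    · simp [mrep, expo, psi_X0]
    · simp [mrep, expo, psi_X1]

theorem bicoeff_M (s : (Option (ℕ ⊕ (Fin 2 × ℕ)))) (α β : ℕ) :
    ((C (X ^ (expo s).2) * X ^ (expo s).1 : R[X][X]).coeff α).coeff β =
      if (α, β) = expo s then 1 else 0 := by
  rw [coeff_C_mul_X_pow]
  by_cases h1 : α = (expo s).1
  · rw [if_pos h1, coeff_X_pow]
    by_cases h2 : β = (expo s).2
    · rw [if_pos h2, if_pos (Prod.ext h1 h2)]
    · rw [if_neg h2, if_neg (fun h => h2 (congrArg Prod.snd h))]
  · rw [if_neg h1, coeff_zero, if_neg (fun h => h1 (congrArg Prod.fst h))]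

theorem bicoeff_sum (l : (Option (ℕ ⊕ (Fin 2 × ℕ))) →₀ R) (α β : ℕ) :
    ((Finsupp.linearCombination R
      (fun s : (Option (ℕ ⊕ (Fin 2 × ℕ))) => (C (X ^ (expo s).2) * X ^ (expo s).1 : R[X][X])) l).coeff α).coeff β =
      ∑ s ∈ l.support, l s * (if (α, β) = expo s then 1 else 0) := by
  rw [Finsupp.linearCombination_apply, Finsupp.sum, finsetSum_coeff, finsetSum_coeff]
  refine Finset.sum_congr rfl fun s _ => ?_
  rw [coeff_smul, coeff_smul, smul_eq_mul, bicoeff_M]

theorem linInd : LinearIndependent R (cmon3 R a b c d) := by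
  rw [linearIndependent_iff]
  intro l hl
  have hcm : cmon3 R a b c d =
      (Ideal.Quotient.mkₐ R (Ideal.span {rel R a b c d})).toLinearMap ∘ mrep R := by
    funext s; exact cmon3_eq R a b c d s
  rw [hcm, ← Finsupp.apply_linearCombination] at hl
  obtain ⟨g, hg⟩ : ∃ g, g = Finsupp.linearCombination R (mrep R) l := ⟨_, rfl⟩
  rw [← hg] at hl
  have hgI : g ∈ Ideal.span {rel R a b c d} := Ideal.Quotient.eq_zero_iff_mem.1 hl
  obtain ⟨h, hh⟩ := Ideal.mem_span_singleton'.1 hgI
  have hN : psi R g = Finsupp.linearCombination R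
      (fun s : (Option (ℕ ⊕ (Fin 2 × ℕ))) => (C (X ^ (expo s).2) * X ^ (expo s).1 : R[X][X])) l := by
    have hfun : (⇑(psi R).toLinearMap ∘ mrep R) =
        fun s : (Option (ℕ ⊕ (Fin 2 × ℕ))) => (C (X ^ (expo s).2) * X ^ (expo s).1 : R[X][X]) := by
      funext s; exact psi_mrep R s
    rw [hg, ← AlgHom.toLinearMap_apply, Finsupp.apply_linearCombination, hfun]
  have hF : psi R (rel R a b c d) =
      C X * X ^ 2 - C (X ^ 2 + C a * X + C c) * X - C (C b * X + C d) := by
    simp only [rel, map_sub, map_add, map_mul, map_pow, psi_X0, psi_X1, psi_C]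
    ring
  have hFdeg : (psi R (rel R a b c d)).natDegree ≤ 2 := by
    rw [hF]; compute_degree
  have hFc2 : (psi R (rel R a b c d)).coeff 2 = X := by
    rw [hF, coeff_sub, coeff_sub, coeff_C_mul, coeff_X_pow, coeff_C_mul, coeff_X, coeff_C]
    simp
  have hGF : psi R h * psi R (rel R a b c d) = psi R g := by rw [← map_mul, hh]
  have hG0 : psi R h = 0 := by
    by_contra hne
    have hlc : (psi R h).leadingCoeff ≠ 0 := leadingCoeff_ne_zero.2 hne
    have hco : (psi R g).coeff ((psi R h).natDegree + 2) = (psi R h).leadingCoeff * X := by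
      rw [← hGF, coeff_mul_add_eq_of_natDegree_le le_rfl hFdeg, hFc2, coeff_natDegree]
    have hst : ∀ m, ((psi R g).coeff ((psi R h).natDegree + 2)).coeff (m + 1) = 0 := by
      intro m
      rw [hN, bicoeff_sum]
      apply Finset.sum_eq_zero
      intro s _
      rw [if_neg (expo_std s _ _), mul_zero]
    apply hlc
    ext m
    have h1 := hst m
    rw [hco, coeff_mul_X] at h1
    rw [h1, coeff_zero]
  have hN0 : Finsupp.linearCombination R
      (fun s : (Option (ℕ ⊕ (Fin 2 × ℕ))) => (C (X ^ (expo s).2) * X ^ (expo s).1 : R[X][X])) l = 0 := by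
    rw [← hN, ← hGF, hG0, zero_mul]
  ext s
  have h1 := bicoeff_sum R l (expo s).1 (expo s).2
  rw [hN0, coeff_zero, coeff_zero] at h1
  rw [Finsupp.zero_apply]
  by_cases hs : s ∈ l.support
  · rw [Finset.sum_eq_single s] at h1
    · rw [if_pos rfl, mul_one] at h1; exact h1.symm
    · intro t _ hts
      rw [if_neg (fun h => hts (expo_inj h).symm), mul_zero]
    · intro hns; exact absurd hs hns
  · exact Finsupp.notMem_support_iff.1 hs

end aux

/-- Case n = 3: let R be a commutative ring and a, b, c, d elements of R (a point of U_3, which is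
affine 4-space, so no condition is imposed). Then in the R-algebra R[x_2, x_3]/(x_2 x_3² − x_2² x_3
− a x_2 x_3 − b x_2 − c x_3 − d) the classes of the monomials 1, x_2^k x_3, x_2^k and x_3^k (k ≥ 1)
are linearly independent over R and span, i.e. form an R-basis. -/
theorem result (R : Type u) [CommRing R] (a b c d : R) :
    LinearIndependent R (cmon3 R a b c d) ∧
      Submodule.span R (Set.range (cmon3 R a b c d)) = ⊤ :=
  ⟨linInd R a b c d, span_top' R a b c d⟩

end Groth.Agent.S18251
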