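import Groth.Statements.S18256
import Mathlib

set_option autoImplicit false
universe u
open ArtFun

namespace Groth.Agent.S18256


open TensorProduct CategoryTheory

section Chase

variable {R : Type u} [CommRing R] (M : Type u) [AddCommGroup M] [Module R M]

theorem chase {A' : Type u} [CommRing A'] [Algebra R A'] (K : Ideal A') (J' J : Ideal R)
    (hle : J' ≤ J)
    (ha : ∀ a ∈ J, algebraMap R A' a ∈ K) (hb : ∀ y ∈ K, ∃ a ∈ J, algebraMap R A' a = y)
    (hc : ∀ a, algebraMap R A' a = 0 ↔ a ∈ J')
    (h1 : Function.Injective (LinearMap.lTensor M (K.restrictScalars R).subtype))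
    (h2 : Function.Injective (LinearMap.lTensor M J'.subtype)) :
    Function.Injective (LinearMap.lTensor M J.subtype) := by
  let ι : J' →ₗ[R] J := Submodule.inclusion hle
  let ρ : J →ₗ[R] (K.restrictScalars R) :=
    LinearMap.codRestrict (K.restrictScalars R) ((Algebra.linearMap R A').comp J.subtype)
      (fun a => ha a a.2)
  have hex : Function.Exact ι ρ := by
    intro x
    constructor
    · intro hx
      have : algebraMap R A' x = 0 := congrArg Subtype.val hx
      exact ⟨⟨x, (hc _).mp this⟩, Subtype.ext rfl⟩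
    · rintro ⟨y, rfl⟩
      apply Subtype.ext
      exact (hc _).mpr y.2
  have hsurj : Function.Surjective ρ := by
    rintro ⟨y, hy⟩
    obtain ⟨a, haJ, rfl⟩ := hb y hy
    exact ⟨⟨a, haJ⟩, Subtype.ext rfl⟩
  have hex' := lTensor_exact M hex hsurj
  rw [injective_iff_map_eq_zero]
  intro z hz
  have hsq : (K.restrictScalars R).subtype ∘ₗ ρ = (Algebra.linearMap R A') ∘ₗ J.subtype :=
    LinearMap.ext fun a => rfl
  have h3 : LinearMap.lTensor M (K.restrictScalars R).subtype (LinearMap.lTensor M ρ z) = 0 := by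
    rw [← LinearMap.comp_apply, ← LinearMap.lTensor_comp, hsq, LinearMap.lTensor_comp,
      LinearMap.comp_apply, hz, map_zero]
  have h4 : LinearMap.lTensor M ρ z = 0 := by
    apply h1; rw [h3, map_zero]
  obtain ⟨w, rfl⟩ := (hex' z).mp h4
  have h5 : LinearMap.lTensor M J'.subtype w = 0 := by
    have : J'.subtype = J.subtype ∘ₗ ι := LinearMap.ext fun a => rfl
    rw [this, LinearMap.lTensor_comp, LinearMap.comp_apply, hz]
  have : w = 0 := by apply h2; rw [h5, map_zero]
  rw [this, map_zero]

theorem lTensor_top_injective :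
    Function.Injective (LinearMap.lTensor M (⊤ : Ideal R).subtype) := by
  have h := (LinearEquiv.lTensor M (Submodule.topEquiv : (⊤ : Ideal R) ≃ₗ[R] R)).injective
  have e : LinearMap.lTensor M (⊤ : Ideal R).subtype =
      ((LinearEquiv.lTensor M (Submodule.topEquiv : (⊤ : Ideal R) ≃ₗ[R] R)) :
        M ⊗[R] (⊤ : Ideal R) →ₗ[R] M ⊗[R] R) := by
    rw [LinearEquiv.coe_lTensor]; rfl
  rw [e]; exact h

theorem lTensor_bot_injective :
    Function.Injective (LinearMap.lTensor M (⊥ : Ideal R).subtype) := by
  have : ∀ z : M ⊗[R] (⊥ : Ideal R), z = 0 := fun z => by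
    induction z using TensorProduct.induction_on with
    | zero => rfl
    | tmul m x =>
      have : x = 0 := Subsingleton.elim _ _
      rw [this, tmul_zero]
    | add a b ha hb => rw [ha, hb, add_zero]
  intro a b _; rw [this a, this b]

end Chase

section Art

variable {R : Type u} [CommRing R] [IsArtinianRing R] [IsLocalRing R]
  {k : Type u} [Field k] [Algebra R k]

lemma ker_algebraMap_eq (hk : Function.Surjective (algebraMap R k)) :
    RingHom.ker (algebraMap R k) = IsLocalRing.maximalIdeal R :=
  IsLocalRing.eq_maximalIdeal (RingHom.ker_isMaximal_of_surjective _ hk)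

lemma le_max_of_ne_top (J : Ideal R) (hJ : J ≠ ⊤) : J ≤ IsLocalRing.maximalIdeal R :=
  IsLocalRing.le_maximalIdeal hJ

noncomputable def artQuot (hk : Function.Surjective (algebraMap R k)) (J : Ideal R) (hJ : J ≠ ⊤) :
    ArtFun.Art R k :=
  haveI : Nontrivial (R ⧸ J) := Ideal.Quotient.nontrivial_iff.mpr hJ
  haveI : IsLocalRing (R ⧸ J) :=
    IsLocalRing.of_surjective' (Ideal.Quotient.mk J) Ideal.Quotient.mk_surjective
  ArtFun.Art.of (R ⧸ J) (Ideal.Quotient.liftₐ J (Algebra.ofId R k) (fun a ha => by
    have : a ∈ RingHom.ker (algebraMap R k) := by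
      rw [ker_algebraMap_eq hk]; exact le_max_of_ne_top J hJ ha
    exact this)) (by
    intro y
    obtain ⟨a, rfl⟩ := hk y
    exact ⟨Ideal.Quotient.mk J a, rfl⟩)

lemma artQuot_algebraMap_surjective (hk : Function.Surjective (algebraMap R k)) (J : Ideal R)
    (hJ : J ≠ ⊤) : Function.Surjective (algebraMap R (artQuot hk J hJ)) :=
  Ideal.Quotient.mk_surjective (I := J)

lemma artQuot_algebraMap_eq_zero (hk : Function.Surjective (algebraMap R k)) (J : Ideal R)
    (hJ : J ≠ ⊤) (a : R) : algebraMap R (artQuot hk J hJ) a = 0 ↔ a ∈ J :=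
  Ideal.Quotient.eq_zero_iff_mem (I := J)

noncomputable def artMap (hk : Function.Surjective (algebraMap R k)) (J' J : Ideal R) (hJ' : J' ≠ ⊤)
    (hJ : J ≠ ⊤) (hle : J' ≤ J) : artQuot hk J' hJ' ⟶ artQuot hk J hJ :=
  ArtFun.Art.homMk (A := artQuot hk J' hJ') (B := artQuot hk J hJ)
    (Ideal.Quotient.factorₐ R hle) (by
      apply AlgHom.ext
      intro a
      obtain ⟨a, rfl⟩ := Ideal.Quotient.mk_surjective (I := J') a
      rfl)

section General

variable {A' A : ArtFun.Art R k} (p : A' ⟶ A) (J' J : Ideal R)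
  (hs' : Function.Surjective (algebraMap R A')) (hs : Function.Surjective (algebraMap R A))
  (hz' : ∀ a, algebraMap R A' a = 0 ↔ a ∈ J') (hz : ∀ a, algebraMap R A a = 0 ↔ a ∈ J)

include hs' hz in
lemma mem_ker_iff (y : A') :
    y ∈ RingHom.ker p.toAlgHom ↔ ∃ a ∈ J, algebraMap R A' a = y := by
  rw [RingHom.mem_ker]
  constructor
  · intro hy
    obtain ⟨a, rfl⟩ := hs' y
    rw [AlgHom.commutes] at hy
    exact ⟨a, (hz a).mp hy, rfl⟩
  · rintro ⟨a, haJ, rfl⟩
    rw [AlgHom.commutes]
    exact (hz a).mpr haJ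

include hs' hs hz' hz in
theorem isSmallExt_general (x : R) (hxJ : x ∈ J) (hxJ' : x ∉ J')
    (hsup : J = J' ⊔ Ideal.span {x}) (hm : IsLocalRing.maximalIdeal R * J ≤ J') :
    ArtFun.Art.IsSmallExt p := by
  have key := mem_ker_iff p J hs' hz
  refine ⟨?_, ?_, ?_, ?_⟩
  · intro y
    obtain ⟨a, rfl⟩ := hs y
    exact ⟨algebraMap R A' a, AlgHom.commutes _ _⟩
  · intro hbot
    have h1 : algebraMap R A' x ∈ RingHom.ker p.toAlgHom := (key _).mpr ⟨x, hxJ, rfl⟩
    rw [hbot, Ideal.mem_bot] at h1
    exact hxJ' ((hz' x).mp h1)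
  · refine ⟨⟨algebraMap R A' x, le_antisymm ?_ ?_⟩⟩
    · intro y hy
      obtain ⟨a, haJ, rfl⟩ := (key _).mp hy
      rw [hsup, Submodule.mem_sup] at haJ
      obtain ⟨j, hj, s, hs, rfl⟩ := haJ
      obtain ⟨r, rfl⟩ := Ideal.mem_span_singleton'.mp hs
      have : algebraMap R A' (j + r * x) = algebraMap R A' r * algebraMap R A' x := by
        rw [map_add, map_mul, (hz' j).mpr hj, zero_add]
      rw [this]
      exact Ideal.mul_mem_left _ _ (Ideal.subset_span (Set.mem_singleton _))
    · change Ideal.span {algebraMap R A' x} ≤ _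
      rw [Ideal.span_le, Set.singleton_subset_iff]
      exact (key _).mpr ⟨x, hxJ, rfl⟩
  · rw [eq_bot_iff, Ideal.mul_le]
    intro m' hm' y hy
    obtain ⟨a, haJ, rfl⟩ := (key _).mp hy
    obtain ⟨b, rfl⟩ := hs' m'
    have hb : b ∈ IsLocalRing.maximalIdeal R := by
      rw [IsLocalRing.mem_maximalIdeal, mem_nonunits_iff]
      intro hbu
      exact ((IsLocalRing.mem_maximalIdeal _).mp hm') (hbu.map (algebraMap R A'))
    rw [Ideal.mem_bot, ← map_mul]
    exact (hz' _).mpr (hm (Ideal.mul_mem_mul hb haJ))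

end General

theorem all_ideals (hk : Function.Surjective (algebraMap R k))
    (M : Type u) [AddCommGroup M] [Module R M]
    (h : ∀ (A' A : ArtFun.Art R k) (p : A' ⟶ A), ArtFun.Art.IsSmallExt p →
      Function.Injective
        (LinearMap.lTensor M (((RingHom.ker p.toAlgHom).restrictScalars R).subtype)))
    (J : Ideal R) : Function.Injective (LinearMap.lTensor M J.subtype) := by
  induction J using IsArtinian.induction with
  | _ J IH =>
  by_cases hJtop : J = ⊤
  · subst hJtop; exact lTensor_top_injective M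
  by_cases hJbot : J = ⊥
  · subst hJbot; exact lTensor_bot_injective M
  obtain ⟨J', hJ'lt, hmax⟩ := (wellFounded_gt (α := Ideal R)).has_min {J' | J' < J}
    ⟨⊥, bot_lt_iff_ne_bot.mpr hJbot⟩
  have hJ'lt : J' < J := hJ'lt
  obtain ⟨x, hxJ, hxJ'⟩ := SetLike.exists_of_lt hJ'lt
  have hJ'top : J' ≠ ⊤ := fun e => hJtop (top_le_iff.mp (e ▸ hJ'lt.le))
  have hsup : J = J' ⊔ Ideal.span {x} := by
    have hle : J' ⊔ Ideal.span {x} ≤ J :=
      sup_le hJ'lt.le ((Ideal.span_le).mpr (Set.singleton_subset_iff.mpr hxJ))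
    refine ((lt_or_eq_of_le hle).resolve_left fun hlt => ?_).symm
    refine hmax _ hlt (lt_of_le_of_ne le_sup_left fun e => hxJ' ?_)
    rw [e]
    exact Ideal.mem_sup_right (Ideal.subset_span (Set.mem_singleton _))
  have hm : IsLocalRing.maximalIdeal R * J ≤ J' := by
    have hle : J' ⊔ IsLocalRing.maximalIdeal R * J ≤ J := sup_le hJ'lt.le Ideal.mul_le_right
    rcases lt_or_eq_of_le hle with hlt | heq
    · have h2 : ¬ (J' < J' ⊔ IsLocalRing.maximalIdeal R * J) := hmax _ hlt
      have h3 : J' = J' ⊔ IsLocalRing.maximalIdeal R * J := by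
        by_contra hne
        exact h2 (lt_of_le_of_ne le_sup_left hne)
      rw [h3]; exact le_sup_right
    · exfalso
      have : J ≤ J' := by
        apply Submodule.le_of_le_smul_of_le_jacobson_bot (I := IsLocalRing.maximalIdeal R)
          (IsNoetherian.noetherian J) (IsLocalRing.maximalIdeal_le_jacobson _)
        rw [smul_eq_mul]; exact heq.ge
      exact absurd hJ'lt (not_lt_of_ge this)
  have hs' := artQuot_algebraMap_surjective hk J' hJ'top
  have hs := artQuot_algebraMap_surjective hk J hJtop
  have hz' := artQuot_algebraMap_eq_zero hk J' hJ'top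
  have hz := artQuot_algebraMap_eq_zero hk J hJtop
  have hsm := isSmallExt_general (artMap hk J' J hJ'top hJtop hJ'lt.le) J' J hs' hs hz' hz
    x hxJ hxJ' hsup hm
  have h1 := h _ _ _ hsm
  have key := mem_ker_iff (artMap hk J' J hJ'top hJtop hJ'lt.le) J hs' hz
  refine chase M (A' := (artQuot hk J' hJ'top : ArtFun.Art R k))
    (RingHom.ker (artMap hk J' J hJ'top hJtop hJ'lt.le).toAlgHom) J' J
    hJ'lt.le ?_ ?_ hz' h1 (IH J' hJ'lt)
  · intro a haJ
    exact (key _).mpr ⟨a, haJ, rfl⟩
  · intro y hy
    exact (key _).mp hy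

end Art

open CategoryTheory TensorProduct in
/-- Let R be an Artinian local ring with residue field k and M a finitely generated R-module. Suppose
that for every small extension p : A' → A of local Artinian R-algebras with residue field k (p
surjective, its kernel I a nonzero principal ideal killed by the maximal ideal of A'), the map M ⊗_R
I → M ⊗_R A' induced by the inclusion I ⊆ A' is injective (equivalently, the sequence 0 → M ⊗_R I →
M ⊗_R A' → M ⊗_R A → 0 is exact). Then M is a free R-module. (The printed conclusion reads free over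
the residue field; the proof establishes freeness over R, which is what is stated here.) -/
theorem result
    (R : Type u) [CommRing R] [IsArtinianRing R] [IsLocalRing R]
    (k : Type u) [Field k] [Algebra R k] (hk : Function.Surjective (algebraMap R k))
    (M : Type u) [AddCommGroup M] [Module R M] [Module.Finite R M]
    (h : ∀ (A' A : ArtFun.Art R k) (p : A' ⟶ A), ArtFun.Art.IsSmallExt p →
      Function.Injective
        (LinearMap.lTensor M (((RingHom.ker p.toAlgHom).restrictScalars R).subtype))) :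
    Module.Free R M := by
  have hflat : Module.Flat R M :=
    Module.Flat.iff_lTensor_injective'.mpr (all_ideals hk M h)
  exact Module.free_of_flat_of_isLocalRing

end Groth.Agent.S18256
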