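import Groth.Statements.S18257
import Groth.Agent.Lib.Helper11.UnitsDefB

set_option autoImplicit false
universe u
open UnitsSh

namespace Groth.Agent.S18257

open CategoryTheory CategoryTheory.Limits AlgebraicGeometry in
/-- In the case of the multiplicative group, for schemes and with Zariski cohomology of the sheaf of
units. Let A be a local ring with maximal ideal m, t a nonzero element of m with m·t = 0, and X' a
scheme flat over Spec A; let i : X ⟶ X' be the closed subscheme cut out by t (base change to A/(t))
and X₀ the closed fibre (base change to the residue field). If H^{q+1}(X₀, O_{X₀}) = 0, then the map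
H^q(X', O_{X'}^×) → H^q(X', i_* O_X^×) induced by the units map of i is surjective. (The published
statement covers any smooth commutative group scheme in place of the multiplicative group, with the
Lie algebra of its closed fibre in place of O_{X₀}, uses étale cohomology, and takes A Artinian;
this row allows any local ring A with t as stated.) -/
theorem result
    (A : Type u) [CommRing A] [IsLocalRing A]
    (t : A) (ht0 : t ≠ 0) (ht : t ∈ IsLocalRing.maximalIdeal A)
    (hmt : ∀ x ∈ IsLocalRing.maximalIdeal A, x * t = 0)
    (X' : Scheme.{u}) [X'.Over (Spec (CommRingCat.of A))] [Flat (X' ↘ Spec (CommRingCat.of A))]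
    (q : ℕ)
    (hvan : Subsingleton (Coh.HH
      (pullback (X' ↘ Spec (CommRingCat.of A)) (Spec.map (CommRingCat.ofHom (IsLocalRing.residue A))))
      (Coh.structureModule _) (q + 1))) :
    Function.Surjective (Sheaf.H.map (UnitsSh.comap
      (pullback.fst (X' ↘ Spec (CommRingCat.of A))
        (Spec.map (CommRingCat.ofHom (Ideal.Quotient.mk (Ideal.span ({t} : Set A))))))) q) := by

  have ht2 : t * t = 0 := hmt t ht
  refine Groth.Agent.Lib.Helper11.UnitsDefB.main
    (Ideal.Quotient.mk (Ideal.span ({t} : Set A))) (IsLocalRing.residue A)
    (X' ↘ Spec (CommRingCat.of A)) t Ideal.Quotient.mk_surjective Ideal.mk_ker ht2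
    Ideal.Quotient.mk_surjective ?_ q hvan
  intro x
  rw [IsLocalRing.residue_eq_zero_iff]
  constructor
  · intro hx
    exact hmt x hx
  · intro hx
    by_contra hxm
    have hu : IsUnit x := IsLocalRing.notMem_maximalIdeal.mp hxm
    obtain ⟨u, rfl⟩ := hu
    exact ht0 ((Units.mul_right_eq_zero u).mp hx)

end Groth.Agent.S18257
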