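import Groth.Statements.S18258
import Groth.Agent.Lib.Helper11.UnitsDefC

set_option autoImplicit false
universe u
open UnitsSh

namespace Groth.Agent.S18258

open CategoryTheory CategoryTheory.Limits AlgebraicGeometry in
/-- In the case of the multiplicative group, for schemes and with Zariski cohomology of the sheaf of
units. Let k be a field, X₀ a k-scheme, X' = X₀ ×_k Spec k[ε] (k[ε] the dual numbers) and i : X ⟶ X'
the closed subscheme ε = 0 (base change of X' along k[ε] → k, a copy of X₀). Then for every q the
kernel of the map H^q(X', O_{X'}^×) → H^q(X', i_* O_X^×) induced by the units map of i — the tangent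
space at the origin of the functor A ↦ H^q(X₀ ⊗_k A, O^×) on local Artinian k-algebras — is
isomorphic, as an additive group, to H^q(X, O_X). (Existence of an isomorphism only. The published
statement covers any smooth commutative group scheme in place of the multiplicative group, with the
Lie algebra of its closed fibre in place of the structure sheaf, and uses étale cohomology.) -/
theorem result
    (k : Type u) [Field k] (X₀ : Scheme.{u}) [X₀.Over (Spec (CommRingCat.of k))] (q : ℕ) :
    Nonempty ((Sheaf.H.map (UnitsSh.comap (pullback.fst (pullback.snd (X₀ ↘ Spec (CommRingCat.of k)) (Spec.map (CommRingCat.ofHom (algebraMap k (DualNumber k))))) (Spec.map (CommRingCat.ofHom (TrivSqZeroExt.fstHom k k k).toRingHom)))) q).ker ≃+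
      Coh.HH (pullback (pullback.snd (X₀ ↘ Spec (CommRingCat.of k)) (Spec.map (CommRingCat.ofHom (algebraMap k (DualNumber k))))) (Spec.map (CommRingCat.ofHom (TrivSqZeroExt.fstHom k k k).toRingHom))) (Coh.structureModule (pullback (pullback.snd (X₀ ↘ Spec (CommRingCat.of k)) (Spec.map (CommRingCat.ofHom (algebraMap k (DualNumber k))))) (Spec.map (CommRingCat.ofHom (TrivSqZeroExt.fstHom k k k).toRingHom)))) q) := by

  set g := X₀ ↘ Spec (CommRingCat.of k) with hg
  set h := Spec.map (CommRingCat.ofHom (algebraMap k (DualNumber k))) with hh
  set φ : DualNumber k →+* k := (TrivSqZeroExt.fstHom k k k).toRingHom with hφdef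
  set s := Spec.map (CommRingCat.ofHom φ) with hs
  haveI : Flat g := inferInstance
  haveI : Flat (pullback.snd g h) := inferInstance
  have hfst : ∀ x : DualNumber k, φ x = x.fst := fun x => rfl
  have hφs : Function.Surjective φ := fun x => ⟨TrivSqZeroExt.inl x, rfl⟩
  have hmul : ∀ x : DualNumber k, x * DualNumber.eps = TrivSqZeroExt.inr x.fst := by
    intro x
    apply TrivSqZeroExt.ext
    · simp
    · simp
  have hψ : ∀ x : DualNumber k, φ x = 0 ↔ x * DualNumber.eps = 0 := by
    intro x
    rw [hmul, hfst]
    constructor
    · intro hx; rw [hx]; exact TrivSqZeroExt.inr_zero _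
    · intro hx
      have := congrArg TrivSqZeroExt.snd hx
      simpa using this
  have hφ : RingHom.ker φ = Ideal.span {(DualNumber.eps : DualNumber k)} := by
    apply le_antisymm
    · intro x hx
      rw [RingHom.mem_ker, hfst] at hx
      rw [Ideal.mem_span_singleton']
      refine ⟨TrivSqZeroExt.inl x.snd, ?_⟩
      rw [hmul]
      apply TrivSqZeroExt.ext
      · simp [hx]
      · simp
    · rw [Ideal.span_le]
      intro x hx
      rw [Set.mem_singleton_iff] at hx
      rw [hx, SetLike.mem_coe, RingHom.mem_ker, hfst]
      exact DualNumber.fst_eps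
  have ht2 : (DualNumber.eps : DualNumber k) * DualNumber.eps = 0 := DualNumber.eps_mul_eps
  -- the retraction
  have sq1 : IsPullback (pullback.fst g h) (pullback.snd g h) g h := IsPullback.of_hasPullback g h
  have sq2 : IsPullback (pullback.fst (pullback.snd g h) s) (pullback.snd (pullback.snd g h) s)
      (pullback.snd g h) s := IsPullback.of_hasPullback _ _
  have sq3 := sq2.flip.paste_vert sq1.flip
  have hsh : s ≫ h = 𝟙 _ := by
    rw [hs, hh, ← Spec.map_comp]
    have : CommRingCat.ofHom (algebraMap k (DualNumber k)) ≫ CommRingCat.ofHom φ = 𝟙 _ := by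
      ext x
      rfl
    rw [this, Spec.map_id]
  haveI : IsIso (s ≫ h) := by rw [hsh]; infer_instance
  haveI : IsIso (pullback.fst (pullback.snd g h) s ≫ pullback.fst g h) :=
    sq3.isIso_snd_of_isIso
  exact Groth.Agent.Lib.Helper11.UnitsDefC.main φ (pullback.snd g h) DualNumber.eps hφs hφ ht2 hψ
    (pullback.fst g h ≫ inv (pullback.fst (pullback.snd g h) s ≫ pullback.fst g h))
    (by rw [← Category.assoc, IsIso.hom_inv_id]) q

end Groth.Agent.S18258
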