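import Groth.Statements.S18265
import Groth.Agent.Lib.Helper28.FixedClosed

set_option autoImplicit false
universe u
open InvQ

namespace Groth.Agent.S18265

/-- Let k be an algebraically closed field and n, m natural numbers, and let R be the ring of polynomial
functions of m vectors of k^(n+1) invariant under the special linear group SL(n+1, k) acting on all
the vectors at once and under the rescalings of the individual vectors by units with product 1
(equivalently: invariant and homogeneous of one and the same degree in each vector) — the graded
ring of invariant sections whose Proj is the quotient variety of ordered m-point sets in projective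
n-space. Then R is integrally closed in its field of fractions; hence that quotient variety is
normal. (Only the normality assertion of the source's statement is given here; its dimension,
rationality and singular-locus assertions are not.) -/
theorem result (k : Type u) [Field k] [IsAlgClosed k] (n m : ℕ) :
    IsIntegrallyClosed (W4c5pointsetsdelpezzo.invRing k n m) := by
  classical
  let ι := Matrix.SpecialLinearGroup (Fin (n + 1)) k ⊕ {s : Fin m → kˣ // ∏ i, s i = 1}
  let φ : ι → W4c5pointsetsdelpezzo.TupleRing k n m →ₐ[k] W4c5pointsetsdelpezzo.TupleRing k n m :=
    Sum.elim (W4c5pointsetsdelpezzo.slSubst k n m)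
      (fun s => W4c5pointsetsdelpezzo.colScale k n m s.1)
  apply Groth.Agent.Lib.Helper28.FixedClosed.isIntegrallyClosed_of_fixed
    (W4c5pointsetsdelpezzo.invRing k n m) φ
  intro p
  unfold W4c5pointsetsdelpezzo.invRing
  simp only [Algebra.mem_inf, Algebra.mem_iInf, AlgHom.mem_equalizer, AlgHom.id_apply]
  constructor
  · rintro ⟨h1, h2⟩ (g | s)
    · exact h1 g
    · exact h2 s
  · intro h
    exact ⟨fun g => h (Sum.inl g), fun s => h (Sum.inr s)⟩

end Groth.Agent.S18265
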