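import Groth.Statements.S1827
import Groth.Agent.Lib.Helper4.GorRing

set_option autoImplicit false
universe u
open CategoryTheory
attribute [local instance] HasDerivedCategory.standard
open Goren

namespace Groth.Agent.S1827

/-- Let A be a Noetherian Gorenstein ring and A → B a local complete intersection homomorphism (finite
type, with a presentation whose kernel is Koszul-regular). Then B is a Gorenstein ring. -/
theorem result (A B : Type u) [CommRing A] [CommRing B] [Algebra A B] (hA : LocCoh.IsGorensteinRing A) (h : LCI.IsLCI A B) : LocCoh.IsGorensteinRing B := by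
  obtain ⟨_, n, f, hf, hK⟩ := h
  have hP := Groth.Agent.Lib.Helper4.GorRing.gorRing_mvPolynomial A n hA
  have hq := Groth.Agent.Lib.Helper4.GorRing.gorRing_quot_of_isKoszulRegularIdeal hP
    (RingHom.ker f.toRingHom) hK
  exact Groth.Agent.Lib.Helper4.GorRing.gorRing_of_ringEquiv
    (RingHom.quotientKerEquivOfSurjective (f := f.toRingHom) hf) hq

end Groth.Agent.S1827
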