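import Groth.Statements.S18283
import Mathlib

set_option autoImplicit false
universe u v
open CAlgX

namespace Groth.Agent.S18283


section aux
variable {A : Type u} [CommRing A] {ι : Type v} [Fintype ι] [DecidableEq ι]

/-- the marked vector -/
def fvec (H : Finset ι) (c : ι → ι → A) (j : ι) : ι → A :=
  Pi.single j (1 : A) - ∑ i ∈ Hᶜ, c j i • Pi.single i (1 : A)

theorem fvec_apply_mem (H : Finset ι) (c : ι → ι → A) (j : ι) {l : ι} (hl : l ∈ H) :
    fvec H c j l = if l = j then 1 else 0 := by
  unfold fvec
  rw [Pi.sub_apply, Finset.sum_apply]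
  have h0 : ∑ i ∈ Hᶜ, (c j i • Pi.single i (1 : A)) l = 0 := by
    refine Finset.sum_eq_zero fun i hi => ?_
    have hne : l ≠ i := by rintro rfl; exact (Finset.mem_compl.mp hi) hl
    rw [Pi.smul_apply, Pi.single_apply, if_neg hne, smul_zero]
  rw [h0, sub_zero, Pi.single_apply]

theorem fvec_apply_not_mem (H : Finset ι) (c : ι → ι → A) {j i : ι} (hj : j ∈ H) (hi : i ∉ H) :
    fvec H c j i = - c j i := by
  unfold fvec
  rw [Pi.sub_apply, Finset.sum_apply]
  have hne : i ≠ j := by rintro rfl; exact hi hj
  rw [Pi.single_apply, if_neg hne, zero_sub]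
  congr 1
  rw [Finset.sum_eq_single i]
  · rw [Pi.smul_apply, Pi.single_apply, if_pos rfl, smul_eq_mul, mul_one]
  · intro b _ hb
    rw [Pi.smul_apply, Pi.single_apply, if_neg (Ne.symm hb), smul_zero]
  · intro h; exact absurd (Finset.mem_compl.mpr hi) h

theorem wedge_zero_of_span (H : Finset ι) (F : ι → (ι → A)) (v : Fin (H.card + 1) → ι → A)
    (hv : ∀ k, v k ∈ Submodule.span A (F '' ↑H)) :
    exteriorPower.ιMulti A (H.card + 1) v = 0 := by
  classical
  have hcoef : ∀ k, ∃ a : ι → A, v k = ∑ j ∈ H, a j • F j := by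
    intro k
    obtain ⟨l, hl, hlv⟩ := (Finsupp.mem_span_image_iff_linearCombination A).mp (hv k)
    refine ⟨l, ?_⟩
    rw [← hlv, Finsupp.linearCombination_apply]
    exact Finsupp.sum_of_support_subset l (Finset.coe_subset.mp ((Finsupp.mem_supported A l).mp hl)) _
      (fun j _ => zero_smul A (F j))
  choose a ha using hcoef
  have hv' : v = fun k => ∑ j ∈ H, a k j • F j := funext ha
  rw [hv']
  have h1 : exteriorPower.ιMulti A (H.card + 1) (fun k => ∑ j ∈ H, a k j • F j) =
      ∑ r ∈ Fintype.piFinset (fun _ : Fin (H.card + 1) => H),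
        exteriorPower.ιMulti A (H.card + 1) (fun k => a k (r k) • F (r k)) :=
    (exteriorPower.ιMulti A (H.card + 1)).toMultilinearMap.map_sum_finset
      (fun (k : Fin (H.card + 1)) (j : ι) => a k j • F j) (fun _ => H)
  rw [h1]
  refine Finset.sum_eq_zero fun r hr => ?_
  rw [Fintype.mem_piFinset] at hr
  have hsmul : exteriorPower.ιMulti A (H.card + 1) (fun k => a k (r k) • F (r k)) =
      (∏ k, a k (r k)) • exteriorPower.ιMulti A (H.card + 1) (fun k => F (r k)) :=
    (exteriorPower.ιMulti A (H.card + 1)).toMultilinearMap.map_smul_univ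
      (fun k => a k (r k)) (fun k => F (r k))
  rw [hsmul]
  obtain ⟨k, k', hkk', hr'⟩ : ∃ k k', k ≠ k' ∧ r k = r k' := by
    have hcard : Fintype.card H < Fintype.card (Fin (H.card + 1)) := by simp
    obtain ⟨k, k', hne, heq⟩ :=
      Fintype.exists_ne_map_eq_of_card_lt (fun k => (⟨r k, hr k⟩ : H)) hcard
    exact ⟨k, k', hne, congrArg Subtype.val heq⟩
  rw [(exteriorPower.ιMulti A (H.card + 1)).map_eq_zero_of_eq (fun k => F (r k))
    (by rw [hr']) hkk', smul_zero]

theorem key (H : Finset ι) (c : ι → ι → A) (M : Submodule A (ι → A))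
    (hf : ∀ j ∈ H, fvec H c j ∈ M)
    (hw : ∀ v : Fin (H.card + 1) → ι → A, (∀ k, v k ∈ M) →
      exteriorPower.ιMulti A (H.card + 1) v = 0)
    (v' : ι → A) (hv'M : v' ∈ M) (hv'H : ∀ l ∈ H, v' l = 0) (i : ι) (hi : i ∉ H) :
    v' i = 0 := by
  classical
  let e : H ≃ Fin H.card := H.equivFin
  let col : Fin (H.card + 1) → ι := Fin.snoc (α := fun _ => ι) (fun k => ((e.symm k : H) : ι)) i
  let w : Fin (H.card + 1) → ι → A :=
    Fin.snoc (α := fun _ => ι → A) (fun k => fvec H c ((e.symm k : H) : ι)) v'
  have hcolc : ∀ k : Fin H.card, col k.castSucc = ((e.symm k : H) : ι) := fun k => by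
    simp only [col, Fin.snoc_castSucc]
  have hcoll : col (Fin.last _) = i := by simp only [col, Fin.snoc_last]
  have hwc : ∀ k : Fin H.card, w k.castSucc = fvec H c ((e.symm k : H) : ι) := fun k => by
    simp only [w, Fin.snoc_castSucc]
  have hwl : w (Fin.last _) = v' := by simp only [w, Fin.snoc_last]
  have hwM : ∀ k, w k ∈ M := by
    intro k
    refine Fin.lastCases ?_ (fun k => ?_) k
    · rw [hwl]; exact hv'M
    · rw [hwc]; exact hf _ (e.symm k).2
  have h0 := hw w hwM
  let D : (ι → A) [⋀^Fin (H.card + 1)]→ₗ[A] A :=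
    (Matrix.detRowAlternating (n := Fin (H.card + 1)) (R := A)).compLinearMap
      (LinearMap.funLeft A A col)
  have h1 : D w = 0 := by
    have h := exteriorPower.alternatingMapLinearEquiv_apply_ιMulti D w
    rw [h0, map_zero] at h
    exact h.symm
  have h2 : D w = Matrix.det (Matrix.of fun a b => w a (col b)) := rfl
  have htri : (Matrix.of fun a b => w a (col b)).IsUpperTriangular := by
    intro a b hab
    simp only [id] at hab
    show w a (col b) = 0
    revert hab
    refine Fin.lastCases ?_ (fun k => ?_) a
    · refine Fin.lastCases ?_ (fun l => ?_) b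
      · intro h; exact absurd h (lt_irrefl _)
      · intro _
        rw [hwl, hcolc]
        exact hv'H _ (e.symm l).2
    · refine Fin.lastCases ?_ (fun l => ?_) b
      · intro h
        exact absurd h (not_lt.mpr (Fin.le_last _))
      · intro h
        rw [hwc, hcolc, fvec_apply_mem H c _ (e.symm l).2]
        have hlk : l ≠ k := ne_of_lt (by simpa using h)
        have : ((e.symm l : H) : ι) ≠ ((e.symm k : H) : ι) := fun hh =>
          hlk (e.symm.injective (Subtype.ext hh))
        rw [if_neg this]
  rw [h2, Matrix.det_of_isUpperTriangular htri, Fin.prod_univ_castSucc] at h1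
  simp only [Matrix.of_apply] at h1
  rw [hwl, hcoll] at h1
  have hdiag : ∀ k : Fin H.card, w k.castSucc (col k.castSucc) = 1 := by
    intro k
    rw [hwc, hcolc, fvec_apply_mem H c _ (e.symm k).2, if_pos rfl]
  simp only [hdiag, Finset.prod_const_one, one_mul] at h1
  exact h1

theorem mem_span_of_wedge (H : Finset ι) (c : ι → ι → A) (M : Submodule A (ι → A))
    (hf : ∀ j ∈ H, fvec H c j ∈ M)
    (hw : ∀ v : Fin (H.card + 1) → ι → A, (∀ k, v k ∈ M) →
      exteriorPower.ιMulti A (H.card + 1) v = 0)
    (v : ι → A) (hv : v ∈ M) : v ∈ Submodule.span A (fvec H c '' ↑H) := by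
  classical
  have hv'M : v - ∑ j ∈ H, v j • fvec H c j ∈ M :=
    M.sub_mem hv (M.sum_mem fun j hj => M.smul_mem _ (hf j hj))
  have hv'H : ∀ l ∈ H, (v - ∑ j ∈ H, v j • fvec H c j) l = 0 := by
    intro l hl
    rw [Pi.sub_apply, Finset.sum_apply]
    have h : ∑ j ∈ H, (v j • fvec H c j) l = v l := by
      rw [Finset.sum_eq_single l]
      · rw [Pi.smul_apply, fvec_apply_mem H c l hl, if_pos rfl, smul_eq_mul, mul_one]
      · intro j _ hjl
        rw [Pi.smul_apply, fvec_apply_mem H c j hl, if_neg (Ne.symm hjl), smul_zero]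
      · intro h; exact absurd hl h
    rw [h, sub_self]
  have hv'0 : v - ∑ j ∈ H, v j • fvec H c j = 0 := by
    funext i
    by_cases hi : i ∈ H
    · exact hv'H i hi
    · exact key H c M hf hw _ hv'M hv'H i hi
  rw [sub_eq_zero] at hv'0
  rw [hv'0]
  exact Submodule.sum_mem _ fun j hj =>
    Submodule.smul_mem _ _ (Submodule.subset_span ⟨j, hj, rfl⟩)

end aux

/-- Let A be a commutative ring, ι a finite index type, H a finite set of indices (the head indices) and
c : ι → ι → A a table of coefficients; for j ∈ H put f_j = e_j − Σ_{i ∉ H} c_{ji} e_i in the free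
module A^ι, so that each f_j has head e_j with coefficient 1 and tail supported outside H. If a
submodule M of A^ι contains every f_j with j ∈ H, then M is the A-span of these f_j if and only if
every wedge product of |H|+1 elements of M vanishes in the (|H|+1)-st exterior power of A^ι
(equivalently, every (|H|+1)-minor of every matrix whose rows lie in M vanishes). The published
statement is the case where A is a Noetherian algebra over a field of characteristic zero, A^ι is
the degree-(m+1) part of the polynomial ring over A with its basis of terms, H is the set of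
degree-(m+1) terms of a strongly stable monomial ideal generated in degree m, and M is the
degree-(m+1) part of an ideal generated by a marked set on that monomial ideal; this row allows any
commutative ring and any submodule containing the marked polynomials. -/
theorem result
    {A : Type u} [CommRing A] {ι : Type v} [Fintype ι] [DecidableEq ι]
    (H : Finset ι) (c : ι → ι → A) (M : Submodule A (ι → A))
    (hf : ∀ j ∈ H, (Pi.single j (1 : A) - ∑ i ∈ Hᶜ, c j i • Pi.single i (1 : A)) ∈ M) :
    M = Submodule.span A ((fun j => Pi.single j (1 : A) - ∑ i ∈ Hᶜ, c j i • Pi.single i (1 : A)) '' ↑H)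
      ↔ ∀ v : Fin (H.card + 1) → ι → A, (∀ k, v k ∈ M) →
          exteriorPower.ιMulti A (H.card + 1) v = 0 := by
  constructor
  · intro hM v hv
    apply wedge_zero_of_span H (fvec H c) v
    intro k
    have := hv k
    rw [hM] at this
    exact this
  · intro hw
    apply le_antisymm
    · intro v hv
      exact mem_span_of_wedge H c M hf hw v hv
    · apply Submodule.span_le.mpr
      rintro _ ⟨j, hj, rfl⟩
      exact hf j hj

end Groth.Agent.S18283
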