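import Groth.Statements.S1829
import Mathlib
import Groth.Agent.Lib.Helper18.FlatGorD
import Groth.Agent.Lib.Helper4.GorLCI

set_option autoImplicit false
universe u
open CategoryTheory
attribute [local instance] HasDerivedCategory.standard
open Dual

namespace Groth.Agent.S1829

/-- Let A → B be a faithfully flat local complete intersection homomorphism of Noetherian rings and K an
object of D(A); assume the derived base change functor D(A) → D(B) exists. Then K is a dualizing
complex for A if and only if its base change is a dualizing complex for B. -/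
theorem result (A B : Type u) [CommRing A] [CommRing B] [Algebra A B] [IsNoetherianRing A] [IsNoetherianRing B] [Module.FaithfullyFlat A B] (hl : LCI.IsLCI A B) [DRing.HasLBaseChange (algebraMap A B)] (K : Dual.D A) : Dual.IsDualizing A K ↔ Dual.IsDualizing B ((DRing.LBaseChange (algebraMap A B)).obj K) := by
  obtain ⟨hft, n, f, hf, hK⟩ := hl
  haveI := hft
  have hG : ∀ p : PrimeSpectrum A, LocCoh.IsGorensteinRing (TensorProduct A B p.asIdeal.ResidueField) :=
    fun p => Groth.Agent.Lib.Helper4.GorLCI.gorRing_tensor_of_flat_lci A n B f
      p.asIdeal.ResidueField hf hK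
  obtain ⟨e⟩ := Groth.Agent.Lib.Helper18.DR.HomBC.nonempty_LBaseChange_iso_extD (A := A) (B := B) K
  rw [Groth.Agent.Lib.Helper18.DR.FlatGor.isDualizing_iff_extD_of_gorenstein_fibres
    (fun q => Groth.Agent.Lib.Helper18.DR.FlatGor.gor_fibLocRing_of_tensor_residueField hG q) K]
  exact ⟨fun h => Groth.Agent.Lib.Helper18.DR.HomBC.isDualizing_of_iso e.symm h,
    fun h => Groth.Agent.Lib.Helper18.DR.HomBC.isDualizing_of_iso e h⟩

end Groth.Agent.S1829
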