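import Groth.Statements.S1830
import Groth.Agent.Lib.Helper4.GorLCI

set_option autoImplicit false
universe u
open CategoryTheory
open scoped TensorProduct
attribute [local instance] HasDerivedCategory.standard
open Goren

namespace Groth.Agent.S1830

/-- A flat local complete intersection ring map has Gorenstein fibres: let A → B be a flat ring
homomorphism which is a local complete intersection. Then for every prime p of A the fibre ring B
⊗_A κ(p) is a Gorenstein ring. (This is the affine form of the statement that a syntomic morphism is
a Gorenstein morphism.) -/
theorem result (A B : Type u) [CommRing A] [CommRing B] [Algebra A B] [Module.Flat A B] (hl : LCI.IsLCI A B) (p : PrimeSpectrum A) : LocCoh.IsGorensteinRing (B ⊗[A] p.asIdeal.ResidueField) := by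
  obtain ⟨_, n, f, hf, hK⟩ := hl
  exact Groth.Agent.Lib.Helper4.GorLCI.gorRing_tensor_of_flat_lci A n B f
    p.asIdeal.ResidueField hf hK

end Groth.Agent.S1830
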