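import Groth.Statements.S18300
import Groth.Prelude.Def_Magnet3
import Groth.Prelude.Def_ActBC

set_option autoImplicit false
universe u
open CategoryTheory MonoidalCategory CartesianMonoidalCategory MonObj AlgebraicGeometry Opposite
open Magnet

namespace Groth.Agent.S18300

open CategoryTheory.Limits in
/-- monoid-object version of `ActBC.equivIsoBcComp`. -/
theorem bcComp_act {S S' S'' : Scheme.{u}} (f : S'' ⟶ S') (g : S' ⟶ S) {d : S'' ⟶ S} (h : f ≫ g = d)
    {A X : Over S} [MonObj A] (a : Magnet.MonAct A X) :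
    ((a.bc g).bc f).act ≫ (ActBC.bcCompIso f g X h).hom =
      (Red.bc f (Red.bc g A) ◁ (ActBC.bcCompIso f g X h).hom) ≫
        ((ActBC.bcCompIso f g A h).hom ▷ Red.bc d X) ≫ (a.bc d).act := by
  ext
  apply pullback.hom_ext
  · simp only [Magnet.MonAct.bc_act, Over.comp_left, Category.assoc,
      ActBC.bcCompIso_hom_left_fst, ActBC.pullback_map_left_fst, ActBC.pullback_map_left_fst_assoc]
    simp only [← Category.assoc]
    congr 1
    simp only [Category.assoc]
    apply pullback.hom_ext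
    · simp only [Category.assoc]
      rw [ActBC.μ_left_fst_fst, ActBC.μ_left_fst_fst_assoc, ActBC.μ_left_fst_fst,
        Over.whiskerRight_left_fst_assoc,
        Over.whiskerLeft_left_fst_assoc, ActBC.bcCompIso_hom_left_fst]
    · simp only [Category.assoc]
      rw [ActBC.μ_left_fst_snd, ActBC.μ_left_fst_snd_assoc, ActBC.μ_left_fst_snd,
        Over.whiskerRight_left_snd_assoc,
        Over.whiskerLeft_left_snd_assoc, ActBC.bcCompIso_hom_left_fst]
  · exact (Over.w _).trans (Over.w _).symm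

/-- transfer of equivariance along compatible isomorphisms -/
theorem isEquivariant_conj_iff {C : Type*} [Category C] [CartesianMonoidalCategory C]
    {A A' B B' X X' : C} [MonObj A] [MonObj A']
    (ρ : Magnet.MonAct A B) (a : Magnet.MonAct A X) (ρ' : Magnet.MonAct A' B') (a' : Magnet.MonAct A' X')
    (eA : A ≅ A') (eB : B ≅ B') (eX : X ≅ X')
    (hB : ρ.act ≫ eB.hom = (A ◁ eB.hom) ≫ (eA.hom ▷ B') ≫ ρ'.act)
    (hX : a.act ≫ eX.hom = (A ◁ eX.hom) ≫ (eA.hom ▷ X') ≫ a'.act)
    (ψ : B' ⟶ X') :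
    Magnet.MonAct.IsEquivariant ρ a (eB.hom ≫ ψ ≫ eX.inv) ↔ Magnet.MonAct.IsEquivariant ρ' a' ψ := by
  unfold Magnet.MonAct.IsEquivariant
  have h1 : ρ.act ≫ eB.hom ≫ ψ ≫ eX.inv = ((A ◁ eB.hom) ≫ (eA.hom ▷ B')) ≫ (ρ'.act ≫ ψ) ≫ eX.inv := by
    rw [← Category.assoc ρ.act, hB]; simp only [Category.assoc]
  have h2 : (A ◁ (eB.hom ≫ ψ ≫ eX.inv)) ≫ a.act =
      ((A ◁ eB.hom) ≫ (eA.hom ▷ B')) ≫ ((A' ◁ ψ) ≫ a'.act) ≫ eX.inv := by
    have : a.act = ((A ◁ eX.hom) ≫ (eA.hom ▷ X') ≫ a'.act) ≫ eX.inv := by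
      rw [← hX, Category.assoc, Iso.hom_inv_id, Category.comp_id]
    rw [this]
    simp only [MonoidalCategory.whiskerLeft_comp, Category.assoc]
    rw [← MonoidalCategory.whiskerLeft_comp_assoc A eX.inv eX.hom, Iso.inv_hom_id,
      MonoidalCategory.whiskerLeft_id, Category.id_comp, ← whisker_exchange_assoc]
  rw [h1, h2]
  constructor
  · intro h
    have h3 := (cancel_epi _).1 h
    exact (cancel_mono _).1 h3
  · intro h
    rw [h]

/-- conjugation equivalence between subtypes of equivariant morphisms -/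
def conjEquiv {C : Type*} [Category C] [CartesianMonoidalCategory C]
    {A A' B B' X X' : C} [MonObj A] [MonObj A']
    (ρ : Magnet.MonAct A B) (a : Magnet.MonAct A X) (ρ' : Magnet.MonAct A' B') (a' : Magnet.MonAct A' X')
    (eA : A ≅ A') (eB : B ≅ B') (eX : X ≅ X')
    (hB : ρ.act ≫ eB.hom = (A ◁ eB.hom) ≫ (eA.hom ▷ B') ≫ ρ'.act)
    (hX : a.act ≫ eX.hom = (A ◁ eX.hom) ≫ (eA.hom ▷ X') ≫ a'.act) :
    {ψ : B' ⟶ X' // Magnet.MonAct.IsEquivariant ρ' a' ψ} ≃
      {ψ : B ⟶ X // Magnet.MonAct.IsEquivariant ρ a ψ} where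
  toFun ψ := ⟨eB.hom ≫ ψ.1 ≫ eX.inv, (isEquivariant_conj_iff ρ a ρ' a' eA eB eX hB hX ψ.1).2 ψ.2⟩
  invFun ψ := ⟨eB.inv ≫ ψ.1 ≫ eX.hom, (isEquivariant_conj_iff ρ a ρ' a' eA eB eX hB hX _).1 (by
      simpa only [Category.assoc, Iso.hom_inv_id, Category.comp_id, Iso.hom_inv_id_assoc] using ψ.2)⟩
  left_inv ψ := Subtype.ext (by simp)
  right_inv ψ := Subtype.ext (by simp)

theorem main {S : Scheme.{u}} {A B X : Over S} [MonObj A] (ρ : Magnet.MonAct A B) (a : Magnet.MonAct A X)
    (T : Over S) (T'' : Over T.left) :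
    ∃ Φ : (Magnet.MonAct.eqvHom ρ a).obj (op ((Over.map T.hom).obj T'')) ≃
        (Magnet.MonAct.eqvHom (ρ.bc T.hom) (a.bc T.hom)).obj (op T''),
      ∀ φ, (Magnet.eqvHomEquivBc T'' (ρ.bc T.hom) (a.bc T.hom) (Φ φ)).1 ≫
          (ActBC.bcCompIso T''.hom T.hom X rfl).hom =
        (ActBC.bcCompIso T''.hom T.hom B rfl).hom ≫
          (Magnet.eqvHomEquivBc ((Over.map T.hom).obj T'') ρ a φ).1 := by
  refine ⟨((Magnet.eqvHomEquivBc ((Over.map T.hom).obj T'') ρ a).trans
    (conjEquiv ((ρ.bc T.hom).bc T''.hom) ((a.bc T.hom).bc T''.hom)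
      (ρ.bc (T''.hom ≫ T.hom)) (a.bc (T''.hom ≫ T.hom))
      (ActBC.bcCompIso T''.hom T.hom A rfl) (ActBC.bcCompIso T''.hom T.hom B rfl)
      (ActBC.bcCompIso T''.hom T.hom X rfl)
      (bcComp_act T''.hom T.hom rfl ρ) (bcComp_act T''.hom T.hom rfl a))).trans
    (Magnet.eqvHomEquivBc T'' (ρ.bc T.hom) (a.bc T.hom)).symm, fun φ => ?_⟩
  rw [Equiv.trans_apply, Equiv.apply_symm_apply, Equiv.trans_apply]
  simp only [conjEquiv, Equiv.coe_fn_mk, Category.assoc, Iso.inv_hom_id, Category.comp_id]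

/-- Let X be an S-scheme with an action of the diagonalizable monoid scheme A(M)_S of a commutative
monoid M, N a submonoid of M, and T an S-scheme; X_T = X ×_S T carries the base-changed action of
A(M)_T. Then X^N ×_S T = (X_T)^N objectwise: for every scheme T'' over T, the value of the attractor
X^N at T'' (regarded over S) is in bijection with the value at T'' of the attractor of X_T, namely
the maps A(N)_T ×_T T'' → X_T equivariant for the base-changed actions; the bijection is pinned by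
requiring that, under the identifications of both sides with equivariant morphisms between base
changes to T'', it is conjugation by the canonical isomorphisms (Y ×_S T) ×_T T'' ≅ Y ×_S T'' for Y
= A(N)_S and Y = X. (Naturality in T'' is not part of this statement; X may be an algebraic space in
the source, here it is a scheme.) -/
theorem result (S : Scheme.{u}) (M : Type) [AddCommMonoid M] (N : AddSubmonoid M)
    (X : Over S) (a : Magnet.MonAct (Magnet.AMonS S M) X) (T : Over S) (T'' : Over T.left) :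
    ∃ Φ : (Magnet.attr a N).obj (op ((Over.map T.hom).obj T'')) ≃
        (Magnet.MonAct.eqvHom ((Magnet.subAct S M N).bc T.hom) (a.bc T.hom)).obj (op T''),
      ∀ φ, (Magnet.eqvHomEquivBc T'' ((Magnet.subAct S M N).bc T.hom) (a.bc T.hom) (Φ φ)).1 ≫
          (ActBC.bcCompIso T''.hom T.hom X rfl).hom =
        (ActBC.bcCompIso T''.hom T.hom (Magnet.AMonS S N) rfl).hom ≫
          (Magnet.eqvHomEquivBc ((Over.map T.hom).obj T'') (Magnet.subAct S M N) a φ).1 := by
  exact main (Magnet.subAct S M N) a T T''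

end Groth.Agent.S18300
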