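import Groth.Statements.S18309
import Groth.Agent.Lib.Helper16.EtNbhd5
import Groth.Agent.Lib.Helper16.FibreProduct
import Groth.Agent.Lib.Helper16.LocPGen

set_option autoImplicit false
universe u
open CategoryTheory CategoryTheory.Limits AlgebraicGeometry
open AlgSp

namespace Groth.Agent.S18309

/-- Let S be a scheme, f : Z → X a morphism of algebraic spaces over S which is smooth (étale locally on
source and target), R a Henselian local ring with residue field k = R/m and structure morphism Spec
R → S, z : h_{Spec R} → X an R-point of X, and z₀' : h_{Spec k} → Z a k-point of Z whose composite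
with f is the restriction of z to Spec k. Then there is an R-point z' : h_{Spec R} → Z with z'
followed by f equal to z and whose restriction to Spec k is z₀'. The source states this for X an
algebraic stack (lifting up to isomorphism); the algebraic-space case is stated here. -/
theorem result {S : Scheme.{u}} {Z X : AlgSp.Space S}
    (f : Z ⟶ X) (hf : AlgSp.LocP @Smooth f.hom)
    (R : Type u) [CommRing R] [HenselianLocalRing R] (str : Spec (CommRingCat.of R) ⟶ S)
    (z : (AlgSp.yon S).obj (Over.mk str) ⟶ X.obj)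
    (z₀ : (AlgSp.yon S).obj (Over.mk (Spec.map (CommRingCat.ofHom (IsLocalRing.residue R)) ≫ str)) ⟶ Z.obj)
    (w : z₀ ≫ f.hom = (AlgSp.yon S).map (Over.homMk (Spec.map (CommRingCat.ofHom (IsLocalRing.residue R))) rfl :
        Over.mk (Spec.map (CommRingCat.ofHom (IsLocalRing.residue R)) ≫ str) ⟶ Over.mk str) ≫ z) :
    ∃ z' : (AlgSp.yon S).obj (Over.mk str) ⟶ Z.obj, z' ≫ f.hom = z ∧
      (AlgSp.yon S).map (Over.homMk (Spec.map (CommRingCat.ofHom (IsLocalRing.residue R))) rfl :
        Over.mk (Spec.map (CommRingCat.ofHom (IsLocalRing.residue R)) ≫ str) ⟶ Over.mk str) ≫ z' = z₀ := by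
  obtain ⟨κ, hκ⟩ : ∃ κ : Over.mk (Spec.map (CommRingCat.ofHom (IsLocalRing.residue R)) ≫ str) ⟶ Over.mk str,
      κ = (Over.homMk (Spec.map (CommRingCat.ofHom (IsLocalRing.residue R))) rfl :
        Over.mk (Spec.map (CommRingCat.ofHom (IsLocalRing.residue R)) ≫ str) ⟶ Over.mk str) := ⟨_, rfl⟩
  rw [← hκ] at w ⊢
  have hκl : κ.left = Spec.map (CommRingCat.ofHom (IsLocalRing.residue R)) := by rw [hκ]; rfl
  have sq := IsPullback.of_hasPullback f.hom z
  have hY : AlgSp.IsAlgSpace (pullback f.hom z) :=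
    Groth.Agent.Lib.Helper16.isAlgSpace_of_isPullback Z.property X.property.diag (AlgSp.IsAlgSpace.yon_obj _) sq
  have hpr₂ : AlgSp.LocP @Smooth (pullback.snd f.hom z) :=
    Groth.Agent.Lib.Helper16.locP_of_isPullback Groth.Agent.Lib.Helper16.etLocalST_smooth Z.property X.property sq hf
  haveI : Subsingleton ↥(Over.mk (Spec.map (CommRingCat.ofHom (IsLocalRing.residue R)) ≫ str)).left :=
    inferInstanceAs (Subsingleton (PrimeSpectrum (IsLocalRing.ResidueField R)))
  haveI : Nonempty ↥(Over.mk (Spec.map (CommRingCat.ofHom (IsLocalRing.residue R)) ≫ str)).left :=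
    inferInstanceAs (Nonempty (PrimeSpectrum (IsLocalRing.ResidueField R)))
  haveI : IsAffine (Over.mk (Spec.map (CommRingCat.ofHom (IsLocalRing.residue R)) ≫ str)).left :=
    inferInstanceAs (IsAffine (Spec (CommRingCat.of (IsLocalRing.ResidueField R))))
  obtain ⟨Z', p', g₀, hZ', hp', hg₀⟩ := Groth.Agent.Lib.Helper16.EtNbhd.exists_affine_etale_nbhd hY
    (Over.mk (Spec.map (CommRingCat.ofHom (IsLocalRing.residue R)) ≫ str))
    (pullback.lift z₀ ((AlgSp.yon S).map κ) w)
  obtain ⟨m, hm⟩ := (AlgSp.yon S).map_surjective (p' ≫ pullback.snd f.hom z)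
  have hms : Smooth m.left := hpr₂ p' (𝟙 _) m hp' (AlgSp.repWith_id _ _) (by rw [hm, Category.comp_id])
  have hgm : g₀ ≫ m = κ := by
    apply (AlgSp.yon S).map_injective
    rw [Functor.map_comp, hm, ← Category.assoc, hg₀, pullback.lift_snd]
  have h1 : g₀.left ≫ m.left = Spec.map (CommRingCat.ofHom (IsLocalRing.residue R)) := by
    rw [← Over.comp_left, hgm, hκl]
  obtain ⟨s, hs1, hs2⟩ := Groth.Agent.Lib.Helper8.SmoothSection.exists_section_of_smooth_scheme R
    (X := Z'.left) m.left g₀.left h1
  have hsw : s ≫ Z'.hom = str := by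
    rw [← Over.w m, ← Category.assoc, hs1]
    exact Category.id_comp _
  let s' : Over.mk str ⟶ Z' := Over.homMk s hsw
  have hs'm : s' ≫ m = 𝟙 _ := Over.OverMorphism.ext hs1
  have hκs : κ ≫ s' = g₀ := Over.OverMorphism.ext (by rw [Over.comp_left, hκl]; exact hs2)
  refine ⟨(AlgSp.yon S).map s' ≫ p' ≫ pullback.fst f.hom z, ?_, ?_⟩
  · calc ((AlgSp.yon S).map s' ≫ p' ≫ pullback.fst f.hom z) ≫ f.hom
        = (AlgSp.yon S).map s' ≫ (p' ≫ pullback.snd f.hom z) ≫ z := by
          simp only [Category.assoc, pullback.condition]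
      _ = (AlgSp.yon S).map (s' ≫ m) ≫ z := by rw [← hm, Functor.map_comp, Category.assoc]
      _ = z := by rw [hs'm, CategoryTheory.Functor.map_id, Category.id_comp]
  · calc (AlgSp.yon S).map κ ≫ (AlgSp.yon S).map s' ≫ p' ≫ pullback.fst f.hom z
        = ((AlgSp.yon S).map (κ ≫ s') ≫ p') ≫ pullback.fst f.hom z := by
          simp only [Functor.map_comp, Category.assoc]
      _ = z₀ := by rw [hκs, hg₀, pullback.lift_fst]
end Groth.Agent.S18309
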