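import Groth.Statements.S18312
import Groth.Agent.Lib.Helper16.EtNbhd4

set_option autoImplicit false
universe u
open CategoryTheory CategoryTheory.Limits AlgebraicGeometry
open AlgSp

namespace Groth.Agent.S18312

/-- Let S be a scheme, X an algebraic space over S, and R a Henselian local ring with residue field k =
R/m and a structure morphism Spec R → S, and suppose that the set of k-points h_{Spec k} → X over S
is finite. Then there are an affine scheme Z over S and a representable étale morphism p : h_Z → X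
such that, for every ideal a of R, every point h_{Spec (R/a)} → X over S is h_g followed by p for
some S-morphism g : Spec (R/a) → Z. The source states this for algebraic stacks whose diagonal has a
separated S-fibre over the image of the closed point, with Z smooth over the stack in general, Z
étale over it when the stack is an algebraic space (a clause of the same statement; no
quasi-separatedness assumed), finitely many isomorphism classes over k, and essential surjectivity;
only the algebraic-space case is stated here. -/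
theorem result {S : Scheme.{u}} (X : AlgSp.Space S)
    (R : Type u) [CommRing R] [HenselianLocalRing R] (str : Spec (CommRingCat.of R) ⟶ S)
    (hfin : Finite ((AlgSp.yon S).obj (Over.mk (Spec.map (CommRingCat.ofHom (IsLocalRing.residue R)) ≫ str)) ⟶ X.obj)) :
    ∃ (Z : Over S) (p : (AlgSp.yon S).obj Z ⟶ X.obj), IsAffine Z.left ∧ AlgSp.RepWith @Etale p ∧
      ∀ (a : Ideal R) (x : (AlgSp.yon S).obj (Over.mk (Spec.map (CommRingCat.ofHom (Ideal.Quotient.mk a)) ≫ str)) ⟶ X.obj),
        ∃ g : Over.mk (Spec.map (CommRingCat.ofHom (Ideal.Quotient.mk a)) ≫ str) ⟶ Z, (AlgSp.yon S).map g ≫ p = x := by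
  classical
  haveI hsub : Subsingleton ↥(Over.mk (Spec.map (CommRingCat.ofHom (IsLocalRing.residue R)) ≫ str)).left :=
    inferInstanceAs (Subsingleton (PrimeSpectrum (IsLocalRing.ResidueField R)))
  haveI hne : Nonempty ↥(Over.mk (Spec.map (CommRingCat.ofHom (IsLocalRing.residue R)) ≫ str)).left :=
    inferInstanceAs (Nonempty (PrimeSpectrum (IsLocalRing.ResidueField R)))
  haveI haff : IsAffine (Over.mk (Spec.map (CommRingCat.ofHom (IsLocalRing.residue R)) ≫ str)).left :=
    inferInstanceAs (IsAffine (Spec (CommRingCat.of (IsLocalRing.ResidueField R))))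
  have hdata : ∀ j : (AlgSp.yon S).obj (Over.mk (Spec.map (CommRingCat.ofHom (IsLocalRing.residue R)) ≫ str)) ⟶ X.obj,
      ∃ (Zj : Over S) (pj : (AlgSp.yon S).obj Zj ⟶ X.obj)
        (gj : Over.mk (Spec.map (CommRingCat.ofHom (IsLocalRing.residue R)) ≫ str) ⟶ Zj),
        IsAffine Zj.left ∧ AlgSp.RepWith @Etale pj ∧ (AlgSp.yon S).map gj ≫ pj = j := fun j =>
    Groth.Agent.Lib.Helper16.EtNbhd.exists_affine_etale_nbhd X.property _ j
  choose Zj pj gj hZj hpj hgj using hdata
  haveI := hfin
  obtain ⟨p, hpe, hp⟩ := Groth.Agent.Lib.Helper16.EtNbhd.exists_desc_etale X.property Zj pj hpj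
  refine ⟨Groth.Agent.Lib.Helper16.SpCoprod.sig Zj, p, ?_, hpe, ?_⟩
  · haveI := hZj
    show IsAffine (∐ fun j => (Zj j).left)
    infer_instance
  · intro a x
    by_cases ha : a = ⊤
    · haveI : IsEmpty ↥(Over.mk (Spec.map (CommRingCat.ofHom (Ideal.Quotient.mk a)) ≫ str)).left :=
        Groth.Agent.Lib.Helper16.EtNbhd.isEmpty_spec_quotient_top R a ha
      exact Groth.Agent.Lib.Helper16.EtNbhd.exists_hom_of_isEmpty _ _ p x
    · haveI : HenselianLocalRing (R ⧸ a) := Groth.Agent.Lib.Helper8.henselianLocalRing_quotient R a ha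
      obtain ⟨τ, hτ⟩ := Groth.Agent.Lib.Helper16.EtNbhd.exists_residue_iso R a ha str
      obtain ⟨y₀, hy₀⟩ : ∃ y₀, y₀ = (AlgSp.yon S).map (Groth.Agent.Lib.Helper16.EtNbhd.resOver (R ⧸ a)
          (Spec.map (CommRingCat.ofHom (Ideal.Quotient.mk a)) ≫ str)) ≫ x := ⟨_, rfl⟩
      obtain ⟨j, hj⟩ : ∃ j, j = (AlgSp.yon S).map (inv τ) ≫ y₀ := ⟨_, rfl⟩
      have h₀ : (AlgSp.yon S).map (τ ≫ gj j ≫ Groth.Agent.Lib.Helper16.SpCoprod.sigι Zj j) ≫ p = y₀ := by
        calc (AlgSp.yon S).map (τ ≫ gj j ≫ Groth.Agent.Lib.Helper16.SpCoprod.sigι Zj j) ≫ p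
            = (AlgSp.yon S).map τ ≫ (AlgSp.yon S).map (gj j) ≫
                (AlgSp.yon S).map (Groth.Agent.Lib.Helper16.SpCoprod.sigι Zj j) ≫ p := by
              simp only [Functor.map_comp, Category.assoc]
          _ = (AlgSp.yon S).map τ ≫ j := by rw [hp, hgj]
          _ = ((AlgSp.yon S).map τ ≫ (AlgSp.yon S).map (inv τ)) ≫ y₀ := by rw [hj, Category.assoc]
          _ = y₀ := by
              rw [← Functor.map_comp, IsIso.hom_inv_id, CategoryTheory.Functor.map_id, Category.id_comp]
      obtain ⟨g, hg, -⟩ := Groth.Agent.Lib.Helper16.EtNbhd.exists_lift_of_henselian (R ⧸ a) _ x p hpe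
        (τ ≫ gj j ≫ Groth.Agent.Lib.Helper16.SpCoprod.sigι Zj j) (by rw [h₀, hy₀])
      exact ⟨g, hg⟩
end Groth.Agent.S18312
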