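import Groth.Statements.S18329
import Groth.Agent.Lib.Helper19.Pi0

set_option autoImplicit false
universe u
open TensorProduct
open SGA3
open Groth.Agent.Lib.Helper19

namespace Groth.Agent.S18329

/-- Let k be an algebraically closed field of prime characteristic p and A a commutative Hopf algebra
over k, the coordinate ring of an affine k-group G, quotient groups of G being read as
sub-Hopf-algebras of A (subalgebras stable under comultiplication and antipode). Let B₀ be the
subalgebra of elements of A that are separable over k (its spectrum is the group of connected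
components π₀(G)) and let C be the largest cocommutative sub-Hopf-algebra of A (its spectrum is the
largest commutative quotient group G_ab). Then B₀ ⊓ C, whose spectrum is π₀(G_ab), is the largest
cocommutative sub-Hopf-algebra of A contained in B₀, whose spectrum is the largest commutative
quotient of π₀(G): the canonical homomorphism from π₀(G_ab) to (π₀(G))_ab is an isomorphism. (The
abelianization is rendered through its universal property among affine quotient groups, as the
largest cocommutative sub-Hopf-algebra, rather than as the quotient by the derived subgroup.) -/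
theorem result (k A : Type u) [Field k] [IsAlgClosed k]
    (p : ℕ) [Fact p.Prime] [CharP k p] [CommRing A] [HopfAlgebra k A]
    (B₀ : Subalgebra k A) (hB₀ : ∀ a : A, a ∈ B₀ ↔ IsSeparable k a)
    (C : Subalgebra k A) (hC : SGA3.IsHopfSubalgebra k A C)
    (hCc : ∀ c ∈ C, TensorProduct.comm k A A (Coalgebra.comul c) = Coalgebra.comul c)
    (hCmax : ∀ D : Subalgebra k A, SGA3.IsHopfSubalgebra k A D →
      (∀ d ∈ D, TensorProduct.comm k A A (Coalgebra.comul d) = Coalgebra.comul d) → D ≤ C) :
    IsGreatest {D : Subalgebra k A | SGA3.IsHopfSubalgebra k A D ∧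
      (∀ d ∈ D, TensorProduct.comm k A A (Coalgebra.comul d) = Coalgebra.comul d) ∧ D ≤ B₀}
      (B₀ ⊓ C) := by
  have hsepC : ∀ b : A, b ∈ B₀ → ∀ hb : b ∈ C, IsSeparable k (⟨b, hb⟩ : C) := by
    intro b hb0 hbC
    have h1 : (minpoly k b).Separable := (hB₀ b).mp hb0
    have h2 : minpoly k (⟨b, hbC⟩ : C) = minpoly k b :=
      (minpoly.algHom_eq C.val Subtype.val_injective (⟨b, hbC⟩ : C)).symm
    show (minpoly k (⟨b, hbC⟩ : C)).Separable
    rw [h2]; exact h1
  have hcomul : ∀ b ∈ B₀ ⊓ C, CoalgebraStruct.comul (R := k) (A := A) b ∈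
      LinearMap.range (TensorProduct.map (B₀ ⊓ C).val.toLinearMap (B₀ ⊓ C).val.toLinearMap) := by
    intro b hb
    obtain ⟨hb0, hbC⟩ := Algebra.mem_inf.mp hb
    refine Pi0.mem_of_span_idem (R := C)
      (φ := (CoalgebraStruct.comul (R := k) (A := A)).comp C.val.toLinearMap)
      (N := LinearMap.range
        (TensorProduct.map (B₀ ⊓ C).val.toLinearMap (B₀ ⊓ C).val.toLinearMap)) ?_
      (b := (⟨b, hbC⟩ : C)) (Pi0.sep_mem_span_idem (hsepC b hb0 hbC))
    intro e he
    show CoalgebraStruct.comul (R := k) (A := A) (e : A) ∈ LinearMap.range _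
    obtain ⟨u, hu⟩ := hC.1 e e.2
    have huid : IsIdempotentElem u := by
      apply Pi0.idem_of_map_idem C u
      rw [hu]
      show CoalgebraStruct.comul (R := k) (A := A) (e : A) * CoalgebraStruct.comul (e : A) =
        CoalgebraStruct.comul (e : A)
      rw [← Bialgebra.comul_mul]
      congr 1
      exact congrArg Subtype.val he.eq
    rw [← hu]
    exact Pi0.map_idem_mem_range C (B₀ ⊓ C)
      (fun a haC ha => Algebra.mem_inf.mpr ⟨(hB₀ a).mpr (Pi0.isSeparable_of_idem ha), haC⟩)
      u huid
  have hanti : ∀ b ∈ B₀ ⊓ C, HopfAlgebraStruct.antipode (R := k) (A := A) b ∈ B₀ ⊓ C := by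
    intro b hb
    obtain ⟨hb0, hbC⟩ := Algebra.mem_inf.mp hb
    refine Algebra.mem_inf.mpr ⟨(hB₀ _).mpr ?_, hC.2 b hbC⟩
    have h1 := Pi0.isSeparable_map (HopfAlgebra.antipodeAlgHom k A) ((hB₀ b).mp hb0)
    exact h1
  refine ⟨⟨⟨hcomul, hanti⟩, fun d hd => hCc d (Algebra.mem_inf.mp hd).2, inf_le_left⟩, ?_⟩
  rintro D ⟨hD1, hD2, hD3⟩
  exact le_inf hD3 (hCmax D hD1 hD2)

end Groth.Agent.S18329
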