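import Groth.Statements.S18344
import Mathlib
import Groth.Agent.Lib.Helper17.PrincOrd

set_option autoImplicit false
universe u
open CategoryTheory CategoryTheory.Limits AlgebraicGeometry
open MultCurve
open Groth.Agent.Lib.Helper1 Groth.Agent.Lib.Helper3 Groth.Agent.Lib.Helper3.InvGen Groth.Agent.Lib.Helper3.QCSec Groth.Agent.Lib.Helper17 TopologicalSpace

namespace Groth.Agent.S18344

/-- Let C be a scheme and I ⊂ O_C a quasi-coherent ideal with I² = 0, and let D ⊂ C be the closed
subscheme it defines. Then the following are equivalent: (a) every point of C has an affine open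
neighbourhood U on which I(U) is generated by one section z such that every a with a z = 0 lies in
I(U); (b) the conormal sheaf of D in C (the ideal I regarded as an O_D-module, which makes sense
because I² = 0) is an invertible O_D-module. This identifies the line-bundle clause in the
definition of a ribbon with the section-level principal-of-order-two condition. -/
theorem result (C : Scheme.{u}) (I : C.IdealSheafData)
    (hI : I ^ 2 = ⊥) :
    MultCurve.IsPrincipalOfOrder I 2 ↔ PicF.IsInvertible (Omega.conormal I.subschemeι) := by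
  classical
  set i := I.subschemeι with hi
  have hker : ∀ (U : C.Opens) (hU : IsAffineOpen U),
      RingHom.ker (i.app U).hom = I.ideal ⟨U, hU⟩ := fun U hU =>
    I.ker_subschemeι_app ⟨U, hU⟩
  have hsq : ∀ (U : C.Opens) (hU : IsAffineOpen U),
      (RingHom.ker (i.app U).hom) ^ 2 = ⊥ := by
    intro U hU
    rw [hker U hU]
    exact congrArg (fun J : C.IdealSheafData => J.ideal ⟨U, hU⟩) hI
  have hgoodV : ∀ (U : C.Opens), IsAffineOpen U → IsAffineOpen (i ⁻¹ᵁ U) := fun U hU =>
    hU.preimage i
  have hgoodS : ∀ (U : C.Opens), IsAffineOpen U → Function.Surjective (i.app U) := fun U hU =>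
    i.app_surjective U hU
  constructor
  · -- (a) ⇒ (b)
    intro h
    intro d
    obtain ⟨U, hxU, z, hspan, hann⟩ := h (i d)
    have hU : IsAffineOpen (U : C.Opens) := U.2
    have hV := hgoodV U hU
    have hs := hgoodS U hU
    have hzmem : z ∈ RingHom.ker (i.app (U : C.Opens)).hom := by
      rw [hker U hU]
      show z ∈ I.ideal U
      rw [hspan]
      exact Ideal.mem_span_singleton_self z
    obtain ⟨s, hsz⟩ := Conorm.exists_val_eq i hU z hzmem
    have hgen : IsGenAt (Omega.conormal i) (i ⁻¹ᵁ (U : C.Opens)) (OmegaSh.conormalSect i U s) := by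
      apply PrincOrd.isGenAt_of_principal i hU hV hs (hsq U hU) s
      · rw [hsz, hker U hU]
        exact hspan
      · intro a ha
        rw [hsz] at ha
        rw [hker U hU]
        apply hann a
        rw [show (2 - 1 : ℕ) = 1 from rfl, pow_one]
        exact ha
    -- build the isomorphism over `V₀ = i⁻¹U`
    set V₀ : I.subscheme.Opens := i ⁻¹ᵁ (U : C.Opens) with hV₀
    set t := OmegaSh.conormalSect i U s with ht
    let φ := homOfSec (Omega.conormal i) V₀ t
    haveI : IsAffine (V₀ : Scheme.{u}) := hV
    haveI : ((Omega.conormal i).restrict V₀.ι).IsQuasicoherent :=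
      Scheme.Modules.isQuasicoherent_restrictFunctor V₀.ι (Omega.conormal i)
    haveI : IsIso φ := by
      apply PbIsoCrit.isIso_of_bijective_on_affine_cover
      intro x
      refine ⟨⊤, isAffineOpen_top _, trivial, ?_⟩
      rw [bijective_app_iff]
      apply isGenAt_restrict_of
      rw [sec_homOfSec]
      exact hgen.of_eq V₀.ι_image_top
    exact ⟨V₀, hxU, ⟨(asIso φ).symm⟩⟩
  · -- (b) ⇒ (a)
    intro hL x
    -- `x` lies in the image of `i`
    have hx : x ∈ Set.range i := by
      rw [I.range_subschemeι]
      obtain ⟨_, ⟨W, hW, rfl⟩, hxW, -⟩ := C.isBasis_affineOpens.exists_subset_of_mem_open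
        (Set.mem_univ x) isOpen_univ
      show x ∈ I.support
      rw [Scheme.IdealSheafData.mem_support_iff_of_mem (U := ⟨W, hW⟩) hxW, Scheme.mem_zeroLocus_iff]
      intro f hf hxf
      have h2 : f ^ 2 = 0 := by
        have : f ^ 2 ∈ (I.ideal ⟨W, hW⟩) ^ 2 := Ideal.pow_mem_pow hf 2
        have h3 : (I.ideal ⟨W, hW⟩) ^ 2 = ⊥ :=
          congrArg (fun J : C.IdealSheafData => J.ideal ⟨W, hW⟩) hI
        rw [h3] at this
        simpa using this
      have h4 : C.basicOpen f = ⊥ := by
        rw [← Scheme.basicOpen_pow C f (n := 2) (by norm_num), h2, Scheme.basicOpen_zero]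
      rw [h4] at hxf
      exact hxf
    obtain ⟨d, rfl⟩ := hx
    obtain ⟨U₀, e₀, hd, hg⟩ := exists_isGen hL d
    obtain ⟨W', hW'⟩ := ConormOpen.exists_preimage_eq i U₀
    have hdW' : i d ∈ W' := by
      have : d ∈ i ⁻¹ᵁ W' := by rw [hW']; exact hd
      exact this
    obtain ⟨_, ⟨U, hU, rfl⟩, hxU, hUle⟩ := C.isBasis_affineOpens.exists_subset_of_mem_open
      hdW' W'.2
    have hle : i ⁻¹ᵁ U ≤ U₀ := by
      rw [← hW']
      exact fun y hy => hUle hy
    have hV := hgoodV U hU
    have hs := hgoodS U hU
    obtain ⟨z, hspan, hann⟩ := PrincOrd.principal_of_isGenAt i hU hV hs (hsq U hU)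
      (res (Omega.conormal i) hle e₀) (hg _ hle)
    refine ⟨⟨U, hU⟩, hxU, z, ?_, ?_⟩
    · rw [← hker U hU]
      exact hspan
    · intro a ha
      rw [← hker U hU]
      apply hann a
      rw [show (2 - 1 : ℕ) = 1 from rfl, pow_one] at ha
      exact ha

end Groth.Agent.S18344
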