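import Groth.Statements.S1835
import Mathlib
import Groth.Agent.Lib.Helper26.HenselIdem

set_option autoImplicit false
universe u
open CycAlg

namespace Groth.Agent.S1835

theorem le_zero_of_add_one_le_one (x : WithBot ℕ∞) (h : x + 1 ≤ 1) : x ≤ 0 := by
  induction x using WithBot.recBotCoe with
  | bot => exact bot_le
  | coe n =>
    have h' : ((n + 1 : ℕ∞) : WithBot ℕ∞) ≤ ((1 : ℕ∞) : WithBot ℕ∞) := by exact_mod_cast h
    rw [WithBot.coe_le_coe] at h'
    have : n ≤ 0 :=
      (ENat.add_le_add_iff_right (by simp : (1 : ℕ∞) ≠ ⊤)).1 (h'.trans_eq (zero_add 1).symm)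
    exact_mod_cast this

/-- Let R be a Noetherian local ring of dimension 1, a a nonzerodivisor in the maximal ideal and b a
nonzerodivisor. There is an integer n such that whenever b = a^m c in some finite extension ring R ⊆
R', one has m ≤ n. -/
theorem result (R : Type u) [CommRing R] [IsNoetherianRing R] [IsLocalRing R] (hR : ringKrullDim R = 1) (a b : R) (ha : a ∈ nonZeroDivisors R) (ham : a ∈ IsLocalRing.maximalIdeal R) (hb : b ∈ nonZeroDivisors R) : ∃ n : ℕ, ∀ (R' : Type u) [CommRing R'] [Algebra R R'], Function.Injective (algebraMap R R') → Module.Finite R R' → ∀ (m : ℕ) (c : R'), algebraMap R R' b = algebraMap R R' a ^ m * c → m ≤ n := by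
  have h0 : ringKrullDim (R ⧸ Ideal.span {b}) + 1 ≤ 1 :=
    hR ▸ ringKrullDim_quotient_succ_le_of_nonZeroDivisor hb
  have h0' := le_zero_of_add_one_le_one _ h0
  haveI : Ring.KrullDimLE 0 (R ⧸ Ideal.span {b}) := Ring.krullDimLE_iff.mpr (by exact_mod_cast h0')
  have hnil : IsNilpotent (Ideal.Quotient.mk (Ideal.span {b}) a) := by
    rw [← mem_nilradical, nilradical_eq_sInf, Ideal.mem_sInf]
    intro P hP
    haveI : P.IsPrime := hP
    haveI : P.IsMaximal := Ideal.isMaximal_of_isPrime P
    have h1 : (P.comap (Ideal.Quotient.mk (Ideal.span {b}))).IsMaximal :=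
      Ideal.comap_isMaximal_of_surjective _ Ideal.Quotient.mk_surjective
    have h2 := IsLocalRing.eq_maximalIdeal h1
    have h3 : a ∈ P.comap (Ideal.Quotient.mk (Ideal.span {b})) := h2 ▸ ham
    exact h3
  obtain ⟨N, hN⟩ := hnil
  rw [← map_pow, Ideal.Quotient.eq_zero_iff_mem, Ideal.mem_span_singleton'] at hN
  obtain ⟨r, hr⟩ := hN
  refine ⟨N, ?_⟩
  intro R' _ _ hinj hfin m c hbc
  by_contra hlt
  push_neg at hlt
  haveI : Algebra.IsIntegral R R' := Algebra.IsIntegral.of_finite R R'
  have hJ : algebraMap R R' a ∈ Ideal.jacobson (⊥ : Ideal R') := by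
    have h1 : IsLocalRing.maximalIdeal R ≤ Ideal.jacobson (⊥ : Ideal R) := by
      rw [IsLocalRing.jacobson_eq_maximalIdeal ⊥ bot_ne_top]
    exact Groth.Agent.Lib.Helper26.HenselIdem.map_le_jacobson_of_isIntegral _ h1
      (Ideal.mem_map_of_mem _ ham)
  have hu := (Ideal.mem_jacobson_bot.mp hJ)
    (-(algebraMap R R' a ^ (m - N - 1) * algebraMap R R' r * c))
  have h1 : algebraMap R R' a ^ N *
      (algebraMap R R' a * -(algebraMap R R' a ^ (m - N - 1) * algebraMap R R' r * c) + 1) = 0 := by
    have h2 := congrArg (algebraMap R R') hr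
    rw [map_mul, map_pow, hbc] at h2
    have h3 : algebraMap R R' a ^ m =
        algebraMap R R' a ^ N * (algebraMap R R' a * algebraMap R R' a ^ (m - N - 1)) := by
      rw [← pow_succ', ← pow_add]
      congr 1
      omega
    rw [h3] at h2
    linear_combination -h2
  have h4 : algebraMap R R' a ^ N = 0 := (hu.mul_left_eq_zero).mp h1
  rw [← map_pow] at h4
  have h5 : a ^ N = 0 := hinj (h4.trans (map_zero _).symm)
  exact nonZeroDivisors.ne_zero (pow_mem ha N) h5

end Groth.Agent.S1835
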