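import Groth.Statements.S18351
import Groth.Agent.Lib.Helper1.ConormTriple
import Groth.Agent.Lib.Helper1.ModLocal
import Groth.Agent.Lib.Helper3.PullLemmas
import Groth.Agent.Lib.Helper1.DerCompat
set_option linter.style.haveILetI false

set_option autoImplicit false
universe w u
open CategoryTheory CategoryTheory.Limits AlgebraicGeometry
open MultCurve

namespace Groth.Agent.S18351

/-- Let k be a field and D a reduced connected scheme locally of finite type over k with a universal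
k-derivation d₂ : O_D → Ω₂. Let C and C′ be ribbons on D over k (k-schemes locally of finite type
with closed immersions i, i′ of D over k making them ribbons), each with its restricted cotangent
sequence presented by a universal k-derivation (d₁, resp. d₁′), the map from the conormal bundle (𝓛,
resp. 𝓛′) induced by it and the map to Ω₂ compatible with d₂, assumed short exact, with classes e_C
∈ Ext¹(Ω₂, 𝓛) and e_{C′} ∈ Ext¹(Ω₂, 𝓛′). Let g : C ⟶ C′ be a morphism over D and over k, and let α :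
𝓛′ → 𝓛 be the map of conormal bundles induced by g (pulled back along the identity of D). Then
e_{C′} composed with α equals e_C: together with the restriction to D of the differential of g, α is
a morphism from the restricted cotangent sequence of C′ to that of C. (This is the form in which the
blow-up morphism X ⟶ C of a ribbon C along an effective Cartier divisor of D relates the two
classes; that such a blow-up X is again a ribbon on D, with conormal bundle 𝓛(δ), is a separate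
statement, and the identification of α with multiplication by the section of δ is not asserted here.
Valid for every morphism of ribbons over D.) -/
theorem result (k : Type u) [Field k] (D : Scheme.{u})
    (pD : D ⟶ Spec (CommRingCat.of k)) [LocallyOfFiniteType pD] [ConnectedSpace D]
    (Ω₂ : D.Modules) (d₂ : OmegaSh.Der pD Ω₂) (hd₂ : OmegaSh.IsUniversal d₂) [HasExt.{w} D.Modules]
    (C : Scheme.{u}) (i : D ⟶ C) (pC : C ⟶ Spec (CommRingCat.of k)) [LocallyOfFiniteType pC]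
    (hp : i ≫ pC = pD) (hR : MultCurve.IsRibbon i)
    (Ω₁ : C.Modules) (d₁ : OmegaSh.Der pC Ω₁) (hd₁ : OmegaSh.IsUniversal d₁)
    (φ : Omega.conormal i ⟶ (Scheme.Modules.pullback i).obj Ω₁) (hφ : OmegaSh.IsConormalDiff i d₁ φ)
    (c : (Scheme.Modules.pullback i).obj Ω₁ ⟶ Ω₂) (hc : OmegaSh.IsDiffCompat i d₁ d₂ c)
    (hw : φ ≫ c = 0) (hS : (ShortComplex.mk φ c hw).ShortExact)
    (C' : Scheme.{u}) (i' : D ⟶ C') (pC' : C' ⟶ Spec (CommRingCat.of k)) [LocallyOfFiniteType pC']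
    (hp' : i' ≫ pC' = pD) (hR' : MultCurve.IsRibbon i')
    (Ω₁' : C'.Modules) (d₁' : OmegaSh.Der pC' Ω₁') (hd₁' : OmegaSh.IsUniversal d₁')
    (φ' : Omega.conormal i' ⟶ (Scheme.Modules.pullback i').obj Ω₁') (hφ' : OmegaSh.IsConormalDiff i' d₁' φ')
    (c' : (Scheme.Modules.pullback i').obj Ω₁' ⟶ Ω₂) (hc' : OmegaSh.IsDiffCompat i' d₁' d₂ c')
    (hw' : φ' ≫ c' = 0) (hS' : (ShortComplex.mk φ' c' hw').ShortExact)
    (g : C ⟶ C') (hgi : i ≫ g = i') (hgk : g ≫ pC' = pC)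
    (α : (Scheme.Modules.pullback (𝟙 D)).obj (Omega.conormal i') ⟶ Omega.conormal i)
    (hα : OmegaSh.IsConormalMap i i' g (𝟙 D) α) :
    hS'.extClass.comp (Abelian.Ext.mk₀ ((Scheme.Modules.pullbackId D).inv.app (Omega.conormal i') ≫ α)) (add_zero 1) =
      hS.extClass := by
  subst hgi
  haveI : IsClosedImmersion i := hR.1.1
  have hsq : pC ≫ 𝟙 (Spec (CommRingCat.of k)) = g ≫ pC' := by rw [Category.comp_id, hgk]
  obtain ⟨γ, hγ, -⟩ := Groth.Agent.Lib.Helper1.DerCompat.existsUnique_isDiffCompat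
    pC' pC g (𝟙 _) hsq d₁' d₁ hd₁'
  let β : (Scheme.Modules.pullback (i ≫ g)).obj Ω₁' ⟶ (Scheme.Modules.pullback i).obj Ω₁ :=
    (Scheme.Modules.pullbackComp i g).inv.app Ω₁' ≫ (Scheme.Modules.pullback i).map γ
  have K : ∀ (U : C'.Opens) (s : Γ(C', U)),
      β.app ((i ≫ g) ⁻¹ᵁ U) (OmegaSh.pullSect (i ≫ g) Ω₁' U (d₁'.app U s)) =
        OmegaSh.pullSect i Ω₁ (g ⁻¹ᵁ U) (d₁.app (g ⁻¹ᵁ U) (g.app U s)) := by
    intro U s
    have h1 := Groth.Agent.Lib.Helper3.PullLemmas.pullbackComp_inv_pull i g Ω₁' U (d₁'.app U s)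
    have h2 := Groth.Agent.Lib.Helper3.PbBasic.pull_app i γ (g ⁻¹ᵁ U)
      (Groth.Agent.Lib.Helper3.PbBasic.pull g Ω₁' U (d₁'.app U s))
    have h3 := hγ U s
    have e1 : β.app ((i ≫ g) ⁻¹ᵁ U) (OmegaSh.pullSect (i ≫ g) Ω₁' U (d₁'.app U s)) =
        ((Scheme.Modules.pullback i).map γ).app (i ⁻¹ᵁ (g ⁻¹ᵁ U))
          (((Scheme.Modules.pullbackComp i g).inv.app Ω₁').app ((i ≫ g) ⁻¹ᵁ U)
            (Groth.Agent.Lib.Helper3.PbBasic.pull (i ≫ g) Ω₁' U (d₁'.app U s))) := rfl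
    have e2 := congrArg (fun y => ((Scheme.Modules.pullback i).map γ).app (i ⁻¹ᵁ (g ⁻¹ᵁ U)) y) h1
    have e3 := congrArg
      (fun y => Groth.Agent.Lib.Helper3.PbBasic.pull i Ω₁ (g ⁻¹ᵁ U) y) h3
    exact e1.trans (e2.trans (h2.trans e3))
  have hsq' : pD ≫ 𝟙 (Spec (CommRingCat.of k)) = (i ≫ g) ≫ pC' := by
    rw [Category.comp_id, hp']
  have hβc : β ≫ c = c' := by
    have hu := Groth.Agent.Lib.Helper1.DerCompat.existsUnique_isDiffCompat
      pC' pD (i ≫ g) (𝟙 _) hsq' d₁' d₂ hd₁'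
    refine hu.unique ?_ hc'
    intro U s
    have e1 : (β ≫ c).app ((i ≫ g) ⁻¹ᵁ U) (OmegaSh.pullSect (i ≫ g) Ω₁' U (d₁'.app U s)) =
        c.app (i ⁻¹ᵁ (g ⁻¹ᵁ U))
          (β.app ((i ≫ g) ⁻¹ᵁ U) (OmegaSh.pullSect (i ≫ g) Ω₁' U (d₁'.app U s))) := rfl
    have e2 := congrArg (fun y => c.app (i ⁻¹ᵁ (g ⁻¹ᵁ U)) y) (K U s)
    have e3 := hc (g ⁻¹ᵁ U) (g.app U s)
    have e4 : d₂.app (i ⁻¹ᵁ (g ⁻¹ᵁ U)) (i.app (g ⁻¹ᵁ U) (g.app U s)) =
        d₂.app ((i ≫ g) ⁻¹ᵁ U) ((i ≫ g).app U s) := rfl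
    exact e1.trans (e2.trans (e3.trans e4))
  have hαφ : ((Scheme.Modules.pullbackId D).inv.app (Omega.conormal (i ≫ g)) ≫ α) ≫ φ =
      φ' ≫ β := by
    refine Groth.Agent.Lib.Helper1.ModLocal.pullback_hom_ext (i ≫ g)
      (M := ClSub.idealMod (i ≫ g).ker) _ _ ?_
    intro U hU s'
    obtain ⟨t, ht⟩ := Groth.Agent.Lib.Helper1.ConormTriple.exists_t g i U s'
    have h1 := Groth.Agent.Lib.Helper1.ConormTriple.phi2_apply g i α hα U s' t ht
    have h2 := hφ (g ⁻¹ᵁ U) t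
    have h3 := hφ' U s'
    have h4 := K U (OmegaSh.idealSect (i ≫ g).ker U s')
    have eL : (((Scheme.Modules.pullbackId D).inv.app (Omega.conormal (i ≫ g)) ≫ α) ≫ φ).app
        ((i ≫ g) ⁻¹ᵁ U) (OmegaSh.pullSect (i ≫ g) (ClSub.idealMod (i ≫ g).ker) U s') =
        φ.app (i ⁻¹ᵁ (g ⁻¹ᵁ U))
          (((Scheme.Modules.pullbackId D).inv.app (Omega.conormal (i ≫ g)) ≫ α).app
            ((i ≫ g) ⁻¹ᵁ U) (OmegaSh.conormalSect (i ≫ g) U s')) := rfl
    have eL2 := congrArg (fun y => φ.app (i ⁻¹ᵁ (g ⁻¹ᵁ U)) y) h1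
    have eR : (φ' ≫ β).app ((i ≫ g) ⁻¹ᵁ U)
        (OmegaSh.pullSect (i ≫ g) (ClSub.idealMod (i ≫ g).ker) U s') =
        β.app ((i ≫ g) ⁻¹ᵁ U)
          (φ'.app ((i ≫ g) ⁻¹ᵁ U) (OmegaSh.conormalSect (i ≫ g) U s')) := rfl
    have eR2 := congrArg (fun y => β.app ((i ≫ g) ⁻¹ᵁ U) y) h3
    have hval : OmegaSh.idealSect i.ker (g ⁻¹ᵁ U) t =
        g.app U (OmegaSh.idealSect (i ≫ g).ker U s') := ht
    have eM := congrArg
      (fun y => OmegaSh.pullSect i Ω₁ (g ⁻¹ᵁ U) (d₁.app (g ⁻¹ᵁ U) y)) hval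
    exact (eL.trans (eL2.trans (h2.trans eM))).trans (eR.trans (eR2.trans h4)).symm
  let F : ShortComplex.mk φ' c' hw' ⟶ ShortComplex.mk φ c hw :=
    { τ₁ := (Scheme.Modules.pullbackId D).inv.app (Omega.conormal (i ≫ g)) ≫ α
      τ₂ := β
      τ₃ := 𝟙 Ω₂
      comm₁₂ := hαφ
      comm₂₃ := hβc.trans (Category.comp_id c').symm }
  have hnat := ShortComplex.ShortExact.extClass_naturality hS' hS F
  exact hnat.trans (Abelian.Ext.mk₀_id_comp hS.extClass)

end Groth.Agent.S18351
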