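-- Statement S18363.
import Groth.Statements.S18363
import Mathlib

set_option autoImplicit false
universe u
open CategoryTheory
open CAlg

namespace Groth.Agent.S18363

section aux

variable {R : Type u} [CommRing R]

/-- In a Noetherian local ring, if `R ⧸ Q` has Krull dimension one, there is an element of the
maximal ideal lying in no minimal prime over `Q`. -/
lemma exists_mem_maximalIdeal_notMem_minimalPrimes [IsNoetherianRing R] [IsLocalRing R]
    (Q : Ideal R) (hQdim : ringKrullDim (R ⧸ Q) = 1) :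
    ∃ r ∈ IsLocalRing.maximalIdeal R, ∀ p ∈ Q.minimalPrimes, r ∉ p := by
  classical
  by_contra hcon
  push_neg at hcon
  have hfin : (Q.minimalPrimes).Finite := Ideal.finite_minimalPrimes_of_isNoetherianRing R Q
  have hsub : ((IsLocalRing.maximalIdeal R : Ideal R) : Set R) ⊆
      ⋃ p ∈ ((hfin.toFinset : Finset (Ideal R)) : Set (Ideal R)), ((id p : Ideal R) : Set R) := by
    intro r hr
    obtain ⟨p, hp, hrp⟩ := hcon r hr
    simp only [Set.Finite.coe_toFinset, Set.mem_iUnion, id]
    exact ⟨p, hp, hrp⟩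
  obtain ⟨p, hp, hmp⟩ := (Ideal.subset_union_prime (R := R) (f := id) (s := hfin.toFinset)
    (I := IsLocalRing.maximalIdeal R) ⊥ ⊥ (fun i hi _ _ => by
      have : i ∈ Q.minimalPrimes := by simpa using hi
      exact this.1.1)).mp hsub
  have hp' : p ∈ Q.minimalPrimes := by simpa using hp
  have hpprime : p.IsPrime := hp'.1.1
  have hpm : p = IsLocalRing.maximalIdeal R :=
    le_antisymm (IsLocalRing.le_maximalIdeal hpprime.ne_top) hmp
  rw [hpm] at hp'
  -- every prime containing Q equals the maximal ideal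
  have key : ∀ q : Ideal R, q.IsPrime → Q ≤ q → q = IsLocalRing.maximalIdeal R := by
    intro q hq hQq
    have h1 : q ≤ IsLocalRing.maximalIdeal R := IsLocalRing.le_maximalIdeal hq.ne_top
    exact le_antisymm h1 (hp'.2 ⟨hq, hQq⟩ h1)
  have hdim0 : Ring.KrullDimLE 0 (R ⧸ Q) := by
    rw [Ring.krullDimLE_zero_iff]
    intro q' hq'
    obtain ⟨M', hM', hqM'⟩ := Ideal.exists_le_maximal q' hq'.ne_top
    have e1 : q'.comap (Ideal.Quotient.mk Q) = IsLocalRing.maximalIdeal R := by
      refine key _ (Ideal.comap_isPrime _ _) ?_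
      intro x hx
      rw [Ideal.mem_comap, Ideal.Quotient.eq_zero_iff_mem.mpr hx]
      exact zero_mem _
    have e2 : M'.comap (Ideal.Quotient.mk Q) = IsLocalRing.maximalIdeal R := by
      refine key _ (Ideal.comap_isPrime _ _) ?_
      intro x hx
      rw [Ideal.mem_comap, Ideal.Quotient.eq_zero_iff_mem.mpr hx]
      exact zero_mem _
    have : q' = M' :=
      Ideal.comap_injective_of_surjective _ Ideal.Quotient.mk_surjective (e1.trans e2.symm)
    rw [this]
    exact hM'
  have := Ring.krullDimLE_iff.mp hdim0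
  rw [hQdim] at this
  exact absurd this (by decide)

end aux

section aux2

variable {R : Type u} [CommRing R]

lemma mk_mem_nonZeroDivisors (Q : Ideal R) [IsReduced (R ⧸ Q)] (r : R)
    (hr : ∀ p ∈ Q.minimalPrimes, r ∉ p) :
    Ideal.Quotient.mk Q r ∈ nonZeroDivisors (R ⧸ Q) := by
  have hrad : Q.IsRadical := (Ideal.isRadical_iff_quotient_reduced Q).mpr inferInstance
  rw [mem_nonZeroDivisors_iff_right]
  intro x hx
  obtain ⟨y, rfl⟩ := Ideal.Quotient.mk_surjective x
  rw [← map_mul, Ideal.Quotient.eq_zero_iff_mem] at hx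
  rw [Ideal.Quotient.eq_zero_iff_mem, ← hrad.radical, ← Ideal.sInf_minimalPrimes, Ideal.mem_sInf]
  intro p hp
  have : y * r ∈ p := hp.1.2 hx
  exact (hp.1.1.mem_or_mem this).resolve_right (hr p hp)

/-- An element `y ≠ 0` of `J ⧸ rJ` killed by the maximal ideal. -/
lemma exists_socle_element [IsNoetherianRing R] [IsLocalRing R]
    (Q : Ideal R) (hQdim : ringKrullDim (R ⧸ Q) = 1)
    (J : Type u) [AddCommGroup J] [Module R J] [Module.Finite R J] [Nontrivial J]
    (hQJ : ∀ q ∈ Q, ∀ y : J, q • y = 0)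
    (r : R) (hrm : r ∈ IsLocalRing.maximalIdeal R) (hr : ∀ p ∈ Q.minimalPrimes, r ∉ p) :
    ∃ y : J ⧸ LinearMap.range (LinearMap.lsmul R J r), y ≠ 0 ∧
      ∀ a ∈ IsLocalRing.maximalIdeal R, a • y = 0 := by
  set N : Submodule R J := LinearMap.range (LinearMap.lsmul R J r) with hN
  have hNtop : N ≠ ⊤ := by
    intro h
    have h1 : (⊤ : Submodule R J) ≤ IsLocalRing.maximalIdeal R • (⊤ : Submodule R J) := by
      intro x _
      have : x ∈ N := h ▸ Submodule.mem_top
      obtain ⟨x', rfl⟩ := this
      exact Submodule.smul_mem_smul hrm Submodule.mem_top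
    have h2 := Submodule.eq_bot_of_le_smul_of_le_jacobson_bot (IsLocalRing.maximalIdeal R)
      (⊤ : Submodule R J) Module.Finite.fg_top h1
      (IsLocalRing.jacobson_eq_maximalIdeal ⊥ bot_ne_top).ge
    exact top_ne_bot h2
  haveI : Nontrivial (J ⧸ N) := Submodule.Quotient.nontrivial_iff.mpr hNtop
  obtain ⟨q, hq⟩ := associatedPrimes.nonempty R (J ⧸ N)
  rw [AssociatedPrimes.mem_iff, isAssociatedPrime_iff] at hq
  obtain ⟨hqprime, y, hqy⟩ := hq
  have hmem : ∀ a : R, a ∈ q ↔ a • y = 0 := by
    intro a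
    rw [hqy, Submodule.mem_colon_singleton, Submodule.mem_bot]
  obtain ⟨j, rfl⟩ := Submodule.Quotient.mk_surjective N y
  have hQq : Q ≤ q := by
    intro a ha
    rw [hmem, ← Submodule.Quotient.mk_smul, hQJ a ha j, Submodule.Quotient.mk_zero]
  have hrq : r ∈ q := by
    rw [hmem, ← Submodule.Quotient.mk_smul, Submodule.Quotient.mk_eq_zero]
    exact ⟨j, rfl⟩
  have hqm : q = IsLocalRing.maximalIdeal R := by
    have hker : RingHom.ker (Ideal.Quotient.mk Q) ≤ q := by rwa [Ideal.mk_ker]
    have hq'prime : (q.map (Ideal.Quotient.mk Q)).IsPrime :=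
      Ideal.map_isPrime_of_surjective Ideal.Quotient.mk_surjective hker
    have hcomap : (q.map (Ideal.Quotient.mk Q)).comap (Ideal.Quotient.mk Q) = q :=
      Ideal.comap_map_mk hQq
    have hdim1 : Ring.KrullDimLE 1 (R ⧸ Q) := Ring.krullDimLE_iff.mpr (by rw [hQdim]; rfl)
    rcases Ring.krullDimLE_one_iff.mp hdim1 _ hq'prime with hmin | hmax
    · exfalso
      have : q ∈ Q.minimalPrimes := by
        rw [Ideal.minimalPrimes_eq_comap]
        exact ⟨_, hmin, hcomap⟩
      exact hr q this hrq
    · have : q.IsMaximal := by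
        rw [← hcomap]
        exact Ideal.comap_isMaximal_of_surjective _ Ideal.Quotient.mk_surjective
      exact IsLocalRing.eq_maximalIdeal this
  refine ⟨Submodule.Quotient.mk j, ?_, ?_⟩
  · intro h0
    apply hqprime.ne_top
    rw [Ideal.eq_top_iff_one, hmem, h0, smul_zero]
  · intro a ha
    rw [← hqm] at ha
    exact (hmem a).mp ha

/-- A nonzero `R`-linear map from a nonzero f.g. module over a local ring to the residue field. -/
lemma exists_surj_residue [IsLocalRing R]
    (I : Type u) [AddCommGroup I] [Module R I] [Module.Finite R I] [Nontrivial I] :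
    ∃ φ : I →ₗ[R] R ⧸ IsLocalRing.maximalIdeal R, Function.Surjective φ := by
  obtain ⟨I', hI', -⟩ := (eq_top_or_exists_le_coatom (⊥ : Submodule R I)).resolve_left bot_ne_top
  have hs : IsSimpleModule R (I ⧸ I') := isSimpleModule_iff_isCoatom.mpr hI'
  obtain ⟨m', hm', ⟨e⟩⟩ := isSimpleModule_iff_quot_maximal.mp hs
  obtain rfl : m' = IsLocalRing.maximalIdeal R := IsLocalRing.eq_maximalIdeal hm'
  exact ⟨e.toLinearMap ∘ₗ I'.mkQ, e.surjective.comp (Submodule.mkQ_surjective I')⟩

end aux2



/-- Let R be a Noetherian local ring with maximal ideal m, and P, Q ideals of R such that P + Q contains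
a power of m while R/P and R/Q are both reduced of Krull dimension one. Let I and J be nonzero
finitely generated R-modules with P·I = 0 and Q·J = 0, such that every element of R whose class in
R/P is a non-zero-divisor acts injectively on I, and every element whose class in R/Q is a
non-zero-divisor acts injectively on J. Then the group Ext¹_R(I, J) is nonzero. (This is the stalk
statement behind the existence of a non-split extension of a torsion-free rank-one sheaf on a
subcurve Y by one on a subcurve Z of a reduced projective curve, at a point where Y and Z meet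
without sharing a component; in that situation the modules moreover have rank one at the generic
points of their supports and P ∩ Q = 0, two assumptions the argument does not use.) -/
theorem result
    (R : Type u) [CommRing R] [IsNoetherianRing R] [IsLocalRing R]
    (P Q : Ideal R) (hPQ : ∃ n : ℕ, IsLocalRing.maximalIdeal R ^ n ≤ P ⊔ Q)
    [IsReduced (R ⧸ P)] [IsReduced (R ⧸ Q)]
    (hPdim : ringKrullDim (R ⧸ P) = 1) (hQdim : ringKrullDim (R ⧸ Q) = 1)
    (I J : Type u) [AddCommGroup I] [Module R I] [Module.Finite R I] [Nontrivial I]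
    [AddCommGroup J] [Module R J] [Module.Finite R J] [Nontrivial J]
    (hPI : ∀ p ∈ P, ∀ x : I, p • x = 0) (hQJ : ∀ q ∈ Q, ∀ y : J, q • y = 0)
    (hItf : ∀ r : R, Ideal.Quotient.mk P r ∈ nonZeroDivisors (R ⧸ P) → ∀ x : I, r • x = 0 → x = 0)
    (hJtf : ∀ r : R, Ideal.Quotient.mk Q r ∈ nonZeroDivisors (R ⧸ Q) → ∀ y : J, r • y = 0 → y = 0) :
    Nontrivial (Abelian.Ext (ModuleCat.of R I) (ModuleCat.of R J) 1) := by
  classical
  obtain ⟨n, hn⟩ := hPQ
  obtain ⟨r, hrm, hr⟩ := exists_mem_maximalIdeal_notMem_minimalPrimes Q hQdim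
  have hrnzd := mk_mem_nonZeroDivisors Q r hr
  have hrinj : ∀ y : J, r • y = 0 → y = 0 := hJtf r hrnzd
  -- Hom(I,J)=0
  have hpow : ∀ k : ℕ, ∀ y : J, r ^ k • y = 0 → y = 0 := by
    intro k
    induction k with
    | zero => intro y hy; simpa using hy
    | succ k ih =>
      intro y hy
      rw [pow_succ, mul_smul] at hy
      exact hrinj _ (ih _ hy)
  have hHom : ∀ f : I →ₗ[R] J, f = 0 := by
    intro f
    ext x
    have hk : ∀ a ∈ P ⊔ Q, a • f x = 0 := by
      intro a ha
      obtain ⟨p, hp, q, hq, rfl⟩ := Submodule.mem_sup.mp ha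
      rw [add_smul, ← map_smul, hPI p hp x, map_zero, hQJ q hq, add_zero]
    have h1 : r ^ n • f x = 0 := hk _ (hn (Ideal.pow_mem_pow hrm n))
    exact hpow n _ h1
  obtain ⟨y, hy0, hym⟩ := exists_socle_element Q hQdim J hQJ r hrm hr
  obtain ⟨φ, hφ⟩ := exists_surj_residue (R := R) I
  -- ψ : R ⧸ m → J ⧸ N
  let ψ : (R ⧸ IsLocalRing.maximalIdeal R) →ₗ[R] J ⧸ LinearMap.range (LinearMap.lsmul R J r) :=
    Submodule.liftQ (IsLocalRing.maximalIdeal R)
      (LinearMap.toSpanSingleton R (J ⧸ LinearMap.range (LinearMap.lsmul R J r)) y) (by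
      intro a ha
      rw [LinearMap.mem_ker, LinearMap.toSpanSingleton_apply]
      exact hym a ha)
  have hψ1 : ψ (Submodule.Quotient.mk 1) = y := by
    simp only [ψ, Submodule.liftQ_apply, LinearMap.toSpanSingleton_apply, one_smul]
  let h : I →ₗ[R] J ⧸ LinearMap.range (LinearMap.lsmul R J r) := ψ ∘ₗ φ
  have hne : h ≠ 0 := by
    intro h0
    obtain ⟨x, hx⟩ := hφ (Submodule.Quotient.mk 1)
    have : h x = y := by simp only [h, LinearMap.comp_apply, hx, hψ1]
    rw [h0] at this
    exact hy0 this.symm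
  -- the short exact sequence 0 → J → J → J/rJ → 0
  have hw : (ModuleCat.ofHom (LinearMap.lsmul R J r)) ≫
      (ModuleCat.ofHom (LinearMap.range (LinearMap.lsmul R J r)).mkQ) = 0 := by
    ext x
    simp only [ModuleCat.hom_comp, ModuleCat.hom_ofHom, LinearMap.comp_apply, ModuleCat.hom_zero,
      LinearMap.zero_apply, Submodule.mkQ_apply, Submodule.Quotient.mk_eq_zero]
    exact ⟨x, rfl⟩
  have hS : (ShortComplex.mk _ _ hw).ShortExact :=
    { exact := by
        rw [ShortComplex.moduleCat_exact_iff_range_eq_ker]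
        simp only [ModuleCat.hom_ofHom, Submodule.ker_mkQ]
      mono_f := by
        rw [ModuleCat.mono_iff_injective]
        intro a b hab
        have : r • (a - b) = 0 := by
          rw [smul_sub]
          exact sub_eq_zero.mpr hab
        exact sub_eq_zero.mp (hrinj _ this)
      epi_g := by
        rw [ModuleCat.epi_iff_surjective]
        exact Submodule.mkQ_surjective _ }
  by_contra hnt
  rw [not_nontrivial_iff_subsingleton] at hnt
  have hx₃ : (Abelian.Ext.mk₀ (ModuleCat.ofHom h)).comp hS.extClass (zero_add 1) = 0 :=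
    Subsingleton.elim _ _
  obtain ⟨x₂, hx₂⟩ := Abelian.Ext.covariant_sequence_exact₃ _ hS
    (Abelian.Ext.mk₀ (ModuleCat.ofHom h)) (zero_add 1) hx₃
  obtain ⟨f, rfl⟩ := (Abelian.Ext.mk₀_bijective _ _).2 x₂
  have hf0 : f = 0 := by
    apply ModuleCat.hom_ext
    exact hHom f.hom
  rw [hf0, Abelian.Ext.mk₀_zero, Abelian.Ext.zero_comp] at hx₂
  have h3 : ModuleCat.ofHom h = 0 := (Abelian.Ext.mk₀_bijective _ _).1 (by
    rw [← hx₂, Abelian.Ext.mk₀_zero])
  apply hne
  have := congrArg ModuleCat.Hom.hom h3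
  simpa using this

end Groth.Agent.S18363
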