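-- Statement S18364.
import Groth.Statements.S18364
import Mathlib
import Groth.Agent.Lib.Helper1.ModifLib
open Groth.Agent.Lib.Helper1.ModifLib

set_option autoImplicit false
universe u
open CAlg

namespace Groth.Agent.S18364

/-- Let A be a Noetherian ring, π an element of A, and (𝔓_i)_{i ∈ ι} an injective finite family listing
exactly the minimal prime ideals over (π). Let M be a finitely generated A-module and M̄ = M/πM. For
a subset T of ι let K(T) ⊆ M̄ be the submodule of elements whose image in the localisation of M̄ at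
𝔓_i is zero for every i ∈ T, and N(T) ⊆ M its preimage in M. Assume K(ι) = 0, i.e. no nonzero
element of M̄ vanishes at all the minimal primes (every associated prime of M̄ is one of the 𝔓_i).
Then for every subset Y of ι with complement Z one has N(Y) ∩ N(Z) = πM, and the same construction
applied to the module N(Y) instead of M — the preimage in N(Y) of the elements of N(Y)/πN(Y)
vanishing at every 𝔓_i with i ∈ Z — is, as a submodule of M, equal to N(Y) ∩ N(Z). (Geometric
meaning: A is the local ring of a flat family of curves over a discrete valuation ring with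
uniformizer π at a point of the reduced special fibre, M the stalk of a torsion-free rank-one sheaf
I, Y a set of components of the special fibre through the point, and N(Y) the stalk of the kernel
I^Y of I → I(s)_Y; the statement is (I^Y)^Z = I^Y ∩ I^Z = πI. Reducedness of A/πA, flatness and rank
one are not used.) -/
theorem result
    (A : Type u) [CommRing A] [IsNoetherianRing A] (π : A)
    (ι : Type) [Finite ι] (𝔓 : ι → Ideal A) [∀ i, (𝔓 i).IsPrime]
    (h𝔓 : ∀ i, 𝔓 i ∈ (Ideal.span {π}).minimalPrimes) (h𝔓inj : Function.Injective 𝔓)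
    (h𝔓surj : ∀ 𝔔 ∈ (Ideal.span {π}).minimalPrimes, ∃ i, 𝔓 i = 𝔔)
    (M : Type u) [AddCommGroup M] [Module A M] [Module.Finite A M]
    (K : Set ι → Submodule A (M ⧸ Ideal.span {π} • (⊤ : Submodule A M)))
    (hK : ∀ T : Set ι, K T = ⨅ i ∈ T, LinearMap.ker
      (LocalizedModule.mkLinearMap (𝔓 i).primeCompl (M ⧸ Ideal.span {π} • (⊤ : Submodule A M))))
    (htf : K Set.univ = ⊥)
    (N : Set ι → Submodule A M)
    (hN : ∀ T : Set ι, N T = (K T).comap (Submodule.mkQ (Ideal.span {π} • (⊤ : Submodule A M))))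
    (Y : Set ι) :
    N Y ⊓ N Yᶜ = Ideal.span {π} • (⊤ : Submodule A M) ∧
    Submodule.map (N Y).subtype
      ((⨅ i ∈ Yᶜ, LinearMap.ker (LocalizedModule.mkLinearMap (𝔓 i).primeCompl
          (↥(N Y) ⧸ Ideal.span {π} • (⊤ : Submodule A ↥(N Y))))).comap
        (Submodule.mkQ (Ideal.span {π} • (⊤ : Submodule A ↥(N Y)))))
      = N Y ⊓ N Yᶜ := by
  classical
  -- elementary description of N T
  have memN : ∀ (T : Set ι) (x : M), x ∈ N T ↔
      ∀ i ∈ T, ∃ s : A, s ∉ 𝔓 i ∧ ∃ x' : M, s • x = π • x' := by
    intro T x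
    rw [hN T, hK T]
    exact mem_comap_iInf_ker_iff π 𝔓 T x
  have hW_le : ∀ T : Set ι, Ideal.span {π} • (⊤ : Submodule A M) ≤ N T := by
    intro T x hx
    rw [hN T, Submodule.mem_comap, Submodule.mkQ_apply, (Submodule.Quotient.mk_eq_zero _).mpr hx]
    exact zero_mem _
  have part1 : N Y ⊓ N Yᶜ = Ideal.span {π} • (⊤ : Submodule A M) := by
    apply le_antisymm
    · intro x hx
      have hx1 := (memN Y x).mp hx.1
      have hx2 := (memN Yᶜ x).mp hx.2
      have hxu : x ∈ N Set.univ := by
        rw [memN]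
        intro i _
        by_cases hi : i ∈ Y
        · exact hx1 i hi
        · exact hx2 i hi
      rw [hN Set.univ, htf, Submodule.mem_comap, Submodule.mem_bot, Submodule.mkQ_apply,
        Submodule.Quotient.mk_eq_zero] at hxu
      exact hxu
    · exact le_inf (hW_le Y) (hW_le Yᶜ)
  refine ⟨part1, ?_⟩
  apply le_antisymm
  · rintro x ⟨n, hn, rfl⟩
    rw [SetLike.mem_coe, mem_comap_iInf_ker_iff] at hn
    refine ⟨n.2, ?_⟩
    show (n : M) ∈ N Yᶜ
    rw [memN]
    intro i hi
    obtain ⟨s, hs, n', hn'⟩ := hn i hi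
    refine ⟨s, hs, (n' : M), ?_⟩
    have := congrArg (Subtype.val) hn'
    simpa using this
  · intro x hx
    have hxW : x ∈ Ideal.span {π} • (⊤ : Submodule A M) := part1 ▸ hx
    obtain ⟨m, rfl⟩ := (mem_span_smul_top_iff π x).mp hxW
    refine ⟨⟨π • m, hx.1⟩, ?_, rfl⟩
    rw [SetLike.mem_coe, mem_comap_iInf_ker_iff]
    intro i hi
    obtain ⟨s, hs, hsY⟩ := exists_avoid π 𝔓 h𝔓 h𝔓inj i Y hi
    have hsm : s • m ∈ N Y := by
      rw [memN]
      intro j hj
      obtain ⟨u, hu, a, hua⟩ := hsY j hj
      refine ⟨u, hu, a • m, ?_⟩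
      rw [smul_smul, hua, mul_smul]
    refine ⟨s, hs, ⟨s • m, hsm⟩, ?_⟩
    apply Subtype.ext
    simp only [Submodule.coe_smul]
    rw [smul_comm]

end Groth.Agent.S18364
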