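-- Statement S18365.
import Groth.Statements.S18365
import Mathlib
import Groth.Agent.Lib.Helper1.ModifLib
open Groth.Agent.Lib.Helper1.ModifLib

set_option autoImplicit false
universe u
open CAlg

namespace Groth.Agent.S18365

/-- Let A be a Noetherian ring, π an element of A, (𝔓_i)_{i ∈ ι} an injective finite family listing
exactly the minimal prime ideals over (π), and M a finitely generated A-module on which π acts
injectively; put M̄ = M/πM. For T ⊆ ι let K(T) ⊆ M̄ be the submodule of elements whose image in the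
localisation of M̄ at 𝔓_i vanishes for every i ∈ T, and N(T) ⊆ M its preimage; assume K(ι) = 0.
Suppose that M̄ decomposes at Y, i.e. K(Y) + K(Yᶜ) = M̄, and that for a subset Z the module
N(Y)/πN(Y) decomposes at Z, i.e. its submodule of elements vanishing at every 𝔓_i (i ∈ Z) and its
submodule of elements vanishing at every 𝔓_i (i ∉ Z) together span it. Then M̄ decomposes at Z: K(Z)
+ K(Zᶜ) = M̄. (Geometric meaning: for a flat family of curves over a discrete valuation ring with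
uniformizer π, I a torsion-free rank-one sheaf flat over the base, Y a subcurve of the special fibre
X(s) at which I(s) decomposes and I^Y = ker(I → I(s)_Y): if I^Y(s) decomposes at a subcurve Z then
so does I(s); decomposition of a sheaf at Z is the surjectivity of I(s) → I(s)_Z ⊕ I(s)_{Z^c},
checked on stalks. Reducedness of the special fibre and rank one are not used.) -/
theorem result
    (A : Type u) [CommRing A] [IsNoetherianRing A] (π : A)
    (ι : Type) [Finite ι] (𝔓 : ι → Ideal A) [∀ i, (𝔓 i).IsPrime]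
    (h𝔓 : ∀ i, 𝔓 i ∈ (Ideal.span {π}).minimalPrimes) (h𝔓inj : Function.Injective 𝔓)
    (h𝔓surj : ∀ 𝔔 ∈ (Ideal.span {π}).minimalPrimes, ∃ i, 𝔓 i = 𝔔)
    (M : Type u) [AddCommGroup M] [Module A M] [Module.Finite A M]
    (hπ : ∀ m : M, π • m = 0 → m = 0)
    (K : Set ι → Submodule A (M ⧸ Ideal.span {π} • (⊤ : Submodule A M)))
    (hK : ∀ T : Set ι, K T = ⨅ i ∈ T, LinearMap.ker
      (LocalizedModule.mkLinearMap (𝔓 i).primeCompl (M ⧸ Ideal.span {π} • (⊤ : Submodule A M))))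
    (htf : K Set.univ = ⊥)
    (N : Set ι → Submodule A M)
    (hN : ∀ T : Set ι, N T = (K T).comap (Submodule.mkQ (Ideal.span {π} • (⊤ : Submodule A M))))
    (Y Z : Set ι) (hY : K Y ⊔ K Yᶜ = ⊤)
    (K' : Set ι → Submodule A (↥(N Y) ⧸ Ideal.span {π} • (⊤ : Submodule A ↥(N Y))))
    (hK' : ∀ T : Set ι, K' T = ⨅ i ∈ T, LinearMap.ker
      (LocalizedModule.mkLinearMap (𝔓 i).primeCompl (↥(N Y) ⧸ Ideal.span {π} • (⊤ : Submodule A ↥(N Y)))))
    (hZ : K' Z ⊔ K' Zᶜ = ⊤) :
    K Z ⊔ K Zᶜ = ⊤ := by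
  classical
  -- elementary description of N T
  have memN : ∀ (T : Set ι) (x : M), x ∈ N T ↔
      ∀ i ∈ T, ∃ s : A, s ∉ 𝔓 i ∧ ∃ x' : M, s • x = π • x' := by
    intro T x
    rw [hN T, hK T]
    exact mem_comap_iInf_ker_iff π 𝔓 T x
  have memK : ∀ (T : Set ι) (x : M),
      (Submodule.mkQ (Ideal.span {π} • (⊤ : Submodule A M))) x ∈ K T ↔ x ∈ N T := by
    intro T x
    rw [hN T, Submodule.mem_comap]
  have memK' : ∀ (T : Set ι) (n : ↥(N Y)),
      (Submodule.mkQ (Ideal.span {π} • (⊤ : Submodule A ↥(N Y)))) n ∈ K' T ↔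
      ∀ i ∈ T, ∃ s : A, s ∉ 𝔓 i ∧ ∃ n' : ↥(N Y), s • n = π • n' := by
    intro T n
    rw [hK' T]
    exact mkQ_mem_iInf_ker_iff π 𝔓 T n
  have hW_le : ∀ T : Set ι, Ideal.span {π} • (⊤ : Submodule A M) ≤ N T := by
    intro T x hx
    rw [hN T, Submodule.mem_comap, Submodule.mkQ_apply, (Submodule.Quotient.mk_eq_zero _).mpr hx]
    exact zero_mem _
  -- N T ⊓ N Tᶜ = πM
  have part1 : ∀ T : Set ι, N T ⊓ N Tᶜ ≤ Ideal.span {π} • (⊤ : Submodule A M) := by
    intro T x hx
    have hx1 := (memN T x).mp hx.1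
    have hx2 := (memN Tᶜ x).mp hx.2
    have hxu : x ∈ N Set.univ := by
      rw [memN]
      intro i _
      by_cases hi : i ∈ T
      · exact hx1 i hi
      · exact hx2 i hi
    rw [hN Set.univ, htf, Submodule.mem_comap, Submodule.mem_bot, Submodule.mkQ_apply,
      Submodule.Quotient.mk_eq_zero] at hxu
    exact hxu
  -- a sum decomposition of the quotient lifts
  have lift_sup : ∀ T : Set ι, K T ⊔ K Tᶜ = ⊤ → N T ⊔ N Tᶜ = ⊤ := by
    intro T hT
    rw [eq_top_iff]
    intro m _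
    have : (Submodule.mkQ (Ideal.span {π} • (⊤ : Submodule A M))) m ∈ K T ⊔ K Tᶜ := by
      rw [hT]; exact Submodule.mem_top
    obtain ⟨a', ha', b', hb', hab⟩ := Submodule.mem_sup.mp this
    obtain ⟨a, rfl⟩ := Submodule.mkQ_surjective _ a'
    obtain ⟨b, rfl⟩ := Submodule.mkQ_surjective _ b'
    rw [memK] at ha' hb'
    have hd : m - (a + b) ∈ Ideal.span {π} • (⊤ : Submodule A M) := by
      rw [← Submodule.Quotient.mk_eq_zero, Submodule.Quotient.mk_sub, sub_eq_zero]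
      rw [← map_add] at hab
      exact hab.symm
    have : m = (a + (m - (a + b))) + b := by abel
    rw [this]
    exact Submodule.add_mem_sup (add_mem ha' (hW_le T hd)) hb'
  have hYtop : N Y ⊔ N Yᶜ = ⊤ := lift_sup Y hY
  -- it suffices to show G := N Z ⊔ N Zᶜ = ⊤
  suffices hG : N Z ⊔ N Zᶜ = ⊤ by
    rw [eq_top_iff]
    intro x _
    obtain ⟨m, rfl⟩ := Submodule.mkQ_surjective _ x
    have : m ∈ N Z ⊔ N Zᶜ := hG ▸ Submodule.mem_top
    obtain ⟨a, ha, b, hb, rfl⟩ := Submodule.mem_sup.mp this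
    rw [map_add]
    exact Submodule.add_mem_sup ((memK Z a).mpr ha) ((memK Zᶜ b).mpr hb)
  -- decomposition in N Y / π N Y
  have decomp : ∀ n : ↥(N Y), ∃ a b n₁ : ↥(N Y), n = a + b + π • n₁ ∧
      (∀ i ∈ Z, ∃ s : A, s ∉ 𝔓 i ∧ ∃ n' : ↥(N Y), s • a = π • n') ∧
      (∀ i ∈ Zᶜ, ∃ s : A, s ∉ 𝔓 i ∧ ∃ n' : ↥(N Y), s • b = π • n') := by
    intro n
    have : (Submodule.mkQ (Ideal.span {π} • (⊤ : Submodule A ↥(N Y)))) n ∈ K' Z ⊔ K' Zᶜ := by
      rw [hZ]; exact Submodule.mem_top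
    obtain ⟨a', ha', b', hb', hab⟩ := Submodule.mem_sup.mp this
    obtain ⟨a, rfl⟩ := Submodule.mkQ_surjective _ a'
    obtain ⟨b, rfl⟩ := Submodule.mkQ_surjective _ b'
    rw [memK'] at ha' hb'
    have hd : n - (a + b) ∈ Ideal.span {π} • (⊤ : Submodule A ↥(N Y)) := by
      rw [← Submodule.Quotient.mk_eq_zero, Submodule.Quotient.mk_sub, sub_eq_zero]
      rw [← map_add] at hab
      exact hab.symm
    obtain ⟨n₁, hn₁⟩ := (mem_span_smul_top_iff π _).mp hd
    refine ⟨a, b, n₁, ?_, ha', hb'⟩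
    rw [← hn₁]; abel
  -- weak vanishing transfers to M
  have toM : ∀ (T : Set ι) (a : ↥(N Y)),
      (∀ i ∈ T, ∃ s : A, s ∉ 𝔓 i ∧ ∃ n' : ↥(N Y), s • a = π • n') → (a : M) ∈ N T := by
    intro T a ha
    rw [memN]
    intro i hi
    obtain ⟨s, hs, n', hn'⟩ := ha i hi
    refine ⟨s, hs, (n' : M), ?_⟩
    have := congrArg (Subtype.val) hn'
    simpa using this
  -- Case 1 : N Y ≤ G
  have case1 : N Y ≤ N Z ⊔ N Zᶜ := by
    intro m hm
    obtain ⟨a, b, n₁, hn, ha, hb⟩ := decomp ⟨m, hm⟩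
    have hm' : m = (a : M) + (b : M) + π • (n₁ : M) := by
      have := congrArg (Subtype.val) hn
      simpa using this
    have hπ' : π • (n₁ : M) ∈ N Z := by
      apply hW_le Z
      exact (mem_span_smul_top_iff π _).mpr ⟨_, rfl⟩
    have : m = ((a : M) + π • (n₁ : M)) + (b : M) := by rw [hm']; abel
    rw [this]
    exact Submodule.add_mem_sup (add_mem (toM Z a ha) hπ') (toM Zᶜ b hb)
  -- sub-lemma: an element which lands in N Y after multiplication outside 𝔓 i, for all i ∈ T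
  have sub : ∀ (T : Set ι), N T ≤ N Z ⊔ N Zᶜ → ∀ x : M,
      (∀ i ∈ T, ∃ s : A, s ∉ 𝔓 i ∧ s • x ∈ N Y) → x ∈ N Z ⊔ N Zᶜ := by
    intro T hT x hx
    have : x ∈ N Y ⊔ N Yᶜ := hYtop ▸ Submodule.mem_top
    obtain ⟨α, hα, α', hα', rfl⟩ := Submodule.mem_sup.mp this
    refine add_mem (case1 hα) (hT ?_)
    rw [memN]
    intro i hi
    by_cases hiY : i ∈ Y
    · -- α + α' vanishes at i, and so does α
      obtain ⟨s, hs, hsx⟩ := hx i hi
      obtain ⟨s', hs', x', hx'⟩ := (memN Y _).mp hsx i hiY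
      obtain ⟨s'', hs'', x'', hx''⟩ := (memN Y _).mp hα i hiY
      refine ⟨s'' * (s' * s), ?_, s'' • x' - (s' * s) • x'', ?_⟩
      · intro h
        rcases (Ideal.IsPrime.mem_or_mem inferInstance h) with h | h
        · exact hs'' h
        · rcases (Ideal.IsPrime.mem_or_mem inferInstance h) with h | h
          · exact hs' h
          · exact hs h
      · have e1 : (s'' * (s' * s)) • (α + α') = π • (s'' • x') := by
          rw [mul_smul, mul_smul, hx', smul_comm]
        have e2 : (s'' * (s' * s)) • α = π • ((s' * s) • x'') := by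
          rw [mul_comm, mul_smul, hx'', smul_comm]
        have : (s'' * (s' * s)) • α' = (s'' * (s' * s)) • (α + α') - (s'' * (s' * s)) • α := by
          rw [smul_add]; abel
        rw [this, e1, e2, smul_sub]
    · exact (memN Yᶜ _).mp hα' i hiY
  rw [eq_top_iff, ← hYtop]
  refine sup_le case1 ?_
  -- Case 2 : N Yᶜ ≤ G
  intro m hm
  have hπm : π • m ∈ N Y := hW_le Y ((mem_span_smul_top_iff π _).mpr ⟨m, rfl⟩)
  obtain ⟨a, b, n₁, hn, ha, hb⟩ := decomp ⟨π • m, hπm⟩
  have hm' : π • m = (a : M) + (b : M) + π • (n₁ : M) := by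
    have := congrArg (Subtype.val) hn
    simpa using this
  have haZ : (a : M) ∈ N Z := toM Z a ha
  have hbZ : (b : M) ∈ N Zᶜ := toM Zᶜ b hb
  have hab : (a : M) + (b : M) = π • (m - (n₁ : M)) := by
    rw [smul_sub, hm']; abel
  have haZc : (a : M) ∈ N Zᶜ := by
    have : (a : M) = π • (m - (n₁ : M)) - (b : M) := by rw [← hab]; abel
    rw [this]
    exact sub_mem (hW_le Zᶜ ((mem_span_smul_top_iff π _).mpr ⟨_, rfl⟩)) hbZ
  obtain ⟨a₁, ha₁⟩ := (mem_span_smul_top_iff π _).mp (part1 Z ⟨haZ, haZc⟩)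
  have hb₁ : (b : M) = π • (m - (n₁ : M) - a₁) := by
    have : (b : M) = π • (m - (n₁ : M)) - (a : M) := by rw [← hab]; abel
    rw [this, ha₁, ← smul_sub]
  -- m = n₁ + a₁ + b₁
  have hm'' : m = (n₁ : M) + a₁ + (m - (n₁ : M) - a₁) := by abel
  have hn₁G : (n₁ : M) ∈ N Z ⊔ N Zᶜ := case1 n₁.2
  have ha₁G : a₁ ∈ N Z ⊔ N Zᶜ := by
    refine sub Z le_sup_left a₁ ?_
    intro i hi
    obtain ⟨s, hs, n', hn'⟩ := ha i hi
    refine ⟨s, hs, ?_⟩
    have h1 : s • (a : M) = π • (n' : M) := by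
      have := congrArg (Subtype.val) hn'
      simpa using this
    have h2 : π • (s • a₁ - (n' : M)) = 0 := by
      rw [smul_sub, smul_comm, ← ha₁, h1, sub_self]
    have h3 : s • a₁ = (n' : M) := sub_eq_zero.mp (hπ _ h2)
    rw [h3]
    exact n'.2
  have hb₁G : (m - (n₁ : M) - a₁) ∈ N Z ⊔ N Zᶜ := by
    refine sub Zᶜ le_sup_right _ ?_
    intro i hi
    obtain ⟨s, hs, n', hn'⟩ := hb i hi
    refine ⟨s, hs, ?_⟩
    have h1 : s • (b : M) = π • (n' : M) := by
      have := congrArg (Subtype.val) hn'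
      simpa using this
    have h2 : π • (s • (m - (n₁ : M) - a₁) - (n' : M)) = 0 := by
      rw [smul_sub, smul_comm, ← hb₁, h1, sub_self]
    have h3 : s • (m - (n₁ : M) - a₁) = (n' : M) := sub_eq_zero.mp (hπ _ h2)
    rw [h3]
    exact n'.2
  rw [hm'']
  exact add_mem (add_mem hn₁G ha₁G) hb₁G

end Groth.Agent.S18365
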