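import Groth.Statements.S18368
import Groth.Agent.Lib.Helper13.Rigid7
import Groth.Agent.Lib.Helper26.MagnetFactor

set_option autoImplicit false
universe u
open CategoryTheory CategoryTheory.Limits MonoidalCategory CartesianMonoidalCategory AlgebraicGeometry
open AbVar

namespace Groth.Agent.S18368

/-- Let k be a field, X and Y geometrically integral k-schemes of finite type with X proper, Z a
separated k-scheme and f : X ×_k Y → Z a k-morphism (products in the cartesian monoidal category of
k-schemes). If for some algebraically closed field K over k there are points y₀ : Spec K → Y and z₀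
: Spec K → Z over k such that f restricted to X ×_k Spec K along y₀ is the constant map z₀, then f
factors uniquely through the second projection: there is exactly one g : Y → Z over k with f = pr₂ ≫
g. (The target Z is not assumed to be of finite type over k.) -/
theorem result (k : Type u) [Field k]
    (X Y Z : Over (Spec (CommRingCat.of k)))
    [IsProper X.hom] [GeometricallyIntegral X.hom]
    [LocallyOfFiniteType Y.hom] [QuasiCompact Y.hom] [GeometricallyIntegral Y.hom]
    [IsSeparated Z.hom] (f : X ⊗ Y ⟶ Z)
    (K : Type u) [Field K] [Algebra k K] [IsAlgClosed K]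
    (y₀ : (Over.mk (Spec.map (CommRingCat.ofHom (algebraMap k K))) : Over (Spec (CommRingCat.of k))) ⟶ Y)
    (z₀ : (Over.mk (Spec.map (CommRingCat.ofHom (algebraMap k K))) : Over (Spec (CommRingCat.of k))) ⟶ Z)
    (h : (X ◁ y₀) ≫ f = snd X _ ≫ z₀) :
    ∃! g : Y ⟶ Z, f = snd X Y ≫ g := by
  haveI : Flat X.hom := Groth.Agent.Lib.Helper26.MagnetFactor.flat_hom_of_field k X
  haveI : Subsingleton ↥(Spec (CommRingCat.of k)) := by
    change Subsingleton (PrimeSpectrum k)
    infer_instance
  haveI : IsIntegral Y.left := GeometricallyIntegral.isIntegral_of_subsingleton Y.hom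
  haveI : IsLocallyNoetherian Y.left := LocallyOfFiniteType.isLocallyNoetherian Y.hom
  haveI : ConnectedSpace Y.left := inferInstance
  have h0 : ∀ y : Y.left, Module.finrank (Y.left.residueField y)
      Γ((pullback.snd X.hom Y.hom).fiber y, ⊤) = 1 :=
    fun y => Groth.Agent.Lib.Helper13.CBCSeesawG.finrank_eq_one (pullback.snd X.hom Y.hom) y
  haveI : Nonempty (Over.mk (Spec.map (CommRingCat.ofHom (algebraMap k K))) :
      Over (Spec (CommRingCat.of k))).left :=
    inferInstanceAs (Nonempty (PrimeSpectrum K))
  obtain ⟨g, hg⟩ := Groth.Agent.Lib.Helper13.Rigid.exists_factor_snd_of_point X Y Z h0 f _ y₀ z₀ h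
  haveI : Epi (snd X Y) := Groth.Agent.Lib.Helper13.Rigid.epi_snd_of_h0 X Y h0
  refine ⟨g, hg, fun g' hg' => ?_⟩
  rw [← cancel_epi (snd X Y), ← hg, ← hg']

end Groth.Agent.S18368
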