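import Groth.Statements.S18370
import Mathlib

set_option autoImplicit false
universe u
open CategoryTheory CategoryTheory.Limits MonoidalCategory CartesianMonoidalCategory MonObj GrpObj AlgebraicGeometry
open GrpSch

namespace Groth.Agent.S18370

/-- Let S be a scheme and G a commutative S-group scheme which is killed by a natural number n, i.e. the
n-th power map of G is the trivial homomorphism, and let n = a·b with a and b coprime. If i_a : G_a
→ G and i_b : G_b → G are scheme-theoretic kernels of the a-th and b-th power maps of G, then the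
morphism G_a ×_S G_b → G sending (x, y) to i_a(x)·i_b(y) is an isomorphism of S-schemes. (The
published statement assumes n ≠ 0; the case n = 0, where {a, b} = {0, 1} and one kernel is all of G
while the other is trivial, is included here.) -/
theorem result {S : Scheme.{u}} (G Ga Gb : Over S)
    [GrpObj G] [IsCommMonObj G] (n a b : ℕ) (hn : n = a * b) (hab : Nat.Coprime a b)
    (hG : (𝟙 G) ^ n = 1)
    (ia : Ga ⟶ G) (hia : AlgGrp.IsKernel ia ((𝟙 G) ^ a))
    (ib : Gb ⟶ G) (hib : AlgGrp.IsKernel ib ((𝟙 G) ^ b)) :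
    IsIso ((fst Ga Gb ≫ ia) * (snd Ga Gb ≫ ib)) := by
  have hcop : IsCoprime (a : ℤ) (b : ℤ) := Nat.isCoprime_iff_coprime.mpr hab
  obtain ⟨u, v, huv⟩ := hcop
  -- points of the kernels
  have hone : ∀ {T : Over S}, (toUnit T ≫ η[G] : T ⟶ G) = 1 := fun {T} => (Hom.one_def).symm
  have hpowa : ∀ {T : Over S} (x : T ⟶ Ga), (x ≫ ia) ^ a = 1 := by
    intro T x
    calc (x ≫ ia) ^ a = (x ≫ ia) ≫ ((𝟙 G) ^ a) := by rw [MonObj.comp_pow, Category.comp_id]
      _ = x ≫ (toUnit Ga ≫ η[G]) := by rw [Category.assoc, hia.w]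
      _ = 1 := by rw [hone, MonObj.comp_one]
  have hpowb : ∀ {T : Over S} (x : T ⟶ Gb), (x ≫ ib) ^ b = 1 := by
    intro T x
    calc (x ≫ ib) ^ b = (x ≫ ib) ≫ ((𝟙 G) ^ b) := by rw [MonObj.comp_pow, Category.comp_id]
      _ = x ≫ (toUnit Gb ≫ η[G]) := by rw [Category.assoc, hib.w]
      _ = 1 := by rw [hone, MonObj.comp_one]
  have hGn : ∀ {T : Over S} (g : T ⟶ G), g ^ n = 1 := by
    intro T g
    calc g ^ n = g ≫ ((𝟙 G) ^ n) := by rw [MonObj.comp_pow, Category.comp_id]
      _ = 1 := by rw [hG, MonObj.comp_one]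
  have hnz : (n : ℤ) = a * b := by exact_mod_cast hn
  -- the two projections
  have hka : ((𝟙 G) ^ (v * b : ℤ)) ≫ ((𝟙 G) ^ a) = toUnit G ≫ η[G] := by
    rw [hone, MonObj.comp_pow, Category.comp_id, ← zpow_natCast, ← zpow_mul,
      show v * (b : ℤ) * (a : ℤ) = (n : ℤ) * v by rw [hnz]; ring, zpow_mul, zpow_natCast, hGn,
      one_zpow]
  have hkb : ((𝟙 G) ^ (u * a : ℤ)) ≫ ((𝟙 G) ^ b) = toUnit G ≫ η[G] := by
    rw [hone, MonObj.comp_pow, Category.comp_id, ← zpow_natCast, ← zpow_mul,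
      show u * (a : ℤ) * (b : ℤ) = (n : ℤ) * u by rw [hnz]; ring, zpow_mul, zpow_natCast, hGn,
      one_zpow]
  let ka : G ⟶ Ga := hia.lift _ _ hka
  let kb : G ⟶ Gb := hib.lift _ _ hkb
  have hka' : ka ≫ ia = (𝟙 G) ^ (v * b : ℤ) := hia.lift_fst _ _ hka
  have hkb' : kb ≫ ib = (𝟙 G) ^ (u * a : ℤ) := hib.lift_fst _ _ hkb
  refine ⟨lift ka kb, ?_, ?_⟩
  · -- m ≫ k = 𝟙
    set m : Ga ⊗ Gb ⟶ G := (fst Ga Gb ≫ ia) * (snd Ga Gb ≫ ib) with hm
    have hma : m ^ (v * b : ℤ) = fst Ga Gb ≫ ia := by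
      rw [hm, mul_zpow]
      have h1 : (snd Ga Gb ≫ ib) ^ (v * b : ℤ) = 1 := by
        rw [mul_comm, zpow_mul, zpow_natCast, hpowb, one_zpow]
      have h2 : (fst Ga Gb ≫ ia) ^ (v * b : ℤ) = fst Ga Gb ≫ ia := by
        rw [show v * (b : ℤ) = 1 - (a : ℤ) * u by linarith, zpow_sub, zpow_one, zpow_mul,
          zpow_natCast, hpowa, one_zpow, inv_one, _root_.mul_one]
      rw [h1, h2, _root_.mul_one]
    have hmb : m ^ (u * a : ℤ) = snd Ga Gb ≫ ib := by
      rw [hm, mul_zpow]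
      have h1 : (fst Ga Gb ≫ ia) ^ (u * a : ℤ) = 1 := by
        rw [mul_comm, zpow_mul, zpow_natCast, hpowa, one_zpow]
      have h2 : (snd Ga Gb ≫ ib) ^ (u * a : ℤ) = snd Ga Gb ≫ ib := by
        rw [show u * (a : ℤ) = 1 - (b : ℤ) * v by linarith, zpow_sub, zpow_one, zpow_mul,
          zpow_natCast, hpowb, one_zpow, inv_one, _root_.mul_one]
      rw [h1, h2, _root_.one_mul]
    apply CartesianMonoidalCategory.hom_ext
    · rw [Category.assoc, lift_fst, Category.id_comp]
      apply hia.hom_ext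
      · rw [Category.assoc, hka', GrpObj.comp_zpow, Category.comp_id, hma]
      · exact toUnit_unique _ _
    · rw [Category.assoc, lift_snd, Category.id_comp]
      apply hib.hom_ext
      · rw [Category.assoc, hkb', GrpObj.comp_zpow, Category.comp_id, hmb]
      · exact toUnit_unique _ _
  · -- k ≫ m = 𝟙
    rw [MonObj.comp_mul, ← Category.assoc, ← Category.assoc, lift_fst, lift_snd, hka', hkb',
      ← zpow_add, show v * (b : ℤ) + u * (a : ℤ) = 1 by linarith, zpow_one]

end Groth.Agent.S18370
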