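import Groth.Statements.S18378
import Mathlib
import Groth.Agent.Lib.Helper27.VerlindeCore

set_option autoImplicit false
open Complex
open VerlindeComb
open Groth.Agent.Lib.Helper27.Verlinde

namespace Groth.Agent.S18378

/-- Let r, k ≥ 1 be integers and v, v' two integer vectors with r + k > v_1 > ⋯ > v_r ≥ 0 and r + k >
v'_1 > ⋯ > v'_r ≥ 0 whose difference v - v' is not a constant vector (a, …, a). Put z_j = exp(2πi
v_j / (r + k)), z'_j = exp(2πi v'_j / (r + k)), let S_μ(w) = det(w_j^{μ_i + r - i}) / det(w_j^{r -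
i}) be the Schur value at w = z or z', and write |x| for the sum of the coordinates of a vector and
μ* = (k - μ_r, …, k - μ_1). Then the sum over all μ with k ≥ μ_1 ≥ ⋯ ≥ μ_{r-1} ≥ μ_r = 0 of exp(-2πi
|μ| |v| / (r (r + k))) · exp(-2πi |μ*| |v'| / (r (r + k))) · S_μ(z) · S_{μ*}(z') is zero. The
vanishing is the orthogonality of distinct characters and holds exactly for non-equivalent v, v';
for v - v' constant the sum is nonzero. Indices are 0-based below: μ i stands for μ_{i+1}. -/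
theorem result (r k : ℕ) (hr : 1 ≤ r)
    (hk : 1 ≤ k) (v v' : Fin r → ℕ) (hv : StrictAnti v) (hvlt : ∀ i, v i < r + k) (hv' : StrictAnti v')
    (hv'lt : ∀ i, v' i < r + k) (hne : ¬ ∃ a : ℤ, ∀ i, (v i : ℤ) - (v' i : ℤ) = a)
    (z z' : Fin r → ℂ) (hz : ∀ j, z j = Complex.exp (2 * Real.pi * Complex.I * (v j : ℂ) / ((r : ℂ) + k)))
    (hz' : ∀ j, z' j = Complex.exp (2 * Real.pi * Complex.I * (v' j : ℂ) / ((r : ℂ) + k)))
    (S S' : (Fin r → ℕ) → ℂ)
    (hS : ∀ μ : Fin r → ℕ, S μ =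
      (Matrix.of fun i j : Fin r => z j ^ (μ i + (r - 1 - (i : ℕ)))).det /
        (Matrix.of fun i j : Fin r => z j ^ (r - 1 - (i : ℕ))).det)
    (hS' : ∀ μ : Fin r → ℕ, S' μ =
      (Matrix.of fun i j : Fin r => z' j ^ (μ i + (r - 1 - (i : ℕ)))).det /
        (Matrix.of fun i j : Fin r => z' j ^ (r - 1 - (i : ℕ))).det) :
    (∑ μ ∈ (Finset.univ : Finset (Fin r → Fin (k + 1))).filter
        (fun μ : Fin r → Fin (k + 1) => Antitone μ ∧ ∀ i : Fin r, (i : ℕ) = r - 1 → (μ i : ℕ) = 0),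
      Complex.exp (-(2 * Real.pi * Complex.I * ((∑ i, (μ i : ℕ) : ℕ) : ℂ) * ((∑ j, v j : ℕ) : ℂ) /
          ((r : ℂ) * ((r : ℂ) + k)))) *
      Complex.exp (-(2 * Real.pi * Complex.I * ((∑ i, (k - (μ (Fin.rev i) : ℕ)) : ℕ) : ℂ) *
          ((∑ j, v' j : ℕ) : ℂ) / ((r : ℂ) * ((r : ℂ) + k)))) *
      S (fun i => (μ i : ℕ)) * S' (fun i => k - (μ (Fin.rev i) : ℕ))) = 0 := by
  classical
  have hN0 : r + k ≠ 0 := by omega
  have hcast : ((r : ℂ) + k) = ((r + k : ℕ) : ℂ) := by push_cast; ring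
  have hrne : (r : ℂ) ≠ 0 := by
    have : r ≠ 0 := by omega
    exact_mod_cast this
  have hNne : ((r : ℂ) + k) ≠ 0 := by
    rw [hcast]; exact_mod_cast hN0
  have hM : k + 1 + (r - 1) = r + k := by omega
  have hMc : ((k + 1 + (r - 1) : ℕ) : ℂ) = (r : ℂ) + k := by
    rw [hM]; push_cast; ring
  -- facts on z, z'
  have hzpow : ∀ j, z j = Complex.exp (2 * Real.pi * Complex.I / ((r + k : ℕ) : ℂ)) ^ v j := by
    intro j
    rw [hz, hcast]
    exact z_eq_zeta_pow _ _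
  have hz'pow : ∀ j, z' j = Complex.exp (2 * Real.pi * Complex.I / ((r + k : ℕ) : ℂ)) ^ v' j := by
    intro j
    rw [hz', hcast]
    exact z_eq_zeta_pow _ _
  obtain ⟨hzN, hinj, hconj, hzne⟩ := z_facts hN0 v hv.injective hvlt z hzpow
  obtain ⟨hz'N, hinj', hconj', hz'ne⟩ := z_facts hN0 v' hv'.injective hv'lt z' hz'pow
  have hζth : Complex.exp (2 * Real.pi * Complex.I / ((r + k : ℕ) : ℂ)) =
      th (1 / ((k + 1 + (r - 1) : ℕ) : ℂ)) := by
    unfold th
    rw [hMc, ← hcast]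
    congr 1
    ring
  set D := alt z (fun i => r - 1 - (i : ℕ)) with hD
  set D' := alt z' (fun i => r - 1 - (i : ℕ)) with hD'
  have hDne : D ≠ 0 := alt_delta_ne_zero z hinj
  have hD'ne : D' ≠ 0 := alt_delta_ne_zero z' hinj'
  have hSa : ∀ μ : Fin r → ℕ, S μ = alt z (fun i => μ i + (r - 1 - (i : ℕ))) / D := hS
  have hSa' : ∀ μ : Fin r → ℕ, S' μ = alt z' (fun i => μ i + (r - 1 - (i : ℕ))) / D' := hS'
  set V : ℂ := ((∑ j, v j : ℕ) : ℂ) with hV
  set V' : ℂ := ((∑ j, v' j : ℕ) : ℂ) with hV'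
  set u : ℂ := th (-V / ((r : ℂ) * ((r : ℂ) + k))) with hu
  set u' : ℂ := th (-V' / ((r : ℂ) * ((r : ℂ) + k))) with hu'
  have hune : u ≠ 0 := th_ne_zero _
  have hu'ne : u' ≠ 0 := th_ne_zero _
  have hupow : ∀ m : ℕ, Complex.exp (-(2 * Real.pi * Complex.I * (m : ℂ) * V /
      ((r : ℂ) * ((r : ℂ) + k)))) = u ^ m := by
    intro m
    rw [hu, th_pow]
    unfold th
    congr 1
    ring
  have hu'pow : ∀ m : ℕ, Complex.exp (-(2 * Real.pi * Complex.I * (m : ℂ) * V' /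
      ((r : ℂ) * ((r : ℂ) + k)))) = u' ^ m := by
    intro m
    rw [hu', th_pow]
    unfold th
    congr 1
    ring
  set dl : ℕ := ∑ i : Fin r, (r - 1 - (i : ℕ)) with hdl
  set G : (Fin r → ℕ) → ℂ := fun l =>
    (u * u'⁻¹) ^ (∑ i, l i) * (alt z l * alt z' (fun i => (r + k - 1) - l (Fin.rev i))) with hG
  set C₀ : ℂ := u' ^ (r * k) / (u ^ dl * (u'⁻¹) ^ dl * (D * D')) with hC₀
  have hterm : ∀ μ : Fin r → Fin (k + 1),
      Complex.exp (-(2 * Real.pi * Complex.I * ((∑ i, (μ i : ℕ) : ℕ) : ℂ) * ((∑ j, v j : ℕ) : ℂ) /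
          ((r : ℂ) * ((r : ℂ) + k)))) *
      Complex.exp (-(2 * Real.pi * Complex.I * ((∑ i, (k - (μ (Fin.rev i) : ℕ)) : ℕ) : ℂ) *
          ((∑ j, v' j : ℕ) : ℂ) / ((r : ℂ) * ((r : ℂ) + k)))) *
      S (fun i => (μ i : ℕ)) * S' (fun i => k - (μ (Fin.rev i) : ℕ)) =
      C₀ * G (fun i => (μ i : ℕ) + (r - 1 - (i : ℕ))) := by
    intro μ
    have hμs : (∑ i, (μ i : ℕ)) + (∑ i, (k - (μ (Fin.rev i) : ℕ))) = r * k := by
      have h1 : (∑ i, (k - (μ (Fin.rev i) : ℕ))) = ∑ i, (k - (μ i : ℕ)) :=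
        Equiv.sum_comp (Fin.revPerm : Equiv.Perm (Fin r)) (fun i => k - (μ i : ℕ))
      rw [h1, ← Finset.sum_add_distrib]
      have h2 : ∀ i : Fin r, (μ i : ℕ) + (k - (μ i : ℕ)) = k := by
        intro i; have := (μ i).2; omega
      rw [Finset.sum_congr rfl (fun i _ => h2 i)]
      simp
    have hl : (∑ i, ((μ i : ℕ) + (r - 1 - (i : ℕ)))) = (∑ i, (μ i : ℕ)) + dl := by
      rw [Finset.sum_add_distrib]
    have hstar : (fun i : Fin r => k - (μ (Fin.rev i) : ℕ) + (r - 1 - (i : ℕ))) =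
        fun i : Fin r => (r + k - 1) - ((μ (Fin.rev i) : ℕ) + (r - 1 - ((Fin.rev i : Fin r) : ℕ))) := by
      funext i
      have h2 := (μ (Fin.rev i)).2
      have h3 := i.2
      simp only [Fin.val_rev]
      omega
    rw [hupow, hu'pow, hSa, hSa', hstar]
    simp only [hG, hC₀]
    rw [hl, ← hμs]
    set m1 := ∑ i, (μ i : ℕ)
    set m2 := ∑ i, (k - (μ (Fin.rev i) : ℕ))
    rw [pow_add, pow_add, mul_pow, mul_pow, inv_pow, inv_pow]
    field_simp
  rw [Finset.sum_congr rfl (fun μ _ => hterm μ), ← Finset.mul_sum]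
  -- reindex
  have hreidx : ∑ μ ∈ (Finset.univ : Finset (Fin r → Fin (k + 1))).filter
        (fun μ : Fin r → Fin (k + 1) => Antitone μ ∧ ∀ i : Fin r, (i : ℕ) = r - 1 → (μ i : ℕ) = 0),
        G (fun i => (μ i : ℕ) + (r - 1 - (i : ℕ))) =
      ∑ s ∈ alcove r (k + 1 + (r - 1)), G (fun i => (s i : ℕ)) := by
    set G' : (Fin r → ℕ) → ℂ := fun l =>
      if (∀ i : Fin r, (i : ℕ) = r - 1 → l i = 0) then G l else 0 with hG'
    have h1 := sum_antitone_eq_sum_strictAnti r (k + 1) G'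
    have hL : ∑ μ ∈ (Finset.univ : Finset (Fin r → Fin (k + 1))).filter
        (fun μ : Fin r → Fin (k + 1) => Antitone μ ∧ ∀ i : Fin r, (i : ℕ) = r - 1 → (μ i : ℕ) = 0),
        G (fun i => (μ i : ℕ) + (r - 1 - (i : ℕ))) =
        ∑ μ ∈ (Finset.univ : Finset (Fin r → Fin (k + 1))).filter
        (fun μ : Fin r → Fin (k + 1) => Antitone μ),
        (if (∀ i : Fin r, (i : ℕ) = r - 1 → (μ i : ℕ) = 0) then
          G (fun i => (μ i : ℕ) + (r - 1 - (i : ℕ))) else 0) := by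
      rw [← Finset.filter_filter, Finset.sum_filter]
    have hR : ∑ s ∈ alcove r (k + 1 + (r - 1)), G (fun i => (s i : ℕ)) =
        ∑ s ∈ (Finset.univ : Finset (Fin r → Fin (k + 1 + (r - 1)))).filter
        (fun s : Fin r → Fin (k + 1 + (r - 1)) => StrictAnti s),
        (if (∀ i : Fin r, (i : ℕ) = r - 1 → (s i : ℕ) = 0) then G (fun i => (s i : ℕ)) else 0) := by
      unfold alcove
      rw [← Finset.filter_filter, Finset.sum_filter]
    simp only [hG'] at h1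
    rw [hL, hR, ← h1]
    refine Finset.sum_congr rfl fun μ _ => ?_
    have : (∀ i : Fin r, (i : ℕ) = r - 1 → (μ i : ℕ) = 0) ↔
        (∀ i : Fin r, (i : ℕ) = r - 1 → (μ i : ℕ) + (r - 1 - (i : ℕ)) = 0) := by
      constructor
      · intro h i hi
        rw [h i hi, hi]; simp
      · intro h i hi
        have := h i hi
        omega
    simp only [this]
  rw [hreidx]
  -- each term in core form
  have hcore : ∀ s : Fin r → Fin (k + 1 + (r - 1)),
      G (fun i => (s i : ℕ)) =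
        (((Equiv.Perm.sign (Fin.revPerm : Equiv.Perm (Fin r)) : ℤˣ) : ℂ) *
          (∏ j, z' j) ^ (r + k - 1)) *
        ((u * u'⁻¹) ^ (∑ i, (s i : ℕ)) *
          (alt z (fun i => (s i : ℕ)) * alt (fun j => (z' j)⁻¹) (fun i => (s i : ℕ)))) := by
    intro s
    simp only [hG]
    have h3 : (fun i : Fin r => (r + k - 1) - (s (Fin.rev i) : ℕ)) =
        (fun i : Fin r => (r + k - 1) - (s i : ℕ)) ∘ (Fin.revPerm : Equiv.Perm (Fin r)) := by
      funext i; simp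
    rw [h3, alt_perm, alt_sub z' hz'ne (r + k - 1) (fun i => (s i : ℕ))
      (fun i => by have := (s i).2; omega)]
    ring
  rw [Finset.sum_congr rfl (fun s _ => hcore s), ← Finset.mul_sum]
  -- apply the core theorem
  have hcoreThm := core_orthogonality (N := k + 1 + (r - 1)) hr (by omega) v v' hv hv'
    (fun i => by rw [hM]; exact hvlt i) (fun i => by rw [hM]; exact hv'lt i) hne
  have hzfun : z = fun j => th (1 / ((k + 1 + (r - 1) : ℕ) : ℂ)) ^ v j := by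
    funext j; rw [hzpow, hζth]
  have hz'fun : (fun j => (z' j)⁻¹) =
      fun j => (th (1 / ((k + 1 + (r - 1) : ℕ) : ℂ)))⁻¹ ^ v' j := by
    funext j; rw [hz'pow, hζth, inv_pow]
  have huu' : u * u'⁻¹ = th (-(((∑ i, v i : ℕ) : ℂ) - ((∑ i, v' i : ℕ) : ℂ)) /
      ((r : ℂ) * ((k + 1 + (r - 1) : ℕ) : ℂ))) := by
    rw [hu, hu', ← th_neg, ← th_add, hMc]
    congr 1
    ring
  rw [hzfun, hz'fun, huu', hcoreThm]
  simp

end Groth.Agent.S18378
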