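import Groth.Statements.S18379
import Mathlib
import Groth.Agent.Lib.Helper27.Verlinde

set_option autoImplicit false
open VerlindeComb
open Groth.Agent.Lib.Helper27.Verlinde

namespace Groth.Agent.S18379

/-- Let r, k ≥ 1 be integers. Summing over all integer vectors v with r + k > v_1 > v_2 > ⋯ > v_{r-1} >
v_r = 0, one has Σ_v ∏_{i<j} (2 sin(π (v_i - v_j) / (r + k)))² = r (r + k)^{r-1}; that is, the
genus-zero Verlinde number of rank r and level k with no parabolic points, defined as (r (r +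
k)^{r-1})⁻¹ times this sum, equals 1. Indices are 0-based below: v i stands for v_{i+1}. -/
theorem result (r k : ℕ) (hr : 1 ≤ r) (hk : 1 ≤ k) :
    (∑ v ∈ (Finset.univ : Finset (Fin r → Fin (r + k))).filter
        (fun v : Fin r → Fin (r + k) => StrictAnti v ∧ ∀ i : Fin r, (i : ℕ) = r - 1 → (v i : ℕ) = 0),
      ∏ p ∈ (Finset.univ : Finset (Fin r × Fin r)).filter (fun p => p.1 < p.2),
        ((2 : ℝ) * Real.sin (Real.pi * ((v p.1 : ℕ) - (v p.2 : ℕ) : ℝ) / ((r : ℝ) + k))) ^ 2) =
      (r : ℝ) * ((r : ℝ) + k) ^ (r - 1) := by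
  classical
  have hNpos : 1 ≤ r + k := by omega
  have hN0 : r + k ≠ 0 := by omega
  set ζ : ℂ := Complex.exp (2 * Real.pi * Complex.I / ((r + k : ℕ) : ℂ)) with hζdef
  have hζ : IsPrimitiveRoot ζ (r + k) := Complex.isPrimitiveRoot_exp (r + k) hN0
  have hζconj : (starRingEnd ℂ) ζ = ζ⁻¹ := conj_exp_two_pi (r + k)
  have hζne : ζ ≠ 0 := Complex.exp_ne_zero _
  set x : Fin r → ℂ := fun i => ζ ^ (r - 1 - (i : ℕ)) with hx
  set y : Fin r → ℂ := fun i => (ζ⁻¹) ^ (r - 1 - (i : ℕ)) with hy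
  have key : ∀ v : Fin r → Fin (r + k),
      ((∏ p ∈ (Finset.univ : Finset (Fin r × Fin r)).filter (fun p => p.1 < p.2),
        ((2 : ℝ) * Real.sin (Real.pi * ((v p.1 : ℕ) - (v p.2 : ℕ) : ℝ) / ((r : ℝ) + k))) ^ 2 : ℝ) : ℂ)
      = alt x (fun i => (v i : ℕ)) * alt y (fun i => (v i : ℕ)) := by
    intro v
    have h1 := prod_sin_sq_eq r (fun j => 2 * Real.pi * ((v j : ℕ) : ℝ) / ((r : ℝ) + k))
    have hz : (fun j : Fin r => Complex.exp (Complex.I *
        ((2 * Real.pi * ((v j : ℕ) : ℝ) / ((r : ℝ) + k) : ℝ) : ℂ))) = fun j => ζ ^ (v j : ℕ) := by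
      funext j
      rw [hζdef, ← Complex.exp_nat_mul]
      congr 1
      push_cast
      ring
    rw [hz] at h1
    rw [alt_conj] at h1
    simp only [map_pow, hζconj] at h1
    rw [alt_transpose ζ, alt_transpose ζ⁻¹] at h1
    rw [← h1]
    congr 1
    refine Finset.prod_congr rfl fun p _ => ?_
    congr 2
    congr 1
    ring
  apply Complex.ofReal_injective
  rw [Complex.ofReal_sum]
  simp_rw [key]
  rw [sum_alcove_alt_orth hr hNpos x y]
  · push_cast; ring
  · intro j j'
    simp only [hx, hy]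
    rw [mul_pow, ← pow_mul, ← pow_mul, mul_comm _ (r + k), mul_comm _ (r + k), pow_mul, pow_mul,
      inv_pow, hζ.pow_eq_one]
    simp
  · intro j j'
    simp only [hx, hy]
    rw [inv_pow, mul_inv_eq_one₀ (pow_ne_zero _ hζne)]
    constructor
    · intro h
      have h2 := hζ.pow_inj (by have := j.2; omega) (by have := j'.2; omega) h
      apply Fin.ext
      have := j.2; have := j'.2
      omega
    · intro h
      rw [h]

end Groth.Agent.S18379
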