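import Groth.Statements.S18380
import Groth.Agent.Lib.Helper7.InvEnd
import Groth.Agent.Lib.Helper23.GammaField
import Groth.Agent.Lib.Helper8.ProperAtDvr

set_option autoImplicit false
universe u
open Divisors

namespace Groth.Agent.S18380

open CategoryTheory AlgebraicGeometry in
/-- Let k be an algebraically closed field of characteristic 0 and M a scheme, smooth and projective
over k. Let D₁ and D₂ be effective Cartier divisors on M, given by invertible ideal sheaves with
I_{D₂} ⊆ I_{D₁} (so D₁ is a closed subscheme of D₂). If I_{D₁} and I_{D₂} are isomorphic as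
O_M-modules, that is D₁ and D₂ are linearly equivalent, then D₁ = D₂. The published statement is an
equivalence, for effective divisors on a smooth proper Deligne–Mumford stack with equal divisor
classes; its proof reduces to a smooth projective scheme, the case stated here, and the other
direction is immediate. -/
theorem result (k : Type u) [Field k] [IsAlgClosed k] [CharZero k]
    (M : Scheme.{u}) (f : M ⟶ Spec (CommRingCat.of k)) [Smooth f]
    (hproj : Neron.IsProjectiveOver k (Over.mk f))
    (D₁ D₂ : M.IdealSheafData) (h₁ : BlowUp.IsEffCartierIdeal D₁) (h₂ : BlowUp.IsEffCartierIdeal D₂)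
    (hle : D₂ ≤ D₁) (hiso : Nonempty (ClSub.idealMod D₁ ≅ ClSub.idealMod D₂)) :
    D₁ = D₂ := by
  obtain ⟨n, i, hi, hfac⟩ := hproj
  haveI := hi
  haveI := Groth.Agent.Lib.Helper8.ProperAtDvr.isProper_toBase n (Spec (CommRingCat.of k))
  haveI hpf : IsProper f := by
    have h : f = i ≫ CohB1.ProjSpaceOver.toBase n (Spec (CommRingCat.of k)) := hfac.symm
    rw [h]
    infer_instance
  letI : M.Over (Spec (CommRingCat.of k)) := ⟨f⟩
  haveI : IsProper (M ↘ Spec (CommRingCat.of k)) := hpf
  letI := Groth.Agent.Lib.Helper23.GammaField.gammaAlgebra k M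
  haveI := Groth.Agent.Lib.Helper23.GammaField.finite_gamma k M
  haveI : IsArtinianRing Γ(M, ⊤) := IsArtinianRing.of_finite k _
  obtain ⟨φ⟩ := hiso
  apply le_antisymm _ hle
  exact Groth.Agent.Lib.Helper7.InvEnd.le_of_iso_of_artinian D₁ D₂ hle
    ((Groth.Agent.Lib.Helper17.EffCartMod.isInvertible_idealMod_iff D₁).mpr h₁) φ

end Groth.Agent.S18380
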