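import Groth.Statements.S18384
import Mathlib

set_option autoImplicit false
universe u
open CategoryTheory CategoryTheory.Limits AlgebraicGeometry
open Coherent

namespace Groth.Agent.S18384

section helpers
open TopologicalSpace

lemma eq_zero_of_factors {X : Scheme.{u}} (I : X.IdealSheafData) (W : X.affineOpens)
    {R : CommRingCat.{u}} (ψ : Γ(X, W.1) ⟶ R) (c : Spec R ⟶ X)
    (hc : c = Spec.map ψ ≫ W.2.fromSpec)
    (d : Spec R ⟶ I.subscheme) (hd : c = d ≫ I.subschemeι)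
    (s : Γ(X, W.1)) (hs : s ∈ I.ideal W) : ψ s = 0 := by
  have e : (⊤ : (Spec R).Opens) ≤ c ⁻¹ᵁ W.1 := by
    intro y _
    show c.base y ∈ (W.1 : Set X)
    rw [hc, ← W.2.range_fromSpec]
    exact ⟨(Spec.map ψ).base y, rfl⟩
  have h1 := IsAffineOpen.SpecMap_appLE_fromSpec c W.2 (isAffineOpen_top (Spec R)) e
  rw [IsAffineOpen.fromSpec_top, Scheme.isoSpec_Spec_inv] at h1
  have h1' : Spec.map (c.appLE W.1 ⊤ e) ≫ W.2.fromSpec =
      Spec.map (ψ ≫ (Scheme.ΓSpecIso R).inv) ≫ W.2.fromSpec := by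
    rw [h1, Spec.map_comp, Category.assoc, ← hc]
  have h2 : c.appLE W.1 ⊤ e = ψ ≫ (Scheme.ΓSpecIso R).inv :=
    Spec.map_injective ((cancel_mono W.2.fromSpec).mp h1')
  have h3 : c.appLE W.1 ⊤ e s = 0 := by
    subst hd
    rw [Scheme.Hom.appLE, Scheme.Hom.comp_app]
    have h0 : (I.subschemeι.app W.1) s = 0 := by
      have := I.ker_subschemeι_app W
      rw [← this] at hs
      exact hs
    simp [h0]
  have h4 : ψ s = (Scheme.ΓSpecIso R).hom (c.appLE W.1 ⊤ e s) := by
    rw [h2, CommRingCat.comp_apply]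
    exact (Iso.inv_hom_id_apply (Scheme.ΓSpecIso R) (ψ s)).symm
  rw [h4, h3, map_zero]

lemma germ_eq_zero_of_factors {X S : Scheme.{u}} [IsLocallyNoetherian X] (p : X ⟶ S) (x : X)
    (I : X.IdealSheafData)
    (h : ∀ n : ℕ, ∃ g : pullback p (Spec.map (CommRingCat.ofHom (Ideal.Quotient.mk
        (IsLocalRing.maximalIdeal ↑(S.presheaf.stalk (p.base x)) ^ (n + 1)))) ≫
          S.fromSpecStalk (p.base x)) ⟶ I.subscheme,
        g ≫ I.subschemeι = pullback.fst p _)
    (W : X.affineOpens) (hxW : x ∈ W.1) (s : Γ(X, W.1)) (hs : s ∈ I.ideal W) :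
    X.presheaf.germ W.1 x hxW s = 0 := by
  have hmem : ∀ n : ℕ, X.presheaf.germ W.1 x hxW s ∈
      IsLocalRing.maximalIdeal (X.presheaf.stalk x) ^ (n + 1) := by
    intro n
    obtain ⟨g, hg⟩ := h n
    let mA := IsLocalRing.maximalIdeal (S.presheaf.stalk (p.base x))
    let mB := IsLocalRing.maximalIdeal (X.presheaf.stalk x)
    let qA : S.presheaf.stalk (p.base x) ⟶ CommRingCat.of (S.presheaf.stalk (p.base x) ⧸ mA ^ (n + 1)) :=
      CommRingCat.ofHom (Ideal.Quotient.mk _)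
    let qB : X.presheaf.stalk x ⟶ CommRingCat.of (X.presheaf.stalk x ⧸ mB ^ (n + 1)) :=
      CommRingCat.ofHom (Ideal.Quotient.mk _)
    have hloc : mA ≤ mB.comap (p.stalkMap x).hom := by
      intro a ha
      rw [Ideal.mem_comap, IsLocalRing.mem_maximalIdeal, mem_nonunits_iff]
      intro hu
      exact (IsLocalRing.mem_maximalIdeal _).mp ha (isUnit_of_map_unit (p.stalkMap x).hom a hu)
    have hφ : mA ^ (n + 1) ≤ (mB ^ (n + 1)).comap (p.stalkMap x).hom :=
      (Ideal.pow_right_mono hloc _).trans (Ideal.le_comap_pow _ _)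
    let φn : CommRingCat.of (S.presheaf.stalk (p.base x) ⧸ mA ^ (n + 1)) ⟶
        CommRingCat.of (X.presheaf.stalk x ⧸ mB ^ (n + 1)) :=
      CommRingCat.ofHom (Ideal.quotientMap _ (p.stalkMap x).hom hφ)
    have hsq : qA ≫ φn = p.stalkMap x ≫ qB := by
      ext a
      rfl
    have hcomm : (Spec.map qB ≫ X.fromSpecStalk x) ≫ p =
        Spec.map φn ≫ (Spec.map qA ≫ S.fromSpecStalk (p.base x)) := by
      rw [Category.assoc, ← Scheme.SpecMap_stalkMap_fromSpecStalk, ← Category.assoc,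
        ← Category.assoc, ← Spec.map_comp, ← Spec.map_comp, hsq]
    let a : Spec (CommRingCat.of (X.presheaf.stalk x ⧸ mB ^ (n + 1))) ⟶ pullback p _ :=
      pullback.lift _ _ hcomm
    have ha : a ≫ pullback.fst p _ = Spec.map qB ≫ X.fromSpecStalk x := pullback.lift_fst _ _ _
    have hc : Spec.map (X.presheaf.germ W.1 x hxW ≫ qB) ≫ W.2.fromSpec =
        (a ≫ g) ≫ I.subschemeι := by
      have h5 : (a ≫ g) ≫ I.subschemeι = a ≫ pullback.fst p _ := by
        rw [Category.assoc]; exact congrArg (fun t => a ≫ t) hg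
      rw [h5, ha, ← W.2.fromSpecStalk_eq_fromSpecStalk hxW,
        IsAffineOpen.fromSpecStalk, Spec.map_comp, Category.assoc]
    have h0 := eq_zero_of_factors I W (X.presheaf.germ W.1 x hxW ≫ qB) _ rfl (a ≫ g) hc s hs
    rw [CommRingCat.comp_apply] at h0
    exact Ideal.Quotient.eq_zero_iff_mem.mp h0
  have h1 : X.presheaf.germ W.1 x hxW s ∈
      (⨅ i, IsLocalRing.maximalIdeal (X.presheaf.stalk x) ^ i : Ideal (X.presheaf.stalk x)) := by
    rw [Ideal.mem_iInf]
    intro i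
    cases i with
    | zero => simp
    | succ n => exact hmem n
  rwa [Ideal.iInf_pow_eq_bot_of_isLocalRing _ Ideal.IsPrime.ne_top', Ideal.mem_bot] at h1

lemma exists_affine_ideal_eq_bot {X : Scheme.{u}} [IsLocallyNoetherian X] (I : X.IdealSheafData)
    (x : X)
    (h : ∀ (W : X.affineOpens) (hxW : x ∈ W.1) (s : Γ(X, W.1)), s ∈ I.ideal W →
      X.presheaf.germ W.1 x hxW s = 0) :
    ∃ W' : X.affineOpens, x ∈ W'.1 ∧ I.ideal W' = ⊥ := by
  obtain ⟨_, ⟨W, hW, rfl⟩, hxW, -⟩ :=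
    X.isBasis_affineOpens.exists_subset_of_mem_open (Set.mem_univ x) isOpen_univ
  let Wa : X.affineOpens := ⟨W, hW⟩
  haveI : IsNoetherianRing Γ(X, W) := IsLocallyNoetherian.component_noetherian Wa
  obtain ⟨T, hT⟩ := (isNoetherianRing_iff_ideal_fg _).mp inferInstance (I.ideal Wa)
  have hloc : ∀ s ∈ T, ∃ V : X.Opens, x ∈ V ∧ ∃ hVW : V ≤ W,
      X.presheaf.map (homOfLE hVW).op s = 0 := by
    intro s hsT
    have hs : s ∈ I.ideal Wa := hT ▸ Ideal.subset_span hsT
    have hg := h Wa hxW s hs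
    obtain ⟨V, hxV, iU, iV, e⟩ := X.presheaf.germ_eq x hxW hxW s 0 (by rw [hg, map_zero])
    refine ⟨V, hxV, iU.le, ?_⟩
    rw [map_zero] at e
    exact e
  choose! V hxV hVW hres using hloc
  let V0 : X.Opens := W ⊓ T.inf V
  have hxV0 : x ∈ V0 := by
    refine ⟨hxW, ?_⟩
    exact Finset.inf_induction (p := fun O : X.Opens => x ∈ O) trivial
      (fun a ha b hb => ⟨ha, hb⟩) (fun s hs => hxV s hs)
  obtain ⟨_, ⟨W', hW', rfl⟩, hxW', hW'V0⟩ :=
    X.isBasis_affineOpens.exists_subset_of_mem_open hxV0 V0.isOpen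
  have hW'V0' : W' ≤ V0 := hW'V0
  have hW'W : W' ≤ W := hW'V0'.trans inf_le_left
  refine ⟨⟨W', hW'⟩, hxW', ?_⟩
  rw [← I.map_ideal (U := ⟨W', hW'⟩) (V := Wa) hW'W, ← hT, Ideal.map_span, Ideal.span_eq_bot]
  rintro _ ⟨s, hs, rfl⟩
  have hW'Vs : W' ≤ V s := hW'V0'.trans (inf_le_right.trans (Finset.inf_le hs))
  have hcomp : X.presheaf.map (homOfLE hW'W).op =
      X.presheaf.map (homOfLE (hVW s hs)).op ≫ X.presheaf.map (homOfLE hW'Vs).op := by
    rw [← Functor.map_comp]; rfl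
  show (X.presheaf.map (homOfLE hW'W).op) s = 0
  rw [hcomp, CommRingCat.comp_apply, hres s hs, map_zero]

end helpers


/-- Let p : X → S be a morphism of locally Noetherian schemes, t a point of S, m the maximal ideal of
the local ring O_{S,t}, and Z the closed subscheme of X defined by a quasi-coherent ideal I. Suppose
that for every n ≥ 1 the projection X ×_S Spec(O_{S,t}/m^n) → X factors through Z. Then there is an
open subscheme U of X containing every point of the fibre p⁻¹(t) such that the inclusion U → X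
factors through Z. -/
theorem result {X S : Scheme.{u}}
    [IsLocallyNoetherian X] [IsLocallyNoetherian S] (p : X ⟶ S) (t : S) (I : X.IdealSheafData)
    (h : ∀ n : ℕ, ∃ g : pullback p (Spec.map (CommRingCat.ofHom (Ideal.Quotient.mk
        (IsLocalRing.maximalIdeal ↑(S.presheaf.stalk t) ^ (n + 1)))) ≫ S.fromSpecStalk t) ⟶ I.subscheme,
        g ≫ I.subschemeι = pullback.fst p _) :
    ∃ U : X.Opens, (∀ x : X, p.base x = t → x ∈ U) ∧
      ∃ g : (U : Scheme.{u}) ⟶ I.subscheme, g ≫ I.subschemeι = U.ι := by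
  let U : X.Opens := ⨆ W' : {W' : X.affineOpens // I.ideal W' = ⊥}, (W'.1 : X.Opens)
  refine ⟨U, ?_, ?_⟩
  · intro x hx
    subst hx
    obtain ⟨W', hxW', hW'⟩ := exists_affine_ideal_eq_bot I x
      (fun W hxW s hs => germ_eq_zero_of_factors p x I h W hxW s hs)
    exact TopologicalSpace.Opens.mem_iSup.mpr ⟨⟨W', hW'⟩, hxW'⟩
  · have H : I.subschemeι.ker ≤ U.ι.ker := by
      rw [I.ker_subschemeι]
      refine (Scheme.IdealSheafData.le_ofIdeals_iff
        (J := fun W ↦ RingHom.ker (U.ι.app W.1).hom)).mpr ?_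
      intro W s hs
      show s ∈ RingHom.ker (U.ι.app W.1).hom
      rw [RingHom.mem_ker]
      let O : X.Opens := U.ι ''ᵁ U.ι ⁻¹ᵁ W.1
      have hO : O ≤ W.1 := Set.image_preimage_subset _ _
      have key : X.presheaf.map (homOfLE hO).op s = 0 := by
        refine X.IsSheaf.section_ext fun y hy ↦ ?_
        have hyU : y ∈ U := by
          obtain ⟨z, -, hz⟩ := hy
          rw [← hz]; exact z.2
        obtain ⟨⟨W', hW'⟩, hyW'⟩ := TopologicalSpace.Opens.mem_iSup.mp hyU
        obtain ⟨_, ⟨W'', hW'', rfl⟩, hyW'', hsub⟩ :=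
          X.isBasis_affineOpens.exists_subset_of_mem_open
            (show y ∈ (W'.1 ⊓ O : X.Opens) from ⟨hyW', hy⟩) (W'.1 ⊓ O).isOpen
        have hsub' : W'' ≤ W'.1 ⊓ O := hsub
        have h1 : W'' ≤ W.1 := hsub'.trans (inf_le_right.trans hO)
        have h2 : W'' ≤ W'.1 := hsub'.trans inf_le_left
        have h3 : W'' ≤ O := hsub'.trans inf_le_right
        refine ⟨W'', h3, hyW'', ?_⟩
        rw [map_zero]
        have hbot : I.ideal ⟨W'', hW''⟩ = ⊥ := by
          rw [← I.map_ideal (U := ⟨W'', hW''⟩) (V := W') h2, hW', Ideal.map_bot]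
        have hmem : (X.presheaf.map (homOfLE h1).op).hom s ∈ I.ideal ⟨W'', hW''⟩ :=
          I.ideal_le_comap_ideal (U := ⟨W'', hW''⟩) (V := W) h1 hs
        rw [hbot, Ideal.mem_bot] at hmem
        rw [← CommRingCat.comp_apply, ← Functor.map_comp]
        exact hmem
      exact key
    exact ⟨IsClosedImmersion.lift I.subschemeι U.ι H, IsClosedImmersion.lift_fac _ _ _⟩

end Groth.Agent.S18384
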