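import Groth.Statements.S18386
import Mathlib

set_option autoImplicit false
universe u
open LVCorr

namespace Groth.Agent.S18386

open AlgebraicGeometry in
/-- Let X be a connected Noetherian scheme and I a quasi-coherent sheaf of ideals on X, different from
the structure sheaf, such that I^k = I^(k+1) for some natural number k. Then I^k = 0. -/
theorem result (X : Scheme.{u}) [AlgebraicGeometry.IsNoetherian X]
    [ConnectedSpace X] (I : X.IdealSheafData) (hI : I ≠ ⊤) (k : ℕ)
    (h : I ^ k = I ^ (k + 1)) : I ^ k = ⊥ := by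
  classical
  rcases Nat.eq_zero_or_pos k with rfl | hk
  · exfalso
    apply hI
    rw [pow_zero, zero_add, pow_one] at h
    exact h.symm
  have hpow : ∀ m, I ^ (k + m) = I ^ k := by
    intro m
    induction m with
    | zero => rfl
    | succ m ih => rw [← add_assoc, pow_succ, ih, ← pow_succ, ← h]
  have hJJ : I ^ k * I ^ k = I ^ k := by rw [← pow_add, hpow]
  have hsupp : (I ^ k).support = I.support := Scheme.IdealSheafData.support_pow I k hk.ne'
  have hgen : ∀ U : X.affineOpens, ∃ e : Γ(X, U), IsIdempotentElem e ∧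
      (I ^ k).ideal U = Ideal.span {e} := by
    intro U
    have : IsNoetherianRing Γ(X, U) := IsLocallyNoetherian.component_noetherian U
    have hfg : ((I ^ k).ideal U).FG := IsNoetherian.noetherian _
    have hid : IsIdempotentElem ((I ^ k).ideal U) := by
      exact congrFun (congrArg Scheme.IdealSheafData.ideal hJJ) U
    exact (Ideal.isIdempotentElem_iff_of_fg _ hfg).mp hid
  have hopen : IsOpen ((I ^ k).support : Set X) := by
    rw [isOpen_iff_forall_mem_open]
    intro x hx
    obtain ⟨_, ⟨U, hU, rfl⟩, hxU, -⟩ :=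
      X.isBasis_affineOpens.exists_subset_of_mem_open (Set.mem_univ x) isOpen_univ
    obtain ⟨e, he, hJe⟩ := hgen ⟨U, hU⟩
    refine ⟨((I ^ k).support : Set X) ∩ U, Set.inter_subset_left, ?_, ⟨hx, hxU⟩⟩
    rw [(I ^ k).coe_support_inter ⟨U, hU⟩, ← hU.fromSpec_image_zeroLocus, hJe,
      PrimeSpectrum.zeroLocus_span, PrimeSpectrum.zeroLocus_eq_basicOpen_of_isIdempotentElem e he]
    exact hU.fromSpec.isOpenEmbedding.isOpenMap _ (PrimeSpectrum.basicOpen _).2
  have hclopen : IsClopen ((I ^ k).support : Set X) := ⟨(I ^ k).support.isClosed, hopen⟩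
  have hne : ((I ^ k).support : Set X).Nonempty := by
    rw [Set.nonempty_iff_ne_empty]
    intro hempty
    apply hI
    rw [← Scheme.IdealSheafData.support_eq_bot_iff, ← hsupp]
    exact TopologicalSpace.Closeds.ext hempty
  have huniv : ((I ^ k).support : Set X) = Set.univ := hclopen.eq_univ hne
  apply Scheme.IdealSheafData.ext
  funext U
  obtain ⟨e, he, hJe⟩ := hgen U
  have h1 : PrimeSpectrum.zeroLocus ({e} : Set Γ(X, U)) = Set.univ := by
    have hU' : IsAffineOpen U.1 := U.2
    have := (I ^ k).coe_support_inter U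
    rw [huniv, Set.univ_inter, ← hU'.fromSpec_image_zeroLocus, hJe,
      PrimeSpectrum.zeroLocus_span] at this
    rw [Set.eq_univ_iff_forall]
    intro p
    have hp : hU'.fromSpec p ∈ (U.1 : Set X) := by
      rw [← hU'.range_fromSpec]; exact ⟨p, rfl⟩
    rw [this] at hp
    obtain ⟨q, hq, hqp⟩ := hp
    rwa [← hU'.fromSpec.isOpenEmbedding.injective hqp]
  have h2 : IsNilpotent e := by
    rw [PrimeSpectrum.zeroLocus_eq_univ_iff] at h1
    exact h1 (Set.mem_singleton e)
  have h3 : e = 0 := he.eq_zero_of_isNilpotent h2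
  rw [hJe, h3]
  simp

end Groth.Agent.S18386
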