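import Groth.Statements.S18387
import Mathlib

set_option autoImplicit false
universe u
open LVCorr

namespace Groth.Agent.S18387

/-- In the affine form which its proof establishes. Let A be a commutative algebra over a field F which
is finite-dimensional of dimension d over F. Then the d-th power of the nilradical of A vanishes.
(Applied to the fibre algebra A = B/mB of a quasi-finite morphism over a closed point with maximal
ideal m, this says that the d-th power of the radical of mB lies in mB, i.e. the ramification of the
morphism at that point is at most the degree d of the fibre.) -/
theorem result (F A : Type u) [Field F] [CommRing A] [Algebra F A]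
    [FiniteDimensional F A] : nilradical A ^ Module.finrank F A = ⊥ := by
  have hart : IsArtinianRing A := IsArtinianRing.of_finite F A
  obtain ⟨m, hm⟩ : IsNilpotent (nilradical A) := IsArtinianRing.isNilpotent_nilradical
  have key : ∀ k, Module.finrank F ((nilradical A ^ k).restrictScalars F) + k ≤ Module.finrank F A ∨
      nilradical A ^ k = ⊥ := by
    intro k
    induction k with
    | zero =>
      left
      have h0 : (nilradical A ^ 0).restrictScalars F = ⊤ := by
        rw [pow_zero, Ideal.one_eq_top, Submodule.restrictScalars_top]
      rw [h0, finrank_top, add_zero]
    | succ k ih =>
      rcases ih with ih | ih
      · by_cases heq : nilradical A ^ (k + 1) = nilradical A ^ k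
        · right
          have hstab : ∀ j, nilradical A ^ (k + j) = nilradical A ^ k := by
            intro j
            induction j with
            | zero => rfl
            | succ j ihj => rw [← add_assoc, pow_succ, ihj, ← pow_succ, heq]
          rw [heq, ← hstab m, pow_add, hm, mul_zero]
          rfl
        · left
          have hle : nilradical A ^ (k + 1) ≤ nilradical A ^ k :=
            Ideal.pow_le_pow_right (Nat.le_succ k)
          have hlt : (nilradical A ^ (k + 1)).restrictScalars F <
              (nilradical A ^ k).restrictScalars F :=
            lt_of_le_of_ne hle (fun h => heq (Submodule.restrictScalars_injective F A A h))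
          have := Submodule.finrank_lt_finrank_of_lt hlt
          omega
      · right
        rw [pow_succ, ih]
        exact Ideal.bot_mul _
  rcases key (Module.finrank F A) with h | h
  · have h0 : Module.finrank F ((nilradical A ^ Module.finrank F A).restrictScalars F) = 0 := by
      omega
    have h1 := Submodule.finrank_eq_zero.mp h0
    exact (Submodule.restrictScalars_eq_bot_iff F A A).mp h1
  · exact h

end Groth.Agent.S18387
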