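import Groth.Statements.S18389
import Mathlib

set_option autoImplicit false
universe u
open LVCorr

namespace Groth.Agent.S18389

open AlgebraicGeometry CategoryTheory in
/-- Let j : C → C̄ be an open immersion with dense image and jX : X → X̄ an open immersion, and let c₁ :
C → X and c̄₁ : C̄ → X̄ satisfy j followed by c̄₁ equals c₁ followed by jX, with c̄₁ separated. Let
U be an open subset of X such that c₁⁻¹(U) is dense in C and the restriction c₁⁻¹(U) → U of c₁ is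
proper. Then c̄₁⁻¹(jX(U)) = j(c₁⁻¹(U)) as open subsets of C̄. (In the source all schemes are
separated of finite type over a field, C̄ and X̄ are compactifications of a correspondence and of X,
so that c̄₁ is automatically separated.) -/
theorem result {C Cb X Xb : Scheme.{u}}
    (j : C ⟶ Cb) [IsOpenImmersion j] (hj : DenseRange j.base)
    (jX : X ⟶ Xb) [IsOpenImmersion jX] (c₁ : C ⟶ X) (cb₁ : Cb ⟶ Xb) [IsSeparated cb₁]
    (h : j ≫ cb₁ = c₁ ≫ jX) (U : X.Opens) (hU : Dense ((c₁ ⁻¹ᵁ U : C.Opens) : Set C))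
    [IsProper (c₁ ∣_ U)] :
    cb₁ ⁻¹ᵁ (jX ''ᵁ U) = j ''ᵁ (c₁ ⁻¹ᵁ U) := by
  classical
  -- the inclusion `j(c₁⁻¹ U) ⊆ c̄₁⁻¹(jX U)`
  have hVW' : c₁ ⁻¹ᵁ U ≤ j ⁻¹ᵁ (cb₁ ⁻¹ᵁ (jX ''ᵁ U)) := by
    intro x hx
    change cb₁ (j x) ∈ jX ''ᵁ U
    have e : cb₁ (j x) = jX (c₁ x) := by
      rw [← Scheme.Hom.comp_apply, ← Scheme.Hom.comp_apply, h]
    rw [e]
    exact ⟨c₁ x, hx, rfl⟩
  set a := j.resLE (cb₁ ⁻¹ᵁ (jX ''ᵁ U)) (c₁ ⁻¹ᵁ U) hVW' with ha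
  have hcomp : a ≫ (cb₁ ∣_ (jX ''ᵁ U)) ≫ (jX.isoImage U).inv = c₁ ∣_ U := by
    rw [← cancel_mono (U.ι ≫ jX)]
    simp only [Category.assoc]
    rw [Scheme.Hom.isoImage_inv_ι, morphismRestrict_ι, ← Category.assoc, ha,
      Scheme.Hom.resLE_comp_ι, Category.assoc, h, ← Category.assoc, ← Category.assoc,
      morphismRestrict_ι]
  have hprop : IsProper (a ≫ (cb₁ ∣_ (jX ''ᵁ U)) ≫ (jX.isoImage U).inv) := by
    rw [hcomp]; infer_instance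
  have hsep : IsSeparated ((cb₁ ∣_ (jX ''ᵁ U)) ≫ (jX.isoImage U).inv) := inferInstance
  have hpa : IsProper a := IsProper.of_comp a ((cb₁ ∣_ (jX ''ᵁ U)) ≫ (jX.isoImage U).inv)
  have hclosed : IsClosed (Set.range a) := a.isClosedMap.isClosed_range
  have hdense : Dense (j '' ((c₁ ⁻¹ᵁ U : C.Opens) : Set C)) := hj.dense_image j.continuous hU
  apply le_antisymm
  · intro y hy
    let y' : (cb₁ ⁻¹ᵁ (jX ''ᵁ U)).toScheme := ⟨y, hy⟩
    have hmem : y' ∈ Set.range a := by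
      rw [← hclosed.closure_eq, mem_closure_iff]
      intro O hO hyO
      have hO' : IsOpen ((cb₁ ⁻¹ᵁ (jX ''ᵁ U)).ι '' O : Set Cb) :=
        (cb₁ ⁻¹ᵁ (jX ''ᵁ U)).ι.isOpenEmbedding.isOpenMap O hO
      have hne : ((cb₁ ⁻¹ᵁ (jX ''ᵁ U)).ι '' O : Set Cb).Nonempty := ⟨_, ⟨y', hyO, rfl⟩⟩
      obtain ⟨_, ⟨w, hwO, rfl⟩, ⟨x, hxV, hxw⟩⟩ := hdense.inter_open_nonempty _ hO' hne
      refine ⟨w, hwO, ⟨⟨x, hxV⟩, ?_⟩⟩
      apply (cb₁ ⁻¹ᵁ (jX ''ᵁ U)).ι.isOpenEmbedding.injective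
      rw [← Scheme.Hom.comp_apply, ha, Scheme.Hom.resLE_comp_ι, Scheme.Hom.comp_apply]
      exact hxw
    obtain ⟨v, hv⟩ := hmem
    refine ⟨v.1, v.2, ?_⟩
    have := congrArg (cb₁ ⁻¹ᵁ (jX ''ᵁ U)).ι hv
    rw [← Scheme.Hom.comp_apply, ha, Scheme.Hom.resLE_comp_ι, Scheme.Hom.comp_apply] at this
    exact this
  · rintro _ ⟨x, hx, rfl⟩
    exact hVW' hx

end Groth.Agent.S18389
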