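import Groth.Statements.S18390
import Mathlib

set_option autoImplicit false
universe u
open LVCorr

namespace Groth.Agent.S18390

/-- In the affine, ring-theoretic form which its proof establishes. Let φ : A' → A be a ring
homomorphism, I' a finitely generated ideal of A' and I an ideal of A containing the image of I'.
Then some power I'^k is mapped into I^(k+1) if and only if for every n ≥ 1 and every a ∈ I'^n there
is a k with φ(a)^k ∈ I^(nk+1). (Geometrically, for a morphism f : (X, Z) → (X', Z') of pairs with Z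
a closed subscheme of the preimage of Z', the normal cone of Z in X is the spectrum of the
associated graded algebra of I, and the second condition says that the induced map of normal cones
sends the normal cone of Z set-theoretically into the zero section Z'; the source states the
equivalence in that language.) -/
theorem result (A' A : Type u) [CommRing A'] [CommRing A]
    (φ : A' →+* A) (I' : Ideal A') (hI' : I'.FG) (I : Ideal A) (hle : I'.map φ ≤ I) :
    (∃ k : ℕ, (I' ^ k).map φ ≤ I ^ (k + 1)) ↔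
      ∀ n : ℕ, 1 ≤ n → ∀ a ∈ I' ^ n, ∃ k : ℕ, 1 ≤ k ∧ φ a ^ k ∈ I ^ (n * k + 1) := by
  have hpow0 : ∀ (J : Ideal A'), J.map φ ≤ I → ∀ m, (J ^ m).map φ ≤ I ^ m := by
    intro J hJ m
    rw [Ideal.map_pow]
    exact Ideal.pow_right_mono hJ m
  have hpow : ∀ (J : Ideal A') (K : ℕ), J.map φ ≤ I → (J ^ K).map φ ≤ I ^ (K + 1) →
      ∀ m, K ≤ m → (J ^ m).map φ ≤ I ^ (m + 1) := by
    intro J K hJ hK m hm
    obtain ⟨j, rfl⟩ := Nat.exists_eq_add_of_le hm
    rw [pow_add, Ideal.map_mul]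
    calc (J ^ K).map φ * (J ^ j).map φ ≤ I ^ (K + 1) * I ^ j :=
          Ideal.mul_mono hK (hpow0 J hJ j)
      _ = I ^ (K + j + 1) := by rw [← pow_add]; congr 1; ring
  constructor
  · rintro ⟨k, hk⟩ n hn a ha
    have hK := hpow I' k hle hk (k + 1) (Nat.le_succ k)
    refine ⟨k + 1, Nat.succ_pos k, ?_⟩
    have h1 : a ^ (k + 1) ∈ (I' ^ (k + 1)) ^ n := by
      rw [← pow_mul, mul_comm, pow_mul]
      exact Ideal.pow_mem_pow ha (k + 1)
    have h2 : φ (a ^ (k + 1)) ∈ ((I' ^ (k + 1)) ^ n).map φ := Ideal.mem_map_of_mem φ h1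
    rw [Ideal.map_pow] at h2
    have h3 := Ideal.pow_right_mono hK n h2
    rw [← pow_mul] at h3
    rw [← map_pow]
    refine Ideal.pow_le_pow_right ?_ h3
    have : (k + 1 + 1) * n = n * (k + 1) + n := by ring
    omega
  · intro hpt
    have hsup : ∀ (J₁ J₂ : Ideal A'), (J₁ ≤ I' → ∃ k, (J₁ ^ k).map φ ≤ I ^ (k + 1)) →
        (J₂ ≤ I' → ∃ k, (J₂ ^ k).map φ ≤ I ^ (k + 1)) → J₁ ⊔ J₂ ≤ I' →
        ∃ k, ((J₁ ⊔ J₂) ^ k).map φ ≤ I ^ (k + 1) := by
      intro J₁ J₂ h₁ h₂ hJ
      obtain ⟨K1, hK1⟩ := h₁ (le_trans le_sup_left hJ)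
      obtain ⟨K2, hK2⟩ := h₂ (le_trans le_sup_right hJ)
      have hJ1 : J₁.map φ ≤ I := le_trans (Ideal.map_mono (le_trans le_sup_left hJ)) hle
      have hJ2 : J₂.map φ ≤ I := le_trans (Ideal.map_mono (le_trans le_sup_right hJ)) hle
      refine ⟨K1 + K2, ?_⟩
      show ((J₁ ⊔ J₂) ^ (K1 + K2)).map φ ≤ I ^ (K1 + K2 + 1)
      rw [Ideal.map_le_iff_le_comap, ← Ideal.add_eq_sup, add_pow, Ideal.sum_eq_sup]
      refine Finset.sup_le fun m hm => ?_
      rw [← Ideal.map_le_iff_le_comap]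
      refine le_trans (Ideal.map_mono Ideal.mul_le_left) ?_
      rw [Ideal.map_mul]
      rw [Finset.mem_range] at hm
      by_cases hmK : K1 ≤ m
      · calc (J₁ ^ m).map φ * (J₂ ^ (K1 + K2 - m)).map φ
            ≤ I ^ (m + 1) * I ^ (K1 + K2 - m) :=
              Ideal.mul_mono (hpow J₁ K1 hJ1 hK1 m hmK) (hpow0 J₂ hJ2 _)
          _ = I ^ (K1 + K2 + 1) := by rw [← pow_add]; congr 1; omega
      · calc (J₁ ^ m).map φ * (J₂ ^ (K1 + K2 - m)).map φ
            ≤ I ^ m * I ^ (K1 + K2 - m + 1) :=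
              Ideal.mul_mono (hpow0 J₁ hJ1 m) (hpow J₂ K2 hJ2 hK2 _ (by omega))
          _ = I ^ (K1 + K2 + 1) := by rw [← pow_add]; congr 1; omega
    have key : ∀ J : Ideal A', J.FG → J ≤ I' → ∃ k, (J ^ k).map φ ≤ I ^ (k + 1) := by
      intro J hJ
      refine Submodule.fg_induction
        (motive := fun (J : Ideal A') _ => J ≤ I' → ∃ k, (J ^ k).map φ ≤ I ^ (k + 1)) ?_ ?_ J hJ
      · intro x hx
        have hxI : x ∈ I' ^ 1 := by
          rw [pow_one]; exact hx (Submodule.mem_span_singleton_self x)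
        obtain ⟨k, hk1, hk⟩ := hpt 1 le_rfl x hxI
        refine ⟨k, ?_⟩
        rw [one_mul] at hk
        show ((Ideal.span {x}) ^ k).map φ ≤ I ^ (k + 1)
        rw [Ideal.span_singleton_pow, Ideal.map_span, Set.image_singleton,
          Ideal.span_singleton_le_iff_mem, map_pow]
        exact hk
      · intro J₁ J₂ _ _ h₁ h₂ hJ
        exact hsup J₁ J₂ h₁ h₂ hJ
    exact key I' hI' le_rfl

end Groth.Agent.S18390
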