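import Groth.Statements.S18391
import Mathlib.RingTheory.DiscreteValuationRing.TFAE
import Mathlib.RingTheory.Ideal.KrullsHeightTheorem
import Mathlib.RingTheory.Localization.AtPrime.Basic
import Mathlib.RingTheory.Localization.Away.Basic
import Mathlib.RingTheory.KrullDimension.Basic

set_option autoImplicit false
universe u
open LVCorr

namespace Groth.Agent.S18391


open IsLocalRing in
theorem isDVR_atPrime {A : Type u} [CommRing A] [IsDomain A] [IsNoetherianRing A]
    [IsIntegrallyClosed A] (z : A) (hz0 : z ≠ 0) (hz : (Ideal.span {z}).radical.IsPrime) :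
    haveI := hz
    IsDiscreteValuationRing (Localization.AtPrime (Ideal.span {z}).radical) := by
  haveI := hz
  set p := (Ideal.span {z}).radical with hp
  have hzp : z ∈ p := Ideal.le_radical (Ideal.mem_span_singleton_self z)
  have hmin : p ∈ (Ideal.span {z}).minimalPrimes := by
    refine ⟨⟨hz, Ideal.le_radical⟩, fun q hq _ => ?_⟩
    exact (Ideal.IsPrime.radical_le_iff hq.1).mpr hq.2
  have hht : p.height ≤ 1 := Ideal.height_le_one_of_isPrincipal_of_mem_minimalPrimes _ p hmin
  have hdim : Ring.KrullDimLE 1 (Localization.AtPrime p) := by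
    rw [Ring.krullDimLE_iff, IsLocalization.AtPrime.ringKrullDim_eq_height p]
    exact_mod_cast hht
  have hinj : Function.Injective (algebraMap A (Localization.AtPrime p)) :=
    IsLocalization.injective _ p.primeCompl_le_nonZeroDivisors
  have hnf : ¬ IsField (Localization.AtPrime p) := by
    intro hf
    have hmem : algebraMap A (Localization.AtPrime p) z ∈ maximalIdeal (Localization.AtPrime p) :=
      (IsLocalization.AtPrime.to_map_mem_maximal_iff _ p z).mpr hzp
    rw [isField_iff_maximalIdeal_eq.mp hf, Ideal.mem_bot] at hmem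
    exact hz0 (hinj (hmem.trans (map_zero _).symm))
  haveI : IsIntegrallyClosed (Localization.AtPrime p) :=
    isIntegrallyClosed_of_isLocalization (R := A) (S := Localization.AtPrime p) p.primeCompl p.primeCompl_le_nonZeroDivisors
  have htfae := (IsDiscreteValuationRing.TFAE (Localization.AtPrime p) hnf).out 0 3
  refine htfae.mpr ⟨inferInstance, ?_⟩
  refine ⟨maximalIdeal _, ⟨isField_iff_maximalIdeal_eq.not.mp hnf, inferInstance⟩, ?_⟩
  rintro Q ⟨hQ0, hQp⟩
  have hQmax : Q.IsMaximal := (Ring.krullDimLE_one_iff_of_noZeroDivisors.mp hdim) Q hQ0 hQp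
  exact IsLocalRing.eq_maximalIdeal hQmax


theorem main {A : Type u} [CommRing A] [IsDomain A] [IsNoetherianRing A]
    (z : A) (hz0 : z ≠ 0) (p : Ideal A) [hp : p.IsPrime]
    [IsDiscreteValuationRing (Localization.AtPrime p)] :
    ∃ (w t : A) (r : ℕ), w ∉ p ∧
      Ideal.span {algebraMap A (Localization.Away w) z} =
        Ideal.span {algebraMap A (Localization.Away w) t ^ r} ∧
      (Ideal.span {algebraMap A (Localization.Away w) t}).IsPrime := by
  classical
  set B := Localization.AtPrime p with hB
  have hinj : Function.Injective (algebraMap A B) :=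
    IsLocalization.injective _ p.primeCompl_le_nonZeroDivisors
  obtain ⟨ϖ, hϖ⟩ := IsDiscreteValuationRing.exists_irreducible B
  obtain ⟨⟨a, s⟩, hs⟩ := IsLocalization.mk'_surjective p.primeCompl ϖ
  replace hs : IsLocalization.mk' B a s = ϖ := hs
  have hsu : IsUnit (algebraMap A B s) := IsLocalization.map_units B s
  have hta : algebraMap A B a = ϖ * algebraMap A B s := by
    rw [← hs, IsLocalization.mk'_spec]
  have hirr : Irreducible (algebraMap A B a) := by
    rw [hta]
    exact (irreducible_mul_isUnit hsu).mpr hϖ
  have hap : a ∈ p :=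
    (IsLocalization.AtPrime.to_map_mem_maximal_iff B p a).mp
      ((IsLocalRing.mem_maximalIdeal _).mpr hirr.not_isUnit)
  have hzB : algebraMap A B z ≠ 0 := fun h => hz0 (hinj (h.trans (map_zero _).symm))
  obtain ⟨r, u, hu⟩ := IsDiscreteValuationRing.associated_pow_irreducible hzB hirr
  obtain ⟨⟨b, s₁⟩, hb⟩ := IsLocalization.mk'_surjective p.primeCompl (u : B)
  replace hb : IsLocalization.mk' B b s₁ = (u : B) := hb
  obtain ⟨⟨c, s₂⟩, hc⟩ := IsLocalization.mk'_surjective p.primeCompl ((u⁻¹ : Bˣ) : B)
  replace hc : IsLocalization.mk' B c s₂ = ((u⁻¹ : Bˣ) : B) := hc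
  have h1 : z * b = s₁ * a ^ r := by
    apply hinj
    simp only [map_mul, map_pow]
    rw [← hu, ← hb, mul_comm (algebraMap A B s₁), mul_assoc, IsLocalization.mk'_spec]
  have h2 : s₂ * z = c * a ^ r := by
    apply hinj
    simp only [map_mul, map_pow]
    rw [← hu, ← IsLocalization.mk'_spec B c s₂, hc]
    have := u.inv_mul
    linear_combination (-(algebraMap A B s₂ * algebraMap A B z)) * this
  have hx : ∀ x ∈ p, ∃ e : A, e ∉ p ∧ e * x ∈ Ideal.span {a} := by
    intro x hx
    have hxm : algebraMap A B x ∈ IsLocalRing.maximalIdeal B :=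
      (IsLocalization.AtPrime.to_map_mem_maximal_iff B p x).mpr hx
    rw [hirr.maximalIdeal_eq, Ideal.mem_span_singleton] at hxm
    obtain ⟨y, hy⟩ := hxm
    obtain ⟨⟨d, e⟩, hde⟩ := IsLocalization.mk'_surjective p.primeCompl y
    replace hde : IsLocalization.mk' B d e = y := hde
    refine ⟨e, e.2, ?_⟩
    rw [Ideal.mem_span_singleton]
    refine ⟨d, hinj ?_⟩
    simp only [map_mul]
    rw [hy, ← IsLocalization.mk'_spec B d e, hde]
    ring
  obtain ⟨e, hep, he⟩ : ∃ e : A, e ∉ p ∧ ∀ x ∈ p, e * x ∈ Ideal.span {a} := by
    obtain ⟨S, hS⟩ := (isNoetherianRing_iff_ideal_fg A).mp inferInstance p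
    choose! f hf using hx
    refine ⟨∏ x ∈ S, f x, ?_, ?_⟩
    · intro hmem
      obtain ⟨x, hxS, hfx⟩ := (Ideal.IsPrime.prod_mem_iff).mp hmem
      exact (hf x (hS ▸ Ideal.subset_span hxS)).1 hfx
    · intro x hx
      rw [← hS] at hx
      refine Submodule.span_induction ?_ ?_ ?_ ?_ hx
      · intro y hyS
        have hyp : y ∈ p := hS ▸ Ideal.subset_span hyS
        rw [← Finset.mul_prod_erase S f hyS, mul_comm (f y), mul_assoc]
        exact Ideal.mul_mem_left _ _ (hf y hyp).2
      · rw [mul_zero]
        exact Ideal.zero_mem _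
      · intro x y _ _ hx hy
        rw [mul_add]
        exact Ideal.add_mem _ hx hy
      · intro c x _ hx
        rw [smul_eq_mul, mul_left_comm]
        exact Ideal.mul_mem_left _ _ hx
  obtain ⟨w, hw⟩ : ∃ w : A, w = (s₁ : A) * s₂ * e := ⟨_, rfl⟩
  have hd1 : (s₁ : A) ∣ w := ⟨s₂ * e, by rw [hw, mul_assoc]⟩
  have hd2 : (s₂ : A) ∣ w := ⟨s₁ * e, by rw [hw]; ring⟩
  have hd3 : e ∣ w := ⟨s₁ * s₂, by rw [hw]; ring⟩
  have hwp : w ∉ p := by
    intro hw'
    rw [hw] at hw'
    rcases hp.mem_or_mem hw' with h | h
    · rcases hp.mem_or_mem h with h | h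
      · exact s₁.2 h
      · exact s₂.2 h
    · exact hep h
  have hwu : IsUnit (algebraMap A (Localization.Away w) w) :=
    IsLocalization.Away.algebraMap_isUnit _
  have hs₁u : IsUnit (algebraMap A (Localization.Away w) s₁) :=
    isUnit_of_dvd_unit (map_dvd _ hd1) hwu
  have hs₂u : IsUnit (algebraMap A (Localization.Away w) s₂) :=
    isUnit_of_dvd_unit (map_dvd _ hd2) hwu
  have heu : IsUnit (algebraMap A (Localization.Away w) e) :=
    isUnit_of_dvd_unit (map_dvd _ hd3) hwu
  refine ⟨w, a, r, hwp, ?_, ?_⟩
  · apply le_antisymm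
    · rw [Ideal.span_singleton_le_span_singleton]
      have := congrArg (algebraMap A (Localization.Away w)) h2
      rw [map_mul, map_mul, map_pow] at this
      rw [← hs₂u.dvd_mul_left, this]
      exact Dvd.intro_left _ rfl
    · rw [Ideal.span_singleton_le_span_singleton]
      have := congrArg (algebraMap A (Localization.Away w)) h1
      rw [map_mul, map_mul, map_pow] at this
      rw [← hs₁u.dvd_mul_left, ← this]
      exact Dvd.intro _ rfl
  · have hdisj : Disjoint (Submonoid.powers w : Set A) (p : Set A) := by
      rw [Set.disjoint_left]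
      rintro _ ⟨n, rfl⟩ hn
      exact hwp (hp.mem_of_pow_mem n hn)
    have hprime := IsLocalization.isPrime_of_isPrime_disjoint
      (Submonoid.powers w) (Localization.Away w) p hp hdisj
    have heq : Ideal.span {algebraMap A (Localization.Away w) a} =
        Ideal.map (algebraMap A (Localization.Away w)) p := by
      apply le_antisymm
      · rw [Ideal.span_singleton_le_iff_mem]
        exact Ideal.mem_map_of_mem _ hap
      · rw [Ideal.map_le_iff_le_comap]
        intro x hx
        rw [Ideal.mem_comap, Ideal.mem_span_singleton]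
        obtain ⟨d, hd⟩ := Ideal.mem_span_singleton.mp (he x hx)
        have := congrArg (algebraMap A (Localization.Away w)) hd
        rw [map_mul, map_mul] at this
        rw [← heu.dvd_mul_left, this]
        exact Dvd.intro _ rfl
    rw [heq]
    exact hprime

/-- Let A be a normal (integrally closed) Noetherian domain and z an element of A such that the radical
of the principal ideal (z) is prime. Then there exist elements w, t of A and a natural number r,
with w not in the radical of (z), such that in the localization A[1/w] the ideal generated by z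
equals the ideal generated by t^r and the ideal generated by t is prime. (The condition on w is the
one the printed proof produces and the later use of the lemma needs.) -/
theorem result (A : Type u) [CommRing A] [IsDomain A]
    [IsNoetherianRing A] [IsIntegrallyClosed A] (z : A) (hz : (Ideal.span {z}).radical.IsPrime) :
    ∃ (w t : A) (r : ℕ), w ∉ (Ideal.span {z}).radical ∧
      Ideal.span {algebraMap A (Localization.Away w) z} =
        Ideal.span {algebraMap A (Localization.Away w) t ^ r} ∧
      (Ideal.span {algebraMap A (Localization.Away w) t}).IsPrime := by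
  by_cases hz0 : z = 0
  · subst hz0
    refine ⟨1, 0, 1, ?_, ?_, ?_⟩
    · intro h
      exact hz.ne_top ((Ideal.eq_top_iff_one _).mpr h)
    · rw [pow_one]
    · haveI : IsDomain (Localization.Away (1 : A)) :=
        IsLocalization.isDomain_localization
          (powers_le_nonZeroDivisors_of_noZeroDivisors (one_ne_zero))
      rw [map_zero, Ideal.span_singleton_eq_bot.mpr rfl]
      exact Ideal.isPrime_bot
  · haveI := hz
    have hdvr := isDVR_atPrime z hz0 hz
    exact main z hz0 (Ideal.span {z}).radical

end Groth.Agent.S18391
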