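-- Statement S18392.
import Groth.Statements.S18392
import Mathlib
import Groth.Agent.S18391

set_option autoImplicit false
universe u
open LVCorr

namespace Groth.Agent.S18392

/-- Let A be a normal (integrally closed) Noetherian domain and z an element of A such that the radical
of (z) is prime. Then for every non-empty open subset V of Spec A contained in the basic open set
D(z) (that is, every non-empty open subset of Spec A[1/z]) there is an element x of A, not in the
radical of (z), such that the basic open set D(xz) = Spec A[1/xz] is contained in V. -/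
theorem result (A : Type u) [CommRing A]
    [IsDomain A] [IsNoetherianRing A] [IsIntegrallyClosed A] (z : A)
    (hz : (Ideal.span {z}).radical.IsPrime) (V : Set (PrimeSpectrum A)) (hV : IsOpen V)
    (hVz : V ⊆ (PrimeSpectrum.basicOpen z : Set (PrimeSpectrum A))) (hne : V.Nonempty) :
    ∃ x : A, x ∉ (Ideal.span {z}).radical ∧
      ((PrimeSpectrum.basicOpen (x * z) : TopologicalSpace.Opens (PrimeSpectrum A)) :
        Set (PrimeSpectrum A)) ⊆ V := by
  classical
  haveI := hz
  obtain ⟨v, hv⟩ := hne
  have hz0 : z ≠ 0 := by
    rintro rfl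
    have := hVz hv
    simp at this
  obtain ⟨U, ⟨g, rfl⟩, hvg, hgV⟩ :=
    PrimeSpectrum.isTopologicalBasis_basic_opens.exists_subset_of_mem_open hv hV
  have hg0 : g ≠ 0 := by
    rintro rfl
    simp at hvg
  haveI := Groth.Agent.S18391.isDVR_atPrime z hz0 hz
  have hinj : Function.Injective
      (algebraMap A (Localization.AtPrime (Ideal.span {z}).radical)) :=
    IsLocalization.injective _ (Ideal.span {z}).radical.primeCompl_le_nonZeroDivisors
  have hgB : algebraMap A (Localization.AtPrime (Ideal.span {z}).radical) g ≠ 0 :=
    fun h => hg0 (hinj (h.trans (map_zero _).symm))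
  have hzB : algebraMap A (Localization.AtPrime (Ideal.span {z}).radical) z ≠ 0 :=
    fun h => hz0 (hinj (h.trans (map_zero _).symm))
  obtain ⟨ϖ, hϖ⟩ := IsDiscreteValuationRing.exists_irreducible
    (Localization.AtPrime (Ideal.span {z}).radical)
  obtain ⟨r, u, hu⟩ := IsDiscreteValuationRing.associated_pow_irreducible hgB hϖ
  obtain ⟨s, w, hw⟩ := IsDiscreteValuationRing.associated_pow_irreducible hzB hϖ
  have hzp : z ∈ (Ideal.span {z}).radical := Ideal.le_radical (Ideal.mem_span_singleton_self z)
  have hs : s ≠ 0 := by
    rintro rfl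
    rw [pow_zero] at hw
    have hunit : IsUnit (algebraMap A (Localization.AtPrime (Ideal.span {z}).radical) z) :=
      IsUnit.of_mul_eq_one _ hw
    have hmem := (IsLocalization.AtPrime.to_map_mem_maximal_iff
      (Localization.AtPrime (Ideal.span {z}).radical) (Ideal.span {z}).radical z).mpr hzp
    exact (IsLocalRing.mem_maximalIdeal _).mp hmem hunit
  obtain ⟨⟨a, b⟩, hab⟩ := IsLocalization.mk'_surjective (Ideal.span {z}).radical.primeCompl
    (((u ^ s * (w⁻¹) ^ r : (Localization.AtPrime (Ideal.span {z}).radical)ˣ)) :
      Localization.AtPrime (Ideal.span {z}).radical)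
  replace hab : IsLocalization.mk' (Localization.AtPrime (Ideal.span {z}).radical) a b =
      ((u ^ s * (w⁻¹) ^ r : (Localization.AtPrime (Ideal.span {z}).radical)ˣ) :
        Localization.AtPrime (Ideal.span {z}).radical) := hab
  have key : z ^ r * b = g ^ s * a := by
    apply hinj
    simp only [map_mul, map_pow]
    rw [← IsLocalization.mk'_spec (Localization.AtPrime (Ideal.span {z}).radical) a b, hab]
    have h1 : (algebraMap A (Localization.AtPrime (Ideal.span {z}).radical) z) ^ r * (w : _) ^ r =
        (algebraMap A (Localization.AtPrime (Ideal.span {z}).radical) g) ^ s * (u : _) ^ s := by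
      rw [← mul_pow, ← mul_pow, hw, hu, ← pow_mul, ← pow_mul, mul_comm]
    have h2 : ((w : Localization.AtPrime (Ideal.span {z}).radical)) ^ r *
        (((w⁻¹ : (Localization.AtPrime (Ideal.span {z}).radical)ˣ)) :
          Localization.AtPrime (Ideal.span {z}).radical) ^ r = 1 := by
      rw [← mul_pow, Units.mul_inv, one_pow]
    push_cast
    linear_combination
      ((((w⁻¹ : (Localization.AtPrime (Ideal.span {z}).radical)ˣ)) :
          Localization.AtPrime (Ideal.span {z}).radical) ^ r *
        algebraMap A (Localization.AtPrime (Ideal.span {z}).radical) b) * h1 -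
      ((algebraMap A (Localization.AtPrime (Ideal.span {z}).radical) z) ^ r *
        algebraMap A (Localization.AtPrime (Ideal.span {z}).radical) b) * h2
  refine ⟨b, b.2, ?_⟩
  intro q hq
  apply hgV
  rw [SetLike.mem_coe, PrimeSpectrum.mem_basicOpen] at hq ⊢
  intro hgq
  apply hq
  have hpow : ((b : A) * z) ^ (r + 1) ∈ q.asIdeal := by
    have : ((b : A) * z) ^ (r + 1) = g * ((b : A) ^ r * z * a * g ^ (s - 1)) := by
      have hs' : g ^ s = g * g ^ (s - 1) := by
        rw [← pow_succ', Nat.sub_add_cancel (Nat.one_le_iff_ne_zero.mpr hs)]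
      calc ((b : A) * z) ^ (r + 1) = (b : A) ^ r * z * (z ^ r * b) := by ring
        _ = (b : A) ^ r * z * (g ^ s * a) := by rw [key]
        _ = g * ((b : A) ^ r * z * a * g ^ (s - 1)) := by rw [hs']; ring
    rw [this]
    exact Ideal.mul_mem_right _ _ hgq
  exact q.isPrime.mem_of_pow_mem _ hpow

end Groth.Agent.S18392
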