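import Groth.Statements.S18393
import Mathlib

set_option autoImplicit false
universe u v
open LVCorr

namespace Groth.Agent.S18393

/-- Stated for the underlying continuous maps. Let c₁, c₂ : C → X be continuous maps with C a Noetherian
topological space, let Z be a closed subset of X and B the closure in C of c₂⁻¹(Z) ∖ c₁⁻¹(Z). Call Z
locally invariant when every point x of Z has an open neighbourhood U such that every y in C with
c₂(y) ∈ Z ∩ U and c₁(y) ∈ U satisfies c₁(y) ∈ Z. Then Z is locally invariant if and only if for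
every irreducible subset T of B the closures of c₁(T) and of c₂(T) in X are disjoint. (The source
states this for a correspondence c = (c₁, c₂) : C → X × X of separated schemes of finite type over
an algebraically closed field and for the irreducible components of B; the condition for all
irreducible subsets of B is the same condition.) -/
theorem result {C : Type u} {X : Type v}
    [TopologicalSpace C] [TopologicalSpace X] [TopologicalSpace.NoetherianSpace C]
    (c₁ c₂ : C → X) (hc₁ : Continuous c₁) (hc₂ : Continuous c₂) (Z : Set X) (hZ : IsClosed Z) :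
    (∀ x ∈ Z, ∃ U : Set X, IsOpen U ∧ x ∈ U ∧
        ∀ y : C, c₂ y ∈ Z → c₂ y ∈ U → c₁ y ∈ U → c₁ y ∈ Z) ↔
      ∀ T : Set C, T ⊆ closure (c₂ ⁻¹' Z \ c₁ ⁻¹' Z) → IsIrreducible T →
        closure (c₁ '' T) ∩ closure (c₂ '' T) = ∅ := by
  classical
  set D : Set C := c₂ ⁻¹' Z \ c₁ ⁻¹' Z with hD
  have hBZ : ∀ y ∈ closure D, c₂ y ∈ Z := by
    intro y hy
    have h1 : closure D ⊆ c₂ ⁻¹' Z :=
      closure_minimal (fun y hy => hy.1) (hZ.preimage hc₂)
    exact h1 hy
  constructor
  · intro hloc T hTB hT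
    rw [Set.eq_empty_iff_forall_notMem]
    rintro x ⟨hx1, hx2⟩
    have hc2T : closure (c₂ '' T) ⊆ Z := by
      apply closure_minimal _ hZ
      rintro _ ⟨y, hy, rfl⟩
      exact hBZ y (hTB hy)
    have hxZ : x ∈ Z := hc2T hx2
    obtain ⟨U, hUo, hxU, hU⟩ := hloc x hxZ
    obtain ⟨_, ⟨hz1U, ⟨y1, hy1T, rfl⟩⟩⟩ := mem_closure_iff.mp hx1 U hUo hxU
    obtain ⟨_, ⟨hz2U, ⟨y2, hy2T, rfl⟩⟩⟩ := mem_closure_iff.mp hx2 U hUo hxU
    -- T irreducible: the two open subsets meet
    obtain ⟨y, hyT, hy1, hy2⟩ := hT.2 (c₁ ⁻¹' U) (c₂ ⁻¹' U) (hUo.preimage hc₁) (hUo.preimage hc₂)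
      ⟨y1, hy1T, hz1U⟩ ⟨y2, hy2T, hz2U⟩
    -- a point of D nearby
    have hyB : y ∈ closure D := hTB hyT
    obtain ⟨y', ⟨hy'1, hy'2⟩, hy'D⟩ := mem_closure_iff.mp hyB (c₁ ⁻¹' U ∩ c₂ ⁻¹' U)
      ((hUo.preimage hc₁).inter (hUo.preimage hc₂)) ⟨hy1, hy2⟩
    exact hy'D.2 (hU y' hy'D.1 hy'2 hy'1)
  · intro hirr x hxZ
    obtain ⟨S, hSf, hSc, hSi, hSU⟩ :=
      TopologicalSpace.NoetherianSpace.exists_finite_set_isClosed_irreducible
        (isClosed_closure : IsClosed (closure D))
    -- for each component choose the closed set avoiding x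
    set F : Set C → Set X := fun T =>
      if x ∈ closure (c₁ '' T) then closure (c₂ '' T) else closure (c₁ '' T) with hF
    have hFclosed : ∀ T, IsClosed (F T) := by
      intro T
      simp only [hF]
      split_ifs <;> exact isClosed_closure
    have hxF : ∀ T ∈ S, x ∉ F T := by
      intro T hTS
      simp only [hF]
      split_ifs with h
      · intro h2
        have := hirr T (by rw [hSU]; exact Set.subset_sUnion_of_mem hTS) (hSi T hTS)
        rw [Set.eq_empty_iff_forall_notMem] at this
        exact this x ⟨h, h2⟩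
      · exact h
    refine ⟨(⋃ T ∈ S, F T)ᶜ, ?_, ?_, ?_⟩
    · exact (hSf.isClosed_biUnion fun T _ => hFclosed T).isOpen_compl
    · simp only [Set.mem_compl_iff, Set.mem_iUnion, not_exists]
      intro T hTS
      exact hxF T hTS
    · intro y hyZ hy2U hy1U
      by_contra hcon
      have hyD : y ∈ D := ⟨hyZ, hcon⟩
      have hyB : y ∈ closure D := subset_closure hyD
      rw [hSU] at hyB
      obtain ⟨T, hTS, hyT⟩ := hyB
      have h1 : c₁ y ∈ closure (c₁ '' T) := subset_closure ⟨y, hyT, rfl⟩
      have h2 : c₂ y ∈ closure (c₂ '' T) := subset_closure ⟨y, hyT, rfl⟩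
      by_cases hx : x ∈ closure (c₁ '' T)
      · apply hy2U
        simp only [Set.mem_iUnion]
        refine ⟨T, hTS, ?_⟩
        simp only [hF, if_pos hx]
        exact h2
      · apply hy1U
        simp only [Set.mem_iUnion]
        refine ⟨T, hTS, ?_⟩
        simp only [hF, if_neg hx]
        exact h1

end Groth.Agent.S18393
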