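import Groth.Statements.S18399
import Mathlib

set_option autoImplicit false
universe u
open CAlg

namespace Groth.Agent.S18399


namespace H18399
open IsLocalRing

variable {k : Type u} [Field k] {A : Type u} [CommRing A] [Algebra k A] [IsLocalRing A]
  [IsNoetherianRing A]

theorem main (hres : Function.Surjective ⇑(algebraMap k (ResidueField A))) (σ : A →ₐ[k] A)
    (n : ℕ) (hσ : ∀ a : A, (⇑σ)^[n] a = a) (hn : (n : k) ≠ 0) :
    ∃ (m : ℕ) (f : Fin m → ↥(maximalIdeal A)),
      Ideal.span (Set.range fun i : Fin m => (f i : A)) =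
        Ideal.span (Set.range fun a : A => a - σ a) ∧
      LinearIndependent (ResidueField A)
        (fun i : Fin m => (maximalIdeal A).toCotangent (f i)) := by
  classical
  obtain ⟨I, hI⟩ : ∃ I : Ideal A, I = Ideal.span (Set.range fun a : A => a - σ a) := ⟨_, rfl⟩
  have hn0 : n ≠ 0 := by rintro rfl; exact hn (by simp)
  have hunit_iter : ∀ (j : ℕ) (b : A), IsUnit b → IsUnit ((⇑σ)^[j] b) := by
    intro j
    induction j with
    | zero => intro b hb; exact hb
    | succ j ih => intro b hb; rw [Function.iterate_succ_apply']; exact (ih b hb).map σ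
  have hσm : ∀ a ∈ maximalIdeal A, σ a ∈ maximalIdeal A := by
    intro a ha
    rw [mem_maximalIdeal, mem_nonunits_iff] at ha ⊢
    intro hu
    apply ha
    have h1 := hunit_iter (n - 1) (σ a) hu
    rw [← Function.iterate_succ_apply, Nat.succ_eq_add_one,
      Nat.sub_add_cancel (Nat.one_le_iff_ne_zero.2 hn0), hσ] at h1
    exact h1
  have hsub_mem : ∀ a : A, a - σ a ∈ I := fun a => hI ▸ Ideal.subset_span ⟨a, rfl⟩
  have hm2 : ∀ x ∈ maximalIdeal A ^ 2, σ x ∈ maximalIdeal A ^ 2 := by
    have h1 : maximalIdeal A ≤ (maximalIdeal A).comap σ := fun a ha => hσm a ha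
    have h2 : maximalIdeal A ^ 2 ≤ (maximalIdeal A ^ 2).comap σ :=
      (Ideal.pow_right_mono h1 2).trans (Ideal.le_comap_pow _ _)
    exact fun x hx => h2 hx
  have hLeib : ∀ q ∈ maximalIdeal A * maximalIdeal A, q - σ q ∈ maximalIdeal A * I := by
    intro q hq
    refine Submodule.smul_induction_on (p := fun q => q - σ q ∈ maximalIdeal A * I) hq ?_ ?_
    · intro a ha b hb
      have h1 : a • b - σ (a • b) = b * (a - σ a) + σ a * (b - σ b) := by
        rw [smul_eq_mul, map_mul]; ring
      rw [h1]
      exact add_mem (Ideal.mul_mem_mul hb (hsub_mem a))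
        (Ideal.mul_mem_mul (hσm a ha) (hsub_mem b))
    · intro x y hx hy
      have h1 : x + y - σ (x + y) = (x - σ x) + (y - σ y) := by rw [map_add]; ring
      rw [h1]; exact add_mem hx hy
  have hL : ∀ h ∈ maximalIdeal A, h - σ h ∈ maximalIdeal A ^ 2 →
      h - σ h ∈ maximalIdeal A * I := by
    intro h _ hh2
    have hiter : ∀ j : ℕ, h - (⇑σ)^[j] h ∈ maximalIdeal A ^ 2 := by
      intro j
      induction j with
      | zero => simp
      | succ j ih =>
        rw [Function.iterate_succ_apply']
        have h1 : h - σ ((⇑σ)^[j] h) = (h - σ h) + σ (h - (⇑σ)^[j] h) := by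
          rw [map_sub]; ring
        rw [h1]; exact add_mem hh2 (hm2 _ ih)
    obtain ⟨q, hq⟩ : ∃ q : A, q = algebraMap k A ((n : k)⁻¹) *
        ∑ j ∈ Finset.range n, (h - (⇑σ)^[j] h) := ⟨_, rfl⟩
    have hq2 : q ∈ maximalIdeal A * maximalIdeal A := by
      rw [← pow_two, hq]
      exact Ideal.mul_mem_left _ _ (Ideal.sum_mem _ fun j _ => hiter j)
    have hqσ : q - σ q = h - σ h := by
      rw [hq, map_mul, AlgHom.commutes, map_sum, ← mul_sub, ← Finset.sum_sub_distrib]
      have h1 : ∀ j ∈ Finset.range n, (h - (⇑σ)^[j] h) - σ (h - (⇑σ)^[j] h) =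
          (h - σ h) - ((⇑σ)^[j] h - (⇑σ)^[j + 1] h) := by
        intro j _
        rw [map_sub, Function.iterate_succ_apply']; ring
      rw [Finset.sum_congr rfl h1, Finset.sum_sub_distrib,
        Finset.sum_range_sub' (fun j => (⇑σ)^[j] h), Finset.sum_const, Finset.card_range,
        Function.iterate_zero_apply, hσ, sub_self, sub_zero, nsmul_eq_mul, ← mul_assoc]
      have h2 : algebraMap k A ((n : k)⁻¹) * (n : A) = 1 := by
        rw [← map_natCast (algebraMap k A), ← map_mul, inv_mul_cancel₀ hn, map_one]
      rw [h2, one_mul]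
    rw [← hqσ]
    exact hLeib q hq2
  obtain ⟨d, hd⟩ : ∃ d : maximalIdeal A → maximalIdeal A,
      ∀ f, ((d f : maximalIdeal A) : A) = (f : A) - σ (f : A) :=
    ⟨fun f => ⟨(f : A) - σ (f : A), sub_mem f.2 (hσm _ f.2)⟩, fun f => rfl⟩
  obtain ⟨T, hT⟩ : ∃ T : Set (CotangentSpace A),
      T = Set.range (fun f : maximalIdeal A => (maximalIdeal A).toCotangent (d f)) := ⟨_, rfl⟩
  obtain ⟨b, hbT, hbspan, hbli⟩ := exists_linearIndependent (ResidueField A) T
  have hbfin : b.Finite := hbli.setFinite
  haveI : Fintype b := hbfin.fintype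
  obtain ⟨m, hm⟩ : ∃ m, m = Fintype.card b := ⟨_, rfl⟩
  obtain ⟨e⟩ : Nonempty (Fin m ≃ b) := ⟨(Fintype.equivFinOfCardEq hm.symm).symm⟩
  have hpre : ∀ i : Fin m, ∃ f : maximalIdeal A,
      (maximalIdeal A).toCotangent (d f) = (e i : CotangentSpace A) := by
    intro i
    have h1 := hbT (e i).2
    rw [hT] at h1
    exact h1
  choose fpre hfpre using hpre
  have hfun : (fun i : Fin m => (maximalIdeal A).toCotangent (d (fpre i))) =
      (Subtype.val : b → CotangentSpace A) ∘ e := funext hfpre
  refine ⟨m, fun i => d (fpre i), ?_, ?_⟩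
  · rw [← hI]
    apply le_antisymm
    · rw [Ideal.span_le]
      rintro _ ⟨i, rfl⟩
      show ((d (fpre i) : maximalIdeal A) : A) ∈ I
      rw [hd]; exact hsub_mem _
    · obtain ⟨J, hJ⟩ : ∃ J : Ideal A,
          J = Ideal.span (Set.range fun i : Fin m => ((d (fpre i) : maximalIdeal A) : A)) :=
        ⟨_, rfl⟩
      rw [← hJ]
      have key_m : ∀ f : maximalIdeal A, (f : A) - σ (f : A) ∈ J ⊔ maximalIdeal A • I := by
        intro f
        have h1 : (maximalIdeal A).toCotangent (d f) ∈ Submodule.span (ResidueField A)
            (Set.range fun i : Fin m => (maximalIdeal A).toCotangent (d (fpre i))) := by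
          have hr : (Set.range fun i : Fin m => (maximalIdeal A).toCotangent (d (fpre i))) =
              b := by
            rw [hfun, Set.range_comp, e.range_eq_univ, Set.image_univ, Subtype.range_coe]
          rw [hr, hbspan]
          exact Submodule.subset_span (hT ▸ ⟨f, rfl⟩)
        obtain ⟨c', hc'⟩ := (Submodule.mem_span_range_iff_exists_fun _).1 h1
        choose c hc using fun i => hres (c' i)
        obtain ⟨hh, hhdef⟩ : ∃ hh : maximalIdeal A,
            hh = f - ∑ i, algebraMap k A (c i) • fpre i := ⟨_, rfl⟩
        have hdlin : d hh = d f - ∑ i, algebraMap k A (c i) • d (fpre i) := by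
          apply Subtype.ext
          rw [hd, hhdef]
          simp only [Submodule.coe_sub, Submodule.coe_sum, Submodule.coe_smul, smul_eq_mul, hd,
            map_sub, map_sum, map_mul, AlgHom.commutes, mul_sub, Finset.sum_sub_distrib]
          ring
        have hy2 : ((hh : A) - σ (hh : A)) ∈ maximalIdeal A ^ 2 := by
          rw [← hd, ← Ideal.toCotangent_eq_zero, hdlin, map_sub, map_sum, ← hc', sub_eq_zero]
          refine Finset.sum_congr rfl fun i _ => ?_
          rw [← hc i, map_smul, IsScalarTower.algebraMap_apply k A (ResidueField A),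
            algebraMap_smul]
        have hyI := hL (hh : A) hh.2 hy2
        have hdecomp : (f : A) - σ (f : A) =
            (∑ i, algebraMap k A (c i) * ((d (fpre i) : maximalIdeal A) : A)) +
              ((hh : A) - σ (hh : A)) := by
          have h2 := congrArg (Subtype.val) hdlin
          simp only [Submodule.coe_sub, Submodule.coe_sum, Submodule.coe_smul,
            smul_eq_mul] at h2
          rw [← hd f, ← hd hh, h2]; ring
        rw [hdecomp]
        refine Submodule.add_mem_sup (Ideal.sum_mem _ fun i _ => Ideal.mul_mem_left _ _ ?_) hyI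
        rw [hJ]
        exact Ideal.subset_span ⟨i, rfl⟩
      have key : ∀ a : A, a - σ a ∈ J ⊔ maximalIdeal A • I := by
        intro a
        obtain ⟨c0, hc0⟩ := hres (residue A a)
        have hf0 : a - algebraMap k A c0 ∈ maximalIdeal A := by
          rw [← residue_eq_zero_iff, map_sub, ← hc0,
            IsScalarTower.algebraMap_apply k A (ResidueField A)]
          exact sub_self _
        have ha' : a - σ a = (a - algebraMap k A c0) - σ (a - algebraMap k A c0) := by
          rw [map_sub, AlgHom.commutes]; ring
        rw [ha']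
        exact key_m ⟨_, hf0⟩
      apply Submodule.le_of_le_smul_of_le_jacobson_bot (I := maximalIdeal A)
        (IsNoetherian.noetherian I) (jacobson_eq_maximalIdeal ⊥ bot_ne_top).ge
      intro x hx
      rw [hI] at hx
      refine Submodule.span_induction (p := fun x _ => x ∈ J ⊔ maximalIdeal A • I)
        ?_ ?_ ?_ ?_ hx
      · rintro _ ⟨a, rfl⟩; exact key a
      · exact zero_mem _
      · intro x y _ _ hx hy; exact add_mem hx hy
      · intro a x _ hx; exact Submodule.smul_mem _ a hx
  · rw [hfun]
    exact hbli.comp e e.injective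

end H18399

/-- Let k be a field and A a regular local k-algebra with residue field k (the structure map from k onto
the residue field of A is surjective), let σ be a k-algebra endomorphism of A of finite order n with
n invertible in k, and let I_σ be the ideal of A generated by the elements f - σ f. Then I_σ is
generated by finitely many elements of the maximal ideal whose classes in the cotangent space m/m^2
are linearly independent over the residue field. (Such elements are part of a regular system of
parameters of A, hence part of a regular sequence, which is the printed conclusion; the generators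
with independent classes are what the argument produces.) -/
theorem result {k : Type u} [Field k] {A : Type u} [CommRing A] [Algebra k A] [IsRegularLocalRing A] (hres : Function.Surjective ⇑(algebraMap k (IsLocalRing.ResidueField A))) (σ : A →ₐ[k] A) (n : ℕ) (hσ : ∀ a : A, (⇑σ)^[n] a = a) (hn : (n : k) ≠ 0) : ∃ (m : ℕ) (f : Fin m → ↥(IsLocalRing.maximalIdeal A)), Ideal.span (Set.range fun i : Fin m => (f i : A)) = Ideal.span (Set.range fun a : A => a - σ a) ∧ LinearIndependent (IsLocalRing.ResidueField A) (fun i : Fin m => (IsLocalRing.maximalIdeal A).toCotangent (f i)) := by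
  exact H18399.main hres σ n hσ hn

end Groth.Agent.S18399
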