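import Groth.Statements.S18402
import Mathlib

set_option autoImplicit false
universe u
open Pi1

namespace Groth.Agent.S18402

open AlgebraicGeometry CategoryTheory CategoryTheory.Limits in
/-- Let X be an irreducible scheme and π : W ⟶ X a flat morphism whose fibre over every field-valued
point of X is irreducible (so every fibre is geometrically irreducible and π is surjective). Then
for every finite étale cover Z of X with Z connected, the base change of Z along π is connected.
Ranging over all finite étale covers of X, this says that the monodromy group of each cover (the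
image of the fundamental group in the permutations of a geometric fibre) is unchanged by pullback
along π. The published statement asserts that equality of monodromy groups, for generically finite,
generically étale covers between irreducible algebraic stacks. -/
theorem result {X W : Scheme.{u}}
    [IrreducibleSpace X] (π : W ⟶ X) [Flat π] [GeometricallyIrreducible π]
    (Z : FEt.Cat X) [ConnectedSpace Z.left] :
    ConnectedSpace ↥(pullback Z.hom π) := by

  classical
  haveI hfin : IsFinite Z.hom := Z.prop.1
  haveI het : Etale Z.hom := Z.prop.2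
  haveI : Flat Z.hom := inferInstance
  let p : pullback Z.hom π ⟶ Z.left := pullback.fst Z.hom π
  haveI : Flat p := inferInstance
  haveI : GeometricallyIrreducible p := inferInstance
  haveI : Surjective p := inferInstance
  have hpgen : GeneralizingMap p := Flat.generalizingMap p
  have hfgen : GeneralizingMap Z.hom := Flat.generalizingMap Z.hom
  haveI hne : Nonempty Z.left := ConnectedSpace.toNonempty
  obtain ⟨z₀⟩ := hne
  obtain ⟨w₀, hw₀⟩ := p.surjective z₀
  -- fibres of `p` are preconnected
  have hfib : ∀ z : Z.left, _root_.IsPreconnected (p ⁻¹' {z}) := by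
    intro z
    rw [← Scheme.Hom.range_fiberι]
    exact isPreconnected_range (p.fiberι z).continuous
  -- (i) clopen sets are saturated
  have key : ∀ A : Set ↥(pullback Z.hom π), IsClopen A → p ⁻¹' (p '' A) = A := by
    intro A hA
    apply Set.Subset.antisymm
    · rintro w ⟨a, ha, hEq⟩
      have hsub := (hfib (p a)).subset_isClopen hA ⟨a, rfl, ha⟩
      exact hsub hEq.symm
    · exact Set.subset_preimage_image _ _
  -- (ii) images of opens are stable under generization
  have gen : ∀ A : Set ↥(pullback Z.hom π), IsOpen A → ∀ z z' : Z.left, z' ⤳ z → z ∈ p '' A →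
      z' ∈ p '' A := by
    rintro A hA z z' hzz' ⟨a, ha, rfl⟩
    obtain ⟨a', ha', hEq⟩ := hpgen hzz'
    exact ⟨a', ha'.mem_open hA ha, hEq⟩
  -- (iii) images of clopens are closed
  have closed : ∀ A : Set ↥(pullback Z.hom π), IsClopen A → IsClosed (p '' A) := by
    intro A hA
    have hcompl : (p '' A)ᶜ = p '' Aᶜ := by
      ext z
      constructor
      · intro hz
        obtain ⟨w, rfl⟩ := p.surjective z
        exact ⟨w, fun hw => hz ⟨w, hw, rfl⟩, rfl⟩
      · rintro ⟨w, hw, rfl⟩ ⟨a, ha, hEq⟩
        apply hw
        have : w ∈ p ⁻¹' (p '' A) := ⟨a, ha, hEq⟩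
        rwa [key A hA] at this
    have hspec : ∀ z z' : Z.left, z ⤳ z' → z ∈ p '' A → z' ∈ p '' A := by
      intro z z' hzz' hz
      by_contra hz'
      have h1 : z' ∈ p '' Aᶜ := by rw [← hcompl]; exact hz'
      have h2 : z ∈ p '' Aᶜ := gen Aᶜ hA.compl.isOpen z' z hzz' h1
      rw [← hcompl] at h2
      exact h2 hz
    have hFfin : (Z.hom ⁻¹' {genericPoint ↥X}).Finite := Z.hom.finite_preimage_singleton _
    have hEq : p '' A = ⋃ ζ ∈ (Z.hom ⁻¹' {genericPoint ↥X}) ∩ (p '' A), closure {ζ} := by
      apply Set.Subset.antisymm
      · intro z hz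
        have hsp : genericPoint ↥X ⤳ Z.hom z := genericPoint_specializes _
        obtain ⟨ζ, hζ, hζη⟩ := hfgen hsp
        refine Set.mem_biUnion (x := ζ) ⟨hζη, gen A hA.isOpen z ζ hζ hz⟩ ?_
        exact specializes_iff_mem_closure.mp hζ
      · intro z hz
        obtain ⟨ζ, ⟨_, hζA⟩, hzζ⟩ := Set.mem_iUnion₂.mp hz
        exact hspec ζ z (specializes_iff_mem_closure.mpr hzζ) hζA
    rw [hEq]
    exact (hFfin.subset Set.inter_subset_left).isClosed_biUnion (fun _ _ => isClosed_closure)
  haveI : PreconnectedSpace ↥(pullback Z.hom π) := by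
    rw [preconnectedSpace_iff_clopen]
    intro A hA
    have hcompl : (p '' A)ᶜ = p '' Aᶜ := by
      ext z
      constructor
      · intro hz
        obtain ⟨w, rfl⟩ := p.surjective z
        exact ⟨w, fun hw => hz ⟨w, hw, rfl⟩, rfl⟩
      · rintro ⟨w, hw, rfl⟩ ⟨a, ha, hEq⟩
        apply hw
        have : w ∈ p ⁻¹' (p '' A) := ⟨a, ha, hEq⟩
        rwa [key A hA] at this
    have hclopen : IsClopen (p '' A) := by
      refine ⟨closed A hA, ?_⟩
      rw [← isClosed_compl_iff, hcompl]
      exact closed Aᶜ hA.compl
    rcases isClopen_iff.mp hclopen with h | h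
    · left
      rw [← key A hA, h, Set.preimage_empty]
    · right
      rw [← key A hA, h, Set.preimage_univ]
  exact ⟨⟨w₀⟩⟩

end Groth.Agent.S18402
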