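import Groth.Statements.S18403
import Mathlib
import Groth.Agent.Lib.Helper27.CubicPlane
import Groth.Agent.Lib.Helper27.CubicFlex
import Groth.Agent.Lib.Helper27.CubicWeier

set_option autoImplicit false
universe u
open Cubic

namespace Groth.Agent.S18403

open MvPolynomial in
/-- Let f be a nonzero homogeneous cubic in three variables over ℂ whose plane curve is smooth (at every
nonzero zero of f some partial derivative of f is nonzero). Then f is projectively equivalent to a
Hesse cubic: there are an invertible matrix A, a constant c ≠ 0 and a parameter k with k³ ≠ 1 such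
that the linear substitution X_i ↦ Σ_j A_ij X_j carries f to c · (X₀³ + X₁³ + X₂³ − 3k·X₀X₁X₂). -/
theorem result (f : MvPolynomial (Fin 3) ℂ) (hf : f.IsHomogeneous 3)
    (hf0 : f ≠ 0) (hsm : ∀ v : Fin 3 → ℂ, v ≠ 0 → eval v f = 0 → ∃ i : Fin 3, eval v (pderiv i f) ≠ 0) :
    ∃ (A : Matrix (Fin 3) (Fin 3) ℂ) (k c : ℂ), IsUnit A.det ∧ k ^ 3 ≠ 1 ∧ c ≠ 0 ∧
      aeval (fun i : Fin 3 => ∑ j : Fin 3, C (A i j) * X j) f = C c * HesseCubic.form k := by
  open Groth.Agent.Lib.Helper27.Cubic in
  obtain ⟨a, b, c, α, p, q, r, hInd, hα, hp, hG⟩ := exists_weierstrass hf hsm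
  have hns : ∀ x y z : ℂ, ¬(x = 0 ∧ y = 0 ∧ z = 0) →
      ¬(3 * α * x ^ 2 + q * z ^ 2 = 0 ∧ 2 * p * y * z = 0 ∧
        p * y ^ 2 + 2 * q * x * z + 3 * r * z ^ 2 = 0) := by
    rintro x y z hne ⟨h1, h2, h3⟩
    exact no_sing hf hsm hInd hG x y z hne (by simp only [cubx]; linear_combination h1)
      (by simp only [cuby]; linear_combination h2) (by simp only [cubz]; linear_combination h3)
  obtain ⟨B, k, c₀, hB, hk, hc₀, hH⟩ := wei_to_hesse α p q r hα hp hns
  refine ⟨cols a b c * B, k, c₀, ?_, hk, hc₀, ?_⟩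
  · rw [Matrix.det_mul]
    exact isUnit_iff_ne_zero.mpr (mul_ne_zero (det_cols_ne_zero hInd) hB)
  · rw [subst_eq_iff]
    intro X
    rw [← Matrix.mulVec_mulVec, cols_mulVec, hG, map_mul, eval_C, hesse_eval]
    have := hH X
    unfold wei at this
    unfold cub
    linear_combination this

end Groth.Agent.S18403
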