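import Groth.Statements.S18405
import Mathlib
import Groth.Agent.Lib.Helper27.CubicAut
import Groth.Agent.S18403
import Groth.Agent.S18404

set_option autoImplicit false
universe u
open Cubic

namespace Groth.Agent.S18405

open MvPolynomial in
/-- Let f be a nonzero homogeneous cubic in three variables over ℂ whose plane curve is smooth (at every
nonzero zero of f some partial derivative is nonzero), and let A be an invertible matrix whose
linear substitution X_i ↦ Σ_j A_ij X_j multiplies f by a constant, so that v ↦ A·v is a projective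
automorphism of the curve. If A·v is proportional to v for every flex v of the curve (every nonzero
zero v of f through which some line meets the curve with multiplicity three: there is w linearly
independent from v with f(v + t·w) = t³·f(w) for all t), then A is a scalar matrix: the projective
automorphisms of a smooth plane cubic act faithfully on its flexes. -/
theorem result (f : MvPolynomial (Fin 3) ℂ) (hf : f.IsHomogeneous 3)
    (hf0 : f ≠ 0) (hsm : ∀ v : Fin 3 → ℂ, v ≠ 0 → eval v f = 0 → ∃ i : Fin 3, eval v (pderiv i f) ≠ 0)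
    (A : Matrix (Fin 3) (Fin 3) ℂ) (hA : IsUnit A.det)
    (hAf : ∃ c : ℂ, aeval (fun i : Fin 3 => ∑ j : Fin 3, C (A i j) * X j) f = C c * f)
    (hfix : ∀ v : Fin 3 → ℂ, v ≠ 0 → eval v f = 0 →
      (∃ w : Fin 3 → ℂ, LinearIndependent ℂ ![v, w] ∧ ∀ t : ℂ, eval (v + t • w) f = t ^ 3 * eval w f) →
      ∃ d : ℂ, A.mulVec v = d • v) :
    ∃ c : ℂ, A = c • (1 : Matrix (Fin 3) (Fin 3) ℂ) := by
  open Groth.Agent.Lib.Helper27.Cubic in
  obtain ⟨M, k, c₀, hM, hk, hc₀, hMf⟩ := Groth.Agent.S18403.result f hf hf0 hsm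
  rw [subst_eq_iff] at hMf
  have hMf' : ∀ X : Fin 3 → ℂ, eval (M.mulVec X) f = c₀ * eval X (HesseCubic.form k) := by
    intro X; rw [hMf, map_mul, eval_C]
  obtain ⟨ω, hω⟩ : ∃ ω : ℂ, ω ^ 2 + ω + 1 = 0 := by
    obtain ⟨s, hs⟩ := IsAlgClosed.exists_eq_mul_self (discrim (1 : ℂ) 1 1)
    obtain ⟨x, hx⟩ := exists_quadratic_eq_zero one_ne_zero ⟨s, hs⟩
    exact ⟨x, by linear_combination hx⟩
  have hω1 : ω ≠ 1 := by rintro rfl; norm_num at hω
  have hω0 : ω ≠ 0 := by rintro rfl; norm_num at hω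
  have hω3 : ω ^ 3 = 1 := by linear_combination (ω - 1) * hω
  have key : ∀ p : Fin 3 → ℂ, p ≠ 0 →
      (∃ γ c : ℂ, γ ^ 3 = 1 ∧ (p = c • ![0, 1, -γ] ∨ p = c • ![-γ, 0, 1] ∨ p = c • ![1, -γ, 0])) →
      eval p (HesseCubic.form k) = 0 → ∃ d : ℂ, (M⁻¹ * A * M).mulVec p = d • p := by
    intro p hp hform hpH
    have hflexp := (Groth.Agent.S18404.result k hk p hp hpH).mpr hform
    obtain ⟨h1, h2, h3⟩ := flex_transfer' f (HesseCubic.form k) M hM c₀ hMf' p hp hpH hflexp
    obtain ⟨d, hd⟩ := hfix _ h1 h2 h3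
    refine ⟨d, ?_⟩
    rw [← Matrix.mulVec_mulVec, ← Matrix.mulVec_mulVec, hd, Matrix.mulVec_smul,
      inv_mulVec_cancel M hM]
  have hγ3 : ∀ γ : ℂ, γ = 1 ∨ γ = ω → γ ^ 3 = 1 := by
    rintro γ (rfl | rfl)
    · norm_num
    · exact hω3
  have hE := scalar_of_fix_flexes (M⁻¹ * A * M) ω hω1 hω0
    (fun γ hγ => key ![0, 1, -γ]
      (fun h => by have := congrFun h 1; simp at this)
      ⟨γ, 1, hγ3 γ hγ, Or.inl (by simp)⟩
      (by rw [hesse_eval]; simp; linear_combination -(hγ3 γ hγ)))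
    (fun γ hγ => key ![-γ, 0, 1]
      (fun h => by have := congrFun h 2; simp at this)
      ⟨γ, 1, hγ3 γ hγ, Or.inr (Or.inl (by simp))⟩
      (by rw [hesse_eval]; simp; linear_combination -(hγ3 γ hγ)))
  obtain ⟨e, he⟩ : ∃ e : ℂ, M⁻¹ * A * M = e • (1 : Matrix (Fin 3) (Fin 3) ℂ) := ⟨_, hE⟩
  refine ⟨e, ?_⟩
  have e1 : M * M⁻¹ = 1 := Matrix.mul_nonsing_inv M hM
  calc A = (M * M⁻¹) * A * (M * M⁻¹) := by rw [e1]; simp
    _ = M * (M⁻¹ * A * M) * M⁻¹ := by simp only [Matrix.mul_assoc]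
    _ = M * (e • (1 : Matrix (Fin 3) (Fin 3) ℂ)) * M⁻¹ := by rw [he]
    _ = e • (1 : Matrix (Fin 3) (Fin 3) ℂ) := by
      rw [Matrix.mul_smul, Matrix.smul_mul, Matrix.mul_one, e1]

end Groth.Agent.S18405
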