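import Groth.Statements.S18406
import Mathlib
import Groth.Agent.Lib.Helper27.CubicAut
import Groth.Agent.S18403
import Groth.Agent.S18404

set_option autoImplicit false
universe u
open Cubic

namespace Groth.Agent.S18406

open MvPolynomial in
/-- Let f be a nonzero homogeneous cubic in three variables over ℂ whose plane curve is smooth (at every
nonzero zero of f some partial derivative is nonzero), and let v and v′ be flexes of the curve, that
is nonzero zeros of f through each of which some line meets the curve with multiplicity three (there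
is a vector w linearly independent from the point with f(point + t·w) = t³·f(w) for every t). Then a
projective automorphism of the curve carries the point of v to the point of v′: there are an
invertible matrix A whose substitution X_i ↦ Σ_j A_ij X_j multiplies f by a constant c, and a
constant d with A·v = d·v′. (The published statement gives more: a subgroup of the projective
automorphism group isomorphic to C₃ × C₃ acts simply transitively on the nine flexes; only
transitivity is stated here.) -/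
theorem result (f : MvPolynomial (Fin 3) ℂ) (hf : f.IsHomogeneous 3)
    (hf0 : f ≠ 0) (hsm : ∀ v : Fin 3 → ℂ, v ≠ 0 → eval v f = 0 → ∃ i : Fin 3, eval v (pderiv i f) ≠ 0)
    (v v' : Fin 3 → ℂ) (hv : v ≠ 0) (hv' : v' ≠ 0) (hfv : eval v f = 0) (hfv' : eval v' f = 0)
    (hflex : (∃ w : Fin 3 → ℂ, LinearIndependent ℂ ![v, w] ∧ ∀ t : ℂ, eval (v + t • w) f = t ^ 3 * eval w f))
    (hflex' : (∃ w : Fin 3 → ℂ, LinearIndependent ℂ ![v', w] ∧ ∀ t : ℂ, eval (v' + t • w) f = t ^ 3 * eval w f)) :
    ∃ (A : Matrix (Fin 3) (Fin 3) ℂ) (c d : ℂ), IsUnit A.det ∧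
      aeval (fun i : Fin 3 => ∑ j : Fin 3, C (A i j) * X j) f = C c * f ∧ A.mulVec v = d • v' := by
  open Groth.Agent.Lib.Helper27.Cubic in
  obtain ⟨M, k, c₀, hM, hk, hc₀, hMf⟩ := Groth.Agent.S18403.result f hf hf0 hsm
  rw [subst_eq_iff] at hMf
  have hMf' : ∀ X : Fin 3 → ℂ, eval (M.mulVec X) f = c₀ * eval X (HesseCubic.form k) := by
    intro X; rw [hMf, map_mul, eval_C]
  obtain ⟨hp0, hpH, hpflex⟩ := flex_transfer f (HesseCubic.form k) M hM c₀ hc₀ hMf' v hv hfv hflex
  obtain ⟨hp0', hpH', hpflex'⟩ := flex_transfer f (HesseCubic.form k) M hM c₀ hc₀ hMf' v' hv' hfv' hflex'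
  obtain ⟨γ, c, hγ, hcase⟩ := (Groth.Agent.S18404.result k hk _ hp0 hpH).mp hpflex
  obtain ⟨γ', c', hγ', hcase'⟩ := (Groth.Agent.S18404.result k hk _ hp0' hpH').mp hpflex'
  have hc : c ≠ 0 := by
    rintro rfl
    apply hp0
    rcases hcase with h | h | h <;> simpa using h
  have hc' : c' ≠ 0 := by
    rintro rfl
    apply hp0'
    rcases hcase' with h | h | h <;> simpa using h
  obtain ⟨B, hB, hBH, d, hd, hBO⟩ := hesse_move k γ c hγ hc _ hcase
  obtain ⟨B', hB', hBH', d', hd', hBO'⟩ := hesse_move k γ' c' hγ' hc' _ hcase'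
  refine ⟨M * (B' * B⁻¹) * M⁻¹, 1, d' / d, ?_, ?_, ?_⟩
  · rw [Matrix.det_mul, Matrix.det_mul, Matrix.det_mul]
    have h1 : IsUnit (B⁻¹).det := by
      rw [Matrix.det_nonsing_inv]; exact hB.ringInverse
    have h2 : IsUnit (M⁻¹).det := by
      rw [Matrix.det_nonsing_inv]; exact hM.ringInverse
    exact ((hM.mul (hB'.mul h1)).mul h2)
  · rw [subst_eq_iff]
    intro X
    rw [map_mul, eval_C, one_mul]
    rw [← Matrix.mulVec_mulVec, ← Matrix.mulVec_mulVec, hMf', ← Matrix.mulVec_mulVec, hBH']
    have h1 : eval (B⁻¹.mulVec (M⁻¹.mulVec X)) (HesseCubic.form k) =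
        eval (M⁻¹.mulVec X) (HesseCubic.form k) := by
      rw [← hBH (B⁻¹.mulVec (M⁻¹.mulVec X)), mulVec_inv_cancel B hB]
    rw [h1, ← hMf', mulVec_inv_cancel M hM]
  · rw [← Matrix.mulVec_mulVec, ← Matrix.mulVec_mulVec, ← Matrix.mulVec_mulVec]
    have h1 : B⁻¹.mulVec (M⁻¹.mulVec v) = (1 / d) • ![0, 1, -1] := by
      have : M⁻¹.mulVec v = (1 / d) • B.mulVec ![0, 1, -1] := by
        rw [hBO, smul_smul]; field_simp; simp
      rw [this, Matrix.mulVec_smul, inv_mulVec_cancel B hB]
    rw [h1, Matrix.mulVec_smul, hBO', Matrix.mulVec_smul, Matrix.mulVec_smul,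
      mulVec_inv_cancel M hM, smul_smul]
    congr 1
    field_simp

end Groth.Agent.S18406
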