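import Groth.Statements.S18409
import Mathlib
import Groth.Agent.Lib.Helper27.CubicSurf

set_option autoImplicit false
universe u
open Cubic

namespace Groth.Agent.S18409

open MvPolynomial in
/-- Let f be a nonzero homogeneous cubic in four variables over ℂ whose surface S = V_+(f) ⊂ P³ is
smooth (at every nonzero zero of f some partial derivative is nonzero); a line on S is a
2-dimensional subspace of ℂ⁴ on which f vanishes, and an Eckardt point of S is a nonzero vector
lying on three distinct lines on S. Let e and e′ be Eckardt points of S that are not proportional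
and let L be their span, a plane in ℂ⁴, i.e. the line of P³ through the two points. Then exactly one
of the two cases occurs: either f vanishes identically on L (the line lies on S), or L contains a
third Eckardt point e″, proportional to neither e nor e′, and every zero of f in L is proportional
to e, e′ or e″ (the line meets S in exactly three points, all Eckardt points). -/
theorem result (f : MvPolynomial (Fin 4) ℂ) (hf : f.IsHomogeneous 3)
    (hf0 : f ≠ 0) (hsm : ∀ v : Fin 4 → ℂ, v ≠ 0 → eval v f = 0 → ∃ i : Fin 4, eval v (pderiv i f) ≠ 0)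
    (e e' : Fin 4 → ℂ) (he : e ≠ 0) (he' : e' ∉ Submodule.span ℂ {e})
    (hE : (∃ U : Fin 3 → Submodule ℂ (Fin 4 → ℂ), Function.Injective U ∧
        ∀ i : Fin 3, Module.finrank ℂ ↥(U i) = 2 ∧ e ∈ U i ∧ ∀ u ∈ U i, eval u f = 0))
    (hE' : (∃ U : Fin 3 → Submodule ℂ (Fin 4 → ℂ), Function.Injective U ∧
        ∀ i : Fin 3, Module.finrank ℂ ↥(U i) = 2 ∧ e' ∈ U i ∧ ∀ u ∈ U i, eval u f = 0)) :
    Xor (∀ u ∈ Submodule.span ℂ {e, e'}, eval u f = 0)
      (∃ e'' : Fin 4 → ℂ, e'' ∈ Submodule.span ℂ {e, e'} ∧ e'' ∉ Submodule.span ℂ {e} ∧ e'' ∉ Submodule.span ℂ {e'} ∧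
        (∃ U : Fin 3 → Submodule ℂ (Fin 4 → ℂ), Function.Injective U ∧
        ∀ i : Fin 3, Module.finrank ℂ ↥(U i) = 2 ∧ e'' ∈ U i ∧ ∀ u ∈ U i, eval u f = 0) ∧
        ∀ u ∈ Submodule.span ℂ {e, e'}, eval u f = 0 →
          u ∈ Submodule.span ℂ {e} ∨ u ∈ Submodule.span ℂ {e'} ∨ u ∈ Submodule.span ℂ {e''}) := by
  open Groth.Agent.Lib.Helper27.Cubic in
  have hfe := eval_eq_zero_of_isEck hE
  have hfe' := eval_eq_zero_of_isEck hE'
  have he'0 : e' ≠ 0 := ne_zero_of_not_mem_span he'
  have hee' : e ∉ Submodule.span ℂ {e'} := not_mem_span_symm he he'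
  obtain ⟨μ, hμ⟩ := eck_struct hf hsm e he hE
  obtain ⟨μ', hμ'⟩ := eck_struct hf hsm e' he'0 hE'
  have hline := eval_line hf hfe hfe' hμ
  have hind := indep_pair he he'
  by_cases hl : T f e e e' = 0
  · have hL : ∀ u ∈ Submodule.span ℂ {e, e'}, eval u f = 0 := by
      intro u hu
      rw [Submodule.mem_span_pair] at hu
      obtain ⟨s, t, rfl⟩ := hu
      rw [hline, hl]; ring
    refine Or.inl ⟨hL, ?_⟩
    rintro ⟨e'', -, -, -, -, hzeros⟩
    exact not_three_lines he he' e'' (fun u hu => hzeros u hu (hL u hu))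
  · have hmm := mu_mul_mu hμ hμ' hl
    have hμe' : μ ⬝ᵥ e' ≠ 0 := by
      intro h0
      rw [h0, zero_mul] at hmm
      exact zero_ne_one hmm
    have hA := struct_inv hf e he hfe hμ
    obtain ⟨hAA, -, -, -⟩ := hA
    have hAf : ∀ z, eval ((reflM e μ).mulVec z) f = eval z f := by
      obtain ⟨ψ, -, -, h3⟩ := inv_struct hf hsm (reflM e μ) e he hfe (struct_inv hf e he hfe hμ)
      exact h3
    refine Or.inr ⟨⟨(reflM e μ).mulVec e', ?_, ?_, ?_, isEck_map _ hAA hAf he'0 hE', ?_⟩, ?_⟩
    · rw [reflM_mulVec, Submodule.mem_span_pair]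
      exact ⟨-(μ ⬝ᵥ e'), 1, by module⟩
    · rw [reflM_mulVec, Submodule.mem_span_singleton]
      rintro ⟨a, ha⟩
      have := hind (a + μ ⬝ᵥ e') (-1) (by rw [add_smul, ha]; module)
      norm_num at this
    · rw [reflM_mulVec, Submodule.mem_span_singleton]
      rintro ⟨a, ha⟩
      have := hind (μ ⬝ᵥ e') (a - 1) (by rw [sub_smul, ha]; module)
      exact hμe' this.1
    · intro u hu hfu
      rw [Submodule.mem_span_pair] at hu
      obtain ⟨s, t, rfl⟩ := hu
      rw [hline] at hfu
      have h3 : s * t * (s + (μ ⬝ᵥ e') * t) = 0 := by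
        rcases mul_eq_zero.mp hfu with h | h
        · exact absurd h (mul_ne_zero (by norm_num) hl)
        · exact h
      rcases mul_eq_zero.mp h3 with h | h
      · rcases mul_eq_zero.mp h with h | h
        · right; left
          rw [h, zero_smul, zero_add]
          exact Submodule.smul_mem _ _ (Submodule.mem_span_singleton_self _)
        · left
          rw [h, zero_smul, add_zero]
          exact Submodule.smul_mem _ _ (Submodule.mem_span_singleton_self _)
      · right; right
        rw [Submodule.mem_span_singleton]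
        refine ⟨t, ?_⟩
        rw [reflM_mulVec]
        have : s = -((μ ⬝ᵥ e') * t) := by linear_combination h
        rw [this]; module
    · intro hL
      have h1 := hL ((1 : ℂ) • e + (1 : ℂ) • e') (by rw [Submodule.mem_span_pair]; exact ⟨1, 1, rfl⟩)
      have h2 := hL ((2 : ℂ) • e + (1 : ℂ) • e') (by rw [Submodule.mem_span_pair]; exact ⟨2, 1, rfl⟩)
      rw [hline] at h1 h2
      have h1' : (1 : ℂ) * 1 * (1 + (μ ⬝ᵥ e') * 1) = 0 :=
        (mul_eq_zero.mp h1).resolve_left (mul_ne_zero (by norm_num) hl)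
      have h2' : (2 : ℂ) * 1 * (2 + (μ ⬝ᵥ e') * 1) = 0 :=
        (mul_eq_zero.mp h2).resolve_left (mul_ne_zero (by norm_num) hl)
      have : (1 : ℂ) = 0 := by linear_combination (1/2 : ℂ) * h2' - h1'
      exact one_ne_zero this

end Groth.Agent.S18409
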