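import Groth.Statements.S18411
import Mathlib
import Groth.Agent.Lib.Helper27.CubicSurf
import Groth.Agent.S18407

set_option autoImplicit false
universe u
open Cubic

namespace Groth.Agent.S18411

open MvPolynomial in
/-- Let f be a nonzero homogeneous cubic in four variables over ℂ whose surface S = V_+(f) ⊂ P³ is
smooth (at every nonzero zero of f some partial derivative is nonzero); a line on S is a
2-dimensional subspace of ℂ⁴ on which f vanishes, and an Eckardt point of S is a nonzero vector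
lying on three distinct lines on S. Let e, e′, e″ be pairwise non-proportional Eckardt points of S
spanning a single plane L = span(e, e′) of ℂ⁴ on which f does not vanish identically (three
collinear Eckardt points whose line is not on S), and let A, A′, A″ be their Eckardt involutions: an
involutory matrix A (A² = 1) whose +1-eigenspace is a hyperplane and with A·e = −e, such that the
substitution X_i ↦ Σ_j A_ij X_j multiplies f by a constant — that is, a projective involution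
preserving S whose fixed locus is the disjoint union of a plane and the point of e, and likewise for
e′ and e″. Then the three involutions generate, as projective transformations, a group isomorphic to
the symmetric group on three letters: the product A·A′ is not a scalar matrix, its cube is, and A″
is a scalar multiple of A·A′·A. -/
theorem result (f : MvPolynomial (Fin 4) ℂ) (hf : f.IsHomogeneous 3)
    (hf0 : f ≠ 0) (hsm : ∀ v : Fin 4 → ℂ, v ≠ 0 → eval v f = 0 → ∃ i : Fin 4, eval v (pderiv i f) ≠ 0)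
    (e e' e'' : Fin 4 → ℂ) (he : e ≠ 0) (he' : e' ∉ Submodule.span ℂ {e})
    (he''1 : e'' ∉ Submodule.span ℂ {e}) (he''2 : e'' ∉ Submodule.span ℂ {e'}) (he''L : e'' ∈ Submodule.span ℂ {e, e'})
    (hE : (∃ U : Fin 3 → Submodule ℂ (Fin 4 → ℂ), Function.Injective U ∧
        ∀ i : Fin 3, Module.finrank ℂ ↥(U i) = 2 ∧ e ∈ U i ∧ ∀ u ∈ U i, eval u f = 0))
    (hE' : (∃ U : Fin 3 → Submodule ℂ (Fin 4 → ℂ), Function.Injective U ∧
        ∀ i : Fin 3, Module.finrank ℂ ↥(U i) = 2 ∧ e' ∈ U i ∧ ∀ u ∈ U i, eval u f = 0))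
    (hE'' : (∃ U : Fin 3 → Submodule ℂ (Fin 4 → ℂ), Function.Injective U ∧
        ∀ i : Fin 3, Module.finrank ℂ ↥(U i) = 2 ∧ e'' ∈ U i ∧ ∀ u ∈ U i, eval u f = 0))
    (hL : ¬ ∀ u ∈ Submodule.span ℂ {e, e'}, eval u f = 0)
    (A A' A'' : Matrix (Fin 4) (Fin 4) ℂ)
    (hA : A * A = 1 ∧ Module.finrank ℂ ↥(LinearMap.ker (Matrix.toLin' A - LinearMap.id)) = 3 ∧
        A.mulVec e = -e ∧ ∃ c : ℂ, aeval (fun i : Fin 4 => ∑ j : Fin 4, C (A i j) * X j) f = C c * f)
    (hA' : A' * A' = 1 ∧ Module.finrank ℂ ↥(LinearMap.ker (Matrix.toLin' A' - LinearMap.id)) = 3 ∧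
        A'.mulVec e' = -e' ∧ ∃ c : ℂ, aeval (fun i : Fin 4 => ∑ j : Fin 4, C (A' i j) * X j) f = C c * f)
    (hA'' : A'' * A'' = 1 ∧ Module.finrank ℂ ↥(LinearMap.ker (Matrix.toLin' A'' - LinearMap.id)) = 3 ∧
        A''.mulVec e'' = -e'' ∧ ∃ c : ℂ, aeval (fun i : Fin 4 => ∑ j : Fin 4, C (A'' i j) * X j) f = C c * f) :
    (¬ ∃ c : ℂ, A * A' = c • (1 : Matrix (Fin 4) (Fin 4) ℂ)) ∧ (∃ c : ℂ, (A * A') ^ 3 = c • (1 : Matrix (Fin 4) (Fin 4) ℂ)) ∧
      ∃ c : ℂ, A'' = c • (A * A' * A) := by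
  open Groth.Agent.Lib.Helper27.Cubic in
  have hfe := eval_eq_zero_of_isEck hE
  have hfe' := eval_eq_zero_of_isEck hE'
  have hfe'' := eval_eq_zero_of_isEck hE''
  have he'0 : e' ≠ 0 := ne_zero_of_not_mem_span he'
  have he''0 : e'' ≠ 0 := ne_zero_of_not_mem_span he''1
  have hind := indep_pair he he'
  obtain ⟨ψ, hψ, hAz, hAf⟩ := inv_struct hf hsm A e he hfe hA
  obtain ⟨ψ', hψ', hA'z, hA'f⟩ := inv_struct hf hsm A' e' he'0 hfe' hA'
  have hline := eval_line hf hfe hfe' hψ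
  have hl : T f e e e' ≠ 0 := by
    intro h0
    apply hL
    intro u hu
    rw [Submodule.mem_span_pair] at hu
    obtain ⟨s, t, rfl⟩ := hu
    rw [hline, h0]; ring
  have hmm := mu_mul_mu hψ hψ' hl
  have hψe' : ψ ⬝ᵥ e' ≠ 0 := by
    intro h0
    rw [h0, zero_mul] at hmm
    exact zero_ne_one hmm
  rw [Submodule.mem_span_pair] at he''L
  obtain ⟨s, t, hst⟩ := he''L
  have hs : s ≠ 0 := by
    rintro rfl
    apply he''2
    rw [← hst, zero_smul, zero_add]
    exact Submodule.smul_mem _ _ (Submodule.mem_span_singleton_self _)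
  have ht : t ≠ 0 := by
    rintro rfl
    apply he''1
    rw [← hst, zero_smul, add_zero]
    exact Submodule.smul_mem _ _ (Submodule.mem_span_singleton_self _)
  have hs' : s = -((ψ ⬝ᵥ e') * t) := by
    have h0 := hfe''
    rw [← hst, hline] at h0
    have h3 : s * t * (s + (ψ ⬝ᵥ e') * t) = 0 :=
      (mul_eq_zero.mp h0).resolve_left (mul_ne_zero (by norm_num) hl)
    have h4 := (mul_eq_zero.mp h3).resolve_left (mul_ne_zero hs ht)
    linear_combination h4
  have he''A : e'' = t • A.mulVec e' := by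
    rw [hAz, ← hst, hs']; module
  have he''A' : e'' = (-(t * (ψ ⬝ᵥ e'))) • A'.mulVec e := by
    rw [hA'z, ← hst, hs']
    have h1 : (-(t * (ψ ⬝ᵥ e'))) • (e - (ψ' ⬝ᵥ e) • e') =
        (-((ψ ⬝ᵥ e') * t)) • e + (t * ((ψ ⬝ᵥ e') * (ψ' ⬝ᵥ e))) • e' := by module
    rw [h1, hmm, mul_one]
  have hBinv : A * A' * A * (A * A' * A) = 1 ∧
      Module.finrank ℂ ↥(LinearMap.ker (Matrix.toLin' (A * A' * A) - LinearMap.id)) = 3 ∧
      (A * A' * A).mulVec e'' = -e'' ∧
      ∃ c : ℂ, aeval (fun i : Fin 4 => ∑ j : Fin 4, C ((A * A' * A) i j) * X j) f = C c * f :=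
    conj_isEckInv A A' e e' ψ ψ' hA.1 hA'.1 hψ.1 hψ'.1 hAz hA'z hAf hA'f t ht e'' he''A he''0
  have hB'inv : A' * A * A' * (A' * A * A') = 1 ∧
      Module.finrank ℂ ↥(LinearMap.ker (Matrix.toLin' (A' * A * A') - LinearMap.id)) = 3 ∧
      (A' * A * A').mulVec e'' = -e'' ∧
      ∃ c : ℂ, aeval (fun i : Fin 4 => ∑ j : Fin 4, C ((A' * A * A') i j) * X j) f = C c * f :=
    conj_isEckInv A' A e' e ψ' ψ hA'.1 hA.1 hψ'.1 hψ.1 hA'z hAz hA'f hAf (-(t * (ψ ⬝ᵥ e')))
      (neg_ne_zero.mpr (mul_ne_zero ht hψe')) e'' he''A' he''0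
  have hU := Groth.Agent.S18407.result f hf hf0 hsm e'' he''0 hE''
  have hB : A'' = A * A' * A := hU.unique hA'' hBinv
  have hB' : A'' = A' * A * A' := hU.unique hA'' hB'inv
  refine ⟨?_, ⟨1, ?_⟩, ⟨1, by rw [one_smul]; exact hB⟩⟩
  · rintro ⟨c, hc⟩
    have h1 := congrArg (fun M : Matrix (Fin 4) (Fin 4) ℂ => M.mulVec e') hc
    simp only [Matrix.smul_mulVec, Matrix.one_mulVec] at h1
    rw [← Matrix.mulVec_mulVec, hA'.2.2.1, Matrix.mulVec_neg, hAz] at h1
    have := hind (ψ ⬝ᵥ e') (-1 - c) (by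
      have h2 : -(e' - (ψ ⬝ᵥ e') • e) - c • e' = 0 := by rw [h1]; simp
      rw [← h2]; module)
    exact hψe' this.1
  · rw [one_smul]
    calc (A * A') ^ 3 = (A * A' * A) * (A' * A * A') := by
          simp only [pow_succ, pow_zero, one_mul, Matrix.mul_assoc]
      _ = A'' * A'' := by rw [← hB, ← hB']
      _ = 1 := hA''.1

end Groth.Agent.S18411
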