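import Groth.Statements.S18423
import Mathlib
import Groth.Agent.S2733

set_option autoImplicit false
universe u v
open Pi1

namespace Groth.Agent.S18423

open IsLocalRing TensorProduct

theorem trace_one_tmul {A B : Type*} [CommRing A] [CommRing B] [Algebra A B] [Module.Free A B]
    [Module.Finite A B] (K : Type*) [CommRing K] [Algebra A K] (x : B) :
    Algebra.trace K (K ⊗[A] B) ((1 : K) ⊗ₜ[A] x) = algebraMap A K (Algebra.trace A B x) := by
  rw [Algebra.trace_apply, ← Algebra.baseChange_lmul, LinearMap.trace_baseChange,
    ← Algebra.trace_apply]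

theorem toMatrix_traceForm_baseChange {A B ι : Type*} [CommRing A] [CommRing B] [Algebra A B]
    [Fintype ι] [DecidableEq ι] (bs : Module.Basis ι A B) (K : Type*) [CommRing K] [Algebra A K] :
    LinearMap.toMatrix (bs.baseChange K) (bs.baseChange K).dualBasis
        (Algebra.traceForm K (K ⊗[A] B)) =
      (algebraMap A K).mapMatrix
        (LinearMap.toMatrix bs bs.dualBasis (Algebra.traceForm A B)) := by
  haveI : Module.Finite A B := Module.Finite.of_basis bs
  haveI : Module.Free A B := Module.Free.of_basis bs
  ext i j
  rw [RingHom.mapMatrix_apply, Matrix.map_apply, LinearMap.toMatrix_apply,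
    LinearMap.toMatrix_apply, Module.Basis.dualBasis_repr, Module.Basis.dualBasis_repr,
    Algebra.traceForm_apply, Algebra.traceForm_apply, Module.Basis.baseChange_apply,
    Module.Basis.baseChange_apply, Algebra.TensorProduct.tmul_mul_tmul, mul_one, trace_one_tmul]

theorem killed (A : Type u) (B : Type v) [CommRing A] [CommRing B] [Algebra A B] [IsLocalRing A]
    [Module.Finite A B]
    (h : ∀ q : PrimeSpectrum B, q.asIdeal.comap (algebraMap A B) ≠ maximalIdeal A →
      Algebra.IsEtaleAt A q.asIdeal)
    (a : A) (ha : a ∈ maximalIdeal A) : ∃ N : ℕ, ∀ ω : Ω[B⁄A], a ^ N • ω = 0 := by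
  have hrad : algebraMap A B a ∈ (Module.annihilator B Ω[B⁄A]).radical := by
    rw [Ideal.radical_eq_sInf, Ideal.mem_sInf]
    rintro q ⟨hq, hqp⟩
    haveI := hqp
    by_contra hnot
    have hne : q.comap (algebraMap A B) ≠ maximalIdeal A := by
      intro heq
      apply hnot
      have h1 : a ∈ q.comap (algebraMap A B) := by rw [heq]; exact ha
      exact h1
    have het : Algebra.IsEtaleAt A q := h ⟨q, hqp⟩ hne
    have hun : (⟨q, hqp⟩ : PrimeSpectrum B) ∈ Algebra.unramifiedLocus A B := by
      show Algebra.IsUnramifiedAt A q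
      haveI := het
      infer_instance
    rw [Algebra.unramifiedLocus_eq_compl_support, Set.mem_compl_iff,
      Module.support_eq_zeroLocus] at hun
    exact hun ((PrimeSpectrum.mem_zeroLocus _ _).2 hq)
  obtain ⟨N, hN⟩ := hrad
  refine ⟨N, fun ω => ?_⟩
  have h2 := Module.mem_annihilator.1 hN ω
  rw [← map_pow, algebraMap_smul] at h2
  exact h2


/-- Let A be a Noetherian local ring of Krull dimension at least 2 and B a finite flat commutative
A-algebra. If B is etale over A at every prime of B lying over a non-maximal prime of A (that is,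
Spec B is etale over the punctured spectrum of A), then B is etale over A. -/
theorem result (A : Type u) (B : Type v) [CommRing A] [CommRing B]
    [Algebra A B] [IsNoetherianRing A] [IsLocalRing A] (hdim : (2 : WithBot ℕ∞) ≤ ringKrullDim A)
    [Module.Finite A B] [Module.Flat A B]
    (h : ∀ q : PrimeSpectrum B, q.asIdeal.comap (algebraMap A B) ≠ IsLocalRing.maximalIdeal A →
      Algebra.IsEtaleAt A q.asIdeal) :
    Algebra.Etale A B := by
  classical
  haveI : Module.Free A B := Module.free_of_flat_of_isLocalRing
  obtain ⟨bs⟩ : Nonempty (Module.Basis (Module.Free.ChooseBasisIndex A B) A B) :=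
    ⟨Module.Free.chooseBasis A B⟩
  have hd : IsUnit (LinearMap.toMatrix bs bs.dualBasis (Algebra.traceForm A B)).det := by
    by_contra hnu
    have hdm : (LinearMap.toMatrix bs bs.dualBasis (Algebra.traceForm A B)).det ∈
        maximalIdeal A := (mem_maximalIdeal _).2 hnu
    obtain ⟨p, hpmin, hple⟩ := Ideal.exists_minimalPrimes_le
      (I := Ideal.span {(LinearMap.toMatrix bs bs.dualBasis (Algebra.traceForm A B)).det})
      (J := maximalIdeal A) (by rw [Ideal.span_singleton_le_iff_mem]; exact hdm)
    haveI hpp : p.IsPrime := hpmin.1.1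
    have hdp : (LinearMap.toMatrix bs bs.dualBasis (Algebra.traceForm A B)).det ∈ p :=
      hpmin.1.2 (Ideal.subset_span rfl)
    have hht : p.height ≤ 1 :=
      Ideal.height_le_one_of_isPrincipal_of_mem_minimalPrimes _ p hpmin
    have hpne : p ≠ maximalIdeal A := by
      intro heq
      have h2 : ((2 : ℕ∞) : WithBot ℕ∞) ≤ ((maximalIdeal A).height : WithBot ℕ∞) := by
        rw [IsLocalRing.maximalIdeal_height_eq_ringKrullDim]; exact_mod_cast hdim
      rw [← heq] at h2
      have h3 : (2 : ℕ∞) ≤ p.height := WithBot.coe_le_coe.1 h2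
      have h4 : (2 : ℕ∞) ≤ 1 := le_trans h3 hht
      exact absurd h4 (by norm_num)
    obtain ⟨a, ham, hap⟩ := SetLike.exists_of_lt (lt_of_le_of_ne hple hpne)
    obtain ⟨N, hN⟩ := killed A B h a ham
    have hu : IsUnit (algebraMap A p.ResidueField a) := by
      rw [isUnit_iff_ne_zero]
      intro h0
      exact hap (Ideal.algebraMap_residueField_eq_zero.1 h0)
    have hsub : Subsingleton (p.ResidueField ⊗[A] Ω[B⁄A]) := by
      have hz : ∀ z : p.ResidueField ⊗[A] Ω[B⁄A], z = 0 := by
        intro z
        induction z using TensorProduct.induction_on with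
        | zero => rfl
        | tmul c ω =>
          obtain ⟨u, hu'⟩ := hu.pow N
          have hc : c = a ^ N • (c * ↑u⁻¹) := by
            rw [Algebra.smul_def, map_pow, ← hu', mul_comm c, ← mul_assoc, Units.mul_inv, one_mul]
          rw [hc, TensorProduct.smul_tmul, hN, TensorProduct.tmul_zero]
        | add z w hz hw => rw [hz, hw, add_zero]
      exact ⟨fun x y => by rw [hz x, hz y]⟩
    haveI : Algebra.FormallyUnramified p.ResidueField (p.ResidueField ⊗[A] B) := by
      letI : Algebra B (p.ResidueField ⊗[A] B) := Algebra.TensorProduct.rightAlgebra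
      exact ⟨(KaehlerDifferential.tensorKaehlerEquivBase A p.ResidueField B
        (p.ResidueField ⊗[A] B)).symm.toEquiv.subsingleton⟩
    obtain ⟨t, ht1, ht2⟩ := Algebra.FormallyUnramified.iff_exists_tensorProduct.mp this
    have hbij := Groth.Agent.S2733.bij_of_elem (bs.baseChange p.ResidueField) t ht1 ht2
    have hunit := LinearEquiv.isUnit_det (LinearEquiv.ofBijective _ hbij)
      (bs.baseChange p.ResidueField) (bs.baseChange p.ResidueField).dualBasis
    have hcoe : ((LinearEquiv.ofBijective _ hbij :
        (p.ResidueField ⊗[A] B) ≃ₗ[p.ResidueField]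
          Module.Dual p.ResidueField (p.ResidueField ⊗[A] B)) :
        (p.ResidueField ⊗[A] B) →ₗ[p.ResidueField]
          Module.Dual p.ResidueField (p.ResidueField ⊗[A] B)) =
        Algebra.traceForm p.ResidueField (p.ResidueField ⊗[A] B) := by
      ext x; rfl
    rw [hcoe, toMatrix_traceForm_baseChange, ← RingHom.map_det,
      Ideal.algebraMap_residueField_eq_zero.2 hdp] at hunit
    exact not_isUnit_zero hunit
  have hbij : Function.Bijective (Algebra.traceForm A B) :=
    (LinearEquiv.ofIsUnitDet hd).bijective
  haveI : Module.FinitePresentation A B := Module.finitePresentation_of_projective A B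
  haveI : Algebra.FormallyUnramified A B := by
    rw [Algebra.FormallyUnramified.iff_exists_tensorProduct]
    exact Groth.Agent.S2733.elem_of_bij bs hbij
  exact Algebra.Etale.of_formallyUnramified_of_flat

end Groth.Agent.S18423
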