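-- Statement S18425.
import Groth.Statements.S18425
import Mathlib
import Groth.Agent.Lib.Helper1.AutFibre

set_option autoImplicit false
universe u
open Pi1

namespace Groth.Agent.S18425

section Aux

open CategoryTheory CategoryTheory.PreGaloisCategory Groth.Agent.Lib.Helper1.AutFibre

variable (G : Type u) [Group G]

instance instMulActionForget (X : Action FintypeCat.{u} G) :
    MulAction G ((Action.forget FintypeCat.{u} G).obj X) :=
  inferInstanceAs (MulAction G X.V)

lemma smul_def' (X : Action FintypeCat.{u} G) (g : G) (x : X.V) :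
    (g • (x : (Action.forget FintypeCat.{u} G).obj X)) = (X.ρ g).hom x := rfl

instance : IsNaturalSMul (Action.forget FintypeCat.{u} G) G where
  naturality g {X Y} f x := by
    change f.hom ((X.ρ g).hom x) = (Y.ρ g).hom (f.hom x)
    have := ConcreteCategory.congr_hom (f.comm g) x
    exact this

/-- The canonical map `G → Aut(forget)`. -/
noncomputable def ι : G →* Aut (Action.forget FintypeCat.{u} G) :=
  toAut (Action.forget FintypeCat.{u} G) G

lemma ι_apply (g : G) (X : Action FintypeCat.{u} G) (x : X.V) :
    (ι G g).hom.app X x = (X.ρ g).hom x := rfl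

/-- Hypothesis `H1` of the abstract density statement: orbits in finite products. -/
lemma H1 (n : ℕ) (X : Fin n → Action FintypeCat.{u} G)
    (x : ∀ j, (Action.forget FintypeCat.{u} G).obj (X j)) :
    ∃ (O : Action FintypeCat.{u} G) (o : (Action.forget FintypeCat.{u} G).obj O)
      (q : ∀ j, O ⟶ X j),
      (∀ j, (Action.forget FintypeCat.{u} G).map (q j) o = x j) ∧
        MulAction.IsPretransitive G ((Action.forget FintypeCat.{u} G).obj O) := by
  classical
  let Z := ∀ j, (X j).V
  let z : Z := fun j => x j
  let Orb : Set Z := MulAction.orbit G z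
  haveI : Fintype Orb := Fintype.ofFinite _
  let O : Action FintypeCat.{u} G := Action.FintypeCat.ofMulAction G (FintypeCat.of Orb)
  let o : Orb := ⟨z, MulAction.mem_orbit_self z⟩
  let q : ∀ j, O ⟶ X j := fun j =>
    ⟨FintypeCat.homMk (fun w : Orb => (w.1 j : (X j).V)), fun g => by
      ext w
      rfl⟩
  refine ⟨O, o, q, fun j => rfl, ⟨fun a b => ?_⟩⟩
  obtain ⟨g, hg⟩ := MulAction.exists_smul_eq (α := Orb) G a b
  exact ⟨g, hg⟩

lemma denseRange_ι : DenseRange (ι G) :=
  denseRange_toAut (Action.forget FintypeCat.{u} G) G (H1 G)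

/-- Homomorphisms to finite groups factor uniquely through `Aut(forget)`. -/
lemma existsUnique_factor_ι (Q : Type u) [Group Q] [Finite Q] [TopologicalSpace Q]
    [DiscreteTopology Q] (π : G →* Q) :
    ∃! ψ : Aut (Action.forget FintypeCat.{u} G) →* Q, Continuous ψ ∧ ψ.comp (ι G) = π := by
  classical
  haveI : Fintype Q := Fintype.ofFinite Q
  letI : MulAction G Q := MulAction.compHom Q π
  let X : Action FintypeCat.{u} G := Action.FintypeCat.ofMulAction G (FintypeCat.of Q)
  let r : Q → (X ⟶ X) := fun q =>
    ⟨FintypeCat.homMk (fun x : Q => x * q), fun g => by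
      ext x
      exact mul_assoc (π g) x q⟩
  exact existsUnique_factor (Action.forget FintypeCat.{u} G) G (denseRange_ι G) π X
    (Equiv.refl Q) (fun g x => rfl) r (fun q x => rfl)

section Quot

variable {G}
variable (N : FiniteIndexNormalSubgroup G)

/-- The finite `G`-set `G/N`. -/
noncomputable def XN : Action FintypeCat.{u} G :=
  haveI : Fintype (G ⧸ N.toSubgroup) := Fintype.ofFinite _
  Action.FintypeCat.ofMulAction G (FintypeCat.of (G ⧸ N.toSubgroup))

/-- The underlying set of `XN` is `G/N`. -/
def eN : (Action.forget FintypeCat.{u} G).obj (XN N) ≃ G ⧸ N.toSubgroup := Equiv.refl _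

lemma eN_smul (g : G) (x : (Action.forget FintypeCat.{u} G).obj (XN N)) :
    eN N (g • x) = QuotientGroup.mk' N.toSubgroup g * eN N x := by
  change g • (eN N x) = (QuotientGroup.mk g : G ⧸ N.toSubgroup) * eN N x
  induction (eN N x) using QuotientGroup.induction_on with
  | H h => rfl

lemma smul_mul_quot (g : G) (x q : G ⧸ N.toSubgroup) : (g • x) * q = g • (x * q) := by
  induction x using QuotientGroup.induction_on with
  | H h =>
    induction q using QuotientGroup.induction_on with
    | H k => exact congrArg _ (mul_assoc g h k)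

/-- Right translations of `G/N`. -/
noncomputable def rN (q : G ⧸ N.toSubgroup) : XN N ⟶ XN N :=
  ⟨FintypeCat.homMk (fun x : G ⧸ N.toSubgroup => x * q), fun g => by
    ext x
    exact smul_mul_quot N g x q⟩

lemma rN_apply (q : G ⧸ N.toSubgroup) (x : (Action.forget FintypeCat.{u} G).obj (XN N)) :
    eN N ((Action.forget FintypeCat.{u} G).map (rN N q) x) = eN N x * q := rfl

/-- The projection `Aut(forget) → G/N`. -/
noncomputable def ψN : Aut (Action.forget FintypeCat.{u} G) →* G ⧸ N.toSubgroup :=
  factor (XN N) (eN N) (rN N) (rN_apply N)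

lemma ψN_ι (g : G) : ψN N (ι G g) = QuotientGroup.mk g := by
  have := factor_comp_toAut G (XN N) (eN N) (rN N) (rN_apply N)
    (QuotientGroup.mk' N.toSubgroup) (eN_smul N)
  exact DFunLike.congr_fun this g

end Quot

section Psi

open ProfiniteGrp.ProfiniteCompletion

variable {G}

/-- The projection `G/N → G/N'` as a map of `G`-sets. -/
noncomputable def pN {N N' : FiniteIndexNormalSubgroup G} (h : N ≤ N') : XN N ⟶ XN N' :=
  ⟨FintypeCat.homMk (fun x : G ⧸ N.toSubgroup =>
      (QuotientGroup.map N.toSubgroup N'.toSubgroup (MonoidHom.id G) h x : G ⧸ N'.toSubgroup)),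
    fun g => by
      ext x
      change QuotientGroup.map N.toSubgroup N'.toSubgroup (MonoidHom.id G) h
        (g • (show G ⧸ N.toSubgroup from x)) =
        g • QuotientGroup.map N.toSubgroup N'.toSubgroup (MonoidHom.id G) h
          (show G ⧸ N.toSubgroup from x)
      induction (show G ⧸ N.toSubgroup from x) using QuotientGroup.induction_on with
      | H k => rfl⟩

lemma ψN_compat {N N' : FiniteIndexNormalSubgroup G} (h : N ≤ N')
    (σ : Aut (Action.forget FintypeCat.{u} G)) :
    QuotientGroup.map N.toSubgroup N'.toSubgroup (MonoidHom.id G) h (ψN N σ) = ψN N' σ := by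
  have := FunctorToFintypeCat.naturality _ _ σ.hom (pN h) ((eN N).symm 1)
  exact this.symm

/-- The comparison map `Aut(forget) → Ĝ`. -/
noncomputable def Ψ : Aut (Action.forget FintypeCat.{u} G) →* completion (GrpCat.of G) where
  toFun σ := ⟨fun N => ψN N σ, fun N N' π => ψN_compat π.le σ⟩
  map_one' := Subtype.ext (funext fun N => map_one (ψN N))
  map_mul' σ τ := Subtype.ext (funext fun N => map_mul (ψN N) σ τ)

lemma Ψ_ι (g : G) : Ψ (ι G g) = etaFn (GrpCat.of G) g :=
  Subtype.ext (funext fun N => ψN_ι N g)

end Psi

section Bij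

open ProfiniteGrp.ProfiniteCompletion

variable {G}

lemma continuous_Ψ : Continuous (Ψ (G := G)) := by
  refine continuous_induced_rng.2 (continuous_pi fun N => ?_)
  exact @continuous_factor _ _ _ _ _ (XN N) (eN N) (rN N) (rN_apply N)
    (inferInstanceAs (TopologicalSpace ((diagram (GrpCat.of G)).obj N)))

lemma surjective_Ψ : Function.Surjective (Ψ (G := G)) := by
  have hclosed : IsClosed (Set.range (Ψ (G := G))) := (isCompact_range continuous_Ψ).isClosed
  have hdense : Dense (Set.range (Ψ (G := G))) :=
    (denseRange (GrpCat.of G)).mono (by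
      rintro _ ⟨g, rfl⟩
      exact ⟨ι G g, Ψ_ι g⟩)
  rw [← Set.range_eq_univ, ← hclosed.closure_eq, hdense.closure_eq]

/-- The orbit map `G/N → X` for `N` the kernel of the action on `X`. -/
lemma exists_orbitMap (X : Action FintypeCat.{u} G) (x : X.V) :
    ∃ (N : FiniteIndexNormalSubgroup G) (f : XN N ⟶ X),
      (Action.forget FintypeCat.{u} G).map f ((eN N).symm 1) = x := by
  classical
  let ρ : G →* Equiv.Perm X.V := MulAction.toPermHom G X.V
  let N : FiniteIndexNormalSubgroup G := ⟨ρ.ker, inferInstance, inferInstance⟩
  have hN : ∀ a b : G, a⁻¹ * b ∈ N.toSubgroup → a • x = b • x := by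
    intro a b hab
    have h1 : ρ (a⁻¹ * b) = 1 := hab
    have h2 : (a⁻¹ * b) • x = x := by
      have := congrArg (fun p : Equiv.Perm X.V => p x) h1
      exact this
    rw [mul_smul] at h2
    calc a • x = a • (a⁻¹ • b • x) := by rw [h2]
      _ = b • x := smul_inv_smul a (b • x)
  let f₀ : G ⧸ N.toSubgroup → X.V := fun q =>
    Quotient.liftOn' q (fun g => g • x) (fun a b hab => hN a b (QuotientGroup.leftRel_apply.mp hab))
  refine ⟨N, ⟨FintypeCat.homMk f₀, fun g => ?_⟩, ?_⟩
  · ext q
    change f₀ (g • (show G ⧸ N.toSubgroup from q)) = g • f₀ (show G ⧸ N.toSubgroup from q)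
    induction (show G ⧸ N.toSubgroup from q) using QuotientGroup.induction_on with
    | H k => exact mul_smul g k x
  · change (1 : G) • x = x
    exact one_smul G x

lemma injective_Ψ : Function.Injective (Ψ (G := G)) := by
  rw [injective_iff_map_eq_one]
  intro σ hσ
  have h1 : ∀ N : FiniteIndexNormalSubgroup G, ψN N σ = 1 := fun N =>
    congrFun (congrArg Subtype.val hσ) N
  apply Iso.ext
  ext X x
  change σ.hom.app X x = x
  obtain ⟨N, f, hf⟩ := exists_orbitMap X x
  have h2 := FunctorToFintypeCat.naturality _ _ σ.hom f ((eN N).symm 1)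
  rw [hf] at h2
  rw [h2]
  have h3 : σ.hom.app (XN N) ((eN N).symm 1) = (eN N).symm 1 := by
    apply (eN N).injective
    rw [Equiv.apply_symm_apply]
    exact h1 N
  rw [h3, hf]

end Bij

end Aux

open CategoryTheory in
/-- In the case of a discrete group G, let F be the forgetful functor from the category of finite G-sets
to finite sets. Then the canonical homomorphism from G to Aut(F), letting g act on every finite
G-set, extends to an isomorphism of topological groups from the profinite completion of G (the limit
of the finite quotients G/U over normal subgroups U of finite index) onto Aut(F) with its profinite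
topology. (The published statement is for an arbitrary topological group G, with finite G-sets
carrying a continuous action and the completion taken over open normal subgroups of finite index;
this row is the case of a discrete group.) -/
theorem result (G : Type u) [Group G] :
    ∃ φ : (ProfiniteGrp.ProfiniteCompletion.completion (GrpCat.of G)) ≃ₜ* Aut (Action.forget FintypeCat.{u} G),
      ∀ (g : G) (X : Action FintypeCat.{u} G) (x : X.V),
        (φ (ProfiniteGrp.ProfiniteCompletion.etaFn (GrpCat.of G) g)).hom.app X x = (X.ρ g).hom x := by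
  classical
  let Ψe : Aut (Action.forget FintypeCat.{u} G) ≃*
      ProfiniteGrp.ProfiniteCompletion.completion (GrpCat.of G) :=
    MulEquiv.ofBijective (Ψ (G := G)) ⟨injective_Ψ, surjective_Ψ⟩
  let Ψh : Aut (Action.forget FintypeCat.{u} G) ≃ₜ*
      ProfiniteGrp.ProfiniteCompletion.completion (GrpCat.of G) :=
    { Ψe with
      continuous_toFun := continuous_Ψ
      continuous_invFun :=
        Continuous.continuous_symm_of_equiv_compact_to_t2 (f := Ψe.toEquiv) continuous_Ψ }
  refine ⟨Ψh.symm, fun g X x => ?_⟩
  have h : Ψh.symm (ProfiniteGrp.ProfiniteCompletion.etaFn (GrpCat.of G) g) = ι G g := by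
    rw [ContinuousMulEquiv.symm_apply_eq]
    exact (Ψ_ι g).symm
  rw [h]
  rfl

end Groth.Agent.S18425
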