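import Groth.Statements.S18426
import Groth.Agent.Lib.Helper12.NormChar
-- import your own Groth.Agent.* helpers here

set_option autoImplicit false
universe u
open Pi1

namespace Groth.Agent.S18426

open Groth.Agent.Lib.Helper12

open AlgebraicGeometry CategoryTheory CategoryTheory.Limits in
/-- Suppose X is an integral scheme that is Noetherian and normal, write K for its function field, and
take L to be a finite separable extension of K. Then the normalization of X in L, namely the
relative normalization of the morphism Spec L → Spec K → X, is finite over X. (That this
normalization is a normal integral scheme with function field L is not restated.) -/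
theorem result {X : Scheme.{u}} [IsIntegral X] [IsNoetherian X]
    (hX : Pi1.IsNormalScheme X) (L : Type u) [Field L] [Algebra X.functionField L] [FiniteDimensional X.functionField L]
    [Algebra.IsSeparable X.functionField L]
    [QuasiCompact (Spec.map (CommRingCat.ofHom (algebraMap X.functionField L)) ≫ X.fromSpecStalk (genericPoint X))]
    [QuasiSeparated (Spec.map (CommRingCat.ofHom (algebraMap X.functionField L)) ≫ X.fromSpecStalk (genericPoint X))] :
    IsFinite (Spec.map (CommRingCat.ofHom (algebraMap X.functionField L)) ≫ X.fromSpecStalk (genericPoint X)).fromNormalization := by
  show IsFinite (NormGen.gmor X (algebraMap X.functionField L)).fromNormalization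
  refine { toIsAffineHom := inferInstance, finite_app := fun U hU => ?_ }
  by_cases hne : (U : Set X).Nonempty
  · haveI : Nonempty U := ⟨⟨_, hne.some_mem⟩⟩
    letI algL := ((algebraMap X.functionField L).comp (X.presheaf.germ U (genericPoint X)
      (NormAff.genericPoint_mem X hne)).hom).toAlgebra
    obtain ⟨E, hE⟩ := NormGen.affine_model' X (algebraMap X.functionField L) hU hne
    haveI : IsScalarTower Γ(X, U) X.functionField L :=
      IsScalarTower.of_algebraMap_eq (fun a => rfl)
    haveI := functionField_isFractionRing_of_isAffineOpen X U hU
    haveI : IsIntegrallyClosed Γ(X, U) :=
      NormChar.isIntegrallyClosed_sections (fun y _ => (hX y).2) hU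
    haveI : IsNoetherianRing Γ(X, U) := IsLocallyNoetherian.component_noetherian ⟨U, hU⟩
    haveI : Module.Finite Γ(X, U) (integralClosure Γ(X, U) L) :=
      IsIntegralClosure.finite Γ(X, U) X.functionField L (integralClosure Γ(X, U) L)
    exact NormGen.finite_of_ringEquiv _ E hE
  · exact NormGen.app_finite_of_empty _ hne

end Groth.Agent.S18426
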