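-- Statement S18428.
import Groth.Statements.S18428
import Mathlib
import Groth.Agent.Lib.Helper1.AutFibre

set_option autoImplicit false
universe u
open scoped FintypeCatDiscrete
open Pi1

namespace Groth.Agent.S18428

section Aux

open CategoryTheory CategoryTheory.PreGaloisCategory Groth.Agent.Lib.Helper1.AutFibre

variable (G : Type u) [Group G] [TopologicalSpace G] [IsTopologicalGroup G]

/-- The forgetful functor. -/
abbrev Fc : ContAction FintypeCat.{u} G ⥤ FintypeCat.{u} :=
  forget₂ (ContAction FintypeCat.{u} G) FintypeCat.{u}

instance instMulActionFc (X : ContAction FintypeCat.{u} G) : MulAction G ((Fc G).obj X) :=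
  inferInstanceAs (MulAction G X.obj.V)

lemma smul_def' (X : ContAction FintypeCat.{u} G) (g : G) (x : X.obj.V) :
    (g • (x : (Fc G).obj X)) = (X.obj.ρ g).hom x := rfl

instance : IsNaturalSMul (Fc G) G where
  naturality g {X Y} f x := by
    change f.hom.hom ((X.obj.ρ g).hom x) = (Y.obj.ρ g).hom (f.hom.hom x)
    have := ConcreteCategory.congr_hom (f.hom.comm g) x
    exact this

/-- The canonical map `G → Aut(forget)`. -/
noncomputable def ι : G →* Aut (Fc G) := toAut (Fc G) G

lemma ι_apply (g : G) (X : ContAction FintypeCat.{u} G) (x : X.obj.V) :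
    (ι G g).hom.app X x = (X.obj.ρ g).hom x := rfl

/-- Orbit maps of continuous finite `G`-sets are locally constant. -/
lemma isOpen_smul_eq (X : ContAction FintypeCat.{u} G) (x y : X.obj.V) :
    IsOpen {g : G | (X.obj.ρ g).hom x = y} := by
  have hX : ContinuousSMul G ((forget₂ (Action FintypeCat.{u} G) TopCat).obj X.obj) := X.property
  have h1 : Continuous fun g : G =>
      g • (show (forget₂ (Action FintypeCat.{u} G) TopCat).obj X.obj from x) :=
    continuous_id.smul continuous_const
  haveI : DiscreteTopology ((forget₂ (Action FintypeCat.{u} G) TopCat).obj X.obj) := ⟨rfl⟩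
  exact h1.isOpen_preimage _ (isOpen_discrete {y})

lemma continuous_smul_point (X : ContAction FintypeCat.{u} G) (x : (Fc G).obj X) :
    Continuous fun g : G => g • x := by
  rw [continuous_discrete_rng]
  intro y
  exact isOpen_smul_eq G X x y

lemma continuous_ι : Continuous (ι G) :=
  continuous_toAut (Fc G) G (continuous_smul_point G)

/-- A finite `G`-set whose point stabilizers are open, as an object of `ContAction`. -/
noncomputable def mkObj (T : Type u) [Fintype T] [MulAction G T]
    (h : ∀ t : T, IsOpen (MulAction.stabilizer G t : Set G)) : ContAction FintypeCat.{u} G :=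
  ⟨Action.FintypeCat.ofMulAction G (FintypeCat.of T), by
    change ContinuousSMul G ((forget₂ (Action FintypeCat.{u} G) TopCat).obj
      (Action.FintypeCat.ofMulAction G (FintypeCat.of T)))
    haveI : DiscreteTopology ((forget₂ (Action FintypeCat.{u} G) TopCat).obj
      (Action.FintypeCat.ofMulAction G (FintypeCat.of T))) := ⟨rfl⟩
    rw [continuousSMul_iff_stabilizer_isOpen]
    intro t
    exact h t⟩

lemma mkObj_smul (T : Type u) [Fintype T] [MulAction G T]
    (h : ∀ t : T, IsOpen (MulAction.stabilizer G t : Set G)) (g : G) (t : T) :
    (g • (show (Fc G).obj (mkObj G T h) from t)) = (show (Fc G).obj (mkObj G T h) from g • t) := rfl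

/-- Equivariant maps give morphisms. -/
noncomputable def mkHom {T T' : Type u} [Fintype T] [MulAction G T] [Fintype T'] [MulAction G T']
    (h : ∀ t : T, IsOpen (MulAction.stabilizer G t : Set G))
    (h' : ∀ t : T', IsOpen (MulAction.stabilizer G t : Set G))
    (f : T → T') (hf : ∀ (g : G) (t : T), f (g • t) = g • f t) : mkObj G T h ⟶ mkObj G T' h' :=
  ObjectProperty.homMk ⟨FintypeCat.homMk f, fun g => by
    ext t
    exact hf g t⟩

lemma mkHom_apply {T T' : Type u} [Fintype T] [MulAction G T] [Fintype T'] [MulAction G T']
    (h : ∀ t : T, IsOpen (MulAction.stabilizer G t : Set G))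
    (h' : ∀ t : T', IsOpen (MulAction.stabilizer G t : Set G))
    (f : T → T') (hf : ∀ (g : G) (t : T), f (g • t) = g • f t) (t : T) :
    (Fc G).map (mkHom G h h' f hf) t = f t := rfl

/-- Hypothesis `H1` of the abstract density statement: orbits in finite products. -/
lemma H1 (n : ℕ) (X : Fin n → ContAction FintypeCat.{u} G) (x : ∀ j, (Fc G).obj (X j)) :
    ∃ (O : ContAction FintypeCat.{u} G) (o : (Fc G).obj O) (q : ∀ j, O ⟶ X j),
      (∀ j, (Fc G).map (q j) o = x j) ∧ MulAction.IsPretransitive G ((Fc G).obj O) := by
  classical
  let Z := ∀ j, (X j).obj.V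
  let z : Z := fun j => x j
  let Orb : Set Z := MulAction.orbit G z
  haveI : Fintype Orb := Fintype.ofFinite _
  have hstab : ∀ w : Orb, IsOpen (MulAction.stabilizer G w : Set G) := by
    intro w
    have : (MulAction.stabilizer G w : Set G) =
        ⋂ j, {g : G | ((X j).obj.ρ g).hom (w.1 j) = w.1 j} := by
      ext g
      simp only [SetLike.mem_coe, MulAction.mem_stabilizer_iff, Set.mem_iInter, Set.mem_setOf_eq]
      constructor
      · intro hg j
        have := congrFun (congrArg Subtype.val hg) j
        exact this
      · intro hg
        apply Subtype.ext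
        funext j
        exact hg j
    rw [this]
    exact isOpen_iInter_of_finite fun j => isOpen_smul_eq G (X j) _ _
  let O : ContAction FintypeCat.{u} G := mkObj G Orb hstab
  let o : Orb := ⟨z, MulAction.mem_orbit_self z⟩
  let q : ∀ j, O ⟶ X j := fun j =>
    ObjectProperty.homMk ⟨FintypeCat.homMk (fun w : Orb => (w.1 j : (X j).obj.V)), fun g => by
      ext w
      rfl⟩
  refine ⟨O, o, q, fun j => rfl, ⟨fun a b => ?_⟩⟩
  obtain ⟨g, hg⟩ := MulAction.exists_smul_eq (α := Orb) G a b
  exact ⟨g, hg⟩

lemma denseRange_ι : DenseRange (ι G) :=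
  denseRange_toAut (Fc G) G (H1 G)

/-- Continuous homomorphisms to finite discrete groups factor uniquely through `Aut(forget)`. -/
lemma existsUnique_factor_ι (Q : Type u) [Group Q] [Finite Q] [TopologicalSpace Q]
    [DiscreteTopology Q] (π : G →* Q) (hπ : Continuous π) :
    ∃! ψ : Aut (Fc G) →* Q, Continuous ψ ∧ ψ.comp (ι G) = π := by
  classical
  haveI : Fintype Q := Fintype.ofFinite Q
  letI : MulAction G Q := MulAction.compHom Q π
  have hstab : ∀ t : Q, IsOpen (MulAction.stabilizer G t : Set G) := by
    intro t
    have : (MulAction.stabilizer G t : Set G) = π ⁻¹' {1} := by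
      ext g
      simp only [SetLike.mem_coe, MulAction.mem_stabilizer_iff, Set.mem_preimage,
        Set.mem_singleton_iff]
      change π g * t = t ↔ π g = 1
      exact mul_eq_right
    rw [this]
    exact hπ.isOpen_preimage _ (isOpen_discrete _)
  let X : ContAction FintypeCat.{u} G := mkObj G Q hstab
  let r : Q → (X ⟶ X) := fun q =>
    mkHom G hstab hstab (fun x : Q => x * q) (fun g x => mul_assoc (π g) x q)
  exact existsUnique_factor (Fc G) G (denseRange_ι G) π X
    (Equiv.refl Q) (fun g x => rfl) r (fun q x => rfl)

end Aux

open CategoryTheory in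
/-- Let G be a topological group, consider the category of finite sets (with the discrete topology)
equipped with a continuous action of G, and let F be the forgetful functor to finite sets, so that
Aut(F) is a profinite group. Then the homomorphism ι : G → Aut(F) letting g act on every finite
continuous G-set exists and is continuous, has dense image, and every continuous homomorphism from G
to a finite discrete group factors uniquely through ι by a continuous homomorphism on Aut(F). As
Aut(F) is profinite, these properties say that ι induces an isomorphism of topological groups from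
the profinite completion of G (the limit of the quotients G/U by open normal subgroups of finite
index) onto Aut(F). -/
theorem result (G : Type u) [Group G]
    [TopologicalSpace G] [IsTopologicalGroup G] :
    ∃ ι : G →* Aut (forget₂ (ContAction FintypeCat.{u} G) FintypeCat.{u}),
      Continuous ι ∧
      (∀ (g : G) (X : ContAction FintypeCat.{u} G) (x : X.obj.V), (ι g).hom.app X x = (X.obj.ρ g).hom x) ∧
      DenseRange ι ∧
      ∀ (Q : Type u) [Group Q] [Finite Q] [TopologicalSpace Q] [DiscreteTopology Q] (π : G →* Q),
        Continuous π → ∃! ψ : Aut (forget₂ (ContAction FintypeCat.{u} G) FintypeCat.{u}) →* Q,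
          Continuous ψ ∧ ψ.comp ι = π := by
  refine ⟨ι G, continuous_ι G, fun g X x => rfl, denseRange_ι G, ?_⟩
  intro Q _ _ _ _ π hπ
  exact existsUnique_factor_ι G Q π hπ

end Groth.Agent.S18428
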