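import Groth.Statements.S18429
import Mathlib

set_option autoImplicit false
universe u
open SpinCurv

namespace Groth.Agent.S18429

/-- Let n ≥ 1 and r ≥ 2 be integers and let e_0, …, e_{nr} be integers with e_0 = e_{nr} = 0 (the
coefficients of a chain of nr - 1 exceptional curves joining two non-exceptional components with
coefficient zero) such that at every interior index 1 ≤ j ≤ nr - 1 the second difference e_{j-1} - 2
e_j + e_{j+1} (the degree of the divisor Σ e_i E_i on the j-th curve of the chain) is divisible by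
r. Then there are integers e'_0, …, e'_{nr}, with e'_j ≡ e_j modulo r for every interior j, with
e'_0 = e'_{nr} = 0 and every e'_j ≤ 0, whose second differences at the interior indices are each 0
or r, and are nonzero at no two distinct interior indices. -/
theorem result (n r : ℕ) (hn : 1 ≤ n) (hr : 2 ≤ r)
    (e : ℕ → ℤ) (he0 : e 0 = 0) (henr : e (n * r) = 0)
    (hdiv : ∀ j : ℕ, 1 ≤ j → j < n * r → (r : ℤ) ∣ e (j - 1) - 2 * e j + e (j + 1)) :
    ∃ e' : ℕ → ℤ, e' 0 = 0 ∧ e' (n * r) = 0 ∧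
      (∀ j : ℕ, 1 ≤ j → j < n * r → (r : ℤ) ∣ e' j - e j) ∧
      (∀ j : ℕ, j ≤ n * r → e' j ≤ 0) ∧
      (∀ j : ℕ, 1 ≤ j → j < n * r →
        (e' (j - 1) - 2 * e' j + e' (j + 1) = 0 ∨ e' (j - 1) - 2 * e' j + e' (j + 1) = r)) ∧
      (∀ j j' : ℕ, 1 ≤ j → j < n * r → 1 ≤ j' → j' < n * r →
        e' (j - 1) - 2 * e' j + e' (j + 1) ≠ 0 → e' (j' - 1) - 2 * e' j' + e' (j' + 1) ≠ 0 → j = j') := by
  have hrpos : (0 : ℤ) < r := by exact_mod_cast (by omega : 0 < r)
  -- first differences are all congruent mod r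
  have hd : ∀ j : ℕ, 1 ≤ j → j ≤ n * r → (r : ℤ) ∣ (e j - e (j - 1)) - (e 1 - e 0) := by
    intro j hj1
    induction j, hj1 using Nat.le_induction with
    | base => intro _; simp
    | succ j hj ih =>
      intro hjn
      have h1 := ih (by omega)
      have h2 := hdiv j hj (by omega)
      have : (e (j + 1) - e (j + 1 - 1)) - (e 1 - e 0) =
          ((e j - e (j - 1)) - (e 1 - e 0)) + (e (j - 1) - 2 * e j + e (j + 1)) := by
        rw [Nat.add_sub_cancel]; ring
      rw [this]
      exact dvd_add h1 h2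
  have hsum : ∀ m : ℕ, m ≤ n * r → (r : ℤ) ∣ e m - (m : ℤ) * e 1 := by
    intro m
    induction m with
    | zero => intro _; simp [he0]
    | succ m ih =>
      intro hm
      have h1 := ih (by omega)
      have h2 := hd (m + 1) (by omega) hm
      rw [Nat.add_sub_cancel, he0, sub_zero] at h2
      have : e (m + 1) - ((m + 1 : ℕ) : ℤ) * e 1 =
          (e m - (m : ℤ) * e 1) + ((e (m + 1) - e m) - e 1) := by
        push_cast; ring
      rw [this]
      exact dvd_add h1 h2
  set a : ℤ := (-(e 1)) % (r : ℤ) with ha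
  have ha0 : 0 ≤ a := Int.emod_nonneg _ hrpos.ne'
  have har : a < r := Int.emod_lt_of_pos _ hrpos
  have hae : (r : ℤ) ∣ a + e 1 := by
    have h := Int.emod_add_mul_ediv (-(e 1)) (r : ℤ)
    rw [← ha] at h
    exact ⟨-(-(e 1) / (r : ℤ)), by linarith⟩
  set m' : ℤ := (n : ℤ) * ((r : ℤ) - a) with hm'
  have hm'0 : 0 ≤ m' := mul_nonneg (by positivity) (by linarith)
  set M : ℕ → ℤ := fun j => max 0 ((j : ℤ) - m') with hM
  refine ⟨fun j => -a * (j : ℤ) + (r : ℤ) * M j, ?_, ?_, ?_, ?_, ?_, ?_⟩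
  · -- e' 0 = 0
    simp only [hM]
    have : max 0 (((0 : ℕ) : ℤ) - m') = 0 := by
      apply max_eq_left; push_cast; linarith
    rw [this]; simp
  · -- e' (n r) = 0
    simp only [hM]
    have : max 0 (((n * r : ℕ) : ℤ) - m') = (n : ℤ) * a := by
      rw [max_eq_right]
      · rw [hm']; push_cast; ring
      · rw [hm']; push_cast
        have : 0 ≤ (n : ℤ) * a := mul_nonneg (by positivity) ha0
        linarith
    rw [this]; push_cast; ring
  · -- congruence
    intro j hj1 hjn
    have h1 := hsum j (by omega)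
    have : -a * (j : ℤ) + (r : ℤ) * M j - e j =
        (r : ℤ) * M j - (a + e 1) * (j : ℤ) - (e j - (j : ℤ) * e 1) := by ring
    rw [this]
    exact dvd_sub (dvd_sub (Dvd.intro _ rfl) (Dvd.dvd.mul_right hae _)) h1
  · -- nonpositivity
    intro j hj
    simp only [hM]
    rcases le_or_gt ((j : ℤ) - m') 0 with h | h
    · rw [max_eq_left h]
      have : 0 ≤ a * (j : ℤ) := mul_nonneg ha0 (by positivity)
      linarith
    · rw [max_eq_right h.le]
      have hj' : (j : ℤ) ≤ (n : ℤ) * r := by exact_mod_cast hj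
      have : -a * (j : ℤ) + (r : ℤ) * ((j : ℤ) - m') = ((r : ℤ) - a) * ((j : ℤ) - (n : ℤ) * r) := by
        rw [hm']; ring
      rw [this]
      exact mul_nonpos_of_nonneg_of_nonpos (by linarith) (by linarith)
  · -- second differences are 0 or r
    intro j hj1 hjn
    have hsd : (-a * ((j - 1 : ℕ) : ℤ) + (r : ℤ) * M (j - 1)) -
        2 * (-a * (j : ℤ) + (r : ℤ) * M j) + (-a * ((j + 1 : ℕ) : ℤ) + (r : ℤ) * M (j + 1)) =
        (r : ℤ) * (M (j - 1) - 2 * M j + M (j + 1)) := by
      rw [Nat.cast_sub hj1]; push_cast; ring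
    rw [hsd]
    have hcases : M (j - 1) - 2 * M j + M (j + 1) = 0 ∨ M (j - 1) - 2 * M j + M (j + 1) = 1 := by
      simp only [hM]
      rw [Nat.cast_sub hj1]
      push_cast
      omega
    rcases hcases with h | h
    · left; rw [h, mul_zero]
    · right; rw [h, mul_one]
  · -- at most one nonzero
    intro j j' hj1 hjn hj'1 hj'n h1 h2
    have hsd : ∀ i : ℕ, 1 ≤ i → (-a * ((i - 1 : ℕ) : ℤ) + (r : ℤ) * M (i - 1)) -
        2 * (-a * (i : ℤ) + (r : ℤ) * M i) + (-a * ((i + 1 : ℕ) : ℤ) + (r : ℤ) * M (i + 1)) =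
        (r : ℤ) * (M (i - 1) - 2 * M i + M (i + 1)) := by
      intro i hi
      rw [Nat.cast_sub hi]; push_cast; ring
    rw [hsd j hj1] at h1
    rw [hsd j' hj'1] at h2
    have k1 : M (j - 1) - 2 * M j + M (j + 1) ≠ 0 := fun h => h1 (by rw [h, mul_zero])
    have k2 : M (j' - 1) - 2 * M j' + M (j' + 1) ≠ 0 := fun h => h2 (by rw [h, mul_zero])
    simp only [hM] at k1 k2
    rw [Nat.cast_sub hj1] at k1
    rw [Nat.cast_sub hj'1] at k2
    push_cast at k1 k2
    have e1 : (j : ℤ) = m' := by omega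
    have e2 : (j' : ℤ) = m' := by omega
    have : (j : ℤ) = j' := by rw [e1, e2]
    exact_mod_cast this

end Groth.Agent.S18429
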