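import Groth.Statements.S18431
import Mathlib

set_option autoImplicit false
universe u
open SpinCurv

namespace Groth.Agent.S18431

/-- Let R be a Noetherian local ring in which the natural number r is invertible and let ξ, ζ ∈ R
satisfy ξ^r = 1 and ζ^r = 1. Then either ξ = ζ, or ξ - ζ is a unit of R. (Consequently an element of
R annihilated by ξ - ζ is zero unless ξ = ζ. In the published setting R is moreover complete; the
step does not use completeness.) -/
theorem result (R : Type u) [CommRing R] [IsNoetherianRing R] [IsLocalRing R]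
    (r : ℕ) (hr : IsUnit (r : R)) (ξ ζ : R) (hξ : ξ ^ r = 1) (hζ : ζ ^ r = 1) :
    ξ = ζ ∨ IsUnit (ξ - ζ) := by
  by_cases hu : IsUnit (ξ - ζ)
  · exact Or.inr hu
  left
  have hr0 : r ≠ 0 := by
    rintro rfl
    simp at hr
  have hm : ξ - ζ ∈ IsLocalRing.maximalIdeal R := hu
  -- ξ^r - ζ^r = (ξ - ζ) * Σ ξ^i ζ^(r-1-i)
  have hfac := Commute.mul_geom_sum₂ (Commute.all ξ ζ) r
  rw [hξ, hζ, sub_self] at hfac
  -- the sum is congruent to r * ζ^(r-1) modulo the maximal ideal
  have hsum : (∑ i ∈ Finset.range r, ξ ^ i * ζ ^ (r - 1 - i)) - (r : R) * ζ ^ (r - 1) ∈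
      IsLocalRing.maximalIdeal R := by
    have h1 : (r : R) * ζ ^ (r - 1) = ∑ i ∈ Finset.range r, ζ ^ i * ζ ^ (r - 1 - i) := by
      have : ∀ i ∈ Finset.range r, ζ ^ i * ζ ^ (r - 1 - i) = ζ ^ (r - 1) := by
        intro i hi
        rw [Finset.mem_range] at hi
        rw [← pow_add]; congr 1; omega
      rw [Finset.sum_congr rfl this]
      simp
    rw [h1, ← Finset.sum_sub_distrib]
    refine Ideal.sum_mem _ fun i _ => ?_
    rw [← sub_mul]
    apply Ideal.mul_mem_right
    have := sub_dvd_pow_sub_pow ξ ζ i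
    obtain ⟨c, hc⟩ := this
    rw [hc]
    exact Ideal.mul_mem_right _ _ hm
  have hζu : IsUnit ζ := by
    apply IsUnit.of_pow_eq_one hζ hr0
  have hunit : IsUnit ((r : R) * ζ ^ (r - 1)) := hr.mul (hζu.pow _)
  have hsumu : IsUnit (∑ i ∈ Finset.range r, ξ ^ i * ζ ^ (r - 1 - i)) := by
    by_contra hnu
    have h2 : (∑ i ∈ Finset.range r, ξ ^ i * ζ ^ (r - 1 - i)) ∈ IsLocalRing.maximalIdeal R := hnu
    have h3 : (r : R) * ζ ^ (r - 1) ∈ IsLocalRing.maximalIdeal R := by
      have := Ideal.sub_mem _ h2 hsum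
      simpa using this
    exact h3 hunit
  have := (hsumu.mul_left_eq_zero).mp hfac
  exact sub_eq_zero.mp this

end Groth.Agent.S18431
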