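import Mathlib
import Groth.Statements.S18445
import Groth.Agent.Lib.Helper19.T1Core
import Groth.Agent.Lib.Helper21.CohenStruct

set_option autoImplicit false
universe u
open CategoryTheory
open Deform

namespace Groth.Agent.S18445


/-- Let k be a field of characteristic zero and R a complete local Noetherian k-algebra with residue
field k, with n the dimension of its cotangent space m_R/m_R². Then R is isomorphic as a k-algebra
to the power series ring k[[x_1, …, x_n]] if and only if for every local Artinian k-algebra A with
residue field k, all A-modules M and M' and every surjective A-linear map f : M' → M, every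
k-algebra homomorphism R → A ⊕ M into the trivial square-zero extension is the composite of some
k-algebra homomorphism R → A ⊕ M' with the map A ⊕ M' → A ⊕ M induced by f. (The modules are taken
in the universe of k, with the A-action on both sides equal; in positive characteristic the
criterion fails, e.g. for k[x]/(x^p).) -/
theorem result
    {k : Type u} [Field k] [CharZero k] (R : ArtFun.CRing k k) :
    Nonempty (R.carrier ≃ₐ[k] MvPowerSeries
        (Fin (Module.finrank (IsLocalRing.ResidueField R.carrier) (IsLocalRing.CotangentSpace R.carrier))) k) ↔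
      ∀ (A : ArtFun.Art k k) (M M' : Type u) [AddCommGroup M] [Module (↥A) M] [Module (↥A)ᵐᵒᵖ M]
        [IsCentralScalar (↥A) M] [Module k M] [IsScalarTower k (↥A) M] [IsScalarTower k (↥A)ᵐᵒᵖ M]
        [AddCommGroup M'] [Module (↥A) M'] [Module (↥A)ᵐᵒᵖ M'] [IsCentralScalar (↥A) M'] [Module k M']
        [IsScalarTower k (↥A) M'] [IsScalarTower k (↥A)ᵐᵒᵖ M'] (f : M' →ₗ[↥A] M),
        Function.Surjective f →
          ∀ φ : R.carrier →ₐ[k] TrivSqZeroExt (↥A) M,
            ∃ ψ : R.carrier →ₐ[k] TrivSqZeroExt (↥A) M',
              ∀ r : R.carrier, (ψ r).fst = (φ r).fst ∧ f (ψ r).snd = (φ r).snd := by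
  constructor
  · rintro ⟨e⟩
    intro A M M' _ _ _ _ _ _ _ _ _ _ _ _ _ _ f hf φ
    exact Groth.Agent.Lib.Helper19.T1Core.lift_of_equiv R e A M M' f hf φ
  · intro H
    haveI := R.isAdicComplete
    have hK : Function.Surjective ((IsLocalRing.residue R.carrier).comp
        (algebraMap k R.carrier)) := by
      intro y
      obtain ⟨x, rfl⟩ := IsLocalRing.residue_surjective y
      refine ⟨R.res x, ?_⟩
      show IsLocalRing.residue R.carrier (algebraMap k R.carrier (R.res x)) =
        IsLocalRing.residue R.carrier x
      rw [← sub_eq_zero, ← map_sub, IsLocalRing.residue_eq_zero_iff,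
        ArtFun.CRing.mem_maximalIdeal_iff, map_sub, AlgHom.commutes]
      exact sub_self _
    obtain ⟨ψ, hψ, hker⟩ :=
      Groth.Agent.Lib.Helper21.CohenStruct.exists_surjective k R.carrier hK
    have hinj := Groth.Agent.Lib.Helper19.T1Core.injective_of_T1 R ψ hψ hker (by
      intro E J φ
      obtain ⟨ψ', hψ'⟩ := H E (E ⧸ J) E (Submodule.mkQ J) (Submodule.mkQ_surjective J) φ
      exact ⟨ψ', fun r => ⟨(hψ' r).1, (hψ' r).2⟩⟩)
    exact ⟨(AlgEquiv.ofBijective ψ ⟨hinj, hψ⟩).symm⟩

end Groth.Agent.S18445
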