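import Groth.Statements.S18457
import Mathlib
import Groth.Agent.Lib.Helper24.DPWeyl

set_option autoImplicit false
open Finset
open Surf

namespace Groth.Agent.S18457

open Groth.Agent.Lib.Helper24.DPLattice Groth.Agent.Lib.Helper24.DPWeyl

/-- the acceptable sorted solutions. -/
def good (d : ℤ) (l : List ℤ) : Prop :=
  (∃ x ∈ l, x < 0) ∨ (d = 1 ∧ ∀ x ∈ l, x = 0 ∨ x = 1) ∨ (d = 2 ∧ ∀ x ∈ l, x = 0 ∨ x = 1) ∨
    (d = 3 ∧ l.length = 8 ∧ l.head? = some 2 ∧ ∀ x ∈ l.tail, x = 1)

instance (d : ℤ) (l : List ℤ) : Decidable (good d l) := by unfold good; infer_instance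

set_option maxRecDepth 100000 in
lemma check : ∀ n ∈ List.range 9, ∀ d ∈ ([0,1,2,3,4] : List ℤ),
    ∀ l ∈ solsS n (3 * d) (d * d + 2) 11, good d l := by decide +kernel

/-- In the Picard lattice of the plane blown up at n ≤ 8 points, with basis h, e_1, …, e_n, form h² = 1,
e_i² = −1, all other products 0, and anticanonical class D = 3h − Σ e_i, let d·h − Σ a_i e_i be a
class with all a_i ≥ 0 (the class of the strict transform of a degree-d plane curve having
multiplicity a_i at the i-th point) which is a (−2)-class orthogonal to D, that is d² − Σ a_i² = −2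
and 3d = Σ a_i. Then one of the following holds: d = 1 and every a_i is 0 or 1 with exactly three
equal to 1; d = 2 and every a_i is 0 or 1 with exactly six equal to 1; d = 3, n = 8, and one a_i
equals 2 while the remaining seven equal 1. The published statement is geometric: under the
general-position hypotheses on the points, no smooth rational curve on the blown-up plane is
orthogonal to D; this row is the lattice enumeration its proof carries out (a line through three of
the points, a conic through six, a cubic through all eight and singular at one). -/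
theorem result (n : ℕ) (hn : n ≤ 8)
    (d : ℤ) (a : Fin n → ℤ) (ha : ∀ i, 0 ≤ a i)
    (hsq : d ^ 2 - ∑ i, (a i) ^ 2 = -2) (hK : 3 * d = ∑ i, a i) :
    (d = 1 ∧ (∀ i, a i = 0 ∨ a i = 1) ∧ (Finset.univ.filter (fun i => a i = 1)).card = 3) ∨
      (d = 2 ∧ (∀ i, a i = 0 ∨ a i = 1) ∧ (Finset.univ.filter (fun i => a i = 1)).card = 6) ∨
      (d = 3 ∧ n = 8 ∧ ∃ j, a j = 2 ∧ ∀ i, i ≠ j → a i = 1) := by
  classical
  have hsq' : ∑ i, a i * a i = d * d + 2 := by
    have : ∑ i, (a i) ^ 2 = ∑ i, a i * a i := Finset.sum_congr rfl fun i _ => by ring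
    rw [this] at hsq
    nlinarith
  have hcs := cs a
  rw [← hK, hsq'] at hcs
  have hn' : (n : ℤ) ≤ 8 := by exact_mod_cast hn
  have hd0 : 0 ≤ d := by
    have : 0 ≤ ∑ i, a i := Finset.sum_nonneg fun i _ => ha i
    linarith
  have hd4 : d ≤ 4 := by
    by_contra hlt
    push Not at hlt
    nlinarith
  have hdmem : d ∈ ([0,1,2,3,4] : List ℤ) := by
    interval_cases d <;> simp
  obtain ⟨τ, hτ⟩ := sorted_mem_solsS a (3 * d) (d * d + 2) (by nlinarith) hK.symm hsq'
  have hg := check n (List.mem_range.mpr (by omega)) d hdmem _ hτ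
  have hmemτ : ∀ i, a i ∈ List.ofFn (fun i => a (τ i)) := by
    intro i
    rw [List.mem_ofFn]
    exact ⟨τ.symm i, by simp⟩
  have hcard : (∀ i, a i = 0 ∨ a i = 1) →
      ((Finset.univ.filter (fun i => a i = 1)).card : ℤ) = 3 * d := by
    intro h01
    rw [hK, Finset.card_filter]
    push_cast
    refine Finset.sum_congr rfl fun i _ => ?_
    rcases h01 i with h | h <;> simp [h]
  rcases hg with ⟨x, hx, hneg⟩ | ⟨hd, h01⟩ | ⟨hd, h01⟩ | ⟨hd, hlen, hhead, htail⟩
  · rw [List.mem_ofFn] at hx
    obtain ⟨i, rfl⟩ := hx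
    exact absurd (ha (τ i)) (not_le.mpr hneg)
  · have h01' : ∀ i, a i = 0 ∨ a i = 1 := fun i => h01 _ (hmemτ i)
    refine Or.inl ⟨hd, h01', ?_⟩
    have := hcard h01'
    rw [hd] at this
    exact_mod_cast this
  · have h01' : ∀ i, a i = 0 ∨ a i = 1 := fun i => h01 _ (hmemτ i)
    refine Or.inr (Or.inl ⟨hd, h01', ?_⟩)
    have := hcard h01'
    rw [hd] at this
    exact_mod_cast this
  · rw [List.length_ofFn] at hlen
    subst hlen
    refine Or.inr (Or.inr ⟨hd, rfl, τ 0, ?_, ?_⟩)
    · rw [List.ofFn_succ] at hhead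
      simpa using hhead
    · intro i hi
      rw [List.ofFn_succ, List.tail_cons] at htail
      obtain ⟨k, rfl⟩ : ∃ k, τ k = i := ⟨τ.symm i, by simp⟩
      have hk : k ≠ 0 := fun h => hi (by rw [h])
      obtain ⟨k', rfl⟩ := Fin.exists_succ_eq.mpr hk
      exact htail _ (List.mem_ofFn.mpr ⟨k', rfl⟩)

end Groth.Agent.S18457
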