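import Groth.Statements.S18465
import Mathlib

set_option autoImplicit false
universe u v w x
open WildLef

namespace Groth.Agent.S18465

/-- Let f : G₁ → G₂ be a homomorphism of groups, ρ : G₂ → Γ a homomorphism with finite image G, and A a
nontrivial commutative ring. Let G₂ act on the group algebra A[G] through ρ followed by the left
regular representation, and G₁ through f. If the elements of A[G] fixed by G₁ coincide with those
fixed by G₂, then ρ ∘ f and ρ have the same image. (The published statement has Γ a general linear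
group GL_r(A); over the zero ring that group is trivial, so requiring A nontrivial and allowing any
target group loses nothing.) -/
theorem result
    {G₁ : Type u} {G₂ : Type v} {Γ : Type w} [Group G₁] [Group G₂] [Group Γ]
    (f : G₁ →* G₂) (ρ : G₂ →* Γ) [Finite ρ.range] (A : Type x) [CommRing A] [Nontrivial A]
    (h : {x : MonoidAlgebra A ρ.range | ∀ g : G₁, MonoidAlgebra.of A ρ.range (ρ.rangeRestrict (f g)) * x = x} =
      {x : MonoidAlgebra A ρ.range | ∀ g : G₂, MonoidAlgebra.of A ρ.range (ρ.rangeRestrict g) * x = x}) :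
    (ρ.comp f).range = ρ.range := by
  classical
  apply le_antisymm
  · rintro _ ⟨g, rfl⟩
    exact ⟨f g, rfl⟩
  · rintro _ ⟨g₂, rfl⟩
    let x : MonoidAlgebra A ρ.range := MonoidAlgebra.ofCoeff
      (Finsupp.equivFunOnFinite.symm (fun y => if y.1 ∈ (ρ.comp f).range then (1 : A) else 0))
    have hx : ∀ y, x.coeff y = if y.1 ∈ (ρ.comp f).range then (1 : A) else 0 := fun y => rfl
    have hx1 : x ∈ {x : MonoidAlgebra A ρ.range | ∀ g : G₁,
        MonoidAlgebra.of A ρ.range (ρ.rangeRestrict (f g)) * x = x} := by
      intro g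
      ext y
      rw [MonoidAlgebra.of_apply, MonoidAlgebra.coeff_single_mul_apply, one_mul, hx, hx]
      have hmem : (ρ.rangeRestrict (f g)).1 ∈ (ρ.comp f).range := ⟨g, rfl⟩
      have hiff : ((ρ.rangeRestrict (f g))⁻¹ * y).1 ∈ (ρ.comp f).range ↔
          y.1 ∈ (ρ.comp f).range := by
        show (ρ.rangeRestrict (f g)).1⁻¹ * y.1 ∈ (ρ.comp f).range ↔ _
        exact Subgroup.mul_mem_cancel_left _ (Subgroup.inv_mem _ hmem)
      simp only [hiff]
    rw [h] at hx1
    have h2 := hx1 g₂
    have h3 := congrArg (fun z => z.coeff (ρ.rangeRestrict g₂)) h2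
    simp only [MonoidAlgebra.of_apply, MonoidAlgebra.coeff_single_mul_apply, one_mul,
      inv_mul_cancel, hx] at h3
    by_contra hne
    have hne' : ¬ ((ρ.rangeRestrict g₂).1 ∈ (ρ.comp f).range) := hne
    rw [if_neg hne', if_pos (by simpa using Subgroup.one_mem _)] at h3
    exact one_ne_zero h3

end Groth.Agent.S18465
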