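import Groth.Statements.S18467
import Mathlib

set_option autoImplicit false
universe u
open Hopf

namespace Groth.Agent.S18467


section
variable {p : ℕ} [Fact p.Prime] {R : Type u} [CommRing R]

lemma of_eq_single (m : (ZMod p)ˣ) :
    MonoidAlgebra.of R (ZMod p)ˣ m = MonoidAlgebra.single m 1 := rfl

lemma coeff_ee (u : R) (χ : (ZMod p)ˣ →* Rˣ) (i : ℕ) (n : (ZMod p)ˣ) :
    (u • ∑ m : (ZMod p)ˣ, ((χ m⁻¹ : Rˣ) : R) ^ i • MonoidAlgebra.of R (ZMod p)ˣ m).coeff n
      = u * ((χ n⁻¹ : Rˣ) : R) ^ i := by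
  classical
  simp only [of_eq_single, MonoidAlgebra.smul_single', mul_one, MonoidAlgebra.coeff_smul,
    MonoidAlgebra.coeff_sum, MonoidAlgebra.coeff_single, Finsupp.smul_apply,
    Finsupp.coe_finset_sum, Finset.sum_apply, Finsupp.single_apply, Finset.sum_ite_eq',
    Finset.mem_univ, if_true, smul_eq_mul]

lemma card_units_zmod : Fintype.card (ZMod p)ˣ = p - 1 := by
  rw [ZMod.card_units_eq_totient, Nat.totient_prime (Fact.out)]

lemma charsum (χ : (ZMod p)ˣ →* Rˣ) (hχ : ∀ m : (ZMod p)ˣ, m ≠ 1 → IsUnit ((χ m : R) - 1))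
    (i j : ℕ) (hi : i < p - 1) (hj : j < p - 1) (hij : i ≠ j) :
    ∑ m : (ZMod p)ˣ, ((χ m⁻¹ : Rˣ) : R) ^ i * ((χ m : Rˣ) : R) ^ j = 0 := by
  classical
  obtain ⟨g, hg⟩ := IsCyclic.exists_generator (α := (ZMod p)ˣ)
  have hord : orderOf g = p - 1 := by
    rw [orderOf_eq_card_of_forall_mem_zpowers hg, Nat.card_eq_fintype_card, card_units_zmod]
  set h : (ZMod p)ˣ := g⁻¹ ^ i * g ^ j with hh
  have hne : h ≠ 1 := by
    intro h1
    have h2 : g ^ i = g ^ j := by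
      have := h1; rw [hh, inv_pow, inv_mul_eq_one] at this; exact this
    have := pow_injOn_Iio_orderOf (x := g) (by rw [Set.mem_Iio, hord]; exact hi)
      (by rw [Set.mem_Iio, hord]; exact hj) h2
    exact hij this
  have hunit := hχ h hne
  let ψ : (ZMod p)ˣ → R := fun m => ((χ m⁻¹ : Rˣ) : R) ^ i * ((χ m : Rˣ) : R) ^ j
  have hψmul : ∀ a b, ψ (a * b) = ψ a * ψ b := by
    intro a b
    simp only [ψ, mul_inv_rev, map_mul, Units.val_mul, mul_pow]
    ring
  have hψg : ψ g = ((χ h : Rˣ) : R) := by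
    simp only [ψ, hh, map_mul, map_pow, Units.val_mul, Units.val_pow_eq_pow_val]
  have hsum : ∑ m, ψ m = ψ g * ∑ m, ψ m := by
    rw [Finset.mul_sum, ← Fintype.sum_equiv (Equiv.mulLeft g) (fun m => ψ (g * m)) (fun m => ψ m)
      (fun m => rfl)]
    exact Finset.sum_congr rfl fun m _ => hψmul g m
  have h0 : (ψ g - 1) * ∑ m, ψ m = 0 := by rw [sub_mul, one_mul, ← hsum, sub_self]
  rw [hψg] at h0
  exact (hunit.mul_right_eq_zero).mp h0

lemma coeff_mul_ee (u : R) (χ : (ZMod p)ˣ →* Rˣ) (i j : ℕ) (n : (ZMod p)ˣ) :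
    ((u • ∑ m : (ZMod p)ˣ, ((χ m⁻¹ : Rˣ) : R) ^ i • MonoidAlgebra.of R (ZMod p)ˣ m) *
      (u • ∑ m : (ZMod p)ˣ, ((χ m⁻¹ : Rˣ) : R) ^ j • MonoidAlgebra.of R (ZMod p)ˣ m)).coeff n
      = u * u * ((χ n⁻¹ : Rˣ) : R) ^ j *
        ∑ m : (ZMod p)ˣ, ((χ m⁻¹ : Rˣ) : R) ^ i * ((χ m : Rˣ) : R) ^ j := by
  classical
  rw [MonoidAlgebra.coeff_mul_apply_left, Finsupp.sum_fintype _ _ (fun _ => zero_mul _),
    Finset.mul_sum]
  refine Finset.sum_congr rfl fun m _ => ?_
  rw [coeff_ee, coeff_ee]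
  simp only [mul_inv_rev, inv_inv, map_mul, Units.val_mul, mul_pow]
  ring
end

/-- Let p be a prime and R a commutative ring containing an element u with u(p − 1) = 1, and let χ be a
homomorphism from the group of units of ℤ/p to the group of units of R such that χ(m) − 1 is a unit
of R for every m ≠ 1. For 0 ≤ i < p − 1 put e_i = u · Σ_m χ(m)^{−i} [m] in the group algebra
R[(ℤ/p)ˣ]. Then the e_i are idempotents, e_i e_j = 0 for i ≠ j, and Σ_i e_i = 1. (The published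
statement is for algebras over the subring of the p-adic integers generated over ℤ by the values of
the Teichmüller character χ and by 1/(p(p − 1)); the hypotheses on R and χ here are the properties
of that situation which the computation uses, so the row is stated for every such pair.) -/
theorem result
    (p : ℕ) [Fact p.Prime] (R : Type u) [CommRing R] (u : R) (hu : u * ((p - 1 : ℕ) : R) = 1)
    (χ : (ZMod p)ˣ →* Rˣ) (hχ : ∀ m : (ZMod p)ˣ, m ≠ 1 → IsUnit ((χ m : R) - 1)) :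
    CompleteOrthogonalIdempotents (fun i : Fin (p - 1) =>
      u • ∑ m : (ZMod p)ˣ, ((χ m⁻¹ : Rˣ) : R) ^ (i : ℕ) • MonoidAlgebra.of R (ZMod p)ˣ m) := by
  classical
  have hcard : Fintype.card (ZMod p)ˣ = p - 1 := card_units_zmod
  refine ⟨⟨fun i => ?_, fun i j hij => ?_⟩, ?_⟩
  · -- idempotent
    apply MonoidAlgebra.coeff_injective
    ext n
    rw [coeff_mul_ee, coeff_ee]
    have hT : ∑ m : (ZMod p)ˣ, ((χ m⁻¹ : Rˣ) : R) ^ (i : ℕ) * ((χ m : Rˣ) : R) ^ (i : ℕ) =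
        ((p - 1 : ℕ) : R) := by
      have : ∀ m : (ZMod p)ˣ, ((χ m⁻¹ : Rˣ) : R) ^ (i : ℕ) * ((χ m : Rˣ) : R) ^ (i : ℕ) = 1 := by
        intro m
        rw [← mul_pow, ← Units.val_mul, ← map_mul, inv_mul_cancel, map_one, Units.val_one, one_pow]
      rw [Finset.sum_congr rfl fun m _ => this m, Finset.sum_const, Finset.card_univ, hcard,
        nsmul_eq_mul, mul_one]
    rw [hT]
    calc u * u * ((χ n⁻¹ : Rˣ) : R) ^ (i : ℕ) * ((p - 1 : ℕ) : R)
        = (u * ((p - 1 : ℕ) : R)) * (u * ((χ n⁻¹ : Rˣ) : R) ^ (i : ℕ)) := by ring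
      _ = u * ((χ n⁻¹ : Rˣ) : R) ^ (i : ℕ) := by rw [hu, one_mul]
  · -- orthogonal
    apply MonoidAlgebra.coeff_injective
    ext n
    show ((u • ∑ m : (ZMod p)ˣ, ((χ m⁻¹ : Rˣ) : R) ^ (i : ℕ) • MonoidAlgebra.of R (ZMod p)ˣ m) *
      (u • ∑ m : (ZMod p)ˣ, ((χ m⁻¹ : Rˣ) : R) ^ (j : ℕ) • MonoidAlgebra.of R (ZMod p)ˣ m)).coeff n
        = (0 : MonoidAlgebra R (ZMod p)ˣ).coeff n
    rw [coeff_mul_ee, charsum χ hχ i j i.2 j.2 (fun h => hij (Fin.ext h)), mul_zero]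
    simp
  · -- complete
    apply MonoidAlgebra.coeff_injective
    ext n
    rw [MonoidAlgebra.coeff_sum, Finsupp.coe_finset_sum, Finset.sum_apply]
    simp only [coeff_ee]
    rw [← Finset.mul_sum, Fin.sum_univ_eq_sum_range (fun i => ((χ n⁻¹ : Rˣ) : R) ^ i) (p - 1),
      MonoidAlgebra.one_def, MonoidAlgebra.coeff_single, Finsupp.single_apply]
    by_cases hn : n = 1
    · subst hn
      simp only [inv_one, map_one, Units.val_one, one_pow, Finset.sum_const, Finset.card_range,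
        nsmul_eq_mul, mul_one, if_true]
      exact hu
    · rw [if_neg (Ne.symm hn)]
      have hn' : n⁻¹ ≠ 1 := fun h => hn (inv_eq_one.mp h)
      have hunit := hχ n⁻¹ hn'
      have hpow : ((χ n⁻¹ : Rˣ) : R) ^ (p - 1) = 1 := by
        rw [← Units.val_pow_eq_pow_val, ← map_pow, ← hcard, pow_card_eq_one, map_one, Units.val_one]
      have hgeom := mul_geom_sum ((χ n⁻¹ : Rˣ) : R) (p - 1)
      rw [hpow, sub_self] at hgeom
      rw [(hunit.mul_right_eq_zero).mp hgeom, mul_zero]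

end Groth.Agent.S18467
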