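import Groth.Statements.S18470
import Mathlib

set_option autoImplicit false
universe u v
open OortTate

namespace Groth.Agent.S18470

/-- Let R be a commutative ring and A a commutative Hopf algebra over R which is finitely generated and
projective as an R-module (a finite locally free group scheme G = Spec A, not assumed commutative),
and let A^D = Hom_R(A, R) be the dual algebra with its Hopf structure (the Cartier dual when A is
cocommutative), whose counit is evaluation at 1. Then restriction of linear forms to the
augmentation ideal I = ker ε_A of A is a bijection from the augmentation ideal of A^D onto the dual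
module Hom_R(I, R): the dual of the augmentation ideal of G is the augmentation ideal of the dual.
The published statement is for a group scheme of order p over a Λ_p-algebra; the argument uses only
the splitting A = R·1 ⊕ ker ε. -/
theorem result
    (R : Type u) [CommRing R] (A : Type v) [CommRing A] [HopfAlgebra R A]
    [Module.Finite R A] [Module.Projective R A] :
    Function.Bijective (fun f : LinearMap.ker (Bialgebra.counitAlgHom R (CartDual.D R A)).toLinearMap =>
      ((CartDual.toDual R A) (f : CartDual.D R A)).comp
        (LinearMap.ker (Bialgebra.counitAlgHom R A).toLinearMap).subtype) := by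
  have hmemA : ∀ a : A, a ∈ LinearMap.ker (Bialgebra.counitAlgHom R A).toLinearMap ↔
      Coalgebra.counit (R := R) a = 0 := fun a => LinearMap.mem_ker
  have hmemD : ∀ f : CartDual.D R A,
      f ∈ LinearMap.ker (Bialgebra.counitAlgHom R (CartDual.D R A)).toLinearMap ↔
        f.ofConv 1 = 0 := fun f => LinearMap.mem_ker
  have hsub : ∀ a : A, a - algebraMap R A (Coalgebra.counit (R := R) a) ∈
      LinearMap.ker (Bialgebra.counitAlgHom R A).toLinearMap := by
    intro a
    rw [hmemA, map_sub, Bialgebra.counit_algebraMap, sub_self]
  constructor
  · intro f g h
    apply Subtype.ext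
    apply WithConv.ext
    apply LinearMap.ext
    intro a
    have hf1 : (f : CartDual.D R A).ofConv 1 = 0 := (hmemD _).1 f.2
    have hg1 : (g : CartDual.D R A).ofConv 1 = 0 := (hmemD _).1 g.2
    have h2 := LinearMap.congr_fun h ⟨a - algebraMap R A (Coalgebra.counit (R := R) a), hsub a⟩
    have h3 : (f : CartDual.D R A).ofConv (a - algebraMap R A (Coalgebra.counit (R := R) a)) =
        (g : CartDual.D R A).ofConv (a - algebraMap R A (Coalgebra.counit (R := R) a)) := h2
    rw [map_sub, map_sub, Algebra.algebraMap_eq_smul_one, map_smul, map_smul, hf1, hg1, smul_zero,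
      sub_zero, sub_zero] at h3
    exact h3
  · intro φ
    let π : A →ₗ[R] LinearMap.ker (Bialgebra.counitAlgHom R A).toLinearMap :=
      LinearMap.codRestrict _
        (LinearMap.id - Algebra.linearMap R A ∘ₗ (Coalgebra.counit (R := R) (A := A)))
        (fun a => hsub a)
    have hπ : ∀ a : A, ((π a : LinearMap.ker (Bialgebra.counitAlgHom R A).toLinearMap) : A) =
        a - algebraMap R A (Coalgebra.counit (R := R) a) := fun a => rfl
    refine ⟨⟨WithConv.toConv (φ ∘ₗ π), ?_⟩, ?_⟩
    · rw [hmemD]
      show φ (π 1) = 0
      have h1 : π 1 = 0 := by
        apply Subtype.ext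
        rw [hπ, Bialgebra.counit_one, map_one, sub_self]
        rfl
      rw [h1, map_zero]
    · apply LinearMap.ext
      intro x
      show φ (π (x : A)) = φ x
      congr 1
      apply Subtype.ext
      rw [hπ, (hmemA _).1 x.2, map_zero, sub_zero]

end Groth.Agent.S18470
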