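import Groth.Statements.S18476
import Mathlib


set_option autoImplicit false
universe u
open FmlGrp

namespace Groth.Agent.S18476

noncomputable def sbq {O : Type u} [CommRing O] (f c : PowerSeries O) : PowerSeries O :=
  PowerSeries.subst f c

section sbLemmas
variable {O : Type u} [CommRing O] {f : PowerSeries O}

lemma sbq_add (hf : PowerSeries.HasSubst f) (c d : PowerSeries O) :
    sbq f (c + d) = sbq f c + sbq f d := PowerSeries.subst_add hf c d
lemma sbq_sub (hf : PowerSeries.HasSubst f) (c d : PowerSeries O) :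
    sbq f (c - d) = sbq f c - sbq f d := PowerSeries.subst_sub hf c d
lemma sbq_mul (hf : PowerSeries.HasSubst f) (c d : PowerSeries O) :
    sbq f (c * d) = sbq f c * sbq f d := PowerSeries.subst_mul hf c d
lemma sbq_X (hf : PowerSeries.HasSubst f) : sbq f (PowerSeries.X : PowerSeries O) = f :=
  PowerSeries.subst_X hf
lemma sbq_C (f : PowerSeries O) (r : O) : sbq f (PowerSeries.C r) = PowerSeries.C r :=
  PowerSeries.subst_C r
lemma sbq_smul (hf : PowerSeries.HasSubst f) (r : O) (c : PowerSeries O) :
    sbq f (r • c) = r • sbq f c := PowerSeries.subst_smul hf r c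
lemma sbq_zero (hf : PowerSeries.HasSubst f) : sbq f (0 : PowerSeries O) = 0 := by
  have h := sbq_smul hf (0 : O) (0 : PowerSeries O)
  simpa using h

lemma coe_eq_sum_range_q (p : Polynomial O) (h : ℕ) (hp : p.degree < (h : WithBot ℕ)) :
    (p : PowerSeries O) =
      ∑ i ∈ Finset.range h, PowerSeries.C (p.coeff i) * PowerSeries.X ^ i := by
  ext n
  rw [Polynomial.coeff_coe, map_sum]
  simp only [PowerSeries.coeff_C_mul_X_pow]
  rw [Finset.sum_ite_eq]
  split_ifs with hn
  · rfl
  · apply Polynomial.coeff_eq_zero_of_degree_lt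
    refine lt_of_lt_of_le hp ?_
    have : h ≤ n := by simpa using hn
    exact_mod_cast this

noncomputable def polyOfq (a : ℕ → O) (h : ℕ) : Polynomial O :=
  ∑ i ∈ Finset.range h, Polynomial.monomial i (a i)

lemma polyOfq_coeff (a : ℕ → O) (h n : ℕ) :
    (polyOfq a h).coeff n = if n ∈ Finset.range h then a n else 0 := by
  unfold polyOfq
  rw [Polynomial.finsetSum_coeff]
  simp only [Polynomial.coeff_monomial]
  rw [Finset.sum_ite_eq']

lemma polyOfq_degree_lt (a : ℕ → O) (h : ℕ) : (polyOfq a h).degree < (h : WithBot ℕ) := by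
  rw [Polynomial.degree_lt_iff_coeff_zero]
  intro m hm
  rw [polyOfq_coeff, if_neg]
  simpa using hm

lemma polyOfq_coe (a : ℕ → O) (h : ℕ) :
    ((polyOfq a h : Polynomial O) : PowerSeries O) =
      ∑ i ∈ Finset.range h, PowerSeries.C (a i) * PowerSeries.X ^ i := by
  rw [coe_eq_sum_range_q _ h (polyOfq_degree_lt a h)]
  refine Finset.sum_congr rfl (fun i hi => ?_)
  rw [polyOfq_coeff, if_pos hi]

end sbLemmas

section WD
variable {O : Type u} [CommRing O] [IsLocalRing O]
  [IsAdicComplete (IsLocalRing.maximalIdeal O) O]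

noncomputable def cNq (f g : PowerSeries O) (j : ℕ) : PowerSeries O :=
  PowerSeries.mk fun k =>
    (PowerSeries.weierstrassMod ((fun x => PowerSeries.weierstrassDiv x f)^[k] g) f).coeff j

lemma cNq_step (f g : PowerSeries O) (j : ℕ) :
    cNq f g j = PowerSeries.C ((PowerSeries.weierstrassMod g f).coeff j)
      + PowerSeries.X * cNq f (PowerSeries.weierstrassDiv g f) j := by
  ext k
  cases k with
  | zero =>
    rw [map_add, PowerSeries.coeff_zero_C, PowerSeries.coeff_zero_X_mul, add_zero]
    simp only [cNq, PowerSeries.coeff_mk, Function.iterate_zero, id_eq]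
  | succ k =>
    rw [map_add, PowerSeries.coeff_succ_X_mul, PowerSeries.coeff_C, if_neg (by omega), zero_add]
    simp only [cNq, PowerSeries.coeff_mk, Function.iterate_succ_apply]

lemma exist_aux_q {f : PowerSeries O} (hf : PowerSeries.HasSubst f) (hX : PowerSeries.X ∣ f)
    (hres : f.map (IsLocalRing.residue O) ≠ 0) (h : ℕ)
    (hh : h = (f.map (IsLocalRing.residue O)).order.toNat) :
    ∀ (N : ℕ) (g : PowerSeries O),
      PowerSeries.X ^ N ∣ g - ∑ j ∈ Finset.range h, sbq f (cNq f g j) * PowerSeries.X ^ j := by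
  subst hh
  intro N
  induction N with
  | zero => intro g; simp
  | succ N ih =>
    intro g
    have h1 : ∀ j, sbq f (cNq f g j) = PowerSeries.C ((PowerSeries.weierstrassMod g f).coeff j)
        + f * sbq f (cNq f (PowerSeries.weierstrassDiv g f) j) := by
      intro j
      rw [cNq_step, sbq_add hf, sbq_mul hf, sbq_X hf, sbq_C]
    have h2 : ((PowerSeries.weierstrassMod g f : Polynomial O) : PowerSeries O)
        = ∑ j ∈ Finset.range (f.map (IsLocalRing.residue O)).order.toNat,
          PowerSeries.C ((PowerSeries.weierstrassMod g f).coeff j) * PowerSeries.X ^ j :=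
      coe_eq_sum_range_q _ _ (PowerSeries.degree_weierstrassMod_lt g f)
    have h3 := PowerSeries.eq_mul_weierstrassDiv_add_weierstrassMod g hres
    have h4 : ∑ j ∈ Finset.range (f.map (IsLocalRing.residue O)).order.toNat,
          sbq f (cNq f g j) * PowerSeries.X ^ j
        = ((PowerSeries.weierstrassMod g f : Polynomial O) : PowerSeries O)
          + f * ∑ j ∈ Finset.range (f.map (IsLocalRing.residue O)).order.toNat,
            sbq f (cNq f (PowerSeries.weierstrassDiv g f) j) * PowerSeries.X ^ j := by
      rw [h2, Finset.mul_sum, ← Finset.sum_add_distrib]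
      refine Finset.sum_congr rfl (fun j _ => ?_)
      rw [h1 j]; ring
    have key : g - ∑ j ∈ Finset.range (f.map (IsLocalRing.residue O)).order.toNat,
          sbq f (cNq f g j) * PowerSeries.X ^ j
        = f * (PowerSeries.weierstrassDiv g f
          - ∑ j ∈ Finset.range (f.map (IsLocalRing.residue O)).order.toNat,
            sbq f (cNq f (PowerSeries.weierstrassDiv g f) j) * PowerSeries.X ^ j) := by
      rw [h4]
      linear_combination h3
    rw [key, pow_succ']
    exact mul_dvd_mul hX (ih _)

lemma exist_main_q {f : PowerSeries O} (hf : PowerSeries.HasSubst f) (hX : PowerSeries.X ∣ f)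
    (hres : f.map (IsLocalRing.residue O) ≠ 0) (h : ℕ)
    (hh : h = (f.map (IsLocalRing.residue O)).order.toNat) (g : PowerSeries O) :
    g = ∑ j ∈ Finset.range h, sbq f (cNq f g j) * PowerSeries.X ^ j := by
  have hz : g - ∑ j ∈ Finset.range h, sbq f (cNq f g j) * PowerSeries.X ^ j = 0 := by
    ext n
    have := exist_aux_q hf hX hres h hh (n + 1) g
    rw [PowerSeries.X_pow_dvd_iff] at this
    rw [this n (Nat.lt_succ_self n), map_zero]
  exact sub_eq_zero.mp hz

lemma uniq_aux_q {f : PowerSeries O} (hf : PowerSeries.HasSubst f)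
    (hres : f.map (IsLocalRing.residue O) ≠ 0) (h : ℕ)
    (hh : h = (f.map (IsLocalRing.residue O)).order.toNat) :
    ∀ (N : ℕ) (e : ℕ → PowerSeries O),
      (∑ j ∈ Finset.range h, sbq f (e j) * PowerSeries.X ^ j = 0) →
      ∀ j ∈ Finset.range h, ∀ k < N, PowerSeries.coeff k (e j) = 0 := by
  subst hh
  intro N
  induction N with
  | zero => intro e _ j _ k hk; exact absurd hk (Nat.not_lt_zero k)
  | succ N ih =>
    intro e he
    obtain ⟨t, ht⟩ : ∃ t : ℕ → PowerSeries O,
        t = fun j => PowerSeries.mk fun k => PowerSeries.coeff (k + 1) (e j) := ⟨_, rfl⟩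
    have hdec : ∀ j, e j = PowerSeries.C (PowerSeries.constantCoeff (e j))
        + PowerSeries.X * t j := by
      intro j
      rw [add_comm, ht]
      exact PowerSeries.eq_X_mul_shift_add_const (e j)
    have h1 : ∀ j, sbq f (e j) = PowerSeries.C (PowerSeries.constantCoeff (e j))
        + f * sbq f (t j) := by
      intro j
      conv_lhs => rw [hdec j]
      rw [sbq_add hf, sbq_mul hf, sbq_X hf, sbq_C]
    obtain ⟨r, hr⟩ : ∃ r : Polynomial O,
        r = polyOfq (fun j => PowerSeries.constantCoeff (e j))
          (f.map (IsLocalRing.residue O)).order.toNat := ⟨_, rfl⟩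
    have h2 : ∑ j ∈ Finset.range (f.map (IsLocalRing.residue O)).order.toNat,
          sbq f (e j) * PowerSeries.X ^ j
        = (r : PowerSeries O)
          + f * ∑ j ∈ Finset.range (f.map (IsLocalRing.residue O)).order.toNat,
            sbq f (t j) * PowerSeries.X ^ j := by
      rw [hr, polyOfq_coe, Finset.mul_sum, ← Finset.sum_add_distrib]
      refine Finset.sum_congr rfl (fun j _ => ?_)
      rw [h1 j]; ring
    have hdeg : r.degree < ((f.map (IsLocalRing.residue O)).order.toNat : WithBot ℕ) := by
      rw [hr]; exact polyOfq_degree_lt _ _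
    have H : PowerSeries.IsWeierstrassDivision (0 : PowerSeries O) f
        (∑ j ∈ Finset.range (f.map (IsLocalRing.residue O)).order.toNat,
          sbq f (t j) * PowerSeries.X ^ j) r :=
      ⟨hdeg, he.symm.trans (h2.trans (add_comm _ _))⟩
    obtain ⟨hq, hr0⟩ := PowerSeries.IsWeierstrassDivision.eq_zero hres H
    intro j hj k hk
    cases k with
    | zero =>
      have h5 : r.coeff j = 0 := by rw [hr0]; simp
      rw [hr, polyOfq_coeff, if_pos hj] at h5
      simpa using h5
    | succ k =>
      have h6 := ih t hq j hj k (Nat.lt_of_succ_lt_succ hk)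
      rw [ht, PowerSeries.coeff_mk] at h6
      exact h6

lemma uniq_main_q {f : PowerSeries O} (hf : PowerSeries.HasSubst f)
    (hres : f.map (IsLocalRing.residue O) ≠ 0) (h : ℕ)
    (hh : h = (f.map (IsLocalRing.residue O)).order.toNat) (e : ℕ → PowerSeries O)
    (he : ∑ j ∈ Finset.range h, sbq f (e j) * PowerSeries.X ^ j = 0) :
    ∀ j ∈ Finset.range h, e j = 0 := by
  intro j hj
  ext k
  rw [map_zero]
  exact uniq_aux_q hf hres h hh (k + 1) e he j hj k (Nat.lt_succ_self k)

lemma forward_q {f : PowerSeries O} (hf : PowerSeries.HasSubst f)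
    (hf0 : PowerSeries.constantCoeff f = 0)
    (hres : f.map (IsLocalRing.residue O) ≠ 0) :
    ∃ (n : ℕ) (b : Fin n → PowerSeries O), ∀ g : PowerSeries O,
      ∃! c : Fin n → PowerSeries O, g = ∑ i, sbq f (c i) * b i := by
  obtain ⟨h, hh⟩ : ∃ h : ℕ, h = (f.map (IsLocalRing.residue O)).order.toNat := ⟨_, rfl⟩
  have hX : PowerSeries.X ∣ f := PowerSeries.X_dvd_iff.mpr hf0
  refine ⟨h, fun i => PowerSeries.X ^ (i : ℕ), fun g => ⟨fun i => cNq f g i, ?_, ?_⟩⟩
  · show g = ∑ i : Fin h, sbq f (cNq f g i) * PowerSeries.X ^ (i : ℕ)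
    rw [Fin.sum_univ_eq_sum_range (fun j => sbq f (cNq f g j) * PowerSeries.X ^ j) h]
    exact exist_main_q hf hX hres h hh g
  · intro y hy
    have hy' : g = ∑ i : Fin h, sbq f (y i) * PowerSeries.X ^ (i : ℕ) := hy
    have hg := exist_main_q hf hX hres h hh g
    obtain ⟨e, he⟩ : ∃ e : ℕ → PowerSeries O,
        e = fun j => if hj : j < h then y ⟨j, hj⟩ - cNq f g j else 0 := ⟨_, rfl⟩
    have hei : ∀ i : Fin h, e i = y i - cNq f g i := by
      intro i
      rw [he]
      simp [i.2]
    have hsum : ∑ j ∈ Finset.range h, sbq f (e j) * PowerSeries.X ^ j = 0 := by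
      rw [← Fin.sum_univ_eq_sum_range (fun j => sbq f (e j) * PowerSeries.X ^ j) h]
      have hterm : ∀ i : Fin h, sbq f (e i) * PowerSeries.X ^ (i : ℕ)
          = sbq f (y i) * PowerSeries.X ^ (i : ℕ)
            - sbq f (cNq f g i) * PowerSeries.X ^ (i : ℕ) := by
        intro i
        rw [hei i, sbq_sub hf, sub_mul]
      rw [Finset.sum_congr rfl (fun i _ => hterm i), Finset.sum_sub_distrib, ← hy',
        Fin.sum_univ_eq_sum_range (fun j => sbq f (cNq f g j) * PowerSeries.X ^ j) h, ← hg,
        sub_self]
    funext i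
    have h7 := uniq_main_q hf hres h hh e hsum i (Finset.mem_range.mpr i.2)
    rw [hei i, sub_eq_zero] at h7
    exact h7

end WD

lemma backward_q {O : Type u} [CommRing O] [IsDomain O] [IsDiscreteValuationRing O]
    {f : PowerSeries O} (hf : PowerSeries.HasSubst f)
    (hall : ∀ n, PowerSeries.coeff n f ∈ IsLocalRing.maximalIdeal O)
    (n : ℕ) (b : Fin n → PowerSeries O)
    (H : ∀ g : PowerSeries O, ∃! c : Fin n → PowerSeries O, g = ∑ i, sbq f (c i) * b i) :
    False := by
  obtain ⟨π, hπ⟩ := IsDiscreteValuationRing.exists_irreducible O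
  have hm : IsLocalRing.maximalIdeal O = Ideal.span {π} := hπ.maximalIdeal_eq
  have hdiv : ∀ k, ∃ a, a * π = PowerSeries.coeff k f := fun k => by
    have h0 := hall k
    rw [hm] at h0
    exact Ideal.mem_span_singleton'.mp h0
  choose a ha using hdiv
  obtain ⟨f₁, hf₁⟩ : ∃ f₁ : PowerSeries O, f₁ = PowerSeries.mk a := ⟨_, rfl⟩
  have hff : f = π • f₁ := by
    ext k
    rw [LinearMap.map_smul, smul_eq_mul, hf₁, PowerSeries.coeff_mk, ← ha k, mul_comm]
  rcases Nat.eq_zero_or_pos n with hn | hn
  · subst hn
    obtain ⟨c, hc, -⟩ := H 1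
    simp at hc
  · obtain ⟨i₀, hi₀⟩ : ∃ i₀ : Fin n, i₀ = ⟨0, hn⟩ := ⟨_, rfl⟩
    obtain ⟨d, hd, -⟩ := H (f₁ * b i₀)
    obtain ⟨c, hc, hcu⟩ := H (f * b i₀)
    have hd' : f₁ * b i₀ = ∑ i, sbq f (d i) * b i := hd
    have k1 : f * b i₀ = ∑ i, sbq f (π • d i) * b i := by
      have hterm : ∀ i, sbq f (π • d i) * b i = π • (sbq f (d i) * b i) := fun i => by
        rw [sbq_smul hf, smul_mul_assoc]
      rw [Finset.sum_congr rfl (fun i _ => hterm i), ← Finset.smul_sum, ← hd']
      conv_lhs => rw [hff]
      rw [smul_mul_assoc]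
    have k2 : f * b i₀ = ∑ i, sbq f (if i = i₀ then PowerSeries.X else 0) * b i := by
      rw [Finset.sum_eq_single i₀]
      · rw [if_pos rfl, sbq_X hf]
      · intro j _ hj
        rw [if_neg hj, sbq_zero hf, zero_mul]
      · intro h; exact absurd (Finset.mem_univ _) h
    have e1 : (fun i => π • d i) = c := hcu (fun i => π • d i) k1
    have e2 : (fun i => if i = i₀ then (PowerSeries.X : PowerSeries O) else 0) = c :=
      hcu (fun i => if i = i₀ then (PowerSeries.X : PowerSeries O) else 0) k2
    have h3 : (if i₀ = i₀ then (PowerSeries.X : PowerSeries O) else 0) = π • d i₀ :=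
      congrFun (e2.trans e1.symm) i₀
    rw [if_pos rfl] at h3
    have h4 := congrArg (PowerSeries.coeff 1) h3
    rw [PowerSeries.coeff_one_X, LinearMap.map_smul, smul_eq_mul] at h4
    exact hπ.not_isUnit (isUnit_iff_exists_inv.mpr ⟨_, h4.symm⟩)

lemma mainLemma_q (O : Type u) [CommRing O] [IsDomain O] [IsDiscreteValuationRing O]
    [IsAdicComplete (IsLocalRing.maximalIdeal O) O]
    (f : PowerSeries O) (hf : PowerSeries.HasSubst f) :
    (∃ n : ℕ, PowerSeries.coeff n f ∉ IsLocalRing.maximalIdeal O) ↔
      ∃ (n : ℕ) (b : Fin n → PowerSeries O), ∀ g : PowerSeries O,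
        ∃! c : Fin n → PowerSeries O, g = ∑ i, PowerSeries.subst f (c i) * b i := by
  have hf0 : PowerSeries.constantCoeff f = 0 := IsNilpotent.eq_zero hf
  constructor
  · rintro ⟨n, hn⟩
    have hres : f.map (IsLocalRing.residue O) ≠ 0 := by
      intro h0
      apply hn
      have h1 := congrArg (PowerSeries.coeff n) h0
      rw [PowerSeries.coeff_map, map_zero] at h1
      exact (IsLocalRing.residue_eq_zero_iff _).mp h1
    exact forward_q hf hf0 hres
  · rintro ⟨n, b, H⟩
    by_contra hall
    push_neg at hall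
    exact backward_q hf hall n b H

/-- Let O be a complete discrete valuation ring whose maximal ideal m contains the prime number p, and
let F be a one-dimensional formal group law over O, with multiplication-by-p series f = [p]_F(X) = X
+_F ⋯ +_F X ∈ O[[X]]. Then f has a coefficient outside m (f is not ≡ 0 mod m) if and only if F is
p-divisible in the sense that O[[X]] is free of finite rank over itself through the substitution
endomorphism X ↦ f: there are finitely many power series b_1, …, b_n such that every power series g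
can be written uniquely as Σ_i c_i(f(X))·b_i. (The published statement asserts instead that F is
p-divisible iff F does not reduce to X + Y modulo m; that is false — over the p-adic integers the
law φ⁻¹(φ(X) + φ(Y)) with φ = X + X^{p+1} is not congruent to X + Y modulo p, yet its
multiplication-by-p series φ⁻¹(pφ(X)) vanishes modulo p — and the printed proof establishes exactly
the criterion on f stated here.) The published setting is the valuation ring of a finite extension
of ℚ_p; the argument uses only that O is a complete discrete valuation ring with p in its maximal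
ideal. -/
theorem result
    (O : Type u) [CommRing O] [IsDomain O] [IsDiscreteValuationRing O]
    [IsAdicComplete (IsLocalRing.maximalIdeal O) O]
    (p : ℕ) [Fact p.Prime] (hp : (p : O) ∈ IsLocalRing.maximalIdeal O)
    (F : FormalGroup O) :
    (∃ n : ℕ, PowerSeries.coeff n
        ((p • (show F.Point Unit from ⟨PowerSeries.X, PowerSeries.HasSubst.X'⟩)).val) ∉
          IsLocalRing.maximalIdeal O) ↔
      ∃ (n : ℕ) (b : Fin n → PowerSeries O), ∀ g : PowerSeries O, ∃! c : Fin n → PowerSeries O,
        g = ∑ i, PowerSeries.subst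
          ((p • (show F.Point Unit from ⟨PowerSeries.X, PowerSeries.HasSubst.X'⟩)).val) (c i) * b i := by
  exact mainLemma_q O _
    (Subtype.prop (p • (show F.Point Unit from ⟨PowerSeries.X, PowerSeries.HasSubst.X'⟩)))

end Groth.Agent.S18476
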