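import Groth.Statements.S18479
import Mathlib

set_option autoImplicit false
universe u v
open scoped TensorProduct
open OortTate

namespace Groth.Agent.S18479

/-- Let R be a commutative ring and A a commutative Hopf algebra over R whose augmentation ideal ker ε
is a free R-module of rank one with generator x (this is the situation of a group scheme of order 2
over a local ring: A free of rank 2, so ker ε is free of rank 1). Then there are a, b ∈ R with x² =
a·x, Δ(x) = x ⊗ 1 + 1 ⊗ x + b·(x ⊗ x), and ab = −2; thus A is the Hopf algebra R[T]/(T² − aT) with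
comultiplication T ↦ T ⊗ 1 + 1 ⊗ T + b T ⊗ T. (The copy works over a Noetherian local ring to get
freeness; the computation uses only that ker ε is free on x.) -/
theorem result
    (R : Type u) [CommRing R] (A : Type v) [CommRing A] [HopfAlgebra R A]
    (x : A) (hx : Bialgebra.counitAlgHom R A x = 0)
    (hgen : ∀ f : A, Bialgebra.counitAlgHom R A f = 0 → ∃ r : R, f = r • x)
    (hfree : ∀ r : R, r • x = 0 → r = 0) :
    ∃ a b : R, x * x = a • x ∧
      Bialgebra.comulAlgHom R A x = x ⊗ₜ[R] 1 + 1 ⊗ₜ[R] x + b • (x ⊗ₜ[R] x) ∧ a * b = -2 := by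
  classical
  set ε : A →ₐ[R] R := Bialgebra.counitAlgHom R A with hε
  have hcx : Coalgebra.counit (R := R) x = 0 := hx
  have hεalg : ∀ r : R, ε (algebraMap R A r) = r := fun r => by
    rw [AlgHom.commutes]; rfl
  -- decomposition of elements of A
  have hdecε : ∀ f : A, ∃ s : R, f = algebraMap R A (ε f) + s • x := by
    intro f
    have h0 : ε (f - algebraMap R A (ε f)) = 0 := by
      rw [map_sub, hεalg, sub_self]
    obtain ⟨s, hs⟩ := hgen _ h0
    exact ⟨s, by rw [← hs]; ring⟩
  have hdec : ∀ f : A, ∃ r s : R, f = algebraMap R A r + s • x := fun f =>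
    ⟨ε f, hdecε f⟩
  have huniq : ∀ r s r' s' : R, algebraMap R A r + s • x = algebraMap R A r' + s' • x →
      r = r' ∧ s = s' := by
    intro r s r' s' h
    have h1 := congrArg ε h
    rw [map_add, map_add, hεalg, hεalg, map_smul, map_smul, hx, smul_zero, smul_zero, add_zero,
      add_zero] at h1
    subst h1
    have h2 : (s - s') • x = 0 := by
      rw [sub_smul]; exact sub_eq_zero.mpr (add_left_cancel h)
    exact ⟨rfl, sub_eq_zero.mp (hfree _ h2)⟩
  -- x^2 = a x
  obtain ⟨a, ha⟩ := hgen (x * x) (by rw [map_mul, hx, zero_mul])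
  -- decomposition of tensors
  have hdec2 : ∀ t : A ⊗[R] A, ∃ α β γ δ : R,
      t = α • ((1 : A) ⊗ₜ[R] (1 : A)) + β • (x ⊗ₜ[R] (1 : A)) + γ • ((1 : A) ⊗ₜ[R] x)
        + δ • (x ⊗ₜ[R] x) := by
    intro t
    induction t using TensorProduct.induction_on with
    | zero => exact ⟨0, 0, 0, 0, by simp⟩
    | tmul f g =>
      obtain ⟨r, s, rfl⟩ := hdec f
      obtain ⟨r', s', rfl⟩ := hdec g
      refine ⟨r * r', s * r', r * s', s * s', ?_⟩
      simp only [Algebra.algebraMap_eq_smul_one, TensorProduct.add_tmul, TensorProduct.tmul_add,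
        TensorProduct.smul_tmul_smul]
      abel
    | add t u ht hu =>
      obtain ⟨α, β, γ, δ, rfl⟩ := ht
      obtain ⟨α', β', γ', δ', rfl⟩ := hu
      refine ⟨α + α', β + β', γ + γ', δ + δ', ?_⟩
      simp only [add_smul]
      abel
  obtain ⟨α, β, γ, b, hΔ⟩ := hdec2 (Coalgebra.comul (R := R) x)
  -- counit axioms
  have hα : α = 0 ∧ γ = 1 := by
    have hr := Coalgebra.rTensor_counit_comul (R := R) x
    rw [hΔ] at hr
    simp only [map_add, map_smul, LinearMap.rTensor_tmul] at hr
    rw [hcx, Bialgebra.counit_one] at hr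
    have hr2 := congrArg (TensorProduct.lid R A) hr
    simp only [map_add, map_smul, TensorProduct.lid_tmul, one_smul, zero_smul, smul_zero,
      add_zero] at hr2
    exact huniq α γ 0 1 (by
      rw [Algebra.algebraMap_eq_smul_one, map_zero, zero_add, one_smul]; exact hr2)
  have hβ : α = 0 ∧ β = 1 := by
    have hl := Coalgebra.lTensor_counit_comul (R := R) x
    rw [hΔ] at hl
    simp only [map_add, map_smul, LinearMap.lTensor_tmul] at hl
    rw [hcx, Bialgebra.counit_one] at hl
    have hl2 := congrArg (TensorProduct.rid R A) hl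
    simp only [map_add, map_smul, TensorProduct.rid_tmul, one_smul, zero_smul, smul_zero,
      add_zero] at hl2
    exact huniq α β 0 1 (by
      rw [Algebra.algebraMap_eq_smul_one, map_zero, zero_add, one_smul]; exact hl2)
  obtain ⟨hα0, hγ1⟩ := hα
  obtain ⟨-, hβ1⟩ := hβ
  rw [hα0, hβ1, hγ1, zero_smul, zero_add, one_smul, one_smul] at hΔ
  have hΔ' : Bialgebra.comulAlgHom R A x = x ⊗ₜ[R] 1 + 1 ⊗ₜ[R] x + b • (x ⊗ₜ[R] x) := hΔ
  -- the coefficient functional
  choose cf hcf using hdecε
  have hcfx : cf x = 1 := by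
    have h1 := hcf x
    rw [hx, map_zero, zero_add] at h1
    have := huniq 0 (cf x) 0 1 (by rw [map_zero, zero_add, zero_add, one_smul]; exact h1.symm)
    exact this.2
  let φ : A →ₗ[R] R :=
    { toFun := cf
      map_add' := fun f g => by
        have e1 : algebraMap R A (ε (f + g)) + cf (f + g) • x
            = algebraMap R A (ε f + ε g) + (cf f + cf g) • x := by
          rw [← hcf (f + g), map_add, add_smul]
          calc f + g = (algebraMap R A (ε f) + cf f • x) + (algebraMap R A (ε g) + cf g • x) := by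
                rw [← hcf f, ← hcf g]
            _ = _ := by abel
        exact (huniq _ _ _ _ e1).2
      map_smul' := fun r f => by
        have e1 : algebraMap R A (ε (r • f)) + cf (r • f) • x
            = algebraMap R A (r * ε f) + (r * cf f) • x := by
          rw [← hcf (r • f), map_mul, mul_smul, ← Algebra.smul_def, ← smul_add, ← hcf f]
        exact (huniq _ _ _ _ e1).2 }
  have hφ : ∀ f, φ f = cf f := fun f => rfl
  let ψ : A ⊗[R] A →ₗ[R] R := LinearMap.mul' R R ∘ₗ TensorProduct.map φ φ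
  have hψ : ψ (x ⊗ₜ[R] x) = 1 := by
    simp only [ψ, LinearMap.comp_apply, TensorProduct.map_tmul, LinearMap.mul'_apply, hφ, hcfx,
      mul_one]
  -- Δ multiplicative
  have ha' : x * x = algebraMap R A a * x := by rw [ha, Algebra.smul_def]
  have hmul : Bialgebra.comulAlgHom R A (x * x)
      = Bialgebra.comulAlgHom R A x * Bialgebra.comulAlgHom R A x := map_mul _ _ _
  rw [ha, map_smul, hΔ'] at hmul
  have hZ : x ⊗ₜ[R] x = (x ⊗ₜ[R] (1 : A)) * ((1 : A) ⊗ₜ[R] x) := by
    rw [Algebra.TensorProduct.tmul_mul_tmul, mul_one, one_mul]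
  have hX : (x ⊗ₜ[R] (1 : A)) * (x ⊗ₜ[R] (1 : A))
      = algebraMap R (A ⊗[R] A) a * (x ⊗ₜ[R] (1 : A)) := by
    rw [Algebra.TensorProduct.tmul_mul_tmul, mul_one, ha, ← Algebra.smul_def,
      TensorProduct.smul_tmul']
  have hY : ((1 : A) ⊗ₜ[R] x) * ((1 : A) ⊗ₜ[R] x)
      = algebraMap R (A ⊗[R] A) a * ((1 : A) ⊗ₜ[R] x) := by
    rw [Algebra.TensorProduct.tmul_mul_tmul, mul_one, ha, ← Algebra.smul_def,
      TensorProduct.tmul_smul]
  rw [hZ, Algebra.smul_def, Algebra.smul_def] at hmul
  have key : (algebraMap R (A ⊗[R] A) a * algebraMap R (A ⊗[R] A) b + 1)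
      * (algebraMap R (A ⊗[R] A) a * algebraMap R (A ⊗[R] A) b + 2)
      * ((x ⊗ₜ[R] (1 : A)) * ((1 : A) ⊗ₜ[R] x)) = 0 := by
    linear_combination (-1 : A ⊗[R] A) * hmul
      - (1 + (algebraMap R (A ⊗[R] A) b) ^ 2 * ((1 : A) ⊗ₜ[R] x) ^ 2
          + 2 * algebraMap R (A ⊗[R] A) b * ((1 : A) ⊗ₜ[R] x)) * hX
      - (1 + algebraMap R (A ⊗[R] A) a * (algebraMap R (A ⊗[R] A) b) ^ 2 * (x ⊗ₜ[R] (1 : A))
          + 2 * algebraMap R (A ⊗[R] A) b * (x ⊗ₜ[R] (1 : A))) * hY
  have hZ0 : ((a * b + 1) * (a * b + 2)) • (x ⊗ₜ[R] x) = 0 := by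
    rw [Algebra.smul_def, hZ, map_mul, map_add, map_add, map_mul, map_one, map_ofNat]
    exact key
  have h1 : (a * b + 1) * (a * b + 2) = 0 := by
    have h := congrArg ψ hZ0
    rw [map_smul, hψ, map_zero, smul_eq_mul, mul_one] at h
    exact h
  -- antipode
  have hS := HopfAlgebra.mul_antipode_rTensor_comul_apply (R := R) x
  rw [hΔ, hcx, map_zero] at hS
  simp only [map_add, map_smul, LinearMap.rTensor_tmul, LinearMap.mul'_apply,
    HopfAlgebra.antipode_one, mul_one, one_mul] at hS
  obtain ⟨r, c, hSx⟩ := hdec (HopfAlgebra.antipode R x)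
  rw [hSx, Algebra.smul_def, Algebra.smul_def] at hS
  have e2 : algebraMap R A r + (c + 1 + b * r + a * b * c) • x
      = algebraMap R A 0 + (0 : R) • x := by
    rw [map_zero, zero_smul, add_zero, Algebra.smul_def]
    simp only [map_add, map_mul, map_one]
    linear_combination hS - (algebraMap R A b * algebraMap R A c) * ha'
  obtain ⟨hr0, h2⟩ := huniq _ _ _ _ e2
  rw [hr0, mul_zero, add_zero] at h2
  refine ⟨a, b, ha, hΔ', ?_⟩
  linear_combination (a * b + 2) * h2 - c * h1

end Groth.Agent.S18479
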