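import Groth.Statements.S18480
import Groth.Agent.Lib.Helper25.OortTate2
open Groth.Agent.Lib.Helper25 TensorProduct

set_option autoImplicit false
universe u v
open scoped TensorProduct
open OortTate

namespace Groth.Agent.S18480

/-- Let R be a commutative ring and let A and A' be commutative Hopf algebras over R whose augmentation
ideals are free of rank one with generators x and x', with constants a, b and a', b' ∈ R such that
x² = a x, Δ(x) = x ⊗ 1 + 1 ⊗ x + b x ⊗ x and x'² = a' x', Δ(x') = x' ⊗ 1 + 1 ⊗ x' + b' x' ⊗ x' (the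
group schemes of order two G_{a,b} and G_{a',b'}). Then A and A' are isomorphic as bialgebras over R
(G_{a,b} ≅ G_{a',b'} as group schemes) if and only if there is a unit s of R with a = a'·s and b' =
b·s. -/
theorem result
    (R : Type u) [CommRing R] (A : Type v) [CommRing A] [HopfAlgebra R A]
    (x : A) (hx : Bialgebra.counitAlgHom R A x = 0)
    (hgen : ∀ f : A, Bialgebra.counitAlgHom R A f = 0 → ∃ r : R, f = r • x)
    (hfree : ∀ r : R, r • x = 0 → r = 0)
    (a b : R) (hxa : x * x = a • x)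
    (hxb : Bialgebra.comulAlgHom R A x = x ⊗ₜ[R] 1 + 1 ⊗ₜ[R] x + b • (x ⊗ₜ[R] x))
    (A' : Type v) [CommRing A'] [HopfAlgebra R A']
    (x' : A') (hx' : Bialgebra.counitAlgHom R A' x' = 0)
    (hgen' : ∀ f : A', Bialgebra.counitAlgHom R A' f = 0 → ∃ r : R, f = r • x')
    (hfree' : ∀ r : R, r • x' = 0 → r = 0)
    (a' b' : R) (hxa' : x' * x' = a' • x')
    (hxb' : Bialgebra.comulAlgHom R A' x' = x' ⊗ₜ[R] 1 + 1 ⊗ₜ[R] x' + b' • (x' ⊗ₜ[R] x')) :
    Nonempty (A ≃ₐc[R] A') ↔ ∃ s : Rˣ, a = a' * (s : R) ∧ b' = b * (s : R) := by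
  have hA : OT2.OT R A x a b := ⟨hx, hgen, hfree, hxa, hxb⟩
  have hA' : OT2.OT R A' x' a' b' := ⟨hx', hgen', hfree', hxa', hxb'⟩
  constructor
  · rintro ⟨e⟩
    have h1 : Bialgebra.counitAlgHom R A' (e x) = 0 := by
      have := CoalgHomClass.counit_comp_apply e x
      show Coalgebra.counit (e x) = 0
      rw [this]; exact hx
    obtain ⟨s, hs⟩ := hgen' (e x) h1
    have h2 : Bialgebra.counitAlgHom R A (e.symm x') = 0 := by
      have := CoalgHomClass.counit_comp_apply e.symm x'
      show Coalgebra.counit (e.symm x') = 0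
      rw [this]; exact hx'
    obtain ⟨t, ht⟩ := hgen (e.symm x') h2
    have hst : s * t = 1 := by
      apply hA.uniq
      rw [one_smul, mul_smul, ← ht, ← map_smul, ← hs]; simp
    refine ⟨Units.mkOfMulEqOne s t hst, ?_, ?_⟩
    · have hm : e (x * x) = e x * e x := map_mul e x x
      rw [hxa, map_smul, hs, smul_mul_smul_comm, hxa', smul_smul, smul_smul] at hm
      have hh := hA'.uniq _ _ hm
      show a = a' * s
      calc a = a * (s * t) := by rw [hst, mul_one]
        _ = (a * s) * t := by ring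
        _ = (s * s * a') * t := by rw [hh]
        _ = a' * s * (s * t) := by ring
        _ = a' * s := by rw [hst, mul_one]
    · obtain ⟨lam, hlam⟩ := hA'.exists_lam
      have lam_x := hA'.lam_x lam hlam
      have lam_one : lam 1 = 0 := by have := hA'.lam_alg lam hlam 1; rwa [map_one] at this
      let T : A' ⊗[R] A' →ₗ[R] R :=
        (TensorProduct.lid R R).toLinearMap.comp (TensorProduct.map lam lam)
      have hT : ∀ y z, T (y ⊗ₜ z) = lam y * lam z := by intro y z; simp [T]
      have hc := CoalgHomClass.map_comp_comul_apply e x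
      have hxb0 : Coalgebra.comul (R := R) x = x ⊗ₜ[R] 1 + 1 ⊗ₜ[R] x + b • (x ⊗ₜ[R] x) := hxb
      have hxb0' : Coalgebra.comul (R := R) x' = x' ⊗ₜ[R] 1 + 1 ⊗ₜ[R] x' + b' • (x' ⊗ₜ[R] x') :=
        hxb'
      rw [hxb0, hs, map_smul, hxb0'] at hc
      simp only [map_add, map_smul, TensorProduct.map_tmul] at hc
      have hc' : (e x) ⊗ₜ[R] (e 1) + (e 1) ⊗ₜ[R] (e x) + b • (e x) ⊗ₜ[R] (e x)
          = s • (x' ⊗ₜ[R] 1 + 1 ⊗ₜ[R] x' + b' • x' ⊗ₜ[R] x') := hc
      rw [hs, map_one] at hc'
      have hc2 := congrArg T hc'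
      simp only [map_add, map_smul, hT, lam_x, lam_one, smul_eq_mul, mul_one, mul_zero, zero_mul,
        add_zero, zero_add] at hc2
      show b' = b * s
      linear_combination (-t) * hc2 - (b' - b * s) * hst
  · rintro ⟨su, ha, hb⟩
    obtain ⟨s, t, hst, hs⟩ : ∃ s t : R, s * t = 1 ∧ (su : R) = s :=
      ⟨su, ((su⁻¹ : Rˣ) : R), Units.mul_inv su, rfl⟩
    rw [hs] at ha hb
    obtain ⟨φ, φx, φc, φd⟩ := hA.exists_hom hA' s (by rw [ha]; ring) (by rw [hb]; ring)
    obtain ⟨ψ, ψx, ψc, ψd⟩ := hA'.exists_hom hA t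
      (by rw [ha]; linear_combination (-(a' * t)) * hst)
      (by rw [hb]; linear_combination (-(b * t)) * hst)
    have h12 : φ.comp ψ = AlgHom.id R A' := by
      apply hA'.algHom_ext
      rw [AlgHom.comp_apply, ψx, map_smul, φx, smul_smul, mul_comm, hst, one_smul]; rfl
    have h21 : ψ.comp φ = AlgHom.id R A := by
      apply hA.algHom_ext
      rw [AlgHom.comp_apply, φx, map_smul, ψx, smul_smul, hst, one_smul]; rfl
    refine ⟨BialgEquiv.ofAlgEquiv (AlgEquiv.ofAlgHom φ ψ h12 h21) ?_ ?_⟩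
    · exact φc
    · exact φd

end Groth.Agent.S18480
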