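import Groth.Statements.S18487
import Groth.Agent.Lib.Helper28.Neron.ProperDedekind
import Groth.Agent.Lib.Helper29.TorsorDesc
import Groth.Agent.S0086

set_option autoImplicit false
universe u
open CategoryTheory CategoryTheory.Limits AlgebraicGeometry MonObj
open NonAbH1

namespace Groth.Agent.S18487

/-- Let R be a Dedekind domain with fraction field K, G a proper flat group scheme over Spec R, and P a
Spec R-scheme with an action of G making it a G-torsor for the fppf topology (a pseudo-torsor
acquiring sections on the members of an fppf covering family). If P acquires a section over the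
generic point Spec K → Spec R, then P has a section over Spec R: a generically trivial torsor is
trivial. (The source allows any connected Dedekind scheme as base and torsors that are fppf sheaves,
shown there to be schemes; the affine base and scheme torsors are stated.) -/
theorem result (R : Type u) [CommRing R] [IsDedekindDomain R]
    (G : Over (Spec (CommRingCat.of R))) [GrpObj G] [IsProper G.hom] [Flat G.hom]
    (P : NonAbH1.TorsorSch G Scheme.fppfPrecoverage) (h : NonAbH1.HasSectionOver P.X (Neron.genPt R)) :
    NonAbH1.HasSectionOver P.X (𝟙 (Spec (CommRingCat.of R))) := by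
  have hT : NonAbH1.IsTorsorFor Scheme.fpqcPrecoverage P.act := by
    obtain ⟨hps, R', hR', hsec⟩ := P.isTorsor
    exact ⟨hps, R', Scheme.fppfPrecoverage_le_fpqcPrecoverage _ hR', hsec⟩
  have hprop : IsProper P.X.hom := by
    have := Groth.Agent.S0086.result.{u}
    exact Groth.Agent.Lib.Helper29.TorsorDesc.hom_of_isTorsorFor_fpqc @IsProper P.act hT
      inferInstance
  obtain ⟨s, hs⟩ := h
  obtain ⟨t, ht⟩ := Groth.Agent.Lib.Helper28.ProperDedekind.exists_section R P.X.hom s hs
  exact ⟨t, ht⟩

end Groth.Agent.S18487
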