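import Groth.Statements.S18490
import Mathlib

set_option autoImplicit false
universe u
open CategoryTheory CategoryTheory.Limits AlgebraicGeometry
open FlatMor

namespace Groth.Agent.S18490


theorem flat_of_retract {A B C : Type u} [CommRing A] [CommRing B] [CommRing C]
    (α : A →+* B) (β : B →+* C) (γ : C →+* B) (h : γ.comp β = RingHom.id B)
    (hf : (β.comp α).Flat) : α.Flat := by
  algebraize [α, β.comp α]
  let i : B →ₗ[A] C :=
    { toFun := β, map_add' := map_add β,
      map_smul' := fun a b => by
        simp only [Algebra.smul_def, map_mul, RingHom.id_apply]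
        rfl }
  let r : C →ₗ[A] B :=
    { toFun := γ, map_add' := map_add γ,
      map_smul' := fun a c => by
        simp only [Algebra.smul_def, map_mul, RingHom.id_apply]
        congr 1
        change γ (β (α a)) = α a
        exact RingHom.congr_fun h (α a) }
  have hri : r.comp i = LinearMap.id := by
    ext b
    exact RingHom.congr_fun h b
  exact Module.Flat.of_retract i r hri

/-- Let f : X → S and g : Y → S be morphisms of schemes and suppose that g has a section y : S → Y. If
the structure morphism X ×_S Y → S (first projection followed by f) is quasi-compact, then so is f;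
likewise for locally of finite type, for separated, and for flat. (Finite type, also listed in the
source, is the conjunction of the first two.) -/
theorem result {X Y S : Scheme.{u}} (f : X ⟶ S) (g : Y ⟶ S)
    (y : S ⟶ Y) (hy : y ≫ g = 𝟙 S) :
    (QuasiCompact (pullback.fst f g ≫ f) → QuasiCompact f) ∧
    (LocallyOfFiniteType (pullback.fst f g ≫ f) → LocallyOfFiniteType f) ∧
    (IsSeparated (pullback.fst f g ≫ f) → IsSeparated f) ∧
    (Flat (pullback.fst f g ≫ f) → Flat f) := by
  have hcond : 𝟙 X ≫ f = (f ≫ y) ≫ g := by
    rw [Category.id_comp, Category.assoc, hy, Category.comp_id]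
  set s : X ⟶ pullback f g := pullback.lift (𝟙 X) (f ≫ y) hcond with hs
  have hsπ : s ≫ pullback.fst f g = 𝟙 X := pullback.lift_fst _ _ _
  have hf : f = s ≫ (pullback.fst f g ≫ f) := by
    rw [← Category.assoc, hsπ, Category.id_comp]
  refine ⟨?_, ?_, ?_, ?_⟩
  · intro h
    rw [quasiCompact_iff] at h ⊢
    intro U hUo hUc
    have hsurj : Function.Surjective (pullback.fst f g) := by
      intro x
      refine ⟨s x, ?_⟩
      rw [← Scheme.Hom.comp_apply, hsπ]
      rfl
    have h1 := (h U hUo hUc).image (pullback.fst f g).continuous
    have h2 : (pullback.fst f g) '' ((pullback.fst f g ≫ f) ⁻¹' U) = f ⁻¹' U := by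
      have : ((pullback.fst f g ≫ f) ⁻¹' U : Set ↥(pullback f g)) =
          (pullback.fst f g) ⁻¹' (f ⁻¹' U) := by
        ext z
        simp only [Set.mem_preimage, Scheme.Hom.comp_apply]
      rw [this, Set.image_preimage_eq _ hsurj]
    rw [← h2]
    exact h1
  · intro h
    haveI : LocallyOfFiniteType (s ≫ pullback.fst f g) := by rw [hsπ]; infer_instance
    haveI : LocallyOfFiniteType s := locallyOfFiniteType_of_comp s (pullback.fst f g)
    rw [hf]
    infer_instance
  · intro h
    haveI : IsSeparated (s ≫ pullback.fst f g) := by rw [hsπ]; infer_instance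
    haveI : IsSeparated s := IsSeparated.of_comp s (pullback.fst f g)
    rw [hf]
    infer_instance
  · intro h
    rw [Flat.iff_flat_stalkMap] at h ⊢
    have key : ∀ x : X, (f.stalkMap (pullback.fst f g (s x))).hom.Flat := by
      intro x
      have h1 := h (s x)
      rw [Scheme.Hom.stalkMap_comp] at h1
      haveI : IsIso (s ≫ pullback.fst f g) := by rw [hsπ]; infer_instance
      have h2 : (s ≫ pullback.fst f g).stalkMap x =
          (pullback.fst f g).stalkMap (s x) ≫ s.stalkMap x := Scheme.Hom.stalkMap_comp _ _ _
      obtain ⟨j, hj, -⟩ := (inferInstance : IsIso ((s ≫ pullback.fst f g).stalkMap x)).out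
      rw [h2] at hj
      refine flat_of_retract (f.stalkMap (pullback.fst f g (s x))).hom
        ((pullback.fst f g).stalkMap (s x)).hom
        (s.stalkMap x ≫ j).hom ?_ h1
      refine RingHom.ext fun b => ?_
      exact congrArg (fun φ : X.presheaf.stalk ((s ≫ pullback.fst f g) x) ⟶
        X.presheaf.stalk ((s ≫ pullback.fst f g) x) => φ.hom b) hj
    intro x
    have hx : pullback.fst f g (s x) = x := by
      rw [← Scheme.Hom.comp_apply, hsπ]
      rfl
    have := key x
    rw [hx] at this
    exact this

end Groth.Agent.S18490
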