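import Groth.Statements.S18497
import Groth.Agent.Lib.Helper27.NeronDedE
import Groth.Agent.Lib.Helper27.NeronFinE

set_option autoImplicit false
universe u
open CategoryTheory CategoryTheory.Limits AlgebraicGeometry MonObj
open Neron

namespace Groth.Agent.S18497

/-- Let R be a Dedekind domain with fraction field K and G a finite étale group scheme over K. Then G
has a Néron model over Spec R which is separated, quasi-finite and étale: there are a Spec R-scheme
N and an isomorphism e of its generic fibre N_K with G such that N is smooth, separated and of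
finite type over Spec R with the Néron mapping property (for every smooth Spec R-scheme Y, g ↦ e ∘
g_K is a bijection from R-morphisms Y → N onto K-morphisms Y_K → G), and N → Spec R is étale and
locally quasi-finite. -/
theorem result (R : Type u) [CommRing R] [IsDedekindDomain R]
    (G : Over (Spec (CommRingCat.of (FractionRing R)))) [GrpObj G] [IsFinite G.hom] [Etale G.hom] :
    ∃ (N : Over (Spec (CommRingCat.of R))) (e : (Neron.genericFibre R).obj N ≅ G),
      Neron.IsNeronModelOf R N G e ∧ Etale N.hom ∧ LocallyQuasiFinite N.hom := by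
  obtain ⟨N, q, τ, hq1, hq2, hq3, hpb, hnmp⟩ :=
    Groth.Agent.Lib.Helper27.NeronDedE.exists_neron_of_finite_etale R (FractionRing R)
      (Neron.genPt R) rfl G.hom
  haveI := hq1
  haveI := hq2
  haveI := hq3
  obtain ⟨e, he⟩ : ∃ e : (Neron.genericFibre R).obj (Over.mk q) ≅ G,
      e.hom.left = hpb.isoPullback.inv :=
    ⟨Over.isoMk hpb.isoPullback.symm (hpb.isoPullback_inv_snd), rfl⟩
  refine ⟨Over.mk q, e, ⟨(inferInstance : Smooth q), hq2, (inferInstance : LocallyOfFiniteType q), hq3, ?_⟩, hq1,
    Groth.Agent.Lib.Helper27.NeronFinE.locallyQuasiFinite_of_etale q⟩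
  intro Y hY
  haveI : Smooth Y.hom := hY
  constructor
  · intro g₁ g₂ h12
    have h12' : (Neron.genericFibre R).map g₁ ≫ e.hom = (Neron.genericFibre R).map g₂ ≫ e.hom :=
      h12
    have h3 : (Neron.genericFibre R).map g₁ = (Neron.genericFibre R).map g₂ :=
      (cancel_mono e.hom).mp h12'
    have h4 : Limits.pullback.fst Y.hom (Neron.genPt R) ≫ g₁.left =
        Limits.pullback.fst Y.hom (Neron.genPt R) ≫ g₂.left := by
      have h5 := congrArg (fun m => m.left ≫ Limits.pullback.fst q (Neron.genPt R)) h3
      simp only [Over.pullback_map_left] at h5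
      erw [Limits.pullback.lift_fst, Limits.pullback.lift_fst] at h5
      exact h5
    obtain ⟨F, -, hFu⟩ := hnmp Y.hom (Limits.pullback.fst Y.hom (Neron.genPt R) ≫ g₁.left)
      (by rw [Category.assoc]; congr 1; exact Over.w g₁)
    have e1 := hFu g₁.left ⟨Over.w g₁, rfl⟩
    have e2 := hFu g₂.left ⟨Over.w g₂, h4.symm⟩
    exact Over.OverMorphism.ext (e1.trans e2.symm)
  · intro v
    have hv : v.left ≫ G.hom = Limits.pullback.snd Y.hom (Neron.genPt R) := Over.w v
    obtain ⟨F, ⟨hF1, hF2⟩, -⟩ := hnmp Y.hom (v.left ≫ τ)
      (by rw [Category.assoc, hpb.w, ← Category.assoc, hv, Limits.pullback.condition])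
    refine ⟨Over.homMk F hF1, ?_⟩
    apply Over.OverMorphism.ext
    show ((Neron.genericFibre R).map (Over.homMk F hF1)).left ≫ e.hom.left = v.left
    rw [he, Iso.comp_inv_eq]
    apply Limits.pullback.hom_ext
    · simp only [Over.pullback_map_left, Over.homMk_left, Limits.pullback.lift_fst,
        Category.assoc]
      exact hF2.trans (congrArg (v.left ≫ ·) hpb.isoPullback_hom_fst.symm)
    · simp only [Over.pullback_map_left, Limits.pullback.lift_snd, Category.assoc]
      exact hv.symm.trans (congrArg (v.left ≫ ·) hpb.isoPullback_hom_snd.symm)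

end Groth.Agent.S18497
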