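import Groth.Statements.S18498
import Mathlib

set_option autoImplicit false
universe u
open CategoryTheory CategoryTheory.Limits AlgebraicGeometry MonObj
open Neron

namespace Groth.Agent.S18498


namespace H18498
open CategoryTheory Limits AlgebraicGeometry TensorProduct

/-- The pushout of an injective ring map along a flat one is injective. -/
theorem inl_injective_of_isPushout {R' A K' P : CommRingCat.{u}} (f : R' ⟶ A) (g : R' ⟶ K')
    (inl : A ⟶ P) (inr : K' ⟶ P) (h : IsPushout f g inl inr) (hf : f.hom.Flat)
    (hg : Function.Injective g.hom) : Function.Injective inl.hom := by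
  algebraize [f.hom, g.hom]
  have h0 := CommRingCat.isPushout_tensorProduct R' A K'
  have h' : IsPushout (CommRingCat.ofHom (algebraMap R' A)) (CommRingCat.ofHom (algebraMap R' K'))
      inl inr := h
  have he : CommRingCat.ofHom (S := A ⊗[R'] K') Algebra.TensorProduct.includeLeftRingHom ≫
      (h0.isoIsPushout _ _ h').hom = inl := IsPushout.inl_isoIsPushout_hom _ _ h0 h'
  have hinj : Function.Injective
      (Algebra.TensorProduct.includeLeftRingHom : A →+* A ⊗[R'] K') := by
    have hflat := Module.Flat.lTensor_preserves_injective_linearMap (M := A)
      (Algebra.linearMap R' K') hg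
    intro a b hab
    have h1 : (Algebra.linearMap R' K').lTensor A (a ⊗ₜ 1) =
        (Algebra.linearMap R' K').lTensor A (b ⊗ₜ 1) := by
      simpa using hab
    have h2 := hflat h1
    simpa using congrArg (TensorProduct.rid R' A) h2
  rw [← he]
  have hiso : Function.Injective (h0.isoIsPushout _ _ h').hom.hom :=
    ((ConcreteCategory.isIso_iff_bijective (h0.isoIsPushout _ _ h').hom).mp inferInstance).1
  exact hiso.comp hinj

theorem affine_case (R : Type u) [CommRing R] [IsDomain R]
    (X Y : Over (Spec (CommRingCat.of R))) [IsAffine X.left] [Flat X.hom] [IsSeparated Y.hom]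
    (f g : X ⟶ Y)
    (h : (Neron.genericFibre R).map f = (Neron.genericFibre R).map g) : f = g := by
  -- the projection from the generic fibre
  have hpr : pullback.fst X.hom (Neron.genPt R) ≫ f.left =
      pullback.fst X.hom (Neron.genPt R) ≫ g.left := by
    have h1 := congrArg (fun φ => φ.left ≫ pullback.fst Y.hom (Neron.genPt R)) h
    simp only [Neron.genericFibre, Over.pullback, Over.homMk_left, pullback.lift_fst] at h1
    exact h1
  let pr' : Over.mk (pullback.fst X.hom (Neron.genPt R) ≫ X.hom) ⟶ X :=
    Over.homMk (pullback.fst X.hom (Neron.genPt R))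
  have hpr' : pr' ≫ f = pr' ≫ g := by
    ext1
    exact hpr
  have hlift : (equalizer.lift pr' hpr').left ≫ (equalizer.ι f g).left =
      pullback.fst X.hom (Neron.genPt R) := by
    rw [← Over.comp_left, equalizer.lift_ι]
    rfl
  -- injectivity of sections to the generic fibre
  have hpo := isPushout_appTop_of_isPullback (IsPullback.of_hasPullback X.hom (Neron.genPt R))
  have hflat : X.hom.appTop.hom.Flat :=
    (HasRingHomProperty.iff_of_isAffine (P := @Flat)).mp inferInstance
  have hginj : Function.Injective (Neron.genPt R).appTop.hom := by
    have hnat := Scheme.ΓSpecIso_naturality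
      (CommRingCat.ofHom (algebraMap R (FractionRing R)))
    have : (Neron.genPt R).appTop =
        (Scheme.ΓSpecIso (CommRingCat.of R)).hom ≫
          CommRingCat.ofHom (algebraMap R (FractionRing R)) ≫
          (Scheme.ΓSpecIso (CommRingCat.of (FractionRing R))).inv := by
      rw [← Category.assoc, ← hnat, Category.assoc, Iso.hom_inv_id, Category.comp_id]
    rw [this]
    have h1 : Function.Injective (Scheme.ΓSpecIso (CommRingCat.of R)).hom.hom :=
      ((ConcreteCategory.isIso_iff_bijective _).mp inferInstance).1
    have h2 : Function.Injective
        (Scheme.ΓSpecIso (CommRingCat.of (FractionRing R))).inv.hom :=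
      ((ConcreteCategory.isIso_iff_bijective _).mp inferInstance).1
    have h3 : Function.Injective (algebraMap R (FractionRing R)) :=
      IsFractionRing.injective R (FractionRing R)
    exact h2.comp (h3.comp h1)
  have hprinj : Function.Injective (pullback.fst X.hom (Neron.genPt R)).appTop.hom :=
    inl_injective_of_isPushout _ _ _ _ hpo hflat hginj
  -- the equalizer is everything
  have hci : IsClosedImmersion (equalizer.ι f g).left := inferInstance
  obtain ⟨haff, hsurj⟩ := IsClosedImmersion.isAffine_surjective_of_isAffine (equalizer.ι f g).left
  have hinj : Function.Injective (equalizer.ι f g).left.appTop.hom := by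
    have hcomp : (pullback.fst X.hom (Neron.genPt R)).appTop =
        (equalizer.ι f g).left.appTop ≫ (equalizer.lift pr' hpr').left.appTop := by
      rw [← Scheme.Hom.comp_appTop, hlift]
    rw [hcomp] at hprinj
    exact Function.Injective.of_comp hprinj
  haveI : IsIso (equalizer.ι f g).left.appTop :=
    (ConcreteCategory.isIso_iff_bijective _).mpr ⟨hinj, hsurj⟩
  haveI : IsIso (equalizer.ι f g).left :=
    (HasAffineProperty.iff_of_isAffine (P := MorphismProperty.isomorphisms Scheme)).mpr
      ⟨haff, inferInstance⟩
  ext1
  rw [← cancel_epi (equalizer.ι f g).left]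
  exact congr($(equalizer.condition f g).left)

end H18498

/-- Let R be a Dedekind domain with fraction field K, X a Spec R-scheme which is flat over Spec R, Y a
Spec R-scheme which is separated over Spec R, and f, g : X → Y two R-morphisms whose restrictions to
generic fibres X_K → Y_K are equal. Then f = g: an R-morphism from a flat R-scheme to a separated
R-scheme is determined by its generic fibre. (The source states this for algebraic spaces over a
connected Dedekind scheme; the case of schemes over an affine base is stated.) -/
theorem result (R : Type u) [CommRing R] [IsDedekindDomain R]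
    (X Y : Over (Spec (CommRingCat.of R))) [Flat X.hom] [IsSeparated Y.hom] (f g : X ⟶ Y)
    (h : (Neron.genericFibre R).map f = (Neron.genericFibre R).map g) : f = g := by
  ext1
  apply X.left.affineCover.hom_ext
  intro j
  let Xj : Over (Spec (CommRingCat.of R)) := Over.mk (X.left.affineCover.f j ≫ X.hom)
  let ιj : Xj ⟶ X := Over.homMk (X.left.affineCover.f j)
  haveI : IsAffine Xj.left := inferInstanceAs (IsAffine (X.left.affineCover.X j))
  haveI : Flat Xj.hom := inferInstanceAs (Flat (X.left.affineCover.f j ≫ X.hom))
  have key : ιj ≫ f = ιj ≫ g := by
    apply H18498.affine_case R Xj Y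
    rw [Functor.map_comp, Functor.map_comp, h]
  exact congr($(key).left)

end Groth.Agent.S18498
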