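import Groth.Statements.S18500
import Mathlib
import Groth.Agent.Lib.Helper16.SchImgDense
import Groth.Agent.Lib.Helper16.LocPGen
import Groth.Agent.Lib.Helper16.QuasiCompactMor
import Groth.Agent.Lib.Helper16.FppfLocal2

set_option autoImplicit false
universe u
open CategoryTheory CategoryTheory.Limits AlgebraicGeometry
open AlgSp

namespace Groth.Agent.S18500


open Groth.Agent.Lib.Helper16 Groth.Agent.Lib.Helper16.SchImg

section aux

theorem ringHom_flat_of_injective_of_isUnit {R B C : Type u} [CommRing R] [IsDedekindDomain R] [CommRing B]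
    [CommRing C] (ψ : R →+* B) (θ : B →+* C) (hθ : Function.Injective θ)
    (hu : ∀ r : R, r ≠ 0 → IsUnit (θ (ψ r))) : ψ.Flat := by
  algebraize [ψ]
  have : Module.IsTorsionFree R B := by
    refine Module.IsTorsionFree.of_smul_eq_zero fun r b h => ?_
    by_cases hr : r = 0
    · exact Or.inl hr
    · right
      apply hθ
      have h1 : θ (ψ r) * θ b = 0 := by
        rw [← map_mul, ← RingHom.algebraMap_toAlgebra ψ, ← Algebra.smul_def, h, map_zero]
      rw [map_zero]
      exact (hu r hr).mul_right_eq_zero.mp h1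
  exact inferInstanceAs (Module.Flat R B)

theorem ker_genPt (R : Type u) [CommRing R] [IsDomain R] : (Neron.genPt R).ker = ⊥ := by
  apply Scheme.IdealSheafData.ext_of_isAffine
  rw [Scheme.Hom.ker_apply]
  show RingHom.ker ((Neron.genPt R).appTop).hom = ⊥
  rw [← RingHom.injective_iff_ker_eq_bot]
  have hinj : Function.Injective ((Neron.genPt R).appTop ≫ (Scheme.ΓSpecIso _).hom).hom := by
    rw [Scheme.ΓSpecIso_naturality, CommRingCat.hom_comp, RingHom.coe_comp]
    exact (IsFractionRing.injective R (FractionRing R)).comp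
      (Scheme.ΓSpecIso (CommRingCat.of R)).commRingCatIsoToRingEquiv.injective
  rw [CommRingCat.hom_comp, RingHom.coe_comp] at hinj
  exact Function.Injective.of_comp hinj

instance (R : Type u) [CommRing R] [IsDomain R] : IsPreimmersion (Neron.genPt R) :=
  IsPreimmersion.of_isLocalization (nonZeroDivisors R)

instance (R : Type u) [CommRing R] [IsDomain R] : QuasiCompact (Neron.genPt R) := by
  unfold Neron.genPt; infer_instance

instance (R : Type u) [CommRing R] [IsDomain R] : Flat (Neron.genPt R) := by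
  rw [HasRingHomProperty.Spec_iff (P := @Flat)]
  exact RingHom.flat_algebraMap_iff.mpr inferInstance

theorem flat_imageι_comp {R : Type u} [CommRing R] [IsDedekindDomain R] {U' V : Scheme.{u}} (g : U' ⟶ V)
    [QuasiCompact g] (v : V ⟶ Spec (CommRingCat.of R)) (uK : U' ⟶ Spec (CommRingCat.of (FractionRing R)))
    (huK : g ≫ v = uK ≫ Neron.genPt R) : Flat (g.ker.subschemeι ≫ v) := by
  have hw : g.toImage ≫ (g.imageι ≫ v) = uK ≫ Neron.genPt R := by
    rw [← Category.assoc, g.toImage_imageι, huK]
  change Flat (g.imageι ≫ v)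
  apply IsZariskiLocalAtSource.of_iSup_eq_top (P := @Flat) (fun A : g.image.affineOpens => A.1)
    (iSup_affineOpens_eq_top _)
  intro A
  haveI : IsAffine A.1.toScheme := A.2
  rw [HasRingHomProperty.iff_of_isAffine (P := @Flat)]
  rw [← RingHom.Flat.respectsIso.cancel_left_isIso (Scheme.ΓSpecIso (CommRingCat.of R)).inv]
  have hker : (pullback.snd g.toImage A.1.ι).ker = ⊥ := by
    rw [SchImgKer.ker_of_isPullback_of_flat (IsPullback.of_hasPullback g.toImage A.1.ι), SchImgKer.ker_toImage,
      Scheme.IdealSheafData.comap_bot]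
  refine ringHom_flat_of_injective_of_isUnit _ (pullback.snd g.toImage A.1.ι).appTop.hom ?_ ?_
  · rw [RingHom.injective_iff_ker_eq_bot]
    have h1 := Scheme.Hom.ker_apply (pullback.snd g.toImage A.1.ι) ⟨⊤, isAffineOpen_top _⟩
    rw [hker] at h1
    exact h1.symm
  · intro r hr
    have h1 : (Scheme.ΓSpecIso (CommRingCat.of R)).inv ≫ (A.1.ι ≫ g.imageι ≫ v).appTop ≫
        (pullback.snd g.toImage A.1.ι).appTop =
        CommRingCat.ofHom (algebraMap R (FractionRing R)) ≫
          (Scheme.ΓSpecIso (CommRingCat.of (FractionRing R))).inv ≫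
            (pullback.fst g.toImage A.1.ι ≫ uK).appTop := by
      rw [← Scheme.Hom.comp_appTop, ← pullback.condition_assoc, hw, ← Category.assoc, Scheme.Hom.comp_appTop,
        ← Category.assoc, ← Category.assoc, Scheme.ΓSpecIso_inv_naturality]
    show IsUnit (((Scheme.ΓSpecIso (CommRingCat.of R)).inv ≫ (A.1.ι ≫ g.imageι ≫ v).appTop ≫
        (pullback.snd g.toImage A.1.ι).appTop).hom r)
    rw [h1]
    have hr' : IsUnit (algebraMap R (FractionRing R) r) :=
      IsUnit.mk0 _ (by rwa [Ne, map_eq_zero_iff _ (IsFractionRing.injective R (FractionRing R))])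
    exact hr'.map ((Scheme.ΓSpecIso (CommRingCat.of (FractionRing R))).inv ≫
            (pullback.fst g.toImage A.1.ι ≫ uK).appTop).hom

theorem hom_terminal_ext {S : Scheme.{u}} {F : Sp S} (a b : F ⟶ (yon S).obj (Over.mk (𝟙 S))) : a = b := by
  apply sp_hom_ext
  intro T z
  obtain ⟨a', ha'⟩ := (yon S).map_surjective (z ≫ a)
  obtain ⟨b', hb'⟩ := (yon S).map_surjective (z ≫ b)
  rw [← ha', ← hb', Over.mkIdTerminal.hom_ext a' b']

theorem mkIdTerminal_from_left {S : Scheme.{u}} (W : Over S) : (Over.mkIdTerminal.from W).left = W.hom := by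
  have := Over.w (Over.mkIdTerminal.from W)
  simpa using this

theorem isPullback_id_of_mono {C : Type*} [Category C] {A B D : C} (k : A ⟶ B) (pr : B ⟶ D) [Mono pr] :
    IsPullback (𝟙 A) k (k ≫ pr) pr :=
  IsPullback.of_isLimit' ⟨by simp⟩ (PullbackCone.IsLimit.mk _ (fun s => s.fst)
    (fun s => Category.comp_id _)
    (fun s => by rw [← cancel_mono pr, Category.assoc]; exact s.condition)
    (fun s m h1 _ => by rw [← h1, Category.comp_id]))

end aux


/-- Let R be a Dedekind domain with fraction field K, S = Spec R, and Y an algebraic space over S (an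
fppf sheaf on S-schemes with representable diagonal and an étale atlas), with structure map p : Y →
h_S; let Y_K → Y be its generic fibre, the pullback of p along h_{Spec K} → h_S; let k : H → Y_K be
a closed subspace (a representable closed immersion from an algebraic space) and i : Z → Y the
scheme theoretic image of the composite H → Y_K → Y. Then Z is flat over S (étale-locally on
charts), the square H → Z, H → Y_K, Z → Y, Y_K → Y is cartesian for the induced H → Z (the generic
fibre of Z is H), and Z is the unique such subspace: every closed subspace i' : Z' → Y which is flat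
over S and whose pullback along Y_K → Y is H (through some H → Z') is isomorphic to Z over Y. (The
source allows any connected Dedekind scheme as base; the affine base is stated.) -/
theorem result (R : Type u) [CommRing R] [IsDedekindDomain R]
    (Y YK H Z : AlgSp.Space (Spec (CommRingCat.of R)))
    (pY : Y.obj ⟶ (AlgSp.yon (Spec (CommRingCat.of R))).obj (Over.mk (𝟙 (Spec (CommRingCat.of R)))))
    (pr : YK ⟶ Y) (qK : YK.obj ⟶ (AlgSp.yon (Spec (CommRingCat.of R))).obj (Over.mk (Neron.genPt R)))
    (hYK : IsPullback pr.hom qK pY ((AlgSp.yon (Spec (CommRingCat.of R))).map (Over.mkIdTerminal.from (Over.mk (Neron.genPt R)))))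
    (k : H ⟶ YK) (hk : AlgSp.RepWith @IsClosedImmersion k.hom)
    (i : Z ⟶ Y) (hZ : AlgSp.IsSchImage (k.hom ≫ pr.hom) i.hom) :
    AlgSp.LocP @Flat (i.hom ≫ pY) ∧
    (∃ m : H ⟶ Z, m ≫ i = k ≫ pr ∧ IsPullback m.hom k.hom i.hom pr.hom) ∧
    (∀ (Z' : AlgSp.Space (Spec (CommRingCat.of R))) (i' : Z' ⟶ Y) (m' : H ⟶ Z'),
      AlgSp.RepWith @IsClosedImmersion i'.hom → AlgSp.LocP @Flat (i'.hom ≫ pY) →
      IsPullback m'.hom k.hom i'.hom pr.hom → ∃ e : Z ≅ Z', e.hom ≫ i' = i) := by
  classical
  let gen' : Over.mk (Neron.genPt R) ⟶ Over.mk (𝟙 (Spec (CommRingCat.of R))) :=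
    Over.mkIdTerminal.from (Over.mk (Neron.genPt R))
  have hgl : gen'.left = Neron.genPt R := mkIdTerminal_from_left _
  have hgenflat : Flat gen'.left := by rw [hgl]; infer_instance
  have hgenqc : QuasiCompact gen'.left := by rw [hgl]; infer_instance
  have hgenmono : Mono gen'.left := by rw [hgl]; infer_instance
  -- `pr` is flat, quasi-compact and a monomorphism
  have hprflat : LocP @Flat pr.hom :=
    locP_of_isPullback etLocalST_flat (IsAlgSpace.yon_obj _) (IsAlgSpace.yon_obj _) hYK.flip
      (locP_of_chart etLocalST_flat ((yon _).map gen') (𝟙 _) (𝟙 _) gen' (repWith_id _ _) (repWith_id _ _)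
        (repWith_id _ _) (by simp) hgenflat)
  have hprqc : RepWith @QuasiCompact pr.hom :=
    (RepWith @QuasiCompact).of_isPullback hYK.flip ((repWith_yon_map_iff _ _).2 hgenqc)
  haveI hprmono : Mono pr.hom :=
    mono_of_repWith (P := MorphismProperty.monomorphisms Scheme.{u}) le_rfl pr.hom
      ((RepWith (MorphismProperty.monomorphisms Scheme.{u})).of_isPullback hYK.flip
        ((repWith_yon_map_iff _ _).2 hgenmono))
  have hkqc : RepWith @QuasiCompact k.hom :=
    repWith_mono (fun _ _ f hf => by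
      have : IsClosedImmersion f := hf
      exact (inferInstance : QuasiCompact f)) _ hk
  have hqc : IsQuasiCompactMor (k.hom ≫ pr.hom) :=
    isQuasiCompactMor_of_repWith_quasiCompact _ ((RepWith @QuasiCompact).comp_mem _ _ hkqc hprqc)
  haveI hkmono : Mono k.hom := mono_of_repWith_isClosedImmersion _ hk
  haveI himono : Mono i.hom := mono_of_repWith_isClosedImmersion _ hZ.1
  refine ⟨?_, ?_, ?_⟩
  · -- flatness
    obtain ⟨V, U, p, g, ε, hpe, hps, hεe, hεs, hε, hgqc⟩ :=
      exists_qc_chart H.property Y.property (k.hom ≫ pr.hom) hqc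
    haveI := hgqc
    obtain ⟨q, sqZ⟩ := exists_isPullback_of_isSchImage Y.property Z.property (k.hom ≫ pr.hom) i.hom hZ p hpe hps
      g ε hεe hεs hε
    have hqe : RepWith @Etale q := (RepWith @Etale).of_isPullback sqZ.flip hpe
    have hqs : RepWith @Surjective q := (RepWith @Surjective).of_isPullback sqZ.flip hps
    refine locP_of_chart etLocalST_flat (i.hom ≫ pY) q (𝟙 _) (Over.mkIdTerminal.from _) hqe hqs
      (repWith_id _ _) (hom_terminal_ext _ _) ?_
    rw [mkIdTerminal_from_left]
    obtain ⟨u, hu⟩ := (yon _).map_surjective (ε ≫ pullback.fst (k.hom ≫ pr.hom) p ≫ k.hom ≫ qK)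
    exact flat_imageι_comp g.left V.hom u.left (by rw [Over.w g]; exact (Over.w u).symm)
  · -- the generic fibre of `Z` is `H`
    have sqV : IsPullback (𝟙 H.obj) k.hom (k.hom ≫ pr.hom) pr.hom := isPullback_id_of_mono _ _
    have hsch : IsSchImage k.hom (pullback.snd i.hom pr.hom) :=
      isSchImage_flat_baseChange YK.property Y.property H.property Z.property pr.hom hprflat (k.hom ≫ pr.hom) hqc
        i.hom hZ (𝟙 _) k.hom sqV (pullback.fst i.hom pr.hom) (pullback.snd i.hom pr.hom)
        (IsPullback.of_hasPullback _ _)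
    obtain ⟨κ, hκ⟩ := hsch.2.2 k.hom H.property hk ⟨𝟙 _, Category.id_comp _⟩
    obtain ⟨m₀, hm₀⟩ := hZ.2.1
    have h1 : pullback.lift m₀ k.hom hm₀ ≫ κ = 𝟙 _ := by
      rw [← cancel_mono k.hom, Category.assoc, hκ, pullback.lift_snd, Category.id_comp]
    have h2 : κ ≫ pullback.lift m₀ k.hom hm₀ = 𝟙 _ := by
      apply pullback.hom_ext
      · rw [Category.assoc, pullback.lift_fst, Category.id_comp, ← cancel_mono i.hom, Category.assoc, hm₀,
          ← Category.assoc, hκ, pullback.condition]
      · rw [Category.assoc, pullback.lift_snd, hκ, Category.id_comp]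
    refine ⟨ObjectProperty.homMk m₀, ObjectProperty.hom_ext _ hm₀, ?_⟩
    exact IsPullback.of_iso_pullback ⟨hm₀⟩ ⟨pullback.lift m₀ k.hom hm₀, κ, h1, h2⟩ (pullback.lift_fst _ _ _)
      (pullback.lift_snd _ _ _)
  · -- uniqueness
    intro Z' i' m' hi' hflat' sq'
    haveI hi'mono : Mono i'.hom := mono_of_repWith_isClosedImmersion _ hi'
    obtain ⟨V, p, hpe, hps⟩ := Y.property.atlas
    have sqW := hi'.rep.isPullback p
    haveI hjcl : IsClosedImmersion (hi'.rep.snd p).left := hi'.property_snd p
    have hqe : RepWith @Etale (hi'.rep.fst p) := (RepWith @Etale).of_isPullback sqW.flip hpe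
    have hWf : Flat (hi'.rep.pullback p).hom := by
      rw [← mkIdTerminal_from_left]
      exact hflat' (hi'.rep.fst p) (𝟙 _) (Over.mkIdTerminal.from _) hqe (repWith_id _ _) (hom_terminal_ext _ _)
    let U' : Over (Spec (CommRingCat.of R)) :=
      Over.mk (pullback.fst (hi'.rep.pullback p).hom (Neron.genPt R) ≫ (hi'.rep.pullback p).hom)
    let π : U' ⟶ hi'.rep.pullback p := Over.homMk (pullback.fst _ _) rfl
    let uK' : U' ⟶ Over.mk (Neron.genPt R) := Over.homMk (pullback.snd _ _) pullback.condition.symm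
    let toYK : (yon _).obj U' ⟶ YK.obj :=
      hYK.lift ((yon _).map π ≫ hi'.rep.fst p ≫ i'.hom) ((yon _).map uK') (hom_terminal_ext _ _)
    let e : (yon _).obj U' ⟶ H.obj :=
      sq'.lift ((yon _).map π ≫ hi'.rep.fst p) toYK (by rw [Category.assoc, hYK.lift_fst])
    have hw : e ≫ (k.hom ≫ pr.hom) = (yon _).map (π ≫ hi'.rep.snd p) ≫ p := by
      rw [← Category.assoc, sq'.lift_snd, hYK.lift_fst, sqW.w, Functor.map_comp, Category.assoc]
    have hπker : (pullback.fst (hi'.rep.pullback p).hom (Neron.genPt R)).ker = ⊥ := by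
      rw [SchImgKer.ker_of_isPullback_of_flat (IsPullback.of_hasPullback (hi'.rep.pullback p).hom (Neron.genPt R)).flip,
        ker_genPt, Scheme.IdealSheafData.comap_bot]
    have hker : (π ≫ hi'.rep.snd p).left.ker ≤ (hi'.rep.snd p).left.ker := by
      show (pullback.fst (hi'.rep.pullback p).hom (Neron.genPt R) ≫ (hi'.rep.snd p).left).ker ≤ _
      rw [Scheme.Hom.ker_comp, hπker, Scheme.IdealSheafData.map_bot]
    have hZ' : IsSchImage (k.hom ≫ pr.hom) i'.hom :=
      isSchImage_of_chart (k.hom ≫ pr.hom) i'.hom hi' ⟨m'.hom, sq'.w⟩ p hpe hps e (π ≫ hi'.rep.snd p) hw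
        (hi'.rep.snd p) (hi'.rep.fst p) sqW hker
    obtain ⟨κ₁, hκ₁⟩ := hZ.2.2 i'.hom Z'.property hi' ⟨m'.hom, sq'.w⟩
    obtain ⟨κ₂, hκ₂⟩ := hZ'.2.2 i.hom Z.property hZ.1 hZ.2.1
    have h12 : κ₁ ≫ κ₂ = 𝟙 _ := by
      rw [← cancel_mono i.hom, Category.assoc, hκ₂, hκ₁, Category.id_comp]
    have h21 : κ₂ ≫ κ₁ = 𝟙 _ := by
      rw [← cancel_mono i'.hom, Category.assoc, hκ₁, hκ₂, Category.id_comp]
    exact ⟨⟨ObjectProperty.homMk κ₁, ObjectProperty.homMk κ₂, ObjectProperty.hom_ext _ h12,
      ObjectProperty.hom_ext _ h21⟩, ObjectProperty.hom_ext _ hκ₁⟩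
end Groth.Agent.S18500
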