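import Groth.Statements.S18522
import Mathlib
import Groth.Agent.Lib.Helper25.ParShS
import Groth.Agent.Lib.Helper25.ParShT
import Groth.Agent.Lib.Helper23.GeomConn
set_option linter.style.haveILetI false

set_option autoImplicit false
universe u
open CategoryTheory CategoryTheory.Limits AlgebraicGeometry
open ParSh

namespace Groth.Agent.S18522

/-- Let k be an algebraically closed field of characteristic zero, X a smooth proper geometrically
connected curve over k (topological dimension one) of genus g ≥ 2, and I the ideal of a reduced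
effective Cartier divisor on X (a finite set of points). Let E and F be finite locally free
O_X-modules of ranks r and s with parabolic structures 𝓔 and 𝓕 along I, and φ : E → F a parabolic
homomorphism. Factor φ as an epimorphism q : E → V followed by monomorphisms u : V → V' and ι : V' →
F, where V and V' are finite locally free of the same rank r'' and the cokernel of ι is finite
locally free, so that V is the image of φ and V' the sub-bundle of F it generates. Give V the
structure induced from 𝓔 as a quotient and V' the structure induced from 𝓕 as a sub-module. Then the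
parabolic degree of V is at most the parabolic degree of V' (parabolic degree in rank r'' being χ −
r''·χ(O_X) plus the sum of the weights times the Euler characteristics of the successive filtration
quotients). The published statement is set with E carrying a semistable structure with trivial
determinant and F carrying the same weights as E; neither assumption is used. -/
theorem result (k : Type u) [Field k] [IsAlgClosed k] [CharZero k]
    (X : Scheme.{u}) [X.Over (Spec (CommRingCat.of k))]
    [IsProper (X ↘ Spec (CommRingCat.of k))] [Smooth (X ↘ Spec (CommRingCat.of k))]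
    [GeometricallyConnected (X ↘ Spec (CommRingCat.of k))] (hdim : topologicalKrullDim ↥X = 1)
    (g : ℕ) (hg : Curv2.genus k X = g) (hg2 : 2 ≤ g)
    (I : X.IdealSheafData) (hD : FGA.IsEffCartier I) [AlgebraicGeometry.IsReduced I.subscheme]
    {E F V V' : X.Modules} (r s r'' : ℕ) (hE : FlatMod.IsFinLocFreeOfRank r E)
    (hF : FlatMod.IsFinLocFreeOfRank s F)
    (𝓔 : ParSh.Str E) (h𝓔 : 𝓔.Along I) (𝓕 : ParSh.Str F) (h𝓕 : 𝓕.Along I)
    (φ : E ⟶ F) (hφ : ParSh.IsParHom 𝓔 𝓕 φ)
    (q : E ⟶ V) [Epi q] (u : V ⟶ V') [Mono u] (ι : V' ⟶ F) [Mono ι] (hfac : q ≫ u ≫ ι = φ)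
    (hV : FlatMod.IsFinLocFreeOfRank r'' V) (hV' : FlatMod.IsFinLocFreeOfRank r'' V')
    (hsat : FlatMod.IsFinLocFree (cokernel ι)) :
    (𝓔.coinduced q).parDeg k X r'' ≤ (𝓕.induced ι).parDeg k X r'' := by
  classical
  haveI : IsIntegral X :=
    Groth.Agent.Lib.Helper23.GeomConn.isIntegral_of_geomConnected_smooth k X
  haveI : IsNoetherian X := Groth.Agent.Lib.Helper23.Curve.isNoetherian_of_isProper k X
  haveI : TopologicalSpace.NoetherianSpace X := inferInstance
  have hdim' : topologicalKrullDim X ≤ 1 := le_of_eq hdim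
  have hD' : BlowUp.IsEffCartierIdeal I := hD
  have hIinv : PicF.IsInvertible (ClSub.idealMod I) :=
    (Groth.Agent.Lib.Helper17.EffCartMod.isInvertible_idealMod_iff I).mpr hD'
  have hIcoh : Coh.IsCoh (ClSub.idealMod I) :=
    Groth.Agent.Lib.Helper23.Curve.isCoh_of_isInvertible hIinv
  obtain ⟨hfin, hpt⟩ := Groth.Agent.Lib.Helper23.EffCart.support_finite k X hdim' I hD'
  let Z : Finset X := hfin.toFinset
  have hZ : (I.support : Set X) ⊆ (Z : Set X) := by
    intro x hx
    simpa [Z] using hx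
  have hZcl : ∀ z ∈ Z, IsClosed ({z} : Set X) := fun z hz => hpt z (by simpa [Z] using hz)
  have hVc := Groth.Agent.Lib.Helper23.Curve.isCoh_of_isFinLocFreeOfRank hV
  have hV'c := Groth.Agent.Lib.Helper23.Curve.isCoh_of_isFinLocFreeOfRank hV'
  have cohV : ∀ T : Subobject V, ParSh.twistSub I V ≤ T → Coh.IsCoh (T : X.Modules) :=
    fun T hT => Groth.Agent.Lib.Helper25.ParShP.isCoh_of_twistSub_le I hIcoh.1 hVc Z hZ hZcl T hT
  have cohV' : ∀ T : Subobject V', ParSh.twistSub I V' ≤ T → Coh.IsCoh (T : X.Modules) :=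
    fun T hT => Groth.Agent.Lib.Helper25.ParShP.isCoh_of_twistSub_le I hIcoh.1 hV'c Z hZ hZcl T hT
  -- the bottoms
  have hbV : (𝓔.coinduced q).bot = ParSh.twistSub I V := by
    show imageSubobject (𝓔.bot.arrow ≫ q) = _
    rw [h𝓔]
    exact Groth.Agent.Lib.Helper25.ParShT.imageSubobject_twistSub_comp I hIinv q
  obtain ⟨mC, hCr⟩ := Groth.Agent.Lib.Helper25.ParShT.exists_rank_of_isFinLocFree hsat
  have hCm : Mono (ParSh.twistMap I (cokernel ι)) :=
    Groth.Agent.Lib.Helper25.ParShT.mono_twistMap I hCr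
  have hbV' : (𝓕.induced ι).bot = ParSh.twistSub I V' := by
    show (Subobject.pullback ι).obj 𝓕.bot = _
    rw [h𝓕]
    exact Groth.Agent.Lib.Helper25.ParShT.pullback_twistSub_eq I hIinv ι hCm
  have e1 := Groth.Agent.Lib.Helper25.ParShT.euler_twistSub k I hD' hfin hpt hV
  have e2 := Groth.Agent.Lib.Helper25.ParShT.euler_twistSub k I hD' hfin hpt hV'
  rw [← hbV] at e1
  rw [← hbV'] at e2
  have hatV : ∀ a, ParSh.twistSub I V ≤ (𝓔.coinduced q).at a := fun a =>
    hbV.symm.le.trans ((𝓔.coinduced q).bot_le_at a)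
  have hatV' : ∀ a, ParSh.twistSub I V' ≤ (𝓕.induced ι).at a := fun a =>
    hbV'.symm.le.trans ((𝓕.induced ι).bot_le_at a)
  -- vanishing of the cokernel of `u`
  obtain ⟨D, hDne, hDvan⟩ :=
    Groth.Agent.Lib.Helper23.VBMaps.exists_vanishesOn_cokernel_of_mono₂ hV hV' u
  have hne : (D : Set X)ᶜ ≠ Set.univ := by
    intro h
    obtain ⟨x, hx⟩ := hDne
    have : x ∈ (D : Set X)ᶜ := h ▸ Set.mem_univ x
    exact this hx
  obtain ⟨hZ₂fin, hZ₂cl⟩ := Groth.Agent.Lib.Helper23.Curve.finite_of_isClosed_ne_univ hdim' _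
    D.isOpen.isClosed_compl hne
  have hvanU : ∀ W : X.Opens, Disjoint (W : Set X) (D : Set X)ᶜ →
      ∀ t : (cokernel u).val.obj (Opposite.op W), t = 0 := by
    intro W hW t
    refine hDvan W (fun x hx => ?_) t
    by_contra hxD
    exact Set.disjoint_left.1 hW hx hxD
  -- the pointwise comparison
  have G1 : ∀ a : ℝ, 0 ≤ a → a ≤ 1 →
      Curv2.euler k X (((𝓔.coinduced q).at a : Subobject V) : X.Modules) ≤
        Curv2.euler k X (((𝓕.induced ι).at a : Subobject V') : X.Modules) := by
    intro a h0 h1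
    have hfac' : (𝓕.at a).Factors (((𝓔.at a).arrow ≫ q) ≫ (u ≫ ι)) := by
      have := hφ a h0 h1
      rwa [← hfac, ← Category.assoc] at this
    have hle : (𝓔.coinduced q).at a ≤ (Subobject.pullback u).obj ((𝓕.induced ι).at a) := by
      rw [Groth.Agent.Lib.Helper25.ParShS.at_coinduced, Groth.Agent.Lib.Helper25.ParShS.at_induced,
        ← Subobject.pullback_comp]
      exact Groth.Agent.Lib.Helper25.ParShE.imageSubobject_le_pullback ((𝓔.at a).arrow ≫ q)
        (u ≫ ι) (𝓕.at a) hfac'
    have hA''bot : ParSh.twistSub I V ≤ (Subobject.pullback u).obj ((𝓕.induced ι).at a) :=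
      (Groth.Agent.Lib.Helper25.ParShE.twistSub_le_pullback I u).trans
        ((Subobject.pullback u).monotone (hatV' a))
    have cA'' := cohV _ hA''bot
    have s1 := Groth.Agent.Lib.Helper25.ParShT.euler_le_of_le k ((𝓔.coinduced q).at a) _ hle
      (cohV _ (hatV a)) cA'' (I.support : Set X) hfin hpt
      (Groth.Agent.Lib.Helper25.ParShT.vanish_cokernel_arrow I V _ (hatV a))
    have s2 := Groth.Agent.Lib.Helper25.ParShT.euler_pullback_le k u ((𝓕.induced ι).at a) cA''
      (cohV' _ (hatV' a)) (D : Set X)ᶜ hZ₂fin hZ₂cl hvanU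
    exact s1.trans s2
  -- the step functions
  have key := Groth.Agent.Lib.Helper25.ParShR.sum_le_of_step_le
    ((𝓔.coinduced q).l + 1) ((𝓕.induced ι).l + 1) (𝓔.coinduced q).wt (𝓕.induced ι).wt
    (fun j => ((Curv2.euler k X ((𝓔.coinduced q).piece j : X.Modules) : ℤ) : ℝ) -
      ((Curv2.euler k X ((𝓔.coinduced q).pieceX j.succ : X.Modules) : ℤ) : ℝ))
    (fun j => ((Curv2.euler k X ((𝓕.induced ι).piece j : X.Modules) : ℤ) : ℝ) -
      ((Curv2.euler k X ((𝓕.induced ι).pieceX j.succ : X.Modules) : ℤ) : ℝ))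
    (((Curv2.euler k X V' : ℤ) : ℝ) - ((Curv2.euler k X V : ℤ) : ℝ))
    (fun j => ⟨Groth.Agent.Lib.Helper25.ParShD.wt_nonneg' _ j,
      Groth.Agent.Lib.Helper25.ParShD.wt_le_one _ j⟩)
    (fun j => ⟨Groth.Agent.Lib.Helper25.ParShD.wt_nonneg' _ j,
      Groth.Agent.Lib.Helper25.ParShD.wt_le_one _ j⟩)
    (by
      intro a h0 h1
      have f1 := Groth.Agent.Lib.Helper25.ParShS.f_at_sub (𝓔.coinduced q)
        (fun M : X.Modules => ((Curv2.euler k X M : ℤ) : ℝ)) a
      have f2 := Groth.Agent.Lib.Helper25.ParShS.f_at_sub (𝓕.induced ι)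
        (fun M : X.Modules => ((Curv2.euler k X M : ℤ) : ℝ)) a
      rw [← f1, ← f2]
      have g1 : ((Curv2.euler k X (((𝓔.coinduced q).at a : Subobject V) : X.Modules) : ℤ) : ℝ) ≤
          ((Curv2.euler k X (((𝓕.induced ι).at a : Subobject V') : X.Modules) : ℤ) : ℝ) := by
        exact_mod_cast G1 a h0 h1
      have e1' : ((Curv2.euler k X V : ℤ) : ℝ) =
          ((Curv2.euler k X ((𝓔.coinduced q).bot : X.Modules) : ℤ) : ℝ) +
            (r'' : ℝ) * ((Curv2.euler k X (ClSub.quotMod I) : ℤ) : ℝ) := by exact_mod_cast e1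
      have e2' : ((Curv2.euler k X V' : ℤ) : ℝ) =
          ((Curv2.euler k X ((𝓕.induced ι).bot : X.Modules) : ℤ) : ℝ) +
            (r'' : ℝ) * ((Curv2.euler k X (ClSub.quotMod I) : ℤ) : ℝ) := by exact_mod_cast e2
      linarith)
  unfold ParSh.Str.parDeg ParSh.Str.parWt Curv2.deg
  push_cast
  linarith

end Groth.Agent.S18522
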