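import Groth.Statements.S18523
import Mathlib
import Groth.Agent.S18522
import Groth.Agent.Lib.Helper25.ParShV
set_option linter.style.haveILetI false

set_option autoImplicit false
universe u
open CategoryTheory CategoryTheory.Limits AlgebraicGeometry
open ParSh

namespace Groth.Agent.S18523

/-- Let k be an algebraically closed field of characteristic zero, X a smooth proper geometrically
connected curve over k (topological dimension one) of genus g ≥ 2, and I the ideal of a reduced
effective Cartier divisor on X. Let F be a finite locally free O_X-module of rank r with a parabolic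
structure 𝓕 along I which is parabolic stable: for every finite locally free sub-module F₁ → F of
rank r₁ with 0 < r₁ < r, the structure induced on F₁ has r·par-deg(F₁) < r₁·par-deg(F). Let 0 → F' →
F → F'' → 0 be a parabolic extension (a short exact sequence in which F' carries the structure
induced from 𝓕 as a sub-module and F'' the structure induced as a quotient) with F' and F'' finite
locally free. Then every parabolic homomorphism F'' → F' is zero. The published statement tests
stability on quotient bundles; on a smooth proper curve this singles out the same parabolic bundles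
as the test on sub-modules used here. -/
theorem result (k : Type u) [Field k] [IsAlgClosed k] [CharZero k]
    (X : Scheme.{u}) [X.Over (Spec (CommRingCat.of k))]
    [IsProper (X ↘ Spec (CommRingCat.of k))] [Smooth (X ↘ Spec (CommRingCat.of k))]
    [GeometricallyConnected (X ↘ Spec (CommRingCat.of k))] (hdim : topologicalKrullDim ↥X = 1)
    (g : ℕ) (hg : Curv2.genus k X = g) (hg2 : 2 ≤ g)
    (I : X.IdealSheafData) (hD : FGA.IsEffCartier I) [AlgebraicGeometry.IsReduced I.subscheme]
    {F F' F'' : X.Modules} (r : ℕ) (hF : FlatMod.IsFinLocFreeOfRank r F)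
    (𝓕 : ParSh.Str F) (h𝓕 : 𝓕.Along I) (hst : ParSh.IsParStable k X 𝓕 r)
    (i : F' ⟶ F) (p : F ⟶ F'') [Epi p] (𝓕' : ParSh.Str F') (𝓕'' : ParSh.Str F'')
    (hext : ParSh.IsParExt i p 𝓕' 𝓕 𝓕'') (hF' : FlatMod.IsFinLocFree F') (hF'' : FlatMod.IsFinLocFree F'')
    (φ : F'' ⟶ F') (hφ : ParSh.IsParHom 𝓕'' 𝓕' φ) : φ = 0 := by
  classical
  haveI : IsIntegral X :=
    Groth.Agent.Lib.Helper23.GeomConn.isIntegral_of_geomConnected_smooth k X
  haveI : IsNoetherian X := Groth.Agent.Lib.Helper23.Curve.isNoetherian_of_isProper k X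
  have hdim' : topologicalKrullDim X ≤ 1 := le_of_eq hdim
  have hD' : BlowUp.IsEffCartierIdeal I := hD
  have hIinv : PicF.IsInvertible (ClSub.idealMod I) :=
    (Groth.Agent.Lib.Helper17.EffCartMod.isInvertible_idealMod_iff I).mpr hD'
  have hIcoh : Coh.IsCoh (ClSub.idealMod I) :=
    Groth.Agent.Lib.Helper23.Curve.isCoh_of_isInvertible hIinv
  obtain ⟨hfin, hpt⟩ := Groth.Agent.Lib.Helper23.EffCart.support_finite k X hdim' I hD'
  let Z : Finset X := hfin.toFinset
  have hZ : (I.support : Set X) ⊆ (Z : Set X) := by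
    intro x hx
    simpa [Z] using hx
  have hZcl : ∀ z ∈ Z, IsClosed ({z} : Set X) := fun z hz => hpt z (by simpa [Z] using hz)
  have hFc := Groth.Agent.Lib.Helper23.Curve.isCoh_of_isFinLocFreeOfRank hF
  have hcoh : ∀ j, Coh.IsCoh ((𝓕.pieceX j : Subobject F) : X.Modules) := fun j =>
    Groth.Agent.Lib.Helper25.ParShP.isCoh_of_twistSub_le I hIcoh.1 hFc Z hZ hZcl _
      ((le_of_eq (show ParSh.twistSub I F = 𝓕.bot from h𝓕.symm)).trans (𝓕.bot_le_pieceX j))
  obtain ⟨w, hS, h1, h2⟩ := hext
  subst h1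
  subst h2
  by_contra hne
  haveI : Mono i := hS.mono_f
  obtain ⟨ψ, hψ⟩ : ∃ ψ : F ⟶ F, ψ = p ≫ φ ≫ i := ⟨_, rfl⟩
  have hψne : ψ ≠ 0 := by
    intro h0
    apply hne
    rw [hψ] at h0
    have h2 : φ ≫ i = 0 := by
      rw [← cancel_epi p, h0, comp_zero]
    rw [← cancel_mono i, h2, zero_comp]
  have hψ2 : ψ ≫ ψ = 0 := by
    rw [hψ, Category.assoc, Category.assoc, ← Category.assoc i, w, zero_comp, comp_zero,
      comp_zero]
  have hψpar : ParSh.IsParHom 𝓕 𝓕 ψ := by
    rw [hψ]
    exact Groth.Agent.Lib.Helper25.ParShV.isParHom_comp 𝓕 (𝓕.coinduced p) 𝓕 p (φ ≫ i)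
      (Groth.Agent.Lib.Helper25.ParShV.isParHom_coinduced 𝓕 p)
      (Groth.Agent.Lib.Helper25.ParShV.isParHom_comp (𝓕.coinduced p) (𝓕.induced i) 𝓕 φ i hφ
        (Groth.Agent.Lib.Helper25.ParShV.isParHom_induced 𝓕 i))
  obtain ⟨a, b, hK, hI, hrank, hdeg, hb0, ha0, -, -⟩ :=
    Groth.Agent.Lib.Helper23.VBMaps.map_analysis k hdim' hF hF ψ
  have hbpos : 0 < b := by
    rcases Nat.eq_zero_or_pos b with h | h
    · exact absurd (hb0 h) hψne
    · exact h
  have hapos : 0 < a := by
    rcases Nat.eq_zero_or_pos a with h | h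
    · exfalso
      haveI := (ha0 h).1
      apply hψne
      rw [← cancel_mono ψ, hψ2, zero_comp]
    · exact h
  haveI : Mono (Abelian.factorThruCoimage ψ) := inferInstance
  obtain ⟨G', C', i', p', w', u, c, hS', hu, hG', hC', -, -, -, -⟩ :=
    Groth.Agent.Lib.Helper23.Sat.exists_saturation k hdim' hI hF (Abelian.factorThruCoimage ψ)
  haveI : Mono i' := hS'.mono_f
  haveI : Mono u := mono_of_mono_fac hu
  have hfacψ : Abelian.coimage.π ψ ≫ u ≫ i' = ψ := by
    rw [hu]
    exact Abelian.coimage.fac ψ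
  have hsat : FlatMod.IsFinLocFree (cokernel i') :=
    Groth.Agent.Lib.Helper25.ParShV.isFinLocFree_cokernel_of_shortExact i' p' w' hS' hC'
  have s3 := Groth.Agent.S18522.result k X hdim g hg hg2 I hD r r b hF hF 𝓕 h𝓕 𝓕 h𝓕 ψ hψpar
    (Abelian.coimage.π ψ) u i' hfacψ hI hG' hsat
  have s1 := hst (kernel ψ) a (kernel.ι ψ) inferInstance hapos (by omega) hK
  have s2 := hst G' b i' inferInstance hbpos (by omega) hG'
  have hVcoh := Groth.Agent.Lib.Helper23.Curve.isCoh_of_isFinLocFreeOfRank hI
  have add := Groth.Agent.Lib.Helper25.ParShV.parDeg_add k (kernel.ι ψ) (Abelian.coimage.π ψ)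
    (cokernel.condition _) (Groth.Agent.Lib.Helper17.DevKey.shortExact_of_mono (kernel.ι ψ))
    hVcoh 𝓕 hcoh a r b hdeg
  have hr : (r : ℝ) = (a : ℝ) + (b : ℝ) := by exact_mod_cast hrank
  have key : ∀ (P PK PV PV' ra rb rr : ℝ), 0 ≤ rr → rr = ra + rb → PK * rr < P * ra →
      PV' * rr < P * rb → PV ≤ PV' → P = PK + PV → False := by
    intro P PK PV PV' ra rb rr h0 hr s1 s2 s3 add
    have h5 := mul_le_mul_of_nonneg_right s3 h0
    subst add
    subst hr
    nlinarith
  exact key _ _ _ _ _ _ _ (Nat.cast_nonneg r) hr s1 s2 s3 add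

end Groth.Agent.S18523
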