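import Groth.Statements.S18538
import Mathlib

set_option autoImplicit false
universe u
open EtAlg

namespace Groth.Agent.S18538

/-- Let A ⊆ B be an injective finite extension of integrally closed domains, with fraction fields K ⊆ L
and L separable over K. Then A → B → B ⊗_A B is exact, the second map being b ↦ b ⊗ 1 - 1 ⊗ b: every
element of B whose two images in B ⊗_A B agree comes from A. -/
theorem result
    (A B K L : Type u) [CommRing A] [CommRing B] [IsDomain A] [IsDomain B]
    [IsIntegrallyClosed A] [IsIntegrallyClosed B] [Algebra A B] [FaithfulSMul A B] [Module.Finite A B]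
    [Field K] [Field L] [Algebra A K] [IsFractionRing A K] [Algebra B L] [IsFractionRing B L]
    [Algebra K L] [Algebra A L] [IsScalarTower A K L] [IsScalarTower A B L]
    [Algebra.IsSeparable K L] :
    Algebra.IsEffective A B := by
  classical
  intro b
  constructor
  · intro hb
    -- additive map B ⊗[A] B →+ L ⊗[K] L
    let f : B →+ B →+ TensorProduct K L L :=
      { toFun := fun x =>
          { toFun := fun y => (algebraMap B L x) ⊗ₜ[K] (algebraMap B L y)
            map_zero' := by simp
            map_add' := fun y z => by rw [map_add, TensorProduct.tmul_add] }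
        map_zero' := by ext y; simp
        map_add' := fun x z => by
          ext y
          simp only [AddMonoidHom.coe_mk, ZeroHom.coe_mk, AddMonoidHom.add_apply]
          rw [map_add, TensorProduct.add_tmul] }
    have hsm : ∀ (a : A) (x : B), algebraMap B L (a • x) = (algebraMap A K a) • algebraMap B L x := by
      intro a x
      rw [Algebra.smul_def, map_mul, ← IsScalarTower.algebraMap_apply A B L,
        IsScalarTower.algebraMap_apply A K L, ← Algebra.smul_def]
    let Φ : TensorProduct A B B →+ TensorProduct K L L := TensorProduct.liftAddHom f (by
      intro a x y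
      change (algebraMap B L (a • x)) ⊗ₜ[K] (algebraMap B L y) =
        (algebraMap B L x) ⊗ₜ[K] (algebraMap B L (a • y))
      rw [hsm, hsm, TensorProduct.smul_tmul])
    have hΦ : ∀ x y : B, Φ (x ⊗ₜ[A] y) = (algebraMap B L x) ⊗ₜ[K] (algebraMap B L y) := fun x y => rfl
    have h1 : Φ (Algebra.TensorProduct.includeLeftSubRight A B b) = 0 := by rw [hb, map_zero]
    rw [Algebra.TensorProduct.includeLeftSubRight_apply, map_sub, hΦ, hΦ, map_one] at h1
    have h2 : Algebra.TensorProduct.includeLeftSubRight K L (algebraMap B L b) = 0 := by
      rw [Algebra.TensorProduct.includeLeftSubRight_apply]; exact h1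
    have heff : Algebra.IsEffective K L := Algebra.IsEffective.of_faithfullyFlat K L
    obtain ⟨κ, hκ⟩ := (heff (algebraMap B L b)).1 h2
    have hκ' : algebraMap K L κ = algebraMap B L b := hκ
    -- κ is integral over A
    have hbint : IsIntegral A b := Algebra.IsIntegral.isIntegral b
    have hLint : IsIntegral A (algebraMap B L b) := hbint.map (IsScalarTower.toAlgHom A B L)
    have hκint : IsIntegral A κ := by
      rw [← hκ'] at hLint
      exact (isIntegral_algebraMap_iff (algebraMap K L).injective).1 hLint
    obtain ⟨a, ha⟩ := IsIntegrallyClosed.algebraMap_eq_of_integral hκint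
    refine ⟨a, ?_⟩
    have hinj : Function.Injective (algebraMap B L) := IsFractionRing.injective B L
    apply hinj
    change algebraMap B L (algebraMap A B a) = algebraMap B L b
    rw [← hκ', ← ha, ← IsScalarTower.algebraMap_apply A B L, ← IsScalarTower.algebraMap_apply A K L]
  · rintro ⟨a, rfl⟩
    exact Algebra.TensorProduct.includeLeftSubRight_algebraMap_zero a

end Groth.Agent.S18538
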