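import Groth.Statements.S18539
import Mathlib

set_option autoImplicit false
universe u v w
open CAlg

namespace Groth.Agent.S18539

/-- For a commutative ring R, R-modules M and N and elements r₁, r₂ of R such that r₁ is a
non-zero-divisor on N and r₂ is a non-zero-divisor on N/r₁N, the element r₁ is a non-zero-divisor on
the module Hom_R(M, N) and r₂ is a non-zero-divisor on Hom_R(M, N)/r₁Hom_R(M, N). (Weak regularity
on both sides: no condition that the quotient by (r₁, r₂) is nonzero, which would fail for M = 0.) -/
theorem result
    (R : Type u) [CommRing R] (M : Type v) (N : Type w)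
    [AddCommGroup M] [Module R M] [AddCommGroup N] [Module R N]
    (r₁ r₂ : R) (h : RingTheory.Sequence.IsWeaklyRegular N [r₁, r₂]) :
    RingTheory.Sequence.IsWeaklyRegular (M →ₗ[R] N) [r₁, r₂] := by
  classical
  open Pointwise in
  (
    rw [RingTheory.Sequence.isWeaklyRegular_cons_iff,
      RingTheory.Sequence.isWeaklyRegular_singleton_iff] at h ⊢
    obtain ⟨h1, h2⟩ := h
    have h1' : ∀ x : N, r₁ • x = 0 → x = 0 := isSMulRegular_iff_right_eq_zero_of_smul.1 h1
    have h2' : ∀ x : N, r₂ • x ∈ r₁ • (⊤ : Submodule R N) → x ∈ r₁ • (⊤ : Submodule R N) :=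
      (isSMulRegular_quotient_iff_mem_of_smul_mem _ r₂).1 h2
    constructor
    · rw [isSMulRegular_iff_right_eq_zero_of_smul]
      intro φ hφ
      ext m
      apply h1'
      have := LinearMap.congr_fun hφ m
      simpa using this
    · rw [isSMulRegular_quotient_iff_mem_of_smul_mem]
      intro φ hφ
      -- r₂ • φ = r₁ • ψ
      rw [Submodule.mem_smul_pointwise_iff_exists] at hφ ⊢
      obtain ⟨ψ, -, hψ⟩ := hφ
      -- for each m, φ m ∈ r₁ N
      have hm : ∀ m : M, ∃ n : N, r₁ • n = φ m := by
        intro m
        have h3 : r₂ • φ m ∈ r₁ • (⊤ : Submodule R N) := by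
          rw [Submodule.mem_smul_pointwise_iff_exists]
          refine ⟨ψ m, trivial, ?_⟩
          have := LinearMap.congr_fun hψ m
          simpa using this
        have h4 := h2' (φ m) h3
        rw [Submodule.mem_smul_pointwise_iff_exists] at h4
        obtain ⟨n, -, hn⟩ := h4
        exact ⟨n, hn⟩
      choose χ hχ using hm
      have hinj : ∀ x y : N, r₁ • x = r₁ • y → x = y := by
        intro x y hxy
        have : r₁ • (x - y) = 0 := by rw [smul_sub, hxy, sub_self]
        exact sub_eq_zero.1 (h1' _ this)
      let χl : M →ₗ[R] N :=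
        { toFun := χ
          map_add' := by
            intro x y
            apply hinj
            rw [smul_add, hχ, hχ, hχ, map_add]
          map_smul' := by
            intro c x
            apply hinj
            rw [RingHom.id_apply, smul_comm, hχ, hχ, map_smul] }
      refine ⟨χl, trivial, ?_⟩
      ext m
      exact hχ m
  )

end Groth.Agent.S18539
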