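import Groth.Statements.S18544
import Mathlib

set_option autoImplicit false
universe u
open CAlg

namespace Groth.Agent.S18544

section Aux

open Polynomial in
/-- a multiplicative polynomial function in one variable is a power -/
theorem mult_poly {F : Type u} [Field F] [Infinite F] (G : Polynomial F)
    (hmul : ∀ s t : F, G.eval (s * t) = G.eval s * G.eval t) (h1 : G.eval 1 = 1) :
    ∃ m : ℕ, ∀ t : F, G.eval t = t ^ m := by
  have hG : G ≠ 0 := by
    rintro rfl
    simp at h1
  refine ⟨G.natDegree, fun s => ?_⟩
  have hc : G.leadingCoeff ≠ 0 := leadingCoeff_ne_zero.2 hG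
  have hpoly : G.comp (C s * X) = C (G.eval s) * G := by
    apply Polynomial.funext
    intro t
    rw [eval_comp, eval_mul, eval_C, eval_X, eval_mul, eval_C, hmul]
  have h2 := congrArg (fun q => Polynomial.coeff q G.natDegree) hpoly
  simp only [coeff_C_mul] at h2
  rw [Polynomial.comp_C_mul_X_coeff] at h2
  have h3 : G.coeff G.natDegree = G.leadingCoeff := rfl
  rw [h3] at h2
  have h4 : G.leadingCoeff * s ^ G.natDegree = G.leadingCoeff * G.eval s := by
    rw [h2, mul_comm]
  exact (mul_left_cancel₀ hc h4).symm

end Aux


/-- Let F be an algebraically closed field of characteristic zero, n a natural number, and N a nonzero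
polynomial over F in the n² matrix entries whose evaluation on n × n matrices is multiplicative,
N(xy) = N(x)·N(y) for all x, y (a norm form on the matrix algebra M_n(F) over F). Then N is a
natural power of the determinant: for some m, N(x) = det(x)^m for every matrix x. The published
statement concerns norm forms of any central simple algebra over a subfield; this row is the case of
the full matrix algebra over an algebraically closed field, which is the case its proof treats. -/
theorem result (F : Type u) [Field F] [IsAlgClosed F]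
    [CharZero F] (n : ℕ) (N : MvPolynomial (Fin n × Fin n) F) (hN : N ≠ 0)
    (hmul : ∀ x y : Matrix (Fin n) (Fin n) F,
      MvPolynomial.eval (fun ij : Fin n × Fin n => (x * y) ij.1 ij.2) N =
        MvPolynomial.eval (fun ij : Fin n × Fin n => x ij.1 ij.2) N * MvPolynomial.eval (fun ij : Fin n × Fin n => y ij.1 ij.2) N) :
    ∃ m : ℕ, ∀ x : Matrix (Fin n) (Fin n) F,
      MvPolynomial.eval (fun ij : Fin n × Fin n => x ij.1 ij.2) N = x.det ^ m := by
  classical
  obtain ⟨ν, hν⟩ : ∃ ν : Matrix (Fin n) (Fin n) F → F, ∀ x, ν x =
      MvPolynomial.eval (fun ij : Fin n × Fin n => x ij.1 ij.2) N := ⟨_, fun _ => rfl⟩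
  simp only [← hν] at hmul ⊢
  -- ν 1 = 1
  have h1 : ν 1 = 1 := by
    have h := hmul 1 1
    rw [one_mul] at h
    rcases eq_or_ne (ν 1) 0 with h0 | h0
    · exfalso
      apply hN
      apply MvPolynomial.funext
      intro x
      rw [map_zero]
      have := hmul (Matrix.of fun i j => x (i, j)) 1
      rw [mul_one, h0, mul_zero, hν] at this
      simpa using this
    · have : ν 1 * ν 1 = ν 1 * 1 := by rw [← h, mul_one]
      exact mul_left_cancel₀ h0 this
  have hinv : ∀ A B : Matrix (Fin n) (Fin n) F, A * B = 1 → ν A * ν B = 1 := by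
    intro A B hAB
    rw [← hmul, hAB, h1]
  -- transvections
  have htv : ∀ t : Matrix.TransvectionStruct (Fin n) F, ν t.toMatrix = 1 := by
    intro t
    obtain ⟨i, j, hij, c⟩ := t
    rw [Matrix.TransvectionStruct.toMatrix_mk]
    obtain ⟨dd, hdd⟩ : ∃ dd : Fin n → F, dd = fun a => if a = i then 2 else 1 := ⟨_, rfl⟩
    obtain ⟨dd', hdd'⟩ : ∃ dd' : Fin n → F, dd' = fun a => if a = i then (2⁻¹ : F) else 1 :=
      ⟨_, rfl⟩
    have hDD : Matrix.diagonal dd * Matrix.diagonal dd' = 1 := by
      rw [Matrix.diagonal_mul_diagonal, ← Matrix.diagonal_one]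
      congr 1
      funext a
      rw [hdd, hdd']
      by_cases ha : a = i
      · simp [ha]
      · simp [ha]
    have hconj : Matrix.diagonal dd * Matrix.transvection i j c * Matrix.diagonal dd' =
        Matrix.transvection i j (2 * c) := by
      ext a b
      rw [Matrix.mul_diagonal, Matrix.diagonal_mul, hdd, hdd']
      simp only [Matrix.transvection, Matrix.add_apply, Matrix.one_apply, Matrix.single_apply]
      by_cases ha : a = i
      · subst ha
        by_cases hb : b = j
        · subst hb
          simp [hij, hij.symm]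
        · by_cases hb' : b = a
          · subst hb'
            simp [Ne.symm hb]
          · simp [hb, hb', Ne.symm hb, Ne.symm hb']
      · by_cases hb : b = i
        · subst hb
          simp [ha, Ne.symm ha]
        · by_cases hab : a = b
          · subst hab
            simp [ha, Ne.symm ha]
          · simp [ha, Ne.symm ha, hab, hb]
    have hprod : Matrix.transvection i j (2 * c) * Matrix.transvection i j (-c) =
        Matrix.transvection i j c := by
      rw [Matrix.transvection_mul_transvection_same i j hij]
      congr 1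
      ring
    have hTT : Matrix.transvection i j c * Matrix.transvection i j (-c) = 1 := by
      rw [Matrix.transvection_mul_transvection_same i j hij, add_neg_cancel,
        Matrix.transvection_zero]
    have e1 : ν (Matrix.transvection i j c) =
        ν (Matrix.diagonal dd) * ν (Matrix.transvection i j c) * ν (Matrix.diagonal dd') *
          ν (Matrix.transvection i j (-c)) := by
      conv_lhs => rw [← hprod, ← hconj]
      rw [hmul, hmul, hmul]
    have e2 := hinv _ _ hDD
    have e3 := hinv _ _ hTT
    calc ν (Matrix.transvection i j c) = (ν (Matrix.diagonal dd) * ν (Matrix.diagonal dd')) *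
          (ν (Matrix.transvection i j c) * ν (Matrix.transvection i j (-c))) := by
          conv_lhs => rw [e1]
          ring
      _ = 1 := by rw [e2, e3, one_mul]
  -- the monoid hom on diagonal matrices
  let μ : (Fin n → F) →* F :=
    { toFun := fun d => ν (Matrix.diagonal d)
      map_one' := by
        have : Matrix.diagonal (1 : Fin n → F) = 1 := Matrix.diagonal_one
        rw [this]; exact h1
      map_mul' := fun d d' => by rw [← hmul, Matrix.diagonal_mul_diagonal]; rfl }
  have hμ : ∀ d, μ d = ν (Matrix.diagonal d) := fun _ => rfl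
  -- permutation invariance
  have hperm : ∀ (σ : Equiv.Perm (Fin n)) (d : Fin n → F), μ (d ∘ σ) = μ d := by
    intro σ d
    rw [hμ, hμ]
    have hPQ : (σ.toPEquiv.toMatrix : Matrix (Fin n) (Fin n) F) * σ.symm.toPEquiv.toMatrix = 1 := by
      rw [← PEquiv.toMatrix_trans, ← Equiv.toPEquiv_trans, Equiv.self_trans_symm,
        Equiv.toPEquiv_refl, PEquiv.toMatrix_refl]
    have hconj : (σ.toPEquiv.toMatrix : Matrix (Fin n) (Fin n) F) * Matrix.diagonal d *
        σ.symm.toPEquiv.toMatrix = Matrix.diagonal (d ∘ σ) := by
      rw [PEquiv.toMatrix_toPEquiv_mul, PEquiv.mul_toMatrix_toPEquiv, Matrix.submatrix_submatrix,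
        Equiv.symm_symm]
      exact Matrix.submatrix_diagonal_equiv d σ
    rw [← hconj, hmul, hmul]
    have := hinv _ _ hPQ
    calc ν (σ.toPEquiv.toMatrix) * ν (Matrix.diagonal d) * ν (σ.symm.toPEquiv.toMatrix)
        = (ν (σ.toPEquiv.toMatrix) * ν (σ.symm.toPEquiv.toMatrix)) * ν (Matrix.diagonal d) := by
          ring
      _ = ν (Matrix.diagonal d) := by rw [this, one_mul]
  -- one-parameter polynomial
  have hone : ∀ i : Fin n, ∃ m : ℕ, ∀ t : F, μ (Pi.mulSingle i t) = t ^ m := by
    intro i
    obtain ⟨G, hGdef⟩ : ∃ G : Polynomial F, G = MvPolynomial.eval₂ Polynomial.C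
      (fun ij : Fin n × Fin n => if ij.1 = ij.2 then (if ij.1 = i then Polynomial.X else 1) else 0)
      N := ⟨_, rfl⟩
    have hG : ∀ t, G.eval t = μ (Pi.mulSingle i t) := by
      intro t
      rw [hμ, hν, hGdef, ← Polynomial.coe_evalRingHom,
        MvPolynomial.eval₂_comp_left (Polynomial.evalRingHom t)]
      have hid : (Polynomial.evalRingHom t).comp Polynomial.C = RingHom.id F := by
        ext a; simp
      rw [hid, MvPolynomial.eval₂_id]
      congr 2
      funext ij
      obtain ⟨a, b⟩ := ij
      by_cases hab : a = b
      · subst hab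
        by_cases hai : a = i
        · subst hai; simp
        · simp [hai, Pi.mulSingle_apply]
      · simp [hab]
    obtain ⟨m, hm⟩ := mult_poly G (by
      intro s t
      rw [hG, hG, hG, ← map_mul, ← Pi.mulSingle_mul]) (by
      rw [hG, Pi.mulSingle_one, map_one])
    exact ⟨m, fun t => by rw [← hG, hm]⟩
  -- common exponent
  obtain ⟨m, hm⟩ : ∃ m : ℕ, ∀ (i : Fin n) (t : F), μ (Pi.mulSingle i t) = t ^ m := by
    rcases Nat.eq_zero_or_pos n with h0 | hpos
    · subst h0
      exact ⟨0, fun i => i.elim0⟩
    · obtain ⟨m, hm⟩ := hone ⟨0, hpos⟩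
      refine ⟨m, fun i t => ?_⟩
      rw [← hm t, ← hperm (Equiv.swap ⟨0, hpos⟩ i) (Pi.mulSingle ⟨0, hpos⟩ t)]
      congr 1
      funext a
      rw [Function.comp_apply, Pi.mulSingle_apply, Pi.mulSingle_apply]
      by_cases hai : a = i
      · subst hai
        simp
      · rw [if_neg hai, if_neg]
        intro h
        apply hai
        have := congrArg (Equiv.swap (⟨0, hpos⟩ : Fin n) i) h
        rw [Equiv.swap_apply_self, Equiv.swap_apply_left] at this
        exact this
  have hdiag : ∀ D : Fin n → F, ν (Matrix.diagonal D) = (∏ i, D i) ^ m := by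
    intro D
    have hD : D = ∏ i, Pi.mulSingle i (D i) := (Finset.univ_prod_mulSingle D).symm
    rw [← hμ]
    conv_lhs => rw [hD]
    rw [map_prod, ← Finset.prod_pow]
    exact Finset.prod_congr rfl (fun i _ => hm i (D i))
  refine ⟨m, fun x => ?_⟩
  apply Matrix.diagonal_transvection_induction (fun M => ν M = M.det ^ m) x
  · intro D _
    rw [hdiag, Matrix.det_diagonal]
  · intro t
    rw [htv, Matrix.TransvectionStruct.det, one_pow]
  · intro A B hA hB
    rw [hmul, hA, hB, Matrix.det_mul, mul_pow]

end Groth.Agent.S18544
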