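import Groth.Statements.S18545
import Mathlib

set_option autoImplicit false
universe u
open AbVar

namespace Groth.Agent.S18545

/-- A step in the proof of Tate's isogeny result over finite fields, in linear-algebra form. Let K be a
field and V a K-vector space of finite dimension 2g carrying a nondegenerate alternating bilinear
form e. Let F be a K-subalgebra of End(V) which is isomorphic as a K-algebra to a finite product K ×
⋯ × K and which is spanned over K by a set S of similitudes of e (for each s in S there is a nonzero
scalar c with e(s x, s y) = c·e(x, y) for all x, y). Let D be a set of endomorphisms of V such that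
every F-stable isotropic subspace W of dimension g (a maximal isotropic subspace) is D-stable. Then
every F-stable isotropic subspace of V is D-stable. (In the application V is the rational ℓ-adic
Tate module of an abelian variety over a finite field with the Riemann form of a polarisation, F the
algebra generated by the Galois group, split for the chosen ℓ, and D the commutant of the image of
the endomorphism algebra; the hypothesis on maximal isotropic subspaces is the step obtained from
the finiteness of isomorphism classes.) -/
theorem result (K : Type u) [Field K]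
    (V : Type u) [AddCommGroup V] [Module K V] [FiniteDimensional K V] (g : ℕ) (hV : Module.finrank K V = 2 * g)
    (e : LinearMap.BilinForm K V) (he : e.IsAlt) (hnd : e.Nondegenerate)
    (F : Subalgebra K (Module.End K V)) (r : ℕ) (hF : Nonempty (F ≃ₐ[K] (Fin r → K)))
    (S : Set (Module.End K V)) (hS : Submodule.span K S = Subalgebra.toSubmodule F)
    (hsim : ∀ s ∈ S, ∃ c : K, c ≠ 0 ∧ ∀ x y : V, e (s x) (s y) = c * e x y)
    (D : Set (Module.End K V))
    (hmax : ∀ W : Submodule K V, (∀ f ∈ F, ∀ w ∈ W, f w ∈ W) → (∀ x ∈ W, ∀ y ∈ W, e x y = 0) →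
      Module.finrank K W = g → ∀ d ∈ D, ∀ w ∈ W, d w ∈ W)
    (W : Submodule K V) (hWF : ∀ f ∈ F, ∀ w ∈ W, f w ∈ W) (hWiso : ∀ x ∈ W, ∀ y ∈ W, e x y = 0) :
    ∀ d ∈ D, ∀ w ∈ W, d w ∈ W := by
  classical
  intro d hd w₀ hw₀
  by_contra hnot
  obtain ⟨φ⟩ := hF
  have hSF : ∀ s ∈ S, s ∈ F := by
    intro s hs
    have : s ∈ Submodule.span K S := Submodule.subset_span hs
    rw [hS] at this
    exact this
  -- idempotents
  obtain ⟨ε, hε⟩ : ∃ ε : Fin r → F, ∀ i, ε i = φ.symm (Pi.single i 1) := ⟨_, fun _ => rfl⟩
  have hsum : ∀ v : V, ∑ i, (ε i : Module.End K V) v = v := by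
    have h1 : ∑ i, ε i = 1 := by
      apply φ.injective
      rw [map_sum, map_one]
      simp only [hε, AlgEquiv.apply_symm_apply]
      exact Finset.univ_sum_single (1 : Fin r → K)
    intro v
    have h2 := congrArg (fun x : F => (x : Module.End K V) v) h1
    simpa using h2
  have heig : ∀ (f : F) (i : Fin r) (v : V),
      (f : Module.End K V) ((ε i : Module.End K V) v) = φ f i • (ε i : Module.End K V) v := by
    intro f i v
    have h1 : f * ε i = φ f i • ε i := by
      apply φ.injective
      rw [map_mul, map_smul, hε, AlgEquiv.apply_symm_apply]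
      ext j
      by_cases h : j = i
      · subst h; simp
      · simp [Pi.single_apply, h]
    have h2 := congrArg (fun x : F => (x : Module.End K V) v) h1
    simpa using h2
  -- similitudes are injective
  have hinjS : ∀ s ∈ S, Function.Injective s := by
    intro s hs
    obtain ⟨c, hc0, hc⟩ := hsim s hs
    rw [injective_iff_map_eq_zero]
    intro x hx
    apply hnd.1 x
    intro y
    have := hc x y
    rw [hx, map_zero, LinearMap.zero_apply] at this
    exact (mul_eq_zero.1 this.symm).resolve_left hc0
  -- the orthogonal of a stable subspace is stable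
  have hperp : ∀ L : Submodule K V, (∀ f ∈ F, ∀ w ∈ L, f w ∈ L) →
      ∀ f ∈ F, ∀ w ∈ e.orthogonal L, f w ∈ e.orthogonal L := by
    intro L hL f hf
    have hf' : f ∈ Submodule.span K S := by rw [hS]; exact hf
    clear hf
    induction hf' using Submodule.span_induction with
    | mem s hs =>
      intro x hx
      obtain ⟨c, hc0, hc⟩ := hsim s hs
      have hsL : ∀ l ∈ L, ∃ l' ∈ L, s l' = l := by
        let sL : L →ₗ[K] L := s.restrict (hL s (hSF s hs))
        have hinj : Function.Injective sL := by
          intro a b hab
          apply Subtype.ext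
          apply hinjS s hs
          exact congrArg Subtype.val hab
        have hsurj := LinearMap.injective_iff_surjective.1 hinj
        intro l hl
        obtain ⟨l', hl'⟩ := hsurj ⟨l, hl⟩
        exact ⟨l'.1, l'.2, congrArg Subtype.val hl'⟩
      rw [LinearMap.BilinForm.mem_orthogonal_iff]
      intro l hl
      obtain ⟨l', hl', rfl⟩ := hsL l hl
      rw [hc, (LinearMap.BilinForm.mem_orthogonal_iff.1 hx) l' hl', mul_zero]
    | zero => intro x _; rw [LinearMap.zero_apply]; exact Submodule.zero_mem _
    | add f₁ f₂ _ _ h₁ h₂ =>
      intro x hx; rw [LinearMap.add_apply]; exact Submodule.add_mem _ (h₁ x hx) (h₂ x hx)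
    | smul a f _ h =>
      intro x hx; rw [LinearMap.smul_apply]; exact Submodule.smul_mem _ _ (h x hx)
  -- isotropic subspaces have dimension at most g
  have hisoLe : ∀ L : Submodule K V, (∀ x ∈ L, ∀ y ∈ L, e x y = 0) → Module.finrank K L ≤ g := by
    intro L hLi
    have hle : L ≤ e.orthogonal L := by
      intro x hx
      rw [LinearMap.BilinForm.mem_orthogonal_iff]
      intro n hn
      exact hLi n hn x hx
    have h1 := Submodule.finrank_mono hle
    rw [LinearMap.BilinForm.finrank_orthogonal hnd, hV] at h1
    omega
  have hspan1 : ∀ w : V, Module.finrank K (Submodule.span K {w}) ≤ 1 := by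
    intro w
    by_cases hw : w = 0
    · rw [hw, Submodule.span_zero_singleton, finrank_bot]; exact Nat.zero_le 1
    · rw [finrank_span_singleton hw]
  -- the extension step
  have hext : ∀ (w : V) (k : ℕ) (L : Submodule K V), (∀ f ∈ F, ∀ x ∈ L, f x ∈ L) →
      (∀ x ∈ L, ∀ y ∈ L, e x y = 0) → w ∉ L → g - Module.finrank K L ≤ k →
      ∃ L' : Submodule K V, L ≤ L' ∧ (∀ f ∈ F, ∀ x ∈ L', f x ∈ L') ∧
        (∀ x ∈ L', ∀ y ∈ L', e x y = 0) ∧ w ∉ L' ∧ Module.finrank K L' = g := by
    intro w k
    induction k with
    | zero =>
      intro L hLs hLi hwL hk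
      exact ⟨L, le_refl _, hLs, hLi, hwL, by have := hisoLe L hLi; omega⟩
    | succ k ih =>
      intro L hLs hLi hwL hk
      by_cases hfull : Module.finrank K L = g
      · exact ⟨L, le_refl _, hLs, hLi, hwL, hfull⟩
      have hlt : Module.finrank K L < g := lt_of_le_of_ne (hisoLe L hLi) hfull
      have hMrank : Module.finrank K (e.orthogonal L) = 2 * g - Module.finrank K L := by
        rw [LinearMap.BilinForm.finrank_orthogonal hnd, hV]
      have hMs := hperp L hLs
      have hex : ∃ i, ∃ m ∈ e.orthogonal L, (ε i : Module.End K V) m ∉ L ∧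
          w ∉ L ⊔ Submodule.span K {(ε i : Module.End K V) m} := by
        by_contra hcon
        push Not at hcon
        have hle : e.orthogonal L ≤ L ⊔ Submodule.span K {w} := by
          intro m hm
          rw [← hsum m]
          apply Submodule.sum_mem
          intro i _
          by_cases hi : (ε i : Module.End K V) m ∈ L
          · exact Submodule.mem_sup_left hi
          · have hw' := hcon i m hm hi
            obtain ⟨l, hl, t, ht, hlt'⟩ := Submodule.mem_sup.1 hw'
            obtain ⟨a, rfl⟩ := Submodule.mem_span_singleton.1 ht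
            have ha : a ≠ 0 := by
              rintro rfl
              rw [zero_smul, add_zero] at hlt'
              exact hwL (hlt' ▸ hl)
            have : (ε i : Module.End K V) m = a⁻¹ • (w - l) := by
              rw [← hlt', add_sub_cancel_left, smul_smul, inv_mul_cancel₀ ha, one_smul]
            rw [this]
            apply Submodule.smul_mem
            apply Submodule.sub_mem
            · exact Submodule.mem_sup_right (Submodule.mem_span_singleton_self w)
            · exact Submodule.mem_sup_left hl
        have h1 := Submodule.finrank_mono hle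
        have h2 : Module.finrank K ↥(L ⊔ Submodule.span K {w}) ≤ Module.finrank K L + 1 :=
          le_trans (Submodule.finrank_add_le_finrank_add_finrank _ _)
            (Nat.add_le_add_left (hspan1 w) _)
        omega
      obtain ⟨i, m, hm, hu, hw'⟩ := hex
      obtain ⟨u, hu_def⟩ : ∃ u, u = (ε i : Module.End K V) m := ⟨_, rfl⟩
      rw [← hu_def] at hu hw'
      have huM : u ∈ e.orthogonal L := by rw [hu_def]; exact hMs (ε i) (ε i).2 m hm
      have hLlt : L < L ⊔ Submodule.span K {u} := by
        refine lt_of_le_of_ne le_sup_left ?_
        intro heq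
        apply hu
        rw [heq]
        exact Submodule.mem_sup_right (Submodule.mem_span_singleton_self u)
      have hrank := Submodule.finrank_lt_finrank_of_lt hLlt
      have hstab : ∀ f ∈ F, ∀ x ∈ L ⊔ Submodule.span K {u}, f x ∈ L ⊔ Submodule.span K {u} := by
        intro f hf x hx
        obtain ⟨l, hl, t, ht, rfl⟩ := Submodule.mem_sup.1 hx
        obtain ⟨a, rfl⟩ := Submodule.mem_span_singleton.1 ht
        rw [map_add, map_smul]
        apply Submodule.add_mem
        · exact Submodule.mem_sup_left (hLs f hf l hl)
        · apply Submodule.smul_mem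
          have : f u = φ ⟨f, hf⟩ i • u := by rw [hu_def]; exact heig ⟨f, hf⟩ i m
          rw [this]
          exact Submodule.mem_sup_right
            (Submodule.smul_mem _ _ (Submodule.mem_span_singleton_self u))
      have hiso : ∀ x ∈ L ⊔ Submodule.span K {u}, ∀ y ∈ L ⊔ Submodule.span K {u}, e x y = 0 := by
        intro x hx y hy
        obtain ⟨l, hl, t, ht, rfl⟩ := Submodule.mem_sup.1 hx
        obtain ⟨a, rfl⟩ := Submodule.mem_span_singleton.1 ht
        obtain ⟨l', hl', t', ht', rfl⟩ := Submodule.mem_sup.1 hy
        obtain ⟨a', rfl⟩ := Submodule.mem_span_singleton.1 ht'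
        have e1 : e l l' = 0 := hLi l hl l' hl'
        have e2 : e l u = 0 := (LinearMap.BilinForm.mem_orthogonal_iff.1 huM) l hl
        have e3 : e u l' = 0 := he.eq_iff.1 ((LinearMap.BilinForm.mem_orthogonal_iff.1 huM) l' hl')
        have e4 : e u u = 0 := he.self_eq_zero u
        simp only [map_add, map_smul, LinearMap.add_apply, LinearMap.smul_apply, smul_eq_mul,
          e1, e2, e3, e4, mul_zero, add_zero]
      obtain ⟨L'', hL'', h1, h2, h3, h4⟩ := ih (L ⊔ Submodule.span K {u}) hstab hiso hw' (by omega)
      exact ⟨L'', le_trans le_sup_left hL'', h1, h2, h3, h4⟩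
  obtain ⟨L', hWL', hs', hi', hw', hr'⟩ := hext (d w₀) g W hWF hWiso hnot (Nat.sub_le _ _)
  exact hw' (hmax L' hs' hi' hr' d hd w₀ (hWL' hw₀))

end Groth.Agent.S18545
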