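import Groth.Statements.S18550
import Mathlib.Algebra.Homology.DerivedCategory.FullyFaithful
import Mathlib.Algebra.Homology.DerivedCategory.TStructure
import Mathlib.CategoryTheory.Triangulated.TStructure.TruncLTGE
-- import your own Groth.Agent.* helpers here

set_option autoImplicit false
open CategoryTheory Limits
universe w v u
open CohDer

namespace Groth.Agent.S18550

section Helpers

open DerivedCategory DerivedCategory.TStructure Pretriangulated

variable {A : Type u} [Category.{v} A] [Abelian A] [HasDerivedCategory.{w} A]

lemma eq_zero_of_amplitude_zero {X Y : DerivedCategory A} (b : ℤ) [X.IsGE b] [X.IsLE b]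
    [Y.IsGE b] [Y.IsLE b] (g : X ⟶ Y) (hg : (homologyFunctor A b).map g = 0) : g = 0 := by
  obtain ⟨M, ⟨e⟩⟩ := exists_iso_singleFunctor_obj_of_isGE_of_isLE X b
  obtain ⟨N, ⟨e'⟩⟩ := exists_iso_singleFunctor_obj_of_isGE_of_isLE Y b
  obtain ⟨φ, hφ⟩ := (singleFunctor A b).map_surjective (e.inv ≫ g ≫ e'.hom)
  have h1 : (homologyFunctor A b).map ((singleFunctor A b).map φ) = 0 := by
    rw [hφ, Functor.map_comp, Functor.map_comp, hg, zero_comp, comp_zero]
  have h2 : φ = 0 := by
    have eq := NatIso.naturality_1 (singleFunctorCompHomologyFunctorIso A b) φ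
    dsimp at eq
    rw [← eq, h1, zero_comp, comp_zero]
  have h3 : e.inv ≫ g ≫ e'.hom = 0 := by rw [← hφ, h2, Functor.map_zero]
  have h4 : g = e.hom ≫ (e.inv ≫ g ≫ e'.hom) ≫ e'.inv := by simp
  rw [h4, h3, zero_comp, comp_zero]

lemma pow_eq_zero_aux : ∀ (n : ℕ) (X : DerivedCategory A) (a : ℤ) [X.IsGE a] [X.IsLE (a + n)]
    (f : CategoryTheory.End X) (_ : ∀ i : ℤ, (homologyFunctor A i).map f = 0),
    f ^ (n + 1) = 0 := by
  intro n
  induction n with
  | zero =>
    intro X a _ _ f hf
    have : X.IsLE a := t.isLE_of_le X (a + (0 : ℕ)) a (by simp)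
    rw [zero_add, pow_one]
    exact eq_zero_of_amplitude_zero a f (hf a)
  | succ n ih =>
    intro X a _ _ f hf
    obtain ⟨b, hb⟩ : ∃ b : ℤ, b = a + (n + 1 : ℕ) := ⟨_, rfl⟩
    have : X.IsLE b := by rw [hb]; infer_instance
    have hT := t.triangleLTGE_distinguished b X
    -- the truncation `τ_{≥ b} f` vanishes
    have hepi : Epi ((homologyFunctor A b).map ((t.truncGEπ b).app X)) := by
      have := (HomologySequence.epi_homologyMap_mor₂_iff _ hT b (b + 1) rfl).2
        ((isZero_of_isLE ((t.truncLT b).obj X) (b - 1) (b + 1) (by omega)).eq_of_tgt _ _)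
      exact this
    have hg' : (t.truncGE b).map f = 0 := by
      apply eq_zero_of_amplitude_zero b
      rw [← cancel_epi ((homologyFunctor A b).map ((t.truncGEπ b).app X)), comp_zero,
        ← Functor.map_comp]
      have hnat := (t.truncGEπ b).naturality f
      dsimp at hnat
      rw [← hnat, Functor.map_comp, hf b, zero_comp]
    have hfπ : f ≫ (t.truncGEπ b).app X = 0 := by
      have hnat := (t.truncGEπ b).naturality f
      dsimp at hnat
      rw [hnat, hg', comp_zero]
    obtain ⟨f', hf'⟩ : ∃ f' : X ⟶ (t.truncLT b).obj X, f = f' ≫ (t.truncLTι b).app X :=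
      Triangle.coyoneda_exact₂ _ hT f hfπ
    -- the truncation `τ_{< b} f` has zero homology
    have hτ : ∀ i : ℤ, (homologyFunctor A i).map ((t.truncLT b).map f) = 0 := by
      intro i
      by_cases hi : i < b
      · have hmono : Mono ((homologyFunctor A i).map ((t.truncLTι b).app X)) := by
          have := (HomologySequence.mono_homologyMap_mor₁_iff _ hT (i - 1) i (by omega)).2
            ((isZero_of_isGE ((t.truncGE b).obj X) b (i - 1) (by omega)).eq_of_src _ _)
          exact this
        rw [← cancel_mono ((homologyFunctor A i).map ((t.truncLTι b).app X)), zero_comp,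
          ← Functor.map_comp]
        have hnat := (t.truncLTι b).naturality f
        dsimp at hnat
        rw [hnat, Functor.map_comp, hf i, comp_zero]
      · exact (isZero_of_isLE ((t.truncLT b).obj X) (b - 1) i (by omega)).eq_of_src _ _
    have : ((t.truncLT b).obj X).IsLE (a + n) := by
      have h : a + (n : ℤ) = b - 1 := by rw [hb]; push_cast; omega
      rw [h]
      infer_instance
    obtain ⟨τf, hτf⟩ : ∃ τf : CategoryTheory.End ((t.truncLT b).obj X),
        τf = (t.truncLT b).map f := ⟨_, rfl⟩
    have hih : τf ^ (n + 1) = 0 := ih ((t.truncLT b).obj X) a τf (by rw [hτf]; exact hτ)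
    have hnat : τf ≫ (t.truncLTι b).app X = (t.truncLTι b).app X ≫ f := by
      rw [hτf]
      exact (t.truncLTι b).naturality f
    -- commutation of powers with `ι`
    have hcomm : ∀ k : ℕ, (t.truncLTι b).app X ≫ (f ^ k : CategoryTheory.End X) =
        (τf ^ k : CategoryTheory.End _) ≫ (t.truncLTι b).app X := by
      intro k
      induction k with
      | zero =>
        rw [pow_zero, pow_zero, End.one_def, End.one_def]
        exact (Category.comp_id _).trans (Category.id_comp _).symm
      | succ k ihk =>
        rw [pow_succ, pow_succ, End.mul_def, End.mul_def, ← Category.assoc, ← hnat,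
          Category.assoc, ihk, Category.assoc]
    have h5 : f ≫ (f ^ (n + 1) : CategoryTheory.End X) =
        f' ≫ ((t.truncLTι b).app X ≫ (f ^ (n + 1) : CategoryTheory.End X)) := by
      rw [← Category.assoc, ← hf']
    rw [pow_succ, End.mul_def, h5, hcomm (n + 1), hih, zero_comp, comp_zero]

end Helpers

/-- Let A be an abelian category, X an object of its derived category whose cohomology objects H^i(X)
are zero for all integers i outside the interval [a, a + n], and f : X → X an endomorphism in the
derived category such that H^i(f) = 0 for every i. Then f^(n+1) = 0. (The source works in the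
bounded derived category; the statement in D(A) for an object with cohomology bounded in this way is
the same assertion, the bounded derived category being a full subcategory.) -/
theorem result (A : Type u) [Category.{v} A] [Abelian A]
    [HasDerivedCategory.{w} A] (X : DerivedCategory A) (a : ℤ) (n : ℕ)
    (hX : ∀ i : ℤ, i < a ∨ a + n < i → IsZero ((DerivedCategory.homologyFunctor A i).obj X))
    (f : CategoryTheory.End X) (hf : ∀ i : ℤ, (DerivedCategory.homologyFunctor A i).map f = 0) :
    f ^ (n + 1) = 0 := by
  have h1 : X.IsGE a := by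
    rw [DerivedCategory.isGE_iff]
    intro i hi
    exact hX i (Or.inl hi)
  have h2 : X.IsLE (a + n) := by
    rw [DerivedCategory.isLE_iff]
    intro i hi
    exact hX i (Or.inr hi)
  exact pow_eq_zero_aux n X a f hf

end Groth.Agent.S18550
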