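import Groth.Statements.S18561
import Mathlib
import Groth.Agent.S18560

set_option autoImplicit false
universe u v
open PtQuiv

namespace Groth.Agent.S18561

section aux
variable {K : Type*} [Field K] {V : Type*} [AddCommGroup V] [Module K V]

theorem mem_line_of_mem_line {x y v : V} (hy : y ≠ 0) (hxv : x ∈ K ∙ v) (hyv : y ∈ K ∙ v) :
    x ∈ K ∙ y := by
  obtain ⟨d, rfl⟩ := Submodule.mem_span_singleton.1 hxv
  obtain ⟨c, rfl⟩ := Submodule.mem_span_singleton.1 hyv
  have hc : c ≠ 0 := by
    rintro rfl
    exact hy (zero_smul K v)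
  rw [Submodule.mem_span_singleton]
  exact ⟨d * c⁻¹, by rw [smul_smul, mul_assoc, inv_mul_cancel₀ hc, mul_one]⟩

theorem prop_symm {x y : V} (hx : x ≠ 0) (h : x ∈ K ∙ y) : y ∈ K ∙ x :=
  mem_line_of_mem_line hx (Submodule.mem_span_singleton_self y) h

end aux


/-- Let K be a field and s i ∈ K² (i in a finite index type) nonzero vectors, regarded as a
representation of the quiver with a central vertex carrying the plane and one vertex per i carrying
a line mapping to the plane by 1 ↦ s i. Then the representation is stable for some weight of the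
hypersimplex (0 ≤ θ i ≤ 1, Σ θ i = 2, central weight -1) if and only if the s i fall into at least
three proportionality classes, i.e. three of them are pairwise non-proportional. (The published
statement is over an algebraically closed field and assumes semistability for some interior weight
instead of s i ≠ 0; any field is allowed here. Its further assertions, that the set of semistability
weights is full-dimensional exactly in this case and is a wall otherwise, are not part of this row.) -/
theorem result (K : Type u) [Field K] (ι : Type v)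
    [Fintype ι] (s : ι → (Fin 2 → K)) (hs : ∀ i, s i ≠ 0) :
    (∃ θ : ι → ℚ, (∀ i, 0 ≤ θ i) ∧ (∀ i, θ i ≤ 1) ∧ ∑ i, θ i = 2 ∧ PtQuiv.QStable (-1) θ s) ↔
      ∃ i j k : ι, s i ∉ K ∙ s j ∧ s j ∉ K ∙ s k ∧ s i ∉ K ∙ s k := by
  classical
  constructor
  · rintro ⟨θ, h0, h1, h2, ⟨⟨hw, hss⟩, hst⟩⟩
    by_contra hno
    push Not at hno
    -- ι is nonempty
    have hne : (Finset.univ : Finset ι).Nonempty := by
      by_contra hemp
      rw [Finset.not_nonempty_iff_eq_empty] at hemp
      rw [hemp, Finset.sum_empty] at h2
      norm_num at h2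
    obtain ⟨i₀, -⟩ := hne
    have hline : ∀ (a : ι), ∑ m ∈ Finset.univ.filter (fun m => s m ∈ K ∙ s a), θ m ≤ 1 := by
      intro a
      have h := hss (K ∙ s a) (Finset.univ.filter (fun m => s m ∈ K ∙ s a))
        (fun m hm => (Finset.mem_filter.1 hm).2)
      unfold PtQuiv.QWt at h
      rw [finrank_span_singleton (hs a)] at h
      push_cast at h
      linarith
    by_cases hall : ∀ m, s m ∈ K ∙ s i₀
    · have h := hline i₀
      rw [Finset.filter_true_of_mem (fun m _ => hall m), h2] at h
      norm_num at h
    · push Not at hall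
      obtain ⟨j₀, hj₀⟩ := hall
      have hcover : ∀ m, s m ∈ K ∙ s i₀ ∨ s m ∈ K ∙ s j₀ := by
        intro m
        by_contra hcon
        push Not at hcon
        exact hcon.1 (hno m j₀ i₀ hcon.2 hj₀)
      have hdisj : Disjoint (Finset.univ.filter (fun m => s m ∈ K ∙ s i₀))
          (Finset.univ.filter (fun m => s m ∈ K ∙ s j₀)) := by
        rw [Finset.disjoint_left]
        intro m hm1 hm2
        have h1' := (Finset.mem_filter.1 hm1).2
        have h2' := (Finset.mem_filter.1 hm2).2
        -- s j₀ ∈ K ∙ s m ⊆ K ∙ s i₀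
        have h3 : s j₀ ∈ K ∙ s m := prop_symm (hs m) h2'
        obtain ⟨c, hc⟩ := Submodule.mem_span_singleton.1 h3
        apply hj₀
        rw [← hc]
        exact Submodule.smul_mem _ _ h1'
      have hunion : Finset.univ.filter (fun m => s m ∈ K ∙ s i₀) ∪
          Finset.univ.filter (fun m => s m ∈ K ∙ s j₀) = Finset.univ := by
        apply Finset.eq_univ_of_forall
        intro m
        rcases hcover m with h | h
        · exact Finset.mem_union_left _ (Finset.mem_filter.2 ⟨Finset.mem_univ _, h⟩)
        · exact Finset.mem_union_right _ (Finset.mem_filter.2 ⟨Finset.mem_univ _, h⟩)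
      have hsum := Finset.sum_union hdisj (f := θ)
      rw [hunion, h2] at hsum
      have ha := hline i₀
      have hb := hline j₀
      have heq : ∑ m ∈ Finset.univ.filter (fun m => s m ∈ K ∙ s i₀), θ m = 1 := by linarith
      have hz : PtQuiv.QWt K (-1) θ (K ∙ s i₀) (Finset.univ.filter (fun m => s m ∈ K ∙ s i₀)) = 0 := by
        unfold PtQuiv.QWt
        rw [finrank_span_singleton (hs i₀), heq]
        norm_num
      rcases hst (K ∙ s i₀) _ (fun m hm => (Finset.mem_filter.1 hm).2) hz with ⟨hbot, -⟩ | ⟨htop, -⟩
      · have : s i₀ ∈ K ∙ s i₀ := Submodule.mem_span_singleton_self _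
        rw [hbot, Submodule.mem_bot] at this
        exact hs i₀ this
      · apply hj₀
        rw [htop]
        trivial
  · rintro ⟨i, j, k, hij, hjk, hik⟩
    have hji : s j ∉ K ∙ s i := fun h => hij (prop_symm (hs j) h)
    have hkj : s k ∉ K ∙ s j := fun h => hjk (prop_symm (hs k) h)
    have hki : s k ∉ K ∙ s i := fun h => hik (prop_symm (hs k) h)
    have hne_ij : i ≠ j := fun h => hij (h ▸ Submodule.mem_span_singleton_self _)
    have hne_jk : j ≠ k := fun h => hjk (h ▸ Submodule.mem_span_singleton_self _)
    have hne_ik : i ≠ k := fun h => hik (h ▸ Submodule.mem_span_singleton_self _)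
    obtain ⟨T, hT⟩ : ∃ T : Finset ι, T = {i, j, k} := ⟨_, rfl⟩
    have hTcard : T.card = 3 := by
      rw [hT, Finset.card_insert_of_notMem, Finset.card_insert_of_notMem, Finset.card_singleton]
      · simpa using hne_jk
      · simp [hne_ij, hne_ik]
    obtain ⟨n, hn⟩ : ∃ n, n = Fintype.card ι := ⟨_, rfl⟩
    have hn3 : 3 ≤ n := by
      rw [hn, ← hTcard]
      exact Finset.card_le_univ T
    have hTc : Tᶜ.card = n - 3 := by rw [Finset.card_compl, hTcard, hn]
    obtain ⟨δ, hδ⟩ : ∃ δ : ℚ, δ = 1 / (4 * n) := ⟨_, rfl⟩
    obtain ⟨τ, hτ⟩ : ∃ τ : ℚ, τ = (2 - ((n - 3 : ℕ) : ℚ) * δ) / 3 := ⟨_, rfl⟩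
    have hnpos : (0 : ℚ) < n := by exact_mod_cast (by omega : 0 < n)
    have hδpos : 0 < δ := by rw [hδ]; positivity
    have hNδ0 : 0 ≤ ((n - 3 : ℕ) : ℚ) * δ := by positivity
    have hNδ : ((n - 3 : ℕ) : ℚ) * δ < 1 / 4 := by
      rw [hδ, Nat.cast_sub hn3]
      rw [mul_one_div, div_lt_div_iff₀ (by positivity) (by norm_num)]
      push_cast
      linarith
    have hδ1 : δ ≤ 1 := by
      rw [hδ, div_le_one (by positivity)]
      have : (3 : ℚ) ≤ n := by exact_mod_cast hn3
      linarith
    have hτpos : 0 < τ := by rw [hτ]; linarith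
    have hτ1 : τ ≤ 1 := by rw [hτ]; linarith
    obtain ⟨θ, hθ⟩ : ∃ θ : ι → ℚ, θ = fun m => if m ∈ T then τ else δ := ⟨_, rfl⟩
    have hθpos : ∀ m, 0 < θ m := by
      intro m
      rw [hθ]
      by_cases hm : m ∈ T
      · simp only [if_pos hm]; exact hτpos
      · simp only [if_neg hm]; exact hδpos
    have hsumJ : ∀ J : Finset ι, ∑ m ∈ J, θ m =
        ((J.filter (· ∈ T)).card : ℚ) * τ + ((J.filter (fun m => ¬ m ∈ T)).card : ℚ) * δ := by
      intro J
      rw [hθ, Finset.sum_ite, Finset.sum_const, Finset.sum_const, nsmul_eq_mul, nsmul_eq_mul]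
    have hsum2 : ∑ m, θ m = 2 := by
      rw [hsumJ]
      have e1 : (Finset.univ.filter (· ∈ T)) = T := by
        ext m; simp
      have e2 : (Finset.univ.filter (fun m => ¬ m ∈ T)) = Tᶜ := by
        ext m; simp
      rw [e1, e2, hTcard, hTc, hτ]
      push_cast
      ring
    -- strict bound on lines
    have hlineb : ∀ (J : Finset ι) (v : Fin 2 → K), (∀ m ∈ J, s m ∈ K ∙ v) →
        ∑ m ∈ J, θ m ≤ 5 / 6 := by
      intro J v hJ
      rw [hsumJ]
      have hc1 : (J.filter (· ∈ T)).card ≤ 1 := by
        by_contra hcon
        push Not at hcon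
        obtain ⟨a, ha, b, hb, hab⟩ := Finset.one_lt_card.1 hcon
        have haJ := (Finset.mem_filter.1 ha).1
        have hbJ := (Finset.mem_filter.1 hb).1
        have haT := (Finset.mem_filter.1 ha).2
        have hbT := (Finset.mem_filter.1 hb).2
        have hprop : s a ∈ K ∙ s b := mem_line_of_mem_line (hs b) (hJ a haJ) (hJ b hbJ)
        rw [hT] at haT hbT
        simp only [Finset.mem_insert, Finset.mem_singleton] at haT hbT
        rcases haT with rfl | rfl | rfl <;> rcases hbT with rfl | rfl | rfl
        · exact hab rfl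
        · exact hij hprop
        · exact hik hprop
        · exact hji hprop
        · exact hab rfl
        · exact hjk hprop
        · exact hki hprop
        · exact hkj hprop
        · exact hab rfl
      have hc2 : (J.filter (fun m => ¬ m ∈ T)).card ≤ n - 3 := by
        rw [← hTc]
        apply Finset.card_le_card
        intro m hm
        rw [Finset.mem_compl]
        exact (Finset.mem_filter.1 hm).2
      have hc1' : ((J.filter (· ∈ T)).card : ℚ) ≤ 1 := by exact_mod_cast hc1
      have hc2' : ((J.filter (fun m => ¬ m ∈ T)).card : ℚ) ≤ ((n - 3 : ℕ) : ℚ) := by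
        exact_mod_cast hc2
      have h3 : ((J.filter (· ∈ T)).card : ℚ) * τ ≤ 1 * τ :=
        mul_le_mul_of_nonneg_right hc1' hτpos.le
      have h4 : ((J.filter (fun m => ¬ m ∈ T)).card : ℚ) * δ ≤ ((n - 3 : ℕ) : ℚ) * δ :=
        mul_le_mul_of_nonneg_right hc2' hδpos.le
      rw [hτ] at h3 ⊢
      linarith
    refine ⟨θ, fun m => (hθpos m).le, ?_, hsum2, ?_⟩
    · intro m
      rw [hθ]
      by_cases hm : m ∈ T
      · simp only [if_pos hm]; exact hτ1
      · simp only [if_neg hm]; exact hδ1
    · have hsemi : PtQuiv.QSemistable (-1) θ s :=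
        (Groth.Agent.S18560.result K ι s hs θ (fun m => (hθpos m).le) (by
          intro m
          rw [hθ]
          by_cases hm : m ∈ T
          · simp only [if_pos hm]; exact hτ1
          · simp only [if_neg hm]; exact hδ1) hsum2).2 (fun J v hJ => by
            have := hlineb J v hJ
            linarith)
      refine ⟨hsemi, ?_⟩
      intro L I hLI hz
      unfold PtQuiv.QWt at hz
      have hfr : Module.finrank K L ≤ 2 := by
        have := Submodule.finrank_le L
        rwa [Module.finrank_fin_fun] at this
      obtain ⟨r, hr⟩ : ∃ r, Module.finrank K L = r := ⟨_, rfl⟩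
      rw [hr] at hfr hz
      interval_cases r
      · left
        have hLbot : L = ⊥ := Submodule.finrank_eq_zero.1 hr
        refine ⟨hLbot, ?_⟩
        apply Finset.eq_empty_of_forall_notMem
        intro m hm
        have := hLI m hm
        rw [hLbot, Submodule.mem_bot] at this
        exact hs m this
      · exfalso
        obtain ⟨v, hv0, hv⟩ := finrank_eq_one_iff'.1 hr
        have := hlineb I v.1 (fun m hm => by
          obtain ⟨c, hc⟩ := hv ⟨s m, hLI m hm⟩
          rw [Submodule.mem_span_singleton]
          exact ⟨c, congrArg Subtype.val hc⟩)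
        push_cast at hz
        linarith
      · right
        have hLtop : L = ⊤ := by
          apply Submodule.eq_top_of_finrank_eq
          rw [hr, Module.finrank_fin_fun]
        refine ⟨hLtop, ?_⟩
        by_contra hI
        obtain ⟨m, hm⟩ : ∃ m, m ∉ I := by
          by_contra hcon
          push Not at hcon
          exact hI (Finset.eq_univ_of_forall hcon)
        have hlt : ∑ x ∈ I, θ x < ∑ x, θ x := by
          apply Finset.sum_lt_sum_of_subset (Finset.subset_univ I) (Finset.mem_univ m) hm (hθpos m)
          intro x _ _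
          exact (hθpos x).le
        push_cast at hz
        linarith

end Groth.Agent.S18561
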