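import Groth.Statements.S18564
import Mathlib
import Groth.Agent.Lib.Helper25.GPGeom
set_option linter.style.haveILetI false

set_option autoImplicit false
universe u
open CategoryTheory CategoryTheory.Limits AlgebraicGeometry
open ParSh

namespace Groth.Agent.S18564

/-- Let Y be a smooth proper integral curve (integral, smooth and proper over k, of dimension one) over
an algebraically closed field k, D an effective Cartier divisor on Y with ideal I, and α a real
weight with 0 ≤ α < 1. A generalised parabolic structure on a finite locally free O_Y-module E is a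
k-linear subspace F₁ of H⁰(Y, E ⊗ O_D); its parabolic degree in rank n is deg E + α·dim_k F₁ (deg E
= χ(E) − n·χ(O_Y)); a homomorphism f : E → E' is parabolic when the induced k-linear map H⁰(E ⊗ O_D)
→ H⁰(E' ⊗ O_D) carries F₁ into F₁'; a submodule G → E gets the preimage structure and (E, F₁) is
semistable (stable) when deg(G, preimage) · n ≤ (<) deg(E, F₁) · r for every finite locally free
submodule G of rank r ≥ 1 (with r < n for stability). Let E and F be finite locally free of the same
rank n ≥ 1 with structures F₁ and F₁', and f : E → F a parabolic monomorphism (a monomorphism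
between modules of equal rank, that is, a generic isomorphism). Then the parabolic degree of (E, F₁)
is at most that of (F, F₁'), and equality holds if and only if f is an isomorphism of O_Y-modules
which, when α > 0, also maps F₁ onto F₁'. The published statement asks in the equality case for an
isomorphism of generalised parabolic bundles (an isomorphism of modules mapping F₁ onto F₁') at
every weight 0 ≤ α < 1; at α = 0 this fails, since the identity of O_Y, from the zero structure to
all of H⁰(O_D) with D a single point, has equal parabolic degrees on both sides without being one,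
while the published proof shows only that the cokernel vanishes; so the condition on F₁ is asked
here only for α > 0. The published statement is also set on the normalisation of a singular curve
with D lying over its singular points; neither is used. -/
theorem result (k : Type u) [Field k] [IsAlgClosed k] (X : Scheme.{u}) [X.Over (Spec (CommRingCat.of k))]
    [AlgebraicGeometry.IsIntegral X] [IsProper (X ↘ Spec (CommRingCat.of k))] [Smooth (X ↘ Spec (CommRingCat.of k))]
    (hdim : topologicalKrullDim X = 1)
    (I : X.IdealSheafData) (hD : FGA.IsEffCartier I) (α : ℝ) (hα0 : 0 ≤ α) (hα1 : α < 1)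
    {E F : X.Modules} (n : ℕ) (hn : 0 < n) (hE : FlatMod.IsFinLocFreeOfRank n E) (hF : FlatMod.IsFinLocFreeOfRank n F)
    (F₁ : Submodule k (ParSh.fibD X I E)) (F₁' : Submodule k (ParSh.fibD X I F))
    (f : E ⟶ F) [Mono f] (hf : ParSh.IsGPHom k X I F₁ F₁' f) :
    ParSh.gpDeg k X α E F₁ n ≤ ParSh.gpDeg k X α F F₁' n ∧
      (ParSh.gpDeg k X α E F₁ n = ParSh.gpDeg k X α F F₁' n ↔
        (IsIso f ∧ (0 < α → Submodule.map (ParSh.fibDMap k X I f) F₁ = F₁'))) := by
  haveI : Nonempty X := inferInstance
  have hdim' : topologicalKrullDim X ≤ 1 := hdim.le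
  have hEcoh := Groth.Agent.Lib.Helper23.Curve.isCoh_of_isFinLocFreeOfRank hE
  have hFcoh := Groth.Agent.Lib.Helper23.Curve.isCoh_of_isFinLocFreeOfRank hF
  haveI : Module.Finite k (ParSh.fibD X I E) :=
    Groth.Agent.Lib.Helper25.GPGeom.finite_fibD k I hEcoh
  haveI : Module.Finite k (ParSh.fibD X I F) :=
    Groth.Agent.Lib.Helper25.GPGeom.finite_fibD k I hFcoh
  have hfull := Groth.Agent.Lib.Helper25.GPGeom.fullrank_ineq k hdim I hD n hE hF f F₁'
  have hdeg := Groth.Agent.Lib.Helper23.VBMaps.deg_le_of_mono_same_rank k hdim' hE hF f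
  have hf' : F₁.map (ParSh.fibDMap k X I f) ≤ F₁' := hf
  have hle : F₁ ≤ ParSh.gpInduced k X I f F₁' := by
    unfold ParSh.gpInduced
    intro x hx
    exact hf' (Submodule.mem_map_of_mem hx)
  have h1 : Module.finrank k F₁ ≤ Module.finrank k (ParSh.gpInduced k X I f F₁') :=
    Submodule.finrank_mono hle
  have hp : (Module.finrank k F₁ : ℝ) ≤
      (Module.finrank k (ParSh.gpInduced k X I f F₁') : ℝ) := by exact_mod_cast h1
  have hfullR : (Module.finrank k (ParSh.gpInduced k X I f F₁') : ℝ) + (Curv2.deg k X E n : ℝ) ≤
      (Curv2.deg k X F n : ℝ) + (Module.finrank k F₁' : ℝ) := by exact_mod_cast hfull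
  have hdegR : (Curv2.deg k X E n : ℝ) ≤ (Curv2.deg k X F n : ℝ) := by exact_mod_cast hdeg.1
  have e1 : α * (Module.finrank k F₁ : ℝ) ≤
      α * (Module.finrank k (ParSh.gpInduced k X I f F₁') : ℝ) :=
    mul_le_mul_of_nonneg_left hp hα0
  have e2 : α * (Module.finrank k (ParSh.gpInduced k X I f F₁') : ℝ) ≤
      α * ((Curv2.deg k X F n : ℝ) - (Curv2.deg k X E n : ℝ) + (Module.finrank k F₁' : ℝ)) :=
    mul_le_mul_of_nonneg_left (by linarith) hα0
  have e3 : α * ((Curv2.deg k X F n : ℝ) - (Curv2.deg k X E n : ℝ)) ≤
      1 * ((Curv2.deg k X F n : ℝ) - (Curv2.deg k X E n : ℝ)) :=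
    mul_le_mul_of_nonneg_right hα1.le (by linarith)
  unfold ParSh.gpDeg ParSh.gpWt
  refine ⟨by nlinarith [e1, e2, e3], ⟨?_, ?_⟩⟩
  · intro heq
    have e4 : (1 - α) * ((Curv2.deg k X F n : ℝ) - (Curv2.deg k X E n : ℝ)) ≤ 0 := by
      nlinarith [e1, e2, e3]
    have e5 : (Curv2.deg k X F n : ℝ) - (Curv2.deg k X E n : ℝ) ≤ 0 := by
      by_contra hpos
      push_neg at hpos
      have := mul_pos (sub_pos.mpr hα1) hpos
      linarith
    have hdegeq : Curv2.deg k X E n = Curv2.deg k X F n := by
      have : (Curv2.deg k X E n : ℝ) = (Curv2.deg k X F n : ℝ) := by linarith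
      exact_mod_cast this
    haveI hiso : IsIso f := hdeg.2 hdegeq
    refine ⟨hiso, fun hαpos => ?_⟩
    have hinj := Groth.Agent.Lib.Helper25.GPGeom.fibDMap_injective_of_isIso k I f
    have hpq : (Module.finrank k F₁ : ℝ) = (Module.finrank k F₁' : ℝ) := by
      have h6 : α * (Module.finrank k F₁ : ℝ) = α * (Module.finrank k F₁' : ℝ) := by
        rw [hdegeq] at heq
        linarith
      exact mul_left_cancel₀ hαpos.ne' h6
    have hpq' : Module.finrank k F₁ = Module.finrank k F₁' := by exact_mod_cast hpq
    have h7 : Module.finrank k (F₁.map (ParSh.fibDMap k X I f)) = Module.finrank k F₁' := by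
      rw [← hpq']
      exact (Submodule.equivMapOfInjective (ParSh.fibDMap k X I f) hinj F₁).finrank_eq.symm
    exact Submodule.eq_of_le_of_finrank_eq hf' h7
  · rintro ⟨hiso, hmap⟩
    haveI := hiso
    have d1 := (Groth.Agent.Lib.Helper23.VBMaps.deg_le_of_mono_same_rank k hdim' hF hE (inv f)).1
    have hdegeq : Curv2.deg k X E n = Curv2.deg k X F n := le_antisymm hdeg.1 d1
    rw [hdegeq]
    by_cases hαpos : 0 < α
    · have hinj := Groth.Agent.Lib.Helper25.GPGeom.fibDMap_injective_of_isIso k I f
      have h7 : Module.finrank k F₁' = Module.finrank k F₁ := by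
        rw [← hmap hαpos]
        exact (Submodule.equivMapOfInjective (ParSh.fibDMap k X I f) hinj F₁).finrank_eq.symm
      rw [h7]
    · have hα00 : α = 0 := le_antisymm (not_lt.mp hαpos) hα0
      rw [hα00]
      simp

end Groth.Agent.S18564
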