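import Groth.Statements.S18565
import Mathlib
import Groth.Agent.Lib.Helper25.GPGeom2
import Groth.Agent.Lib.Helper25.GPGeom4
set_option linter.style.haveILetI false

set_option autoImplicit false
universe u
open CategoryTheory CategoryTheory.Limits AlgebraicGeometry
open ParSh

namespace Groth.Agent.S18565

/-- Let Y be a smooth proper integral curve (integral, smooth and proper over k, of dimension one) over
an algebraically closed field k, D an effective Cartier divisor on Y with ideal I, and α a real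
weight with 0 ≤ α < 1. A generalised parabolic structure on a finite locally free O_Y-module E is a
k-linear subspace F₁ of H⁰(Y, E ⊗ O_D); its parabolic degree in rank n is deg E + α·dim_k F₁ (deg E
= χ(E) − n·χ(O_Y)); a homomorphism f : E → E' is parabolic when the induced k-linear map H⁰(E ⊗ O_D)
→ H⁰(E' ⊗ O_D) carries F₁ into F₁'; a submodule G → E gets the preimage structure and (E, F₁) is
semistable (stable) when deg(G, preimage) · n ≤ (<) deg(E, F₁) · r for every finite locally free
submodule G of rank r ≥ 1 (with r < n for stability). Let (E, F₁) and (F, F₁') be semistable of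
ranks n ≥ 1 and m ≥ 1 with the same parabolic slope, pardeg(E, F₁)·m = pardeg(F, F₁')·n, and let f :
E → F be a parabolic homomorphism. Then f has constant rank: the cokernel of f in the category of
O_Y-modules is finite locally free. The published statement is set on the normalisation of a
singular curve with D lying over its singular points; neither is used. -/
theorem result (k : Type u) [Field k] [IsAlgClosed k] (X : Scheme.{u}) [X.Over (Spec (CommRingCat.of k))]
    [AlgebraicGeometry.IsIntegral X] [IsProper (X ↘ Spec (CommRingCat.of k))] [Smooth (X ↘ Spec (CommRingCat.of k))]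
    (hdim : topologicalKrullDim X = 1)
    (I : X.IdealSheafData) (hD : FGA.IsEffCartier I) (α : ℝ) (hα0 : 0 ≤ α) (hα1 : α < 1)
    {E F : X.Modules} (n m : ℕ) (hn : 0 < n) (hm : 0 < m)
    (hE : FlatMod.IsFinLocFreeOfRank n E) (hF : FlatMod.IsFinLocFreeOfRank m F)
    (F₁ : Submodule k (ParSh.fibD X I E)) (F₁' : Submodule k (ParSh.fibD X I F))
    (hEss : ParSh.IsGPSemistable k X I α F₁ n) (hFss : ParSh.IsGPSemistable k X I α F₁' m)
    (hμ : ParSh.gpDeg k X α E F₁ n * (m : ℝ) = ParSh.gpDeg k X α F F₁' m * (n : ℝ))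
    (f : E ⟶ F) (hf : ParSh.IsGPHom k X I F₁ F₁' f) :
    ∃ r₀ : ℕ, FlatMod.IsFinLocFreeOfRank r₀ (cokernel f) := by
  haveI : Nonempty X := inferInstance
  have hdim' : topologicalKrullDim X ≤ 1 := hdim.le
  obtain ⟨a, b, hK, hIm, hrank, hdegE, hb0, ha0, -, hbm⟩ :=
    Groth.Agent.Lib.Helper23.VBMaps.map_analysis k hdim' hE hF f
  by_cases hb : b = 0
  · have hf0 := hb0 hb
    subst hf0
    exact ⟨m, Groth.Agent.Lib.Helper23.Sat.isFinLocFreeOfRank_of_iso cokernelZeroIsoTarget.symm hF⟩
  have hbpos : 0 < b := Nat.pos_of_ne_zero hb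
  have hf' : F₁.map (ParSh.fibDMap k X I f) ≤ F₁' := hf
  have hfac : Abelian.coimage.π f ≫ Abelian.factorThruCoimage f = f := Abelian.coimage.fac f
  have hwι : kernel.ι f ≫ Abelian.coimage.π f = 0 := cokernel.condition _
  haveI : Module.Finite k (ParSh.fibD X I E) := Groth.Agent.Lib.Helper25.GPGeom.finite_fibD k I
    (Groth.Agent.Lib.Helper23.Curve.isCoh_of_isFinLocFreeOfRank hE)
  haveI : Module.Finite k (ParSh.fibD X I (Abelian.coimage f)) :=
    Groth.Agent.Lib.Helper25.GPGeom.finite_fibD k I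
      (Groth.Agent.Lib.Helper23.Curve.isCoh_of_isFinLocFreeOfRank hIm)
  haveI : Module.Finite k (ParSh.fibD X I (kernel f)) :=
    Groth.Agent.Lib.Helper25.GPGeom.finite_fibD k I
      (Groth.Agent.Lib.Helper23.Curve.isCoh_of_isFinLocFreeOfRank hK)
  have hmain := Groth.Agent.Lib.Helper25.GPGeom2.finrank_le_induced_add_map k hdim I hD hK hE hIm
    hrank (kernel.ι f) (Abelian.coimage.π f) hwι F₁
  have hmap_le : F₁.map (ParSh.fibDMap k X I (Abelian.coimage.π f)) ≤
      ParSh.gpInduced k X I (Abelian.factorThruCoimage f) F₁' := by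
    unfold ParSh.gpInduced
    rintro y ⟨x, hx, rfl⟩
    change ParSh.fibDMap k X I (Abelian.factorThruCoimage f)
      (ParSh.fibDMap k X I (Abelian.coimage.π f) x) ∈ F₁'
    rw [← Groth.Agent.Lib.Helper25.GPGeom2.fibDMap_comp, hfac]
    exact hf' (Submodule.mem_map_of_mem hx)
  have hs_le := Submodule.finrank_mono hmap_le
  have hp : (Module.finrank k F₁ : ℝ) ≤
      (Module.finrank k (ParSh.gpInduced k X I (kernel.ι f) F₁) : ℝ) +
        (Module.finrank k (ParSh.gpInduced k X I (Abelian.factorThruCoimage f) F₁') : ℝ) := by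
    exact_mod_cast hmain.trans (Nat.add_le_add_left hs_le _)
  have hDE : (Curv2.deg k X E n : ℝ) =
      (Curv2.deg k X (kernel f) a : ℝ) + (Curv2.deg k X (Abelian.coimage f) b : ℝ) := by
    exact_mod_cast hdegE
  unfold ParSh.gpDeg ParSh.gpWt at hμ
  have h1' : ((Curv2.deg k X (kernel f) a : ℝ) +
      α * (Module.finrank k (ParSh.gpInduced k X I (kernel.ι f) F₁) : ℝ)) * (n : ℝ) ≤
      ((Curv2.deg k X E n : ℝ) + α * (Module.finrank k F₁ : ℝ)) * (a : ℝ) := by
    rcases Nat.eq_zero_or_pos a with ha | hapos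
    · have hκ : Module.finrank k (ParSh.gpInduced k X I (kernel.ι f) F₁) = 0 := by
        have h6 := Groth.Agent.Lib.Helper25.GPGeom2.finrank_fibD k hdim I hD a hK
        have h7 := Submodule.finrank_le (ParSh.gpInduced k X I (kernel.ι f) F₁)
        rw [h6, ha, Nat.zero_mul] at h7
        omega
      have hdK : Curv2.deg k X (kernel f) a = 0 := (ha0 ha).2
      rw [hκ, hdK, ha]
      simp
    · have h1 := hEss (kernel f) a (kernel.ι f) inferInstance hapos hK
      unfold ParSh.gpDeg ParSh.gpWt at h1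
      exact h1
  have hE1 := Groth.Agent.Lib.Helper25.GPGeom4.arithEqA _ _ _ α _ _ _ a b n hrank hα0 hDE h1' hp
  have hE2 := Groth.Agent.Lib.Helper25.GPGeom4.arithEqB _ _ _ α _ _ _ b n m hn hE1 hμ
  -- saturation of the image in `F`
  obtain ⟨G', C', i', p, w, u, c, hS, hu, hG', hC', hrc, hdle, hdF, hiso⟩ :=
    Groth.Agent.Lib.Helper23.Sat.exists_saturation k hdim' hIm hF (Abelian.factorThruCoimage f)
  haveI : Mono i' := hS.mono_f
  haveI : Mono u := mono_of_mono_fac hu
  have h3 := hFss G' b i' inferInstance hbpos hG'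
  unfold ParSh.gpDeg ParSh.gpWt at h3
  have h4 := Groth.Agent.Lib.Helper25.GPGeom.fullrank_ineq k hdim I hD b hIm hG' u
    (ParSh.gpInduced k X I i' F₁')
  have h5 : ParSh.gpInduced k X I u (ParSh.gpInduced k X I i' F₁') =
      ParSh.gpInduced k X I (Abelian.factorThruCoimage f) F₁' := by
    unfold ParSh.gpInduced
    ext x
    simp only [Submodule.mem_comap]
    rw [← Groth.Agent.Lib.Helper25.GPGeom2.fibDMap_comp, hu]
  rw [h5] at h4
  have h4R : (Module.finrank k (ParSh.gpInduced k X I (Abelian.factorThruCoimage f) F₁') : ℝ) +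
      (Curv2.deg k X (Abelian.coimage f) b : ℝ) ≤ (Curv2.deg k X G' b : ℝ) +
        (Module.finrank k (ParSh.gpInduced k X I i' F₁') : ℝ) := by exact_mod_cast h4
  have hdleR : (Curv2.deg k X (Abelian.coimage f) b : ℝ) ≤ (Curv2.deg k X G' b : ℝ) := by
    exact_mod_cast hdle
  have hdeq := Groth.Agent.Lib.Helper25.GPGeom4.arithSat _ _ _ α _ _ _ b m hm hα0 hα1 hE2 h3 h4R hdleR
  have hdeqZ : Curv2.deg k X (Abelian.coimage f) b = Curv2.deg k X G' b := by
    exact_mod_cast hdeq.symm
  haveI : IsIso u := hiso hdeqZ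
  have hepi : Epi (Abelian.coimage.π f ≫ u) :=
    @epi_comp _ _ _ _ _ (Abelian.coimage.π f) inferInstance u inferInstance
  obtain ⟨e, -⟩ := @Groth.Agent.Lib.Helper23.Sat.exists_cokernel_iso_of_epi_fac _ _ _ _ _ _ _ f i' p w hS
    (Abelian.coimage.π f ≫ u) hepi (by rw [Category.assoc, hu, hfac])
  exact ⟨c, Groth.Agent.Lib.Helper23.Sat.isFinLocFreeOfRank_of_iso e.symm hC'⟩

end Groth.Agent.S18565
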