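import Groth.Statements.S18566
import Mathlib
import Groth.Agent.Lib.Helper25.GPGeom2
import Groth.Agent.S18564
set_option linter.style.haveILetI false

set_option autoImplicit false
universe u
open CategoryTheory CategoryTheory.Limits AlgebraicGeometry
open ParSh

namespace Groth.Agent.S18566

/-- Let Y be a smooth proper integral curve (integral, smooth and proper over k, of dimension one) over
an algebraically closed field k, D an effective Cartier divisor on Y with ideal I, and α a real
weight with 0 ≤ α < 1. A generalised parabolic structure on a finite locally free O_Y-module E is a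
k-linear subspace F₁ of H⁰(Y, E ⊗ O_D); its parabolic degree in rank n is deg E + α·dim_k F₁ (deg E
= χ(E) − n·χ(O_Y)); a homomorphism f : E → E' is parabolic when the induced k-linear map H⁰(E ⊗ O_D)
→ H⁰(E' ⊗ O_D) carries F₁ into F₁'; a submodule G → E gets the preimage structure and (E, F₁) is
semistable (stable) when deg(G, preimage) · n ≤ (<) deg(E, F₁) · r for every finite locally free
submodule G of rank r ≥ 1 (with r < n for stability). Let (E, F₁) and (F, F₁') be semistable and
stable of ranks n ≥ 1 and m ≥ 1 with the same parabolic slope, pardeg(E, F₁)·m = pardeg(F, F₁')·n,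
and let f : E → F be a parabolic homomorphism. Then either f = 0 or f is an isomorphism of
O_Y-modules which, when α > 0, maps F₁ onto F₁'. The published statement concludes an isomorphism of
generalised parabolic bundles (an isomorphism of modules mapping F₁ onto F₁') at every weight 0 ≤ α
< 1; at α = 0 this fails, since the identity of O_Y, from the zero structure to all of H⁰(O_D) with
D a single point, is a nonzero parabolic map between stable rank-one objects of equal slope that is
not one; so the condition on F₁ is asked here only for α > 0. The published statement is also set on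
the normalisation of a singular curve with D lying over its singular points; neither is used. -/
theorem result (k : Type u) [Field k] [IsAlgClosed k] (X : Scheme.{u}) [X.Over (Spec (CommRingCat.of k))]
    [AlgebraicGeometry.IsIntegral X] [IsProper (X ↘ Spec (CommRingCat.of k))] [Smooth (X ↘ Spec (CommRingCat.of k))]
    (hdim : topologicalKrullDim X = 1)
    (I : X.IdealSheafData) (hD : FGA.IsEffCartier I) (α : ℝ) (hα0 : 0 ≤ α) (hα1 : α < 1)
    {E F : X.Modules} (n m : ℕ) (hn : 0 < n) (hm : 0 < m)
    (hE : FlatMod.IsFinLocFreeOfRank n E) (hF : FlatMod.IsFinLocFreeOfRank m F)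
    (F₁ : Submodule k (ParSh.fibD X I E)) (F₁' : Submodule k (ParSh.fibD X I F))
    (hEss : ParSh.IsGPSemistable k X I α F₁ n) (hEst : ParSh.IsGPStable k X I α F₁ n)
    (hFss : ParSh.IsGPSemistable k X I α F₁' m) (hFst : ParSh.IsGPStable k X I α F₁' m)
    (hμ : ParSh.gpDeg k X α E F₁ n * (m : ℝ) = ParSh.gpDeg k X α F F₁' m * (n : ℝ))
    (f : E ⟶ F) (hf : ParSh.IsGPHom k X I F₁ F₁' f) :
    f = 0 ∨ (IsIso f ∧ (0 < α → Submodule.map (ParSh.fibDMap k X I f) F₁ = F₁')) := by
  haveI : Nonempty X := inferInstance
  have hdim' : topologicalKrullDim X ≤ 1 := hdim.le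
  obtain ⟨a, b, hK, hIm, hrank, hdegE, hb0, ha0, -, hbm⟩ :=
    Groth.Agent.Lib.Helper23.VBMaps.map_analysis k hdim' hE hF f
  by_cases hb : b = 0
  · exact Or.inl (hb0 hb)
  right
  have hbpos : 0 < b := Nat.pos_of_ne_zero hb
  have hf' : F₁.map (ParSh.fibDMap k X I f) ≤ F₁' := hf
  have hfac : Abelian.coimage.π f ≫ Abelian.factorThruCoimage f = f := Abelian.coimage.fac f
  have hwι : kernel.ι f ≫ Abelian.coimage.π f = 0 := cokernel.condition _
  haveI : Module.Finite k (ParSh.fibD X I E) := Groth.Agent.Lib.Helper25.GPGeom.finite_fibD k I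
    (Groth.Agent.Lib.Helper23.Curve.isCoh_of_isFinLocFreeOfRank hE)
  haveI : Module.Finite k (ParSh.fibD X I (Abelian.coimage f)) :=
    Groth.Agent.Lib.Helper25.GPGeom.finite_fibD k I
      (Groth.Agent.Lib.Helper23.Curve.isCoh_of_isFinLocFreeOfRank hIm)
  -- `a = 0`
  have ha : a = 0 := by
    by_contra ha'
    have hapos : 0 < a := Nat.pos_of_ne_zero ha'
    have hmain := Groth.Agent.Lib.Helper25.GPGeom2.finrank_le_induced_add_map k hdim I hD hK hE hIm
      hrank (kernel.ι f) (Abelian.coimage.π f) hwι F₁
    have hmap_le : F₁.map (ParSh.fibDMap k X I (Abelian.coimage.π f)) ≤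
        ParSh.gpInduced k X I (Abelian.factorThruCoimage f) F₁' := by
      unfold ParSh.gpInduced
      rintro y ⟨x, hx, rfl⟩
      change ParSh.fibDMap k X I (Abelian.factorThruCoimage f)
        (ParSh.fibDMap k X I (Abelian.coimage.π f) x) ∈ F₁'
      rw [← Groth.Agent.Lib.Helper25.GPGeom2.fibDMap_comp, hfac]
      exact hf' (Submodule.mem_map_of_mem hx)
    have hs_le := Submodule.finrank_mono hmap_le
    have h1 := hEst (kernel f) a (kernel.ι f) inferInstance hapos (by omega) hK
    have h2 := hFss (Abelian.coimage f) b (Abelian.factorThruCoimage f) inferInstance hbpos hIm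
    unfold ParSh.gpDeg ParSh.gpWt at h1 h2 hμ
    have hDE : (Curv2.deg k X E n : ℝ) =
        (Curv2.deg k X (kernel f) a : ℝ) + (Curv2.deg k X (Abelian.coimage f) b : ℝ) := by
      exact_mod_cast hdegE
    have hp : (Module.finrank k F₁ : ℝ) ≤
        (Module.finrank k (ParSh.gpInduced k X I (kernel.ι f) F₁) : ℝ) +
          (Module.finrank k (ParSh.gpInduced k X I (Abelian.factorThruCoimage f) F₁') : ℝ) := by
      exact_mod_cast hmain.trans (Nat.add_le_add_left hs_le _)
    exact Groth.Agent.Lib.Helper25.GPGeom2.arithKI _ _ _ _ α _ _ _ _ a b n m hrank hm hn hα0 hDE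
      h1 h2 hμ hp
  -- `f` is a monomorphism of rank `n`
  haveI hmono : Mono f := (ha0 ha).1
  have hnb : n = b := by omega
  haveI : Module.Finite k (ParSh.fibD X I F) := Groth.Agent.Lib.Helper25.GPGeom.finite_fibD k I
    (Groth.Agent.Lib.Helper23.Curve.isCoh_of_isFinLocFreeOfRank hF)
  have hle : F₁ ≤ ParSh.gpInduced k X I f F₁' := by
    unfold ParSh.gpInduced
    intro x hx
    exact hf' (Submodule.mem_map_of_mem hx)
  have hps : (Module.finrank k F₁ : ℝ) ≤ (Module.finrank k (ParSh.gpInduced k X I f F₁') : ℝ) := by
    exact_mod_cast Submodule.finrank_mono hle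
  have hnm : n = m := by
    by_contra hne
    have hlt : n < m := by omega
    have hst := hFst E n f hmono hn hlt hE
    unfold ParSh.gpDeg ParSh.gpWt at hst hμ
    exact Groth.Agent.Lib.Helper25.GPGeom2.arithMono _ _ α _ _ _ n m hα0 hps hμ hst
  subst hnm
  have heq : ParSh.gpDeg k X α E F₁ n = ParSh.gpDeg k X α F F₁' n := by
    have hn' : (n : ℝ) ≠ 0 := by exact_mod_cast hn.ne'
    exact mul_right_cancel₀ hn' hμ
  exact (Groth.Agent.S18564.result k X hdim I hD α hα0 hα1 n hn hE hF F₁ F₁' f hf).2.mp heq

end Groth.Agent.S18566
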