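import Groth.Statements.S1857
import Groth.Agent.S6478
import Groth.Agent.S9359
import Groth.Agent.S9358
import Groth.Agent.Lib.Helper12.RelDimDescend

set_option autoImplicit false
universe u
open CategoryTheory AlgebraicGeometry
open Cyc

namespace Groth.Agent.S1857

open Groth.Agent.Lib.Helper12 CategoryTheory.Limits

theorem hasRelDim_comp (X Y Z : Scheme.{u}) (f : X ⟶ Y) (g : Y ⟶ Z) [Flat f]
    [LocallyOfFiniteType f] [LocallyOfFiniteType g] (r s : ℕ) (hr : Cyc.HasRelDim f r)
    (hs : Cyc.HasRelDim g s) : Cyc.HasRelDim (f ≫ g) (r + s) := by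
  rw [RelDimDescend.hasRelDim_iff]
  intro x
  have hs' := (RelDimDescend.hasRelDim_iff g s).mp hs
  let z : Z := (f ≫ g).base x
  let ι := Z.fromSpecResidueField z
  let φ : pullback (f ≫ g) ι ⟶ pullback g ι :=
    pullback.lift (pullback.fst (f ≫ g) ι ≫ f) (pullback.snd (f ≫ g) ι)
      (by rw [Category.assoc, pullback.condition])
  have hφ1 : φ ≫ pullback.fst g ι = pullback.fst (f ≫ g) ι ≫ f := pullback.lift_fst _ _ _
  have hφ2 : φ ≫ pullback.snd g ι = pullback.snd (f ≫ g) ι := pullback.lift_snd _ _ _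
  have hsq : IsPullback (pullback.fst (f ≫ g) ι) φ f (pullback.fst g ι) := by
    have big : IsPullback (φ ≫ pullback.snd g ι) (pullback.fst (f ≫ g) ι) ι (f ≫ g) := by
      rw [hφ2]; exact (IsPullback.of_hasPullback (f ≫ g) ι).flip
    have right : IsPullback (pullback.snd g ι) (pullback.fst g ι) ι g :=
      (IsPullback.of_hasPullback g ι).flip
    exact (IsPullback.of_right big hφ1 right).flip
  haveI : Flat φ := MorphismProperty.of_isPullback (P := @Flat) hsq inferInstance
  haveI : LocallyOfFiniteType φ :=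
    MorphismProperty.of_isPullback (P := @LocallyOfFiniteType) hsq inferInstance
  have hrφ : Cyc.HasRelDim φ r :=
    (Groth.Agent.S9358.result f (pullback.fst g ι) (pullback.fst (f ≫ g) ι) φ hsq r).2.2 hr
  haveI : LocallyOfFiniteType (pullback.snd g ι) :=
    MorphismProperty.of_isPullback (P := @LocallyOfFiniteType) (IsPullback.of_hasPullback g ι) inferInstance
  haveI : LocallyOfFiniteType (pullback.snd (f ≫ g) ι) :=
    MorphismProperty.of_isPullback (P := @LocallyOfFiniteType) (IsPullback.of_hasPullback (f ≫ g) ι) inferInstance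
  haveI : IsLocallyNoetherian (pullback g ι) :=
    LocallyOfFiniteType.isLocallyNoetherian (pullback.snd g ι)
  haveI : IsLocallyNoetherian (pullback (f ≫ g) ι) :=
    LocallyOfFiniteType.isLocallyNoetherian (pullback.snd (f ≫ g) ι)
  have key := Groth.Agent.S9359.result φ r hrφ ((f ≫ g).asFiber x)
  have hpt : φ.base ((f ≫ g).asFiber x) = g.asFiber (f.base x) := by
    apply (g.fiberι z).isEmbedding.injective
    have h1 : (g.fiberι z) (φ.base ((f ≫ g).asFiber x)) =
        f.base (((f ≫ g).fiberι z) ((f ≫ g).asFiber x)) := by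
      have := congrArg (fun (m : pullback (f ≫ g) ι ⟶ Y) => m.base ((f ≫ g).asFiber x)) hφ1
      exact this
    rw [h1, (f ≫ g).fiberι_asFiber x]
    exact (g.fiberι_asFiber (f.base x)).symm
  have e1 : FlatMor.fibreDimAt (f ≫ g) x =
      FlatMor.localDim (↥(pullback (f ≫ g) ι)) ((f ≫ g).asFiber x) := rfl
  have e2 : FlatMor.localDim (↥(pullback g ι)) (g.asFiber (f.base x)) = s := hs' (f.base x)
  rw [e1, key, hpt, e2, Nat.cast_add, add_comm]

/-- For flat morphisms f : X → Y and g : Y → Z locally of finite type of relative dimensions r and s,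
the composite has relative dimension r + s and (g ∘ f)^* = f^* ∘ g^* on k-cycles (equality of
coefficient functions). Here a pair (X, δ) with Cyc.IsSetup plays the role of a scheme locally of
finite type over a fixed base with a dimension function (X locally Noetherian with universally
catenary local rings, δ a dimension function), and Cyc.DeltaCompat records that the dimension
function upstairs is the induced one. -/
theorem result (X Y Z : Scheme.{u}) (δX : X → ℤ) (δY : Y → ℤ) (δZ : Z → ℤ) (hX : Cyc.IsSetup X δX) (hY : Cyc.IsSetup Y δY) (hZ : Cyc.IsSetup Z δZ) (f : X ⟶ Y) (g : Y ⟶ Z) [Flat f] [LocallyOfFiniteType f] [Flat g] [LocallyOfFiniteType g] (r s : ℕ) (hr : Cyc.HasRelDim f r) (hs : Cyc.HasRelDim g s) (hf : Cyc.DeltaCompat f δX δY) (hg : Cyc.DeltaCompat g δY δZ) (k : ℤ) : Cyc.HasRelDim (f ≫ g) (r + s) ∧ ∀ α : AlgebraicCycle Z ℤ, α ∈ Cyc.Zk Z δZ k → Cyc.pullFun f δX δY r (Cyc.pullFun g δY δZ s ⇑α) = Cyc.pullFun (f ≫ g) δX δZ ((r : ℤ) + s) ⇑α := by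
  refine ⟨hasRelDim_comp X Y Z f g r s hr hs, fun α _ => ?_⟩
  have hsg := Groth.Agent.S6478.shift_of_genF Y Z δY δZ g s hs hg
  have hsf := Groth.Agent.S6478.shift_of_genF X Y δX δY f r hr hf
  have e := Groth.Agent.S6478.pull_comp Z Y X g f δZ δY δX hY.2.2 hX.2.2 (s : ℤ) (r : ℤ) hsg hsf ⇑α
  rw [← e, add_comm]

end Groth.Agent.S1857
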