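import Groth.Statements.S18570
import Mathlib
import Groth.Agent.Lib.Helper25.GPGeom
import Groth.Agent.S18568
set_option linter.style.haveILetI false

set_option autoImplicit false
universe u
open CategoryTheory CategoryTheory.Limits AlgebraicGeometry
open ParSh

namespace Groth.Agent.S18570

/-- Let Y be a smooth proper integral curve (integral, smooth and proper over k, of dimension one) over
an algebraically closed field k and D an effective Cartier divisor on Y with ideal I, of degree d ≥
1 in the sense that H⁰(Y, G ⊗ O_D) has k-dimension r·d for every finite locally free G of rank r. A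
generalised parabolic structure on a finite locally free E is a k-subspace F₁ of H⁰(E ⊗ O_D); with
weight α its parabolic degree in rank n is deg E + α·dim_k F₁ (deg E = χ(E) − n·χ(O_Y)); a submodule
G → E carries the preimage structure under H⁰(G ⊗ O_D) → H⁰(E ⊗ O_D), and (E, F₁) is α-semistable
(α-stable) when deg_α(G)·n ≤ (<) deg_α(E)·r for every finite locally free submodule G of rank r ≥ 1
(with r < n for stability); weight α = 1 gives 1-semistability and 1-stability. Let E have rank n ≥
2 with structure F₁ and let 0 ≤ α < 1 satisfy 1 − 1/(d·n·(n−1)) < α. Suppose moreover that n and deg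
E are coprime and that dim_k F₁ = a·n is a multiple of n. Then α-semistability, α-stability,
1-semistability and 1-stability of (E, F₁) are all equivalent. The published statement is set on the
normalisation of a singular curve, with structures over several disjoint divisors D_i lying over its
singular points, d their total degree and each dim F₁^i a multiple of n; here Y is any smooth proper
integral curve with one structure over one divisor and only dim F₁ = a·n is assumed, which contains
the several-divisor case (D the sum of the D_i, F₁ the direct sum of the F₁^i). -/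
theorem result (k : Type u) [Field k] [IsAlgClosed k] (X : Scheme.{u}) [X.Over (Spec (CommRingCat.of k))]
    [AlgebraicGeometry.IsIntegral X] [IsProper (X ↘ Spec (CommRingCat.of k))] [Smooth (X ↘ Spec (CommRingCat.of k))]
    (hdim : topologicalKrullDim X = 1)
    (I : X.IdealSheafData) (hD : FGA.IsEffCartier I) (d : ℕ) (hd : 0 < d)
    (hdegD : ∀ (G : X.Modules) (r : ℕ), FlatMod.IsFinLocFreeOfRank r G → Module.finrank k (ParSh.fibD X I G) = r * d)
    {E : X.Modules} (n : ℕ) (hn : 2 ≤ n) (hE : FlatMod.IsFinLocFreeOfRank n E)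
    (F₁ : Submodule k (ParSh.fibD X I E))
    (α : ℝ) (hα0 : 0 ≤ α) (hα1 : α < 1) (hα : 1 - 1 / ((d : ℝ) * (n : ℝ) * ((n : ℝ) - 1)) < α)
    (hcop : IsCoprime (n : ℤ) (Curv2.deg k X E n)) (a : ℕ) (ha : Module.finrank k F₁ = a * n) :
    (ParSh.IsGPSemistable k X I α F₁ n ↔ ParSh.IsGPSemistable k X I 1 F₁ n) ∧
      (ParSh.IsGPStable k X I α F₁ n ↔ ParSh.IsGPSemistable k X I 1 F₁ n) ∧
      (ParSh.IsGPStable k X I 1 F₁ n ↔ ParSh.IsGPSemistable k X I 1 F₁ n) := by
  haveI : Nonempty X := inferInstance
  have hdim' : topologicalKrullDim X ≤ 1 := hdim.le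
  have hb : Module.finrank k F₁ ≤ n * d := by
    haveI : Module.Finite k (ParSh.fibD X I E) :=
      Module.finite_of_finrank_pos (by rw [hdegD E n hE]; exact Nat.mul_pos (by omega) hd)
    rw [← hdegD E n hE]
    exact Submodule.finrank_le _
  have hb' : a * n ≤ n * d := by rw [← ha]; exact hb
  -- rank and induced structure bounds
  have key1 : ∀ (G : X.Modules) (r' : ℕ) (i : G ⟶ E), Mono i → 0 < r' →
      FlatMod.IsFinLocFreeOfRank r' G →
      r' ≤ n ∧ Module.finrank k (ParSh.gpInduced k X I i F₁) ≤ r' * d := by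
    intro G r' i hmono hr' hG
    haveI := hmono
    refine ⟨Groth.Agent.Lib.Helper25.GPNear.rank_le_of_mono hG hE i, ?_⟩
    haveI : Module.Finite k (ParSh.fibD X I G) :=
      Module.finite_of_finrank_pos (by rw [hdegD G r' hG]; exact Nat.mul_pos hr' hd)
    rw [← hdegD G r' hG]
    exact Submodule.finrank_le _
  -- the full rank case
  have full : ∀ (β : ℝ), 0 ≤ β → β ≤ 1 → ∀ (G : X.Modules) (i : G ⟶ E), Mono i →
      FlatMod.IsFinLocFreeOfRank n G →
      ParSh.gpDeg k X β G (ParSh.gpInduced k X I i F₁) n * (n : ℝ) ≤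
        ParSh.gpDeg k X β E F₁ n * (n : ℝ) := by
    intro β hβ0 hβ1 G i hmono hG
    haveI := hmono
    have h1 := Groth.Agent.Lib.Helper25.GPGeom.fullrank_ineq k hdim I hD n hG hE i F₁
    have h2 := (Groth.Agent.Lib.Helper23.VBMaps.deg_le_of_mono_same_rank k hdim' hG hE i).1
    unfold ParSh.gpDeg ParSh.gpWt
    exact Groth.Agent.Lib.Helper25.GPGeom.arithFull _ _ _ _ n β hβ0 hβ1 h1 h2
  -- strictness from coprimality
  have strict : ParSh.IsGPSemistable k X I 1 F₁ n → ∀ (G : X.Modules) (r' : ℕ) (i : G ⟶ E),
      Mono i → 0 < r' → r' < n → FlatMod.IsFinLocFreeOfRank r' G →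
      ((Curv2.deg k X G r' : ℝ) + 1 * (Module.finrank k (ParSh.gpInduced k X I i F₁) : ℝ)) * (n : ℝ) <
        ((Curv2.deg k X E n : ℝ) + 1 * ((a * n : ℕ) : ℝ)) * (r' : ℝ) := by
    intro h1ss G r' i hmono hr' hlt hG
    have h := h1ss G r' i hmono hr' hG
    unfold ParSh.gpDeg ParSh.gpWt at h
    rw [ha] at h
    exact Groth.Agent.Lib.Helper25.GPGeom.arithStrict _ _ _ a r' n hr' hlt hcop h
  refine ⟨⟨?_, ?_⟩, ⟨?_, ?_⟩, ⟨?_, ?_⟩⟩
  · -- α-semistable → 1-semistable
    exact Groth.Agent.S18568.result k X hdim I hD d hd hdegD n hn hE F₁ α hα0 hα1 hα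
  · -- 1-semistable → α-semistable
    intro h1ss G r' i hmono hr' hG
    obtain ⟨hrn, ha'⟩ := key1 G r' i hmono hr' hG
    rcases Nat.lt_or_ge r' n with hlt | hge
    · have hs := strict h1ss G r' i hmono hr' hlt hG
      unfold ParSh.gpDeg ParSh.gpWt
      rw [ha]
      exact (Groth.Agent.Lib.Helper25.GPNear.arithC _ _ _ _ r' n d α hlt hd hn hb' hα1 hα hs).le
    · have hreq : r' = n := le_antisymm hrn hge
      subst hreq
      exact full α hα0 hα1.le G i hmono hG
  · -- α-stable → 1-semistable
    intro hst G r' i hmono hr' hG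
    obtain ⟨hrn, ha'⟩ := key1 G r' i hmono hr' hG
    rcases Nat.lt_or_ge r' n with hlt | hge
    · have h := (hst G r' i hmono hr' hlt hG).le
      unfold ParSh.gpDeg ParSh.gpWt at h ⊢
      exact Groth.Agent.Lib.Helper25.GPNear.arithA _ _ _ _ r' n d α hlt hd hn ha' hα1 hα h
    · have hreq : r' = n := le_antisymm hrn hge
      subst hreq
      exact full 1 zero_le_one le_rfl G i hmono hG
  · -- 1-semistable → α-stable
    intro h1ss G r' i hmono hr' hlt hG
    have hs := strict h1ss G r' i hmono hr' hlt hG
    unfold ParSh.gpDeg ParSh.gpWt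
    rw [ha]
    exact Groth.Agent.Lib.Helper25.GPNear.arithC _ _ _ _ r' n d α hlt hd hn hb' hα1 hα hs
  · -- 1-stable → 1-semistable
    intro hst G r' i hmono hr' hG
    obtain ⟨hrn, ha'⟩ := key1 G r' i hmono hr' hG
    rcases Nat.lt_or_ge r' n with hlt | hge
    · exact (hst G r' i hmono hr' hlt hG).le
    · have hreq : r' = n := le_antisymm hrn hge
      subst hreq
      exact full 1 zero_le_one le_rfl G i hmono hG
  · -- 1-semistable → 1-stable
    intro h1ss G r' i hmono hr' hlt hG
    have hs := strict h1ss G r' i hmono hr' hlt hG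
    unfold ParSh.gpDeg ParSh.gpWt
    rw [ha]
    exact hs

end Groth.Agent.S18570
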