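import Groth.Statements.S18573
import Groth.Agent.Lib.Helper23.T2G
import Groth.Agent.Lib.Helper7.LocFreePn

set_option autoImplicit false
universe u
open CategoryTheory AlgebraicGeometry
open REq

namespace Groth.Agent.S18573

/-- Let Y be a scheme over a field k and K a field containing k. Let V and W be closed subsets of Y with
V ∪ W = Y such that no K-point of Y has its image in V ∩ W. If p is a K-point of Y lying in V and q
a K-point of Y lying in W, then p and q are not R-equivalent on Y. (The published step concerns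
k-points of the special fibre of a proper flat scheme over a discrete valuation ring, that is K = k;
this row is stated for any scheme Y over k and K-points for any field K containing k.) -/
theorem result (k : Type u) [Field k] (Y : Scheme.{u})
    (g : Y ⟶ Spec (CommRingCat.of k)) (K : Type u) [Field K] [Algebra k K]
    (V W : Set Y) (hV : IsClosed V) (hW : IsClosed W) (hVW : V ∪ W = Set.univ)
    (hT : ∀ z : REq.Pts g K, ¬ (Set.range z.1.base ⊆ V ∩ W))
    (p q : REq.Pts g K) (hp : Set.range p.1.base ⊆ V) (hq : Set.range q.1.base ⊆ W) :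
    ¬ REq.REquiv g K p q := by
  classical
  -- P¹_K is integral
  have hP := IsPullback.of_hasPullback (CohB1.ProjSpace.toSpec 1 (ULift.{u} ℤ))
    (specULiftZIsTerminal.from (Spec (CommRingCat.of K)))
  haveI hiso := Groth.Agent.Lib.Helper3.PIso.isIso_lift 1 (R := K) _ _ hP
  let c : CohB1.ProjSpace 1 K ⟶ CohB1.ProjSpaceOver 1 (Spec (CommRingCat.of K)) :=
    hP.lift (Groth.Agent.Lib.Helper3.PEmb2.gmap 1 K) (CohB1.ProjSpace.toSpec 1 K)
      (specULiftZIsTerminal.hom_ext _ _)
  haveI : IsIso c := hiso
  haveI : IsIntegral (CohB1.ProjSpace 1 K) :=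
    Groth.Agent.Lib.Helper7.LocFreePn.isIntegral_projSpace 1 K
  -- the predicate
  have key : ∀ A B : REq.Pts g K, REq.ElemLink g K A B →
      (Set.range A.1.base ⊆ V ↔ Set.range B.1.base ⊆ V) := by
    rintro A B ⟨U, h, a, b, -, -, -, haA, hbB⟩
    haveI : Nonempty (↑U : Scheme.{u}) := ⟨a.base (default : PrimeSpectrum K)⟩
    haveI : Nonempty (REq.P1K K) := ⟨(U.ι.base (a.base (default : PrimeSpectrum K)))⟩
    haveI : IsIntegral (REq.P1K K) := isIntegral_of_isOpenImmersion (inv c)
    haveI : IsIntegral (↑U : Scheme.{u}) := isIntegral_of_isOpenImmersion U.ι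
    have hirr : IsPreirreducible (Set.univ : Set (↑U : Scheme.{u})) :=
      (IrreducibleSpace.isIrreducible_univ _).isPreirreducible
    have hcl1 : IsClosed (h.base ⁻¹' V) := hV.preimage h.continuous
    have hcl2 : IsClosed (h.base ⁻¹' W) := hW.preimage h.continuous
    have hcov : (Set.univ : Set (↑U : Scheme.{u})) ⊆ h.base ⁻¹' V ∪ h.base ⁻¹' W := by
      intro x _
      have hx : h.base x ∈ V ∪ W := by rw [hVW]; trivial
      exact hx
    have hrA : ∀ S : Set Y, (Set.univ : Set (↑U : Scheme.{u})) ⊆ h.base ⁻¹' S →
        Set.range A.1.base ⊆ S ∧ Set.range B.1.base ⊆ S := by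
      intro S hS
      constructor
      · rintro _ ⟨x, rfl⟩
        rw [← haA]
        exact hS (Set.mem_univ (a.base x))
      · rintro _ ⟨x, rfl⟩
        rw [← hbB]
        exact hS (Set.mem_univ (b.base x))
    rcases (isPreirreducible_iff_isClosed_union_isClosed.mp hirr) _ _ hcl1 hcl2 hcov with h1 | h2
    · obtain ⟨hA, hB⟩ := hrA V h1
      exact ⟨fun _ => hB, fun _ => hA⟩
    · obtain ⟨hA, hB⟩ := hrA W h2
      constructor
      · intro hAV
        exact absurd (Set.subset_inter hAV hA) (hT A)
      · intro hBV
        exact absurd (Set.subset_inter hBV hB) (hT B)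
  intro hpq
  have hall : ∀ A B : REq.Pts g K, REq.REquiv g K A B →
      (Set.range A.1.base ⊆ V ↔ Set.range B.1.base ⊆ V) := by
    intro A B hAB
    induction hAB with
    | rel A B hAB => exact key A B hAB
    | refl A => exact Iff.rfl
    | symm A B _ ih => exact ih.symm
    | trans A B C _ _ ih1 ih2 => exact ih1.trans ih2
  have hqV : Set.range q.1.base ⊆ V := (hall p q hpq).mp hp
  exact hT q (Set.subset_inter hqV hq)

end Groth.Agent.S18573
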