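import Groth.Statements.S1941
import Groth.Agent.Lib.Lead.FlatProperBC

set_option autoImplicit false
set_option linter.style.haveILetI false
universe u
open CategoryTheory AlgebraicGeometry
open CategoryTheory.Limits
open Cyc

namespace Groth.Agent.S1941

open Groth.Agent.Lib.Lead.FlatProperBC Groth.Agent.Lib.Lead.FinFlatDeg CategoryTheory.Limits in
theorem residueDegree_pos_of_delta_eq {X Y : Scheme.{u}} (f : Y ⟶ X) [LocallyOfFiniteType f]
    (δY : Y → ℤ) (δ : X → ℤ) (hf : Cyc.DeltaCompat f δY δ) (y : Y) (h : δY y = δ (f y)) :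
    0 < f.residueDegree y := by
  obtain ⟨n, hn, hy⟩ := hf y
  have hn0 : n = 0 := by omega
  have htr : (letI := (f.residueFieldMap y).hom.toAlgebra
      Algebra.trdeg (X.residueField (f y)) (Y.residueField y)) = 0 := by
    rw [hn, hn0]; simp
  have hfin := Groth.Agent.Lib.Helper3.residueField_finite_of_trdeg_zero f y htr
  letI := (f.residueFieldMap y).hom.toAlgebra
  haveI : Module.Finite (X.residueField (f y)) (Y.residueField y) := hfin
  exact Module.finrank_pos

theorem delta_eq_of_residueDegree_pos {X Y : Scheme.{u}} (f : Y ⟶ X) (δY : Y → ℤ) (δ : X → ℤ)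
    (hf : Cyc.DeltaCompat f δY δ) (y : Y) (h : 0 < f.residueDegree y) : δY y = δ (f y) := by
  obtain ⟨n, hn, hy⟩ := hf y
  letI := (f.residueFieldMap y).hom.toAlgebra
  haveI : Module.Finite (X.residueField (f y)) (Y.residueField y) :=
    Module.finite_of_finrank_pos h
  haveI : Algebra.IsAlgebraic (X.residueField (f y)) (Y.residueField y) :=
    Algebra.IsAlgebraic.of_finite _ _
  have h0 : Algebra.trdeg (X.residueField (f y)) (Y.residueField y) = 0 := trdeg_eq_zero
  rw [h0] at hn
  have hn0 : n = 0 := by exact_mod_cast hn.symm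
  rw [hy, hn0]
  simp

open Groth.Agent.Lib.Lead.FlatProperBC Groth.Agent.Lib.Lead.FinFlatDeg CategoryTheory.Limits in
/-- flat base change commutes with proper pushforward (general form) -/
theorem main (X X' Y : Scheme.{u}) (f : Y ⟶ X) (p : X' ⟶ X) [IsProper f] [Flat p] (δ : X → ℤ)
    (δ' : X' → ℤ) (δY : Y → ℤ) (δY' : ↥(pullback f p) → ℤ) (hX' : Cyc.IsDimFun X' δ')
    (hf : Cyc.DeltaCompat f δY δ) (hf' : Cyc.DeltaCompat (pullback.snd f p) δY' δ') (c : ℤ)
    (hc : ∀ x' : X', (∀ y, p y = p x' → y ⤳ x' → y = x') → δ' x' = δ (p x') + c)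
    (α : AlgebraicCycle Y ℤ) (α' : AlgebraicCycle (pullback f p) ℤ)
    (hα' : ⇑α' = Cyc.pullFun (pullback.fst f p) δY' δY c ⇑α) :
    Cyc.pullFun p δ' δ c ⇑(AlgebraicCycle.map f δY δ α) =
      ⇑(AlgebraicCycle.map (pullback.snd f p) δY' δ' α') := by
  classical
  set q := pullback.fst f p with hq
  set f' := pullback.snd f p with hf'def
  have hpb : IsPullback q f' f p := IsPullback.of_hasPullback f p
  have hcond : ∀ y' : ↥(pullback f p), f (q y') = p (f' y') := fun y' =>
    congrArg (fun m : pullback f p ⟶ X => m y') pullback.condition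
  funext x'
  have B1 := (Groth.Agent.S6479.delta_le_and p x' δ' δ hX' c hc).1
  -- description of the terms on the right
  have hT : ∀ y' : ↥(pullback f p), f' y' = x' →
      α' y' * ((AlgebraicCycle.mapCoeff f' δY' δ' y' : ℕ) : ℤ) =
      if δ' x' = δ (p x') + c ∧ δY (q y') = δ (p x') then
        α (q y') * ((pullLen q y' * f'.residueDegree y' : ℕ) : ℤ) else 0 := by
    intro y' hy'
    have hfy : f (q y') = p x' := by rw [hcond, hy']
    obtain ⟨n, -, hδy⟩ := hf (q y')
    rw [hfy] at hδy
    rw [hα']
    unfold Cyc.pullFun AlgebraicCycle.mapCoeff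
    have hbase : δ' (f'.base y') = δ' x' := by
      show δ' (f' y') = _
      rw [hy']
    by_cases hA : δ' x' = δ (p x') + c ∧ δY (q y') = δ (p x')
    · have hpos := residueDegree_pos_of_delta_eq f δY δ hf (q y') (by rw [hfy]; exact hA.2)
      have hS : y' ∈ {z : ↥(pullback f p) | q z = q y' ∧ f' z = x'} := ⟨rfl, hy'⟩
      have hpos' := (core q f' f p hpb (q y') x' hfy.symm hpos).2.1 y' hS
      have hC2 : δY' y' = δ' (f'.base y') := delta_eq_of_residueDegree_pos f' δY' δ' hf' y' hpos'
      have hC1 : δY' y' = δY (q y') + c := by rw [hC2, hbase]; omega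
      rw [if_pos hA, if_pos hC1, if_pos hC2]
      unfold pullLen
      push_cast
      ring
    · rw [if_neg hA]
      by_cases hC1 : δY' y' = δY (q y') + c
      · by_cases hC2 : δY' y' = δ' (f'.base y')
        · exfalso
          apply hA
          constructor <;> omega
        · rw [if_neg hC2]; simp
      · rw [if_neg hC1]; simp
  show (if δ' x' = δ (p x') + c then
      (AlgebraicCycle.map f δY δ α) (p x') * ((pullLen p x' : ℕ) : ℤ) else 0) =
    (AlgebraicCycle.map f' δY' δ' α') x'
  simp only [AlgebraicCycle.map, Function.locallyFinsupp.map_apply]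
  rw [finsum_mem_congr (s := f' ⁻¹' {x'}) rfl (fun y' hy' => hT y' hy')]
  by_cases hA : δ' x' = δ (p x') + c
  · rw [if_pos hA]
    have hcomp : IsCompact (f ⁻¹' {p x'}) := by
      rw [← f.range_fiberι (p x')]
      exact isCompact_range (f.fiberι (p x')).continuous
    set A : Set Y := {y | y ∈ f ⁻¹' {p x'} ∧ α y ≠ 0 ∧ δY y = δ (p x')} with hAdef
    have hAfin : A.Finite :=
      (α.locallyFiniteSupport.finite_inter_support_of_isCompact hcomp).subset
        (fun y hy => ⟨hy.1, hy.2.1⟩)
    let S : Y → Set ↥(pullback f p) := fun y => {y' | q y' = y ∧ f' y' = x'}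
    have hAy : ∀ y ∈ A, 0 < f.residueDegree y := fun y hy =>
      residueDegree_pos_of_delta_eq f δY δ hf y (hy.2.2.trans (congrArg δ hy.1.symm))
    have hcore : ∀ y ∈ A, (S y).Finite ∧ (∀ y' ∈ S y, 0 < f'.residueDegree y') ∧
        ∑ᶠ y' ∈ S y, pullLen q y' * f'.residueDegree y' = f.residueDegree y * pullLen p x' :=
      fun y hy => core q f' f p hpb y x' hy.1.symm (hAy y hy)
    -- the left hand side
    have hL : ∑ᶠ y ∈ f ⁻¹' {p x'}, α y * ((AlgebraicCycle.mapCoeff f δY δ y : ℕ) : ℤ) =
        ∑ᶠ y ∈ A, α y * (f.residueDegree y : ℤ) := by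
      have h1 : f ⁻¹' {p x'} ∩ Function.support
            (fun y => α y * ((AlgebraicCycle.mapCoeff f δY δ y : ℕ) : ℤ)) =
          A ∩ Function.support (fun y => α y * ((AlgebraicCycle.mapCoeff f δY δ y : ℕ) : ℤ)) := by
        ext y
        constructor
        · rintro ⟨hy1, hy2⟩
          refine ⟨⟨hy1, ?_, ?_⟩, hy2⟩
          · intro h0
            apply hy2
            show α y * _ = 0
            rw [h0, zero_mul]
          · by_contra hne
            apply hy2
            show α y * ((AlgebraicCycle.mapCoeff f δY δ y : ℕ) : ℤ) = 0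
            unfold AlgebraicCycle.mapCoeff
            have hfy : f.base y = p x' := hy1
            rw [if_neg (by rw [hfy]; exact hne)]
            simp
        · rintro ⟨hyA, hy2⟩
          exact ⟨hyA.1, hy2⟩
      rw [finsum_mem_inter_support_eq _ _ _ h1]
      refine finsum_mem_congr rfl (fun y hy => ?_)
      unfold AlgebraicCycle.mapCoeff
      have hfy : f.base y = p x' := hy.1
      rw [if_pos (by rw [hfy]; exact hy.2.2)]
    rw [hL]
    -- the right hand side
    have hR1 : f' ⁻¹' {x'} ∩ Function.support (fun y' : ↥(pullback f p) =>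
          if δ' x' = δ (p x') + c ∧ δY (q y') = δ (p x') then
            α (q y') * ((pullLen q y' * f'.residueDegree y' : ℕ) : ℤ) else 0) =
        (⋃ y ∈ A, S y) ∩ Function.support (fun y' : ↥(pullback f p) =>
          if δ' x' = δ (p x') + c ∧ δY (q y') = δ (p x') then
            α (q y') * ((pullLen q y' * f'.residueDegree y' : ℕ) : ℤ) else 0) := by
      ext y'
      constructor
      · rintro ⟨hy1, hy2⟩
        have hy1' : f' y' = x' := hy1
        refine ⟨?_, hy2⟩
        have hcondy : δ' x' = δ (p x') + c ∧ δY (q y') = δ (p x') := by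
          by_contra hne
          apply hy2
          show (if _ then _ else _) = (0 : ℤ)
          rw [if_neg hne]
        have hαy : α (q y') ≠ 0 := by
          intro h0
          apply hy2
          show (if _ then _ else _) = (0 : ℤ)
          rw [if_pos hcondy, h0, zero_mul]
        have hqA : q y' ∈ A := ⟨by show f (q y') = p x'; rw [hcond, hy1'], hαy, hcondy.2⟩
        exact Set.mem_iUnion₂.mpr ⟨q y', hqA, rfl, hy1'⟩
      · rintro ⟨hy1, hy2⟩
        obtain ⟨y, -, hy'⟩ := Set.mem_iUnion₂.mp hy1
        exact ⟨hy'.2, hy2⟩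
    rw [finsum_mem_inter_support_eq _ _ _ hR1]
    have hdisj : A.PairwiseDisjoint S := by
      intro y _ z _ hyz
      exact Set.disjoint_left.mpr (fun y' h1 h2 => hyz (h1.1.symm.trans h2.1))
    rw [finsum_mem_biUnion hdisj hAfin (fun y hy => (hcore y hy).1), finsum_mem_mul' _ _ hAfin]
    refine finsum_mem_congr rfl (fun y hy => ?_)
    have hin : ∑ᶠ y' ∈ S y, (if δ' x' = δ (p x') + c ∧ δY (q y') = δ (p x') then
          α (q y') * ((pullLen q y' * f'.residueDegree y' : ℕ) : ℤ) else 0) =
        ∑ᶠ y' ∈ S y, α y * ((pullLen q y' * f'.residueDegree y' : ℕ) : ℤ) := by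
      refine finsum_mem_congr rfl (fun y' hy' => ?_)
      have hqy : q y' = y := hy'.1
      rw [hqy, if_pos ⟨hA, hy.2.2⟩]
    rw [hin, ← mul_finsum_mem' _ _ (hcore y hy).1, ← Nat.cast_finsum_mem (hcore y hy).1,
      (hcore y hy).2.2]
    push_cast
    ring
  · rw [if_neg hA]
    symm
    apply finsum_mem_eq_zero_of_forall_eq_zero
    intro y' _
    rw [if_neg (fun h => hA h.1)]

/-- Flat base change commutes with proper pushforward of cycles. In the base-change setting let f : Y →
X be proper and Y' = Y ×_X X' with projections f' to X' and q to Y. Y and Y' carry dimension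
functions δ_Y and δ_Y' induced from δ and δ' along f and f' (Cyc.DeltaCompat), and δ_Y' satisfies
the same shift-c condition relative to q as δ' does relative to p. For a k-cycle α on Y, g^*(f_*α) =
f'_*(q^*α) as (k + c)-cycles on X', where q^*α is any cycle on Y' with the base-change coefficients.
Base-change setting, stated without a fixed base scheme: p : X' → X is flat (not necessarily of
finite type), (X, δ) and (X', δ') carry dimension functions, and δ'(x') = δ(p x') + c whenever x' is
a generic point of an irreducible component of its fibre; g^* : Z_k(X) → Z_{k+c}(X') is the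
coefficientwise flat pullback Cyc.pullFun p δ' δ c. A pair (X, δ) with Cyc.IsSetup plays the role of
a scheme locally of finite type over a base with a dimension function (X locally Noetherian with
universally catenary local rings, δ a dimension function). -/
theorem result (X X' Y : Scheme.{u}) (f : Y ⟶ X) (p : X' ⟶ X) [IsProper f] [Flat p] (δ : X → ℤ) (δ' : X' → ℤ) (δY : Y → ℤ) (δY' : ↥(pullback f p) → ℤ) (hX : Cyc.IsSetup X δ) (hX' : Cyc.IsSetup X' δ') (hY : Cyc.IsSetup Y δY) (hf : Cyc.DeltaCompat f δY δ) (hf' : Cyc.DeltaCompat (pullback.snd f p) δY' δ') (c : ℤ) (hc : ∀ x' : X', (∀ y, p y = p x' → y ⤳ x' → y = x') → δ' x' = δ (p x') + c) (hcY : ∀ y' : ↥(pullback f p), (∀ y, pullback.fst f p y = pullback.fst f p y' → y ⤳ y' → y = y') → δY' y' = δY (pullback.fst f p y') + c) (k : ℤ) (α : AlgebraicCycle Y ℤ) (hα : α ∈ Cyc.Zk Y δY k) (α' : AlgebraicCycle (pullback f p) ℤ) (hα' : ⇑α' = Cyc.pullFun (pullback.fst f p) δY' δY c ⇑α) : Cyc.pullFun p δ' δ c ⇑(AlgebraicCycle.map f δY δ α) = ⇑(AlgebraicCycle.map (pullback.snd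 f p) δY' δ' α') := by
  exact main X X' Y f p δ δ' δY δY' hX'.2.2 hf hf' c hc α α' hα'

end Groth.Agent.S1941
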