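import Groth.Statements.S18580
import Mathlib

set_option autoImplicit false
universe u
open EtBase

namespace Groth.Agent.S18580

open AlgebraicGeometry CategoryTheory CategoryTheory.Limits

theorem isOpenImmersion_of_section {X Y : Scheme.{u}} (f : X ⟶ Y)
    [FormallyUnramified f] [LocallyOfFiniteType f] (s : Y ⟶ X) (hs : s ≫ f = 𝟙 Y) :
    IsOpenImmersion s := by
  let gr : Y ⟶ pullback (s ≫ f) f := pullback.lift (𝟙 Y) s (by simp)
  have h1 : s = gr ≫ pullback.snd _ _ := (pullback.lift_snd _ _ _).symm
  have h2 : IsOpenImmersion gr :=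
    MorphismProperty.of_isPullback (P := @IsOpenImmersion)
      (pullback_lift_diagonal_isPullback s f)
      (inferInstance : IsOpenImmersion (pullback.diagonal f))
  have h3 : IsOpenImmersion (pullback.snd (s ≫ f) f) := by
    have : IsIso (s ≫ f) := by rw [hs]; infer_instance
    infer_instance
  rw [h1]
  infer_instance

theorem isClosedImmersion_of_section {X Y : Scheme.{u}} (f : X ⟶ Y) [IsSeparated f]
    (s : Y ⟶ X) (hs : s ≫ f = 𝟙 Y) : IsClosedImmersion s := by
  have : IsClosedImmersion (s ≫ f) := by rw [hs]; infer_instance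
  exact IsClosedImmersion.of_comp s f

theorem range_eq_connectedComponent {X Y : Scheme.{u}} (f : X ⟶ Y)
    [FormallyUnramified f] [LocallyOfFiniteType f] [IsSeparated f] [ConnectedSpace Y]
    (s : Y ⟶ X) (hs : s ≫ f = 𝟙 Y) (y : Y) :
    Set.range s = connectedComponent (s y) := by
  have ho : IsOpen (Set.range s) := by
    have := isOpenImmersion_of_section f s hs
    exact s.isOpenEmbedding.isOpen_range
  have hc : IsClosed (Set.range s) := by
    have := isClosedImmersion_of_section f s hs
    exact s.isClosedEmbedding.isClosed_range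
  have hconn : _root_.IsPreconnected (Set.range s) := isPreconnected_range s.continuous
  apply Set.Subset.antisymm
  · exact hconn.subset_connectedComponent ⟨y, rfl⟩
  · exact IsClopen.connectedComponent_subset ⟨hc, ho⟩ ⟨y, rfl⟩


open AlgebraicGeometry CategoryTheory in
/-- Let Y be a connected scheme and f : X ⟶ Y a separated morphism that is unramified (locally of finite
type and formally unramified). Then the sections of f correspond bijectively to the connected
components of X mapping isomorphically onto Y: there is a bijection from the set of sections s of f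
to the set of open subschemes U of X whose underlying set is a connected component of X and for
which U ⟶ X ⟶ Y is an isomorphism, sending s to its image. In particular every section is an
isomorphism onto a connected component of X and is determined by its image. (A connected component
mapping isomorphically onto Y is the image of a section, hence open, so restricting to open
components loses nothing. The published statement also assumes Y Noetherian; that hypothesis plays
no role and is omitted.) -/
theorem result {X Y : Scheme.{u}} (f : X ⟶ Y)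
    [FormallyUnramified f] [LocallyOfFiniteType f] [IsSeparated f] [ConnectedSpace Y] :
    ∃ e : {s : Y ⟶ X // s ≫ f = 𝟙 Y} ≃
        {U : X.Opens // (∃ x : X, (U : Set X) = connectedComponent x) ∧ IsIso (U.ι ≫ f)},
      ∀ s : {s : Y ⟶ X // s ≫ f = 𝟙 Y}, ((e s).1 : Set X) = Set.range s.1 := by
  classical
  have hsec_open : ∀ s : Y ⟶ X, s ≫ f = 𝟙 Y → IsOpenImmersion s :=
    fun s hs => isOpenImmersion_of_section f s hs
  obtain ⟨y₀⟩ : Nonempty Y := ConnectedSpace.toNonempty
  let toU : {s : Y ⟶ X // s ≫ f = 𝟙 Y} →
      {U : X.Opens // (∃ x : X, (U : Set X) = connectedComponent x) ∧ IsIso (U.ι ≫ f)} :=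
    fun s =>
      haveI := hsec_open s.1 s.2
      ⟨s.1.opensRange, ⟨s.1 y₀, range_eq_connectedComponent f s.1 s.2 y₀⟩, by
        have h : s.1.opensRange.ι ≫ f = s.1.isoOpensRange.inv := by
          rw [← Scheme.Hom.isoOpensRange_inv_comp, Category.assoc, s.2, Category.comp_id]
        rw [h]; infer_instance⟩
  let toS : {U : X.Opens // (∃ x : X, (U : Set X) = connectedComponent x) ∧ IsIso (U.ι ≫ f)} →
      {s : Y ⟶ X // s ≫ f = 𝟙 Y} :=
    fun U =>
      haveI := U.2.2
      ⟨inv (U.1.ι ≫ f) ≫ U.1.ι, by rw [Category.assoc, IsIso.inv_hom_id]⟩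
  refine ⟨{ toFun := toU, invFun := toS, left_inv := ?_, right_inv := ?_ }, ?_⟩
  · rintro ⟨s, hs⟩
    haveI := hsec_open s hs
    apply Subtype.ext
    have e1 : s.opensRange.ι = s.isoOpensRange.inv ≫ s :=
      (Scheme.Hom.isoOpensRange_inv_comp s).symm
    have h : s.opensRange.ι ≫ f = s.isoOpensRange.inv := by
      rw [e1, Category.assoc, hs, Category.comp_id]
    haveI : IsIso (s.opensRange.ι ≫ f) := by rw [h]; infer_instance
    show inv (s.opensRange.ι ≫ f) ≫ s.opensRange.ι = s
    rw [IsIso.inv_comp_eq]
    calc s.opensRange.ι = s.isoOpensRange.inv ≫ s := e1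
      _ = s.isoOpensRange.inv ≫ (s ≫ f) ≫ s := by rw [hs, Category.id_comp]
      _ = ((s.isoOpensRange.inv ≫ s) ≫ f) ≫ s := by simp only [Category.assoc]
      _ = (s.opensRange.ι ≫ f) ≫ s := by rw [← e1]
  · rintro ⟨U, hU1, hU2⟩
    apply Subtype.ext
    haveI := hU2
    show (inv (U.ι ≫ f) ≫ U.ι).opensRange = U
    rw [Scheme.Hom.opensRange_comp_of_isIso, Scheme.Opens.opensRange_ι]
  · intro s
    rfl

end Groth.Agent.S18580
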