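import Groth.Statements.S18581
import Groth.Agent.Lib.Helper4.FlatLocal3
import Mathlib.RingTheory.Unramified.LocalRing
import Mathlib.RingTheory.Smooth.Flat

set_option autoImplicit false
universe u
open Desc

namespace Groth.Agent.S18581

/-- Let A → B be a local homomorphism of Noetherian local rings which is étale, in the sense that B is
(compatibly with the map from A) the localization of an étale A-algebra E at a prime ideal. Then A
is a Cohen–Macaulay ring exactly when B is one. -/
theorem result (A B : Type u) [CommRing A] [CommRing B]
    [IsLocalRing A] [IsLocalRing B] [IsNoetherianRing A] [IsNoetherianRing B]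
    [Algebra A B] [IsLocalHom (algebraMap A B)]
    (E : Type u) [CommRing E] [Algebra A E] [Algebra.Etale A E] (P : Ideal E) [P.IsPrime]
    [Algebra E B] [IsScalarTower A E B] [IsLocalization.AtPrime B P] :
    LocCoh.IsCohenMacaulayLocalRing A ↔ LocCoh.IsCohenMacaulayLocalRing B := by
  have hEB : Algebra.FormallyUnramified E B :=
    Algebra.FormallyUnramified.of_isLocalization P.primeCompl
  have hAB : Algebra.FormallyUnramified A B := Algebra.FormallyUnramified.comp A E B
  have hEB' : Algebra.EssFiniteType E B := Algebra.EssFiniteType.of_isLocalization B P.primeCompl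
  have hAB' : Algebra.EssFiniteType A B := Algebra.EssFiniteType.comp A E B
  have hflatEB : Module.Flat E B := IsLocalization.flat B P.primeCompl
  have hflat : Module.Flat A B := Module.Flat.trans A E B
  have hmap : (IsLocalRing.maximalIdeal A).map (algebraMap A B) = IsLocalRing.maximalIdeal B :=
    Algebra.FormallyUnramified.map_maximalIdeal
  have hmin : IsLocalRing.maximalIdeal B ∈
      ((IsLocalRing.maximalIdeal A).map (algebraMap A B)).minimalPrimes := by
    rw [hmap]
    exact ⟨⟨inferInstance, le_rfl⟩, fun q hq _ => hq.2⟩
  have hdepth : LocCoh.depth B B = LocCoh.depth A A := by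
    rw [Groth.Agent.Lib.Helper4.depth_self_eq_add (A := A) (B := B),
      Groth.Agent.Lib.Helper4.depth_quotient_map_eq_zero_of_minimal hmin, add_zero]
  have hdim : ringKrullDim B = ringKrullDim A := by
    rw [← IsLocalRing.maximalIdeal_height_eq_ringKrullDim,
      ← IsLocalRing.maximalIdeal_height_eq_ringKrullDim,
      Ideal.height_eq_height_add_of_liesOver_of_hasGoingDown (IsLocalRing.maximalIdeal A)
        (IsLocalRing.maximalIdeal B)]
    have h0 : ((IsLocalRing.maximalIdeal B).map (Ideal.Quotient.mk
        ((IsLocalRing.maximalIdeal A).map (algebraMap A B)))).height = 0 := by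
      have hbot : (IsLocalRing.maximalIdeal B).map (Ideal.Quotient.mk
          ((IsLocalRing.maximalIdeal A).map (algebraMap A B))) = ⊥ := by
        rw [hmap]
        exact Ideal.map_quotient_self _
      rw [hbot]
      have : Nontrivial (B ⧸ (IsLocalRing.maximalIdeal A).map (algebraMap A B)) := by
        rw [hmap]
        exact Ideal.Quotient.nontrivial_iff.mpr (IsLocalRing.maximalIdeal.isMaximal B).ne_top
      exact Ideal.height_bot
    rw [h0, add_zero]
  constructor
  · intro h
    refine { supportDim_eq_depth := ?_ }
    rw [Module.supportDim_self_eq_ringKrullDim, hdim, hdepth,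
      ← Module.supportDim_self_eq_ringKrullDim]
    exact h.supportDim_eq_depth
  · intro h
    refine { supportDim_eq_depth := ?_ }
    rw [Module.supportDim_self_eq_ringKrullDim, ← hdim, ← hdepth,
      ← Module.supportDim_self_eq_ringKrullDim]
    exact h.supportDim_eq_depth

end Groth.Agent.S18581
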