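import Groth.Statements.S18587
import Mathlib
import Groth.Agent.Lib.Helper25.WittApprox
open WittVector Groth.Agent.Lib.Helper25.WittApprox

set_option autoImplicit false
universe u
open CAlg

namespace Groth.Agent.S18587

open WittVector Groth.Agent.Lib.Helper25.WittApprox in
theorem exists_uv (p ℓ : ℕ) (hp : p.Prime) (hℓ : 0 < ℓ) (hpℓ : ¬ p ∣ ℓ) (N : ℕ) :
    ∃ u v : ℕ, u ≤ ℓ ∧ u * p ^ N = 1 + v * ℓ ∧ v ≤ p ^ N := by
  have hpos : 0 < p ^ N := pow_pos hp.pos N
  rcases Nat.lt_or_ge 1 ℓ with h1 | h1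
  · have hcop : Nat.Coprime (p ^ N) ℓ := ((Nat.Prime.coprime_iff_not_dvd hp).2 hpℓ).pow_left N
    obtain ⟨m, hm, hm1⟩ := Nat.exists_mul_mod_eq_one_of_coprime hcop h1
    refine ⟨m, p ^ N * m / ℓ, hm.le, ?_, ?_⟩
    · have := Nat.div_add_mod (p ^ N * m) ℓ
      rw [hm1] at this
      linarith [this]
    · apply Nat.div_le_of_le_mul
      calc p ^ N * m ≤ p ^ N * ℓ := Nat.mul_le_mul_left _ hm.le
        _ = ℓ * p ^ N := mul_comm _ _
  · obtain rfl : ℓ = 1 := by omega
    exact ⟨1, p ^ N - 1, le_refl _, by omega, by omega⟩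


/-- Affine form with D = 0: let p be a prime, ℓ ≥ 1 an integer not divisible by p and n ≥ 1. Let A → B
be an injective ring homomorphism of integral domains of characteristic p such that B is spanned as
an A-module by finitely many elements y with y ^ ℓ in the image of A (a weakly ℓ-cyclic extension).
Then for every p-typical Witt vector ζ over B in the image of the n-fold Verschiebung there is a
nonzero a in A such that the product of the Teichmüller representative of (the image of) a with ζ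
lies in the ideal of W(B) generated by the images of the n-fold Verschiebungs of Witt vectors over
A. (This is the case D = 0 of the published statement, written for the coordinate rings; the
published statement allows a twist by a real Weil divisor D and assumes the rings excellent and
normal, hypotheses which the case D = 0 does not use.) -/
theorem result
    (p : ℕ) [Fact p.Prime] (ℓ n : ℕ) (hℓ : 0 < ℓ) (hpℓ : ¬ p ∣ ℓ) (hn : 0 < n)
    (A B : Type u) [CommRing A] [CommRing B] [IsDomain A] [IsDomain B] [Algebra A B]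
    [CharP A p] [CharP B p] (hinj : Function.Injective (algebraMap A B))
    (y : Finset B) (hspan : Submodule.span A (y : Set B) = ⊤)
    (hpow : ∀ b ∈ y, b ^ ℓ ∈ Set.range (algebraMap A B))
    (ζ : WittVector p B)
    (hζ : ∃ η : WittVector p B, (⇑(WittVector.verschiebung : WittVector p B →+ WittVector p B))^[n] η = ζ) :
    ∃ a : A, a ≠ 0 ∧ WittVector.teichmuller p (algebraMap A B a) * ζ ∈
      Ideal.span (Set.range (fun x : WittVector p A =>
        WittVector.map (algebraMap A B) ((⇑(WittVector.verschiebung : WittVector p A →+ WittVector p A))^[n] x))) := by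
  classical
  obtain ⟨η, rfl⟩ := hζ
  have hpp : p.Prime := Fact.out
  -- preimages of the ℓ-th powers
  have hex : ∀ b ∈ y, ∃ a' : A, a' ≠ 0 ∧ ∀ v : ℕ, b * algebraMap A B a' ^ v = b ^ (1 + v * ℓ) := by
    intro b hb
    by_cases hb0 : b = 0
    · refine ⟨1, one_ne_zero, fun v => ?_⟩
      rw [hb0, zero_mul, zero_pow (by omega)]
    · obtain ⟨a', ha'⟩ := hpow b hb
      refine ⟨a', ?_, fun v => ?_⟩
      · intro h0
        rw [h0, map_zero] at ha'
        exact hb0 (pow_eq_zero_iff (by omega) |>.1 ha'.symm)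
      · rw [ha', pow_add, pow_one, ← pow_mul, mul_comm v ℓ]
  obtain ⟨a', ha'⟩ : ∃ a' : B → A, ∀ b ∈ y, a' b ≠ 0 ∧
      ∀ v : ℕ, b * algebraMap A B (a' b) ^ v = b ^ (1 + v * ℓ) := by
    refine ⟨fun b => if h : b ∈ y then (hex b h).choose else 1, fun b hb => ?_⟩
    simp only [dif_pos hb]
    exact (hex b hb).choose_spec
  obtain ⟨a, ha⟩ : ∃ a : A, a = ∏ b ∈ y, a' b := ⟨_, rfl⟩
  have ha0 : a ≠ 0 := by
    rw [ha, Finset.prod_ne_zero_iff]
    exact fun b hb => (ha' b hb).1
  refine ⟨a, ha0, ?_⟩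
  obtain ⟨α, hα⟩ : ∃ α : B, α = algebraMap A B a ^ p ^ n := ⟨_, rfl⟩
  -- the multiplicative family
  let G : ℕ → Submodule A B := fun d => (Ideal.span {α ^ d}).restrictScalars A
  have hGmem : ∀ d (b : B), b ∈ G d ↔ ∃ b', b' * α ^ d = b := by
    intro d b
    show b ∈ (Ideal.span {α ^ d}).restrictScalars A ↔ _
    rw [Submodule.restrictScalars_mem, Ideal.mem_span_singleton']
  have hmul : ∀ (i j : ℕ) (a b : B), a ∈ G i → b ∈ G j → a * b ∈ G (i + j) := by
    intro i j a b hai hbj
    rw [hGmem] at hai hbj ⊢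
    obtain ⟨a₁, rfl⟩ := hai
    obtain ⟨b₁, rfl⟩ := hbj
    exact ⟨a₁ * b₁, by rw [pow_add]; ring⟩
  -- the Teichmüller generators
  let z : (↥y × Fin (ℓ + 1)) → B := fun m => (m.1.1 ^ (m.2 : ℕ)) ^ p ^ n
  have hG : ∀ i, ∀ b ∈ G (p ^ i), ∃ c : (↥y × Fin (ℓ + 1)) → A,
      b = ∑ m, c m • z m ^ p ^ i ∧ ∀ m, c m • z m ^ p ^ i ∈ G (p ^ i) := by
    intro i b hb
    rw [hGmem] at hb
    obtain ⟨b', rfl⟩ := hb
    have hb' : b' ∈ Submodule.span A (y : Set B) := by rw [hspan]; trivial
    obtain ⟨β, hβ⟩ := Submodule.mem_span_finset'.1 hb'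
    obtain ⟨u, v, hu, huv, hv⟩ := exists_uv p ℓ hpp hℓ hpℓ (n + i)
    have hγ : ∀ j : ↥y, ∃ γ : A, a ^ p ^ (n + i) = a' j.1 ^ v * γ := by
      intro j
      have h1 : a' j.1 ∣ a := by rw [ha]; exact Finset.dvd_prod_of_mem a' j.2
      have h2 : a' j.1 ^ v ∣ a ^ p ^ (n + i) :=
        dvd_trans (pow_dvd_pow_of_dvd h1 v) (pow_dvd_pow a hv)
      exact h2
    choose γ hγ using hγ
    have hαpow : α ^ p ^ i = algebraMap A B (a ^ p ^ (n + i)) := by
      rw [hα, ← pow_mul, ← pow_add, map_pow]
    have hterm : ∀ j : ↥y, (β j * γ j) • z (j, ⟨u, by omega⟩) ^ p ^ i = (β j • j.1) * α ^ p ^ i := by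
      intro j
      show (β j * γ j) • ((j.1 ^ u) ^ p ^ n) ^ p ^ i = _
      rw [hαpow, hγ j, ← pow_mul, ← pow_mul, ← pow_add, huv, ← (ha' j.1 j.2).2 v,
        Algebra.smul_def, Algebra.smul_def, map_mul, map_mul, map_pow]
      ring
    refine ⟨fun m => if m.2 = ⟨u, by omega⟩ then β m.1 * γ m.1 else 0, ?_, ?_⟩
    · rw [Fintype.sum_prod_type]
      have : ∀ j : ↥y, ∑ k : Fin (ℓ + 1),
          (if ((j, k) : ↥y × Fin (ℓ + 1)).2 = ⟨u, by omega⟩ then β j * γ j else 0) •
            z (j, k) ^ p ^ i = (β j • j.1) * α ^ p ^ i := by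
        intro j
        rw [Finset.sum_eq_single (⟨u, by omega⟩ : Fin (ℓ + 1))]
        · rw [if_pos rfl]
          exact hterm j
        · intro k _ hk
          rw [if_neg hk, zero_smul]
        · intro h
          exact absurd (Finset.mem_univ _) h
      rw [Finset.sum_congr rfl (fun j _ => this j), ← Finset.sum_mul, hβ]
    · intro m
      dsimp only
      by_cases hm : m.2 = ⟨u, by omega⟩
      · rw [if_pos hm, hGmem]
        refine ⟨β m.1 • m.1.1, ?_⟩
        rw [← hterm m.1]
        congr 3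
        exact Prod.ext rfl hm.symm
      · rw [if_neg hm, zero_smul]
        exact Submodule.zero_mem _
  -- the adapted Witt vector
  have hφ : ∀ j, (η * teichmuller p α).coeff j ∈ G (p ^ j) := by
    intro j
    rw [Groth.Agent.Lib.Helper26.WittTeich.mul_teichmuller_coeff, hGmem]
    exact ⟨η.coeff j, rfl⟩
  obtain ⟨x, hx⟩ := key G hmul z hG (η * teichmuller p α) hφ
  have h1 : teichmuller p (algebraMap A B a) *
      (⇑(verschiebung : WittVector p B →+ WittVector p B))^[n] η =
      (⇑(verschiebung : WittVector p B →+ WittVector p B))^[n] (η * teichmuller p α) := by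
    rw [mul_comm, iterate_verschiebung_mul_left, iterate_frobenius_teichmuller, hα]
  rw [h1, hx, iterate_verschiebung_sum]
  apply Ideal.sum_mem
  intro m _
  have h2 : (⇑(verschiebung : WittVector p B →+ WittVector p B))^[n]
      (WittVector.map (algebraMap A B) (x m) * teichmuller p (z m)) =
      WittVector.map (algebraMap A B)
        ((⇑(verschiebung : WittVector p A →+ WittVector p A))^[n] (x m)) *
        teichmuller p (m.1.1 ^ (m.2 : ℕ)) := by
    rw [map_iterate_verschiebung, iterate_verschiebung_mul_left, iterate_frobenius_teichmuller]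
  rw [h2]
  exact Ideal.mul_mem_right _ _ (Ideal.subset_span ⟨x m, rfl⟩)

end Groth.Agent.S18587
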