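import Groth.Statements.S18589
import Mathlib

set_option autoImplicit false
open CAlg

namespace Groth.Agent.S18589

/-- For a prime p and every natural number n, the n-th Witt addition polynomial over the integers (the
polynomial S_n with (x + y)_n = S_n(x_0, y_0, …, x_n, y_n) for p-typical Witt vectors x, y) is
weighted homogeneous of weighted degree p ^ n for the grading in which the variables x_i and y_i
have weight p ^ i. -/
theorem result (p : ℕ) [Fact p.Prime] (n : ℕ) :
    MvPolynomial.IsWeightedHomogeneous (fun i : Fin 2 × ℕ => p ^ i.2) (WittVector.wittAdd p n) (p ^ n) := by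
  classical
  induction n using Nat.strong_induction_on with
  | _ n ih =>
  set w : Fin 2 × ℕ → ℕ := fun i => p ^ i.2 with hw
  have hprop := wittStructureInt_prop p (MvPolynomial.X 0 + MvPolynomial.X 1 : MvPolynomial (Fin 2) ℤ) n
  have hS : ∀ i, WittVector.wittAdd p i = wittStructureInt p (MvPolynomial.X 0 + MvPolynomial.X 1) i := fun i => rfl
  -- left side
  have hL : MvPolynomial.bind₁ (wittStructureInt p (MvPolynomial.X 0 + MvPolynomial.X 1 : MvPolynomial (Fin 2) ℤ))
      (wittPolynomial p ℤ n) =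
      (∑ i ∈ Finset.range n, MvPolynomial.C ((p : ℤ) ^ i) * (WittVector.wittAdd p i) ^ p ^ (n - i)) +
        MvPolynomial.C ((p : ℤ) ^ n) * WittVector.wittAdd p n := by
    rw [wittPolynomial_eq_sum_C_mul_X_pow, map_sum, Finset.sum_range_succ]
    simp only [map_mul, map_pow, MvPolynomial.bind₁_X_right, MvPolynomial.bind₁_C_right, Nat.sub_self,
      pow_zero, pow_one, hS]
  -- right side
  have hR : MvPolynomial.bind₁ (fun i : Fin 2 => MvPolynomial.rename (Prod.mk i) (wittPolynomial p ℤ n))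
      (MvPolynomial.X 0 + MvPolynomial.X 1 : MvPolynomial (Fin 2) ℤ) =
      (∑ i ∈ Finset.range (n + 1), MvPolynomial.C ((p : ℤ) ^ i) * (MvPolynomial.X ((0 : Fin 2), i)) ^ p ^ (n - i)) +
      (∑ i ∈ Finset.range (n + 1), MvPolynomial.C ((p : ℤ) ^ i) * (MvPolynomial.X ((1 : Fin 2), i)) ^ p ^ (n - i)) := by
    rw [map_add, MvPolynomial.bind₁_X_right, MvPolynomial.bind₁_X_right,
      wittPolynomial_eq_sum_C_mul_X_pow, map_sum, map_sum]
    simp only [map_mul, map_pow, MvPolynomial.rename_C, MvPolynomial.rename_X]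
  rw [hL, hR] at hprop
  -- weighted homogeneity of the pieces
  have hX : ∀ (j : Fin 2) (i : ℕ), i ∈ Finset.range (n + 1) →
      MvPolynomial.IsWeightedHomogeneous w
        (MvPolynomial.C ((p : ℤ) ^ i) * (MvPolynomial.X (j, i) : MvPolynomial (Fin 2 × ℕ) ℤ) ^ p ^ (n - i)) (p ^ n) := by
    intro j i hi
    have hi' : i ≤ n := Nat.lt_succ_iff.1 (Finset.mem_range.1 hi)
    have h1 := (MvPolynomial.isWeightedHomogeneous_X ℤ w (j, i)).pow (p ^ (n - i))
    have h2 : p ^ (n - i) • w (j, i) = p ^ n := by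
      simp only [hw, smul_eq_mul]
      rw [← pow_add, Nat.sub_add_cancel hi']
    rw [h2] at h1
    exact h1.C_mul _
  have hSi : ∀ i ∈ Finset.range n, MvPolynomial.IsWeightedHomogeneous w
      (MvPolynomial.C ((p : ℤ) ^ i) * (WittVector.wittAdd p i) ^ p ^ (n - i)) (p ^ n) := by
    intro i hi
    have hi' : i < n := Finset.mem_range.1 hi
    have h1 := (ih i hi').pow (p ^ (n - i))
    have h2 : p ^ (n - i) • p ^ i = p ^ n := by
      rw [smul_eq_mul, ← pow_add, Nat.sub_add_cancel hi'.le]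
    rw [h2] at h1
    exact h1.C_mul _
  have hmain : MvPolynomial.IsWeightedHomogeneous w
      (MvPolynomial.C ((p : ℤ) ^ n) * WittVector.wittAdd p n) (p ^ n) := by
    have e : MvPolynomial.C ((p : ℤ) ^ n) * WittVector.wittAdd p n =
        ((∑ i ∈ Finset.range (n + 1), MvPolynomial.C ((p : ℤ) ^ i) * (MvPolynomial.X ((0 : Fin 2), i)) ^ p ^ (n - i)) +
        (∑ i ∈ Finset.range (n + 1), MvPolynomial.C ((p : ℤ) ^ i) * (MvPolynomial.X ((1 : Fin 2), i)) ^ p ^ (n - i))) -
        (∑ i ∈ Finset.range n, MvPolynomial.C ((p : ℤ) ^ i) * (WittVector.wittAdd p i) ^ p ^ (n - i)) := by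
      rw [← hprop]; ring
    rw [e]
    refine MvPolynomial.IsWeightedHomogeneous.sub (MvPolynomial.IsWeightedHomogeneous.add ?_ ?_) ?_
    · exact MvPolynomial.IsWeightedHomogeneous.sum _ _ _ (fun i hi => hX 0 i hi)
    · exact MvPolynomial.IsWeightedHomogeneous.sum _ _ _ (fun i hi => hX 1 i hi)
    · exact MvPolynomial.IsWeightedHomogeneous.sum _ _ _ hSi
  -- cancel the constant
  intro d hd
  apply hmain
  rw [MvPolynomial.coeff_C_mul]
  have hp0 : ((p : ℤ) ^ n) ≠ 0 := pow_ne_zero _ (by exact_mod_cast (Fact.out : p.Prime).ne_zero)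
  exact mul_ne_zero hp0 hd

end Groth.Agent.S18589
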