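import Groth.Statements.S1859
import Groth.Agent.Lib.Helper3.CycPush

set_option autoImplicit false
universe u
open CategoryTheory AlgebraicGeometry
open Cyc

namespace Groth.Agent.S1859

open Groth.Agent.Lib.Helper3


/-- For proper morphisms f : X → Y and g : Y → Z and a k-cycle α on X, g_*(f_*α) = (g ∘ f)_*α. Here a
pair (X, δ) with Cyc.IsSetup plays the role of a scheme locally of finite type over a fixed base
with a dimension function (X locally Noetherian with universally catenary local rings, δ a dimension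
function), and Cyc.DeltaCompat records that the dimension function upstairs is the induced one. -/
theorem result (X Y Z : Scheme.{u}) (δX : X → ℤ) (δY : Y → ℤ) (δZ : Z → ℤ) (hX : Cyc.IsSetup X δX) (hY : Cyc.IsSetup Y δY) (hZ : Cyc.IsSetup Z δZ) (f : X ⟶ Y) (g : Y ⟶ Z) [IsProper f] [IsProper g] (hf : Cyc.DeltaCompat f δX δY) (hg : Cyc.DeltaCompat g δY δZ) (k : ℤ) (α : AlgebraicCycle X ℤ) (hα : α ∈ Cyc.Zk X δX k) : AlgebraicCycle.map g δY δZ (AlgebraicCycle.map f δX δY α) = AlgebraicCycle.map (f ≫ g) δX δZ α := by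
  ext z
  unfold AlgebraicCycle.map
  rw [Function.locallyFinsupp.map_apply, Function.locallyFinsupp.map_apply]
  simp only [Function.locallyFinsupp.map_apply]
  -- finiteness
  obtain ⟨U, hU⟩ := (PrespectralSpace.isTopologicalBasis (X := Z)).exists_subset_of_mem_open
      (by simp : z ∈ (⊤ : Set Z)) (by simp)
  have hcpt : IsCompact ((f ≫ g) ⁻¹' U) := (f ≫ g).isSpectralMap.2 hU.1.1 hU.1.2
  have hfin : ((fun x => g (f x)) ⁻¹' {z} ∩ Function.support α).Finite := by
    refine (α.locallyFiniteSupport.finite_inter_support_of_isCompact hcpt).subset ?_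
    rintro x ⟨hx1, hx2⟩
    refine ⟨?_, hx2⟩
    have : g (f x) = z := hx1
    change g (f x) ∈ U
    rw [this]; exact hU.2.1
  have key := finsum_fiber_comp (fun x => f x) (fun y => g y) (fun x => α x)
    (fun x => ((AlgebraicCycle.mapCoeff f δX δY x : ℕ) : ℤ))
    (fun y => ((AlgebraicCycle.mapCoeff g δY δZ y : ℕ) : ℤ)) z hfin
  refine key.trans ?_
  refine finsum_mem_congr rfl fun x _ => ?_
  rw [mapCoeff_comp f g δX δY δZ hf hg x, Nat.cast_mul]

end Groth.Agent.S1859
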