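import Groth.Statements.S18598
import Mathlib

set_option autoImplicit false
universe u
open SSRed

namespace Groth.Agent.S18598

open Polynomial in
lemma sub_one_pow_totient_dvd {O : Type*} [CommRing O] [IsDomain O] {ζ : O} {m : ℕ} (hm : 0 < m)
    (hζ : IsPrimitiveRoot ζ m) : (ζ - 1) ^ (Nat.totient m) ∣ (cyclotomic m O).eval 1 := by
  haveI : NeZero m := ⟨hm.ne'⟩
  rw [cyclotomic_eq_prod_X_sub_primitiveRoots hζ, eval_prod]
  simp only [eval_sub, eval_X, eval_C]
  rw [← hζ.card_primitiveRoots, ← Finset.prod_const]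
  apply Finset.prod_dvd_prod_of_dvd
  intro μ hμ
  rw [mem_primitiveRoots hm] at hμ
  obtain ⟨j, -, rfl⟩ := hζ.eq_pow_of_pow_eq_one hμ.pow_eq_one
  have h : ζ - 1 ∣ ζ ^ j - 1 := by simpa using sub_dvd_pow_sub_pow ζ 1 j
  rwa [← dvd_neg, neg_sub] at h

open Polynomial in
lemma core (O : Type*) [CommRing O] [IsDomain O] [CharZero O] (n : ℕ) (hn : 2 ≤ n)
    (hO : ∀ p : ℕ, p.Prime → p ∣ n → ¬ IsUnit (p : O))
    (α : O) (m : ℕ) (hm : 2 ≤ m) (hα : IsPrimitiveRoot α m) (h : (n : O) ∣ (α - 1) ^ 2) :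
    ∃ p k : ℕ, p.Prime ∧ m = p ^ (k + 1) ∧ (∀ ℓ : ℕ, ℓ.Prime → ℓ ∣ n → ℓ = p) ∧
      ∀ e : ℕ, p ^ e ∣ n → e * (p ^ k * (p - 1)) ≤ 2 := by
  have hm0 : 0 < m := by omega
  have hφ : 0 < Nat.totient m := Nat.totient_pos.mpr hm0
  have hdiv : (n : O) ^ (Nat.totient m) ∣ ((cyclotomic m O).eval 1) ^ 2 := by
    calc (n : O) ^ (Nat.totient m) ∣ ((α - 1) ^ 2) ^ (Nat.totient m) := pow_dvd_pow_of_dvd h _
      _ = ((α - 1) ^ (Nat.totient m)) ^ 2 := by rw [← pow_mul, ← pow_mul, mul_comm]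
      _ ∣ ((cyclotomic m O).eval 1) ^ 2 := pow_dvd_pow_of_dvd (sub_one_pow_totient_dvd hm0 hα) 2
  by_cases hpp : ∀ {p : ℕ}, p.Prime → ∀ k : ℕ, p ^ k ≠ m
  · exfalso
    rw [eval_one_cyclotomic_not_prime_pow hpp, one_pow] at hdiv
    have hn1 : (n : O) ∣ 1 := dvd_trans (dvd_pow_self _ hφ.ne') hdiv
    obtain ⟨ℓ, hℓ, hℓn⟩ := Nat.exists_prime_and_dvd (show n ≠ 1 by omega)
    have : (ℓ : O) ∣ (n : O) := Nat.cast_dvd_cast hℓn
    exact hO ℓ hℓ hℓn (isUnit_of_dvd_one (dvd_trans this hn1))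
  · push Not at hpp
    obtain ⟨p, hp, k, hk⟩ := hpp
    have hk0 : k ≠ 0 := by
      rintro rfl
      rw [pow_zero] at hk; omega
    obtain ⟨k', rfl⟩ := Nat.exists_eq_succ_of_ne_zero hk0
    haveI : Fact p.Prime := ⟨hp⟩
    rw [← hk, Nat.succ_eq_add_one, eval_one_cyclotomic_prime_pow] at hdiv
    have hφeq : Nat.totient (p ^ (k' + 1)) = p ^ k' * (p - 1) := Nat.totient_prime_pow_succ hp k'
    have hφ' : 0 < Nat.totient (p ^ (k' + 1)) := by rw [hk]; exact hφ
    refine ⟨p, k', hp, hk.symm, ?_, ?_⟩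
    · intro ℓ hℓ hℓn
      by_contra hne
      have h1 : ((ℓ : O)) ^ (Nat.totient (p ^ (k' + 1))) ∣ (p : O) ^ 2 :=
        dvd_trans (pow_dvd_pow_of_dvd (Nat.cast_dvd_cast hℓn) _) hdiv
      have hcop : Nat.Coprime (ℓ ^ (Nat.totient (p ^ (k' + 1)))) (p ^ 2) :=
        Nat.Coprime.pow _ _ ((Nat.coprime_primes hℓ hp).mpr hne)
      have hcopZ : IsCoprime ((ℓ ^ (Nat.totient (p ^ (k' + 1))) : ℕ) : ℤ) ((p ^ 2 : ℕ) : ℤ) :=
        Nat.isCoprime_iff_coprime.mpr hcop
      have hcopO := hcopZ.map (Int.castRingHom O)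
      simp only [eq_intCast] at hcopO
      push_cast at hcopO
      have hu : IsUnit ((ℓ : O) ^ (Nat.totient (p ^ (k' + 1)))) :=
        hcopO.isUnit_of_dvd' dvd_rfl h1
      exact hO ℓ hℓ hℓn ((isUnit_pow_iff hφ'.ne').mp hu)
    · intro e he
      by_contra hgt
      push Not at hgt
      rw [← hφeq] at hgt
      have h1 : ((p : O) ^ e) ^ (Nat.totient (p ^ (k' + 1))) ∣ (p : O) ^ 2 := by
        refine dvd_trans (pow_dvd_pow_of_dvd ?_ _) hdiv
        have := Nat.cast_dvd_cast (α := O) he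
        simpa using this
      rw [← pow_mul] at h1
      have h2 : (p : O) ^ (2 + 1) ∣ (p : O) ^ 2 := dvd_trans (pow_dvd_pow _ (by omega)) h1
      have hp0 : (p : O) ^ 2 ≠ 0 := pow_ne_zero _ (by exact_mod_cast hp.ne_zero)
      rw [pow_succ] at h2
      have h3 : (p : O) ∣ 1 := by
        have : (p : O) ^ 2 * (p : O) ∣ (p : O) ^ 2 * 1 := by rwa [mul_one]
        exact (mul_dvd_mul_iff_left hp0).mp this
      have hpe : e ≠ 0 := by
        rintro rfl
        simp at hgt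
      have hpn : p ∣ n := dvd_trans (dvd_pow_self p hpe) he
      exact hO p hp hpn (isUnit_of_dvd_one h3)

/-- Let O be a commutative integral domain of characteristic zero, n a positive integer such that no
prime number dividing n is a unit in O, and α an element of O of finite multiplicative order such
that (α − 1)² is divisible by n in O. Then α = 1 if n ≥ 5, α² = 1 if n = 4, α³ = 1 if n = 3, and α⁴
= 1 if n = 2. -/
theorem result (O : Type u) [CommRing O] [IsDomain O] [CharZero O]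
    (n : ℕ) (hn : 0 < n) (hO : ∀ p : ℕ, p.Prime → p ∣ n → ¬ IsUnit (p : O))
    (α : O) (hα : IsOfFinOrder α) (h : (n : O) ∣ (α - 1) ^ 2) :
    (5 ≤ n → α = 1) ∧ (n = 4 → α ^ 2 = 1) ∧ (n = 3 → α ^ 3 = 1) ∧ (n = 2 → α ^ 4 = 1) := by
  classical
  by_cases hn2 : n < 2
  · refine ⟨fun h5 => ?_, fun h4 => ?_, fun h3 => ?_, fun h2 => ?_⟩ <;> omega
  push Not at hn2
  set m := orderOf α with hmdef
  have hm0 : 0 < m := hα.orderOf_pos
  have hprim : IsPrimitiveRoot α m := IsPrimitiveRoot.orderOf α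
  by_cases hm1 : m = 1
  · have hα1 : α = 1 := orderOf_eq_one_iff.mp hm1
    subst hα1
    simp
  have hm2 : 2 ≤ m := by omega
  obtain ⟨p, k, hp, hmp, hF1, hF2⟩ := core O n hn2 hO α m hm2 hprim h
  have hp2 : 2 ≤ p := hp.two_le
  have hpk : 1 ≤ p ^ k := Nat.one_le_pow _ _ hp.pos
  refine ⟨fun h5 => ?_, fun h4 => ?_, fun h3 => ?_, fun h2 => ?_⟩
  · exfalso
    have hnE := Nat.eq_prime_pow_of_unique_prime_dvd (n := n) (p := p) (by omega)
      (fun {d} hd hdn => hF1 d hd hdn)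
    set E := n.primeFactorsList.length with hE
    have hb := hF2 E (by rw [← hnE])
    have hq : 1 ≤ p ^ k * (p - 1) := Nat.mul_pos (by omega) (by omega)
    have hE2 : E ≤ 2 := by nlinarith
    interval_cases E
    · rw [pow_zero] at hnE; omega
    · rw [pow_one] at hnE
      have hb1 : p ^ k * (p - 1) ≤ 2 := by simpa using hb
      have : p - 1 ≤ 2 := le_trans (Nat.le_mul_of_pos_left _ (by omega)) hb1
      omega
    · have hb1 : p ^ k * (p - 1) ≤ 1 := by omega
      have : p - 1 ≤ 1 := le_trans (Nat.le_mul_of_pos_left _ (by omega)) hb1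
      have hp' : p = 2 := by omega
      rw [hp'] at hnE
      omega
  · subst h4
    have hp' : p = 2 := (hF1 2 Nat.prime_two (by norm_num)).symm
    subst hp'
    have hb := hF2 2 (by norm_num)
    have hk0 : k = 0 := by
      by_contra hk
      have : 2 ^ 1 ≤ 2 ^ k := Nat.pow_le_pow_right (by norm_num) (by omega)
      omega
    subst hk0
    have : m = 2 := by simpa using hmp
    rw [← this]
    exact pow_orderOf_eq_one α
  · subst h3
    have hp' : p = 3 := (hF1 3 Nat.prime_three (by norm_num)).symm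
    subst hp'
    have hb := hF2 1 (by norm_num)
    have hk0 : k = 0 := by
      by_contra hk
      have : 3 ^ 1 ≤ 3 ^ k := Nat.pow_le_pow_right (by norm_num) (by omega)
      omega
    subst hk0
    have : m = 3 := by simpa using hmp
    rw [← this]
    exact pow_orderOf_eq_one α
  · subst h2
    have hp' : p = 2 := (hF1 2 Nat.prime_two (by norm_num)).symm
    subst hp'
    have hb := hF2 1 (by norm_num)
    have hk1 : k ≤ 1 := by
      by_contra hk
      have : 2 ^ 2 ≤ 2 ^ k := Nat.pow_le_pow_right (by norm_num) (by omega)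
      omega
    have hdvd : m ∣ 4 := by
      rw [hmp]
      interval_cases k <;> norm_num
    exact orderOf_dvd_iff_pow_eq_one.mp hdvd

end Groth.Agent.S18598
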