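import Groth.Statements.S18600
import Mathlib


set_option autoImplicit false
universe v
open SSRed

namespace Groth.Agent.S18600

open Polynomial

theorem eig {R Ω : Type*} [CommRing R] [Field Ω] [Algebra R Ω] {g : ℕ}
    (A B : Matrix (Fin g) (Fin g) R) (n : ℕ) (hn : (n : Ω) ≠ 0)
    (hAB : (A - 1) ^ 2 = (n : R) • B) (a : Ω)
    (ha : (A.charpoly.map (algebraMap R Ω)).eval a = 0) :
    IsIntegral R ((a - 1) ^ 2 / (n : Ω)) := by
  classical
  have hAB' : (A.map (algebraMap R Ω) - 1) ^ 2 = (n : Ω) • B.map (algebraMap R Ω) := by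
    have h := congrArg (fun M => (algebraMap R Ω).mapMatrix M) hAB
    simp only [map_pow, map_sub, map_one] at h
    simp only [RingHom.mapMatrix_apply] at h
    rw [h, Matrix.map_smul' _ _ _ (map_mul (algebraMap R Ω)), map_natCast]
  have hsc : ∀ (c : Ω) (v : Fin g → Ω), (Matrix.scalar (Fin g) c).mulVec v = c • v := by
    intro c v
    ext i
    simp [Matrix.scalar_apply, Matrix.mulVec_diagonal]
  have hdet : (Matrix.scalar (Fin g) a - A.map (algebraMap R Ω)).det = 0 := by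
    rw [← Matrix.eval_charpoly, Matrix.charpoly_map]; exact ha
  obtain ⟨v, hv0, hv⟩ := Matrix.exists_mulVec_eq_zero_iff.mpr hdet
  have hAv : (A.map (algebraMap R Ω)).mulVec v = a • v := by
    rw [Matrix.sub_mulVec, hsc, sub_eq_zero] at hv
    exact hv.symm
  have h3 : (A.map (algebraMap R Ω) - 1).mulVec v = (a - 1) • v := by
    rw [Matrix.sub_mulVec, Matrix.one_mulVec, hAv, sub_smul, one_smul]
  have h4 : ((A.map (algebraMap R Ω) - 1) ^ 2).mulVec v = (a - 1) ^ 2 • v := by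
    rw [pow_two, ← Matrix.mulVec_mulVec, h3, Matrix.mulVec_smul, h3, smul_smul, ← pow_two]
  have h5 : (n : Ω) • (B.map (algebraMap R Ω)).mulVec v = (a - 1) ^ 2 • v := by
    rw [← Matrix.smul_mulVec, ← hAB', h4]
  have hBv : (B.map (algebraMap R Ω)).mulVec v = ((a - 1) ^ 2 / (n : Ω)) • v := by
    rw [div_eq_inv_mul, mul_smul, ← h5, smul_smul, inv_mul_cancel₀ hn, one_smul]
  have hdetB : (Matrix.scalar (Fin g) ((a - 1) ^ 2 / (n : Ω)) -
      B.map (algebraMap R Ω)).det = 0 := by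
    apply Matrix.exists_mulVec_eq_zero_iff.mp
    refine ⟨v, hv0, ?_⟩
    rw [Matrix.sub_mulVec, hBv, hsc, sub_self]
  refine ⟨B.charpoly, Matrix.charpoly_monic B, ?_⟩
  rw [← Polynomial.eval_map, ← Matrix.charpoly_map, Matrix.eval_charpoly]
  exact hdetB

theorem rat_int_of_padic (c : ℚ)
    (h : ∀ (ℓ : ℕ) [Fact ℓ.Prime], IsIntegral ℤ_[ℓ] ((c : ℚ) : ℚ_[ℓ])) :
    ∃ z : ℤ, (z : ℚ) = c := by
  have hden : c.den = 1 := by
    by_contra hne
    obtain ⟨ℓ, hℓ, hdvd⟩ := Nat.exists_prime_and_dvd hne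
    haveI : Fact ℓ.Prime := ⟨hℓ⟩
    obtain ⟨y, hy⟩ := IsIntegrallyClosed.isIntegral_iff.mp (h ℓ)
    have hnorm : ‖((c : ℚ) : ℚ_[ℓ])‖ ≤ 1 := by
      rw [← hy, PadicInt.algebraMap_apply]; exact y.2
    have hu := PadicInt.isUnit_den c hnorm
    rw [PadicInt.isUnit_iff] at hu
    have hlt : ‖(c.den : ℤ_[ℓ])‖ < 1 := PadicInt.norm_natCast_lt_one_iff.mpr hdvd
    linarith
  exact ⟨c.num, Rat.coe_int_num_of_den_eq_one hden⟩

theorem local_key (n : ℕ) (g : ℕ) (f : Polynomial ℤ) (hf : f.Monic) (ℓ : ℕ) [Fact ℓ.Prime]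
    (hA : ℓ ∣ n → ∃ A : Matrix (Fin g) (Fin g) ℤ_[ℓ],
      A.charpoly = f.map (Int.castRingHom ℤ_[ℓ]) ∧
        ∃ B : Matrix (Fin g) (Fin g) ℤ_[ℓ], (A - 1) ^ 2 = (n : ℤ_[ℓ]) • B)
    (Ω : Type*) [Field Ω] [Algebra ℤ_[ℓ] Ω] (hnΩ : (n : Ω) ≠ 0) (b : Ω)
    (hb : Polynomial.eval b (f.map (Int.castRingHom Ω)) = 0) :
    IsIntegral ℤ_[ℓ] ((b - 1) ^ 2 / (n : Ω)) := by
  by_cases hdvd : ℓ ∣ n
  · obtain ⟨A, hAchar, B, hAB⟩ := hA hdvd
    apply eig A B n hnΩ hAB b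
    rw [hAchar, Polynomial.map_map,
      show (algebraMap ℤ_[ℓ] Ω).comp (Int.castRingHom ℤ_[ℓ]) = Int.castRingHom Ω from
        RingHom.ext_int _ _]
    exact hb
  · have hbint : IsIntegral ℤ_[ℓ] b := by
      refine ⟨f.map (Int.castRingHom ℤ_[ℓ]), hf.map _, ?_⟩
      rw [Polynomial.eval₂_map,
        show (algebraMap ℤ_[ℓ] Ω).comp (Int.castRingHom ℤ_[ℓ]) = Int.castRingHom Ω from
          RingHom.ext_int _ _, ← Polynomial.eval_map]
      exact hb
    have hunit : IsUnit (n : ℤ_[ℓ]) := by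
      rw [PadicInt.isUnit_iff]
      apply le_antisymm (PadicInt.norm_le_one _)
      rw [← not_lt]
      intro h
      exact hdvd (PadicInt.norm_natCast_lt_one_iff.mp h)
    obtain ⟨u, hu⟩ := hunit
    have hinv : ((n : Ω))⁻¹ = algebraMap ℤ_[ℓ] Ω ((u⁻¹ : ℤ_[ℓ]ˣ) : ℤ_[ℓ]) := by
      have h1 : (n : Ω) * algebraMap ℤ_[ℓ] Ω ((u⁻¹ : ℤ_[ℓ]ˣ) : ℤ_[ℓ]) = 1 := by
        rw [← map_natCast (algebraMap ℤ_[ℓ] Ω) n, ← hu, ← map_mul, Units.mul_inv, map_one]
      exact inv_eq_of_mul_eq_one_right h1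
    rw [div_eq_mul_inv, hinv]
    exact ((hbint.sub isIntegral_one).pow 2).mul isIntegral_algebraMap

theorem coef_local (n : ℕ) (hn : 0 < n) (g : ℕ) (f : Polynomial ℤ) (hf : f.Monic)
    (ℓ : ℕ) [Fact ℓ.Prime]
    (hA : ℓ ∣ n → ∃ A : Matrix (Fin g) (Fin g) ℤ_[ℓ],
      A.charpoly = f.map (Int.castRingHom ℤ_[ℓ]) ∧
        ∃ B : Matrix (Fin g) (Fin g) ℤ_[ℓ], (A - 1) ^ 2 = (n : ℤ_[ℓ]) • B)
    (F : Type*) [Field F] [Algebra ℚ F] [Algebra.IsAlgebraic ℚ F] (a : F)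
    (haf : Polynomial.eval₂ (Int.castRingHom F) a f = 0)
    (Ω : Type*) [Field Ω] [IsAlgClosed Ω] [Algebra ℚ_[ℓ] Ω] [Algebra ℤ_[ℓ] Ω]
    [IsScalarTower ℤ_[ℓ] ℚ_[ℓ] Ω] [Algebra ℚ Ω] (i : ℕ) :
    IsIntegral ℤ_[ℓ] (((minpoly ℚ ((a - 1) ^ 2 / (n : F))).coeff i : ℚ) : ℚ_[ℓ]) := by
  have hnΩ : (n : Ω) ≠ 0 := by
    rw [← map_natCast (algebraMap ℚ_[ℓ] Ω) n]
    exact (_root_.map_ne_zero _).mpr (Nat.cast_ne_zero.mpr hn.ne')
  obtain ⟨x, hxdef⟩ : ∃ x : F, x = (a - 1) ^ 2 / (n : F) := ⟨_, rfl⟩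
  rw [← hxdef]
  have hxint : IsIntegral ℚ x := Algebra.IsIntegral.isIntegral x
  have hPmonic : (minpoly ℚ x).Monic := minpoly.monic hxint
  have h1 : IsIntegral ℤ_[ℓ] (((minpoly ℚ x).map (algebraMap ℚ Ω)).coeff i) := by
    refine Polynomial.isIntegral_coeff_of_factors _ ?_ (IsAlgClosed.splits _) ?_ i
    · rw [(hPmonic.map _).leadingCoeff]; exact isIntegral_one
    · intro y hy
      have hy' : Polynomial.aeval y (minpoly ℚ x) = 0 := by
        rw [← Polynomial.eval_map_algebraMap]; exact hy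
      have hmem : y ∈ (minpoly ℚ x).rootSet Ω :=
        Polynomial.mem_rootSet.mpr ⟨minpoly.ne_zero hxint, hy'⟩
      rw [← Algebra.IsAlgebraic.range_eval_eq_rootSet_minpoly (F := ℚ) (K := F) Ω x] at hmem
      obtain ⟨ψ, hψ⟩ := hmem
      have hψ' : ψ x = y := hψ
      have hb : Polynomial.eval (ψ a) (f.map (Int.castRingHom Ω)) = 0 := by
        rw [Polynomial.eval_map]
        have h1 := Polynomial.hom_eval₂ f (Int.castRingHom F) (ψ.toRingHom) a
        rw [show (ψ.toRingHom).comp (Int.castRingHom F) = Int.castRingHom Ω from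
          RingHom.ext_int _ _, haf, map_zero] at h1
        exact h1.symm
      have := local_key n g f hf ℓ hA Ω hnΩ (ψ a) hb
      rw [← hψ', hxdef, map_div₀, map_pow, map_sub, map_one, map_natCast]
      exact this
  rw [Polynomial.coeff_map, eq_ratCast (algebraMap ℚ Ω),
    ← map_ratCast (algebraMap ℚ_[ℓ] Ω)] at h1
  exact (isIntegral_algebraMap_iff (algebraMap ℚ_[ℓ] Ω).injective).mp h1

theorem main' (n : ℕ) (hn : 0 < n) (g : ℕ) (f : Polynomial ℤ) (hf : f.Monic)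
    (hA : ∀ (ℓ : ℕ) [Fact ℓ.Prime], ℓ ∣ n → ∃ A : Matrix (Fin g) (Fin g) ℤ_[ℓ],
      A.charpoly = f.map (Int.castRingHom ℤ_[ℓ]) ∧
        ∃ B : Matrix (Fin g) (Fin g) ℤ_[ℓ], (A - 1) ^ 2 = (n : ℤ_[ℓ]) • B)
    (F : Type*) [Field F] [Algebra ℚ F] [Algebra.IsAlgebraic ℚ F] (a : F)
    (haf : Polynomial.eval₂ (Int.castRingHom F) a f = 0) :
    IsIntegral ℤ ((a - 1) ^ 2 / (n : F)) := by
  have hcoefZ : ∀ i, ∃ z : ℤ, (z : ℚ) = (minpoly ℚ ((a - 1) ^ 2 / (n : F))).coeff i := by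
    intro i
    apply rat_int_of_padic
    intro ℓ _
    exact coef_local n hn g f hf ℓ (hA ℓ) F a haf (AlgebraicClosure ℚ_[ℓ]) i
  obtain ⟨x, hxdef⟩ : ∃ x : F, x = (a - 1) ^ 2 / (n : F) := ⟨_, rfl⟩
  rw [← hxdef] at hcoefZ ⊢
  have hxint : IsIntegral ℚ x := Algebra.IsIntegral.isIntegral x
  have hPmonic : (minpoly ℚ x).Monic := minpoly.monic hxint
  have hlift : minpoly ℚ x ∈ Polynomial.lifts (Int.castRingHom ℚ) := by
    rw [Polynomial.lifts_iff_coeff_lifts]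
    intro i
    obtain ⟨z, hz⟩ := hcoefZ i
    exact ⟨z, by simpa using hz⟩
  obtain ⟨Q, hQmap, -, hQmonic⟩ := Polynomial.lifts_and_degree_eq_and_monic hlift hPmonic
  refine ⟨Q, hQmonic, ?_⟩
  have h0 : Polynomial.aeval x (minpoly ℚ x) = 0 := minpoly.aeval ℚ x
  rw [← hQmap, Polynomial.aeval_def, Polynomial.eval₂_map,
    show (algebraMap ℚ F).comp (Int.castRingHom ℚ) = algebraMap ℤ F from
      RingHom.ext_int _ _] at h0
  exact h0

/-- Let n be a positive integer, g a natural number and f ∈ ℤ[x] a monic polynomial such that for every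
prime ℓ dividing n there is a g × g matrix A_ℓ over ℤ_ℓ whose characteristic polynomial is f and
such that (A_ℓ − 1)² lies in n·M_g(ℤ_ℓ). Then for every root α of f in a field of characteristic
zero and every square root s of n in that field, (α − 1)/s is integral over ℤ. (The published
statement is for matrices of size 2d and speaks of the eigenvalues of the A_ℓ, which are the roots
of their common characteristic polynomial f; the parity of the size plays no role.) -/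
theorem result (n : ℕ) (hn : 0 < n) (g : ℕ) (f : Polynomial ℤ)
    (hf : f.Monic)
    (hA : ∀ (ℓ : ℕ) [Fact ℓ.Prime], ℓ ∣ n → ∃ A : Matrix (Fin g) (Fin g) ℤ_[ℓ],
      A.charpoly = f.map (Int.castRingHom ℤ_[ℓ]) ∧
        ∃ B : Matrix (Fin g) (Fin g) ℤ_[ℓ], (A - 1) ^ 2 = (n : ℤ_[ℓ]) • B)
    (K : Type v) [Field K] [CharZero K] (α s : K) (hα : Polynomial.aeval α f = 0) (hs : s ^ 2 = (n : K)) :
    IsIntegral ℤ ((α - 1) / s) := by
  classical
  have hαint : IsIntegral ℤ α := ⟨f, hf, by rw [← Polynomial.aeval_def]; exact hα⟩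
  have hαalg : IsAlgebraic ℚ α := (hαint.tower_top (A := ℚ)).isAlgebraic
  obtain ⟨a, ha⟩ : ∃ a : algebraicClosure ℚ K, algebraMap (algebraicClosure ℚ K) K a = α :=
    ⟨⟨α, mem_algebraicClosure_iff.mpr hαalg⟩, rfl⟩
  have haf : Polynomial.eval₂ (Int.castRingHom (algebraicClosure ℚ K)) a f = 0 := by
    apply (algebraMap (algebraicClosure ℚ K) K).injective
    rw [map_zero, Polynomial.hom_eval₂,
      show ((algebraMap (algebraicClosure ℚ K) K).comp
        (Int.castRingHom (algebraicClosure ℚ K))) = algebraMap ℤ K from RingHom.ext_int _ _,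
      ha, ← Polynomial.aeval_def]
    exact hα
  haveI : Algebra.IsAlgebraic ℚ (algebraicClosure ℚ K) := algebraicClosure.isAlgebraic ℚ K
  have hx := main' n hn g f hf hA (algebraicClosure ℚ K) a haf
  have hxK : IsIntegral ℤ ((α - 1) ^ 2 / (n : K)) := by
    have h : IsIntegral ℤ (algebraMap (algebraicClosure ℚ K) K _) := hx.algebraMap
    rw [map_div₀, map_pow, map_sub, map_one, map_natCast, ha] at h
    exact h
  apply IsIntegral.of_pow (n := 2) (by norm_num)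
  rw [div_pow, hs]; exact hxK

end Groth.Agent.S18600
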