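import Groth.Statements.S1861
-- import your own Groth.Agent.* helpers here
import Mathlib
import Groth.Agent.Lib.Helper12.FibreRes2

set_option autoImplicit false
universe u
open CategoryTheory AlgebraicGeometry
open Cyc

namespace Groth.Agent.S1861
open Groth.Agent.Lib.Helper12 Groth.Agent.Lib.Helper12.SchemeDimFT Groth.Agent.Lib.Helper12.FibreRes

/-- Let f : X → Y be flat, locally of finite type, of relative dimension r, y a point of Y and x a point
of X that is generic in an irreducible component of f⁻¹ of the closure of y (that is, x lies in that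
closed set and has no proper generalization in it). Then f(x) = y and δX(x) = δY(y) + r. Here a pair
(X, δ) with Cyc.IsSetup plays the role of a scheme locally of finite type over a fixed base with a
dimension function (X locally Noetherian with universally catenary local rings, δ a dimension
function), and Cyc.DeltaCompat records that the dimension function upstairs is the induced one. -/
theorem result (X Y : Scheme.{u}) (δX : X → ℤ) (δY : Y → ℤ) (hX : Cyc.IsSetup X δX) (hY : Cyc.IsSetup Y δY) (f : X ⟶ Y) [Flat f] [LocallyOfFiniteType f] (r : ℕ) (hr : Cyc.HasRelDim f r) (hδ : Cyc.DeltaCompat f δX δY) (y : Y) (x : X) (hx : f x ∈ closure ({y} : Set Y)) (hmax : ∀ x' : X, f x' ∈ closure ({y} : Set Y) → x' ⤳ x → x' = x) : f x = y ∧ δX x = δY y + r := by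
  -- Step 1: f x = y, by going-down for flat morphisms
  have hfx : f x = y := by
    have hgen : GeneralizingMap f := Flat.generalizingMap f
    have hspec : y ⤳ f x := specializes_iff_mem_closure.mpr hx
    obtain ⟨x', hx'x, hx'y⟩ := hgen hspec
    have h1 : f x' ∈ closure ({y} : Set Y) := by
      rw [hx'y]; exact subset_closure rfl
    have h2 := hmax x' h1 hx'x
    rw [← h2]; exact hx'y
  refine ⟨hfx, ?_⟩
  letI ovF : (f.fiber (f x)).Over (Spec (CommRingCat.of (Y.residueField (f x)))) :=
    ⟨f.fiberToSpecResidueField (f x)⟩
  haveI : LocallyOfFiniteType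
      ((f.fiber (f x)) ↘ Spec (CommRingCat.of (Y.residueField (f x)))) :=
    locallyOfFiniteType_fiberToSpecResidueField f (f x)
  -- Step 2: the point of the fibre is maximal
  have hz : IsMaxPt (f.asFiber x) := by
    intro z' hz'
    have h1 : f.fiberι (f x) z' ⤳ f.fiberι (f x) (f.asFiber x) :=
      hz'.map (f.fiberι (f x)).continuous
    rw [f.fiberι_asFiber x] at h1
    have h2 : f (f.fiberι (f x) z') ∈ closure ({y} : Set Y) := by
      have h3 : f.fiberι (f x) z' ∈ Set.range (f.fiberι (f x)) := ⟨z', rfl⟩
      rw [Scheme.Hom.range_fiberι] at h3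
      have h4 : f (f.fiberι (f x) z') = f x := h3
      rw [h4]; exact hx
    have h5 := hmax _ h2 h1
    have h6 : f.fiberι (f x) z' = f.fiberι (f x) (f.asFiber x) := by
      rw [h5, f.fiberι_asFiber x]
    exact (f.fiberι (f x)).isEmbedding.injective h6
  have hcomp : closure ({f.asFiber x} : Set (f.fiber (f x))) ∈
      irreducibleComponents (f.fiber (f x)) :=
    (mem_irreducibleComponents_iff _).mpr ⟨_, hz, rfl⟩
  have hdim := hr (f x) _ hcomp
  rw [topologicalKrullDim_closure_singleton (Y.residueField (f x)) (f.fiber (f x))] at hdim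
  have htr : tr (Y.residueField (f x)) (f.fiber (f x)) (f.asFiber x) = r := by
    exact_mod_cast hdim
  obtain ⟨n, hn, hδx⟩ := hδ x
  have h7 := trdeg_residueFieldMap_eq_tr f x
  have hnr : n = r := by
    have h8 : ((n : ℕ) : Cardinal.{u}) =
        (tr (Y.residueField (f x)) (f.fiber (f x)) (f.asFiber x) : Cardinal.{u}) := by
      rw [← hn]; exact h7
    have h9 : n = tr (Y.residueField (f x)) (f.fiber (f x)) (f.asFiber x) := by
      exact_mod_cast h8
    rw [h9, htr]
  rw [hδx, hfx, hnr]

end Groth.Agent.S1861
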