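import Groth.Statements.S18614
import Groth.Agent.Lib.Helper26.LinTopDual

set_option autoImplicit false
universe u v
open LinTop

namespace Groth.Agent.S18614

/-- Let k be a field carrying the discrete topology and M a separated topological k-module with a
k-linear topology (the open k-submodules form a basis of neighbourhoods of zero and M is a
topological additive group). For a closed submodule M₁, the perpendicular of the perpendicular of
M₁, both taken with respect to the pairing of M with its continuous dual (the continuous k-linear
maps M → k), is M₁ itself: an element killed by every continuous functional vanishing on M₁ belongs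
to M₁. -/
theorem result (k : Type u) (M : Type v) [Field k]
    [TopologicalSpace k] [DiscreteTopology k] [AddCommGroup M] [Module k M] [TopologicalSpace M]
    [IsTopologicalAddGroup M] [IsLinearTopology k M] [T2Space M]
    (M₁ : Submodule k M) (hM₁ : IsClosed (M₁ : Set M)) (x : M)
    (hx : ∀ φ : M →L[k] k, (∀ m ∈ M₁, φ m = 0) → φ x = 0) : x ∈ M₁ := by
  classical
  by_contra hxM
  obtain ⟨U, hU, hUx⟩ :=
    Groth.Agent.Lib.Helper26.LinTopDual.exists_open_submodule_add_notMem (k := k)
      (M₁ : Set M) hM₁ x hxM
  set N : Submodule k M := M₁ ⊔ U with hN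
  have hNopen : IsOpen (N : Set M) := Submodule.isOpen_mono le_sup_right hU
  have hxN : x ∉ N := by
    intro hx'
    obtain ⟨m, hm, u, hu, rfl⟩ := Submodule.mem_sup.mp hx'
    apply hUx (-u) (U.neg_mem hu)
    simpa using hm
  have hne : N.mkQ x ≠ 0 := by
    rw [Submodule.mkQ_apply, Ne, Submodule.Quotient.mk_eq_zero]
    exact hxN
  obtain ⟨f, hf⟩ := Module.Projective.exists_dual_ne_zero k hne
  let φ : M →ₗ[k] k := f ∘ₗ N.mkQ
  have hker : N ≤ LinearMap.ker φ := by
    intro n hn
    rw [LinearMap.mem_ker, LinearMap.comp_apply, Submodule.mkQ_apply,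
      (Submodule.Quotient.mk_eq_zero N).mpr hn, map_zero]
  have hcont : Continuous φ :=
    Groth.Agent.Lib.Helper26.LinTopDual.continuous_of_open_le_ker φ N hNopen hker
  have := hx ⟨φ, hcont⟩ (fun m hm => hker (le_sup_left (a := M₁) (b := U) hm))
  exact hf this

end Groth.Agent.S18614
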