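import Groth.Statements.S18615
import Groth.Agent.Lib.Helper26.LinTopDual

set_option autoImplicit false
universe u v
open LinTop

namespace Groth.Agent.S18615

/-- Let k be a field carrying the discrete topology and M a separated topological k-module with a
k-linear topology (open k-submodules form a basis of neighbourhoods of zero, M a topological
additive group). For closed submodules M₁ ⊆ M₂ there is a short exact sequence 0 → M₂^⊥ → M₁^⊥ →
(M₂/M₁)^* → 0 of plain k-modules, where ⊥ denotes the annihilator in the continuous dual of M and *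
the continuous dual. Stated here as its one non-formal part, surjectivity on the right: every
continuous functional on M₂ (subspace topology) that vanishes on M₁ is the restriction of a
continuous functional on M vanishing on M₁ (continuous functionals on M₂/M₁ being the continuous
functionals on M₂ that kill M₁). -/
theorem result (k : Type u) (M : Type v) [Field k]
    [TopologicalSpace k] [DiscreteTopology k] [AddCommGroup M] [Module k M] [TopologicalSpace M]
    [IsTopologicalAddGroup M] [IsLinearTopology k M] [T2Space M]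
    (M₁ M₂ : Submodule k M) (h₁₂ : M₁ ≤ M₂) (hM₁ : IsClosed (M₁ : Set M))
    (hM₂ : IsClosed (M₂ : Set M)) (ψ : M₂ →L[k] k)
    (hψ : ∀ m : M₂, (m : M) ∈ M₁ → ψ m = 0) :
    ∃ φ : M →L[k] k, (∀ m ∈ M₁, φ m = 0) ∧ ∀ m : M₂, φ (m : M) = ψ m := by
  classical
  -- Step 1: an open submodule `U` of `M` with `U ∩ M₂ ⊆ ker ψ`
  have hopen : IsOpen ((ψ : M₂ → k) ⁻¹' {0}) := (isOpen_discrete _).preimage ψ.continuous
  obtain ⟨V, hV, hVeq⟩ := isOpen_induced_iff.mp hopen
  have h0V : (0 : M) ∈ V := by
    have : (0 : M₂) ∈ (Subtype.val : M₂ → M) ⁻¹' V := by rw [hVeq]; simp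
    simpa using this
  obtain ⟨U, hU, hUV⟩ :=
    Groth.Agent.Lib.Helper26.LinTopDual.exists_open_submodule_subset (k := k) V (hV.mem_nhds h0V)
  have hUψ : ∀ m : M₂, (m : M) ∈ U → ψ m = 0 := by
    intro m hm
    have : m ∈ (Subtype.val : M₂ → M) ⁻¹' V := hUV hm
    rw [hVeq] at this
    simpa using this
  -- Step 2: the functional on the image of `M₂` in `M ⧸ U`
  set g : M₂ →ₗ[k] M ⧸ U := U.mkQ ∘ₗ M₂.subtype with hg
  have hker : LinearMap.ker g ≤ LinearMap.ker (ψ : M₂ →ₗ[k] k) := by
    intro m hm
    rw [LinearMap.mem_ker, hg, LinearMap.comp_apply, Submodule.mkQ_apply,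
      Submodule.Quotient.mk_eq_zero] at hm
    exact hUψ m hm
  set χ : LinearMap.range g →ₗ[k] k :=
    (LinearMap.ker g).liftQ (ψ : M₂ →ₗ[k] k) hker ∘ₗ g.quotKerEquivRange.symm.toLinearMap with hχ
  obtain ⟨χ', hχ'⟩ := LinearMap.exists_extend χ
  let φ : M →ₗ[k] k := χ' ∘ₗ U.mkQ
  have hUker : U ≤ LinearMap.ker φ := by
    intro u hu
    rw [LinearMap.mem_ker, LinearMap.comp_apply, Submodule.mkQ_apply,
      (Submodule.Quotient.mk_eq_zero U).mpr hu, map_zero]
  have hcont : Continuous φ :=
    Groth.Agent.Lib.Helper26.LinTopDual.continuous_of_open_le_ker φ U hU hUker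
  have hφψ : ∀ m : M₂, φ (m : M) = ψ m := by
    intro m
    have hmem : g m ∈ LinearMap.range g := LinearMap.mem_range_self g m
    have h1 : φ (m : M) = χ' ((LinearMap.range g).subtype ⟨g m, hmem⟩) := rfl
    rw [h1, ← LinearMap.comp_apply, hχ', hχ, LinearMap.comp_apply, LinearEquiv.coe_coe,
      LinearMap.quotKerEquivRange_symm_apply_image g m hmem]
    rfl
  refine ⟨⟨φ, hcont⟩, ?_, hφψ⟩
  intro m hm
  have := hφψ ⟨m, h₁₂ hm⟩
  simp only at this
  change φ m = 0
  rw [this]
  exact hψ ⟨m, h₁₂ hm⟩ hm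

end Groth.Agent.S18615
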