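import Groth.Statements.S18617
-- import your own Groth.Agent.* helpers here

set_option autoImplicit false
universe u
open LocRes

namespace Groth.Agent.S18617

lemma D_coeff (k : Type*) [Field k] (f : LaurentSeries k) (n : ℤ) :
    (LocRes.D k f).coeff n = ((n : k) + 1) * f.coeff (n + 1) := by
  have h := LocRes.derivative_coeff k f n
  change (LaurentSeries.derivative k f).coeff n = _
  rw [h, zsmul_eq_mul]
  push_cast
  ring

lemma C_coeff (k : Type*) [Field k] (a : k) (n : ℤ) :
    (HahnSeries.C a : LaurentSeries k).coeff n = if n = 0 then a else 0 := by
  change (HahnSeries.single (0 : ℤ) a).coeff n = _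
  split_ifs with h
  · rw [h, HahnSeries.coeff_single_same]
  · exact HahnSeries.coeff_single_of_ne h

/-- The published statement is that, for a complete separated linearly topologized commutative algebra K
over a field of characteristic zero, the separated de Rham complex of K tensored with the exterior
algebra on symbols α_1, ..., α_n maps quasi-isomorphically to the separated de Rham complex of the
iterated Laurent series ring K((t_1, ..., t_n)), α_i going to dlog t_i; this row is the case K = k
and n = 1, unpacked: over a field k of characteristic 0, a formal Laurent series f in k((t)) has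
term-by-term derivative zero if and only if it is the constant series on its coefficient of degree
0, and a Laurent series g is the derivative of some Laurent series if and only if its residue (the
coefficient of t⁻¹) vanishes; so H⁰ of the complex k((t)) → k((t)) dt is k and H¹ is the line
spanned by the class of dt/t, on which the residue is 1. -/
theorem result (k : Type u) [Field k] [CharZero k] :
    (∀ f : LaurentSeries k, LocRes.D k f = 0 ↔ f = HahnSeries.C (f.coeff 0)) ∧
      ∀ g : LaurentSeries k, (∃ f : LaurentSeries k, LocRes.D k f = g) ↔ LocRes.res k g = 0 := by
  classical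
  refine ⟨fun f => ⟨fun hf => ?_, fun hf => ?_⟩, fun g => ⟨?_, fun hg => ?_⟩⟩
  · ext n
    rw [C_coeff]
    split_ifs with hn
    · rw [hn]
    · have h := congrArg (fun x : LaurentSeries k => x.coeff (n - 1)) hf
      simp only [HahnSeries.coeff_zero] at h
      rw [D_coeff, sub_add_cancel] at h
      have hne : ((n - 1 : ℤ) : k) + 1 ≠ 0 := by
        have : ((n - 1 : ℤ) : k) + 1 = (n : k) := by push_cast; ring
        rw [this]
        exact_mod_cast hn
      exact (mul_eq_zero.mp h).resolve_left hne
  · rw [hf]
    ext n
    rw [D_coeff, C_coeff, HahnSeries.coeff_zero]
    split_ifs with hn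
    · have : ((n : ℤ) : k) + 1 = 0 := by
        have h1 : n = -1 := by omega
        rw [h1]; push_cast; ring
      rw [this, zero_mul]
    · rw [mul_zero]
  · rintro ⟨f, rfl⟩
    rw [LocRes.res_apply, D_coeff]
    push_cast
    ring
  · rw [LocRes.res_apply] at hg
    -- the antiderivative
    let F : ℤ → k := fun n => if n = 0 then 0 else g.coeff (n - 1) / (n : k)
    have hF : BddBelow (Function.support F) := by
      refine ⟨g.order, ?_⟩
      intro n hn
      by_contra hlt
      push Not at hlt
      apply hn
      simp only [F]
      split_ifs with h0
      · rfl
      · rw [HahnSeries.coeff_eq_zero_of_lt_order (by omega), zero_div]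
    refine ⟨HahnSeries.ofSuppBddBelow F hF, ?_⟩
    ext n
    rw [D_coeff, HahnSeries.coeff_ofSuppBddBelow]
    simp only [F]
    split_ifs with h0
    · have h1 : n = -1 := by omega
      rw [h1, hg, mul_zero]
    · rw [add_sub_cancel_right]
      have hne : ((n + 1 : ℤ) : k) ≠ 0 := by exact_mod_cast h0
      push_cast at hne ⊢
      field_simp

end Groth.Agent.S18617
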