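import Groth.Statements.S1862
import Groth.Agent.Lib.Helper3.CycPush

set_option autoImplicit false
universe u
open CategoryTheory AlgebraicGeometry
open Cyc

namespace Groth.Agent.S1862

open Groth.Agent.Lib.Helper3


/-- Let f : X → Y be a morphism locally of finite type of integral schemes with δX(η_X) = δY(η_Y). Then
either the image of f is not dense, or f maps the generic point to the generic point and the induced
extension of residue fields there (the function fields) is finite. Here a pair (X, δ) with
Cyc.IsSetup plays the role of a scheme locally of finite type over a fixed base with a dimension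
function (X locally Noetherian with universally catenary local rings, δ a dimension function), and
Cyc.DeltaCompat records that the dimension function upstairs is the induced one. -/
theorem result (X Y : Scheme.{u}) [IsIntegral X] [IsIntegral Y] (δX : X → ℤ) (δY : Y → ℤ) (hX : Cyc.IsSetup X δX) (hY : Cyc.IsSetup Y δY) (f : X ⟶ Y) [LocallyOfFiniteType f] (hδ : Cyc.DeltaCompat f δX δY) (heq : δX (genericPoint X) = δY (genericPoint Y)) : ¬ Dense (Set.range f) ∨ (f (genericPoint X) = genericPoint Y ∧ (f.residueFieldMap (genericPoint X)).hom.Finite) := by
  by_cases hd : Dense (Set.range f)
  swap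
  · exact Or.inl hd
  right
  have hgen : f (genericPoint X) = genericPoint Y := by
    have h1 : IsGenericPoint (genericPoint X) ⊤ := genericPoint_spec X
    have h2 : IsGenericPoint (f (genericPoint X)) ⊤ := by
      have hsub : Set.range f ⊆ closure {f (genericPoint X)} := by
        rintro _ ⟨a, rfl⟩
        have hs : genericPoint X ⤳ a := h1.specializes (Set.mem_univ a)
        exact (hs.map f.continuous).mem_closure
      have := closure_minimal hsub isClosed_closure
      rw [hd.closure_eq] at this
      exact Set.eq_univ_of_univ_subset this
    exact h2.eq (genericPoint_spec Y)
  refine ⟨hgen, ?_⟩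
  obtain ⟨n, hn, hδn⟩ := hδ (genericPoint X)
  have hn0 : n = 0 := by rw [hgen] at hδn; omega
  apply residueField_finite_of_trdeg_zero
  rw [hn, hn0]; simp

end Groth.Agent.S1862
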