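import Groth.Statements.S7489
import Groth.Agent.Lib.Helper11.PF1
import Groth.Agent.Lib.Helper11.PF3

set_option autoImplicit false
universe u
open CategoryTheory MonoidalCategory CartesianMonoidalCategory MonObj GrpObj AlgebraicGeometry
open GrpSch

namespace Groth.Agent.S7489

open Groth.Agent.Lib.Helper11

/-- Let k be an algebraically closed field and G a group scheme over k such that the underlying space of
G is Jacobson and every closed point of G is k-rational (the image of a section of G -> Spec k). Let
A be a k-algebra such that every finite subset of A is contained in a k-subalgebra isomorphic to a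
finite product of copies of k (A is a directed colimit of such algebras), and f : Spec A -> G a
morphism over k. Then there is an affine open U of G containing the image of f. -/
theorem result (k : Type u) [Field k] [IsAlgClosed k] (G : Over (Spec (CommRingCat.of k))) [GrpObj G] [JacobsonSpace G.left] (hrat : ∀ g : G.left, IsClosed ({g} : Set G.left) → ∃ x : Spec (CommRingCat.of k) ⟶ G.left, x ≫ G.hom = 𝟙 _ ∧ x (IsLocalRing.closedPoint k) = g) (A : Type u) [CommRing A] [Algebra k A] (hA : ∀ s : Finset A, ∃ (B : Subalgebra k A) (n : ℕ), (↑s : Set A) ⊆ (B : Set A) ∧ Nonempty (B ≃ₐ[k] (Fin n → k))) (f : Spec (CommRingCat.of A) ⟶ G.left) (hf : f ≫ G.hom = Spec.map (CommRingCat.ofHom (algebraMap k A))) : ∃ U : G.left.Opens, IsAffineOpen U ∧ Set.range ⇑f ⊆ (U : Set G.left) := by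
  classical
  let P : Over (Spec (CommRingCat.of k)) := Over.mk (Spec.map (CommRingCat.ofHom (algebraMap k A)))
  let fo : P ⟶ G := Over.homMk f hf
  haveI : IsAffineHom P.hom := by
    show IsAffineHom (Spec.map (CommRingCat.ofHom (algebraMap k A))); infer_instance
  haveI : UniversallyClosed P.hom := by
    show UniversallyClosed (Spec.map (CommRingCat.ofHom (algebraMap k A)))
    haveI := PF1.isIntegral hA
    haveI : IsIntegralHom (Spec.map (CommRingCat.ofHom (algebraMap k A))) := by
      rw [IsIntegralHom.SpecMap_iff]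
      exact Algebra.IsIntegral.isIntegral
    infer_instance
  have hpt : ∀ t : ↥(Spec (CommRingCat.of k)), t = IsLocalRing.closedPoint k :=
    fun t => Subsingleton.elim _ _
  have hrat' : ∀ g : G.left, IsClosed ({g} : Set G.left) →
      ∃ x : 𝟙_ (Over (Spec (CommRingCat.of k))) ⟶ G, ∀ t, x.left t = g := by
    intro g hg
    obtain ⟨x₀, hx1, hx2⟩ := hrat g hg
    refine ⟨Over.homMk x₀ (by rw [hx1]; rfl), fun t => ?_⟩
    show x₀ t = g
    rw [hpt t, hx2]
  have hsec : ∀ s : P.left, ∃ σ : 𝟙_ (Over (Spec (CommRingCat.of k))) ⟶ P, ∀ t, σ.left t = s := by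
    intro s
    obtain ⟨σ₀, h1, h2⟩ := PF1.exists_section hA s
    refine ⟨Over.homMk σ₀ (by
      show σ₀ ≫ Spec.map (CommRingCat.ofHom (algebraMap k A)) = _
      rw [h1]; rfl), fun t => ?_⟩
    exact h2 t
  obtain ⟨U, hU, hsub⟩ := PF3.main G hrat' P hsec fo
  exact ⟨U, hU, hsub⟩

end Groth.Agent.S7489
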