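import Groth.Statements.S1864
import Groth.Agent.S7489
import Groth.Agent.Lib.Helper11.KPts

set_option autoImplicit false
universe u v
open CategoryTheory MonoidalCategory CartesianMonoidalCategory MonObj GrpObj AlgebraicGeometry
open GrpSch

namespace Groth.Agent.S1864

open Groth.Agent.Lib.Helper11

/-- Let G be a group scheme locally of finite type over an algebraically closed field and g₁, …, g_n
finitely many closed points of G. Then some affine open of G contains all the g_i. -/
theorem result (K : Type u) [Field K] [IsAlgClosed K] (G : Over (Spec (CommRingCat.of K))) [GrpObj G] [LocallyOfFiniteType G.hom] (n : ℕ) (g : Fin n → G.left) (hg : ∀ i, IsClosed ({g i} : Set G.left)) : ∃ U : G.left.Opens, IsAffineOpen U ∧ ∀ i, g i ∈ U := by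
  classical
  haveI : JacobsonSpace G.left := LocallyOfFiniteType.jacobsonSpace G.hom
  have hrat : ∀ g : G.left, IsClosed ({g} : Set G.left) →
      ∃ x : Spec (CommRingCat.of K) ⟶ G.left, x ≫ G.hom = 𝟙 _ ∧
        x (IsLocalRing.closedPoint K) = g := by
    intro g hg
    obtain ⟨p, hp1, hp2⟩ := KPts.exists_point_of_isClosed K K G.hom g hg
    refine ⟨p, ?_, hp2 _⟩
    rw [hp1]
    have : algebraMap K K = RingHom.id K := rfl
    rw [this]
    exact Spec.map_id _
  choose x hx1 hx2 using fun i => hrat (g i) (hg i)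
  let I := ULift.{u} (Fin n)
  have hA : ∀ s : Finset (I → K), ∃ (B : Subalgebra K (I → K)) (m : ℕ),
      (↑s : Set (I → K)) ⊆ (B : Set (I → K)) ∧ Nonempty (B ≃ₐ[K] (Fin m → K)) := by
    intro s
    exact ⟨⊤, n, fun _ _ => Set.mem_univ _,
      ⟨(Subalgebra.topEquiv).trans (AlgEquiv.piCongrLeft' K (fun _ : I => K) Equiv.ulift)⟩⟩
  let R : I → CommRingCat.{u} := fun _ => CommRingCat.of K
  let f : Spec (CommRingCat.of (I → K)) ⟶ G.left :=
    inv (sigmaSpec R) ≫ Limits.Sigma.desc (fun i : I => x i.down)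
  have hf : f ≫ G.hom = Spec.map (CommRingCat.ofHom (algebraMap K (I → K))) := by
    show (inv (sigmaSpec R) ≫ Limits.Sigma.desc (fun i : I => x i.down)) ≫ G.hom = _
    rw [Category.assoc, IsIso.inv_comp_eq]
    apply Limits.Sigma.hom_ext
    intro i
    rw [Limits.Sigma.ι_desc_assoc, hx1, ι_sigmaSpec_assoc, ← Spec.map_comp]
    have : CommRingCat.ofHom (algebraMap K (I → K)) ≫
        CommRingCat.ofHom (Pi.evalRingHom (fun i : I => (R i : Type u)) i) = 𝟙 _ := by
      ext; rfl
    rw [this]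
    exact (Spec.map_id _).symm
  obtain ⟨U, hU, hsub⟩ := Groth.Agent.S7489.result K G hrat (I → K) hA f hf
  refine ⟨U, hU, fun i => hsub ⟨(Limits.Sigma.ι (fun i : I => Spec (R i)) ⟨i⟩ ≫ sigmaSpec R)
    (IsLocalRing.closedPoint K), ?_⟩⟩
  rw [← Scheme.Hom.comp_apply]
  show ((Limits.Sigma.ι (fun i : I => Spec (R i)) ⟨i⟩ ≫ sigmaSpec R) ≫
    inv (sigmaSpec R) ≫ Limits.Sigma.desc (fun i : I => x i.down)) (IsLocalRing.closedPoint K) = g i
  rw [Category.assoc, IsIso.hom_inv_id_assoc, Limits.Sigma.ι_desc]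
  exact hx2 i

end Groth.Agent.S1864
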