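import Mathlib
import Groth.Agent.Lib.Helper20.GrGorTop
import Groth.Agent.Lib.Helper20.GrConcentrated
import Groth.Agent.Lib.Helper20.GrGorCrit
import Groth.Agent.Lib.Helper20.GrVanishAbove
import Groth.Agent.S13244
import Groth.Statements.S18650
-- import your own Groth.Agent.* helpers here

set_option autoImplicit false
universe u
open GrLC

open Groth.Agent.Lib.Helper20.GrLCBasic Groth.Agent.Lib.Helper20.GrLCQuot Groth.Agent.Lib.Helper20.GrStarLocalBass Groth.Agent.Lib.Helper20.GrGorTop

namespace Groth.Agent.S18650

/-- The case M = R of the published statement. Let R be a commutative Noetherian ℤ-graded ring which is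
H-local, i.e. has a unique maximal graded ideal m, and which is Cohen–Macaulay, with ht m = n. Then
R is a Gorenstein ring if and only if the graded local cohomology module H^n_m(R) is an injective
object of the category of graded R-modules. Here H^n_m(R) is computed from a *injective resolution I
of R in the graded category, and its *injectivity is expressed as the existence of a *injective
graded R-module X and an R-linear isomorphism H^n_m(R) ≅ X preserving degrees. (The published item
is stated for a Cohen–Macaulay graded module M and the notion of Gorenstein module; this row is its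
case M = R.) -/
theorem result (R : Type u) [CommRing R] [LocCoh.IsCohenMacaulayRing R] (𝒜 : ℤ → AddSubgroup R) [GradedRing 𝒜] (m : HomogeneousIdeal 𝒜) (hm : GrLC.IsStarLocal 𝒜 m) (n : ℕ) (hn : m.toIdeal.height = n) (I : GrLC.StarInjRes 𝒜 𝒜) : LocCoh.IsGorensteinRing R ↔ ∃ (X : GrLC.GMod.{u} 𝒜) (φ : I.H m n ≃ₗ[R] X.carrier), GrLC.IsStarInj 𝒜 X.gr ∧ GrLC.IsGrHom (I.Hgr m n) X.gr φ.toLinearMap := by
  haveI : IsNoetherianRing R := inferInstance
  have hmp : m.toIdeal.IsPrime := isPrime_of_isCoatom 𝒜 m hm.1
  constructor
  · intro hG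
    haveI := hG
    letI : DirectSum.Decomposition (GrLC.quotGr 𝒜 m) :=
      (isInternal_quotGr 𝒜 (m.toIdeal : Submodule R R) m.isHomogeneous).chooseDecomposition
    letI : SetLike.GradedSMul 𝒜 (GrLC.quotGr 𝒜 m) :=
      quotGr_gradedSMul (𝒜 := 𝒜) (𝓧 := 𝒜) (P := (m.toIdeal : Submodule R R))
    obtain ⟨E', e, he⟩ := Groth.Agent.Lib.Helper20.GrLCHull.exists_starInjHull 𝒜
      (GrLC.quotGr 𝒜 m)
    obtain ⟨g, φ, hφ⟩ := Groth.Agent.S13244.result R 𝒜 m hm n hn I E'.carrier E'.gr e he
    exact ⟨Groth.Agent.Lib.Helper20.GrLCExt.shiftGMod 𝒜 E' g, φ,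
      Groth.Agent.Lib.Helper20.GrLCExt.isStarInj_shift 𝒜 E'.gr he.starInj g,
      fun j x hx => hφ j x hx⟩
  · rintro ⟨X, φ, hX, hφ⟩
    haveI hCMA : LocCoh.IsCohenMacaulayLocalRing (Localization.AtPrime m.toIdeal) :=
      LocCoh.IsCohenMacaulayRing.isCohenMacaulayLocalRing_localization m.toIdeal
    have hdimA : ringKrullDim (Localization.AtPrime m.toIdeal) = n := by
      rw [IsLocalization.AtPrime.ringKrullDim_eq_height m.toIdeal (Localization.AtPrime m.toIdeal),
        hn]
      rfl
    have hdep : LocCoh.depth (Localization.AtPrime m.toIdeal) (Localization.AtPrime m.toIdeal)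
        = n := by
      have hcm := LocCoh.IsCohenMacaulayLocalRing.supportDim_eq_depth
        (R := Localization.AtPrime m.toIdeal)
      rw [Module.supportDim_self_eq_ringKrullDim, hdimA] at hcm
      exact_mod_cast hcm.symm
    have hlowB : ∀ i, i < n → GrLC.bassNum m.toIdeal R i = 0 := by
      intro i hi
      haveI : Module.Finite (Localization.AtPrime m.toIdeal)
          (ModuleCat.of (Localization.AtPrime m.toIdeal) (Localization.AtPrime m.toIdeal)) :=
        inferInstanceAs (Module.Finite (Localization.AtPrime m.toIdeal)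
          (Localization.AtPrime m.toIdeal))
      haveI : Module.Finite (Localization.AtPrime m.toIdeal)
          (ModuleCat.of (Localization.AtPrime m.toIdeal) (Localization.AtPrime m.toIdeal ⧸
            IsLocalRing.maximalIdeal (Localization.AtPrime m.toIdeal))) :=
        inferInstanceAs (Module.Finite (Localization.AtPrime m.toIdeal)
          (Localization.AtPrime m.toIdeal ⧸
            IsLocalRing.maximalIdeal (Localization.AtPrime m.toIdeal)))
      haveI : Subsingleton (CategoryTheory.Abelian.Ext.{u}
          (ModuleCat.of (Localization.AtPrime m.toIdeal) (Localization.AtPrime m.toIdeal ⧸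
            IsLocalRing.maximalIdeal (Localization.AtPrime m.toIdeal)))
          (ModuleCat.of (Localization.AtPrime m.toIdeal) (Localization.AtPrime m.toIdeal)) i) := by
        apply Groth.Agent.Lib.Helper4.subsingleton_ext_of_lt_idealDepth
          (IsLocalRing.maximalIdeal (Localization.AtPrime m.toIdeal)) _
          Groth.Agent.Lib.Helper4.LC.support_residue_subset
          (ModuleCat.of (Localization.AtPrime m.toIdeal) (Localization.AtPrime m.toIdeal)) i
        change (i : ℕ∞) < LocCoh.depth (Localization.AtPrime m.toIdeal)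
          (Localization.AtPrime m.toIdeal)
        rw [hdep]
        exact_mod_cast hi
      unfold GrLC.bassNum GrLC.bassNumLocal
      rw [(Groth.Agent.Lib.Helper20.GorBassNum.extEquiv R m.toIdeal i).length_eq,
        Module.length_eq_zero_iff]
      infer_instance
    obtain ⟨E, hmin0, hmin⟩ := Groth.Agent.Lib.Helper20.GrMinRes.exists_minimal 𝒜 𝒜
    have hH : ∀ i, i ≠ n → Subsingleton (I.H m i) := by
      intro i hi
      rcases Nat.lt_or_gt_of_ne hi with h | h
      · have hg : GrLC.gam m.toIdeal (E.X i).carrier = ⊥ :=
          gam_eq_bot_of_bassNum 𝒜 m hm (E.X i) (by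
            rw [bassNum_X_zero 𝒜 E hmin0 hmin m.toIdeal m.isHomogeneous i]
            exact hlowB i h)
        obtain ⟨ψ, -⟩ := exists_equiv_of_res 𝒜 𝒜 m I E i
        have hc : E.cocyc m i = ⊥ := by
          rw [eq_bot_iff, ← hg]
          exact inf_le_left
        haveI : Subsingleton (E.cocyc m i) := by
          rw [hc]
          infer_instance
        haveI : Subsingleton (E.H m i) :=
          (Submodule.mkQ_surjective _).subsingleton
        exact ψ.toEquiv.subsingleton
      · exact Groth.Agent.Lib.Helper20.GrVanishAbove.subsingleton_H_of_gt_height 𝒜 m hm 𝒜 I n hn i h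
    have hB := Groth.Agent.Lib.Helper20.GrConcentrated.bassNum_eq_zero_of_concentrated 𝒜 𝒜 m n I hH
      X φ hX hφ
    exact Groth.Agent.Lib.Helper20.GrGorCrit.isGorensteinRing_of_bassNum 𝒜 m hm n
      (fun i hi => hB i (by omega))

end Groth.Agent.S18650
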