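import Mathlib
import Groth.Agent.Lib.Helper20.GrWeightedCanon
import Groth.Statements.S18651
-- import your own Groth.Agent.* helpers here

set_option autoImplicit false
universe u
attribute [local instance] MvPolynomial.weightedGradedAlgebra
open GrLC

open Groth.Agent.Lib.Helper20.GrConv Groth.Agent.Lib.Helper20.GrWeightedPoly

namespace Groth.Agent.S18651

/-- Let k be a field and R = k[X_1, …, X_N] the polynomial ring with deg X_i = w_i > 0. Then the
canonical module of R is K_R = X_1 X_2 ⋯ X_N · R ≅ R(−d) with d = w_1 + ⋯ + w_N; stated here as: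
there is a bijective R-linear map R → K_R homogeneous of degree d. The canonical module is
represented by a finitely generated graded module C together with a homogeneous isomorphism from
Hom_R(C, E) onto H^N_m(R), where m = R_+, E is a *injective envelope of R/m and H^N_m(R) is computed
from a *injective resolution of R in the graded category; by graded Matlis duality this says exactly
that C ≅ K_R as graded modules. -/
theorem result (k : Type u) [Field k] (N : ℕ) (w : Fin N → ℤ) (hw : ∀ i, 0 < w i) (m : HomogeneousIdeal (MvPolynomial.weightedHomogeneousSubmodule k w)) (hm : GrLC.IsStarLocal (MvPolynomial.weightedHomogeneousSubmodule k w) m) (hmsp : m.toIdeal = Ideal.span (⋃ n ∈ Set.Ioi (0 : ℤ), (MvPolynomial.weightedHomogeneousSubmodule k w n : Set (MvPolynomial (Fin N) k)))) (I : GrLC.StarInjRes (MvPolynomial.weightedHomogeneousSubmodule k w) (MvPolynomial.weightedHomogeneousSubmodule k w)) (E' : Type u) [AddCommGroup E'] [Module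 (MvPolynomial (Fin N) k) E'] (𝓔 : ℤ → AddSubgroup E') [DirectSum.Decomposition 𝓔] [SetLike.GradedSMul (MvPolynomial.weightedHomogeneousSubmodule k w) 𝓔] (e : (MvPolynomial (Fin N) k ⧸ m.toIdeal) →ₗ[MvPolynomial (Fin N) k] E') (he : GrLC.IsStarInjHull (MvPolynomial.weightedHomogeneousSubmodule k w) (GrLC.quotGr (MvPolynomial.weightedHomogeneousSubmodule k w) m) 𝓔 e) (C : Type u) [AddCommGroup C] [Module (MvPolynomial (Fin N) k) C] (𝒞 : ℤ → AddSubgroup C) [DirectSum.Decomposition 𝒞] [SetLike.GradedSMul (MvPolynomial.weightedHomogeneousSubmodule k w) 𝒞] (hC : GrLC.IsStarCanonical (MvPolynomial.weightedHomogeneousSubmodule k w) 𝒞 𝓔 m N I) : ∃ f : MvPolynomial (Fin N) k →ₗ[MvPolynomial (Fin N) k] C, Function.Bijective f ∧ GrLC.IsGrHomDeg (MvPolynomial.weightedHomogeneousSubmodule k w) 𝒞 f ((Finset.univ : Finset (Fin N)).sum w) := by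
  classical
  let 𝒜₀ := MvPolynomial.weightedHomogeneousSubmodule k w
  haveI i1 : SetLike.GradedSMul (WA k N w) 𝓔 := gradedSMul_toAS 𝒜₀ 𝓔
  haveI i2 : SetLike.GradedSMul (WA k N w) 𝒞 := gradedSMul_toAS 𝒜₀ 𝒞
  have hm' : IsStarLocal (WA k N w) (idealTo 𝒜₀ m) := isStarLocal_toAS 𝒜₀ m hm
  have he' : IsStarInjHull (WA k N w) (GrLC.quotGr (WA k N w) (idealTo 𝒜₀ m)) 𝓔 e :=
    isStarInjHull_toAS 𝒜₀ 𝓔 m e he
  have hC' : IsStarCanonical (WA k N w) 𝒞 𝓔 (idealTo 𝒜₀ m) N (resTo 𝒜₀ 𝒜₀ I) :=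
    isStarCanonical_toAS 𝒜₀ 𝓔 m 𝒞 N I hC
  have hmsp' : (idealTo 𝒜₀ m).toIdeal = Ideal.span (⋃ n ∈ Set.Ioi (0 : ℤ),
      (WA k N w n : Set (MvPolynomial (Fin N) k))) := hmsp
  have hpos := WA_neg k N w hw
  have h0 := isField_deg0 k N w hw
  obtain ⟨a, f, hf, hfa⟩ := (Groth.Agent.S18638.result (MvPolynomial (Fin N) k) (WA k N w) hpos h0
    (idealTo 𝒜₀ m) hm' hmsp' N (ringKrullDim_eq k N) (resTo 𝒜₀ 𝒜₀ I) E' 𝓔 e he' C 𝒞 hC').1
    inferInstance
  obtain ⟨_, φ, hφ⟩ := hC'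
  have hmX : (idealTo 𝒜₀ m).toIdeal =
      Ideal.span (Set.range (MvPolynomial.X : Fin N → MvPolynomial (Fin N) k)) := by
    rw [hmsp', irrel_eq_span k N w hw]
  have hmne : (idealTo 𝒜₀ m).toIdeal ≠ ⊤ := by
    rw [hmX]
    exact span_X_ne_top k N
  have hmpos : ∀ n : ℤ, 0 < n → ∀ x : MvPolynomial (Fin N) k, x ∈ WA k N w n →
      x ∈ (idealTo 𝒜₀ m).toIdeal := by
    intro n hn x hx
    rw [hmsp']
    apply Ideal.subset_span
    simp only [Set.mem_iUnion, Set.mem_Ioi]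
    exact ⟨n, hn, hx⟩
  have h1 := Groth.Agent.Lib.Helper20.GrCanonShift.endDeg_eq_neg (WA k N w) hpos (idealTo 𝒜₀ m)
    hmpos hmne 𝓔 e he' 𝒞 (resTo 𝒜₀ 𝒜₀ I) N φ hφ a f hf hfa
  have h2 := Groth.Agent.Lib.Helper20.GrWeightedCanon.endDeg_top k N w hw (idealTo 𝒜₀ m) hm' hmsp'
    (resTo 𝒜₀ 𝒜₀ I)
  rw [h1] at h2
  have h3 : a = (Finset.univ : Finset (Fin N)).sum w := by
    have h4 : ((-a : ℤ) : WithTop ℤ) = ((-(Finset.univ : Finset (Fin N)).sum w : ℤ) : WithTop ℤ) :=
      WithBot.coe_injective h2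
    have h5 : (-a : ℤ) = -(Finset.univ : Finset (Fin N)).sum w := WithTop.coe_injective h4
    linarith
  subst h3
  exact ⟨f, hf, fun g x hx => hfa g x hx⟩

end Groth.Agent.S18651
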