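import Groth.Statements.S18653
import Mathlib
import Groth.Agent.Lib.Helper12.DimFT

set_option autoImplicit false
universe u
open GrLC

namespace Groth.Agent.S18653


section aux
variable {k : Type u} [Field k] [IsAlgClosed k] {R : Type u} [CommRing R] [IsDomain R] [Algebra k R]

lemma scalar_of_root {K : Type*} [Field K] [Algebra k K] (z : K) (Q : Polynomial k) (hQ : Q ≠ 0)
    (hz : Polynomial.aeval z Q = 0) : ∃ c : k, z = algebraMap k K c := by
  have hint : IsIntegral k z := (isAlgebraic_iff_isIntegral).1 ⟨Q, hQ, hz⟩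
  have hirr := minpoly.irreducible hint
  have hdeg := IsAlgClosed.degree_eq_one_of_irreducible k hirr
  obtain ⟨c, hc⟩ := minpoly.mem_range_of_degree_eq_one k z hdeg
  exact ⟨c, hc.symm⟩

lemma prop_of_binary (x y : R) (hy : y ≠ 0) (d : ℕ) (s : Finset (Fin 2 →₀ ℕ))
    (hs : ∀ m ∈ s, m 0 + m 1 = d) (c : (Fin 2 →₀ ℕ) → k) (m₀ : Fin 2 →₀ ℕ) (hm₀ : m₀ ∈ s)
    (hc : c m₀ ≠ 0) (hsum : ∑ m ∈ s, c m • (x ^ (m 0) * y ^ (m 1)) = 0) :
    ∃ a : k, x = a • y := by
  classical
  obtain ⟨x', hx'⟩ : ∃ x' : FractionRing R, x' = algebraMap R (FractionRing R) x := ⟨_, rfl⟩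
  obtain ⟨y', hy'⟩ : ∃ y' : FractionRing R, y' = algebraMap R (FractionRing R) y := ⟨_, rfl⟩
  have hy'0 : y' ≠ 0 := by
    rw [hy']
    exact (map_ne_zero_iff _ (IsFractionRing.injective R (FractionRing R))).2 hy
  obtain ⟨Q, hQdef⟩ : ∃ Q : Polynomial k, Q = ∑ m ∈ s, Polynomial.monomial (m 0) (c m) := ⟨_, rfl⟩
  have hQ : Q ≠ 0 := by
    intro h
    have h2 := congrArg (fun q => Polynomial.coeff q (m₀ 0)) h
    simp only [hQdef, Polynomial.finset_sum_coeff, Polynomial.coeff_monomial, Polynomial.coeff_zero] at h2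
    rw [Finset.sum_eq_single m₀] at h2
    · rw [if_pos rfl] at h2; exact hc h2
    · intro m hm hne
      rw [if_neg]
      intro e
      apply hne
      have e1 := hs m hm
      have e2 := hs m₀ hm₀
      ext i
      fin_cases i
      · exact e
      · show m 1 = m₀ 1
        omega
    · intro h'; exact absurd hm₀ h'
  have hterm : ∀ m ∈ s, y' ^ d * (algebraMap k (FractionRing R) (c m) * (x' / y') ^ (m 0)) =
      algebraMap R (FractionRing R) (c m • (x ^ (m 0) * y ^ (m 1))) := by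
    intro m hm
    have e1 : y' ^ (m 0 + m 1) * (x' / y') ^ (m 0) = x' ^ (m 0) * y' ^ (m 1) := by
      rw [div_pow, pow_add]
      field_simp
    rw [Algebra.smul_def, map_mul, map_mul, map_pow, map_pow, ← IsScalarTower.algebraMap_apply,
      ← hx', ← hy', ← e1, hs m hm]
    ring
  have haev : Polynomial.aeval (x' / y') Q = 0 := by
    have h3 : y' ^ d * Polynomial.aeval (x' / y') Q = 0 := by
      rw [hQdef, map_sum, Finset.mul_sum]
      rw [← map_zero (algebraMap R (FractionRing R)), ← hsum, map_sum]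
      apply Finset.sum_congr rfl
      intro m hm
      rw [Polynomial.aeval_monomial]
      exact hterm m hm
    rcases mul_eq_zero.1 h3 with h | h
    · exact absurd h (pow_ne_zero _ hy'0)
    · exact h
  obtain ⟨a, ha⟩ := scalar_of_root (x' / y') Q hQ haev
  refine ⟨a, ?_⟩
  apply IsFractionRing.injective R (FractionRing R)
  rw [Algebra.smul_def, map_mul, ← IsScalarTower.algebraMap_apply, ← hx', ← hy', ← ha,
    div_mul_cancel₀ _ hy'0]

variable (𝒜 : ℤ → Submodule k R) [GradedAlgebra 𝒜]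

lemma prop_pos (htr : Algebra.trdeg k R = ((1 : ℕ) : Cardinal)) (n : ℤ) (hn : 0 < n) (x y : R)
    (hx : x ∈ 𝒜 n) (hy : y ∈ 𝒜 n) (hy0 : y ≠ 0) : ∃ a : k, x = a • y := by
  classical
  by_contra hno
  have hind : AlgebraicIndependent k ![x, y] := by
    rw [algebraicIndependent_iff]
    intro P hP
    by_contra hP0
    obtain ⟨m₀, hm₀⟩ : ∃ m₀, m₀ ∈ P.support := by
      by_contra hcon
      push Not at hcon
      exact hP0 (MvPolynomial.support_eq_empty.1 (Finset.eq_empty_of_forall_notMem hcon))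
    obtain ⟨d, hd⟩ : ∃ d : ℕ, d = m₀ 0 + m₀ 1 := ⟨_, rfl⟩
    have hA : MvPolynomial.aeval ![x, y] P =
        ∑ m ∈ P.support, MvPolynomial.coeff m P • (x ^ (m 0) * y ^ (m 1)) := by
      rw [MvPolynomial.aeval_def, MvPolynomial.eval₂_eq']
      apply Finset.sum_congr rfl
      intro m _
      rw [Fin.prod_univ_two, Algebra.smul_def]
      rfl
    have hmem : ∀ m : Fin 2 →₀ ℕ, MvPolynomial.coeff m P • (x ^ (m 0) * y ^ (m 1)) ∈
        𝒜 ((m 0 + m 1) • n) := by
      intro m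
      apply Submodule.smul_mem
      rw [add_nsmul]
      exact SetLike.mul_mem_graded (SetLike.pow_mem_graded _ hx) (SetLike.pow_mem_graded _ hy)
    have hproj : ∀ m : Fin 2 →₀ ℕ, GradedRing.proj 𝒜 (d • n)
        (MvPolynomial.coeff m P • (x ^ (m 0) * y ^ (m 1))) =
        if m 0 + m 1 = d then MvPolynomial.coeff m P • (x ^ (m 0) * y ^ (m 1)) else 0 := by
      intro m
      rw [GradedRing.proj_apply]
      split_ifs with h
      · have hmem' : MvPolynomial.coeff m P • (x ^ (m 0) * y ^ (m 1)) ∈ 𝒜 (d • n) := by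
          rw [← h]; exact hmem m
        exact DirectSum.decompose_of_mem_same 𝒜 hmem'
      · refine DirectSum.decompose_of_mem_ne 𝒜 (hmem m) (fun e => h ?_)
        rw [nsmul_eq_mul, nsmul_eq_mul] at e
        have := mul_right_cancel₀ hn.ne' e
        exact_mod_cast this
    have hsum : ∑ m ∈ P.support.filter (fun m => m 0 + m 1 = d),
        MvPolynomial.coeff m P • (x ^ (m 0) * y ^ (m 1)) = 0 := by
      rw [Finset.sum_filter]
      have h5 := congrArg (GradedRing.proj 𝒜 (d • n)) (hA.symm.trans hP)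
      rw [map_sum, map_zero] at h5
      exact Eq.trans (Finset.sum_congr rfl (fun m _ => (hproj m).symm)) h5
    exact hno (prop_of_binary x y hy0 d _ (fun m hm => (Finset.mem_filter.1 hm).2)
      (fun m => MvPolynomial.coeff m P) m₀ (Finset.mem_filter.2 ⟨hm₀, hd.symm⟩)
      (MvPolynomial.mem_support_iff.1 hm₀) hsum)
  have hcard := hind.lift_cardinalMk_le_trdeg
  rw [htr] at hcard
  simp at hcard

lemma prop_all (htr : Algebra.trdeg k R = ((1 : ℕ) : Cardinal))
    (hpos : ∀ n : ℤ, n < 0 → 𝒜 n = ⊥) (h0 : 𝒜 0 = Submodule.span k {(1 : R)})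
    (n : ℤ) (x y : R)
    (hx : x ∈ 𝒜 n) (hy : y ∈ 𝒜 n) (hy0 : y ≠ 0) : ∃ a : k, x = a • y := by
  rcases lt_trichotomy n 0 with h | h | h
  · rw [hpos n h, Submodule.mem_bot] at hy
    exact absurd hy hy0
  · subst h
    rw [h0, Submodule.mem_span_singleton] at hx hy
    obtain ⟨a₁, rfl⟩ := hx
    obtain ⟨a₂, rfl⟩ := hy
    have ha₂ : a₂ ≠ 0 := by
      rintro rfl
      exact hy0 (zero_smul _ _)
    exact ⟨a₁ / a₂, by rw [smul_smul, div_mul_cancel₀ _ ha₂]⟩
  · exact prop_pos 𝒜 htr n h x y hx hy hy0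

end aux

/-- Let R be a graded ring defined over an algebraically closed field k which is an integral domain of
dimension one. Then R is isomorphic to a semigroup ring (the subring of k[T] spanned by the
monomials T^h, h in an additive submonoid H of ℕ); moreover, if R is generated over k by R_1, then R
is a polynomial ring k[T]. Here a graded ring defined over k is a commutative k-algebra of finite
type graded in nonnegative degrees by k-subspaces with degree-zero part k·1; the isomorphisms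
asserted are ring isomorphisms. -/
theorem result (k : Type u) [Field k] [IsAlgClosed k] (R : Type u) [CommRing R] [IsDomain R] [Algebra k R] (𝒜 : ℤ → Submodule k R) [GradedAlgebra 𝒜] (hpos : ∀ n : ℤ, n < 0 → 𝒜 n = ⊥) (h0 : 𝒜 0 = Submodule.span k {(1 : R)}) [Algebra.FiniteType k R] (h1 : ringKrullDim R = 1) : (∃ H : AddSubmonoid ℕ, Nonempty (R ≃+* AddMonoidAlgebra k H)) ∧ (Ideal.span (⋃ n ∈ Set.Ioi (0 : ℤ), (𝒜 n : Set R)) = Ideal.span ((𝒜 1 : Submodule k R) : Set R) → Nonempty (R ≃+* Polynomial k)) := by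
  classical
  obtain ⟨s, hs, htr, -⟩ := Groth.Agent.Lib.Helper12.DimFT.exists_dim_eq_trdeg k R
  have hs1 : s = 1 := by
    rw [h1] at hs
    exact_mod_cast hs.symm
  subst hs1
  have hB := prop_all 𝒜 htr hpos h0
  have hne : ∃ h : ℕ, 0 < h ∧ 𝒜 (h : ℤ) ≠ ⊥ := by
    by_contra hcon
    push Not at hcon
    have hall : ∀ i : ℤ, i ≠ 0 → 𝒜 i = ⊥ := by
      intro i hi
      rcases lt_or_gt_of_ne hi with h | h
      · exact hpos i h
      · have := hcon i.toNat (by omega)
        rwa [Int.toNat_of_nonneg h.le] at this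
    have hsurj : Function.Surjective (algebraMap k R) := by
      intro r
      have hr : r ∈ 𝒜 0 := by
        rw [← DirectSum.sum_support_decompose 𝒜 r]
        apply Submodule.sum_mem
        intro i _
        by_cases hi : i = 0
        · subst hi; exact Submodule.coe_mem _
        · have : ((DirectSum.decompose 𝒜 r i : 𝒜 i) : R) ∈ 𝒜 i := Submodule.coe_mem _
          rw [(Submodule.eq_bot_iff _).1 (hall i hi) _ this]; exact Submodule.zero_mem _
      rw [h0, Submodule.mem_span_singleton] at hr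
      obtain ⟨a, ha⟩ := hr
      exact ⟨a, by rw [Algebra.algebraMap_eq_smul_one, ha]⟩
    have hbij : Function.Bijective (algebraMap k R) := ⟨(algebraMap k R).injective, hsurj⟩
    have hd := ringKrullDim_eq_of_ringEquiv (RingEquiv.ofBijective _ hbij)
    rw [ringKrullDim_eq_zero_of_field, h1] at hd
    exact absurd hd (by norm_num)
  obtain ⟨H, hH⟩ : ∃ H : AddSubmonoid ℕ, ∀ h, h ∈ H ↔ 𝒜 (h : ℤ) ≠ ⊥ := by
    refine ⟨{ carrier := {h | 𝒜 (h : ℤ) ≠ ⊥}, zero_mem' := ?_, add_mem' := ?_ }, fun h => Iff.rfl⟩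
    · intro a b ha hb
      obtain ⟨x, hx, hx0⟩ := (Submodule.ne_bot_iff _).1 ha
      obtain ⟨y, hy, hy0⟩ := (Submodule.ne_bot_iff _).1 hb
      refine (Submodule.ne_bot_iff _).2 ⟨x * y, ?_, mul_ne_zero hx0 hy0⟩
      rw [Nat.cast_add]
      exact SetLike.mul_mem_graded hx hy
    · show 𝒜 ((0 : ℕ) : ℤ) ≠ ⊥
      rw [Nat.cast_zero, h0]
      intro hbot
      have : (1 : R) ∈ Submodule.span k {(1 : R)} := Submodule.subset_span rfl
      rw [hbot, Submodule.mem_bot] at this
      exact one_ne_zero this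
  obtain ⟨h₁, hh₁pos, hh₁⟩ := hne
  have hS : ∃ d : ℕ, 0 < d ∧ ∃ a b, a ∈ H ∧ b ∈ H ∧ a = b + d :=
    ⟨h₁, hh₁pos, h₁, 0, (hH _).2 hh₁, H.zero_mem, by simp⟩
  obtain ⟨g, ⟨hgpos, a, b, haH, hbH, hab⟩, hgmin⟩ : ∃ g, (0 < g ∧ ∃ a b, a ∈ H ∧ b ∈ H ∧ a = b + g) ∧
      ∀ d, (0 < d ∧ ∃ a b, a ∈ H ∧ b ∈ H ∧ a = b + d) → g ≤ d :=
    ⟨Nat.find hS, Nat.find_spec hS, fun d hd => Nat.find_min' hS hd⟩
  have hdiv : ∀ h ∈ H, g ∣ h := by
    intro h hh
    by_contra hnd
    have hr : 0 < h % g := Nat.pos_of_ne_zero (fun e => hnd (Nat.dvd_of_mod_eq_zero e))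
    have hlt : h % g < g := Nat.mod_lt _ hgpos
    have hdm := Nat.div_add_mod h g
    have hm1 : (h / g) * b ∈ H := by simpa [smul_eq_mul] using H.nsmul_mem hbH (h / g)
    have hm2 : (h / g) * a ∈ H := by simpa [smul_eq_mul] using H.nsmul_mem haH (h / g)
    have := hgmin (h % g) ⟨hr, h + (h / g) * b, (h / g) * a, H.add_mem hh hm1, hm2, by
      rw [hab]; linarith [hdm]⟩
    omega
  obtain ⟨A₀, hA₀, hA₀0⟩ := (Submodule.ne_bot_iff _).1 ((hH a).1 haH)
  obtain ⟨B₀, hB₀, hB₀0⟩ := (Submodule.ne_bot_iff _).1 ((hH b).1 hbH)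
  have hex : ∀ h : ℕ, h ∈ H → ∃ t : R, t ∈ 𝒜 (h : ℤ) ∧ t * B₀ ^ (h / g) = A₀ ^ (h / g) := by
    intro h hh
    obtain ⟨w, hw, hw0⟩ := (Submodule.ne_bot_iff _).1 ((hH h).1 hh)
    obtain ⟨m, hm⟩ := hdiv h hh
    have hmq : h / g = m := by rw [hm]; exact Nat.mul_div_cancel_left m hgpos
    rw [hmq]
    have h2 : A₀ ^ m ∈ 𝒜 ((m : ℤ) * a) := by
      have := SetLike.pow_mem_graded m hA₀
      rwa [nsmul_eq_mul] at this
    have h1 : w * B₀ ^ m ∈ 𝒜 ((m : ℤ) * a) := by
      have := SetLike.mul_mem_graded hw (SetLike.pow_mem_graded m hB₀)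
      have e : (m : ℤ) * a = (h : ℤ) + m • (b : ℤ) := by
        rw [hm, hab, nsmul_eq_mul]; push_cast; ring
      rw [e]; exact this
    obtain ⟨c, hc⟩ := hB _ _ _ h2 h1 (mul_ne_zero hw0 (pow_ne_zero _ hB₀0))
    exact ⟨c • w, Submodule.smul_mem _ _ hw, by rw [smul_mul_assoc, ← hc]⟩
  choose! t ht1 ht2 using hex
  have ht0 : ∀ h ∈ H, t h ≠ 0 := by
    intro h hh e
    have := ht2 h hh
    rw [e, zero_mul] at this
    exact pow_ne_zero _ hA₀0 this.symm
  have htone : t 0 = 1 := by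
    have := ht2 0 H.zero_mem
    simpa using this
  have htmul : ∀ h h', h ∈ H → h' ∈ H → t (h + h') = t h * t h' := by
    intro h h' hh hh'
    have e : (h + h') / g = h / g + h' / g := Nat.add_div_of_dvd_right (hdiv h hh)
    have h3 := ht2 (h + h') (H.add_mem hh hh')
    rw [e] at h3
    have h4 : t h * t h' * B₀ ^ (h / g + h' / g) = A₀ ^ (h / g + h' / g) := by
      rw [pow_add, pow_add, ← ht2 h hh, ← ht2 h' hh']; ring
    exact mul_right_cancel₀ (pow_ne_zero _ hB₀0) (h3.trans h4.symm)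
  let F : Multiplicative H →* R :=
    { toFun := fun x => t ((Multiplicative.toAdd x : H) : ℕ)
      map_one' := htone
      map_mul' := fun x y => htmul _ _ (Multiplicative.toAdd x).2 (Multiplicative.toAdd y).2 }
  obtain ⟨φ, hφdef⟩ : ∃ φ : AddMonoidAlgebra k H →ₐ[k] R, φ = AddMonoidAlgebra.lift k R H F := ⟨_, rfl⟩
  have hφ : ∀ (h : H) (c : k), φ (AddMonoidAlgebra.single h c) = c • t (h : ℕ) := by
    intro h c
    rw [hφdef, AddMonoidAlgebra.lift_single]
    rfl
  have hsurj : Function.Surjective φ := by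
    intro r
    have hr : r ∈ φ.range := by
      rw [← DirectSum.sum_support_decompose 𝒜 r]
      apply Subalgebra.sum_mem
      intro i _
      have hmem : ((DirectSum.decompose 𝒜 r i : 𝒜 i) : R) ∈ 𝒜 i := Submodule.coe_mem _
      by_cases hz : ((DirectSum.decompose 𝒜 r i : 𝒜 i) : R) = 0
      · rw [hz]; exact Subalgebra.zero_mem _
      · have hine : 𝒜 i ≠ ⊥ := (Submodule.ne_bot_iff _).2 ⟨_, hmem, hz⟩
        have hi0 : 0 ≤ i := by
          by_contra hneg
          exact hine (hpos i (by omega))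
        obtain ⟨h, rfl⟩ := Int.eq_ofNat_of_zero_le hi0
        have hh : h ∈ H := (hH h).2 hine
        obtain ⟨c, hc⟩ := hB _ _ _ hmem (ht1 h hh) (ht0 h hh)
        rw [hc]
        exact (AlgHom.mem_range φ).2 ⟨AddMonoidAlgebra.single ⟨h, hh⟩ c, hφ ⟨h, hh⟩ c⟩
    exact (AlgHom.mem_range φ).1 hr
  have key : ∀ (f : AddMonoidAlgebra k H) (h₀ : H),
      GradedRing.proj 𝒜 (((h₀ : ℕ)) : ℤ) (φ f) = (f.coeff h₀) • t (h₀ : ℕ) := by
    intro f h₀
    induction f using AddMonoidAlgebra.induction_linear with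
    | zero => simp
    | add x y hx hy =>
      rw [map_add, map_add, hx, hy, AddMonoidAlgebra.coeff_add, Finsupp.add_apply, add_smul]
    | single m r =>
      rw [hφ, GradedRing.proj_apply, AddMonoidAlgebra.coeff_single, Finsupp.single_apply]
      have hmem : r • t (m : ℕ) ∈ 𝒜 ((m : ℕ) : ℤ) := Submodule.smul_mem _ _ (ht1 _ m.2)
      by_cases e : m = h₀
      · subst e
        rw [if_pos rfl]
        exact DirectSum.decompose_of_mem_same 𝒜 hmem
      · rw [if_neg e, zero_smul]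
        exact DirectSum.decompose_of_mem_ne 𝒜 hmem
          (fun e' => e (Subtype.ext (by exact_mod_cast e')))
  have hinj : Function.Injective φ := by
    rw [injective_iff_map_eq_zero]
    intro f hf
    apply AddMonoidAlgebra.coeff_injective
    ext h₀
    have := key f h₀
    rw [hf, map_zero] at this
    rcases smul_eq_zero.1 this.symm with h | h
    · simpa using h
    · exact absurd h (ht0 _ h₀.2)
  have e₁ : R ≃+* AddMonoidAlgebra k H := (RingEquiv.ofBijective φ ⟨hinj, hsurj⟩).symm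
  refine ⟨⟨H, ⟨e₁⟩⟩, fun hgen => ?_⟩
  have h1H : 1 ∈ H := by
    rw [hH]
    intro hbot
    obtain ⟨x, hx, hx0⟩ := (Submodule.ne_bot_iff _).1 hh₁
    have hxs : x ∈ Ideal.span (⋃ n ∈ Set.Ioi (0 : ℤ), (𝒜 n : Set R)) :=
      Ideal.subset_span (Set.mem_biUnion (Set.mem_Ioi.2 (by exact_mod_cast hh₁pos)) hx)
    rw [hgen] at hxs
    rw [Nat.cast_one] at hbot
    rw [hbot] at hxs
    simp at hxs
    exact hx0 hxs
  have hall : ∀ n : ℕ, n ∈ H := fun n => by simpa using H.nsmul_mem h1H n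
  have e₂ : H ≃+ ℕ := AddEquiv.ofBijective H.subtype
    ⟨Subtype.coe_injective, fun n => ⟨⟨n, hall n⟩, rfl⟩⟩
  exact ⟨e₁.trans ((AddMonoidAlgebra.domCongr k k e₂).toRingEquiv.trans
    (Polynomial.toFinsuppIso k).symm)⟩

end Groth.Agent.S18653
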