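import Mathlib
import Groth.Agent.Lib.Helper20.GrLES2
import Groth.Statements.S18656
-- import your own Groth.Agent.* helpers here

set_option autoImplicit false
universe u
open GrLC

open GrLC Groth.Agent.Lib.Helper20.GrLES2

namespace Groth.Agent.S18656

/-- Let R be a graded ring defined over a field k = R_0, generated over k by R_1, of dimension r ≥ 1,
and let a(R) be its a-invariant. Then the homogeneous piece H^r_m(R)_n is nonzero for every n ≤
a(R). Here 'graded ring defined over a field' means R = ⊕_{n ≥ 0} R_n is Noetherian with R_0 a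
field, and m = R_+ is its unique graded maximal ideal. The a-invariant a(R) is the largest degree in
which the graded local cohomology H^n_m(R) (n = dim R, m = R_+), computed from a *injective
resolution of R in the graded category, is nonzero. -/
theorem result (R : Type u) [CommRing R] [IsNoetherianRing R] (𝒜 : ℤ → AddSubgroup R) [GradedRing 𝒜] (hpos : ∀ n : ℤ, n < 0 → 𝒜 n = ⊥) (h0 : IsField (GrLC.deg0 𝒜)) (m : HomogeneousIdeal 𝒜) (hm : GrLC.IsStarLocal 𝒜 m) (hmsp : m.toIdeal = Ideal.span (⋃ n ∈ Set.Ioi (0 : ℤ), (𝒜 n : Set R))) (hstd : Ideal.span (⋃ n ∈ Set.Ioi (0 : ℤ), (𝒜 n : Set R)) = Ideal.span ((𝒜 1 : AddSubgroup R) : Set R)) (r : ℕ) (hr : ringKrullDim R = r) (h1 : 1 ≤ r) (I : GrLC.StarInjRes 𝒜 𝒜) (a : ℤ) (ha : GrLC.endDeg (I.Hgr m r) = ((a : WithTop ℤ) : WithBot (WithTop ℤ))) (n : ℤ) (hn : n ≤ a) : I.Hcomp m r n ≠ ⊥ := by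
  intro hbot
  have hgen : m.toIdeal = Ideal.span ((𝒜 1 : AddSubgroup R) : Set R) := hmsp.trans hstd
  have htop := mem_smul_top_H I m r (le_of_eq hr) h1
  have hb0 : I.Hgr m r n = ⊥ := by
    show (I.Hcomp m r n).toAddSubgroup = ⊥
    rw [hbot]
    rfl
  have hind : ∀ k : ℕ, I.Hgr m r (n + k) = ⊥ := by
    intro k
    induction k with
    | zero => simpa using hb0
    | succ k ih =>
      have := Hgr_eq_bot_of_gen I m r hgen htop (n + k) ih
      rw [Nat.cast_succ, ← add_assoc]
      exact this
  have hfin := hind (a - n).toNat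
  have hcast : n + ((a - n).toNat : ℤ) = a := by
    rw [Int.toNat_of_nonneg (by omega)]
    ring
  rw [hcast] at hfin
  exact ne_bot_of_endDeg_eq (I.Hgr m r) ha hfin

end Groth.Agent.S18656
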