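import Mathlib
import Groth.Agent.Lib.Helper20.GrLCCompare
import Groth.Agent.Lib.Helper4.LC2
import Groth.Statements.S18661
-- import your own Groth.Agent.* helpers here

set_option autoImplicit false
universe u
open GrLC

namespace Groth.Agent.S18661

/-- Let R be a graded ring defined over a field, m = R_+, and M a graded R-module satisfying condition
(*): for every nonzero x ∈ M the annihilator Ann_R(x) is an m-primary ideal. Then H^0_m(M) = M, i.e.
every element of M is killed by a power of m, and H^q_m(M) = 0 for every q ≠ 0 (graded local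
cohomology, computed from any *injective resolution of M in the graded category). Here 'graded ring
defined over a field' means R = ⊕_{n ≥ 0} R_n is Noetherian with R_0 a field, and m = R_+ is its
unique graded maximal ideal. -/
theorem result (R : Type u) [CommRing R] [IsNoetherianRing R] (𝒜 : ℤ → AddSubgroup R) [GradedRing 𝒜] (hpos : ∀ n : ℤ, n < 0 → 𝒜 n = ⊥) (h0 : IsField (GrLC.deg0 𝒜)) (m : HomogeneousIdeal 𝒜) (hm : GrLC.IsStarLocal 𝒜 m) (hmsp : m.toIdeal = Ideal.span (⋃ n ∈ Set.Ioi (0 : ℤ), (𝒜 n : Set R))) (M : Type u) [AddCommGroup M] [Module R M] (ℳ : ℤ → AddSubgroup M) [DirectSum.Decomposition ℳ] [SetLike.GradedSMul 𝒜 ℳ] (hstar : ∀ x : M, x ≠ 0 → ((Submodule.span R {x}).annihilator).IsPrimary ∧ ((Submodule.span R {x}).annihilator).radical = m.toIdeal) : GrLC.gam m.toIdeal M = ⊤ ∧ ∀ (E : GrLC.StarInjRes 𝒜 ℳ) (q : ℕ), 1 ≤ q → Subsingleton (E.H m q) := by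
  have htors : ∀ x : M, ∃ n : ℕ, ∀ r ∈ m.toIdeal ^ n, r • x = 0 := by
    intro x
    by_cases hx : x = 0
    · exact ⟨0, fun r _ => by rw [hx, smul_zero]⟩
    · obtain ⟨-, hrad⟩ := hstar x hx
      obtain ⟨n, hn⟩ := Ideal.exists_pow_le_of_le_radical_of_fg (le_of_eq hrad.symm)
        (IsNoetherian.noetherian m.toIdeal)
      refine ⟨n, fun r hr => ?_⟩
      have := hn hr
      rw [Submodule.mem_annihilator_span_singleton] at this
      exact this
  refine ⟨?_, ?_⟩
  · rw [eq_top_iff]
    intro x _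
    exact htors x
  · intro E q hq
    obtain ⟨k, rfl⟩ : ∃ k, q = k + 1 := ⟨q - 1, by omega⟩
    obtain ⟨e⟩ := Groth.Agent.Lib.Helper20.GrLCCompare.nonempty_H_equiv_HH 𝒜 ℳ E m (k + 1)
    have := Groth.Agent.Lib.Helper4.LC.HH.subsingleton_of_isPowerTorsion m.toIdeal k M htors
    exact e.toEquiv.subsingleton

end Groth.Agent.S18661
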