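import Mathlib
import Groth.Agent.Lib.Helper20.SegCM4
import Groth.Statements.S18663
-- import your own Groth.Agent.* helpers here

set_option autoImplicit false
universe u
open scoped TensorProduct
open GrSegre

open Groth.Agent.Lib.Helper20.SegBase Groth.Agent.Lib.Helper20.SegGr Groth.Agent.Lib.Helper20.GrConv

namespace Groth.Agent.S18663

/-- Let R and S be graded rings defined over a field k which are Cohen–Macaulay, with dim R = 1 and dim
S = s ≥ 1, and let T = R # S be their Segre product. (iii) If s ≥ 2, then T is a Cohen–Macaulay ring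
if and only if H^1_{R_+}(R) # S = 0, that is, for every degree n, H^1_{R_+}(R)_n = 0 or S_n = 0.
(iv) If s = 1, then T is a Cohen–Macaulay ring. Here a graded ring defined over k is a commutative
k-algebra of finite type, graded in nonnegative degrees by k-subspaces with degree-zero part k·1;
the graded local cohomology pieces are computed from a *injective resolution of R in the graded
category; the Segre product T = ⊕_n R_n ⊗_k S_n is presented abstractly as a graded k-algebra T with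
an injective k-algebra homomorphism ψ : T → R ⊗_k S carrying T_n onto the k-span of the elementary
tensors a ⊗ b with a ∈ R_n, b ∈ S_n. -/
theorem result (k : Type u) [Field k] (R : Type u) [CommRing R] [Algebra k R] (𝒜 : ℤ → Submodule k R) [GradedAlgebra 𝒜] (hposR : ∀ n : ℤ, n < 0 → 𝒜 n = ⊥) (h0R : 𝒜 0 = Submodule.span k {(1 : R)}) [Algebra.FiniteType k R] (S : Type u) [CommRing S] [Algebra k S] (ℬ : ℤ → Submodule k S) [GradedAlgebra ℬ] (hposS : ∀ n : ℤ, n < 0 → ℬ n = ⊥) (h0S : ℬ 0 = Submodule.span k {(1 : S)}) [Algebra.FiniteType k S] (T : Type u) [CommRing T] [Algebra k T] (𝒯 : ℤ → Submodule k T) [GradedAlgebra 𝒯] (ψ : T →ₐ[k] TensorProduct k R S) (hψ : Function.Injective ψ) (hdegT : ∀ n : ℤ, (𝒯 n).map ψ.toLinearMap = Submodule.span k {x : TensorProduct k R S | ∃ a ∈ 𝒜 n, ∃ b ∈ ℬ n, x = a ⊗ₜ[k] b}) [LocCoh.IsCohenMacaulayRing R] [LocCoh.IsCohenMacaulayRing S] (mR : HomogeneousIdeal 𝒜) (hmR : mR.toIdeal = Ideal.span (⋃ n ∈ Set.Ioi (0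 : ℤ), (𝒜 n : Set R))) (I : GrLC.StarInjRes 𝒜 𝒜) (hr : ringKrullDim R = 1) (s : ℕ) (hs : ringKrullDim S = s) (h1s : 1 ≤ s) : (2 ≤ s → (LocCoh.IsCohenMacaulayRing T ↔ ∀ n : ℤ, I.Hcomp mR 1 n = ⊥ ∨ ℬ n = ⊥)) ∧ (s = 1 → LocCoh.IsCohenMacaulayRing T) := by
  classical
  haveI : Nontrivial R := by
    by_contra h
    rw [not_nontrivial_iff_subsingleton] at h
    rw [ringKrullDim_eq_bot_of_subsingleton] at hr
    exact WithBot.bot_ne_one hr
  haveI : Nontrivial S := by
    by_contra h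
    rw [not_nontrivial_iff_subsingleton] at h
    rw [ringKrullDim_eq_bot_of_subsingleton] at hs
    exact WithBot.bot_ne_coe hs
  haveI : IsNoetherianRing R := Algebra.FiniteType.isNoetherianRing k R
  haveI : IsNoetherianRing S := Algebra.FiniteType.isNoetherianRing k S
  have hgA := gradedSMul_modToAS 𝒜 𝒜
  have hgB := gradedSMul_modToAS ℬ ℬ
  have hr' : ringKrullDim R = ((1 : ℕ) : WithBot ℕ∞) := by rw [hr]; rfl
  obtain ⟨J⟩ := nonempty_starInjRes ℬ ℬ
  have hmS := irr_toIdeal ℬ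
  have hRz : ∀ i, i ≠ 1 → ∀ d, Module.finrank (GrLC.deg0 𝒜) (I.Hcomp mR i d) = 0 :=
    fun i hi d => finrank_Hcomp_eq_zero_of_ne 𝒜 hposR h0R mR hmR I 1 hr' i hi d
  have hSz : ∀ i, i ≠ s → ∀ d, Module.finrank (GrLC.deg0 ℬ) (J.Hcomp (irr ℬ) i d) = 0 :=
    fun i hi d => finrank_Hcomp_eq_zero_of_ne ℬ hposS h0S (irr ℬ) hmS J s hs i hi d
  have hRb : ∀ i d, I.Hcomp mR i d = ⊥ ↔ Module.finrank (GrLC.deg0 𝒜) (I.Hcomp mR i d) = 0 :=
    fun i d => Hcomp_eq_bot_iff_finrank 𝒜 h0R mR hmR (toAS 𝒜) (resModTo 𝒜 𝒜 I) i d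
  have hR0 : ∀ d : ℤ, I.Hcomp mR 0 d = ⊥ :=
    fun d => Hcomp_eq_bot_of_ne 𝒜 hposR h0R mR hmR I 1 hr' 0 (by omega) d
  have hS0 : ∀ d : ℤ, J.Hcomp (irr ℬ) 0 d = ⊥ :=
    fun d => Hcomp_eq_bot_of_ne ℬ hposS h0S (irr ℬ) hmS J s hs 0 (by omega) d
  have hiff := segre_cm_iff' k R 𝒜 hposR h0R S ℬ hposS h0S T 𝒯 ψ hψ hdegT mR hmR I (irr ℬ) hmS J
    1 s hr' hs le_rfl h1s hR0 hS0
  have t1 : ∀ q < 1 + s - 1, ∀ d : ℤ,
      Module.finrank k (𝒜 d) * Module.finrank (GrLC.deg0 ℬ) (J.Hcomp (irr ℬ) q d) = 0 := by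
    intro q hq d
    rw [hSz q (by omega) d, mul_zero]
  have t3 : ∀ q < 1 + s - 1, ∀ d : ℤ, (Finset.range (q + 2)).sum (fun i =>
        Module.finrank (GrLC.deg0 𝒜) (I.Hcomp mR i d) *
          Module.finrank (GrLC.deg0 ℬ) (J.Hcomp (irr ℬ) (q + 1 - i) d)) = 0 := by
    intro q hq d
    apply Finset.sum_eq_zero
    intro i _
    by_cases hi : i = 1
    · have hne : q + 1 - i ≠ s := by omega
      rw [hSz _ hne d, mul_zero]
    · rw [hRz i hi d, zero_mul]
  constructor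
  · intro h2s
    rw [hiff]
    constructor
    · intro h n
      have h1 := h 1 (by omega) n
      rw [Nat.add_eq_zero_iff, Nat.add_eq_zero_iff] at h1
      rcases Nat.mul_eq_zero.1 h1.1.2 with h2 | h2
      · left
        exact (hRb 1 n).2 h2
      · right
        exact (piece_eq_bot_iff ℬ h0S n).2 h2
    · intro h q hq d
      have t2 : Module.finrank (GrLC.deg0 𝒜) (I.Hcomp mR q d) * Module.finrank k (ℬ d) = 0 := by
        by_cases hqr : q = 1
        · subst hqr
          rcases h d with h | h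
          · rw [(hRb 1 d).1 h, zero_mul]
          · rw [(piece_eq_bot_iff ℬ h0S d).1 h, mul_zero]
        · rw [hRz q hqr d, zero_mul]
      rw [t1 q hq d, t2, t3 q hq d]
  · intro hs1
    rw [hiff]
    intro q hq d
    have t2 : Module.finrank (GrLC.deg0 𝒜) (I.Hcomp mR q d) * Module.finrank k (ℬ d) = 0 := by
      rw [hRz q (by omega) d, zero_mul]
    rw [t1 q hq d, t2, t3 q hq d]

end Groth.Agent.S18663
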