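import Mathlib
import Groth.Agent.Lib.Helper20.SegPoly
import Groth.Agent.S18663
import Groth.Statements.S18664
-- import your own Groth.Agent.* helpers here

set_option autoImplicit false
universe u
open scoped TensorProduct
open GrSegre

open Groth.Agent.Lib.Helper20.SegBase Groth.Agent.Lib.Helper20.SegGr Groth.Agent.Lib.Helper20.GrConv

namespace Groth.Agent.S18664

/-- Let R and S be standard graded rings defined over a field k which are Cohen–Macaulay, with dim R = 1
and dim S ≥ 2. Then the Segre product T = R # S is a Cohen–Macaulay ring if and only if R is a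
polynomial ring over k (in one variable). Here a graded ring defined over k is a commutative
k-algebra of finite type, graded in nonnegative degrees by k-subspaces with degree-zero part k·1,
standard graded when its irrelevant ideal is generated by the degree-one piece; the Segre product T
= ⊕_n R_n ⊗_k S_n is presented abstractly as a graded k-algebra T with an injective k-algebra
homomorphism ψ : T → R ⊗_k S carrying T_n onto the k-span of the elementary tensors a ⊗ b with a ∈
R_n, b ∈ S_n. -/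
theorem result (k : Type u) [Field k] (R : Type u) [CommRing R] [Algebra k R] (𝒜 : ℤ → Submodule k R) [GradedAlgebra 𝒜] (hposR : ∀ n : ℤ, n < 0 → 𝒜 n = ⊥) (h0R : 𝒜 0 = Submodule.span k {(1 : R)}) [Algebra.FiniteType k R] (S : Type u) [CommRing S] [Algebra k S] (ℬ : ℤ → Submodule k S) [GradedAlgebra ℬ] (hposS : ∀ n : ℤ, n < 0 → ℬ n = ⊥) (h0S : ℬ 0 = Submodule.span k {(1 : S)}) [Algebra.FiniteType k S] (T : Type u) [CommRing T] [Algebra k T] (𝒯 : ℤ → Submodule k T) [GradedAlgebra 𝒯] (ψ : T →ₐ[k] TensorProduct k R S) (hψ : Function.Injective ψ) (hdegT : ∀ n : ℤ, (𝒯 n).map ψ.toLinearMap = Submodule.span k {x : TensorProduct k R S | ∃ a ∈ 𝒜 n, ∃ b ∈ ℬ n, x = a ⊗ₜ[k] b}) [LocCoh.IsCohenMacaulayRing R] [LocCoh.IsCohenMacaulayRing S] (hstdR : Ideal.span (⋃ n ∈ Set.Ioi (0 : ℤ), (𝒜 n : Set R)) = Ideal.span ((𝒜 1 : Submodule k R) : Set R)) (hstdS : Ideal.span (⋃ n ∈ Set.Ioi (0 : ℤ), (ℬ n : Set S)) = Ideal.span ((ℬ 1 : Submodule k S) : Set S)) (hr : ringKrullDim R = 1) (hs :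 2 ≤ ringKrullDim S) : LocCoh.IsCohenMacaulayRing T ↔ Nonempty (R ≃ₐ[k] Polynomial k) := by
  classical
  haveI : Nontrivial R := by
    by_contra h
    rw [not_nontrivial_iff_subsingleton] at h
    rw [ringKrullDim_eq_bot_of_subsingleton] at hr
    exact WithBot.bot_ne_one hr
  haveI : Nontrivial S := by
    by_contra h
    rw [not_nontrivial_iff_subsingleton] at h
    rw [ringKrullDim_eq_bot_of_subsingleton] at hs
    exact absurd hs (by simp)
  haveI : IsNoetherianRing R := Algebra.FiniteType.isNoetherianRing k R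
  haveI : IsNoetherianRing S := Algebra.FiniteType.isNoetherianRing k S
  have hr' : ringKrullDim R = ((1 : ℕ) : WithBot ℕ∞) := by rw [hr]; rfl
  obtain ⟨s, hs'⟩ : ∃ s : ℕ, ringKrullDim S = s := by
    have hdim := Groth.Agent.Lib.Helper20.GrHeight2.ringKrullDim_eq_height (toAS ℬ)
      (idealTo ℬ (irr ℬ)) (isStarLocal ℬ hposS h0S (irr ℬ) (irr_toIdeal ℬ)) (hposAS ℬ hposS)
    have hmax := isMaximal ℬ hposS h0S (irr ℬ) (irr_toIdeal ℬ)
    have hfin : (irr ℬ).toIdeal.height ≠ ⊤ := Ideal.height_ne_top hmax.ne_top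
    obtain ⟨s, hs⟩ := ENat.ne_top_iff_exists.1 hfin
    refine ⟨s, ?_⟩
    rw [hdim]
    show (((idealTo ℬ (irr ℬ)).toIdeal.height : ℕ∞) : WithBot ℕ∞) = ((s : ℕ∞) : WithBot ℕ∞)
    rw [hs]
    rfl
  have h2s : 2 ≤ s := by
    rw [hs'] at hs
    exact_mod_cast hs
  have h1S : 1 ≤ ringKrullDim S := le_trans (by norm_num) hs
  obtain ⟨I⟩ := nonempty_starInjRes 𝒜 𝒜
  have hmR := irr_toIdeal 𝒜
  rw [(Groth.Agent.S18663.result k R 𝒜 hposR h0R S ℬ hposS h0S T 𝒯 ψ hψ hdegT (irr 𝒜) hmR I hr s hs'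
    (by omega)).1 h2s]
  constructor
  · intro h
    apply nonempty_algEquiv_of_vanishing 𝒜 hposR h0R (irr 𝒜) hmR I hstdR hr'
    intro n hn
    rcases h n with h1 | h1
    · exact h1
    · exact absurd h1 (piece_ne_bot ℬ hposS h0S hstdS h1S n hn)
  · rintro ⟨e⟩ n
    by_cases hn : 0 ≤ n
    · left
      exact vanishing_of_algEquiv 𝒜 hposR h0R (irr 𝒜) hmR I hstdR hr' e n hn
    · right
      exact hposS n (not_le.1 hn)

end Groth.Agent.S18664
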