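import Groth.Statements.S18666
import Mathlib
import Groth.Agent.Lib.Helper26.HomogAtPrimeFlat
import Groth.Agent.Lib.Helper4.GorFlat


set_option autoImplicit false
universe u
open GrProj

namespace Groth.Agent.S18666

open AlgebraicGeometry Groth.Agent.Lib.Helper26.HomogAtPrime

open Pointwise in
lemma exists_notMem_q {A : Type u} [CommRing A] (𝒜 : ℕ → AddSubgroup A) [GradedRing 𝒜]
    (p : Ideal A) [hpp : p.IsPrime] {d₀ : ℕ}
    (hsharp : ∀ d : ℕ, d₀ ≤ d → ∀ n : ℕ, 1 ≤ n →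
      𝒜 ((n + 1) * d) = AddSubgroup.closure ((𝒜 d : Set A) * (𝒜 (n * d) : Set A)))
    {i : ℕ} (hi : 0 < i) {g : A} (hg : g ∈ 𝒜 i) (hgp : g ∉ p) {d : ℕ} (hd : d₀ ≤ d) :
    ∃ f, f ∈ 𝒜 d ∧ f ∉ p := by
  by_contra hcon
  push Not at hcon
  have hall : ∀ m : ℕ, 1 ≤ m → ∀ a ∈ 𝒜 (m * d), a ∈ p := by
    intro m hm a ha
    obtain ⟨n, rfl⟩ : ∃ n, m = n + 1 := ⟨m - 1, by omega⟩
    rcases Nat.eq_zero_or_pos n with rfl | hn
    · rw [zero_add, one_mul] at ha
      exact hcon a ha
    · rw [hsharp d hd n (Nat.succ_le_of_lt hn)] at ha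
      have hle : AddSubgroup.closure ((𝒜 d : Set A) * (𝒜 (n * d) : Set A)) ≤
          p.toAddSubgroup := by
        rw [AddSubgroup.closure_le]
        intro z hz
        obtain ⟨u, hu, v, hv, rfl⟩ := Set.mem_mul.1 hz
        exact p.mul_mem_right v (hcon u hu)
      exact hle ha
  have h1 : g ^ d ∈ 𝒜 (i * d) := by
    have h2 := SetLike.pow_mem_graded d hg
    rwa [smul_eq_mul, mul_comm] at h2
  exact hgp (hpp.mem_of_pow_mem d (hall i hi _ h1))

open AlgebraicGeometry Pointwise in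
/-- Let A = ⊕_{n ≥ 0} A_n be a commutative Noetherian graded ring satisfying condition (#) — there is an
integer d_0 such that for every d ≥ d_0 the Veronese subring A^(d) is generated by A_d over A_0,
equivalently A_{(n+1)d} is additively generated by the products A_d A_{nd} for every n ≥ 1 — and
assume A is a Gorenstein ring. Then X = Proj A is a Gorenstein scheme: all of its local rings are
Gorenstein local rings. (The Cohen–Macaulay case of the same lemma is stated separately.) -/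
theorem result (A : Type u) [CommRing A] (𝒜 : ℕ → AddSubgroup A) [GradedRing 𝒜] [LocCoh.IsGorensteinRing A] (hsharp : ∃ d₀ : ℕ, ∀ d : ℕ, d₀ ≤ d → ∀ n : ℕ, 1 ≤ n → 𝒜 ((n + 1) * d) = AddSubgroup.closure ((𝒜 d : Set A) * (𝒜 (n * d) : Set A))) (x : Proj 𝒜) : LocCoh.IsGorensteinLocalRing ((Proj 𝒜).presheaf.stalk x) := by
  haveI : IsNoetherianRing A := inferInstance
  have h := x.not_irrelevant_le
  rw [HomogeneousIdeal.irrelevant_le] at h
  push Not at h
  obtain ⟨i, hi, hle⟩ := h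
  obtain ⟨g, hg, hgx⟩ := SetLike.not_le_iff_exists.1 hle
  haveI hpp : x.asHomogeneousIdeal.toIdeal.IsPrime := x.isPrime
  obtain ⟨d₀, hd₀⟩ := hsharp
  obtain ⟨f, hf, hfx⟩ := exists_notMem_q 𝒜 x.asHomogeneousIdeal.toIdeal hd₀ hi hg hgx
    (d := d₀) le_rfl
  obtain ⟨f', hf', hf'x⟩ := exists_notMem_q 𝒜 x.asHomogeneousIdeal.toIdeal hd₀ hi hg hgx
    (d := d₀ + 1) (Nat.le_succ _)
  haveI hGL : LocCoh.IsGorensteinLocalRing (Localization.AtPrime x.asHomogeneousIdeal.toIdeal) :=
    LocCoh.IsGorensteinRing.isGorensteinLocalRing_localization _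
  haveI : IsNoetherianRing (Localization.AtPrime x.asHomogeneousIdeal.toIdeal) := inferInstance
  haveI hNO : IsNoetherianRing (HomogeneousLocalization.AtPrime 𝒜 x.asHomogeneousIdeal.toIdeal) :=
    isNoetherianRing_atPrime 𝒜 _
  haveI hflat : Module.Flat (HomogeneousLocalization.AtPrime 𝒜 x.asHomogeneousIdeal.toIdeal)
      (Localization.AtPrime x.asHomogeneousIdeal.toIdeal) :=
    flat_atPrime 𝒜 _ hf hfx hf' hf'x
  have hO : LocCoh.IsGorensteinLocalRing
      (HomogeneousLocalization.AtPrime 𝒜 x.asHomogeneousIdeal.toIdeal) :=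
    ((Groth.Agent.Lib.Helper4.GorFlat.gor_flat_iff
      (HomogeneousLocalization.AtPrime 𝒜 x.asHomogeneousIdeal.toIdeal)
      (Localization.AtPrime x.asHomogeneousIdeal.toIdeal) _
      (Ideal.Quotient.mk ((IsLocalRing.maximalIdeal
        (HomogeneousLocalization.AtPrime 𝒜 x.asHomogeneousIdeal.toIdeal)).map
          (algebraMap _ (Localization.AtPrime x.asHomogeneousIdeal.toIdeal))))
      Ideal.Quotient.mk_surjective Ideal.mk_ker).mp hGL).1
  let e : HomogeneousLocalization.AtPrime 𝒜 x.asHomogeneousIdeal.toIdeal ≃+*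
      (Proj 𝒜).presheaf.stalk x := (Proj.stalkIso 𝒜 x).commRingCatIsoToRingEquiv.symm
  exact Groth.Agent.Lib.Helper4.GorFlat.gor_of_ringEquiv e hO

end Groth.Agent.S18666
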