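import Groth.Statements.S18668
-- import your own Groth.Agent.* helpers here
import Groth.Agent.Lib.Helper23.FFSect4

set_option autoImplicit false
universe u
open GrSect

namespace Groth.Agent.S18668



/-- Let X be a complete smooth curve of genus g ≥ 1 over an algebraically closed field k, P a closed
point, R = R_{X,P} = ⊕_{n ≥ 0} H^0(X, O_X(nP)) and H = H_{X,P} its Weierstrass semigroup. For any
nonzero t of degree one in R, t is prime in R and the quotient R/tR is isomorphic to k[H], the
semigroup algebra of H. Here the complete smooth curve X over the algebraically closed field k is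
given by its function field K/k (a function field of one variable in which k is algebraically
closed), the closed point P by a place of K/k, g ≥ 1 is the genus, H^0(X, O_X(nP)) = L(nP), and
R_{X,P} = ⊕_{n ≥ 0} L(nP)·T^n is realised as the k-subalgebra of K[T] of polynomials whose
coefficient of T^n lies in L(nP); the Weierstrass semigroup H_{X,P} is the set of n ≥ 0 with ℓ(nP) =
ℓ((n−1)P) + 1. The isomorphism is stated as a k-algebra isomorphism with the semigroup algebra of
the additive submonoid of ℕ generated by H_{X,P} (which is H_{X,P} itself). -/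
theorem result (k : Type u) [Field k] [IsAlgClosed k] (K : Type u) [Field K] [Algebra k K] (hK : FunFld.IsFunctionField k K) (hg : 1 ≤ FunFld.genus k K) (P : FunFld.Place k K) (t : ↥(W4c6gradedringsgw.sectRing (Finsupp.single P 1 : FunFld.Divisor k K))) (a : K) (ha : a ≠ 0) (ht : (t : Polynomial K) = Polynomial.C a * Polynomial.X) : Prime t ∧ Nonempty ((↥(W4c6gradedringsgw.sectRing (Finsupp.single P 1 : FunFld.Divisor k K)) ⧸ Ideal.span {t}) ≃ₐ[k] AddMonoidAlgebra k ↥(AddSubmonoid.closure (W4c6gradedringsgw.poleOrders P))) := by
  classical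
  open Groth.Agent.Lib.Helper23.FF in
  have hP : P.deg = 1 := deg_eq_one hK P
  obtain ⟨π, hπ⟩ := P.2.2 (WithZero.exp (-1))
  have hker := Groth.Agent.Lib.Helper23.FF.ker_psi hK hg P hP π hπ t a ha ht
  have hrange := Groth.Agent.Lib.Helper23.FF.range_psi_eq hK P hP π hπ
  set ψ := Groth.Agent.Lib.Helper23.FF.psi P hP π hπ with hψ
  have ht0 : t ≠ 0 := by
    intro h0
    have h1 : (t : Polynomial K).coeff 1 = a := by
      rw [ht, Polynomial.coeff_C_mul, Polynomial.coeff_X_one, mul_one]
    rw [h0] at h1
    exact ha h1.symm
  constructor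
  · rw [← Ideal.span_singleton_prime ht0, ← hker]
    exact RingHom.ker_isPrime _
  · refine ⟨?_⟩
    have e1 : (↥(W4c6gradedringsgw.sectRing (Finsupp.single P 1 : FunFld.Divisor k K)) ⧸ Ideal.span {t})
        ≃ₐ[k] (↥(W4c6gradedringsgw.sectRing (Finsupp.single P 1 : FunFld.Divisor k K)) ⧸ RingHom.ker ψ) :=
      Ideal.quotientEquivAlgOfEq k hker.symm
    have e2 := Ideal.quotientKerEquivRange ψ
    have e3 := Subalgebra.equivOfEq _ _ hrange
    have e4 := (AlgEquiv.ofInjective (Groth.Agent.Lib.Helper23.FF.iota k (AddSubmonoid.closure (W4c6gradedringsgw.poleOrders P)))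
      (Groth.Agent.Lib.Helper23.FF.iota_injective _)).symm
    exact ((e1.trans e2).trans e3).trans e4

end Groth.Agent.S18668
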