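import Groth.Statements.S1867
import Groth.Agent.Lib.Helper16.DimF3

set_option autoImplicit false
universe u
open CategoryTheory AlgebraicGeometry
open Cyc

namespace Groth.Agent.S1867

set_option backward.isDefEq.respectTransparency.types false in
/-- Let f : X → Y be a proper morphism of integral schemes with Y locally Noetherian, mapping the
generic point to the generic point with finite extension of function fields, and let ξ be a point of
Y whose local ring has dimension 1. Then f is finite over some open neighbourhood of ξ. -/
theorem result (X Y : Scheme.{u}) [IsIntegral X] [IsIntegral Y] [IsLocallyNoetherian Y] (f : X ⟶ Y) [IsProper f] (hgen : f (genericPoint X) = genericPoint Y) (hfin : (f.residueFieldMap (genericPoint X)).hom.Finite) (ξ : Y) (hξ : ringKrullDim (Y.presheaf.stalk ξ) = 1) : ∃ V : Y.Opens, ξ ∈ V ∧ IsFinite (f ∣_ V) := by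
  have hqf : ∀ x : X, f x = ξ → f.QuasiFiniteAt x := by
    intro x hx
    subst hx
    refine Groth.Agent.Lib.Helper16.DimF.quasiFiniteAt_of_codim_le_one f x hξ.le ?_
    intro ζ hζ _
    have hζη : genericPoint X = ζ := hζ _ (genericPoint_specializes ζ)
    subst hζη
    unfold Groth.Agent.Lib.Helper12.SchemeDimIneq.trn
    letI := (f.residueFieldMap (genericPoint X)).hom.toAlgebra
    haveI : Module.Finite (Y.residueField (f (genericPoint X))) (X.residueField (genericPoint X)) :=
      hfin
    haveI : Algebra.IsAlgebraic (Y.residueField (f (genericPoint X)))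
        (X.residueField (genericPoint X)) := Algebra.IsAlgebraic.of_finite _ _
    rw [_root_.trdeg_eq_zero]
    simp
  let V : Y.Opens := ⟨_, (f.isClosedMap _ f.quasiFiniteLocus.isOpen.isClosed_compl).isOpen_compl⟩
  refine ⟨V, ?_, ?_⟩
  · suffices ∀ x, f x = ξ → f.QuasiFiniteAt x by simpa [V, not_imp_not]
    exact hqf
  · suffices LocallyQuasiFinite (f ∣_ V) from .of_isProper_of_locallyQuasiFinite _
    rw [← Scheme.Hom.quasiFiniteLocus_eq_top_iff]
    ext x
    have : f.QuasiFiniteAt ((f ⁻¹ᵁ V).ι x) := by by_contra H; exact x.2 ⟨_, H, by simp⟩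
    rw [← Scheme.Hom.quasiFiniteAt_comp_iff_of_isOpenImmersion, ← morphismRestrict_ι,
      Scheme.Hom.quasiFiniteAt_comp_iff] at this
    simpa

end Groth.Agent.S1867
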