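import Groth.Statements.S18672
-- import your own Groth.Agent.* helpers here

set_option autoImplicit false
universe u
open GrLC

namespace Groth.Agent.S18672

/-- products of an element of degree `n` with an element of degree `m` -/
def prodSet {R : Type u} [CommRing R] (𝒜 : ℤ → AddSubgroup R) (n m : ℤ) : Set R :=
  {x | ∃ y ∈ 𝒜 n, ∃ s ∈ 𝒜 m, x = y * s}

theorem mul_mem_closure_prodSet {R : Type u} [CommRing R] (𝒜 : ℤ → AddSubgroup R) [GradedRing 𝒜]
    (i n m : ℤ) (r : R) (hr : r ∈ 𝒜 i) (z : R) (hz : z ∈ AddSubgroup.closure (prodSet 𝒜 n m)) :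
    r * z ∈ AddSubgroup.closure (prodSet 𝒜 (i + n) m) := by
  induction hz using AddSubgroup.closure_induction with
  | mem x hx =>
    obtain ⟨y, hy, s, hs, rfl⟩ := hx
    refine AddSubgroup.subset_closure ⟨r * y, SetLike.GradedMul.mul_mem hr hy, s, hs, ?_⟩
    ring
  | zero => simp
  | add x y _ _ hx hy => rw [mul_add]; exact add_mem hx hy
  | neg x _ hx => rw [mul_neg]; exact neg_mem hx

/-- Every homogeneous component of an element of the ideal generated by `𝒜 1` is a sum of products
of an element of the previous piece with an element of degree one. -/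
theorem comp_mem_closure {R : Type u} [CommRing R] (𝒜 : ℤ → AddSubgroup R) [GradedRing 𝒜]
    (y : R) (hy : y ∈ Ideal.span ((𝒜 1 : AddSubgroup R) : Set R)) (d : ℤ) :
    ((DirectSum.decompose 𝒜 y d : 𝒜 d) : R) ∈ AddSubgroup.closure (prodSet 𝒜 (d - 1) 1) := by
  induction hy using Submodule.span_induction generalizing d with
  | mem x hx =>
    by_cases hd : d = 1
    · subst hd
      rw [DirectSum.decompose_of_mem_same 𝒜 hx]
      refine AddSubgroup.subset_closure ⟨1, ?_, x, hx, by ring⟩
      simpa using SetLike.GradedOne.one_mem (A := 𝒜)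
    · rw [DirectSum.decompose_of_mem_ne 𝒜 hx (Ne.symm hd)]
      exact zero_mem _
  | zero => simp
  | add x y _ _ hx hy =>
    rw [DirectSum.decompose_add, DirectSum.add_apply, AddSubgroup.coe_add]
    exact add_mem (hx d) (hy d)
  | smul r x _ hx =>
    rw [smul_eq_mul]
    classical
    have hr := DirectSum.sum_support_decompose 𝒜 r
    rw [← hr, Finset.sum_mul, DirectSum.decompose_sum, DFinsupp.finsetSum_apply,
      AddSubgroup.val_finsetSum]
    refine sum_mem fun i _ => ?_
    have hd : d = i + (d - i) := by ring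
    rw [hd, DirectSum.coe_decompose_mul_add_of_left_mem 𝒜 (SetLike.coe_mem _)]
    have := mul_mem_closure_prodSet 𝒜 i (d - i - 1) 1 _ (SetLike.coe_mem (DirectSum.decompose 𝒜 r i))
      _ (hx (d - i))
    have e : i + (d - i - 1) = i + (d - i) - 1 := by ring
    rw [e] at this
    exact this


theorem mem_closure_prodSet_one {R : Type u} [CommRing R] (𝒜 : ℤ → AddSubgroup R) [GradedRing 𝒜]
    (hstd : Ideal.span (⋃ n ∈ Set.Ioi (0 : ℤ), (𝒜 n : Set R)) = Ideal.span ((𝒜 1 : AddSubgroup R) : Set R))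
    (d : ℤ) (hd : 0 < d) (x : R) (hx : x ∈ 𝒜 d) :
    x ∈ AddSubgroup.closure (prodSet 𝒜 (d - 1) 1) := by
  have h1 : x ∈ Ideal.span ((𝒜 1 : AddSubgroup R) : Set R) := by
    rw [← hstd]
    refine Ideal.subset_span ?_
    simp only [Set.mem_iUnion]
    exact ⟨d, hd, hx⟩
  have := comp_mem_closure 𝒜 x h1 d
  rwa [DirectSum.decompose_of_mem_same 𝒜 hx] at this

theorem closure_prodSet_mul {R : Type u} [CommRing R] (𝒜 : ℤ → AddSubgroup R) [GradedRing 𝒜]
    (n m k : ℤ) (z : R) (hz : z ∈ AddSubgroup.closure (prodSet 𝒜 n m)) (s : R) (hs : s ∈ 𝒜 k) :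
    z * s ∈ AddSubgroup.closure (prodSet 𝒜 n (m + k)) := by
  induction hz using AddSubgroup.closure_induction with
  | mem x hx =>
    obtain ⟨y, hy, t, ht, rfl⟩ := hx
    refine AddSubgroup.subset_closure ⟨y, hy, t * s, SetLike.GradedMul.mul_mem ht hs, ?_⟩
    ring
  | zero => simp
  | add x y _ _ hx hy => rw [add_mul]; exact add_mem hx hy
  | neg x _ hx => rw [neg_mul]; exact neg_mem hx

theorem mem_closure_prodSet {R : Type u} [CommRing R] (𝒜 : ℤ → AddSubgroup R) [GradedRing 𝒜]
    (hstd : Ideal.span (⋃ n ∈ Set.Ioi (0 : ℤ), (𝒜 n : Set R)) = Ideal.span ((𝒜 1 : AddSubgroup R) : Set R))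
    (n : ℤ) (hn : 0 ≤ n) (m : ℕ) (x : R) (hx : x ∈ 𝒜 (n + m)) :
    x ∈ AddSubgroup.closure (prodSet 𝒜 n m) := by
  induction m generalizing x with
  | zero =>
    refine AddSubgroup.subset_closure ⟨x, by simpa using hx, 1, ?_, by ring⟩
    simpa using SetLike.GradedOne.one_mem (A := 𝒜)
  | succ m ih =>
    have hd : 0 < n + ((m + 1 : ℕ) : ℤ) := by positivity
    have h1 := mem_closure_prodSet_one 𝒜 hstd _ hd x hx
    have e : n + ((m + 1 : ℕ) : ℤ) - 1 = n + (m : ℤ) := by push_cast; ring
    rw [e] at h1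
    clear hx
    induction h1 using AddSubgroup.closure_induction with
    | mem w hw =>
      obtain ⟨y, hy, s, hs, rfl⟩ := hw
      have := closure_prodSet_mul 𝒜 n m 1 y (ih y hy) s hs
      simpa using this
    | zero => exact zero_mem _
    | add _ _ _ _ h1 h2 => exact add_mem h1 h2
    | neg _ _ h1 => exact neg_mem h1

/-- Let R be a graded ring defined over a field k = R_0 which is Cohen–Macaulay and generated over k by
R_1 (the standing hypotheses of this section; only generation in degree one is used), q ≥ 1, R' =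
R^(q), and a an integer. Then the Veronese submodule [R(a)]^(q) = ⊕_j R_{a+jq} is generated over R'
by its piece R(a)_n = R_{a+n}, where n is the smallest multiple of q with n + a ≥ 0. Here 'graded
ring defined over a field' means R = ⊕_{n ≥ 0} R_n is Noetherian with R_0 a field, and m = R_+ is
its unique graded maximal ideal. The Veronese subring R^(q) = ⊕_j R_{jq}, regraded by (R^(q))_j =
R_{jq}, is presented abstractly as a ℤ-graded ring R' with an injective ring homomorphism φ : R' → R
carrying R'_j onto R_{jq} for every j. The module [R(a)]^(q) is presented as a graded R'-module M'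
with an injective additive map g : M' → R, semilinear over φ, carrying M'_j onto R_{a+jq} for every
j; with n = j₀q, the conclusion is that the R'-span of M'_{j₀} is all of M'. -/
theorem result (R : Type u) [CommRing R] [LocCoh.IsCohenMacaulayRing R] (𝒜 : ℤ → AddSubgroup R) [GradedRing 𝒜] (hpos : ∀ n : ℤ, n < 0 → 𝒜 n = ⊥) (h0 : IsField (GrLC.deg0 𝒜)) (hstd : Ideal.span (⋃ n ∈ Set.Ioi (0 : ℤ), (𝒜 n : Set R)) = Ideal.span ((𝒜 1 : AddSubgroup R) : Set R)) (q : ℕ) (hq : 0 < q) (R' : Type u) [CommRing R'] (𝒜' : ℤ → AddSubgroup R') [GradedRing 𝒜'] (φ : R' →+* R) (hφ : Function.Injective φ) (hdeg : ∀ j : ℤ, (𝒜' j).map (φ : R' →+ R) = 𝒜 (j * q)) (a : ℤ) (M' : Type u) [AddCommGroup M'] [Module R' M'] (ℳ' : ℤ → AddSubgroup M') [DirectSum.Decomposition ℳ'] [SetLike.GradedSMul 𝒜' ℳ'] (g : M' →ₛₗ[φ] R) (hg : Function.Injective g) (hgdeg : ∀ j : ℤ, (ℳ' j).map (g : M' →+ R) = 𝒜 (a + j * q)) (j₀ : ℤ) (hj₀ : 0 ≤ a + j₀ * q) (hj₀' : a + (j₀ - 1) * q < 0) : Submodule.span R' ((ℳ' j₀ : AddSubgroup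 M') : Set M') = ⊤ := by
  classical
  rw [eq_top_iff]
  intro x _
  -- reduce to homogeneous elements
  suffices h : ∀ (j : ℤ) (y : M'), y ∈ ℳ' j →
      y ∈ Submodule.span R' ((ℳ' j₀ : AddSubgroup M') : Set M') by
    rw [← DirectSum.sum_support_decompose ℳ' x]
    exact sum_mem fun j _ => h j _ (SetLike.coe_mem _)
  intro j y hy
  have hgy : g y ∈ 𝒜 (a + j * q) := by
    rw [← hgdeg j]
    exact ⟨y, hy, rfl⟩
  by_cases hj : j < j₀
  · -- the piece vanishes
    have hneg : a + j * (q : ℤ) < 0 := by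
      have : j ≤ j₀ - 1 := by omega
      have hq' : (0 : ℤ) ≤ (q : ℤ) := by positivity
      nlinarith [mul_le_mul_of_nonneg_right this hq']
    rw [hpos _ hneg] at hgy
    have : g y = 0 := by simpa using hgy
    have : y = 0 := hg (by rw [this, map_zero])
    rw [this]
    exact zero_mem _
  · rw [not_lt] at hj
    obtain ⟨t, ht⟩ := Int.eq_ofNat_of_zero_le (sub_nonneg.mpr hj)
    have hdeg' : a + j * (q : ℤ) = (a + j₀ * q) + ((t * q : ℕ) : ℤ) := by
      push_cast
      rw [← ht]
      ring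
    rw [hdeg'] at hgy
    have hcl := mem_closure_prodSet 𝒜 hstd (a + j₀ * q) hj₀ (t * q) (g y) hgy
    -- every element of the closure is the image of an element of the span
    have key : ∀ w ∈ AddSubgroup.closure (prodSet 𝒜 (a + j₀ * q) ((t * q : ℕ) : ℤ)),
        ∃ z ∈ Submodule.span R' ((ℳ' j₀ : AddSubgroup M') : Set M'), g z = w := by
      intro w hw
      induction hw using AddSubgroup.closure_induction with
      | mem w hw =>
        obtain ⟨s, hs, r, hr, rfl⟩ := hw
        rw [← hgdeg j₀] at hs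
        obtain ⟨y₀, hy₀, rfl⟩ := hs
        have hr' : r ∈ 𝒜 ((t : ℤ) * q) := by simpa using hr
        rw [← hdeg t] at hr'
        obtain ⟨r', _, rfl⟩ := hr'
        refine ⟨r' • y₀, Submodule.smul_mem _ _ (Submodule.subset_span hy₀), ?_⟩
        rw [map_smulₛₗ]
        simp [mul_comm]
      | zero => exact ⟨0, zero_mem _, map_zero _⟩
      | add _ _ _ _ h1 h2 =>
        obtain ⟨z1, hz1, rfl⟩ := h1
        obtain ⟨z2, hz2, rfl⟩ := h2
        exact ⟨z1 + z2, add_mem hz1 hz2, map_add _ _ _⟩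
      | neg _ _ h1 =>
        obtain ⟨z1, hz1, rfl⟩ := h1
        exact ⟨-z1, neg_mem hz1, map_neg _ _⟩
    obtain ⟨z, hz, hzy⟩ := key _ hcl
    rw [← hg hzy]
    exact hz

end Groth.Agent.S18672
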