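import Groth.Statements.S18675
import Groth.Agent.Lib.Helper28.GLat

set_option autoImplicit false

namespace Groth.Agent.S18675

open Finsupp Groth.Agent.Lib.Helper28

section constr

variable {G : Type} [Group G] [Finite G] {A : Type} [AddCommGroup A] [Module.Finite ℤ A]
  (ρ : Representation ℤ G A)

/-- invariants of a subgroup -/
def inv (H : Subgroup G) : Submodule ℤ A where
  carrier := {a | ∀ h : H, ρ (h : G) a = a}
  add_mem' := by intro a b ha hb h; rw [map_add, ha h, hb h]
  zero_mem' := by intro h; simp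
  smul_mem' := by intro c a ha h; rw [map_smul, ha h]

theorem inv_fg (H : Subgroup G) : (inv ρ H).FG := IsNoetherian.noetherian _

/-- chosen finite generating set of the invariants -/
noncomputable def gens (H : Subgroup G) : Finset A := (inv_fg ρ H).choose

theorem span_gens (H : Subgroup G) : Submodule.span ℤ (gens ρ H : Set A) = inv ρ H :=
  (inv_fg ρ H).choose_spec

/-- the finite `G`-stable set of basis elements -/
def Xset : Set A := {x | ∃ (g : G) (H : Subgroup G) (y : A), y ∈ gens ρ H ∧ x = ρ g y}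

theorem Xset_finite : (Xset ρ).Finite := by
  have hfin : Finite (Subgroup G) :=
    Finite.of_injective (fun H : Subgroup G => (H : Set G)) SetLike.coe_injective
  have : Xset ρ = ⋃ (g : G) (H : Subgroup G), (fun y => ρ g y) '' (gens ρ H : Set A) := by
    ext x
    simp only [Xset, Set.mem_ofPred_eq, Set.mem_iUnion, Set.mem_image, Finset.mem_coe]
    constructor
    · rintro ⟨g, H, y, hy, rfl⟩; exact ⟨g, H, y, hy, rfl⟩
    · rintro ⟨g, H, y, hy, rfl⟩; exact ⟨g, H, y, hy, rfl⟩
  rw [this]
  exact Set.finite_iUnion fun g => Set.finite_iUnion fun H => (Finset.finite_toSet _).image _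

theorem smul_mem_Xset (g : G) {x : A} (hx : x ∈ Xset ρ) : ρ g x ∈ Xset ρ := by
  obtain ⟨g', H, y, hy, rfl⟩ := hx
  exact ⟨g * g', H, y, hy, by rw [map_mul]; rfl⟩

/-- the basis of the permutation module, as a type -/
abbrev X : Type := ↥(Xset ρ)

instance : Finite (X ρ) := (Xset_finite ρ).to_subtype

instance : MulAction G (X ρ) where
  smul g x := ⟨ρ g x, smul_mem_Xset ρ g x.2⟩
  one_smul x := Subtype.ext (by change ρ 1 (x : A) = x; simp)
  mul_smul g h x := Subtype.ext (by change ρ (g * h) (x : A) = ρ g (ρ h x); simp)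

theorem coe_smul (g : G) (x : X ρ) : ((g • x : X ρ) : A) = ρ g x := rfl

/-- the covering map -/
noncomputable def π : (X ρ →₀ ℤ) →ₗ[ℤ] A := Finsupp.linearCombination ℤ (fun x : X ρ => (x : A))

theorem π_single (x : X ρ) (r : ℤ) : π ρ (single x r) = r • (x : A) := by
  simp [π]

theorem π_equivariant (g : G) (p : X ρ →₀ ℤ) : π ρ (permRep G (X ρ) g p) = ρ g (π ρ p) := by
  induction p using Finsupp.induction_linear with
  | zero => simp
  | add p q hp hq => simp only [map_add, hp, hq]
  | single x r => rw [permRep_single, π_single, π_single, coe_smul, map_smul]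

theorem exists_fixed_lift (H : Subgroup G) (c : A) (hc : c ∈ inv ρ H) :
    ∃ p' : X ρ →₀ ℤ, π ρ p' = c ∧ ∀ h : H, permRep G (X ρ) (h : G) p' = p' := by
  rw [← span_gens] at hc
  induction hc using Submodule.span_induction with
  | mem y hy =>
    have hyX : y ∈ Xset ρ := ⟨1, H, y, hy, by simp⟩
    have hyinv : y ∈ inv ρ H := by rw [← span_gens]; exact Submodule.subset_span hy
    refine ⟨single ⟨y, hyX⟩ 1, by simp [π_single], fun h => ?_⟩
    rw [permRep_single]
    congr 1
    exact Subtype.ext (hyinv h)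
  | zero => exact ⟨0, by simp, by simp⟩
  | add x y _ _ hx hy =>
    obtain ⟨p1, h1, h1'⟩ := hx
    obtain ⟨p2, h2, h2'⟩ := hy
    exact ⟨p1 + p2, by rw [map_add, h1, h2], fun h => by rw [map_add, h1' h, h2' h]⟩
  | smul z x _ hx =>
    obtain ⟨p1, h1, h1'⟩ := hx
    exact ⟨z • p1, by rw [map_smul, h1], fun h => by rw [map_smul, h1' h]⟩

theorem π_surjective : Function.Surjective (π ρ) := by
  intro a
  have ha : a ∈ inv ρ (⊥ : Subgroup G) := by
    intro h
    have : (h : G) = 1 := Subgroup.mem_bot.mp h.2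
    rw [this]; simp
  obtain ⟨p, hp, _⟩ := exists_fixed_lift ρ ⊥ a ha
  exact ⟨p, hp⟩

theorem ker_stable (g : G) (p : X ρ →₀ ℤ) (hp : p ∈ LinearMap.ker (π ρ)) :
    permRep G (X ρ) g p ∈ LinearMap.ker (π ρ) := by
  rw [LinearMap.mem_ker] at hp ⊢
  rw [π_equivariant, hp, map_zero]

/-- the representation on the kernel -/
noncomputable def σ : Representation ℤ G ↥(LinearMap.ker (π ρ)) where
  toFun g := (permRep G (X ρ) g).restrict (fun p hp => ker_stable ρ g p hp)
  map_one' := LinearMap.ext fun p => Subtype.ext (by simp)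
  map_mul' g h := LinearMap.ext fun p => Subtype.ext (by simp)

theorem σ_coe (g : G) (q : ↥(LinearMap.ker (π ρ))) :
    ((σ ρ g q : ↥(LinearMap.ker (π ρ))) : X ρ →₀ ℤ) = permRep G (X ρ) g q := rfl

theorem σ_coflasque : GLat.IsCoflasque (σ ρ) := by
  intro H f hf
  have hF : ∀ a b : H, ((f (a * b) : ↥(LinearMap.ker (π ρ))) : X ρ →₀ ℤ) =
      (f a : X ρ →₀ ℤ) + permRep G (X ρ) (a : G) (f b : X ρ →₀ ℤ) := by
    intro a b
    rw [hf a b]
    rfl
  obtain ⟨p, hp⟩ := permRep_h1 H (fun a => ((f a : ↥(LinearMap.ker (π ρ))) : X ρ →₀ ℤ)) hF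
  -- `π p` is `H`-invariant
  have hc : π ρ p ∈ inv ρ H := by
    intro a
    have h1 : π ρ ((f a : ↥(LinearMap.ker (π ρ))) : X ρ →₀ ℤ) = 0 := (f a).2
    have h2 := congrArg (π ρ) (hp a)
    rw [h1, map_sub, π_equivariant] at h2
    exact (sub_eq_zero.mp h2.symm)
  obtain ⟨p', hp', hfix⟩ := exists_fixed_lift ρ H _ hc
  have hm : p - p' ∈ LinearMap.ker (π ρ) := by
    rw [LinearMap.mem_ker, map_sub, hp', sub_self]
  refine ⟨⟨p - p', hm⟩, fun a => Subtype.ext ?_⟩
  rw [AddSubgroupClass.coe_sub, σ_coe]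
  rw [map_sub, hfix a, hp a, sub_sub_sub_cancel_right]

end constr

/-- For a finite group G and a finitely generated G-module A there is an exact sequence 0 → Q → P → A →
0 of finitely generated G-modules with P a permutation lattice and Q a coflasque lattice; here
rendered by equivariant ℤ-linear maps i : Q → P injective, π : P → A surjective, with range i = ker
π. -/
theorem result (G : Type) [Group G] [Finite G]
    (A : Type) [AddCommGroup A] [Module.Finite ℤ A] (ρ : Representation ℤ G A) :
    ∃ (Q : Type) (_ : AddCommGroup Q) (P : Type) (_ : AddCommGroup P)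
      (_ : Module.Finite ℤ Q) (_ : Module.Free ℤ Q) (_ : Module.Finite ℤ P) (_ : Module.Free ℤ P)
      (σ : Representation ℤ G Q) (τ : Representation ℤ G P) (i : Q →ₗ[ℤ] P) (π : P →ₗ[ℤ] A),
      GLat.IsEquivariant σ τ i ∧ GLat.IsEquivariant τ ρ π ∧ Function.Injective i ∧ Function.Surjective π ∧
      LinearMap.range i = LinearMap.ker π ∧ GLat.IsPermutation τ ∧ GLat.IsCoflasque σ := by
  refine ⟨↥(LinearMap.ker (π ρ)), inferInstance, (X ρ →₀ ℤ), inferInstance, ?_, ?_, ?_, ?_,
    σ ρ, permRep G (X ρ), (LinearMap.ker (π ρ)).subtype, π ρ, ?_, ?_, ?_, ?_, ?_, ?_, ?_⟩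
  · infer_instance
  · infer_instance
  · infer_instance
  · infer_instance
  · intro g m; rfl
  · intro g m; exact π_equivariant ρ g m
  · exact Subtype.val_injective
  · exact π_surjective ρ
  · exact Submodule.range_subtype _
  · exact isPermutation_permRep
  · exact σ_coflasque ρ

end Groth.Agent.S18675
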