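import Groth.Statements.S1868
import Groth.Agent.Lib.Lead.FinFlatDeg
import Groth.Agent.Lib.Helper9.TopDim

set_option autoImplicit false
set_option linter.style.haveILetI false
universe u
open CategoryTheory AlgebraicGeometry
open Cyc

namespace Groth.Agent.S1868

/-- Let f : X → Y be finite locally free of constant degree d (finite, flat, rank function constantly
d). Then f has relative dimension 0 and for every k-cycle α on Y, f_*(f^*α) = d·α (for any cycle
f^*α on X with the flat-pullback coefficients). Here a pair (X, δ) with Cyc.IsSetup plays the role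
of a scheme locally of finite type over a fixed base with a dimension function (X locally Noetherian
with universally catenary local rings, δ a dimension function), and Cyc.DeltaCompat records that the
dimension function upstairs is the induced one. -/
theorem result (X Y : Scheme.{u}) (δX : X → ℤ) (δY : Y → ℤ) (hX : Cyc.IsSetup X δX) (hY : Cyc.IsSetup Y δY) (f : X ⟶ Y) [IsFinite f] [Flat f] (d : ℕ) (hd : ∀ y : Y, f.finrank y = d) (hδ : Cyc.DeltaCompat f δX δY) (k : ℤ) : Cyc.HasRelDim f 0 ∧ ∀ (α : AlgebraicCycle Y ℤ), α ∈ Cyc.Zk Y δY k → ∀ α' : AlgebraicCycle X ℤ, ⇑α' = Cyc.pullFun f δX δY 0 ⇑α → AlgebraicCycle.map f δX δY α' = d • α := by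
  classical
  have hδ0 : ∀ x : X, δX x = δY (f x) := by
    intro x
    obtain ⟨n, hn, hx⟩ := hδ x
    have hpos := Groth.Agent.Lib.Lead.FinFlatDeg.residueDegree_pos f x
    letI := (f.residueFieldMap x).hom.toAlgebra
    haveI : Module.Finite (Y.residueField (f x)) (X.residueField x) :=
      Module.finite_of_finrank_pos hpos
    haveI : Algebra.IsAlgebraic (Y.residueField (f x)) (X.residueField x) :=
      Algebra.IsAlgebraic.of_finite _ _
    have h0 : Algebra.trdeg (Y.residueField (f x)) (X.residueField x) = 0 := trdeg_eq_zero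
    rw [h0] at hn
    have hn0 : n = 0 := by exact_mod_cast hn.symm
    rw [hx, hn0]
    simp
  refine ⟨?_, ?_⟩
  · intro y T hT
    haveI : DiscreteTopology (f.fiber y) := inferInstance
    haveI : Nonempty T := hT.1.nonempty.to_subtype
    apply le_antisymm
    · exact_mod_cast topologicalKrullDim_zero_of_discreteTopology T
    · exact_mod_cast Groth.Agent.Lib.Helper9.topologicalKrullDim_nonneg_of_nonempty (X := T)
  · intro α hα α' hα'
    ext y
    rw [Function.locallyFinsuppWithin.coe_nsmul, Pi.smul_apply, nsmul_eq_mul]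
    simp only [AlgebraicCycle.map, Function.locallyFinsupp.map_apply]
    have hterm : ∀ z : f.fiber y, α' (f.fiberι y z) *
        ((AlgebraicCycle.mapCoeff f δX δY (f.fiberι y z) : ℕ) : ℤ) =
        α y * (((Groth.Agent.Lib.Lead.FinFlatDeg.stalkLen (f.fiber y) z *
          (f.fiberToSpecResidueField y).residueDegree z : ℕ)) : ℤ) := by
      intro z
      have hz : f (f.fiberι y z) = y := (f.fiberHomeo y z).2
      rw [hα']
      unfold Cyc.pullFun AlgebraicCycle.mapCoeff
      rw [if_pos (by rw [add_zero]; exact hδ0 _), if_pos (hδ0 _),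
        Groth.Agent.Lib.Lead.FinFlatDeg.pull_len_eq f y z,
        Groth.Agent.Lib.Lead.FinFlatDeg.residueDegree_fiber f y z, hz]
      push_cast
      ring
    have key : ∑ᶠ x ∈ f ⁻¹' {y}, α' x * ((AlgebraicCycle.mapCoeff f δX δY x : ℕ) : ℤ) =
        ∑ᶠ z : f.fiber y, α' (f.fiberι y z) *
          ((AlgebraicCycle.mapCoeff f δX δY (f.fiberι y z) : ℕ) : ℤ) := by
      rw [← finsum_set_coe_eq_finsum_mem]
      exact (finsum_comp_equiv (f.fiberHomeo y).toEquiv
        (f := fun j : f ⁻¹' {y} => α' j.1 * ((AlgebraicCycle.mapCoeff f δX δY j.1 : ℕ) : ℤ))).symm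
    rw [key]
    simp_rw [hterm]
    haveI : Finite (f.fiber y) := inferInstance
    rw [← mul_finsum, ← hd y,
      ← Groth.Agent.Lib.Lead.FinFlatDeg.fibre_sum f y]
    rw [mul_comm]
    congr 1
    letI : Fintype (f.fiber y) := Fintype.ofFinite _
    rw [finsum_eq_sum_of_fintype, finsum_eq_sum_of_fintype]
    push_cast
    rfl

end Groth.Agent.S1868
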