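import Groth.Statements.S18686
import Groth.Agent.S18675
import Groth.Agent.Lib.Helper28.GLatFlasque

set_option autoImplicit false

namespace Groth.Agent.S18686

open Finsupp Groth.Agent.Lib.Helper28

section constr

variable {G : Type} [Group G] [Finite G] {A : Type} [AddCommGroup A] [Module.Finite ℤ A]
  [Module.Free ℤ A] (ρ : Representation ℤ G A)

/-- the finite `G`-set of functionals on `A` used as a basis -/
abbrev XX : Type := Groth.Agent.S18675.X ρ.dual

/-- evaluation `A → ℤ[X]` -/
noncomputable def ι : A →ₗ[ℤ] (XX ρ →₀ ℤ) :=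
  (Finsupp.linearEquivFunOnFinite ℤ ℤ (XX ρ)).symm.toLinearMap ∘ₗ
    LinearMap.pi (fun x : XX ρ => (x : Module.Dual ℤ A))

theorem ι_apply (a : A) (x : XX ρ) : ι ρ a x = (x : Module.Dual ℤ A) a := by
  simp [ι]

theorem ι_equivariant (g : G) (a : A) : ι ρ (ρ g a) = permRep G (XX ρ) g (ι ρ a) := by
  ext x
  rw [permRep_apply, ι_apply, ι_apply, Groth.Agent.S18675.coe_smul, Representation.dual_apply,
    Module.Dual.transpose_apply, LinearMap.comp_apply, inv_inv]

theorem dvd_of_forall_X (H : Subgroup G) (a : A) (k : ℤ)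
    (h : ∀ x : XX ρ, (∀ h : H, (h : G) • x = x) → k ∣ (x : Module.Dual ℤ A) a)
    (l : Module.Dual ℤ A) (hl : ∀ h : H, ρ.dual (h : G) l = l) : k ∣ l a := by
  have hl' : l ∈ Groth.Agent.S18675.inv ρ.dual H := hl
  rw [← Groth.Agent.S18675.span_gens] at hl'
  clear hl
  induction hl' using Submodule.span_induction with
  | mem y hy =>
    have hyX : y ∈ Groth.Agent.S18675.Xset ρ.dual := ⟨1, H, y, hy, by rw [map_one]; rfl⟩
    have hyinv : y ∈ Groth.Agent.S18675.inv ρ.dual H := by
      rw [← Groth.Agent.S18675.span_gens]; exact Submodule.subset_span hy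
    exact h ⟨y, hyX⟩ (fun h => Subtype.ext (hyinv h))
  | zero => simp
  | add x y _ _ hx hy => rw [LinearMap.add_apply]; exact dvd_add hx hy
  | smul c x _ hx => rw [LinearMap.smul_apply]; exact Dvd.dvd.mul_left hx c

theorem dvd_of_forall_X_bot (a : A) (k : ℤ) (h : ∀ x : XX ρ, k ∣ (x : Module.Dual ℤ A) a)
    (l : Module.Dual ℤ A) : k ∣ l a := by
  refine dvd_of_forall_X ρ ⊥ a k (fun x _ => h x) l (fun h => ?_)
  have : (h : G) = 1 := Subgroup.mem_bot.mp h.2
  rw [this, map_one]; rfl

theorem ι_injective : Function.Injective (ι ρ) := by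
  rw [injective_iff_map_eq_zero]
  intro a ha
  rw [← Module.forall_dual_apply_eq_zero_iff ℤ a]
  intro l
  have := dvd_of_forall_X_bot ρ a 0 (fun x => by rw [← ι_apply, ha]; simp) l
  exact zero_dvd_iff.mp this

theorem range_stable (g : G) :
    LinearMap.range (ι ρ) ≤ (LinearMap.range (ι ρ)).comap (permRep G (XX ρ) g) := by
  rintro _ ⟨a, rfl⟩
  exact ⟨ρ g a, ι_equivariant ρ g a⟩

/-- the flasque quotient -/
abbrev F : Type := (XX ρ →₀ ℤ) ⧸ LinearMap.range (ι ρ)

/-- the quotient representation -/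
noncomputable abbrev τF : Representation ℤ G (F ρ) :=
  (permRep G (XX ρ)).quotient (LinearMap.range (ι ρ)) (range_stable ρ)

theorem mkQ_equivariant :
    GLat.IsEquivariant (permRep G (XX ρ)) (τF ρ) (LinearMap.range (ι ρ)).mkQ := fun _ _ => rfl

theorem F_torsionFree : Module.IsTorsionFree ℤ (F ρ) := by
  refine Module.IsTorsionFree.of_smul_eq_zero fun k m hkm => ?_
  by_cases hk : k = 0
  · exact Or.inl hk
  · right
    obtain ⟨φ, rfl⟩ := Submodule.mkQ_surjective _ m
    rw [← map_smul, Submodule.mkQ_apply, Submodule.Quotient.mk_eq_zero] at hkm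
    obtain ⟨a, ha⟩ := hkm
    have h1 : ∀ x : XX ρ, k ∣ (x : Module.Dual ℤ A) a := by
      intro x
      rw [← ι_apply, ha]
      exact ⟨φ x, by simp⟩
    obtain ⟨a', rfl⟩ := exists_smul_eq_of_forall_dual_dvd a k (dvd_of_forall_X_bot ρ _ k h1)
    rw [map_smul] at ha
    have h2 : ι ρ a' = φ := smul_right_injective _ hk ha
    rw [Submodule.mkQ_apply, Submodule.Quotient.mk_eq_zero]
    exact ⟨a', h2⟩

theorem F_flasque : GLat.IsFlasque (τF ρ) := by
  refine isFlasque_of _ (fun H _ m hm => ?_)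
  obtain ⟨φ, rfl⟩ := Submodule.mkQ_surjective _ m
  rw [← map_normL (permRep G (XX ρ)) H (τF ρ) _ (mkQ_equivariant ρ), Submodule.mkQ_apply,
    Submodule.Quotient.mk_eq_zero] at hm
  obtain ⟨a, ha⟩ := hm
  have hι : GLat.IsEquivariant ρ (permRep G (XX ρ)) (ι ρ) := fun g a => ι_equivariant ρ g a
  -- `a` is invariant
  have hafix : ∀ h : H, ρ (h : G) a = a := by
    intro h
    apply ι_injective ρ
    rw [ι_equivariant, ha, smul_normL]
  -- divisibility of invariant functionals
  have hdvd : ∀ l : Module.Dual ℤ A, (∀ h : H, ρ.dual (h : G) l = l) →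
      (Fintype.card H : ℤ) ∣ l a := by
    intro l hl
    refine dvd_of_forall_X ρ H a _ (fun x hx => ?_) l hl
    rw [← ι_apply, ha, normL_apply, Finsupp.finsetSum_apply]
    have : ∀ h : H, (permRep G (XX ρ) (h : G) φ) x = φ x := by
      intro h
      rw [permRep_apply]
      congr 1
      have := hx h⁻¹
      simpa using this
    simp only [this, Finset.sum_const, Finset.card_univ, nsmul_eq_mul]
    exact Dvd.intro _ rfl
  obtain ⟨b, hb⟩ := exists_normL_eq ρ H a hafix hdvd
  have h3 : normL (permRep G (XX ρ)) H (φ - ι ρ b) = 0 := by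
    rw [map_sub, ← ha, ← map_normL ρ H (permRep G (XX ρ)) (ι ρ) hι, ← hb, sub_self]
  have h4 := mem_augSub_of_isFlasque (isFlasque_permRep (G := G) (X := XX ρ)) H _ h3
  have h5 := map_augSub (permRep G (XX ρ)) H (τF ρ) _ (mkQ_equivariant ρ) h4
  have h6 : (LinearMap.range (ι ρ)).mkQ (φ - ι ρ b) = (LinearMap.range (ι ρ)).mkQ φ := by
    rw [map_sub, sub_eq_self, Submodule.mkQ_apply, Submodule.Quotient.mk_eq_zero]
    exact ⟨b, rfl⟩
  rw [h6] at h5
  exact h5

end constr

/-- For a finite group G and a G-lattice A (finitely generated and free over ℤ) there is an exact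
sequence 0 → A → P → F → 0 of G-lattices with P a permutation lattice and F flasque (a flasque
resolution of A); rendered by equivariant ℤ-linear maps i : A → P injective, π : P → F surjective,
with range i = ker π. -/
theorem result (G : Type) [Group G] [Finite G]
    (A : Type) [AddCommGroup A] [Module.Finite ℤ A] [Module.Free ℤ A] (ρ : Representation ℤ G A) :
    ∃ (P : Type) (_ : AddCommGroup P) (F : Type) (_ : AddCommGroup F)
      (_ : Module.Finite ℤ P) (_ : Module.Free ℤ P) (_ : Module.Finite ℤ F) (_ : Module.Free ℤ F)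
      (σ : Representation ℤ G P) (τ : Representation ℤ G F) (i : A →ₗ[ℤ] P) (π : P →ₗ[ℤ] F),
      GLat.IsEquivariant ρ σ i ∧ GLat.IsEquivariant σ τ π ∧ Function.Injective i ∧ Function.Surjective π ∧
      LinearMap.range i = LinearMap.ker π ∧ GLat.IsPermutation σ ∧ GLat.IsFlasque τ := by
  have tf := F_torsionFree ρ
  refine ⟨(XX ρ →₀ ℤ), inferInstance, F ρ, inferInstance, ?_, ?_, ?_, ?_,
    permRep G (XX ρ), τF ρ, ι ρ, (LinearMap.range (ι ρ)).mkQ, ?_, ?_, ?_, ?_, ?_, ?_, ?_⟩
  · infer_instance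
  · infer_instance
  · infer_instance
  · exact Module.free_of_finite_type_torsion_free'
  · intro g a; exact ι_equivariant ρ g a
  · exact mkQ_equivariant ρ
  · exact ι_injective ρ
  · exact Submodule.mkQ_surjective _
  · exact (Submodule.ker_mkQ _).symm
  · exact isPermutation_permRep
  · exact F_flasque ρ

end Groth.Agent.S18686
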