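import Groth.Statements.S18687
import Groth.Agent.S18675
import Groth.Agent.Lib.Helper28.GLat

set_option autoImplicit false

namespace Groth.Agent.S18687

open Finsupp Groth.Agent.Lib.Helper28

/-- the `G`-set `G × κ`, with `G` acting by left translation on the first factor -/
def Y (G κ : Type) : Type := G × κ

instance (G κ : Type) [Finite G] [Finite κ] : Finite (Y G κ) := inferInstanceAs (Finite (G × κ))

instance (G κ : Type) [Group G] : MulAction G (Y G κ) where
  smul g y := ((g * y.1, y.2) : G × κ)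
  one_smul _ := Prod.ext (one_mul _) rfl
  mul_smul _ _ _ := Prod.ext (mul_assoc _ _ _) rfl

theorem Y_smul_fst {G κ : Type} [Group G] (g : G) (y : Y G κ) : (g • y).1 = g * y.1 := rfl
theorem Y_smul_snd {G κ : Type} [Group G] (g : G) (y : Y G κ) : (g • y).2 = y.2 := rfl

section constr

variable {G : Type} [Group G] [Finite G] {A : Type} [AddCommGroup A] [Module.Finite ℤ A]
  [Module.Free ℤ A] (ρ : Representation ℤ G A)

/-- index type of a basis of `A` -/
abbrev κ (A : Type) [AddCommGroup A] [Module.Free ℤ A] : Type := Module.Free.ChooseBasisIndex ℤ A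

/-- the embedding of `A` into the permutation lattice `ℤ[G × κ]` -/
noncomputable def j : A →ₗ[ℤ] (Y G (κ A) →₀ ℤ) :=
  (Finsupp.linearEquivFunOnFinite ℤ ℤ (Y G (κ A))).symm.toLinearMap ∘ₗ
    LinearMap.pi (fun y : Y G (κ A) => (Module.Free.chooseBasis ℤ A).coord y.2 ∘ₗ ρ y.1⁻¹)

theorem j_apply (a : A) (y : Y G (κ A)) :
    j ρ a y = (Module.Free.chooseBasis ℤ A).repr (ρ y.1⁻¹ a) y.2 := by
  simp [j]

theorem j_equivariant (g : G) (a : A) : j ρ (ρ g a) = permRep G (Y G (κ A)) g (j ρ a) := by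
  ext y
  rw [permRep_apply, j_apply, j_apply, Y_smul_fst, Y_smul_snd, mul_inv_rev, inv_inv, map_mul]
  rfl

theorem j_injective : Function.Injective (j ρ) := by
  intro a a' h
  apply (Module.Free.chooseBasis ℤ A).repr.injective
  ext k
  have := DFunLike.congr_fun h ((1, k) : G × κ A)
  have h1 := j_apply ρ a ((1, k) : G × κ A)
  have h2 := j_apply ρ a' ((1, k) : G × κ A)
  have h3 := h1.symm.trans (this.trans h2)
  simpa using h3

theorem range_stable (g : G) :
    LinearMap.range (j ρ) ≤ (LinearMap.range (j ρ)).comap (permRep G (Y G (κ A)) g) := by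
  rintro _ ⟨a, rfl⟩
  exact ⟨ρ g a, j_equivariant ρ g a⟩

/-- the quotient representation -/
noncomputable abbrev ρ' : Representation ℤ G ((Y G (κ A) →₀ ℤ) ⧸ LinearMap.range (j ρ)) :=
  (permRep G (Y G (κ A))).quotient (LinearMap.range (j ρ)) (range_stable ρ)

end constr

/-- For a finite group G and a G-lattice A (finitely generated and free over ℤ) there is an exact
sequence 0 → A → Q → P → 0 of G-lattices with Q coflasque and P a permutation lattice (a coflasque
resolution of A); rendered by equivariant ℤ-linear maps i : A → Q injective, π : Q → P surjective,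
with range i = ker π. -/
theorem result (G : Type) [Group G] [Finite G]
    (A : Type) [AddCommGroup A] [Module.Finite ℤ A] [Module.Free ℤ A] (ρ : Representation ℤ G A) :
    ∃ (Q : Type) (_ : AddCommGroup Q) (P : Type) (_ : AddCommGroup P)
      (_ : Module.Finite ℤ Q) (_ : Module.Free ℤ Q) (_ : Module.Finite ℤ P) (_ : Module.Free ℤ P)
      (σ : Representation ℤ G Q) (τ : Representation ℤ G P) (i : A →ₗ[ℤ] Q) (π : Q →ₗ[ℤ] P),
      GLat.IsEquivariant ρ σ i ∧ GLat.IsEquivariant σ τ π ∧ Function.Injective i ∧ Function.Surjective π ∧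
      LinearMap.range i = LinearMap.ker π ∧ GLat.IsCoflasque σ ∧ GLat.IsPermutation τ := by
  classical
  obtain ⟨Q1, iQ1, P1, iP1, finQ1, freeQ1, finP1, freeP1, σ1, τ1, i1, π1, hi1, hπ1, hinj1, hsurj1,
    hex1, hperm1, hcof1⟩ :=
    Groth.Agent.S18675.result G ((Y G (κ A) →₀ ℤ) ⧸ LinearMap.range (j ρ)) (ρ' ρ)
  -- the pullback of `P1` and `L` over the quotient
  set L := (Y G (κ A) →₀ ℤ) with hL
  set τL : Representation ℤ G L := permRep G (Y G (κ A)) with hτL
  set mk : L →ₗ[ℤ] (L ⧸ LinearMap.range (j ρ)) := (LinearMap.range (j ρ)).mkQ with hmk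
  let W : Submodule ℤ (P1 × L) :=
    LinearMap.ker (π1 ∘ₗ LinearMap.fst ℤ P1 L - mk ∘ₗ LinearMap.snd ℤ P1 L)
  have hW : ∀ w : P1 × L, w ∈ W ↔ π1 w.1 = mk w.2 := by
    intro w
    simp only [W, LinearMap.mem_ker, LinearMap.sub_apply, LinearMap.comp_apply, LinearMap.fst_apply,
      LinearMap.snd_apply, sub_eq_zero]
  have hmkeq : ∀ (g : G) (l : L), mk (τL g l) = ρ' ρ g (mk l) := fun g l => rfl
  have hWstable : ∀ g, W ≤ W.comap ((τ1.prod τL) g) := by
    intro g w hw
    rw [Submodule.mem_comap, hW]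
    rw [hW] at hw
    change π1 (τ1 g w.1) = mk (τL g w.2)
    rw [hπ1 g w.1, hw, hmkeq]
  let σW : Representation ℤ G W := (τ1.prod τL).subrepresentation W hWstable
  have hσW : ∀ (g : G) (w : W), ((σW g w : W) : P1 × L) = (τ1 g (w : P1 × L).1, τL g (w : P1 × L).2) :=
    fun g w => rfl
  -- the maps
  have hmem_i : ∀ a : A, (LinearMap.inr ℤ P1 L ∘ₗ j ρ) a ∈ W := by
    intro a
    rw [hW]
    simp only [LinearMap.comp_apply, LinearMap.inr_apply, map_zero]
    symm
    rw [hmk, Submodule.mkQ_apply, Submodule.Quotient.mk_eq_zero]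
    exact ⟨a, rfl⟩
  let i : A →ₗ[ℤ] W := LinearMap.codRestrict W (LinearMap.inr ℤ P1 L ∘ₗ j ρ) hmem_i
  let π : W →ₗ[ℤ] P1 := LinearMap.fst ℤ P1 L ∘ₗ W.subtype
  have hker1 : ∀ p : P1, π1 p = 0 ↔ p ∈ LinearMap.range i1 := by
    intro p; rw [hex1, LinearMap.mem_ker]
  have hmem_i' : ∀ q : Q1, (LinearMap.inl ℤ P1 L ∘ₗ i1) q ∈ W := by
    intro q
    rw [hW]
    simp only [LinearMap.comp_apply, LinearMap.inl_apply, map_zero]
    exact (hker1 _).mpr ⟨q, rfl⟩
  let i' : Q1 →ₗ[ℤ] W := LinearMap.codRestrict W (LinearMap.inl ℤ P1 L ∘ₗ i1) hmem_i'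
  let p' : W →ₗ[ℤ] L := LinearMap.snd ℤ P1 L ∘ₗ W.subtype
  have hcofW : GLat.IsCoflasque σW := by
    refine isCoflasque_of_exact (σ' := σ1) (σ'' := τL) i' p' ?_ ?_ ?_ ?_ ?_ hcof1
      isCoflasque_permRep
    · intro g q
      apply Subtype.ext
      rw [hσW]
      refine Prod.ext ?_ ?_
      · exact hi1 g q
      · change (0 : L) = τL g 0
        rw [map_zero]
    · intro g w; rfl
    · intro q q' h
      apply hinj1
      have := congrArg (fun w : W => (w : P1 × L).1) h
      exact this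
    · intro l
      obtain ⟨p, hp⟩ := hsurj1 (mk l)
      exact ⟨⟨(p, l), (hW _).mpr hp⟩, rfl⟩
    · ext w
      constructor
      · rintro ⟨q, rfl⟩
        rfl
      · intro hw
        have hw2 : (w : P1 × L).2 = 0 := hw
        have hw1 : π1 (w : P1 × L).1 = 0 := by
          rw [(hW _).mp w.2, hw2, map_zero]
        obtain ⟨q, hq⟩ := (hker1 _).mp hw1
        refine ⟨q, Subtype.ext (Prod.ext hq ?_)⟩
        exact hw2.symm
  refine ⟨W, inferInstance, P1, iP1, ?_, ?_, finP1, freeP1, σW, τ1, i, π, ?_, ?_, ?_, ?_, ?_,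
    hcofW, hperm1⟩
  · infer_instance
  · infer_instance
  · intro g a
    apply Subtype.ext
    rw [hσW]
    refine Prod.ext ?_ ?_
    · change (0 : P1) = τ1 g 0
      rw [map_zero]
    · exact j_equivariant ρ g a
  · intro g w; rfl
  · intro a a' h
    apply j_injective ρ
    have := congrArg (fun w : W => (w : P1 × L).2) h
    exact this
  · intro p
    obtain ⟨l, hl⟩ := Submodule.mkQ_surjective (LinearMap.range (j ρ)) (π1 p)
    exact ⟨⟨(p, l), (hW _).mpr hl.symm⟩, rfl⟩
  · ext w
    constructor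
    · rintro ⟨a, rfl⟩
      rfl
    · intro hw
      have hw1 : (w : P1 × L).1 = 0 := hw
      have hw2 : mk (w : P1 × L).2 = 0 := by
        rw [← (hW _).mp w.2, hw1, map_zero]
      rw [hmk, Submodule.mkQ_apply, Submodule.Quotient.mk_eq_zero] at hw2
      obtain ⟨a, ha⟩ := hw2
      refine ⟨a, Subtype.ext (Prod.ext ?_ ha)⟩
      exact hw1.symm

end Groth.Agent.S18687
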