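import Groth.Statements.S18685
import Groth.Agent.S18686
import Groth.Agent.S18687
import Groth.Agent.Lib.Helper28.GLatFlasque

set_option autoImplicit false

namespace Groth.Agent.S18685

open Finsupp Groth.Agent.Lib.Helper28
open Groth.Agent.S18687 (Y Y_smul_fst Y_smul_snd)

theorem isTorsionFree_of_exact {M' M M'' : Type} [AddCommGroup M'] [AddCommGroup M]
    [AddCommGroup M''] (i : M' →ₗ[ℤ] M) (p : M →ₗ[ℤ] M'')
    (hex : LinearMap.range i = LinearMap.ker p) (hinj : Function.Injective i)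
    [Module.IsTorsionFree ℤ M'] [Module.IsTorsionFree ℤ M''] : Module.IsTorsionFree ℤ M := by
  refine Module.IsTorsionFree.of_smul_eq_zero fun k m hkm => ?_
  by_cases hk : k = 0
  · exact Or.inl hk
  right
  have h1 : p m = 0 := by
    have : k • p m = 0 := by rw [← map_smul, hkm, map_zero]
    exact (smul_eq_zero.mp this).resolve_left hk
  have : m ∈ LinearMap.range i := by rw [hex]; exact h1
  obtain ⟨m', rfl⟩ := this
  have : k • m' = 0 := hinj (by rw [map_smul, hkm, map_zero])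
  rw [(smul_eq_zero.mp this).resolve_left hk, map_zero]

section cover

variable {G : Type} [Group G] {A : Type} [AddCommGroup A] (ρ : Representation ℤ G A)
  {m : ℕ} (s : Fin m → A)

/-- the free cover `ℤ[G × Fin m] → A` -/
noncomputable def ε : (Y G (Fin m) →₀ ℤ) →ₗ[ℤ] A :=
  Finsupp.linearCombination ℤ (fun y : Y G (Fin m) => ρ y.1 (s y.2))

theorem ε_single (y : Y G (Fin m)) (c : ℤ) : ε ρ s (single y c) = c • ρ y.1 (s y.2) := by
  simp [ε]

theorem ε_equivariant (g : G) (p : Y G (Fin m) →₀ ℤ) :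
    ε ρ s (permRep G (Y G (Fin m)) g p) = ρ g (ε ρ s p) := by
  induction p using Finsupp.induction_linear with
  | zero => simp
  | add p q hp hq => simp only [map_add, hp, hq]
  | single y c =>
    rw [permRep_single, ε_single, ε_single, Y_smul_fst, Y_smul_snd, map_smul, map_mul]
    rfl

theorem ε_surjective (hs : Submodule.span ℤ (Set.range s) = ⊤) : Function.Surjective (ε ρ s) := by
  rw [← LinearMap.range_eq_top, eq_top_iff, ← hs, Submodule.span_le]
  rintro _ ⟨k, rfl⟩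
  refine ⟨single ((1, k) : G × Fin m) 1, ?_⟩
  have := ε_single ρ s ((1, k) : G × Fin m) 1
  rw [this]
  simp

theorem ker_stable (g : G) :
    LinearMap.ker (ε ρ s) ≤ (LinearMap.ker (ε ρ s)).comap (permRep G (Y G (Fin m)) g) := by
  intro p hp
  rw [Submodule.mem_comap, LinearMap.mem_ker, ε_equivariant, LinearMap.mem_ker.mp hp, map_zero]

end cover

/-- For a finite group G and a finitely generated G-module A there is an exact sequence 0 → P → F → A →
0 of finitely generated G-modules with P a permutation lattice and F a flasque lattice; rendered by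
equivariant ℤ-linear maps i : P → F injective, π : F → A surjective, with range i = ker π. -/
theorem result (G : Type) [Group G] [Finite G]
    (A : Type) [AddCommGroup A] [Module.Finite ℤ A] (ρ : Representation ℤ G A) :
    ∃ (P : Type) (_ : AddCommGroup P) (F : Type) (_ : AddCommGroup F)
      (_ : Module.Finite ℤ P) (_ : Module.Free ℤ P) (_ : Module.Finite ℤ F) (_ : Module.Free ℤ F)
      (σ : Representation ℤ G P) (τ : Representation ℤ G F) (i : P →ₗ[ℤ] F) (π : F →ₗ[ℤ] A),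
      GLat.IsEquivariant σ τ i ∧ GLat.IsEquivariant τ ρ π ∧ Function.Injective i ∧ Function.Surjective π ∧
      LinearMap.range i = LinearMap.ker π ∧ GLat.IsPermutation σ ∧ GLat.IsFlasque τ := by
  classical
  obtain ⟨m, s, hs⟩ := Module.Finite.exists_fin (R := ℤ) (M := A)
  set L := (Y G (Fin m) →₀ ℤ) with hL
  set τL : Representation ℤ G L := permRep G (Y G (Fin m)) with hτL
  set e : L →ₗ[ℤ] A := ε ρ s with he
  have he_eq : ∀ (g : G) (l : L), e (τL g l) = ρ g (e l) := fun g l => ε_equivariant ρ s g l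
  have he_surj : Function.Surjective e := ε_surjective ρ s hs
  set A1 : Submodule ℤ L := LinearMap.ker e with hA1
  let ρ1 : Representation ℤ G A1 := τL.subrepresentation A1 (ker_stable ρ s)
  have hρ1 : ∀ (g : G) (x : A1), ((ρ1 g x : A1) : L) = τL g (x : L) := fun g x => rfl
  obtain ⟨P1, iP1, F1, iF1, finP1, freeP1, finF1, freeF1, σP, τF1, i1, π1, hi1, hπ1, hinj1, hsurj1,
    hex1, hperm1, hfl1⟩ := Groth.Agent.S18686.result G A1 ρ1
  have hker1 : ∀ p : P1, π1 p = 0 ↔ p ∈ LinearMap.range i1 := by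
    intro p; rw [hex1, LinearMap.mem_ker]
  -- the pushout
  let d : A1 →ₗ[ℤ] P1 × L := LinearMap.prod i1 (-A1.subtype)
  have hd : ∀ x : A1, d x = (i1 x, -(x : L)) := fun x => rfl
  let Δ : Submodule ℤ (P1 × L) := LinearMap.range d
  have hΔ : ∀ w : P1 × L, w ∈ Δ ↔ ∃ x : A1, (i1 x, -(x : L)) = w := fun w => Iff.rfl
  have hΔstable : ∀ g, Δ ≤ Δ.comap ((σP.prod τL) g) := by
    rintro g _ ⟨x, rfl⟩
    refine ⟨ρ1 g x, ?_⟩
    rw [hd, hd, hρ1]
    change _ = (σP g (i1 x), τL g (-(x : L)))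
    rw [hi1 g x, map_neg]
  let τ : Representation ℤ G ((P1 × L) ⧸ Δ) := (σP.prod τL).quotient Δ hΔstable
  have hτ : ∀ (g : G) (w : P1 × L), τ g (Δ.mkQ w) = Δ.mkQ (σP g w.1, τL g w.2) := fun g w => rfl
  -- maps of the first sequence
  let jP : P1 →ₗ[ℤ] (P1 × L) ⧸ Δ := Δ.mkQ ∘ₗ LinearMap.inl ℤ P1 L
  have hle1 : Δ ≤ LinearMap.ker (e ∘ₗ LinearMap.snd ℤ P1 L) := by
    rintro _ ⟨x, rfl⟩
    rw [LinearMap.mem_ker, hd]
    change e (-(x : L)) = 0
    rw [map_neg, LinearMap.mem_ker.mp x.2, neg_zero]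
  let πA : (P1 × L) ⧸ Δ →ₗ[ℤ] A := Δ.liftQ (e ∘ₗ LinearMap.snd ℤ P1 L) hle1
  have hπA : ∀ w : P1 × L, πA (Δ.mkQ w) = e w.2 := fun w => rfl
  -- maps of the second sequence
  let jL : L →ₗ[ℤ] (P1 × L) ⧸ Δ := Δ.mkQ ∘ₗ LinearMap.inr ℤ P1 L
  have hle2 : Δ ≤ LinearMap.ker (π1 ∘ₗ LinearMap.fst ℤ P1 L) := by
    rintro _ ⟨x, rfl⟩
    rw [LinearMap.mem_ker, hd]
    change π1 (i1 x) = 0
    exact (hker1 _).mpr ⟨x, rfl⟩
  let πF : (P1 × L) ⧸ Δ →ₗ[ℤ] F1 := Δ.liftQ (π1 ∘ₗ LinearMap.fst ℤ P1 L) hle2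
  have hπF : ∀ w : P1 × L, πF (Δ.mkQ w) = π1 w.1 := fun w => rfl
  have hmk0 : ∀ w : P1 × L, Δ.mkQ w = 0 ↔ ∃ x : A1, (i1 x, -(x : L)) = w := by
    intro w
    rw [Submodule.mkQ_apply, Submodule.Quotient.mk_eq_zero]
    exact hΔ w
  -- second sequence: properties
  have hjL_eq : GLat.IsEquivariant τL τ jL := by
    intro g l
    change Δ.mkQ ((0 : P1), τL g l) = τ g (Δ.mkQ ((0 : P1), l))
    rw [hτ]
    simp only [map_zero]
  have hπF_eq : GLat.IsEquivariant τ τF1 πF := by
    intro g f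
    obtain ⟨w, rfl⟩ := Submodule.mkQ_surjective Δ f
    rw [hτ, hπF, hπF]
    exact hπ1 g w.1
  have hjL_inj : Function.Injective jL := by
    rw [injective_iff_map_eq_zero]
    intro l hl
    change Δ.mkQ ((0 : P1), l) = 0 at hl
    obtain ⟨x, hx⟩ := (hmk0 _).mp hl
    have h1 : i1 x = 0 := congrArg Prod.fst hx
    have h2 : -(x : L) = l := congrArg Prod.snd hx
    have h3 : x = 0 := hinj1 (by rw [h1, map_zero])
    rw [← h2, h3]
    simp
  have hπF_surj : Function.Surjective πF := by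
    intro f
    obtain ⟨p, rfl⟩ := hsurj1 f
    exact ⟨Δ.mkQ (p, 0), rfl⟩
  have hex2 : LinearMap.range jL = LinearMap.ker πF := by
    ext f
    constructor
    · rintro ⟨l, rfl⟩
      change π1 0 = 0
      exact map_zero _
    · intro hf
      obtain ⟨w, rfl⟩ := Submodule.mkQ_surjective Δ f
      rw [LinearMap.mem_ker, hπF] at hf
      obtain ⟨x, hx⟩ := (hker1 _).mp hf
      refine ⟨w.2 + (x : L), ?_⟩
      change Δ.mkQ ((0 : P1), w.2 + (x : L)) = Δ.mkQ w
      rw [← sub_eq_zero, ← map_sub, hmk0]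
      refine ⟨-x, ?_⟩
      refine Prod.ext ?_ ?_
      · change i1 (-x) = 0 - w.1
        rw [map_neg, hx, zero_sub]
      · change -(((-x : A1) : L)) = w.2 + (x : L) - w.2
        rw [Submodule.coe_neg, neg_neg, add_sub_cancel_left]
  -- first sequence: properties
  have hjP_eq : GLat.IsEquivariant σP τ jP := by
    intro g p
    change Δ.mkQ (σP g p, (0 : L)) = τ g (Δ.mkQ (p, (0 : L)))
    rw [hτ]
    simp only [map_zero]
  have hπA_eq : GLat.IsEquivariant τ ρ πA := by
    intro g f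
    obtain ⟨w, rfl⟩ := Submodule.mkQ_surjective Δ f
    rw [hτ, hπA, hπA]
    exact he_eq g w.2
  have hjP_inj : Function.Injective jP := by
    rw [injective_iff_map_eq_zero]
    intro p hp
    change Δ.mkQ (p, (0 : L)) = 0 at hp
    obtain ⟨x, hx⟩ := (hmk0 _).mp hp
    have h1 : i1 x = p := congrArg Prod.fst hx
    have h2 : -(x : L) = 0 := congrArg Prod.snd hx
    have h3 : x = 0 := Subtype.ext (by simpa using h2)
    rw [← h1, h3, map_zero]
  have hπA_surj : Function.Surjective πA := by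
    intro a
    obtain ⟨l, rfl⟩ := he_surj a
    exact ⟨Δ.mkQ (0, l), rfl⟩
  have hex : LinearMap.range jP = LinearMap.ker πA := by
    ext f
    constructor
    · rintro ⟨p, rfl⟩
      change e 0 = 0
      exact map_zero _
    · intro hf
      obtain ⟨w, rfl⟩ := Submodule.mkQ_surjective Δ f
      rw [LinearMap.mem_ker, hπA] at hf
      have hw2 : w.2 ∈ A1 := hf
      refine ⟨w.1 + i1 ⟨w.2, hw2⟩, ?_⟩
      change Δ.mkQ (w.1 + i1 ⟨w.2, hw2⟩, (0 : L)) = Δ.mkQ w
      rw [← sub_eq_zero, ← map_sub, hmk0]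
      refine ⟨⟨w.2, hw2⟩, ?_⟩
      refine Prod.ext ?_ ?_
      · change i1 ⟨w.2, hw2⟩ = w.1 + i1 ⟨w.2, hw2⟩ - w.1
        rw [add_sub_cancel_left]
      · change -w.2 = 0 - w.2
        rw [zero_sub]
  -- torsion freeness and flasqueness
  have tfL : Module.IsTorsionFree ℤ L := inferInstance
  have tfF1 : Module.IsTorsionFree ℤ F1 := inferInstance
  have tfF : Module.IsTorsionFree ℤ ((P1 × L) ⧸ Δ) := isTorsionFree_of_exact jL πF hex2 hjL_inj
  have hflF : GLat.IsFlasque τ :=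
    isFlasque_of_exact jL πF hjL_eq hπF_eq hjL_inj hπF_surj hex2 isFlasque_permRep hfl1
  refine ⟨P1, iP1, (P1 × L) ⧸ Δ, inferInstance, finP1, freeP1, ?_, ?_, σP, τ, jP, πA,
    hjP_eq, hπA_eq, hjP_inj, hπA_surj, hex, hperm1, hflF⟩
  · infer_instance
  · exact Module.free_of_finite_type_torsion_free'

end Groth.Agent.S18685
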