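import Groth.Statements.S18704
import Groth.Agent.S18699
import Groth.Agent.S18700
import Groth.Agent.S18702
import Groth.Agent.S18703
import Groth.Agent.Lib.Helper28.Reflexive

set_option autoImplicit false
universe u
open QGor

namespace Groth.Agent.S18704

section aux

open Groth.Agent.Lib.Helper28

/-- local form of (S_2) for reflexive modules -/
theorem sk_two_of_isReflexive_local {R : Type u} [CommRing R] [IsNoetherianRing R] [IsLocalRing R]
    (hR : min (2 : WithBot ℕ∞) (ringKrullDim R) ≤ ((LocCoh.depth R R : ℕ∞) : WithBot ℕ∞))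
    (G : Type u) [AddCommGroup G] [Module R G] [Module.Finite R G] [Module.IsReflexive R G] :
    min (2 : WithBot ℕ∞) (Module.supportDim R G) ≤ ((LocCoh.depth R G : ℕ∞) : WithBot ℕ∞) := by
  obtain ⟨n, m, g, h, hg, hex⟩ := exists_exact_of_isReflexive (A := R) G
  let e : G ≃ₗ[R] LinearMap.ker h :=
    (LinearEquiv.ofInjective g hg).trans (LinearEquiv.ofEq _ _ (LinearMap.exact_iff.mp hex).symm)
  have hdG : LocCoh.depth R G =
      LocCoh.idealDepth (IsLocalRing.maximalIdeal R) (LinearMap.ker h) :=
    Groth.Agent.Lib.Helper28.idealDepth_congr e _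
  have key := Groth.Agent.S18700.result R (IsLocalRing.maximalIdeal R) _ _ h
  have h1 : 1 ≤ LocCoh.depth R R →
      1 ≤ LocCoh.idealDepth (IsLocalRing.maximalIdeal R) (LinearMap.ker h) := fun he =>
    key.1 (le_trans he (le_idealDepth_pi_fin _ n))
  have h2 : 2 ≤ LocCoh.depth R R →
      2 ≤ LocCoh.idealDepth (IsLocalRing.maximalIdeal R) (LinearMap.ker h) := fun he =>
    key.2 (le_trans he (le_idealDepth_pi_fin _ n))
      (le_trans one_le_two (le_trans he (le_idealDepth_pi_fin _ m)))
  have hmin : min 2 (LocCoh.depth R R) ≤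
      LocCoh.idealDepth (IsLocalRing.maximalIdeal R) (LinearMap.ker h) := by
    by_cases he2 : 2 ≤ LocCoh.depth R R
    · exact le_trans (min_le_left _ _) (h2 he2)
    · by_cases he1 : 1 ≤ LocCoh.depth R R
      · have : LocCoh.depth R R ≤ 1 := by
          rw [not_le, ← one_add_one_eq_two] at he2
          exact (ENat.lt_add_one_iff (by simp)).mp he2
        exact le_trans (le_trans (min_le_right _ _) this) (h1 he1)
      · have : LocCoh.depth R R = 0 := by
          by_contra hne
          exact he1 (Order.one_le_iff_ne_zero.mpr hne)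
        rw [this]
        simp
  rw [hdG]
  calc min (2 : WithBot ℕ∞) (Module.supportDim R G)
      ≤ min (2 : WithBot ℕ∞) (ringKrullDim R) :=
        min_le_min le_rfl (Module.supportDim_le_ringKrullDim R G)
    _ ≤ min (2 : WithBot ℕ∞) ((LocCoh.depth R R : ℕ∞) : WithBot ℕ∞) := le_min (min_le_left _ _) hR
    _ = ((min 2 (LocCoh.depth R R) : ℕ∞) : WithBot ℕ∞) := by rw [WithBot.coe_min]; rfl
    _ ≤ _ := WithBot.coe_le_coe.mpr hmin

end aux

/-- Affine form. Let A be a Noetherian ring with Serre's condition (S_2), I an ideal with ht I ≥ 2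
(every prime containing I has height ≥ 2), and G a finite A-module with G_p reflexive for every
prime p not containing I. Then the following are equivalent: (i) G has (S_2) and dim Supp(G_p) ≥ 2
for every prime p ⊇ I in Supp G; (ii) depth_I G ≥ 2; (iii) G is reflexive. -/
theorem result (A : Type u) [CommRing A] [IsNoetherianRing A]
    (hA : LocCoh.HasSk 2 A A) (I : Ideal A) (hI : 2 ≤ I.height)
    (G : Type u) [AddCommGroup G] [Module A G] [Module.Finite A G]
    (hU : ∀ p : PrimeSpectrum A, ¬ I ≤ p.asIdeal →
      Module.IsReflexive (Localization.AtPrime p.asIdeal) (LocalizedModule p.asIdeal.primeCompl G)) :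
    ((LocCoh.HasSk 2 A G ∧ ∀ p : PrimeSpectrum A, I ≤ p.asIdeal → p ∈ Module.support A G →
        (2 : WithBot ℕ∞) ≤ Module.supportDim (Localization.AtPrime p.asIdeal) (LocalizedModule p.asIdeal.primeCompl G)) ↔
      2 ≤ LocCoh.idealDepth I G) ∧
    (2 ≤ LocCoh.idealDepth I G ↔ Module.IsReflexive A G) := by
  open Groth.Agent.Lib.Helper28 in
  have hdA : (2 : ℕ∞) ≤ LocCoh.idealDepth I A := by
    have := Groth.Agent.S18699.result 2 A A I hA (fun p hIp _ => by
      rw [Module.supportDim_eq_of_equiv (localizedSelfEquiv p.asIdeal.primeCompl),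
        Module.supportDim_self_eq_ringKrullDim,
        IsLocalization.AtPrime.ringKrullDim_eq_height p.asIdeal]
      have h2 : (2 : ℕ∞) ≤ p.asIdeal.height := le_trans hI (Ideal.height_mono hIp)
      have : ((2 : ℕ∞) : WithBot ℕ∞) ≤ p.asIdeal.height := WithBot.coe_le_coe.mpr h2
      simpa using this)
    simpa using this
  have hdA1 : (1 : ℕ∞) ≤ LocCoh.idealDepth I A := le_trans one_le_two hdA
  have h23 : 2 ≤ LocCoh.idealDepth I G → Module.IsReflexive A G := fun hG =>
    Groth.Agent.S18703.result A I hdA1 G hU hG
  have h32 : Module.IsReflexive A G → 2 ≤ LocCoh.idealDepth I G := fun hr => by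
    haveI := hr
    exact (Groth.Agent.S18702.result A I G).2.1 hdA
  refine ⟨⟨fun ⟨hS, hcodim⟩ => ?_, fun hG => ⟨?_, ?_⟩⟩, ⟨h23, h32⟩⟩
  · have := Groth.Agent.S18699.result 2 A G I hS (fun p hIp hp => by
      simpa using hcodim p hIp hp)
    simpa using this
  · intro p _
    by_cases hIp : I ≤ p
    · by_cases hnt : Nontrivial (LocalizedModule p.primeCompl G)
      · have := Groth.Agent.Lib.Helper28.idealDepth_le_depth_localization I p hIp (M := G)
        refine le_trans (min_le_left _ _) ?_
        have h2 : (2 : ℕ∞) ≤ LocCoh.depth (Localization.AtPrime p)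
            (LocalizedModule p.primeCompl G) := le_trans hG this
        have : ((2 : ℕ∞) : WithBot ℕ∞) ≤ ((LocCoh.depth (Localization.AtPrime p)
            (LocalizedModule p.primeCompl G) : ℕ∞) : WithBot ℕ∞) := WithBot.coe_le_coe.mpr h2
        simpa using this
      · rw [not_nontrivial_iff_subsingleton] at hnt
        rw [Module.supportDim_eq_bot_of_subsingleton]
        simp
    · haveI := hU ⟨p, inferInstance⟩ hIp
      have hR : min (2 : WithBot ℕ∞) (ringKrullDim (Localization.AtPrime p)) ≤
          ((LocCoh.depth (Localization.AtPrime p) (Localization.AtPrime p) : ℕ∞) :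
            WithBot ℕ∞) := by
        have := hA p
        rw [Module.supportDim_eq_of_equiv
            (Groth.Agent.Lib.Helper28.localizedSelfEquiv p.primeCompl),
          Module.supportDim_self_eq_ringKrullDim] at this
        unfold LocCoh.depth at this ⊢
        rw [Groth.Agent.Lib.Helper28.idealDepth_congr
          (Groth.Agent.Lib.Helper28.localizedSelfEquiv p.primeCompl)] at this
        simp only [Nat.cast_ofNat] at this
        exact this
      have := sk_two_of_isReflexive_local hR (LocalizedModule p.primeCompl G)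
      simp only [Nat.cast_ofNat]
      exact this
  · intro p hIp hp
    haveI : Nontrivial (LocalizedModule p.asIdeal.primeCompl G) := Module.mem_support_iff.mp hp
    have h1 := Groth.Agent.Lib.Helper28.idealDepth_le_supportDim_localization I p.asIdeal hIp
      (M := G)
    have h2 : ((2 : ℕ∞) : WithBot ℕ∞) ≤ ((LocCoh.idealDepth I G : ℕ∞) : WithBot ℕ∞) :=
      WithBot.coe_le_coe.mpr hG
    exact le_trans h2 h1

end Groth.Agent.S18704
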