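import Groth.Statements.S18705
import Mathlib
import Groth.Agent.Lib.Helper9.DetectFlat
import Groth.Agent.Lib.Helper4.Depth

set_option autoImplicit false
universe u
open QGor

namespace Groth.Agent.S18705


open Groth.Agent.Lib.Helper9.DetectFlat

/-- Affine-local form. Let A → B be a local homomorphism of Noetherian local rings, m the maximal ideal
of A, J an ideal of B and M a finite B-module whose localizations M_q are flat over A at all primes
q not containing J (M is flat over A off V(J)). If depth_J (M/mM) ≥ 1 (the restriction map of the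
closed fibre of M to the complement of V(J) is injective), then M is flat over A. -/
theorem result (A B : Type u) [CommRing A] [CommRing B]
    [IsNoetherianRing A] [IsNoetherianRing B] [IsLocalRing A] [IsLocalRing B] [Algebra A B]
    [IsLocalHom (algebraMap A B)] (J : Ideal B)
    (M : Type u) [AddCommGroup M] [Module B M] [Module A M] [IsScalarTower A B M] [Module.Finite B M]
    (hU : ∀ q : PrimeSpectrum B, ¬ J ≤ q.asIdeal → FlatCA.FlatAt A q.asIdeal M)
    (h1 : 1 ≤ LocCoh.idealDepth J (EGA4.FibMod A B M)) : Module.Flat A M := by
  obtain ⟨x, hxJ, hx⟩ : ∃ x ∈ J, IsSMulRegular (EGA4.FibMod A B M) x := by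
    by_cases hJtop : J • (⊤ : Submodule B (EGA4.FibMod A B M)) = ⊤
    · by_cases hJ : J = ⊤
      · exact ⟨1, hJ ▸ Submodule.mem_top, IsSMulRegular.one _⟩
      · have hJm : J ≤ IsLocalRing.maximalIdeal B := IsLocalRing.le_maximalIdeal hJ
        have hbot : (⊤ : Submodule B (EGA4.FibMod A B M)) = ⊥ :=
          Submodule.eq_bot_of_le_smul_of_le_jacobson_bot J ⊤ Module.Finite.fg_top
            (by rw [hJtop]) (by
              rw [IsLocalRing.jacobson_eq_maximalIdeal ⊥ bot_ne_top]
              exact hJm)
        have hsub : Subsingleton (EGA4.FibMod A B M) :=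
          (Submodule.subsingleton_iff B).mp (subsingleton_of_top_le_bot hbot.le)
        exact ⟨0, zero_mem _, fun a b _ => Subsingleton.elim a b⟩
    · exact (Groth.Agent.Lib.Helper4.one_le_idealDepth_iff J hJtop).mp h1
  exact flat_of_flatAt_off_of_regular A B J M hU x hxJ hx

end Groth.Agent.S18705
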