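import Groth.Statements.S18706
import Mathlib
import Groth.Agent.Lib.Helper9.DetectFlat
import Groth.Agent.Lib.Helper4.Depth

set_option autoImplicit false
universe u
open QGor

namespace Groth.Agent.S18706


open Groth.Agent.Lib.Helper9.DetectFlat RingTheory.Sequence

/-- Affine-local form. Let A → B be a local homomorphism of Noetherian local rings, m the maximal ideal
of A, J an ideal of B and M a finite B-module with M_q flat over A for every prime q not containing
J. If depth_J (M/mM) ≥ 2 (the restriction map of the closed fibre of M to the complement of V(J) is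
bijective), then depth_J (M/m^(n+1)M) ≥ 2 for every n ≥ 0 (the same holds for every infinitesimal
neighbourhood of the closed fibre). -/
theorem result (A B : Type u) [CommRing A] [CommRing B]
    [IsNoetherianRing A] [IsNoetherianRing B] [IsLocalRing A] [IsLocalRing B] [Algebra A B]
    [IsLocalHom (algebraMap A B)] (J : Ideal B)
    (M : Type u) [AddCommGroup M] [Module B M] [Module A M] [IsScalarTower A B M] [Module.Finite B M]
    (hU : ∀ q : PrimeSpectrum B, ¬ J ≤ q.asIdeal → FlatCA.FlatAt A q.asIdeal M)
    (h2 : 2 ≤ LocCoh.idealDepth J (EGA4.FibMod A B M)) (n : ℕ) :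
    2 ≤ LocCoh.idealDepth J (M ⧸ ((EGA4.mB A B) ^ (n + 1) • (⊤ : Submodule B M))) := by
  obtain ⟨x, y, hxJ, hyJ, hx, hy⟩ : ∃ x y : B, x ∈ J ∧ y ∈ J ∧
      IsSMulRegular (EGA4.FibMod A B M) x ∧
      IsSMulRegular (QuotSMulTop x (EGA4.FibMod A B M)) y := by
    by_cases hJtop : J • (⊤ : Submodule B (EGA4.FibMod A B M)) = ⊤
    · by_cases hJ : J = ⊤
      · exact ⟨1, 1, hJ ▸ Submodule.mem_top, hJ ▸ Submodule.mem_top, IsSMulRegular.one _,
          IsSMulRegular.one _⟩
      · have hJm : J ≤ IsLocalRing.maximalIdeal B := IsLocalRing.le_maximalIdeal hJ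
        have hbot : (⊤ : Submodule B (EGA4.FibMod A B M)) = ⊥ :=
          Submodule.eq_bot_of_le_smul_of_le_jacobson_bot J ⊤ Module.Finite.fg_top
            (by rw [hJtop]) (by
              rw [IsLocalRing.jacobson_eq_maximalIdeal ⊥ bot_ne_top]
              exact hJm)
        have hsub : Subsingleton (EGA4.FibMod A B M) :=
          (Submodule.subsingleton_iff B).mp (subsingleton_of_top_le_bot hbot.le)
        refine ⟨0, 0, zero_mem _, zero_mem _, fun a b _ => Subsingleton.elim a b, ?_⟩
        intro a b _
        obtain ⟨a, rfl⟩ := Submodule.mkQ_surjective _ a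
        obtain ⟨b, rfl⟩ := Submodule.mkQ_surjective _ b
        rw [Subsingleton.elim a b]
    · obtain ⟨rs, hlen, hmem, hreg⟩ :=
        Groth.Agent.Lib.Helper4.exists_isWeaklyRegular_of_le_idealDepth J hJtop 2
          (by exact_mod_cast h2)
      obtain ⟨x, y, rfl⟩ := List.length_eq_two.mp hlen
      have h1 := (isWeaklyRegular_cons_iff _ x [y]).mp hreg
      exact ⟨x, y, hmem x (by simp), hmem y (by simp), h1.1,
        (isWeaklyRegular_singleton_iff _ y).mp h1.2⟩
  haveI : Module.Flat A M := flat_of_flatAt_off_of_regular A B J M hU x hxJ hx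
  have hpow : (EGA4.mB A B) ^ (n + 1) =
      ((IsLocalRing.maximalIdeal A) ^ (n + 1)).map (algebraMap A B) := (Ideal.map_pow _ _ _).symm
  rw [hpow]
  exact two_le_idealDepth_quot J M x y hxJ hyJ hx hy _

end Groth.Agent.S18706
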