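import Groth.Statements.S18707
import Mathlib
import Groth.Agent.Lib.Helper26.KollarDepth

set_option autoImplicit false
universe u
open QGor

namespace Groth.Agent.S18707

/-- Affine form. Let A → B be a homomorphism of Noetherian rings, J an ideal of B, and 0 → F → E⁰ → E¹ →
G → 0 an exact sequence of finite B-modules such that E⁰ and E¹ are flat over A and G_q is flat over
A for every prime q not containing J. Assume that for every prime q ⊇ J with contraction p to A the
fibre stalk (E⁰)_q / p(E⁰)_q has depth ≥ 2 and (E¹)_q / p(E¹)_q has depth ≥ 1 over the fibre local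
ring B_q / pB_q. Then depth_J F ≥ 2 (the restriction map from F to its sections off V(J) is
bijective). -/
theorem result (A B : Type u) [CommRing A] [CommRing B]
    [IsNoetherianRing A] [IsNoetherianRing B] [Algebra A B] (J : Ideal B)
    (F E0 E1 G : Type u) [AddCommGroup F] [Module B F] [Module.Finite B F]
    [AddCommGroup E0] [Module B E0] [Module A E0] [IsScalarTower A B E0] [Module.Finite B E0] [Module.Flat A E0]
    [AddCommGroup E1] [Module B E1] [Module A E1] [IsScalarTower A B E1] [Module.Finite B E1] [Module.Flat A E1]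
    [AddCommGroup G] [Module B G] [Module A G] [IsScalarTower A B G] [Module.Finite B G]
    (f : F →ₗ[B] E0) (u : E0 →ₗ[B] E1) (v : E1 →ₗ[B] G)
    (hf : Function.Injective f) (hfu : Function.Exact f u) (huv : Function.Exact u v) (hv : Function.Surjective v)
    (hGU : ∀ q : PrimeSpectrum B, ¬ J ≤ q.asIdeal → FlatCA.FlatAt A q.asIdeal G)
    (h0 : ∀ q : PrimeSpectrum B, J ≤ q.asIdeal →
      2 ≤ LocCoh.idealDepth (q.asIdeal.map (algebraMap B (EGA4.FibLocRing A B q.asIdeal))) (EGA4.FibLocMod A B q.asIdeal E0))
    (h1 : ∀ q : PrimeSpectrum B, J ≤ q.asIdeal →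
      1 ≤ LocCoh.idealDepth (q.asIdeal.map (algebraMap B (EGA4.FibLocRing A B q.asIdeal))) (EGA4.FibLocMod A B q.asIdeal E1)) :
    2 ≤ LocCoh.idealDepth J F := by
  have hE0 : 2 ≤ LocCoh.idealDepth J E0 := by
    have := Groth.Agent.Lib.Helper28.le_idealDepth_of_forall_localization (M := E0) J 2
      (fun p _ hJp _ => by
        have := Groth.Agent.Lib.Helper26.KollarDepth.le_depth_module A B E0 p 2
          (h0 ⟨p, inferInstance⟩ hJp)
        exact_mod_cast this)
    exact_mod_cast this
  have hE1 : 1 ≤ LocCoh.idealDepth J E1 := by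
    have := Groth.Agent.Lib.Helper28.le_idealDepth_of_forall_localization (M := E1) J 1
      (fun p _ hJp _ => by
        have := Groth.Agent.Lib.Helper26.KollarDepth.le_depth_module A B E1 p 1
          (h1 ⟨p, inferInstance⟩ hJp)
        exact_mod_cast this)
    exact_mod_cast this
  exact Groth.Agent.Lib.Helper26.KollarDepth.two_le_idealDepth_ker J f u hf hfu hE0 hE1

end Groth.Agent.S18707
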