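import Groth.Statements.S18710
import Mathlib
import Groth.Agent.Lib.Helper4.FlatDepth

set_option autoImplicit false
universe u
open QGor

namespace Groth.Agent.S18710

open TensorProduct RingTheory.Sequence Groth.Agent.Lib.Helper4

/-- key: if a prime `q` of `B` contains the image of `Ann(n)`, then `1 ⊗ n ≠ 0` in `B ⊗ N`
(`B` flat). -/
lemma one_tmul_ne_zero_q {A B : Type u} [CommRing A] [CommRing B] [Algebra A B] [Module.Flat A B]
    {N : Type u} [AddCommGroup N] [Module A N] (n : N) (q : Ideal B) [hq : q.IsPrime]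
    (hqn : ∀ a : A, a • n = 0 → algebraMap A B a ∈ q) :
    (1 : B) ⊗ₜ[A] n ≠ 0 := by
  intro h0
  set g : A →ₗ[A] N := LinearMap.toSpanSingleton A N n with hg
  have hex : Function.Exact ((LinearMap.ker g).subtype) g := LinearMap.exact_subtype_ker_map g
  have hexB := Module.Flat.lTensor_exact B hex
  have hker : g.lTensor B ((1 : B) ⊗ₜ[A] (1 : A)) = 0 := by
    rw [LinearMap.lTensor_tmul, hg, LinearMap.toSpanSingleton_apply, one_smul, h0]
  obtain ⟨y, hy⟩ := (hexB _).mp hker
  let φ : B ⊗[A] A →ₗ[A] B ⧸ q :=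
    (Ideal.Quotient.mkₐ A q).toLinearMap ∘ₗ (TensorProduct.rid A B).toLinearMap
  have hφ0 : ∀ y : B ⊗[A] (LinearMap.ker g), φ ((LinearMap.ker g).subtype.lTensor B y) = 0 := by
    intro y
    induction y using TensorProduct.induction_on with
    | zero => simp
    | tmul b x =>
      have hx : x.1 • n = 0 := by
        have hx2 : g x.1 = 0 := LinearMap.mem_ker.mp x.2
        exact hx2
      have hxq := hqn x.1 hx
      rw [LinearMap.lTensor_tmul]
      change Ideal.Quotient.mk q
        ((TensorProduct.rid A B) (b ⊗ₜ[A] ((LinearMap.ker g).subtype x))) = 0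
      rw [TensorProduct.rid_tmul, Submodule.subtype_apply, Ideal.Quotient.eq_zero_iff_mem,
        Algebra.smul_def]
      exact q.mul_mem_right _ hxq
    | add y z hy hz => rw [map_add, map_add, hy, hz, add_zero]
  have h1 : φ ((1 : B) ⊗ₜ[A] (1 : A)) = 1 := by
    change Ideal.Quotient.mk q ((TensorProduct.rid A B) ((1 : B) ⊗ₜ[A] (1 : A))) = 1
    rw [TensorProduct.rid_tmul, one_smul, map_one]
  rw [← hy, hφ0 y] at h1
  have h1q : (1 : B) ∈ q := by
    rw [← Ideal.Quotient.eq_zero_iff_mem, map_one]; exact h1.symm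
  exact hq.ne_top ((Ideal.eq_top_iff_one q).mpr h1q)

/-- under `hI`: if `IM ≠ M` then `(IB)(B ⊗ M) ≠ B ⊗ M`. -/
lemma map_smul_top_ne_top_q {A B : Type u} [CommRing A] [CommRing B] [IsNoetherianRing A]
    [Algebra A B] [Module.Flat A B] (I : Ideal A)
    (hI : ∀ p : PrimeSpectrum A, I ≤ p.asIdeal →
      ∃ q : PrimeSpectrum B, q.asIdeal.comap (algebraMap A B) = p.asIdeal)
    (M : Type u) [AddCommGroup M] [Module A M]
    (hIM : I • (⊤ : Submodule A M) ≠ ⊤) :
    I.map (algebraMap A B) • (⊤ : Submodule B (B ⊗[A] M)) ≠ ⊤ := by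
  intro h
  have hnt : Nontrivial (M ⧸ (I • (⊤ : Submodule A M))) :=
    Submodule.Quotient.nontrivial_iff.mpr hIM
  obtain ⟨p, hp⟩ := associatedPrimes.nonempty A (M ⧸ (I • (⊤ : Submodule A M)))
  obtain ⟨hpprime, n, hpn⟩ := isAssociatedPrime_iff.mp hp
  have hIp : I ≤ p := by
    intro r hr
    rw [hpn, Submodule.mem_colon_singleton, Submodule.mem_bot]
    obtain ⟨m, rfl⟩ := Submodule.Quotient.mk_surjective _ n
    rw [← Submodule.Quotient.mk_smul, Submodule.Quotient.mk_eq_zero]
    exact Submodule.smul_mem_smul hr Submodule.mem_top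
  obtain ⟨q, hq⟩ := hI ⟨p, hpprime⟩ hIp
  have hne := one_tmul_ne_zero_q (B := B) n q.asIdeal (fun a ha => by
    have h1 : a ∈ p := by
      rw [hpn, Submodule.mem_colon_singleton, Submodule.mem_bot]; exact ha
    have h2 : a ∈ q.asIdeal.comap (algebraMap A B) := by rw [hq]; exact h1
    exact Ideal.mem_comap.mp h2)
  have hsub3 : Subsingleton ((B ⊗[A] M) ⧸
      I.map (algebraMap A B) • (⊤ : Submodule B (B ⊗[A] M))) :=
    Submodule.Quotient.subsingleton_iff.mpr h
  have hsub2 : Subsingleton (B ⊗[A] (M ⧸ (I • (⊤ : Submodule A M)))) :=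
    (TensorProduct.tensorQuotMapSMulEquivTensorQuot M (S := B) I).symm.toEquiv.subsingleton
  exact hne (Subsingleton.elim _ _)

theorem natCast_le_of_le_tensor_q {A B : Type u} [CommRing A] [CommRing B] [IsNoetherianRing A]
    [IsNoetherianRing B] [Algebra A B] [Module.Flat A B] (I : Ideal A)
    (hI : ∀ p : PrimeSpectrum A, I ≤ p.asIdeal →
      ∃ q : PrimeSpectrum B, q.asIdeal.comap (algebraMap A B) = p.asIdeal)
    (n : ℕ) : ∀ (M : Type u) [AddCommGroup M] [Module A M] [Module.Finite A M],
      (n : ℕ∞) ≤ LocCoh.idealDepth (I.map (algebraMap A B)) (B ⊗[A] M) →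
      (n : ℕ∞) ≤ LocCoh.idealDepth I M := by
  induction n with
  | zero => intro M _ _ _ _; simp
  | succ n ih =>
    intro M _ _ _ h
    push_cast at h ⊢
    by_cases hIM : I • (⊤ : Submodule A M) = ⊤
    · rw [idealDepth_of_smul_top_eq _ hIM]; exact le_top
    have hIMB : I.map (algebraMap A B) • (⊤ : Submodule B (B ⊗[A] M)) ≠ ⊤ :=
      map_smul_top_ne_top_q I hI M hIM
    have hnt : Nontrivial M := by
      by_contra hM
      rw [not_nontrivial_iff_subsingleton] at hM
      exact hIM (Subsingleton.elim _ _)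
    have h1 : 1 ≤ LocCoh.idealDepth (I.map (algebraMap A B)) (B ⊗[A] M) := le_trans (by simp) h
    obtain ⟨y, hy, hyreg⟩ := (one_le_idealDepth_iff _ hIMB).mp h1
    have hex : ∃ x ∈ I, IsSMulRegular M x := by
      by_contra hcon
      push Not at hcon
      obtain ⟨p, hp, hap⟩ := (forall_not_isSMulRegular_iff_exists_le_associatedPrime I).mp hcon
      obtain ⟨hpprime, m, hpm⟩ := isAssociatedPrime_iff.mp hp
      have hkill : ∀ r ∈ I, r • ((1 : B) ⊗ₜ[A] m) = 0 := by
        intro r hr
        have := hap hr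
        rw [hpm, Submodule.mem_colon_singleton, Submodule.mem_bot] at this
        rw [TensorProduct.smul_tmul', TensorProduct.smul_tmul, this, TensorProduct.tmul_zero]
      have hz : (1 : B) ⊗ₜ[A] m = 0 := by
        apply hyreg
        change y • ((1 : B) ⊗ₜ[A] m) = y • 0
        rw [smul_eq_zero_of_mem_map (M := B ⊗[A] M) hkill hy, smul_zero]
      obtain ⟨q, hq⟩ := hI ⟨p, hpprime⟩ hap
      exact one_tmul_ne_zero_q (B := B) m q.asIdeal (fun a ha => by
        have h1 : a ∈ p := by
          rw [hpm, Submodule.mem_colon_singleton, Submodule.mem_bot]; exact ha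
        have h2 : a ∈ q.asIdeal.comap (algebraMap A B) := by rw [hq]; exact h1
        exact Ideal.mem_comap.mp h2) hz
    obtain ⟨x, hxI, hxreg⟩ := hex
    have hxregB : IsSMulRegular (B ⊗[A] M) (algebraMap A B x) :=
      (isSMulRegular_algebraMap_iff (B ⊗[A] M) x).mpr (hxreg.lTensor B)
    have h2 := le_idealDepth_quotSMulTop_of_succ_le _ n (Ideal.mem_map_of_mem _ hxI) hxregB h
    rw [idealDepth_congr _
      (QuotSMulTop.algebraMapTensorEquivTensorQuotSMulTop x M B)] at h2
    exact (succ_le_idealDepth_iff I n).mpr (Or.inr ⟨x, hxI, hxreg, ih (QuotSMulTop x M) h2⟩)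


open TensorProduct in
/-- Affine form. Let A → B be a flat homomorphism of Noetherian rings and I an ideal of A with V(I)
contained in the image of Spec B → Spec A (every prime containing I is a contraction of a prime of
B). Then ht(IB) = ht(I) (codimension of the preimage equals codimension), and for every finite
A-module G one has depth_{IB} (B ⊗_A G) = depth_I G. -/
theorem result (A B : Type u) [CommRing A] [CommRing B]
    [IsNoetherianRing A] [IsNoetherianRing B] [Algebra A B] [Module.Flat A B] (I : Ideal A)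
    (hI : ∀ p : PrimeSpectrum A, I ≤ p.asIdeal → ∃ q : PrimeSpectrum B, q.asIdeal.comap (algebraMap A B) = p.asIdeal)
    (G : Type u) [AddCommGroup G] [Module A G] [Module.Finite A G] :
    (I.map (algebraMap A B)).height = I.height ∧
    LocCoh.idealDepth (I.map (algebraMap A B)) (B ⊗[A] G) = LocCoh.idealDepth I G := by
  refine ⟨?_, ?_⟩
  · apply le_antisymm
    · -- ht(IB) ≤ ht(I)
      rw [Ideal.height_eq_inf_minimalPrimes I]
      refine le_iInf₂ fun p hp => ?_
      haveI hpp : p.IsPrime := hp.1.1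
      obtain ⟨q, hq⟩ := hI ⟨p, hpp⟩ hp.1.2
      haveI hqp : q.asIdeal.IsPrime := q.2
      have hpq : p.map (algebraMap A B) ≤ q.asIdeal :=
        Ideal.map_le_iff_le_comap.mpr (le_of_eq hq.symm)
      obtain ⟨q', hq', hq'q⟩ := Ideal.exists_minimalPrimes_le hpq
      rw [Ideal.minimalPrimes_eq_comap] at hq'
      obtain ⟨Q, hQ, rfl⟩ := hq'
      haveI hQp : Q.IsPrime := hQ.1.1
      haveI hcp : (Ideal.comap (Ideal.Quotient.mk (p.map (algebraMap A B))) Q).IsPrime :=
        Ideal.comap_isPrime _ _
      have hle : p.map (algebraMap A B) ≤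
          Ideal.comap (Ideal.Quotient.mk (p.map (algebraMap A B))) Q := by
        intro x hx
        show Ideal.Quotient.mk (p.map (algebraMap A B)) x ∈ Q
        rw [Ideal.Quotient.eq_zero_iff_mem.mpr hx]
        exact Q.zero_mem
      haveI hlo : (Ideal.comap (Ideal.Quotient.mk (p.map (algebraMap A B))) Q).LiesOver p := by
        refine ⟨le_antisymm ?_ ?_⟩
        · exact Ideal.map_le_iff_le_comap.mp hle
        · exact le_of_le_of_eq (Ideal.comap_mono hq'q) hq
      have hht := Ideal.height_eq_height_add_of_liesOver_of_hasGoingDown p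
        (Ideal.comap (Ideal.Quotient.mk (p.map (algebraMap A B))) Q)
      rw [Ideal.map_comap_of_surjective _ Ideal.Quotient.mk_surjective,
        Ideal.height_eq_zero_iff.mpr hQ, add_zero] at hht
      rw [← hht]
      exact Ideal.height_mono (le_trans (Ideal.map_mono hp.1.2) hle)
    · -- ht(I) ≤ ht(IB)
      rw [Ideal.height_eq_inf_minimalPrimes (I.map (algebraMap A B))]
      refine le_iInf₂ fun q hq => ?_
      haveI hqp : q.IsPrime := hq.1.1
      have hIq : I ≤ q.under A := Ideal.map_le_iff_le_comap.mp hq.1.2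
      have hht := Ideal.height_eq_height_add_of_liesOver_of_hasGoingDown (q.under A) q
      rw [hht]
      exact le_trans (Ideal.height_mono hIq) le_self_add
  · refine le_antisymm ?_ (idealDepth_le_idealDepth_tensor G I)
    rw [← ENat.forall_natCast_le_iff_le]
    intro n hn
    exact natCast_le_of_le_tensor_q I hI n G hn

end Groth.Agent.S18710
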