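import Groth.Statements.S18711
import Mathlib
import Groth.Agent.S18707
import Groth.Agent.S18722
import Groth.Agent.Lib.Helper9.KollarBC2

set_option autoImplicit false
universe u
open QGor

namespace Groth.Agent.S18711

open TensorProduct in
/-- Affine form. Let A → B be a flat homomorphism of Noetherian rings, J an ideal of B such that for
every prime q ⊇ J with contraction p the fibre local ring B_q/pB_q has depth ≥ 2, A → A′ a
homomorphism of Noetherian rings and B′ = A′ ⊗_A B the (Noetherian) pushout. Let 0 → F → E⁰ → E¹ → G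
→ 0 be an exact sequence of finite B-modules with E⁰, E¹ projective and F_q, G_q free for every
prime q not containing J. Then F is reflexive; the kernel K′ of B′ ⊗_B E⁰ → B′ ⊗_B E¹ is a reflexive
B′-module with depth_{JB′} K′ ≥ 2 (so it is the module of sections of the pull-back of F off
V(JB′)); and K′ is flat over A′ with depth ≥ 2 along JB′ on every fibre stalk K′_{q′}/p′K′_{q′} if
and only if B′ ⊗_B G is flat over A′. (The published statement phrases the last left-hand condition
as the relative S₂ condition of K′ over A′; the two agree when the fibres of Spec B′ → Spec A′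
satisfy S₂ off V(JB′), and without that the relative S₂ form fails already for A = A′ a field, J =
B, F = E⁰ = B not S₂ and E¹ = G = 0, so the fibrewise-depth form, which is what the proof
establishes, is stated.) -/
theorem result (A B : Type u) [CommRing A] [CommRing B] [IsNoetherianRing A] [IsNoetherianRing B] [Algebra A B]
    (A' B' : Type u) [CommRing A'] [CommRing B'] [IsNoetherianRing A'] [IsNoetherianRing B']
    [Algebra A A'] [Algebra B B'] [Algebra A' B'] [Algebra A B'] [IsScalarTower A B B'] [IsScalarTower A A' B']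
    [Algebra.IsPushout A B A' B'] [Module.Flat A B] (J : Ideal B)
    (hZ : ∀ q : PrimeSpectrum B, J ≤ q.asIdeal →
      2 ≤ LocCoh.idealDepth (q.asIdeal.map (algebraMap B (EGA4.FibLocRing A B q.asIdeal))) (EGA4.FibLocRing A B q.asIdeal))
    (F E0 E1 G : Type u) [AddCommGroup F] [Module B F] [Module.Finite B F]
    [AddCommGroup E0] [Module B E0] [Module.Finite B E0] [Module.Projective B E0]
    [AddCommGroup E1] [Module B E1] [Module.Finite B E1] [Module.Projective B E1]
    [AddCommGroup G] [Module B G] [Module.Finite B G]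
    (f : F →ₗ[B] E0) (u : E0 →ₗ[B] E1) (v : E1 →ₗ[B] G)
    (hf : Function.Injective f) (hfu : Function.Exact f u) (huv : Function.Exact u v) (hv : Function.Surjective v)
    (hFU : ∀ q : PrimeSpectrum B, ¬ J ≤ q.asIdeal → Module.Free (Localization.AtPrime q.asIdeal) (LocalizedModule q.asIdeal.primeCompl F))
    (hGU : ∀ q : PrimeSpectrum B, ¬ J ≤ q.asIdeal → Module.Free (Localization.AtPrime q.asIdeal) (LocalizedModule q.asIdeal.primeCompl G)) :
    Module.IsReflexive B F ∧
    Module.IsReflexive B' (LinearMap.ker (u.baseChange B')) ∧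
    2 ≤ LocCoh.idealDepth (J.map (algebraMap B B')) (LinearMap.ker (u.baseChange B')) ∧
    ((∀ q' : PrimeSpectrum B', FlatCA.FlatAt A' q'.asIdeal (LinearMap.ker (u.baseChange B')) ∧
        2 ≤ LocCoh.idealDepth ((J.map (algebraMap B B')).map (algebraMap B' (EGA4.FibLocRing A' B' q'.asIdeal)))
          (EGA4.FibLocMod A' B' q'.asIdeal (LinearMap.ker (u.baseChange B')))) ↔
      Module.Flat A' (B' ⊗[B] G)) := by
  classical
  -- `A`-module structures
  letI mF : Module A F := Module.compHom F (algebraMap A B)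
  haveI tF : IsScalarTower A B F := IsScalarTower.of_algebraMap_smul fun _ _ => rfl
  letI mE0 : Module A E0 := Module.compHom E0 (algebraMap A B)
  haveI tE0 : IsScalarTower A B E0 := IsScalarTower.of_algebraMap_smul fun _ _ => rfl
  letI mE1 : Module A E1 := Module.compHom E1 (algebraMap A B)
  haveI tE1 : IsScalarTower A B E1 := IsScalarTower.of_algebraMap_smul fun _ _ => rfl
  letI mG : Module A G := Module.compHom G (algebraMap A B)
  haveI tG : IsScalarTower A B G := IsScalarTower.of_algebraMap_smul fun _ _ => rfl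
  haveI flE0 : Module.Flat A E0 := Module.Flat.trans A B E0
  haveI flE1 : Module.Flat A E1 := Module.Flat.trans A B E1
  -- Part 1
  have h0 : ∀ q : PrimeSpectrum B, J ≤ q.asIdeal →
      2 ≤ LocCoh.idealDepth (q.asIdeal.map (algebraMap B (EGA4.FibLocRing A B q.asIdeal)))
        (EGA4.FibLocMod A B q.asIdeal E0) := fun q hq =>
    (Groth.Agent.Lib.Helper9.KollarBC2.fib_depth_proj A B E0 q.asIdeal _).2 (hZ q hq)
  have h1 : ∀ q : PrimeSpectrum B, J ≤ q.asIdeal →
      1 ≤ LocCoh.idealDepth (q.asIdeal.map (algebraMap B (EGA4.FibLocRing A B q.asIdeal)))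
        (EGA4.FibLocMod A B q.asIdeal E1) := fun q hq =>
    (Groth.Agent.Lib.Helper9.KollarBC2.fib_depth_proj A B E1 q.asIdeal _).1
      (le_trans (by norm_num) (hZ q hq))
  have hGUf : ∀ q : PrimeSpectrum B, ¬ J ≤ q.asIdeal → FlatCA.FlatAt A q.asIdeal G :=
    fun q hq => Groth.Agent.Lib.Helper9.KollarBC2.flat_of_free_localized A B G q.asIdeal (hGU q hq)
  have hdF : 2 ≤ LocCoh.idealDepth J F :=
    Groth.Agent.S18707.result A B J F E0 E1 G f u v hf hfu huv hv hGUf h0 h1
  have hZ1 : ∀ q : PrimeSpectrum B, J ≤ q.asIdeal →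
      1 ≤ LocCoh.idealDepth (q.asIdeal.map (algebraMap B (EGA4.FibLocRing A B q.asIdeal)))
        (EGA4.FibLocRing A B q.asIdeal) := fun q hq => le_trans (by norm_num) (hZ q hq)
  have hreflF : Module.IsReflexive B F := by
    refine (Groth.Agent.S18722.result A B J hZ1 F).1 ?_ hdF
    intro q hq
    haveI := hFU q hq
    infer_instance
  refine ⟨hreflF, ?_⟩
  -- Part 2: the base-changed data
  haveI flB' : Module.Flat A' B' := by
    haveI : Algebra.IsPushout A A' B B' := Algebra.IsPushout.symm inferInstance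
    exact Module.Flat.isBaseChange (R := A) (S := A') (M := B) B'
      (Algebra.IsPushout.out (R := A) (S := A') (R' := B) (S' := B'))
  have hZ' : ∀ q' : PrimeSpectrum B', J.map (algebraMap B B') ≤ q'.asIdeal →
      2 ≤ LocCoh.idealDepth (q'.asIdeal.map (algebraMap B' (EGA4.FibLocRing A' B' q'.asIdeal)))
        (EGA4.FibLocRing A' B' q'.asIdeal) := by
    intro q' hq'
    rw [Groth.Agent.Lib.Helper26.KollarDepth.map_fib_eq]
    have hJq : J ≤ q'.asIdeal.comap (algebraMap B B') := Ideal.map_le_iff_le_comap.mp hq'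
    have h := hZ ⟨q'.asIdeal.comap (algebraMap B B'), inferInstance⟩ hJq
    rw [Groth.Agent.Lib.Helper26.KollarDepth.map_fib_eq] at h
    exact le_trans h
      (Groth.Agent.Lib.Helper9.KollarBC1.depth_fibLocRing_le_baseChange A B A' B' q'.asIdeal)
  have huv' : Function.Exact (u.baseChange B') (v.baseChange B') := by
    rw [LinearMap.baseChange_eq_ltensor, LinearMap.baseChange_eq_ltensor]
    exact lTensor_exact B' huv hv
  have hv' : Function.Surjective (v.baseChange B') := by
    rw [LinearMap.baseChange_eq_ltensor]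
    exact LinearMap.lTensor_surjective B' hv
  have hf' : Function.Injective (LinearMap.ker (u.baseChange B')).subtype :=
    Submodule.injective_subtype _
  have hfu' : Function.Exact (LinearMap.ker (u.baseChange B')).subtype (u.baseChange B') :=
    LinearMap.exact_subtype_ker_map _
  haveI flE0' : Module.Flat A' (B' ⊗[B] E0) := Module.Flat.trans A' B' (B' ⊗[B] E0)
  haveI flE1' : Module.Flat A' (B' ⊗[B] E1) := Module.Flat.trans A' B' (B' ⊗[B] E1)
  have hGU'free : ∀ q' : PrimeSpectrum B', ¬ J.map (algebraMap B B') ≤ q'.asIdeal →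
      Module.Free (Localization.AtPrime q'.asIdeal)
        (LocalizedModule q'.asIdeal.primeCompl (B' ⊗[B] G)) := by
    intro q' hq'
    refine Groth.Agent.Lib.Helper9.KollarBC2.free_localized_baseChange B B' G q'.asIdeal ?_
    exact hGU ⟨q'.asIdeal.comap (algebraMap B B'), inferInstance⟩
      (fun h => hq' (Ideal.map_le_iff_le_comap.mpr h))
  have hGU'f : ∀ q' : PrimeSpectrum B', ¬ J.map (algebraMap B B') ≤ q'.asIdeal →
      FlatCA.FlatAt A' q'.asIdeal (B' ⊗[B] G) := fun q' hq' =>
    Groth.Agent.Lib.Helper9.KollarBC2.flat_of_free_localized A' B' (B' ⊗[B] G) q'.asIdeal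
      (hGU'free q' hq')
  have h0' : ∀ q' : PrimeSpectrum B', J.map (algebraMap B B') ≤ q'.asIdeal →
      2 ≤ LocCoh.idealDepth (q'.asIdeal.map (algebraMap B' (EGA4.FibLocRing A' B' q'.asIdeal)))
        (EGA4.FibLocMod A' B' q'.asIdeal (B' ⊗[B] E0)) := fun q' hq' =>
    (Groth.Agent.Lib.Helper9.KollarBC2.fib_depth_proj A' B' (B' ⊗[B] E0) q'.asIdeal _).2
      (hZ' q' hq')
  have h1' : ∀ q' : PrimeSpectrum B', J.map (algebraMap B B') ≤ q'.asIdeal →
      1 ≤ LocCoh.idealDepth (q'.asIdeal.map (algebraMap B' (EGA4.FibLocRing A' B' q'.asIdeal)))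
        (EGA4.FibLocMod A' B' q'.asIdeal (B' ⊗[B] E1)) := fun q' hq' =>
    (Groth.Agent.Lib.Helper9.KollarBC2.fib_depth_proj A' B' (B' ⊗[B] E1) q'.asIdeal _).1
      (le_trans (by norm_num) (hZ' q' hq'))
  have hdK : 2 ≤ LocCoh.idealDepth (J.map (algebraMap B B')) (LinearMap.ker (u.baseChange B')) :=
    Groth.Agent.S18707.result A' B' (J.map (algebraMap B B')) (LinearMap.ker (u.baseChange B'))
      (B' ⊗[B] E0) (B' ⊗[B] E1) (B' ⊗[B] G) (LinearMap.ker (u.baseChange B')).subtype
      (u.baseChange B') (v.baseChange B') hf' hfu' huv' hv' hGU'f h0' h1'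
  have hZ1' : ∀ q' : PrimeSpectrum B', J.map (algebraMap B B') ≤ q'.asIdeal →
      1 ≤ LocCoh.idealDepth (q'.asIdeal.map (algebraMap B' (EGA4.FibLocRing A' B' q'.asIdeal)))
        (EGA4.FibLocRing A' B' q'.asIdeal) := fun q' hq' =>
    le_trans (by norm_num) (hZ' q' hq')
  have hreflK : Module.IsReflexive B' (LinearMap.ker (u.baseChange B')) := by
    refine (Groth.Agent.S18722.result A' B' (J.map (algebraMap B B')) hZ1'
      (LinearMap.ker (u.baseChange B'))).1 ?_ hdK
    intro q' hq'
    exact Groth.Agent.Lib.Helper9.KollarBC2.isReflexive_localized_of_fourTerm q'.asIdeal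
      (LinearMap.ker (u.baseChange B')).subtype (u.baseChange B') (v.baseChange B')
      hf' hfu' huv' hv' (hGU'free q' hq')
  refine ⟨hreflK, hdK, ?_⟩
  -- Part 3
  have H0 : ∀ (q' : Ideal B') [q'.IsPrime], 2 ≤ LocCoh.idealDepth
      ((J.map (algebraMap B B')).map (algebraMap B' (Localization.AtPrime q')))
      (EGA4.FibLocMod A' B' q' (B' ⊗[B] E0)) := by
    intro q' _
    have := Groth.Agent.Lib.Helper9.KollarGlobal.p2i A' B' (J.map (algebraMap B B'))
      (B' ⊗[B] E0) q' 2
      (fun q'' _ hJq' _ _ => by exact_mod_cast h0' ⟨q'', inferInstance⟩ hJq')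
    exact_mod_cast this
  have H1 : ∀ (q' : Ideal B') [q'.IsPrime], 1 ≤ LocCoh.idealDepth
      ((J.map (algebraMap B B')).map (algebraMap B' (Localization.AtPrime q')))
      (EGA4.FibLocMod A' B' q' (B' ⊗[B] E1)) := by
    intro q' _
    have := Groth.Agent.Lib.Helper9.KollarGlobal.p2i A' B' (J.map (algebraMap B B'))
      (B' ⊗[B] E1) q' 1
      (fun q'' _ hJq' _ _ => by exact_mod_cast h1' ⟨q'', inferInstance⟩ hJq')
    exact_mod_cast this
  constructor
  · intro h
    refine Groth.Agent.Lib.Helper9.KollarBC2.flat_of_forall_localized A' B' (B' ⊗[B] G) ?_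
    intro q' _
    obtain ⟨c1, -⟩ := Groth.Agent.Lib.Helper9.KollarGlobal.core A' B' (J.map (algebraMap B B'))
      (LinearMap.ker (u.baseChange B')) (B' ⊗[B] E0) (B' ⊗[B] E1) (B' ⊗[B] G)
      (LinearMap.ker (u.baseChange B')).subtype (u.baseChange B') (v.baseChange B')
      hf' hfu' huv' hv' hGU'f q' (H0 q') (H1 q')
    apply c1.mp
    rw [← Groth.Agent.Lib.Helper9.KollarBC2.idealDepth_fib_conv]
    exact (h ⟨q', inferInstance⟩).2
  · intro hG' q'
    have hGq : Module.Flat A' (LocalizedModule q'.asIdeal.primeCompl (B' ⊗[B] G)) :=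
      Groth.Agent.Lib.Helper9.KollarS2.flat_localizedModule (A := A') q'.asIdeal.primeCompl
        (B' ⊗[B] G)
    obtain ⟨c1, c2⟩ := Groth.Agent.Lib.Helper9.KollarGlobal.core A' B' (J.map (algebraMap B B'))
      (LinearMap.ker (u.baseChange B')) (B' ⊗[B] E0) (B' ⊗[B] E1) (B' ⊗[B] G)
      (LinearMap.ker (u.baseChange B')).subtype (u.baseChange B') (v.baseChange B')
      hf' hfu' huv' hv' hGU'f q'.asIdeal (H0 q'.asIdeal) (H1 q'.asIdeal)
    refine ⟨c2 hGq, ?_⟩
    rw [Groth.Agent.Lib.Helper9.KollarBC2.idealDepth_fib_conv]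
    exact c1.mpr hGq

end Groth.Agent.S18711
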