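import Groth.Statements.S18718
import Mathlib
import Groth.Agent.S18707
import Groth.Agent.S18709
import Groth.Agent.S18711
import Groth.Agent.S18722
import Groth.Agent.Lib.Helper9.KollarBC3

set_option autoImplicit false
universe u
open QGor

namespace Groth.Agent.S18718

open TensorProduct in
/-- Affine form. Let A → B be a flat homomorphism of Noetherian rings, J an ideal of B such that the
fibre local ring B_q/pB_q has depth ≥ 2 at every prime q ⊇ J (p its contraction), A → A′ a
homomorphism of Noetherian rings with Noetherian pushout B′ = A′ ⊗_A B, and F a finite B-module with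
F_q free for every prime q not containing J. Then depth_J (F^∨∨) ≥ 2 (the double dual is the module
of sections of F off V(J)); the natural map (B′ ⊗_B F)^∨∨ → (B′ ⊗_B F^∨∨)^∨∨ obtained by dualising
twice the base change of F → F^∨∨ is bijective; and if moreover F is flat over A and the fibre
stalks F_q/pF_q have depth ≥ 2 at all primes q ⊇ J, then F and B′ ⊗_B F are reflexive. -/
theorem result (A B : Type u) [CommRing A] [CommRing B] [IsNoetherianRing A] [IsNoetherianRing B] [Algebra A B]
    (A' B' : Type u) [CommRing A'] [CommRing B'] [IsNoetherianRing A'] [IsNoetherianRing B']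
    [Algebra A A'] [Algebra B B'] [Algebra A' B'] [Algebra A B'] [IsScalarTower A B B'] [IsScalarTower A A' B']
    [Algebra.IsPushout A B A' B'] [Module.Flat A B] (J : Ideal B)
    (hZ : ∀ q : PrimeSpectrum B, J ≤ q.asIdeal →
      2 ≤ LocCoh.idealDepth (q.asIdeal.map (algebraMap B (EGA4.FibLocRing A B q.asIdeal))) (EGA4.FibLocRing A B q.asIdeal))
    (F : Type u) [AddCommGroup F] [Module B F] [Module A F] [IsScalarTower A B F] [Module.Finite B F]
    (hFU : ∀ q : PrimeSpectrum B, ¬ J ≤ q.asIdeal → Module.Free (Localization.AtPrime q.asIdeal) (LocalizedModule q.asIdeal.primeCompl F)) :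
    2 ≤ LocCoh.idealDepth J (Module.Dual B (Module.Dual B F)) ∧
    Function.Bijective (((Module.Dual.eval B F).baseChange B').dualMap.dualMap) ∧
    (Module.Flat A F →
      (∀ q : PrimeSpectrum B, J ≤ q.asIdeal →
        2 ≤ LocCoh.idealDepth (q.asIdeal.map (algebraMap B (EGA4.FibLocRing A B q.asIdeal))) (EGA4.FibLocMod A B q.asIdeal F)) →
      Module.IsReflexive B F ∧ Module.IsReflexive B' (B' ⊗[B] F)) := by
  classical
  have hdB : 2 ≤ LocCoh.idealDepth J B :=
    Groth.Agent.Lib.Helper9.KollarBC3.two_le_idealDepth_ring A B J hZ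
  haveI flB' : Module.Flat A' B' := by
    haveI : Algebra.IsPushout A A' B B' := Algebra.IsPushout.symm inferInstance
    exact Module.Flat.isBaseChange (R := A) (S := A') (M := B) B'
      (Algebra.IsPushout.out (R := A) (S := A') (R' := B) (S' := B'))
  have hZ' : ∀ q' : PrimeSpectrum B', J.map (algebraMap B B') ≤ q'.asIdeal →
      2 ≤ LocCoh.idealDepth (q'.asIdeal.map (algebraMap B' (EGA4.FibLocRing A' B' q'.asIdeal)))
        (EGA4.FibLocRing A' B' q'.asIdeal) := by
    intro q' hq'
    rw [Groth.Agent.Lib.Helper26.KollarDepth.map_fib_eq]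
    have hJq : J ≤ q'.asIdeal.comap (algebraMap B B') := Ideal.map_le_iff_le_comap.mp hq'
    have h := hZ ⟨q'.asIdeal.comap (algebraMap B B'), inferInstance⟩ hJq
    rw [Groth.Agent.Lib.Helper26.KollarDepth.map_fib_eq] at h
    exact le_trans h
      (Groth.Agent.Lib.Helper9.KollarBC1.depth_fibLocRing_le_baseChange A B A' B' q'.asIdeal)
  have hdB' : 2 ≤ LocCoh.idealDepth (J.map (algebraMap B B')) B' :=
    Groth.Agent.Lib.Helper9.KollarBC3.two_le_idealDepth_ring A' B' _ hZ'
  refine ⟨Groth.Agent.Lib.Helper9.KollarBC3.two_le_idealDepth_dual B J (Module.Dual B F) hdB,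
    ?_, ?_⟩
  · refine Groth.Agent.Lib.Helper9.KollarBC3.dualMap_dualMap_baseChange_bijective B B' J hdB'
      (Module.Dual.eval B F) ?_
    intro q _ hq
    haveI := hFU ⟨q, inferInstance⟩ hq
    exact (Groth.Agent.Lib.Helper4.isReflexive_localizedModule_iff B F q).mp inferInstance
  · intro hflat hfib
    have hdF : 2 ≤ LocCoh.idealDepth J F := by
      have := Groth.Agent.Lib.Helper28.le_idealDepth_of_forall_localization (M := F) J 2
        (fun p _ hJp _ => by
          exact_mod_cast Groth.Agent.Lib.Helper26.KollarDepth.le_depth_module A B F p 2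
            (hfib ⟨p, inferInstance⟩ hJp))
      exact_mod_cast this
    have hZ1 : ∀ q : PrimeSpectrum B, J ≤ q.asIdeal →
        1 ≤ LocCoh.idealDepth (q.asIdeal.map (algebraMap B (EGA4.FibLocRing A B q.asIdeal)))
          (EGA4.FibLocRing A B q.asIdeal) := fun q hq => le_trans (by norm_num) (hZ q hq)
    have hreflF : Module.IsReflexive B F := by
      refine (Groth.Agent.S18722.result A B J hZ1 F).1 ?_ hdF
      intro q hq
      haveI := hFU q hq
      infer_instance
    refine ⟨hreflF, ?_⟩
    haveI := hreflF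
    obtain ⟨n, m, g, h, hg, hex, hGfree⟩ := Groth.Agent.S18709.result B J F hFU
    have hexq : Function.Exact h (LinearMap.range h).mkQ := LinearMap.exact_map_mkQ_range h
    have hsurj : Function.Surjective (LinearMap.range h).mkQ := Submodule.mkQ_surjective _
    haveI flE0 : Module.Flat A (Fin n → B) := Module.Flat.trans A B (Fin n → B)
    haveI flE1 : Module.Flat A (Fin m → B) := Module.Flat.trans A B (Fin m → B)
    have h0 : ∀ q : PrimeSpectrum B, J ≤ q.asIdeal →
        2 ≤ LocCoh.idealDepth (q.asIdeal.map (algebraMap B (EGA4.FibLocRing A B q.asIdeal)))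
          (EGA4.FibLocMod A B q.asIdeal (Fin n → B)) := fun q hq =>
      (Groth.Agent.Lib.Helper9.KollarBC2.fib_depth_proj A B (Fin n → B) q.asIdeal _).2 (hZ q hq)
    have h1 : ∀ q : PrimeSpectrum B, J ≤ q.asIdeal →
        1 ≤ LocCoh.idealDepth (q.asIdeal.map (algebraMap B (EGA4.FibLocRing A B q.asIdeal)))
          (EGA4.FibLocMod A B q.asIdeal (Fin m → B)) := fun q hq =>
      (Groth.Agent.Lib.Helper9.KollarBC2.fib_depth_proj A B (Fin m → B) q.asIdeal _).1
        (le_trans (by norm_num) (hZ q hq))
    have H0 : ∀ (q : Ideal B) [q.IsPrime], 2 ≤ LocCoh.idealDepth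
        (J.map (algebraMap B (Localization.AtPrime q))) (EGA4.FibLocMod A B q (Fin n → B)) := by
      intro q _
      have := Groth.Agent.Lib.Helper9.KollarGlobal.p2i A B J (Fin n → B) q 2
        (fun q' _ hJq' _ _ => by exact_mod_cast h0 ⟨q', inferInstance⟩ hJq')
      exact_mod_cast this
    have H1 : ∀ (q : Ideal B) [q.IsPrime], 1 ≤ LocCoh.idealDepth
        (J.map (algebraMap B (Localization.AtPrime q))) (EGA4.FibLocMod A B q (Fin m → B)) := by
      intro q _
      have := Groth.Agent.Lib.Helper9.KollarGlobal.p2i A B J (Fin m → B) q 1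
        (fun q' _ hJq' _ _ => by exact_mod_cast h1 ⟨q', inferInstance⟩ hJq')
      exact_mod_cast this
    have hGUf : ∀ q : PrimeSpectrum B, ¬ J ≤ q.asIdeal →
        FlatCA.FlatAt A q.asIdeal ((Fin m → B) ⧸ LinearMap.range h) := fun q hq =>
      Groth.Agent.Lib.Helper9.KollarBC2.flat_of_free_localized A B _ q.asIdeal (hGfree q hq)
    haveI hGflat : Module.Flat A ((Fin m → B) ⧸ LinearMap.range h) := by
      refine Groth.Agent.Lib.Helper9.KollarBC2.flat_of_forall_localized A B _ ?_
      intro q _
      obtain ⟨c1, -⟩ := Groth.Agent.Lib.Helper9.KollarGlobal.core A B J F (Fin n → B) (Fin m → B)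
        ((Fin m → B) ⧸ LinearMap.range h) g h (LinearMap.range h).mkQ hg hex hexq hsurj hGUf q
        (H0 q) (H1 q)
      apply c1.mp
      have := Groth.Agent.Lib.Helper9.KollarGlobal.p2i A B J F q 2
        (fun q' _ hJq' _ _ => by exact_mod_cast hfib ⟨q', inferInstance⟩ hJq')
      exact_mod_cast this
    obtain ⟨e⟩ := Groth.Agent.Lib.Helper9.KollarBC3.nonempty_equiv_ker_baseChange A B A' B'
      g h (LinearMap.range h).mkQ hg hex hexq hsurj
    haveI hK := (Groth.Agent.S18711.result A B A' B' J hZ F (Fin n → B) (Fin m → B)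
      ((Fin m → B) ⧸ LinearMap.range h) g h (LinearMap.range h).mkQ hg hex hexq hsurj hFU
      hGfree).2.1
    exact Module.equiv e.symm

end Groth.Agent.S18718
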