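import Groth.Statements.S18725
import Mathlib
import Groth.Agent.Lib.Helper9.KollarGlobal

set_option autoImplicit false
universe u
open QGor

namespace Groth.Agent.S18725

/-- Affine form of the equivalence (c) ⇔ (d). Let A → B be a homomorphism of finite type between
Noetherian rings, J an ideal of B and 0 → F → E⁰ → E¹ → G → 0 an exact sequence of finite B-modules
such that E⁰, E¹ are flat over A, G_q is flat over A for every prime q not containing J, and for
every prime q ⊇ J with contraction p the fibre stalk E⁰_q/pE⁰_q has depth ≥ 2 and E¹_q/pE¹_q has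
depth ≥ 1. Then for a prime n of B the following are equivalent: G is flat over A at n; there is a
basic open neighbourhood D(s) of n such that at every prime q ∈ D(s) the module F is flat over A at
q and, if q ⊇ J, the fibre stalk F_q/pF_q has depth ≥ 2 (the restriction maps of the fibres of F off
V(J) are bijective on D(s)). -/
theorem result (A B : Type u) [CommRing A] [CommRing B]
    [IsNoetherianRing A] [IsNoetherianRing B] [Algebra A B] (hft : Algebra.FiniteType A B) (J : Ideal B)
    (F E0 E1 G : Type u) [AddCommGroup F] [Module B F] [Module A F] [IsScalarTower A B F] [Module.Finite B F]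
    [AddCommGroup E0] [Module B E0] [Module A E0] [IsScalarTower A B E0] [Module.Finite B E0] [Module.Flat A E0]
    [AddCommGroup E1] [Module B E1] [Module A E1] [IsScalarTower A B E1] [Module.Finite B E1] [Module.Flat A E1]
    [AddCommGroup G] [Module B G] [Module A G] [IsScalarTower A B G] [Module.Finite B G]
    (f : F →ₗ[B] E0) (u : E0 →ₗ[B] E1) (v : E1 →ₗ[B] G)
    (hf : Function.Injective f) (hfu : Function.Exact f u) (huv : Function.Exact u v) (hv : Function.Surjective v)
    (hGU : ∀ q : PrimeSpectrum B, ¬ J ≤ q.asIdeal → FlatCA.FlatAt A q.asIdeal G)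
    (h0 : ∀ q : PrimeSpectrum B, J ≤ q.asIdeal →
      2 ≤ LocCoh.idealDepth (q.asIdeal.map (algebraMap B (EGA4.FibLocRing A B q.asIdeal))) (EGA4.FibLocMod A B q.asIdeal E0))
    (h1 : ∀ q : PrimeSpectrum B, J ≤ q.asIdeal →
      1 ≤ LocCoh.idealDepth (q.asIdeal.map (algebraMap B (EGA4.FibLocRing A B q.asIdeal))) (EGA4.FibLocMod A B q.asIdeal E1))
    (n : PrimeSpectrum B) :
    FlatCA.FlatAt A n.asIdeal G ↔
      ∃ s : B, s ∉ n.asIdeal ∧ ∀ q : PrimeSpectrum B, s ∉ q.asIdeal →
        FlatCA.FlatAt A q.asIdeal F ∧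
        (J ≤ q.asIdeal →
          2 ≤ LocCoh.idealDepth (q.asIdeal.map (algebraMap B (EGA4.FibLocRing A B q.asIdeal))) (EGA4.FibLocMod A B q.asIdeal F)) := by
  have H0 : ∀ (q : Ideal B) [q.IsPrime], 2 ≤ LocCoh.idealDepth
      (J.map (algebraMap B (Localization.AtPrime q))) (EGA4.FibLocMod A B q E0) := by
    intro q _
    have := Groth.Agent.Lib.Helper9.KollarGlobal.p2i A B J E0 q 2
      (fun q' _ hJq' _ _ => by exact_mod_cast h0 ⟨q', inferInstance⟩ hJq')
    exact_mod_cast this
  have H1 : ∀ (q : Ideal B) [q.IsPrime], 1 ≤ LocCoh.idealDepth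
      (J.map (algebraMap B (Localization.AtPrime q))) (EGA4.FibLocMod A B q E1) := by
    intro q _
    have := Groth.Agent.Lib.Helper9.KollarGlobal.p2i A B J E1 q 1
      (fun q' _ hJq' _ _ => by exact_mod_cast h1 ⟨q', inferInstance⟩ hJq')
    exact_mod_cast this
  constructor
  · intro hG
    haveI : Algebra.FinitePresentation A B := Algebra.FinitePresentation.of_finiteType.mp hft
    haveI : Module.FinitePresentation B G := Module.finitePresentation_of_finite B G
    obtain ⟨s, hs, hflat⟩ := Groth.Agent.Lib.Helper14.FlatOpen.exists_flatOnD (A := A) (N := G)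
      n.asIdeal hG
    refine ⟨s, hs, fun q hq => ?_⟩
    have hGq : Module.Flat A (LocalizedModule q.asIdeal.primeCompl G) := hflat q.asIdeal hq
    obtain ⟨c1, c2⟩ := Groth.Agent.Lib.Helper9.KollarGlobal.core A B J F E0 E1 G f u v hf hfu huv
      hv hGU q.asIdeal (H0 q.asIdeal) (H1 q.asIdeal)
    refine ⟨c2 hGq, fun hJq => ?_⟩
    exact le_trans (c1.mpr hGq) (Groth.Agent.Lib.Helper9.KollarGlobal.i2p A B J F q.asIdeal hJq)
  · rintro ⟨s, hs, h⟩
    by_cases hJn : J ≤ n.asIdeal
    · obtain ⟨c1, -⟩ := Groth.Agent.Lib.Helper9.KollarGlobal.core A B J F E0 E1 G f u v hf hfu huv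
        hv hGU n.asIdeal (H0 n.asIdeal) (H1 n.asIdeal)
      apply c1.mp
      have := Groth.Agent.Lib.Helper9.KollarGlobal.p2i A B J F n.asIdeal 2
        (fun q' _ hJq' hq'n _ => by
          exact_mod_cast (h ⟨q', inferInstance⟩ (fun hsq => hs (hq'n hsq))).2 hJq')
      exact_mod_cast this
    · exact hGU n hJn

end Groth.Agent.S18725
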