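import Groth.Statements.S1873
import Groth.Agent.Lib.Helper14.IntMultGeoB
import Groth.Agent.Lib.Helper14.IntMultAlgB
import Groth.Agent.Lib.Helper14.IntMultAlgC

set_option autoImplicit false
universe u
open CategoryTheory AlgebraicGeometry
attribute [local instance] HasDerivedCategory.standard
open IntMult

namespace Groth.Agent.S1873

/-- If the multiplicity of Z in the closed subscheme V ∩ W is 1, i.e. length_{O_{X,ξ}}(O_{V∩W,ξ}) = 1,
then e(X, V·W, Z) = 1 and the local rings O_{V,ξ}, O_{W,ξ} are regular (V and W are smooth at a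
general point of Z). Here X is a nonsingular variety over an algebraically closed field K (smooth,
separated, of finite type, integral), V and W are closed subvarieties given by quasi-coherent ideal
sheaves with integral subschemes, of dimensions r and s with dim X = n, intersecting properly, and ξ
is the generic point of an irreducible component Z of V ∩ W; e(X, V·W, Z) is the alternating sum of
lengths of Tor over O_{X,ξ}. -/
theorem result (K : Type u) [Field K] [IsAlgClosed K] (X : Scheme.{u}) (f : X ⟶ Spec (CommRingCat.of K)) [Smooth f] [IsSeparated f] [QuasiCompact f] [IsIntegral X] (IV IW : X.IdealSheafData) [IsIntegral IV.subscheme] [IsIntegral IW.subscheme] (n r s : ℕ) (hn : topologicalKrullDim X = n) (hr : topologicalKrullDim IV.support = r) (hs : topologicalKrullDim IW.support = s) (hprop : IntMult.ProperInt (IV.support : Set X) (IW.support : Set X) n r s) (ξ : X) (hξV : ξ ∈ IV.support) (hξW : ξ ∈ IW.support) (hmax : ∀ ξ' : X, ξ' ∈ IV.support → ξ'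 ∈ IW.support → ξ' ⤳ ξ → ξ' = ξ) (h1 : Module.length (X.presheaf.stalk ξ) (↑(X.presheaf.stalk ξ) ⧸ (IntMult.stalkIdeal IV ξ ⊔ IntMult.stalkIdeal IW ξ)) = 1) : IntMult.mult IV IW ξ = 1 ∧ IsRegularLocalRing (↑(X.presheaf.stalk ξ) ⧸ IntMult.stalkIdeal IV ξ) ∧ IsRegularLocalRing (↑(X.presheaf.stalk ξ) ⧸ IntMult.stalkIdeal IW ξ) := by
  classical
  haveI hRLR : IsRegularLocalRing (↑(X.presheaf.stalk ξ)) :=
    Groth.Agent.Lib.Helper26.RegularSch.isRegularLocalRing_stalk_of_smooth_field K f ξ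
  obtain ⟨d, a, b, t, hd, ha, hb, hdt, hat, hbt, hle⟩ :=
    Groth.Agent.Lib.Helper14.IntMultGeo.dims K X f IV IW n r s hn hr hs hprop ξ hξV hξW
  have hsimple : IsSimpleModule (↑(X.presheaf.stalk ξ))
      (↑(X.presheaf.stalk ξ) ⧸ (IntMult.stalkIdeal IV ξ ⊔ IntMult.stalkIdeal IW ξ)) :=
    Module.length_eq_one_iff.mp h1
  have hmaxid : (IntMult.stalkIdeal IV ξ ⊔ IntMult.stalkIdeal IW ξ).IsMaximal := by
    rw [Ideal.isMaximal_def, ← isSimpleModule_iff_isCoatom]
    exact hsimple
  have hIJ : IntMult.stalkIdeal IV ξ ⊔ IntMult.stalkIdeal IW ξ =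
      IsLocalRing.maximalIdeal (↑(X.presheaf.stalk ξ)) := IsLocalRing.eq_maximalIdeal hmaxid
  obtain ⟨hrI, hrJ, x, hIx, hregx⟩ := Groth.Agent.Lib.Helper14.IntMultAlg.regular_pair
    (↑(X.presheaf.stalk ξ)) (IntMult.stalkIdeal IV ξ) (IntMult.stalkIdeal IW ξ) hIJ d a b hd ha hb
    (by omega)
  refine ⟨?_, hrI, hrJ⟩
  haveI := hrJ
  have hCMJ : LocCoh.IsCohenMacaulayLocalRing
      (↑(X.presheaf.stalk ξ) ⧸ IntMult.stalkIdeal IW ξ) :=
    Groth.Agent.Lib.Helper4.RegCM.isCohenMacaulayLocalRing _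
  have h0 := Groth.Agent.Lib.Helper14.IntMultGeo.ringKrullDim_quot_sup_eq_zero IV IW ξ hξV hξW hmax
  have hI' : IntMult.stalkIdeal IV ξ = Ideal.ofList (List.ofFn x) :=
    hIx.trans (Groth.Agent.Lib.Helper4.KS.span_range_eq_ofList x)
  have h1' : Module.length (↑(X.presheaf.stalk ξ)) (↑(X.presheaf.stalk ξ) ⧸
      (IntMult.stalkIdeal IW ξ ⊔ Ideal.ofList (List.ofFn x))) = 1 := by
    rw [← hI', sup_comm]; exact h1
  unfold IntMult.mult
  rw [hI'] at h0 ⊢
  rw [Groth.Agent.Lib.Helper14.IntMultAlg.chi_eq_length_of_isRegular_of_cm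
    (IntMult.stalkIdeal IW ξ) (List.ofFn x) hregx hCMJ (by rw [hb, List.length_ofFn]) h0, h1']
  rfl

end Groth.Agent.S1873
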