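import Groth.Statements.S18731
import Groth.Agent.Lib.Helper28.IdealComap

set_option autoImplicit false
universe u
open CategoryTheory CategoryTheory.Limits AlgebraicGeometry TopologicalSpace
open ModPair

namespace Groth.Agent.S18731

/-- Let I on X and J on Y be quasi-coherent ideal sheaves of effective Cartier divisors and f : X ⟶ Y a
morphism satisfying the modulus condition I ≤ J.comap f (the closed subscheme J ×_Y X of X lies
inside the closed subscheme cut out by I). Then the pull-back of the divisor of J along f is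
defined: J.comap f is the ideal sheaf of an effective Cartier divisor on X. -/
theorem result {X Y : Scheme.{u}} (I : X.IdealSheafData)
    (J : Y.IdealSheafData) (hI : BlowUp.IsEffCartierIdeal I) (hJ : BlowUp.IsEffCartierIdeal J)
    (f : X ⟶ Y) (hf : ModPair.IsAmbient I J f) : BlowUp.IsEffCartierIdeal (J.comap f) := by
  intro x
  obtain ⟨V, hxV, t, ht, hJV⟩ := hJ (f.base x)
  obtain ⟨U, hxU, s, hs, hIU⟩ := hI x
  have hxfV : x ∈ f ⁻¹ᵁ V.1 := hxV
  obtain ⟨g, hgle, hxg⟩ := U.2.exists_basicOpen_le (V := f ⁻¹ᵁ V.1) ⟨x, hxfV⟩ hxU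
  let W : X.affineOpens := X.affineBasicOpen g
  have hWU : W ≤ U := X.affineBasicOpen_le g
  refine ⟨W, hxg, f.appLE V.1 W.1 hgle t, ?_, ?_⟩
  · -- nonzerodivisor
    have hIW : I.ideal W = Ideal.span {(X.presheaf.map (homOfLE hWU).op).hom s} := by
      rw [← I.map_ideal hWU, hIU, Ideal.map_span, Set.image_singleton]
      rfl
    have hloc : IsLocalization.Away g Γ(X, X.basicOpen g) := U.2.isLocalization_basicOpen g
    have hs' : (X.presheaf.map (homOfLE hWU).op).hom s ∈ nonZeroDivisors Γ(X, W.1) :=
      IsLocalization.map_nonZeroDivisors_le (Submonoid.powers g) Γ(X, X.basicOpen g)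
        (Submonoid.mem_map_of_mem _ hs)
    have hmem : (X.presheaf.map (homOfLE hWU).op).hom s ∈ (J.comap f).ideal W := by
      apply hf W
      rw [hIW]
      exact Ideal.mem_span_singleton_self _
    rw [Groth.Agent.Lib.Helper28.ideal_comap_of_le J f V W hgle, hJV, Ideal.map_span,
      Set.image_singleton, Ideal.mem_span_singleton'] at hmem
    obtain ⟨a, ha⟩ := hmem
    rw [← ha] at hs'
    exact (mul_mem_nonZeroDivisors.mp hs').2
  · rw [Groth.Agent.Lib.Helper28.ideal_comap_of_le J f V W hgle, hJV, Ideal.map_span,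
      Set.image_singleton]

end Groth.Agent.S18731
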