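import Groth.Statements.S18732
import Groth.Agent.Lib.Helper28.IdealComap

set_option autoImplicit false
universe u
open CategoryTheory CategoryTheory.Limits AlgebraicGeometry TopologicalSpace
open ModPair

namespace Groth.Agent.S18732

section aux

theorem compl_inf_eq_basicOpen (S : Scheme.{u}) (D : S.IdealSheafData) (U : S.affineOpens)
    (f : Γ(S, U.1)) (hf : D.ideal U = Ideal.span {f}) :
    (D.support.compl : S.Opens) ⊓ U.1 = S.basicOpen f := by
  ext x
  simp only [TopologicalSpace.Opens.coe_inf, Set.mem_inter_iff, SetLike.mem_coe]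
  constructor
  · rintro ⟨hx, hxU⟩
    by_contra hxf
    apply hx
    change x ∈ D.support
    rw [Scheme.IdealSheafData.mem_support_iff_of_mem (U := U) hxU, hf, Scheme.zeroLocus_span,
      Scheme.zeroLocus_singleton]
    exact hxf
  · intro hxf
    have hxU : x ∈ U.1 := S.basicOpen_le f hxf
    refine ⟨?_, hxU⟩
    intro hx
    change x ∈ D.support at hx
    rw [Scheme.IdealSheafData.mem_support_iff_of_mem (U := U) hxU, hf, Scheme.zeroLocus_span,
      Scheme.zeroLocus_singleton] at hx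
    exact hx hxf

end aux

/-- Let X be a scheme, I the quasi-coherent ideal sheaf of an effective Cartier divisor on X with open
complement U, and f : X' ⟶ X a morphism of schemes for which the open immersion of f⁻¹(U) into X'
has all of X' as its scheme-theoretic image. Then f⁻¹(U) is scheme-theoretically dense in X' (for
every open W of X' the inclusion of f⁻¹(U) ∩ W into W is scheme-theoretically dominant), and the
closed subscheme of X' pulled back from the divisor of I is an effective Cartier divisor: I.comap f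
is the ideal sheaf of an effective Cartier divisor. -/
theorem result {X X' : Scheme.{u}}
    (I : X.IdealSheafData) (hI : BlowUp.IsEffCartierIdeal I) (f : X' ⟶ X)
    [IsSchemeTheoreticallyDominant (f ⁻¹ᵁ ModPair.interior I).ι] :
    (∀ W : X'.Opens, IsSchemeTheoreticallyDominant
        (X'.homOfLE (inf_le_right : f ⁻¹ᵁ ModPair.interior I ⊓ W ≤ W))) ∧
      BlowUp.IsEffCartierIdeal (I.comap f) := by
  set K := I.comap f with hK
  set U' : X'.Opens := f ⁻¹ᵁ ModPair.interior I with hU'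
  have hU'K : U' = (K.support.compl : X'.Opens) := by
    ext x
    simp [hU', hK, ModPair.interior, Scheme.IdealSheafData.support_comap]
  have hloc : ∀ x : X', ∃ W' : X'.affineOpens, x ∈ W'.1 ∧ ∃ (V : X.affineOpens)
      (hle : W'.1 ≤ f ⁻¹ᵁ V.1) (t : Γ(X, V.1)), t ∈ nonZeroDivisors Γ(X, V.1) ∧
      K.ideal W' = Ideal.span {(f.appLE V.1 W'.1 hle).hom t} := by
    intro x
    obtain ⟨V, hxV, t, ht, hIV⟩ := hI (f.base x)
    obtain ⟨_, ⟨W', hW', rfl⟩, hxW', hW'V⟩ := X'.isBasis_affineOpens.exists_subset_of_mem_open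
      (show x ∈ (f ⁻¹ᵁ V.1 : Set X') from hxV) (f ⁻¹ᵁ V.1).isOpen
    refine ⟨⟨W', hW'⟩, hxW', V, hW'V, t, ht, ?_⟩
    rw [hK, Groth.Agent.Lib.Helper28.ideal_comap_of_le I f V ⟨W', hW'⟩ hW'V, hIV, Ideal.map_span,
      Set.image_singleton]
  have key : ∀ (W' : X'.affineOpens) (t' : Γ(X', W'.1)), K.ideal W' = Ideal.span {t'} →
      U'.ι ''ᵁ (U'.ι ⁻¹ᵁ W'.1) = X'.basicOpen t' := by
    intro W' t' ht'
    rw [Scheme.Hom.image_preimage_eq_opensRange_inf, Scheme.Opens.opensRange_ι, hU'K]
    exact compl_inf_eq_basicOpen X' K W' t' ht'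
  have haff : IsAffineHom U'.ι := by
    apply isAffineHom_of_forall_exists_isAffineOpen
    intro x
    obtain ⟨W', hxW', V, hle, t, _, ht'⟩ := hloc x
    refine ⟨W'.1, hxW', W'.2, ?_⟩
    rw [← (U'.ι).isAffineOpen_iff_of_isOpenImmersion, key W' _ ht']
    exact W'.2.basicOpen _
  have hinj : ∀ O : X'.Opens, Function.Injective (U'.ι.app O) := fun O =>
    Scheme.Hom.app_injective U'.ι O
  refine ⟨fun W => ?_, ?_⟩
  · rw [isSchemeTheoreticallyDominant_iff, eq_bot_iff]
    intro O
    refine le_trans (Scheme.Hom.ideal_ker_le _ O) ?_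
    rw [Scheme.IdealSheafData.ideal_bot]
    simp only [Pi.bot_apply]
    rw [le_bot_iff, ← RingHom.injective_iff_ker_eq_bot, injective_iff_map_eq_zero]
    intro s hs
    rw [Scheme.homOfLE_app] at hs
    refine (injective_iff_map_eq_zero (U'.ι.app (W.ι ''ᵁ O.1)).hom).mp (hinj _) s ?_
    rw [Scheme.Opens.ι_app]
    have hBA : U'.ι ''ᵁ (U'.ι ⁻¹ᵁ (W.ι ''ᵁ O.1)) ≤
        (U' ⊓ W).ι ''ᵁ ((X'.homOfLE (inf_le_right : U' ⊓ W ≤ W)) ⁻¹ᵁ O.1) := by
      rw [Scheme.Hom.image_preimage_eq_opensRange_inf, Scheme.Opens.opensRange_ι]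
      rintro x ⟨hxU', hxO'⟩
      obtain ⟨y, hyO, rfl⟩ := hxO'
      refine ⟨⟨y.1, hxU', y.2⟩, ?_, rfl⟩
      have hy : (X'.homOfLE (inf_le_right : U' ⊓ W ≤ W)) ⟨y.1, hxU', y.2⟩ = y :=
        Subtype.ext (Scheme.homOfLE_apply _ _)
      change (X'.homOfLE (inf_le_right : U' ⊓ W ≤ W)) ⟨y.1, hxU', y.2⟩ ∈ O.1
      rw [hy]
      exact hyO
    have hA := X'.ι_image_homOfLE_le_ι_image (inf_le_right : U' ⊓ W ≤ W) O.1
    have hs' : (X'.presheaf.map (homOfLE hA).op).hom s = 0 := hs
    have h4 : (X'.presheaf.map (homOfLE (U'.ι.image_preimage_le (W.ι ''ᵁ O.1))).op).hom s =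
        (X'.presheaf.map (homOfLE hBA).op).hom ((X'.presheaf.map (homOfLE hA).op).hom s) := by
      rw [← CommRingCat.comp_apply, ← Functor.map_comp]
      rfl
    change (X'.presheaf.map (homOfLE (U'.ι.image_preimage_le (W.ι ''ᵁ O.1))).op).hom s = 0
    rw [h4, hs', map_zero]
  · intro x
    obtain ⟨W', hxW', V, hle, t, ht, ht'⟩ := hloc x
    refine ⟨W', hxW', (f.appLE V.1 W'.1 hle).hom t, ?_, ht'⟩
    rw [mem_nonZeroDivisors_iff_right]
    intro z hz
    apply hinj W'.1
    rw [map_zero, Scheme.Opens.ι_app]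
    have hk := key W' _ ht'
    have hunit := RingedSpace.isUnit_res_basicOpen X'.toRingedSpace ((f.appLE V.1 W'.1 hle).hom t)
    have h1 : (X'.presheaf.map (homOfLE (X'.basicOpen_le ((f.appLE V.1 W'.1 hle).hom t))).op).hom z
        = 0 := by
      have h2 : (X'.presheaf.map
            (homOfLE (X'.basicOpen_le ((f.appLE V.1 W'.1 hle).hom t))).op).hom z *
          (X'.presheaf.map
            (homOfLE (X'.basicOpen_le ((f.appLE V.1 W'.1 hle).hom t))).op).hom
            ((f.appLE V.1 W'.1 hle).hom t) = 0 := by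
        rw [← map_mul, hz, map_zero]
      exact hunit.mul_left_eq_zero.mp h2
    have hle2 : U'.ι ''ᵁ (U'.ι ⁻¹ᵁ W'.1) ≤ X'.basicOpen ((f.appLE V.1 W'.1 hle).hom t) := hk.le
    have hz2 : (X'.presheaf.map (homOfLE (U'.ι.image_preimage_le W'.1)).op).hom z =
        (X'.presheaf.map (homOfLE hle2).op).hom
          ((X'.presheaf.map
            (homOfLE (X'.basicOpen_le ((f.appLE V.1 W'.1 hle).hom t))).op).hom z) := by
      rw [← CommRingCat.comp_apply, ← Functor.map_comp]
      rfl
    change (X'.presheaf.map (homOfLE (U'.ι.image_preimage_le W'.1)).op).hom z = 0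
    rw [hz2, h1, map_zero]

end Groth.Agent.S18732
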