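import Groth.Statements.S18734
-- import your own Groth.Agent.* helpers here
import Mathlib
import Groth.Agent.Lib.Helper12.FlatFibreDim2
import Groth.Agent.Lib.Helper12.FibQF2

set_option autoImplicit false
universe u
open CategoryTheory CategoryTheory.Limits AlgebraicGeometry TopologicalSpace
open ModPair

namespace Groth.Agent.S18734

open AlgebraicGeometry CategoryTheory Limits Topology

set_option backward.isDefEq.respectTransparency false


/-- Let R be a valuation ring with fraction field K and f : Y ⟶ Spec R a morphism of schemes which is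
flat, proper and generically finite (the generic fibre Y ×_{Spec R} Spec K ⟶ Spec K is a finite
morphism). Then f is finite. No finite-presentation hypothesis is assumed. -/
theorem result {R : Type u} [CommRing R]
    [IsDomain R] [ValuationRing R] {Y : Scheme.{u}} (f : Y ⟶ Spec (CommRingCat.of R)) [Flat f] [IsProper f]
    (hgen : IsFinite (pullback.snd f
      (Spec.map (CommRingCat.ofHom (algebraMap R (FractionRing R)))))) :
    IsFinite f := by
  classical
  rw [IsFinite.iff_isProper_and_locallyQuasiFinite]
  refine ⟨inferInstance, ?_⟩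
  rw [← Scheme.Hom.quasiFiniteLocus_eq_top_iff, eq_top_iff]
  intro x _
  show f.QuasiFiniteAt x
  rw [← Groth.Agent.Lib.Helper12.FibQF.fibreDimAt_le_zero_iff]
  by_contra hx
  obtain ⟨z, hz, hzmax, hzdim⟩ :=
    Groth.Agent.Lib.Helper12.FlatFibreDim.exists_max_not_fibreDimAt_le f x 0 hx
  let g : Spec (CommRingCat.of (FractionRing R)) ⟶ Spec (CommRingCat.of R) :=
    Spec.map (CommRingCat.ofHom (algebraMap R (FractionRing R)))
  let η : Spec (CommRingCat.of R) := (⊥ : PrimeSpectrum R)
  let pt : Spec (CommRingCat.of (FractionRing R)) := (⊥ : PrimeSpectrum (FractionRing R))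
  have hgpt : g pt = η := by
    apply PrimeSpectrum.ext
    show Ideal.comap (algebraMap R (FractionRing R)) ⊥ = ⊥
    exact Ideal.comap_bot_of_injective _ (IsFractionRing.injective R (FractionRing R))
  have hη : η ⤳ f z := (PrimeSpectrum.le_iff_specializes (R := R) ⊥ (f z)).mp bot_le
  have h1 := Groth.Agent.Lib.Helper12.FlatFibreDim.le_dim_of_flat f z hzmax ⊤ trivial η hη
  have h2 : topologicalKrullDim ↥(((⊤ : Y.Opens) : Set Y) ∩ f.base ⁻¹' {η}) ≤
      ((0 : ℕ) : WithBot ℕ∞) := by
    apply Groth.Agent.Lib.Helper12.UnivOpenDim.dim_inter_fibre_le_of_isLocallyClosed f _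
      (⊤ : Y.Opens).2.isLocallyClosed η
    rintro w ⟨-, hw⟩
    have hw' : f w = g pt := by rw [hgpt]; exact hw
    obtain ⟨p, hp1, hp2⟩ := Scheme.Pullback.exists_preimage_pullback w pt hw'
    haveI : IsFinite (pullback.snd f g) := hgen
    have hq : (pullback.snd f g).QuasiFiniteAt p := (pullback.snd f g).quasiFiniteAt p
    have hq' := (Groth.Agent.Lib.Helper12.FibQF.quasiFiniteAt_iff_of_isPullback f g
      (pullback.fst f g) (pullback.snd f g) (IsPullback.of_hasPullback f g) p).mp hq
    rw [hp1] at hq'
    exact (Groth.Agent.Lib.Helper12.FibreMax.trn_le_fibreDimAt_of_specializes f w w rfl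
      specializes_rfl).trans ((Groth.Agent.Lib.Helper12.FibQF.fibreDimAt_le_zero_iff f w).mpr hq')
  exact hzdim (h1.trans h2)

end Groth.Agent.S18734
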