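import Groth.Statements.S18741
-- import your own Groth.Agent.* helpers here

set_option autoImplicit false
universe v₁ v₂ v₃ u₁ u₂ u₃
open CategoryTheory
open ModPair

namespace Groth.Agent.S18741

section aux

/-- Fullness can be checked on the essential image of an essentially surjective functor. -/
lemma full_of_essSurj {A : Type*} [Category A] {B : Type*} [Category B] {T : Type*} [Category T]
    (F : A ⥤ B) [F.EssSurj] (G : B ⥤ T)
    (h : ∀ (a a' : A) (g : G.obj (F.obj a) ⟶ G.obj (F.obj a')),
      ∃ f : F.obj a ⟶ F.obj a', G.map f = g) : G.Full where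
  map_surjective {X Y} g := by
    obtain ⟨f, hf⟩ := h (F.objPreimage X) (F.objPreimage Y)
      (G.map (F.objObjPreimageIso X).hom ≫ g ≫ G.map (F.objObjPreimageIso Y).inv)
    refine ⟨(F.objObjPreimageIso X).inv ≫ f ≫ (F.objObjPreimageIso Y).hom, ?_⟩
    simp [hf]

/-- Faithfulness can be checked on the essential image of an essentially surjective functor. -/
lemma faithful_of_essSurj {A : Type*} [Category A] {B : Type*} [Category B] {T : Type*}
    [Category T] (F : A ⥤ B) [F.EssSurj] (G : B ⥤ T)
    (h : ∀ (a a' : A) (f₁ f₂ : F.obj a ⟶ F.obj a'), G.map f₁ = G.map f₂ → f₁ = f₂) :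
    G.Faithful where
  map_injective {X Y} f₁ f₂ hf := by
    have := h (F.objPreimage X) (F.objPreimage Y)
      ((F.objObjPreimageIso X).hom ≫ f₁ ≫ (F.objObjPreimageIso Y).inv)
      ((F.objObjPreimageIso X).hom ≫ f₂ ≫ (F.objObjPreimageIso Y).inv)
      (by simp only [Functor.map_comp, hf])
    simpa using this

variable {C : Type u₁} [Category.{v₁} C] (W : MorphismProperty C)

instance hasRightCalculusOfFractions_over [W.HasRightCalculusOfFractions] (S : C) :
    (W.inverseImage (Over.forget S)).HasRightCalculusOfFractions where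
  exists_rightFraction X Y φ := by
    obtain ⟨ψ, hψ⟩ := (MorphismProperty.LeftFraction.mk (W := W) φ.f.left φ.s.left
      φ.hs).exists_rightFraction
    dsimp at hψ
    have h1 : ψ.f ≫ Y.hom = ψ.s ≫ X.hom := by
      rw [← Over.w φ.s, ← Over.w φ.f, ← Category.assoc, ← hψ, Category.assoc]
    refine ⟨⟨(Over.homMk ψ.s rfl : Over.mk (ψ.s ≫ X.hom) ⟶ X), ψ.hs,
      (Over.homMk ψ.f h1 : Over.mk (ψ.s ≫ X.hom) ⟶ Y)⟩, ?_⟩
    ext
    exact hψ
  ext X Y Y' f₁ f₂ s hs h := by
    obtain ⟨X', t, ht, fac⟩ := MorphismProperty.HasRightCalculusOfFractions.ext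
      f₁.left f₂.left s.left hs (by rw [← Over.comp_left, h, Over.comp_left])
    refine ⟨Over.mk (t ≫ X.hom), Over.homMk t rfl, ht, ?_⟩
    ext
    exact fac

end aux

/-- Let C be a category, W a class of morphisms of C admitting a calculus of right fractions, and S an
object of C; let W_S be the class of morphisms of the slice category over S whose underlying
morphism lies in W. Then the canonical functor from the localization of the slice category C/S at
W_S to the slice category over S of the localization of C at W is an equivalence: for every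
localization functor L : C ⥤ D at W, every localization functor L' : C/S ⥤ E at W_S, and every
functor Φ : E ⥤ D/L(S) through which the functor C/S ⥤ D/L(S) induced by L factors up to
isomorphism, Φ is an equivalence of categories. -/
theorem result {C : Type u₁}
    [Category.{v₁} C] (W : MorphismProperty C) [W.HasRightCalculusOfFractions] (S : C)
    {D : Type u₂} [Category.{v₂} D] (L : C ⥤ D) [L.IsLocalization W]
    {E : Type u₃} [Category.{v₃} E] (L' : Over S ⥤ E)
    [L'.IsLocalization (W.inverseImage (Over.forget S))]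
    (Φ : E ⥤ Over (L.obj S)) (e : L' ⋙ Φ ≅ Over.post L) : Φ.IsEquivalence := by
  have hL : W.IsInvertedBy L := Localization.inverts L W
  have hL' : (W.inverseImage (Over.forget S)).IsInvertedBy L' :=
    Localization.inverts L' (W.inverseImage (Over.forget S))
  have key : ∀ {a b : Over S} (z : (W.inverseImage (Over.forget S)).RightFraction a b),
      (Over.post L).map z.s ≫ e.inv.app a ≫ Φ.map (z.map L' hL') ≫ e.hom.app b
        = (Over.post L).map z.f := by
    intro a b z
    have h1 : (Over.post L).map z.s ≫ e.inv.app a = e.inv.app z.X' ≫ Φ.map (L'.map z.s) :=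
      e.inv.naturality z.s
    have h2 : Φ.map (L'.map z.f) ≫ e.hom.app b = e.hom.app z.X' ≫ (Over.post L).map z.f :=
      e.hom.naturality z.f
    rw [← Category.assoc, h1, Category.assoc, ← Functor.map_comp_assoc, z.map_s_comp_map L' hL',
      h2, Iso.inv_hom_id_app_assoc]
  have keyLeft : ∀ {a b : Over S} (z : (W.inverseImage (Over.forget S)).RightFraction a b)
      (k : L.obj a.left ⟶ L.obj b.left),
      k = (e.inv.app a ≫ Φ.map (z.map L' hL') ≫ e.hom.app b).left →
      k = (MorphismProperty.RightFraction.mk (W := W) z.s.left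
          ((MorphismProperty.inverseImage_iff _ _ _).mp z.hs) z.f.left).map L hL := by
    intro a b z k hk
    have hs0 : W z.s.left := (MorphismProperty.inverseImage_iff _ _ _).mp z.hs
    have : IsIso (L.map z.s.left) := hL _ hs0
    have h3 := congrArg (fun k => k.left) (key z)
    refine (cancel_epi (L.map z.s.left)).mp ?_
    rw [hk]
    refine Eq.trans h3 ?_
    exact (MorphismProperty.RightFraction.map_s_comp_map
      (MorphismProperty.RightFraction.mk (W := W) z.s.left hs0 z.f.left) L hL).symm
  have : L'.EssSurj := Localization.essSurj L' (W.inverseImage (Over.forget S))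
  have : L.EssSurj := Localization.essSurj L W
  have hfull : Φ.Full := by
    apply full_of_essSurj L' Φ
    intro a b g
    let ψ : (Over.post L).obj a ⟶ (Over.post L).obj b := e.inv.app a ≫ g ≫ e.hom.app b
    obtain ⟨ψl, hψl⟩ : ∃ ψl : L.obj a.left ⟶ L.obj b.left, ψl = ψ.left := ⟨_, rfl⟩
    obtain ⟨φ, hφ⟩ := Localization.exists_rightFraction L W ψl
    have hw : L.map (φ.f ≫ b.hom) = L.map (φ.s ≫ a.hom) := by
      have h4 : ψl ≫ L.map b.hom = L.map a.hom := by
        rw [hψl]; exact Over.w ψ
      rw [L.map_comp, L.map_comp, ← φ.map_s_comp_map L hL, Category.assoc, ← hφ, h4]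
    obtain ⟨Z, t, ht, fac⟩ := (MorphismProperty.map_eq_iff_precomp L W _ _).mp hw
    have hs' : W (t ≫ φ.s) := W.comp_mem _ _ ht φ.hs
    let z : (W.inverseImage (Over.forget S)).RightFraction a b :=
      { X' := Over.mk (t ≫ φ.s ≫ a.hom)
        s := Over.homMk (t ≫ φ.s) (by simp)
        hs := hs'
        f := Over.homMk (t ≫ φ.f) (by simpa using fac) }
    refine ⟨z.map L' hL', ?_⟩
    have h5 : e.inv.app a ≫ Φ.map (z.map L' hL') ≫ e.hom.app b = ψ := by
      ext
      refine Eq.trans (keyLeft z _ rfl) ?_
      refine Eq.trans ?_ hψl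
      refine Eq.trans ?_ hφ.symm
      have : IsIso (L.map (t ≫ φ.s)) := hL _ hs'
      refine (cancel_epi (L.map (t ≫ φ.s))).mp ?_
      refine Eq.trans (MorphismProperty.RightFraction.map_s_comp_map
        (MorphismProperty.RightFraction.mk (W := W) (t ≫ φ.s) hs' (t ≫ φ.f)) L hL) ?_
      rw [L.map_comp, L.map_comp, Category.assoc, φ.map_s_comp_map L hL]
    have h6 : Φ.map (z.map L' hL') = e.hom.app a ≫ ψ ≫ e.inv.app b := by
      rw [← h5]; simp
    rw [h6]; simp [ψ]
  have hfaithful : Φ.Faithful := by
    apply faithful_of_essSurj L' Φ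
    intro a b f₁ f₂ hf
    obtain ⟨z₁, rfl⟩ := Localization.exists_rightFraction L' (W.inverseImage (Over.forget S)) f₁
    obtain ⟨z₂, rfl⟩ := Localization.exists_rightFraction L' (W.inverseImage (Over.forget S)) f₂
    rw [MorphismProperty.RightFraction.map_eq_iff]
    have hs1 : W z₁.s.left := z₁.hs
    have hs2 : W z₂.s.left := z₂.hs
    have h8 : (MorphismProperty.RightFraction.mk (W := W) z₁.s.left hs1 z₁.f.left).map L hL =
        (MorphismProperty.RightFraction.mk (W := W) z₂.s.left hs2 z₂.f.left).map L hL := by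
      refine (keyLeft z₁ _ rfl).symm.trans (Eq.trans ?_ (keyLeft z₂ _ rfl))
      rw [hf]
    obtain ⟨Z, t₁, t₂, hst, hft, ht⟩ := (MorphismProperty.RightFraction.map_eq_iff L W _ _).mp h8
    dsimp at hst hft ht
    have h9 : t₂ ≫ z₂.X'.hom = t₁ ≫ z₁.X'.hom := by
      rw [← Over.w z₂.s, ← Over.w z₁.s, ← Category.assoc, ← hst, Category.assoc]
    refine ⟨Over.mk (t₁ ≫ z₁.X'.hom), Over.homMk t₁ rfl, Over.homMk t₂ h9, ?_, ?_, ?_⟩
    · ext; exact hst
    · ext; exact hft
    · exact ht
  have hess : Φ.EssSurj := by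
    constructor
    intro Y
    let i : L.obj (L.objPreimage Y.left) ≅ Y.left := L.objObjPreimageIso Y.left
    obtain ⟨φ, hφ⟩ := Localization.exists_rightFraction L W (i.hom ≫ Y.hom)
    have : IsIso (L.map φ.s) := hL _ φ.hs
    have hw : (L.map φ.s ≫ i.hom) ≫ Y.hom = L.map φ.f := by
      rw [Category.assoc, hφ, φ.map_s_comp_map]
    let j : L.obj φ.X' ≅ Y.left := asIso (L.map φ.s) ≪≫ i
    refine ⟨L'.obj (Over.mk φ.f),
      ⟨e.app (Over.mk φ.f) ≪≫ Over.isoMk j ?_⟩⟩
    exact hw
  exact { }

end Groth.Agent.S18741
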