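import Groth.Statements.S18743
import Groth.Agent.S1571
import Groth.Agent.S18732

set_option autoImplicit false
universe u
open CategoryTheory CategoryTheory.Limits AlgebraicGeometry TopologicalSpace
open ModPair

namespace Groth.Agent.S18743

/-- Let (S, I_S), (T, I_T), (X, I_X) be schemes equipped with quasi-coherent ideal sheaves of effective
Cartier divisors, p : X ⟶ S a morphism with the modulus condition I_X ≤ I_S.comap p, and f : T ⟶ S a
minimal morphism (I_T = I_S.comap f) which is flat. Then the ambient product of (T, I_T) and (X,
I_X) over (S, I_S) has total space all of X ×_S T with modulus pulled back from X: the open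
pr₁⁻¹(X°) ∩ pr₂⁻¹(T°) (X°, T° the complements of the supports) is scheme-theoretically dominant in X
×_S T, the closed immersion of its scheme-theoretic image is an isomorphism, and I_X.comap pr₁ is
the ideal sheaf of an effective Cartier divisor. -/
theorem result {S T X : Scheme.{u}} (IS : S.IdealSheafData)
    (IT : T.IdealSheafData) (IX : X.IdealSheafData) (hS : BlowUp.IsEffCartierIdeal IS)
    (hT : BlowUp.IsEffCartierIdeal IT) (hX : BlowUp.IsEffCartierIdeal IX)
    (p : X ⟶ S) (hp : ModPair.IsAmbient IX IS p) (f : T ⟶ S) (hf : ModPair.IsMinimal IT IS f) [Flat f] :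
    IsSchemeTheoreticallyDominant (ModPair.prodInterior p f IX IT).ι ∧
      IsIso (ModPair.mprodι p f IX IT) ∧
      BlowUp.IsEffCartierIdeal (IX.comap (pullback.fst p f)) := by
  have hsuppT : IT.support = IS.support.preimage f.continuous := by
    rw [hf, Scheme.IdealSheafData.support_comap]
  have hintX : ModPair.interior IX ≤ p ⁻¹ᵁ ModPair.interior IS := by
    intro x hx hxS
    apply hx
    have h1 : (IS.comap p).support ≤ IX.support := Scheme.IdealSheafData.support_antitone hp
    apply h1
    rw [Scheme.IdealSheafData.support_comap]
    exact hxS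
  have hprod : ModPair.prodInterior p f IX IT = pullback.fst p f ⁻¹ᵁ ModPair.interior IX := by
    unfold ModPair.prodInterior
    apply le_antisymm inf_le_left
    refine le_inf le_rfl ?_
    intro z hz
    have hz1 : (pullback.fst p f).base z ∈ p ⁻¹ᵁ ModPair.interior IS := hintX hz
    intro hzT
    apply hz1
    have hzT' : (pullback.snd p f).base z ∈ IT.support := hzT
    rw [hsuppT] at hzT'
    have hzS : f.base ((pullback.snd p f).base z) ∈ IS.support := hzT'
    have hcomm : p.base ((pullback.fst p f).base z) = f.base ((pullback.snd p f).base z) := by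
      rw [← Scheme.Hom.comp_apply, ← Scheme.Hom.comp_apply, pullback.condition]
    change p.base ((pullback.fst p f).base z) ∈ IS.support
    rw [hcomm]
    exact hzS
  obtain ⟨haff, hdom⟩ := Groth.Agent.S1571.result X IX hX
  have hdom' : IsSchemeTheoreticallyDominant (ModPair.interior IX).ι := hdom
  have haff' : IsAffineHom (ModPair.interior IX).ι := haff
  have hdomZ : IsSchemeTheoreticallyDominant (pullback.fst p f ⁻¹ᵁ ModPair.interior IX).ι :=
    IsSchemeTheoreticallyDominant.of_isPullback
      (isPullback_morphismRestrict (pullback.fst p f) (ModPair.interior IX))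
  have hc := (Groth.Agent.S18732.result IX hX (pullback.fst p f)).2
  have ha : IsSchemeTheoreticallyDominant (ModPair.prodInterior p f IX IT).ι := by
    rw [hprod]; exact hdomZ
  refine ⟨ha, ?_, hc⟩
  change IsIso (ModPair.prodInterior p f IX IT).ι.ker.subschemeι
  rw [Scheme.isIso_subschemeι_iff_eq_bot]
  exact ha.ker_eq_bot

end Groth.Agent.S18743
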