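import Groth.Statements.S18744
import Groth.Agent.Lib.Helper28.CartierLimit

set_option autoImplicit false
universe u
open CategoryTheory CategoryTheory.Limits AlgebraicGeometry TopologicalSpace
open ModPair

namespace Groth.Agent.S18744

/-- Let (X_i, I_i) be a cofiltered system of schemes equipped with quasi-coherent ideal sheaves of
effective Cartier divisors, with affine and minimal transition morphisms (the modulus of X_i is the
pull-back of the modulus of X_j along each transition morphism X_i ⟶ X_j), and let X be its limit
with projections π_i. Then the pulled-back ideal I_i.comap π_i is the ideal sheaf of an effective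
Cartier divisor on X for every i; with this modulus X is a modulus pair mapping minimally to each
(X_i, I_i). (The source allows the conditions on the transition morphisms to hold only beyond some
index; here they are assumed throughout.) -/
theorem result {I : Type u}
    [SmallCategory I] [IsCofiltered I] (D : I ⥤ Scheme.{u}) (c : Cone D) (hc : IsLimit c)
    [∀ (i j : I) (t : i ⟶ j), IsAffineHom (D.map t)]
    (J : ∀ i, (D.obj i).IdealSheafData) (hJ : ∀ i, BlowUp.IsEffCartierIdeal (J i))
    (hmin : ∀ (i j : I) (t : i ⟶ j), ModPair.IsMinimal (J i) (J j) (D.map t)) (i : I) :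
    BlowUp.IsEffCartierIdeal ((J i).comap (c.π.app i)) := by
  have inst : ∀ {i j : I} (t : i ⟶ j), IsAffineHom (D.map t) := fun t => inferInstance
  have := isAffineHom_π_app D c hc i
  intro x
  obtain ⟨U, hxU, f, hf, hI⟩ := hJ i ((c.π.app i).base x)
  have hV : IsAffineOpen (c.π.app i ⁻¹ᵁ U.1) := U.2.preimage (c.π.app i)
  refine ⟨⟨c.π.app i ⁻¹ᵁ U.1, hV⟩, hxU, ((c.π.app i).app U.1).hom f, ?_, ?_⟩
  · apply Groth.Agent.Lib.Helper28.app_mem_nonZeroDivisors_of_isLimit D c hc i U.1 U.2 f
    intro j t l s
    have e1 : J j = (J i).comap (D.map t) := hmin j i t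
    have e2 : J l = (J j).comap (D.map s) := hmin l j s
    have h1 := Groth.Agent.Lib.Helper28.comap_principal (J i) (D.map t)
      (by rw [← e1]; exact hJ j) U (U.2.preimage _) f hI
    have h2 := Groth.Agent.Lib.Helper28.comap_principal (J j) (D.map s)
      (by rw [← e2]; exact hJ l) ⟨D.map t ⁻¹ᵁ U.1, U.2.preimage _⟩
      ((U.2.preimage (D.map t)).preimage (D.map s)) _ (by rw [e1]; exact h1.1)
    exact h2.2
  · rw [Groth.Agent.Lib.Helper28.ideal_comap_of_le (J i) (c.π.app i) U ⟨_, hV⟩ le_rfl, hI,
      Ideal.map_span, Set.image_singleton, ← Scheme.Hom.app_eq_appLE]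

end Groth.Agent.S18744
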