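import Groth.Statements.S18745
import Mathlib
import Groth.Agent.Lib.Helper17.HomColimFT
import Groth.Agent.Lib.Helper17.IdealStage

set_option autoImplicit false
universe u
open CategoryTheory CategoryTheory.Limits AlgebraicGeometry TopologicalSpace
open ModPair

namespace Groth.Agent.S18745

/-- Let S be a quasi-compact quasi-separated scheme, (X_i, I_i) a cofiltered system of S-schemes, all
quasi-compact and quasi-separated, carrying quasi-coherent ideal sheaves of effective Cartier
divisors, with affine and minimal transition morphisms, and let X be its limit (as an S-scheme) with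
projections π_i and modulus I = I_i.comap π_i for every i. Let Y ⟶ S be locally of finite type with
Y quasi-compact and quasi-separated, carrying the ideal sheaf I_Y of an effective Cartier divisor.
Assume that either every transition morphism is scheme-theoretically dominant, or Y ⟶ S is locally
of finite presentation. Then every S-morphism φ : X ⟶ Y satisfying the modulus condition I ≤
I_Y.comap φ descends: for some i there is an S-morphism φ_i : X_i ⟶ Y satisfying the modulus
condition I_i ≤ I_Y.comap φ_i with π_i ≫ φ_i = φ. (The base is taken to be a scheme, that is the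
base modulus pair with empty modulus; morphisms over an arbitrary base modulus pair are among
these.) -/
theorem result {S : Scheme.{u}}
    [CompactSpace S] [QuasiSeparatedSpace S] {I : Type u} [SmallCategory I] [IsCofiltered I]
    (D : I ⥤ Over S) (c : Cone D) (hc : IsLimit c)
    [∀ (i j : I) (t : i ⟶ j), IsAffineHom (D.map t).left]
    [∀ i, CompactSpace (D.obj i).left] [∀ i, QuasiSeparatedSpace (D.obj i).left]
    (J : ∀ i, (D.obj i).left.IdealSheafData) (hJ : ∀ i, BlowUp.IsEffCartierIdeal (J i))
    (hmin : ∀ (i j : I) (t : i ⟶ j), ModPair.IsMinimal (J i) (J j) (D.map t).left)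
    (IX : c.pt.left.IdealSheafData) (hIX : ∀ i, IX = (J i).comap (c.π.app i).left)
    (Y : Over S) [CompactSpace Y.left] [QuasiSeparatedSpace Y.left] [LocallyOfFiniteType Y.hom]
    (IY : Y.left.IdealSheafData) (hY : BlowUp.IsEffCartierIdeal IY)
    (h : (∀ (i j : I) (t : i ⟶ j), IsSchemeTheoreticallyDominant (D.map t).left) ∨
      LocallyOfFinitePresentation Y.hom)
    (φ : c.pt ⟶ Y) (hφ : ModPair.IsAmbient IX IY φ.left) :
    ∃ (i : I) (φi : D.obj i ⟶ Y), ModPair.IsAmbient (J i) IY φi.left ∧ c.π.app i ≫ φi = φ := by
  have hC (i : I) : CompactSpace ((D ⋙ Over.forget S).obj i) :=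
    inferInstanceAs (CompactSpace (D.obj i).left)
  have hQ (i : I) : QuasiSeparatedSpace ((D ⋙ Over.forget S).obj i) :=
    inferInstanceAs (QuasiSeparatedSpace (D.obj i).left)
  have hA {i j : I} (f : i ⟶ j) : IsAffineHom ((D ⋙ Over.forget S).map f) :=
    inferInstanceAs (IsAffineHom (D.map f).left)
  have hlim : IsLimit ((Over.forget S).mapCone c) := isLimitOfPreserves _ hc
  -- Step 1: factor through a stage
  obtain ⟨i, u, hu, hu'⟩ : ∃ (i : I) (u : (D.obj i).left ⟶ Y.left),
      (c.π.app i).left ≫ u = φ.left ∧ u ≫ Y.hom = (D.obj i).hom := by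
    rcases h with h | h
    · have hdom {i j : I} (f : i ⟶ j) :
          IsSchemeTheoreticallyDominant ((D ⋙ Over.forget S).map f) :=
        h _ _ f
      exact Groth.Agent.Lib.Helper17.HomColimFT.exists_π_app_comp_eq
        (D ⋙ Over.forget _) (.mk (fun _ ↦ (D.obj _).hom)) Y.hom _ hlim
        φ.left (by ext; simp)
    · exact Scheme.exists_π_app_comp_eq_of_locallyOfFinitePresentation
        (D ⋙ Over.forget _) (.mk (fun _ ↦ (D.obj _).hom)) Y.hom _ hlim
        φ.left (by ext; simp)
  -- Step 2: improve the index
  have hle : (J i).comap (((Over.forget S).mapCone c).π.app i) ≤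
      (IY.comap u).comap (((Over.forget S).mapCone c).π.app i) := by
    have h1 : IX ≤ IY.comap φ.left := hφ
    rw [← hu, Scheme.IdealSheafData.comap_comp, hIX i] at h1
    exact h1
  obtain ⟨j, t, ht⟩ := Groth.Agent.Lib.Helper17.IdealStage.exists_comap_le
    (D ⋙ Over.forget S) ((Over.forget S).mapCone c) hlim i (J i) (IY.comap u)
    (fun x => by
      obtain ⟨U, hxU, f, -, hf⟩ := hJ i x
      exact ⟨U, hxU, f, hf⟩) hle
  refine ⟨j, D.map t ≫ Over.homMk u hu', ?_, ?_⟩
  · change J j ≤ IY.comap ((D.map t).left ≫ u)
    rw [Scheme.IdealSheafData.comap_comp, hmin j i t]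
    exact ht
  · rw [← Category.assoc, c.w t]
    ext1
    exact hu

end Groth.Agent.S18745
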