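import Groth.Statements.S18754
import Mathlib
import Groth.Agent.Lib.Helper12.LimCIStage
import Groth.Agent.Lib.Helper17.AdmBlowup

set_option autoImplicit false
universe u
open CategoryTheory CategoryTheory.Limits AlgebraicGeometry TopologicalSpace
open ModPair

namespace Groth.Agent.S18754

/-- Let (Y, I_Y) be a modulus pair with Y quasi-compact and quasi-separated, and let (X_i ⟶ Y) be a
cofiltered system of Y-schemes with affine transition morphisms such that every X_i is quasi-compact
and quasi-separated, the pulled-back ideal I_Y.comap (X_i ⟶ Y) is the ideal of an effective Cartier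
divisor, and X_i ⟶ Y is an abstract admissible blow-up of modulus pairs which is locally of finite
presentation. Let X be the limit of the system over Y and suppose that X ⟶ Y, with the pulled-back
modulus (assumed effective Cartier), is also an abstract admissible blow-up. Then X ⟶ Y is locally
of finite presentation: an abstract admissible blow-up of quasi-compact quasi-separated modulus
pairs which is not of finite presentation is never a limit of finitely presented ones. -/
theorem result {Y : Scheme.{u}}
    [CompactSpace Y] [QuasiSeparatedSpace Y] (IY : Y.IdealSheafData) (hY : BlowUp.IsEffCartierIdeal IY)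
    {I : Type u} [SmallCategory I] [IsCofiltered I] (D : I ⥤ Over Y) (c : Cone D) (hc : IsLimit c)
    [∀ (i j : I) (t : i ⟶ j), IsAffineHom (D.map t).left]
    [∀ i, CompactSpace (D.obj i).left] [∀ i, QuasiSeparatedSpace (D.obj i).left]
    (hI : ∀ i, BlowUp.IsEffCartierIdeal (IY.comap (D.obj i).hom))
    (hadm : ∀ i, ModPair.IsAdmBlowup (IY.comap (D.obj i).hom) IY (D.obj i).hom)
    [∀ i, LocallyOfFinitePresentation (D.obj i).hom]
    (hX : BlowUp.IsEffCartierIdeal (IY.comap c.pt.hom))
    (hXadm : ModPair.IsAdmBlowup (IY.comap c.pt.hom) IY c.pt.hom) :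
    LocallyOfFinitePresentation c.pt.hom := by
  have hlim : IsLimit ((Over.forget Y).mapCone c) := isLimitOfPreserves _ hc
  haveI : ∀ {i j : I} (f : i ⟶ j), IsAffineHom ((D ⋙ Over.forget Y).map f) := by
    intro i j f
    change IsAffineHom (D.map f).left
    infer_instance
  haveI : ∀ j, CompactSpace ((D ⋙ Over.forget Y).obj j) := by
    intro j
    change CompactSpace (D.obj j).left
    infer_instance
  haveI hprop : IsProper c.pt.hom := hXadm.2.1
  obtain ⟨i₀⟩ := IsCofiltered.nonempty (C := I)
  have hw : ∀ j, (c.π.app j).left ≫ (D.obj j).hom = c.pt.hom := fun j => Over.w (c.π.app j)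
  haveI : LocallyOfFiniteType (𝟙 ((Over.forget Y).mapCone c).pt ≫
      ((Over.forget Y).mapCone c).π.app i₀ ≫ (D.obj i₀).hom) := by
    have e : 𝟙 ((Over.forget Y).mapCone c).pt ≫
      ((Over.forget Y).mapCone c).π.app i₀ ≫ (D.obj i₀).hom = c.pt.hom := by
      rw [Category.id_comp]
      exact hw i₀
    rw [e]
    exact hprop.toLocallyOfFiniteType
  obtain ⟨j, hj⟩ := Groth.Agent.Lib.Helper12.LimCIStage.exists_isClosedImmersion_stage
    (D ⋙ Over.forget Y) ((Over.forget Y).mapCone c) hlim Y (fun j => (D.obj j).hom)
    (fun {j k} a => Over.w (D.map a)) (𝟙 _) i₀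
  rw [Category.id_comp] at hj
  change IsClosedImmersion (c.π.app j).left at hj
  have hker : (c.π.app j).left.ker = ⊥ :=
    Groth.Agent.Lib.Helper17.AdmBlowup.ker_eq_bot_of_isIso_over_interior (c.π.app j).left
      (D.obj j).hom IY (hI j) (hadm j).2.2 (by rw [hw j]; exact hXadm.2.2)
  haveI : IsIso (c.π.app j).left := IsClosedImmersion.isIso_iff_ker_eq_bot.2 hker
  rw [← hw j]
  infer_instance

end Groth.Agent.S18754
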