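import Groth.Statements.S18758
import Mathlib
import Groth.Agent.Lib.Helper17.OverFT
import Groth.Agent.Lib.Helper17.PairFractions

set_option autoImplicit false
universe w v u
open CategoryTheory CategoryTheory.Limits AlgebraicGeometry TopologicalSpace
open ModPair

namespace Groth.Agent.S18758

/-- Let S be a modulus pair and PSch_S the full subcategory of the slice category of modulus pairs over
S on the objects whose structure morphism is of finite type (locally of finite type and
quasi-compact); let Σ_ft be the class of morphisms of PSch_S whose underlying morphism of modulus
pairs is an abstract admissible blow-up, and Q the localization functor of modulus pairs at all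
abstract admissible blow-ups. Then the canonical functor from the localization of PSch_S at Σ_ft to
the slice category over Q S is fully faithful, so that it identifies the localization with the full
subcategory MSch_S of objects isomorphic to finite type ones: for every localization functor L' of
PSch_S at Σ_ft and every functor Φ to the slice over Q S through which the inclusion followed by Q
on slices factors up to isomorphism, Φ is full and faithful. -/
theorem result (S : ModPair.Pair.{u})
    {E : Type v} [Category.{w} E]
    (L' : (ObjectProperty.FullSubcategory
        ((fun X : Over S => LocallyOfFiniteType X.hom.hom ∧ QuasiCompact X.hom.hom) :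
          ObjectProperty (Over S))) ⥤ E)
    [L'.IsLocalization ((((ModPair.Pair.admBlowup.{u}).inverseImage (Over.forget S)).inverseImage
      (ObjectProperty.ι ((fun X : Over S => LocallyOfFiniteType X.hom.hom ∧ QuasiCompact X.hom.hom) :
          ObjectProperty (Over S)))))]
    (Φ : E ⥤ Over ((ModPair.Pair.admBlowup.{u}).Q.obj S))
    (e : L' ⋙ Φ ≅ ObjectProperty.ι ((fun X : Over S => LocallyOfFiniteType X.hom.hom ∧ QuasiCompact X.hom.hom) :
          ObjectProperty (Over S)) ⋙ Over.post (ModPair.Pair.admBlowup.{u}).Q) :
    Φ.Full ∧ Φ.Faithful := by
  haveI := Groth.Agent.Lib.Helper17.PairFractions.hasRightCalculusOfFractions.{u}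
  refine Groth.Agent.Lib.Helper17.OverFT.full_faithful (ModPair.Pair.admBlowup.{u}) S _ ?_
    (ModPair.Pair.admBlowup.{u}).Q L' Φ e
  intro X X' s hX hs
  obtain ⟨h1, h2⟩ := hX
  obtain ⟨-, hp, -⟩ := hs
  haveI := hp
  haveI := h1
  haveI := h2
  constructor
  · change LocallyOfFiniteType (s.hom ≫ X.hom.hom); infer_instance
  · change QuasiCompact (s.hom ≫ X.hom.hom); infer_instance

end Groth.Agent.S18758
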