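import Groth.Statements.S1876
import Mathlib
import Groth.Agent.Lib.Helper18.DRBase
import Groth.Agent.Lib.Helper25.ECMTrace

set_option autoImplicit false
universe u
open CategoryTheory
attribute [local instance] HasDerivedCategory.standard
open Trace

namespace Groth.Agent.S1876


open Groth.Agent.Lib.Helper18.DR Groth.Agent.Lib.Helper25.ECMTrace

section aux
variable {Λ : Type u} [CommRing Λ]

/-- alternating trace of an endomorphism of a complex -/
noncomputable def altTr (P : DRing.Cx Λ) (a b : ℤ) (e : P ⟶ P) : Λ :=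
  ∑ i ∈ Finset.Icc a b, ((i.negOnePow : ℤˣ) : ℤ) • LinearMap.trace Λ (P.X i) (e.f i).hom

theorem altTr_homotopy (P : DRing.Cx Λ) (a b : ℤ) (hP : DRing.VanishesOutside P a b)
    (hPf : DRing.TermwiseFiniteFree P) (e e' : P ⟶ P) (H : Homotopy e e') :
    altTr P a b e = altTr P a b e' := by
  unfold altTr
  refine alt_sum_eq a b (fun n => LinearMap.trace Λ (P.X n) (e.f n).hom)
    (fun n => LinearMap.trace Λ (P.X n) (e'.f n).hom)
    (fun n => LinearMap.trace Λ (P.X n) (H.hom n (n - 1) ≫ P.d (n - 1) n).hom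
      + LinearMap.trace Λ (P.X n) (e'.f n).hom)
    (fun m n => LinearMap.trace Λ (P.X m) (P.d m n ≫ H.hom n m).hom) ?_ ?_ ?_ ?_
  · intro n
    have hc := H.comm n
    rw [dNext_eq H.hom (show (ComplexShape.up ℤ).Rel n (n + 1) from rfl),
      prevD_eq H.hom (show (ComplexShape.up ℤ).Rel (n - 1) n from sub_add_cancel n 1)] at hc
    show LinearMap.trace Λ (P.X n) (e.f n).hom = _
    rw [hc, ModuleCat.hom_add, ModuleCat.hom_add, map_add, map_add]
    ring
  · intro n
    show LinearMap.trace Λ (P.X n) (H.hom n (n - 1) ≫ P.d (n - 1) n).hom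
        + LinearMap.trace Λ (P.X n) (e'.f n).hom =
      LinearMap.trace Λ (P.X (n - 1)) (P.d (n - 1) n ≫ H.hom n (n - 1)).hom
        + LinearMap.trace Λ (P.X n) (e'.f n).hom
    congr 1
    haveI := (hPf n).1
    haveI := (hPf n).2
    haveI := (hPf (n - 1)).1
    haveI := (hPf (n - 1)).2
    rw [ModuleCat.hom_comp, ModuleCat.hom_comp]
    exact LinearMap.trace_comp_comm' _ _
  · show LinearMap.trace Λ (P.X (a - 1)) (P.d (a - 1) a ≫ H.hom a (a - 1)).hom = 0
    have h0 : P.d (a - 1) a ≫ H.hom a (a - 1) = 0 :=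
      (hP (a - 1) (Or.inl (by omega))).eq_of_src _ _
    rw [h0]
    simp
  · show LinearMap.trace Λ (P.X b) (P.d b (b + 1) ≫ H.hom (b + 1) b).hom = 0
    have h0 : P.d b (b + 1) = 0 := (hP (b + 1) (Or.inr (by omega))).eq_of_tgt _ _
    rw [h0, Limits.zero_comp]
    simp

theorem altTr_comm (P Q : DRing.Cx Λ) (a b : ℤ) (hPf : DRing.TermwiseFiniteFree P)
    (hQf : DRing.TermwiseFiniteFree Q) (u : P ⟶ Q) (w : Q ⟶ P) :
    altTr P a b (u ≫ w) = altTr Q a b (w ≫ u) := by
  unfold altTr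
  refine Finset.sum_congr rfl fun i _ => ?_
  congr 1
  haveI := (hPf i).1
  haveI := (hPf i).2
  haveI := (hQf i).1
  haveI := (hQf i).2
  rw [HomologicalComplex.comp_f, HomologicalComplex.comp_f, ModuleCat.hom_comp, ModuleCat.hom_comp]
  exact LinearMap.trace_comp_comm' _ _

end aux



/-- Commutative coefficient ring, finite free terms: let P and Q be bounded complexes of finite free
Λ-modules with chain endomorphisms f and g, and α : P ≅ Q an isomorphism in the derived category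
D(Λ) with α ∘ f = g ∘ α there. Then Σ_i (−1)^i Tr(f^i | P^i) = Σ_i (−1)^i Tr(g^i | Q^i); that is,
the trace of an endomorphism of a perfect object of D(Λ) is well defined. -/
theorem result (Λ : Type u) [CommRing Λ] (P Q : DRing.Cx Λ) (a b : ℤ) (hP : DRing.VanishesOutside P a b) (hQ : DRing.VanishesOutside Q a b) (hPf : DRing.TermwiseFiniteFree P) (hQf : DRing.TermwiseFiniteFree Q) (f : P ⟶ P) (g : Q ⟶ Q) (α : DRing.toD P ≅ DRing.toD Q) (h : α.hom ≫ DerivedCategory.Q.map g = DerivedCategory.Q.map f ≫ α.hom) : ∑ i ∈ Finset.Icc a b, ((i.negOnePow : ℤˣ) : ℤ) • LinearMap.trace Λ (P.X i) (f.f i).hom = ∑ i ∈ Finset.Icc a b, ((i.negOnePow : ℤˣ) : ℤ) • LinearMap.trace Λ (Q.X i) (g.f i).hom := by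
  haveI : P.IsKProjective := isKProjective_of_vanishesAbove P b (fun i hi => hP i (Or.inr hi))
    (fun i => by haveI := (hPf i).2; infer_instance)
  haveI : Q.IsKProjective := isKProjective_of_vanishesAbove Q b (fun i hi => hQ i (Or.inr hi))
    (fun i => by haveI := (hQf i).2; infer_instance)
  obtain ⟨φ, hφ⟩ := exists_map_eq P Q α.hom
  obtain ⟨ψ, hψ⟩ := exists_map_eq Q P α.inv
  obtain ⟨H1⟩ := nonempty_homotopy_of_map_eq P P (φ ≫ ψ) (𝟙 P)
    (by rw [CategoryTheory.Functor.map_comp, hφ, hψ, CategoryTheory.Functor.map_id]; exact α.hom_inv_id)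
  obtain ⟨H3⟩ := nonempty_homotopy_of_map_eq Q Q (ψ ≫ φ) (𝟙 Q)
    (by rw [CategoryTheory.Functor.map_comp, hφ, hψ, CategoryTheory.Functor.map_id]; exact α.inv_hom_id)
  obtain ⟨H2⟩ := nonempty_homotopy_of_map_eq P Q (φ ≫ g) (f ≫ φ)
    (by rw [CategoryTheory.Functor.map_comp, CategoryTheory.Functor.map_comp, hφ]; exact h)
  show altTr P a b f = altTr Q a b g
  calc altTr P a b f = altTr P a b (f ≫ 𝟙 P) := by rw [Category.comp_id]
    _ = altTr P a b (f ≫ (φ ≫ ψ)) := (altTr_homotopy P a b hP hPf _ _ (H1.compLeft f)).symm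
    _ = altTr P a b ((f ≫ φ) ≫ ψ) := by rw [Category.assoc]
    _ = altTr Q a b (ψ ≫ (f ≫ φ)) := altTr_comm P Q a b hPf hQf _ _
    _ = altTr Q a b (ψ ≫ (φ ≫ g)) := (altTr_homotopy Q a b hQ hQf _ _ (H2.compLeft ψ)).symm
    _ = altTr Q a b ((ψ ≫ φ) ≫ g) := by rw [Category.assoc]
    _ = altTr Q a b (𝟙 Q ≫ g) := altTr_homotopy Q a b hQ hQf _ _ (H3.compRight g)
    _ = altTr Q a b g := by rw [Category.id_comp]

end Groth.Agent.S1876
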