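import Groth.Statements.S18774
-- import your own Groth.Agent.* helpers here
import Groth.Agent.Lib.Helper23.VBMaps
import Groth.Agent.Lib.Helper17.LocConstRank
import Groth.Agent.Lib.Helper3.LocFreeCrit

set_option autoImplicit false
universe u
open CategoryTheory CategoryTheory.Limits AlgebraicGeometry
open VBCurve

namespace Groth.Agent.S18774

/-- Let k be a finite field and C a smooth proper geometrically integral curve over k (proper, smooth
and geometrically integral over k, of dimension one), and write g = dim_k H^1(C, O_C). Let E be a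
finite locally free O_C-module and F a finite locally free submodule of E of rank r' ≥ 1 (a
monomorphism F → E). Then deg F ≤ r' · (dim_k H^0(C, E) + g − 1), that is, the slope of F is at most
h^0(C, E) + g − 1; here the degree of a rank-n locally free module G is χ(G) − n·χ(O_C). -/
theorem result (k : Type u) [Field k] [Finite k] (X : Scheme.{u}) [X.Over (Spec (CommRingCat.of k))]
    [IsProper (X ↘ Spec (CommRingCat.of k))] [Smooth (X ↘ Spec (CommRingCat.of k))]
    [GeometricallyIntegral (X ↘ Spec (CommRingCat.of k))] (hdim : topologicalKrullDim ↥X = 1)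
    (E : X.Modules) (hE : FlatMod.IsFinLocFree E) (F : X.Modules) (r' : ℕ) (hr' : 0 < r')
    (hF : FlatMod.IsFinLocFreeOfRank r' F) (i : F ⟶ E) [Mono i] :
    Curv2.deg k X F r' ≤ (r' : ℤ) * ((Module.finrank k (Coh.HH X E 0) : ℤ) + (Curv2.genus k X : ℤ) - 1) := by
  haveI : IsIntegral X :=
    GeometricallyIntegral.isIntegral_of_subsingleton (X ↘ Spec (CommRingCat.of k))
  haveI : E.IsQuasicoherent := Groth.Agent.Lib.Helper3.LocFreeCrit.isQuasicoherent_of_isFinLocFree hE
  have hcE : Coh.IsCoh E :=
    ⟨inferInstance, Groth.Agent.Lib.Helper17.LocConstRank.isFiniteType_of_isFinLocFree E hE⟩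
  have h := Groth.Agent.Lib.Helper23.VBMaps.deg_sub_le k hdim.le hcE hF i
  have h1 : (1 : ℤ) ≤ (r' : ℤ) := by exact_mod_cast hr'
  have h2 : (0 : ℤ) ≤ (Module.finrank k (Coh.HH X E 0) : ℤ) := Int.natCast_nonneg _
  nlinarith

end Groth.Agent.S18774
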