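import Groth.Statements.S18787
import Groth.Agent.Lib.Helper11.AutCardC

set_option autoImplicit false
universe u
open CategoryTheory CategoryTheory.Limits AlgebraicGeometry
open VBCurve

namespace Groth.Agent.S18787

/-- Let k be a finite field and C a smooth proper geometrically integral curve over k (proper, smooth
and geometrically integral over k, of dimension one) of genus one, i.e. dim_k H^1(C, O_C) = 1, with
a k-rational point O (an elliptic curve over k); k is finite with q elements. Let L₁ and L₂ be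
invertible O_C-modules of degree 0 (χ(L) − χ(O_C) = 0) and E = O_C ⊕ L₁ ⊕ L₂. Then the number of
automorphisms of E is: (q³ − 1)(q³ − q)(q³ − q²) if L₁ ≅ L₂ ≅ O_C; (q − 1)³ (q + 1) q if L₁ ≅ L₂ and
L₁ ≇ O_C; (q − 1)³ (q + 1) q if L₁ ≇ L₂ and L₂ ≅ O_C; and (q − 1)³ if O_C, L₁, L₂ are pairwise
non-isomorphic. (In the third case the published value is (q − 1)² q³, and the published computation
gives (q − 1)³ q²; but there E ≅ O_C ⊕ O_C ⊕ L₁ with L₁ of degree 0 and non-trivial, whose
endomorphism ring is M₂(k) × k, so Aut(E) ≅ GL₂(k) × kˣ has (q − 1)³ (q + 1) q elements, the same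
count as in the second case; the row states this corrected value.) (The published setting takes k of
characteristic at least 5; the argument does not use this and the row allows every finite field.) -/
theorem result (k : Type u) [Field k] [Finite k] (X : Scheme.{u}) [X.Over (Spec (CommRingCat.of k))]
    [IsProper (X ↘ Spec (CommRingCat.of k))] [Smooth (X ↘ Spec (CommRingCat.of k))]
    [GeometricallyIntegral (X ↘ Spec (CommRingCat.of k))] (hdim : topologicalKrullDim ↥X = 1)
    (hg : Curv2.genus k X = 1) (O : Spec (CommRingCat.of k) ⟶ X) (hO : O ≫ (X ↘ Spec (CommRingCat.of k)) = 𝟙 _)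
    (L₁ L₂ : X.Modules) (hL₁ : PicF.IsInvertible L₁) (hL₂ : PicF.IsInvertible L₂)
    (hd₁ : Curv2.deg k X L₁ 1 = 0) (hd₂ : Curv2.deg k X L₂ 1 = 0) :
    (Nonempty (L₁ ≅ Coh.structureModule X) → Nonempty (L₂ ≅ Coh.structureModule X) →
      Nat.card (Aut (Coh.structureModule X ⊞ L₁ ⊞ L₂)) =
        (Nat.card k ^ 3 - 1) * (Nat.card k ^ 3 - Nat.card k) * (Nat.card k ^ 3 - Nat.card k ^ 2)) ∧
    (Nonempty (L₁ ≅ L₂) → ¬ Nonempty (L₁ ≅ Coh.structureModule X) →
      Nat.card (Aut (Coh.structureModule X ⊞ L₁ ⊞ L₂)) = (Nat.card k - 1) ^ 3 * (Nat.card k + 1) * Nat.card k) ∧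
    (¬ Nonempty (L₁ ≅ L₂) → Nonempty (L₂ ≅ Coh.structureModule X) →
      Nat.card (Aut (Coh.structureModule X ⊞ L₁ ⊞ L₂)) = (Nat.card k - 1) ^ 3 * (Nat.card k + 1) * Nat.card k) ∧
    (¬ Nonempty (L₁ ≅ Coh.structureModule X) → ¬ Nonempty (L₂ ≅ Coh.structureModule X) → ¬ Nonempty (L₁ ≅ L₂) →
      Nat.card (Aut (Coh.structureModule X ⊞ L₁ ⊞ L₂)) = (Nat.card k - 1) ^ 3) := by
  classical
  have hdim' : topologicalKrullDim ↥X ≤ 1 := hdim.le
  have hO' : PicF.IsInvertible (Coh.structureModule X) :=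
    Groth.Agent.Lib.Helper3.InvGen.isInvertible_structureModule X
  have hdO : Curv2.deg k X (Coh.structureModule X) 1 = 0 :=
    Groth.Agent.Lib.Helper23.Curve.deg_structureModule k
  have hq : 1 ≤ Nat.card k := Nat.card_pos
  have e2 : ∀ q : ℕ, ∏ j : Fin 2, (q ^ 2 - q ^ (j : ℕ)) = (q ^ 2 - 1) * (q ^ 2 - q) := by
    intro q; simp [Fin.prod_univ_two]
  have e1 : ∀ q : ℕ, ∏ j : Fin 1, (q ^ 1 - q ^ (j : ℕ)) = q - 1 := by
    intro q; simp
  refine ⟨?_, ?_, ?_, ?_⟩
  · rintro ⟨a1⟩ ⟨a2⟩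
    rw [Groth.Agent.Lib.Helper11.AutCardC.card_aut k hdim' (fun _ : Unit => Coh.structureModule X)
      (fun _ => hO') (fun _ => hdO) (fun i j hij => absurd (Subsingleton.elim i j) hij)
      (fun _ => ()) (fun _ => 3)
      (fun i => by rw [Groth.Agent.Lib.Helper11.AutCardC.card_fiber]; rfl)
      (Iso.refl _) a1 a2]
    simp [Fin.prod_univ_three]
  · rintro ⟨a12⟩ h1
    rw [Groth.Agent.Lib.Helper11.AutCardC.card_aut k hdim' (A := Coh.structureModule X) (B := L₁) (D := L₂) (![Coh.structureModule X, L₁])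
      (fun i => by fin_cases i <;> simp <;> assumption)
      (fun i => by fin_cases i <;> simp <;> assumption)
      (fun i j hij => by
        fin_cases i <;> fin_cases j <;> simp at hij ⊢ <;>
        first
          | exact ⟨fun e => h1 ⟨e.symm⟩⟩
          | exact ⟨fun e => h1 ⟨e⟩⟩)
      (![0, 1, 1]) (![1, 2])
      (fun i => by
        rw [Groth.Agent.Lib.Helper11.AutCardC.card_fiber]
        fin_cases i <;> rfl)
      (Iso.refl _) (Iso.refl _) a12.symm]
    rw [Fin.prod_univ_two]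
    change (∏ j : Fin 1, (Nat.card k ^ 1 - Nat.card k ^ (j : ℕ))) *
      (∏ j : Fin 2, (Nat.card k ^ 2 - Nat.card k ^ (j : ℕ))) = _
    rw [e1, e2, ← Groth.Agent.Lib.Helper11.AutCardC.arith _ hq]
    ring
  · rintro h12 ⟨a2⟩
    have h1 : ¬ Nonempty (L₁ ≅ Coh.structureModule X) := fun ⟨e⟩ => h12 ⟨e ≪≫ a2.symm⟩
    rw [Groth.Agent.Lib.Helper11.AutCardC.card_aut k hdim' (A := Coh.structureModule X) (B := L₁) (D := L₂) (![Coh.structureModule X, L₁])
      (fun i => by fin_cases i <;> simp <;> assumption)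
      (fun i => by fin_cases i <;> simp <;> assumption)
      (fun i j hij => by
        fin_cases i <;> fin_cases j <;> simp at hij ⊢ <;>
        first
          | exact ⟨fun e => h1 ⟨e.symm⟩⟩
          | exact ⟨fun e => h1 ⟨e⟩⟩)
      (![0, 1, 0]) (![2, 1])
      (fun i => by
        rw [Groth.Agent.Lib.Helper11.AutCardC.card_fiber]
        fin_cases i <;> rfl)
      (Iso.refl _) (Iso.refl _) a2]
    rw [Fin.prod_univ_two]
    change (∏ j : Fin 2, (Nat.card k ^ 2 - Nat.card k ^ (j : ℕ))) *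
      (∏ j : Fin 1, (Nat.card k ^ 1 - Nat.card k ^ (j : ℕ))) = _
    rw [e1, e2, ← Groth.Agent.Lib.Helper11.AutCardC.arith _ hq]
  · intro h1 h2 h12
    rw [Groth.Agent.Lib.Helper11.AutCardC.card_aut k hdim' (A := Coh.structureModule X) (B := L₁) (D := L₂) (![Coh.structureModule X, L₁, L₂])
      (fun i => by fin_cases i <;> simp <;> assumption)
      (fun i => by fin_cases i <;> simp <;> assumption)
      (fun i j hij => by
        fin_cases i <;> fin_cases j <;> simp at hij ⊢ <;>
        first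
          | exact ⟨fun e => h1 ⟨e.symm⟩⟩
          | exact ⟨fun e => h1 ⟨e⟩⟩
          | exact ⟨fun e => h2 ⟨e.symm⟩⟩
          | exact ⟨fun e => h2 ⟨e⟩⟩
          | exact ⟨fun e => h12 ⟨e.symm⟩⟩
          | exact ⟨fun e => h12 ⟨e⟩⟩)
      (![0, 1, 2]) (fun _ => 1)
      (fun i => by
        rw [Groth.Agent.Lib.Helper11.AutCardC.card_fiber]
        fin_cases i <;> rfl)
      (Iso.refl _) (Iso.refl _) (Iso.refl _)]
    simp [Fin.prod_univ_three, pow_succ]

end Groth.Agent.S18787
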