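import Groth.Statements.S18788
import Groth.Agent.Lib.Helper11.AutExtA
import Groth.Agent.Lib.Helper26.AutBiprodOrth
import Groth.Agent.Lib.Helper29.AutExtB

set_option autoImplicit false
universe u
open CategoryTheory CategoryTheory.Limits AlgebraicGeometry
open VBCurve

namespace Groth.Agent.S18788

/-- Let k be a finite field and C a smooth proper geometrically integral curve over k (proper, smooth
and geometrically integral over k, of dimension one) of genus one, i.e. dim_k H^1(C, O_C) = 1, with
a k-rational point O (an elliptic curve over k); k is finite with q elements. Let F be an O_C-module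
with a short exact sequence 0 → O_C → F → O_C → 0 that does not split, and L an invertible
O_C-module of degree 0 (χ(L) − χ(O_C) = 0). Then Aut(O_C ⊕ F) has (q − 1)² q³ elements, and if L ≇
O_C then Aut(O_C ⊕ (L ⊗ F)) has (q − 1)² q elements. (The source states this for E = O_C ⊕ G with G
a geometrically indecomposable rank-2 bundle of degree 0, which it writes as L ⊗ F with F the
non-split self-extension of O_C by a classification it quotes; the row takes G in that form
directly. The accompanying count of isomorphism classes is not restated.) (The published setting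
takes k of characteristic at least 5; the argument does not use this and the row allows every finite
field.) -/
theorem result (k : Type u) [Field k] [Finite k] (X : Scheme.{u}) [X.Over (Spec (CommRingCat.of k))]
    [IsProper (X ↘ Spec (CommRingCat.of k))] [Smooth (X ↘ Spec (CommRingCat.of k))]
    [GeometricallyIntegral (X ↘ Spec (CommRingCat.of k))] (hdim : topologicalKrullDim ↥X = 1)
    (hg : Curv2.genus k X = 1) (O : Spec (CommRingCat.of k) ⟶ X) (hO : O ≫ (X ↘ Spec (CommRingCat.of k)) = 𝟙 _)
    (T : ShortComplex X.Modules) (hT : T.ShortExact)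
    (e₁ : T.X₁ ≅ Coh.structureModule X) (e₃ : T.X₃ ≅ Coh.structureModule X) (hns : ¬ IsSplitEpi T.g)
    (L : X.Modules) (hL : PicF.IsInvertible L) (hdeg : Curv2.deg k X L 1 = 0) :
    Nat.card (Aut (Coh.structureModule X ⊞ T.X₂)) = (Nat.card k - 1) ^ 2 * Nat.card k ^ 3 ∧
    (¬ Nonempty (L ≅ Coh.structureModule X) →
      Nat.card (Aut (Coh.structureModule X ⊞ CohB1.tensorMod L T.X₂)) = (Nat.card k - 1) ^ 2 * Nat.card k) := by
  haveI := Groth.Agent.Lib.Helper11.AutCardB.isIntegral_of_geom (X := X) k
  haveI := Groth.Agent.Lib.Helper11.AutExtA.finite_end (X := X) k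
  have hq := Groth.Agent.Lib.Helper11.AutExtA.card_end (X := X) k
  have hS := Groth.Agent.Lib.Helper11.AutExtA.shortExact_mk T hT e₁ e₃
  have hns' := Groth.Agent.Lib.Helper11.AutExtA.not_isSplitEpi_mk T e₃ hns
  have hdiv := Groth.Agent.Lib.Helper11.AutExtA.isIso_of_ne_zero (X := X) k
  have hlift := Groth.Agent.Lib.Helper11.AutExtA.exists_central_lift T.X₂
    (e₁.inv ≫ T.f) (T.g ≫ e₃.hom)
  constructor
  · have h := Groth.Agent.Lib.Helper29.AutExtB.card_aut_biprod_nonsplit (e₁.inv ≫ T.f) (T.g ≫ e₃.hom) (by simp) hS hns' hdiv hlift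
    rw [hq] at h
    exact h
  · intro hne
    have hF := Groth.Agent.Lib.Helper29.AutExtA.card_aut_nonsplit_mid (e₁.inv ≫ T.f) (T.g ≫ e₃.hom) (by simp) hS hns' hdiv hlift
    rw [hq] at hF
    obtain ⟨M, -, ⟨e⟩⟩ := Groth.Agent.Lib.Helper23.Inverse.exists_isInverseOf hL
    haveI := Groth.Agent.Lib.Helper7.TwFun.isEquivalence_twR L M e
    have hS' := Groth.Agent.Lib.Helper7.TwFun.shortExact_twR L M e _ hS
    obtain ⟨z1, z2⟩ := Groth.Agent.Lib.Helper11.AutExtA.hom_ext_eq_zero k hdim.le _ hS' hL hdeg hne
      (Groth.Agent.Lib.Helper3.InvMonoidal.unitorL L) (Groth.Agent.Lib.Helper3.InvMonoidal.unitorL L)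
    have h3 := Groth.Agent.Lib.Helper26.AutBiprodOrth.card_aut_biprod_orth (X := Coh.structureModule X)
      (Y := (Groth.Agent.Lib.Helper7.TwFun.twR L).obj T.X₂) z1 z2
    have h4 : Nat.card (Aut ((Groth.Agent.Lib.Helper7.TwFun.twR L).obj T.X₂)) = Nat.card (Aut T.X₂) :=
      (Nat.card_congr ((Functor.FullyFaithful.ofFullyFaithful
        (Groth.Agent.Lib.Helper7.TwFun.twR L)).autMulEquivOfFullyFaithful T.X₂).toEquiv).symm
    have h5 : Nat.card (Aut (Coh.structureModule X ⊞ CohB1.tensorMod L T.X₂)) =
        Nat.card (Aut (Coh.structureModule X ⊞ (Groth.Agent.Lib.Helper7.TwFun.twR L).obj T.X₂)) :=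
      Nat.card_congr (biprod.mapIso (Iso.refl (Coh.structureModule X))
        (Groth.Agent.Lib.Helper3.InvMonoidal.braid L T.X₂)).conjAut.toEquiv
    rw [h5, h3, h4, hF, Groth.Agent.Lib.Helper11.AutExtA.card_aut_O k]
    ring

end Groth.Agent.S18788
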