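import Groth.Statements.S18789
import Mathlib.RingTheory.Nakayama
import Mathlib.LinearAlgebra.Matrix.ToLin
import Mathlib.LinearAlgebra.Matrix.Adjugate

set_option autoImplicit false
universe u v w x
open TorusGr

namespace Groth.Agent.S18789

section aux
open DirectSum

variable {k : Type u} [Field k] {M : Type v} [AddCommGroup M] [DecidableEq M]
    {A : Type w} [CommRing A] [Algebra k A] (𝒜 : M → Submodule k A) [GradedAlgebra 𝒜]
    {P : Type x} [AddCommGroup P] [Module A P] [Module k P] [IsScalarTower k A P]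
    (ℳ : M → Submodule k P) [Decomposition ℳ] [SetLike.GradedSMul 𝒜 ℳ]

/-- The degree `d` component, as an additive map. -/
def projHom (d : M) : P →+ P where
  toFun p := (decompose ℳ p d : P)
  map_zero' := by simp
  map_add' x y := by simp [decompose_add]

lemma projHom_apply (d : M) (p : P) : projHom ℳ d p = (decompose ℳ p d : P) := rfl

include 𝒜 in
lemma coe_decompose_smul_of_mem (a : A) {p : P} {d' : M} (hp : p ∈ ℳ d') (d : M) :
    (decompose ℳ (a • p) d : P) = (decompose 𝒜 a (d - d') : A) • p := by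
  induction a using DirectSum.Decomposition.inductionOn 𝒜 with
  | zero => simp
  | @homogeneous e a =>
    have h1 : (a : A) • p ∈ ℳ (e + d') := SetLike.GradedSMul.smul_mem a.2 hp
    by_cases h : e + d' = d
    · subst h
      rw [decompose_of_mem_same ℳ h1, add_sub_cancel_right, decompose_of_mem_same 𝒜 a.2]
    · rw [decompose_of_mem_ne ℳ h1 h, decompose_of_mem_ne 𝒜 a.2 (fun h' => h (by rw [h']; abel)),
        zero_smul]
  | add a b ha hb =>
    rw [add_smul, decompose_add, DirectSum.add_apply, AddMemClass.coe_add, ha, hb, decompose_add,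
      DirectSum.add_apply, AddMemClass.coe_add, add_smul]

include 𝒜 in
lemma coe_decompose_sum_smul {n : ℕ} (wt : Fin n → M) (f : Fin n → P) (hf : ∀ i, f i ∈ ℳ (wt i))
    (c : Fin n → A) (d : M) :
    (decompose ℳ (∑ i, c i • f i) d : P) = ∑ i, (decompose 𝒜 (c i) (d - wt i) : A) • f i := by
  rw [← projHom_apply, map_sum]
  refine Finset.sum_congr rfl fun i _ => ?_
  rw [projHom_apply, coe_decompose_smul_of_mem 𝒜 ℳ (c i) (hf i) d]

end aux

open DirectSum in
/-- Let `A` be a commutative algebra over a field `k`, graded by an additive commutative group `M` (for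
`M` the character group of a split torus `T` this is a `T`-action on `Spec A`, and an `M`-graded
`A`-module is a `T`-equivariant quasi-coherent sheaf), let `P` be a finitely generated projective
`A`-module with a compatible `M`-grading (a locally free `T`-sheaf of finite rank), and let `m` be a
homogeneous maximal ideal with residue field `k` (a `T`-fixed rational point). If homogeneous
elements `f i` of `P` reduce to a basis of `P/mP`, then there is a homogeneous `s ∉ m` such that
after inverting `s` the `f i` generate `P` and every relation among them is killed by a power of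
`s`: on the invariant open `D(s)` the module is free on the homogeneous sections `f i`, with the
weights of the fibre `P/mP`. (The published statement has `M ≅ ℤ^r`, a split torus; here `M` is any
additive commutative group, i.e. any diagonalizable group.) -/
theorem result
    {k : Type u} [Field k] {M : Type v} [AddCommGroup M] [DecidableEq M]
    {A : Type w} [CommRing A] [Algebra k A] (𝒜 : M → Submodule k A) [GradedAlgebra 𝒜]
    {P : Type x} [AddCommGroup P] [Module A P] [Module k P] [IsScalarTower k A P]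
    (ℳ : M → Submodule k P) [Decomposition ℳ] [SetLike.GradedSMul 𝒜 ℳ]
    [Module.Finite A P] [Module.Projective A P]
    (m : Ideal A) [m.IsMaximal] (hm : m.IsHomogeneous 𝒜)
    (hrat : Function.Surjective (algebraMap k (A ⧸ m)))
    {n : ℕ} (wt : Fin n → M) (f : Fin n → P) (hf : ∀ i, f i ∈ ℳ (wt i))
    (hli : LinearIndependent (A ⧸ m)
      (fun i => (Submodule.Quotient.mk (f i) : P ⧸ (m • (⊤ : Submodule A P)))))
    (hsp : Submodule.span A (Set.range f) ⊔ m • (⊤ : Submodule A P) = ⊤) :
    ∃ s : A, SetLike.IsHomogeneousElem 𝒜 s ∧ s ∉ m ∧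
      (∀ p : P, ∃ (N : ℕ) (c : Fin n → A), s ^ N • p = ∑ i, c i • f i) ∧
      (∀ c : Fin n → A, ∑ i, c i • f i = 0 → ∃ N : ℕ, ∀ i, s ^ N * c i = 0) := by
  classical
  -- Step 0: components of nonzero degree lie in `m`
  have hdeg : ∀ (d : M), d ≠ 0 → ∀ x ∈ 𝒜 d, x ∈ m := by
    intro d hd x hx
    obtain ⟨l, hl⟩ := hrat (Ideal.Quotient.mk m x)
    have h1 : x - algebraMap k A l ∈ m := by
      rw [← Ideal.Quotient.eq, ← hl]
      rfl
    have h2 := hm d h1
    rw [decompose_sub, DirectSum.sub_apply, AddSubgroupClass.coe_sub, decompose_of_mem_same 𝒜 hx,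
      decompose_of_mem_ne 𝒜 (SetLike.algebraMap_mem_graded 𝒜 l) (Ne.symm hd), sub_zero] at h2
    exact h2
  have hzero : ∀ b : A, (decompose 𝒜 b 0 : A) ∈ m → b ∈ m := by
    intro b hb
    rw [← DirectSum.sum_support_decompose 𝒜 b]
    refine Ideal.sum_mem _ fun e _ => ?_
    by_cases he : e = 0
    · subst he; exact hb
    · exact hdeg e he _ (SetLike.coe_mem _)
  -- Step 1: Nakayama
  obtain ⟨a, ha1, ha2⟩ := Submodule.exists_sub_one_mem_and_smul_le_of_fg_of_le_sup
    (I := m) (N := Submodule.span A (Set.range f)) (N' := ⊤) (P := ⊤)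
    (Module.Finite.fg_top) le_rfl (by rw [hsp])
  obtain ⟨a₀, ha₀⟩ : ∃ a₀ : A, a₀ = (decompose 𝒜 a 0 : A) := ⟨_, rfl⟩
  have ha₀mem : a₀ ∈ 𝒜 0 := ha₀ ▸ SetLike.coe_mem _
  have ha₀1 : a₀ - 1 ∈ m := by
    have := hm 0 ha1
    rwa [decompose_sub, DirectSum.sub_apply, AddSubgroupClass.coe_sub,
      decompose_of_mem_same 𝒜 (SetLike.GradedOne.one_mem), ← ha₀] at this
  have hmne : (1 : A) ∉ m := (Ideal.ne_top_iff_one m).mp (Ideal.IsMaximal.ne_top inferInstance)
  have ha₀m : a₀ ∉ m := fun h => hmne (by
    have := m.sub_mem h ha₀1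
    simpa using this)
  have hgen : ∀ p : P, a₀ • p ∈ Submodule.span A (Set.range f) := by
    intro p
    induction p using DirectSum.Decomposition.inductionOn ℳ with
    | zero => simp
    | @homogeneous d' p =>
      have h1 : a • (p : P) ∈ Submodule.span A (Set.range f) :=
        ha2 (Submodule.smul_mem_pointwise_smul _ _ _ trivial)
      obtain ⟨c, hc⟩ := (Submodule.mem_span_range_iff_exists_fun A).mp h1
      have h2 := congrArg (fun q => (decompose ℳ q d' : P)) hc
      simp only at h2
      rw [coe_decompose_sum_smul 𝒜 ℳ wt f hf, coe_decompose_smul_of_mem 𝒜 ℳ a p.2, sub_self,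
        ← ha₀] at h2
      rw [← h2]
      exact Submodule.sum_mem _ fun i _ =>
        Submodule.smul_mem _ _ (Submodule.subset_span ⟨i, rfl⟩)
    | add p q hp hq => rw [smul_add]; exact add_mem hp hq
  -- Step 2: the presentation map and a quasi-section
  obtain ⟨φ, hφ⟩ : ∃ φ : (Fin n → A) →ₗ[A] P, ∀ c, φ c = ∑ i, c i • f i :=
    ⟨Fintype.linearCombination A f, fun c => Fintype.linearCombination_apply A f c⟩
  have hrange : ∀ p, a₀ • p ∈ LinearMap.range φ := by
    intro p
    obtain ⟨c, hc⟩ := (Submodule.mem_span_range_iff_exists_fun A).mp (hgen p)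
    exact ⟨c, by rw [hφ, hc]⟩
  obtain ⟨ψ, hψ⟩ := Module.projective_lifting_property φ.rangeRestrict
    ((a₀ • LinearMap.id : P →ₗ[A] P).codRestrict (LinearMap.range φ) hrange)
    (LinearMap.surjective_rangeRestrict φ)
  have hψ' : ∀ p, φ (ψ p) = a₀ • p := fun p => by
    have := congrArg (fun g => ((g p : LinearMap.range φ) : P)) hψ
    simpa using this
  have hker : ∀ c, φ c = 0 → ∀ i, c i ∈ m := by
    intro c hc
    have h1 : ∑ i, Ideal.Quotient.mk m (c i) •
        (Submodule.Quotient.mk (f i) : P ⧸ (m • (⊤ : Submodule A P))) = 0 := by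
      calc ∑ i, Ideal.Quotient.mk m (c i) •
            (Submodule.Quotient.mk (f i) : P ⧸ (m • (⊤ : Submodule A P)))
          = ∑ i, (Submodule.Quotient.mk (c i • f i) : P ⧸ (m • (⊤ : Submodule A P))) :=
            Finset.sum_congr rfl (fun i _ => rfl)
        _ = (Submodule.Quotient.mk (∑ i, c i • f i) : P ⧸ (m • (⊤ : Submodule A P))) :=
            (map_sum (Submodule.mkQ (m • (⊤ : Submodule A P))) _ _).symm
        _ = 0 := by rw [← hφ, hc, Submodule.Quotient.mk_zero]
    have h2 := Fintype.linearIndependent_iff.mp hli _ h1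
    intro i
    exact Ideal.Quotient.eq_zero_iff_mem.mp (h2 i)
  obtain ⟨T, hT⟩ : ∃ T : (Fin n → A) →ₗ[A] (Fin n → A), T = ψ ∘ₗ φ := ⟨_, rfl⟩
  obtain ⟨N, hN⟩ : ∃ N : Matrix (Fin n) (Fin n) A, N = LinearMap.toMatrix' T := ⟨_, rfl⟩
  have hNker : ∀ c, φ c = 0 → N.mulVec c = 0 := by
    intro c hc
    rw [hN, LinearMap.toMatrix'_mulVec, hT, LinearMap.comp_apply, hc, map_zero]
  have hdet : ∀ c, φ c = 0 → ∀ i, N.det * c i = 0 := by
    intro c hc i
    have h1 := congrArg (fun v => (N.adjugate.mulVec v) i) (hNker c hc)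
    simp only [Matrix.mulVec_mulVec, Matrix.adjugate_mul, Matrix.smul_mulVec,
      Matrix.one_mulVec, Matrix.mulVec_zero, Pi.smul_apply, Pi.zero_apply, smul_eq_mul] at h1
    exact h1
  have hNm : (Ideal.Quotient.mk m).mapMatrix N =
      (Ideal.Quotient.mk m a₀) • (1 : Matrix (Fin n) (Fin n) (A ⧸ m)) := by
    ext i j
    have h1 : φ (a₀ • Pi.single j 1 - T (Pi.single j 1)) = 0 := by
      rw [map_sub, map_smul, hT, LinearMap.comp_apply, hψ', sub_self]
    have h2 := hker _ h1 i
    rw [Pi.sub_apply, Pi.smul_apply, smul_eq_mul] at h2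
    rw [RingHom.mapMatrix_apply, Matrix.map_apply, hN, LinearMap.toMatrix'_apply, Matrix.smul_apply,
      Matrix.one_apply, smul_eq_mul]
    have h3 := (Ideal.Quotient.eq).mpr h2
    rw [← h3, map_mul]
    by_cases hij : i = j
    · subst hij; simp
    · simp [hij, Pi.single_apply]
  have hdetm : N.det ∉ m := by
    intro h
    have h3 : Ideal.Quotient.mk m N.det = 0 := Ideal.Quotient.eq_zero_iff_mem.mpr h
    rw [RingHom.map_det, hNm, Matrix.det_smul, Matrix.det_one, mul_one, Fintype.card_fin,
      ← map_pow] at h3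
    exact ha₀m ((Ideal.IsMaximal.isPrime inferInstance).mem_of_pow_mem _
      (Ideal.Quotient.eq_zero_iff_mem.mp h3))
  -- Step 3: the homogeneous element
  obtain ⟨b₀, hb₀⟩ : ∃ b₀ : A, b₀ = (decompose 𝒜 N.det 0 : A) := ⟨_, rfl⟩
  have hb₀mem : b₀ ∈ 𝒜 0 := hb₀ ▸ SetLike.coe_mem _
  have hb₀m : b₀ ∉ m := fun h => hdetm (hzero _ (hb₀ ▸ h))
  refine ⟨a₀ * b₀, ⟨0, ?_⟩, ?_, ?_, ?_⟩
  · have := SetLike.GradedMul.mul_mem ha₀mem hb₀mem
    rwa [add_zero] at this
  · intro h
    rcases (Ideal.IsMaximal.isPrime inferInstance).mem_or_mem h with h | h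
    · exact ha₀m h
    · exact hb₀m h
  · intro p
    obtain ⟨c, hc⟩ := (Submodule.mem_span_range_iff_exists_fun A).mp
      (Submodule.smul_mem _ b₀ (hgen p))
    refine ⟨1, c, ?_⟩
    rw [hc, pow_one, mul_comm, mul_smul]
  · intro c hc
    refine ⟨1, fun i => ?_⟩
    have hrel : ∀ d, φ (fun i => (decompose 𝒜 (c i) (d - wt i) : A)) = 0 := by
      intro d
      have := congrArg (fun q => (decompose ℳ q d : P)) hc
      simp only at this
      rw [coe_decompose_sum_smul 𝒜 ℳ wt f hf, decompose_zero, DirectSum.zero_apply,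
        ZeroMemClass.coe_zero] at this
      rw [hφ]
      exact this
    have hcomp : ∀ e, b₀ * (decompose 𝒜 (c i) e : A) = 0 := by
      intro e
      have h1 := hdet _ (hrel (e + wt i)) i
      have h0 : (decompose 𝒜 (c i) (e + wt i - wt i) : A) = (decompose 𝒜 (c i) e : A) := by
        rw [add_sub_cancel_right]
      rw [h0] at h1
      have h2 := congrArg (fun q => (decompose 𝒜 q (0 + e) : A)) h1
      simp only at h2
      rw [coe_decompose_mul_add_of_right_mem 𝒜 (SetLike.coe_mem _), decompose_zero,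
        DirectSum.zero_apply, ZeroMemClass.coe_zero, ← hb₀] at h2
      exact h2
    calc (a₀ * b₀) ^ 1 * c i = a₀ * (b₀ * c i) := by ring
      _ = a₀ * (b₀ * ∑ e ∈ (decompose 𝒜 (c i)).support, (decompose 𝒜 (c i) e : A)) := by
          rw [DirectSum.sum_support_decompose]
      _ = 0 := by
          rw [Finset.mul_sum, Finset.sum_eq_zero (fun e _ => hcomp e), mul_zero]

end Groth.Agent.S18789
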