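import Groth.Statements.S18791
import Mathlib.LinearAlgebra.Matrix.Adjugate
import Mathlib.RingTheory.Localization.AtPrime.Basic

set_option autoImplicit false
universe u v w x
open TorusGr

namespace Groth.Agent.S18791

/-- Let `φ : B → A` be a degree-preserving homomorphism of commutative algebras over a field `k` graded
by an additive commutative group `M` (for `M` the character group of a split torus, an equivariant
morphism `Spec A → Spec B`), and let `m` be a maximal ideal of `A` containing all homogeneous
elements of non-zero degree (a fixed point). Then the ideal of those `b` whose image is zero in the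
local ring `A_m` is homogeneous: the homogeneous (weight) components of such a `b` again die in
`A_m`. Since `A_m` embeds in its completion when `A` is Noetherian, these are the elements of `B`
that die in the completed local ring. (The published lemma asserts moreover that, for `B = k[Y_1, …,
Y_d]` mapping the `Y_i` to semi-invariant lifts of a basis of `m/m²`, the kernel of the induced
surjection of completions `k[[Y]] → Â_m` is generated by semi-invariant polynomials; generation of
that kernel by polynomials can fail, so only the statement about polynomial elements of the kernel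
is recorded here. The published statement has `M ≅ ℤ^r` (a split torus) and `B` the polynomial ring
on the lifts; here `M` is any additive commutative group and `B` any `M`-graded `k`-algebra.) -/
theorem result
    {k : Type u} [Field k] {M : Type v} [AddCommGroup M] [DecidableEq M]
    {A : Type w} [CommRing A] [Algebra k A] (𝒜 : M → Submodule k A) [GradedAlgebra 𝒜]
    {B : Type x} [CommRing B] [Algebra k B] (ℬ : M → Submodule k B) [GradedAlgebra ℬ]
    (φ : B →ₐ[k] A) (hφ : ∀ i : M, ∀ b ∈ ℬ i, φ b ∈ 𝒜 i)
    (m : Ideal A) [m.IsMaximal] (hfix : ∀ i : M, i ≠ 0 → ∀ a ∈ 𝒜 i, a ∈ m) :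
    (RingHom.ker ((algebraMap A (Localization.AtPrime m)).comp (φ : B →+* A))).IsHomogeneous ℬ := by
  classical
  intro d b hb
  rw [RingHom.mem_ker, RingHom.comp_apply] at hb ⊢
  obtain ⟨⟨s, hs⟩, hsb⟩ := (IsLocalization.map_eq_zero_iff m.primeCompl
    (Localization.AtPrime m) _).mp hb
  simp only at hsb
  have hsm : s ∉ m := hs
  -- the degree zero component of `s` is not in `m`
  have hs0 : (DirectSum.decompose 𝒜 s 0 : A) ∉ m := by
    intro h0
    apply hsm
    rw [← DirectSum.sum_support_decompose 𝒜 s]
    refine Ideal.sum_mem _ fun e _ => ?_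
    by_cases he : e = 0
    · subst he; exact h0
    · exact hfix e he _ (SetLike.coe_mem _)
  set supp := (DirectSum.decompose ℬ b).support with hsupp
  have hφb : (φ : B →+* A) b = ∑ j ∈ supp, φ (DirectSum.decompose ℬ b j : B) := by
    conv_lhs => rw [← DirectSum.sum_support_decompose ℬ b]
    rw [map_sum]
    rfl
  have hamem : ∀ j : M, φ (DirectSum.decompose ℬ b j : B) ∈ 𝒜 j :=
    fun j => hφ j _ (SetLike.coe_mem _)
  -- the linear system
  have hsys : ∀ i : M, ∑ j ∈ supp,
      (DirectSum.decompose 𝒜 s (i - j) : A) * φ (DirectSum.decompose ℬ b j : B) = 0 := by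
    intro i
    have h1 := congrArg (fun x => (DirectSum.decompose 𝒜 x i : A)) hsb
    simp only at h1
    rw [hφb, Finset.mul_sum, DirectSum.decompose_sum, DFinsupp.finset_sum_apply,
      AddSubmonoidClass.coe_finset_sum, DirectSum.decompose_zero, DirectSum.zero_apply,
      ZeroMemClass.coe_zero] at h1
    rw [← h1]
    refine Finset.sum_congr rfl fun j _ => ?_
    have h2 := DirectSum.coe_decompose_mul_add_of_right_mem 𝒜 (i := i - j) (a := s) (hamem j)
    rw [sub_add_cancel] at h2
    exact h2.symm
  let T : Matrix supp supp A := fun i j => (DirectSum.decompose 𝒜 s ((i : M) - (j : M)) : A)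
  let v : supp → A := fun j => φ (DirectSum.decompose ℬ b (j : M) : B)
  have hTv : T.mulVec v = 0 := by
    funext i
    simp only [Matrix.mulVec, dotProduct, Pi.zero_apply, T, v]
    rw [Finset.sum_coe_sort supp (fun j => (DirectSum.decompose 𝒜 s ((i : M) - j) : A) *
      φ (DirectSum.decompose ℬ b j : B))]
    exact hsys i
  have hdetv : ∀ j : supp, T.det * v j = 0 := by
    intro j
    have h1 := congrArg (fun w => (T.adjugate.mulVec w) j) hTv
    simp only [Matrix.mulVec_mulVec, Matrix.adjugate_mul, Matrix.smul_mulVec,
      Matrix.one_mulVec, Matrix.mulVec_zero, Pi.smul_apply, Pi.zero_apply, smul_eq_mul] at h1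
    exact h1
  have hTm : (Ideal.Quotient.mk m).mapMatrix T =
      (Ideal.Quotient.mk m (DirectSum.decompose 𝒜 s 0 : A)) •
        (1 : Matrix supp supp (A ⧸ m)) := by
    ext i j
    rw [RingHom.mapMatrix_apply, Matrix.map_apply, Matrix.smul_apply, Matrix.one_apply,
      smul_eq_mul]
    by_cases hij : i = j
    · subst hij
      simp only [T, if_true, mul_one]
      rw [sub_self]
    · have hne : (i : M) - (j : M) ≠ 0 := fun h => hij (Subtype.ext (sub_eq_zero.mp h))
      rw [if_neg hij, mul_zero]
      exact Ideal.Quotient.eq_zero_iff_mem.mpr (hfix _ hne _ (SetLike.coe_mem _))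
  have hdetm : T.det ∉ m := by
    intro h
    have h3 : Ideal.Quotient.mk m T.det = 0 := Ideal.Quotient.eq_zero_iff_mem.mpr h
    rw [RingHom.map_det, hTm, Matrix.det_smul, Matrix.det_one, mul_one, ← map_pow] at h3
    exact hs0 ((Ideal.IsMaximal.isPrime inferInstance).mem_of_pow_mem _
      (Ideal.Quotient.eq_zero_iff_mem.mp h3))
  by_cases hd : d ∈ supp
  · refine (IsLocalization.map_eq_zero_iff m.primeCompl (Localization.AtPrime m) _).mpr
      ⟨⟨T.det, hdetm⟩, ?_⟩
    exact hdetv ⟨d, hd⟩
  · have : (DirectSum.decompose ℬ b d : B) = 0 := by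
      have := DFinsupp.notMem_support_iff.mp hd
      rw [this]; rfl
    rw [this, map_zero, map_zero]

end Groth.Agent.S18791
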