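import Groth.Statements.S18794
import Mathlib.FieldTheory.IsAlgClosed.AlgebraicClosure
import Mathlib.RingTheory.Flat.Basic
import Mathlib.LinearAlgebra.FreeModule.Basic
import Mathlib.LinearAlgebra.Basis.VectorSpace
import Mathlib.FieldTheory.IntermediateField.Adjoin.Basic
import Mathlib.LinearAlgebra.TensorProduct.Finiteness

set_option autoImplicit false
universe u v w
open scoped TensorProduct
open DefMod

namespace Groth.Agent.S18794

/-- Let E be a left module over an associative algebra D over a field K of characteristic zero. For a
field extension L of K, the base change L ⊗_K E is a module over L ⊗_K D, i.e. an L-vector space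
with a commuting action of D; call it irreducible when it is nonzero and its only L-subspaces stable
under every element of D are 0 and the whole space. Then E is absolutely irreducible (its base
change to an algebraic closure of K is irreducible) if and only if L ⊗_K E is irreducible for every
finite extension L of K. (Finite extensions are taken in the universe of K.) -/
theorem result
    {K : Type u} [Field K] [CharZero K]
    {D : Type v} [Ring D] [Algebra K D]
    {E : Type w} [AddCommGroup E] [Module K E] [Module D E] [IsScalarTower K D E] :
    (Nontrivial (AlgebraicClosure K ⊗[K] E) ∧ ∀ N : Submodule (AlgebraicClosure K) (AlgebraicClosure K ⊗[K] E), (∀ (d : D) (x : AlgebraicClosure K ⊗[K] E), x ∈ N → (DistribSMul.toLinearMap K E d).baseChange (AlgebraicClosure K) x ∈ N) → N = ⊥ ∨ N = ⊤) ↔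
      ∀ (L : Type u) [Field L] [Algebra K L] [FiniteDimensional K L],
        (Nontrivial (L ⊗[K] E) ∧ ∀ N : Submodule (L) (L ⊗[K] E), (∀ (d : D) (x : L ⊗[K] E), x ∈ N → (DistribSMul.toLinearMap K E d).baseChange (L) x ∈ N) → N = ⊥ ∨ N = ⊤) := by
  classical
  constructor
  · rintro ⟨hnt, hirr⟩ L _ _ _
    let ι : L →ₐ[K] AlgebraicClosure K := IsAlgClosed.lift
    let _ : Algebra L (AlgebraicClosure K) := ι.toRingHom.toAlgebra
    have : IsScalarTower K L (AlgebraicClosure K) :=
      IsScalarTower.of_algebraMap_eq (fun x => (ι.commutes x).symm)
    have hιalg : ∀ l : L, algebraMap L (AlgebraicClosure K) l = ι l := fun l => rfl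
    obtain ⟨e0, he0⟩ : ∃ e : E, e ≠ 0 := by
      by_contra! hall
      have hzero : ∀ z : AlgebraicClosure K ⊗[K] E, z = 0 := by
        intro z
        induction z using TensorProduct.induction_on with
        | zero => rfl
        | tmul a x => rw [hall x, TensorProduct.tmul_zero]
        | add x y hx hy => rw [hx, hy, add_zero]
      obtain ⟨z, hz⟩ := exists_ne (0 : AlgebraicClosure K ⊗[K] E)
      exact hz (hzero z)
    refine ⟨⟨⟨(1 : L) ⊗ₜ[K] e0, 0, fun h0 => he0 ?_⟩⟩, ?_⟩
    · apply Module.Flat.tensorProduct_mk_injective (R := K) (S := L) (M := E)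
      rw [map_zero]; exact h0
    intro N hN
    let j : L ⊗[K] E →ₗ[K] AlgebraicClosure K ⊗[K] E := ι.toLinearMap.rTensor E
    have hj_tmul : ∀ (l : L) (e : E), j (l ⊗ₜ e) = ι l ⊗ₜ e := fun l e => rfl
    have hj_inj : Function.Injective j :=
      Module.Flat.rTensor_preserves_injective_linearMap _ ι.toRingHom.injective
    obtain ⟨r, hr⟩ := LinearMap.exists_leftInverse_of_injective
      (Algebra.linearMap L (AlgebraicClosure K))
      (LinearMap.ker_eq_bot.mpr (algebraMap L (AlgebraicClosure K)).injective)
    have hrι : ∀ l : L, r (ι l) = l := fun l => by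
      have := LinearMap.congr_fun hr l
      simp only [LinearMap.comp_apply, Algebra.linearMap_apply, LinearMap.id_apply] at this
      rw [← hιalg]; exact this
    let R : AlgebraicClosure K ⊗[K] E →ₗ[K] L ⊗[K] E := (r.restrictScalars K).rTensor E
    have hR_tmul : ∀ (a : AlgebraicClosure K) (e : E), R (a ⊗ₜ e) = r a ⊗ₜ e := fun a e => rfl
    have key : ∀ (c : AlgebraicClosure K) (n : L ⊗[K] E), R (c • j n) = r c • n := by
      intro c n
      induction n using TensorProduct.induction_on with
      | zero => simp
      | tmul l e =>
        rw [hj_tmul, TensorProduct.smul_tmul', smul_eq_mul, hR_tmul, TensorProduct.smul_tmul',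
          smul_eq_mul]
        congr 1
        have : c * ι l = l • c := by rw [Algebra.smul_def, hιalg, mul_comm]
        rw [this, map_smul, smul_eq_mul, mul_comm]
      | add x y hx hy => rw [map_add, smul_add, map_add, hx, hy, smul_add]
    have hjd : ∀ (d : D) (n : L ⊗[K] E),
        (DistribSMul.toLinearMap K E d).baseChange (AlgebraicClosure K) (j n) =
          j ((DistribSMul.toLinearMap K E d).baseChange L n) := by
      intro d n
      induction n using TensorProduct.induction_on with
      | zero => simp
      | tmul l e => simp [hj_tmul, LinearMap.baseChange_tmul]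
      | add x y hx hy => simp only [map_add, hx, hy]
    let N' : Submodule (AlgebraicClosure K) (AlgebraicClosure K ⊗[K] E) :=
      Submodule.span (AlgebraicClosure K) (j '' (N : Set (L ⊗[K] E)))
    have hN'stab : ∀ (d : D) (x : AlgebraicClosure K ⊗[K] E), x ∈ N' →
        (DistribSMul.toLinearMap K E d).baseChange (AlgebraicClosure K) x ∈ N' := by
      intro d x hx
      induction hx using Submodule.span_induction with
      | mem y hy =>
        obtain ⟨n, hn, rfl⟩ := hy
        rw [hjd]
        exact Submodule.subset_span ⟨_, hN d n hn, rfl⟩
      | zero => rw [map_zero]; exact zero_mem _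
      | add y z _ _ hy hz => rw [map_add]; exact add_mem hy hz
      | smul c y _ hy => rw [map_smul]; exact Submodule.smul_mem _ c hy
    rcases hirr N' hN'stab with hb | ht
    · left
      rw [eq_bot_iff]
      intro n hn
      have : j n ∈ N' := Submodule.subset_span ⟨n, hn, rfl⟩
      rw [hb, Submodule.mem_bot] at this
      rw [Submodule.mem_bot]
      exact hj_inj (this.trans (map_zero j).symm)
    · right
      have hclaim : ∀ y ∈ N', ∀ c : AlgebraicClosure K, R (c • y) ∈ N := by
        intro y hy
        induction hy using Submodule.span_induction with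
        | mem y hy =>
          obtain ⟨n, hn, rfl⟩ := hy
          intro c
          rw [key]
          exact N.smul_mem _ hn
        | zero => intro c; rw [smul_zero, map_zero]; exact zero_mem _
        | add y z _ _ hy hz => intro c; rw [smul_add, map_add]; exact add_mem (hy c) (hz c)
        | smul c' y _ hy => intro c; rw [smul_smul]; exact hy _
      rw [eq_top_iff]
      intro x _
      have h1 : j x ∈ N' := by rw [ht]; exact Submodule.mem_top
      have h2 := hclaim _ h1 1
      rw [key, ← map_one ι, hrι, one_smul] at h2
      exact h2
  · intro h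
    obtain ⟨hntK, -⟩ := h K
    obtain ⟨e0, he0⟩ : ∃ e : E, e ≠ 0 := by
      by_contra! hall
      have hzero : ∀ z : K ⊗[K] E, z = 0 := by
        intro z
        induction z using TensorProduct.induction_on with
        | zero => rfl
        | tmul a x => rw [hall x, TensorProduct.tmul_zero]
        | add x y hx hy => rw [hx, hy, add_zero]
      obtain ⟨z, hz⟩ := exists_ne (0 : K ⊗[K] E)
      exact hz (hzero z)
    refine ⟨⟨⟨(1 : AlgebraicClosure K) ⊗ₜ[K] e0, 0, fun h0 => he0 ?_⟩⟩, ?_⟩
    · apply Module.Flat.tensorProduct_mk_injective (R := K) (S := AlgebraicClosure K) (M := E)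
      rw [map_zero]; exact h0
    intro N hN
    by_cases hbot : N = ⊥
    · left; exact hbot
    right
    obtain ⟨z, hzN, hz0⟩ := (Submodule.ne_bot_iff N).mp hbot
    obtain ⟨S, hS⟩ := TensorProduct.exists_finset z
    let T : Set (AlgebraicClosure K) := ((S.image Prod.fst : Finset (AlgebraicClosure K)) : Set _)
    have : Finite T := Finset.finite_toSet _ |>.to_subtype
    have : FiniteDimensional K (IntermediateField.adjoin K T) :=
      IntermediateField.finiteDimensional_adjoin (fun x _ => Algebra.IsIntegral.isIntegral x)
    obtain ⟨-, hirrL⟩ := h (IntermediateField.adjoin K T)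
    let j : (IntermediateField.adjoin K T) ⊗[K] E →ₗ[IntermediateField.adjoin K T]
        AlgebraicClosure K ⊗[K] E :=
      TensorProduct.AlgebraTensorModule.map
        (Algebra.linearMap (IntermediateField.adjoin K T) (AlgebraicClosure K)) LinearMap.id
    have hj_tmul : ∀ (l : IntermediateField.adjoin K T) (e : E),
        j (l ⊗ₜ e) = (l : AlgebraicClosure K) ⊗ₜ e := fun l e => rfl
    have hjd : ∀ (d : D) (n : (IntermediateField.adjoin K T) ⊗[K] E),
        (DistribSMul.toLinearMap K E d).baseChange (AlgebraicClosure K) (j n) =
          j ((DistribSMul.toLinearMap K E d).baseChange (IntermediateField.adjoin K T) n) := by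
      intro d n
      induction n using TensorProduct.induction_on with
      | zero => simp
      | tmul l e => simp [hj_tmul, LinearMap.baseChange_tmul]
      | add x y hx hy => simp only [map_add, hx, hy]
    let NL : Submodule (IntermediateField.adjoin K T) ((IntermediateField.adjoin K T) ⊗[K] E) :=
      (N.restrictScalars (IntermediateField.adjoin K T)).comap j
    have hNL_mem : ∀ x, x ∈ NL ↔ j x ∈ N := fun x => Iff.rfl
    have hNL_stab : ∀ (d : D) (x : (IntermediateField.adjoin K T) ⊗[K] E), x ∈ NL →
        (DistribSMul.toLinearMap K E d).baseChange (IntermediateField.adjoin K T) x ∈ NL := by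
      intro d x hx
      rw [hNL_mem] at hx ⊢
      rw [← hjd]
      exact hN d _ hx
    rcases hirrL NL hNL_stab with hb | ht
    · exfalso
      have hmem : ∀ i ∈ S, (i.1 : AlgebraicClosure K) ∈ IntermediateField.adjoin K T := by
        intro i hi
        apply IntermediateField.subset_adjoin
        exact Finset.mem_coe.mpr (Finset.mem_image_of_mem Prod.fst hi)
      let zL : (IntermediateField.adjoin K T) ⊗[K] E :=
        ∑ i ∈ S.attach, (⟨i.1.1, hmem i.1 i.2⟩ : IntermediateField.adjoin K T) ⊗ₜ[K] i.1.2
      have hjz : j zL = z := by
        rw [hS, map_sum]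
        simp only [hj_tmul]
        exact Finset.sum_attach S (fun i => i.1 ⊗ₜ[K] i.2)
      have hzL : zL ∈ NL := by rw [hNL_mem, hjz]; exact hzN
      rw [hb, Submodule.mem_bot] at hzL
      apply hz0
      rw [← hjz, hzL, map_zero]
    · rw [eq_top_iff]
      suffices hall : ∀ x : AlgebraicClosure K ⊗[K] E, x ∈ N from fun x _ => hall x
      intro x
      induction x using TensorProduct.induction_on with
      | zero => exact zero_mem _
      | tmul a e =>
        have h1 : ((1 : IntermediateField.adjoin K T) ⊗ₜ[K] e) ∈ NL := by
          rw [ht]; exact Submodule.mem_top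
        rw [hNL_mem, hj_tmul] at h1
        have h2 := N.smul_mem a h1
        rw [TensorProduct.smul_tmul', smul_eq_mul] at h2
        simpa using h2
      | add x y hx hy => exact add_mem hx hy

end Groth.Agent.S18794
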