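import Groth.Statements.S18795
import Mathlib.LinearAlgebra.Eigenspace.Minpoly
import Mathlib.FieldTheory.IsAlgClosed.AlgebraicClosure
import Mathlib.LinearAlgebra.Dual.Lemmas
import Mathlib.RingTheory.Flat.Basic
import Mathlib.LinearAlgebra.FreeModule.Basic
import Mathlib.LinearAlgebra.Basis.VectorSpace

set_option autoImplicit false
universe u v w
open scoped TensorProduct
open DefMod

namespace Groth.Agent.S18795

/-- Let E be a left module over an associative algebra D over a field K of characteristic zero. Assume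
that the D-linear endomorphisms of E form a finite-dimensional K-vector space, that E has a finite
presentation over D, and that E is absolutely irreducible: its base change K̄ ⊗_K E to an algebraic
closure K̄ of K is nonzero and its only K̄-subspaces stable under every element of D are 0 and the
whole space. Then End_D(E) = K: every D-linear endomorphism of E is multiplication by a scalar from
K. -/
theorem result
    {K : Type u} [Field K] [CharZero K]
    {D : Type v} [Ring D] [Algebra K D]
    {E : Type w} [AddCommGroup E] [Module K E] [Module D E] [IsScalarTower K D E]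
    [Module.Finite K (E →ₗ[D] E)] [Module.FinitePresentation D E]
    (habs : (Nontrivial (AlgebraicClosure K ⊗[K] E) ∧ ∀ N : Submodule (AlgebraicClosure K) (AlgebraicClosure K ⊗[K] E), (∀ (d : D) (x : AlgebraicClosure K ⊗[K] E), x ∈ N → (DistribSMul.toLinearMap K E d).baseChange (AlgebraicClosure K) x ∈ N) → N = ⊥ ∨ N = ⊤))
    (φ : E →ₗ[D] E) : ∃ c : K, ∀ x : E, φ x = c • x := by
  classical
  obtain ⟨hnt, hirr⟩ := habs
  let ρ : Module.End D E →ₐ[K] Module.End K E :=
    { toFun := fun f => f.restrictScalars K
      map_one' := rfl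
      map_mul' := fun _ _ => rfl
      map_zero' := rfl
      map_add' := fun _ _ => rfl
      commutes' := fun c => by ext x; rfl }
  let Ψ : Module.End D E →ₐ[K] Module.End (AlgebraicClosure K) (AlgebraicClosure K ⊗[K] E) :=
    (Module.End.baseChangeHom K (AlgebraicClosure K) E).comp ρ
  let g : Module.End (AlgebraicClosure K) (AlgebraicClosure K ⊗[K] E) := Ψ φ
  have hgdef : g = (φ.restrictScalars K).baseChange (AlgebraicClosure K) := rfl
  have hgtmul : ∀ (a : AlgebraicClosure K) (x : E), g (a ⊗ₜ x) = a ⊗ₜ φ x := fun a x => by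
    rw [hgdef, LinearMap.baseChange_tmul]; rfl
  have hφint : IsIntegral K φ := Algebra.IsIntegral.isIntegral φ
  have hgintK : IsIntegral K g := by
    obtain ⟨p, hpm, hp⟩ := hφint
    refine ⟨p, hpm, ?_⟩
    rw [← Polynomial.aeval_def] at hp ⊢
    rw [show g = Ψ φ from rfl, Polynomial.aeval_algHom_apply, hp, map_zero]
  have hgint : IsIntegral (AlgebraicClosure K) g := hgintK.tower_top
  have hdeg := minpoly.degree_pos hgint
  obtain ⟨μ, hμ⟩ := IsAlgClosed.exists_root (minpoly (AlgebraicClosure K) g) hdeg.ne'
  obtain ⟨q, hq⟩ := Polynomial.dvd_iff_isRoot.mpr hμ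
  obtain ⟨v, hv⟩ : ∃ v, Polynomial.aeval g q v ≠ 0 := by
    by_contra! h_contra
    have := minpoly.min (AlgebraicClosure K) g
      ((Polynomial.monic_X_sub_C μ).of_mul_monic_left (hq ▸ minpoly.monic hgint))
      (LinearMap.ext h_contra)
    rw [hq, Polynomial.degree_mul, Polynomial.degree_X_sub_C,
      Polynomial.degree_eq_natDegree] at this
    · norm_cast at this; grind
    · rintro rfl
      exact minpoly.ne_zero hgint (mul_zero (Polynomial.X - Polynomial.C μ) ▸ hq)
  have hev : g (Polynomial.aeval g q v) = μ • Polynomial.aeval g q v := by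
    have h0 : Polynomial.aeval g (minpoly (AlgebraicClosure K) g) = 0 := minpoly.aeval _ g
    rw [hq, map_mul, map_sub, Polynomial.aeval_X, Polynomial.aeval_C] at h0
    have h1 := congrArg (fun h => h v) h0
    simp only [Module.End.mul_apply, LinearMap.sub_apply, Module.algebraMap_end_apply,
      LinearMap.zero_apply] at h1
    exact sub_eq_zero.mp h1
  have hcomm : ∀ d : D, g ∘ₗ (DistribSMul.toLinearMap K E d).baseChange (AlgebraicClosure K) =
      (DistribSMul.toLinearMap K E d).baseChange (AlgebraicClosure K) ∘ₗ g := by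
    intro d
    rw [hgdef, ← LinearMap.baseChange_comp, ← LinearMap.baseChange_comp]
    congr 1
    ext e
    simp
  have hNstab : ∀ (d : D) (x : AlgebraicClosure K ⊗[K] E), x ∈ Module.End.eigenspace g μ →
      (DistribSMul.toLinearMap K E d).baseChange (AlgebraicClosure K) x ∈
        Module.End.eigenspace g μ := by
    intro d x hx
    rw [Module.End.mem_eigenspace_iff] at hx ⊢
    have := congrArg (fun h => h x) (hcomm d)
    simp only [LinearMap.comp_apply] at this
    rw [this, hx, map_smul]
  rcases hirr _ hNstab with h | h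
  · exfalso
    have : Polynomial.aeval g q v ∈ Module.End.eigenspace g μ :=
      Module.End.mem_eigenspace_iff.mpr hev
    rw [h, Submodule.mem_bot] at this
    exact hv this
  have hgμ : ∀ z, g z = μ • z := fun z =>
    Module.End.mem_eigenspace_iff.mp (h ▸ Submodule.mem_top)
  obtain ⟨e, he⟩ : ∃ e : E, e ≠ 0 := by
    by_contra! hall
    have hzero : ∀ z : AlgebraicClosure K ⊗[K] E, z = 0 := by
      intro z
      induction z using TensorProduct.induction_on with
      | zero => rfl
      | tmul a x => rw [hall x, TensorProduct.tmul_zero]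
      | add x y hx hy => rw [hx, hy, add_zero]
    obtain ⟨z, hz⟩ := exists_ne (0 : AlgebraicClosure K ⊗[K] E)
    exact hz (hzero z)
  obtain ⟨ℓ, hℓ⟩ : ∃ ℓ : Module.Dual K E, ℓ e ≠ 0 := by
    by_contra! hall
    exact he ((Module.forall_dual_apply_eq_zero_iff K e).mp hall)
  let Λ : AlgebraicClosure K ⊗[K] E →ₗ[AlgebraicClosure K] AlgebraicClosure K :=
    (TensorProduct.AlgebraTensorModule.rid K (AlgebraicClosure K) (AlgebraicClosure K)).toLinearMap ∘ₗ
      ℓ.baseChange (AlgebraicClosure K)
  have hΛ : ∀ (a : AlgebraicClosure K) (x : E), Λ (a ⊗ₜ x) = ℓ x • a := fun a x => by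
    simp only [Λ, LinearMap.comp_apply, LinearMap.baseChange_tmul, LinearEquiv.coe_coe,
      TensorProduct.AlgebraTensorModule.rid_tmul]
  have h1 := congrArg Λ (hgμ (1 ⊗ₜ e))
  rw [hgtmul, map_smul, hΛ, hΛ, smul_eq_mul] at h1
  have hμc : μ = algebraMap K (AlgebraicClosure K) (ℓ (φ e) / ℓ e) := by
    rw [Algebra.smul_def, Algebra.smul_def, mul_one, mul_one] at h1
    rw [map_div₀, h1, mul_div_assoc, div_self ((map_ne_zero _).mpr hℓ), mul_one]
  refine ⟨ℓ (φ e) / ℓ e, fun x => ?_⟩
  apply Module.Flat.tensorProduct_mk_injective (R := K) (S := AlgebraicClosure K) (M := E)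
  change (1 : AlgebraicClosure K) ⊗ₜ[K] φ x = 1 ⊗ₜ[K] ((ℓ (φ e) / ℓ e) • x)
  rw [← hgtmul, hgμ, hμc, algebraMap_smul, TensorProduct.tmul_smul]

end Groth.Agent.S18795
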