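import Groth.Statements.S18796
import Mathlib.LinearAlgebra.FreeModule.Basic
import Mathlib.LinearAlgebra.Basis.VectorSpace

set_option autoImplicit false
universe u v w w' u'
open scoped TensorProduct
open DefMod

namespace Groth.Agent.S18796

/-- Let K be a field of characteristic zero, D an associative K-algebra, E a left D-module that is
finitely presented over D, F a left D-module and P a commutative K-algebra. The canonical P-linear
map Φ : P ⊗_K Hom_D(E, F) → Hom_P(P ⊗_K E, P ⊗_K F), determined by p ⊗ f ↦ p · (1_P ⊗ f), is
injective, and its image consists exactly of the P-linear maps that commute with the action of every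
element of D; in other words Φ identifies P ⊗_K Hom_D(E, F) with the module of homomorphisms P ⊗_K E
→ P ⊗_K F over P ⊗_K D. The map Φ is pinned here by its values on pure tensors. -/
theorem result
    {K : Type u} [Field K] [CharZero K]
    {D : Type v} [Ring D] [Algebra K D]
    {E : Type w} [AddCommGroup E] [Module K E] [Module D E] [IsScalarTower K D E]
    [Module.FinitePresentation D E]
    {F : Type w'} [AddCommGroup F] [Module K F] [Module D F] [IsScalarTower K D F]
    (P : Type u') [CommRing P] [Algebra K P]
    (Φ : P ⊗[K] (E →ₗ[D] F) →ₗ[P] (P ⊗[K] E →ₗ[P] P ⊗[K] F))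
    (hΦ : ∀ (p : P) (f : E →ₗ[D] F), Φ (p ⊗ₜ[K] f) = p • (f.restrictScalars K).baseChange P) :
    Function.Injective Φ ∧
      ∀ g : P ⊗[K] E →ₗ[P] P ⊗[K] F,
        g ∈ LinearMap.range Φ ↔
          ∀ d : D, g ∘ₗ (DistribSMul.toLinearMap K E d).baseChange P =
            (DistribSMul.toLinearMap K F d).baseChange P ∘ₗ g := by
  classical
  let ℬ := Module.Free.chooseBasis K P
  let eF := TensorProduct.equivFinsuppOfBasisLeft (N := F) ℬ
  let eH := TensorProduct.equivFinsuppOfBasisLeft (N := E →ₗ[D] F) ℬ
  have hcoordD : ∀ (d : D) (z : P ⊗[K] F) i,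
      eF ((DistribSMul.toLinearMap K F d).baseChange P z) i = d • eF z i := by
    intro d z i
    induction z using TensorProduct.induction_on with
    | zero => simp
    | tmul p f =>
      rw [LinearMap.baseChange_tmul]
      simp only [eF, TensorProduct.equivFinsuppOfBasisLeft_apply_tmul_apply,
        DistribSMul.toLinearMap_apply]
      rw [smul_comm]
    | add x y hx hy => simp only [map_add, Finsupp.add_apply, hx, hy, smul_add]
  have hΦcoord : ∀ (x : P ⊗[K] (E →ₗ[D] F)) (e : E) i,
      eF (Φ x (1 ⊗ₜ e)) i = (eH x i) e := by
    intro x e i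
    induction x using TensorProduct.induction_on with
    | zero => simp
    | tmul p f =>
      rw [hΦ]
      simp only [LinearMap.smul_apply, LinearMap.baseChange_tmul, LinearMap.coe_restrictScalars]
      rw [TensorProduct.smul_tmul', smul_eq_mul, mul_one]
      simp only [eF, eH, TensorProduct.equivFinsuppOfBasisLeft_apply_tmul_apply,
        LinearMap.smul_apply]
    | add x y hx hy => simp only [map_add, LinearMap.add_apply, Finsupp.add_apply, hx, hy]
  refine ⟨?_, ?_⟩
  · rw [injective_iff_map_eq_zero]
    intro x hx
    apply eH.injective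
    rw [map_zero]
    refine Finsupp.ext fun i => LinearMap.ext fun e => ?_
    rw [← hΦcoord, hx]
    simp
  · intro g
    constructor
    · rintro ⟨x, rfl⟩ d
      induction x using TensorProduct.induction_on with
      | zero => simp
      | tmul p f =>
        rw [hΦ, LinearMap.smul_comp, LinearMap.comp_smul, ← LinearMap.baseChange_comp,
          ← LinearMap.baseChange_comp]
        congr 2
        ext e
        simp
      | add x y hx hy => rw [map_add, LinearMap.add_comp, LinearMap.comp_add, hx, hy]
    · intro hg
      have hg' : ∀ (d : D) (e : E), g (1 ⊗ₜ (d • e)) =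
          (DistribSMul.toLinearMap K F d).baseChange P (g (1 ⊗ₜ e)) := by
        intro d e
        have := congrArg (fun h => h (1 ⊗ₜ[K] e)) (hg d)
        simpa [LinearMap.baseChange_tmul] using this
      let gi : Module.Free.ChooseBasisIndex K P → (E →ₗ[D] F) := fun i =>
        { toFun := fun e => eF (g (1 ⊗ₜ e)) i
          map_add' := fun e e' => by
            rw [TensorProduct.tmul_add, map_add, map_add, Finsupp.add_apply]
          map_smul' := fun d e => by rw [hg', hcoordD, RingHom.id_apply] }
      obtain ⟨S, hS⟩ := (Module.Finite.fg_top : (⊤ : Submodule D E).FG)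
      let T : Finset (Module.Free.ChooseBasisIndex K P) :=
        S.biUnion fun e => (eF (g (1 ⊗ₜ e))).support
      have hgi0 : ∀ i ∉ T, gi i = 0 := by
        intro i hi
        refine LinearMap.ext_on hS (fun e he => ?_)
        change eF (g (1 ⊗ₜ e)) i = 0
        by_contra hne
        exact hi (Finset.mem_biUnion.mpr ⟨e, he, Finsupp.mem_support_iff.mpr hne⟩)
      refine ⟨∑ i ∈ T, ℬ i ⊗ₜ gi i, ?_⟩
      have key : ∀ e, Φ (∑ i ∈ T, ℬ i ⊗ₜ gi i) (1 ⊗ₜ e) = g (1 ⊗ₜ e) := by
        intro e
        apply eF.injective
        refine Finsupp.ext fun i => ?_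
        rw [hΦcoord, map_sum, Finsupp.finsetSum_apply, LinearMap.sum_apply]
        simp only [eH, TensorProduct.equivFinsuppOfBasisLeft_apply_tmul_apply,
          Module.Basis.repr_self, Finsupp.single_apply, ite_smul, one_smul, zero_smul]
        rw [← LinearMap.sum_apply, Finset.sum_ite_eq' T i]
        by_cases hi : i ∈ T
        · rw [if_pos hi]; rfl
        · rw [if_neg hi]
          have := hgi0 i hi
          exact (congrArg (fun h => h e) this).symm
      refine TensorProduct.AlgebraTensorModule.ext fun p e => ?_
      have : p ⊗ₜ[K] e = p • ((1 : P) ⊗ₜ[K] e) := by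
        rw [TensorProduct.smul_tmul', smul_eq_mul, mul_one]
      rw [this, map_smul, map_smul, key]

end Groth.Agent.S18796
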