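import Groth.Statements.S18797


set_option autoImplicit false
universe u v w
open DefMod

namespace Groth.Agent.S18797

/-- Let K be a field of characteristic zero, O a commutative K-algebra with a K-linear derivation ∂, and
E a finite free O-module equipped with a K-linear map ∂_E satisfying the Leibniz rule ∂_E(a e) =
∂(a) e + a ∂_E(e) (a differential module). The induced derivation on End_O(E) sends φ to ∂_E ∘ φ − φ
∘ ∂_E, which is again O-linear; the trace End_O(E) → O is compatible with the two derivations:
tr(∂_E ∘ φ − φ ∘ ∂_E) = ∂(tr φ). Here the O-linear map ψ = ∂_E ∘ φ − φ ∘ ∂_E is given by its values.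
(The published lemma also asserts that the trace is split surjective and that it respects commutator
brackets; the split surjectivity fails for E = 0 over a nonzero ring and holds only in positive
rank, and neither clause is restated.) -/
theorem result
    {K : Type u} [Field K] [CharZero K]
    {O : Type v} [CommRing O] [Algebra K O] (δ : Derivation K O O)
    {E : Type w} [AddCommGroup E] [Module O E] [Module K E] [IsScalarTower K O E]
    [Module.Free O E] [Module.Finite O E]
    (δE : E →ₗ[K] E) (hδE : ∀ (a : O) (e : E), δE (a • e) = δ a • e + a • δE e)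
    (φ ψ : E →ₗ[O] E) (hψ : ∀ e : E, ψ e = δE (φ e) - φ (δE e)) :
    LinearMap.trace O E ψ = δ (LinearMap.trace O E φ) := by
  classical
  let b := Module.Free.chooseBasis O E
  set M : Module.Free.ChooseBasisIndex O E → Module.Free.ChooseBasisIndex O E → O :=
    fun i j => b.repr (φ (b j)) i with hM
  set N : Module.Free.ChooseBasisIndex O E → Module.Free.ChooseBasisIndex O E → O :=
    fun i j => b.repr (δE (b j)) i with hNdef
  have hφ : ∀ j, φ (b j) = ∑ i, M i j • b i := fun j => (b.sum_repr _).symm
  have hN : ∀ j, δE (b j) = ∑ i, N i j • b i := fun j => (b.sum_repr _).symm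
  have hA : ∀ j, δE (φ (b j)) = ∑ i, (δ (M i j) + ∑ l, N i l * M l j) • b i := by
    intro j
    rw [hφ j, map_sum]
    simp_rw [hδE, Finset.sum_add_distrib, add_smul, Finset.sum_add_distrib]
    congr 1
    simp_rw [hN, Finset.smul_sum, Finset.sum_smul, smul_smul]
    rw [Finset.sum_comm]
    refine Finset.sum_congr rfl fun i _ => Finset.sum_congr rfl fun l _ => ?_
    rw [mul_comm]
  have hB : ∀ j, φ (δE (b j)) = ∑ i, (∑ l, M i l * N l j) • b i := by
    intro j
    rw [hN j, map_sum]
    simp_rw [map_smul, hφ, Finset.smul_sum, Finset.sum_smul, smul_smul]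
    rw [Finset.sum_comm]
    refine Finset.sum_congr rfl fun i _ => Finset.sum_congr rfl fun l _ => ?_
    rw [mul_comm]
  have key : ∀ j, b.repr (ψ (b j)) j =
      δ (M j j) + ∑ l, N j l * M l j - ∑ l, M j l * N l j := by
    intro j
    rw [hψ, hA, hB, map_sub, Finsupp.sub_apply, b.repr_sum_self, b.repr_sum_self]
  rw [LinearMap.trace_eq_matrix_trace O b ψ, LinearMap.trace_eq_matrix_trace O b φ]
  simp only [Matrix.trace, Matrix.diag_apply, LinearMap.toMatrix_apply, map_sum]
  simp_rw [key, Finset.sum_sub_distrib, Finset.sum_add_distrib]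
  rw [add_sub_assoc]
  have : ∑ j, ∑ l, N j l * M l j = ∑ j, ∑ l, M j l * N l j := by
    rw [Finset.sum_comm]
    refine Finset.sum_congr rfl fun i _ => Finset.sum_congr rfl fun l _ => ?_
    rw [mul_comm]
  rw [this, sub_self, add_zero]

end Groth.Agent.S18797
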