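import Groth.Statements.S18798
import Groth.Agent.Lib.Helper19.ArtFunLength

set_option autoImplicit false
universe u v
open CategoryTheory
open scoped TensorProduct
open ArtFun

namespace Groth.Agent.S18798

open Groth.Agent.Lib.Helper19.ArtFunBasic Groth.Agent.Lib.Helper19.ArtFunLength in
/-- The map `g : B ×_A B → k[ε]` for a small extension `p : B → A` with kernel `(t)`. -/
theorem exists_g {k : Type u} [Field k] {B A P : ArtFun.Art k k} (p : B ⟶ A)
    (hp : ArtFun.Art.IsSmallExt p) (p₁ p₂ : P ⟶ B) (hP : ArtFun.Art.IsFibreProd p₁ p₂ p p) :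
    ∃ (g : P ⟶ ArtFun.Art.dual k k),
      ArtFun.Art.IsFibreProd p₁ g (ArtFun.Art.toBase B) (ArtFun.Art.toBase (ArtFun.Art.dual k k)) := by
  classical
  obtain ⟨hsurj, hne, hprin, hm⟩ := hp
  obtain ⟨t, ht⟩ := hprin.principal
  have ht0 : t ≠ 0 := by
    rintro rfl
    apply hne
    rw [ht]; simp
  have htker : t ∈ RingHom.ker p.toAlgHom := by rw [ht]; exact Submodule.mem_span_singleton_self t
  have hmt : ∀ r ∈ IsLocalRing.maximalIdeal B, r * t = 0 := by
    intro r hr
    have : r * t ∈ IsLocalRing.maximalIdeal B * RingHom.ker p.toAlgHom := Ideal.mul_mem_mul hr htker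
    rw [hm] at this
    exact this
  have hrt : ∀ r : B, r * t = B.res r • t := by
    intro r
    have h1 : r - algebraMap k B (B.res r) ∈ IsLocalRing.maximalIdeal B := by
      rw [ArtFun.Art.mem_maximalIdeal_iff, map_sub, AlgHom.commutes]
      simp
    have h2 := hmt _ h1
    rw [sub_mul, sub_eq_zero] at h2
    rw [h2, Algebra.smul_def]
  have huniq : ∀ c c' : k, c • t = c' • t → c = c' := by
    intro c c' h
    by_contra hne'
    have hc : c - c' ≠ 0 := sub_ne_zero.mpr hne'
    have h2 : (c - c') • t = 0 := by rw [sub_smul, h, sub_self]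
    apply ht0
    rw [← inv_smul_smul₀ hc t, h2, smul_zero]
  have hex : ∀ z : P, ∃ c : k, p₂ z - p₁ z = c • t := by
    intro z
    have h1 : p₂ z - p₁ z ∈ RingHom.ker p.toAlgHom := by
      rw [RingHom.mem_ker, map_sub, sub_eq_zero]
      exact (hP.w_apply z).symm
    rw [ht] at h1
    obtain ⟨r, hr⟩ := Ideal.mem_span_singleton'.mp h1
    exact ⟨B.res r, by rw [← hr, hrt]⟩
  choose c hc using hex
  have hres₁ : ∀ z : P, B.res (p₁ z) = P.res z := fun z => ArtFun.Art.res_app p₁ z
  have hres₂ : ∀ z : P, B.res (p₂ z) = P.res z := fun z => ArtFun.Art.res_app p₂ z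
  have c_add : ∀ z z', c (z + z') = c z + c z' := by
    intro z z'
    apply huniq
    rw [← hc, add_smul, ← hc, ← hc, map_add, map_add]
    ring
  have c_mul : ∀ z z', c (z * z') = P.res z * c z' + c z * P.res z' := by
    intro z z'
    apply huniq
    rw [← hc, map_mul, map_mul]
    have e : p₂ z * p₂ z' - p₁ z * p₁ z' =
        p₂ z * (p₂ z' - p₁ z') + (p₂ z - p₁ z) * p₁ z' := by ring
    rw [e, hc z, hc z', mul_smul_comm, smul_mul_assoc, hrt, mul_comm t, hrt, hres₂, hres₁,
      add_smul, mul_smul, mul_smul]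
    rw [smul_comm]
  have c_alg : ∀ a : k, c (algebraMap k P a) = 0 := by
    intro a
    apply huniq
    rw [← hc, zero_smul, AlgHom.commutes, AlgHom.commutes, sub_self]
  let g₀ : P →ₐ[k] DualNumber k :=
    { toFun := fun z => TrivSqZeroExt.inl (P.res z) + TrivSqZeroExt.inr (c z)
      map_one' := by
        have : c 1 = 0 := by have := c_alg 1; rwa [map_one] at this
        rw [this, map_one]; simp
      map_mul' := by
        intro z z'
        rw [c_mul, map_mul]
        ext <;> simp [mul_comm]
      map_zero' := by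
        have : c 0 = 0 := by have := c_alg 0; rwa [map_zero] at this
        rw [this, map_zero]; simp
      map_add' := by
        intro z z'
        rw [c_add, map_add]
        ext <;> simp
      commutes' := by
        intro a
        rw [c_alg, AlgHom.commutes]
        ext <;> simp [TrivSqZeroExt.algebraMap_eq_inl] }
  have hg₀fst : ∀ z, TrivSqZeroExt.fst (g₀ z) = P.res z := by intro z; simp [g₀]
  have hg₀snd : ∀ z, TrivSqZeroExt.snd (g₀ z) = c z := by intro z; simp [g₀]
  let g : P ⟶ ArtFun.Art.dual k k := ArtFun.Art.homMk g₀ (by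
    apply AlgHom.ext
    intro z
    exact hg₀fst z)
  refine ⟨g, ⟨?_, ?_, ?_⟩⟩
  · rw [ArtFun.Art.eq_toBase (p₁ ≫ ArtFun.Art.toBase B),
      ArtFun.Art.eq_toBase (g ≫ ArtFun.Art.toBase (ArtFun.Art.dual k k))]
  · intro z z' h1 h2
    apply hP.inj z z' h1
    have hcz : c z = c z' := by
      have := congrArg TrivSqZeroExt.snd h2
      change TrivSqZeroExt.snd (g₀ z) = TrivSqZeroExt.snd (g₀ z') at this
      rwa [hg₀snd, hg₀snd] at this
    have e1 := hc z
    have e2 := hc z'
    rw [hcz, ← e2, h1] at e1
    exact sub_left_injective e1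
  · intro b d hbd
    have hbd' : B.res b = TrivSqZeroExt.fst d := hbd
    obtain ⟨z, hz1, hz2⟩ := hP.surj b (b + TrivSqZeroExt.snd d • t) (by
      rw [map_add, map_smul]
      have : p t = 0 := htker
      rw [this, smul_zero, add_zero])
    refine ⟨z, hz1, ?_⟩
    change g₀ z = d
    have hcz : c z = TrivSqZeroExt.snd d := by
      apply huniq
      rw [← hc, hz1, hz2]; ring
    ext
    · rw [hg₀fst, ← hbd', ← hz1, hres₁]
    · rw [hg₀snd, hcz]

/-- In the case of set-valued deformation functors, let k be a field of characteristic zero and φ : F →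
G a morphism of set-valued deformation functors on Artinian local k-algebras with residue field k
(each of F(k), G(k) is a single point and F, G satisfy (RS): bijectivity of the comparison map for
fibre-product squares A₁ ×_A A₂ with A₂ → A surjective). Let V, W be obstruction theories for F, G
in the vector-space form (obstruction classes in V ⊗ J for surjections with kernel J annihilated by
the maximal ideal, vanishing exactly when the element lifts), and let γ : V → W be an injective
k-linear map compatible with φ on small extensions: the obstruction of φ(x) along a small extension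
p equals (γ ⊗ 1) applied to the obstruction of x along p. If the tangent map F(k[ε]) → G(k[ε]) is
surjective, then φ is smooth. (The published statement is for deformation categories cofibred in
groupoids with obstruction spaces defined on small extensions only; it is rendered here for
set-valued functors with obstruction theories defined on all surjections whose kernel is annihilated
by the maximal ideal, the compatibility being required on small extensions only.) -/
theorem result
    {k : Type u} [Field k] [CharZero k]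
    {F G : ArtFun.Art k k ⥤ Type v} (φ : F ⟶ G)
    (hF0 : ArtFun.H0 F) (hFrs : (∀ ⦃B A A' A'' : ArtFun.Art k k⦄ (p' : B ⟶ A') (p'' : B ⟶ A'') (f' : A' ⟶ A) (f'' : A'' ⟶ A)
        (h : ArtFun.Art.IsFibreProd p' p'' f' f''), Function.Surjective f'' → Function.Bijective (ArtFun.cmp F h)))
    (hG0 : ArtFun.H0 G) (hGrs : (∀ ⦃B A A' A'' : ArtFun.Art k k⦄ (p' : B ⟶ A') (p'' : B ⟶ A'') (f' : A' ⟶ A) (f'' : A'' ⟶ A)
        (h : ArtFun.Art.IsFibreProd p' p'' f' f''), Function.Surjective f'' → Function.Bijective (ArtFun.cmp G h)))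
    {V W : Type u} [AddCommGroup V] [Module k V] [AddCommGroup W] [Module k W]
    (oF : ArtFun.ObsTheory F V) (oG : ArtFun.ObsTheory G W)
    (γ : V →ₗ[k] W) (hγ : Function.Injective γ)
    (hcompat : ∀ ⦃C' C : ArtFun.Art k k⦄ (p : C' ⟶ C) (hp : ArtFun.Art.IsSmallExt p) (x : F.obj C),
      oG.obs p hp.isSemismallExt (φ.app C x) = LinearMap.rTensor _ γ (oF.obs p hp.isSemismallExt x))
    (hT : Function.Surjective (ArtFun.TangentSpace.map φ)) :
    ArtFun.IsSmooth φ := by
  classical
  intro B A μ hμ
  refine Groth.Agent.Lib.Helper19.ArtFunBasic.surjective_induction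
    (P := fun A B (μ : B ⟶ A) => Function.Surjective (ArtFun.relCmp φ μ)) ?_ ?_ ?_ μ hμ
  · -- isomorphisms
    intro A B e he
    rintro ⟨⟨x, y⟩, hxy⟩
    have hxy' : φ.app A x = G.map e y := hxy
    refine ⟨F.map (inv e) x, ?_⟩
    refine Subtype.ext (Prod.ext ?_ ?_)
    · change F.map e (F.map (inv e) x) = x
      rw [← FunctorToTypes.map_comp_apply, IsIso.inv_hom_id, FunctorToTypes.map_id_apply]
    · change φ.app B (F.map (inv e) x) = y
      rw [FunctorToTypes.naturality, hxy', ← FunctorToTypes.map_comp_apply, IsIso.hom_inv_id,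
        FunctorToTypes.map_id_apply]
  · -- small extensions
    intro A B p hp
    rintro ⟨⟨x, y⟩, hxy⟩
    have hxy' : φ.app A x = G.map p y := hxy
    have h1 : oG.obs p hp.isSemismallExt (φ.app A x) = 0 :=
      (oG.obs_eq_zero_iff p _ _).mpr ⟨y, hxy'.symm⟩
    rw [hcompat p hp x] at h1
    have hinj : Function.Injective (LinearMap.rTensor (↥(RingHom.ker p.toAlgHom)) γ) :=
      Module.Flat.rTensor_preserves_injective_linearMap γ hγ
    have h2 : oF.obs p hp.isSemismallExt x = 0 := hinj (h1.trans (map_zero _).symm)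
    obtain ⟨z₀, hz₀⟩ := (oF.obs_eq_zero_iff p _ x).mp h2
    obtain ⟨P, p₁, p₂, hP⟩ := Groth.Agent.Lib.Helper19.ArtFunLength.exists_isFibreProd p p hp.1
    obtain ⟨g, h'⟩ := exists_g p hp p₁ p₂ hP
    -- G-side: element of G(P) over (φ z₀, y)
    have hy₁ : G.map p (φ.app B z₀) = G.map p y := by
      rw [← FunctorToTypes.naturality, hz₀, hxy']
    obtain ⟨w, hw⟩ := (hGrs p₁ p₂ p p hP hp.1).2 ⟨(φ.app B z₀, y), hy₁⟩
    have hw1 : G.map p₁ w = φ.app B z₀ := congrArg (fun q => q.1.1) hw
    have hw2 : G.map p₂ w = y := congrArg (fun q => q.1.2) hw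
    obtain ⟨s, hs⟩ := hT (G.map g w)
    have hs' : φ.app (ArtFun.Art.dual k k) s = G.map g w := hs
    have hdsurj : Function.Surjective (ArtFun.Art.toBase (ArtFun.Art.dual k k)) :=
      (ArtFun.Art.dual k k).res_surjective
    obtain ⟨v, hv⟩ := (hFrs p₁ g (ArtFun.Art.toBase B) (ArtFun.Art.toBase (ArtFun.Art.dual k k))
      h' hdsurj).2 ⟨(z₀, s), @Subsingleton.elim _ hF0.2 _ _⟩
    have hv1 : F.map p₁ v = z₀ := congrArg (fun q => q.1.1) hv
    have hv2 : F.map g v = s := congrArg (fun q => q.1.2) hv
    have hφv : φ.app P v = w := by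
      apply (hGrs p₁ g (ArtFun.Art.toBase B) (ArtFun.Art.toBase (ArtFun.Art.dual k k))
        h' hdsurj).1
      apply ArtFun.FibProd.ext
      · change G.map p₁ (φ.app P v) = G.map p₁ w
        rw [← FunctorToTypes.naturality, hv1, hw1]
      · change G.map g (φ.app P v) = G.map g w
        rw [← FunctorToTypes.naturality, hv2, hs']
    refine ⟨F.map p₂ v, ?_⟩
    refine Subtype.ext (Prod.ext ?_ ?_)
    · change F.map p (F.map p₂ v) = x
      rw [← FunctorToTypes.map_comp_apply, ← hP.w, FunctorToTypes.map_comp_apply, hv1, hz₀]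
    · change φ.app B (F.map p₂ v) = y
      rw [FunctorToTypes.naturality, hφv, hw2]
  · -- composition
    intro A B C p q hp hq
    rintro ⟨⟨x, y⟩, hxy⟩
    have hxy' : φ.app A x = G.map (p ≫ q) y := hxy
    obtain ⟨z', hz'⟩ := hq ⟨(x, G.map p y), by
      change φ.app A x = G.map q (G.map p y)
      rw [hxy', FunctorToTypes.map_comp_apply]⟩
    have hz'1 : F.map q z' = x := congrArg (fun r => r.1.1) hz'
    have hz'2 : φ.app B z' = G.map p y := congrArg (fun r => r.1.2) hz'
    obtain ⟨z, hz⟩ := hp ⟨(z', y), hz'2⟩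
    have hz1 : F.map p z = z' := congrArg (fun r => r.1.1) hz
    have hz2 : φ.app C z = y := congrArg (fun r => r.1.2) hz
    refine ⟨z, ?_⟩
    refine Subtype.ext (Prod.ext ?_ ?_)
    · change F.map (p ≫ q) z = x
      rw [FunctorToTypes.map_comp_apply, hz1, hz'1]
    · exact hz2

end Groth.Agent.S18798
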