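import Groth.Statements.S18802
import Mathlib.Algebra.Module.Projective
import Mathlib.LinearAlgebra.Basis.VectorSpace

set_option autoImplicit false
universe u v w w' w''
open DefMod

namespace Groth.Agent.S18802

/-- Let K be a field of characteristic zero, D an associative K-algebra and E, F left D-modules. A
K-linear map s : D → Hom_K(E, F) with s(ab)(e) = a s(b)(e) + s(a)(b e) (a derivation into the
bimodule Hom_K(E, F), i.e. a Hochschild 1-cocycle) defines the twisted sum F ⊕_s E = F × E with a ·
(f, e) = (a f + s(a) e, a e), an extension of E by F. Every extension of left D-modules 0 → F → Q →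
E → 0 arises this way: there are such an s and a D-linear isomorphism Q ≅ F ⊕_s E carrying the given
map F → Q to the inclusion f ↦ (f, 0) and compatible with the two projections onto E. (Together with
the splitting criterion this identifies derivations modulo principal derivations with Ext¹_D(E, F);
the compatibility of that identification with addition and scalars is not restated.) -/
theorem result
    {K : Type u} [Field K] [CharZero K]
    {D : Type v} [Ring D] [Algebra K D]
    {E : Type w} [AddCommGroup E] [Module K E] [Module D E] [IsScalarTower K D E]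
    {F : Type w'} [AddCommGroup F] [Module K F] [Module D F] [IsScalarTower K D F]
    {Q : Type w''} [AddCommGroup Q] [Module D Q]
    (i : F →ₗ[D] Q) (p : Q →ₗ[D] E) (hi : Function.Injective i) (hp : Function.Surjective p)
    (hex : Function.Exact i p) :
    ∃ (s : D →ₗ[K] E →ₗ[K] F) (hs : W4c6defoisocp1.IsHomDerivation s) (Φ : Q ≃ₗ[D] W4c6defoisocp1.TwistExt s hs),
      (∀ f : F, Φ (i f) = W4c6defoisocp1.TwistExt.inl f) ∧ ∀ q : Q, W4c6defoisocp1.TwistExt.snd (Φ q) = p q := by
  let _ : Module K Q := Module.compHom Q (algebraMap K D)
  have : IsScalarTower K D Q := ⟨fun k a q => by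
    change (k • a) • q = (algebraMap K D k) • (a • q)
    rw [Algebra.smul_def, mul_smul]⟩
  obtain ⟨t, ht⟩ := LinearMap.exists_rightInverse_of_surjective (p.restrictScalars K)
    (LinearMap.range_eq_top.mpr hp)
  have hpt : ∀ e, p (t e) = e := fun e => by
    have := congrArg (fun g => g e) ht
    simpa using this
  -- the "F-component" of q
  have hker : ∀ q : Q, ∃ f : F, i f = q - t (p q) := by
    intro q
    have : p (q - t (p q)) = 0 := by rw [map_sub, hpt, sub_self]
    obtain ⟨f, hf⟩ := (hex _).mp this
    exact ⟨f, hf⟩
  choose π hπ using hker
  have hπadd : ∀ x y, π (x + y) = π x + π y := by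
    intro x y
    apply hi
    rw [map_add, hπ, hπ, hπ, map_add, map_add]; abel
  have hπsmulK : ∀ (k : K) x, π (k • x) = k • π x := by
    intro k x
    apply hi
    have e1 : k • x = (algebraMap K D k) • x := (algebraMap_smul D k x).symm
    have e2 : k • π x = (algebraMap K D k) • π x := (algebraMap_smul D k (π x)).symm
    have e3 : (algebraMap K D k) • p x = k • p x := algebraMap_smul D k (p x)
    have e4 : k • t (p x) = (algebraMap K D k) • t (p x) := (algebraMap_smul D k (t (p x))).symm
    calc i (π (k • x)) = k • x - t (p (k • x)) := hπ _
      _ = (algebraMap K D k) • x - t (p ((algebraMap K D k) • x)) := by rw [e1]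
      _ = (algebraMap K D k) • x - t ((algebraMap K D k) • p x) := by rw [map_smul]
      _ = (algebraMap K D k) • x - t (k • p x) := by rw [e3]
      _ = (algebraMap K D k) • x - k • t (p x) := by rw [map_smul]
      _ = (algebraMap K D k) • x - (algebraMap K D k) • t (p x) := by rw [e4]
      _ = (algebraMap K D k) • (x - t (p x)) := (smul_sub _ _ _).symm
      _ = (algebraMap K D k) • i (π x) := by rw [hπ]
      _ = i ((algebraMap K D k) • π x) := (map_smul _ _ _).symm
      _ = i (k • π x) := by rw [e2]
  -- the cocycle
  let s : D →ₗ[K] E →ₗ[K] F :=
    { toFun := fun a =>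
        { toFun := fun e => π (a • t e)
          map_add' := by
            intro x y
            rw [map_add, smul_add, hπadd]
          map_smul' := by
            intro k x
            rw [map_smul, smul_comm, hπsmulK, RingHom.id_apply] }
      map_add' := by
        intro a b
        ext e
        change π ((a + b) • t e) = π (a • t e) + π (b • t e)
        rw [add_smul, hπadd]
      map_smul' := by
        intro k a
        ext e
        change π ((k • a) • t e) = k • π (a • t e)
        rw [smul_assoc, hπsmulK] }
  have hs_apply : ∀ a e, s a e = π (a • t e) := fun _ _ => rfl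
  have his : ∀ a e, i (s a e) = a • t e - t (a • e) := by
    intro a e
    rw [hs_apply, hπ, map_smul, hpt]
  have hs : W4c6defoisocp1.IsHomDerivation s := by
    intro a b e
    apply hi
    rw [map_add, map_smul, his, his, his, mul_smul, mul_smul, smul_sub]
    abel
  have hπsmul : ∀ (a : D) (q : Q), π (a • q) = a • π q + s a (p q) := by
    intro a q
    apply hi
    rw [map_add, map_smul, his, hπ, hπ, map_smul, smul_sub]
    abel
  have hπi : ∀ f, π (i f) = f := by
    intro f
    apply hi
    rw [hπ]
    have : p (i f) = 0 := (hex _).mpr ⟨f, rfl⟩
    rw [this, map_zero, sub_zero]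
  have hπt : ∀ e, π (t e) = 0 := by
    intro e
    apply hi
    rw [hπ, hpt, sub_self, map_zero]
  refine ⟨s, hs, { toFun := fun q => W4c6defoisocp1.TwistExt.mk (π q, p q)
                   map_add' := ?_
                   map_smul' := ?_
                   invFun := fun x => i (W4c6defoisocp1.TwistExt.val x).1 +
                      t (W4c6defoisocp1.TwistExt.val x).2
                   left_inv := ?_
                   right_inv := ?_ }, ?_, ?_⟩
  · intro x y
    refine W4c6defoisocp1.TwistExt.ext ?_ ?_
    · simp [hπadd]
    · simp
  · intro a q
    refine W4c6defoisocp1.TwistExt.ext ?_ ?_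
    · simp [hπsmul]
    · simp
  · intro q
    simp only [W4c6defoisocp1.TwistExt.val_mk]
    rw [hπ]; abel
  · intro x
    refine W4c6defoisocp1.TwistExt.ext ?_ ?_
    · simp [hπadd, hπi, hπt]
    · have : p (i (W4c6defoisocp1.TwistExt.val x).1) = 0 := (hex _).mpr ⟨_, rfl⟩
      simp [hpt, this]
  · intro f
    refine W4c6defoisocp1.TwistExt.ext ?_ ?_
    · simp [hπi]
    · have : p (i f) = 0 := (hex _).mpr ⟨_, rfl⟩
      simp [this]
  · intro q
    rfl

end Groth.Agent.S18802
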