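import Groth.Statements.S18804
-- import your own Groth.Agent.* helpers here
import Groth.Agent.Lib.Helper7.CurveGG
import Groth.Agent.Lib.Helper23.GeomH0
import Groth.Agent.Lib.Helper23.FBC5
import Groth.Agent.Lib.Helper12.OmegaAffine1

set_option autoImplicit false
universe u
open CategoryTheory CategoryTheory.Limits AlgebraicGeometry
open Curves

namespace Groth.Agent.S18804

/-- Let k be an algebraically closed field of characteristic zero, X a smooth proper integral curve over
k (integral, proper and smooth over k, of dimension one) of genus g, and L an invertible O_X-module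
of degree deg L = χ(L) − χ(O_X) at least 2g + 3. Then L is 3-very ample: every closed subscheme Z of
X of length 4 imposes independent conditions on H^0(X, L), stated as dim_k H^0(X, L ⊗ I) + 4 = dim_k
H^0(X, L) for every quasi-coherent ideal I of O_X with dim_k H^0(X, O_X/I) = 4. -/
theorem result
    (k : Type u) [Field k] [IsAlgClosed k] [CharZero k]
    (X : Scheme.{u}) [X.Over (Spec (CommRingCat.of k))] [IsIntegral X]
    [IsProper (X ↘ Spec (CommRingCat.of k))] [Smooth (X ↘ Spec (CommRingCat.of k))]
    (hdim : topologicalKrullDim X = 1)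
    (L : X.Modules) (hL : PicF.IsInvertible L)
    (hdeg : 2 * (Curv2.genus k X : ℤ) + 3 ≤ Curv2.deg k X L 1)
    (I : X.IdealSheafData) (hI : Module.finrank k (Coh.HH X (ClSub.quotMod I) 0) = 4) :
    Module.finrank k (Coh.HH X (CohB1.tensorMod L (ClSub.idealMod I)) 0) + 4 =
      Module.finrank k (Coh.HH X L 0) := by
  open Groth.Agent.Lib.Helper23.Curve Groth.Agent.Lib.Helper23.T2 Groth.Agent.Lib.Helper23.EffCart
    Groth.Agent.Lib.Helper7.CurvePair Groth.Agent.Lib.Helper3 in
  haveI := isNoetherian_of_isProper k X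
  have h0 := Groth.Agent.Lib.Helper23.GeomH0.finrank_H0_eq_one_of_isAlgClosed k X
  have hd1 : topologicalKrullDim X ≤ 1 := hdim.le
  have hIne : I ≠ ⊥ := by
    intro hbot
    haveI : IsIso I.subschemeι := (Scheme.isIso_subschemeι_iff_eq_bot I).mpr hbot
    haveI : IsIso (ClSub.toSubscheme I) :=
      Groth.Agent.Lib.Helper12.OmegaAffine.isIso_unitToPush I.subschemeι
    have := (Groth.Agent.Lib.Helper23.FBC.HmapEquivK k (asIso (ClSub.toSubscheme I)) 0).finrank_eq
    rw [h0, hI] at this
    omega
  have hsne : (I.support : Set X) ≠ Set.univ := by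
    intro h
    apply hIne
    rw [← Scheme.IdealSheafData.support_eq_top_iff]
    exact TopologicalSpace.Closeds.ext h
  obtain ⟨hfin, hpt⟩ := finite_of_isClosed_ne_univ hd1 _ I.support.isClosed hsne
  have hZ : topologicalKrullDim (I.support : Set X) ≤ 0 := by
    haveI : Finite (I.support : Set X) := hfin
    haveI : T1Space (I.support : Set X) := ⟨fun s => by
      have : ({s} : Set (I.support : Set X)) = Subtype.val ⁻¹' {s.1} := by
        ext t
        exact ⟨fun h => congrArg Subtype.val h, fun h => Subtype.ext h⟩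
      rw [this]; exact (hpt s.1 s.2).preimage continuous_subtype_val⟩
    exact topologicalKrullDim_zero_of_discreteTopology _
  have hχ := euler_ideal_tensor k hd1 h0 hL I hZ
  have hv := (h1_ideal_tensor_vanish k hd1 h0 hL I hZ (by rw [hI]; push_cast; linarith)).1
  have hMcoh : Coh.IsCoh (CohB1.tensorMod (ClSub.idealMod I) L) :=
    isCoh_tensor X (isCoh_idealMod k I) (isCoh_of_isInvertible hL)
  have hχ2 := euler_eq_h0_sub_h1 k hd1 _ hMcoh
  have hvL := h1_vanish_of_deg_ge' k hd1 h0 hL (by linarith)
  have hrr := riemann_roch k hd1 h0 hL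
  have e1 : Module.finrank k (Coh.HH X (CohB1.tensorMod (ClSub.idealMod I) L) 1) = 0 :=
    Module.finrank_zero_of_subsingleton
  have e2 : Module.finrank k (Coh.HH X L 1) = 0 := Module.finrank_zero_of_subsingleton
  have hbr := (Groth.Agent.Lib.Helper23.FBC.HmapEquivK k
    (InvMonoidal.braid L (ClSub.idealMod I)) 0).finrank_eq
  rw [hbr]
  rw [hχ2, e1, hI] at hχ
  rw [e2] at hrr
  push_cast at hχ hrr
  have : (Module.finrank k (Coh.HH X (CohB1.tensorMod (ClSub.idealMod I) L) 0) : ℤ) + 4 =
      (Module.finrank k (Coh.HH X L 0) : ℤ) := by linarith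
  exact_mod_cast this

end Groth.Agent.S18804
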