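import Groth.Statements.S18811
import Mathlib

set_option autoImplicit false
universe u
open CategoryTheory CategoryTheory.Limits AlgebraicGeometry
open Variety

namespace Groth.Agent.S18811

/-- Let k be a field and X, Y quasi-compact k-schemes whose diagonal morphisms over k are affine
(semi-separated; for instance X and Y separated over k). Then the canonical map Γ(X, O_X) ⊗_k Γ(Y,
O_Y) → Γ(X ×_k Y, O) is an isomorphism: the commutative square of rings of global sections formed by
Spec k, X, Y and X ×_k Y with the pullback maps along the structure morphisms and the two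
projections is a pushout square of commutative rings. -/
theorem result (k : Type u) [Field k]
    (X : Scheme.{u}) [X.Over (Spec (CommRingCat.of k))] [CompactSpace ↥X]
    [IsAffineHom (pullback.diagonal (X ↘ (Spec (CommRingCat.of k))))]
    (Y : Scheme.{u}) [Y.Over (Spec (CommRingCat.of k))] [CompactSpace ↥Y]
    [IsAffineHom (pullback.diagonal (Y ↘ (Spec (CommRingCat.of k))))] :
    IsPushout (X ↘ (Spec (CommRingCat.of k))).appTop (Y ↘ (Spec (CommRingCat.of k))).appTop
      (pullback.fst (X ↘ (Spec (CommRingCat.of k))) (Y ↘ (Spec (CommRingCat.of k)))).appTop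
      (pullback.snd (X ↘ (Spec (CommRingCat.of k))) (Y ↘ (Spec (CommRingCat.of k)))).appTop := by
  have H := IsPullback.of_hasPullback (X ↘ (Spec (CommRingCat.of k))) (Y ↘ (Spec (CommRingCat.of k)))
  have hqsX : QuasiSeparatedSpace ↥X := by
    haveI : QuasiSeparated (X ↘ (Spec (CommRingCat.of k))) := ⟨inferInstance⟩
    exact (quasiSeparated_iff_quasiSeparatedSpace (X ↘ (Spec (CommRingCat.of k)))).mp inferInstance
  have hqsY : QuasiSeparatedSpace ↥Y := by
    haveI : QuasiSeparated (Y ↘ (Spec (CommRingCat.of k))) := ⟨inferInstance⟩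
    exact (quasiSeparated_iff_quasiSeparatedSpace (Y ↘ (Spec (CommRingCat.of k)))).mp inferInstance
  have hflat : ((X ↘ (Spec (CommRingCat.of k))).appLE ⊤ ⊤ le_top).hom.Flat := by
    exact .of_isField (isField_of_isIntegral_of_subsingleton _) _
  have key := isIso_pushoutSection_of_isCompact_of_flat_right_of_ringHomFlat H
    (US := ⊤) (UT := ⊤) (UX := ⊤) le_top le_top (UY := ⊤) (by simp)
    (isAffineOpen_top _) isCompact_univ isQuasiSeparated_univ isCompact_univ isQuasiSeparated_univ
    hflat
  have key2 := (isIso_pushoutSection_iff H le_top le_top (by simp)).mp key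
  have e : ∀ {A B : Scheme.{u}} (φ : A ⟶ B), φ.appLE ⊤ ⊤ le_top = φ.appTop := by
    intro A B φ
    simp [Scheme.Hom.appLE, Scheme.Hom.appTop]
  rw [e, e, e, e] at key2
  exact key2

end Groth.Agent.S18811
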