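import Groth.Statements.S18818
import Groth.Agent.Lib.Helper28.ComodHom

set_option autoImplicit false
universe u v w
open TensorProduct
open HopfRep
open Groth.Agent.Lib.Helper19.Reynolds

namespace Groth.Agent.S18818

/-- Let k be a field, C a k-coalgebra and V a right C-comodule which is semisimple in the sense that
every subcomodule has a complementary subcomodule (equivalently every injective comodule map into V
splits). Then V is completely reducible: V is the sum of its simple subcomodules, the nonzero
subcomodules W whose only subcomodules are 0 and W. (The source states this for representations of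
an affine monoid scheme over k, i.e. left comodules over its coordinate bialgebra; the converse
implication and the stability of the class under subobjects and quotients are not part of this row.) -/
theorem result (k : Type u) [Field k]
    (C : Type v) [AddCommGroup C] [Module k C] [Coalgebra k C]
    (V : Type w) [AddCommGroup V] [Module k V] [HopfRep.Comod k C V] (hV : HopfRep.IsSemisimpleComod k C V) :
    (⨆ W : {W : Submodule k V // HopfRep.IsSubcomod (k := k) (A := C) W ∧ W ≠ ⊥ ∧
        ∀ W' : Submodule k V, HopfRep.IsSubcomod (k := k) (A := C) W' → W' ≤ W → W' = ⊥ ∨ W' = W},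
      (W.1 : Submodule k V)) = ⊤ := by
  classical
  have hss : IsSemisimpleModule (opAlg k C V) V := isSemisimpleComod_iff.mp hV
  set L : Submodule k V := ⨆ W : {W : Submodule k V // HopfRep.IsSubcomod (k := k) (A := C) W ∧
      W ≠ ⊥ ∧ ∀ W' : Submodule k V, HopfRep.IsSubcomod (k := k) (A := C) W' → W' ≤ W →
        W' = ⊥ ∨ W' = W}, (W.1 : Submodule k V) with hL
  have hLsub : HopfRep.IsSubcomod (k := k) (A := C) L :=
    Groth.Agent.Lib.Helper28.ComodHom.isSubcomod_iSup _ (fun W => W.2.1)
  have h1 : sSup {m : Submodule (opAlg k C V) V | IsSimpleModule (opAlg k C V) m} ≤ toOp L hLsub := by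
    refine sSup_le fun m hm => ?_
    have hat : IsAtom m := isSimpleModule_iff_isAtom.mp hm
    have hm' := isSubcomod_restrictScalars m
    have hat' : IsAtom (toOp (m.restrictScalars k) hm') := by
      rw [toOp_of_restrictScalars]; exact hat
    have hcond := (isAtom_toOp_iff _ hm').mp hat'
    intro x hx
    exact Submodule.mem_iSup_of_mem ⟨m.restrictScalars k, hm', hcond.1, hcond.2⟩ hx
  rw [IsSemisimpleModule.sSup_simples_eq_top] at h1
  rw [eq_top_iff]
  intro v _
  exact h1 (Submodule.mem_top : v ∈ (⊤ : Submodule (opAlg k C V) V))

end Groth.Agent.S18818
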