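import Groth.Statements.S18821


set_option autoImplicit false
universe u
open CategoryTheory MonoidalCategory CartesianMonoidalCategory MonObj AlgebraicGeometry
open AlgGrp

namespace Groth.Agent.S18821

/-- Let k be a commutative ring and M a monoid k-scheme (a monoid object in k-schemes). Then the group
k-functor of units T ↦ M(T)^× is representable by a k-scheme: there are a k-scheme G and a
monomorphism i : G → M such that, for every k-scheme T, a T-valued point of M factors through i if
and only if it is invertible in the monoid M(T). If moreover M is affine then G is affine. -/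
theorem result (k : Type u) [CommRing k]
    (M : Over (Spec (CommRingCat.of k))) [MonObj M] :
    ∃ (G : Over (Spec (CommRingCat.of k))) (i : G ⟶ M), Mono i ∧
      (∀ (T : Over (Spec (CommRingCat.of k))) (m : T ⟶ M), (∃ g : T ⟶ G, g ≫ i = m) ↔ IsUnit m) ∧
      (IsAffine M.left → IsAffine G.left) := by
  classical
  let u : M ⊗ M ⟶ M ⊗ M :=
    lift (CartesianMonoidalCategory.fst M M * CartesianMonoidalCategory.snd M M)
      (CartesianMonoidalCategory.snd M M * CartesianMonoidalCategory.fst M M)
  let e : 𝟙_ (Over (Spec (CommRingCat.of k))) ⟶ M ⊗ M := lift 1 1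
  have hu : ∀ {T : Over (Spec (CommRingCat.of k))} (q : T ⟶ M ⊗ M),
      q ≫ u = toUnit T ≫ e ↔
        (q ≫ CartesianMonoidalCategory.fst M M) * (q ≫ CartesianMonoidalCategory.snd M M) = 1 ∧
        (q ≫ CartesianMonoidalCategory.snd M M) * (q ≫ CartesianMonoidalCategory.fst M M) = 1 := by
    intro T q
    have e1 : q ≫ u = lift ((q ≫ CartesianMonoidalCategory.fst M M) *
        (q ≫ CartesianMonoidalCategory.snd M M))
        ((q ≫ CartesianMonoidalCategory.snd M M) * (q ≫ CartesianMonoidalCategory.fst M M)) := by
      simp only [u, comp_lift, MonObj.comp_mul]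
    have e2 : toUnit T ≫ e = lift 1 1 := by
      simp only [e, comp_lift, MonObj.comp_one]
    rw [e1, e2]
    constructor
    · intro h
      have h1 := congrArg (fun f => f ≫ CartesianMonoidalCategory.fst M M) h
      have h2 := congrArg (fun f => f ≫ CartesianMonoidalCategory.snd M M) h
      simp only [lift_fst, lift_snd] at h1 h2
      exact ⟨h1, h2⟩
    · rintro ⟨h1, h2⟩
      rw [h1, h2]
  refine ⟨Limits.pullback u e, Limits.pullback.fst u e ≫ CartesianMonoidalCategory.fst M M,
    ?_, ?_, ?_⟩
  · -- mono
    constructor
    intro T g₁ g₂ h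
    have c₁ := (hu (g₁ ≫ Limits.pullback.fst u e)).mp (by
      rw [Category.assoc, Limits.pullback.condition, ← Category.assoc]
      congr 1; exact toUnit_unique _ _)
    have c₂ := (hu (g₂ ≫ Limits.pullback.fst u e)).mp (by
      rw [Category.assoc, Limits.pullback.condition, ← Category.assoc]
      congr 1; exact toUnit_unique _ _)
    simp only [Category.assoc] at h c₁ c₂
    apply Limits.pullback.hom_ext
    · apply CartesianMonoidalCategory.hom_ext
      · simpa only [Category.assoc] using h
      · simp only [Category.assoc]
        set a₁ := g₁ ≫ Limits.pullback.fst u e ≫ CartesianMonoidalCategory.fst M M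
        set a₂ := g₂ ≫ Limits.pullback.fst u e ≫ CartesianMonoidalCategory.fst M M
        set b₁ := g₁ ≫ Limits.pullback.fst u e ≫ CartesianMonoidalCategory.snd M M
        set b₂ := g₂ ≫ Limits.pullback.fst u e ≫ CartesianMonoidalCategory.snd M M
        have ha : a₁ = a₂ := h
        calc b₁ = b₁ * (a₂ * b₂) := by rw [c₂.1, _root_.mul_one]
          _ = (b₁ * a₁) * b₂ := by rw [ha, _root_.mul_assoc]
          _ = b₂ := by rw [c₁.2, _root_.one_mul]
    · exact toUnit_unique _ _
  · intro T m
    constructor
    · rintro ⟨g, rfl⟩
      have c := (hu (g ≫ Limits.pullback.fst u e)).mp (by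
        rw [Category.assoc, Limits.pullback.condition, ← Category.assoc]
        congr 1; exact toUnit_unique _ _)
      simp only [Category.assoc] at c
      exact ⟨⟨_, _, c.1, c.2⟩, rfl⟩
    · rintro ⟨w, rfl⟩
      have hq : lift (w : T ⟶ M) ((w⁻¹ : (T ⟶ M)ˣ) : T ⟶ M) ≫ u = toUnit T ≫ e := by
        rw [hu]
        simp only [lift_fst, lift_snd]
        exact ⟨w.mul_inv, w.inv_mul⟩
      refine ⟨Limits.pullback.lift _ _ hq, ?_⟩
      rw [Limits.pullback.lift_fst_assoc, lift_fst]
  · intro hM
    have hP : IsAffine (M ⊗ M).left := by
      change IsAffine (Limits.pullback M.hom M.hom)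
      infer_instance
    have h0 : IsAffine (𝟙_ (Over (Spec (CommRingCat.of k)))).left := by
      change IsAffine (Spec (CommRingCat.of k)); infer_instance
    have h1 : IsAffine (Limits.pullback ((Over.forget (Spec (CommRingCat.of k))).map u)
        ((Over.forget (Spec (CommRingCat.of k))).map e)) := by
      change IsAffine (Limits.pullback u.left e.left)
      infer_instance
    let iso := Limits.PreservesPullback.iso (Over.forget (Spec (CommRingCat.of k))) u e
    exact IsAffine.of_isIso iso.hom

end Groth.Agent.S18821
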