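import Groth.Statements.S18822
import Mathlib.CategoryTheory.Sites.SubcanonicalOver
import Mathlib.AlgebraicGeometry.Sites.BigZariski

set_option autoImplicit false
universe u
open CategoryTheory MonoidalCategory CartesianMonoidalCategory MonObj AlgebraicGeometry Opposite
open Magnet

namespace Groth.Agent.S18822

/-- Let k be a commutative ring, M a monoid k-scheme and X a k-scheme with an action a of M. Then the
fixed-point subpresheaf X^M of X, whose T-valued points are the k-morphisms x : T → X such that g ·
(x ∘ t) = x ∘ t for every k-scheme T', every t : T' → T and every T'-valued point g of M, is a sheaf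
for the Zariski topology on k-schemes (the topology induced on schemes over Spec k). -/
theorem result (k : Type u) [CommRing k]
    (M X : Over (Spec (CommRingCat.of k))) [MonObj M] (a : Magnet.MonAct M X) :
    Presheaf.IsSheaf (Scheme.zariskiTopology.over (Spec (CommRingCat.of k))) (Magnet.MonAct.fixedPsh a) := by
  rw [isSheaf_iff_isSheaf_of_type]
  have hY : Presieve.IsSheaf (Scheme.zariskiTopology.over (Spec (CommRingCat.of k)))
      (yoneda.obj X) :=
    GrothendieckTopology.Subcanonical.isSheaf_of_isRepresentable _
  intro T R hR xs hxs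
  -- the underlying family of points of X
  let ys : Presieve.FamilyOfElements (yoneda.obj X) R.arrows := fun Y f hf => (xs f hf).1
  have hys : ys.Compatible := by
    intro Y₁ Y₂ Z g₁ g₂ f₁ f₂ h₁ h₂ hcomm
    have := hxs g₁ g₂ h₁ h₂ hcomm
    exact congrArg Subtype.val this
  obtain ⟨y, hy, huniq⟩ := hY R hR ys hys
  have hy' : ∀ {Y : Over (Spec (CommRingCat.of k))} (f : Y ⟶ T) (hf : R.arrows f),
      f ≫ y = (xs f hf).1 := fun f hf => hy f hf
  have hfix : ∀ (T' : Over (Spec (CommRingCat.of k))) (t : T' ⟶ T) (g : T' ⟶ M),
      lift g (t ≫ y) ≫ a.act = t ≫ y := by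
    intro T' t g
    refine (hY _ ((Scheme.zariskiTopology.over (Spec (CommRingCat.of k))).pullback_stable t
      hR)).isSeparatedFor.ext ?_
    intro T'' s hs
    have hs' : R.arrows (s ≫ t) := hs
    change s ≫ lift g (t ≫ y) ≫ a.act = s ≫ t ≫ y
    rw [← Category.assoc, comp_lift, ← Category.assoc s t y, hy' (s ≫ t) hs']
    have := (xs (s ≫ t) hs').2 T'' (𝟙 T'') (s ≫ g)
    rw [Category.id_comp] at this
    exact this
  refine ⟨⟨y, hfix⟩, ?_, ?_⟩
  · intro Y f hf
    exact Subtype.ext (hy' f hf)
  · intro z hz
    apply Subtype.ext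
    apply huniq
    intro Y f hf
    exact congrArg Subtype.val (hz f hf)

end Groth.Agent.S18822
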