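import Groth.Statements.S18824
import Groth.Agent.Lib.Helper22.ActionPts
import Groth.Agent.Lib.Helper28.OverWhisker
import Groth.Agent.Lib.Helper15.QcDescent
import Mathlib.AlgebraicGeometry.Morphisms.UniversallyOpen
import Mathlib.AlgebraicGeometry.Noetherian

set_option autoImplicit false
universe u
open CategoryTheory MonoidalCategory CartesianMonoidalCategory MonObj AlgebraicGeometry
open AlgGrp

namespace Groth.Agent.S18824

/-- Let k be a field, G a locally algebraic group over k (a group k-scheme locally of finite type)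
acting on a k-scheme X through a : G ×_k X → X, and U an open subset of X. Let G·U ⊆ X be the image
under a of G ×_k U (the preimage of U under the projection). Then G·U is open in X, contains U, is
G-stable in the sense that a maps G ×_k (G·U) into G·U, and is the smallest such set: every G-stable
open subset of X containing U contains G·U. -/
theorem result (k : Type u) [Field k]
    (G X : Over (Spec (CommRingCat.of k))) [GrpObj G] [LocallyOfFiniteType G.hom] (a : AlgGrp.Action G X)
    (U : Set ↥X.left) (hU : IsOpen U) :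
    IsOpen (a.act.left.base '' ((CartesianMonoidalCategory.snd G X).left.base ⁻¹' U)) ∧
      U ⊆ a.act.left.base '' ((CartesianMonoidalCategory.snd G X).left.base ⁻¹' U) ∧
      a.act.left.base '' ((CartesianMonoidalCategory.snd G X).left.base ⁻¹'
          (a.act.left.base '' ((CartesianMonoidalCategory.snd G X).left.base ⁻¹' U))) ⊆
        a.act.left.base '' ((CartesianMonoidalCategory.snd G X).left.base ⁻¹' U) ∧
      ∀ W : Set ↥X.left, IsOpen W → U ⊆ W →
        a.act.left.base '' ((CartesianMonoidalCategory.snd G X).left.base ⁻¹' W) ⊆ W →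
          a.act.left.base '' ((CartesianMonoidalCategory.snd G X).left.base ⁻¹' U) ⊆ W := by
  classical
  -- the shear isomorphism
  let p : G ⊗ X ⟶ G := CartesianMonoidalCategory.fst G X
  let q : G ⊗ X ⟶ X := CartesianMonoidalCategory.snd G X
  have hact : a.act = Groth.Agent.Lib.Helper22.smul a p q := by
    rw [Groth.Agent.Lib.Helper22.smul_def]
    have : lift p q = 𝟙 (G ⊗ X) := by
      apply CartesianMonoidalCategory.hom_ext <;> simp [p, q]
    rw [this, Category.id_comp]
  let σ : G ⊗ X ⟶ G ⊗ X := lift p (Groth.Agent.Lib.Helper22.smul a p q)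
  let τ : G ⊗ X ⟶ G ⊗ X := lift p (Groth.Agent.Lib.Helper22.smul a p⁻¹ q)
  have hσp : σ ≫ p = p := lift_fst _ _
  have hσq : σ ≫ q = Groth.Agent.Lib.Helper22.smul a p q := lift_snd _ _
  have hτp : τ ≫ p = p := lift_fst _ _
  have hτq : τ ≫ q = Groth.Agent.Lib.Helper22.smul a p⁻¹ q := lift_snd _ _
  have hστ : σ ≫ τ = 𝟙 _ := by
    apply CartesianMonoidalCategory.hom_ext
    · rw [Category.assoc, Category.id_comp]
      change σ ≫ τ ≫ p = p
      rw [hτp, hσp]
    · rw [Category.assoc, Category.id_comp]
      change σ ≫ τ ≫ q = q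
      rw [hτq, Groth.Agent.Lib.Helper22.comp_smul, GrpObj.comp_inv, hσp, hσq,
        Groth.Agent.Lib.Helper22.pt_inv_smul_smul]
  have hτσ : τ ≫ σ = 𝟙 _ := by
    apply CartesianMonoidalCategory.hom_ext
    · rw [Category.assoc, Category.id_comp]
      change τ ≫ σ ≫ p = p
      rw [hσp, hτp]
    · rw [Category.assoc, Category.id_comp]
      change τ ≫ σ ≫ q = q
      rw [hσq, Groth.Agent.Lib.Helper22.comp_smul, hτp, hτq,
        Groth.Agent.Lib.Helper22.pt_smul_inv_smul]
  have hσact : σ ≫ q = a.act := by rw [hσq, hact]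
  have hisoσ : IsIso σ.left := by
    have : IsIso σ := ⟨τ, hστ, hτσ⟩
    exact (Over.forget _).map_isIso σ
  have hopen_snd : UniversallyOpen q.left := by
    change UniversallyOpen (Limits.pullback.snd G.hom X.hom)
    infer_instance
  have hopen : IsOpenMap a.act.left.base := by
    have h1 : a.act.left = σ.left ≫ q.left := by rw [← Over.comp_left, hσact]
    have h2 : UniversallyOpen (σ.left ≫ q.left) :=
      MorphismProperty.comp_mem _ _ _ inferInstance hopen_snd
    rw [h1]
    exact (σ.left ≫ q.left).isOpenMap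
  refine ⟨hopen _ (hU.preimage (CartesianMonoidalCategory.snd G X).left.continuous), ?_, ?_, ?_⟩
  · -- U ⊆ G·U
    intro u hu
    let s : X ⟶ G ⊗ X := lift (1 : X ⟶ G) (𝟙 X)
    have hs1 : s ≫ CartesianMonoidalCategory.snd G X = 𝟙 X := lift_snd _ _
    have hs2 : s ≫ a.act = 𝟙 X := by
      have := Groth.Agent.Lib.Helper22.pt_one_smul a (𝟙 X)
      rw [Groth.Agent.Lib.Helper22.smul_def] at this
      exact this
    refine ⟨s.left u, ?_, ?_⟩
    · change (CartesianMonoidalCategory.snd G X).left (s.left u) ∈ U
      rw [← Scheme.Hom.comp_apply, ← Over.comp_left, hs1]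
      exact hu
    · change a.act.left (s.left u) = u
      rw [← Scheme.Hom.comp_apply, ← Over.comp_left, hs2]
      rfl
  · -- stability
    rintro y ⟨z, hz, rfl⟩
    obtain ⟨z', hz'U, hz'⟩ := hz
    have hsq := Groth.Agent.Lib.Helper28.OverWhisker.isPullback_whiskerLeft_left G a.act
    obtain ⟨r, hr1, hr2⟩ := Groth.Agent.Lib.Helper15.exists_preimage_of_isPullback hsq z' z
      hz'
    let m : G ⊗ (G ⊗ X) ⟶ G ⊗ X := (α_ G G X).inv ≫ (μ[G] ▷ X)
    have hm1 : m ≫ a.act = (G ◁ a.act) ≫ a.act := by
      simp only [m, Category.assoc]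
      rw [a.mul_act, Iso.inv_hom_id_assoc]
    have hm2 : m ≫ CartesianMonoidalCategory.snd G X =
        CartesianMonoidalCategory.snd G (G ⊗ X) ≫ CartesianMonoidalCategory.snd G X := by
      simp [m]
    refine ⟨m.left r, ?_, ?_⟩
    · change (CartesianMonoidalCategory.snd G X).left (m.left r) ∈ U
      rw [← Scheme.Hom.comp_apply, ← Over.comp_left, hm2, Over.comp_left, Scheme.Hom.comp_apply]
      have : (CartesianMonoidalCategory.snd G (G ⊗ X)).left r = z' := hr1
      rw [this]
      exact hz'U
    · change a.act.left (m.left r) = a.act.left z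
      rw [← Scheme.Hom.comp_apply, ← Over.comp_left, hm1, Over.comp_left, Scheme.Hom.comp_apply,
        hr2]
  · intro W _ hUW hW
    refine subset_trans (Set.image_mono (Set.preimage_mono hUW)) hW

end Groth.Agent.S18824
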