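import Groth.Statements.S18825
import Groth.Agent.Lib.Helper11.IM1
import Groth.Agent.Lib.Helper11.SubG
import Groth.Agent.S7823

set_option autoImplicit false
universe u
open CategoryTheory MonoidalCategory CartesianMonoidalCategory MonObj AlgebraicGeometry
open AlgGrp

namespace Groth.Agent.S18825

theorem dominant_tensor {k : Type u} [Field k] (H K : Over (Spec (CommRingCat.of k)))
    (g : H ⟶ K) [QuasiCompact g.left] [IsSchemeTheoreticallyDominant g.left] :
    IsSchemeTheoreticallyDominant ((g ▷ H) ≫ (K ◁ g)).left := by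
  haveI : Flat H.hom := inferInstance
  haveI : Flat K.hom := inferInstance
  haveI : Flat (fst K H).left := by
    show Flat (Limits.pullback.fst K.hom H.hom); infer_instance
  haveI : Flat (snd K K).left := by
    show Flat (Limits.pullback.snd K.hom K.hom); infer_instance
  have sq1 : IsPullback (fst H H).left (g ▷ H).left g.left (fst K H).left := by
    have t : IsPullback (snd K H).left (fst K H).left H.hom K.hom :=
      (IsPullback.of_hasPullback K.hom H.hom).flip
    have s : IsPullback ((g ▷ H).left ≫ (snd K H).left) (fst H H).left H.hom (g.left ≫ K.hom) := by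
      have e1 : (g ▷ H).left ≫ (snd K H).left = (snd H H).left := by
        rw [← Over.comp_left, whiskerRight_snd]
      have e2 : g.left ≫ K.hom = H.hom := Over.w g
      rw [e1, e2]
      exact (IsPullback.of_hasPullback H.hom H.hom).flip
    have p : (g ▷ H).left ≫ (fst K H).left = (fst H H).left ≫ g.left := by
      rw [← Over.comp_left, whiskerRight_fst, Over.comp_left]
    exact (IsPullback.of_right s p t).flip
  have sq2 : IsPullback (snd K H).left (K ◁ g).left g.left (snd K K).left := by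
    have t : IsPullback (fst K K).left (snd K K).left K.hom K.hom :=
      IsPullback.of_hasPullback K.hom K.hom
    have s : IsPullback ((K ◁ g).left ≫ (fst K K).left) (snd K H).left K.hom (g.left ≫ K.hom) := by
      have e1 : (K ◁ g).left ≫ (fst K K).left = (fst K H).left := by
        rw [← Over.comp_left, whiskerLeft_fst]
      have e2 : g.left ≫ K.hom = H.hom := Over.w g
      rw [e1, e2]
      exact IsPullback.of_hasPullback K.hom H.hom
    have p : (K ◁ g).left ≫ (snd K K).left = (snd K H).left ≫ g.left := by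
      rw [← Over.comp_left, whiskerLeft_snd, Over.comp_left]
    exact (IsPullback.of_right s p t).flip
  haveI := IsSchemeTheoreticallyDominant.of_isPullback sq1
  haveI := IsSchemeTheoreticallyDominant.of_isPullback sq2
  rw [Over.comp_left]
  infer_instance

theorem range_tensor {k : Type u} [Field k] (H K : Over (Spec (CommRingCat.of k)))
    (g : H ⟶ K) (w : ↥(K ⊗ K).left) (h1 : (fst K K).left w ∈ Set.range g.left)
    (h2 : (snd K K).left w ∈ Set.range g.left) :
    w ∈ Set.range ((g ▷ H) ≫ (K ◁ g)).left := by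
  have e : ((g ▷ H) ≫ (K ◁ g)).left =
      Limits.pullback.map H.hom H.hom K.hom K.hom g.left g.left (𝟙 _)
        (by rw [Category.comp_id]; exact (Over.w g).symm)
        (by rw [Category.comp_id]; exact (Over.w g).symm) := by
    apply Limits.pullback.hom_ext
    · rw [Limits.pullback.lift_fst]
      show ((g ▷ H) ≫ (K ◁ g)).left ≫ (fst K K).left = (fst H H).left ≫ g.left
      rw [← Over.comp_left, ← Over.comp_left, Category.assoc, whiskerLeft_fst, whiskerRight_fst]
    · rw [Limits.pullback.lift_snd]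
      show ((g ▷ H) ≫ (K ◁ g)).left ≫ (snd K K).left = (snd H H).left ≫ g.left
      rw [← Over.comp_left, ← Over.comp_left, Category.assoc, whiskerLeft_snd,
        whiskerRight_snd_assoc]
  rw [e, Scheme.Pullback.range_map]
  exact ⟨h1, h2⟩

/-- Let k be a field and f : H → G a homomorphism of locally algebraic groups over k (group k-schemes
locally of finite type) which is of finite type (equivalently quasi-compact). Let H → K → G be the
factorization of f through its scheme-theoretic image: i : K → G a closed immersion and g : H → K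
with g followed by i equal to f and O_K → g_*O_H injective. Then (1) K is a closed subgroup scheme
of G: the unit section of G factors through i and, for every k-scheme T and T-valued points k₁, k₂
of K, the T-valued point (i k₁)⁻¹ · (i k₂) of G factors through i; and (2) g : H → K is surjective.
(The source also records that g is a homomorphism for the group structure induced on K; this row
does not state it.) -/
theorem result (k : Type u) [Field k]
    (H G K : Over (Spec (CommRingCat.of k))) [GrpObj H] [GrpObj G]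
    [LocallyOfFiniteType H.hom] [LocallyOfFiniteType G.hom]
    (f : H ⟶ G) [IsMonHom f] [QuasiCompact f.left]
    (i : K ⟶ G) [IsClosedImmersion i.left] (g : H ⟶ K) (hgi : g ≫ i = f)
    [IsSchemeTheoreticallyDominant g.left] :
    ((∃ e : 𝟙_ (Over (Spec (CommRingCat.of k))) ⟶ K, e ≫ i = η[G]) ∧
      ∀ (T : Over (Spec (CommRingCat.of k))) (k₁ k₂ : T ⟶ K),
        ∃ k₃ : T ⟶ K, k₃ ≫ i = (k₁ ≫ i)⁻¹ * (k₂ ≫ i)) ∧
    Surjective g.left := by
  have hgi' : g.left ≫ i.left = f.left := congrArg (·.left) hgi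
  haveI : QuasiCompact (g.left ≫ i.left) := hgi' ▸ inferInstance
  haveI : QuasiCompact g.left := QuasiCompact.of_comp g.left i.left
  haveI : Mono i.left := inferInstance
  haveI : Mono i := (Over.forget _).mono_of_mono_map (by exact ‹Mono i.left›)
  -- unit
  have he : (η[H] ≫ g) ≫ i = η[G] := by rw [Category.assoc, hgi, IsMonHom.one_hom]
  -- division
  let d : K ⊗ K ⟶ G := (fst K K ≫ i)⁻¹ * (snd K K ≫ i)
  let gg : H ⊗ H ⟶ K ⊗ K := (g ▷ H) ≫ (K ◁ g)
  let q : H ⊗ H ⟶ K := ((fst H H)⁻¹ * snd H H) ≫ g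
  have hgg1 : gg ≫ fst K K = fst H H ≫ g := by
    show ((g ▷ H) ≫ (K ◁ g)) ≫ fst K K = _
    rw [Category.assoc, whiskerLeft_fst, whiskerRight_fst]
  have hgg2 : gg ≫ snd K K = snd H H ≫ g := by
    show ((g ▷ H) ≫ (K ◁ g)) ≫ snd K K = _
    rw [Category.assoc, whiskerLeft_snd, whiskerRight_snd_assoc]
  have hq : gg ≫ d = q ≫ i := by
    show gg ≫ ((fst K K ≫ i)⁻¹ * (snd K K ≫ i)) = (((fst H H)⁻¹ * snd H H) ≫ g) ≫ i
    rw [MonObj.comp_mul, GrpObj.comp_inv, ← Category.assoc, hgg1, ← Category.assoc gg, hgg2,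
      Category.assoc, Category.assoc, Category.assoc, hgi, MonObj.mul_comp, GrpObj.inv_comp]
  haveI hdom : IsSchemeTheoreticallyDominant gg.left := dominant_tensor H K g
  let π := Limits.pullback.fst d.left i.left
  let m' : (H ⊗ H).left ⟶ Limits.pullback d.left i.left :=
    Limits.pullback.lift gg.left q.left (congrArg (·.left) hq)
  have hm' : m' ≫ π = gg.left := Limits.pullback.lift_fst _ _ _
  haveI : IsIso π := Groth.Agent.Lib.Helper11.IM1.isIso_of_dominant_factor π gg.left m' hm'
  let d'₀ : (K ⊗ K).left ⟶ K.left := inv π ≫ Limits.pullback.snd d.left i.left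
  have hd'₀ : d'₀ ≫ i.left = d.left := by
    show (inv π ≫ Limits.pullback.snd d.left i.left) ≫ i.left = d.left
    rw [Category.assoc, ← Limits.pullback.condition, IsIso.inv_hom_id_assoc]
  let d' : K ⊗ K ⟶ K := Over.homMk d'₀ (by
    rw [← Over.w i, ← Category.assoc, hd'₀, Over.w d])
  have hd' : d' ≫ i = d := by
    ext1
    exact hd'₀
  have hdiv : ∀ (T : Over (Spec (CommRingCat.of k))) (k₁ k₂ : T ⟶ K),
      ∃ k₃ : T ⟶ K, k₃ ≫ i = (k₁ ≫ i)⁻¹ * (k₂ ≫ i) := by
    intro T k₁ k₂
    refine ⟨lift k₁ k₂ ≫ d', ?_⟩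
    rw [Category.assoc, hd']
    show lift k₁ k₂ ≫ ((fst K K ≫ i)⁻¹ * (snd K K ≫ i)) = _
    rw [MonObj.comp_mul, GrpObj.comp_inv, lift_fst_assoc, lift_snd_assoc]
  refine ⟨⟨⟨η[H] ≫ g, he⟩, hdiv⟩, ?_⟩
  -- the group structure on K
  obtain ⟨ιK, hιK⟩ : ∃ ιK : K ⟶ K, ιK ≫ i = i⁻¹ := by
    obtain ⟨k₃, hk₃⟩ := hdiv K (𝟙 K) (toUnit K ≫ η[H] ≫ g)
    refine ⟨k₃, ?_⟩
    rw [hk₃, Category.id_comp, Category.assoc, Category.assoc, hgi, IsMonHom.one_hom]
    have : toUnit K ≫ η[G] = 1 := rfl
    rw [this, _root_.mul_one]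
  obtain ⟨mK, hmK⟩ : ∃ mK : K ⊗ K ⟶ K, mK ≫ i = (fst K K ≫ i) * (snd K K ≫ i) := by
    obtain ⟨k₃, hk₃⟩ := hdiv (K ⊗ K) (fst K K ≫ ιK) (snd K K)
    refine ⟨k₃, ?_⟩
    rw [hk₃, Category.assoc, hιK, GrpObj.comp_inv, _root_.inv_inv]
  obtain ⟨GrK, hiK⟩ := Groth.Agent.Lib.Helper11.SubG.exists_grpObj_of_mono i
    ⟨η[H] ≫ g, he⟩ ⟨mK, hmK⟩ ⟨ιK, hιK⟩
  letI := GrK
  haveI := hiK
  have hgmul : μ[H] ≫ g = gg ≫ μ[K] := by
    rw [← cancel_mono i, Category.assoc, hgi, IsMonHom.mul_hom, Category.assoc,
      IsMonHom.mul_hom, ← Category.assoc]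
    congr 1
    show f ⊗ₘ f = ((g ▷ H) ≫ (K ◁ g)) ≫ (i ⊗ₘ i)
    rw [← MonoidalCategory.tensorHom_def, MonoidalCategory.tensorHom_comp_tensorHom, hgi]
  -- finiteness
  haveI : LocallyOfFiniteType K.hom := by rw [← Over.w i]; infer_instance
  haveI : IsLocallyNoetherian K.left := LocallyOfFiniteType.isLocallyNoetherian K.hom
  haveI : LocallyOfFiniteType (g.left ≫ K.hom) := by rw [Over.w g]; infer_instance
  haveI : LocallyOfFiniteType g.left := locallyOfFiniteType_of_comp g.left K.hom
  haveI : LocallyOfFinitePresentation g.left := inferInstance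
  haveI : IsDominant g.left := inferInstance
  obtain ⟨U, hUd, hUS⟩ := Groth.Agent.Lib.Helper11.IM1.exists_dense_open_subset_range g.left
  have hS := Groth.Agent.S7823.result k K U U hUd hUd
  refine ⟨fun x => ?_⟩
  have hx : x ∈ μ[K].left '' ((fst K K).left ⁻¹' (U : Set K.left) ∩
      (snd K K).left ⁻¹' (U : Set K.left)) := by rw [hS]; trivial
  obtain ⟨w, ⟨hw1, hw2⟩, rfl⟩ := hx
  obtain ⟨v, rfl⟩ := range_tensor H K g w (hUS hw1) (hUS hw2)
  refine ⟨μ[H].left v, ?_⟩
  rw [← Scheme.Hom.comp_apply, ← Over.comp_left, hgmul, Over.comp_left, Scheme.Hom.comp_apply]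

end Groth.Agent.S18825
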