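import Groth.Statements.S18826
import Mathlib
import Groth.Agent.Lib.Helper11.ActA

set_option autoImplicit false
universe u
open CategoryTheory MonoidalCategory CartesianMonoidalCategory MonObj AlgebraicGeometry
open AlgGrp

namespace Groth.Agent.S18826

open Groth.Agent.Lib.Helper11.ActA in
theorem shear_whisker {k : Type u} [Field k] {G X Y : Over (Spec (CommRingCat.of k))} [GrpObj G]
    (aX : AlgGrp.Action G X) (aY : AlgGrp.Action G Y) (f : X ⟶ Y)
    (hf : (G ◁ f) ≫ aY.act = aX.act ≫ f) :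
    (shearX aX).hom ≫ (G ◁ f) = (G ◁ f) ≫ (shearX aY).hom := by
  apply CartesianMonoidalCategory.hom_ext
  · rw [Category.assoc, whiskerLeft_fst, shearX_hom_fst, Category.assoc, shearX_hom_fst,
      whiskerLeft_fst]
  · rw [Category.assoc, whiskerLeft_snd, ← Category.assoc, shearX_hom_snd, Category.assoc,
      shearX_hom_snd, hf]

open Groth.Agent.Lib.Helper11.ActA in
theorem isPullback_act {k : Type u} [Field k] {G X Y : Over (Spec (CommRingCat.of k))} [GrpObj G]
    (aX : AlgGrp.Action G X) (aY : AlgGrp.Action G Y) (f : X ⟶ Y)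
    (hf : (G ◁ f) ≫ aY.act = aX.act ≫ f) :
    IsPullback (G ◁ f) aX.act aY.act f := by
  have hS1 : IsPullback (G ◁ f) (snd G X) (snd G Y) f := isPullback_whiskerLeft Y f G
  have hsh := shear_whisker aX aY f hf
  refine hS1.of_iso (shearX aX).symm (shearX aY).symm (Iso.refl _) (Iso.refl _) ?_ ?_ ?_ ?_
  · show (G ◁ f) ≫ (shearX aY).inv = (shearX aX).inv ≫ (G ◁ f)
    rw [Iso.comp_inv_eq, Category.assoc, ← hsh, Iso.inv_hom_id_assoc]
  · show snd G X ≫ 𝟙 _ = (shearX aX).inv ≫ aX.act
    rw [Category.comp_id, ← shearX_hom_snd, Iso.inv_hom_id_assoc]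
  · show snd G Y ≫ 𝟙 _ = (shearX aY).inv ≫ aY.act
    rw [Category.comp_id, ← shearX_hom_snd, Iso.inv_hom_id_assoc]
  · simp

open Groth.Agent.Lib.Helper11.ActA in
theorem flat_univOpen_act {k : Type u} [Field k] {G Y : Over (Spec (CommRingCat.of k))} [GrpObj G]
    (aY : AlgGrp.Action G Y) : Flat aY.act.left ∧ UniversallyOpen aY.act.left := by
  have e : aY.act.left = (shearX aY).hom.left ≫ (snd G Y).left := by
    rw [← Over.comp_left, shearX_hom_snd]
  haveI : IsIso (shearX aY).hom.left :=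
    inferInstanceAs (IsIso ((Over.forget _).map (shearX aY).hom))
  haveI : Flat G.hom := inferInstance
  haveI : UniversallyOpen G.hom := inferInstance
  haveI : Flat (snd G Y).left :=
    MorphismProperty.pullback_snd (P := @Flat) G.hom Y.hom inferInstance
  haveI : UniversallyOpen (snd G Y).left :=
    MorphismProperty.pullback_snd (P := @UniversallyOpen) G.hom Y.hom inferInstance
  rw [e]
  exact ⟨inferInstance, inferInstance⟩

/-- Let k be a field, G a locally algebraic group over k (a group k-scheme locally of finite type)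
acting on k-schemes X and Y, and f : X → Y a G-equivariant k-morphism. Let P be a property of
morphisms of schemes which is local on the target for the Zariski topology, stable under base
change, and descends along flat surjective universally open morphisms (the published hypothesis is
descent along fpqc morphisms; the printed argument descends only along the restriction G ×_k U → G·U
of the action, which is flat, surjective and universally open). Then there is a largest open subset
V of Y such that the restriction f⁻¹(V) → V of f has P, and this V is G-stable: the action G ×_k Y →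
Y maps G ×_k V into V. -/
theorem result (k : Type u) [Field k]
    (G X Y : Over (Spec (CommRingCat.of k))) [GrpObj G] [LocallyOfFiniteType G.hom]
    (aX : AlgGrp.Action G X) (aY : AlgGrp.Action G Y) (f : X ⟶ Y) (hf : (G ◁ f) ≫ aY.act = aX.act ≫ f)
    (P : MorphismProperty Scheme.{u}) [IsZariskiLocalAtTarget P] [P.IsStableUnderBaseChange]
    [P.DescendsAlong (@Flat ⊓ @Surjective ⊓ @UniversallyOpen)] :
    ∃ V : Y.left.Opens, P (f.left ∣_ V) ∧ (∀ V' : Y.left.Opens, P (f.left ∣_ V') → V' ≤ V) ∧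
      (CartesianMonoidalCategory.snd G Y).left ⁻¹ᵁ V ≤ aY.act.left ⁻¹ᵁ V := by
  classical
  have hmaxV : ∀ V' : Y.left.Opens, P (f.left ∣_ V') →
      V' ≤ sSup {V' : Y.left.Opens | P (f.left ∣_ V')} := fun V' h => le_sSup h
  have hPV : P (f.left ∣_ sSup {V' : Y.left.Opens | P (f.left ∣_ V')}) := by
    apply IsZariskiLocalAtTarget.of_forall_exists_morphismRestrict
    intro x
    obtain ⟨V', hV', hxV'⟩ : ∃ V' : Y.left.Opens, P (f.left ∣_ V') ∧ x.1 ∈ V' := by
      have hx := x.2
      rw [TopologicalSpace.Opens.mem_sSup] at hx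
      obtain ⟨V', hV', hxV'⟩ := hx
      exact ⟨V', hV', hxV'⟩
    refine ⟨(sSup {V' : Y.left.Opens | P (f.left ∣_ V')}).ι ⁻¹ᵁ V', hxV', ?_⟩
    rw [P.arrow_mk_iso_iff (morphismRestrictRestrict f.left _ _)]
    have e : (sSup {V' : Y.left.Opens | P (f.left ∣_ V')}).ι ''ᵁ
        ((sSup {V' : Y.left.Opens | P (f.left ∣_ V')}).ι ⁻¹ᵁ V') = V' := by
      rw [Scheme.Hom.image_preimage_eq_opensRange_inf, Scheme.Opens.opensRange_ι]
      exact inf_eq_right.mpr (hmaxV V' hV')
    rw [P.arrow_mk_iso_iff (morphismRestrictEq f.left e)]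
    exact hV'
  refine ⟨sSup {V' : Y.left.Opens | P (f.left ∣_ V')}, hPV, hmaxV, ?_⟩
  obtain ⟨V, hV⟩ : ∃ V : Y.left.Opens, V = sSup {V' : Y.left.Opens | P (f.left ∣_ V')} :=
    ⟨_, rfl⟩
  rw [← hV] at hPV hmaxV ⊢
  -- the squares
  have hS1' : IsPullback (G ◁ f).left (snd G X).left (snd G Y).left f.left :=
    (Groth.Agent.Lib.Helper11.ActA.isPullback_whiskerLeft Y f G).map (Over.forget _)
  have hS2' : IsPullback (G ◁ f).left aX.act.left aY.act.left f.left :=
    (isPullback_act aX aY f hf).map (Over.forget _)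
  obtain ⟨hflat, huo⟩ := flat_univOpen_act aY
  have hopenmap : IsOpenMap aY.act.left := aY.act.left.isOpenMap
  -- the open `O` and its image `W`
  set O : (G ⊗ Y).left.Opens := (snd G Y).left ⁻¹ᵁ V with hO
  let W : Y.left.Opens := ⟨aY.act.left '' (O : Set ↥(G ⊗ Y).left), hopenmap _ O.isOpen⟩
  have hOW : Set.range (O.ι ≫ aY.act.left) ⊆ Set.range W.ι := by
    rw [Scheme.Opens.range_ι]
    rintro _ ⟨o, rfl⟩
    exact ⟨o.1, o.2, rfl⟩
  let α : O.toScheme ⟶ W.toScheme := IsOpenImmersion.lift W.ι (O.ι ≫ aY.act.left) hOW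
  have hα : α ≫ W.ι = O.ι ≫ aY.act.left := IsOpenImmersion.lift_fac _ _ _
  -- `P` for the restriction of `G ◁ f` to `O`
  have hPFO : P ((G ◁ f).left ∣_ O) := by
    have hB1 := (isPullback_morphismRestrict (G ◁ f).left O).paste_vert hS1'
    have hbot := isPullback_morphismRestrict f.left V
    have hι : O.ι ≫ (snd G Y).left = ((snd G Y).left ∣_ V) ≫ V.ι :=
      (morphismRestrict_ι (snd G Y).left V).symm
    have hcomm : (((G ◁ f).left ∣_ O) ≫ ((snd G Y).left ∣_ V)) ≫ V.ι =
        (((G ◁ f).left ⁻¹ᵁ O).ι ≫ (snd G X).left) ≫ f.left := by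
      rw [Category.assoc, ← hι]
      exact hB1.w
    have hβ1 : hbot.lift (((G ◁ f).left ∣_ O) ≫ ((snd G Y).left ∣_ V))
        (((G ◁ f).left ⁻¹ᵁ O).ι ≫ (snd G X).left) hcomm ≫ (f.left ∣_ V) =
        ((G ◁ f).left ∣_ O) ≫ ((snd G Y).left ∣_ V) := hbot.lift_fst _ _ _
    have hβ2 : hbot.lift (((G ◁ f).left ∣_ O) ≫ ((snd G Y).left ∣_ V))
        (((G ◁ f).left ⁻¹ᵁ O).ι ≫ (snd G X).left) hcomm ≫ (f.left ⁻¹ᵁ V).ι =
        ((G ◁ f).left ⁻¹ᵁ O).ι ≫ (snd G X).left := hbot.lift_snd _ _ _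
    rw [← hβ2, hι] at hB1
    have htop := IsPullback.of_bot hB1 hβ1.symm hbot
    exact MorphismProperty.of_isPullback htop.flip hPV
  -- descent
  have hαpb : IsPullback α (𝟙 _) W.ι (O.ι ≫ aY.act.left) :=
    IsPullback.of_vert_isIso_mono ⟨by rw [hα, Category.id_comp]⟩
  have hQα : (@Flat ⊓ @Surjective ⊓ @UniversallyOpen : MorphismProperty Scheme.{u}) α := by
    refine ⟨⟨?_, ?_⟩, ?_⟩
    · haveI : Flat (O.ι ≫ aY.act.left) := inferInstance
      exact MorphismProperty.of_isPullback (P := @Flat) hαpb.flip inferInstance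
    · refine ⟨fun w => ?_⟩
      obtain ⟨o, ho, how⟩ := w.2
      refine ⟨⟨o, ho⟩, ?_⟩
      apply W.ι.injective
      have h1 : (α ≫ W.ι) ⟨o, ho⟩ = (O.ι ≫ aY.act.left) ⟨o, ho⟩ := by rw [hα]
      rw [Scheme.Hom.comp_apply, Scheme.Hom.comp_apply] at h1
      rw [h1]
      exact how
    · haveI : UniversallyOpen (O.ι ≫ aY.act.left) := inferInstance
      exact MorphismProperty.of_isPullback (P := @UniversallyOpen) hαpb.flip inferInstance
  have hPW : P (f.left ∣_ W) := by
    have hB := (isPullback_morphismRestrict (G ◁ f).left O).paste_vert hS2'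
    have hbot := isPullback_morphismRestrict f.left W
    have hcomm : (((G ◁ f).left ∣_ O) ≫ α) ≫ W.ι =
        (((G ◁ f).left ⁻¹ᵁ O).ι ≫ aX.act.left) ≫ f.left := by
      rw [Category.assoc, hα]
      exact hB.w
    have hβ1 : hbot.lift (((G ◁ f).left ∣_ O) ≫ α)
        (((G ◁ f).left ⁻¹ᵁ O).ι ≫ aX.act.left) hcomm ≫ (f.left ∣_ W) =
        ((G ◁ f).left ∣_ O) ≫ α := hbot.lift_fst _ _ _
    have hβ2 : hbot.lift (((G ◁ f).left ∣_ O) ≫ α)
        (((G ◁ f).left ⁻¹ᵁ O).ι ≫ aX.act.left) hcomm ≫ (f.left ⁻¹ᵁ W).ι =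
        ((G ◁ f).left ⁻¹ᵁ O).ι ≫ aX.act.left := hbot.lift_snd _ _ _
    rw [← hβ2, ← hα] at hB
    have htop := IsPullback.of_bot hB hβ1.symm hbot
    exact MorphismProperty.of_isPullback_of_descendsAlong htop hQα hPFO
  have hWV : W ≤ V := hmaxV W hPW
  intro w hw
  have hwO : w ∈ O := hw
  exact hWV ⟨w, hwO, rfl⟩

end Groth.Agent.S18826
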