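import Groth.Statements.S18827
import Groth.Agent.Lib.Helper28.ComodHom

set_option autoImplicit false
universe u v w
open TensorProduct
open HopfRep

namespace Groth.Agent.S18827

/-- Let k be a field, C a k-coalgebra, V a right C-comodule which is semisimple (every subcomodule has a
complementary subcomodule, which over a field is the same as being the sum of its simple
subcomodules) and W a subcomodule of V. Then the subcomodule W with its induced structure and the
quotient comodule V/W are again semisimple. (The source states this for representations of an affine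
monoid scheme over k.) -/
theorem result (k : Type u) [Field k]
    (C : Type v) [AddCommGroup C] [Module k C] [Coalgebra k C]
    (V : Type w) [AddCommGroup V] [Module k V] [c : HopfRep.Comod k C V] (hV : HopfRep.IsSemisimpleComod k C V)
    (W : Submodule k V) (hW : HopfRep.IsSubcomod (k := k) (A := C) W) :
    @HopfRep.IsSemisimpleComod k C _ _ _ _ ↥W _ _ (ComodSub.Comod.restr c W hW) ∧
      @HopfRep.IsSemisimpleComod k C _ _ _ _ (V ⧸ W) _ _ (ComodSub.Comod.quot c W hW) := by
  constructor
  · letI cW : HopfRep.Comod k C W := ComodSub.Comod.restr c W hW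
    have hsub : Hoch.IsComodHom C W.subtype :=
      (ComodSub.rTensor_subtype_comp_restrCoact c W hW).symm
    intro U hU
    obtain ⟨U', hU', hc⟩ := hV (U.map W.subtype)
      (Groth.Agent.Lib.Helper28.ComodHom.isSubcomod_map W.subtype hsub U hU)
    refine ⟨U'.comap W.subtype,
      Groth.Agent.Lib.Helper28.ComodHom.isSubcomod_comap W.subtype hsub U' hU', ?_, ?_⟩
    · rw [disjoint_iff, eq_bot_iff]
      rintro x ⟨hx1, hx2⟩
      have h1 : (x : V) ∈ U.map W.subtype ⊓ U' := ⟨⟨x, hx1, rfl⟩, hx2⟩
      rw [hc.inf_eq_bot, Submodule.mem_bot] at h1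
      rw [Submodule.mem_bot]
      exact Subtype.ext h1
    · rw [codisjoint_iff, eq_top_iff]
      rintro x -
      have h1 : (x : V) ∈ U.map W.subtype ⊔ U' := by rw [hc.sup_eq_top]; trivial
      obtain ⟨a, ⟨a', ha', rfl⟩, b, hb, hab⟩ := Submodule.mem_sup.mp h1
      refine Submodule.mem_sup.mpr ⟨a', ha', x - a', ?_, by abel⟩
      show ((x - a' : W) : V) ∈ U'
      have h2 : ((x - a' : W) : V) = b := by
        rw [Submodule.coe_sub, ← hab]
        simp
      rw [h2]; exact hb
  · letI cQ : HopfRep.Comod k C (V ⧸ W) := ComodSub.Comod.quot c W hW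
    have hq : Hoch.IsComodHom C W.mkQ := ComodSub.isComodHom_mkQ c W hW
    intro U hU
    obtain ⟨U', hU', hc⟩ := hV (U.comap W.mkQ)
      (Groth.Agent.Lib.Helper28.ComodHom.isSubcomod_comap W.mkQ hq U hU)
    refine ⟨U'.map W.mkQ,
      Groth.Agent.Lib.Helper28.ComodHom.isSubcomod_map W.mkQ hq U' hU', ?_, ?_⟩
    · rw [disjoint_iff, eq_bot_iff]
      rintro x ⟨hx1, ⟨u', hu', rfl⟩⟩
      have h1 : u' ∈ U.comap W.mkQ ⊓ U' := ⟨hx1, hu'⟩
      rw [hc.inf_eq_bot, Submodule.mem_bot] at h1
      rw [Submodule.mem_bot, h1, map_zero]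
    · rw [codisjoint_iff, eq_top_iff]
      rintro x -
      obtain ⟨v, rfl⟩ := W.mkQ_surjective x
      have h1 : v ∈ U.comap W.mkQ ⊔ U' := by rw [hc.sup_eq_top]; trivial
      obtain ⟨a, ha, b, hb, rfl⟩ := Submodule.mem_sup.mp h1
      rw [map_add]
      exact Submodule.add_mem _ (Submodule.mem_sup_left ha)
        (Submodule.mem_sup_right ⟨b, hb, rfl⟩)

end Groth.Agent.S18827
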