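import Groth.Statements.S18831
import Groth.Agent.Lib.Helper7.SSBound

set_option autoImplicit false
universe u
open CategoryTheory CategoryTheory.Limits AlgebraicGeometry
open VBCurve

namespace Groth.Agent.S18831

/-- Let X be a smooth projective integral curve over an algebraically closed field k of characteristic
zero, and G a finite locally free O_X-module of rank r ≥ 1 which is slope-semistable, of slope μ =
deg G / r (deg G = χ(G) − r χ(O_X)). Then dim_k H^0(X, G) ≤ r · max(⌊μ⌋ + 1, 0); in particular a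
slope-semistable bundle of negative slope has no nonzero global section. -/
theorem result (k : Type u) [Field k] [IsAlgClosed k] [CharZero k]
    (X : Scheme.{u}) [X.Over (Spec (CommRingCat.of k))]
    [IsIntegral X] [IsProper (X ↘ Spec (CommRingCat.of k))] [Smooth (X ↘ Spec (CommRingCat.of k))]
    (hdim : topologicalKrullDim X = 1)
    (r : ℕ) (hr : 0 < r) (G : X.Modules) (hG : FlatMod.IsFinLocFreeOfRank r G)
    (hss : ModFun.IsSlopeSemistable k X G r) :
    (Module.finrank k (Coh.HH X G 0) : ℤ) ≤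
      (r : ℤ) * max (⌊(Curv2.deg k X G r : ℚ) / (r : ℚ)⌋ + 1) 0 := by
  set d := Curv2.deg k X G r with hd
  set m : ℤ := max (⌊(d : ℚ) / (r : ℚ)⌋ + 1) 0 with hm
  have hm0 : 0 ≤ m := le_max_right _ _
  have hrq : (0 : ℚ) < (r : ℚ) := by exact_mod_cast hr
  have hlt : d < (m.toNat : ℤ) * r := by
    rw [Int.toNat_of_nonneg hm0]
    have h1 : (d : ℚ) / r < ⌊(d : ℚ) / r⌋ + 1 := Int.lt_floor_add_one _
    have h2' : ⌊(d : ℚ) / (r : ℚ)⌋ + 1 ≤ m := le_max_left _ _
    have h2 : ((⌊(d : ℚ) / (r : ℚ)⌋ + 1 : ℤ) : ℚ) ≤ (m : ℚ) := (Int.cast_le (R := ℚ)).mpr h2'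
    have h3 : (d : ℚ) < (m : ℚ) * r := by
      rw [div_lt_iff₀ hrq] at h1
      push_cast at h2
      have h4 := mul_le_mul_of_nonneg_right h2 hrq.le
      linarith
    exact_mod_cast h3
  have h := Groth.Agent.Lib.Helper7.SSBound.finrank_h0_le_of_semistable k hdim hG hss m.toNat hlt
  have h' : (Module.finrank k (Coh.HH X G 0) : ℤ) ≤ (m.toNat : ℤ) * r := by exact_mod_cast h
  rw [Int.toNat_of_nonneg hm0] at h'
  linarith [mul_comm (m : ℤ) (r : ℤ)]

end Groth.Agent.S18831
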