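import Mathlib
import Groth.Statements.S18832
import Groth.Agent.Lib.Helper19.CurvJet

set_option autoImplicit false
universe u
open Polynomial
open DefT

namespace Groth.Agent.S18832

open IsLocalRing Groth.Agent.Lib.Helper19.CurvJet

set_option linter.style.haveILetI false

theorem geomRed_of_bijective {k K : Type u} [Field k] [Field K] [Algebra k K]
    (h : Function.Bijective (algebraMap k K)) : Algebra.IsGeometricallyReduced k K := by
  haveI : Algebra.IsGeometricallyReduced k k := by
    rw [Algebra.isGeometricallyReduced_field_iff]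
    exact isReduced_of_injective (Algebra.TensorProduct.rid k k (AlgebraicClosure k))
      (AlgEquiv.injective _)
  exact Algebra.IsGeometricallyReduced.of_injective
    (AlgEquiv.ofBijective (Algebra.ofId k K) h).symm.toAlgHom (AlgEquiv.injective _)

theorem exists_sub_mem {k : Type u} [Field k] [IsAlgClosed k] {A : Type u} [CommRing A]
    [Algebra k A] [Algebra.FiniteType k A] (m : Ideal A) [m.IsMaximal] (a : A) :
    ∃ c : k, a - algebraMap k A c ∈ m := by
  letI : Field (A ⧸ m) := Ideal.Quotient.field m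
  haveI : Algebra.FiniteType k (A ⧸ m) :=
    Algebra.FiniteType.of_surjective (Ideal.Quotient.mkₐ k m) (Ideal.Quotient.mkₐ_surjective k m)
  haveI : Module.Finite k (A ⧸ m) := finite_of_finite_type_of_isJacobsonRing k (A ⧸ m)
  haveI : Algebra.IsIntegral k (A ⧸ m) := Algebra.IsIntegral.of_finite k (A ⧸ m)
  have hb : Function.Bijective (algebraMap k (A ⧸ m)) :=
    IsAlgClosed.algebraMap_bijective_of_isIntegral
  obtain ⟨c, hc⟩ := hb.2 (Ideal.Quotient.mk m a)
  refine ⟨c, ?_⟩
  rw [← Ideal.Quotient.eq, ← hc]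
  rfl

theorem algebraMap_residueField_bijective {k : Type u} [Field k] [IsAlgClosed k] {A : Type u}
    [CommRing A] [Algebra k A] [Algebra.FiniteType k A] (m : Ideal A) [m.IsMaximal] :
    Function.Bijective (algebraMap k (ResidueField (Localization.AtPrime m))) := by
  refine ⟨(algebraMap k _).injective, fun y => ?_⟩
  obtain ⟨a, rfl⟩ := Ideal.algebraMap_residueField_surjective m y
  obtain ⟨c, hc⟩ := exists_sub_mem (k := k) m a
  refine ⟨c, ?_⟩
  have h0 : algebraMap A m.ResidueField (a - algebraMap k A c) = 0 := by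
    rw [← RingHom.mem_ker, Ideal.ker_algebraMap_residueField]
    exact hc
  rw [map_sub, sub_eq_zero] at h0
  rw [h0, ← IsScalarTower.algebraMap_apply]

section

variable {k : Type u} [Field k] [IsAlgClosed k] {A : Type u} [CommRing A] [Algebra k A]
  [Algebra.FiniteType k A] [IsNoetherianRing A] (m : Ideal A) [m.IsMaximal]

local notation "Rm" => Localization.AtPrime m
local notation "Rh" => AdicCompletion (maximalIdeal (Localization.AtPrime m))
  (Localization.AtPrime m)

theorem residue_comp_surjective :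
    Function.Surjective ((residue Rh).comp (algebraMap k Rh)) := by
  intro z
  obtain ⟨y, rfl⟩ := (AdicCompletion.residueField_map_bijective Rm).2 z
  obtain ⟨c, rfl⟩ := (algebraMap_residueField_bijective (k := k) m).2 y
  refine ⟨c, ?_⟩
  have h1 : ResidueField.map (algebraMap Rm Rh) (algebraMap k (ResidueField Rm) c) =
      residue Rh (algebraMap k Rh c) := by
    rw [IsScalarTower.algebraMap_apply k Rm (ResidueField Rm), IsLocalRing.ResidueField.algebraMap_eq,
      ResidueField.map_residue, ← IsScalarTower.algebraMap_apply]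
  exact h1.symm

variable [CharZero k]

theorem injective_of_lifts
    (H : ∀ (l : ℕ), 1 ≤ l →
        ∀ (φ : A →ₐ[k] (k[X] ⧸ Ideal.span {(X : k[X]) ^ l})),
          (∀ a ∈ m, IsNilpotent (φ a)) →
          ∃ ψ : A →ₐ[k] (k[X] ⧸ Ideal.span {(X : k[X]) ^ (l + 1)}),
            (Ideal.Quotient.factorₐ k
                (Ideal.span_singleton_le_span_singleton.mpr
                  (pow_dvd_pow (X : k[X]) (Nat.le_succ l)))).comp ψ = φ)
    {n : ℕ} (ψ : MvPowerSeries (Fin n) k →ₐ[k] Rh) (hψs : Function.Surjective ψ)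
    (hψk : RingHom.ker ψ ≤ maximalIdeal (MvPowerSeries (Fin n) k) ^ 2) :
    Function.Injective ψ := by
  classical
  by_contra hni
  have hex : ∃ r : ℕ, ∃ g : MvPowerSeries (Fin n) k, ψ g = 0 ∧
      ∃ d : Fin n →₀ ℕ, Finsupp.degree d = r ∧ MvPowerSeries.coeff d g ≠ 0 := by
    rw [injective_iff_map_eq_zero] at hni
    push Not at hni
    obtain ⟨g, hg0, hgne⟩ := hni
    have hd : ∃ d, MvPowerSeries.coeff d g ≠ 0 := by
      by_contra h
      push Not at h
      exact hgne (MvPowerSeries.ext fun d => by rw [h d, map_zero])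
    obtain ⟨d, hd⟩ := hd
    exact ⟨_, g, hg0, d, rfl, hd⟩
  obtain ⟨r, ⟨g₀, hg₀, d₀, hd₀, hc₀⟩, hrmin⟩ : ∃ r : ℕ,
      (∃ g : MvPowerSeries (Fin n) k, ψ g = 0 ∧
        ∃ d : Fin n →₀ ℕ, Finsupp.degree d = r ∧ MvPowerSeries.coeff d g ≠ 0) ∧
      ∀ r' < r, ¬ ∃ g : MvPowerSeries (Fin n) k, ψ g = 0 ∧
        ∃ d : Fin n →₀ ℕ, Finsupp.degree d = r' ∧ MvPowerSeries.coeff d g ≠ 0 :=
    ⟨Nat.find hex, Nat.find_spec hex, fun r' h => Nat.find_min hex h⟩
  have hmin : ∀ g : MvPowerSeries (Fin n) k, ψ g = 0 → ∀ d : Fin n →₀ ℕ,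
      Finsupp.degree d < r → MvPowerSeries.coeff d g = 0 := by
    intro g hg d hd
    by_contra hne
    exact hrmin _ hd ⟨g, hg, d, rfl, hne⟩
  have hr2 : 2 ≤ r := by
    by_contra hlt
    push Not at hlt
    have h1 : g₀ ∈ maximalIdeal (MvPowerSeries (Fin n) k) ^ 2 := hψk (RingHom.mem_ker.2 hg₀)
    exact hc₀ (coeff_eq_zero_of_mem_sq k h1 d₀ (by omega))
  have hr1 : 1 ≤ r := by omega
  -- the polynomial truncation and its leading form
  obtain ⟨p₀, hp₀⟩ : ∃ p₀ : MvPolynomial (Fin n) k,
      p₀ = MvPowerSeries.trunc' k (Finsupp.equivFunOnFinite.symm (fun _ => r + 1)) g₀ := ⟨_, rfl⟩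
  have hp₀low : ∀ d : Fin n →₀ ℕ, Finsupp.degree d < r → p₀.coeff d = 0 := by
    intro d hd
    rw [hp₀, MvPowerSeries.coeff_trunc']
    split_ifs
    · exact hmin g₀ hg₀ d hd
    · rfl
  have hq : MvPolynomial.homogeneousComponent r p₀ ≠ 0 := by
    intro h0
    have h1 : MvPolynomial.coeff d₀ (MvPolynomial.homogeneousComponent r p₀) =
        MvPowerSeries.coeff d₀ g₀ := by
      rw [MvPolynomial.coeff_homogeneousComponent, if_pos hd₀, hp₀, MvPowerSeries.coeff_trunc',
        if_pos]
      intro i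
      have h2 : d₀ i ≤ Finsupp.degree d₀ := by
        rw [Finsupp.degree_eq_sum]
        exact Finset.single_le_sum (f := fun i => d₀ i) (fun _ _ => Nat.zero_le _)
          (Finset.mem_univ i)
      show d₀ i ≤ r + 1
      omega
    rw [h0, MvPolynomial.coeff_zero] at h1
    exact hc₀ h1.symm
  obtain ⟨a, ha⟩ : ∃ a : Fin n → k,
      MvPolynomial.eval a (MvPolynomial.homogeneousComponent r p₀) ≠ 0 := by
    by_contra h
    push Not at h
    exact hq (MvPolynomial.funext (fun x => by rw [h x, map_zero]))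
  -- the jet
  obtain ⟨Φ₀, hΦ₀⟩ := Groth.Agent.Lib.Helper6.PowerSeriesAdic.exists_algHom_of_isNilpotent
    (A := k) (E := Q k r) (fun i => xbar k r * algebraMap k (Q k r) (a i))
    (fun i => isNilpotent_of_mem_span_xbar k
      (Ideal.mul_mem_right _ _ (Ideal.mem_span_singleton_self _)))
  have hΦ₀X : ∀ i, Φ₀ (MvPowerSeries.X i) ∈ Ideal.span {xbar k r} := fun i => by
    rw [hΦ₀]
    exact Ideal.mul_mem_right _ _ (Ideal.mem_span_singleton_self _)
  have hΦ₀ker : ∀ g, ψ g = 0 → Φ₀ g = 0 := by
    intro g hg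
    rw [apply_eq_aeval_trunc k (Ideal.span {xbar k r}) r (span_xbar_pow k r) Φ₀ hΦ₀X g]
    have hfun : (fun i => Φ₀ (MvPowerSeries.X i)) =
        fun i => xbar k r * algebraMap k (Q k r) (a i) := funext hΦ₀
    rw [hfun]
    apply aeval_eq_zero_of_low
    intro d hd
    rw [MvPowerSeries.coeff_trunc']
    split_ifs
    · exact hmin g hg d hd
    · rfl
  let eψ := Ideal.quotientKerAlgEquivOfSurjective hψs
  have hker' : ∀ g ∈ RingHom.ker ψ, Φ₀ g = 0 := fun g hg => hΦ₀ker g (RingHom.mem_ker.1 hg)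
  let Φt₀ : Rh →ₐ[k] Q k r :=
    (Ideal.Quotient.liftₐ (RingHom.ker ψ) Φ₀ hker').comp eψ.symm.toAlgHom
  have hΦt₀ : ∀ g, Φt₀ (ψ g) = Φ₀ g := by
    intro g
    have h1 : eψ.symm (ψ g) = Ideal.Quotient.mk _ g := by
      rw [AlgEquiv.symm_apply_eq]
      rfl
    show Ideal.Quotient.liftₐ (RingHom.ker ψ) Φ₀ hker' (eψ.symm (ψ g)) = Φ₀ g
    rw [h1]
    rfl
  have hcanm : ∀ a ∈ m, Φt₀ (algebraMap A Rh a) ∈ Ideal.span {xbar k r} := by
    intro a ha
    obtain ⟨g, hg⟩ := hψs (algebraMap A Rh a)
    rw [← hg, hΦt₀]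
    have hgm : g ∈ maximalIdeal (MvPowerSeries (Fin n) k) := by
      rw [mem_maximalIdeal, mem_nonunits_iff]
      intro hu
      have h1 : IsUnit (algebraMap A Rh a) := by
        rw [← hg]
        exact hu.map ψ
      have h2 : algebraMap A Rh a ∈ maximalIdeal Rh := by
        rw [AdicCompletion.maximalIdeal_eq_map, IsScalarTower.algebraMap_apply A Rm Rh]
        apply Ideal.mem_map_of_mem
        rw [← Localization.AtPrime.map_eq_maximalIdeal]
        exact Ideal.mem_map_of_mem _ ha
      exact mem_nonunits_iff.1 ((mem_maximalIdeal _).1 h2) h1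
    rw [Groth.Agent.Lib.Helper1.PSOmega.maximalIdeal_eq_ker] at hgm
    have hle : RingHom.ker (MvPowerSeries.constantCoeff : MvPowerSeries (Fin n) k →+* k) ≤
        Ideal.comap Φ₀ (Ideal.span {xbar k r}) := by
      refine Groth.Agent.Lib.Helper6.PowerSeriesAdic.ker_constantCoeff_le_span_X.trans ?_
      rw [Ideal.span_le]
      rintro _ ⟨i, rfl⟩
      exact hΦ₀X i
    exact hle hgm
  let φ : A →ₐ[k] Q k r := Φt₀.comp (IsScalarTower.toAlgHom k A Rh)
  have hφnil : ∀ a ∈ m, IsNilpotent (φ a) := fun a ha =>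
    isNilpotent_of_mem_span_xbar k (hcanm a ha)
  have hle : Ideal.span {(X : k[X]) ^ (r + 1)} ≤ Ideal.span {(X : k[X]) ^ r} :=
    Ideal.span_singleton_le_span_singleton.mpr (pow_dvd_pow X (Nat.le_succ r))
  obtain ⟨ψ', hψ'⟩ := H r hr1 φ hφnil
  have hψ'a : ∀ a, Ideal.Quotient.factorₐ k hle (ψ' a) = Φt₀ (algebraMap A Rh a) :=
    fun a => AlgHom.congr_fun hψ' a
  have hψ'm : ∀ a ∈ m, ψ' a ∈ Ideal.span {xbar k (r + 1)} := by
    intro a ha
    apply mem_span_xbar_of_eps_eq_zero k (Nat.le_add_left 1 r)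
    rw [← eps_factor k r hr1 hle, hψ'a]
    exact eps_eq_zero_of_mem_span_xbar k hr1 (hcanm a ha)
  obtain ⟨Θ', hΘ'⟩ := exists_extension m (Ideal.span {xbar k (r + 1)}) (r + 1)
    (span_xbar_pow k (r + 1)) ψ' hψ'm
  have hagree : (Ideal.Quotient.factorₐ k hle).comp Θ' = Φt₀ := by
    apply ext_of_agree m (Ideal.span {xbar k r}) r (span_xbar_pow k r)
    · intro a ha
      show Ideal.Quotient.factorₐ k hle (Θ' (algebraMap A Rh a)) ∈ _
      rw [hΘ', hψ'a]
      exact hcanm a ha
    · intro a
      show Ideal.Quotient.factorₐ k hle (Θ' (algebraMap A Rh a)) = Φt₀ (algebraMap A Rh a)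
      rw [hΘ', hψ'a]
  have hΦX : ∀ i, Ideal.Quotient.factorₐ k hle (Θ' (ψ (MvPowerSeries.X i))) =
      xbar k r * algebraMap k (Q k r) (a i) := by
    intro i
    have h1 := AlgHom.congr_fun hagree (ψ (MvPowerSeries.X i))
    rw [← hΦ₀ i, ← hΦt₀]
    exact h1
  have hu : ∀ i, ∃ u : Q k (r + 1), Θ' (ψ (MvPowerSeries.X i)) -
      xbar k (r + 1) * algebraMap k (Q k (r + 1)) (a i) = xbar k (r + 1) ^ r * u := by
    intro i
    apply exists_eq_of_factor_eq_zero k r hle
    rw [map_sub, hΦX, map_mul, factor_xbar, AlgHom.commutes, sub_self]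
  choose u hu using hu
  obtain ⟨w, hw⟩ : ∃ w : Fin n → Q k (r + 1), w = fun i =>
      algebraMap k (Q k (r + 1)) (a i) + xbar k (r + 1) ^ (r - 1) * u i := ⟨_, rfl⟩
  have hw1 : ∀ i, Θ' (ψ (MvPowerSeries.X i)) = xbar k (r + 1) * w i := by
    intro i
    have h1 := hu i
    rw [sub_eq_iff_eq_add] at h1
    rw [h1, hw]
    show _ = xbar k (r + 1) * (algebraMap k (Q k (r + 1)) (a i) +
      xbar k (r + 1) ^ (r - 1) * u i)
    rw [mul_add, ← mul_assoc, mul_pow_sub_one (by omega : r ≠ 0)]
    ring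
  have hw2 : ∀ i, eps k (Nat.le_add_left 1 r) (w i) = a i := by
    intro i
    rw [hw]
    show eps k _ (algebraMap k (Q k (r + 1)) (a i) + xbar k (r + 1) ^ (r - 1) * u i) = a i
    rw [map_add, AlgHom.commutes, map_mul, map_pow, eps_xbar, zero_pow (by omega), zero_mul,
      add_zero]
    rfl
  have hΦg₀ : (Θ'.comp ψ) g₀ = 0 := by
    show Θ' (ψ g₀) = 0
    rw [hg₀, map_zero]
  have hcomp : (Θ'.comp ψ) g₀ =
      MvPolynomial.aeval (fun i => (Θ'.comp ψ) (MvPowerSeries.X i))
        (MvPowerSeries.trunc' k (Finsupp.equivFunOnFinite.symm (fun _ => r + 1)) g₀) :=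
    apply_eq_aeval_trunc k (Ideal.span {xbar k (r + 1)}) (r + 1) (span_xbar_pow k (r + 1))
      (Θ'.comp ψ) (fun i => by
        show Θ' (ψ (MvPowerSeries.X i)) ∈ _
        rw [hw1]
        exact Ideal.mul_mem_right _ _ (Ideal.mem_span_singleton_self _)) g₀
  have hfun : (fun i => (Θ'.comp ψ) (MvPowerSeries.X i)) = fun i => xbar k (r + 1) * w i :=
    funext hw1
  rw [hfun, ← hp₀, aeval_eq_of_low k r a w hw2 p₀ hp₀low] at hcomp
  exact algebraMap_mul_xbar_pow_ne_zero k r ha (hcomp.symm.trans hΦg₀)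

end


/-- Let k be an algebraically closed field of characteristic zero, A a finitely generated k-algebra and
m a maximal ideal of A. Then A_m is a regular local ring (the pointed scheme (Spec A, m) is smooth
at m) if and only if, for every l ≥ 1, every k-algebra homomorphism φ : A → k[X]/(X^l) mapping m
into the nilpotent elements extends to a k-algebra homomorphism ψ : A → k[X]/(X^(l+1)) reducing to φ
modulo X^l. Only jets along Spec k[X]/(X^l) are tested, not all local Artinian algebras. -/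
theorem result (k : Type u) [Field k] [IsAlgClosed k] [CharZero k]
    (A : Type u) [CommRing A] [Algebra k A] [Algebra.FiniteType k A]
    (m : Ideal A) [m.IsMaximal] :
    IsRegularLocalRing (Localization.AtPrime m) ↔
      ∀ (l : ℕ), 1 ≤ l →
        ∀ (φ : A →ₐ[k] (k[X] ⧸ Ideal.span {(X : k[X]) ^ l})),
          (∀ a ∈ m, IsNilpotent (φ a)) →
          ∃ ψ : A →ₐ[k] (k[X] ⧸ Ideal.span {(X : k[X]) ^ (l + 1)}),
            (Ideal.Quotient.factorₐ k
                (Ideal.span_singleton_le_span_singleton.mpr (pow_dvd_pow (X : k[X]) (Nat.le_succ l)))).comp ψ = φ := by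
  haveI : IsNoetherianRing A := Algebra.FiniteType.isNoetherianRing k A
  have hbij := algebraMap_residueField_bijective (k := k) m
  constructor
  · intro hreg l hl φ hφ
    haveI : Algebra.IsGeometricallyReduced k (ResidueField (Localization.AtPrime m)) :=
      geomRed_of_bijective hbij
    have hfs : CAlgX.IsAdicFormallySmooth k (Localization.AtPrime m)
        (maximalIdeal (Localization.AtPrime m)) :=
      ((Groth.Agent.Lib.Helper21.CohenStruct.S2453_aux k (Localization.AtPrime m)).out 3 0).mp hreg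
    have hle : Ideal.span {(X : k[X]) ^ (l + 1)} ≤ Ideal.span {(X : k[X]) ^ l} :=
      Ideal.span_singleton_le_span_singleton.mpr (pow_dvd_pow X (Nat.le_succ l))
    have hφ' : ∀ a ∈ m, φ a ∈ Ideal.span {xbar k l} := fun a ha =>
      mem_span_xbar_of_isNilpotent k hl (hφ a ha)
    have hu : ∀ y : m.primeCompl, IsUnit (φ y) := fun y =>
      isUnit_of_notMem m _ l (span_xbar_pow k l) φ hφ' y.2
    let φR : Localization.AtPrime m →ₐ[k] Q k l :=
      IsLocalization.liftAlgHom (M := m.primeCompl) (S := Localization.AtPrime m) hu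
    have hφR : ∀ a, φR (algebraMap A (Localization.AtPrime m) a) = φ a := fun a => by
      show IsLocalization.liftAlgHom (M := m.primeCompl) (S := Localization.AtPrime m) hu
        (algebraMap A (Localization.AtPrime m) a) = φ a
      rw [IsLocalization.liftAlgHom_apply]
      exact IsLocalization.lift_eq _ a
    have hkill : ∀ x ∈ maximalIdeal (Localization.AtPrime m) ^ l, φR x = 0 :=
      kills_pow m _ l (span_xbar_pow k l) φR.toRingHom (fun a ha => by
        show φR (algebraMap A (Localization.AtPrime m) a) ∈ _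
        rw [hφR]
        exact hφ' a ha)
    have hfsurj : Function.Surjective (Ideal.Quotient.factorₐ k hle) := by
      intro y
      obtain ⟨p, rfl⟩ := Ideal.Quotient.mk_surjective y
      exact ⟨Ideal.Quotient.mk _ p, Ideal.Quotient.factorₐ_apply_mk k hle p⟩
    let ebar := Ideal.quotientKerAlgEquivOfSurjective hfsurj
    obtain ⟨χ, hχ⟩ := hfs (Q k (l + 1)) (RingHom.ker (Ideal.Quotient.factorₐ k hle))
      (ker_factor_sq k l hl hle) (ebar.symm.toAlgHom.comp φR) ⟨l, fun x hx => by
        show ebar.symm (φR x) = 0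
        rw [hkill x hx, map_zero]⟩
    refine ⟨χ.comp (IsScalarTower.toAlgHom k A (Localization.AtPrime m)), ?_⟩
    apply AlgHom.ext
    intro a
    show Ideal.Quotient.factorₐ k hle (χ (algebraMap A (Localization.AtPrime m) a)) = φ a
    have h1 : Ideal.Quotient.mk _ (χ (algebraMap A (Localization.AtPrime m) a)) =
        ebar.symm (φR (algebraMap A (Localization.AtPrime m) a)) := AlgHom.congr_fun hχ _
    have h2 : ebar (Ideal.Quotient.mk _ (χ (algebraMap A (Localization.AtPrime m) a))) =
        Ideal.Quotient.factorₐ k hle (χ (algebraMap A (Localization.AtPrime m) a)) := rfl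
    rw [← h2, h1, AlgEquiv.apply_symm_apply, hφR]
  · intro H
    haveI : IsNoetherianRing (AdicCompletion (maximalIdeal (Localization.AtPrime m))
        (Localization.AtPrime m)) :=
      Groth.Agent.Lib.Helper8.isNoetherianRing_adicCompletion (Localization.AtPrime m)
    obtain ⟨ψ, hψs, hψk⟩ := Groth.Agent.Lib.Helper21.CohenStruct.exists_surjective k
      (AdicCompletion (maximalIdeal (Localization.AtPrime m)) (Localization.AtPrime m))
      (residue_comp_surjective m)
    have hinj := injective_of_lifts m H ψ hψs hψk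
    haveI := Groth.Agent.Lib.Helper21.CohenStruct.isRegularLocalRing_mvPowerSeries k
      (Module.finrank (ResidueField (AdicCompletion (maximalIdeal (Localization.AtPrime m))
        (Localization.AtPrime m))) (CotangentSpace (AdicCompletion
          (maximalIdeal (Localization.AtPrime m)) (Localization.AtPrime m))))
    haveI : IsRegularLocalRing (AdicCompletion (maximalIdeal (Localization.AtPrime m))
        (Localization.AtPrime m)) :=
      IsRegularLocalRing.of_ringEquiv (RingEquiv.ofBijective ψ ⟨hinj, hψs⟩)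
    exact (Groth.Agent.Lib.Helper8.isRegularLocalRing_adicCompletion_iff
      (Localization.AtPrime m)).mpr inferInstance

end Groth.Agent.S18832
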