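import Groth.Statements.S18834
import Groth.Agent.S12555
import Groth.Agent.S12556

set_option autoImplicit false
universe u
open TensorProduct
open GIT

namespace Groth.Agent.S18834

/-- Let k be an algebraically closed field of characteristic zero, G = Spec A a linearly reductive
affine group over k (A a commutative Hopf algebra whose finite-dimensional comodules are semisimple)
acting on an affine k-scheme Spec R of finite type (a multiplicative coaction of A on R), and R^G
the ring of invariants. Then for every ideal I of R^G the ideal I·R of R generated by I satisfies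
(I·R) ∩ R^G = I. (The section also assumes Spec R irreducible; that hypothesis plays no role here
and is not carried.) -/
theorem result (k : Type u) [Field k] [IsAlgClosed k] [CharZero k]
    (A : Type u) [CommRing A] [HopfAlgebra k A] (hG : HopfRep.IsLinearlyReductive k A)
    (R : Type u) [CommRing R] [Algebra k R] [Algebra.FiniteType k R]
    [HopfRep.Comod k A R] [GLin.IsCoactAlg k A R]
    (I : Ideal (GLin.invariants k A R)) :
    Ideal.comap (GLin.invariants k A R).val.toRingHom
        (Ideal.map (GLin.invariants k A R).val.toRingHom I) = I := by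
  obtain ⟨E, ⟨hE1, hE2, hE3⟩, -⟩ := Groth.Agent.S12555.result k A hG R
  have hE3' : ∀ x : R, E x = x ↔ x ∈ GLin.invariants k A R := hE3
  have hmul : ∀ x y : R, y ∈ GLin.invariants k A R → E (x * y) = E x * y :=
    fun x y hy => Groth.Agent.S12556.result k A hG R E hE1 hE2 hE3' x y hy
  have hEmem : ∀ x : R, E x ∈ GLin.invariants k A R := fun x => by
    rw [← hE3']
    exact LinearMap.congr_fun hE2 x
  apply le_antisymm
  · intro a ha
    rw [Ideal.mem_comap] at ha
    have key : ∀ x ∈ Ideal.map (GLin.invariants k A R).val.toRingHom I,
        ∀ r : R, ∃ b ∈ I, ((b : GLin.invariants k A R) : R) = E (r * x) := by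
      intro x hx
      unfold Ideal.map at hx
      induction hx using Submodule.span_induction with
      | mem x hx =>
        obtain ⟨b₀, hb₀, rfl⟩ := hx
        intro r
        refine ⟨⟨E r, hEmem r⟩ * b₀, I.mul_mem_left _ hb₀, ?_⟩
        have h1 : (GLin.invariants k A R).val.toRingHom b₀ = (b₀ : R) := rfl
        rw [h1, hmul r _ b₀.2]
        rfl
      | zero =>
        intro r
        exact ⟨0, I.zero_mem, by simp⟩
      | add x y _ _ hx hy =>
        intro r
        obtain ⟨b, hb, hbx⟩ := hx r
        obtain ⟨c, hc, hcy⟩ := hy r
        refine ⟨b + c, I.add_mem hb hc, ?_⟩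
        rw [mul_add, map_add, ← hbx, ← hcy]
        rfl
      | smul s x _ hx =>
        intro r
        obtain ⟨b, hb, hbx⟩ := hx (r * s)
        refine ⟨b, hb, ?_⟩
        rw [hbx, smul_eq_mul, mul_assoc]
    obtain ⟨b, hb, hbx⟩ := key _ ha 1
    rw [one_mul] at hbx
    have : E ((GLin.invariants k A R).val.toRingHom a) = (a : R) := (hE3' _).mpr a.2
    have hab : b = a := Subtype.ext (by rw [hbx]; exact this)
    rw [← hab]; exact hb
  · exact Ideal.le_comap_map

end Groth.Agent.S18834
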