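import Groth.Statements.S18864
import Mathlib

set_option autoImplicit false
universe u v w
open HopfRep

namespace Groth.Agent.S18864

/-- Let k be a field and G = lim G_i a pro-algebraic group scheme over k, so that G = Spec A with A the
direct limit of the Hopf algebras A_i of the affine group schemes G_i of finite type; assume
moreover that the maps A_i → A are injective, so that A is the directed union of the A_i, here given
as injective bialgebra maps A_i → A with directed, jointly covering images. Then every homomorphism
from G to an affine group scheme H = Spec B of finite type over k factors through some projection G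
→ G_i: every bialgebra map f : B → A with B finitely generated as a k-algebra is the composite of
A_i → A with a bialgebra map B → A_i for some i. (The published statement allows arbitrary
transition maps in the system; this row assumes each A_i → A injective, the case the printed
argument treats. The source also states the pro-finite variant with H finite, which is the case of
finite-dimensional A_i and B; finite generation of the A_i is not used.) -/
theorem result (k : Type u) [Field k]
    (A : Type v) [CommRing A] [HopfAlgebra k A] {ι : Type v} (Aι : ι → Type v)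
    [∀ i, CommRing (Aι i)] [∀ i, HopfAlgebra k (Aι i)] (emb : ∀ i, Aι i →ₐc[k] A)
    (hinj : ∀ i, Function.Injective (emb i))
    (hdir : ∀ i j, ∃ l, Set.range (emb i) ⊆ Set.range (emb l) ∧ Set.range (emb j) ⊆ Set.range (emb l))
    (hcov : ∀ a : A, ∃ i, a ∈ Set.range (emb i))
    (B : Type w) [CommRing B] [HopfAlgebra k B] [Algebra.FiniteType k B] (f : B →ₐc[k] A) :
    ∃ (i : ι) (g : B →ₐc[k] Aι i), (emb i).comp g = f := by
  classical
  obtain ⟨s, hs⟩ := (Algebra.FiniteType.out : (⊤ : Subalgebra k B).FG)
  -- find a common index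
  have hcommon : ∀ t : Finset B, ∃ l, ∀ b ∈ t, f b ∈ Set.range (emb l) := by
    intro t
    induction t using Finset.induction_on with
    | empty =>
      obtain ⟨i, _⟩ := hcov 0
      exact ⟨i, fun b hb => absurd hb (Finset.notMem_empty b)⟩
    | insert a t _ ih =>
      obtain ⟨l₁, hl₁⟩ := ih
      obtain ⟨l₂, hl₂⟩ := hcov (f a)
      obtain ⟨l, h1, h2⟩ := hdir l₁ l₂
      refine ⟨l, fun b hb => ?_⟩
      rcases Finset.mem_insert.mp hb with rfl | hb
      · exact h2 hl₂
      · exact h1 (hl₁ b hb)
  obtain ⟨l, hl⟩ := hcommon s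
  have hrange : ∀ b : B, f b ∈ ((emb l : Aι l →ₐ[k] A)).range := by
    have h1 : (f : B →ₐ[k] A).range ≤ (emb l : Aι l →ₐ[k] A).range := by
      rw [← Algebra.map_top, ← hs, AlgHom.map_adjoin, Algebra.adjoin_le_iff]
      rintro _ ⟨b, hb, rfl⟩
      obtain ⟨a, ha⟩ := hl b hb
      exact ⟨a, ha⟩
    intro b
    exact h1 ⟨b, rfl⟩
  have hinj' : Function.Injective (emb l : Aι l →ₐ[k] A) := hinj l
  let e := AlgEquiv.ofInjective (emb l : Aι l →ₐ[k] A) hinj'
  let g₀ : B →ₐ[k] Aι l := (e.symm : _ →ₐ[k] _).comp ((f : B →ₐ[k] A).codRestrict _ hrange)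
  have hg₀ : ∀ b, emb l (g₀ b) = f b := by
    intro b
    have h1 : ((e (g₀ b) : (emb l : Aι l →ₐ[k] A).range) : A) = f b := by
      simp only [g₀, AlgHom.comp_apply, AlgEquiv.coe_algHom, AlgEquiv.apply_symm_apply]
      rfl
    exact h1
  have hmapinj : Function.Injective (TensorProduct.map ((emb l : Aι l →ₐ[k] A).toLinearMap)
      ((emb l : Aι l →ₐ[k] A).toLinearMap)) :=
    TensorProduct.map_injective_of_flat_flat _ _ hinj' hinj'
  have hcomp : (emb l : Aι l →ₐ[k] A).comp g₀ = (f : B →ₐ[k] A) := by
    ext b
    exact hg₀ b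
  refine ⟨l, BialgHom.ofAlgHom g₀ ?_ ?_, ?_⟩
  · -- counit
    ext b
    have h1 : Coalgebra.counit (R := k) (g₀ b) = Coalgebra.counit (R := k) (emb l (g₀ b)) :=
      (CoalgHomClass.counit_comp_apply (emb l) (g₀ b)).symm
    have h2 : Coalgebra.counit (R := k) (f b) = Coalgebra.counit (R := k) b :=
      CoalgHomClass.counit_comp_apply f b
    change Coalgebra.counit (R := k) (g₀ b) = Coalgebra.counit (R := k) b
    rw [h1, hg₀, h2]
  · -- comul
    ext b
    apply hmapinj
    change TensorProduct.map (emb l : Aι l →ₐ[k] A).toLinearMap (emb l : Aι l →ₐ[k] A).toLinearMap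
        (TensorProduct.map g₀.toLinearMap g₀.toLinearMap (Coalgebra.comul (R := k) b)) =
      TensorProduct.map (emb l : Aι l →ₐ[k] A).toLinearMap (emb l : Aι l →ₐ[k] A).toLinearMap
        (Coalgebra.comul (R := k) (g₀ b))
    rw [← LinearMap.comp_apply, ← TensorProduct.map_comp]
    have h3 : (emb l : Aι l →ₐ[k] A).toLinearMap ∘ₗ g₀.toLinearMap = (f : B →ₐ[k] A).toLinearMap := by
      rw [← AlgHom.comp_toLinearMap, hcomp]
    rw [h3]
    have h4 := CoalgHomClass.map_comp_comul_apply (emb l) (g₀ b)
    have h5 := CoalgHomClass.map_comp_comul_apply f b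
    rw [hg₀] at h4
    exact h5.trans h4.symm
  · ext b
    exact hg₀ b

end Groth.Agent.S18864
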