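import Groth.Statements.S18867
-- import your own Groth.Agent.* helpers here
import Mathlib
import Groth.Agent.Lib.Helper22.Liaison5

set_option autoImplicit false
universe u
open Liaison

namespace Groth.Agent.S18867

/-- Let K be a field, R = K[x_0, …, x_n] graded by degree, c ≥ 2, 𝔠 ⊂ R a homogeneous ideal of height c
such that R/𝔠 is a Gorenstein ring, and I ⊂ R a homogeneous ideal of height c which is unmixed
(every associated prime of R/I has height c) and properly contains 𝔠. Then 𝔠 : (𝔠 : I) = I, so that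
I and 𝔠 : I are directly linked by 𝔠. -/
theorem result (K : Type u) [Field K] (n c : ℕ) (hc : 2 ≤ c)
    (𝔠 I : Ideal (MvPolynomial (Fin (n + 1)) K))
    (h𝔠 : 𝔠.IsHomogeneous (GrSyz.stdGr K (Fin (n + 1)))) (hI : I.IsHomogeneous (GrSyz.stdGr K (Fin (n + 1))))
    [LocCoh.IsGorensteinRing (MvPolynomial (Fin (n + 1)) K ⧸ 𝔠)] (h𝔠c : 𝔠.height = c) (hIc : I.height = c)
    (hIu : ∀ p ∈ associatedPrimes (MvPolynomial (Fin (n + 1)) K) (MvPolynomial (Fin (n + 1)) K ⧸ I), p.height = c) (hlt : 𝔠 < I) :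
    𝔠.colon ((𝔠.colon (I : Set (MvPolynomial (Fin (n + 1)) K)) : Ideal (MvPolynomial (Fin (n + 1)) K)) : Set (MvPolynomial (Fin (n + 1)) K)) = I := by
  classical
  haveI : LocCoh.IsCohenMacaulayRing (MvPolynomial (Fin (n + 1)) K ⧸ 𝔠) :=
    Groth.Agent.Lib.Helper22.Liaison.cm_of_gorenstein
  apply le_antisymm
  · intro x hx
    by_contra hxI
    have hne : (Ideal.Quotient.mk I x : MvPolynomial (Fin (n + 1)) K ⧸ I) ≠ 0 :=
      fun h => hxI (Ideal.Quotient.eq_zero_iff_mem.1 h)
    obtain ⟨P, hP, hle⟩ := exists_le_isAssociatedPrime_of_isNoetherianRing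
      (R := MvPolynomial (Fin (n + 1)) K) (M := MvPolynomial (Fin (n + 1)) K ⧸ I) _ hne
    have hPh := hIu P hP
    haveI : P.IsPrime := hP.isPrime
    have hIP : I ≤ P := by
      refine le_trans ?_ hle
      intro i hi
      rw [Submodule.mem_colon_singleton, Submodule.mem_bot]
      have : i • (Ideal.Quotient.mk I x : MvPolynomial (Fin (n + 1)) K ⧸ I) =
          Ideal.Quotient.mk I (i * x) := by
        rfl
      rw [this]
      exact Ideal.Quotient.eq_zero_iff_mem.2 (I.mul_mem_right _ hi)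
    have hPmin : P ∈ 𝔠.minimalPrimes :=
      Ideal.mem_minimalPrimes_of_height_le (hlt.le.trans hIP) (by rw [hPh, h𝔠c])
    obtain ⟨s, hsP, hsx⟩ :=
      Groth.Agent.Lib.Helper22.Liaison.exists_notMem_mul_mem 𝔠 I P hlt.le hPmin x hx
    apply hsP
    apply hle
    rw [Submodule.mem_colon_singleton, Submodule.mem_bot]
    have : s • (Ideal.Quotient.mk I x : MvPolynomial (Fin (n + 1)) K ⧸ I) =
        Ideal.Quotient.mk I (s * x) := by
      rfl
    rw [this]
    exact Ideal.Quotient.eq_zero_iff_mem.2 hsx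
  · intro i hi
    refine Submodule.mem_colon.2 (fun a ha => ?_)
    have := Submodule.mem_colon.1 ha i hi
    rw [smul_eq_mul] at this ⊢
    rwa [mul_comm]

end Groth.Agent.S18867
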