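import Groth.Statements.S18868
import Mathlib
import Groth.Agent.Lib.Helper4.Liaison4
import Groth.Agent.S18867

set_option autoImplicit false
universe u
open Liaison

namespace Groth.Agent.S18868

/-- Let K be a field, R = K[x_0, …, x_n] graded by degree, c ≥ 2, 𝔠 ⊂ R a homogeneous complete
intersection of codimension c, that is a homogeneous ideal of height c generated by c elements g_1,
…, g_c, and I ⊂ R a homogeneous ideal of height c with R/I Cohen–Macaulay which properly contains 𝔠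
and has the form I = 𝔠 + fR for some f (so I is an almost complete intersection). Then the linked
ideal J = 𝔠 : I has height c and R/J is a Gorenstein ring. (A Gorenstein ideal of the notes, one
whose quotient is Cohen–Macaulay with last graded Betti number 1, is rendered as: the quotient ring
is Gorenstein.) -/
theorem result (K : Type u) [Field K] (n c : ℕ) (hc : 2 ≤ c)
    (g : Fin c → MvPolynomial (Fin (n + 1)) K) (f : MvPolynomial (Fin (n + 1)) K) (𝔠 I : Ideal (MvPolynomial (Fin (n + 1)) K)) (h𝔠g : Ideal.span (Set.range g) = 𝔠)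
    (h𝔠 : 𝔠.IsHomogeneous (GrSyz.stdGr K (Fin (n + 1)))) (hI : I.IsHomogeneous (GrSyz.stdGr K (Fin (n + 1))))
    (h𝔠c : 𝔠.height = c) (hIc : I.height = c) [LocCoh.IsCohenMacaulayRing (MvPolynomial (Fin (n + 1)) K ⧸ I)]
    (hlt : 𝔠 < I) (hIf : I = 𝔠 ⊔ Ideal.span {f}) :
    (𝔠.colon (I : Set (MvPolynomial (Fin (n + 1)) K))).height = c ∧
      LocCoh.IsGorensteinRing (MvPolynomial (Fin (n + 1)) K ⧸ 𝔠.colon (I : Set (MvPolynomial (Fin (n + 1)) K))) := by
  classical
  have hG : LocCoh.IsGorensteinRing (MvPolynomial (Fin (n + 1)) K ⧸ 𝔠) := by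
    have := Groth.Agent.Lib.Helper4.Liaison.gorRing_quot_span_range_of_height c g
      (le_of_eq (by rw [h𝔠g, h𝔠c]))
    rwa [h𝔠g] at this
  haveI := hG
  haveI hCM𝔠 : LocCoh.IsCohenMacaulayRing (MvPolynomial (Fin (n + 1)) K ⧸ 𝔠) :=
    Groth.Agent.Lib.Helper22.Liaison.cm_of_gorenstein
  have hIu : ∀ p ∈ associatedPrimes (MvPolynomial (Fin (n + 1)) K)
      (MvPolynomial (Fin (n + 1)) K ⧸ I), p.height = c := fun p hp =>
    (Groth.Agent.Lib.Helper22.Liaison.height_eq_of_mem_ass I hI p hp).trans hIc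
  have hJI := Groth.Agent.S18867.result K n c hc 𝔠 I h𝔠 hI h𝔠c hIc hIu hlt
  have hnle : ¬ I ≤ 𝔠 := fun h => lt_irrefl _ (lt_of_lt_of_le hlt h)
  refine ⟨(Groth.Agent.Lib.Helper22.Liaison.colon_unmixed 𝔠 I h𝔠 hnle).1.trans h𝔠c, ?_⟩
  have hcJ : 𝔠 ≤ 𝔠.colon (I : Set (MvPolynomial (Fin (n + 1)) K)) :=
    Groth.Agent.Lib.Helper4.Liaison.le_colon' 𝔠 _
  haveI hCMJ : LocCoh.IsCohenMacaulayRing (MvPolynomial (Fin (n + 1)) K ⧸
      𝔠.colon (I : Set (MvPolynomial (Fin (n + 1)) K))) :=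
    Groth.Agent.Lib.Helper4.Liaison.cmRing_quot_of_linked 𝔠 I _ rfl hJI
  have hĪ : I.map (Ideal.Quotient.mk 𝔠) = Ideal.span {Ideal.Quotient.mk 𝔠 f} := by
    rw [hIf, Ideal.map_sup, Ideal.map_quotient_self, bot_sup_eq, Ideal.map_span,
      Set.image_singleton]
  have h1 : Submodule.annihilator (Ideal.span {Ideal.Quotient.mk 𝔠 f}) =
      (𝔠.colon (I : Set (MvPolynomial (Fin (n + 1)) K))).map (Ideal.Quotient.mk 𝔠) := by
    rw [← hĪ, Groth.Agent.Lib.Helper4.Liaison.annihilator_map_mk]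
  have h2 : Submodule.annihilator
      ((𝔠.colon (I : Set (MvPolynomial (Fin (n + 1)) K))).map (Ideal.Quotient.mk 𝔠)) =
      Ideal.span {Ideal.Quotient.mk 𝔠 f} := by
    rw [Groth.Agent.Lib.Helper4.Liaison.annihilator_map_mk, hJI, hĪ]
  haveI : LocCoh.IsCohenMacaulayRing ((MvPolynomial (Fin (n + 1)) K ⧸ 𝔠) ⧸
      (𝔠.colon (I : Set (MvPolynomial (Fin (n + 1)) K))).map (Ideal.Quotient.mk 𝔠)) :=
    Groth.Agent.Lib.Helper22.CMG.isCMRing_of_ringEquiv
      (DoubleQuot.quotQuotEquivQuotOfLE hcJ).symm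
  have hfin := Groth.Agent.Lib.Helper4.Liaison.gorRing_of_annihilator_span
    (Ideal.Quotient.mk 𝔠 f)
    ((𝔠.colon (I : Set (MvPolynomial (Fin (n + 1)) K))).map (Ideal.Quotient.mk 𝔠)) h1 h2
  exact Groth.Agent.Lib.Helper4.GorRing.gorRing_of_ringEquiv
    (DoubleQuot.quotQuotEquivQuotOfLE hcJ) hfin

end Groth.Agent.S18868
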