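import Groth.Statements.S18869
import Mathlib
import Groth.Agent.Lib.Helper4.Liaison6

set_option autoImplicit false
universe u
open Liaison

namespace Groth.Agent.S18869

/-- Let K be a field, R = K[x_0, …, x_n] graded by degree, and I₁, I₂ ⊂ R homogeneous ideals of the same
height c such that R/I₁ and R/I₂ are Cohen–Macaulay rings (they define arithmetically Cohen–Macaulay
subschemes of codimension c) and I₁, I₂ have no minimal prime in common (no common component). If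
R/(I₁ ∩ I₂) is a Gorenstein ring (the union is arithmetically Gorenstein), then I₁ + I₂ has height c
+ 1 and R/(I₁ + I₂) is a Gorenstein ring (the intersection is arithmetically Gorenstein of
codimension c + 1). (Arithmetically Gorenstein, in the notes arithmetically Cohen–Macaulay with last
graded Betti number 1, is rendered as: the quotient ring is Gorenstein.) -/
theorem result (K : Type u) [Field K] (n c : ℕ)
    (I₁ I₂ : Ideal (MvPolynomial (Fin (n + 1)) K))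
    (hI₁ : I₁.IsHomogeneous (GrSyz.stdGr K (Fin (n + 1)))) (hI₂ : I₂.IsHomogeneous (GrSyz.stdGr K (Fin (n + 1))))
    [LocCoh.IsCohenMacaulayRing (MvPolynomial (Fin (n + 1)) K ⧸ I₁)] [LocCoh.IsCohenMacaulayRing (MvPolynomial (Fin (n + 1)) K ⧸ I₂)]
    (h₁ : I₁.height = c) (h₂ : I₂.height = c) (hdisj : Disjoint I₁.minimalPrimes I₂.minimalPrimes)
    [LocCoh.IsGorensteinRing (MvPolynomial (Fin (n + 1)) K ⧸ (I₁ ⊓ I₂))] :
    (I₁ ⊔ I₂).height = c + 1 ∧ LocCoh.IsGorensteinRing (MvPolynomial (Fin (n + 1)) K ⧸ (I₁ ⊔ I₂)) := by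
  classical
  have h𝔠hom : (I₁ ⊓ I₂).IsHomogeneous (GrSyz.stdGr K (Fin (n + 1))) := hI₁.inf hI₂
  have hJhom : (I₁ ⊔ I₂).IsHomogeneous (GrSyz.stdGr K (Fin (n + 1))) := hI₁.sup hI₂
  haveI hCM𝔠 : LocCoh.IsCohenMacaulayRing (MvPolynomial (Fin (n + 1)) K ⧸ (I₁ ⊓ I₂)) :=
    Groth.Agent.Lib.Helper22.Liaison.cm_of_gorenstein
  have hcol₁ : (I₁ ⊓ I₂).colon (I₁ : Set (MvPolynomial (Fin (n + 1)) K)) = I₂ :=
    Groth.Agent.Lib.Helper4.Liaison.colon_inf_eq_of_disjoint I₁ I₂ hI₂ (by rw [h₁, h₂]) hdisj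
  have hcol₂ : (I₁ ⊓ I₂).colon (I₂ : Set (MvPolynomial (Fin (n + 1)) K)) = I₁ := by
    have h := Groth.Agent.Lib.Helper4.Liaison.colon_inf_eq_of_disjoint I₂ I₁ hI₁
      (by rw [h₁, h₂]) hdisj.symm
    rwa [inf_comm] at h
  have h12 : Submodule.annihilator (I₁.map (Ideal.Quotient.mk (I₁ ⊓ I₂))) =
      I₂.map (Ideal.Quotient.mk (I₁ ⊓ I₂)) := by
    rw [Groth.Agent.Lib.Helper4.Liaison.annihilator_map_mk, hcol₁]
  have h21 : Submodule.annihilator (I₂.map (Ideal.Quotient.mk (I₁ ⊓ I₂))) =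
      I₁.map (Ideal.Quotient.mk (I₁ ⊓ I₂)) := by
    rw [Groth.Agent.Lib.Helper4.Liaison.annihilator_map_mk, hcol₂]
  have hinf : I₁.map (Ideal.Quotient.mk (I₁ ⊓ I₂)) ⊓ I₂.map (Ideal.Quotient.mk (I₁ ⊓ I₂)) = ⊥ := by
    rw [eq_bot_iff]
    intro y hy
    obtain ⟨x, rfl⟩ := Ideal.Quotient.mk_surjective y
    obtain ⟨hy1, hy2⟩ := Submodule.mem_inf.mp hy
    rw [Ideal.mem_quotient_iff_mem inf_le_left] at hy1
    rw [Ideal.mem_quotient_iff_mem inf_le_right] at hy2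
    rw [Submodule.mem_bot]
    exact Ideal.Quotient.eq_zero_iff_mem.mpr (Submodule.mem_inf.mpr ⟨hy1, hy2⟩)
  haveI : LocCoh.IsCohenMacaulayRing ((MvPolynomial (Fin (n + 1)) K ⧸ (I₁ ⊓ I₂)) ⧸
      I₁.map (Ideal.Quotient.mk (I₁ ⊓ I₂))) :=
    Groth.Agent.Lib.Helper22.CMG.isCMRing_of_ringEquiv
      (DoubleQuot.quotQuotEquivQuotOfLE (inf_le_left : I₁ ⊓ I₂ ≤ I₁)).symm
  haveI : LocCoh.IsCohenMacaulayRing ((MvPolynomial (Fin (n + 1)) K ⧸ (I₁ ⊓ I₂)) ⧸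
      I₂.map (Ideal.Quotient.mk (I₁ ⊓ I₂))) :=
    Groth.Agent.Lib.Helper22.CMG.isCMRing_of_ringEquiv
      (DoubleQuot.quotQuotEquivQuotOfLE (inf_le_right : I₁ ⊓ I₂ ≤ I₂)).symm
  obtain ⟨hgor, hht⟩ := Groth.Agent.Lib.Helper4.Liaison.gorRing_quot_sup_of_linked
    (I₁.map (Ideal.Quotient.mk (I₁ ⊓ I₂))) (I₂.map (Ideal.Quotient.mk (I₁ ⊓ I₂)))
    ((I₁ ⊔ I₂).map (Ideal.Quotient.mk (I₁ ⊓ I₂))) (by rw [Ideal.map_sup]) h12 h21 hinf
  have hcJ : I₁ ⊓ I₂ ≤ I₁ ⊔ I₂ := inf_le_left.trans le_sup_left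
  have hGorJ : LocCoh.IsGorensteinRing (MvPolynomial (Fin (n + 1)) K ⧸ (I₁ ⊔ I₂)) :=
    Groth.Agent.Lib.Helper4.GorRing.gorRing_of_ringEquiv
      (DoubleQuot.quotQuotEquivQuotOfLE hcJ) hgor
  refine ⟨?_, hGorJ⟩
  haveI := hGorJ
  haveI hCMJ : LocCoh.IsCohenMacaulayRing (MvPolynomial (Fin (n + 1)) K ⧸ (I₁ ⊔ I₂)) :=
    Groth.Agent.Lib.Helper22.Liaison.cm_of_gorenstein
  have hI₁ne : I₁ ≠ ⊤ := by
    rintro rfl
    rw [Ideal.height_top] at h₁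
    exact ENat.top_ne_coe _ h₁
  have hI₂ne : I₂ ≠ ⊤ := by
    rintro rfl
    rw [Ideal.height_top] at h₂
    exact ENat.top_ne_coe _ h₂
  have hJirr : I₁ ⊔ I₂ ≤ Groth.Agent.Lib.Helper22.Liaison.irr K n :=
    sup_le (Groth.Agent.Lib.Helper22.Liaison.le_irr hI₁ hI₁ne)
      (Groth.Agent.Lib.Helper22.Liaison.le_irr hI₂ hI₂ne)
  have h𝔠irr : I₁ ⊓ I₂ ≤ Groth.Agent.Lib.Helper22.Liaison.irr K n := hcJ.trans hJirr
  have hirrne : Groth.Agent.Lib.Helper22.Liaison.irr K n ≠ ⊤ :=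
    (Groth.Agent.Lib.Helper22.Liaison.irr_isMaximal K n).ne_top
  have hJne : I₁ ⊔ I₂ ≠ ⊤ := fun h => hirrne (top_le_iff.mp (h ▸ hJirr))
  have h𝔠ne : I₁ ⊓ I₂ ≠ ⊤ := fun h => hirrne (top_le_iff.mp (h ▸ h𝔠irr))
  have h𝔠ht : (I₁ ⊓ I₂).height = c :=
    Groth.Agent.Lib.Helper4.Liaison.height_inf_eq I₁ I₂ c h₁ h₂
  have e𝔠 := Groth.Agent.Lib.Helper4.Liaison.height_add_height_map_irr (I₁ ⊓ I₂) h𝔠hom h𝔠ne
  have eJ := Groth.Agent.Lib.Helper4.Liaison.height_add_height_map_irr (I₁ ⊔ I₂) hJhom hJne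
  rw [h𝔠ht] at e𝔠
  have hrel : ((Groth.Agent.Lib.Helper22.Liaison.irr K n).map
      (Ideal.Quotient.mk (I₁ ⊔ I₂))).height + 1 =
      ((Groth.Agent.Lib.Helper22.Liaison.irr K n).map
        (Ideal.Quotient.mk (I₁ ⊓ I₂))).height := by
    haveI : ((Groth.Agent.Lib.Helper22.Liaison.irr K n).map
        (Ideal.Quotient.mk (I₁ ⊔ I₂))).IsPrime :=
      Ideal.map_isPrime_of_surjective Ideal.Quotient.mk_surjective
        (by rw [Ideal.mk_ker]; exact hJirr)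
    have h1 := hht (Ideal.comap (DoubleQuot.quotQuotEquivQuotOfLE hcJ)
      ((Groth.Agent.Lib.Helper22.Liaison.irr K n).map (Ideal.Quotient.mk (I₁ ⊔ I₂))))
    rw [RingEquiv.height_comap] at h1
    have hcomap : (Ideal.comap (DoubleQuot.quotQuotEquivQuotOfLE hcJ)
        ((Groth.Agent.Lib.Helper22.Liaison.irr K n).map (Ideal.Quotient.mk (I₁ ⊔ I₂)))).comap
        (Ideal.Quotient.mk ((I₁ ⊔ I₂).map (Ideal.Quotient.mk (I₁ ⊓ I₂)))) =
        (Groth.Agent.Lib.Helper22.Liaison.irr K n).map (Ideal.Quotient.mk (I₁ ⊓ I₂)) := by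
      ext y
      obtain ⟨x, rfl⟩ := Ideal.Quotient.mk_surjective y
      have hε : DoubleQuot.quotQuotEquivQuotOfLE hcJ
          (Ideal.Quotient.mk ((I₁ ⊔ I₂).map (Ideal.Quotient.mk (I₁ ⊓ I₂)))
            (Ideal.Quotient.mk (I₁ ⊓ I₂) x)) = Ideal.Quotient.mk (I₁ ⊔ I₂) x :=
        DoubleQuot.quotQuotEquivQuotOfLE_quotQuotMk x hcJ
      constructor
      · intro h
        have h2 : DoubleQuot.quotQuotEquivQuotOfLE hcJ
            (Ideal.Quotient.mk ((I₁ ⊔ I₂).map (Ideal.Quotient.mk (I₁ ⊓ I₂)))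
              (Ideal.Quotient.mk (I₁ ⊓ I₂) x)) ∈
            (Groth.Agent.Lib.Helper22.Liaison.irr K n).map (Ideal.Quotient.mk (I₁ ⊔ I₂)) := h
        rw [hε, Ideal.mem_quotient_iff_mem hJirr] at h2
        exact (Ideal.mem_quotient_iff_mem h𝔠irr).mpr h2
      · intro h
        have h2 := (Ideal.mem_quotient_iff_mem h𝔠irr).mp h
        show DoubleQuot.quotQuotEquivQuotOfLE hcJ
            (Ideal.Quotient.mk ((I₁ ⊔ I₂).map (Ideal.Quotient.mk (I₁ ⊓ I₂)))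
              (Ideal.Quotient.mk (I₁ ⊓ I₂) x)) ∈
            (Groth.Agent.Lib.Helper22.Liaison.irr K n).map (Ideal.Quotient.mk (I₁ ⊔ I₂))
        rw [hε]
        exact (Ideal.mem_quotient_iff_mem hJirr).mpr h2
    rw [hcomap] at h1
    exact h1
  have hfin : ((Groth.Agent.Lib.Helper22.Liaison.irr K n).map
      (Ideal.Quotient.mk (I₁ ⊔ I₂))).height ≠ ⊤ := by
    refine ne_top_of_le_ne_top (ENat.coe_ne_top (n + 1)) ?_
    rw [← eJ]
    exact le_add_self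
  have hkey : (I₁ ⊔ I₂).height + ((Groth.Agent.Lib.Helper22.Liaison.irr K n).map
      (Ideal.Quotient.mk (I₁ ⊔ I₂))).height =
      ((c : ℕ∞) + 1) + ((Groth.Agent.Lib.Helper22.Liaison.irr K n).map
        (Ideal.Quotient.mk (I₁ ⊔ I₂))).height := by
    rw [eJ, ← e𝔠, ← hrel]
    ring
  have hfinal : (I₁ ⊔ I₂).height = (c : ℕ∞) + 1 :=
    (ENat.add_left_injective_of_ne_top hfin) hkey
  exact_mod_cast hfinal

end Groth.Agent.S18869
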