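import Groth.Statements.S18870
import Mathlib

set_option autoImplicit false
universe u
open Liaison

namespace Groth.Agent.S18870

/-- Let K be a field, R = K[x_0, …, x_n] graded by degree, and J ⊆ I ⊂ R homogeneous ideals with J ≠ 0,
height I = height J + 1 = h + 1 and R/J Cohen–Macaulay; let f ∈ R be homogeneous of degree d with J
: f = J, and put Ĩ = J + fI (the basic double link). Then Ĩ has the same height h + 1 as I. -/
theorem result (K : Type u) [Field K] (n h : ℕ)
    (J I : Ideal (MvPolynomial (Fin (n + 1)) K))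
    (hJ : J.IsHomogeneous (GrSyz.stdGr K (Fin (n + 1)))) (hI : I.IsHomogeneous (GrSyz.stdGr K (Fin (n + 1))))
    (hJ0 : J ≠ ⊥) (hJI : J ≤ I) (hJh : J.height = h) (hIh : I.height = h + 1)
    [LocCoh.IsCohenMacaulayRing (MvPolynomial (Fin (n + 1)) K ⧸ J)]
    (f : MvPolynomial (Fin (n + 1)) K) (d : ℕ) (hf : f ∈ GrSyz.stdGr K (Fin (n + 1)) (d : ℤ)) (hJf : J.colon {f} = J) :
    (J ⊔ Ideal.span {f} * I).height = h + 1 := by
  classical
  apply le_antisymm
  · rw [← hIh]
    apply Ideal.height_mono
    exact sup_le hJI Ideal.mul_le_right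
  · rw [Ideal.height_eq_inf_minimalPrimes]
    refine le_iInf₂ (fun P hP => ?_)
    have hPp : P.IsPrime := hP.isPrime
    have hle : J ⊔ Ideal.span {f} * I ≤ P := hP.1.2
    have hJP : J ≤ P := le_sup_left.trans hle
    have hfI : Ideal.span {f} * I ≤ P := le_sup_right.trans hle
    rcases (Ideal.IsPrime.mul_le hPp).mp hfI with hfP | hIP
    · have hfP' : f ∈ P := (Ideal.span_singleton_le_iff_mem _).mp hfP
      obtain ⟨Q, hQ, hQP⟩ := Ideal.exists_minimalPrimes_le hJP
      have hQp : Q.IsPrime := hQ.isPrime
      have hJQ : J ≤ Q := hQ.1.2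
      have hQh : (h : ℕ∞) ≤ Q.height := by
        rw [← hJh]
        exact Ideal.height_mono hJQ
      have hne : Q ≠ P := by
        rintro rfl
        have hass : Q ∈ associatedPrimes (MvPolynomial (Fin (n + 1)) K)
            (MvPolynomial (Fin (n + 1)) K ⧸ J) := by
          apply Module.associatedPrimes.minimalPrimes_annihilator_subset_associatedPrimes
          rw [Ideal.annihilator_quotient]
          exact hQ
        obtain ⟨_, x, hx⟩ := (isAssociatedPrime_iff).mp hass
        obtain ⟨x, rfl⟩ := Ideal.Quotient.mk_surjective x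
        have h1 : f ∈ Submodule.colon (⊥ : Submodule (MvPolynomial (Fin (n + 1)) K)
            (MvPolynomial (Fin (n + 1)) K ⧸ J)) {Ideal.Quotient.mk J x} := hx ▸ hfP'
        rw [Submodule.mem_colon_singleton, Submodule.mem_bot] at h1
        have h2 : f * x ∈ J := by
          rw [← Ideal.Quotient.eq_zero_iff_mem]
          have h6 : f • (Ideal.Quotient.mk J x) = Ideal.Quotient.mk J (f * x) := rfl
          rw [← h6]
          exact h1
        have h3 : x ∈ J.colon {f} := by
          rw [Submodule.mem_colon_singleton]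
          rw [smul_eq_mul, mul_comm]
          exact h2
        rw [hJf] at h3
        have h4 : Ideal.Quotient.mk J x = 0 := Ideal.Quotient.eq_zero_iff_mem.mpr h3
        have h5 : (1 : MvPolynomial (Fin (n + 1)) K) ∈ Q := by
          rw [hx, Submodule.mem_colon_singleton, h4, smul_zero]
          exact Submodule.zero_mem _
        exact hQp.ne_top ((Ideal.eq_top_iff_one _).mpr h5)
      have hlt : Q < P := lt_of_le_of_ne hQP hne
      calc (h : ℕ∞) + 1 ≤ Q.height + 1 := by gcongr
        _ ≤ P.height := Ideal.height_add_one_le_of_lt_of_isPrime hlt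
    · rw [← hIh]
      exact Ideal.height_mono hIP

end Groth.Agent.S18870
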