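import Groth.Statements.S18872
-- import your own Groth.Agent.* helpers here
import Mathlib
import Groth.Agent.Lib.Helper22.Liaison6

set_option autoImplicit false
universe u
open Liaison

namespace Groth.Agent.S18872

/-- Let K be a field, R = K[x_0, …, x_n] graded by degree, and J ⊆ I ⊂ R homogeneous ideals with J ≠ 0,
height I = height J + 1 = h + 1 and R/J Cohen–Macaulay; let f ∈ R be homogeneous of degree d with J
: f = J, and put Ĩ = J + fI (the basic double link). Then for every i < n − h = dim R/I the local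
cohomology modules of R/Ĩ and of R/I with support in the irrelevant ideal 𝔪 = (x_0, …, x_n) are
isomorphic in degree i. (The graded statement is H^i_𝔪(R/Ĩ) ≅ H^i_𝔪(R/I)(−d); here only the
existence of an R-linear isomorphism of the underlying modules is asserted, the grading and the
shift by d being dropped.) -/
theorem result (K : Type u) [Field K] (n h : ℕ)
    (J I : Ideal (MvPolynomial (Fin (n + 1)) K))
    (hJ : J.IsHomogeneous (GrSyz.stdGr K (Fin (n + 1)))) (hI : I.IsHomogeneous (GrSyz.stdGr K (Fin (n + 1))))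
    (hJ0 : J ≠ ⊥) (hJI : J ≤ I) (hJh : J.height = h) (hIh : I.height = h + 1)
    [LocCoh.IsCohenMacaulayRing (MvPolynomial (Fin (n + 1)) K ⧸ J)]
    (f : MvPolynomial (Fin (n + 1)) K) (d : ℕ) (hf : f ∈ GrSyz.stdGr K (Fin (n + 1)) (d : ℤ)) (hJf : J.colon {f} = J) (i : ℕ) (hi : i + h < n) :
    Nonempty (LocCoh.H (GrSyz.irrel (GrSyz.stdGr K (Fin (n + 1)))).toIdeal i (MvPolynomial (Fin (n + 1)) K ⧸ (J ⊔ Ideal.span {f} * I)) ≃ₗ[MvPolynomial (Fin (n + 1)) K]
      LocCoh.H (GrSyz.irrel (GrSyz.stdGr K (Fin (n + 1)))).toIdeal i (MvPolynomial (Fin (n + 1)) K ⧸ I)) := by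
  classical
  rw [Groth.Agent.Lib.Helper22.Liaison.irrel_eq_irr]
  have hinj := Groth.Agent.Lib.Helper22.Liaison.mulMap_injective J I f hJI hJf
  have hexact := Groth.Agent.Lib.Helper22.Liaison.exact_mulMap_projMap J I f
  have hsurj : Function.Surjective (Groth.Agent.Lib.Helper22.Liaison.projMap J I f) := by
    intro y
    obtain ⟨y, rfl⟩ := Ideal.Quotient.mk_surjective y
    exact ⟨Ideal.Quotient.mk _ y, rfl⟩
  have hS := Groth.Agent.Lib.Helper4.LC.sesOf_shortExact
    (Groth.Agent.Lib.Helper22.Liaison.mulMap J I f)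
    (Groth.Agent.Lib.Helper22.Liaison.projMap J I f) hexact hinj hsurj
  have hvan : ∀ j, j ≤ i → Subsingleton (Groth.Agent.Lib.Helper4.LC.HH
      (Groth.Agent.Lib.Helper22.Liaison.irr K n)
      (ModuleCat.of (MvPolynomial (Fin (n + 1)) K)
        (MvPolynomial (Fin (n + 1)) K ⧸ (J ⊔ Ideal.span {f}))) j) := fun j hj =>
    Groth.Agent.Lib.Helper22.Liaison.subsingleton_HH_sup_span J hJ h hJh f d hf hJf j (by omega)
  have hbij : Function.Bijective (Groth.Agent.Lib.Helper4.LC.HH.map
      (Groth.Agent.Lib.Helper22.Liaison.irr K n)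
      (Groth.Agent.Lib.Helper4.LC.sesOf (Groth.Agent.Lib.Helper22.Liaison.mulMap J I f)
        (Groth.Agent.Lib.Helper22.Liaison.projMap J I f) hexact).f i) := by
    constructor
    · cases i with
      | zero => exact Groth.Agent.Lib.Helper4.LC.HH.map_f_injective_zero _ hS
      | succ i' =>
        exact Groth.Agent.Lib.Helper4.LC.HH.map_f_injective_succ _ hS i' (hvan i' (by omega))
    · exact Groth.Agent.Lib.Helper4.LC.HH.map_f_surjective _ hS i (hvan i le_rfl)
  let e := LinearEquiv.ofBijective _ hbij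
  exact ⟨((Groth.Agent.Lib.Helper4.LC.lcEquiv _ _ i).trans e.symm).trans
    (Groth.Agent.Lib.Helper4.LC.lcEquiv _ _ i).symm⟩

end Groth.Agent.S18872
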