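import Groth.Statements.S18874
-- import your own Groth.Agent.* helpers here
import Mathlib
import Groth.Agent.S0086
import Groth.Agent.Lib.Helper12.StalkLim
import Groth.Agent.Lib.Helper12.ProperDesc

set_option autoImplicit false
universe u
open Lim

namespace Groth.Agent.S18874

open CategoryTheory AlgebraicGeometry Limits

set_option backward.isDefEq.respectTransparency false

/-- Given a pullback square with right vertical map `v''` and a pullback square whose base map
factors through the base map of another pullback square, we get a pullback square between them. -/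
lemma isPullback_of_factor {A B A' B' A'' B'' : Scheme.{u}} {a : A ⟶ A''} {b : B ⟶ B''}
    {v : A ⟶ B} {v'' : A'' ⟶ B''} {a' : A' ⟶ A''} {b' : B' ⟶ B''} {v' : A' ⟶ B'}
    (outer : IsPullback a v v'' b) (t : IsPullback a' v' v'' b') (l : B ⟶ B') (hl : l ≫ b' = b) :
    ∃ k : A ⟶ A', IsPullback k v v' l := by
  have hw : a ≫ v'' = (v ≫ l) ≫ b' := by rw [Category.assoc, hl]; exact outer.w
  refine ⟨t.lift a (v ≫ l) hw, IsPullback.of_right ?_ (t.lift_snd _ _ _) t⟩
  rw [t.lift_fst, hl]
  exact outer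

lemma isProper_of_factor {A B A' B' A'' B'' : Scheme.{u}} {a : A ⟶ A''} {b : B ⟶ B''}
    {v : A ⟶ B} {v'' : A'' ⟶ B''} {a' : A' ⟶ A''} {b' : B' ⟶ B''} {v' : A' ⟶ B'}
    (outer : IsPullback a v v'' b) (t : IsPullback a' v' v'' b') (l : B ⟶ B') (hl : l ≫ b' = b)
    [IsProper v'] : IsProper v := by
  obtain ⟨k, hk⟩ := isPullback_of_factor outer t l hl
  exact MorphismProperty.of_isPullback (P := @IsProper) hk inferInstance

/-- restriction squares paste -/
lemma isPullback_restrict_le {X Y : Scheme.{u}} (f : X ⟶ Y) {U V : Y.Opens} (h : U ≤ V) :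
    IsPullback (X.homOfLE (show f ⁻¹ᵁ U ≤ f ⁻¹ᵁ V from fun _ hx => h hx)) (f ∣_ U) (f ∣_ V)
      (Y.homOfLE h) := by
  refine IsPullback.of_right ?_ ?_ (isPullback_morphismRestrict f V).flip
  · rw [Scheme.homOfLE_ι, Scheme.homOfLE_ι]
    exact (isPullback_morphismRestrict f U).flip
  · rw [← cancel_mono V.ι, Category.assoc, Category.assoc, morphismRestrict_ι,
      Scheme.homOfLE_ι_assoc, Scheme.homOfLE_ι, morphismRestrict_ι]


open CategoryTheory AlgebraicGeometry in
/-- Let S be a quasi-compact scheme whose affine opens have excellent coordinate rings, let X → S and Y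
→ S be quasi-compact, quasi-separated and locally of finite presentation, let f : X → Y be a
morphism over S, let s be a closed point of S and R the completion of the local ring of S at s. If
the base change X ×_S Spec R → Y ×_S Spec R of f is proper, then s has an open neighbourhood W in S
such that X ×_S W → Y ×_S W is proper. (The published statement assumes X and Y only locally of
finite presentation over S; for S the affine line over a field, s the origin, Y = S and X the
disjoint union of S with one reduced point over each closed point other than s, the base change to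
Spec R is an isomorphism while X ×_S W → W is not quasi-compact for any open W ∋ s, so X and Y are
taken of finite presentation over S here, which is what the limit argument of the published proof
uses.) -/
theorem result
    (S : Scheme.{u}) [CompactSpace S] (hS : ∀ U : S.affineOpens, EGA4.IsExcellent Γ(S, U.1))
    {X Y : Scheme.{u}} (f : X ⟶ Y) (g : Y ⟶ S)
    [QuasiCompact g] [QuasiSeparated g] [LocallyOfFinitePresentation g]
    [QuasiCompact (f ≫ g)] [QuasiSeparated (f ≫ g)] [LocallyOfFinitePresentation (f ≫ g)]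
    (s : S) (hs : IsClosed ({s} : Set S))
    (hR : IsProper (Limits.pullback.snd f (Limits.pullback.fst g
      (Spec.map (CommRingCat.ofHom (algebraMap (S.presheaf.stalk s) (EGA4.Cpl (S.presheaf.stalk s)))) ≫
        S.fromSpecStalk s)))) :
    ∃ W : S.Opens, s ∈ W ∧ IsProper (f ∣_ (g ⁻¹ᵁ W)) := by
  classical
  haveI : IsLocallyNoetherian S := ⟨fun U => (hS U).1⟩
  let O := S.presheaf.stalk s
  let φ : O ⟶ CommRingCat.of (EGA4.Cpl O) :=
    CommRingCat.ofHom (algebraMap (S.presheaf.stalk s) (EGA4.Cpl (S.presheaf.stalk s)))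
  let σ : Spec O ⟶ S := S.fromSpecStalk s
  let ρ : Spec (CommRingCat.of (EGA4.Cpl O)) ⟶ Spec O := Spec.map φ
  change IsProper (Limits.pullback.snd f (Limits.pullback.fst g (ρ ≫ σ))) at hR
  haveI := Groth.Agent.S0086.result.{u}
  -- Step 1: descend to the local ring
  have hO : IsProper (Limits.pullback.snd f (Limits.pullback.fst g σ)) := by
    haveI : IsNoetherianRing O := inferInstance
    haveI hff : Module.FaithfullyFlat O (EGA4.Cpl O) := Module.FaithfullyFlat.of_flat_of_isLocalHom
    have hρ : (@Surjective ⊓ @Flat ⊓ @QuasiCompact : MorphismProperty Scheme) ρ := by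
      refine ⟨⟨⟨?_⟩, ?_⟩, inferInstance⟩
      · exact PrimeSpectrum.comap_surjective_of_faithfullyFlat (A := O) (B := EGA4.Cpl O)
      · rw [Flat.SpecMap_iff]
        exact (RingHom.flat_algebraMap_iff (R := O) (S := EGA4.Cpl O)).mpr inferInstance
    let q : Limits.pullback g (ρ ≫ σ) ⟶ Limits.pullback g σ :=
      Limits.pullback.lift (Limits.pullback.fst _ _) (Limits.pullback.snd _ _ ≫ ρ)
        (by rw [Limits.pullback.condition, Category.assoc])
    have hq : IsPullback q (Limits.pullback.snd g (ρ ≫ σ)) (Limits.pullback.snd g σ) ρ := by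
      refine IsPullback.of_right ?_ (Limits.pullback.lift_snd _ _ _) (IsPullback.of_hasPullback g σ)
      rw [Limits.pullback.lift_fst]
      exact IsPullback.of_hasPullback g (ρ ≫ σ)
    have hqQ : (@Surjective ⊓ @Flat ⊓ @QuasiCompact : MorphismProperty Scheme) q :=
      MorphismProperty.of_isPullback hq.flip hρ
    obtain ⟨k, hk⟩ := isPullback_of_factor
      (IsPullback.of_hasPullback f (Limits.pullback.fst g (ρ ≫ σ)))
      (IsPullback.of_hasPullback f (Limits.pullback.fst g σ)) q (Limits.pullback.lift_fst _ _ _)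
    exact MorphismProperty.of_isPullback_of_descendsAlong (P := @IsProper) hk.flip hqQ hR
  -- Step 2: spread out
  let W₀ : Groth.Agent.Lib.Helper12.StalkLim.AffNhd S s := Classical.arbitrary _
  let D := Groth.Agent.Lib.Helper12.StalkLim.diag S s
  let c := Groth.Agent.Lib.Helper12.StalkLim.cone S s
  let hc := Groth.Agent.Lib.Helper12.StalkLim.isLimitCone S s
  let g₀ : (g ⁻¹ᵁ W₀.U : Scheme.{u}) ⟶ D.obj W₀ := g ∣_ W₀.U
  let f₀ : (f ⁻¹ᵁ (g ⁻¹ᵁ W₀.U) : Scheme.{u}) ⟶ (g ⁻¹ᵁ W₀.U : Scheme.{u}) := f ∣_ (g ⁻¹ᵁ W₀.U)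
  haveI : IsAffine (D.obj W₀) := W₀.isAffineOpen
  haveI : QuasiCompact g₀ := MorphismProperty.of_isPullback (P := @QuasiCompact)
    (isPullback_morphismRestrict g W₀.U).flip inferInstance
  haveI : QuasiSeparated g₀ := MorphismProperty.of_isPullback (P := @QuasiSeparated)
    (isPullback_morphismRestrict g W₀.U).flip inferInstance
  haveI : CompactSpace (g ⁻¹ᵁ W₀.U : Scheme.{u}) := QuasiCompact.compactSpace_of_compactSpace g₀
  haveI : QuasiSeparatedSpace (g ⁻¹ᵁ W₀.U : Scheme.{u}) := quasiSeparatedSpace_of_quasiSeparated g₀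
  let h₀ : (f ⁻¹ᵁ (g ⁻¹ᵁ W₀.U) : Scheme.{u}) ⟶ D.obj W₀ := (f ≫ g) ∣_ W₀.U
  haveI : QuasiCompact h₀ := MorphismProperty.of_isPullback (P := @QuasiCompact)
    (isPullback_morphismRestrict (f ≫ g) W₀.U).flip inferInstance
  haveI : QuasiSeparated h₀ := MorphismProperty.of_isPullback (P := @QuasiSeparated)
    (isPullback_morphismRestrict (f ≫ g) W₀.U).flip inferInstance
  haveI : CompactSpace (f ⁻¹ᵁ (g ⁻¹ᵁ W₀.U) : Scheme.{u}) :=
    QuasiCompact.compactSpace_of_compactSpace h₀
  haveI : QuasiSeparatedSpace (f ⁻¹ᵁ (g ⁻¹ᵁ W₀.U) : Scheme.{u}) :=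
    quasiSeparatedSpace_of_quasiSeparated h₀
  haveI : LocallyOfFiniteType f := locallyOfFiniteType_of_comp f g
  haveI : LocallyOfFiniteType f₀ := MorphismProperty.of_isPullback (P := @LocallyOfFiniteType)
    (isPullback_morphismRestrict f (g ⁻¹ᵁ W₀.U)).flip inferInstance
  let qY := Limits.pullback.fst g₀ (c.π.app W₀)
  let gT := Limits.pullback.snd g₀ (c.π.app W₀)
  have hY : IsPullback qY gT g₀ (c.π.app W₀) := IsPullback.of_hasPullback _ _
  let qX := Limits.pullback.fst f₀ qY
  let fX := Limits.pullback.snd f₀ qY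
  have hX : IsPullback qX fX f₀ qY := IsPullback.of_hasPullback _ _
  haveI : IsProper fX := by
    have houter : IsPullback (qX ≫ (f ⁻¹ᵁ (g ⁻¹ᵁ W₀.U)).ι) fX f (qY ≫ (g ⁻¹ᵁ W₀.U).ι) :=
      hX.paste_horiz (isPullback_morphismRestrict f (g ⁻¹ᵁ W₀.U)).flip
    have hw : (qY ≫ (g ⁻¹ᵁ W₀.U).ι) ≫ g = gT ≫ σ := by
      have h1 : c.π.app W₀ ≫ W₀.U.ι = σ := Scheme.Opens.fromSpecStalkOfMem_ι _ _ _
      rw [Category.assoc, ← morphismRestrict_ι, ← Category.assoc, hY.w, Category.assoc, h1]
    exact isProper_of_factor houter (IsPullback.of_hasPullback f (Limits.pullback.fst g σ))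
      (Limits.pullback.lift _ _ hw) (Limits.pullback.lift_fst _ _ _)
  obtain ⟨W, φW, Xi, Yi, fi, gi, pY, pX, hYi, hXi, hfi⟩ :=
    Groth.Agent.Lib.Helper12.ProperDesc.descend_isProper D c hc W₀ f₀ g₀ fX gT qY qX hY hX
  refine ⟨W.U, W.mem, ?_⟩
  have hle : W.U ≤ W₀.U := Groth.Agent.Lib.Helper12.StalkLim.AffNhd.le_iff.mp φW.le
  have hle' : g ⁻¹ᵁ W.U ≤ g ⁻¹ᵁ W₀.U := fun _ hx => hle hx
  have hw : Y.homOfLE hle' ≫ g₀ = (g ∣_ W.U) ≫ D.map φW := (isPullback_restrict_le g hle).w
  haveI := hfi
  exact isProper_of_factor (isPullback_restrict_le f hle') hXi (hYi.lift _ _ hw) (hYi.lift_fst _ _ _)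

end Groth.Agent.S18874
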