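import Groth.Statements.S18879
-- import your own Groth.Agent.* helpers here
import Mathlib
import Groth.Agent.Lib.Helper12.SchemeDimIneq3

set_option autoImplicit false
universe u
open CategoryTheory AlgebraicGeometry
open Resolve

namespace Groth.Agent.S18879

/-- Let f : Y ⟶ X be a morphism locally of finite type between Noetherian separated schemes which is
birational: it maps the maximal points of Y bijectively onto the maximal points of X, and over every
maximal point of X its fibre is one point with the same residue field. Then for every point y of Y,
the Krull dimension of the local ring of Y at y is at most the Krull dimension of the local ring of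
X at f y (the codimension of a point does not increase along f). -/
theorem result {X Y : Scheme.{u}} (f : Y ⟶ X)
    [IsNoetherian X] [X.IsSeparated] [IsNoetherian Y] [Y.IsSeparated] [LocallyOfFiniteType f]
    (hf : RadPt.IsBirational f) (y : Y) :
    ringKrullDim (Y.presheaf.stalk y) ≤ ringKrullDim (X.presheaf.stalk (f.base y)) := by
  open Groth.Agent.Lib.Helper12.SchemeDimIneq Groth.Agent.Lib.Helper12.OrdTools in
  have key := dim_stalk_add_trn_le_of_forall f y (ringKrullDim (X.presheaf.stalk (f.base y))) (by
    intro ξ hξ hξy
    have hfξ : f.base ξ ∈ genericPoints X := hf.1.mapsTo hξ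
    have hbij := (hf.2 (f.base ξ) hfξ).2 ξ rfl
    have h0 : trn f ξ = 0 := by
      unfold trn
      letI := (f.residueFieldMap ξ).hom.toAlgebra
      haveI : Algebra.IsAlgebraic (X.residueField (f.base ξ)) (Y.residueField ξ) :=
        ⟨fun x => by
          obtain ⟨a, rfl⟩ := hbij.2 x
          exact isAlgebraic_algebraMap a⟩
      rw [trdeg_eq_zero]
      simp
    rw [h0]
    simp only [ENat.coe_zero, WithBot.coe_zero, add_zero]
    rw [ringKrullDim_stalk_eq_coheight]
    exact krullDim_Icc_le_coheight _ _)
  refine le_trans (le_add_of_nonneg_right ?_) key
  exact WithBot.coe_nonneg.mpr (zero_le (a := Groth.Agent.Lib.Helper12.SchemeDimIneq.trn f y))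

end Groth.Agent.S18879
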