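import Groth.Statements.S1888
import Mathlib
import Groth.Agent.Lib.Helper17.GrpdSchTransl

set_option autoImplicit false
universe u
open CategoryTheory CategoryTheory.Limits AlgebraicGeometry
open Grpd

namespace Groth.Agent.S1888

theorem bijective_algebraMap_residueField_of_field (k : Type u) [Field k] (I : Ideal k) [I.IsPrime] :
    Function.Bijective (algebraMap k I.ResidueField) := by
  constructor
  · exact (algebraMap k I.ResidueField).injective
  · have h1 : Function.Surjective (algebraMap k (Localization.AtPrime I)) :=
      (Field.localization_map_bijective (M := I.primeCompl) (fun h => h I.zero_mem)).2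
    have h2 : Function.Surjective (algebraMap (Localization.AtPrime I) I.ResidueField) :=
      IsLocalRing.residue_surjective
    rw [IsScalarTower.algebraMap_eq k (Localization.AtPrime I) I.ResidueField]
    exact h2.comp h1

theorem isIso_fromSpecResidueField_spec_field (k : Type u) [Field k] (x : Spec (CommRingCat.of k)) :
    IsIso ((Spec (CommRingCat.of k)).fromSpecResidueField x) := by
  rw [← Scheme.Spec.map_residueFieldIso_inv_eq_fromSpecResidueField]
  have hb : Function.Bijective (algebraMap k x.asIdeal.ResidueField) :=
    bijective_algebraMap_residueField_of_field k x.asIdeal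
  have : IsIso (CommRingCat.ofHom (algebraMap k x.asIdeal.ResidueField)) :=
    (ConcreteCategory.isIso_iff_bijective _).2 hb
  infer_instance

theorem isIso_fromSpecResidueField_of_iso_spec_field {U : Scheme.{u}} (k : Type u) [Field k]
    (eU : U ≅ Spec (CommRingCat.of k)) (x : U) : IsIso (U.fromSpecResidueField x) := by
  have h := Scheme.Hom.SpecMap_residueFieldMap_fromSpecResidueField eU.hom x
  have : IsIso ((Spec (CommRingCat.of k)).fromSpecResidueField (eU.hom x)) :=
    isIso_fromSpecResidueField_spec_field k _
  have h2 : IsIso (U.fromSpecResidueField x ≫ eU.hom) := by rw [← h]; infer_instance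
  exact IsIso.of_isIso_comp_right (U.fromSpecResidueField x) eU.hom

/-- Let (U, R, s, t, c) be a groupoid scheme over S with U the spectrum of a field k, and r a point of R
such that both s and t induce isomorphisms from k to κ(r). Then there is an automorphism of the
scheme R carrying the identity point e to r. (The source's automorphism is x ↦ c(r, x); only the
existence of an automorphism moving e to r is stated here.) (A groupoid scheme carries U, R, s, t,
c, e, i over S with the groupoid axioms on T-points; 'finite locally free' is finite, flat and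
locally of finite presentation; C ⊂ Γ(U) is the ring of functions a with s♯(a) = t♯(a) and M = Spec
C.) -/
theorem result (S : Scheme.{u}) (G : Grpd.GroupoidScheme S) (k : Type u) [Field k] (eU : G.U ≅ Spec (CommRingCat.of k)) (r : G.R) (hs : IsIso (G.s.residueFieldMap r)) (ht : IsIso (G.t.residueFieldMap r)) : ∃ φ : G.R ≅ G.R, φ.hom (G.e (eU.inv (IsLocalRing.closedPoint k))) = r := by
  have hσs : IsIso (G.R.fromSpecResidueField r ≫ G.s) := by
    rw [← Scheme.Hom.SpecMap_residueFieldMap_fromSpecResidueField G.s r]
    have := isIso_fromSpecResidueField_of_iso_spec_field k eU (G.s r)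
    infer_instance
  have hσt : IsIso (G.R.fromSpecResidueField r ≫ G.t) := by
    rw [← Scheme.Hom.SpecMap_residueFieldMap_fromSpecResidueField G.t r]
    have := isIso_fromSpecResidueField_of_iso_spec_field k eU (G.t r)
    infer_instance
  obtain ⟨a, ha⟩ : ∃ a : G.U ⟶ G.R, a = inv (G.R.fromSpecResidueField r ≫ G.s) ≫ G.R.fromSpecResidueField r :=
    ⟨_, rfl⟩
  have has : a ≫ G.s = 𝟙 G.U := by
    rw [ha, Category.assoc, IsIso.inv_hom_id]
  have hat : IsIso (a ≫ G.t) := by
    have : a ≫ G.t = inv (G.R.fromSpecResidueField r ≫ G.s) ≫ (G.R.fromSpecResidueField r ≫ G.t) := by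
      rw [ha, Category.assoc]
    rw [this]; infer_instance
  have h : (G.t ≫ a) ≫ G.s = 𝟙 G.R ≫ G.t := by
    rw [Category.assoc, has, Category.comp_id, Category.id_comp]
  obtain ⟨hΦ, hΦe⟩ := Groth.Agent.Lib.Helper17.GrpdSch.isIso_left_translation G a has h
  refine ⟨asIso (Groth.Agent.Lib.Helper17.GrpdSch.cmp G (G.t ≫ a) (𝟙 G.R) h), ?_⟩
  change (Groth.Agent.Lib.Helper17.GrpdSch.cmp G (G.t ≫ a) (𝟙 G.R) h)
    (G.e (eU.inv (IsLocalRing.closedPoint k))) = r
  rw [← Scheme.Hom.comp_apply, hΦe, ha, Scheme.Hom.comp_apply, Scheme.fromSpecResidueField_apply]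

end Groth.Agent.S1888
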