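import Groth.Statements.S18887
import Mathlib

set_option autoImplicit false
universe u v
open DblCov

namespace Groth.Agent.S18887

/-- Let A be a commutative ring in which 2 is invertible and B a commutative A-algebra which is free of
rank 2 as an A-module and whose trace form tr : B → A has kernel free of rank 1 over A. Then σ(b) =
tr(b) − b defines an A-algebra endomorphism σ of B with σ ≠ id and σ ∘ σ = id, and the elements
fixed by σ are exactly the image of A in B. -/
theorem result {A : Type u} {B : Type v} [CommRing A] [CommRing B]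
    [Algebra A B] (h2 : IsUnit (2 : A)) [Module.Free A B] [Module.Finite A B]
    (hrk : Module.finrank A B = 2)
    [Module.Free A (LinearMap.ker (Algebra.trace A B))]
    (hker : Module.finrank A (LinearMap.ker (Algebra.trace A B)) = 1) :
    ∃ σ : B →ₐ[A] B, (∀ b : B, σ b = algebraMap A B (Algebra.trace A B b) - b) ∧
      σ ≠ AlgHom.id A B ∧ σ.comp σ = AlgHom.id A B ∧
      ∀ b : B, σ b = b ↔ b ∈ Set.range (algebraMap A B) := by
  classical
  obtain ⟨u, hu⟩ := h2.exists_left_inv
  haveI : Nontrivial A := by
    by_contra hA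
    rw [not_nontrivial_iff_subsingleton] at hA
    have h1 : Module.rank A B = 1 := rank_subsingleton A B
    have h3 : Module.finrank A B = 1 := by
      rw [Module.finrank, h1]
      simp
    omega
  have htr_alg : ∀ a : A, Algebra.trace A B (algebraMap A B a) = 2 * a := by
    intro a
    rw [Algebra.trace_algebraMap, hrk]
    simp [two_mul]
  haveI : Module.Finite A (LinearMap.ker (Algebra.trace A B)) :=
    Module.finite_of_finrank_pos (by omega)
  let bk := Module.finBasisOfFinrankEq A (LinearMap.ker (Algebra.trace A B)) hker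
  obtain ⟨y, hydef⟩ : ∃ y : B, y = (bk 0 : B) := ⟨_, rfl⟩
  have hy0 : Algebra.trace A B y = 0 := by
    rw [hydef]
    exact LinearMap.mem_ker.mp (bk 0).2
  have hker_y : ∀ z : B, Algebra.trace A B z = 0 → ∃ c : A, z = c • y := by
    intro z hz
    have h1 := bk.sum_repr ⟨z, hz⟩
    refine ⟨bk.repr ⟨z, hz⟩ 0, ?_⟩
    rw [Fin.sum_univ_one] at h1
    have h3 := congrArg Subtype.val h1
    rw [hydef]
    simpa using h3.symm
  have hy_smul : ∀ c : A, c • y = 0 → c = 0 := by
    intro c hc
    have h1 : c • bk 0 = 0 := by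
      apply Subtype.ext
      rw [hydef] at hc
      simpa using hc
    have h3 := congrArg (fun z => bk.repr z 0) h1
    simpa using h3
  have hdecomp : ∀ b : B, ∃ β₀ β₁ : A, b = algebraMap A B β₀ + β₁ • y := by
    intro b
    have h1 : Algebra.trace A B (b - algebraMap A B (u * Algebra.trace A B b)) = 0 := by
      rw [map_sub, htr_alg]
      linear_combination (-(Algebra.trace A B b)) * hu
    obtain ⟨c, hc⟩ := hker_y _ h1
    exact ⟨u * Algebra.trace A B b, c, by rw [← hc]; ring⟩
  have hli : LinearIndependent A ![(1 : B), y] := by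
    rw [LinearIndependent.pair_iff]
    intro s t hst
    rw [← Algebra.algebraMap_eq_smul_one] at hst
    have h1 := congrArg (Algebra.trace A B) hst
    rw [map_add, map_smul, hy0, smul_zero, add_zero, map_zero, htr_alg] at h1
    have hs : s = 0 := by linear_combination u * h1 - s * hu
    rw [hs, map_zero, zero_add] at hst
    exact ⟨hs, hy_smul t hst⟩
  have hsp : ⊤ ≤ Submodule.span A (Set.range ![(1 : B), y]) := by
    intro b _
    obtain ⟨β₀, β₁, rfl⟩ := hdecomp b
    apply Submodule.add_mem
    · rw [Algebra.algebraMap_eq_smul_one]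
      exact Submodule.smul_mem _ _ (Submodule.subset_span ⟨0, rfl⟩)
    · exact Submodule.smul_mem _ _ (Submodule.subset_span ⟨1, rfl⟩)
  let bs : Module.Basis (Fin 2) A B := Module.Basis.mk hli hsp
  have hbs0 : bs 0 = 1 := by simp [bs]
  have hbs1 : bs 1 = y := by simp [bs]
  obtain ⟨α, c, hyy⟩ := hdecomp (y * y)
  have hc : c = 0 := by
    have h1 : Algebra.trace A B y = Matrix.trace (Algebra.leftMulMatrix bs y) :=
      Algebra.trace_eq_matrix_trace bs y
    rw [hy0, Matrix.trace_fin_two, Algebra.leftMulMatrix_eq_repr_mul,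
      Algebra.leftMulMatrix_eq_repr_mul, hbs0, hbs1, mul_one, hyy] at h1
    have h4 : bs.repr y 0 = 0 := by
      rw [← hbs1, Module.Basis.repr_self]
      simp
    have h3 : bs.repr (algebraMap A B α + c • y) 1 = c := by
      rw [Algebra.algebraMap_eq_smul_one, ← hbs0, ← hbs1, map_add, map_smul, map_smul,
        Module.Basis.repr_self, Module.Basis.repr_self]
      simp
    rw [h4, h3, zero_add] at h1
    exact h1.symm
  rw [hc, zero_smul, add_zero] at hyy
  let φ : B →ₗ[A] B := (Algebra.linearMap A B) ∘ₗ (Algebra.trace A B) - LinearMap.id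
  have hφ : ∀ b, φ b = algebraMap A B (Algebra.trace A B b) - b := fun b => rfl
  have hφd : ∀ β₀ β₁ : A, φ (algebraMap A B β₀ + β₁ • y) = algebraMap A B β₀ - β₁ • y := by
    intro β₀ β₁
    rw [hφ, map_add, map_smul, hy0, smul_zero, add_zero, htr_alg, two_mul, map_add]
    abel
  have hφ1 : φ 1 = 1 := by
    have h1 := hφd 1 0
    simpa using h1
  have hφmul : ∀ b c, φ (b * c) = φ b * φ c := by
    intro b c
    obtain ⟨β₀, β₁, rfl⟩ := hdecomp b
    obtain ⟨γ₀, γ₁, rfl⟩ := hdecomp c
    have h1 : (algebraMap A B β₀ + β₁ • y) * (algebraMap A B γ₀ + γ₁ • y) =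
        algebraMap A B (β₀ * γ₀ + β₁ * γ₁ * α) + (β₀ * γ₁ + β₁ * γ₀) • y := by
      simp only [Algebra.smul_def, map_add, map_mul]
      linear_combination (algebraMap A B β₁ * algebraMap A B γ₁) * hyy
    rw [h1, hφd, hφd, hφd]
    simp only [Algebra.smul_def, map_add, map_mul]
    linear_combination (-(algebraMap A B β₁ * algebraMap A B γ₁)) * hyy
  refine ⟨AlgHom.ofLinearMap φ hφ1 hφmul, fun b => rfl, ?_, ?_, ?_⟩
  · intro h
    have h1 : φ y = y := congrArg (fun s : B →ₐ[A] B => s y) h
    rw [hφ, hy0, map_zero, zero_sub] at h1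
    have h3 : (2 : A) • y = 0 := by
      rw [two_smul]
      nth_rewrite 1 [← h1]
      exact neg_add_cancel y
    have h4 := hy_smul 2 h3
    rw [h4, mul_zero] at hu
    exact zero_ne_one hu
  · ext b
    change φ (φ b) = b
    rw [hφ, hφ, map_sub, htr_alg]
    have h9 : 2 * Algebra.trace A B b - Algebra.trace A B b = Algebra.trace A B b := by ring
    rw [h9]
    abel
  · intro b
    change φ b = b ↔ _
    rw [hφ]
    constructor
    · intro h
      refine ⟨u * Algebra.trace A B b, ?_⟩
      have h1 : algebraMap A B (Algebra.trace A B b) = 2 * b := by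
        rw [two_mul]
        exact sub_eq_iff_eq_add.mp h
      rw [map_mul, h1, ← mul_assoc]
      have h3 : algebraMap A B u * 2 = 1 := by
        rw [← map_ofNat (algebraMap A B) 2, ← map_mul, hu, map_one]
      rw [h3, one_mul]
    · rintro ⟨a, rfl⟩
      rw [htr_alg, two_mul, map_add]
      abel

end Groth.Agent.S18887
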