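import Groth.Statements.S18888
import Mathlib

set_option autoImplicit false
universe u v w
open CAlg

namespace Groth.Agent.S18888

/-- Let A be a unique factorisation domain in which 2 is invertible, with fraction field K, and let L ⊇
K be a quadratic extension field (of degree 2 over K) containing an element y ∉ K whose square is a
squarefree element d of A. Then the integral closure of A in L equals the A-subalgebra A[y]
generated by y. -/
theorem result {A : Type u} {K : Type v} {L : Type w}
    [CommRing A] [IsDomain A] [UniqueFactorizationMonoid A] [Field K] [Algebra A K] [IsFractionRing A K]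
    [Field L] [Algebra K L] [Algebra A L] [IsScalarTower A K L]
    (h2 : IsUnit (2 : A)) (hL : Module.finrank K L = 2)
    (d : A) (hd : Squarefree d) (y : L) (hy : y * y = algebraMap A L d)
    (hyK : y ∉ Set.range (algebraMap K L)) :
    integralClosure A L = Algebra.adjoin A {y} := by
  classical
  have hinjKL : Function.Injective (algebraMap K L) := (algebraMap K L).injective
  haveI : Module.Finite K L := Module.finite_of_finrank_pos (by rw [hL]; norm_num)
  have hli : LinearIndependent K ![(1 : L), y] := by
    rw [LinearIndependent.pair_iff' one_ne_zero]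
    intro a ha
    exact hyK ⟨a, by rw [Algebra.algebraMap_eq_smul_one]; exact ha⟩
  have hspan : Submodule.span K (Set.range ![(1 : L), y]) = ⊤ :=
    hli.span_eq_top_of_card_eq_finrank' (by rw [hL, Fintype.card_fin])
  have hdecomp : ∀ z : L, ∃ u v : K, z = algebraMap K L u + algebraMap K L v * y := by
    intro z
    have hz : z ∈ Submodule.span K (Set.range ![(1 : L), y]) := by rw [hspan]; trivial
    rw [Matrix.range_cons_cons_empty, Submodule.mem_span_pair] at hz
    obtain ⟨u, v, huv⟩ := hz
    refine ⟨u, v, ?_⟩
    rw [← huv, Algebra.smul_def, Algebra.smul_def, mul_one]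
  have hd' : algebraMap K L (algebraMap A K d) = y * y := by
    rw [← IsScalarTower.algebraMap_apply, hy]
  apply le_antisymm
  · intro z hz
    have hzint : IsIntegral A z := hz
    obtain ⟨u, v, hzuv⟩ := hdecomp z
    suffices h : (∃ ua : A, algebraMap A K ua = u) ∧ (∃ va : A, algebraMap A K va = v) by
      obtain ⟨⟨ua, rfl⟩, ⟨va, rfl⟩⟩ := h
      rw [hzuv, ← IsScalarTower.algebraMap_apply, ← IsScalarTower.algebraMap_apply]
      exact Subalgebra.add_mem _ (Subalgebra.algebraMap_mem _ ua)
        (Subalgebra.mul_mem _ (Subalgebra.algebraMap_mem _ va) (Algebra.subset_adjoin rfl))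
    by_cases hv : v = 0
    · rw [hv, map_zero, zero_mul, add_zero] at hzuv
      rw [hzuv] at hzint
      have hu : IsIntegral A u := (isIntegral_algebraMap_iff hinjKL).mp hzint
      exact ⟨IsIntegrallyClosed.isIntegral_iff.mp hu, ⟨0, by rw [map_zero, hv]⟩⟩
    · obtain ⟨n, hn⟩ : ∃ n : K, n = u ^ 2 - algebraMap A K d * v ^ 2 := ⟨_, rfl⟩
      obtain ⟨q, hq⟩ : ∃ q : Polynomial K, q = Polynomial.X ^ 2 -
          Polynomial.C (2 * u) * Polynomial.X + Polynomial.C n := ⟨_, rfl⟩
      have hqm : q.Monic := by rw [hq]; monicity!
      have hqd : q.natDegree = 2 := by rw [hq]; compute_degree!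
      have hq1 : q.coeff 1 = -(2 * u) := by
        rw [hq]; simp [Polynomial.coeff_X, Polynomial.coeff_C, Polynomial.coeff_X_pow]
      have hq0 : q.coeff 0 = n := by
        rw [hq]; simp [Polynomial.coeff_X, Polynomial.coeff_C, Polynomial.coeff_X_pow]
      have haeval : Polynomial.aeval z q = 0 := by
        rw [hq, hn, hzuv]
        simp only [map_add, map_sub, map_mul, map_pow, Polynomial.aeval_X, Polynomial.aeval_C,
          map_ofNat]
        rw [hd']
        ring
      have hzK : IsIntegral K z := hzint.tower_top
      have hdvd : minpoly K z ∣ q := minpoly.dvd K z haeval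
      have hdeg : 2 ≤ (minpoly K z).natDegree := by
        have h0 : 0 < (minpoly K z).natDegree := minpoly.natDegree_pos hzK
        have h1 : (minpoly K z).natDegree ≠ 1 := by
          intro h1
          obtain ⟨w, hw⟩ := minpoly.natDegree_eq_one_iff.mp h1
          apply hyK
          refine ⟨(w - u) / v, ?_⟩
          have hVne : algebraMap K L v ≠ 0 := fun h => hv (hinjKL (by rw [h, map_zero]))
          rw [map_div₀, map_sub, hw, hzuv, add_sub_cancel_left, mul_div_cancel_left₀ _ hVne]
        omega
      have hqeq : q = minpoly K z :=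
        Polynomial.eq_of_monic_of_dvd_of_natDegree_le (minpoly.monic hzK) hqm hdvd
          (by rw [hqd]; exact hdeg)
      have hmp : minpoly K z = (minpoly A z).map (algebraMap A K) :=
        minpoly.isIntegrallyClosed_eq_field_fractions' K hzint
      have hc1 : algebraMap A K ((minpoly A z).coeff 1) = -(2 * u) := by
        rw [← hq1, hqeq, hmp, Polynomial.coeff_map]
      have hc0 : algebraMap A K ((minpoly A z).coeff 0) = n := by
        rw [← hq0, hqeq, hmp, Polynomial.coeff_map]
      obtain ⟨c, hc⟩ := h2.exists_left_inv
      have hcK : algebraMap A K c * 2 = 1 := by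
        have := congrArg (algebraMap A K) hc
        rwa [map_mul, map_ofNat, map_one] at this
      have hu : algebraMap A K (-(c * (minpoly A z).coeff 1)) = u := by
        rw [map_neg, map_mul, hc1]
        have : -(algebraMap A K c * -(2 * u)) = (algebraMap A K c * 2) * u := by ring
        rw [this, hcK, one_mul]
      obtain ⟨wa, hwa⟩ : ∃ wa : A, algebraMap A K wa = algebraMap A K d * v ^ 2 := by
        refine ⟨(-(c * (minpoly A z).coeff 1)) ^ 2 - (minpoly A z).coeff 0, ?_⟩
        rw [map_sub, map_pow, hu, hc0, hn]; ring
      obtain ⟨a, b, hab, hvab⟩ := IsFractionRing.exists_reduced_fraction A v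
      have hvb : v * algebraMap A K b = algebraMap A K a := by
        rw [← hvab]; exact IsLocalization.mk'_spec K a b
      have heqA : wa * ((b : A) * b) = d * (a * a) := by
        apply IsFractionRing.injective A K
        rw [map_mul, map_mul, map_mul, map_mul, hwa, ← hvb]; ring
      have hdvd2 : (b : A) * b ∣ d * (a * a) := ⟨wa, by rw [← heqA]; ring⟩
      have hrel : IsRelPrime ((b : A) * b) (a * a) := by
        have h' : IsRelPrime (b : A) a := hab.symm
        have h'' : IsRelPrime ((b : A) * b) a := h'.mul_left h'
        exact h''.mul_right h''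
      have hbb : (b : A) * b ∣ d := hrel.dvd_of_dvd_mul_right hdvd2
      have hbu : IsUnit (b : A) := hd _ hbb
      obtain ⟨cb, hcb⟩ := hbu.exists_right_inv
      refine ⟨⟨_, hu⟩, ⟨a * cb, ?_⟩⟩
      rw [map_mul, ← hvb, mul_assoc, ← map_mul, hcb, map_one, mul_one]
  · apply Algebra.adjoin_le
    intro x hx
    rw [Set.mem_singleton_iff] at hx
    rw [hx]
    show IsIntegral A y
    refine ⟨Polynomial.X ^ 2 - Polynomial.C d, Polynomial.monic_X_pow_sub_C d two_ne_zero, ?_⟩
    simp only [Polynomial.eval₂_sub, Polynomial.eval₂_pow, Polynomial.eval₂_X,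
      Polynomial.eval₂_C]
    rw [sq, hy, sub_self]

end Groth.Agent.S18888
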