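import Groth.Statements.S1889
import Mathlib
import Groth.Agent.Lib.Helper17.GrpdSchTransl

set_option autoImplicit false
universe u
open CategoryTheory CategoryTheory.Limits AlgebraicGeometry
open Grpd

namespace Groth.Agent.S1889

open Groth.Agent.Lib.Helper17.GrpdSch in
/-- Left translation `(z, ρ) ↦ (z, a z ∘ ρ)` is an isomorphism, compatible with the projection to `R`. -/
theorem exists_iso_left_translate {S : Scheme.{u}} (G : Grpd.GroupoidScheme S) {Z : Scheme.{u}} (a : Z ⟶ G.R) :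
    ∃ Ψ : pullback (a ≫ G.s) G.t ≅ pullback (a ≫ G.t) G.t,
      Ψ.hom ≫ pullback.snd (a ≫ G.t) G.t =
        pullback.lift (pullback.fst (a ≫ G.s) G.t ≫ a) (pullback.snd (a ≫ G.s) G.t)
          ((Category.assoc _ _ _).trans pullback.condition) ≫ G.c := by
  have h : (pullback.fst (a ≫ G.s) G.t ≫ a) ≫ G.s = pullback.snd (a ≫ G.s) G.t ≫ G.t :=
    (Category.assoc _ _ _).trans pullback.condition
  have h' : ((pullback.fst (a ≫ G.t) G.t ≫ a) ≫ G.i) ≫ G.s = pullback.snd (a ≫ G.t) G.t ≫ G.t := by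
    rw [Category.assoc, G.i_s, Category.assoc]; exact pullback.condition
  let Ψ : pullback (a ≫ G.s) G.t ⟶ pullback (a ≫ G.t) G.t :=
    pullback.lift (pullback.fst (a ≫ G.s) G.t)
      (cmp G (pullback.fst (a ≫ G.s) G.t ≫ a) (pullback.snd (a ≫ G.s) G.t) h)
      (by rw [cmp_t, Category.assoc])
  let Ψ' : pullback (a ≫ G.t) G.t ⟶ pullback (a ≫ G.s) G.t :=
    pullback.lift (pullback.fst (a ≫ G.t) G.t)
      (cmp G ((pullback.fst (a ≫ G.t) G.t ≫ a) ≫ G.i) (pullback.snd (a ≫ G.t) G.t) h')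
      (by rw [cmp_t, Category.assoc, G.i_t, Category.assoc])
  have hΨ1 : Ψ ≫ pullback.fst _ _ = pullback.fst _ _ := pullback.lift_fst _ _ _
  have hΨ2 : Ψ ≫ pullback.snd _ _ =
      cmp G (pullback.fst (a ≫ G.s) G.t ≫ a) (pullback.snd (a ≫ G.s) G.t) h := pullback.lift_snd _ _ _
  have hΨ'1 : Ψ' ≫ pullback.fst _ _ = pullback.fst _ _ := pullback.lift_fst _ _ _
  have hΨ'2 : Ψ' ≫ pullback.snd _ _ =
      cmp G ((pullback.fst (a ≫ G.t) G.t ≫ a) ≫ G.i) (pullback.snd (a ≫ G.t) G.t) h' :=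
    pullback.lift_snd _ _ _
  refine ⟨⟨Ψ, Ψ', ?_, ?_⟩, hΨ2⟩
  · apply pullback.hom_ext
    · rw [Category.assoc, hΨ'1, hΨ1, Category.id_comp]
    · rw [Category.assoc, hΨ'2, comp_cmp, Category.id_comp]
      have e1 : Ψ ≫ (pullback.fst (a ≫ G.t) G.t ≫ a) ≫ G.i =
          (pullback.fst (a ≫ G.s) G.t ≫ a) ≫ G.i := by
        rw [← Category.assoc, ← Category.assoc, hΨ1]
      rw [cmp_congr G e1 hΨ2]
      exact i_cmp_cmp G _ _ h _
  · apply pullback.hom_ext
    · rw [Category.assoc, hΨ1, hΨ'1, Category.id_comp]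
    · rw [Category.assoc, hΨ2, comp_cmp, Category.id_comp]
      have e1 : Ψ' ≫ pullback.fst (a ≫ G.s) G.t ≫ a = pullback.fst (a ≫ G.t) G.t ≫ a := by
        rw [← Category.assoc, hΨ'1]
      rw [cmp_congr G e1 hΨ'2]
      exact cmp_i_cmp' G _ _ h' _

/-- Let (U, R, s, t, c) be a groupoid scheme over S with U the spectrum of a field, W ⊆ R open and a : Z
→ R a morphism. Then the image of Z ×_{s∘a, U, t} W → R ×_{s,U,t} R → R (composition) is open. (A
groupoid scheme carries U, R, s, t, c, e, i over S with the groupoid axioms on T-points; 'finite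
locally free' is finite, flat and locally of finite presentation; C ⊂ Γ(U) is the ring of functions
a with s♯(a) = t♯(a) and M = Spec C.) -/
theorem result (S : Scheme.{u}) (G : Grpd.GroupoidScheme S) (k : Type u) [Field k] (eU : G.U ≅ Spec (CommRingCat.of k)) (W : G.R.Opens) (Z : Scheme.{u}) (a : Z ⟶ G.R) : IsOpen (Set.range ⇑(pullback.lift (pullback.fst (a ≫ G.s) (W.ι ≫ G.t) ≫ a) (pullback.snd (a ≫ G.s) (W.ι ≫ G.t) ≫ W.ι) ((Category.assoc _ _ _).trans (pullback.condition.trans (Category.assoc _ _ _).symm)) ≫ G.c)) := by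
  obtain ⟨Ψ, hΨ⟩ := exists_iso_left_translate G a
  -- `Z ⟶ U` is universally open
  have hsub : Subsingleton ↥(Spec (CommRingCat.of k)) := inferInstanceAs (Subsingleton (PrimeSpectrum k))
  have hint : IsIntegral (Spec (CommRingCat.of k)) := inferInstance
  have huo : UniversallyOpen ((a ≫ G.t) ≫ eU.hom) := inferInstance
  have huo' : UniversallyOpen (a ≫ G.t) :=
    (MorphismProperty.cancel_right_of_respectsIso @UniversallyOpen (a ≫ G.t) eU.hom).1 huo
  -- factor the map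
  have e : pullback.lift (pullback.fst (a ≫ G.s) (W.ι ≫ G.t) ≫ a) (pullback.snd (a ≫ G.s) (W.ι ≫ G.t) ≫ W.ι)
      ((Category.assoc _ _ _).trans (pullback.condition.trans (Category.assoc _ _ _).symm)) ≫ G.c =
      pullback.map (a ≫ G.s) (W.ι ≫ G.t) (a ≫ G.s) G.t (𝟙 Z) W.ι (𝟙 G.U) (by simp) (by simp) ≫
        Ψ.hom ≫ pullback.snd (a ≫ G.t) G.t := by
    have e0 : pullback.lift (pullback.fst (a ≫ G.s) (W.ι ≫ G.t) ≫ a)
        (pullback.snd (a ≫ G.s) (W.ι ≫ G.t) ≫ W.ι)
        ((Category.assoc _ _ _).trans (pullback.condition.trans (Category.assoc _ _ _).symm)) =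
        pullback.map (a ≫ G.s) (W.ι ≫ G.t) (a ≫ G.s) G.t (𝟙 Z) W.ι (𝟙 G.U) (by simp) (by simp) ≫
          pullback.lift (pullback.fst (a ≫ G.s) G.t ≫ a) (pullback.snd (a ≫ G.s) G.t)
            ((Category.assoc _ _ _).trans pullback.condition) := by
      apply pullback.hom_ext
      · rw [pullback.lift_fst, Category.assoc, pullback.lift_fst, ← Category.assoc]
        erw [pullback.lift_fst]
        rw [Category.comp_id]
      · rw [pullback.lift_snd, Category.assoc, pullback.lift_snd]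
        erw [pullback.lift_snd]
    rw [e0, Category.assoc, ← hΨ]
  rw [e]
  have : UniversallyOpen (pullback.map (a ≫ G.s) (W.ι ≫ G.t) (a ≫ G.s) G.t (𝟙 Z) W.ι (𝟙 G.U) (by simp) (by simp) ≫
      Ψ.hom ≫ pullback.snd (a ≫ G.t) G.t) := inferInstance
  exact (Scheme.Hom.isOpenMap _).isOpen_range

end Groth.Agent.S1889
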