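import Groth.Statements.S18890
import Mathlib

set_option autoImplicit false
universe u v w w'
open CAlg

namespace Groth.Agent.S18890

/-- Let R be a commutative ring, G a finite group whose order is invertible in R, M an R-module with an
R-linear action ρ of G and N an arbitrary R-module. Then the natural map M^G ⊗_R N → M ⊗_R N induced
by the inclusion of the invariants is injective, and its image is the submodule of invariants of M
⊗_R N under the action ρ ⊗ 1 (G acting on the first factor). (The source lets G be a group of
R-automorphisms of M; a possibly non-faithful linear action changes nothing.) -/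
theorem result {R : Type u} [CommRing R]
    {G : Type v} [Group G] [Finite G] (hG : IsUnit ((Nat.card G : ℕ) : R))
    {M : Type w} {N : Type w'} [AddCommGroup M] [Module R M] [AddCommGroup N] [Module R N]
    (ρ : Representation R G M) :
    Function.Injective (LinearMap.rTensor N ρ.invariants.subtype) ∧
      LinearMap.range (LinearMap.rTensor N ρ.invariants.subtype) =
        (ρ.tprod (Representation.trivial R G N)).invariants := by
  classical
  haveI : Fintype G := Fintype.ofFinite G
  obtain ⟨u, hu⟩ := hG.exists_left_inv
  -- hu : u * (Nat.card G : R) = 1
  have hcard : (Nat.card G : R) = ((Finset.univ : Finset G).card : R) := by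
    rw [Nat.card_eq_fintype_card, Finset.card_univ]
  set S : M →ₗ[R] M := ∑ g : G, ρ g with hS
  set e : M →ₗ[R] M := u • S with he
  have hS_apply : ∀ m, S m = ∑ g : G, ρ g m := by
    intro m
    rw [hS, LinearMap.sum_apply]
  have he_inv : ∀ m, e m ∈ ρ.invariants := by
    intro m
    rw [Representation.mem_invariants]
    intro h
    rw [he, LinearMap.smul_apply, map_smul, hS_apply, map_sum]
    congr 1
    have : ∀ g : G, ρ h (ρ g m) = ρ (h * g) m := by
      intro g
      rw [map_mul]
      rfl
    simp_rw [this]
    exact Fintype.sum_equiv (Equiv.mulLeft h) _ _ (fun g => rfl)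
  have he_fix : ∀ m ∈ ρ.invariants, e m = m := by
    intro m hm
    rw [Representation.mem_invariants] at hm
    rw [he, LinearMap.smul_apply, hS_apply]
    simp_rw [hm]
    rw [Finset.sum_const, ← Nat.cast_smul_eq_nsmul R, smul_smul, ← hcard, hu, one_smul]
  set e' : M →ₗ[R] ρ.invariants := LinearMap.codRestrict ρ.invariants e he_inv with he'
  have hretr : e' ∘ₗ ρ.invariants.subtype = LinearMap.id := by
    ext ⟨m, hm⟩
    simp only [LinearMap.comp_apply, Submodule.subtype_apply, LinearMap.id_apply, he',
      LinearMap.codRestrict_apply]
    exact he_fix m hm
  have hsub : ρ.invariants.subtype ∘ₗ e' = e := by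
    ext m
    simp only [LinearMap.comp_apply, Submodule.subtype_apply, he', LinearMap.codRestrict_apply]
  have hretrT : (LinearMap.rTensor N e') ∘ₗ (LinearMap.rTensor N ρ.invariants.subtype) =
      LinearMap.id := by
    rw [← LinearMap.rTensor_comp, hretr, LinearMap.rTensor_id]
  refine ⟨?_, ?_⟩
  · intro x y hxy
    have := congrArg (LinearMap.rTensor N e') hxy
    rw [← LinearMap.comp_apply, ← LinearMap.comp_apply, hretrT] at this
    simpa using this
  · apply le_antisymm
    · rintro x ⟨z, rfl⟩
      rw [Representation.mem_invariants]
      intro g
      rw [Representation.tprod_apply]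
      have h1 : TensorProduct.map (ρ g) ((Representation.trivial R G N) g) =
          LinearMap.rTensor N (ρ g) := by
        ext m n
        simp [Representation.trivial_apply]
      rw [h1, ← LinearMap.comp_apply, ← LinearMap.rTensor_comp]
      congr 2
      ext ⟨m, hm⟩
      simp only [LinearMap.comp_apply, Submodule.subtype_apply]
      exact (Representation.mem_invariants ρ m).mp hm g
    · intro x hx
      rw [Representation.mem_invariants] at hx
      have h1 : ∀ g, LinearMap.rTensor N (ρ g) x = x := by
        intro g
        have h2 := hx g
        rw [Representation.tprod_apply] at h2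
        have h3 : TensorProduct.map (ρ g) ((Representation.trivial R G N) g) =
            LinearMap.rTensor N (ρ g) := by
          ext m n
          simp [Representation.trivial_apply]
        rw [h3] at h2
        exact h2
      have h4 : LinearMap.rTensor N e x = x := by
        have h5 : LinearMap.rTensor N e = u • ∑ g : G, LinearMap.rTensor N (ρ g) := by
          have := (LinearMap.rTensorHom (M := N) (N := M) (P := M) (R := R))
          rw [he, hS]
          change LinearMap.rTensorHom N (u • ∑ g : G, ρ g) = _
          rw [map_smul, map_sum]
          rfl
        rw [h5, LinearMap.smul_apply, LinearMap.sum_apply]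
        simp_rw [h1]
        rw [Finset.sum_const, ← Nat.cast_smul_eq_nsmul R, smul_smul, ← hcard, hu, one_smul]
      refine ⟨LinearMap.rTensor N e' x, ?_⟩
      rw [← LinearMap.comp_apply, ← LinearMap.rTensor_comp, hsub, h4]

end Groth.Agent.S18890
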