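import Groth.Statements.S18895
import Groth.Agent.S1564
import Groth.Agent.Lib.Helper13.AbVarDim
import Groth.Agent.Lib.Helper23.GeomH0

set_option autoImplicit false
universe u
open CategoryTheory CategoryTheory.Limits AlgebraicGeometry
open Curves

namespace Groth.Agent.S18895

/-- Let k be an algebraically closed field of characteristic different from 2 (the standing convention
of the section; it plays no role here) and X a connected smooth proper curve over k of genus dim_k
H¹(X, O_X) ≥ 1. For every invertible O_X-module L of positive degree one has dim_k H⁰(X, L) ≤ deg L. -/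
theorem result (k : Type u) [Field k] [IsAlgClosed k] (h2 : (2 : k) ≠ 0)
    (X : Scheme.{u}) [X.Over (Spec (CommRingCat.of k))]
    [IsProper (X ↘ Spec (CommRingCat.of k))] [Smooth (X ↘ Spec (CommRingCat.of k))] [ConnectedSpace ↥X]
    (hX : topologicalKrullDim ↥X = 1) (hg : 1 ≤ Curv2.genus k X)
    (L : X.Modules) (hL : PicF.IsInvertible L) (hdeg : 0 < Curv2.deg k X L 1) :
    (Module.finrank k (Coh.HH X L 0) : ℤ) ≤ Curv2.deg k X L 1 := by
  haveI : IsIntegral X :=
    Groth.Agent.Lib.Helper13.AbVarDim.isIntegral_of_smooth_connected k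
      (X ↘ Spec (CommRingCat.of k))
  have h0 := Groth.Agent.Lib.Helper23.GeomH0.finrank_H0_eq_one_of_isAlgClosed k X
  by_cases hs : Nontrivial (Coh.HH X L 0)
  · obtain ⟨h1, h2'⟩ := Groth.Agent.S1564.result k X hX h0 L hL hs
    by_contra hcon
    push Not at hcon
    have heq : (Module.finrank k (Coh.HH X L 0) : ℤ) = Curv2.deg k X L 1 + 1 := by omega
    have hg0 := h2' heq hdeg
    omega
  · rw [not_nontrivial_iff_subsingleton] at hs
    have hz : Module.finrank k (Coh.HH X L 0) = 0 := Module.finrank_zero_of_subsingleton
    rw [hz]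
    push_cast
    exact hdeg.le

end Groth.Agent.S18895
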