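import Groth.Statements.S18899
import Mathlib

set_option autoImplicit false
universe u v w
open CAlg

namespace Groth.Agent.S18899

open Polynomial in
theorem step1 {A : Type*} [CommRing A] {G : Type*} [Group G] [Fintype G]
    [MulSemiringAction G A] {K : Type*} [CommRing K] [IsDomain K] (f₁ f₂ : A →+* K)
    (h : ∀ a : A, (∀ g : G, g • a = a) → f₁ a = f₂ a) (a : A) :
    ∃ g : G, f₂ a = f₁ (g • a) := by
  classical
  have hP : (MulSemiringAction.charpoly G a).map f₁ = (MulSemiringAction.charpoly G a).map f₂ := by
    ext n
    rw [coeff_map, coeff_map]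
    exact h _ (fun g => MulSemiringAction.smul_coeff_charpoly a n g)
  have h0 : ((MulSemiringAction.charpoly G a).map f₂).eval (f₂ a) = 0 := by
    rw [eval_map, eval₂_hom, MulSemiringAction.eval_charpoly, map_zero]
  rw [← hP, MulSemiringAction.charpoly_eq, Polynomial.map_prod, eval_prod] at h0
  obtain ⟨g, -, hg⟩ := Finset.prod_eq_zero_iff.mp h0
  refine ⟨g, ?_⟩
  simpa [sub_eq_zero] using hg


/-- Let A be a commutative ring on which a finite group G acts by ring automorphisms, with ring of
invariants A^G, and let K be a field. If two ring homomorphisms f₁, f₂ : A → K have the same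
restriction to A^G, then f₂ = f₁ ∘ γ for some γ ∈ G. -/
theorem result {A : Type u} [CommRing A] {G : Type v} [Group G] [Finite G]
    [MulSemiringAction G A] {K : Type w} [Field K] (f₁ f₂ : A →+* K)
    (h : ∀ a : A, (∀ g : G, g • a = a) → f₁ a = f₂ a) :
    ∃ γ : G, ∀ a : A, f₂ a = f₁ (γ • a) := by
  classical
  cases nonempty_fintype G
  by_contra hcon
  push Not at hcon
  choose c hc using hcon
  let e := Fintype.equivFin G
  let b : Polynomial A := ∑ h : G, Polynomial.C (c h) * Polynomial.X ^ (e h : ℕ)
  have hb : ∀ g : G, b.coeff (e g : ℕ) = c g := by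
    intro g
    simp only [b, Polynomial.finsetSum_coeff, Polynomial.coeff_C_mul_X_pow]
    rw [Finset.sum_eq_single g]
    · simp
    · intro h _ hne
      rw [if_neg]
      intro heq
      exact hne (e.injective (Fin.ext heq)).symm
    · intro hg
      exact absurd (Finset.mem_univ g) hg
  have hinv : ∀ p : Polynomial A, (∀ g : G, g • p = p) →
      Polynomial.mapRingHom f₁ p = Polynomial.mapRingHom f₂ p := by
    intro p hp
    ext n
    rw [Polynomial.coe_mapRingHom, Polynomial.coe_mapRingHom, Polynomial.coeff_map,
      Polynomial.coeff_map]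
    apply h
    intro g
    rw [← Polynomial.coeff_smul, hp g]
  obtain ⟨g, hg⟩ := step1 (G := G) (Polynomial.mapRingHom f₁) (Polynomial.mapRingHom f₂) hinv b
  have h1 := congrArg (fun p => Polynomial.coeff p (e g : ℕ)) hg
  simp only [Polynomial.coe_mapRingHom, Polynomial.coeff_map, Polynomial.coeff_smul, hb] at h1
  exact hc g h1

end Groth.Agent.S18899
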