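import Groth.Statements.S1890
import Mathlib

set_option autoImplicit false
universe u
open CategoryTheory CategoryTheory.Limits AlgebraicGeometry
open Grpd

namespace Groth.Agent.S1890

/-- Take a quasi-compact immersion j : V → Spec A and an element f ∈ A such that j⁻¹(D(f)) is affine and
j(V) ∩ V(f) is closed in Spec A. Then V is affine. -/
theorem result (A : Type u) [CommRing A] (V : Scheme.{u}) (j : V ⟶ Spec (CommRingCat.of A)) [IsImmersion j] [QuasiCompact j] (f : A) (haff : IsAffineOpen (j ⁻¹ᵁ PrimeSpectrum.basicOpen f)) (hcl : IsClosed (Set.range ⇑j ∩ PrimeSpectrum.zeroLocus {f})) : IsAffine V := by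
  classical
  have hcomp : CompactSpace V := QuasiCompact.compactSpace_of_compactSpace j
  have hqs : QuasiSeparatedSpace V := quasiSeparatedSpace_of_quasiSeparated j
  let R : Set (PrimeSpectrum A) := Set.range ⇑j
  have hR : ∀ x, x ∈ R ↔ ∃ v, j v = x := fun x => Iff.rfl
  have hZ'cl : IsClosed (closure R \ R) := by
    have h1 := j.isLocallyClosed_range.isOpen_coborder
    exact isOpen_compl_iff.mp h1
  have hcl' : IsClosed (R ∩ PrimeSpectrum.zeroLocus {f}) := hcl
  have hdisj : (closure R \ R) ∩ (R ∩ PrimeSpectrum.zeroLocus {f}) = ∅ := by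
    ext x
    simp only [Set.mem_inter_iff, Set.mem_sdiff, Set.mem_empty_iff_false, iff_false]
    tauto
  have hsup : PrimeSpectrum.vanishingIdeal (closure R \ R) ⊔
      PrimeSpectrum.vanishingIdeal (R ∩ PrimeSpectrum.zeroLocus {f}) = ⊤ := by
    rw [← PrimeSpectrum.zeroLocus_empty_iff_eq_top, PrimeSpectrum.zeroLocus_sup,
      PrimeSpectrum.zeroLocus_vanishingIdeal_eq_closure,
      PrimeSpectrum.zeroLocus_vanishingIdeal_eq_closure, hZ'cl.closure_eq, hcl'.closure_eq, hdisj]
  obtain ⟨h, hh, b, hb, hab⟩ := Submodule.mem_sup.mp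
    (hsup ▸ Submodule.mem_top : (1 : A) ∈ _)
  let φ : A →+* Γ(V, ⊤) := (j.appTop).hom.comp (Scheme.ΓSpecIso (CommRingCat.of A)).inv.hom
  have key (a : A) : V.basicOpen (φ a) = j ⁻¹ᵁ PrimeSpectrum.basicOpen a := by
    rw [← basicOpen_eq_of_affine (R := CommRingCat.of A) a]
    exact (Scheme.preimage_basicOpen_top j _).symm
  have hf' : IsAffineOpen (V.basicOpen (φ f)) := by rw [key]; exact haff
  have hh' : IsAffineOpen (V.basicOpen (φ h)) := by
    rw [key]
    let U : (Spec (CommRingCat.of A)).Opens := PrimeSpectrum.basicOpen h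
    have hclosed : IsClosed (Set.range ⇑(j ∣_ U)) := by
      rw [morphismRestrict_base]
      erw [Set.range_restrictPreimage]
      have : (Subtype.val ⁻¹' Set.range ⇑j : Set U) =
          Subtype.val ⁻¹' closure (Set.range ⇑j) := by
        ext ⟨x, hx⟩
        simp only [Set.mem_preimage]
        refine ⟨fun hx' => subset_closure hx', fun hx' => ?_⟩
        by_contra hx''
        have h3 : h ∈ x.asIdeal := by
          have := (PrimeSpectrum.mem_vanishingIdeal _ _).mp hh x ⟨hx', hx''⟩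
          exact this
        exact hx h3
      erw [this]
      exact isClosed_closure.preimage continuous_subtype_val
    have : IsClosedImmersion (j ∣_ U) := .of_isPreimmersion _ hclosed
    have : IsAffine U.toScheme := IsAffineOpen.Spec_basicOpen (R := CommRingCat.of A) h
    exact isAffine_of_isAffineHom (j ∣_ U)
  have hle : V.basicOpen (φ b) ≤ V.basicOpen (φ f) := by
    rw [key, key]
    intro v hv
    change f ∉ (j v).asIdeal
    intro hfv
    have h1 : j v ∈ Set.range ⇑j ∩ PrimeSpectrum.zeroLocus {f} := by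
      refine ⟨⟨v, rfl⟩, ?_⟩
      refine (PrimeSpectrum.mem_zeroLocus (j v) {f}).mpr ?_
      simpa using hfv
    have h2 : b ∈ (j v).asIdeal := (PrimeSpectrum.mem_vanishingIdeal _ _).mp hb _ h1
    exact hv h2
  have hloc := isLocalization_basicOpen_of_qcqs (X := V) (U := ⊤) isCompact_univ
    isQuasiSeparated_univ (φ b)
  have hunit : IsUnit (algebraMap Γ(V, ⊤) Γ(V, V.basicOpen (φ b)) (φ f)) := by
    have h1 : IsUnit ((V.presheaf.map (homOfLE (V.basicOpen_le (φ f))).op).hom (φ f)) :=
      RingedSpace.isUnit_res_basicOpen _ (φ f)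
    have h2 := h1.map (V.presheaf.map (homOfLE hle).op).hom
    convert h2 using 1
    rw [RingHom.algebraMap_toAlgebra, ← CommRingCat.comp_apply, ← Functor.map_comp]
    rfl
  obtain ⟨u, hu⟩ := hunit.exists_right_inv
  obtain ⟨⟨y, ⟨_, n, rfl⟩⟩, hy⟩ := IsLocalization.surj (Submonoid.powers (φ b)) u
  have heq : algebraMap Γ(V, ⊤) Γ(V, V.basicOpen (φ b)) (φ f * y) =
      algebraMap Γ(V, ⊤) Γ(V, V.basicOpen (φ b)) ((φ b) ^ n) := by
    simp only at hy
    rw [map_mul, ← hy, ← mul_assoc, hu, one_mul]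
  obtain ⟨⟨_, m, rfl⟩, hc⟩ := IsLocalization.exists_of_eq (M := Submonoid.powers (φ b)) heq
  simp only at hc
  have hpow : (φ b) ^ (m + n) ∈ Ideal.span ({φ f, φ h} : Set Γ(V, ⊤)) := by
    rw [pow_add, ← hc]
    exact Ideal.mul_mem_left _ _ (Ideal.mul_mem_right _ _ (Ideal.subset_span (by simp)))
  have hb1 : φ b = 1 - φ h := by
    rw [eq_sub_iff_add_eq, add_comm, ← map_add, hab, map_one]
  have hdvd : φ h ∣ 1 - (φ b) ^ (m + n) := by
    have := sub_dvd_pow_sub_pow (1 : Γ(V, ⊤)) (φ b) (m + n)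
    rw [one_pow] at this
    convert this using 1
    rw [hb1]; ring
  have hone : (1 : Γ(V, ⊤)) ∈ Ideal.span ({φ f, φ h} : Set Γ(V, ⊤)) := by
    obtain ⟨c, hc'⟩ := hdvd
    have : (1 : Γ(V, ⊤)) = (φ b) ^ (m + n) + φ h * c := by rw [← hc']; ring
    rw [this]
    exact Ideal.add_mem _ hpow (Ideal.mul_mem_right _ _ (Ideal.subset_span (by simp)))
  refine isAffine_of_isAffineOpen_basicOpen ({φ f, φ h} : Set Γ(V, ⊤))
    ((Ideal.eq_top_iff_one _).mpr hone) ?_
  rintro i (rfl | rfl)
  · exact hf'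
  · exact hh'

end Groth.Agent.S1890
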