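import Groth.Statements.S18902
import Groth.Agent.Lib.Helper13.CBCUniv4
import Groth.Agent.Lib.Helper13.CBCSeesawG
import Groth.Agent.Lib.Helper29.IsogFib
import Groth.Agent.Lib.Helper17.PullBasis
import Groth.Agent.S1536

set_option autoImplicit false
universe u
open CategoryTheory CategoryTheory.Limits AlgebraicGeometry
open Curves

namespace Groth.Agent.S18902

/-- Let q : P → S be a conic bundle, i.e. a smooth curve of genus 0 over S (q proper and smooth, with
geometrically connected fibres of dimension one and genus dim H¹(P_s, O) = 0). Then the canonical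
map O_S → q_*O_P is an isomorphism. -/
theorem result {P S : Scheme.{u}} (q : P ⟶ S)
    [IsProper q] [Smooth q] [GeometricallyConnected q]
    (hPdim : ∀ s : S, topologicalKrullDim ↥(q.fiber s) = 1)
    (hPgen : ∀ s : S, letI : (q.fiber s).Over (Spec (S.residueField s)) := ⟨q.fiberToSpecResidueField s⟩
      Curv2.genus (S.residueField s) (q.fiber s) = 0) :
    IsIso (ClSub.unitToPush q) := by
  haveI : GeometricallyReduced q := Groth.Agent.Lib.Helper29.IsogFib.geomRed_of_smooth q
  have h0 : ∀ y : S, Module.finrank (S.residueField y) Γ(q.fiber y, ⊤) = 1 := by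
    intro y
    letI over' : (q.fiber y).Over (Spec (CommRingCat.of ↑(S.residueField y))) :=
      ⟨q.fiberToSpecResidueField y⟩
    haveI : IsProper ((q.fiber y) ↘ Spec (CommRingCat.of ↑(S.residueField y))) :=
      (inferInstance : IsProper (pullback.snd q (S.fromSpecResidueField y)))
    haveI : GeometricallyReduced ((q.fiber y) ↘ Spec (CommRingCat.of ↑(S.residueField y))) :=
      (inferInstance : GeometricallyReduced (q.fiberToSpecResidueField y))
    haveI : GeometricallyConnected ((q.fiber y) ↘ Spec (CommRingCat.of ↑(S.residueField y))) :=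
      (inferInstance : GeometricallyConnected (q.fiberToSpecResidueField y))
    have h1 := Groth.Agent.S1536.result ↑(S.residueField y) (q.fiber y)
    have e2 : Coh.HH (q.fiber y) (Coh.structureModule (q.fiber y)) 0
        ≃ₗ[↑(S.residueField y)] Γ(q.fiber y, ⊤) :=
      Groth.Agent.Lib.Helper23.GeomH0.H0structEquiv ↑(S.residueField y) (q.fiber y)
    exact e2.finrank_eq.symm.trans h1
  refine Groth.Agent.Lib.Helper17.PullBasis.isIso_unitToPush_of_bijective_app q (fun U => ?_)
  haveI := Groth.Agent.Lib.Helper13.CBCUnivG.isIso_app q h0 U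
  exact ConcreteCategory.bijective_of_isIso (q.app U)

end Groth.Agent.S18902
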