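import Groth.Statements.S18905
-- import your own Groth.Agent.* helpers here
import Groth.Agent.Lib.Lead.DualNumUnram

set_option autoImplicit false
set_option linter.style.haveILetI false
universe u
open CategoryTheory CategoryTheory.Limits AlgebraicGeometry
open Mor

namespace Groth.Agent.S18905

/-- The closed immersion `Spec k → Spec k[ε]` is a nilpotent thickening. -/
theorem isNilpotent_ker_fst (k : Type u) [Field k] :
    IsNilpotent (Spec.map (CommRingCat.ofHom (TrivSqZeroExt.fstHom k k k).toRingHom)).ker := by
  refine ⟨2, ?_⟩
  rw [Scheme.ker_of_isAffine, ← Scheme.IdealSheafData.equivOfIsAffine_symm_apply, ← map_pow]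
  have : RingHom.ker (Spec.map (CommRingCat.ofHom
      (TrivSqZeroExt.fstHom k k k).toRingHom)).appTop.hom ^ 2 = ⊥ := by
    rw [pow_two, eq_bot_iff, Ideal.mul_le]
    intro x hx y hy
    rw [RingHom.mem_ker] at hx hy
    have hnat := Scheme.ΓSpecIso_naturality (CommRingCat.ofHom
      (TrivSqZeroExt.fstHom k k k).toRingHom)
    have key : ∀ z, (Spec.map (CommRingCat.ofHom
        (TrivSqZeroExt.fstHom k k k).toRingHom)).appTop.hom z = 0 →
        ((Scheme.ΓSpecIso (CommRingCat.of (DualNumber k))).hom z).fst = 0 := by
      intro z hz
      have := congr($(hnat).hom z)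
      simp only [CommRingCat.hom_comp, RingHom.comp_apply, hz, map_zero] at this
      exact this.symm
    have hinj : Function.Injective (Scheme.ΓSpecIso (CommRingCat.of (DualNumber k))).hom :=
      (ConcreteCategory.bijective_of_isIso _).1
    rw [Ideal.mem_bot]
    apply hinj
    rw [map_mul, map_zero]
    ext
    · simp [key x hx, key y hy]
    · simp [key x hx, key y hy]
  rw [this]
  exact map_zero _


/-- Let k be an algebraically closed field and X a scheme locally of finite type over k. Then X → Spec k
is formally unramified if and only if the map Hom_k(Spec k[ε], X) → Hom_k(Spec k, X) given by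
restricting along the closed immersion of Spec k into Spec k[ε] (k[ε] the ring of dual numbers, ε ↦
0), is bijective; since that map is always surjective, the condition is stated as injectivity: two
k-morphisms from Spec k[ε] to X which agree on Spec k are equal. -/
theorem result (k : Type u) [Field k] [IsAlgClosed k]
    {X : Scheme.{u}} (p : X ⟶ Spec (CommRingCat.of k)) [LocallyOfFiniteType p] :
    FormallyUnramified p ↔
      ∀ v₁ v₂ : Spec (CommRingCat.of (DualNumber k)) ⟶ X,
        v₁ ≫ p = Spec.map (CommRingCat.ofHom (algebraMap k (DualNumber k))) →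
        v₂ ≫ p = Spec.map (CommRingCat.ofHom (algebraMap k (DualNumber k))) →
        Spec.map (CommRingCat.ofHom (TrivSqZeroExt.fstHom k k k).toRingHom) ≫ v₁ =
          Spec.map (CommRingCat.ofHom (TrivSqZeroExt.fstHom k k k).toRingHom) ≫ v₂ →
        v₁ = v₂ := by
  constructor
  · intro hf v₁ v₂ h1 h2 h3
    haveI : IsClosedImmersion
        (Spec.map (CommRingCat.ofHom (TrivSqZeroExt.fstHom k k k).toRingHom)) :=
      IsClosedImmersion.spec_of_surjective _ (fun x => ⟨TrivSqZeroExt.inl x, rfl⟩)
    exact FormallyUnramified.hom_ext _ (isNilpotent_ker_fst k) p h3 (h1.trans h2.symm)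
  · intro H
    haveI : IsZariskiLocalAtSource @FormallyUnramified.{u} :=
      HasRingHomProperty.instIsZariskiLocalAtSource
    rw [IsZariskiLocalAtSource.iff_of_openCover (P := @FormallyUnramified) X.affineOpenCover.openCover]
    intro i
    haveI : IsOpenImmersion (X.affineOpenCover.f i) :=
      inferInstanceAs (IsOpenImmersion (X.affineOpenCover.openCover.f i))
    obtain ⟨φ, hφ⟩ : ∃ φ : CommRingCat.of k ⟶ X.affineOpenCover.X i,
        X.affineOpenCover.f i ≫ p = Spec.map φ := ⟨Spec.preimage _, (Spec.map_preimage _).symm⟩
    change FormallyUnramified (X.affineOpenCover.f i ≫ p)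
    have hft : LocallyOfFiniteType (X.affineOpenCover.f i ≫ p) := inferInstance
    rw [hφ] at hft ⊢
    rw [HasRingHomProperty.Spec_iff (P := @FormallyUnramified)]
    rw [HasRingHomProperty.Spec_iff (P := @LocallyOfFiniteType)] at hft
    algebraize [φ.hom]
    apply (RingHom.formallyUnramified_algebraMap).mpr
    apply Groth.Agent.Lib.Lead.DualNumUnram.formallyUnramified_of_dualNumber
    intro ψ₁ ψ₂ h12
    have key : ∀ ψ : (X.affineOpenCover.X i) →ₐ[k] DualNumber k,
        (Spec.map (CommRingCat.ofHom ψ.toRingHom) ≫ X.affineOpenCover.f i) ≫ p =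
          Spec.map (CommRingCat.ofHom (algebraMap k (DualNumber k))) := by
      intro ψ
      rw [Category.assoc, hφ, ← Spec.map_comp]
      congr 1
      refine CommRingCat.hom_ext (RingHom.ext fun x => ?_)
      exact ψ.commutes x
    have h3 := H _ _ (key ψ₁) (key ψ₂) (by
      rw [← Category.assoc, ← Category.assoc, ← Spec.map_comp, ← Spec.map_comp]
      congr 2
      refine CommRingCat.hom_ext (RingHom.ext fun x => ?_)
      exact congr($h12 x))
    have h4 := Spec.map_injective ((cancel_mono _).mp h3)
    ext x : 1
    exact congr($(h4).hom x)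

end Groth.Agent.S18905
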