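import Groth.Statements.S18908
import Mathlib

set_option autoImplicit false
universe u v w
open scoped TensorProduct
open CAlg

namespace Groth.Agent.S18908

/-- Let K ⊇ k be a finite field extension of degree n and Ω ⊇ k an algebraically closed extension. Then
K is separable over k if and only if Ω ⊗_k K is isomorphic, as an Ω-algebra, to the product of n
copies of Ω. (The source says 'for every (some) algebraically closed extension Ω'; the equivalence
is stated for each fixed Ω, which gives both readings.) -/
theorem result (k : Type u) (K : Type v) (Ω : Type w)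
    [Field k] [Field K] [Algebra k K] [FiniteDimensional k K]
    [Field Ω] [Algebra k Ω] [IsAlgClosed Ω] :
    Algebra.IsSeparable k K ↔ Nonempty ((Ω ⊗[k] K) ≃ₐ[Ω] (Fin (Module.finrank k K) → Ω)) := by
  classical
  constructor
  · intro hsep
    haveI : Algebra.FormallyEtale k K := Algebra.FormallyEtale.of_isSeparable k K
    haveI : Algebra.FinitePresentation k K := Algebra.FinitePresentation.of_finiteType.mp inferInstance
    haveI : Algebra.Etale k K := ⟨inferInstance, inferInstance⟩
    haveI : Algebra.Etale Ω (Ω ⊗[k] K) := inferInstance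
    obtain ⟨I, hIfin, Ai, hfield, halg, e, hAi⟩ :=
      (Algebra.Etale.iff_exists_algEquiv_prod Ω (Ω ⊗[k] K)).mp inferInstance
    haveI : Fintype I := Fintype.ofFinite I
    have ei : ∀ i, Ω ≃ₐ[Ω] Ai i := by
      intro i
      haveI : Module.Finite Ω (Ai i) := (hAi i).1
      exact AlgEquiv.ofBijective (Algebra.ofId Ω (Ai i))
        IsAlgClosed.algebraMap_bijective_of_isIntegral
    let e2 : (Ω ⊗[k] K) ≃ₐ[Ω] (I → Ω) :=
      e.trans (AlgEquiv.piCongrRight (fun i => (ei i).symm))
    have hcard : Fintype.card I = Module.finrank k K := by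
      have h1 : Module.finrank Ω (Ω ⊗[k] K) = Module.finrank Ω (I → Ω) :=
        LinearEquiv.finrank_eq e2.toLinearEquiv
      rw [Module.finrank_baseChange, Module.finrank_fintype_fun_eq_card] at h1
      exact h1.symm
    let eqv : I ≃ Fin (Module.finrank k K) := Fintype.equivFinOfCardEq hcard
    exact ⟨e2.trans (AlgEquiv.piCongrLeft Ω (fun _ => Ω) eqv)⟩
  · rintro ⟨e⟩
    haveI : Algebra.FormallyUnramified Ω (Fin (Module.finrank k K) → Ω) := inferInstance
    haveI : Algebra.FormallyUnramified Ω (Ω ⊗[k] K) := Algebra.FormallyUnramified.of_equiv e.symm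
    haveI : Algebra.FormallyUnramified k K :=
      Algebra.FormallyUnramified.of_formallyUnramified_tensorProduct_of_faithfullyFlat Ω
    exact (Algebra.FormallyUnramified.iff_isSeparable k K).mp inferInstance

end Groth.Agent.S18908
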