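import Groth.Statements.S18912
import Groth.Agent.Lib.Helper3.QCExact

set_option autoImplicit false
universe u
open CategoryTheory CategoryTheory.Limits AlgebraicGeometry
open TFNodal

namespace Groth.Agent.S18912

theorem mem_range_of_pow_eq_one {k K : Type*} [Field k] [IsAlgClosed k] [CommRing K] [IsDomain K]
    [Algebra k K] (ζ : K) (d : ℕ) (hd : 0 < d) (h : ζ ^ d = 1) : ζ ∈ (algebraMap k K).range := by
  have hint : IsIntegral k ζ :=
    ⟨Polynomial.X ^ d - Polynomial.C 1, Polynomial.monic_X_pow_sub_C 1 hd.ne', by simp [h]⟩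
  exact minpoly.mem_range_of_degree_eq_one k ζ
    (IsAlgClosed.degree_eq_one_of_irreducible k (minpoly.irreducible hint))

/-- Let k be an algebraically closed field of characteristic zero, X a reduced scheme locally of finite
type over k, F an O_X-module, d ≥ 1 an integer and τ, τ' : F → O_X two O_X-linear maps whose d-th
symmetric powers agree, in the sense that for every open U and all sections a_1, …, a_d of F over U
the products τ(a_1)⋯τ(a_d) and τ'(a_1)⋯τ'(a_d) coincide in Γ(U, O_X). Then for every point η of X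
whose local ring is a field (a generic point of an irreducible component) there is a d-th root of
unity ξ in k such that, for every section a of F over an open containing η, the germ of τ'(a) at η
is ξ times the germ of τ(a). The published statement is for a coherent module on a projective nodal
curve and concludes that τ' = ξ τ with one root of unity ξ on each connected component; that form
fails for the union of two lines meeting at a node, F the ideal of the node, τ the inclusion and τ'
equal to τ on one line and to −τ on the other (d = 2), so the conclusion is stated here at each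
generic point, i.e. per irreducible component, which is what the stalkwise argument yields. -/
theorem result
    (k : Type u) [Field k] [IsAlgClosed k] [CharZero k]
    (X : Scheme.{u}) [X.Over (Spec (CommRingCat.of k))]
    [LocallyOfFiniteType (X ↘ Spec (CommRingCat.of k))] [AlgebraicGeometry.IsReduced X]
    (F : X.Modules) (τ τ' : F ⟶ Coh.structureModule X) (d : ℕ) (hd : 1 ≤ d)
    (hS : ∀ (U : X.Opens) (a : Fin d → Γ(F, U)),
      (∏ i, (τ.app U (a i) : Γ(X, U)) : Γ(X, U)) = (∏ i, (τ'.app U (a i) : Γ(X, U)) : Γ(X, U)))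
    (η : X) (hη : IsField (X.presheaf.stalk η)) :
    ∃ ξ : k, ξ ^ d = 1 ∧ ∀ (U : X.Opens) (hU : η ∈ U) (a : Γ(F, U)),
      (X.presheaf.germ U η hU (τ'.app U a : Γ(X, U)) : X.presheaf.stalk η) =
        Curv2.stalkMap k X η ξ * X.presheaf.germ U η hU (τ.app U a : Γ(X, U)) := by
  classical
  haveI : IsDomain (X.presheaf.stalk η) := hη.isDomain
  letI : Algebra k (X.presheaf.stalk η) := (Curv2.stalkMap k X η).toAlgebra
  have hd0 : 0 < d := hd
  have hres : ∀ (σ : F ⟶ Coh.structureModule X) (U V : X.Opens) (hVU : V ≤ U) (hV : η ∈ V)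
      (a : Γ(F, U)),
      (X.presheaf.germ V η hV (σ.app V (F.presheaf.map (homOfLE hVU).op a) : Γ(X, V)) :
        X.presheaf.stalk η) = X.presheaf.germ U η (hVU hV) (σ.app U a : Γ(X, U)) := by
    intro σ U V hVU hV a
    have h1 : σ.app V (F.presheaf.map (homOfLE hVU).op a) =
        (Coh.structureModule X).presheaf.map (homOfLE hVU).op (σ.app U a) :=
      Groth.Agent.Lib.Helper3.QCExact.app_res' σ hVU a
    rw [h1]
    exact TopCat.Presheaf.germ_res_apply X.presheaf (homOfLE hVU) η hV _
  have hprod : ∀ (U : X.Opens) (hU : η ∈ U) (a : Fin d → Γ(F, U)),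
      ∏ i, (X.presheaf.germ U η hU (τ.app U (a i) : Γ(X, U)) : X.presheaf.stalk η) =
        ∏ i, (X.presheaf.germ U η hU (τ'.app U (a i) : Γ(X, U)) : X.presheaf.stalk η) := by
    intro U hU a
    have h1 : (X.presheaf.germ U η hU).hom (∏ i, (τ.app U (a i) : Γ(X, U))) =
        (X.presheaf.germ U η hU).hom (∏ i, (τ'.app U (a i) : Γ(X, U))) :=
      congrArg _ (hS U a)
    have e1 : ∀ (σ : F ⟶ Coh.structureModule X),
        (X.presheaf.germ U η hU).hom (∏ i, (σ.app U (a i) : Γ(X, U))) =
          ∏ i, (X.presheaf.germ U η hU).hom (σ.app U (a i) : Γ(X, U)) :=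
      fun σ => map_prod (X.presheaf.germ U η hU).hom
        (id (fun i => σ.app U (a i)) : Fin d → Γ(X, U)) Finset.univ
    exact (e1 τ).symm.trans (h1.trans (e1 τ'))
  have hpow : ∀ (U : X.Opens) (hU : η ∈ U) (a : Γ(F, U)),
      (X.presheaf.germ U η hU (τ.app U a : Γ(X, U)) : X.presheaf.stalk η) ^ d =
        (X.presheaf.germ U η hU (τ'.app U a : Γ(X, U)) : X.presheaf.stalk η) ^ d := by
    intro U hU a
    have h1 := hprod U hU (fun _ => a)
    simpa using h1
  by_cases hcase : ∀ (U : X.Opens) (hU : η ∈ U) (a : Γ(F, U)),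
      (X.presheaf.germ U η hU (τ.app U a : Γ(X, U)) : X.presheaf.stalk η) = 0
  · refine ⟨1, one_pow d, fun U hU a => ?_⟩
    have h1 := hpow U hU a
    rw [hcase U hU a, zero_pow hd0.ne'] at h1
    rw [hcase U hU a, mul_zero]
    exact pow_eq_zero_iff hd0.ne' |>.mp h1.symm
  · push Not at hcase
    obtain ⟨U₀, hU₀, a₀, hg₀⟩ := hcase
    obtain ⟨u, hu⟩ := hη.mul_inv_cancel hg₀
    obtain ⟨e, rfl⟩ := Nat.exists_eq_succ_of_ne_zero hd0.ne'
    set g₀ : X.presheaf.stalk η := X.presheaf.germ U₀ η hU₀ (τ.app U₀ a₀ : Γ(X, U₀)) with hg₀def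
    set g₀' : X.presheaf.stalk η := X.presheaf.germ U₀ η hU₀ (τ'.app U₀ a₀ : Γ(X, U₀)) with hg₀'def
    have hgg : g₀ ^ (e + 1) = g₀' ^ (e + 1) := hpow U₀ hU₀ a₀
    have hζ : (g₀' * u) ^ (e + 1) = 1 := by
      rw [mul_pow, ← hgg, ← mul_pow, hu, one_pow]
    obtain ⟨ξ, hξ⟩ := mem_range_of_pow_eq_one (k := k) (g₀' * u) (e + 1) hd0 hζ
    have hξ' : Curv2.stalkMap k X η ξ = g₀' * u := hξ
    refine ⟨ξ, ?_, fun U hU a => ?_⟩
    · apply (Curv2.stalkMap k X η).injective
      rw [map_pow, hξ', hζ, map_one]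
    · have hV : η ∈ U ⊓ U₀ := ⟨hU, hU₀⟩
      let b : Fin (e + 1) → Γ(F, U ⊓ U₀) :=
        Fin.cons (F.presheaf.map (homOfLE (inf_le_left : U ⊓ U₀ ≤ U)).op a)
          (fun _ => F.presheaf.map (homOfLE (inf_le_right : U ⊓ U₀ ≤ U₀)).op a₀)
      have h1 := hprod (U ⊓ U₀) hV b
      rw [Fin.prod_univ_succ, Fin.prod_univ_succ] at h1
      simp only [b, Fin.cons_zero, Fin.cons_succ, Finset.prod_const, Finset.card_univ,
        Fintype.card_fin] at h1
      rw [hres τ U (U ⊓ U₀) inf_le_left hV a, hres τ' U (U ⊓ U₀) inf_le_left hV a,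
        hres τ U₀ (U ⊓ U₀) inf_le_right hV a₀, hres τ' U₀ (U ⊓ U₀) inf_le_right hV a₀] at h1
      set x : X.presheaf.stalk η := X.presheaf.germ U η hU (τ.app U a : Γ(X, U)) with hxdef
      set x' : X.presheaf.stalk η := X.presheaf.germ U η hU (τ'.app U a : Γ(X, U)) with hx'def
      have e1 : x * g₀ ^ e = x' * g₀' ^ e := h1
      have e2 : x = x' * (g₀' * u) ^ e := by
        calc x = x * (g₀ * u) ^ e := by rw [hu, one_pow, mul_one]
          _ = (x * g₀ ^ e) * u ^ e := by ring
          _ = (x' * g₀' ^ e) * u ^ e := by rw [e1]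
          _ = x' * (g₀' * u) ^ e := by ring
      rw [hξ']
      calc x' = x' * (g₀' * u) ^ (e + 1) := by rw [hζ, mul_one]
        _ = (g₀' * u) * (x' * (g₀' * u) ^ e) := by ring
        _ = (g₀' * u) * x := by rw [← e2]

end Groth.Agent.S18912
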