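import Groth.Statements.S18916
import Groth.Agent.Lib.Helper7.TFGen
import Groth.Agent.Lib.Helper7.TFDense
import Groth.Agent.Lib.Helper22.HomShStalk
import Groth.Agent.Lib.Helper9.StalkUnit
import Groth.Agent.Lib.Helper23.CurveD

set_option autoImplicit false
universe u
open CategoryTheory CategoryTheory.Limits AlgebraicGeometry
open TFNodal

namespace Groth.Agent.S18916

/-- Let k be an algebraically closed field of characteristic zero, X a reduced proper curve over k (a
proper k-scheme of dimension one) without isolated points (no closed point is open, i.e. X is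
one-dimensional at every point) and F a coherent O_X-module. Then the dual 𝓗om(F, O_X) is torsion
free: no closed point of X is an associated point of it. -/
theorem result
    (k : Type u) [Field k] [IsAlgClosed k] [CharZero k]
    (X : Scheme.{u}) [X.Over (Spec (CommRingCat.of k))] [IsProper (X ↘ Spec (CommRingCat.of k))]
    [AlgebraicGeometry.IsReduced X] (hdim : topologicalKrullDim X = 1)
    (hpure : ∀ x : X, IsClosed ({x} : Set X) → ¬ IsOpen ({x} : Set X))
    (F : X.Modules) (hF : Coh.IsCoh F) (x : X) (hx : IsClosed ({x} : Set X)) :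
    ¬ Curv2.IsAssPoint (RefHull.dual F) x := by
  classical
  haveI : IsNoetherian X := Groth.Agent.Lib.Helper23.Curve.isNoetherian_of_isProper k X
  intro hass
  have hinj := Groth.Agent.Lib.Helper22.HomShStalk.evalStalk_injective F (Coh.structureModule X)
    hF.2 x
  have h1 : IsAssociatedPrime (IsLocalRing.maximalIdeal (X.presheaf.stalk x))
      (RefHull.StalkHom F (Coh.structureModule X) x) :=
    IsAssociatedPrime.map_of_injective (f := RefHull.evalStalk F (Coh.structureModule X) x)
      hass hinj
  obtain ⟨hprime, θ, hθ⟩ := isAssociatedPrime_iff.mp h1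
  have hθ0 : θ ≠ 0 := by
    rintro rfl
    have h2 : (1 : X.presheaf.stalk x) ∈ IsLocalRing.maximalIdeal (X.presheaf.stalk x) := by
      rw [hθ, Submodule.mem_colon_singleton]
      simp
    exact (IsLocalRing.maximalIdeal.isMaximal _).ne_top ((Ideal.eq_top_iff_one _).mpr h2)
  obtain ⟨v, hv⟩ : ∃ v, θ v ≠ 0 := by
    by_contra hcon
    push Not at hcon
    exact hθ0 (LinearMap.ext hcon)
  let u : ((Coh.structureModule X).presheaf.stalk x) →ₗ[X.presheaf.stalk x]
      (X.presheaf.stalk x) :=
    { toFun := Groth.Agent.Lib.Helper9.StalkUnit.unitStalkHom x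
      map_add' := map_add _
      map_smul' := fun r a => by
        rw [Groth.Agent.Lib.Helper9.StalkUnit.unitStalkHom_smul]
        rfl }
  have hu : Function.Injective u := Groth.Agent.Lib.Helper9.StalkUnit.unitStalkHom_injective x
  have hw : u (θ v) ≠ 0 := fun h => hv (hu (by rw [h, map_zero]))
  have h3 : IsAssociatedPrime (IsLocalRing.maximalIdeal (X.presheaf.stalk x))
      (X.presheaf.stalk x) := by
    rw [isAssociatedPrime_iff]
    refine ⟨hprime, u (θ v), ?_⟩
    ext r
    rw [Submodule.mem_colon_singleton, Submodule.mem_bot]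
    constructor
    · intro hr
      have h4 : r • θ = 0 := by
        have h5 := hr
        rw [hθ, Submodule.mem_colon_singleton, Submodule.mem_bot] at h5
        exact h5
      rw [← map_smul, ← LinearMap.smul_apply, h4, LinearMap.zero_apply, map_zero]
    · intro hr
      by_contra hnm
      have hunit : IsUnit r := IsLocalRing.notMem_maximalIdeal.mp hnm
      obtain ⟨s, hs⟩ := hunit.exists_left_inv
      apply hw
      calc u (θ v) = (s * r) • u (θ v) := by rw [hs, one_smul]
        _ = s • (r • u (θ v)) := mul_smul _ _ _
        _ = 0 := by rw [hr, smul_zero]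
  have hfield := Groth.Agent.Lib.Helper7.TFGen.isField_of_isAssociatedPrime_maximalIdeal
    (M := X.presheaf.stalk x) h3
  apply hpure x hx
  by_contra hno
  have hdense : Dense (({x} : Set X)ᶜ) := dense_compl_singleton_iff_not_open.mpr hno
  let U : X.Opens := ⟨({x} : Set X)ᶜ, hx.isOpen_compl⟩
  have hmem := Groth.Agent.Lib.Helper7.TFGen.mem_of_dense_of_isField x hfield U hdense
  exact hmem rfl

end Groth.Agent.S18916
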