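import Groth.Statements.S18928
import Mathlib

set_option autoImplicit false
universe u
open DPow

namespace Groth.Agent.S18928

/-- Let B be a commutative ring, I an ideal of B with a divided power structure, p a prime, r a natural
number, b an element of B and δ an element of I. Then (b + δ)^(p^r) − b^(p^r) lies in the ideal p^r
I. (The source states this for a divided power thickening over the Witt vectors of length n and 0 ≤
r ≤ n; neither restriction is used.) -/
theorem result {B : Type u} [CommRing B] {I : Ideal B}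
    (hI : DividedPowers I) (p : ℕ) [Fact p.Prime] (r : ℕ) (b δ : B) (hδ : δ ∈ I) :
    (b + δ) ^ (p ^ r) - b ^ (p ^ r) ∈ Ideal.span {((p : B) ^ r)} * I := by
  have hn : 1 ≤ p ^ r := Nat.one_le_pow _ _ (Fact.out : p.Prime).pos
  obtain ⟨n', hn'⟩ : ∃ n', p ^ r = n' + 1 := ⟨p ^ r - 1, by omega⟩
  have hexp : (b + δ) ^ (p ^ r) - b ^ (p ^ r) =
      ∑ m ∈ Finset.range (p ^ r), b ^ m * δ ^ (p ^ r - m) * ((p ^ r).choose m : B) := by
    rw [add_pow, Finset.sum_range_succ]
    simp
  rw [hexp]
  apply Ideal.sum_mem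
  intro m hm
  rw [Finset.mem_range] at hm
  obtain ⟨k', hk'⟩ : ∃ k', p ^ r - m = k' + 1 := ⟨p ^ r - m - 1, by omega⟩
  have hchoose : (Nat.choose (p ^ r) m) * (k' + 1).factorial = (p ^ r) * Nat.descFactorial n' k' := by
    rw [← Nat.choose_symm hm.le, hk', mul_comm, ← Nat.descFactorial_eq_factorial_mul_choose, hn',
      Nat.succ_descFactorial_succ]
  have hδ' : δ ^ (k' + 1) = ((k' + 1).factorial : B) * hI.dpow (k' + 1) δ :=
    (hI.factorial_mul_dpow_eq_pow hδ).symm
  rw [hk', hδ']
  have h2 : (((p ^ r).choose m : ℕ) : B) * ((k' + 1).factorial : B) =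
      (p : B) ^ r * (Nat.descFactorial n' k' : B) := by
    exact_mod_cast congrArg (Nat.cast : ℕ → B) hchoose
  have h3 : b ^ m * (((k' + 1).factorial : B) * hI.dpow (k' + 1) δ) * ((p ^ r).choose m : B) =
      ((p : B) ^ r) * ((Nat.descFactorial n' k' : B) * b ^ m * hI.dpow (k' + 1) δ) := by
    linear_combination (b ^ m * hI.dpow (k' + 1) δ) * h2
  rw [h3]
  apply Ideal.mul_mem_mul (Ideal.mem_span_singleton_self _)
  apply Ideal.mul_mem_left
  exact hI.dpow_mem (Nat.succ_ne_zero _) hδ

end Groth.Agent.S18928
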