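import Groth.Statements.S18929
import Mathlib
import Groth.Agent.S18928

set_option autoImplicit false
universe u
open DPow

namespace Groth.Agent.S18929

/-- Let p be a prime, n a natural number, B a commutative ring in which p^n = 0, and I an ideal of B
equipped with divided powers. There is a ring homomorphism θ from the truncated Witt vectors
W_n(B/I) to B such that, for every Witt vector x over B, θ applied to the truncation of the image of
x in W_n(B/I) equals Σ_{i<n} p^i x_i^(p^(n−i)); in particular this sum depends only on the residues
of x_0, …, x_{n−1} modulo I. (The source works with a divided power thickening of an algebra over a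
perfect field and also checks linearity over the Witt vectors of that field; only the ring
homomorphism is asserted here. θ is unique, the truncation-of-reduction map being surjective.) -/
theorem result (p : ℕ) [Fact p.Prime] (n : ℕ)
    {B : Type u} [CommRing B] (hp : (p : B) ^ n = 0) {I : Ideal B} (hI : DividedPowers I) :
    ∃ θ : TruncatedWittVector p n (B ⧸ I) →+* B, ∀ x : WittVector p B, θ (WittVector.truncate n (WittVector.map (Ideal.Quotient.mk I) x)) =
        ∑ i : Fin n, (p : B) ^ (i : ℕ) * (x.coeff i) ^ (p ^ (n - i)) := by
  classical
  have hghost : ∀ x : WittVector p B, WittVector.ghostComponent n x =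
      ∑ i : Fin n, (p : B) ^ (i : ℕ) * (x.coeff i) ^ (p ^ (n - i)) := by
    intro x
    rw [WittVector.ghostComponent_apply, wittPolynomial_eq_sum_C_mul_X_pow, map_sum,
      Finset.sum_range_succ, Finset.sum_range]
    have hlast : (MvPolynomial.aeval x.coeff)
        (MvPolynomial.C ((p : ℤ) ^ n) * MvPolynomial.X n ^ p ^ (n - n)) = 0 := by
      rw [map_mul, MvPolynomial.aeval_C]
      have : (algebraMap ℤ B) ((p : ℤ) ^ n) = (p : B) ^ n := by simp
      rw [this, hp, zero_mul]
    rw [hlast, add_zero]
    apply Finset.sum_congr rfl
    intro i _
    simp [map_mul, map_pow, MvPolynomial.aeval_C, MvPolynomial.aeval_X]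
  let π : WittVector p B →+* TruncatedWittVector p n (B ⧸ I) :=
    (WittVector.truncate n).comp (WittVector.map (Ideal.Quotient.mk I))
  have hπ : Function.Surjective π := by
    intro y
    obtain ⟨y1, rfl⟩ := WittVector.truncate_surjective (p := p) n _ y
    obtain ⟨y2, rfl⟩ := WittVector.map_surjective (p := p) (Ideal.Quotient.mk I)
      Ideal.Quotient.mk_surjective y1
    exact ⟨y2, rfl⟩
  have hker : RingHom.ker π ≤ RingHom.ker (WittVector.ghostComponent (p := p) (R := B) n) := by
    intro x hx
    rw [RingHom.mem_ker] at hx ⊢
    have hxi : ∀ i : Fin n, x.coeff i ∈ I := by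
      intro i
      have h1 := congrArg (fun t => TruncatedWittVector.coeff i t) hx
      simp only [π, RingHom.comp_apply, WittVector.coeff_truncate, WittVector.map_coeff,
        TruncatedWittVector.coeff_zero] at h1
      exact Ideal.Quotient.eq_zero_iff_mem.mp h1
    rw [hghost]
    apply Finset.sum_eq_zero
    intro i _
    have h1 := Groth.Agent.S18928.result hI p (n - i) 0 (x.coeff i) (hxi i)
    rw [zero_add, zero_pow (pow_ne_zero _ (Fact.out : p.Prime).ne_zero), sub_zero] at h1
    obtain ⟨z, _, hz⟩ := Ideal.mem_span_singleton_mul.mp h1
    rw [← hz, ← mul_assoc, ← pow_add]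
    have : (i : ℕ) + (n - i) = n := by have := i.2; omega
    rw [this, hp, zero_mul]
  refine ⟨RingHom.liftOfSurjective π hπ ⟨WittVector.ghostComponent n, hker⟩, ?_⟩
  intro x
  have h1 := RingHom.liftOfSurjective_comp_apply π hπ ⟨WittVector.ghostComponent n, hker⟩ x
  rw [← hghost]
  exact h1

end Groth.Agent.S18929
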