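import Groth.Statements.S18930
import Mathlib

set_option autoImplicit false
universe u
open DPow

namespace Groth.Agent.S18930

/-- Let p be a prime, n ≥ 1, B a commutative ring with p^n = 0 and A = B/pB. Let θ : W_n(A) → B be the
ring homomorphism which sends the reduction of a Witt vector (x_0, …, x_{n−1}) over B to Σ_{i<n} p^i
x_i^(p^(n−i)), let J_n be its kernel and let I_n be the set of a in W_n(A) whose zeroth component
satisfies a_0^(p^n) = 0. Then J_n + (p) ⊆ I_n. (In the source B is the ring of global sections of a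
scheme over the Witt vectors of length n of a perfect field.) -/
theorem result (p : ℕ) [Fact p.Prime] (n : ℕ) (hn : 0 < n)
    {B : Type u} [CommRing B] (hp : (p : B) ^ n = 0)
    (θ : TruncatedWittVector p n (B ⧸ (Ideal.span {(p : B)})) →+* B)
    (hθ : ∀ x : WittVector p B, θ (WittVector.truncate n (WittVector.map (Ideal.Quotient.mk (Ideal.span {(p : B)})) x)) =
        ∑ i : Fin n, (p : B) ^ (i : ℕ) * (x.coeff i) ^ (p ^ (n - i)))
    (a : TruncatedWittVector p n (B ⧸ (Ideal.span {(p : B)})))
    (ha : a ∈ RingHom.ker θ ⊔ Ideal.span {(p : TruncatedWittVector p n (B ⧸ (Ideal.span {(p : B)})))}) :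
    (TruncatedWittVector.coeff ⟨0, hn⟩ a) ^ (p ^ n) = 0 := by
  classical
  obtain ⟨j, hj, w', hw', rfl⟩ := Submodule.mem_sup.mp ha
  obtain ⟨w, rfl⟩ := Ideal.mem_span_singleton'.mp hw'
  obtain ⟨jA, rfl⟩ := WittVector.truncate_surjective (p := p) n _ j
  obtain ⟨x, rfl⟩ := WittVector.map_surjective (p := p) (Ideal.Quotient.mk (Ideal.span {(p : B)}))
    Ideal.Quotient.mk_surjective jA
  obtain ⟨wA, rfl⟩ := WittVector.truncate_surjective (p := p) n _ w
  have hθx := hθ x
  rw [RingHom.mem_ker.mp hj] at hθx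
  -- coefficient 0
  have hp0 : ((p : WittVector p (B ⧸ Ideal.span {(p : B)}))).coeff 0 = 0 := by
    have h1 : WittVector.constantCoeff ((p : WittVector p (B ⧸ Ideal.span {(p : B)}))) =
        ((p : ℕ) : B ⧸ Ideal.span {(p : B)}) := map_natCast _ p
    rw [WittVector.constantCoeff_apply] at h1
    rw [h1]
    have h3 : ((p : ℕ) : B ⧸ Ideal.span {(p : B)}) = Ideal.Quotient.mk (Ideal.span {(p : B)}) (p : B) := by
      rw [map_natCast]
    rw [h3, Ideal.Quotient.eq_zero_iff_mem]
    exact Ideal.mem_span_singleton_self _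
  have hcoeff : TruncatedWittVector.coeff ⟨0, hn⟩
      (WittVector.truncate n (WittVector.map (Ideal.Quotient.mk (Ideal.span {(p : B)})) x) +
        WittVector.truncate n wA * (p : TruncatedWittVector p n (B ⧸ Ideal.span {(p : B)}))) =
      Ideal.Quotient.mk (Ideal.span {(p : B)}) (x.coeff 0) := by
    have h1 : (WittVector.truncate n (WittVector.map (Ideal.Quotient.mk (Ideal.span {(p : B)})) x) +
        WittVector.truncate n wA * (p : TruncatedWittVector p n (B ⧸ Ideal.span {(p : B)}))) =
        WittVector.truncate n (WittVector.map (Ideal.Quotient.mk (Ideal.span {(p : B)})) x +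
          wA * (p : WittVector p (B ⧸ Ideal.span {(p : B)}))) := by
      rw [map_add, map_mul, map_natCast]
    rw [h1, WittVector.coeff_truncate]
    change (WittVector.map (Ideal.Quotient.mk (Ideal.span {(p : B)})) x +
          wA * (p : WittVector p (B ⧸ Ideal.span {(p : B)}))).coeff 0 = _
    rw [WittVector.add_coeff_zero, WittVector.mul_coeff_zero, hp0, mul_zero, add_zero,
      WittVector.map_coeff]
  rw [hcoeff, ← map_pow, Ideal.Quotient.eq_zero_iff_mem]
  -- extract from the sum
  obtain ⟨n', rfl⟩ : ∃ n', n = n' + 1 := ⟨n - 1, by omega⟩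
  rw [Fin.sum_univ_succ] at hθx
  simp only [Fin.val_zero, pow_zero, one_mul, Nat.sub_zero, Fin.val_succ] at hθx
  have h5 : x.coeff 0 ^ p ^ (n' + 1) =
      -(∑ i : Fin n', (p : B) ^ ((i : ℕ) + 1) * x.coeff ((i : ℕ) + 1) ^ p ^ (n' + 1 - ((i : ℕ) + 1))) := by
    rw [eq_neg_iff_add_eq_zero]
    exact hθx.symm
  rw [h5]
  apply Submodule.neg_mem
  apply Ideal.sum_mem
  intro i _
  rw [pow_succ', mul_assoc]
  exact Ideal.mul_mem_right _ _ (Ideal.mem_span_singleton_self _)

end Groth.Agent.S18930
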