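import Groth.Statements.S18931
import Mathlib

set_option autoImplicit false
universe u
open DPow

namespace Groth.Agent.S18931

/-- Let p be a prime, n ≥ 1, B a commutative ring with p^n = 0 and A = B/pB, and assume that the p-th
power map of A is surjective. Let θ : W_n(A) → B be the ring homomorphism which sends the reduction
of a Witt vector (x_0, …, x_{n−1}) over B to Σ_{i<n} p^i x_i^(p^(n−i)). Then every a in W_n(A) with
a_0^(p^n) = 0 lies in ker θ + (p); together with the reverse inclusion, ker θ + (p) is exactly the
set of such a. (In the source B is the ring of global sections of a scheme over the Witt vectors of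
length n of a perfect field. The printed argument subtracts a single correction term, which suffices
for n ≤ 2; in general one corrects the components one at a time.) -/
theorem result (p : ℕ) [Fact p.Prime]
    (n : ℕ) (hn : 0 < n) {B : Type u} [CommRing B] (hp : (p : B) ^ n = 0)
    (hF : Function.Surjective (fun y : B ⧸ (Ideal.span {(p : B)}) => y ^ p))
    (θ : TruncatedWittVector p n (B ⧸ (Ideal.span {(p : B)})) →+* B)
    (hθ : ∀ x : WittVector p B, θ (WittVector.truncate n (WittVector.map (Ideal.Quotient.mk (Ideal.span {(p : B)})) x)) =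
        ∑ i : Fin n, (p : B) ^ (i : ℕ) * (x.coeff i) ^ (p ^ (n - i)))
    (a : TruncatedWittVector p n (B ⧸ (Ideal.span {(p : B)}))) (ha : (TruncatedWittVector.coeff ⟨0, hn⟩ a) ^ (p ^ n) = 0) :
    a ∈ RingHom.ker θ ⊔ Ideal.span {(p : TruncatedWittVector p n (B ⧸ (Ideal.span {(p : B)})))} := by
  classical
  rcases subsingleton_or_nontrivial (B ⧸ (Ideal.span {(p : B)})) with hsub | hnt
  · have h0 : a = 0 := by
      ext i
      exact Subsingleton.elim _ _
    rw [h0]
    exact Submodule.zero_mem _
  have hpnu : (p : B) ∈ nonunits B := by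
    intro hu
    have h1 : Ideal.span {(p : B)} = ⊤ := Ideal.span_singleton_eq_top.mpr hu
    have h3 : Subsingleton (B ⧸ (Ideal.span {(p : B)})) := Ideal.Quotient.subsingleton_iff.mpr h1
    exact not_subsingleton _ h3
  haveI : CharP (B ⧸ (Ideal.span {(p : B)})) p := CharP.quotient B p hpnu
  obtain ⟨aA, rfl⟩ := WittVector.truncate_surjective (p := p) n _ a
  obtain ⟨xh, rfl⟩ := WittVector.map_surjective (p := p) (Ideal.Quotient.mk (Ideal.span {(p : B)}))
    Ideal.Quotient.mk_surjective aA
  rw [WittVector.coeff_truncate] at ha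
  change (WittVector.map (Ideal.Quotient.mk (Ideal.span {(p : B)})) xh).coeff 0 ^ p ^ n = 0 at ha
  rw [WittVector.map_coeff, ← map_pow, Ideal.Quotient.eq_zero_iff_mem] at ha
  obtain ⟨y₁, hy₁⟩ := Ideal.mem_span_singleton'.mp ha
  -- iterated Frobenius surjectivity
  have hFm : ∀ m : ℕ, ∀ y : B, ∃ z y' : B, y = z ^ (p ^ m) + (p : B) * y' := by
    intro m
    have hsurj : Function.Surjective (fun w : B ⧸ (Ideal.span {(p : B)}) => w ^ (p ^ m)) := by
      induction m with
      | zero =>
        intro w
        exact ⟨w, by simp⟩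
      | succ m ih =>
        intro w
        obtain ⟨w1, hw1⟩ := ih w
        obtain ⟨w2, hw2⟩ := hF w1
        refine ⟨w2, ?_⟩
        change w2 ^ (p ^ (m + 1)) = w
        change w1 ^ (p ^ m) = w at hw1
        change w2 ^ p = w1 at hw2
        rw [pow_succ', pow_mul, hw2, hw1]
    intro y
    obtain ⟨w, hw⟩ := hsurj (Ideal.Quotient.mk _ y)
    obtain ⟨z, rfl⟩ := Ideal.Quotient.mk_surjective w
    change (Ideal.Quotient.mk _ z) ^ (p ^ m) = _ at hw
    rw [← map_pow, eq_comm, Ideal.Quotient.mk_eq_mk_iff_sub_mem] at hw
    obtain ⟨y', hy'⟩ := Ideal.mem_span_singleton'.mp hw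
    refine ⟨z, y', ?_⟩
    rw [mul_comm, hy']
    ring
  have hseq : ∀ m : ℕ, 1 ≤ m → m ≤ n → ∃ (x : ℕ → B) (y' : B), x 0 = xh.coeff 0 ∧
      ∑ i ∈ Finset.range m, (p : B) ^ i * (x i) ^ (p ^ (n - i)) = (p : B) ^ m * y' := by
    intro m hm1
    induction m, hm1 using Nat.le_induction with
    | base =>
      intro _
      refine ⟨fun _ => xh.coeff 0, y₁, rfl, ?_⟩
      rw [Finset.sum_range_one, pow_zero, one_mul, Nat.sub_zero, pow_one, ← hy₁, mul_comm]
    | succ m hm1 ih =>
      intro hm
      obtain ⟨x, y', hx0, hsum⟩ := ih (by omega)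
      obtain ⟨z, y'', hz⟩ := hFm (n - m) (-y')
      refine ⟨Function.update x m z, -y'', ?_, ?_⟩
      · rw [Function.update_of_ne (by omega)]
        exact hx0
      · rw [Finset.sum_range_succ, Function.update_self]
        have hsum' : ∑ i ∈ Finset.range m, (p : B) ^ i * (Function.update x m z i) ^ (p ^ (n - i)) =
            ∑ i ∈ Finset.range m, (p : B) ^ i * (x i) ^ (p ^ (n - i)) := by
          apply Finset.sum_congr rfl
          intro i hi
          rw [Function.update_of_ne (by have := Finset.mem_range.mp hi; omega)]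
        rw [hsum', hsum]
        linear_combination (-(p : B) ^ m) * hz
  obtain ⟨x, y', hx0, hsum⟩ := hseq n hn le_rfl
  rw [hp, zero_mul] at hsum
  -- the element j of the kernel
  have hj : WittVector.truncate n (WittVector.map (Ideal.Quotient.mk (Ideal.span {(p : B)}))
      (WittVector.mk p x)) ∈ RingHom.ker θ := by
    rw [RingHom.mem_ker, hθ, ← hsum, Finset.sum_range]
    rfl
  -- the difference
  set dh : WittVector p (B ⧸ (Ideal.span {(p : B)})) :=
    WittVector.map (Ideal.Quotient.mk (Ideal.span {(p : B)})) xh -
      WittVector.map (Ideal.Quotient.mk (Ideal.span {(p : B)})) (WittVector.mk p x) with hdh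
  have hd0 : dh.coeff 0 = 0 := by
    have h1 : WittVector.constantCoeff dh =
        WittVector.constantCoeff (WittVector.map (Ideal.Quotient.mk (Ideal.span {(p : B)})) xh) -
        WittVector.constantCoeff (WittVector.map (Ideal.Quotient.mk (Ideal.span {(p : B)}))
          (WittVector.mk p x)) := map_sub _ _ _
    simp only [WittVector.constantCoeff_apply, WittVector.map_coeff] at h1
    rw [h1]
    change _ - (Ideal.Quotient.mk (Ideal.span {(p : B)})) (x 0) = 0
    rw [hx0, sub_self]
  have hdV : dh = WittVector.verschiebung (dh.shift 1) := by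
    have h1 := WittVector.eq_iterate_verschiebung (x := dh) (n := 1)
      (fun i hi => by
        have : i = 0 := by omega
        rw [this]
        exact hd0)
    simpa using h1
  let e : WittVector p (B ⧸ (Ideal.span {(p : B)})) :=
    WittVector.mk p (fun i => Classical.choose (hF (dh.coeff (1 + i))))
  have hFe : dh.shift 1 = WittVector.frobenius e := by
    ext i
    rw [WittVector.coeff_frobenius_charP, WittVector.shift_coeff]
    exact (Classical.choose_spec (hF (dh.coeff (1 + i)))).symm
  have hdp : dh = e * (p : WittVector p (B ⧸ (Ideal.span {(p : B)}))) := by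
    rw [hdV, hFe, WittVector.verschiebung_frobenius]
  refine Submodule.mem_sup.mpr ⟨_, hj, WittVector.truncate n e * (p : TruncatedWittVector p n _),
    Ideal.mem_span_singleton'.mpr ⟨WittVector.truncate n e, rfl⟩, ?_⟩
  have h5 : WittVector.truncate n e * (p : TruncatedWittVector p n (B ⧸ (Ideal.span {(p : B)}))) =
      WittVector.truncate n dh := by
    rw [hdp, map_mul, map_natCast]
  rw [h5, ← map_add, hdh]
  congr 1
  abel

end Groth.Agent.S18931
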