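import Groth.Statements.S18932
import Mathlib

set_option autoImplicit false
universe u
open DPow

namespace Groth.Agent.S18932

/-- Let p be a prime, k a perfect field of characteristic p, n a natural number and A a commutative
W_n(k)-algebra, W_n(k) the truncated Witt vectors, which is flat over W_n(k) and whose reduction
A/pA has surjective p-th power map. Let θ : W_n(A/pA) → A be the ring homomorphism which sends the
reduction of a Witt vector (x_0, …, x_{n−1}) over A to Σ_{i<n} p^i x_i^(p^(n−i)). Then θ is
surjective, so A is the quotient of W_n(A/pA) by the kernel of θ. (This is the step of the source's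
proposition establishing that Spec of the divided power envelope of that kernel is a thickening of
Spec A; the assertion that it is a final object of the crystalline site is not stated here.) -/
theorem result (p : ℕ) [Fact p.Prime]
    (k : Type u) [Field k] [CharP k p] [PerfectRing k p] (n : ℕ)
    (A : Type u) [CommRing A] [Algebra (TruncatedWittVector p n k) A] [Module.Flat (TruncatedWittVector p n k) A]
    (hF : Function.Surjective (fun y : A ⧸ (Ideal.span {(p : A)}) => y ^ p))
    (θ : TruncatedWittVector p n (A ⧸ (Ideal.span {(p : A)})) →+* A)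
    (hθ : ∀ x : WittVector p A, θ (WittVector.truncate n (WittVector.map (Ideal.Quotient.mk (Ideal.span {(p : A)})) x)) =
        ∑ i : Fin n, (p : A) ^ (i : ℕ) * (x.coeff i) ^ (p ^ (n - i))) :
    Function.Surjective θ := by
  classical
  -- p^n = 0 in A
  have hpn : (p : A) ^ n = 0 := by
    have h1 : ((p : TruncatedWittVector p n k)) ^ n = 0 := by
      have h3 : ((p : TruncatedWittVector p n k)) ^ n =
          WittVector.truncate n ((p : WittVector p k) ^ n) := by
        rw [map_pow, map_natCast]
      rw [h3]
      ext i
      rw [WittVector.coeff_truncate, TruncatedWittVector.coeff_zero]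
      have hne : (i : ℕ) ≠ n := by have := i.2; omega
      exact WittVector.coeff_p_pow_eq_zero p k hne
    have h4 := congrArg (algebraMap (TruncatedWittVector p n k) A) h1
    rw [map_pow, map_natCast, map_zero] at h4
    exact h4
  -- iterated Frobenius surjectivity
  have hFm : ∀ m : ℕ, ∀ y : A, ∃ z y' : A, y = z ^ (p ^ m) + (p : A) * y' := by
    intro m
    have hsurj : Function.Surjective (fun w : A ⧸ (Ideal.span {(p : A)}) => w ^ (p ^ m)) := by
      induction m with
      | zero =>
        intro w
        exact ⟨w, by simp⟩
      | succ m ih =>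
        intro w
        obtain ⟨w1, hw1⟩ := ih w
        obtain ⟨w2, hw2⟩ := hF w1
        refine ⟨w2, ?_⟩
        change w2 ^ (p ^ (m + 1)) = w
        change w1 ^ (p ^ m) = w at hw1
        change w2 ^ p = w1 at hw2
        rw [pow_succ', pow_mul, hw2, hw1]
    intro y
    obtain ⟨w, hw⟩ := hsurj (Ideal.Quotient.mk _ y)
    obtain ⟨z, rfl⟩ := Ideal.Quotient.mk_surjective w
    change (Ideal.Quotient.mk _ z) ^ (p ^ m) = _ at hw
    rw [← map_pow, eq_comm, Ideal.Quotient.mk_eq_mk_iff_sub_mem] at hw
    obtain ⟨y', hy'⟩ := Ideal.mem_span_singleton'.mp hw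
    refine ⟨z, y', ?_⟩
    rw [mul_comm, hy']
    ring
  -- build the sequence
  have hseq : ∀ m : ℕ, m ≤ n → ∀ y : A, ∃ (x : ℕ → A) (y' : A),
      y = ∑ i ∈ Finset.range m, (p : A) ^ i * (x i) ^ (p ^ (n - i)) + (p : A) ^ m * y' := by
    intro m
    induction m with
    | zero =>
      intro _ y
      exact ⟨fun _ => 0, y, by simp⟩
    | succ m ih =>
      intro hm y
      obtain ⟨x, y', hy⟩ := ih (by omega) y
      obtain ⟨z, y'', hz⟩ := hFm (n - m) y'
      refine ⟨Function.update x m z, y'', ?_⟩
      rw [Finset.sum_range_succ, Function.update_self]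
      have hsum : ∑ i ∈ Finset.range m, (p : A) ^ i * (Function.update x m z i) ^ (p ^ (n - i)) =
          ∑ i ∈ Finset.range m, (p : A) ^ i * (x i) ^ (p ^ (n - i)) := by
        apply Finset.sum_congr rfl
        intro i hi
        rw [Function.update_of_ne (by have := Finset.mem_range.mp hi; omega)]
      rw [hsum, hy, hz]
      ring
  intro y
  obtain ⟨x, y', hy⟩ := hseq n le_rfl y
  rw [hpn, zero_mul, add_zero] at hy
  refine ⟨WittVector.truncate n (WittVector.map (Ideal.Quotient.mk (Ideal.span {(p : A)}))
    (WittVector.mk p x)), ?_⟩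
  rw [hθ, hy, Finset.sum_range]
  rfl

end Groth.Agent.S18932
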