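import Groth.Statements.S18936
import Mathlib

set_option autoImplicit false
universe u
open CAlg

namespace Groth.Agent.S18936

/-- Let A be a Noetherian commutative ring, q a prime ideal of A and f an element of A whose image in
the localization A_q is a non-zero-divisor. Then there is an element b of A not in q such that the
image of f in A[1/b] is a non-zero-divisor. -/
theorem result {A : Type u} [CommRing A] [IsNoetherianRing A]
    (q : Ideal A) [q.IsPrime] (f : A)
    (hf : algebraMap A (Localization.AtPrime q) f ∈ nonZeroDivisors (Localization.AtPrime q)) :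
    ∃ b : A, b ∉ q ∧ algebraMap A (Localization.Away b) f ∈ nonZeroDivisors (Localization.Away b) := by
  classical
  -- K = annihilator of f
  let K : Ideal A := LinearMap.ker (LinearMap.mul A A f)
  have hKmem : ∀ x, x ∈ K ↔ f * x = 0 := by
    intro x
    simp only [K, LinearMap.mem_ker, LinearMap.mul_apply_apply]
  obtain ⟨S, hS⟩ : K.FG := IsNoetherian.noetherian K
  have hex : ∀ a ∈ S, ∃ s : A, s ∉ q ∧ s * a = 0 := by
    intro a ha
    have haK : a ∈ K := by
      rw [← hS]
      exact Submodule.subset_span ha
    rw [hKmem] at haK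
    have h1 : algebraMap A (Localization.AtPrime q) a * algebraMap A (Localization.AtPrime q) f = 0 := by
      rw [← map_mul, mul_comm, haK, map_zero]
    have h3 : algebraMap A (Localization.AtPrime q) a = 0 :=
      (mem_nonZeroDivisors_iff_right.mp hf) _ h1
    obtain ⟨m, hm⟩ := (IsLocalization.map_eq_zero_iff q.primeCompl (Localization.AtPrime q) a).mp h3
    exact ⟨m.1, m.2, hm⟩
  choose! s hs using hex
  let b : A := ∏ a ∈ S, s a
  have hbq : b ∉ q := by
    intro hb
    obtain ⟨a, ha, hsa⟩ := Ideal.IsPrime.prod_mem_iff.mp hb
    exact (hs a ha).1 hsa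
  have hbK : ∀ x ∈ K, b * x = 0 := by
    intro x hx
    rw [← hS] at hx
    induction hx using Submodule.span_induction with
    | mem a ha =>
      obtain ⟨c, hc⟩ := Finset.dvd_prod_of_mem s ha
      change b * a = 0
      have : b = s a * c := hc
      rw [this, mul_comm (s a) c, mul_assoc, (hs a ha).2, mul_zero]
    | zero => exact mul_zero _
    | add x y _ _ hx hy => rw [mul_add, hx, hy, add_zero]
    | smul r x _ hx => rw [smul_eq_mul, mul_left_comm, hx, mul_zero]
  refine ⟨b, hbq, ?_⟩
  rw [mem_nonZeroDivisors_iff_right]
  intro z hz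
  obtain ⟨n, a, hza⟩ := IsLocalization.Away.surj b z
  have hbu : IsUnit (algebraMap A (Localization.Away b) b) := IsLocalization.Away.algebraMap_isUnit b
  have h1 : algebraMap A (Localization.Away b) (a * f) = 0 := by
    rw [map_mul, ← hza, mul_right_comm, hz, zero_mul]
  obtain ⟨⟨c, m, hm⟩, hc⟩ := (IsLocalization.map_eq_zero_iff (Submonoid.powers b) (Localization.Away b) _).mp h1
  have h3 : b ^ m * a ∈ K := by
    rw [hKmem]
    have h4 : b ^ m * (a * f) = 0 := by
      have : c = b ^ m := hm.symm
      rw [← this]
      exact hc
    linear_combination h4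
  have h5 := hbK _ h3
  have h6 : algebraMap A (Localization.Away b) b ^ (m + 1) * algebraMap A (Localization.Away b) a = 0 := by
    rw [← map_pow, ← map_mul, pow_succ', mul_assoc, h5, map_zero]
  have h7 : algebraMap A (Localization.Away b) a = 0 :=
    ((hbu.pow (m + 1)).mul_right_eq_zero).mp h6
  rw [h7] at hza
  exact ((hbu.pow n).mul_left_eq_zero).mp hza

end Groth.Agent.S18936
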