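-- Statement S18937.
import Groth.Statements.S18937
import Mathlib
import Groth.Agent.Lib.Helper1.RegLoc
import Groth.Agent.Lib.Helper1.RegLoc2

set_option autoImplicit false
universe u
open CategoryTheory AlgebraicGeometry
open RegImm

namespace Groth.Agent.S18937

/-- Let A be a Noetherian commutative ring, n a natural number, I an ideal of the polynomial ring A[X_1,
…, X_n] and B = A[X_1, …, X_n]/I, and assume that the closed immersion Spec B → Spec A[X_1, …, X_n]
is a regular immersion (kind: successive non-zero-divisors). Then Spec B is covered by basic opens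
D(g) with B[1/g] isomorphic, as an A-algebra, to a quotient A[X_0, …, X_n]/(P_1, …, P_d) of the
polynomial ring in one more variable by a regular sequence P_1, …, P_d. -/
theorem result
    (A : Type u) [CommRing A] [IsNoetherianRing A] (n : ℕ) (I : Ideal (MvPolynomial (Fin n) A))
    (h : RegImm.IsRegularImmersion RegImm.Kind.regular
      (Spec.map (CommRingCat.ofHom (Ideal.Quotient.mk I))))
    (q : PrimeSpectrum (MvPolynomial (Fin n) A ⧸ I)) :
    ∃ g : MvPolynomial (Fin n) A ⧸ I, g ∉ q.asIdeal ∧
      ∃ (d : ℕ) (P : Fin d → MvPolynomial (Fin (n + 1)) A),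
        RingTheory.Sequence.IsRegular (MvPolynomial (Fin (n + 1)) A) (List.ofFn P) ∧
        Nonempty (Localization.Away g ≃ₐ[A] (MvPolynomial (Fin (n + 1)) A ⧸ Ideal.ofList (List.ofFn P))) := by
  obtain ⟨h0, hq, L, _, _, _, rs, hreg, hI⟩ :=
    Groth.Agent.Lib.Helper1.RegLoc.exists_localization_data I h q
  have hnt : Nontrivial (Localization.Away (Ideal.Quotient.mk I h0)) := by
    by_contra hn
    rw [not_nontrivial_iff_subsingleton,
      IsLocalization.subsingleton_iff (M := Submonoid.powers (Ideal.Quotient.mk I h0))] at hn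
    obtain ⟨k, hk⟩ := hn
    apply hq
    have : (Ideal.Quotient.mk I h0) ^ k ∈ q.asIdeal := by
      simp only at hk
      rw [hk]; exact zero_mem _
    exact q.isPrime.mem_of_pow_mem k this
  obtain ⟨d, P, h1, h2⟩ :=
    Groth.Agent.Lib.Helper1.RegLoc.exists_presentation n I h0 L rs hreg hI hnt
  exact ⟨_, hq, d, P, h1, h2⟩

end Groth.Agent.S18937
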