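import Groth.Statements.S18942
import Mathlib

set_option autoImplicit false
universe u
open DPow

namespace Groth.Agent.S18942

/-- Let p be a prime, k a perfect field of characteristic p, n a natural number and x an element of
W_n(k), written here as the truncation of a Witt vector x over k. For any Witt vectors y_0, …,
y_{n−1} over k lifting the components of x under the map y ↦ (y_0)^(p^n) (that is, (y_i)_0^(p^n) =
x_i), one has x = Σ_{i<n} p^i y_i^(p^(n−i)) in W_n(k). -/
theorem result (p : ℕ) [Fact p.Prime]
    (k : Type u) [Field k] [CharP k p] [PerfectRing k p] (n : ℕ) (x : WittVector p k)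
    (y : Fin n → WittVector p k) (hy : ∀ i : Fin n, ((y i).coeff 0) ^ (p ^ n) = x.coeff i) :
    WittVector.truncate n x =
      WittVector.truncate n (∑ i : Fin n, (p : WittVector p k) ^ (i : ℕ) * (y i) ^ (p ^ (n - i))) := by
  rcases Nat.eq_zero_or_pos n with rfl | hn
  · ext i; exact i.elim0
  obtain ⟨m, rfl⟩ : ∃ m, n = m + 1 := ⟨n - 1, by omega⟩
  rw [← sub_eq_zero, ← map_sub, ← RingHom.mem_ker]
  have hker : ∀ z : WittVector p k, (p : WittVector p k) ^ (m + 1) ∣ z →
      z ∈ RingHom.ker (WittVector.truncate (p := p) (R := k) (m + 1)) := by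
    intro z hz
    rw [WittVector.mem_ker_truncate]
    exact (WittVector.mem_span_p_pow_iff_le_coeff_eq_zero z (m + 1)).1
      (Ideal.mem_span_singleton.2 hz)
  apply hker
  have h1 := WittVector.dvd_sub_sum_teichmuller_iterateFrobeniusEquiv_coeff x m
  have hIic : Finset.Iic m = Finset.range (m + 1) := by
    ext j; simp [Nat.lt_succ_iff]
  have h2 : (p : WittVector p k) ^ (m + 1) ∣
      (∑ i ∈ Finset.Iic m, (WittVector.teichmuller p
        (((_root_.frobeniusEquiv k p).symm ^ i) (x.coeff i)) * (p : WittVector p k) ^ i)) -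
      ∑ i : Fin (m + 1), (p : WittVector p k) ^ (i : ℕ) * (y i) ^ (p ^ (m + 1 - i)) := by
    rw [hIic, Finset.sum_range, ← Finset.sum_sub_distrib]
    apply Finset.dvd_sum
    intro i _
    set a := (y i).coeff 0 with ha
    have hc : ((_root_.frobeniusEquiv k p).symm ^ (i : ℕ)) (x.coeff i) = a ^ p ^ (m + 1 - i) := by
      rw [← iterateFrobeniusEquiv_symm, RingEquiv.symm_apply_eq, iterateFrobeniusEquiv_def,
        ← hy i, ← pow_mul, ← pow_add]
      congr 2
      have := i.2
      omega
    rw [hc, map_pow]
    have hdiv : (p : WittVector p k) ∣ WittVector.teichmuller p a - y i := by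
      rw [← Ideal.mem_span_singleton, WittVector.mem_span_p_iff_coeff_zero_eq_zero]
      have : (WittVector.teichmuller p a - y i).coeff 0 =
          WittVector.constantCoeff (WittVector.teichmuller p a - y i) := rfl
      rw [this, map_sub]
      simp [WittVector.constantCoeff_apply, ha]
    have h3 := dvd_sub_pow_of_dvd_sub hdiv (m + 1 - i)
    have h4 : (p : WittVector p k) ^ (m + 1) ∣ (p : WittVector p k) ^ (i : ℕ) *
        ((WittVector.teichmuller p a) ^ p ^ (m + 1 - i) - (y i) ^ p ^ (m + 1 - i)) := by
      have hle : m + 1 ≤ (i : ℕ) + (m + 1 - i + 1) := by omega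
      exact (pow_dvd_pow _ hle).trans (by rw [pow_add]; exact mul_dvd_mul_left _ h3)
    convert h4 using 1
    ring
  have := dvd_add h1 h2
  convert this using 1
  ring

end Groth.Agent.S18942
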