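import Groth.Statements.S18943
import Mathlib

set_option autoImplicit false
open scoped ContDiff
open CInfGerm

namespace Groth.Agent.S18943


namespace H18943

open MeasureTheory

/-- `∫₀¹ t^k φ(t x) dt` -/
noncomputable def I (k : ℕ) (φ : ℝ → ℝ) (x : ℝ) : ℝ := ∫ t in (0:ℝ)..1, t ^ k * φ (t * x)

theorem hasDerivAt_I (k : ℕ) (φ : ℝ → ℝ) (hφ : ContDiff ℝ ∞ φ) (x₀ : ℝ) :
    HasDerivAt (I k φ) (I (k + 1) (deriv φ) x₀) x₀ := by
  have hd : Differentiable ℝ φ := (contDiff_infty_iff_deriv.mp hφ).1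
  have hφc : Continuous φ := hφ.continuous
  have hφ' : ContDiff ℝ ∞ (deriv φ) := (contDiff_infty_iff_deriv.mp hφ).2
  have hdc : Continuous (deriv φ) := hφ'.continuous
  obtain ⟨C, hC⟩ := (isCompact_Icc (a := -(|x₀| + 1)) (b := |x₀| + 1)).exists_bound_of_continuousOn
    hdc.continuousOn
  have h_bound : ∀ᵐ t ∂(volume : Measure ℝ), t ∈ Set.uIoc (0:ℝ) 1 → ∀ x ∈ Metric.ball x₀ 1,
      ‖t ^ (k + 1) * deriv φ (t * x)‖ ≤ C := by
    refine Filter.Eventually.of_forall ?_
    intro t ht x hx
    rw [Set.uIoc_of_le zero_le_one] at ht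
    rw [Metric.mem_ball, Real.dist_eq] at hx
    have hx1 : |x| ≤ |x₀| + 1 := by
      have h1 := abs_sub_abs_le_abs_sub x x₀
      linarith
    have htx : |t * x| ≤ |x₀| + 1 := by
      rw [abs_mul, abs_of_pos ht.1]
      calc t * |x| ≤ 1 * |x| := by gcongr; exact ht.2
        _ = |x| := one_mul _
        _ ≤ _ := hx1
    have hmem : t * x ∈ Set.Icc (-(|x₀| + 1)) (|x₀| + 1) := abs_le.mp htx
    have hpow : ‖t ^ (k + 1)‖ ≤ 1 := by
      rw [norm_pow]
      apply pow_le_one₀ (norm_nonneg _)
      rw [Real.norm_eq_abs, abs_of_pos ht.1]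
      exact ht.2
    calc ‖t ^ (k + 1) * deriv φ (t * x)‖ = ‖t ^ (k + 1)‖ * ‖deriv φ (t * x)‖ := norm_mul _ _
      _ ≤ 1 * ‖deriv φ (t * x)‖ := by gcongr
      _ = ‖deriv φ (t * x)‖ := one_mul _
      _ ≤ C := hC _ hmem
  have h_diff : ∀ᵐ t ∂(volume : Measure ℝ), t ∈ Set.uIoc (0:ℝ) 1 → ∀ x ∈ Metric.ball x₀ 1,
      HasDerivAt (fun x => t ^ k * φ (t * x)) (t ^ (k + 1) * deriv φ (t * x)) x := by
    refine Filter.Eventually.of_forall ?_
    intro t _ x _
    have h1 : HasDerivAt (fun y => t * y) t x := by simpa using (hasDerivAt_id x).const_mul t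
    have h2 : HasDerivAt (fun y => φ (t * y)) (deriv φ (t * x) * t) x :=
      (hd (t * x)).hasDerivAt.comp x h1
    have h3 := h2.const_mul (t ^ k)
    exact h3.congr_deriv (by ring)
  have hF1 : ∀ x : ℝ, Continuous fun t : ℝ => t ^ k * φ (t * x) := fun x => by fun_prop
  have hF2 : Continuous fun t : ℝ => t ^ (k + 1) * deriv φ (t * x₀) := by fun_prop
  have key := intervalIntegral.hasDerivAt_integral_of_dominated_loc_of_deriv_le
    (μ := volume) (a := 0) (b := 1)
    (F := fun x t => t ^ k * φ (t * x)) (F' := fun x t => t ^ (k + 1) * deriv φ (t * x)) (x₀ := x₀)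
    (s := Metric.ball x₀ 1) (bound := fun _ => C)
    (Metric.ball_mem_nhds x₀ one_pos)
    (Filter.Eventually.of_forall fun x => (hF1 x).aestronglyMeasurable)
    ((hF1 x₀).intervalIntegrable 0 1)
    hF2.aestronglyMeasurable
    h_bound
    intervalIntegrable_const
    h_diff
  exact key.2

theorem contDiff_I : ∀ (n : ℕ) (k : ℕ) (φ : ℝ → ℝ), ContDiff ℝ ∞ φ → ContDiff ℝ n (I k φ) := by
  intro n
  induction n with
  | zero =>
    intro k φ hφ
    have hφc : Continuous φ := hφ.continuous
    rw [Nat.cast_zero, contDiff_zero]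
    have hf : Continuous (Function.uncurry fun (x t : ℝ) => t ^ k * φ (t * x)) := by
      show Continuous fun p : ℝ × ℝ => p.2 ^ k * φ (p.2 * p.1)
      fun_prop
    exact intervalIntegral.continuous_parametric_intervalIntegral_of_continuous' hf 0 1
  | succ n ih =>
    intro k φ hφ
    have hφ' : ContDiff ℝ ∞ (deriv φ) := (contDiff_infty_iff_deriv.mp hφ).2
    have hder : deriv (I k φ) = I (k + 1) (deriv φ) :=
      funext fun x => (hasDerivAt_I k φ hφ x).deriv
    rw [Nat.cast_succ, contDiff_succ_iff_deriv]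
    refine ⟨fun x => (hasDerivAt_I k φ hφ x).differentiableAt, ?_, ?_⟩
    · intro h
      exact absurd h (by simp)
    · rw [hder]
      exact ih (k + 1) (deriv φ) hφ'

theorem main (f : ℝ → ℝ) (hf : ContDiff ℝ ∞ f) (h0 : f 0 = 0) :
    ∃ g : ℝ → ℝ, ContDiff ℝ ∞ g ∧ ∀ x : ℝ, f x = x * g x := by
  have hf' : ContDiff ℝ ∞ (deriv f) := (contDiff_infty_iff_deriv.mp hf).2
  have hd : Differentiable ℝ f := (contDiff_infty_iff_deriv.mp hf).1
  refine ⟨I 0 (deriv f), contDiff_infty.mpr fun n => contDiff_I n 0 (deriv f) hf', fun x => ?_⟩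
  have hdc : Continuous (deriv f) := hf'.continuous
  have h1 : ∫ t in (0:ℝ)..1, deriv f (t * x) * x = f (1 * x) - f (0 * x) := by
    apply intervalIntegral.integral_eq_sub_of_hasDerivAt (f := fun t => f (t * x))
    · intro t _
      have h2 : HasDerivAt (fun y => y * x) x t := by simpa using (hasDerivAt_id t).mul_const x
      exact (hd (t * x)).hasDerivAt.comp t h2
    · exact (by fun_prop : Continuous fun t => deriv f (t * x) * x).intervalIntegrable 0 1
  calc f x = f (1 * x) - f (0 * x) := by rw [one_mul, zero_mul, h0, sub_zero]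
    _ = ∫ t in (0:ℝ)..1, deriv f (t * x) * x := h1.symm
    _ = ∫ t in (0:ℝ)..1, x * (t ^ 0 * deriv f (t * x)) := by
        congr 1
        funext t
        ring
    _ = x * ∫ t in (0:ℝ)..1, t ^ 0 * deriv f (t * x) := intervalIntegral.integral_const_mul _ _
    _ = x * I 0 (deriv f) x := rfl

end H18943

/-- Let f be an infinitely differentiable real-valued function on the real line with f(0) = 0. Then f(x)
= x·g(x) for an infinitely differentiable function g. (The source phrases this for germs at 0: the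
maximal ideal of the local ring of germs of smooth functions at the origin is generated by the
coordinate t; the global form stated here is what its argument, smooth extension of f(x)/x across 0,
gives.) -/
theorem result (f : ℝ → ℝ) (hf : ContDiff ℝ ∞ f) (h0 : f 0 = 0) :
    ∃ g : ℝ → ℝ, ContDiff ℝ ∞ g ∧ ∀ x : ℝ, f x = x * g x := by
  exact H18943.main f hf h0

end Groth.Agent.S18943
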