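import Groth.Statements.S18946
import Mathlib

set_option autoImplicit false
universe u
open scoped BigOperators
open InvQ

namespace Groth.Agent.S18946

open MvPolynomial in
lemma aeval_scale_monomial {k : Type u} [Field k] {n : ℕ} (σ : Fin (n + 1) → k)
    (m : Fin (n + 1) →₀ ℕ) (c : k) :
    aeval (fun i => C (σ i) * X i) (monomial m c) = monomial m (c * ∏ i, σ i ^ m i) := by
  rw [aeval_monomial, monomial_eq, Finsupp.prod_fintype _ _ (fun i => by simp),
    Finsupp.prod_fintype _ _ (fun i => by simp)]
  simp only [mul_pow, Finset.prod_mul_distrib, algebraMap_eq, C_mul, map_prod, C_pow]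
  ring

open MvPolynomial in
lemma coeff_aeval_scale {k : Type u} [Field k] {n : ℕ} (σ : Fin (n + 1) → k)
    (m : Fin (n + 1) →₀ ℕ) (f : MvPolynomial (Fin (n + 1)) k) :
    coeff m (aeval (fun i => C (σ i) * X i) f) = coeff m f * ∏ i, σ i ^ m i := by
  classical
  induction f using MvPolynomial.induction_on' with
  | monomial m' c =>
    rw [aeval_scale_monomial, coeff_monomial, coeff_monomial]
    split_ifs with h
    · subst h; rfl
    · simp
  | add p q hp hq =>
    rw [map_add, coeff_add, coeff_add, hp, hq, add_mul]


/-- Let k be an algebraically closed field of characteristic zero and n a natural number, and let the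
torus of (n+1)-tuples of units of k with product 1 act on the polynomial ring k[t_0, ..., t_n] by
rescaling each variable t_i by the i-th unit. A polynomial is fixed by every such rescaling if and
only if it lies in the k-subalgebra generated by the product t_0 t_1 ... t_n. (This is the
computation of the ring of functions on affine (n+1)-space invariant under the maximal diagonal
torus of the special linear group, identified with the polynomial ring in the single coordinate t =
t_0 ... t_n of the line it maps to by the product map; invariance is tested on k-valued points of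
the torus, which over an infinite field is the same as invariance under the group scheme.) -/
theorem result
    (k : Type u) [Field k] [IsAlgClosed k] [CharZero k] (n : ℕ)
    (f : MvPolynomial (Fin (n + 1)) k) :
    (∀ σ : Fin (n + 1) → kˣ, ∏ i, (σ i : k) = 1 →
        MvPolynomial.aeval (fun i => MvPolynomial.C (σ i : k) * MvPolynomial.X i) f = f) ↔
      f ∈ Algebra.adjoin k ({∏ i : Fin (n + 1), MvPolynomial.X i} : Set (MvPolynomial (Fin (n + 1)) k)) := by
  classical
  constructor
  · intro h
    -- every monomial in the support has all exponents equal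
    have hsupp : ∀ m ∈ f.support, ∀ j, m j = m 0 := by
      intro m hm j
      rw [MvPolynomial.mem_support_iff] at hm
      let u : kˣ := Units.mk0 (2 : k) two_ne_zero
      let σ : Fin (n + 1) → kˣ := Pi.mulSingle j u * Pi.mulSingle 0 u⁻¹
      have hσ1 : ∏ i, σ i = 1 := by
        simp only [σ, Pi.mul_apply, Finset.prod_mul_distrib, Finset.prod_pi_mulSingle',
          Finset.mem_univ, if_true]
        simp
      have hσ : ∏ i, (σ i : k) = 1 := by
        rw [← Units.coe_prod, hσ1]; rfl
      have h2 := congrArg (MvPolynomial.coeff m) (h σ hσ)
      rw [coeff_aeval_scale] at h2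
      have h3 : ∏ i, (σ i : k) ^ m i = 1 := by
        have : MvPolynomial.coeff m f * ∏ i, (σ i : k) ^ m i = MvPolynomial.coeff m f * 1 := by
          rw [h2, mul_one]
        exact mul_left_cancel₀ hm this
      have h4 : ∏ i, σ i ^ m i = u ^ m j * (u⁻¹) ^ m 0 := by
        simp only [σ, Pi.mul_apply, mul_pow, Finset.prod_mul_distrib]
        congr 1
        · rw [Finset.prod_eq_single j (fun i _ hij => by simp [Pi.mulSingle_eq_of_ne hij])
            (by simp)]
          simp
        · rw [Finset.prod_eq_single 0 (fun i _ hij => by simp [Pi.mulSingle_eq_of_ne hij])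
            (by simp)]
          simp
      have h5 : u ^ m j = u ^ m 0 := by
        have : ((∏ i, σ i ^ m i : kˣ) : k) = 1 := by
          rw [Units.coe_prod]
          simpa using h3
        have h6 : (∏ i, σ i ^ m i : kˣ) = 1 := Units.ext this
        rw [h4, inv_pow, mul_inv_eq_one] at h6
        exact h6
      have h7 : (2 : k) ^ m j = 2 ^ m 0 := by
        have := congrArg (fun v : kˣ => (v : k)) h5
        simpa [u] using this
      have h8 : ((2 ^ m j : ℕ) : k) = ((2 ^ m 0 : ℕ) : k) := by
        push_cast; exact h7
      exact Nat.pow_right_injective (le_refl 2) (Nat.cast_injective h8)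
    rw [← MvPolynomial.support_sum_monomial_coeff f]
    refine Subalgebra.sum_mem _ fun m hm => ?_
    have hm' := hsupp m hm
    have : MvPolynomial.monomial m (MvPolynomial.coeff m f) =
        MvPolynomial.C (MvPolynomial.coeff m f) * (∏ i : Fin (n + 1), MvPolynomial.X i) ^ m 0 := by
      rw [MvPolynomial.monomial_eq, Finsupp.prod_fintype _ _ (fun i => by simp), ← Finset.prod_pow]
      congr 1
      exact Finset.prod_congr rfl fun i _ => by rw [hm' i]
    rw [this]
    exact Subalgebra.mul_mem _ (Subalgebra.algebraMap_mem _ _)
      (Subalgebra.pow_mem _ (Algebra.subset_adjoin (Set.mem_singleton _)) _)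
  · intro hf σ hσ
    set φ : MvPolynomial (Fin (n + 1)) k →ₐ[k] MvPolynomial (Fin (n + 1)) k :=
      MvPolynomial.aeval (fun i => MvPolynomial.C (σ i : k) * MvPolynomial.X i) with hφ
    have hle : Algebra.adjoin k
        ({∏ i : Fin (n + 1), MvPolynomial.X i} : Set (MvPolynomial (Fin (n + 1)) k)) ≤
        AlgHom.equalizer φ (AlgHom.id k _) := by
      rw [Algebra.adjoin_le_iff]
      rintro _ rfl
      change φ _ = _
      rw [hφ, map_prod]
      simp only [MvPolynomial.aeval_X, Finset.prod_mul_distrib, ← map_prod, hσ, map_one, one_mul]
      rfl
    exact hle hf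

end Groth.Agent.S18946
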