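import Groth.Statements.S18948
import Mathlib

set_option autoImplicit false
universe u v
open CExt

namespace Groth.Agent.S18948

lemma horb {H : Type*} [Group H] (x y : H) :
    y ∈ MulAction.orbit (ConjAct H) x ↔ ∃ c : H, c * x * c⁻¹ = y := by
  constructor
  · rintro ⟨c, rfl⟩
    exact ⟨ConjAct.ofConjAct c, (ConjAct.smul_def c x).symm⟩
  · rintro ⟨c, rfl⟩
    exact ⟨ConjAct.toConjAct c, by change ConjAct.toConjAct c • x = _; rw [ConjAct.smul_def]; simp⟩

/-- Let f : E → G be a surjective homomorphism of groups whose kernel is central in E, and let x ∈ E.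
Then f maps the conjugacy class of x bijectively onto the conjugacy class of f(x) if and only if
every element of G commuting with f(x) is the image of some element of E commuting with x. (In the
source E → G is the central extension, with kernel the roots of unity, attached to a Brauer class of
the classifying stack of a finite tame étale group scheme, and a conjugacy class of E mapping
bijectively onto a given class of G is a marking; the equivalence is stated here for an arbitrary
central extension of abstract groups.) -/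
theorem result {E : Type u} {G : Type v} [Group E] [Group G]
    (f : E →* G) (hf : Function.Surjective f) (hker : f.ker ≤ Subgroup.center E) (x : E) :
    Set.BijOn f (MulAction.orbit (ConjAct E) x) (MulAction.orbit (ConjAct G) (f x)) ↔
      ∀ g : G, g * f x = f x * g → ∃ e : E, f e = g ∧ e * x = x * e := by
  have hmaps : Set.MapsTo f (MulAction.orbit (ConjAct E) x) (MulAction.orbit (ConjAct G) (f x)) := by
    intro y hy
    obtain ⟨c, rfl⟩ := (horb x y).mp hy
    exact (horb _ _).mpr ⟨f c, by simp⟩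
  have hsurj : Set.SurjOn f (MulAction.orbit (ConjAct E) x) (MulAction.orbit (ConjAct G) (f x)) := by
    intro y hy
    obtain ⟨g, rfl⟩ := (horb _ _).mp hy
    obtain ⟨c, rfl⟩ := hf g
    exact ⟨c * x * c⁻¹, (horb _ _).mpr ⟨c, rfl⟩, by simp⟩
  constructor
  · intro hbij g hg
    obtain ⟨e, rfl⟩ := hf g
    refine ⟨e, rfl, ?_⟩
    have h1 : e * x * e⁻¹ ∈ MulAction.orbit (ConjAct E) x := (horb _ _).mpr ⟨e, rfl⟩
    have h2 : x ∈ MulAction.orbit (ConjAct E) x := MulAction.mem_orbit_self x
    have h3 : f (e * x * e⁻¹) = f x := by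
      rw [map_mul, map_mul, map_inv, hg, mul_inv_cancel_right]
    have := hbij.injOn h1 h2 h3
    calc e * x = (e * x * e⁻¹) * e := by group
      _ = x * e := by rw [this]
  · intro hlift
    refine ⟨hmaps, ?_, hsurj⟩
    intro y₁ hy₁ y₂ hy₂ h12
    obtain ⟨e₁, rfl⟩ := (horb _ _).mp hy₁
    obtain ⟨e₂, rfl⟩ := (horb _ _).mp hy₂
    -- e := e₂⁻¹ * e₁
    have hcomm : f (e₂⁻¹ * e₁) * f x = f x * f (e₂⁻¹ * e₁) := by
      have : f e₁ * f x * (f e₁)⁻¹ = f e₂ * f x * (f e₂)⁻¹ := by simpa using h12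
      simp only [map_mul, map_inv]
      calc (f e₂)⁻¹ * f e₁ * f x = (f e₂)⁻¹ * (f e₁ * f x * (f e₁)⁻¹) * f e₁ := by group
        _ = (f e₂)⁻¹ * (f e₂ * f x * (f e₂)⁻¹) * f e₁ := by rw [this]
        _ = f x * ((f e₂)⁻¹ * f e₁) := by group
    obtain ⟨e', he', hcomm'⟩ := hlift _ hcomm
    -- a := e'⁻¹ * (e₂⁻¹ * e₁) ∈ ker f, central
    have hak : e'⁻¹ * (e₂⁻¹ * e₁) ∈ f.ker := by
      rw [MonoidHom.mem_ker, map_mul, map_inv, he', inv_mul_cancel]
    have hac := Subgroup.mem_center_iff.mp (hker hak)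
    have hx : (e₂⁻¹ * e₁) * x = x * (e₂⁻¹ * e₁) := by
      have e1 : e₂⁻¹ * e₁ = e' * (e'⁻¹ * (e₂⁻¹ * e₁)) := by group
      rw [e1, mul_assoc, ← hac x, ← mul_assoc, hcomm', mul_assoc]
    calc e₁ * x * e₁⁻¹ = e₂ * ((e₂⁻¹ * e₁) * x) * e₁⁻¹ := by group
      _ = e₂ * (x * (e₂⁻¹ * e₁)) * e₁⁻¹ := by rw [hx]
      _ = e₂ * x * e₂⁻¹ := by group

end Groth.Agent.S18948
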