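import Groth.Statements.S18949
import Mathlib

set_option autoImplicit false
universe u v
open CExt

namespace Groth.Agent.S18949

/-- Automorphisms over the base: let f : E → G be a surjective homomorphism of groups with central
kernel A. For every homomorphism χ : G → A the map e ↦ χ(f(e)) · e is an endomorphism of E over G
which is the identity on A; and every endomorphism α of E with f ∘ α = f and α equal to the identity
on A is of this form for exactly one χ. (In the source this identifies the automorphisms of a
central extension fixing its kernel with Hom(G, A), for extensions of profinite étale group schemes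
over a field; stated here for abstract groups.) -/
theorem result {E : Type u} {G : Type v} [Group E] [Group G]
    (f : E →* G) (hf : Function.Surjective f) (hker : f.ker ≤ Subgroup.center E) :
    (∀ χ : G →* f.ker, ∃ α : E →* E, f.comp α = f ∧ (∀ a ∈ f.ker, α a = a) ∧
        ∀ e : E, α e = (χ (f e) : E) * e) ∧
      ∀ α : E →* E, f.comp α = f → (∀ a ∈ f.ker, α a = a) →
        ∃! χ : G →* f.ker, ∀ e : E, α e = (χ (f e) : E) * e := by
  have hcentral : ∀ (a : f.ker) (e : E), (a : E) * e = e * (a : E) := fun a e =>
    ((Subgroup.mem_center_iff.mp (hker a.2)) e).symm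
  constructor
  · intro χ
    refine ⟨MonoidHom.mk' (fun e => (χ (f e) : E) * e) ?_, ?_, ?_, ?_⟩
    · intro a b
      simp only [map_mul, Subgroup.coe_mul]
      calc (χ (f a) : E) * (χ (f b) : E) * (a * b)
          = (χ (f a) : E) * ((χ (f b) : E) * a) * b := by group
        _ = (χ (f a) : E) * (a * (χ (f b) : E)) * b := by rw [hcentral (χ (f b)) a]
        _ = (χ (f a) : E) * a * ((χ (f b) : E) * b) := by group
    · ext e
      simp only [MonoidHom.comp_apply, MonoidHom.mk'_apply, map_mul]
      rw [MonoidHom.mem_ker.mp (χ (f e)).2, one_mul]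
    · intro a ha
      simp only [MonoidHom.mk'_apply]
      rw [MonoidHom.mem_ker.mp ha, map_one, Subgroup.coe_one, one_mul]
    · intro e; rfl
  · intro α hα hαA
    have hfα : ∀ e, f (α e) = f e := fun e => congrArg (fun φ : E →* G => φ e) hα
    -- key: α e * e⁻¹ only depends on f e
    have hkey : ∀ e e' : E, f e = f e' → α e * e⁻¹ = α e' * e'⁻¹ := by
      intro e e' h
      have hk : e'⁻¹ * e ∈ f.ker := by
        rw [MonoidHom.mem_ker, map_mul, map_inv, h, inv_mul_cancel]
      have h1 : e = e' * (e'⁻¹ * e) := by group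
      have h2 : α e = α e' * (e'⁻¹ * e) := by
        conv_lhs => rw [h1, map_mul, hαA _ hk]
      rw [h2]; group
    have hmem : ∀ e : E, α e * e⁻¹ ∈ f.ker := by
      intro e
      rw [MonoidHom.mem_ker, map_mul, map_inv, hfα, mul_inv_cancel]
    let s : G → E := Function.surjInv hf
    have hs : ∀ g, f (s g) = g := Function.surjInv_eq hf
    have hχmul : ∀ a b : G, α (s (a * b)) * (s (a * b))⁻¹ =
        (α (s a) * (s a)⁻¹) * (α (s b) * (s b)⁻¹) := by
      intro a b
      have h1 : f (s (a * b)) = f (s a * s b) := by rw [hs, map_mul, hs, hs]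
      rw [hkey _ _ h1, map_mul]
      have hc := hcentral ⟨α (s b) * (s b)⁻¹, hmem (s b)⟩ (s a)⁻¹
      simp only at hc
      calc α (s a) * α (s b) * (s a * s b)⁻¹
          = α (s a) * ((α (s b) * (s b)⁻¹) * (s a)⁻¹) := by group
        _ = α (s a) * ((s a)⁻¹ * (α (s b) * (s b)⁻¹)) := by rw [hc]
        _ = α (s a) * (s a)⁻¹ * (α (s b) * (s b)⁻¹) := by group
    let χ : G →* f.ker := MonoidHom.mk' (fun g => ⟨α (s g) * (s g)⁻¹, hmem (s g)⟩)
      (fun a b => Subtype.ext (hχmul a b))
    have hχ : ∀ e : E, α e = (χ (f e) : E) * e := by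
      intro e
      have h1 : f (s (f e)) = f e := hs (f e)
      have h2 := hkey _ _ h1
      change α e = α (s (f e)) * (s (f e))⁻¹ * e
      rw [h2]; group
    refine ⟨χ, hχ, ?_⟩
    intro χ' hχ'
    ext g
    obtain ⟨e, rfl⟩ := hf g
    have h1 := hχ e
    have h2 := hχ' e
    rw [h1] at h2
    exact (mul_right_cancel h2).symm

end Groth.Agent.S18949
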