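import Groth.Statements.S18951
-- import your own Groth.Agent.* helpers here

set_option autoImplicit false
universe u
open OrbPic

namespace Groth.Agent.S18951

open W4c6brauerbgmalle in
lemma chi_eq_of_snd_eq {G : Type u} [Group G] (C : Set G)
    (hC : Subgroup.closure C = ⊤)
    (p q : (Additive G →+ QmodZ) × (G → ℚ)) (hp : p ∈ picOrb G C) (hq : q ∈ picOrb G C)
    (h : p.2 = q.2) : p.1 = q.1 := by
  obtain ⟨-, -, -, hp4⟩ := hp
  obtain ⟨-, -, -, hq4⟩ := hq
  have key : ∀ g : G, p.1 (Additive.ofMul g) = q.1 (Additive.ofMul g) := by
    intro g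
    have hg : g ∈ Subgroup.closure C := by rw [hC]; trivial
    induction hg using Subgroup.closure_induction with
    | mem x hx => rw [← hp4 x hx, ← hq4 x hx, h]
    | one => simp
    | mul x y _ _ hx hy => rw [ofMul_mul, map_add, map_add, hx, hy]
    | inv x _ hx => rw [ofMul_inv, map_neg, map_neg, hx]
  ext a
  exact key (Additive.toMul a)


/-- Let G be a group and C ⊆ G a subset that generates G. Then the projection (χ, w) ↦ w from the group
of geometric partial orbifold line bundles with respect to C to functions G → ℚ is injective, its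
image contains every conjugation-invariant integer-valued function vanishing at 1 and outside C, and
the group is torsion-free. (The source works with the geometric points of a tame finite étale group
scheme, characters with values in roots of unity and weights on conjugacy classes of the Tate twist;
here these are identified with a group, homomorphisms to ℚ/ℤ and class functions as the source does
after choosing roots of unity. The case C = G ∖ {1} is the statement for full orbifold line
bundles.) -/
theorem result (G : Type u) [Group G] (C : Set G)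
    (hC : Subgroup.closure C = ⊤) :
    Set.InjOn (fun p : (Additive G →+ W4c6brauerbgmalle.QmodZ) × (G → ℚ) => p.2) (W4c6brauerbgmalle.picOrb G C) ∧
      (∀ w ∈ W4c6brauerbgmalle.intWeights G C, ((0 : Additive G →+ W4c6brauerbgmalle.QmodZ), w) ∈ W4c6brauerbgmalle.picOrb G C) ∧
      ∀ (n : ℕ) (p : (Additive G →+ W4c6brauerbgmalle.QmodZ) × (G → ℚ)), p ∈ W4c6brauerbgmalle.picOrb G C → n ≠ 0 →
        n • p = 0 → p = 0 := by
  refine ⟨?_, ?_, ?_⟩
  · intro p hp q hq h
    exact Prod.ext (chi_eq_of_snd_eq C hC p q hp hq h) h
  · rintro w ⟨h1, h2, h3, h4⟩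
    refine ⟨h1, h2, h3, fun g _ => ?_⟩
    obtain ⟨n, hn⟩ := h4 g
    simp only [AddMonoidHom.zero_apply]
    rw [hn]
    change ((n : ℚ) : W4c6brauerbgmalle.QmodZ) = 0
    rw [QuotientAddGroup.eq_zero_iff]
    exact ⟨n, by simp⟩
  · intro n p hp hn hnp
    have h2 : p.2 = 0 := by
      have : n • p.2 = 0 := by
        have := congrArg Prod.snd hnp
        simpa using this
      funext g
      have hg := congrFun this g
      simp only [Pi.smul_apply, Pi.zero_apply, nsmul_eq_mul, mul_eq_zero] at hg
      rcases hg with hg | hg
      · exact absurd (by exact_mod_cast hg) hn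
      · exact hg
    have h1 : p.1 = (0 : (Additive G →+ W4c6brauerbgmalle.QmodZ) × (G → ℚ)).1 :=
      chi_eq_of_snd_eq C hC p 0 hp (W4c6brauerbgmalle.picOrb G C).zero_mem h2
    exact Prod.ext h1 h2

end Groth.Agent.S18951
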