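import Groth.Statements.S18953
import Mathlib

set_option autoImplicit false
universe u v
open OrbPic

namespace Groth.Agent.S18953

/-- Let G₁ and G₂ be groups with subsets C₁ ⊆ G₁ and C₂ ⊆ G₂, and let C ⊆ G₁ × G₂ be the union of C₁ ×
{1} and {1} × C₂. Restricting the character and the weight along the two inclusions G₁ → G₁ × G₂ and
G₂ → G₁ × G₂ is a bijection from the geometric partial orbifold line bundles of G₁ × G₂ with respect
to C onto pairs of geometric partial orbifold line bundles of G₁ with respect to C₁ and of G₂ with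
respect to C₂. (As in the source after a choice of roots of unity, each group stands for the
geometric points of a tame finite étale group scheme, characters are homomorphisms to ℚ/ℤ and
weights are class functions; the source states the Galois-equivariant version, which follows by
taking invariants.) -/
theorem result (G₁ : Type u) (G₂ : Type v) [Group G₁] [Group G₂] (C₁ : Set G₁) (C₂ : Set G₂) :
    Set.BijOn
      (fun p : (Additive (G₁ × G₂) →+ W4c6brauerbgmalle.QmodZ) × (G₁ × G₂ → ℚ) =>
        ((p.1.comp (MonoidHom.toAdditive (MonoidHom.inl G₁ G₂)), fun g => p.2 (g, 1)),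
          (p.1.comp (MonoidHom.toAdditive (MonoidHom.inr G₁ G₂)), fun g => p.2 (1, g))))
      (W4c6brauerbgmalle.picOrb (G₁ × G₂) ((fun g => (g, (1 : G₂))) '' C₁ ∪ (fun g => ((1 : G₁), g)) '' C₂))
      ((W4c6brauerbgmalle.picOrb G₁ C₁ : Set _) ×ˢ (W4c6brauerbgmalle.picOrb G₂ C₂ : Set _)) := by
  classical
  refine ⟨?_, ?_, ?_⟩
  · -- MapsTo
    rintro p ⟨h1, h2, h3, h4⟩
    refine ⟨⟨h1, ?_, ?_, ?_⟩, ⟨h1, ?_, ?_, ?_⟩⟩
    · intro g hg
      by_cases hg1 : g = 1
      · subst hg1; exact h1
      · apply h2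
        rintro (⟨x, hx, hx'⟩ | ⟨x, hx, hx'⟩)
        · simp only [Prod.mk.injEq] at hx'
          exact hg (hx'.1 ▸ hx)
        · simp only [Prod.mk.injEq] at hx'
          exact hg1 hx'.1.symm
    · intro g h
      have := h3 (g, 1) (h, 1)
      simpa using this
    · intro g hg
      have := h4 (g, 1) (Or.inl ⟨g, hg, rfl⟩)
      simpa using this
    · intro g hg
      by_cases hg1 : g = 1
      · subst hg1; exact h1
      · apply h2
        rintro (⟨x, hx, hx'⟩ | ⟨x, hx, hx'⟩)
        · simp only [Prod.mk.injEq] at hx'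
          exact hg1 hx'.2.symm
        · simp only [Prod.mk.injEq] at hx'
          exact hg (hx'.2 ▸ hx)
    · intro g h
      have := h3 (1, g) (1, h)
      simpa using this
    · intro g hg
      have := h4 (1, g) (Or.inr ⟨g, hg, rfl⟩)
      simpa using this
  · -- InjOn
    rintro p ⟨hp1, hp2, hp3, hp4⟩ q ⟨hq1, hq2, hq3, hq4⟩ h
    simp only [Prod.mk.injEq] at h
    obtain ⟨⟨hχ1, hw1⟩, ⟨hχ2, hw2⟩⟩ := h
    have hχ : p.1 = q.1 := by
      refine AddMonoidHom.ext fun a => ?_
      obtain ⟨⟨g₁, g₂⟩, rfl⟩ := Additive.ofMul.surjective a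
      have e : ((g₁, g₂) : G₁ × G₂) = (g₁, 1) * (1, g₂) := by simp
      have a1 := DFunLike.congr_fun hχ1 (Additive.ofMul g₁)
      have a2 := DFunLike.congr_fun hχ2 (Additive.ofMul g₂)
      simp only [AddMonoidHom.coe_comp, Function.comp_apply, MonoidHom.toAdditive_apply_apply,
        toMul_ofMul, MonoidHom.inl_apply, MonoidHom.inr_apply] at a1 a2
      change p.1 (Additive.ofMul (g₁, g₂)) = q.1 (Additive.ofMul (g₁, g₂))
      rw [e, ofMul_mul, map_add, map_add, a1, a2]
    have hw : p.2 = q.2 := by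
      funext x
      by_cases hx : x ∈ ((fun g => (g, (1 : G₂))) '' C₁ ∪ (fun g => ((1 : G₁), g)) '' C₂)
      · rcases hx with ⟨g, -, rfl⟩ | ⟨g, -, rfl⟩
        · exact congrFun hw1 g
        · exact congrFun hw2 g
      · rw [hp2 x hx, hq2 x hx]
    exact Prod.ext hχ hw
  · -- SurjOn
    rintro ⟨p₁, p₂⟩ ⟨⟨a1, a2, a3, a4⟩, ⟨b1, b2, b3, b4⟩⟩
    dsimp only at a1 a2 a3 a4 b1 b2 b3 b4
    have hone₁ : ∀ g h : G₁, h * g * h⁻¹ = 1 ↔ g = 1 := by
      intro g h
      constructor
      · intro hg
        have : g = h⁻¹ * (h * g * h⁻¹) * h := by group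
        rw [this, hg]; group
      · rintro rfl; group
    have hone₂ : ∀ g h : G₂, h * g * h⁻¹ = 1 ↔ g = 1 := by
      intro g h
      constructor
      · intro hg
        have : g = h⁻¹ * (h * g * h⁻¹) * h := by group
        rw [this, hg]; group
      · rintro rfl; group
    refine ⟨(p₁.1.comp (MonoidHom.toAdditive (MonoidHom.fst G₁ G₂)) +
        p₂.1.comp (MonoidHom.toAdditive (MonoidHom.snd G₁ G₂)),
      fun x => if x.2 = 1 then p₁.2 x.1 else if x.1 = 1 then p₂.2 x.2 else 0), ⟨?_, ?_, ?_, ?_⟩, ?_⟩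
    · simp [a1]
    · rintro ⟨g₁, g₂⟩ hg
      simp only
      by_cases h2 : g₂ = 1
      · subst h2
        simp only [if_true]
        apply a2
        intro hg₁
        exact hg (Or.inl ⟨g₁, hg₁, rfl⟩)
      · simp only [h2, if_false]
        by_cases h1 : g₁ = 1
        · subst h1
          simp only [if_true]
          apply b2
          intro hg₂
          exact hg (Or.inr ⟨g₂, hg₂, rfl⟩)
        · simp [h1]
    · rintro ⟨g₁, g₂⟩ ⟨h₁, h₂⟩
      simp only [Prod.mk_mul_mk, Prod.inv_mk, hone₁, hone₂, a3, b3]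
    · rintro x (⟨g, hg, rfl⟩ | ⟨g, hg, rfl⟩)
      · simp [a4 g hg]
      · by_cases h1 : g = 1
        · subst h1
          simp [a1]
        · simp [h1, b4 g hg]
    · refine Prod.ext (Prod.ext ?_ ?_) (Prod.ext ?_ ?_)
      · refine AddMonoidHom.ext fun a => ?_
        simp
      · funext g
        simp
      · refine AddMonoidHom.ext fun a => ?_
        simp
      · funext g
        by_cases h1 : g = 1
        · subst h1
          simp [a1, b1]
        · simp [h1]

end Groth.Agent.S18953
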