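import Groth.Statements.S18956
import Mathlib
import Groth.Agent.Lib.Helper26.MagnetFactor

set_option autoImplicit false
universe u
open CategoryTheory MonoidalCategory CartesianMonoidalCategory MonObj AlgebraicGeometry Opposite
open Magnet

namespace Groth.Agent.S18956

open Groth.Agent.Lib.Helper26.MagnetFactor

section General
variable {C : Type*} [Category C] [CartesianMonoidalCategory C]

/-- An equivariant map out of `M ⊗ T` is determined on `G ⊗ T` by its restriction to the unit section. -/
lemma whiskerRight_comp_eq {M G X T : C} [MonObj M] [MonObj G] (i : G ⟶ M) [IsMonHom i]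
    (aX : Magnet.MonAct G X) (φ : M ⊗ T ⟶ X)
    (hφ : Magnet.MonAct.IsEquivariant
      (((Magnet.MonAct.regular M).restrict i).prod (Magnet.MonAct.trivial G T)) aX φ) :
    (i ▷ T) ≫ φ = (G ◁ (lift (toUnit T ≫ η[M]) (𝟙 T) ≫ φ)) ≫ aX.act := by
  rw [Magnet.MonAct.mem_eqvHom_iff] at hφ
  apply Magnet.hom_ext_lift₂
  intro T' g t
  have h1 := hφ T' g 1 t
  rw [Magnet.MonAct.lift_restrict_act, Magnet.MonAct.lift_regular_act, _root_.mul_one] at h1
  rw [lift_whiskerRight_assoc, h1, lift_whiskerLeft_assoc, comp_lift_assoc, Category.comp_id,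
    ← Category.assoc t, toUnit_unique (t ≫ toUnit T) (toUnit T'), Hom.one_def]

end General


/-- Let k be a field, M an affine monoid k-scheme, G an affine group k-scheme and i : G → M a
homomorphism of monoids which is a quasi-compact open immersion with scheme-theoretically dense
image. Let X be a k-scheme with an action aX of G, and j : Z → X a closed immersion which is
G-equivariant for an action aZ of G on Z (a closed G-stable subscheme). For a G-scheme W write D_W
for the functor on k-schemes whose value at Y is the set of k-morphisms M ×_k Y → W that are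
G-equivariant for G acting on M ×_k Y by left multiplication through i on the first factor. Then the
square of presheaves formed by D_Z → D_X (composition with j), the restrictions D_Z → Z and D_X → X
to the unit section of M, and j is cartesian. (The published statement takes G to be the group of
units of M, open and schematically dense; here it is assumed only that i is a homomorphism of
monoids and a quasi-compact, scheme-theoretically dominant open immersion.) -/
theorem result (k : Type u) [Field k]
    (M G X Z : Over (Spec (CommRingCat.of k))) [MonObj M] [GrpObj G] [IsAffine M.left] [IsAffine G.left]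
    (i : G ⟶ M) [IsMonHom i] [IsOpenImmersion i.left] [QuasiCompact i.left]
    [IsSchemeTheoreticallyDominant i.left]
    (aX : AlgGrp.Action G X) (aZ : AlgGrp.Action G Z) (j : Z ⟶ X) [IsClosedImmersion j.left]
    (hj : Magnet.MonAct.IsEquivariant (Magnet.MonAct.ofAction aZ) (Magnet.MonAct.ofAction aX) j) :
    IsPullback
      (Magnet.MonAct.eqvHom.postcomp ((Magnet.MonAct.regular M).restrict i) j hj)
      (Magnet.MonAct.eqvHom.evalAt ((Magnet.MonAct.regular M).restrict i) (Magnet.MonAct.ofAction aZ) η[M])
      (Magnet.MonAct.eqvHom.evalAt ((Magnet.MonAct.regular M).restrict i) (Magnet.MonAct.ofAction aX) η[M])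
      (yoneda.map j) := by
  haveI : Mono j := mono_of_isClosedImmersion_left j
  apply IsPullback.of_forall_isPullback_app
  intro T
  rw [Limits.Types.isPullback_iff]
  refine ⟨?_, ?_, ?_⟩
  · refine ConcreteCategory.hom_ext _ _ fun ψ => ?_
    change lift (toUnit (unop T) ≫ η[M]) (𝟙 (unop T)) ≫ (ψ.1 ≫ j) =
      (lift (toUnit (unop T) ≫ η[M]) (𝟙 (unop T)) ≫ ψ.1) ≫ j
    rw [Category.assoc]
  · rintro ψ₁ ψ₂ ⟨h1, -⟩
    apply Subtype.ext
    have := congrArg Subtype.val h1
    simp only [Magnet.MonAct.eqvHom.postcomp_app_coe] at this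
    exact (cancel_mono j).1 this
  · intro φ z hz
    simp only [Magnet.MonAct.eqvHom.evalAt_app] at hz
    have hz' : lift (toUnit (unop T) ≫ η[M]) (𝟙 (unop T)) ≫ φ.1 = z ≫ j := hz
    have hres := whiskerRight_comp_eq i (Magnet.MonAct.ofAction aX) φ.1 φ.2
    rw [hz'] at hres
    have hjz : (G ◁ (z ≫ j)) ≫ (Magnet.MonAct.ofAction aX).act =
        ((G ◁ z) ≫ (Magnet.MonAct.ofAction aZ).act) ≫ j := by
      have : (Magnet.MonAct.ofAction aZ).act ≫ j = (G ◁ j) ≫ (Magnet.MonAct.ofAction aX).act := hj
      rw [Category.assoc, this, MonoidalCategory.whiskerLeft_comp, Category.assoc]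
    rw [hjz] at hres
    obtain ⟨ψ, hψ⟩ := exists_over_factor i (unop T) j φ.1
      ((G ◁ z) ≫ (Magnet.MonAct.ofAction aZ).act) hres
    have hψeq : Magnet.MonAct.IsEquivariant
        (((Magnet.MonAct.regular M).restrict i).prod (Magnet.MonAct.trivial G (unop T)))
        (Magnet.MonAct.ofAction aZ) ψ := by
      have h2 := φ.2
      unfold Magnet.MonAct.IsEquivariant at h2 ⊢
      rw [← cancel_mono j, Category.assoc, hψ, h2, Category.assoc]
      have : (Magnet.MonAct.ofAction aZ).act ≫ j = (G ◁ j) ≫ (Magnet.MonAct.ofAction aX).act := hj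
      rw [this, ← MonoidalCategory.whiskerLeft_comp_assoc, hψ]
    refine ⟨⟨ψ, hψeq⟩, ?_, ?_⟩
    · apply Subtype.ext
      exact hψ
    · simp only [Magnet.MonAct.eqvHom.evalAt_app]
      rw [← cancel_mono j, Category.assoc, hψ]
      exact hz'

end Groth.Agent.S18956
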