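import Groth.Statements.S18957
import Mathlib

set_option autoImplicit false
universe u
open CategoryTheory MonoidalCategory CartesianMonoidalCategory MonObj AlgebraicGeometry Opposite
open Magnet

namespace Groth.Agent.S18957

open CategoryTheory.Limits

/-- A morphism factors through a closed immersion if it does so after precomposition with a
scheme-theoretically dominant morphism. -/
lemma exists_factor_of_isSchemeTheoreticallyDominant {Y' Y X Z : Scheme.{u}} (f : Y ⟶ X)
    (j : Z ⟶ X) [IsClosedImmersion j] (d : Y' ⟶ Y) [IsSchemeTheoreticallyDominant d]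
    (g' : Y' ⟶ Z) (h : d ≫ f = g' ≫ j) : ∃ g : Y ⟶ Z, g ≫ j = f := by
  have hci : IsClosedImmersion (pullback.fst f j) := inferInstance
  have hfac : d = pullback.lift d g' h ≫ pullback.fst f j := (pullback.lift_fst _ _ _).symm
  have hker : (pullback.fst f j).ker = ⊥ := by
    have := Scheme.Hom.le_ker_comp (pullback.lift d g' h) (pullback.fst f j)
    rw [← hfac, d.ker_eq_bot] at this
    exact le_bot_iff.mp this
  have := IsClosedImmersion.isIso_iff_ker_eq_bot.mpr hker
  exact ⟨inv (pullback.fst f j) ≫ pullback.snd f j, by
    rw [Category.assoc, ← pullback.condition, IsIso.inv_hom_id_assoc]⟩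

section Over
variable {S : Scheme.{u}}

lemma isPullback_whiskerRight_left {G M Z : Over S} (i : G ⟶ M) :
    IsPullback (fst G Z).left (i ▷ Z).left i.left (fst M Z).left := by
  have hright : IsPullback (snd M Z).left (fst M Z).left Z.hom M.hom :=
    (IsPullback.of_hasPullback M.hom Z.hom).flip
  have houter : IsPullback ((i ▷ Z).left ≫ (snd M Z).left) (fst G Z).left Z.hom
      (i.left ≫ M.hom) := by
    have h1 : (i ▷ Z).left ≫ (snd M Z).left = (snd G Z).left := by
      rw [← Over.comp_left, whiskerRight_snd]
    rw [h1, Over.w i]
    exact (IsPullback.of_hasPullback G.hom Z.hom).flip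
  have hcomm : (i ▷ Z).left ≫ (fst M Z).left = (fst G Z).left ≫ i.left := by
    rw [← Over.comp_left, ← Over.comp_left, whiskerRight_fst]
  exact (IsPullback.of_right houter hcomm hright).flip

end Over

section General
variable {C : Type*} [Category C] [CartesianMonoidalCategory C]

lemma exists_monAct_of_mono {M X Z : C} [MonObj M] (a : Magnet.MonAct M X) (j : Z ⟶ X) [Mono j]
    (cact : M ⊗ Z ⟶ Z) (hc : cact ≫ j = (M ◁ j) ≫ a.act) :
    ∃ c : Magnet.MonAct M Z, c.act = cact ∧ Magnet.MonAct.IsEquivariant c a j := by
  refine ⟨Magnet.MonAct.mk' cact ?_ ?_, rfl, hc⟩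
  · intro T x
    rw [← cancel_mono j, Category.assoc, hc, lift_whiskerLeft_assoc, a.lift_one_act]
  · intro T g h x
    have e : ∀ (g' : T ⟶ M) (y : T ⟶ Z), (lift g' y ≫ cact) ≫ j = lift g' (y ≫ j) ≫ a.act := by
      intro g' y
      rw [Category.assoc, hc, lift_whiskerLeft_assoc]
    rw [← cancel_mono j, e, e, e, a.lift_mul_act]

end General


/-- Let k be a field, M a monoid k-scheme with an action a on a k-scheme X, G a group k-scheme and i : G
→ M a homomorphism of monoids which is a quasi-compact open immersion with scheme-theoretically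
dense image. Let j : Z → X be a closed immersion and b an action of G on Z for which j is
equivariant, G acting on X through i and a (a closed G-stable subscheme). Then the G-action on Z
extends to an M-action making j equivariant: there is an action c of M on Z such that j is
equivariant for c and a and the restriction of c along i is b. (The published statement takes G to
be the group of units of M, schematically dense in M; here it is assumed only that i is a
homomorphism of monoids and a quasi-compact, scheme-theoretically dominant open immersion.) -/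
theorem result (k : Type u) [Field k]
    (M G X Z : Over (Spec (CommRingCat.of k))) [MonObj M] [GrpObj G]
    (i : G ⟶ M) [IsMonHom i] [IsOpenImmersion i.left] [QuasiCompact i.left]
    [IsSchemeTheoreticallyDominant i.left]
    (a : Magnet.MonAct M X) (b : AlgGrp.Action G Z) (j : Z ⟶ X) [IsClosedImmersion j.left]
    (hj : Magnet.MonAct.IsEquivariant (Magnet.MonAct.ofAction b) (a.restrict i) j) :
    ∃ c : Magnet.MonAct M Z, Magnet.MonAct.IsEquivariant c a j ∧ c.restrict i = Magnet.MonAct.ofAction b := by
  -- flatness of `Z` over the field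
  haveI : Subsingleton ↥(Spec (CommRingCat.of k)) := by
    change Subsingleton (PrimeSpectrum k)
    infer_instance
  haveI : IsIntegral (Spec (CommRingCat.of k)) := inferInstance
  haveI : Flat Z.hom := inferInstance
  haveI : Flat (fst M Z).left := by
    change Flat (Limits.pullback.fst M.hom Z.hom)
    infer_instance
  haveI hdom : IsSchemeTheoreticallyDominant (i ▷ Z).left :=
    IsSchemeTheoreticallyDominant.of_isPullback (isPullback_whiskerRight_left i)
  -- the map to factor
  set φ : M ⊗ Z ⟶ X := (M ◁ j) ≫ a.act with hφ
  have hb : (i ▷ Z) ≫ φ = b.act ≫ j := by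
    have h1 : (Magnet.MonAct.ofAction b).act ≫ j = (G ◁ j) ≫ (a.restrict i).act := hj
    rw [Magnet.MonAct.ofAction_act, Magnet.MonAct.restrict_act] at h1
    rw [h1, hφ, ← whisker_exchange_assoc]
  have hbl : (i ▷ Z).left ≫ φ.left = b.act.left ≫ j.left := by
    rw [← Over.comp_left, ← Over.comp_left, hb]
  obtain ⟨g, hg⟩ := exists_factor_of_isSchemeTheoreticallyDominant φ.left j.left (i ▷ Z).left
    b.act.left hbl
  have hw : g ≫ Z.hom = (M ⊗ Z).hom := by
    rw [← Over.w j, ← Category.assoc, hg, Over.w φ]
  let cact : M ⊗ Z ⟶ Z := Over.homMk g hw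
  have hc : cact ≫ j = φ := by
    ext1
    exact hg
  haveI : Mono j.left := inferInstance
  haveI : Mono j := Over.mono_of_mono_left j
  obtain ⟨c, hcact, hceq⟩ := exists_monAct_of_mono a j cact hc
  refine ⟨c, hceq, ?_⟩
  apply Magnet.MonAct.ext'
  rw [Magnet.MonAct.restrict_act, Magnet.MonAct.ofAction_act, hcact, ← cancel_mono j, Category.assoc,
    hc, hb]

end Groth.Agent.S18957
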