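import Groth.Statements.S18958
import Mathlib
import Groth.Agent.Lib.Helper26.MagnetFactor

set_option autoImplicit false
universe u
open CategoryTheory MonoidalCategory CartesianMonoidalCategory MonObj AlgebraicGeometry Opposite
open Magnet

namespace Groth.Agent.S18958


open Groth.Agent.Lib.Helper26.MagnetFactor CategoryTheory.Limits

lemma exists_preimage_of_isPullback {P X Y S : Scheme.{u}} {fst' : P ⟶ X} {snd' : P ⟶ Y}
    {f : X ⟶ S} {g : Y ⟶ S} (sq : IsPullback fst' snd' f g) (x : X) (y : Y) (h : f x = g y) :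
    ∃ z : P, fst' z = x ∧ snd' z = y := by
  obtain ⟨z, hz1, hz2⟩ := Scheme.Pullback.exists_preimage_pullback x y h
  refine ⟨sq.isoPullback.inv z, ?_, ?_⟩
  · rw [← hz1, ← Scheme.Hom.comp_apply, IsPullback.isoPullback_inv_fst]
  · rw [← hz2, ← Scheme.Hom.comp_apply, IsPullback.isoPullback_inv_snd]

section Over
variable {S : Scheme.{u}}

lemma isPullback_whiskerLeft_left (C : Over S) {A B : Over S} (f : A ⟶ B) :
    IsPullback (C ◁ f).left (snd C A).left (snd C B).left f.left := by
  have hright : IsPullback (fst C B).left (snd C B).left C.hom B.hom :=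
    IsPullback.of_hasPullback C.hom B.hom
  have houter : IsPullback ((C ◁ f).left ≫ (fst C B).left) (snd C A).left C.hom
      (f.left ≫ B.hom) := by
    have h1 : (C ◁ f).left ≫ (fst C B).left = (fst C A).left := by
      rw [← Over.comp_left, whiskerLeft_fst]
    rw [h1, Over.w f]
    exact IsPullback.of_hasPullback C.hom A.hom
  have hcomm : (C ◁ f).left ≫ (snd C B).left = (snd C A).left ≫ f.left := by
    rw [← Over.comp_left, ← Over.comp_left, whiskerLeft_snd]
  exact IsPullback.of_right houter hcomm hright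

lemma mono_of_isOpenImmersion_left {Z X : Over S} (j : Z ⟶ X)
    [IsOpenImmersion j.left] : Mono j := by
  haveI : Mono j.left := inferInstance
  exact Over.mono_of_mono_left j

end Over

set_option maxHeartbeats 1000000 in
lemma range_aux (k : Type u) [Field k]
    (M G X U : Over (Spec (CommRingCat.of k))) [MonObj M] [GrpObj G] (i : G ⟶ M) [IsMonHom i]
    (o : 𝟙_ (Over (Spec (CommRingCat.of k))) ⟶ M)
    (hM : ∀ (T : Over (Spec (CommRingCat.of k))) (K : Type u) [Field K]
      (eT : T.left ≅ Spec (CommRingCat.of K)) (W : (M ⊗ T).left.Opens),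
      (CartesianMonoidalCategory.snd G (M ⊗ T)).left ⁻¹ᵁ W ≤
          ((((Magnet.MonAct.regular M).restrict i).prod (Magnet.MonAct.trivial G T)).act).left ⁻¹ᵁ W →
      (CartesianMonoidalCategory.lift (toUnit T ≫ o) (𝟙 T)).left ⁻¹ᵁ W = ⊤ → W = ⊤)
    (aX : AlgGrp.Action G X) (aU : AlgGrp.Action G U) (j : U ⟶ X) [IsOpenImmersion j.left]
    (hj : Magnet.MonAct.IsEquivariant (Magnet.MonAct.ofAction aU) (Magnet.MonAct.ofAction aX) j)
    (T : Over (Spec (CommRingCat.of k)))
    (φ : (Magnet.MonAct.eqvHom ((Magnet.MonAct.regular M).restrict i)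
      (Magnet.MonAct.ofAction aX)).obj (op T))
    (z : T ⟶ U) (hz : lift (toUnit T ≫ o) (𝟙 T) ≫ φ.1 = z ≫ j) (p : (M ⊗ T).left) :
    φ.1.left p ∈ Set.range j.left := by
  let t : T.left := (snd M T).left p
  let T' : Over (Spec (CommRingCat.of k)) := Over.mk (T.left.fromSpecResidueField t ≫ T.hom)
  let τ : T' ⟶ T := Over.homMk (T.left.fromSpecResidueField t) rfl
  let φ' := (Magnet.MonAct.eqvHom ((Magnet.MonAct.regular M).restrict i)
    (Magnet.MonAct.ofAction aX)).map τ.op φ
  have hφ'1 : φ'.1 = (M ◁ τ) ≫ φ.1 := rfl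
  let W' : (M ⊗ T').left.Opens := φ'.1.left ⁻¹ᵁ j.left.opensRange
  have hW' : W' = ⊤ := by
    refine hM T' (T.left.residueField t) (Iso.refl _) W' ?_ ?_
    · intro q hq
      obtain ⟨u₀, hu₀⟩ : φ'.1.left ((snd G (M ⊗ T')).left q) ∈ Set.range j.left := hq
      show φ'.1.left (((((Magnet.MonAct.regular M).restrict i).prod
        (Magnet.MonAct.trivial G T')).act).left q) ∈ Set.range j.left
      have heq : (((Magnet.MonAct.regular M).restrict i).prod (Magnet.MonAct.trivial G T')).act ≫
          φ'.1 = (G ◁ φ'.1) ≫ (Magnet.MonAct.ofAction aX).act := φ'.2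
      have hsnd : (G ◁ φ'.1) ≫ snd G X = snd G (M ⊗ T') ≫ φ'.1 := whiskerLeft_snd _ _
      have hpt : (snd G X).left ((G ◁ φ'.1).left q) = j.left u₀ := by
        rw [hu₀]
        exact congrArg (fun m : G ⊗ (M ⊗ T') ⟶ X => m.left q) hsnd
      obtain ⟨r', hr', -⟩ := exists_preimage_of_isPullback (isPullback_whiskerLeft_left G j)
        ((G ◁ φ'.1).left q) u₀ hpt
      have hact : (Magnet.MonAct.ofAction aU).act ≫ j =
          (G ◁ j) ≫ (Magnet.MonAct.ofAction aX).act := hj
      refine ⟨(Magnet.MonAct.ofAction aU).act.left r', ?_⟩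
      calc j.left ((Magnet.MonAct.ofAction aU).act.left r')
          = ((Magnet.MonAct.ofAction aU).act ≫ j).left r' := rfl
        _ = ((G ◁ j) ≫ (Magnet.MonAct.ofAction aX).act).left r' := by rw [hact]
        _ = (Magnet.MonAct.ofAction aX).act.left ((G ◁ j).left r') := rfl
        _ = (Magnet.MonAct.ofAction aX).act.left ((G ◁ φ'.1).left q) := by rw [hr']
        _ = ((G ◁ φ'.1) ≫ (Magnet.MonAct.ofAction aX).act).left q := rfl
        _ = ((((Magnet.MonAct.regular M).restrict i).prod
              (Magnet.MonAct.trivial G T')).act ≫ φ'.1).left q := by rw [heq]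
        _ = _ := rfl
    · rw [eq_top_iff]
      intro pt _
      show φ'.1.left ((lift (toUnit T' ≫ o) (𝟙 T')).left pt) ∈ Set.range j.left
      have hnat : lift (toUnit T' ≫ o) (𝟙 T') ≫ φ'.1 = τ ≫ (z ≫ j) := by
        rw [← hz, hφ'1, lift_whiskerLeft_assoc, comp_lift_assoc, Category.id_comp,
          Category.comp_id, ← Category.assoc τ, toUnit_unique (τ ≫ toUnit T) (toUnit T')]
      refine ⟨(τ ≫ z).left pt, ?_⟩
      calc j.left ((τ ≫ z).left pt) = (τ ≫ (z ≫ j)).left pt := rfl
        _ = (lift (toUnit T' ≫ o) (𝟙 T') ≫ φ'.1).left pt := by rw [hnat]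
        _ = _ := rfl
  obtain ⟨y⟩ : Nonempty (Spec (T.left.residueField t)) := inferInstance
  obtain ⟨p', hp', -⟩ := exists_preimage_of_isPullback (isPullback_whiskerLeft_left M τ) p y (by
    show (snd M T).left p = (T.left.fromSpecResidueField t) y
    rw [Scheme.fromSpecResidueField_apply])
  have hp'W : p' ∈ W' := by rw [hW']; trivial
  obtain ⟨u₁, hu₁⟩ : φ'.1.left p' ∈ Set.range j.left := hp'W
  refine ⟨u₁, hu₁.trans ?_⟩
  calc φ'.1.left p' = φ.1.left ((M ◁ τ).left p') := rfl
    _ = φ.1.left p := by rw [hp']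

/-- Let k be a field, G a group k-scheme and M a monoid k-scheme with a homomorphism of monoids i : G →
M and a zero o : Spec k → M (m·o = o = o·m for every point m of M). Assume that for every k-scheme T
whose underlying scheme is the spectrum of a field K, every open subset of M ×_k T which is stable
under G acting by left multiplication through i on the first factor and which contains the zero
section T → M ×_k T is the whole of M ×_k T. Let X be a k-scheme with an action aX of G and j : U →
X an open immersion, G-equivariant for an action aU of G on U (an open G-stable subscheme). For a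
G-scheme W write D_W for the functor on k-schemes whose value at Y is the set of k-morphisms M ×_k Y
→ W that are G-equivariant for G acting on M ×_k Y by left multiplication through i on the first
factor. Then the square of presheaves formed by D_U → D_X (composition with j), the restrictions D_U
→ U and D_X → X to the zero section of M, and j is cartesian. (In the source M is a Kempf monoid
with G its group of units, and the restriction to the zero section is viewed as the retraction of
D_X onto the fixed points X^G; the displayed property of the open G-stable subsets of M over field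
extensions is what the argument uses about M, and the square over X^G is cartesian exactly when the
one over X is, U^G being X^G ×_X U.) -/
theorem result (k : Type u) [Field k]
    (M G X U : Over (Spec (CommRingCat.of k))) [MonObj M] [GrpObj G] (i : G ⟶ M) [IsMonHom i]
    (o : 𝟙_ (Over (Spec (CommRingCat.of k))) ⟶ M)
    (ho : ∀ (T : Over (Spec (CommRingCat.of k))) (m : T ⟶ M), m * (toUnit T ≫ o) = toUnit T ≫ o ∧ (toUnit T ≫ o) * m = toUnit T ≫ o)
    (hM : ∀ (T : Over (Spec (CommRingCat.of k))) (K : Type u) [Field K] (eT : T.left ≅ Spec (CommRingCat.of K))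
      (W : (M ⊗ T).left.Opens),
      (CartesianMonoidalCategory.snd G (M ⊗ T)).left ⁻¹ᵁ W ≤
          ((((Magnet.MonAct.regular M).restrict i).prod (Magnet.MonAct.trivial G T)).act).left ⁻¹ᵁ W →
      (CartesianMonoidalCategory.lift (toUnit T ≫ o) (𝟙 T)).left ⁻¹ᵁ W = ⊤ → W = ⊤)
    (aX : AlgGrp.Action G X) (aU : AlgGrp.Action G U) (j : U ⟶ X) [IsOpenImmersion j.left]
    (hj : Magnet.MonAct.IsEquivariant (Magnet.MonAct.ofAction aU) (Magnet.MonAct.ofAction aX) j) :
    IsPullback
      (Magnet.MonAct.eqvHom.postcomp ((Magnet.MonAct.regular M).restrict i) j hj)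
      (Magnet.MonAct.eqvHom.evalAt ((Magnet.MonAct.regular M).restrict i) (Magnet.MonAct.ofAction aU) o)
      (Magnet.MonAct.eqvHom.evalAt ((Magnet.MonAct.regular M).restrict i) (Magnet.MonAct.ofAction aX) o)
      (yoneda.map j) := by
  haveI : Mono j := mono_of_isOpenImmersion_left j
  apply IsPullback.of_forall_isPullback_app
  intro T
  rw [Limits.Types.isPullback_iff]
  refine ⟨?_, ?_, ?_⟩
  · refine ConcreteCategory.hom_ext _ _ fun ψ => ?_
    change lift (toUnit (unop T) ≫ o) (𝟙 (unop T)) ≫ (ψ.1 ≫ j) =
      (lift (toUnit (unop T) ≫ o) (𝟙 (unop T)) ≫ ψ.1) ≫ j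
    rw [Category.assoc]
  · rintro ψ₁ ψ₂ ⟨h1, -⟩
    apply Subtype.ext
    have := congrArg Subtype.val h1
    simp only [Magnet.MonAct.eqvHom.postcomp_app_coe] at this
    exact (cancel_mono j).1 this
  · intro φ z hz
    simp only [Magnet.MonAct.eqvHom.evalAt_app] at hz
    have hz' : lift (toUnit (unop T) ≫ o) (𝟙 (unop T)) ≫ φ.1 = z ≫ j := hz
    have hrange : Set.range φ.1.left ⊆ Set.range j.left := by
      rintro _ ⟨p, rfl⟩
      exact range_aux k M G X U i o hM aX aU j hj (unop T) φ z hz' p
    let ψl : (M ⊗ unop T).left ⟶ U.left := IsOpenImmersion.lift j.left φ.1.left hrange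
    have hψl : ψl ≫ j.left = φ.1.left := IsOpenImmersion.lift_fac _ _ _
    let ψ : M ⊗ unop T ⟶ U := Over.homMk ψl (by
      rw [← Over.w j, ← Category.assoc, hψl, Over.w φ.1])
    have hψ : ψ ≫ j = φ.1 := Over.OverMorphism.ext hψl
    have hψeq : Magnet.MonAct.IsEquivariant
        (((Magnet.MonAct.regular M).restrict i).prod (Magnet.MonAct.trivial G (unop T)))
        (Magnet.MonAct.ofAction aU) ψ := by
      have h2 := φ.2
      unfold Magnet.MonAct.IsEquivariant at h2 ⊢
      rw [← cancel_mono j, Category.assoc, hψ, h2, Category.assoc]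
      have : (Magnet.MonAct.ofAction aU).act ≫ j = (G ◁ j) ≫ (Magnet.MonAct.ofAction aX).act := hj
      rw [this, ← MonoidalCategory.whiskerLeft_comp_assoc, hψ]
    refine ⟨⟨ψ, hψeq⟩, ?_, ?_⟩
    · apply Subtype.ext
      exact hψ
    · simp only [Magnet.MonAct.eqvHom.evalAt_app]
      rw [← cancel_mono j, Category.assoc, hψ]
      exact hz'

end Groth.Agent.S18958
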