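import Groth.Statements.S1896
import Mathlib
import Groth.Agent.Lib.Helper17.CohStalk
import Groth.Agent.Lib.Helper17.StalkExact

set_option autoImplicit false
universe u
open CategoryTheory AlgebraicGeometry
open Cyc

namespace Groth.Agent.S1896

/-- For a short exact sequence 0 → F → G → H → 0 of coherent O_X-modules (X locally Noetherian with
dimension function δ) whose supports have δ-dimension at most k, one has [G]_k = [F]_k + [H]_k
coefficientwise. Here (X, δ) satisfies Cyc.IsSetup (X locally Noetherian with universally catenary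
local rings, δ a dimension function). -/
theorem result (X : Scheme.{u}) (δ : X → ℤ) (hX : Cyc.IsSetup X δ) (k : ℤ) (T : ShortComplex X.Modules) (hT : T.ShortExact) (h₁ : Coh.IsCoh T.X₁) (h₂ : Coh.IsCoh T.X₂) (h₃ : Coh.IsCoh T.X₃) (hdim : ∀ x : X, Nontrivial (T.X₂.presheaf.stalk x) → δ x ≤ k) : Cyc.sheafFun δ k T.X₂ = Cyc.sheafFun δ k T.X₁ + Cyc.sheafFun δ k T.X₃ := by
  obtain ⟨hN, -, hdimfun⟩ := hX
  haveI := hN
  obtain ⟨hqc, hft⟩ := h₂
  haveI : T.X₂.IsQuasicoherent := hqc
  haveI : T.X₂.IsFiniteType := hft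
  funext x
  simp only [Cyc.sheafFun, Pi.add_apply]
  split_ifs with hk
  · have hlen := Groth.Agent.Lib.Helper17.StalkExact.length_stalk_add T hT x
    have hfin : Module.length (X.presheaf.stalk x) (T.X₂.presheaf.stalk x) < ⊤ := by
      refine Groth.Agent.Lib.Helper17.CohStalk.length_stalk_lt_top T.X₂ x fun x' hnt hsp => ?_
      by_contra hne
      have h1 := (hdimfun x' x hsp hne).1
      have h2 := hdim x' hnt
      omega
    have hne₂ : Module.length (X.presheaf.stalk x) (T.X₂.presheaf.stalk x) ≠ ⊤ := hfin.ne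
    have hne₁ : Module.length (X.presheaf.stalk x) (T.X₁.presheaf.stalk x) ≠ ⊤ :=
      ne_top_of_le_ne_top hne₂ (hlen ▸ le_self_add)
    have hne₃ : Module.length (X.presheaf.stalk x) (T.X₃.presheaf.stalk x) ≠ ⊤ :=
      ne_top_of_le_ne_top hne₂ (hlen ▸ le_add_self)
    rw [hlen, ENat.toNat_add hne₁ hne₃]
    push_cast
    rfl
  · simp

end Groth.Agent.S1896
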