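import Groth.Statements.S18960
-- import your own Groth.Agent.* helpers here

set_option autoImplicit false
universe w' w v u
open CategoryTheory Limits
open CatLim

namespace Groth.Agent.S18960

section
variable {C : Type u} [Category.{v} C] (T : C ⥤ C) {J : Type w} [Category.{w'} J]

/-- the object property: structure map invertible -/
abbrev P : ObjectProperty (Endofunctor.Algebra T) := fun A => IsIso A.str

/-- the forgetful functor -/
abbrev F : (P T).FullSubcategory ⥤ C := (P T).ι ⋙ Endofunctor.Algebra.forget T

variable {T}
variable {K : J ⥤ (P T).FullSubcategory} (c : Cocone (K ⋙ F T)) (t : IsColimit c)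

/-- carrier -/
abbrev ca (K : J ⥤ (P T).FullSubcategory) (j : J) : C := (K.obj j).obj.a

/-- structure map -/
abbrev cu (K : J ⥤ (P T).FullSubcategory) (j : J) : T.obj (ca K j) ⟶ ca K j := (K.obj j).obj.str

instance strIso (j : J) : IsIso (cu K j) := (K.obj j).property

/-- inverse structure map -/
noncomputable abbrev cuInv (K : J ⥤ (P T).FullSubcategory) (j : J) : ca K j ⟶ T.obj (ca K j) :=
  inv (cu K j)

/-- transition map -/
abbrev cφ (K : J ⥤ (P T).FullSubcategory) {j j' : J} (f : j ⟶ j') : ca K j ⟶ ca K j' :=
  (K.map f).hom.f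

/-- cocone leg -/
abbrev cι (j : J) : ca K j ⟶ c.pt := c.ι.app j

@[reassoc]
lemma map_h {j j' : J} (f : j ⟶ j') :
    T.map (cφ K f) ≫ cu K j' = cu K j ≫ cφ K f :=
  (K.map f).hom.h

@[reassoc]
lemma cφ_ι {j j' : J} (f : j ⟶ j') : cφ K f ≫ cι c j' = cι c j := c.w f

/-- cocone defining the structure map -/
def strCocone : Cocone ((K ⋙ F T) ⋙ T) where
  pt := c.pt
  ι :=
    { app := fun j => cu K j ≫ cι c j
      naturality := by
        intro j j' f
        change T.map (cφ K f) ≫ cu K j' ≫ cι c j' = (cu K j ≫ cι c j) ≫ 𝟙 _
        rw [map_h_assoc, cφ_ι, Category.comp_id] }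

variable [PreservesColimitsOfShape J T]

/-- the structure map on the colimit -/
noncomputable def str : T.obj c.pt ⟶ c.pt := (isColimitOfPreserves T t).desc (strCocone c)

@[reassoc]
lemma map_ι_str (j : J) : T.map (cι c j) ≫ str c t = cu K j ≫ cι c j :=
  (isColimitOfPreserves T t).fac (strCocone c) j

omit [PreservesColimitsOfShape J T] in
@[reassoc]
lemma inv_map {j j' : J} (f : j ⟶ j') :
    cφ K f ≫ cuInv K j' = cuInv K j ≫ T.map (cφ K f) := by
  rw [IsIso.eq_inv_comp, ← map_h_assoc, IsIso.hom_inv_id, Category.comp_id]

/-- cocone defining the inverse of the structure map -/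
noncomputable def invCocone : Cocone (K ⋙ F T) where
  pt := T.obj c.pt
  ι :=
    { app := fun j => cuInv K j ≫ T.map (cι c j)
      naturality := by
        intro j j' f
        change cφ K f ≫ cuInv K j' ≫ T.map (cι c j') = (cuInv K j ≫ T.map (cι c j)) ≫ 𝟙 _
        rw [inv_map_assoc, ← T.map_comp, cφ_ι, Category.comp_id] }

/-- the inverse -/
noncomputable def strInv : c.pt ⟶ T.obj c.pt := t.desc (invCocone c)

omit [PreservesColimitsOfShape J T] in
@[reassoc]
lemma ι_strInv (j : J) : cι c j ≫ strInv c t = cuInv K j ≫ T.map (cι c j) :=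
  t.fac (invCocone c) j

lemma str_strInv : str c t ≫ strInv c t = 𝟙 _ := by
  apply (isColimitOfPreserves T t).hom_ext
  intro j
  change T.map (cι c j) ≫ str c t ≫ strInv c t = T.map (cι c j) ≫ 𝟙 _
  rw [map_ι_str_assoc, ι_strInv, IsIso.hom_inv_id_assoc, Category.comp_id]

lemma strInv_str : strInv c t ≫ str c t = 𝟙 _ := by
  apply t.hom_ext
  intro j
  change cι c j ≫ strInv c t ≫ str c t = cι c j ≫ 𝟙 _
  rw [ι_strInv_assoc, map_ι_str, IsIso.inv_hom_id_assoc, Category.comp_id]

/-- the lifted point -/
noncomputable def liftPt : (P T).FullSubcategory where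
  obj := ⟨c.pt, str c t⟩
  property := ⟨strInv c t, str_strInv c t, strInv_str c t⟩

/-- the lifted cocone -/
noncomputable def liftCocone : Cocone K where
  pt := liftPt c t
  ι :=
    { app := fun j => ObjectProperty.homMk
        { f := cι c j
          h := map_ι_str c t j }
      naturality := by
        intro j j' f
        apply ObjectProperty.hom_ext
        apply Endofunctor.Algebra.Hom.ext
        change cφ K f ≫ cι c j' = cι c j ≫ 𝟙 _
        rw [cφ_ι, Category.comp_id] }

/-- leg of a cocone -/
abbrev sι (s : Cocone K) (j : J) : ca K j ⟶ s.pt.obj.a := (s.ι.app j).hom.f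

omit [PreservesColimitsOfShape J T] in
@[reassoc]
lemma ι_desc (s : Cocone K) (j : J) : cι c j ≫ t.desc ((F T).mapCocone s) = sι s j :=
  t.fac ((F T).mapCocone s) j

omit [PreservesColimitsOfShape J T] in
@[reassoc]
lemma sι_h (s : Cocone K) (j : J) : T.map (sι s j) ≫ s.pt.obj.str = cu K j ≫ sι s j :=
  (s.ι.app j).hom.h

/-- descent -/
noncomputable def liftDesc (s : Cocone K) : liftPt c t ⟶ s.pt :=
  ObjectProperty.homMk
    { f := t.desc ((F T).mapCocone s)
      h := by
        apply (isColimitOfPreserves T t).hom_ext
        intro j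
        change T.map (cι c j) ≫ T.map (t.desc ((F T).mapCocone s)) ≫ s.pt.obj.str =
          T.map (cι c j) ≫ str c t ≫ t.desc ((F T).mapCocone s)
        rw [← T.map_comp_assoc, ι_desc, map_ι_str_assoc, ι_desc]
        exact sι_h s j }

/-- the lifted cocone is a colimit -/
noncomputable def liftIsColimit : IsColimit (liftCocone c t) where
  desc s := liftDesc c t s
  fac s j := by
    apply ObjectProperty.hom_ext
    apply Endofunctor.Algebra.Hom.ext
    exact t.fac ((F T).mapCocone s) j
  uniq s m hm := by
    apply ObjectProperty.hom_ext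
    apply Endofunctor.Algebra.Hom.ext
    apply t.uniq ((F T).mapCocone s) m.hom.f
    intro j
    have := congrArg (fun g => g.hom.f) (hm j)
    exact this

end


/-- Let C be a category and T an endofunctor of C; let C(T) be the category whose objects are pairs (X,
u) with u : T X → X an isomorphism and whose morphisms (X, u) → (Y, w) are the morphisms X → Y
compatible with u and w — the full subcategory of T-algebras with invertible structure map — and let
π : C(T) → C be the forgetful functor. If T preserves colimits of shape J then π creates colimits of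
shape J. (The source assumes T preserves all small colimits and concludes for all small shapes; the
argument is shape by shape.) -/
theorem result {C : Type u} [Category.{v} C] (T : C ⥤ C)
    (J : Type w) [Category.{w'} J] [PreservesColimitsOfShape J T] :
    Nonempty (CreatesColimitsOfShape J
      ((ObjectProperty.ι (fun A : Endofunctor.Algebra T => IsIso A.str)) ⋙ Endofunctor.Algebra.forget T)) := by
  refine ⟨⟨fun {K} => ?_⟩⟩
  exact createsColimitOfReflectsIso fun c t =>
    { liftedCocone := liftCocone c t
      validLift := Cocones.ext (Iso.refl _) (fun j => Category.comp_id _)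
      makesColimit := liftIsColimit c t }

end Groth.Agent.S18960
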