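import Groth.Statements.S18965
-- import your own Groth.Agent.* helpers here
import Groth.Agent.Lib.Helper23.HilbPQ

set_option autoImplicit false
open CategoryTheory CategoryTheory.Limits AlgebraicGeometry Polynomial
universe u
open ShStab

namespace Groth.Agent.S18965

/-- Let k be an algebraically closed field of characteristic zero, X a smooth projective integral
variety of dimension n ≥ 1 over k polarised by an ample invertible sheaf L, and F, G torsion-free
coherent O_X-modules (pure of dimension n) which are slope-semistable with respect to L. If μ_L(G) <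
μ_L(F) then Hom(F, G) = 0. Slopes are compared through the quantity α_(n−1)/α_n of the Hilbert
polynomials with respect to L, which on a fixed polarised X is an increasing affine function of the
slope det · L^(n−1)/rank. -/
theorem result (k : Type u) [Field k] [IsAlgClosed k] [CharZero k]
    (X : Scheme.{u}) [X.Over (Spec (CommRingCat.of k))] [IsIntegral X]
    [IsProper (X ↘ Spec (CommRingCat.of k))] [Smooth (X ↘ Spec (CommRingCat.of k))]
    (n : ℕ) (hn : 1 ≤ n) (hX : topologicalKrullDim X = (n : WithBot ℕ∞))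
    (L : X.Modules) (hLi : PicF.IsInvertible L) (hL : CohB1.IsAmple L)
    (F G : X.Modules) (hFt : ShStab.IsPure X F n) (hGt : ShStab.IsPure X G n)
    (hF : ShStab.IsMuSemistable k X L F n) (hG : ShStab.IsMuSemistable k X L G n)
    (pF pG : ℚ[X]) (hpF : ShStab.IsHilbPoly k X L F pF) (hpG : ShStab.IsHilbPoly k X L G pG)
    (hlt : StabCat.hatSlope n pG < StabCat.hatSlope n pF) (φ : F ⟶ G) : φ = 0 := by
  classical
  by_contra hφ
  haveI := Groth.Agent.Lib.Helper23.HilbP.isNoetherian_of_isProper k X
  have hIcoh : Coh.IsCoh (Abelian.image φ) :=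
    Groth.Agent.Lib.Helper17.DevBasic.isCoh_kernel (cokernel.π φ) hG.1
      (Groth.Agent.Lib.Helper17.DevBasic.isCoh_cokernel φ hF.1.1 hG.1).1
  have hfac : Abelian.factorThruImage φ ≫ Abelian.image.ι φ = φ := Abelian.image.fac φ
  have hI0 : ¬ IsZero (Abelian.image φ) := fun hz =>
    hφ (by rw [← hfac, hz.eq_of_tgt (Abelian.factorThruImage φ) 0, Limits.zero_comp])
  obtain ⟨pI, hpI⟩ := Groth.Agent.Lib.Helper23.HilbP.exists_isHilbPoly k X hL _ hIcoh
  have aI : 0 < StabCat.alpha n pI :=
    Groth.Agent.Lib.Helper23.HilbP.alpha_pos_of_pure k hL hGt (Abelian.image.ι φ) hIcoh hI0 hpI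
  have aF : 0 < StabCat.alpha n pF :=
    Groth.Agent.Lib.Helper23.HilbP.alpha_pos_of_pure k hL hFt (𝟙 F) hF.1 hF.2.1 hpF
  -- image in G
  have h1 := Groth.Agent.Lib.Helper23.HilbP.muSS_sub k hL hG hGt (Abelian.image.ι φ) hIcoh hpI hpG
  -- kernel in F
  have hK : Coh.IsCoh (kernel (Abelian.factorThruImage φ)) :=
    Groth.Agent.Lib.Helper17.DevBasic.isCoh_kernel _ hF.1 hIcoh.1
  have hpK : ShStab.IsHilbPoly k X L (kernel (Abelian.factorThruImage φ)) (pF - pI) :=
    Groth.Agent.Lib.Helper23.HilbP.isHilbPoly_X₁ k hL.1 _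
      (Groth.Agent.Lib.Helper17.DevKey.shortExact_of_epi (Abelian.factorThruImage φ)) hK hF.1 hIcoh
      hpF hpI
  have h2 := Groth.Agent.Lib.Helper23.HilbP.muSS_sub k hL hF hFt
    (kernel.ι (Abelian.factorThruImage φ)) hK hpK hpF
  rw [Groth.Agent.Lib.Helper23.HilbP.alpha_sub, Groth.Agent.Lib.Helper23.HilbP.alpha_sub] at h2
  have h3 : StabCat.alpha (n - 1) pF = StabCat.hatSlope n pF * StabCat.alpha n pF := by
    unfold StabCat.hatSlope
    rw [div_mul_cancel₀ _ aF.ne']
  -- μF * αI ≤ α_{n-1} I ≤ μG * αI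
  have h4 : StabCat.hatSlope n pF * StabCat.alpha n pI ≤ StabCat.hatSlope n pG * StabCat.alpha n pI := by
    nlinarith
  have := le_of_mul_le_mul_right h4 aI
  linarith

end Groth.Agent.S18965
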