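import Groth.Statements.S18967
-- import your own Groth.Agent.* helpers here
import Groth.Agent.Lib.Helper23.HilbPR

set_option autoImplicit false
open CategoryTheory CategoryTheory.Limits AlgebraicGeometry Polynomial
universe u
open ShStab

namespace Groth.Agent.S18967

/-- Let k be an algebraically closed field of characteristic zero, X a smooth projective integral
variety of dimension n ≥ 1 over k polarised by an ample invertible sheaf L, and 0 → F → H → G → 0 a
short exact sequence of O_X-modules with F and G torsion-free coherent (pure of dimension n) and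
slope-semistable with respect to L of the same slope μ. Then H is slope-semistable of slope μ; in
particular this applies to H = F ⊕ G. Slopes are compared through the quantity α_(n−1)/α_n of the
Hilbert polynomials with respect to L, an increasing affine function of the slope det ·
L^(n−1)/rank. -/
theorem result (k : Type u) [Field k] [IsAlgClosed k] [CharZero k]
    (X : Scheme.{u}) [X.Over (Spec (CommRingCat.of k))] [IsIntegral X]
    [IsProper (X ↘ Spec (CommRingCat.of k))] [Smooth (X ↘ Spec (CommRingCat.of k))]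
    (n : ℕ) (hn : 1 ≤ n) (hX : topologicalKrullDim X = (n : WithBot ℕ∞))
    (L : X.Modules) (hLi : PicF.IsInvertible L) (hL : CohB1.IsAmple L)
    (T : ShortComplex X.Modules) (hT : T.ShortExact)
    (hFt : ShStab.IsPure X T.X₁ n) (hGt : ShStab.IsPure X T.X₃ n)
    (hF : ShStab.IsMuSemistable k X L T.X₁ n) (hG : ShStab.IsMuSemistable k X L T.X₃ n)
    (pF pG : ℚ[X]) (hpF : ShStab.IsHilbPoly k X L T.X₁ pF) (hpG : ShStab.IsHilbPoly k X L T.X₃ pG)
    (hμ : StabCat.hatSlope n pF = StabCat.hatSlope n pG) :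
    ShStab.IsMuSemistable k X L T.X₂ n ∧
      ∀ pH : ℚ[X], ShStab.IsHilbPoly k X L T.X₂ pH → StabCat.hatSlope n pH = StabCat.hatSlope n pF := by
  classical
  haveI := Groth.Agent.Lib.Helper23.HilbP.isNoetherian_of_isProper k X
  have hH : Coh.IsCoh T.X₂ := Groth.Agent.Lib.Helper1.PushCoh.isCoh_of_shortExact T hT hF.1 hG.1
  haveI := hT.mono_f
  have hH0 : ¬ IsZero T.X₂ := fun hz => hF.2.1 (IsZero.of_mono T.f hz)
  have hHp : ShStab.IsPure X T.X₂ n :=
    Groth.Agent.Lib.Helper23.HilbP.isPure_of_shortExact k hL T hT hF.1 hG.1 hFt hGt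
  have hpH0 : ShStab.IsHilbPoly k X L T.X₂ (pF + pG) :=
    Groth.Agent.Lib.Helper23.HilbP.isHilbPoly_add k hL.1 T hT hF.1 hH hG.1 hpF hpG
  have aF : 0 < StabCat.alpha n pF :=
    Groth.Agent.Lib.Helper23.HilbP.alpha_pos_of_pure k hL hFt (𝟙 _) hF.1 hF.2.1 hpF
  have aG : 0 < StabCat.alpha n pG :=
    Groth.Agent.Lib.Helper23.HilbP.alpha_pos_of_pure k hL hGt (𝟙 _) hG.1 hG.2.1 hpG
  have eF : StabCat.alpha (n - 1) pF = StabCat.hatSlope n pF * StabCat.alpha n pF := by
    unfold StabCat.hatSlope; rw [div_mul_cancel₀ _ aF.ne']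
  have eG : StabCat.alpha (n - 1) pG = StabCat.hatSlope n pF * StabCat.alpha n pG := by
    rw [hμ]; unfold StabCat.hatSlope; rw [div_mul_cancel₀ _ aG.ne']
  have hslope : StabCat.hatSlope n (pF + pG) = StabCat.hatSlope n pF := by
    have hpos : 0 < StabCat.alpha n pF + StabCat.alpha n pG := by linarith
    have : StabCat.hatSlope n (pF + pG) =
        (StabCat.alpha (n - 1) pF + StabCat.alpha (n - 1) pG) /
          (StabCat.alpha n pF + StabCat.alpha n pG) := by
      unfold StabCat.hatSlope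
      rw [Groth.Agent.Lib.Helper23.HilbP.alpha_add, Groth.Agent.Lib.Helper23.HilbP.alpha_add]
    rw [this, eF, eG, ← mul_add, mul_div_assoc, div_self hpos.ne', mul_one]
  refine ⟨⟨hH, hH0, hHp _ (𝟙 _) inferInstance hH hH0, ?_, ?_⟩, ?_⟩
  · intro S ι hι hS
    by_cases hz : IsZero S
    · rw [Groth.Agent.Lib.Helper17.DevBasic.support_eq_empty_of_isZero hz,
        Groth.Agent.Lib.Helper23.HilbP.topologicalKrullDim_empty, WithBot.bot_add]
      exact WithBot.bot_ne_coe
    · rw [hHp S ι hι hS hz]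
      intro h
      have h' : ((n + 1 : ℕ) : WithBot ℕ∞) = ((n : ℕ) : WithBot ℕ∞) := by exact_mod_cast h
      have h'' : ((n + 1 : ℕ) : ℕ∞) = ((n : ℕ) : ℕ∞) := by exact_mod_cast h'
      have : n + 1 = n := by exact_mod_cast h''
      omega
  · intro S ι hι hS pS pH hpS hpH a0 a1
    haveI := hι
    have ePH : pH = pF + pG := Groth.Agent.Lib.Helper23.HilbP.isHilbPoly_unique k hpH hpH0
    obtain ⟨S', S'', i', i'', a, b, w, hi', hi'', hS', hS'', hex⟩ :=
      Groth.Agent.Lib.Helper23.HilbP.sub_of_shortExact T hT hF.1 hG.1 ι hS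
    haveI := hi'
    haveI := hi''
    obtain ⟨p', hp'⟩ := Groth.Agent.Lib.Helper23.HilbP.exists_isHilbPoly k X hL _ hS'
    obtain ⟨p'', hp''⟩ := Groth.Agent.Lib.Helper23.HilbP.exists_isHilbPoly k X hL _ hS''
    have ePS : pS = p' + p'' := Groth.Agent.Lib.Helper23.HilbP.isHilbPoly_unique k hpS
      (Groth.Agent.Lib.Helper23.HilbP.isHilbPoly_add k hL.1 _ hex hS' hS hS'' hp' hp'')
    have h1 := Groth.Agent.Lib.Helper23.HilbP.muSS_sub k hL hF hFt i' hS' hp' hpF
    have h2 := Groth.Agent.Lib.Helper23.HilbP.muSS_sub k hL hG hGt i'' hS'' hp'' hpG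
    rw [← hμ] at h2
    rw [ePH, hslope]
    have : StabCat.hatSlope n pS = StabCat.alpha (n - 1) pS / StabCat.alpha n pS := rfl
    rw [this, div_le_iff₀ a0, ePS, Groth.Agent.Lib.Helper23.HilbP.alpha_add,
      Groth.Agent.Lib.Helper23.HilbP.alpha_add]
    linarith
  · intro pH hpH
    rw [Groth.Agent.Lib.Helper23.HilbP.isHilbPoly_unique k hpH hpH0]
    exact hslope

end Groth.Agent.S18967
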