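import Groth.Statements.S6477
import Groth.Agent.S6479
import Groth.Agent.Lib.Helper17.PbStalk

set_option autoImplicit false
universe u
open CategoryTheory AlgebraicGeometry
open CategoryTheory.Limits
open Cyc

namespace Groth.Agent.S6477

open Groth.Agent.S6479 (delta_le_and GenF)
open TensorProduct

theorem stalk_length (X X' : Scheme.{u}) (p : X' ⟶ X) [Flat p] (F : X.Modules)
    [F.IsQuasicoherent] (x' : X') :
    Module.length (X'.presheaf.stalk x')
        (((Scheme.Modules.pullback p).obj F).presheaf.stalk x') =
      Module.length (X.presheaf.stalk (p x')) (F.presheaf.stalk (p x')) *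
      Module.length (X'.presheaf.stalk x') (X'.presheaf.stalk x' ⧸
        Ideal.map (p.stalkMap x').hom (IsLocalRing.maximalIdeal (X.presheaf.stalk (p x')))) := by
  letI := (p.stalkMap x').hom.toAlgebra
  letI : Module (X.presheaf.stalk (p x'))
      (((Scheme.Modules.pullback p).obj F).presheaf.stalk x') :=
    Module.compHom _ (p.stalkMap x').hom
  obtain ⟨hst, γ, hγ⟩ := Groth.Agent.Lib.Helper17.PbStalk.exists_isBaseChange_stalk p F x'
  haveI : Module.Flat (X.presheaf.stalk (p x')) (X'.presheaf.stalk x') := Flat.stalkMap p x'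
  haveI : IsLocalHom (algebraMap (X.presheaf.stalk (p x')) (X'.presheaf.stalk x')) :=
    inferInstanceAs (IsLocalHom (p.stalkMap x').hom)
  haveI : Module.FaithfullyFlat (X.presheaf.stalk (p x')) (X'.presheaf.stalk x') :=
    Module.FaithfullyFlat.of_flat_of_isLocalHom
  have h1 := Groth.Agent.S2498.main (A := X.presheaf.stalk (p x')) (B := X'.presheaf.stalk x')
    (X'.presheaf.stalk x') (F.presheaf.stalk (p x'))
  rw [← hγ.equiv.length_eq, h1]
  congr 1
  exact (Submodule.quotEquivOfEq _ _ (by rw [smul_eq_mul, Ideal.mul_top]; rfl)).length_eq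

/-- Let F be a coherent O_X-module with dim_δ Supp(F) ≤ k and F' = p^*F its base change to X'. Then
dim_{δ'} Supp(F') ≤ k + c and g^*[F]_k = [F']_{k+c} in Z_{k+c}(X') (coefficientwise; support bounds
through nontrivial stalks). Setting: p : X' → X is flat (not necessarily of finite type), (X, δ) and
(X', δ') satisfy Cyc.IsSetup, and δ'(x') = δ(p x') + c whenever x' is maximal under generalization
inside its fibre p⁻¹(p x'); g^* : Z_k(X) → Z_{k+c}(X') is the coefficientwise flat pullback
Cyc.pullFun p δ' δ c. (The published statement takes X′ = X ×_S S′ for a flat S′ → S and X locally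
of finite type over S; this row allows any flat p : X′ → X with the shift condition. The published
statement also has a part for closed subschemes, which follows with [Z]_k = [O_Z]_k; this row does
not restate it.) -/
theorem result (X X' : Scheme.{u}) (p : X' ⟶ X) [Flat p] (δ : X → ℤ) (δ' : X' → ℤ) (hX : Cyc.IsSetup X δ) (hX' : Cyc.IsSetup X' δ') (c : ℤ) (hc : ∀ x' : X', (∀ y, p y = p x' → y ⤳ x' → y = x') → δ' x' = δ (p x') + c) (k : ℤ) (F : X.Modules) (hF : Coh.IsCoh F) (hdim : ∀ x : X, Nontrivial (F.presheaf.stalk x) → δ x ≤ k) : (∀ x' : X', Nontrivial (((Scheme.Modules.pullback p).obj F).presheaf.stalk x') → δ' x' ≤ k + c) ∧ Cyc.pullFun p δ' δ c (Cyc.sheafFun δ k F) = Cyc.sheafFun δ' (k + c) ((Scheme.Modules.pullback p).obj F) := by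
  obtain ⟨hQC, hFT⟩ := hF
  haveI : F.IsQuasicoherent := hQC
  obtain ⟨-, -, hδ'⟩ := hX'
  have hsub : ∀ x' : X', Nontrivial (((Scheme.Modules.pullback p).obj F).presheaf.stalk x') →
      Nontrivial (F.presheaf.stalk (p x')) := by
    intro x' hnt
    by_contra h
    rw [not_nontrivial_iff_subsingleton] at h
    have := stalk_length X X' p F x'
    rw [Module.length_eq_zero_iff.mpr h, zero_mul, Module.length_eq_zero_iff] at this
    exact not_subsingleton _ this
  have hA : ∀ x' : X', Nontrivial (((Scheme.Modules.pullback p).obj F).presheaf.stalk x') →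
      δ' x' ≤ k + c := by
    intro x' hnt
    have h1 := hdim (p x') (hsub x' hnt)
    have h2 := (delta_le_and p x' δ' δ hδ' c hc).1
    omega
  refine ⟨hA, ?_⟩
  funext x'
  have hlen := stalk_length X X' p F x'
  have B1 := (delta_le_and p x' δ' δ hδ' c hc).1
  simp only [Cyc.pullFun, Cyc.sheafFun]
  by_cases hR : δ' x' = k + c
  · rw [if_pos hR]
    by_cases hk : δ (p x') = k
    · have hL : δ' x' = δ (p x') + c := by omega
      rw [if_pos hL, if_pos hk, hlen, ENat.toNat_mul]
      push_cast
      ring
    · rw [if_neg hk]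
      have hss : Subsingleton (((Scheme.Modules.pullback p).obj F).presheaf.stalk x') := by
        by_contra hns
        rw [not_subsingleton_iff_nontrivial] at hns
        have h1 := hdim (p x') (hsub x' hns)
        omega
      rw [Module.length_eq_zero_iff.mpr hss]
      simp
  · rw [if_neg hR]
    split_ifs with h1 h2
    · omega
    · simp
    · rfl

end Groth.Agent.S6477
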