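import Groth.Statements.S18988
import Groth.Agent.Lib.Helper19.Unip7

set_option autoImplicit false
universe u
open TensorProduct
open HopfRep

namespace Groth.Agent.S18988

/-- In Hopf-algebra form, over an algebraically closed field k of characteristic zero, let A be a
finitely generated commutative Hopf algebra which is unipotent in the fixed-vector sense (the
coordinate ring of a unipotent group U), coacting multiplicatively on a finitely generated
commutative k-algebra R. Then a k-subspace V of R is a subcomodule (is invariant under U) if and
only if it is stable under the infinitesimal action of every ε-derivation ξ : A → k: for every v in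
V, applying ξ to the A-factor of the coaction of v gives an element of the image of V ⊗ k in R ⊗ k. -/
theorem result
    (k : Type u) [Field k] [IsAlgClosed k] [CharZero k]
    (A : Type u) [CommRing A] [HopfAlgebra k A] [Algebra.FiniteType k A] (hU : HopfRep.IsUnipotent k A)
    (R : Type u) [CommRing R] [Algebra k R] [Algebra.FiniteType k R]
    [HopfRep.Comod k A R] [GLin.IsCoactAlg k A R] (V : Submodule k R) :
    HopfRep.IsSubcomod (k := k) (A := A) V ↔
      ∀ (ξ : LieHopf.Lie k A) (v : R), v ∈ V →
        LinearMap.lTensor R (ξ.toLinearMap.restrictScalars k) (HopfRep.Comod.coact (k := k) (A := A) v) ∈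
          LinearMap.range (LinearMap.rTensor (LieHopf.K k A) V.subtype) := by
  have hut := Groth.Agent.Lib.Helper19.Unip.utSpan_eq_top_of_isUnipotent hU
  constructor
  · intro hV ξ v hv
    rw [Groth.Agent.Lib.Helper19.Unip.lTensor_lie_mem_range_iff]
    exact (Groth.Agent.Lib.Helper19.Reynolds.isSubcomod_iff V).1 hV
      (Groth.Agent.Lib.Helper19.Unip.lieFun ξ) v hv
  · intro h
    refine Groth.Agent.Lib.Helper19.Unip.isSubcomod_of_epsDer_stable hut V
      (fun ξ' hξ' w hw => ?_)
    have h1 := (Groth.Agent.Lib.Helper19.Unip.lTensor_lie_mem_range_iff
      (Groth.Agent.Lib.Helper19.Unip.toLie ξ' hξ') V _).1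
      (h (Groth.Agent.Lib.Helper19.Unip.toLie ξ' hξ') w hw)
    rw [Groth.Agent.Lib.Helper19.Unip.lieFun_toLie] at h1
    exact h1

end Groth.Agent.S18988
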