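import Groth.Statements.S1899
import Groth.Agent.Lib.Helper1.AssOpen
import Groth.Agent.Lib.Helper5.ClosedPsi

set_option autoImplicit false
universe u
open CategoryTheory AlgebraicGeometry Opposite TopologicalSpace
open Cyc

namespace Groth.Agent.S1899

open Groth.Agent.Lib.Helper1.AssOpen

/-- A semilinear bijection over a surjective ring map preserves length. -/
theorem length_eq_of_semilinear_bijective {A B N P : Type*} [CommRing A] [CommRing B]
    [AddCommGroup N] [AddCommGroup P] [Module A N] [Module B P] (φ : A →+* B)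
    (hφ : Function.Surjective φ) (θ : N →ₛₗ[φ] P) (hθ : Function.Bijective θ) :
    Module.length A N = Module.length B P := by
  haveI : RingHomSurjective φ := ⟨hφ⟩
  rw [Module.length, Module.length, WithBot.unbot_inj,
    Order.krullDim_eq_of_orderIso (Submodule.orderIsoMapComapOfBijective θ hθ)]

theorem stalkPush_bijective' {Z X : Scheme.{u}} (i : Z ⟶ X) [IsClosedImmersion i] (M : Z.Modules)
    (z : Z) : Function.Bijective (stalkPush i M z) := by
  haveI : IsIso (M.presheaf.stalkPushforward Ab i.base z) :=
    TopCat.Presheaf.stalkPushforward.stalkPushforward_iso_of_isInducing (C := Ab)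
      i.isClosedEmbedding.isInducing M.presheaf z
  exact ConcreteCategory.bijective_of_isIso (M.presheaf.stalkPushforward Ab i.base z)

/-- The stalk of the structure module is the local ring, as a module over the local ring. -/
theorem length_unit_stalk (Z : Scheme.{u}) (z : Z) :
    Module.length (Z.presheaf.stalk z) ((Coh.structureModule Z).presheaf.stalk z) =
      Module.length (Z.presheaf.stalk z) (Z.presheaf.stalk z) := by
  set M := Coh.structureModule Z with hM
  let e : M.presheaf.stalk z := M.presheaf.germ ⊤ z trivial (show Γ(M, ⊤) from (1 : Γ(Z, ⊤)))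
  let ψ : Z.presheaf.stalk z →ₗ[Z.presheaf.stalk z] M.presheaf.stalk z :=
    LinearMap.toSpanSingleton _ _ e
  have key : ∀ (U : Z.Opens) (hz : z ∈ U) (s : Γ(Z, U)),
      ψ (Z.presheaf.germ U z hz s) = M.presheaf.germ U z hz (show Γ(M, U) from s) := by
    intro U hz s
    have h1 : M.presheaf.germ U z hz (show Γ(M, U) from (1 : Γ(Z, U))) = e := by
      have h := TopCat.Presheaf.germ_res_apply M.presheaf (homOfLE (le_top : U ≤ ⊤)) z hz
        (show Γ(M, ⊤) from (1 : Γ(Z, ⊤)))
      have h' : M.presheaf.map (homOfLE (le_top : U ≤ ⊤)).op (show Γ(M, ⊤) from (1 : Γ(Z, ⊤))) =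
          (show Γ(M, U) from (1 : Γ(Z, U))) := by
        show (Z.presheaf.map (homOfLE (le_top : U ≤ ⊤)).op) (1 : Γ(Z, ⊤)) = 1
        exact map_one _
      rw [← h']
      exact h
    show Z.presheaf.germ U z hz s • e = _
    rw [← h1, ← Groth.Agent.Lib.Helper3.QS.germ_smul M z hz s (show Γ(M, U) from (1 : Γ(Z, U)))]
    congr 1
    show s * 1 = s
    exact mul_one s
  have hsurj : Function.Surjective ψ := by
    intro p
    obtain ⟨U, hz, s, rfl⟩ := M.presheaf.exists_germ_eq (x := z) p
    exact ⟨Z.presheaf.germ U z hz (show Γ(Z, U) from s), key U hz _⟩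
  have hinj : Function.Injective ψ := by
    rw [injective_iff_map_eq_zero]
    intro b hb
    obtain ⟨U, hz, s, rfl⟩ := Z.presheaf.exists_germ_eq (x := z) b
    rw [key U hz s] at hb
    have h0 : M.presheaf.germ U z hz (show Γ(M, U) from s) =
        M.presheaf.germ U z hz (0 : Γ(M, U)) := by
      rw [hb, map_zero]
    obtain ⟨W, hzW, iU, iV, hW⟩ := TopCat.Presheaf.germ_eq M.presheaf z hz hz _ _ h0
    have hW' : Z.presheaf.map iU.op s = 0 := by
      have h2 : M.presheaf.map iV.op (0 : Γ(M, U)) = 0 := map_zero _
      rw [h2] at hW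
      exact hW
    rw [← Z.presheaf.germ_res_apply iU z hzW s, hW', map_zero]
  exact ((LinearEquiv.ofBijective ψ ⟨hinj, hsurj⟩).length_eq).symm

theorem stalk_subsingleton {Z X : Scheme.{u}} (i : Z ⟶ X) [IsClosedImmersion i] (x : X)
    (hx : x ∉ Set.range i) :
    Subsingleton (((Coh.push i).obj (Coh.structureModule Z)).presheaf.stalk x) := by
  set N := (Coh.push i).obj (Coh.structureModule Z) with hN
  let W : X.Opens := ⟨(Set.range i)ᶜ, i.isClosedEmbedding.isClosed_range.isOpen_compl⟩
  have hxW : x ∈ W := hx
  refine ⟨fun a b => ?_⟩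
  obtain ⟨U, hxU, s, rfl⟩ := N.presheaf.exists_germ_eq (x := x) a
  obtain ⟨V, hxV, t, rfl⟩ := N.presheaf.exists_germ_eq (x := x) b
  have hxT : x ∈ U ⊓ V ⊓ W := ⟨⟨hxU, hxV⟩, hxW⟩
  have hTU : U ⊓ V ⊓ W ≤ U := inf_le_left.trans inf_le_left
  have hTV : U ⊓ V ⊓ W ≤ V := inf_le_left.trans inf_le_right
  have hbot : i ⁻¹ᵁ (U ⊓ V ⊓ W) = ⊥ := by
    ext z'
    constructor
    · intro hz
      exact (hz.2 ⟨z', rfl⟩).elim
    · intro hz
      exact hz.elim
  have hsubT : Subsingleton Γ(Z, i ⁻¹ᵁ (U ⊓ V ⊓ W)) :=
    CommRingCat.subsingleton_of_isTerminal (Z.sheaf.isTerminalOfEqEmpty hbot)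
  have hst : N.presheaf.map (homOfLE hTU).op s = N.presheaf.map (homOfLE hTV).op t :=
    @Subsingleton.elim Γ(Z, i ⁻¹ᵁ (U ⊓ V ⊓ W)) hsubT _ _
  rw [← N.presheaf.germ_res_apply (homOfLE hTU) x hxT s,
    ← N.presheaf.germ_res_apply (homOfLE hTV) x hxT t, hst]

/-- For a closed immersion i : Z → X with Z of δ-dimension ≤ k, [Z]_k = [O_Z]_k, i.e. the multiplicities
computed from lengths of the local rings O_{Z,z} agree with those computed from the stalks of i_*O_Z
as O_X-modules. A pair (X, δ) with Cyc.IsSetup plays the role of a scheme locally of finite type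
over a fixed base with a dimension function (X locally Noetherian with universally catenary local
rings, δ a dimension function), and Cyc.DeltaCompat records that the dimension function upstairs is
the induced one. -/
theorem result (X Z : Scheme.{u}) (δ : X → ℤ) (hX : Cyc.IsSetup X δ) (i : Z ⟶ X) [IsClosedImmersion i] (k : ℤ) (hdim : ∀ z : Z, δ (i z) ≤ k) : Cyc.subschemeFun δ k i = Cyc.sheafFun δ k ((Coh.push i).obj (Coh.structureModule Z)) := by
  funext x
  unfold Cyc.subschemeFun Cyc.sheafFun
  by_cases hk : δ x = k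
  · rw [if_pos hk, if_pos hk]
    by_cases hx : x ∈ Set.range i
    · obtain ⟨z, rfl⟩ := hx
      have hset : {z' : Z | i z' = i z} = {z} := by
        ext z'
        simp only [Set.mem_setOf_eq, Set.mem_singleton_iff]
        exact ⟨fun h => i.isClosedEmbedding.injective h, fun h => by rw [h]⟩
      rw [hset, finsum_mem_singleton]
      let θ : ((Coh.push i).obj (Coh.structureModule Z)).presheaf.stalk (i z) →ₛₗ[(i.stalkMap z).hom]
          (Coh.structureModule Z).presheaf.stalk z :=
        { toFun := stalkPush i (Coh.structureModule Z) z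
          map_add' := map_add _
          map_smul' := stalkPush_smul i (Coh.structureModule Z) z }
      have hlen : Module.length (X.presheaf.stalk (i z))
          (((Coh.push i).obj (Coh.structureModule Z)).presheaf.stalk (i z)) =
          Module.length (Z.presheaf.stalk z) (Z.presheaf.stalk z) := by
        rw [← length_unit_stalk Z z]
        exact length_eq_of_semilinear_bijective (i.stalkMap z).hom (i.stalkMap_surjective z) θ
          (stalkPush_bijective' i _ z)
      exact congrArg (fun l : ℕ∞ => ((l.toNat : ℕ) : ℤ)) hlen.symm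
    · have hset : {z' : Z | i z' = x} = ∅ := by
        ext z'
        simp only [Set.mem_setOf_eq, Set.mem_empty_iff_false, iff_false]
        exact fun h => hx ⟨z', h⟩
      rw [hset, finsum_mem_empty]
      haveI := stalk_subsingleton i x hx
      rw [Module.length_eq_zero]
      simp
  · rw [if_neg hk, if_neg hk]

end Groth.Agent.S1899
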