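import Groth.Statements.S18995
import Groth.Agent.Lib.Lead.ProjBdB

set_option autoImplicit false
universe u
open CategoryTheory AlgebraicGeometry
open ProjBd

namespace Groth.Agent.S18995

/-- Let X be a scheme and 0 → A → E → B → 0 a short exact sequence of finite locally free O_X-modules.
Let (π : P → X, O(1), q) be the projective bundle of rank-one quotients of E and (π_B : P_B → X,
O_B(1), q_B) that of B, each given through its universal property, and let c : P_B → P be the
morphism over X together with an isomorphism c^*O(1) ≅ O_B(1) identifying c^*q with π_B^*E → π_B^*B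
→ O_B(1); thus c is the closed sub-bundle P(B) ⊂ P(E). Then for every open subset W of P that does
not meet the image of c, the restriction to W of the composite π^*A → π^*E → O(1) is an epimorphism
of O_W-modules. Consequently W carries an invertible quotient of the pull-back of A and hence a
morphism to P(A) over X, the projection away from the sub-bundle. (In the convention where a
projective bundle parametrises lines rather than rank-one quotients, this is the statement that for
an exact sequence 0 → F → E → G → 0 of locally free sheaves the tautological line sub-bundle of E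
restricted to the complement of P(F) in P(E) maps isomorphically onto a line sub-bundle of the
pull-back of G, giving the canonical morphism from that complement to P(G); A, E, B here are the
duals of G, E, F there. The published statement takes X of finite type over a field; the row is
stated for an arbitrary scheme X, which the argument allows.) -/
theorem result
    (X P PB : Scheme.{u}) (S : ShortComplex X.Modules) (hS : S.ShortExact)
    (hA : FlatMod.IsFinLocFree S.X₁) (hE : FlatMod.IsFinLocFree S.X₂) (hB : FlatMod.IsFinLocFree S.X₃)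
    (π : P ⟶ X) (O1 : P.Modules) (q : (Scheme.Modules.pullback π).obj S.X₂ ⟶ O1)
    (hP : KRR.IsProjBundle π S.X₂ O1 q)
    (πB : PB ⟶ X) (O1B : PB.Modules) (qB : (Scheme.Modules.pullback πB).obj S.X₃ ⟶ O1B)
    (hPB : KRR.IsProjBundle πB S.X₃ O1B qB)
    (c : PB ⟶ P) (hc : c ≫ π = πB) (ec : (Scheme.Modules.pullback c).obj O1 ≅ O1B)
    (hcq : (Scheme.Modules.pullbackCongr hc).inv.app S.X₂ ≫ (Scheme.Modules.pullbackComp c π).inv.app S.X₂ ≫
      (Scheme.Modules.pullback c).map q ≫ ec.hom = (Scheme.Modules.pullback πB).map S.g ≫ qB)
    (W : P.Opens) (hW : Disjoint (W : Set P) (Set.range c.base)) :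
    Epi ((Scheme.Modules.pullback W.ι).map ((Scheme.Modules.pullback π).map S.f ≫ q)) := by
  classical
  subst hc
  have hO1' : FlatMod.IsFinLocFree O1 :=
    Groth.Agent.Lib.Helper17.LocFreeRank.isFinLocFree_of_rank hP.invertible
  haveI : O1.IsQuasicoherent :=
    Groth.Agent.Lib.Helper3.LocFreeCrit.isQuasicoherent_of_isFinLocFree hO1'
  haveI : O1.IsFiniteType :=
    Groth.Agent.Lib.Helper17.LocConstRank.isFiniteType_of_isFinLocFree O1 hO1'
  have hA' : FlatMod.IsFinLocFree ((Scheme.Modules.pullback π).obj S.X₁) :=
    Groth.Agent.Lib.Helper17.LocFreeOps.isFinLocFree_pullback π S.X₁ hA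
  haveI : ((Scheme.Modules.pullback π).obj S.X₁).IsQuasicoherent :=
    Groth.Agent.Lib.Helper3.LocFreeCrit.isQuasicoherent_of_isFinLocFree hA'
  rw [Groth.Agent.Lib.Helper17.PbEpi.epi_pullback_map_iff]
  intro y
  have hZ := Groth.Agent.Lib.Helper13.PtEval.isPt_spec_residueField P (W.ι y)
  obtain ⟨z⟩ := hZ.nonempty
  have hxz : P.fromSpecResidueField (W.ι y) z = W.ι y := Scheme.fromSpecResidueField_apply _ _
  have hyW : W.ι y ∉ Set.range c := fun hr =>
    Set.disjoint_left.mp hW y.2 hr
  have hcq' : (Scheme.Modules.pullbackComp c π).inv.app S.X₂ ≫ (Scheme.Modules.pullback c).map q ≫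
      ec.hom = (Scheme.Modules.pullback (c ≫ π)).map S.g ≫ qB := by
    rw [← hcq, Groth.Agent.Lib.Lead.ProjBdA.pullbackCongr_inv_app, eqToHom_refl, Category.id_comp]
  have key : Epi ((Scheme.Modules.pullback (P.fromSpecResidueField (W.ι y))).map
      ((Scheme.Modules.pullback π).map S.f ≫ q)) :=
    Groth.Agent.Lib.Lead.ProjBdB.epi_fibre S hS π O1 q hP c O1B qB hPB ec hcq' hZ
      (P.fromSpecResidueField (W.ι y)) z (by rw [hxz]; exact hyW)
  have h2 := (Groth.Agent.Lib.Helper17.PbEpi.epi_pullback_map_iff
    (P.fromSpecResidueField (W.ι y)) ((Scheme.Modules.pullback π).map S.f ≫ q)).mp key z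
  rwa [hxz] at h2

end Groth.Agent.S18995
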