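import Groth.Statements.S19001
import Groth.Agent.Lib.Helper26.FBaseDeg


set_option autoImplicit false
universe u
open CategoryTheory CategoryTheory.Limits AlgebraicGeometry
open FBase

namespace Groth.Agent.S19001

open Groth.Agent.Lib.Helper26 TensorProduct in
theorem main (k : Type u) [Field k]
    (X Z : Scheme.{u}) [X.Over (Spec (CommRingCat.of k))] [Z.Over (Spec (CommRingCat.of k))]
    [IsIntegral X] [IsIntegral Z]
    [IsProper (X ↘ Spec (CommRingCat.of k))] [IsProper (Z ↘ Spec (CommRingCat.of k))]
    (hXn : ∀ x : X, IsIntegrallyClosed (X.presheaf.stalk x))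
    (f : Z ⟶ X) (hf : f ≫ (X ↘ Spec (CommRingCat.of k)) = Z ↘ Spec (CommRingCat.of k))
    [IsFinite f] [Surjective f]
    (hgr : ∀ (E : Type u) [Field E] (i : Γ(X, ⊤) →+* E),
      AlgebraicGeometry.IsReduced (pullback X.toSpecΓ (Spec.map (CommRingCat.ofHom i)))) :
    letI := f.appTop.hom.toAlgebra;
    letI := (f.residueFieldMap (genericPoint Z)).hom.toAlgebra;
    Module.finrank Γ(X, ⊤) Γ(Z, ⊤) ∣ Module.finrank (X.residueField (f.base (genericPoint Z))) (Z.residueField (genericPoint Z)) := by
  classical
  have hy : f.base (genericPoint Z) = genericPoint X := by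
    have h1 : IsGenericPoint (f.base (genericPoint Z)) (closure (f.base '' Set.univ)) :=
      (genericPoint_spec Z).image f.continuous
    have h2 : closure (f.base '' Set.univ) = Set.univ := by
      rw [Set.image_univ, f.surjective.range_eq, closure_univ]
    rw [h2] at h1
    exact h1.eq (genericPoint_spec X)
  haveI : IsLocallyNoetherian X :=
    LocallyOfFiniteType.isLocallyNoetherian (X ↘ Spec (CommRingCat.of k))
  have hXnorm : Pi1.IsNormalScheme X := fun x => ⟨inferInstance, hXn x⟩
  have hkX : IsField Γ(X, ⊤) := isField_of_universallyClosed k (X ↘ Spec (CommRingCat.of k))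
  have hkZ : IsField Γ(Z, ⊤) := isField_of_universallyClosed k (Z ↘ Spec (CommRingCat.of k))
  letI : Field Γ(X, ⊤) := hkX.toField
  letI : Field Γ(Z, ⊤) := hkZ.toField
  letI a1 : Algebra Γ(X, ⊤) Γ(Z, ⊤) := f.appTop.hom.toAlgebra
  letI a2 : Algebra (X.residueField (f.base (genericPoint Z))) (Z.residueField (genericPoint Z)) :=
    (f.residueFieldMap (genericPoint Z)).hom.toAlgebra
  letI a3 : Algebra Γ(X, ⊤) (X.residueField (f.base (genericPoint Z))) :=
    (X.Γevaluation (f.base (genericPoint Z))).hom.toAlgebra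
  letI a4 : Algebra Γ(Z, ⊤) (Z.residueField (genericPoint Z)) :=
    (Z.Γevaluation (genericPoint Z)).hom.toAlgebra
  letI a5 : Algebra Γ(X, ⊤) (Z.residueField (genericPoint Z)) :=
    ((f.residueFieldMap (genericPoint Z)).hom.comp
      (X.Γevaluation (f.base (genericPoint Z))).hom).toAlgebra
  haveI t1 : IsScalarTower Γ(X, ⊤) (X.residueField (f.base (genericPoint Z)))
      (Z.residueField (genericPoint Z)) := IsScalarTower.of_algebraMap_eq (fun _ => rfl)
  haveI t2 : IsScalarTower Γ(X, ⊤) Γ(Z, ⊤) (Z.residueField (genericPoint Z)) :=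
    IsScalarTower.of_algebraMap_eq
      (fun t => Scheme.Γevaluation_naturality_apply f (genericPoint Z) t)
  haveI hfin : FiniteDimensional Γ(X, ⊤) Γ(Z, ⊤) := by
    have h1 : (Z ↘ Spec (CommRingCat.of k)).appTop.hom.Finite :=
      finite_appTop_of_universallyClosed k _
    have h2 : (Z ↘ Spec (CommRingCat.of k)).appTop.hom =
        f.appTop.hom.comp (X ↘ Spec (CommRingCat.of k)).appTop.hom := by
      rw [← hf]; rfl
    rw [h2] at h1
    exact RingHom.Finite.of_comp_finite h1
  have hic : ∀ x : X.residueField (f.base (genericPoint Z)), IsIntegral Γ(X, ⊤) x →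
      x ∈ (algebraMap Γ(X, ⊤) (X.residueField (f.base (genericPoint Z)))).range := by
    intro x hx
    exact FBaseDeg.mem_range_Γevaluation_of_isIntegral X hXnorm _ hy x hx
  obtain ⟨_, ⟨U, hU, rfl⟩, hyU, -⟩ :=
    X.isBasis_affineOpens.exists_subset_of_mem_open (Set.mem_univ (f.base (genericPoint Z)))
      isOpen_univ
  have hred : IsReduced ((X.residueField (f.base (genericPoint Z))) ⊗[Γ(X, ⊤)] Γ(Z, ⊤)) := by
    letI b1 : Algebra Γ(X, ⊤) Γ(X, U) := (X.presheaf.map (homOfLE le_top : U ⟶ ⊤).op).hom.toAlgebra
    letI b2 : Algebra Γ(X, U) (X.residueField (f.base (genericPoint Z))) :=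
      (X.evaluation U (f.base (genericPoint Z)) hyU).hom.toAlgebra
    haveI : IsScalarTower Γ(X, ⊤) Γ(X, U) (X.residueField (f.base (genericPoint Z))) :=
      IsScalarTower.of_algebraMap_eq (fun t =>
        congrFun (congrArg DFunLike.coe
          (FBaseDeg.Γevaluation_eq_comp X U (f.base (genericPoint Z)) hyU)) t)
    refine FBaseDeg.isReduced_tensor_of_frac (k := Γ(X, ⊤)) (A := Γ(X, U))
      (FBaseDeg.evaluation_injective_of_eq X U _ hy hyU)
      (FBaseDeg.exists_frac_evaluation X U hU _ hy hyU) ?_
    exact FBaseDeg.isReduced_tensor_sections X U hU Γ(Z, ⊤) f.appTop.hom (hgr Γ(Z, ⊤) f.appTop.hom)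
  exact RegularExt.finrank_dvd (k := Γ(X, ⊤)) (K := X.residueField (f.base (genericPoint Z)))
    (F := Γ(Z, ⊤)) (L := Z.residueField (genericPoint Z)) hic hred

/-- Let f : Z → X be a finite surjective morphism of integral schemes proper over a field k, with X
normal, and let d = [k(Z) : k(X)] be its degree on function fields (the residue fields at the
generic point of Z and at its image, the generic point of X). Write k_X = H^0(X, O_X) and k_Z =
H^0(Z, O_Z) (fields, finite over k). If X is geometrically reduced over k_X — X ×_{k_X} E is reduced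
for every field E over k_X, i.e. k(X) is separable over k_X — then [k_Z : k_X] divides d. (The
published statement does not assume that X is geometrically reduced over k_X; without that
hypothesis the divisibility fails: for k_0 = F_p(s, t), X the normal proper curve with function
field k_0(x, y), y^p = s + t x^p, and Z the projective line over k_0(s^{1/p}, t^{1/p}) mapping to X,
one has d = p but [k_Z : k_X] = p^2.) -/
theorem result (k : Type u) [Field k]
    (X Z : Scheme.{u}) [X.Over (Spec (CommRingCat.of k))] [Z.Over (Spec (CommRingCat.of k))]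
    [IsIntegral X] [IsIntegral Z]
    [IsProper (X ↘ Spec (CommRingCat.of k))] [IsProper (Z ↘ Spec (CommRingCat.of k))]
    (hXn : ∀ x : X, IsIntegrallyClosed (X.presheaf.stalk x))
    (f : Z ⟶ X) (hf : f ≫ (X ↘ Spec (CommRingCat.of k)) = Z ↘ Spec (CommRingCat.of k))
    [IsFinite f] [Surjective f]
    (hgr : ∀ (E : Type u) [Field E] (i : Γ(X, ⊤) →+* E),
      AlgebraicGeometry.IsReduced (pullback X.toSpecΓ (Spec.map (CommRingCat.ofHom i)))) :
    letI := f.appTop.hom.toAlgebra;
    letI := (f.residueFieldMap (genericPoint Z)).hom.toAlgebra;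
    Module.finrank Γ(X, ⊤) Γ(Z, ⊤) ∣ Module.finrank (X.residueField (f.base (genericPoint Z))) (Z.residueField (genericPoint Z))  :=
  main k X Z hXn f hf hgr

end Groth.Agent.S19001
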