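import Groth.Statements.S19004
import Mathlib

set_option autoImplicit false
open GIT

namespace Groth.Agent.S19004

/-- For the group PGL(n) acting on the space of n × n matrices the T-quotient is (P^{n−1})^n with Chow
ring ℚ[t_1,…,t_n]/(t_1^n,…,t_n^n), the class c_top(g/t) is the product of all roots t_i − t_j (i ≠
j), and the computation in the proof shows that this product equals n!·t_1^{n−1}⋯t_n^{n−1} in that
ring. Stated here as the equivalent coefficient identity in ℤ[t_1,…,t_n]: the coefficient of
t_1^{n−1}⋯t_n^{n−1} in the product over ordered pairs i ≠ j of (t_i − t_j) is n!. -/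
theorem result (n : ℕ) :
    MvPolynomial.coeff (Finsupp.equivFunOnFinite.symm (fun _ : Fin n => n - 1))
      (∏ i : Fin n, ∏ j ∈ Finset.univ.erase i, (MvPolynomial.X i - MvPolynomial.X j : MvPolynomial (Fin n) ℤ)) = (n.factorial : ℤ) := by
  classical
  have hsplit : ∀ i : Fin n,
      (Finset.univ.erase i : Finset (Fin n)) = Finset.Ioi i ∪ Finset.Iio i := by
    intro i; ext j
    simp only [Finset.mem_erase, Finset.mem_univ, and_true, Finset.mem_union, Finset.mem_Ioi,
      Finset.mem_Iio]
    exact ⟨fun h => (lt_or_gt_of_ne h).symm, fun h => h.elim (fun h => h.ne') (fun h => h.ne)⟩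
  have hdisj : ∀ i : Fin n, Disjoint (Finset.Ioi i) (Finset.Iio i) := by
    intro i
    rw [Finset.disjoint_left]
    intro j h1 h2
    rw [Finset.mem_Ioi] at h1
    rw [Finset.mem_Iio] at h2
    exact lt_asymm h1 h2
  have hprod : (∏ i : Fin n, ∏ j ∈ Finset.univ.erase i,
      (MvPolynomial.X i - MvPolynomial.X j : MvPolynomial (Fin n) ℤ)) =
      (Matrix.projVandermonde (fun _ => 1) MvPolynomial.X).det *
        (Matrix.vandermonde MvPolynomial.X).det := by
    rw [Matrix.det_projVandermonde, Matrix.det_vandermonde]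
    calc _ = ∏ i : Fin n, ((∏ j ∈ Finset.Ioi i,
              (MvPolynomial.X i - MvPolynomial.X j : MvPolynomial (Fin n) ℤ)) *
              (∏ j ∈ Finset.Iio i, (MvPolynomial.X i - MvPolynomial.X j))) := by
          refine Finset.prod_congr rfl (fun i _ => ?_)
          rw [hsplit i, Finset.prod_union (hdisj i)]
      _ = (∏ i : Fin n, ∏ j ∈ Finset.Ioi i,
              (MvPolynomial.X i - MvPolynomial.X j : MvPolynomial (Fin n) ℤ)) *
            (∏ i : Fin n, ∏ j ∈ Finset.Iio i, (MvPolynomial.X i - MvPolynomial.X j)) :=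
          Finset.prod_mul_distrib
      _ = _ := by
          congr 1
          · refine Finset.prod_congr rfl (fun i _ => Finset.prod_congr rfl (fun j _ => ?_))
            simp only [one_mul]
          · exact Finset.prod_comm' (by intro x y; simp)
  have hV : (Matrix.vandermonde (MvPolynomial.X : Fin n → MvPolynomial (Fin n) ℤ)).det =
      ∑ σ : Equiv.Perm (Fin n), ((Equiv.Perm.sign σ : ℤ) : MvPolynomial (Fin n) ℤ) *
        ∏ i, MvPolynomial.X i ^ ((σ i : Fin n) : ℕ) := by
    rw [← Matrix.det_transpose, Matrix.det_apply']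
    rfl
  have hW : (Matrix.projVandermonde (fun _ => 1)
      (MvPolynomial.X : Fin n → MvPolynomial (Fin n) ℤ)).det =
      ∑ τ : Equiv.Perm (Fin n), ((Equiv.Perm.sign τ : ℤ) : MvPolynomial (Fin n) ℤ) *
        ∏ i, MvPolynomial.X i ^ (((τ i).rev : Fin n) : ℕ) := by
    rw [← Matrix.det_transpose, Matrix.det_apply']
    refine Finset.sum_congr rfl (fun τ _ => ?_)
    congr 1
    refine Finset.prod_congr rfl (fun i _ => ?_)
    rw [Matrix.transpose_apply, Matrix.projVandermonde_apply, one_pow, one_mul]
  have hmon : ∀ f : Fin n → ℕ, (∏ i, (MvPolynomial.X i : MvPolynomial (Fin n) ℤ) ^ f i) =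
      MvPolynomial.monomial (Finsupp.equivFunOnFinite.symm f) 1 := by
    intro f
    rw [MvPolynomial.monomial_eq, map_one, one_mul,
      Finsupp.prod_fintype _ _ (fun i => pow_zero _)]
    rfl
  have hterm : ∀ τ σ : Equiv.Perm (Fin n),
      MvPolynomial.coeff (Finsupp.equivFunOnFinite.symm (fun _ : Fin n => n - 1))
        ((((Equiv.Perm.sign τ : ℤ) : MvPolynomial (Fin n) ℤ) *
            ∏ i, MvPolynomial.X i ^ (((τ i).rev : Fin n) : ℕ)) *
         (((Equiv.Perm.sign σ : ℤ) : MvPolynomial (Fin n) ℤ) *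
            ∏ i, MvPolynomial.X i ^ ((σ i : Fin n) : ℕ))) =
      if τ = σ then 1 else 0 := by
    intro τ σ
    have e : ((((Equiv.Perm.sign τ : ℤ) : MvPolynomial (Fin n) ℤ) *
            ∏ i, MvPolynomial.X i ^ (((τ i).rev : Fin n) : ℕ)) *
         (((Equiv.Perm.sign σ : ℤ) : MvPolynomial (Fin n) ℤ) *
            ∏ i, MvPolynomial.X i ^ ((σ i : Fin n) : ℕ))) =
        MvPolynomial.C ((Equiv.Perm.sign τ : ℤ) * (Equiv.Perm.sign σ : ℤ)) *
          ∏ i, MvPolynomial.X i ^ ((((τ i).rev : Fin n) : ℕ) + ((σ i : Fin n) : ℕ)) := by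
      rw [map_mul, eq_intCast, eq_intCast]
      simp only [pow_add, Finset.prod_mul_distrib]
      ring
    have hiff : (Finsupp.equivFunOnFinite.symm
        (fun i : Fin n => (((τ i).rev : Fin n) : ℕ) + ((σ i : Fin n) : ℕ)) =
        Finsupp.equivFunOnFinite.symm (fun _ : Fin n => n - 1)) ↔ τ = σ := by
      rw [Equiv.apply_eq_iff_eq]
      constructor
      · intro h
        apply Equiv.ext
        intro i
        apply Fin.ext
        have hi := congrFun h i
        simp only [Fin.val_rev] at hi
        have h1 := (τ i).isLt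
        have h2 := (σ i).isLt
        omega
      · rintro rfl
        funext i
        simp only [Fin.val_rev]
        have h1 := (τ i).isLt
        omega
    rw [e, hmon, MvPolynomial.coeff_C_mul, MvPolynomial.coeff_monomial]
    by_cases hτσ : τ = σ
    · rw [if_pos (hiff.mpr hτσ), if_pos hτσ, hτσ, mul_one, Int.units_coe_mul_self]
    · rw [if_neg (fun h => hτσ (hiff.mp h)), if_neg hτσ, mul_zero]
  rw [hprod, hW, hV, Finset.sum_mul_sum]
  simp only [MvPolynomial.coeff_sum, hterm]
  simp [Fintype.card_perm]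

end Groth.Agent.S19004
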