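import Groth.Statements.S19006
import Mathlib

set_option autoImplicit false
universe u v w x
open RootD

namespace Groth.Agent.S19006

/-- For a root pairing over an integral domain of characteristic zero, a quadratic form Q on the
coweight module N with polar form B, and a root α with coroot α^∨, the form Q is invariant under the
reflection attached to α acting on N if and only if B(y, α^∨) = ⟨α, y⟩ Q(α^∨) for all y in N. (The
source states this for integer-valued forms on the cocharacter lattice of a split reductive group;
here the form takes values in the base ring of the pairing.) -/
theorem result {ι : Type u} {R : Type v} {M : Type w} {N : Type x} [CommRing R] [IsDomain R] [CharZero R]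
    [AddCommGroup M] [Module R M] [AddCommGroup N] [Module R N] (P : RootPairing ι R M N)
    (Q : QuadraticMap R N R) (j : ι) :
    (∀ y : N, Q (P.coreflection j y) = Q y) ↔
      ∀ y : N, QuadraticMap.polar Q y (P.coroot j) = P.root' j y * Q (P.coroot j) := by
  have key : ∀ y : N, Q (P.coreflection j y) = Q y + P.root' j y * P.root' j y * Q (P.coroot j)
      - P.root' j y * QuadraticMap.polar Q y (P.coroot j) := by
    intro y
    rw [RootPairing.coreflection_apply]
    have h1 : y - (P.root' j y) • P.coroot j =
        y + (-(P.root' j y)) • P.coroot j := by
      rw [neg_smul, sub_eq_add_neg]
    have h2 : Q (y + (-(P.root' j y)) • P.coroot j) = Q y + Q ((-(P.root' j y)) • P.coroot j) +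
        QuadraticMap.polar Q y ((-(P.root' j y)) • P.coroot j) := by
      unfold QuadraticMap.polar; ring
    rw [h1, h2, QuadraticMap.map_smul, QuadraticMap.polar_smul_right]
    simp only [smul_eq_mul]
    ring
  constructor
  · intro h
    have h' : ∀ y : N, P.root' j y * (P.root' j y * Q (P.coroot j) -
        QuadraticMap.polar Q y (P.coroot j)) = 0 := by
      intro y
      have := key y
      rw [h y] at this
      linear_combination -this
    intro y
    by_cases hy : P.root' j y = 0
    · -- use y + coroot
      have h2 := h' (y + P.coroot j)
      have hr : P.root' j (y + P.coroot j) = 2 := by
        rw [map_add, hy, zero_add, RootPairing.root'_coroot_eq_pairing, RootPairing.pairing_same]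
      rw [hr] at h2
      have h3 : (2 : R) * Q (P.coroot j) - QuadraticMap.polar Q (y + P.coroot j) (P.coroot j) = 0 := by
        rcases mul_eq_zero.mp h2 with h | h
        · exact absurd h two_ne_zero
        · exact h
      rw [QuadraticMap.polar_add_left, QuadraticMap.polar_self] at h3
      rw [hy, zero_mul]
      linear_combination -h3
    · have := h' y
      rcases mul_eq_zero.mp this with h | h
      · exact absurd h hy
      · linear_combination -h
  · intro h y
    rw [key y, h y]
    ring

end Groth.Agent.S19006
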