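import Groth.Statements.S19009
import Mathlib
import Groth.Agent.S19006

set_option autoImplicit false
universe u v w x
open RootD

namespace Groth.Agent.S19009

/-- Let P be a root pairing over an integral domain R of characteristic zero (roots α acting on the
coweight module N through reflections y ↦ y − ⟨α, y⟩ α^∨), D ⊆ N a submodule containing every coroot
and such that every element of D has a positive integer multiple in the span of the coroots (the
derived part), and Y₀ a complement of D in N. Let Q_d be a quadratic form on N whose restriction to
D is invariant under all root reflections. Then there is a quadratic form on N, invariant under all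
root reflections and agreeing with Q_d on D, if and only if there is an R-bilinear form Φ on N with
Φ(y₀, α^∨) = ⟨α, y₀⟩ Q_d(α^∨) for all y₀ in Y₀ and all roots α. (In the source R = ℤ, N = Y₀ ⊕ Y_der
is the cocharacter lattice of a split reductive group, and the condition is phrased as integrality
on Y₀ × Y_der of the pairing y₀, y ↦ B(q(y₀), y) deduced from the polar form B of Q_d; that pairing
is characterised by the displayed values on coroots, only the values of Φ on Y₀ × D matter, and
forms take values in R here.) -/
theorem result {ι : Type u} {R : Type v} {M : Type w} {N : Type x} [CommRing R] [IsDomain R] [CharZero R]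
    [AddCommGroup M] [Module R M] [AddCommGroup N] [Module R N] (P : RootPairing ι R M N)
    (D Y₀ : Submodule R N) (hD : ∀ i : ι, P.coroot i ∈ D)
    (hDsat : ∀ y ∈ D, ∃ n : ℕ, 0 < n ∧ n • y ∈ Submodule.span R (Set.range P.coroot))
    (hc : IsCompl Y₀ D)
    (Qd : QuadraticMap R N R) (hQd : ∀ i : ι, ∀ y ∈ D, Qd (P.coreflection i y) = Qd y) :
    (∃ Q : QuadraticMap R N R, (∀ (i : ι) (y : N), Q (P.coreflection i y) = Q y) ∧ ∀ y ∈ D, Q y = Qd y) ↔
      ∃ Φ : N →ₗ[R] N →ₗ[R] R, ∀ y₀ ∈ Y₀, ∀ i : ι,
        Φ y₀ (P.coroot i) = P.root' i y₀ * Qd (P.coroot i) := by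
  have hexp : ∀ (Q : QuadraticMap R N R) (z v : N) (a : R),
      Q (z - a • v) = Q z + a * a * Q v - a * QuadraticMap.polar Q z v := by
    intro Q z v a
    have h1 : z - a • v = z + (-a) • v := by rw [neg_smul, sub_eq_add_neg]
    have h2 : Q (z + (-a) • v) = Q z + Q ((-a) • v) + QuadraticMap.polar Q z ((-a) • v) := by
      unfold QuadraticMap.polar; ring
    rw [h1, h2, QuadraticMap.map_smul, QuadraticMap.polar_smul_right]
    simp only [smul_eq_mul]
    ring
  have hkeyD : ∀ (i : ι), ∀ d ∈ D,
      QuadraticMap.polar Qd d (P.coroot i) = P.root' i d * Qd (P.coroot i) := by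
    intro i
    have h' : ∀ d ∈ D, P.root' i d *
        (P.root' i d * Qd (P.coroot i) - QuadraticMap.polar Qd d (P.coroot i)) = 0 := by
      intro d hd
      have h := hQd i d hd
      rw [RootPairing.coreflection_apply, hexp] at h
      linear_combination h
    intro d hd
    by_cases hy : P.root' i d = 0
    · have h2 := h' (d + P.coroot i) (D.add_mem hd (hD i))
      have hr : P.root' i (d + P.coroot i) = 2 := by
        rw [map_add, hy, zero_add, RootPairing.root'_coroot_eq_pairing, RootPairing.pairing_same]
      rw [hr] at h2
      have h3 : (2 : R) * Qd (P.coroot i) -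
          QuadraticMap.polar Qd (d + P.coroot i) (P.coroot i) = 0 := by
        rcases mul_eq_zero.mp h2 with h | h
        · exact absurd h two_ne_zero
        · exact h
      rw [QuadraticMap.polar_add_left, QuadraticMap.polar_self] at h3
      rw [hy, zero_mul]
      linear_combination -h3
    · rcases mul_eq_zero.mp (h' d hd) with h | h
      · exact absurd h hy
      · linear_combination -h
  constructor
  · rintro ⟨Q, hinv, hQD⟩
    refine ⟨QuadraticMap.polarBilin Q, fun y₀ _ i => ?_⟩
    show QuadraticMap.polar Q y₀ (P.coroot i) = _
    rw [(Groth.Agent.S19006.result P Q i).mp (hinv i) y₀, hQD _ (hD i)]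
  · rintro ⟨Φ, hΦ⟩
    refine ⟨Qd.comp (D.projection Y₀ hc.symm) + LinearMap.BilinMap.toQuadraticMap
      (Φ.compl₁₂ (Y₀.projection D hc) (D.projection Y₀ hc.symm)), ?_, ?_⟩
    · intro i y
      have hQ : ∀ z, (Qd.comp (D.projection Y₀ hc.symm) + LinearMap.BilinMap.toQuadraticMap
          (Φ.compl₁₂ (Y₀.projection D hc) (D.projection Y₀ hc.symm))) z =
          Qd (D.projection Y₀ hc.symm z) +
            Φ (Y₀.projection D hc z) (D.projection Y₀ hc.symm z) := fun z => rfl
      have hp₀s : Y₀.projection D hc (P.coreflection i y) = Y₀.projection D hc y := by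
        rw [RootPairing.coreflection_apply, map_sub, map_smul,
          Submodule.projection_apply_of_mem_right hc (hD i), smul_zero, sub_zero]
      have hpDs : D.projection Y₀ hc.symm (P.coreflection i y) =
          D.projection Y₀ hc.symm y - P.root' i y • P.coroot i := by
        rw [RootPairing.coreflection_apply, map_sub, map_smul,
          Submodule.projection_apply_of_mem_left hc.symm (hD i)]
      have hroot : P.root' i y = P.root' i (Y₀.projection D hc y) +
          P.root' i (D.projection Y₀ hc.symm y) := by
        rw [← map_add, Submodule.projection_add_projection_eq_self hc y]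
      rw [hQ, hQ, hp₀s, hpDs, hexp, map_sub, map_smul,
        hkeyD i _ (Submodule.projection_apply_mem hc.symm y),
        hΦ _ (Submodule.projection_apply_mem hc y) i, smul_eq_mul]
      linear_combination (P.root' i y * Qd (P.coroot i)) * hroot
    · intro y hy
      show Qd (D.projection Y₀ hc.symm y) +
        Φ (Y₀.projection D hc y) (D.projection Y₀ hc.symm y) = Qd y
      rw [Submodule.projection_apply_of_mem_left hc.symm hy,
        Submodule.projection_apply_of_mem_right hc hy, map_zero, LinearMap.zero_apply, add_zero]

end Groth.Agent.S19009
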