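import Groth.Statements.S19010
import Mathlib
import Groth.Agent.S19006

set_option autoImplicit false
universe u v w x
open RootD

namespace Groth.Agent.S19010

/-- Let P be a root pairing over an integral domain R of characteristic zero (roots α acting on the
coweight module N through reflections y ↦ y − ⟨α, y⟩ α^∨), D ⊆ N a submodule containing every coroot
and such that every element of D has a positive integer multiple in the span of the coroots (the
derived part), and Y₀ a complement of D in N. Let Q' be a quadratic form on N invariant under all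
root reflections. Then restriction to Y₀ is a bijection from the set of quadratic forms on N that
are invariant under all root reflections and agree with Q' on D onto the set of all quadratic forms
on Y₀. (In the source R = ℤ and N = Y₀ ⊕ Y_der is the cocharacter lattice of a split reductive
group; forms take values in R here.) -/
theorem result {ι : Type u} {R : Type v} {M : Type w} {N : Type x} [CommRing R] [IsDomain R] [CharZero R]
    [AddCommGroup M] [Module R M] [AddCommGroup N] [Module R N] (P : RootPairing ι R M N)
    (D Y₀ : Submodule R N) (hD : ∀ i : ι, P.coroot i ∈ D)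
    (hDsat : ∀ y ∈ D, ∃ n : ℕ, 0 < n ∧ n • y ∈ Submodule.span R (Set.range P.coroot))
    (hc : IsCompl Y₀ D)
    (Q' : QuadraticMap R N R) (hQ' : ∀ (i : ι) (y : N), Q' (P.coreflection i y) = Q' y) :
    Set.BijOn (fun Q : QuadraticMap R N R => Q.comp Y₀.subtype)
      {Q | (∀ (i : ι) (y : N), Q (P.coreflection i y) = Q y) ∧ ∀ y ∈ D, Q y = Q' y} Set.univ := by
  refine ⟨fun _ _ => Set.mem_univ _, ?_, ?_⟩
  · rintro Q₁ ⟨h1inv, h1D⟩ Q₂ ⟨h2inv, h2D⟩ h12
    have h12' : ∀ y ∈ Y₀, Q₁ y = Q₂ y := fun y hy => DFunLike.congr_fun h12 ⟨y, hy⟩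
    have hpol : ∀ (y : N) (j : ι),
        QuadraticMap.polar Q₁ y (P.coroot j) = QuadraticMap.polar Q₂ y (P.coroot j) := by
      intro y j
      rw [(Groth.Agent.S19006.result P Q₁ j).mp (h1inv j) y,
        (Groth.Agent.S19006.result P Q₂ j).mp (h2inv j) y, h1D _ (hD j), h2D _ (hD j)]
    have hspan : ∀ (y : N), ∀ d ∈ Submodule.span R (Set.range P.coroot),
        QuadraticMap.polar Q₁ y d = QuadraticMap.polar Q₂ y d := by
      intro y d hd
      induction hd using Submodule.span_induction with
      | mem d hd => obtain ⟨j, rfl⟩ := hd; exact hpol y j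
      | zero => simp [QuadraticMap.polar]
      | add d e _ _ hd he =>
        rw [QuadraticMap.polar_add_right, QuadraticMap.polar_add_right, hd, he]
      | smul c d _ hd => rw [QuadraticMap.polar_smul_right, QuadraticMap.polar_smul_right, hd]
    have hDpol : ∀ (y : N), ∀ d ∈ D, QuadraticMap.polar Q₁ y d = QuadraticMap.polar Q₂ y d := by
      intro y d hd
      obtain ⟨n, hn, hnd⟩ := hDsat d hd
      have h := hspan y _ hnd
      rw [← Nat.cast_smul_eq_nsmul R n d, QuadraticMap.polar_smul_right,
        QuadraticMap.polar_smul_right, smul_eq_mul, smul_eq_mul] at h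
      exact mul_left_cancel₀ (Nat.cast_ne_zero.mpr hn.ne') h
    ext y
    obtain ⟨y₀, hy₀, d, hd, rfl⟩ := Submodule.mem_sup.mp
      (show y ∈ Y₀ ⊔ D by rw [hc.sup_eq_top]; trivial)
    have e1 : ∀ Q : QuadraticMap R N R,
        Q (y₀ + d) = Q y₀ + Q d + QuadraticMap.polar Q y₀ d := fun Q => by
      unfold QuadraticMap.polar; ring
    rw [e1 Q₁, e1 Q₂, h12' y₀ hy₀, h1D d hd, h2D d hd, hDpol y₀ d hd]
  · intro q₀ _
    refine ⟨Q' + (q₀ - Q'.comp Y₀.subtype).comp (Submodule.projectionOnto Y₀ D hc),
      ⟨?_, ?_⟩, ?_⟩
    · intro i y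
      have hπ : Submodule.projectionOnto Y₀ D hc (P.coreflection i y) =
          Submodule.projectionOnto Y₀ D hc y := by
        rw [RootPairing.coreflection_apply, map_sub, map_smul,
          Submodule.projectionOnto_apply_of_mem_right hc (hD i), smul_zero, sub_zero]
      rw [QuadraticMap.add_apply, QuadraticMap.add_apply, QuadraticMap.comp_apply,
        QuadraticMap.comp_apply, hπ, hQ' i y]
    · intro y hy
      rw [QuadraticMap.add_apply, QuadraticMap.comp_apply,
        Submodule.projectionOnto_apply_of_mem_right hc hy, QuadraticMap.map_zero, add_zero]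
    · ext y₀
      show (Q' + (q₀ - Q'.comp Y₀.subtype).comp (Submodule.projectionOnto Y₀ D hc))
        (Y₀.subtype y₀) = q₀ y₀
      rw [QuadraticMap.add_apply, QuadraticMap.comp_apply, Submodule.subtype_apply,
        Submodule.projectionOnto_apply_left, QuadraticMap.sub_apply, QuadraticMap.comp_apply,
        Submodule.subtype_apply]
      ring

end Groth.Agent.S19010
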