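import Groth.Statements.S19015
import Mathlib
import Groth.Agent.Lib.Helper26.MilKBasic
open Groth.Agent.Lib.Helper26.MilKBasic

set_option autoImplicit false
universe u v
open MilnorK

namespace Groth.Agent.S19015

/-- Let B be a discrete valuation ring with fraction field F, residue field κ and uniformizer π, and let
E be a field with a ring homomorphism into B, hence into F and into κ. Let ∂ : K_{n+1}(F) → K_n(κ)
be the residue map (tame symbol) on Milnor K-groups and s^π(ρ) = ∂({−π} · ρ) the specialization map
attached to π. Then s^π(x_F) = x_κ for every x in K_n(E): the product {−π} · x_F in K_{1+n}(F),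
regarded in K_{n+1}(F), has residue the image of x in K_n(κ). (The published statement concerns
discrete valuations of geometric type on fields finitely generated over a base field; it is stated
here for an arbitrary discrete valuation ring, which is all the printed computation uses.) -/
theorem result
    (B : Type u) [CommRing B] [IsDomain B] [IsDiscreteValuationRing B]
    (E F : Type v) [Field E] [Field F] [Algebra B F] [IsFractionRing B F]
    [Algebra E B] [Algebra E F] [IsScalarTower E B F]
    (n : ℕ) (d : MilK.K F (n + 1) →+ MilK.K (IsLocalRing.ResidueField B) n) (hd : MilK.IsTameSymbol B F n d)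
    (ϖ : B) (hϖ : Irreducible ϖ) (x : MilK.K E n) :
    d (MilK.cast F (Nat.add_comm 1 n)
        (MilK.mul F 1 n (MilK.symbol ![-MilK.unitFrac B F ϖ hϖ.ne_zero]) (MilK.map (algebraMap E F) n x))) =
      MilK.map ((IsLocalRing.residue B).comp (algebraMap E B)) n x := by
  have hneg : Irreducible (-ϖ) := ((Associated.refl ϖ).neg_right).irreducible hϖ
  have key : (d.comp ((MilK.cast F (Nat.add_comm 1 n)).toAddMonoidHom.comp
      ((MilK.mul F 1 n (MilK.symbol ![-MilK.unitFrac B F ϖ hϖ.ne_zero])).comp
        (MilK.map (algebraMap E F) n)))) =
      MilK.map ((IsLocalRing.residue B).comp (algebraMap E B)) n := by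
    apply hom_ext_symbol
    intro y
    simp only [AddMonoidHom.comp_apply, AddEquiv.toAddMonoidHom_eq_coe, AddMonoidHom.coe_coe,
      MilK.map_symbol, MilK.mul_symbol_symbol, MilK.cast_symbol]
    have e : (Fin.append ![-MilK.unitFrac B F ϖ hϖ.ne_zero]
        (fun i => Units.map ((algebraMap E F : E →+* F) : E →* F) (y i))) ∘
          Fin.cast (Nat.add_comm 1 n).symm =
        (Fin.cons (MilK.unitFrac B F (-ϖ) hneg.ne_zero)
          fun i => MilK.unitToFrac B F (Units.map ((algebraMap E B : E →+* B) : E →* B) (y i)) :
            Fin (n + 1) → Fˣ) := by
      funext i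
      refine Fin.cases ?_ (fun j => ?_) i
      · simp only [Function.comp_apply, Fin.cons_zero]
        have : Fin.cast (Nat.add_comm 1 n).symm (0 : Fin (n + 1)) = Fin.castAdd n (0 : Fin 1) := by
          ext; simp
        rw [this, Fin.append_left]
        apply Units.ext
        simp
      · simp only [Function.comp_apply, Fin.cons_succ]
        have : Fin.cast (Nat.add_comm 1 n).symm j.succ = Fin.natAdd 1 j := by
          ext; simp [Nat.add_comm]
        rw [this, Fin.append_right]
        apply Units.ext
        simp [MilK.unitToFrac, IsScalarTower.algebraMap_apply E B F]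
    rw [e, hd (-ϖ) hneg]
    congr 1
  exact DFunLike.congr_fun key x

end Groth.Agent.S19015
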