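import Groth.Statements.S19017
import Groth.Agent.Lib.Lead.CycMV

set_option autoImplicit false
universe u
open CategoryTheory AlgebraicGeometry
open IntTh

namespace Groth.Agent.S19017

open Groth.Agent.Lib.Lead.CycClosed Groth.Agent.Lib.Lead.CycMV

/-- Let k be an arbitrary field and X a scheme separated and of finite type over k, with the dimension
function δ induced from Spec k. Let i_1 : X_1 → X and i_2 : X_2 → X be closed subschemes whose
images cover X, and let Y be their intersection: closed immersions j_1 : Y → X_1, j_2 : Y → X_2 with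
i_1 ∘ j_1 = i_2 ∘ j_2 whose image in X is the intersection of the images of X_1 and X_2. Then the
sequence CH_n(Y) → CH_n(X_1) ⊕ CH_n(X_2) → CH_n(X) → 0, with first map γ ↦ (j_{1*}γ, −j_{2*}γ) and
second map the sum of the push-forwards, is exact for every integer n: every n-cycle on X is a sum
i_{1*}α_1 + i_{2*}α_2 of n-cycles on X_1 and X_2, and whenever such a sum is rationally equivalent
to zero on X there is an n-cycle γ on Y with α_1 rationally equivalent to j_{1*}γ on X_1 and α_2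
rationally equivalent to −j_{2*}γ on X_2. (The published statement does not require the two closed
subschemes to cover X; without that requirement the surjectivity fails already for two empty closed
subschemes of a point, and the printed argument uses the covering, so it is assumed here. The
published statement also calls the sequence one of rings graded by codimension; stated here is the
additive sequence graded by dimension, which is what the printed argument gives.) -/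
theorem result (k : Type u) [Field k]
    (X : Scheme.{u}) [X.Over (Spec (CommRingCat.of k))]
    [IsSeparated (X ↘ Spec (CommRingCat.of k))] [LocallyOfFiniteType (X ↘ Spec (CommRingCat.of k))]
    [QuasiCompact (X ↘ Spec (CommRingCat.of k))]
    (δ : X → ℤ) (hδ : Cyc.DeltaCompat (X ↘ Spec (CommRingCat.of k)) δ (fun _ => 0))
    {X₁ X₂ Y : Scheme.{u}} (i₁ : X₁ ⟶ X) (i₂ : X₂ ⟶ X) [IsClosedImmersion i₁] [IsClosedImmersion i₂]
    (hcov : Set.range i₁ ∪ Set.range i₂ = Set.univ)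
    (j₁ : Y ⟶ X₁) (j₂ : Y ⟶ X₂) [IsClosedImmersion j₁] [IsClosedImmersion j₂]
    (hcomm : j₁ ≫ i₁ = j₂ ≫ i₂) (hY : Set.range (j₁ ≫ i₁) = Set.range i₁ ∩ Set.range i₂) (n : ℤ) :
    (∀ α : AlgebraicCycle X ℤ, α ∈ Cyc.Zk X δ n →
      ∃ (α₁ : AlgebraicCycle X₁ ℤ) (α₂ : AlgebraicCycle X₂ ℤ),
        α₁ ∈ Cyc.Zk X₁ (fun x => δ (i₁ x)) n ∧ α₂ ∈ Cyc.Zk X₂ (fun x => δ (i₂ x)) n ∧
        α = AlgebraicCycle.map i₁ (fun x => δ (i₁ x)) δ α₁ + AlgebraicCycle.map i₂ (fun x => δ (i₂ x)) δ α₂) ∧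
    (∀ (α₁ : AlgebraicCycle X₁ ℤ) (α₂ : AlgebraicCycle X₂ ℤ),
      α₁ ∈ Cyc.Zk X₁ (fun x => δ (i₁ x)) n → α₂ ∈ Cyc.Zk X₂ (fun x => δ (i₂ x)) n →
      Cyc.RatEquivZero δ n
        (AlgebraicCycle.map i₁ (fun x => δ (i₁ x)) δ α₁ + AlgebraicCycle.map i₂ (fun x => δ (i₂ x)) δ α₂) →
      ∃ γ : AlgebraicCycle Y ℤ, γ ∈ Cyc.Zk Y (fun y => δ (i₁ (j₁ y))) n ∧
        Cyc.RatEquiv (fun x => δ (i₁ x)) n α₁
          (AlgebraicCycle.map j₁ (fun y => δ (i₁ (j₁ y))) (fun x => δ (i₁ x)) γ) ∧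
        Cyc.RatEquiv (fun x => δ (i₂ x)) n α₂
          (-AlgebraicCycle.map j₂ (fun y => δ (i₁ (j₁ y))) (fun x => δ (i₂ x)) γ)) := by
  classical
  have hS : Cyc.IsSetup (Spec (CommRingCat.of k)) (fun _ => 0) := isSetup_spec_field k
  haveI : IsLocallyNoetherian (Spec (CommRingCat.of k)) := hS.1
  haveI : IsLocallyNoetherian X :=
    LocallyOfFiniteType.isLocallyNoetherian (X ↘ Spec (CommRingCat.of k))
  have hdim : Cyc.IsDimFun X δ :=
    Groth.Agent.S9684.result (X ↘ Spec (CommRingCat.of k)) (fun _ => 0) hS δ hδ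
  have hcov' : Set.range ⇑i₁ ∪ Set.range ⇑i₂ = Set.univ := hcov
  refine ⟨?_, ?_⟩
  · intro α hα
    obtain ⟨α₁, hα₁⟩ := exists_restrict_cycle i₁ α
    obtain ⟨r₂, hr₂⟩ := exists_restrict_cycle i₂ α
    obtain ⟨α₂, hα₂⟩ := exists_cycle_of_support_le r₂
      (fun v => if i₂ v ∈ Set.range i₁ then 0 else α (i₂ v)) (by
        intro v hv
        by_cases hm : i₂ v ∈ Set.range i₁
        · exact if_pos hm
        · rw [if_neg hm, ← hr₂ v]; exact hv)
    refine ⟨α₁, α₂, ?_, ?_, ?_⟩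
    · intro u hu
      rw [hα₁]
      exact hα _ hu
    · intro v hv
      rw [hα₂]
      by_cases hm : i₂ v ∈ Set.range i₁
      · exact if_pos hm
      · rw [if_neg hm]; exact hα _ hv
    · ext x
      rw [Function.locallyFinsuppWithin.coe_add, Pi.add_apply]
      by_cases hx₁ : x ∈ Set.range i₁
      · obtain ⟨u, rfl⟩ := hx₁
        rw [map_apply_closedImmersion i₁ (fun x => δ (i₁ x)) δ (fun _ => rfl), hα₁]
        by_cases hx₂ : i₁ u ∈ Set.range i₂
        · obtain ⟨v, hv⟩ := hx₂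
          rw [← hv, map_apply_closedImmersion i₂ (fun x => δ (i₂ x)) δ (fun _ => rfl), hα₂,
            if_pos ⟨u, hv.symm⟩, add_zero]
        · rw [map_apply_of_notMem_range i₂ _ δ _ _ hx₂, add_zero]
      · have hx₂ : x ∈ Set.range i₂ := by
          have hmem : x ∈ Set.range ⇑i₁ ∪ Set.range ⇑i₂ := by rw [hcov']; exact Set.mem_univ _
          exact hmem.resolve_left hx₁
        obtain ⟨v, rfl⟩ := hx₂
        rw [map_apply_of_notMem_range i₁ _ δ _ _ hx₁,
          map_apply_closedImmersion i₂ (fun x => δ (i₂ x)) δ (fun _ => rfl), hα₂, if_neg hx₁,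
          zero_add]
  · intro α₁ α₂ h₁ h₂ h
    have hcond : ∀ y : Y, i₁ (j₁ y) = i₂ (j₂ y) := fun y => by
      rw [← Scheme.Hom.comp_apply, ← Scheme.Hom.comp_apply, hcomm]
    have hr₁ : ∀ x₁ : X₁, i₁ x₁ ∈ Set.range i₂ → x₁ ∈ Set.range j₁ := by
      intro x₁ hx
      have hmem : i₁ x₁ ∈ Set.range (j₁ ≫ i₁) := by rw [hY]; exact ⟨⟨x₁, rfl⟩, hx⟩
      obtain ⟨y, hy⟩ := hmem
      refine ⟨y, i₁.isClosedEmbedding.injective ?_⟩
      rw [← hy, Scheme.Hom.comp_apply]
    have hr₂ : ∀ x₂ : X₂, i₂ x₂ ∈ Set.range i₁ → x₂ ∈ Set.range j₂ := by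
      intro x₂ hx
      have hmem : i₂ x₂ ∈ Set.range (j₁ ≫ i₁) := by rw [hY]; exact ⟨hx, ⟨x₂, rfl⟩⟩
      obtain ⟨y, hy⟩ := hmem
      refine ⟨y, i₂.isClosedEmbedding.injective ?_⟩
      rw [← hcond y, ← hy, Scheme.Hom.comp_apply]
    have h' : Cyc.RatEquivZero δ n (AlgebraicCycle.map i₁ (fun x => δ (i₁ x)) δ α₁ -
        AlgebraicCycle.map i₂ (fun x => δ (i₂ x)) δ (-α₂)) := by
      rw [Bivar.cycMap_neg, sub_neg_eq_add]; exact h
    obtain ⟨γ, hγZ, hγ1, hγ2⟩ := mv_core X δ hdim X₁ X₂ Y i₁ i₂ hcov' j₁ j₂ hcond hr₁ hr₂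
      (fun y => δ (i₁ (j₁ y))) (fun _ => rfl) n α₁ (-α₂) h₁ h'
    refine ⟨γ, hγZ, hγ1, ?_⟩
    show Cyc.RatEquivZero _ _ _
    have e : α₂ - -AlgebraicCycle.map j₂ (fun y => δ (i₁ (j₁ y))) (fun x => δ (i₂ x)) γ =
        AlgebraicCycle.map j₂ (fun y => δ (i₁ (j₁ y))) (fun x => δ (i₂ x)) γ - -α₂ := by abel
    rw [e]
    exact hγ2

end Groth.Agent.S19017
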