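import Groth.Statements.S19018
import Mathlib

set_option autoImplicit false
universe u
open TensorProduct
open SymTen

namespace Groth.Agent.S19018


open Pointwise

theorem key {k T : Type u} [Field k] [NeZero (2 : k)] [CommRing T] [Algebra k T]
    (σ : T →ₐ[k] T) (hσσ : ∀ x, σ (σ x) = x) (D : Set T) (hD : ∀ d ∈ D, σ d = -d) :
    Ideal.comap (AlgHom.equalizer σ (AlgHom.id k T)).val (Ideal.span D ^ 4) =
      (Ideal.comap (AlgHom.equalizer σ (AlgHom.id k T)).val (Ideal.span D ^ 2)) ^ 2 := by
  have hDD : ∀ p ∈ D * D, σ p = p ∧ p ∈ Ideal.span D ^ 2 := by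
    rintro _ ⟨d, hd, e, he, rfl⟩
    refine ⟨by rw [map_mul, hD d hd, hD e he, neg_mul_neg], ?_⟩
    rw [pow_two]
    exact Ideal.mul_mem_mul (Ideal.subset_span hd) (Ideal.subset_span he)
  have h2 : Ideal.span D ^ 2 = Ideal.span (D * D) := by
    rw [pow_two, Ideal.span_mul_span']
  have h4 : Ideal.span D ^ 4 = Ideal.span ((D * D) * (D * D)) := by
    rw [show (4 : ℕ) = 2 * 2 from rfl, pow_mul, h2, pow_two, Ideal.span_mul_span']
  apply le_antisymm
  · intro x hx
    rw [Ideal.mem_comap, h4] at hx
    have hmemS : ∀ a : T, a + σ a ∈ AlgHom.equalizer σ (AlgHom.id k T) := fun a => by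
      rw [AlgHom.mem_equalizer, map_add, hσσ, AlgHom.id_apply, add_comm]
    have key : ∀ y ∈ Ideal.span ((D * D) * (D * D)), ∀ a : T,
        (⟨a * y + σ (a * y), hmemS (a * y)⟩ : AlgHom.equalizer σ (AlgHom.id k T)) ∈
          (Ideal.comap (AlgHom.equalizer σ (AlgHom.id k T)).val (Ideal.span D ^ 2)) ^ 2 := by
      intro y hy
      induction hy using Submodule.span_induction with
      | mem y hy =>
        obtain ⟨p, hp, q, hq, rfl⟩ := hy
        intro a
        obtain ⟨hp1, hp2⟩ := hDD p hp
        obtain ⟨hq1, hq2⟩ := hDD q hq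
        have hpS : (a + σ a) * p ∈ AlgHom.equalizer σ (AlgHom.id k T) := by
          rw [AlgHom.mem_equalizer, map_mul, map_add, hσσ, hp1, AlgHom.id_apply, add_comm]
        have hqS : q ∈ AlgHom.equalizer σ (AlgHom.id k T) := by
          rw [AlgHom.mem_equalizer, hq1, AlgHom.id_apply]
        have e : (⟨a * (p * q) + σ (a * (p * q)), hmemS _⟩ :
            AlgHom.equalizer σ (AlgHom.id k T)) = ⟨(a + σ a) * p, hpS⟩ * ⟨q, hqS⟩ := by
          apply Subtype.ext
          show a * (p * q) + σ (a * (p * q)) = (a + σ a) * p * q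
          rw [map_mul, map_mul, hp1, hq1]; ring
        rw [e, pow_two]
        refine Ideal.mul_mem_mul ?_ ?_
        · rw [Ideal.mem_comap]
          exact Ideal.mul_mem_left _ _ hp2
        · rw [Ideal.mem_comap]
          exact hq2
      | zero =>
        intro a
        have e : (⟨a * 0 + σ (a * 0), hmemS _⟩ : AlgHom.equalizer σ (AlgHom.id k T)) = 0 := by
          apply Subtype.ext
          show a * 0 + σ (a * 0) = 0
          rw [mul_zero, map_zero, add_zero]
        rw [e]; exact Ideal.zero_mem _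
      | add y z _ _ hy hz =>
        intro a
        have e : (⟨a * (y + z) + σ (a * (y + z)), hmemS _⟩ :
            AlgHom.equalizer σ (AlgHom.id k T)) =
            ⟨a * y + σ (a * y), hmemS _⟩ + ⟨a * z + σ (a * z), hmemS _⟩ := by
          apply Subtype.ext
          show a * (y + z) + σ (a * (y + z)) = (a * y + σ (a * y)) + (a * z + σ (a * z))
          rw [mul_add, map_add]; abel
        rw [e]; exact Ideal.add_mem _ (hy a) (hz a)
      | smul c y _ hy =>
        intro a
        have e : (⟨a * (c • y) + σ (a * (c • y)), hmemS _⟩ :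
            AlgHom.equalizer σ (AlgHom.id k T)) =
            ⟨(a * c) * y + σ ((a * c) * y), hmemS _⟩ := by
          apply Subtype.ext
          show a * (c • y) + σ (a * (c • y)) = (a * c) * y + σ ((a * c) * y)
          rw [smul_eq_mul, mul_assoc]
        rw [e]; exact hy (a * c)
    have h1 := key x hx 1
    have hxS : σ (x : T) = x := by
      have := x.2
      rwa [AlgHom.mem_equalizer, AlgHom.id_apply] at this
    have e : x = algebraMap k _ (2⁻¹ : k) * ⟨1 * (x : T) + σ (1 * (x : T)), hmemS _⟩ := by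
      apply Subtype.ext
      show (x : T) = algebraMap k T 2⁻¹ * (1 * (x : T) + σ (1 * (x : T)))
      rw [one_mul, hxS, ← two_mul, ← mul_assoc, ← map_ofNat (algebraMap k T) 2, ← map_mul,
        inv_mul_cancel₀ (NeZero.ne 2), map_one, one_mul]
    rw [e]
    exact Ideal.mul_mem_left _ _ h1
  · exact (Ideal.le_comap_pow _ 2).trans (le_of_eq (by rw [← pow_mul]))

/-- Suppose k is a field in which 2 ≠ 0 and R is a commutative k-algebra. Write I for the ideal of the
diagonal, i.e. the kernel of multiplication R ⊗_k R → R, and write S for the subalgebra of R ⊗_k R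
consisting of elements invariant under interchanging the two tensor factors. Then, viewed as ideals
of S, the swap-invariant elements of I^4 form precisely the square of the ideal of swap-invariant
elements of I^2. (The source is stated over the complex numbers; the proof needs only that 2 is
invertible.) -/
theorem result
    (k R : Type u) [Field k] [NeZero (2 : k)] [CommRing R] [Algebra k R] :
    Ideal.comap
        (AlgHom.equalizer ((Algebra.TensorProduct.comm k R R : R ⊗[k] R ≃ₐ[k] R ⊗[k] R) : R ⊗[k] R →ₐ[k] R ⊗[k] R)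
          (AlgHom.id k (R ⊗[k] R))).val
        (KaehlerDifferential.ideal k R ^ 4) =
      (Ideal.comap
        (AlgHom.equalizer ((Algebra.TensorProduct.comm k R R : R ⊗[k] R ≃ₐ[k] R ⊗[k] R) : R ⊗[k] R →ₐ[k] R ⊗[k] R)
          (AlgHom.id k (R ⊗[k] R))).val
        (KaehlerDifferential.ideal k R ^ 2)) ^ 2 := by
  have hσσ : ∀ x : R ⊗[k] R, ((Algebra.TensorProduct.comm k R R : R ⊗[k] R ≃ₐ[k] R ⊗[k] R) :
      R ⊗[k] R →ₐ[k] R ⊗[k] R) (((Algebra.TensorProduct.comm k R R : R ⊗[k] R ≃ₐ[k] R ⊗[k] R) :
      R ⊗[k] R →ₐ[k] R ⊗[k] R) x) = x := by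
    intro x
    induction x using TensorProduct.induction_on with
    | zero => simp
    | tmul a b => simp
    | add a b ha hb => rw [map_add, map_add, ha, hb]
  have hD : ∀ d ∈ (Set.range fun s : R => (1 : R) ⊗ₜ[k] s - s ⊗ₜ[k] (1 : R)),
      ((Algebra.TensorProduct.comm k R R : R ⊗[k] R ≃ₐ[k] R ⊗[k] R) :
      R ⊗[k] R →ₐ[k] R ⊗[k] R) d = -d := by
    rintro _ ⟨r, rfl⟩
    simp
  have h := key _ hσσ _ hD
  rw [KaehlerDifferential.span_range_eq_ideal] at h
  exact h

end Groth.Agent.S19018
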