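import Groth.Statements.S19019
import Mathlib

set_option autoImplicit false
open scoped ComplexOrder
open Toeplitz

namespace Groth.Agent.S19019



open Complex Finset Matrix ComplexConjugate

/-- sample points -/
noncomputable def yy (N : ℕ) (θ : ℝ) (l : ℕ) : ℝ := θ + 2 * Real.pi * l / N

/-- the characters `e^{i c y_l}` -/
noncomputable def E (N : ℕ) (θ : ℝ) (c : ℤ) (l : ℕ) : ℂ :=
  exp (I * (c : ℂ) * ((yy N θ l : ℝ) : ℂ))

lemma E_add (N : ℕ) (θ : ℝ) (c d : ℤ) (l : ℕ) : E N θ (c + d) l = E N θ c l * E N θ d l := by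
  unfold E
  rw [← Complex.exp_add]
  congr 1
  push_cast
  ring

lemma E_zero (N : ℕ) (θ : ℝ) (l : ℕ) : E N θ 0 l = 1 := by
  unfold E
  simp

lemma E_conj (N : ℕ) (θ : ℝ) (c : ℤ) (l : ℕ) : conj (E N θ c l) = E N θ (-c) l := by
  unfold E
  rw [← Complex.exp_conj]
  congr 1
  simp only [map_mul, conj_I, conj_ofReal, map_intCast]
  push_cast
  ring

lemma orth (N : ℕ) (hN : 0 < N) (θ : ℝ) (c : ℤ) (hc : |c| < N) :
    ∑ l ∈ range N, E N θ c l = if c = 0 then (N : ℂ) else 0 := by
  split_ifs with h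
  · subst h
    simp [E_zero]
  · have hN0 : (N : ℂ) ≠ 0 := Nat.cast_ne_zero.mpr hN.ne'
    set ζ : ℂ := exp (2 * Real.pi * I * c / N) with hζ
    have hterm : ∀ l : ℕ, E N θ c l = exp (I * c * θ) * ζ ^ l := by
      intro l
      rw [hζ, ← Complex.exp_nat_mul, ← Complex.exp_add]
      unfold E yy
      congr 1
      push_cast
      field_simp
    simp_rw [hterm]
    rw [← Finset.mul_sum]
    have hζN : ζ ^ N = 1 := by
      rw [hζ, ← Complex.exp_nat_mul]
      have : (N : ℂ) * (2 * Real.pi * I * c / N) = c * (2 * Real.pi * I) := by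
        field_simp
      rw [this]
      exact Complex.exp_int_mul_two_pi_mul_I c
    have hζ1 : ζ ≠ 1 := by
      intro h1
      rw [hζ, Complex.exp_eq_one_iff] at h1
      obtain ⟨n, hn⟩ := h1
      have h2 : (2 * Real.pi * I : ℂ) ≠ 0 := Complex.two_pi_I_ne_zero
      have h3 : (c : ℂ) = n * N := by
        have : (2 * Real.pi * I : ℂ) * ((c : ℂ) / N) = (2 * Real.pi * I) * n := by
          rw [mul_comm _ (n : ℂ), ← hn]
          ring
        have h4 := mul_left_cancel₀ h2 this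
        rw [div_eq_iff hN0] at h4
        exact h4
      have h5 : c = n * N := by exact_mod_cast h3
      have h6 : n = 0 := by
        by_contra hn0
        have : (1 : ℤ) ≤ |n| := Int.one_le_abs hn0
        have h7 : (N : ℤ) ≤ |c| := by
          rw [h5, abs_mul, Nat.abs_cast]
          nlinarith [Int.natCast_nonneg N]
        omega
      exact h (by rw [h5, h6, zero_mul])
    rw [geom_sum_eq hζ1, hζN, sub_self, zero_div, mul_zero]

/-- the symbol -/
noncomputable def F (m : ℕ) (t : ℤ → ℂ) (N : ℕ) (θ : ℝ) (l : ℕ) : ℂ :=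
  ∑ k ∈ Finset.Ioo (-(m : ℤ)) (m : ℤ), t k * E N θ k l

lemma stageA (m : ℕ) (t : ℤ → ℂ) (θ : ℝ) (i j : Fin m) :
    ∑ l ∈ range (2 * m), F m t (2 * m) θ l * (E (2 * m) θ (i : ℕ) l * E (2 * m) θ (-((j : ℕ) : ℤ)) l) =
      ((2 * m : ℕ) : ℂ) * t ((j : ℤ) - (i : ℤ)) := by
  have hm : 0 < m := Fin.pos i
  unfold F
  simp_rw [Finset.sum_mul]
  rw [Finset.sum_comm]
  have h1 : ∀ k ∈ Finset.Ioo (-(m : ℤ)) (m : ℤ),
      ∑ l ∈ range (2 * m), t k * E (2 * m) θ k l *
          (E (2 * m) θ ((i : ℕ) : ℤ) l * E (2 * m) θ (-((j : ℕ) : ℤ)) l) =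
        t k * (if k + (i : ℕ) + -((j : ℕ) : ℤ) = 0 then ((2 * m : ℕ) : ℂ) else 0) := by
    intro k hk
    rw [Finset.mem_Ioo] at hk
    rw [← orth (2 * m) (by omega) θ (k + (i : ℕ) + -((j : ℕ) : ℤ)) (by
      have hi := i.2
      have hj := j.2
      rw [abs_lt]
      push_cast
      constructor <;> omega), Finset.mul_sum]
    refine Finset.sum_congr rfl fun l _ => ?_
    rw [E_add, E_add]
    ring
  rw [Finset.sum_congr rfl h1]
  have hmem : ((j : ℕ) : ℤ) - ((i : ℕ) : ℤ) ∈ Finset.Ioo (-(m : ℤ)) (m : ℤ) := by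
    rw [Finset.mem_Ioo]
    have hi := i.2
    have hj := j.2
    constructor <;> omega
  rw [Finset.sum_eq_single (((j : ℕ) : ℤ) - ((i : ℕ) : ℤ))]
  · rw [if_pos (by ring)]
    ring
  · intro k _ hk
    rw [if_neg, mul_zero]
    intro h
    apply hk
    linarith
  · intro h
    exact absurd hmem h

/-- the trigonometric polynomial attached to `x` -/
noncomputable def W (m : ℕ) (x : Fin m → ℂ) (N : ℕ) (θ : ℝ) (l : ℕ) : ℂ :=
  ∑ j : Fin m, x j * E N θ (-((j : ℕ) : ℤ)) l

lemma W_conj (m : ℕ) (x : Fin m → ℂ) (N : ℕ) (θ : ℝ) (l : ℕ) :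
    conj (W m x N θ l) = ∑ i : Fin m, conj (x i) * E N θ ((i : ℕ) : ℤ) l := by
  unfold W
  rw [map_sum]
  refine Finset.sum_congr rfl fun i _ => ?_
  rw [map_mul, E_conj, neg_neg]

lemma main_identity (m : ℕ) (t : ℤ → ℂ) (x : Fin m → ℂ) (θ : ℝ) :
    ((2 * m : ℕ) : ℂ) * ∑ i : Fin m, ∑ j : Fin m, conj (x i) * t ((j : ℤ) - (i : ℤ)) * x j =
      ∑ l ∈ range (2 * m), F m t (2 * m) θ l * (Complex.normSq (W m x (2 * m) θ l) : ℂ) := by
  have hR : ∀ l ∈ range (2 * m), F m t (2 * m) θ l * (Complex.normSq (W m x (2 * m) θ l) : ℂ) =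
      ∑ i : Fin m, ∑ j : Fin m, (conj (x i) * x j) *
        (F m t (2 * m) θ l * (E (2 * m) θ (i : ℕ) l * E (2 * m) θ (-((j : ℕ) : ℤ)) l)) := by
    intro l _
    rw [Complex.normSq_eq_conj_mul_self, W_conj]
    unfold W
    rw [Finset.sum_mul, Finset.mul_sum]
    refine Finset.sum_congr rfl fun i _ => ?_
    rw [Finset.mul_sum, Finset.mul_sum]
    refine Finset.sum_congr rfl fun j _ => ?_
    ring
  symm
  rw [Finset.sum_congr rfl hR, Finset.sum_comm (s := range (2 * m)), Finset.mul_sum]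
  refine Finset.sum_congr rfl fun i _ => ?_
  rw [Finset.sum_comm (s := range (2 * m)), Finset.mul_sum]
  refine Finset.sum_congr rfl fun j _ => ?_
  rw [← Finset.mul_sum, stageA]
  ring

/-- the symbol of the identity matrix is `1` -/
lemma F_delta (m : ℕ) (hm : 0 < m) (N : ℕ) (θ : ℝ) (l : ℕ) :
    F m (fun k => if k = 0 then 1 else 0) N θ l = 1 := by
  unfold F
  rw [Finset.sum_eq_single (0 : ℤ)]
  · simp [E_zero]
  · intro k _ hk
    simp [hk]
  · intro h
    exfalso
    apply h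
    rw [Finset.mem_Ioo]
    constructor <;> omega

lemma exists_W_ne_zero (m : ℕ) (x : Fin m → ℂ) (hx : x ≠ 0) (θ : ℝ) :
    ∃ l ∈ range (2 * m), W m x (2 * m) θ l ≠ 0 := by
  by_contra hcon
  push_neg at hcon
  have hm : 0 < m := by
    rcases Nat.eq_zero_or_pos m with h | h
    · subst h
      exact absurd (funext fun i => i.elim0) hx
    · exact h
  have h := main_identity m (fun k => if k = 0 then 1 else 0) x θ
  have hr : ∑ l ∈ range (2 * m), F m (fun k => if k = 0 then 1 else 0) (2 * m) θ l *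
      (Complex.normSq (W m x (2 * m) θ l) : ℂ) = 0 := by
    refine Finset.sum_eq_zero fun l hl => ?_
    rw [hcon l hl]
    simp
  rw [hr] at h
  have hl : ∑ i : Fin m, ∑ j : Fin m,
      conj (x i) * (fun k : ℤ => if k = 0 then (1 : ℂ) else 0) ((j : ℤ) - (i : ℤ)) * x j =
      ∑ i : Fin m, (Complex.normSq (x i) : ℂ) := by
    refine Finset.sum_congr rfl fun i _ => ?_
    rw [Finset.sum_eq_single i]
    · simp only [sub_self, if_true, mul_one]
      rw [Complex.normSq_eq_conj_mul_self]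
    · intro j _ hj
      have : ((j : ℕ) : ℤ) - ((i : ℕ) : ℤ) ≠ 0 := by
        intro h0
        apply hj
        apply Fin.ext
        omega
      simp [this]
    · intro h0
      exact absurd (Finset.mem_univ i) h0
  rw [hl] at h
  have h2 : ((2 * m : ℕ) : ℂ) ≠ 0 := Nat.cast_ne_zero.mpr (by omega)
  have h3 := (mul_eq_zero.mp h).resolve_left h2
  have h4 : ∑ i : Fin m, Complex.normSq (x i) = 0 := by exact_mod_cast h3
  apply hx
  funext i
  have := (Finset.sum_eq_zero_iff_of_nonneg (fun i _ => Complex.normSq_nonneg (x i))).mp h4 i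
    (Finset.mem_univ i)
  exact Complex.normSq_eq_zero.mp this


/-- Let A be an m × m complex Hermitian Toeplitz matrix, with entries A i j = t (j - i) constant along
diagonals, and let f(y) = Σ_{-m < k < m} t k · exp(i k y) be the trigonometric polynomial attached
to it. If f has positive real part at every real y outside a countable set, then A is positive
definite (hence nondegenerate). (The source also states the mirror case: f negative off a countable
set gives A negative definite, which is this statement for -A.) -/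
theorem result
    (m : ℕ) (t : ℤ → ℂ) (A : Matrix (Fin m) (Fin m) ℂ)
    (hA : ∀ i j : Fin m, A i j = t ((j : ℤ) - (i : ℤ))) (hH : A.IsHermitian)
    (hpos : Set.Countable {y : ℝ | ¬ 0 < (∑ k ∈ Finset.Ioo (-(m : ℤ)) (m : ℤ),
        t k * Complex.exp (Complex.I * (k : ℂ) * (y : ℂ))).re}) :
    A.PosDef := by
  classical
  refine Matrix.PosDef.of_dotProduct_mulVec_pos hH fun x hx => ?_
  have hm : 0 < m := by
    rcases Nat.eq_zero_or_pos m with h | h
    · subst h
      exact absurd (funext fun i => i.elim0) hx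
    · exact h
  set Bad : Set ℝ := {y : ℝ | ¬ 0 < (∑ k ∈ Finset.Ioo (-(m : ℤ)) (m : ℤ),
        t k * Complex.exp (Complex.I * (k : ℂ) * (y : ℂ))).re} with hBad
  -- choose a good shift
  have hcount : (⋃ l ∈ range (2 * m), (fun y : ℝ => y - 2 * Real.pi * l / (2 * m : ℕ)) '' Bad).Countable :=
    Set.Countable.biUnion (Finset.countable_toSet _) fun l _ => hpos.image _
  obtain ⟨θ, hθ⟩ : ∃ θ : ℝ, θ ∉ ⋃ l ∈ range (2 * m),
      (fun y : ℝ => y - 2 * Real.pi * l / (2 * m : ℕ)) '' Bad := by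
    by_contra hcon
    push_neg at hcon
    exact Cardinal.not_countable_real (by
      rw [show (Set.univ : Set ℝ) = _ from (Set.eq_univ_of_forall hcon).symm]
      exact hcount)
  have hgood : ∀ l ∈ range (2 * m), 0 < (F m t (2 * m) θ l).re := by
    intro l hl
    by_contra hneg
    apply hθ
    refine Set.mem_biUnion hl ⟨yy (2 * m) θ l, hneg, ?_⟩
    simp only [yy]
    ring
  -- the quadratic form
  have hQ : star x ⬝ᵥ (A *ᵥ x) = ∑ i : Fin m, ∑ j : Fin m, conj (x i) * t ((j : ℤ) - (i : ℤ)) * x j := by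
    simp only [dotProduct, mulVec, Pi.star_apply, RCLike.star_def, Finset.mul_sum]
    refine Finset.sum_congr rfl fun i _ => Finset.sum_congr rfl fun j _ => ?_
    rw [hA, mul_assoc]
  have hid := main_identity m t x θ
  rw [← hQ] at hid
  -- imaginary part vanishes since `A` is Hermitian
  have him : (star x ⬝ᵥ (A *ᵥ x)).im = 0 := hH.im_star_dotProduct_mulVec_self x
  -- real part is positive
  have hre : 0 < (((2 * m : ℕ) : ℂ) * (star x ⬝ᵥ (A *ᵥ x))).re := by
    rw [hid, Complex.re_sum]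
    obtain ⟨l₀, hl₀, hW⟩ := exists_W_ne_zero m x hx θ
    have hterm : ∀ l ∈ range (2 * m),
        (F m t (2 * m) θ l * (Complex.normSq (W m x (2 * m) θ l) : ℂ)).re =
          (F m t (2 * m) θ l).re * Complex.normSq (W m x (2 * m) θ l) := fun l _ =>
      Complex.re_mul_ofReal _ _
    rw [Finset.sum_congr rfl hterm]
    refine Finset.sum_pos' (fun l hl => mul_nonneg (hgood l hl).le (Complex.normSq_nonneg _))
      ⟨l₀, hl₀, mul_pos (hgood l₀ hl₀) (Complex.normSq_pos.mpr hW)⟩
  have hcast : (((2 * m : ℕ) : ℂ) * (star x ⬝ᵥ (A *ᵥ x))).re =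
      ((2 * m : ℕ) : ℝ) * (star x ⬝ᵥ (A *ᵥ x)).re := by
    rw [show ((2 * m : ℕ) : ℂ) = (((2 * m : ℕ) : ℝ) : ℂ) by push_cast; rfl, Complex.re_ofReal_mul]
  rw [hcast] at hre
  have hre' : 0 < (star x ⬝ᵥ (A *ᵥ x)).re := by
    have h2m : (0 : ℝ) < ((2 * m : ℕ) : ℝ) := by exact_mod_cast (by omega : 0 < 2 * m)
    exact (mul_pos_iff_of_pos_left h2m).mp hre
  exact Complex.pos_iff.mpr ⟨hre', him.symm⟩

end Groth.Agent.S19019
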