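import Groth.Statements.S19020
import Mathlib


set_option autoImplicit false
open Toeplitz

namespace Groth.Agent.S19020



open Finset

/-- shifted Vandermonde: `∑ₐ C(n,a) C(n,a+d) = C(2n, n+d)` -/
lemma vandermonde_shift (n d : ℕ) :
    ∑ a ∈ range (n + 1), n.choose a * n.choose (a + d) = (2 * n).choose (n + d) := by
  by_cases hd : d ≤ n
  · have h1 : (2 * n).choose (n + d) = (2 * n).choose (n - d) :=
      Nat.choose_symm_of_eq_add (by omega)
    rw [h1, two_mul, Nat.add_choose_eq, Finset.Nat.sum_antidiagonal_eq_sum_range_succ_mk]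
    have hsub : range (n - d + 1) ⊆ range (n + 1) := range_subset_range.mpr (by omega)
    rw [← Finset.sum_subset hsub]
    · refine Finset.sum_congr rfl fun a ha => ?_
      have ha' : a ≤ n - d := Nat.lt_succ_iff.mp (mem_range.mp ha)
      congr 1
      exact Nat.choose_symm_of_eq_add (by omega)
    · intro a _ ha
      have : n < a + d := by
        rw [mem_range] at ha
        omega
      rw [Nat.choose_eq_zero_of_lt this, mul_zero]
  · push_neg at hd
    rw [Nat.choose_eq_zero_of_lt (show 2 * n < n + d by omega)]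
    refine Finset.sum_eq_zero fun a _ => ?_
    rw [Nat.choose_eq_zero_of_lt (show n < a + d by omega), mul_zero]

/-- the banded Toeplitz factor: `P k j = (-1)^(k-j) C(n,k-j)` for `j ≤ k` -/
noncomputable def G (n : ℕ) (k j : ℕ) : ℝ :=
  if j ≤ k then (-1 : ℝ) ^ (k - j) * (n.choose (k - j) : ℝ) else 0

noncomputable def P (n m : ℕ) : Matrix (Fin (m + n)) (Fin m) ℝ :=
  Matrix.of fun k j => G n k j

lemma entry_le (n m : ℕ) (i j : Fin m) (hij : (i : ℕ) ≤ j) :
    ∑ k : Fin (m + n), G n k i * G n k j =
      (-1 : ℝ) ^ ((i : ℕ) + (j : ℕ)) * ((2 * n).choose (n + Nat.dist i j) : ℝ) := by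
  rw [Fin.sum_univ_eq_sum_range (fun k => G n k i * G n k j) (m + n)]
  have hsub : Ico (j : ℕ) (j + (n + 1)) ⊆ range (m + n) := by
    intro k hk
    rw [mem_Ico] at hk
    rw [mem_range]
    have := j.2
    omega
  rw [← Finset.sum_subset hsub]
  · rw [Finset.sum_Ico_eq_sum_range, Nat.add_sub_cancel_left, Nat.dist_eq_sub_of_le hij,
      ← vandermonde_shift, Nat.cast_sum, Finset.mul_sum]
    refine Finset.sum_congr rfl fun a _ => ?_
    have h1 : (i : ℕ) ≤ j + a := by omega
    have h2 : (j : ℕ) ≤ j + a := by omega
    have h3 : (j : ℕ) + a - i = a + (j - i) := by omega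
    have h4 : (j : ℕ) + a - j = a := by omega
    have h5 : (i : ℕ) + j = 2 * i + (j - i) := by omega
    simp only [G, if_pos h1, if_pos h2, h3, h4]
    rw [h5, pow_add, pow_add, pow_mul]
    push_cast
    have hsq : ((-1 : ℝ) ^ 2) = 1 := by norm_num
    have haa : (-1 : ℝ) ^ a * (-1 : ℝ) ^ a = 1 := by rw [← mul_pow]; norm_num
    rw [hsq, one_pow, one_mul]
    linear_combination
      ((-1 : ℝ) ^ ((j : ℕ) - i) * (n.choose (a + ((j : ℕ) - i)) : ℝ) * (n.choose a : ℝ)) * haa
  · intro k _ hk
    rw [mem_Ico, not_and_or] at hk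
    rcases hk with hk | hk
    · have : ¬ (j : ℕ) ≤ k := hk
      simp only [G, if_neg this, mul_zero]
    · have hlt : n < k - j := by omega
      have hjk : (j : ℕ) ≤ k := by omega
      simp only [G, if_pos hjk, Nat.choose_eq_zero_of_lt hlt, Nat.cast_zero, mul_zero]

lemma entry (n m : ℕ) (i j : Fin m) :
    ∑ k : Fin (m + n), G n k i * G n k j =
      (-1 : ℝ) ^ ((i : ℕ) + (j : ℕ)) * ((2 * n).choose (n + Nat.dist i j) : ℝ) := by
  rcases le_total (i : ℕ) j with h | h
  · exact entry_le n m i j h
  · have := entry_le n m j i h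
    rw [Nat.dist_comm, add_comm (i : ℕ)]
    rw [← this]
    exact Finset.sum_congr rfl fun k _ => mul_comm _ _

lemma P_injective (n m : ℕ) : Function.Injective (P n m).mulVec := by
  intro x y hxy
  have hz : (P n m).mulVec (x - y) = 0 := by rw [Matrix.mulVec_sub, hxy, sub_self]
  have key : ∀ N : ℕ, ∀ j : Fin m, (j : ℕ) < N → (x - y) j = 0 := by
    intro N
    induction N with
    | zero => intro j hj; exact absurd hj (Nat.not_lt_zero _)
    | succ N ih =>
      intro j hj
      by_cases hjN : (j : ℕ) < N
      · exact ih j hjN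
      have hjN' : (j : ℕ) = N := by omega
      have hk := congrFun hz (Fin.castAdd n j)
      rw [Matrix.mulVec, dotProduct, Pi.zero_apply] at hk
      rw [Finset.sum_eq_single j] at hk
      · have h1 : P n m (Fin.castAdd n j) j = 1 := by
          simp [P, G]
        rw [h1, one_mul] at hk
        exact hk
      · intro l _ hlj
        rcases lt_or_gt_of_ne hlj with hl | hl
        · rw [ih l (by rw [← hjN']; exact hl), mul_zero]
        · have : ¬ (l : ℕ) ≤ ((Fin.castAdd n j : Fin (m + n)) : ℕ) := by
            rw [Fin.val_castAdd]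
            exact not_le.mpr hl
          simp only [P, Matrix.of_apply, G, if_neg this, zero_mul]
      · intro hj'
        exact absurd (Finset.mem_univ j) hj'
  have : x - y = 0 := funext fun j => key (j + 1) j (Nat.lt_succ_self _)
  exact sub_eq_zero.mp this


/-- For natural numbers n and m, the m × m real Toeplitz matrix with (i, j) entry (-1)^(i+j) · C(2n, n +
|i - j|), i.e. with t_k = (-1)^k C(2n, n + k) on the k-th diagonal for |k| ≤ n and zero beyond, is
positive definite; in particular it is nondegenerate, which is the printed assertion (positive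
definiteness is what the printed proof establishes; m = 0 is the empty matrix). -/
theorem result (n m : ℕ) :
    (Matrix.of fun i j : Fin m =>
        (-1 : ℝ) ^ ((i : ℕ) + (j : ℕ)) * (Nat.choose (2 * n) (n + Nat.dist i j) : ℝ)).PosDef := by
  have h := Matrix.PosDef.conjTranspose_mul_self (P n m) (P_injective n m)
  convert h using 1
  ext i j
  rw [Matrix.mul_apply]
  simp only [Matrix.conjTranspose_apply, star_trivial, P, Matrix.of_apply]
  exact (entry n m i j).symm

end Groth.Agent.S19020
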