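import Groth.Statements.S19021
import Groth.Agent.S19020

set_option autoImplicit false
open Toeplitz

namespace Groth.Agent.S19021



open Matrix

/-- the entries of the odd matrix -/
def f (n a b : ℕ) : ℤ :=
  (-1 : ℤ) ^ (a + b) *
    (if b ≤ a then (Nat.choose (2 * n + 1) (n + 1 + (a - b)) : ℤ)
      else (Nat.choose (2 * n + 1) (n + (b - a)) : ℤ))

lemma pascal (n k : ℕ) :
    (2 * (n + 1)).choose (n + 1 + k) = (2 * n + 1).choose (n + k) + (2 * n + 1).choose (n + 1 + k) := by
  have : 2 * (n + 1) = (2 * n + 1) + 1 := by ring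
  rw [this, show n + 1 + k = (n + k) + 1 by ring, Nat.choose_succ_succ]

lemma f_add_lt (n a b : ℕ) (h : b < a) :
    f n a b + f n b a = (-1 : ℤ) ^ (a + b) * ((2 * (n + 1)).choose (n + 1 + Nat.dist a b) : ℤ) := by
  have h1 : b ≤ a := h.le
  have h2 : ¬ a ≤ b := not_le.mpr h
  rw [Nat.dist_eq_sub_of_le_right h1, pascal]
  simp only [f, if_pos h1, if_neg h2, add_comm b a]
  push_cast
  ring

lemma f_add (n a b : ℕ) :
    f n a b + f n b a = (-1 : ℤ) ^ (a + b) * ((2 * (n + 1)).choose (n + 1 + Nat.dist a b) : ℤ) := by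
  rcases lt_trichotomy a b with h | h | h
  · have := f_add_lt n b a h
    rw [add_comm, this, Nat.dist_comm, add_comm b a]
  · subst h
    have hs : (2 * n + 1).choose (n + 0) = (2 * n + 1).choose (n + 1 + 0) :=
      Nat.choose_symm_of_eq_add (by omega)
    rw [Nat.dist_self, pascal, hs]
    simp only [f, le_refl, if_true, Nat.sub_self]
    push_cast
    ring
  · exact f_add_lt n a b h


/-- For natural numbers n and m, the m × m integer Toeplitz matrix with (i, j) entry (-1)^(i+j) ·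
C(2n+1, n+1+i-j) (the binomial coefficient being 0 outside the range 0 ≤ n+1+i-j ≤ 2n+1;
equivalently s_k = (-1)^k C(2n+1, n+k+1) on the diagonal i - j = k for -n-1 ≤ k ≤ n and zero beyond)
is nondegenerate: its determinant is nonzero (m = 0 is the empty matrix, of determinant 1). -/
theorem result (n m : ℕ) :
    (Matrix.of fun i j : Fin m =>
        (-1 : ℤ) ^ ((i : ℕ) + (j : ℕ)) *
          (if (j : ℕ) ≤ (i : ℕ) then (Nat.choose (2 * n + 1) (n + 1 + ((i : ℕ) - (j : ℕ))) : ℤ)
            else (Nat.choose (2 * n + 1) (n + ((j : ℕ) - (i : ℕ))) : ℤ))).det ≠ 0 := by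
  classical
  intro hdet
  set M : Matrix (Fin m) (Fin m) ℤ := Matrix.of fun i j : Fin m => f n i j with hM
  have hMdef : (Matrix.of fun i j : Fin m =>
        (-1 : ℤ) ^ ((i : ℕ) + (j : ℕ)) *
          (if (j : ℕ) ≤ (i : ℕ) then (Nat.choose (2 * n + 1) (n + 1 + ((i : ℕ) - (j : ℕ))) : ℤ)
            else (Nat.choose (2 * n + 1) (n + ((j : ℕ) - (i : ℕ))) : ℤ))) = M := rfl
  rw [hMdef] at hdet
  obtain ⟨v, hv, hMv⟩ := Matrix.exists_mulVec_eq_zero_iff.mpr hdet
  have hT := Groth.Agent.S19020.result (n + 1) m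
  set T : Matrix (Fin m) (Fin m) ℝ := Matrix.of fun i j : Fin m =>
        (-1 : ℝ) ^ ((i : ℕ) + (j : ℕ)) * (Nat.choose (2 * (n + 1)) (n + 1 + Nat.dist i j) : ℝ) with hTdef
  have hTM : T = (M + M.transpose).map (Int.castRingHom ℝ) := by
    ext i j
    simp only [hTdef, hM, Matrix.of_apply, Matrix.map_apply, Matrix.add_apply,
      Matrix.transpose_apply, Int.coe_castRingHom]
    rw [f_add]
    push_cast
    ring
  let x : Fin m → ℝ := (Int.castRingHom ℝ) ∘ v
  have hx : x ≠ 0 := by
    intro h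
    apply hv
    funext i
    have := congrFun h i
    simpa [x] using this
  have hpos := hT.dotProduct_mulVec_pos hx
  have hzero : star x ⬝ᵥ (T *ᵥ x) = 0 := by
    rw [star_trivial, hTM]
    have h1 : ((M + M.transpose).map (Int.castRingHom ℝ)) *ᵥ x =
        (Int.castRingHom ℝ) ∘ ((M + M.transpose) *ᵥ v) := by
      funext i
      exact (RingHom.map_mulVec (Int.castRingHom ℝ) (M + M.transpose) v i).symm
    rw [h1]
    show (Int.castRingHom ℝ) ∘ v ⬝ᵥ (Int.castRingHom ℝ) ∘ ((M + M.transpose) *ᵥ v) = 0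
    rw [← RingHom.map_dotProduct]
    have h2 : v ⬝ᵥ ((M + M.transpose) *ᵥ v) = 0 := by
      rw [Matrix.add_mulVec, dotProduct_add, hMv, dotProduct_zero, zero_add,
        Matrix.dotProduct_mulVec, Matrix.vecMul_transpose, hMv, zero_dotProduct]
    rw [h2, map_zero]
  rw [hzero] at hpos
  exact lt_irrefl _ hpos

end Groth.Agent.S19021
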