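import Groth.Statements.S19025


set_option autoImplicit false
universe u
open HigherRestr

namespace Groth.Agent.S19025

/-- shift operator on sequences -/
def shiftE (S : Type u) [CommRing S] : Module.End S (ℕ → S) where
  toFun z j := z (j + 1)
  map_add' _ _ := rfl
  map_smul' _ _ := rfl

lemma shiftE_apply (S : Type u) [CommRing S] (z : ℕ → S) (j : ℕ) :
    shiftE S z j = z (j + 1) := rfl

lemma shiftE_pow (S : Type u) [CommRing S] (k : ℕ) (z : ℕ → S) (j : ℕ) :
    ((shiftE S) ^ k) z j = z (j + k) := by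
  induction k generalizing z j with
  | zero => simp
  | succ k ih =>
    rw [pow_succ, Module.End.mul_apply, ih, shiftE_apply, add_assoc]

lemma diff_apply (S : Type u) [CommRing S] (z : ℕ → S) :
    (shiftE S - 1) z = fwdDiff (1:ℕ) z := by
  funext j; simp [shiftE_apply, fwdDiff]

lemma diff_pow (S : Type u) [CommRing S] (k : ℕ) (z : ℕ → S) :
    ((shiftE S - 1) ^ k) z = (fwdDiff (1:ℕ))^[k] z := by
  induction k generalizing z with
  | zero => simp
  | succ k ih =>
    rw [pow_succ, Module.End.mul_apply, ih, diff_apply, Function.iterate_succ_apply]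

lemma expand1 (S : Type u) [CommRing S] (g₀ g₁ : S) (N : ℕ) (y : ℕ → S) :
    ((g₁ • shiftE S - g₀ • (1 : Module.End S (ℕ → S))) ^ N) y 0 =
      (fwdDiff (1 : ℕ))^[N] (fun j : ℕ => g₀ ^ (N - j) * g₁ ^ j * y j) 0 := by
  have hT : g₁ • shiftE S - g₀ • (1 : Module.End S (ℕ → S)) =
      g₁ • shiftE S + algebraMap S (Module.End S (ℕ → S)) (-g₀) := by
    rw [Algebra.algebraMap_eq_smul_one, neg_smul, sub_eq_add_neg]
  have hc : Commute (g₁ • shiftE S) (algebraMap S (Module.End S (ℕ → S)) (-g₀)) :=
    Algebra.commute_algebraMap_right _ _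
  rw [hT, hc.add_pow, fwdDiff_iter_eq_sum_shift, LinearMap.sum_apply, Finset.sum_apply]
  refine Finset.sum_congr rfl fun m hm => ?_
  rw [smul_pow, ← map_pow]
  simp only [Module.End.mul_apply, LinearMap.smul_apply, Module.algebraMap_end_apply,
    Module.End.natCast_apply, Pi.smul_apply, shiftE_pow, zero_add]
  simp only [smul_eq_mul, nsmul_eq_mul, Pi.mul_apply, Pi.natCast_apply,
    zsmul_eq_mul, Int.cast_mul, Int.cast_pow, Int.cast_neg, Int.cast_one, Int.cast_natCast, neg_pow g₀]
  ring

lemma expand2 (S : Type u) [CommRing S] (g₀ g₁ : S) (N : ℕ) (y : ℕ → S) :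
    ((g₁ • shiftE S - g₀ • (1 : Module.End S (ℕ → S))) ^ N) y 0 =
      ∑ m ∈ Finset.range (N + 1), (N.choose m : S) * (g₁ - g₀) ^ m * g₀ ^ (N - m) *
        ((fwdDiff (1:ℕ))^[N - m] y m) := by
  have hT : g₁ • shiftE S - g₀ • (1 : Module.End S (ℕ → S)) =
      (g₁ - g₀) • shiftE S + g₀ • (shiftE S - 1) := by
    refine LinearMap.ext fun z => funext fun j => ?_
    simp only [LinearMap.sub_apply, LinearMap.add_apply, LinearMap.smul_apply, Module.End.one_apply,
      Pi.sub_apply, Pi.add_apply, Pi.smul_apply, smul_eq_mul]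
    ring
  have hc : Commute ((g₁ - g₀) • shiftE S) (g₀ • (shiftE S - 1)) := by
    have h : Commute (shiftE S) (shiftE S - 1) :=
      (Commute.refl (shiftE S)).sub_right (Commute.one_right (shiftE S))
    exact (h.smul_left (g₁ - g₀)).smul_right g₀
  rw [hT, hc.add_pow, LinearMap.sum_apply, Finset.sum_apply]
  refine Finset.sum_congr rfl fun m hm => ?_
  rw [smul_pow, smul_pow]
  simp only [Module.End.mul_apply, LinearMap.smul_apply, Module.End.natCast_apply, map_nsmul,
    map_smul]
  simp only [Pi.smul_apply, shiftE_pow, zero_add, diff_pow, smul_eq_mul, nsmul_eq_mul]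
  ring

/-- In abstract form, the estimate its proof establishes. Let S be a commutative ring, I an ideal of S,
g₀ and g₁ elements with g₁ - g₀ ∈ I, N a natural number and y a sequence in S such that, for 1 ≤ i ≤
N, the (N-i)-fold unit-step forward difference of y taken at i lies in I^(N-i). Then g₀^N times the
N-fold forward difference of y at 0, minus the N-fold forward difference at 0 of the twisted
sequence j ↦ g₀^(N-j) g₁^j y_j, lies in I^N. (In the source S is the ring of functions on an affine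
chart of X^n, I the ideal of a pairwise diagonal, g₀ and g₁ the two pullbacks of a transition unit
of L, and y_j the components x_λ along the compositions a₀^(N-j) a₁^j μ; the estimate is what makes
the higher order restrictions D^l_L well defined on ker D^(l-1)_L independently of the
trivialisation.) -/
theorem result
    (S : Type u) [CommRing S] (I : Ideal S) (g₀ g₁ : S) (hg : g₁ - g₀ ∈ I)
    (N : ℕ) (y : ℕ → S)
    (hy : ∀ i : ℕ, 1 ≤ i → i ≤ N → (fwdDiff (1 : ℕ))^[N - i] y i ∈ I ^ (N - i)) :
    g₀ ^ N * (fwdDiff (1 : ℕ))^[N] y 0 -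
        (fwdDiff (1 : ℕ))^[N] (fun j : ℕ => g₀ ^ (N - j) * g₁ ^ j * y j) 0 ∈ I ^ N := by
  rw [← expand1, expand2, Finset.sum_range_succ']
  simp only [Nat.choose_zero_right, Nat.cast_one, one_mul, pow_zero, Nat.sub_zero]
  rw [sub_add_cancel_right]
  refine neg_mem (sum_mem fun m hm => ?_)
  have hm' : m + 1 ≤ N := by have := Finset.mem_range.mp hm; omega
  have h3 := hy (m + 1) (by omega) hm'
  have h4 : (g₁ - g₀) ^ (m + 1) * (fwdDiff (1:ℕ))^[N - (m + 1)] y (m + 1) ∈ I ^ N := by
    have := Ideal.mul_mem_mul (Ideal.pow_mem_pow hg (m + 1)) h3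
    rwa [← pow_add, Nat.add_sub_cancel' hm'] at this
  have e : (N.choose (m + 1) : S) * (g₁ - g₀) ^ (m + 1) * g₀ ^ (N - (m + 1)) *
        ((fwdDiff (1:ℕ))^[N - (m + 1)] y (m + 1)) =
      ((N.choose (m + 1) : S) * g₀ ^ (N - (m + 1))) *
        ((g₁ - g₀) ^ (m + 1) * (fwdDiff (1:ℕ))^[N - (m + 1)] y (m + 1)) := by ring
  rw [e]
  exact Ideal.mul_mem_left _ _ h4

end Groth.Agent.S19025
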