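import Groth.Statements.S19037
import Mathlib

set_option autoImplicit false
universe u v
open scoped Polynomial LaurentPolynomial
open Instab

namespace Groth.Agent.S19037

/-- Affine form over a ring R. Let A be a commutative ℤ-graded R-algebra and t an element of degree −1
(so A is a graded algebra over R[t] with t in degree −1), and let ψ : A[1/t] → R[T, T⁻¹] be an
R-algebra map sending t to T which is graded, in the sense that each homogeneous element of degree n
of A goes to an element of R times T^(−n). Then ψ is obtained by inverting t from an R-algebra map χ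
: A → R[T] (compared through the inclusion of R[T] in R[T, T⁻¹]) if and only if ψ kills t·a for
every homogeneous a of degree 1; such a χ is unique. (The source states this for quasi-coherent
graded algebras over an arbitrary base scheme; the statement is local on the base and is given here
over an affine base.) -/
theorem result
    {R : Type u} {A : Type v} [CommRing R] [CommRing A] [Algebra R A]
    (𝒜 : ℤ → Submodule R A) [GradedAlgebra 𝒜] (t : A) (ht : t ∈ 𝒜 (-1))
    (ψ : Localization.Away t →ₐ[R] R[T;T⁻¹])
    (hψt : ψ (algebraMap A (Localization.Away t) t) = LaurentPolynomial.T 1)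
    (hψ : ∀ (n : ℤ) (a : A), a ∈ 𝒜 n →
      ∃ r : R, ψ (algebraMap A (Localization.Away t) a) = LaurentPolynomial.C r * LaurentPolynomial.T (-n)) :
    (∃! χ : A →ₐ[R] R[X], ∀ a : A,
        ψ (algebraMap A (Localization.Away t) a) = Polynomial.toLaurentAlg (χ a)) ↔
      ∀ a ∈ 𝒜 1, ψ (algebraMap A (Localization.Away t) (t * a)) = 0 := by
  classical
  have hinj : Function.Injective (Polynomial.toLaurentAlg : R[X] →ₐ[R] R[T;T⁻¹]) := by
    rw [Polynomial.coe_toLaurentAlg]; exact Polynomial.toLaurent_injective
  constructor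
  · rintro ⟨χ, hχ, -⟩ a ha
    obtain ⟨r, hr⟩ := hψ 1 a ha
    have h0 : χ a = 0 := by
      have h := congrArg LaurentPolynomial.trunc (hr.symm.trans (hχ a))
      rw [LaurentPolynomial.trunc_C_mul_T, Polynomial.toLaurentAlg_apply,
        Polynomial.trunc_toLaurent, if_neg (by norm_num)] at h
      exact h.symm
    rw [map_mul, map_mul, hχ a, h0, map_zero, mul_zero]
  · intro h
    have hpos : ∀ (m : ℕ) (a : A), a ∈ 𝒜 ((m : ℤ) + 1) →
        ψ (algebraMap A (Localization.Away t) a) = 0 := by
      intro m a ha
      have hmem : t ^ m * a ∈ 𝒜 1 := by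
        have h1 := SetLike.mul_mem_graded (SetLike.pow_mem_graded m ht) ha
        have e : m • (-1 : ℤ) + ((m : ℤ) + 1) = 1 := by
          rw [nsmul_eq_mul]; ring
        rwa [e] at h1
      have h2 := h _ hmem
      rw [← mul_assoc, ← pow_succ'] at h2
      simp only [map_mul, map_pow, hψt] at h2
      exact ((LaurentPolynomial.isUnit_T 1).pow (m + 1)).mul_right_eq_zero.mp h2
    have hrange : ∀ a : A, ψ (algebraMap A (Localization.Away t) a) ∈
        (Polynomial.toLaurentAlg : R[X] →ₐ[R] R[T;T⁻¹]).range := by
      intro a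
      refine DirectSum.Decomposition.inductionOn 𝒜
        (motive := fun a => ψ (algebraMap A (Localization.Away t) a) ∈
          (Polynomial.toLaurentAlg : R[X] →ₐ[R] R[T;T⁻¹]).range) ?_ ?_ ?_ a
      · show ψ (algebraMap A (Localization.Away t) 0) ∈ _
        rw [map_zero, map_zero]; exact Subalgebra.zero_mem _
      · intro i a
        show ψ (algebraMap A (Localization.Away t) (a : A)) ∈ _
        rcases le_or_gt i 0 with hi | hi
        · obtain ⟨r, hr⟩ := hψ i a a.2
          refine (AlgHom.mem_range _).mpr ⟨Polynomial.monomial (-i).toNat r, ?_⟩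
          rw [Polynomial.toLaurentAlg_apply, Polynomial.toLaurent_C_mul_T,
            Int.toNat_of_nonneg (by omega), hr]
        · obtain ⟨m, hm⟩ : ∃ m : ℕ, i = (m : ℤ) + 1 := ⟨(i - 1).toNat, by omega⟩
          subst hm
          rw [hpos m a a.2]
          exact Subalgebra.zero_mem _
      · intro a b ha hb
        show ψ (algebraMap A (Localization.Away t) (a + b)) ∈ _
        rw [map_add, map_add]; exact Subalgebra.add_mem _ ha hb
    obtain ⟨ψι, hψι⟩ : ∃ f : A →ₐ[R] R[T;T⁻¹],
        ∀ a, f a = ψ (algebraMap A (Localization.Away t) a) :=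
      ⟨ψ.comp (IsScalarTower.toAlgHom R A (Localization.Away t)), fun a => rfl⟩
    have hrange' : ∀ a, ψι a ∈ (Polynomial.toLaurentAlg : R[X] →ₐ[R] R[T;T⁻¹]).range :=
      fun a => by rw [hψι]; exact hrange a
    obtain ⟨χ, hχ⟩ : ∃ χ : A →ₐ[R] R[X], ∀ a, Polynomial.toLaurentAlg (χ a) = ψι a := by
      refine ⟨(AlgEquiv.ofInjective _ hinj).symm.toAlgHom.comp (ψι.codRestrict _ hrange'),
        fun a => ?_⟩
      have := (AlgEquiv.ofInjective (Polynomial.toLaurentAlg : R[X] →ₐ[R] R[T;T⁻¹])
        hinj).apply_symm_apply (ψι.codRestrict _ hrange' a)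
      exact congrArg Subtype.val this
    refine ⟨χ, fun a => by rw [hχ, hψι], fun χ' h' => AlgHom.ext fun a => hinj ?_⟩
    rw [hχ, hψι, h' a]

end Groth.Agent.S19037
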