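import Groth.Statements.S19043
import Groth.Agent.Lib.Helper28.GcMod
import Mathlib.LinearAlgebra.StdBasis

set_option autoImplicit false
universe u
open Dieu

namespace Groth.Agent.S19043

/-- Let `k` be a perfect field of characteristic `2` and `c` a natural number, and let `M` be the
explicit `2c`-dimensional `k`-space on `X_1, …, X_c, Y_1, …, Y_c` with its operators `F` and `V` (`F
Y_j = 0`; `F X_j = X_{j/2}` for `j` even and `Y_{c-(j-1)/2}` for `j` odd; `V Y_j = Y_{2j}` when `2j
≤ c`, else `0`; `V X_j = Y_{2c-2j+1}` when `2j > c`, else `0`). The classes of the `X_j` with `c <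
2j ≤ 2c` in the quotient of `M` by the `k`-span of `F(M) ∪ V(M)` are linearly independent and span
that quotient. (Stated over any perfect field of characteristic `2`; the source works over an
algebraically closed one.) -/
theorem result (c : ℕ) (k : Type u) [Field k] [CharP k 2] [PerfectRing k 2] :
    LinearIndependent k (fun j : {j : ℕ // c < 2 * j ∧ j ≤ c} =>
        Submodule.mkQ (Submodule.span k (Set.range (W4c6eohyperellchar2.F c k) ∪ Set.range (W4c6eohyperellchar2.V c k))) (W4c6eohyperellchar2.X c k j.1)) ∧
      Submodule.span k (Set.range (fun j : {j : ℕ // c < 2 * j ∧ j ≤ c} =>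
        Submodule.mkQ (Submodule.span k (Set.range (W4c6eohyperellchar2.F c k) ∪ Set.range (W4c6eohyperellchar2.V c k))) (W4c6eohyperellchar2.X c k j.1))) = ⊤ := by
  open Groth.Agent.Lib.Helper28.GcMod W4c6eohyperellchar2 in
  classical
  set S : Submodule k (GcMod c k) :=
    Submodule.span k (Set.range (F c k) ∪ Set.range (V c k)) with hS
  let ι := {j : ℕ // c < 2 * j ∧ j ≤ c}
  -- the projection onto the coordinates `X_j`, `c < 2j ≤ 2c`
  let π : GcMod c k →ₗ[k] (ι → k) :=
    { toFun := fun v j => v.1 ⟨j.1 - 1, by have := j.2; omega⟩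
      map_add' := fun v w => by funext j; rfl
      map_smul' := fun r v => by funext j; rfl }
  have hπS : S ≤ LinearMap.ker π := by
    rw [hS, Submodule.span_le]
    rintro w (⟨v, rfl⟩ | ⟨v, rfl⟩)
    · rw [SetLike.mem_coe, LinearMap.mem_ker]
      funext j
      have hj := j.2
      change (F c k v).1 ⟨j.1 - 1, _⟩ = 0
      unfold F coefX
      simp only
      rw [dif_neg (by omega), zero_pow (by norm_num)]
    · rw [SetLike.mem_coe, LinearMap.mem_ker]
      funext j
      rfl
  have hπX : ∀ j : ι, π (X c k j.1) = Pi.single j 1 := by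
    intro j
    funext j'
    have hj := j.2
    have hj' := j'.2
    change (X c k j.1).1 ⟨j'.1 - 1, _⟩ = _
    unfold X
    simp only
    by_cases h : j' = j
    · subst h
      rw [Pi.single_eq_same, if_pos (by omega)]
    · rw [Pi.single_eq_of_ne h, if_neg]
      intro h2
      exact h (Subtype.ext (by omega))
  refine ⟨?_, ?_⟩
  · refine LinearIndependent.of_comp (S.liftQ π hπS) ?_
    have : (S.liftQ π hπS) ∘ (fun j : ι => S.mkQ (X c k j.1)) = fun j : ι => Pi.single j (1 : k) := by
      funext j
      rw [Function.comp_apply, Submodule.mkQ_apply, Submodule.liftQ_apply, hπX]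
    rw [this]
    exact Pi.linearIndependent_single_one ι k
  · set T : Submodule k (GcMod c k ⧸ S) := Submodule.span k (Set.range (fun j : ι => S.mkQ (X c k j.1))) with hT
    have hle : S ≤ T.comap S.mkQ := by
      intro v hv
      rw [Submodule.mem_comap, Submodule.mkQ_apply, (Submodule.Quotient.mk_eq_zero S).mpr hv]
      exact T.zero_mem
    have hrF : ∀ v, F c k v ∈ T.comap S.mkQ := fun v =>
      hle (Submodule.subset_span (Or.inl ⟨v, rfl⟩))
    have hrV : ∀ v, V c k v ∈ T.comap S.mkQ := fun v =>
      hle (Submodule.subset_span (Or.inr ⟨v, rfl⟩))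
    have htop := eq_top_of_stable c k (T.comap S.mkQ) (fun v _ => hrF v) (fun v _ => hrV v)
      (fun j h1 h2 => by
        rw [Submodule.mem_comap]
        exact Submodule.subset_span ⟨⟨j, h1, h2⟩, rfl⟩)
    rw [eq_top_iff]
    intro x _
    obtain ⟨v, rfl⟩ := S.mkQ_surjective x
    have : v ∈ T.comap S.mkQ := htop ▸ Submodule.mem_top
    exact this

end Groth.Agent.S19043
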