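import Groth.Statements.S19044
import Groth.Agent.Lib.Helper27.ASD4
open Groth.Agent.Lib.Helper27

set_option autoImplicit false
universe u v w
open FunFld

namespace Groth.Agent.S19044

/-- Let `k` be algebraically closed of characteristic `2` and `K = k(x, y)` with `y² + y = f(x)`, `K`
separable of degree `2` over `k(x)`; let `B ⊆ k` be a finite set containing `0` such that `f` has a
pole of odd order `d_α` at `x = α` for every `α ∈ B` and is integral at all other places of `k(x)`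
(so also at infinity), and put `c_α = (d_α - 1)/2`. Then the differentials `z dx` with `z = (x -
α)^{-(j+1)}` (`α ∈ B`, `1 ≤ j ≤ c_α`) and `z = α/(x(x-α))` (`α ∈ B`, `α ≠ 0`) are regular, this
family of `z` is linearly independent over `k`, and every `z` with `z dx` regular is a `k`-linear
combination of them; regularity is read through Laurent expansions over `k` at every place of `K`.
(Up to sign these are the forms `x_α^{j-1} dx_α` and `x_α^{-1} dx_α - x_0^{-1} dx_0` with `x_α = (x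
- α)^{-1}`.) -/
theorem result (k : Type u) (K : Type v)
    [Field k] [IsAlgClosed k] [CharP k 2] [Field K] [Algebra k K] [Algebra (RatFunc k) K] [IsScalarTower k (RatFunc k) K]
    (hK : FunFld.IsFunctionField k K) (hdeg : Module.finrank (RatFunc k) K = 2) [Algebra.IsSeparable (RatFunc k) K]
    (y : K) (hy : y ∉ Set.range (algebraMap (RatFunc k) K)) (f : RatFunc k)
    (heq : y ^ 2 + y = algebraMap (RatFunc k) K f)
    (B : Finset k) (h0 : (0 : k) ∈ B) (d : k → ℕ) (hd : ∀ α ∈ B, Odd (d α))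
    (hpole : ∀ (p : FunFld.Place k (RatFunc k)) (α : k), α ∈ B →
      p.1 ((RatFunc.X : RatFunc k) - RatFunc.C α) < 1 → p.ord f = -(d α : ℤ))
    (hint : ∀ p : FunFld.Place k (RatFunc k), (∀ α ∈ B, 1 ≤ p.1 ((RatFunc.X : RatFunc k) - RatFunc.C α)) → p.1 f ≤ 1)
    (F : FunFld.Place k K → Type w) [∀ P, Field (F P)] [∀ P, Algebra k (F P)] [∀ P, FiniteDimensional k (F P)]
    (φ : ∀ P, K →ₐ[k] LaurentSeries (F P)) (hφ : ∀ P, LocRes.IsExpansionAt P.1 (φ P)) :
    (∀ i P, LocRes.vDiff (φ P) ((Sum.elim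
        (fun a : {a : ↥B × ℕ // 1 ≤ a.2 ∧ 2 * a.2 + 1 ≤ d (a.1 : k)} => algebraMap (RatFunc k) K (((RatFunc.X : RatFunc k) - RatFunc.C (a.1.1 : k))⁻¹ ^ (a.1.2 + 1)))
        (fun b : {b : ↥B // (b : k) ≠ 0} => algebraMap (RatFunc k) K (RatFunc.C (b.1 : k) / ((RatFunc.X : RatFunc k) * ((RatFunc.X : RatFunc k) - RatFunc.C (b.1 : k)))))) i) (algebraMap (RatFunc k) K RatFunc.X) ≤ 1) ∧
    LinearIndependent k (Sum.elim
        (fun a : {a : ↥B × ℕ // 1 ≤ a.2 ∧ 2 * a.2 + 1 ≤ d (a.1 : k)} => algebraMap (RatFunc k) K (((RatFunc.X : RatFunc k) - RatFunc.C (a.1.1 : k))⁻¹ ^ (a.1.2 + 1)))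
        (fun b : {b : ↥B // (b : k) ≠ 0} => algebraMap (RatFunc k) K (RatFunc.C (b.1 : k) / ((RatFunc.X : RatFunc k) * ((RatFunc.X : RatFunc k) - RatFunc.C (b.1 : k)))))) ∧
    ∀ z : K, (∀ P, LocRes.vDiff (φ P) z (algebraMap (RatFunc k) K RatFunc.X) ≤ 1) →
      z ∈ Submodule.span k (Set.range (Sum.elim
        (fun a : {a : ↥B × ℕ // 1 ≤ a.2 ∧ 2 * a.2 + 1 ≤ d (a.1 : k)} => algebraMap (RatFunc k) K (((RatFunc.X : RatFunc k) - RatFunc.C (a.1.1 : k))⁻¹ ^ (a.1.2 + 1)))
        (fun b : {b : ↥B // (b : k) ≠ 0} => algebraMap (RatFunc k) K (RatFunc.C (b.1 : k) / ((RatFunc.X : RatFunc k) * ((RatFunc.X : RatFunc k) - RatFunc.C (b.1 : k))))))) := by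
  classical
  have h2k : (2 : k) = 0 := CharTwo.two_eq_zero
  obtain ⟨pinf, hpinf⟩ := Hyper.exists_inf (k := k)
  have hfinf : pinf.1 f ≤ 1 := ASD.val_f_inf_le_one pinf hint hpinf
  obtain ⟨W, hcan, hLW, hgen, hreg⟩ := ASD.as_core k K hK hdeg h2k y hy f heq
    (fun p => ASD.odd_of p hd hpole hint) (ASD.qB B d) (ASD.qB_ne_zero B d)
    (fun p hX => ASD.hq_of p hd hpole hint hX) F φ hφ pinf hpinf 0
    (by rw [if_neg (not_lt.mpr hfinf)])
  have C := FF.core_of hK
  have hell := C.ell_canonical hcan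
  haveI : FiniteDimensional k (FunFld.L W) := C.finDimL W
  suffices H : ∀ fm : ASD.Idx B d → K,
      fm = (fun i => algebraMap (RatFunc k) K (ASD.fam B d i)) →
      (∀ i P, LocRes.vDiff (φ P) (fm i) (algebraMap (RatFunc k) K RatFunc.X) ≤ 1) ∧
      LinearIndependent k fm ∧
      ∀ z : K, (∀ P, LocRes.vDiff (φ P) z (algebraMap (RatFunc k) K RatFunc.X) ≤ 1) →
        z ∈ Submodule.span k (Set.range fm) from
    H _ (by funext i; rcases i with a | b <;> rfl)
  intro fm hfm
  subst hfm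
  have part1 : ∀ i P, LocRes.vDiff (φ P) (algebraMap (RatFunc k) K (ASD.fam B d i))
      (algebraMap (RatFunc k) K RatFunc.X) ≤ 1 := by
    intro i
    exact hreg (ASD.fam B d i) (fun p hX => ASD.fam_mul_q_le_one p h0 hd hX i)
      (ASD.fam_inf_le pinf hpinf i)
  have hli : LinearIndependent k (fun i => algebraMap (RatFunc k) K (ASD.fam B d i)) := by
    have := (ASD.fam_linearIndependent B d).map'
      ((Algebra.linearMap (RatFunc k) K).restrictScalars k)
      (LinearMap.ker_eq_bot.mpr (algebraMap (RatFunc k) K).injective)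
    exact this
  refine ⟨part1, hli, ?_⟩
  intro z hz
  have hzL : z ∈ FunFld.L W := (hLW z).mpr hz
  let z' : ASD.Idx B d → FunFld.L W :=
    fun i => ⟨algebraMap (RatFunc k) K (ASD.fam B d i), (hLW _).mpr (part1 i)⟩
  have hli' : LinearIndependent k z' := LinearIndependent.of_comp (FunFld.L W).subtype hli
  have hgN : FunFld.genus k K = (ASD.qB B d).natDegree - 1 := by omega
  have hcard : Fintype.card (ASD.Idx B d) = Module.finrank k (FunFld.L W) := by
    rw [Fintype.card_eq_nat_card, ASD.card_idx h0 hd, ← hgN]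
    exact hell.symm
  have hspan := hli'.span_eq_top_of_card_eq_finrank' hcard
  have hmem : (⟨z, hzL⟩ : FunFld.L W) ∈ Submodule.span k (Set.range z') := by
    rw [hspan]
    exact Submodule.mem_top
  have h3 := Submodule.mem_map_of_mem (f := (FunFld.L W).subtype) hmem
  rw [Submodule.map_span, ← Set.range_comp] at h3
  exact h3

end Groth.Agent.S19044
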