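import Groth.Statements.S19045
import Groth.Agent.Lib.Helper27.ASD5
open Groth.Agent.Lib.Helper27

set_option autoImplicit false
universe u v
open FunFld

namespace Groth.Agent.S19045

/-- Let `k` be algebraically closed of characteristic `2` and `K = k(x, y)` with `y² + y = f(x)`, `K`
separable of degree `2` over `k(x)`; let `B ⊆ k` be a finite set containing `0` such that `f` has a
pole of odd order `d_β` at `x = β` for every `β ∈ B` and is integral at all other places of `k(x)`.
Then `y` is integral at the places of `K` above `x = ∞` and has order `0` at one of them, and for `α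
∈ B` and `j ∈ ℤ` the divisor of poles of `y (x - α)^j` consists of: order `max(d_α - 2j, 0)` at the
place above `α`, order exactly `d_β` above every other `β ∈ B`, order `max(j - ord_P y, 0)` at each
place `P` above `∞`, and nothing elsewhere. -/
theorem result (k : Type u) (K : Type v)
    [Field k] [IsAlgClosed k] [CharP k 2] [Field K] [Algebra k K] [Algebra (RatFunc k) K] [IsScalarTower k (RatFunc k) K]
    (hK : FunFld.IsFunctionField k K) (hdeg : Module.finrank (RatFunc k) K = 2) [Algebra.IsSeparable (RatFunc k) K]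
    (y : K) (hy : y ∉ Set.range (algebraMap (RatFunc k) K)) (f : RatFunc k)
    (heq : y ^ 2 + y = algebraMap (RatFunc k) K f)
    (B : Finset k) (h0 : (0 : k) ∈ B) (d : k → ℕ) (hd : ∀ β ∈ B, Odd (d β))
    (hpole : ∀ (p : FunFld.Place k (RatFunc k)) (β : k), β ∈ B →
      p.1 ((RatFunc.X : RatFunc k) - RatFunc.C β) < 1 → p.ord f = -(d β : ℤ))
    (hint : ∀ p : FunFld.Place k (RatFunc k), (∀ β ∈ B, 1 ≤ p.1 ((RatFunc.X : RatFunc k) - RatFunc.C β)) → p.1 f ≤ 1) :
    (∀ P : FunFld.Place k K, 1 < P.1 (algebraMap (RatFunc k) K RatFunc.X) → 0 ≤ P.ord y) ∧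
    (∃ P : FunFld.Place k K, 1 < P.1 (algebraMap (RatFunc k) K RatFunc.X) ∧ P.ord y = 0) ∧
    ∀ (α : k), α ∈ B → ∀ (j : ℤ) (P : FunFld.Place k K),
      (P.1 ((algebraMap (RatFunc k) K RatFunc.X) - (algebraMap k K α)) < 1 →
        max (-(P.ord (y * ((algebraMap (RatFunc k) K RatFunc.X) - (algebraMap k K α)) ^ j))) 0 = max ((d α : ℤ) - 2 * j) 0) ∧
      (∀ β : k, β ∈ B → β ≠ α → P.1 ((algebraMap (RatFunc k) K RatFunc.X) - (algebraMap k K β)) < 1 →
        P.ord (y * ((algebraMap (RatFunc k) K RatFunc.X) - (algebraMap k K α)) ^ j) = -(d β : ℤ)) ∧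
      (1 < P.1 (algebraMap (RatFunc k) K RatFunc.X) → max (-(P.ord (y * ((algebraMap (RatFunc k) K RatFunc.X) - (algebraMap k K α)) ^ j))) 0 = max (j - P.ord y) 0) ∧
      (P.1 (algebraMap (RatFunc k) K RatFunc.X) ≤ 1 → (∀ β : k, β ∈ B → 1 ≤ P.1 ((algebraMap (RatFunc k) K RatFunc.X) - (algebraMap k K β))) → 0 ≤ P.ord (y * ((algebraMap (RatFunc k) K RatFunc.X) - (algebraMap k K α)) ^ j)) := by
  classical
  have h2k : (2 : k) = 0 := CharTwo.two_eq_zero
  have h2K : (2 : K) = 0 := by
    have := congrArg (algebraMap k K) h2k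
    rwa [map_ofNat, map_zero] at this
  haveI : FiniteDimensional (RatFunc k) K := Module.finite_of_finrank_pos (by omega)
  have hK₀ := Rat.isFunctionField_ratFunc k
  have hy0 : y ≠ 0 := by
    rintro rfl
    exact hy ⟨0, map_zero _⟩
  have hover : ∀ P : FunFld.Place k K,
      ∃ (p : FunFld.Place k (RatFunc k)) (e : ℕ), FunFld.IsOverWith P p e :=
    fun P => FF.exists_isOverWith hK₀ P
  have hinfP : ∀ {P : FunFld.Place k K} {p : FunFld.Place k (RatFunc k)} {e : ℕ},
      FunFld.IsOverWith P p e → 1 < P.1 (algebraMap (RatFunc k) K RatFunc.X) →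
      1 < p.1 (RatFunc.X : RatFunc k) := by
    intro P p e he h
    by_contra hcon
    rw [not_lt] at hcon
    exact absurd h (not_lt.mpr ((FF.isOverWith_val_le_one_iff he _).mpr hcon))
  refine ⟨?_, ?_, ?_⟩
  · intro P hP
    obtain ⟨p, e, he⟩ := hover P
    obtain ⟨-, hy1, -⟩ := ASD.at_inf h2k hdeg hy heq hd hpole hint he (hinfP he hP)
    exact (FF.val_le_one_iff P hy0).mp hy1
  · have htr : Transcendental k (algebraMap (RatFunc k) K RatFunc.X) :=
      (transcendental_algebraMap_iff (algebraMap (RatFunc k) K).injective).mpr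
        RatFunc.transcendental_X
    obtain ⟨P₀, hP₀⟩ := FF.exists_place_one_lt_val hK htr
    obtain ⟨p, e, he⟩ := hover P₀
    obtain ⟨-, hy1, -⟩ := ASD.at_inf h2k hdeg hy heq hd hpole hint he (hinfP he hP₀)
    rcases hy1.lt_or_eq with hlt | heq1
    · obtain ⟨σ, hσ⟩ := ASD.exists_conj_as hdeg h2K hy heq
      refine ⟨FF.actP σ P₀, ?_, ?_⟩
      · rw [FF.actP_apply, σ.commutes]
        exact hP₀
      · have h5 : P₀.1 (y + 1) = 1 := by
          rw [Valuation.map_add_eq_of_lt_right, map_one]
          rw [map_one]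
          exact hlt
        unfold FunFld.Place.ord
        rw [FF.actP_apply, hσ, h5, WithZero.log_one, neg_zero]
    · exact ⟨P₀, hP₀, by unfold FunFld.Place.ord; rw [heq1, WithZero.log_one, neg_zero]⟩
  · intro α hα j P
    obtain ⟨p, e, he⟩ := hover P
    have hu0 := ASD.x_sub_ne_zero (K := K) α
    have hord := ASD.ord_mul_zpow P hy0 hu0 j
    refine ⟨?_, ?_, ?_, ?_⟩
    · intro h
      have hp : p.1 (RatFunc.X - RatFunc.C α) < 1 := by
        rw [ASD.x_sub_eq] at h
        exact (FF.isOverWith_val_lt_one_iff he _).mp h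
      obtain ⟨-, hoy, hou⟩ := ASD.at_pole h2k hdeg hy heq hd hpole hint he hα hp
      rw [hord, hoy, hou]
      congr 1
      ring
    · intro β hβ hne h
      have hp : p.1 (RatFunc.X - RatFunc.C β) < 1 := by
        rw [ASD.x_sub_eq] at h
        exact (FF.isOverWith_val_lt_one_iff he _).mp h
      obtain ⟨-, hoy, -⟩ := ASD.at_pole h2k hdeg hy heq hd hpole hint he hβ hp
      have hu1 : P.1 (algebraMap (RatFunc k) K RatFunc.X - algebraMap k K α) = 1 := by
        rw [ASD.val_x_sub he, ASD.val_XC_of_ne p hp hne.symm, one_pow]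
      rw [hord, hoy, ASD.ord_of_val P (n := 0) (by rw [hu1, WithZero.exp_zero]), neg_zero,
        mul_zero, add_zero]
    · intro h
      obtain ⟨-, -, hou⟩ := ASD.at_inf h2k hdeg hy heq hd hpole hint he (hinfP he h)
      rw [hord, hou α]
      congr 1
      ring
    · intro hfin hall
      have hpX : p.1 (RatFunc.X : RatFunc k) ≤ 1 := (FF.isOverWith_val_le_one_iff he _).mp hfin
      have hall' : ∀ β ∈ B, 1 ≤ p.1 ((RatFunc.X : RatFunc k) - RatFunc.C β) := by
        intro β hβ
        by_contra hcon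
        rw [not_le] at hcon
        have := (FF.isOverWith_val_lt_one_iff he _).mpr hcon
        rw [← ASD.x_sub_eq] at this
        exact absurd (hall β hβ) (not_le.mpr this)
      obtain ⟨hy1, hu1⟩ := ASD.at_other heq hint he hpX hall'
      have hou : P.ord (algebraMap (RatFunc k) K RatFunc.X - algebraMap k K α) = 0 := by
        rw [ASD.ord_of_val P (n := 0) (by rw [hu1 α hα, WithZero.exp_zero]), neg_zero]
      rw [hord, hou, mul_zero, add_zero]
      exact (FF.val_le_one_iff P hy0).mp hy1

end Groth.Agent.S19045
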