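import Groth.Statements.S19046
import Groth.Agent.Lib.Helper27.ASD6
import Groth.Agent.Lib.Helper23.WD3
open Groth.Agent.Lib.Helper27

set_option autoImplicit false
universe u v
open Classical
open FunFld

namespace Groth.Agent.S19046

/-- Let `k` be algebraically closed of characteristic `2`, `K = k(x, y)` with `y² + y = f(x)` separable
of degree `2` over `k(x)`, `B ⊆ k` a finite set containing `0` with `f` having a pole of odd order
`d_β` at `x = β` for `β ∈ B` and integral elsewhere, `c_β = (d_β - 1)/2`, and `P_β` a place of `K`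
above `x = β`. Identify `H¹(X, O)` of the smooth projective model with the repartitions (adeles with
components in `K`) modulo `W = A(0) + K` (everywhere-integral repartitions plus constants), a Čech
class with defining component `h` at `β` corresponding to the repartition with component `h` at
`P_β` and `0` elsewhere. Then the repartitions supported at `P_α` with value `y (x - α)^j` (`α ∈ B`,
`1 ≤ j ≤ c_α`) and with value `y` (`α ∈ B`, `α ≠ 0`) are adeles whose classes modulo `W` are
linearly independent over `k` and, together with `W`, span the adeles: they give a basis of `H¹(X,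
O)`. -/
theorem result (k : Type u) (K : Type v)
    [Field k] [IsAlgClosed k] [CharP k 2] [Field K] [Algebra k K] [Algebra (RatFunc k) K] [IsScalarTower k (RatFunc k) K]
    (hK : FunFld.IsFunctionField k K) (hdeg : Module.finrank (RatFunc k) K = 2) [Algebra.IsSeparable (RatFunc k) K]
    (y : K) (hy : y ∉ Set.range (algebraMap (RatFunc k) K)) (f : RatFunc k)
    (heq : y ^ 2 + y = algebraMap (RatFunc k) K f)
    (B : Finset k) (h0 : (0 : k) ∈ B) (d : k → ℕ) (hd : ∀ β ∈ B, Odd (d β))
    (hpole : ∀ (p : FunFld.Place k (RatFunc k)) (β : k), β ∈ B →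
      p.1 ((RatFunc.X : RatFunc k) - RatFunc.C β) < 1 → p.ord f = -(d β : ℤ))
    (hint : ∀ p : FunFld.Place k (RatFunc k), (∀ β ∈ B, 1 ≤ p.1 ((RatFunc.X : RatFunc k) - RatFunc.C β)) → p.1 f ≤ 1)
    (Pl : k → FunFld.Place k K) (hPl : ∀ β ∈ B, (Pl β).1 ((algebraMap (RatFunc k) K RatFunc.X) - (algebraMap k K β)) < 1) :
    (∀ i, (Sum.elim
        (fun a : {a : ↥B × ℕ // 1 ≤ a.2 ∧ 2 * a.2 + 1 ≤ d (a.1 : k)} =>
          (Pi.single (Pl (a.1.1 : k)) (y * ((algebraMap (RatFunc k) K RatFunc.X) - (algebraMap k K (a.1.1 : k))) ^ a.1.2) : FunFld.Place k K → K))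
        (fun b : {b : ↥B // (b : k) ≠ 0} => (Pi.single (Pl (b.1 : k)) y : FunFld.Place k K → K))) i ∈ FunFld.adele k K) ∧
    LinearIndependent k (fun i => Submodule.mkQ (FunFld.AD (0 : FunFld.Divisor k K) ⊔ LinearMap.range (FunFld.diag k K)) ((Sum.elim
        (fun a : {a : ↥B × ℕ // 1 ≤ a.2 ∧ 2 * a.2 + 1 ≤ d (a.1 : k)} =>
          (Pi.single (Pl (a.1.1 : k)) (y * ((algebraMap (RatFunc k) K RatFunc.X) - (algebraMap k K (a.1.1 : k))) ^ a.1.2) : FunFld.Place k K → K))
        (fun b : {b : ↥B // (b : k) ≠ 0} => (Pi.single (Pl (b.1 : k)) y : FunFld.Place k K → K))) i)) ∧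
    ∀ a : FunFld.Place k K → K, a ∈ FunFld.adele k K →
      a ∈ (FunFld.AD (0 : FunFld.Divisor k K) ⊔ LinearMap.range (FunFld.diag k K)) ⊔ Submodule.span k (Set.range (Sum.elim
        (fun a : {a : ↥B × ℕ // 1 ≤ a.2 ∧ 2 * a.2 + 1 ≤ d (a.1 : k)} =>
          (Pi.single (Pl (a.1.1 : k)) (y * ((algebraMap (RatFunc k) K RatFunc.X) - (algebraMap k K (a.1.1 : k))) ^ a.1.2) : FunFld.Place k K → K))
        (fun b : {b : ↥B // (b : k) ≠ 0} => (Pi.single (Pl (b.1 : k)) y : FunFld.Place k K → K)))) := by
  classical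
  obtain ⟨Φ, hΦ⟩ := Groth.Agent.Lib.Helper23.WD.exists_expansions hK
  have C := FF.core_of hK
  have KEY := ASD.key_indep k K hK hdeg y hy f heq B h0 d hd hpole hint Pl hPl Φ hΦ
  have hgcard := ASD.card_eq_genus k K hK hdeg y hy f heq B h0 d hd hpole hint Φ hΦ
  suffices H : ∀ fm : ASD.Idx B d → (FunFld.Place k K → K),
      fm = (fun i => ((ASD.repA Pl y i : FunFld.adele k K) : FunFld.Place k K → K)) →
      (∀ i, fm i ∈ FunFld.adele k K) ∧
      LinearIndependent k (fun i => Submodule.mkQ
        (FunFld.AD (0 : FunFld.Divisor k K) ⊔ LinearMap.range (FunFld.diag k K)) (fm i)) ∧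
      ∀ a : FunFld.Place k K → K, a ∈ FunFld.adele k K →
        a ∈ (FunFld.AD (0 : FunFld.Divisor k K) ⊔ LinearMap.range (FunFld.diag k K)) ⊔
          Submodule.span k (Set.range fm) from
    H _ (by funext i; rcases i with a | b <;> rfl)
  intro fm hfm
  subst hfm
  refine ⟨fun i => (ASD.repA Pl y i).2, ?_, ?_⟩
  · rw [linearIndependent_iff']
    intro s g hsum
    apply KEY s g
    have h1 : (FunFld.AD (0 : FunFld.Divisor k K) ⊔ LinearMap.range (FunFld.diag k K)).mkQ
        (∑ i ∈ s, g i • ((ASD.repA Pl y i : FunFld.adele k K) : FunFld.Place k K → K)) = 0 := by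
      rw [map_sum]
      simpa only [map_smul] using hsum
    exact (Submodule.Quotient.mk_eq_zero _).mp h1
  · intro a ha
    obtain ⟨hfd, hfr⟩ := C.finrank_adele_quotient (0 : FunFld.Divisor k K)
    haveI := hfd
    have hfr' : Module.finrank k (↥(FunFld.adele k K) ⧸ FunFld.ADK (0 : FunFld.Divisor k K)) =
        FunFld.genus k K := by
      rw [FF.deg_zero, C.ell_zero] at hfr
      have h5 : ((Module.finrank k
          (↥(FunFld.adele k K) ⧸ FunFld.ADK (0 : FunFld.Divisor k K)) : ℕ) : ℤ) =
          (FunFld.genus k K : ℤ) := by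
        rw [hfr]
        norm_num
      exact_mod_cast h5
    have hcls : LinearIndependent k
        (fun i : ASD.Idx B d => (FunFld.ADK (0 : FunFld.Divisor k K)).mkQ (ASD.repA Pl y i)) := by
      rw [linearIndependent_iff']
      intro s g hsum
      apply KEY s g
      have h1 : (FunFld.ADK (0 : FunFld.Divisor k K)).mkQ (∑ i ∈ s, g i • ASD.repA Pl y i) = 0 := by
        rw [map_sum]
        simpa only [map_smul] using hsum
      have h2 := (Submodule.Quotient.mk_eq_zero _).mp h1
      have h3 : (FunFld.adele k K).subtype (∑ i ∈ s, g i • ASD.repA Pl y i) ∈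
          FunFld.AD (0 : FunFld.Divisor k K) ⊔ LinearMap.range (FunFld.diag k K) := h2
      rw [map_sum] at h3
      simpa only [map_smul, Submodule.subtype_apply] using h3
    have hspan := hcls.span_eq_top_of_card_eq_finrank'
      (by rw [hfr', Fintype.card_eq_nat_card]; exact hgcard)
    have hmem : (FunFld.ADK (0 : FunFld.Divisor k K)).mkQ ⟨a, ha⟩ ∈ Submodule.span k
        (Set.range fun i : ASD.Idx B d =>
          (FunFld.ADK (0 : FunFld.Divisor k K)).mkQ (ASD.repA Pl y i)) := by
      rw [hspan]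
      exact Submodule.mem_top
    obtain ⟨c, hc⟩ := (Submodule.mem_span_range_iff_exists_fun k).mp hmem
    have h1 : (FunFld.ADK (0 : FunFld.Divisor k K)).mkQ
        (⟨a, ha⟩ - ∑ i, c i • ASD.repA Pl y i) = 0 := by
      rw [map_sub, ← hc, map_sum]
      simp only [map_smul]
      exact sub_self _
    have h2 := (Submodule.Quotient.mk_eq_zero _).mp h1
    have h3 : (FunFld.adele k K).subtype (⟨a, ha⟩ - ∑ i, c i • ASD.repA Pl y i) ∈
        FunFld.AD (0 : FunFld.Divisor k K) ⊔ LinearMap.range (FunFld.diag k K) := h2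
    rw [map_sub, map_sum] at h3
    simp only [map_smul, Submodule.subtype_apply] at h3
    have h4 : ∑ i, c i • ((ASD.repA Pl y i : FunFld.adele k K) : FunFld.Place k K → K) ∈
        Submodule.span k (Set.range fun i =>
          ((ASD.repA Pl y i : FunFld.adele k K) : FunFld.Place k K → K)) :=
      Submodule.sum_mem _ (fun i _ => Submodule.smul_mem _ _ (Submodule.subset_span ⟨i, rfl⟩))
    have h5 := Submodule.add_mem_sup h3 h4
    rwa [sub_add_cancel] at h5

end Groth.Agent.S19046
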