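import Groth.Statements.S19047
import Groth.Agent.Lib.Helper27.ASD7
open Groth.Agent.Lib.Helper27

set_option autoImplicit false
universe u v
open Classical
open FunFld

namespace Groth.Agent.S19047

/-- Let `k` be algebraically closed of characteristic `2`, `K = k(x, y)` with `y² + y = f(x)` separable
of degree `2` over `k(x)`, `B ⊆ k` a finite set containing `0` with `f` having a pole of odd order
`d_β` at `x = β` for `β ∈ B` and integral elsewhere, `c_β = (d_β - 1)/2`, and `P_β` a place of `K`
above `x = β`. With `H¹(X, O)` of the smooth projective model written as repartitions modulo `W =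
A(0) + K` (everywhere-integral repartitions plus constants) and its Frobenius induced by
componentwise squaring, for `α ∈ B` and `j ≥ 0`: the Frobenius of the class of the repartition
supported at `P_α` with value `y (x - α)^j` is the class of the one with value `y (x - α)^{2j}` when
`2j ≤ c_α`, and is `0` when `2j > c_α`. -/
theorem result (k : Type u) (K : Type v)
    [Field k] [IsAlgClosed k] [CharP k 2] [Field K] [Algebra k K] [Algebra (RatFunc k) K] [IsScalarTower k (RatFunc k) K]
    (hK : FunFld.IsFunctionField k K) (hdeg : Module.finrank (RatFunc k) K = 2) [Algebra.IsSeparable (RatFunc k) K]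
    (y : K) (hy : y ∉ Set.range (algebraMap (RatFunc k) K)) (f : RatFunc k)
    (heq : y ^ 2 + y = algebraMap (RatFunc k) K f)
    (B : Finset k) (h0 : (0 : k) ∈ B) (d : k → ℕ) (hd : ∀ β ∈ B, Odd (d β))
    (hpole : ∀ (p : FunFld.Place k (RatFunc k)) (β : k), β ∈ B →
      p.1 ((RatFunc.X : RatFunc k) - RatFunc.C β) < 1 → p.ord f = -(d β : ℤ))
    (hint : ∀ p : FunFld.Place k (RatFunc k), (∀ β ∈ B, 1 ≤ p.1 ((RatFunc.X : RatFunc k) - RatFunc.C β)) → p.1 f ≤ 1)
    (Pl : k → FunFld.Place k K) (hPl : ∀ β ∈ B, (Pl β).1 ((algebraMap (RatFunc k) K RatFunc.X) - (algebraMap k K β)) < 1)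
    (α : k) (hα : α ∈ B) (j : ℕ) :
    (4 * j + 1 ≤ d α → (Pi.single (Pl α) ((y * ((algebraMap (RatFunc k) K RatFunc.X) - (algebraMap k K α)) ^ j) ^ 2) : FunFld.Place k K → K) - (Pi.single (Pl α) (y * ((algebraMap (RatFunc k) K RatFunc.X) - (algebraMap k K α)) ^ (2 * j)) : FunFld.Place k K → K) ∈ (FunFld.AD (0 : FunFld.Divisor k K) ⊔ LinearMap.range (FunFld.diag k K))) ∧
    (d α < 4 * j + 1 → (Pi.single (Pl α) ((y * ((algebraMap (RatFunc k) K RatFunc.X) - (algebraMap k K α)) ^ j) ^ 2) : FunFld.Place k K → K) ∈ (FunFld.AD (0 : FunFld.Divisor k K) ⊔ LinearMap.range (FunFld.diag k K))) := by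
  have h2k : (2 : k) = 0 := CharTwo.two_eq_zero
  have h2K : (2 : K) = 0 := by
    have := congrArg (algebraMap k K) h2k
    rwa [map_ofNat, map_zero] at this
  haveI : FiniteDimensional (RatFunc k) K := Module.finite_of_finrank_pos (by omega)
  have hK₀ := Rat.isFunctionField_ratFunc k
  obtain ⟨u, hu⟩ : ∃ u : K, u = algebraMap (RatFunc k) K RatFunc.X - algebraMap k K α := ⟨_, rfl⟩
  rw [← hu]
  have hPu : (Pl α).1 u < 1 := by rw [hu]; exact hPl α hα
  have hL : ∀ r : RatFunc k, (Pi.single (Pl α) (algebraMap (RatFunc k) K r) : FunFld.Place k K → K) ∈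
      FunFld.AD (0 : FunFld.Divisor k K) ⊔ LinearMap.range (FunFld.diag k K) :=
    fun r => ASD.single_mem h2k hK hdeg hy heq hd hpole hint hα (by rw [← hu]; exact hPu) r
  have hid : (y * u ^ j) ^ 2 - y * u ^ (2 * j) =
      algebraMap (RatFunc k) K (f * (RatFunc.X - RatFunc.C α) ^ (2 * j)) := by
    rw [map_mul, map_pow, ← ASD.x_sub_eq, ← hu, ← heq]
    linear_combination (-(y * u ^ (2 * j))) * h2K
  refine ⟨fun _ => ?_, fun hlt => ?_⟩
  · rw [← Pi.single_sub, hid]
    exact hL _
  · have hsq : (y * u ^ j) ^ 2 = y * u ^ (2 * j) +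
        algebraMap (RatFunc k) K (f * (RatFunc.X - RatFunc.C α) ^ (2 * j)) := by
      rw [← hid]
      ring
    rw [hsq, Pi.single_add]
    refine Submodule.add_mem _ (Submodule.mem_sup_left ?_) (hL _)
    intro Q
    rw [Finsupp.zero_apply, WithZero.exp_zero]
    by_cases hQ : Q = Pl α
    · subst hQ
      rw [Pi.single_eq_same]
      obtain ⟨p, e, he⟩ := FF.exists_isOverWith hK₀ (Pl α)
      have hp : p.1 (RatFunc.X - RatFunc.C α) < 1 := by
        rw [hu, ASD.x_sub_eq] at hPu
        exact (FF.isOverWith_val_lt_one_iff he _).mp hPu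
      obtain ⟨-, hoy, hou⟩ := ASD.at_pole h2k hdeg hy heq hd hpole hint he hα hp
      have hy0 : y ≠ 0 := by
        rintro rfl
        exact hy ⟨0, map_zero _⟩
      have hu0 : u ≠ 0 := by rw [hu]; exact ASD.x_sub_ne_zero α
      rw [← hu] at hou
      rw [map_mul, map_pow, FF.val_eq_exp_neg_ord _ hy0, FF.val_eq_exp_neg_ord _ hu0, hoy, hou,
        ← WithZero.exp_nsmul, ← WithZero.exp_add, ← WithZero.exp_zero, WithZero.exp_le_exp]
      simp only [nsmul_eq_mul]
      push_cast
      omega
    · rw [Pi.single_eq_of_ne hQ, map_zero]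
      exact zero_le_one

end Groth.Agent.S19047
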