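import Groth.Statements.S1907
import Groth.Agent.S6478
import Groth.Agent.Lib.Lead.CycPullGeo

set_option autoImplicit false
universe u
open CategoryTheory AlgebraicGeometry
open Cyc

namespace Groth.Agent.S1907

open Groth.Agent.Lib.Lead.CycPull
open Groth.Agent.Lib.Helper23.CycLib

/-- Let Y be integral with δY(η_Y) = k, f : X → Y flat, locally of finite type, of relative dimension r,
and g a nonzero rational function on Y. Then f^*(div_Y g) = Σ_j n_j · div_{X_j}(g|_{X_j}) as (k + r
− 1)-cycles on X, the sum over the irreducible components X_j of X (generic points ξ_j, which map to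
η_Y) with n_j the length of O_{X,ξ_j}, and g|_{X_j} the image of g in κ(ξ_j). A pair (X, δ) with
Cyc.IsSetup plays the role of a scheme locally of finite type over a fixed base with a dimension
function (X locally Noetherian with universally catenary local rings, δ a dimension function), and
Cyc.DeltaCompat records that the dimension function upstairs is the induced one. -/
theorem result (X Y : Scheme.{u}) [IsIntegral Y] (δX : X → ℤ) (δY : Y → ℤ) (hX : Cyc.IsSetup X δX) (hY : Cyc.IsSetup Y δY) (f : X ⟶ Y) [Flat f] [LocallyOfFiniteType f] (r : ℕ) (hr : Cyc.HasRelDim f r) (hδ : Cyc.DeltaCompat f δX δY) (k : ℤ) (hk : δY (genericPoint Y) = k) (g : Y.residueField (genericPoint Y)) (hg : g ≠ 0) (x : X) : Cyc.pullFun f δX δY r (Cyc.divFun δY (genericPoint Y) g) x = ∑ᶠ ξ : {ξ : X // (∀ x' : X, x' ⤳ ξ → x' = ξ) ∧ f ξ = genericPoint Y}, ((Module.length (X.presheaf.stalk ξ.1) (X.presheaf.stalk ξ.1)).toNat : ℤ) * Cyc.divFun δX ξ.1 (f.residueFieldMap ξ.1 ((Y.residueFieldCongr ξ.2.2.symm).hom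 g)) x := by
  classical
  obtain ⟨hLNX, -, hdimX⟩ := hX
  obtain ⟨hLNY, -, hdimY⟩ := hY
  haveI := hLNX
  haveI := hLNY
  have hshiftAll : ∀ z : X, (∀ y, f y = f z → y ⤳ z → y = z) → δX z = δY (f z) + (r : ℤ) :=
    fun z hz => Groth.Agent.S6478.shift_of_genF X Y δX δY f r hr hδ z hz
  have hB2 := Groth.Agent.S6479.delta_le_and f x δX δY hdimX (r : ℤ) hshiftAll
  have hy : genericPoint Y ⤳ f x := genericPoint_specializes (f x)
  have hJgen : ∀ ξ : X, (∀ x' : X, x' ⤳ ξ → x' = ξ) → ∀ y, f y = f ξ → y ⤳ ξ → y = ξ :=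
    fun ξ hmax y _ hyξ => hmax y hyξ
  have hJδ : ∀ ξ : X, (∀ x' : X, x' ⤳ ξ → x' = ξ) → f ξ = genericPoint Y →
      δX ξ = k + (r : ℤ) := by
    intro ξ hmax hfξ
    rw [hshiftAll ξ (hJgen ξ hmax), hfξ, hk]
  simp only [Cyc.pullFun, Cyc.divFun]
  by_cases hA : δX x = δY (f x) + (r : ℤ)
  · rw [if_pos hA]
    by_cases hB : δY (f x) + 1 = δY (genericPoint Y)
    · have hcY : genericPoint Y ⤳ f x ∧ δY (f x) + 1 = δY (genericPoint Y) := ⟨hy, hB⟩
      rw [dif_pos hcY]
      have hne : genericPoint Y ≠ f x := by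
        intro h
        rw [← h] at hB
        omega
      have himm : ∀ z : Y, genericPoint Y ⤳ z → z ⤳ f x → z = genericPoint Y ∨ z = f x :=
        fun z h1 h2 => immediate_of_delta hdimY hB z h1 h2
      have hgen : ∀ y, f y = f x → y ⤳ x → y = x := hB2.2 hA
      have hG := pull_ord_formula f x (genericPoint Y) hy hne himm hgen g hg
      show Cyc.ordAt (f x) (genericPoint Y) hy g * mult f x = _
      rw [hG]
      symm
      let e : GIdx f x (genericPoint Y) →
          {ξ : X // (∀ x' : X, x' ⤳ ξ → x' = ξ) ∧ f ξ = genericPoint Y} :=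
        fun ξ' => ⟨ξ'.1, ⟨fun x' hx' => by
          have h1 : f x' ⤳ f ξ'.1 := f.base.hom.map_specializes hx'
          have h2 : f x' = f ξ'.1 := by
            rw [ξ'.2.2.1] at h1 ⊢
            exact (h1.antisymm (genericPoint_specializes (f x'))).eq
          exact ξ'.2.2.2 x' h2 hx', ξ'.2.2.1⟩⟩
      have he : Function.Injective e := by
        intro a b h
        exact Subtype.ext (congrArg (fun z => z.1) h)
      refine finsum_eq_of_injective_of_support e he _ _ ?_ ?_
      · intro ξ'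
        have hcX : (e ξ').1 ⤳ x ∧ δX x + 1 = δX (e ξ').1 := ⟨ξ'.2.1, by
          have h3 : δX ξ'.1 = k + (r : ℤ) := hJδ ξ'.1 (e ξ').2.1 ξ'.2.2.1
          show δX x + 1 = δX ξ'.1
          omega⟩
        rw [dif_pos hcX, mult_of_generic f ξ'.1 ξ'.2.2.1]
      · intro ξ hξ
        rw [dif_neg, mul_zero]
        rintro ⟨h1, -⟩
        exact hξ ⟨(⟨ξ.1, h1, ξ.2.2, hJgen ξ.1 ξ.2.1⟩ : GIdx f x (genericPoint Y)), rfl⟩
    · rw [dif_neg (fun h => hB h.2), zero_mul]
      symm
      apply finsum_eq_zero_of_forall_eq_zero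
      intro ξ
      rw [dif_neg, mul_zero]
      rintro ⟨-, h2⟩
      have h3 := hJδ ξ.1 ξ.2.1 ξ.2.2
      omega
  · rw [if_neg hA]
    symm
    apply finsum_eq_zero_of_forall_eq_zero
    intro ξ
    by_cases hcX : ξ.1 ⤳ x ∧ δX x + 1 = δX ξ.1
    · rw [dif_pos hcX]
      have hδξ := hJδ ξ.1 ξ.2.1 ξ.2.2
      have hc2 := hcX.2
      have hle := hB2.1
      have hfx : f x = genericPoint Y := by
        by_contra hne
        have := (hdimY (genericPoint Y) (f x) hy (fun h => hne h.symm)).1
        omega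
      have hzero := ordAt_pull_eq_zero_of_eq f x ξ.1 hcX.1 (hfx.trans ξ.2.2.symm)
        ((Y.residueFieldCongr ξ.2.2.symm).hom g) (residueFieldCongr_ne_zero _ g hg)
      exact mul_eq_zero_of_right _ hzero
    · rw [dif_neg hcX, mul_zero]

end Groth.Agent.S1907
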