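import Groth.Statements.S19092
import Mathlib

set_option autoImplicit false
universe u
open FrobAlg

namespace Groth.Agent.S19092

/-- Let p be a prime and A a commutative ring of characteristic p whose absolute Frobenius a ↦ a^p is a
finite ring homomorphism. Then the same holds for every quotient and every localization of A: for
every ideal I of A such that A ⧸ I has characteristic p (every proper ideal) the absolute Frobenius
of A ⧸ I is finite, and for every submonoid S of A and every localization B of A at S of
characteristic p (every nonzero localization) the absolute Frobenius of B is finite. -/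
theorem result (p : ℕ) [Fact p.Prime]
    (A : Type u) [CommRing A] [CharP A p] (hF : (frobenius A p).Finite) :
    (∀ (I : Ideal A) [CharP (A ⧸ I) p], (frobenius (A ⧸ I) p).Finite) ∧
      ∀ (S : Submonoid A) (B : Type u) [CommRing B] [Algebra A B] [IsLocalization S B] [CharP B p],
        (frobenius B p).Finite := by
  constructor
  · intro I _
    have hcomp : (frobenius (A ⧸ I) p).comp (Ideal.Quotient.mk I) =
        (Ideal.Quotient.mk I).comp (frobenius A p) := by
      ext a
      simp [frobenius_def]
    have h1 : ((Ideal.Quotient.mk I).comp (frobenius A p)).Finite :=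
      RingHom.Finite.comp (RingHom.Finite.of_surjective _ Ideal.Quotient.mk_surjective) hF
    rw [← hcomp] at h1
    exact RingHom.Finite.of_comp_finite h1
  · intro S B _ _ _ _
    haveI hloc : IsLocalization (S.map (frobenius A p)) B := by
      rw [isLocalization_iff]
      refine ⟨?_, ?_, ?_⟩
      · rintro ⟨y, s, hs, rfl⟩
        have : (frobenius A p) s = s ^ p := frobenius_def p s
        simp only [this]
        exact IsLocalization.map_units B (⟨s ^ p, S.pow_mem hs p⟩ : S)
      · intro z
        obtain ⟨⟨a, s⟩, hz⟩ := IsLocalization.surj S z
        have hp1 : 1 ≤ p := (Fact.out : p.Prime).one_lt.le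
        refine ⟨⟨a * (s : A) ^ (p - 1), ⟨(s : A) ^ p, ⟨(s : A), s.2, frobenius_def p _⟩⟩⟩, ?_⟩
        simp only at hz ⊢
        have hpow : (s : A) ^ p = (s : A) * (s : A) ^ (p - 1) := by
          rw [← pow_succ', Nat.sub_add_cancel hp1]
        rw [hpow, map_mul, ← mul_assoc, hz, map_mul]
      · intro x y hxy
        obtain ⟨c, hc⟩ := IsLocalization.exists_of_eq (M := S) hxy
        have hp1 : 1 ≤ p := (Fact.out : p.Prime).one_lt.le
        refine ⟨⟨(c : A) ^ p, ⟨(c : A), c.2, frobenius_def p _⟩⟩, ?_⟩
        simp only
        have hpow : (c : A) ^ p = (c : A) ^ (p - 1) * (c : A) := by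
          rw [← pow_succ, Nat.sub_add_cancel hp1]
        rw [hpow, mul_assoc, mul_assoc, hc]
    have h1 := RingHom.finite_localizationPreserves (frobenius A p) S B B hF
    have heq : frobenius B p = IsLocalization.map B (frobenius A p) (Submonoid.le_comap_map S) := by
      apply IsLocalization.ringHom_ext S
      ext a
      simp [IsLocalization.map_eq, frobenius_def]
    rw [heq]
    exact h1

end Groth.Agent.S19092
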