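import Groth.Statements.S19106
import Mathlib

set_option autoImplicit false
open HilbD

namespace Groth.Agent.S19106

/-- Let μ be a non-empty Young diagram, V the number of its cells, E the number of unordered pairs of
cells sharing a side (a cell together with the cell immediately below it, or immediately to its
right, both in μ) and Q the number of 2 × 2 blocks of cells of μ (cells c such that the cell
diagonally below-right of c is in μ, the other two corners being in μ automatically). Then V − E + Q
− 1 = 0, stated as V + Q = E + 1 in the naturals. (The empty diagram, for which the count reads 0 −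
0 + 0 − 1, is excluded.) -/
theorem result (μ : YoungDiagram) (hμ : μ ≠ ⊥) :
    μ.cells.card + (μ.cells.filter (fun c => (c.1 + 1, c.2 + 1) ∈ μ)).card =
      (μ.cells.filter (fun c => (c.1 + 1, c.2) ∈ μ)).card + (μ.cells.filter (fun c => (c.1, c.2 + 1) ∈ μ)).card + 1 := by
  classical
  -- (0,0) ∈ μ
  have h00 : ((0 : ℕ), (0 : ℕ)) ∈ μ := by
    have hne : μ.cells.Nonempty := by
      rw [Finset.nonempty_iff_ne_empty]
      intro h
      apply hμ
      ext c
      rw [YoungDiagram.mem_cells] at *
      simp only [← YoungDiagram.mem_cells, h, YoungDiagram.cells_bot]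
    obtain ⟨c, hc⟩ := hne
    rw [YoungDiagram.mem_cells] at hc
    exact μ.up_left_mem (Nat.zero_le c.1) (Nat.zero_le c.2) hc
  -- the three bijections
  have hA : (μ.cells.filter (fun c => (c.1 + 1, c.2) ∈ μ)).card =
      (μ.cells.filter (fun c => 1 ≤ c.1)).card := by
    apply Finset.card_bij (fun c _ => (c.1 + 1, c.2))
    · intro c hc
      rw [Finset.mem_filter] at hc ⊢
      exact ⟨(YoungDiagram.mem_cells _).mpr hc.2, by simp⟩
    · intro c _ c' _ h
      simp only [Prod.mk.injEq, add_left_inj] at h
      exact Prod.ext h.1 h.2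
    · intro c' hc'
      rw [Finset.mem_filter] at hc'
      have hmem : c' ∈ μ := (YoungDiagram.mem_cells _).mp hc'.1
      refine ⟨(c'.1 - 1, c'.2), ?_, ?_⟩
      · rw [Finset.mem_filter]
        refine ⟨(YoungDiagram.mem_cells _).mpr (μ.up_left_mem (Nat.sub_le _ _) le_rfl hmem), ?_⟩
        have : c'.1 - 1 + 1 = c'.1 := Nat.sub_add_cancel hc'.2
        simp only [this]
        exact hmem
      · have : c'.1 - 1 + 1 = c'.1 := Nat.sub_add_cancel hc'.2
        simp only [this]
  have hB : (μ.cells.filter (fun c => (c.1, c.2 + 1) ∈ μ)).card =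
      (μ.cells.filter (fun c => 1 ≤ c.2)).card := by
    apply Finset.card_bij (fun c _ => (c.1, c.2 + 1))
    · intro c hc
      rw [Finset.mem_filter] at hc ⊢
      exact ⟨(YoungDiagram.mem_cells _).mpr hc.2, by simp⟩
    · intro c _ c' _ h
      simp only [Prod.mk.injEq, add_left_inj] at h
      exact Prod.ext h.1 h.2
    · intro c' hc'
      rw [Finset.mem_filter] at hc'
      have hmem : c' ∈ μ := (YoungDiagram.mem_cells _).mp hc'.1
      refine ⟨(c'.1, c'.2 - 1), ?_, ?_⟩
      · rw [Finset.mem_filter]
        refine ⟨(YoungDiagram.mem_cells _).mpr (μ.up_left_mem le_rfl (Nat.sub_le _ _) hmem), ?_⟩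
        have : c'.2 - 1 + 1 = c'.2 := Nat.sub_add_cancel hc'.2
        simp only [this]
        exact hmem
      · have : c'.2 - 1 + 1 = c'.2 := Nat.sub_add_cancel hc'.2
        simp only [this]
  have hQ : (μ.cells.filter (fun c => (c.1 + 1, c.2 + 1) ∈ μ)).card =
      (μ.cells.filter (fun c => 1 ≤ c.1 ∧ 1 ≤ c.2)).card := by
    apply Finset.card_bij (fun c _ => (c.1 + 1, c.2 + 1))
    · intro c hc
      rw [Finset.mem_filter] at hc ⊢
      exact ⟨(YoungDiagram.mem_cells _).mpr hc.2, by simp⟩
    · intro c _ c' _ h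
      simp only [Prod.mk.injEq, add_left_inj] at h
      exact Prod.ext h.1 h.2
    · intro c' hc'
      rw [Finset.mem_filter] at hc'
      have hmem : c' ∈ μ := (YoungDiagram.mem_cells _).mp hc'.1
      refine ⟨(c'.1 - 1, c'.2 - 1), ?_, ?_⟩
      · rw [Finset.mem_filter]
        refine ⟨(YoungDiagram.mem_cells _).mpr
          (μ.up_left_mem (Nat.sub_le _ _) (Nat.sub_le _ _) hmem), ?_⟩
        have h1 : c'.1 - 1 + 1 = c'.1 := Nat.sub_add_cancel hc'.2.1
        have h2 : c'.2 - 1 + 1 = c'.2 := Nat.sub_add_cancel hc'.2.2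
        simp only [h1, h2]
        exact hmem
      · have h1 : c'.1 - 1 + 1 = c'.1 := Nat.sub_add_cancel hc'.2.1
        have h2 : c'.2 - 1 + 1 = c'.2 := Nat.sub_add_cancel hc'.2.2
        simp only [h1, h2]
  rw [hA, hB, hQ]
  -- inclusion-exclusion
  have hie := Finset.card_union_add_card_inter (μ.cells.filter (fun c => 1 ≤ c.1))
    (μ.cells.filter (fun c => 1 ≤ c.2))
  rw [← Finset.filter_or, ← Finset.filter_and] at hie
  have hsplit := Finset.card_filter_add_card_filter_not (s := μ.cells) (fun c : ℕ × ℕ => 1 ≤ c.1 ∨ 1 ≤ c.2)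
  have hsingle : (μ.cells.filter (fun c : ℕ × ℕ => ¬ (1 ≤ c.1 ∨ 1 ≤ c.2))) = {((0 : ℕ), (0 : ℕ))} := by
    ext c
    rw [Finset.mem_filter, Finset.mem_singleton]
    constructor
    · rintro ⟨_, hc⟩
      push Not at hc
      apply Prod.ext
      · simp only
        omega
      · simp only
        omega
    · rintro rfl
      exact ⟨(YoungDiagram.mem_cells _).mpr h00, by simp⟩
  rw [hsingle, Finset.card_singleton] at hsplit
  omega

end Groth.Agent.S19106
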