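import Groth.Statements.S19136
import Mathlib

set_option autoImplicit false
universe u
open Instab

namespace Groth.Agent.S19136

/-- Let p be a seminorm and ℓ a linear form on a real vector space, let y₀ and y₁ be vectors at which p
is positive and ℓ is non-negative, and let y = t y₀ + (1 - t) y₁ with 0 < t < 1 be a point of the
open segment at which p is positive. Then ℓ(y)/p(y) is at least the smaller of ℓ(y₀)/p(y₀) and
ℓ(y₁)/p(y₁), and if it equals that smaller value then ℓ(y₀)/p(y₀) = ℓ(y₁)/p(y₁). (The published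
lemma concerns the numerical invariant attached to a degree-two cohomology class and a semi-norm on
graded points of a stack; restricted to one rational simplex that invariant is the quotient of a
linear form by a semi-norm on the non-negative orthant of a real coordinate space, and local
quasi-concavity there amounts to this inequality with its equality clause, the set where the linear
form is non-negative being automatically convex; the lemma's further assertion, that the invariant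
is positive at no pair of antipodal points, is not stated here. The vector space is arbitrary here.) -/
theorem result {E : Type u} [AddCommGroup E] [Module ℝ E]
    (p : Seminorm ℝ E) (ℓ : E →ₗ[ℝ] ℝ) (y₀ y₁ : E) (h₀ : 0 < p y₀) (h₁ : 0 < p y₁)
    (hℓ₀ : 0 ≤ ℓ y₀) (hℓ₁ : 0 ≤ ℓ y₁) (t : ℝ) (ht₀ : 0 < t) (ht₁ : t < 1)
    (hy : 0 < p (t • y₀ + (1 - t) • y₁)) :
    min (ℓ y₀ / p y₀) (ℓ y₁ / p y₁) ≤ ℓ (t • y₀ + (1 - t) • y₁) / p (t • y₀ + (1 - t) • y₁) ∧
      (ℓ (t • y₀ + (1 - t) • y₁) / p (t • y₀ + (1 - t) • y₁) = min (ℓ y₀ / p y₀) (ℓ y₁ / p y₁) →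
        ℓ y₀ / p y₀ = ℓ y₁ / p y₁) := by
  have hp0 : p (t • y₀) = t * p y₀ := by
    rw [map_smul_eq_mul, Real.norm_of_nonneg ht₀.le]
  have hp1 : p ((1 - t) • y₁) = (1 - t) * p y₁ := by
    rw [map_smul_eq_mul, Real.norm_of_nonneg (by linarith)]
  have htri : p (t • y₀ + (1 - t) • y₁) ≤ t * p y₀ + (1 - t) * p y₁ := by
    have := map_add_le_add p (t • y₀) ((1 - t) • y₁)
    rw [hp0, hp1] at this
    exact this
  have hℓy : ℓ (t • y₀ + (1 - t) • y₁) = t * ℓ y₀ + (1 - t) * ℓ y₁ := by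
    rw [map_add, map_smul, map_smul, smul_eq_mul, smul_eq_mul]
  set P := p (t • y₀ + (1 - t) • y₁) with hP
  set a₀ := ℓ y₀ / p y₀ with ha₀
  set a₁ := ℓ y₁ / p y₁ with ha₁
  have hℓ0 : ℓ y₀ = a₀ * p y₀ := by rw [ha₀]; field_simp
  have hℓ1 : ℓ y₁ = a₁ * p y₁ := by rw [ha₁]; field_simp
  have ha₀nn : 0 ≤ a₀ := div_nonneg hℓ₀ h₀.le
  have ha₁nn : 0 ≤ a₁ := div_nonneg hℓ₁ h₁.le
  set m := min a₀ a₁ with hm
  have hm0 : m ≤ a₀ := min_le_left _ _
  have hm1 : m ≤ a₁ := min_le_right _ _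
  have hmnn : 0 ≤ m := le_min ha₀nn ha₁nn
  have h1t : 0 < 1 - t := by linarith
  have hkey : m * P ≤ t * ℓ y₀ + (1 - t) * ℓ y₁ := by
    rw [hℓ0, hℓ1]
    have e1 : m * P ≤ m * (t * p y₀ + (1 - t) * p y₁) := mul_le_mul_of_nonneg_left htri hmnn
    have e2 : t * (m * p y₀) ≤ t * (a₀ * p y₀) :=
      mul_le_mul_of_nonneg_left (mul_le_mul_of_nonneg_right hm0 h₀.le) ht₀.le
    have e3 : (1 - t) * (m * p y₁) ≤ (1 - t) * (a₁ * p y₁) :=
      mul_le_mul_of_nonneg_left (mul_le_mul_of_nonneg_right hm1 h₁.le) h1t.le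
    nlinarith
  refine ⟨?_, ?_⟩
  · rw [hℓy, le_div_iff₀ hy]
    exact hkey
  · intro heq
    rw [hℓy, div_eq_iff hy.ne'] at heq
    rw [hℓ0, hℓ1] at heq
    have e1 : m * P ≤ m * (t * p y₀ + (1 - t) * p y₁) := mul_le_mul_of_nonneg_left htri hmnn
    have e2 : 0 ≤ t * ((a₀ - m) * p y₀) :=
      mul_nonneg ht₀.le (mul_nonneg (by linarith) h₀.le)
    have e3 : 0 ≤ (1 - t) * ((a₁ - m) * p y₁) :=
      mul_nonneg h1t.le (mul_nonneg (by linarith) h₁.le)
    have e4 : t * ((a₀ - m) * p y₀) + (1 - t) * ((a₁ - m) * p y₁) ≤ 0 := by nlinarith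
    have e5 : t * ((a₀ - m) * p y₀) = 0 := by linarith
    have e6 : (1 - t) * ((a₁ - m) * p y₁) = 0 := by linarith
    have e7 : a₀ - m = 0 := by
      rcases mul_eq_zero.mp e5 with h | h
      · exact absurd h ht₀.ne'
      · rcases mul_eq_zero.mp h with h | h
        · exact h
        · exact absurd h h₀.ne'
    have e8 : a₁ - m = 0 := by
      rcases mul_eq_zero.mp e6 with h | h
      · exact absurd h h1t.ne'
      · rcases mul_eq_zero.mp h with h | h
        · exact h
        · exact absurd h h₁.ne'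
    linarith

end Groth.Agent.S19136
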