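import Groth.Statements.S19148
import Mathlib

set_option autoImplicit false
open scoped TensorProduct
universe u v
open FiltMod

namespace Groth.Agent.S19148

namespace S19148aux

open PiTensorProduct

variable {R : Type*} [CommRing R] {M : Type*} [AddCommGroup M] [Module R M]
  [Module.Projective R M]

lemma key (F₁ F₂ : Submodule R M) (h₁ : ∃ C : Submodule R M, IsCompl F₁ C)
    (h₂ : ∃ C : Submodule R M, IsCompl F₂ C) (j : ℕ)
    (hle : LinearMap.range (PiTensorProduct.map (R := R) (fun _ : Fin (j + 1) => F₁.subtype)) ≤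
      LinearMap.range (PiTensorProduct.map (R := R) (fun _ : Fin (j + 1) => F₂.subtype))) :
    F₁ ≤ F₂ := by
  classical
  obtain ⟨C₁, hC₁⟩ := h₁
  obtain ⟨C₂, hC₂⟩ := h₂
  obtain ⟨s, hs⟩ := Module.projective_def'.mp (inferInstance : Module.Projective R M)
  have hs' : ∀ m : M, m = ∑ a ∈ (s m).support, (s m) a • a := by
    intro m
    have := LinearMap.congr_fun hs m
    rw [LinearMap.comp_apply, Finsupp.linearCombination_apply, LinearMap.id_apply] at this
    exact this.symm
  obtain ⟨p₁, hp₁⟩ : ∃ p₁ : M →ₗ[R] M,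
    p₁ = F₁.subtype ∘ₗ Submodule.projectionOnto F₁ C₁ hC₁ := ⟨_, rfl⟩
  have hp₁mem : ∀ m, p₁ m ∈ F₁ := fun m => by rw [hp₁]; exact Submodule.coe_mem _
  have hp₁id : ∀ z ∈ F₁, p₁ z = z := fun z hz => by
    rw [hp₁]
    exact congrArg Subtype.val (Submodule.projectionOnto_apply_left hC₁ ⟨z, hz⟩)
  obtain ⟨q, hq⟩ : ∃ q : M →ₗ[R] M,
    q = C₂.subtype ∘ₗ Submodule.projectionOnto C₂ F₂ hC₂.symm := ⟨_, rfl⟩
  have hqF₂ : ∀ f ∈ F₂, q f = 0 := fun f hf => by
    rw [hq, LinearMap.comp_apply, Submodule.projectionOnto_apply_of_mem_right hC₂.symm hf,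
      map_zero]
  have hqker : ∀ x, q x = 0 → x ∈ F₂ := fun x hx => by
    rw [hq, LinearMap.comp_apply] at hx
    have h0 : Submodule.projectionOnto C₂ F₂ hC₂.symm x = 0 := Subtype.ext hx
    rw [← Submodule.ker_projectionOnto hC₂.symm]
    exact h0
  have main : ∀ ν : M →ₗ[R] R, ∀ z ∈ F₁, ν (q z) = 0 := by
    intro ν
    have hA : ∀ (μ : Fin j → (M →ₗ[R] R)) (y : Fin j → M), (∀ l, y l ∈ F₁) → ∀ z ∈ F₁,
        (∏ l, μ l (y l)) * ν (q z) = 0 := by
      intro μ y hy z hz
      let μ' : Fin (j + 1) → (M →ₗ[R] R) := Fin.cons (ν ∘ₗ q) μ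
      let Φ : (⨂[R] _ : Fin (j + 1), M) →ₗ[R] R :=
        PiTensorProduct.lift ((MultilinearMap.mkPiAlgebra R (Fin (j + 1)) R).compLinearMap μ')
      have hΦ : ∀ m : Fin (j + 1) → M, Φ (tprod R m) = ∏ i, μ' i (m i) := by
        intro m
        simp only [Φ, PiTensorProduct.lift.tprod, MultilinearMap.compLinearMap_apply,
          MultilinearMap.mkPiAlgebra_apply]
      have hker : LinearMap.range
          (PiTensorProduct.map (R := R) (fun _ : Fin (j + 1) => F₂.subtype)) ≤
          LinearMap.ker Φ := by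
        rw [PiTensorProduct.map_range_eq_span_tprod, Submodule.span_le]
        rintro _ ⟨m, rfl⟩
        rw [SetLike.mem_coe, LinearMap.mem_ker, hΦ]
        refine Finset.prod_eq_zero (Finset.mem_univ 0) ?_
        show (ν ∘ₗ q) ((m 0 : F₂) : M) = 0
        rw [LinearMap.comp_apply, hqF₂ _ (m 0).2, map_zero]
      have hall : ∀ i : Fin (j + 1), (Fin.cons z y : Fin (j + 1) → M) i ∈ F₁ := by
        intro i
        refine Fin.cases ?_ (fun l => ?_) i
        · rw [Fin.cons_zero]; exact hz
        · rw [Fin.cons_succ]; exact hy l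
      have hmem : tprod R (Fin.cons z y : Fin (j + 1) → M) ∈
          LinearMap.range (PiTensorProduct.map (R := R) (fun _ : Fin (j + 1) => F₁.subtype)) := by
        refine ⟨tprod R (fun i => ⟨(Fin.cons z y : Fin (j + 1) → M) i, hall i⟩), ?_⟩
        rw [PiTensorProduct.map_tprod]
        rfl
      have h0 := hker (hle hmem)
      rw [LinearMap.mem_ker, hΦ, Fin.prod_univ_succ] at h0
      simp only [μ', Fin.cons_zero, Fin.cons_succ, LinearMap.comp_apply] at h0
      rw [mul_comm]; exact h0
    have hP : ∀ d i : ℕ, i + d = j → ∀ (μ : Fin i → (M →ₗ[R] R)) (y : Fin i → M),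
        (∀ l, y l ∈ F₁) → ∀ z ∈ F₁, (∏ l, μ l (y l)) * ν (q z) = 0 := by
      intro d
      induction d with
      | zero =>
        intro i hi
        obtain rfl : i = j := by omega
        exact hA
      | succ d ih =>
        intro i hi μ y hy z hz
        have hP' := ih (i + 1) (by omega)
        have hν : ν (q z) = ∑ a ∈ (s z).support, (s z) a * ν (q (p₁ a)) := by
          have h1 : z = p₁ (∑ a ∈ (s z).support, (s z) a • a) := by
            rw [← hs' z, hp₁id z hz]
          conv_lhs => rw [h1]
          simp only [map_sum, map_smul, smul_eq_mul]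
        rw [hν, Finset.mul_sum]
        refine Finset.sum_eq_zero fun a _ => ?_
        have hall : ∀ l : Fin (i + 1), (Fin.cons z y : Fin (i + 1) → M) l ∈ F₁ := by
          intro l
          refine Fin.cases ?_ (fun l' => ?_) l
          · rw [Fin.cons_zero]; exact hz
          · rw [Fin.cons_succ]; exact hy l'
        have := hP' (Fin.cons ((Finsupp.lapply a) ∘ₗ s) μ) (Fin.cons z y) hall (p₁ a) (hp₁mem a)
        rw [Fin.prod_univ_succ] at this
        simp only [Fin.cons_zero, Fin.cons_succ, LinearMap.comp_apply,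
          Finsupp.lapply_apply] at this
        calc (∏ l, μ l (y l)) * ((s z) a * ν (q (p₁ a)))
            = ((s z) a * ∏ l, μ l (y l)) * ν (q (p₁ a)) := by ring
          _ = 0 := this
    intro z hz
    have := hP j 0 (by omega) (fun l => l.elim0) (fun l => l.elim0) (fun l => l.elim0) z hz
    simpa using this
  intro x hx
  apply hqker
  have hsq : s (q x) = 0 := Finsupp.ext fun m => main ((Finsupp.lapply m) ∘ₗ s) x hx
  have := hs' (q x)
  rw [hsq] at this
  simpa using this

end S19148aux

/-- In affine form, let R be a commutative ring, M a finitely generated projective R-module (a finite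
locally free sheaf on Spec R), F₁ and F₂ direct summands of M and k ≥ 1. Then the images of F₁^{⊗k}
and F₂^{⊗k} in the k-th tensor power M^{⊗k} are equal if and only if F₁ = F₂. (The source states
this for local direct factors of a finite locally free sheaf on a scheme; equality of subsheaves
being local, this is the affine case with global direct summands, to which it reduces.) -/
theorem result {R : Type u} [CommRing R] {M : Type v} [AddCommGroup M] [Module R M]
    [Module.Finite R M] [Module.Projective R M] (F₁ F₂ : Submodule R M)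
    (h₁ : ∃ C : Submodule R M, IsCompl F₁ C) (h₂ : ∃ C : Submodule R M, IsCompl F₂ C) (k : ℕ) (hk : 1 ≤ k) :
    LinearMap.range (PiTensorProduct.map (R := R) (fun _ : Fin k => F₁.subtype)) =
      LinearMap.range (PiTensorProduct.map (R := R) (fun _ : Fin k => F₂.subtype)) ↔ F₁ = F₂ := by
  constructor
  · intro h
    obtain ⟨j, rfl⟩ : ∃ j, k = j + 1 := ⟨k - 1, by omega⟩
    exact le_antisymm (S19148aux.key F₁ F₂ h₁ h₂ j h.le) (S19148aux.key F₂ F₁ h₂ h₁ j h.ge)
  · rintro rfl; rfl

end Groth.Agent.S19148
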