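import Groth.Statements.S19154
import Mathlib

set_option autoImplicit false
open scoped TensorProduct
universe u v w
open FiltMod

namespace Groth.Agent.S19154


namespace H19154

open TensorProduct

section BC
variable {R : Type*} [CommRing R] {M : Type*} [AddCommGroup M] [Module R M]
variable (A : Type*) [CommRing A] [Algebra R A]

theorem bc_iSup {ι : Sort*} (p : ι → Submodule R M) :
    (⨆ i, p i).baseChange A = ⨆ i, (p i).baseChange A := by
  apply le_antisymm
  · rw [Submodule.baseChange_eq_span, Submodule.span_le]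
    rintro _ ⟨x, hx, rfl⟩
    refine Submodule.iSup_induction p
      (motive := fun x => (TensorProduct.mk R A M 1) x ∈ ⨆ i, (p i).baseChange A) hx ?_ ?_ ?_
    · intro i y hy
      exact SetLike.le_def.mp (le_iSup (fun i => (p i).baseChange A) i)
        (Submodule.tmul_mem_baseChange_of_mem 1 hy)
    · rw [map_zero]; exact zero_mem _
    · intro y z hy hz
      rw [map_add]; exact add_mem hy hz
  · exact iSup_le fun i => Submodule.baseChange_mono A (le_iSup p i)

theorem bc_sup (p q : Submodule R M) :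
    (p ⊔ q).baseChange A = p.baseChange A ⊔ q.baseChange A := by
  apply le_antisymm
  · rw [Submodule.baseChange_eq_span, Submodule.span_le]
    rintro _ ⟨x, hx, rfl⟩
    obtain ⟨y, hy, z, hz, rfl⟩ := Submodule.mem_sup.1 hx
    rw [map_add]
    exact add_mem
      (SetLike.le_def.mp le_sup_left (Submodule.tmul_mem_baseChange_of_mem 1 hy))
      (SetLike.le_def.mp le_sup_right (Submodule.tmul_mem_baseChange_of_mem 1 hz))
  · exact sup_le (Submodule.baseChange_mono A le_sup_left)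
      (Submodule.baseChange_mono A le_sup_right)

theorem bc_disjoint (p q : Submodule R M) (h : IsCompl p q) :
    Disjoint (p.baseChange A) (q.baseChange A) := by
  have hp : ∀ z ∈ p.baseChange A, ((p.projection q h).baseChange A) z = z := by
    intro z hz
    rw [Submodule.baseChange_eq_span] at hz
    refine Submodule.span_induction ?_ ?_ ?_ ?_ hz
    · rintro _ ⟨x, hx, rfl⟩
      show ((p.projection q h).baseChange A) ((1 : A) ⊗ₜ[R] x) = (1 : A) ⊗ₜ[R] x
      rw [LinearMap.baseChange_tmul, Submodule.projection_apply_of_mem_left h hx]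
    · rw [map_zero]
    · intro a b _ _ ha hb; rw [map_add, ha, hb]
    · intro a b _ hb; rw [map_smul, hb]
  have hq : ∀ z ∈ q.baseChange A, ((p.projection q h).baseChange A) z = 0 := by
    intro z hz
    rw [Submodule.baseChange_eq_span] at hz
    refine Submodule.span_induction ?_ ?_ ?_ ?_ hz
    · rintro _ ⟨x, hx, rfl⟩
      show ((p.projection q h).baseChange A) ((1 : A) ⊗ₜ[R] x) = 0
      rw [LinearMap.baseChange_tmul, Submodule.projection_apply_of_mem_right h hx, tmul_zero]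
    · rw [map_zero]
    · intro a b _ _ ha hb; rw [map_add, ha, hb, add_zero]
    · intro a b _ hb; rw [map_smul, hb, smul_zero]
  rw [Submodule.disjoint_def]
  intro z hz1 hz2
  rw [← hp z hz1, hq z hz2]

end BC

section LA
variable {Γ : Type*} [LinearOrder Γ] {K : Type*} [Field K] {V : Type*} [AddCommGroup V]
  [Module K V] [FiniteDimensional K V]

theorem la_key (Fx L : Γ → Submodule K V) (W : Submodule K V)
    (hLW : ∀ γ, L γ ≤ W)
    (hsplit : ∀ γ, Fx γ = L γ ⊔ ⨆ η ∈ Set.Ioi γ, Fx η) :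
    ∀ (J : Finset Γ) (U : Submodule K V), (∀ η ∈ J, Fx η ≤ U) →
      ∑ η ∈ J, (Module.finrank K ↥(Fx η) - Module.finrank K ↥(⨆ ζ ∈ Set.Ioi η, Fx ζ))
        ≤ Module.finrank K ↥(W ⊓ U) := by
  intro J
  induction J using Finset.induction_on_min with
  | empty => intro U _; simp
  | insert a J ha ih =>
    intro U hU
    have haU : Fx a ≤ U := hU a (Finset.mem_insert_self a J)
    have hnot : a ∉ J := fun h => lt_irrefl a (ha a h)
    rw [Finset.sum_insert hnot]
    have hs := hsplit a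
    obtain ⟨P, hP⟩ : ∃ P : Submodule K V, P = ⨆ ζ ∈ Set.Ioi a, Fx ζ := ⟨_, rfl⟩
    rw [← hP] at hs ⊢
    have h1 := ih P (fun η hη => by
      rw [hP]; exact le_iSup₂_of_le η (Set.mem_Ioi.2 (ha η hη)) le_rfl)
    have hPle : P ≤ Fx a := by rw [hs]; exact le_sup_right
    have hLle : L a ≤ Fx a := by rw [hs]; exact le_sup_left
    have h2 := Submodule.finrank_sup_add_finrank_inf_eq (W ⊓ Fx a) P
    have e1 : (W ⊓ Fx a) ⊔ P = Fx a := by
      apply le_antisymm
      · exact sup_le inf_le_right hPle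
      · calc Fx a = L a ⊔ P := hs
          _ ≤ (W ⊓ Fx a) ⊔ P := sup_le_sup_right (le_inf (hLW a) hLle) P
    have e2 : (W ⊓ Fx a) ⊓ P = W ⊓ P := by
      rw [inf_assoc, inf_eq_right.2 hPle]
    rw [e1, e2] at h2
    have h3 : Module.finrank K ↥(W ⊓ Fx a) ≤ Module.finrank K ↥(W ⊓ U) :=
      Submodule.finrank_mono (inf_le_inf_left W haU)
    have h4 : Module.finrank K ↥P ≤ Module.finrank K ↥(Fx a) := Submodule.finrank_mono hPle
    omega

theorem la_main (Fx L : Γ → Submodule K V)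
    (hsplit : ∀ γ, Fx γ = L γ ⊔ ⨆ η ∈ Set.Ioi γ, Fx η)
    (hsum : Module.finrank K V = ∑ᶠ γ, (Module.finrank K ↥(Fx γ)
      - Module.finrank K ↥(⨆ η ∈ Set.Ioi γ, Fx η))) :
    ⨆ γ, L γ = ⊤ := by
  by_cases hfin : (Function.support fun γ => (Module.finrank K ↥(Fx γ)
      - Module.finrank K ↥(⨆ η ∈ Set.Ioi γ, Fx η))).Finite
  · rw [finsum_eq_sum _ hfin] at hsum
    have := la_key Fx L (⨆ γ, L γ) (fun γ => le_iSup L γ) hsplit hfin.toFinset ⊤
      (fun _ _ => le_top)
    rw [← hsum, inf_top_eq] at this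
    exact Submodule.eq_top_of_finrank_eq (le_antisymm (Submodule.finrank_le _) this)
  · rw [finsum_of_infinite_support hfin] at hsum
    have : Subsingleton V := (Module.finrank_eq_zero_iff_of_free K V).1 hsum
    exact Subsingleton.elim _ _

theorem ls_main (L : Γ → Submodule K V) (hind : iSupIndep L) (htop : ⨆ γ, L γ = ⊤) :
    ∑ᶠ γ, Module.finrank K ↥(L γ) = Module.finrank K V := by
  have hfin : {γ | L γ ≠ ⊥}.Finite := WellFoundedGT.finite_ne_bot_of_iSupIndep hind
  have hsupp : (Function.support fun γ => Module.finrank K ↥(L γ)) ⊆ ↑hfin.toFinset := by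
    intro γ hγ
    rw [Set.Finite.coe_toFinset]
    intro h0
    apply hγ
    show Module.finrank K ↥(L γ) = 0
    rw [h0]; exact finrank_bot K V
  rw [finsum_eq_sum_of_support_subset _ hsupp]
  have key : ∀ T : Finset Γ, Module.finrank K ↥(⨆ γ ∈ T, L γ)
      = ∑ γ ∈ T, Module.finrank K ↥(L γ) := by
    intro T
    induction T using Finset.induction_on with
    | empty => simp
    | insert a T ha ih =>
      rw [Finset.iSup_insert, Finset.sum_insert ha, ← ih]
      have hd : Disjoint (L a) (⨆ γ ∈ T, L γ) := by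
        have := hind.disjoint_biSup (y := (↑T : Set Γ)) (by simpa using ha)
        simpa using this
      have := Submodule.finrank_sup_add_finrank_inf_eq (L a) (⨆ γ ∈ T, L γ)
      rw [hd.eq_bot, finrank_bot, add_zero] at this
      exact this
  rw [← key]
  have : (⨆ γ ∈ hfin.toFinset, L γ) = ⊤ := by
    rw [← htop]
    apply le_antisymm
    · exact iSup₂_le fun γ _ => le_iSup L γ
    · refine iSup_le fun γ => ?_
      by_cases h : L γ = ⊥
      · rw [h]; exact bot_le
      · exact le_iSup₂_of_le γ (by simpa using h) le_rfl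
  rw [this]
  exact finrank_top K V

end LA

section Main
variable {Γ : Type*} [LinearOrder Γ] {R : Type*} [CommRing R] {M : Type*} [AddCommGroup M]
  [Module R M]

theorem lat_a {α : Type*} [CompleteLattice α] (L : Γ → α) (γ : Γ) :
    (⨆ η ∈ Set.Ioi γ, ⨆ ζ ∈ Set.Ici η, L ζ) = ⨆ ζ ∈ Set.Ioi γ, L ζ := by
  apply le_antisymm
  · exact iSup₂_le fun η hη => iSup₂_le fun ζ hζ =>
      le_iSup₂_of_le ζ (Set.mem_Ioi.2 (lt_of_lt_of_le (Set.mem_Ioi.1 hη) (Set.mem_Ici.1 hζ))) le_rfl
  · exact iSup₂_le fun ζ hζ =>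
      le_iSup₂_of_le ζ hζ (le_iSup₂_of_le ζ (Set.mem_Ici.2 le_rfl) le_rfl)

theorem lat_b {α : Type*} [CompleteLattice α] (L : Γ → α) (γ : Γ) :
    (⨆ η ∈ Set.Ici γ, L η) = L γ ⊔ ⨆ η ∈ Set.Ioi γ, L η := by
  apply le_antisymm
  · refine iSup₂_le fun η hη => ?_
    rcases eq_or_lt_of_le (Set.mem_Ici.1 hη) with h | h
    · rw [← h]; exact le_sup_left
    · exact le_sup_of_le_right (le_iSup₂_of_le η (Set.mem_Ioi.2 h) le_rfl)
  · exact sup_le (le_iSup₂_of_le γ (Set.mem_Ici.2 le_rfl) le_rfl)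
      (iSup₂_le fun η hη => le_iSup₂_of_le η (Set.mem_Ici.2 (le_of_lt (Set.mem_Ioi.1 hη))) le_rfl)

theorem min_arg (F Fp G : Γ → Submodule R M)
    (hFp : ∀ γ, Fp γ = ⨆ η ∈ Set.Ioi γ, F η)
    (hGF : ∀ γ, G γ ≤ F γ) (hdisj : ∀ γ, Disjoint (G γ) (Fp γ))
    (s : Finset Γ) (v : Γ → M) (hv : ∀ i ∈ s, v i ∈ G i)
    (X : Submodule R M) (D : Set Γ)
    (hD : ∀ η ∈ D, ∀ ζ, ζ < η → ζ ∈ D) (hX : ∀ η ∈ D, X ≤ Fp η)
    (hsum : (∑ i ∈ s, v i) ∈ X) : ∀ η ∈ s, η ∈ D → v η = 0 := by
  classical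
  by_contra hcon
  push Not at hcon
  obtain ⟨η₁, hη₁s, hη₁D, hη₁⟩ := hcon
  obtain ⟨B, hBdef⟩ : ∃ B : Finset Γ, B = s.filter (fun η => η ∈ D ∧ v η ≠ 0) := ⟨_, rfl⟩
  have hB : B.Nonempty := ⟨η₁, by rw [hBdef]; exact Finset.mem_filter.2 ⟨hη₁s, hη₁D, hη₁⟩⟩
  have hmin := B.min'_mem hB
  have hminle := B.min'_le
  obtain ⟨η₀, hη₀def⟩ : ∃ η₀, η₀ = B.min' hB := ⟨_, rfl⟩
  rw [← hη₀def] at hmin
  have hη₀ : η₀ ∈ s ∧ η₀ ∈ D ∧ v η₀ ≠ 0 := by
    rw [hBdef] at hmin; exact Finset.mem_filter.1 hmin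
  have hother : ∀ ζ ∈ s.erase η₀, v ζ ∈ Fp η₀ := by
    intro ζ hζ
    have hζ' := Finset.mem_erase.1 hζ
    rcases lt_or_gt_of_ne hζ'.1 with h | h
    · have hzero : v ζ = 0 := by
        by_contra hne
        have hmem : ζ ∈ B := by
          rw [hBdef]; exact Finset.mem_filter.2 ⟨hζ'.2, hD η₀ hη₀.2.1 ζ h, hne⟩
        have hle := hminle ζ hmem
        rw [← hη₀def] at hle
        exact absurd hle (not_le.2 h)
      rw [hzero]; exact zero_mem _
    · rw [hFp]
      exact SetLike.le_def.mp (le_iSup₂_of_le ζ (Set.mem_Ioi.2 h) le_rfl)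
        (SetLike.le_def.mp (hGF ζ) (hv ζ hζ'.2))
  have hsplit := Finset.add_sum_erase s v hη₀.1
  have h1 : ∑ i ∈ s.erase η₀, v i ∈ Fp η₀ := Submodule.sum_mem _ hother
  have h2 : v η₀ ∈ Fp η₀ := by
    have : v η₀ = (∑ i ∈ s, v i) - ∑ i ∈ s.erase η₀, v i := by
      rw [← hsplit]; abel
    rw [this]
    exact sub_mem (SetLike.le_def.mp (hX η₀ hη₀.2.1) hsum) h1
  exact hη₀.2.2 (Submodule.disjoint_def.1 (hdisj η₀) _ (hv η₀ hη₀.1) h2)

theorem indep_of_lifts (F Fp G : Γ → Submodule R M)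
    (hFp : ∀ γ, Fp γ = ⨆ η ∈ Set.Ioi γ, F η)
    (hGF : ∀ γ, G γ ≤ F γ) (hdisj : ∀ γ, Disjoint (G γ) (Fp γ)) : iSupIndep G := by
  rw [iSupIndep_iff_finsetSum_eq_zero_imp_eq_zero]
  intro s v hv hsum i hi
  exact min_arg F Fp G hFp hGF hdisj s v hv ⊥ Set.univ (fun _ _ _ _ => Set.mem_univ _)
    (fun _ _ => bot_le) (by rw [hsum]; exact zero_mem _) i hi (Set.mem_univ _)

theorem filt_le (F Fp G : Γ → Submodule R M)
    (hFp : ∀ γ, Fp γ = ⨆ η ∈ Set.Ioi γ, F η)
    (hGF : ∀ γ, G γ ≤ F γ) (hdisj : ∀ γ, Disjoint (G γ) (Fp γ))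
    (htop : ⨆ γ, G γ = ⊤) (γ : Γ) :
    F γ ≤ ⨆ η ∈ Set.Ici γ, G η := by
  intro x hx
  have hx' : x ∈ ⨆ γ, G γ := by rw [htop]; trivial
  obtain ⟨f, hf, rfl⟩ := (Submodule.mem_iSup_iff_exists_finsupp G x).1 hx'
  have hz := min_arg F Fp G hFp hGF hdisj f.support f (fun i _ => hf i) (F γ) (Set.Iio γ)
    (fun η hη ζ hζ => Set.mem_Iio.2 (lt_trans hζ (Set.mem_Iio.1 hη)))
    (fun η hη => by
      rw [hFp]; exact le_iSup₂_of_le γ (Set.mem_Ioi.2 (Set.mem_Iio.1 hη)) le_rfl) hx
  show (∑ i ∈ f.support, f i) ∈ _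
  apply Submodule.sum_mem
  intro i hi
  have hge : γ ≤ i := by
    by_contra hlt
    exact (Finsupp.mem_support_iff.1 hi) (hz i hi (Set.mem_Iio.2 (not_le.1 hlt)))
  exact SetLike.le_def.mp (le_iSup₂_of_le i (Set.mem_Ici.2 hge) le_rfl) (hf i)

theorem top_of_fibres [Module.Finite R M] (W : Submodule R M)
    (h : ∀ p : PrimeSpectrum R, W.baseChange p.asIdeal.ResidueField = ⊤) : W = ⊤ := by
  have hsub : Subsingleton (M ⧸ W) := by
    rw [← Module.support_eq_empty_iff (R := R), Set.eq_empty_iff_forall_notMem]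
    intro p hp
    rw [Module.mem_support_iff_nontrivial_residueField_tensorProduct] at hp
    have hex := lTensor_exact p.asIdeal.ResidueField (LinearMap.exact_subtype_mkQ W)
      (Submodule.mkQ_surjective W)
    have hsurj := LinearMap.lTensor_surjective p.asIdeal.ResidueField
      (Submodule.mkQ_surjective W)
    have hzero : ∀ z, (W.mkQ.lTensor p.asIdeal.ResidueField) z = 0 := by
      intro z
      have hz : z ∈ W.baseChange p.asIdeal.ResidueField := by rw [h p]; trivial
      obtain ⟨y, rfl⟩ := hz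
      have e : (W.subtype.baseChange p.asIdeal.ResidueField) y
          = (W.subtype.lTensor p.asIdeal.ResidueField) y := rfl
      rw [e]
      exact hex.apply_apply_eq_zero y
    obtain ⟨a, b, hab⟩ := hp
    obtain ⟨a', rfl⟩ := hsurj a
    obtain ⟨b', rfl⟩ := hsurj b
    exact hab (by rw [hzero, hzero])
  exact Submodule.Quotient.subsingleton_iff.1 hsub

theorem exists_lifts (F Fp : Γ → Submodule R M) (hle : ∀ γ, Fp γ ≤ F γ)
    (hproj : ∀ γ, Module.Projective R (↥(F γ) ⧸ Submodule.comap (F γ).subtype (Fp γ))) :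
    ∃ G : Γ → Submodule R M, (∀ γ, G γ ≤ F γ) ∧ (∀ γ, Disjoint (G γ) (Fp γ)) ∧
      ∀ γ, F γ = G γ ⊔ Fp γ := by
  have hex : ∀ γ, ∃ h : (↥(F γ) ⧸ Submodule.comap (F γ).subtype (Fp γ)) →ₗ[R] ↥(F γ),
      (Submodule.comap (F γ).subtype (Fp γ)).mkQ ∘ₗ h = LinearMap.id := fun γ =>
    Module.projective_lifting_property _ _ (Submodule.mkQ_surjective _)
  choose h hh using hex
  have hh' : ∀ γ q, Submodule.Quotient.mk (h γ q) = q := fun γ q => LinearMap.congr_fun (hh γ) q
  refine ⟨fun γ => LinearMap.range ((F γ).subtype ∘ₗ h γ), ?_, ?_, ?_⟩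
  · rintro γ _ ⟨q, rfl⟩
    exact (h γ q).2
  · intro γ
    rw [Submodule.disjoint_def]
    rintro _ ⟨q, rfl⟩ hx
    have h0 : (Submodule.Quotient.mk (h γ q) : ↥(F γ) ⧸ Submodule.comap (F γ).subtype (Fp γ)) = 0 :=
      (Submodule.Quotient.mk_eq_zero _).2 hx
    rw [hh'] at h0
    rw [h0, map_zero]
  · intro γ
    apply le_antisymm
    · intro x hx
      have hmem : (⟨x, hx⟩ - h γ (Submodule.Quotient.mk ⟨x, hx⟩) : ↥(F γ))
          ∈ Submodule.comap (F γ).subtype (Fp γ) := by
        rw [← Submodule.Quotient.mk_eq_zero, Submodule.Quotient.mk_sub, hh', sub_self]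
      have hmem' : x - (h γ (Submodule.Quotient.mk ⟨x, hx⟩) : M) ∈ Fp γ := hmem
      rw [Submodule.mem_sup]
      exact ⟨(h γ (Submodule.Quotient.mk ⟨x, hx⟩) : M), ⟨_, rfl⟩, _, hmem', by abel⟩
    · refine sup_le ?_ (hle γ)
      rintro _ ⟨q, rfl⟩
      exact (h γ q).2

end Main

end H19154

/-- (1) ⇔ (4): in affine form, let Γ be a non-trivial totally ordered commutative group, R a commutative
ring, M a finitely generated projective R-module (a finite locally free sheaf on X = Spec R) and F a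
non-increasing Γ-indexed family of submodules of M; write F^γ_+ for the sum of the F^η with η > γ
and Gr^γ = F^γ/F^γ_+. Then the following are equivalent: (1) there is a Γ-grading M = ⊕_γ G_γ by
submodules (internal direct sum) with F^γ = Σ_{η ≥ γ} G_η for every γ; (4) every Gr^γ is finitely
generated projective over R and, for every prime p of R, dim_{κ(p)} (κ(p) ⊗ M) = Σ_γ dim_{κ(p)} Gr^γ
of the image filtration on κ(p) ⊗ M (whose γ-th term F_x^γ is the image of κ(p) ⊗ F^γ; dim Gr^γ is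
written as dim F_x^γ − dim F_x^γ_+, and the sum has finitely many non-zero terms). (The source's
conditions (2), (3) are the Zariski- and fpqc-local forms of (1) on a general scheme; its further
assertions on F^γ ⊗ κ(x) are not stated.) -/
theorem result
    {Γ : Type w} [AddCommGroup Γ] [LinearOrder Γ] [IsOrderedAddMonoid Γ] [Nontrivial Γ]
    {R : Type u} [CommRing R] {M : Type v} [AddCommGroup M] [Module R M] [Module.Finite R M] [Module.Projective R M]
    (F : Γ → Submodule R M) (hF : Antitone F)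
    (Fp : Γ → Submodule R M) (hFp : ∀ γ, Fp γ = ⨆ η ∈ Set.Ioi γ, F η) :
    (∃ G : Γ → Submodule R M, DirectSum.IsInternal G ∧ ∀ γ, F γ = ⨆ η ∈ Set.Ici γ, G η) ↔
    ((∀ γ, Module.Finite R (↥(F γ) ⧸ Submodule.comap (F γ).subtype (Fp γ)) ∧
        Module.Projective R (↥(F γ) ⧸ Submodule.comap (F γ).subtype (Fp γ))) ∧
      ∀ (p : PrimeSpectrum R) (Fx : Γ → Submodule p.asIdeal.ResidueField (p.asIdeal.ResidueField ⊗[R] M)),
        (∀ γ, Fx γ = LinearMap.range ((F γ).subtype.baseChange p.asIdeal.ResidueField)) →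
        Module.finrank p.asIdeal.ResidueField (p.asIdeal.ResidueField ⊗[R] M) =
          ∑ᶠ γ, (Module.finrank p.asIdeal.ResidueField ↥(Fx γ) -
            Module.finrank p.asIdeal.ResidueField ↥(⨆ η ∈ Set.Ioi γ, Fx η))) := by
  classical
  have hFple : ∀ γ, Fp γ ≤ F γ := fun γ => by
    rw [hFp]; exact iSup₂_le fun η hη => hF (le_of_lt (Set.mem_Ioi.1 hη))
  constructor
  · rintro ⟨G, hint, hFG⟩
    have hind : iSupIndep G := hint.submodule_iSupIndep
    have htop : ⨆ γ, G γ = ⊤ := hint.submodule_iSup_eq_top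
    have hFpG : ∀ γ, Fp γ = ⨆ η ∈ Set.Ioi γ, G η := fun γ => by
      rw [hFp]; simp_rw [hFG]; exact H19154.lat_a G γ
    have hsplit : ∀ γ, F γ = G γ ⊔ Fp γ := fun γ => by rw [hFG, hFpG, H19154.lat_b]
    have hne_le : ∀ γ, Fp γ ≤ ⨆ η, ⨆ (_ : η ≠ γ), G η := fun γ => by
      rw [hFpG]
      exact iSup₂_le fun η hη => le_iSup₂_of_le η (ne_of_gt (Set.mem_Ioi.1 hη)) le_rfl
    have hdisj : ∀ γ, Disjoint (G γ) (Fp γ) := fun γ => (hind γ).mono_right (hne_le γ)
    have hcompl : ∀ γ, IsCompl (G γ) (⨆ η, ⨆ (_ : η ≠ γ), G η) := fun γ => by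
      refine ⟨hind γ, ?_⟩
      rw [codisjoint_iff, eq_top_iff, ← htop]
      refine iSup_le fun η => ?_
      by_cases h : η = γ
      · rw [h]; exact le_sup_left
      · exact le_sup_of_le_right (le_iSup₂_of_le η h le_rfl)
    refine ⟨fun γ => ?_, ?_⟩
    · have hGle : G γ ≤ F γ := by rw [hsplit γ]; exact le_sup_left
      obtain ⟨φ, hφ⟩ : ∃ φ : ↥(G γ) →ₗ[R] (↥(F γ) ⧸ Submodule.comap (F γ).subtype (Fp γ)),
          ∀ g, φ g = Submodule.Quotient.mk (Submodule.inclusion hGle g) :=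
        ⟨(Submodule.comap (F γ).subtype (Fp γ)).mkQ ∘ₗ Submodule.inclusion hGle, fun _ => rfl⟩
      have hφinj : Function.Injective φ := by
        rw [← LinearMap.ker_eq_bot, eq_bot_iff]
        intro g hg
        rw [LinearMap.mem_ker, hφ] at hg
        have h1 : (Submodule.inclusion hGle g) ∈ Submodule.comap (F γ).subtype (Fp γ) :=
          (Submodule.Quotient.mk_eq_zero _).1 hg
        have h2 : (g : M) ∈ Fp γ := h1
        have h3 : (g : M) = 0 := Submodule.disjoint_def.1 (hdisj γ) _ g.2 h2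
        rw [Submodule.mem_bot]; exact Subtype.ext h3
      have hφsurj : Function.Surjective φ := by
        intro q
        obtain ⟨⟨x, hx⟩, rfl⟩ := Submodule.mkQ_surjective _ q
        have hx' : x ∈ G γ ⊔ Fp γ := by rw [← hsplit γ]; exact hx
        obtain ⟨g, hg, f', hf', rfl⟩ := Submodule.mem_sup.1 hx'
        refine ⟨⟨g, hg⟩, ?_⟩
        rw [hφ, Submodule.mkQ_apply, ← sub_eq_zero, ← Submodule.Quotient.mk_sub,
          Submodule.Quotient.mk_eq_zero, Submodule.mem_comap]
        have e : (F γ).subtype (Submodule.inclusion hGle ⟨g, hg⟩ - ⟨g + f', hx⟩) = - f' := by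
          simp
        rw [e]; exact neg_mem hf'
      have hfinG : Module.Finite R ↥(G γ) :=
        Module.Finite.of_surjective ((G γ).projectionOnto _ (hcompl γ))
          (Submodule.projectionOnto_surjective (hcompl γ))
      have hprojG : Module.Projective R ↥(G γ) :=
        Module.Projective.of_split (G γ).subtype ((G γ).projectionOnto _ (hcompl γ))
          (Submodule.projectionOnto_comp_subtype (hcompl γ))
      exact ⟨Module.Finite.equiv (LinearEquiv.ofBijective φ ⟨hφinj, hφsurj⟩),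
        Module.Projective.of_equiv (LinearEquiv.ofBijective φ ⟨hφinj, hφsurj⟩)⟩
    · intro p Fx hFx
      have hFx' : ∀ γ, Fx γ = (F γ).baseChange p.asIdeal.ResidueField := hFx
      obtain ⟨L, hL⟩ : ∃ L : Γ → Submodule p.asIdeal.ResidueField
          (p.asIdeal.ResidueField ⊗[R] M), L = fun γ => (G γ).baseChange p.asIdeal.ResidueField :=
        ⟨_, rfl⟩
      have hLγ : ∀ γ, L γ = (G γ).baseChange p.asIdeal.ResidueField := fun γ => by rw [hL]
      have hLind : iSupIndep L := by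
        intro γ
        have := H19154.bc_disjoint p.asIdeal.ResidueField (G γ) _ (hcompl γ)
        rw [H19154.bc_iSup] at this
        simp_rw [H19154.bc_iSup, ← hLγ] at this
        exact this
      have hLtop : ⨆ γ, L γ = ⊤ := by
        simp_rw [hLγ]
        rw [← H19154.bc_iSup, htop, Submodule.baseChange_top]
      have hFxL : ∀ γ, Fx γ = ⨆ η ∈ Set.Ici γ, L η := fun γ => by
        rw [hFx', hFG, H19154.bc_iSup]; simp_rw [H19154.bc_iSup, ← hLγ]
      have hFxp : ∀ γ, (⨆ η ∈ Set.Ioi γ, Fx η) = ⨆ η ∈ Set.Ioi γ, L η := fun γ => by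
        simp_rw [hFxL]; exact H19154.lat_a L γ
      have hd : ∀ γ, Module.finrank p.asIdeal.ResidueField ↥(Fx γ)
          - Module.finrank p.asIdeal.ResidueField ↥(⨆ η ∈ Set.Ioi γ, Fx η)
          = Module.finrank p.asIdeal.ResidueField ↥(L γ) := by
        intro γ
        rw [hFxp γ, hFxL γ, H19154.lat_b L γ]
        have hdj : Disjoint (L γ) (⨆ η ∈ Set.Ioi γ, L η) :=
          (hLind γ).mono_right (iSup₂_le fun η hη =>
            le_iSup₂_of_le η (ne_of_gt (Set.mem_Ioi.1 hη)) le_rfl)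
        have := Submodule.finrank_sup_add_finrank_inf_eq (L γ) (⨆ η ∈ Set.Ioi γ, L η)
        rw [hdj.eq_bot, finrank_bot, add_zero] at this
        rw [this, Nat.add_sub_cancel]
      rw [finsum_congr hd]
      exact (H19154.ls_main L hLind hLtop).symm
  · rintro ⟨hgr, hfib⟩
    obtain ⟨G, hGF, hdisj, hsplit⟩ := H19154.exists_lifts F Fp hFple (fun γ => (hgr γ).2)
    have hind := H19154.indep_of_lifts F Fp G hFp hGF hdisj
    have htop : ⨆ γ, G γ = ⊤ := by
      apply H19154.top_of_fibres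
      intro p
      rw [H19154.bc_iSup]
      have hsum := hfib p
        (fun γ => LinearMap.range ((F γ).subtype.baseChange p.asIdeal.ResidueField))
        (fun γ => rfl)
      exact H19154.la_main (fun γ => (F γ).baseChange p.asIdeal.ResidueField)
        (fun γ => (G γ).baseChange p.asIdeal.ResidueField)
        (fun γ => by
          show (F γ).baseChange p.asIdeal.ResidueField
            = (G γ).baseChange p.asIdeal.ResidueField
              ⊔ ⨆ η ∈ Set.Ioi γ, (F η).baseChange p.asIdeal.ResidueField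
          conv_lhs => rw [hsplit γ, H19154.bc_sup, hFp γ, H19154.bc_iSup]
          simp_rw [H19154.bc_iSup]) hsum
    refine ⟨G, (DirectSum.isInternal_submodule_iff_iSupIndep_and_iSup_eq_top G).2 ⟨hind, htop⟩,
      fun γ => ?_⟩
    apply le_antisymm
    · exact H19154.filt_le F Fp G hFp hGF hdisj htop γ
    · exact iSup₂_le fun η hη => (hGF η).trans (hF (Set.mem_Ici.1 hη))

end Groth.Agent.S19154
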