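import Groth.Statements.S19158
import Mathlib

set_option autoImplicit false
universe u v w
open FiltMod

namespace Groth.Agent.S19158


namespace S19158aux

open Submodule

section general
variable {Γ : Type*} [LinearOrder Γ] {R : Type*} [CommRing R] {M : Type*} [AddCommGroup M] [Module R M]

theorem indep_update {G' : Γ → Submodule R M} (hG' : iSupIndep G') (s₀ : Γ) (h0 : G' s₀ = ⊥)
    (X : Submodule R M) (hX : Disjoint X (⨆ η, G' η)) :
    iSupIndep (Function.update G' s₀ X) := by
  intro i
  by_cases hi : i = s₀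
  · rw [hi, Function.update_self]
    refine hX.mono_right ?_
    refine iSup₂_le fun j hj => ?_
    rw [Function.update_of_ne hj]
    exact le_iSup G' j
  · rw [Function.update_of_ne hi]
    have h1 : Disjoint (G' i) (⨆ j, ⨆ (_ : j ≠ i), G' j) := hG' i
    have h2 : Disjoint (G' i ⊔ ⨆ j, ⨆ (_ : j ≠ i), G' j) X := by
      refine hX.symm.mono_left ?_
      exact sup_le (le_iSup G' i) (iSup₂_le fun j _ => le_iSup G' j)
    have h3 := h1.disjoint_sup_right_of_disjoint_sup_left h2
    refine h3.mono_right ?_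
    refine iSup₂_le fun j hj => ?_
    by_cases hj0 : j = s₀
    · rw [hj0, Function.update_self]
      exact le_sup_right
    · rw [Function.update_of_ne hj0]
      exact le_sup_of_le_left (le_iSup₂_of_le j hj le_rfl)

theorem lemB (S : Finset Γ) : ∀ (F : Γ → Submodule R M), Antitone F →
    (∀ γ, F γ = ⨆ s ∈ S, ⨆ (_ : γ ≤ s), F s) →
    (∀ s ∈ S, ∃ C, IsCompl (F s) C) →
    ∃ G : Γ → Submodule R M, iSupIndep G ∧ (∀ η, η ∉ S → G η = ⊥) ∧
      ∀ γ, F γ = ⨆ η, ⨆ (_ : γ ≤ η), G η := by
  induction S using Finset.induction_on_min with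
  | empty =>
    intro F _ ha _
    refine ⟨fun _ => ⊥, fun i => disjoint_bot_left, fun _ _ => rfl, fun γ => ?_⟩
    rw [ha γ]
    simp
  | insert s₀ S hlt ih =>
    intro F hF ha hc
    obtain ⟨F', hF'def⟩ : ∃ F' : Γ → Submodule R M,
        ∀ γ, F' γ = ⨆ s ∈ S, ⨆ (_ : γ ≤ s), F s := ⟨_, fun _ => rfl⟩
    have hF'anti : Antitone F' := by
      intro γ₁ γ₂ h12
      rw [hF'def, hF'def]
      refine iSup₂_le fun s hs => iSup_le fun hγ => ?_
      exact le_iSup₂_of_le s hs (le_iSup_of_le (h12.trans hγ) le_rfl)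
    have hK : ∀ s ∈ S, F' s = F s := by
      intro s hs
      rw [hF'def]
      apply le_antisymm
      · exact iSup₂_le fun t _ => iSup_le fun hst => hF hst
      · exact le_iSup₂_of_le s hs (le_iSup_of_le le_rfl le_rfl)
    have ha' : ∀ γ, F' γ = ⨆ s ∈ S, ⨆ (_ : γ ≤ s), F' s := by
      intro γ
      rw [hF'def γ]
      apply le_antisymm
      · refine iSup₂_le fun s hs => iSup_le fun hγ => ?_
        exact le_iSup₂_of_le s hs (le_iSup_of_le hγ (hK s hs).ge)
      · refine iSup₂_le fun s hs => iSup_le fun hγ => ?_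
        rw [hK s hs]
        exact le_iSup₂_of_le s hs (le_iSup_of_le hγ le_rfl)
    have hc' : ∀ s ∈ S, ∃ C, IsCompl (F' s) C := by
      intro s hs
      rw [hK s hs]
      exact hc s (Finset.mem_insert_of_mem hs)
    obtain ⟨G', hG'ind, hG'out, hG'F⟩ := ih F' hF'anti ha' hc'
    have hle : F' s₀ ≤ F s₀ := by
      rw [hF'def]
      exact iSup₂_le fun t _ => iSup_le fun hst => hF hst
    obtain ⟨C, hC⟩ : ∃ C, IsCompl (F' s₀) C := by
      by_cases hS : S.Nonempty
      · have hm := S.min'_mem hS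
        have : F' s₀ = F (S.min' hS) := by
          rw [hF'def]
          apply le_antisymm
          · exact iSup₂_le fun t ht => iSup_le fun _ => hF (S.min'_le t ht)
          · exact le_iSup₂_of_le _ hm (le_iSup_of_le (hlt _ hm).le le_rfl)
        rw [this]
        exact hc _ (Finset.mem_insert_of_mem hm)
      · rw [Finset.not_nonempty_iff_eq_empty] at hS
        refine ⟨⊤, ?_⟩
        have : F' s₀ = ⊥ := by
          rw [hF'def, hS]
          simp
        rw [this]
        exact isCompl_bot_top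
    obtain ⟨X, hXdef⟩ : ∃ X : Submodule R M, X = F s₀ ⊓ C := ⟨_, rfl⟩
    have hsplit : F s₀ = X ⊔ F' s₀ := by
      have h1 : (F' s₀ ⊔ C) ⊓ F s₀ = F' s₀ ⊔ C ⊓ F s₀ := sup_inf_assoc_of_le C hle
      rw [hC.sup_eq_top, top_inf_eq] at h1
      calc F s₀ = F' s₀ ⊔ C ⊓ F s₀ := h1
        _ = X ⊔ F' s₀ := by rw [hXdef, inf_comm C, sup_comm]
    have hG's₀ : G' s₀ = ⊥ := hG'out s₀ (fun h => lt_irrefl _ (hlt s₀ h))
    have hsupG' : (⨆ η, G' η) ≤ F' s₀ := by
      refine iSup_le fun η => ?_
      by_cases hη : η ∈ S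
      · rw [hG'F s₀]
        exact le_iSup₂_of_le η (hlt η hη).le le_rfl
      · rw [hG'out η hη]; exact bot_le
    have hXdisj : Disjoint X (⨆ η, G' η) :=
      hC.disjoint.symm.mono (hXdef.le.trans inf_le_right) hsupG'
    refine ⟨Function.update G' s₀ X, indep_update hG'ind s₀ hG's₀ X hXdisj, ?_, ?_⟩
    · intro η hη
      rw [Finset.mem_insert, not_or] at hη
      rw [Function.update_of_ne hη.1]
      exact hG'out η hη.2
    · intro γ
      by_cases hγ : γ ≤ s₀
      · have h1 : F γ = F s₀ := by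
          apply le_antisymm
          · rw [ha γ]
            refine iSup₂_le fun s hs => iSup_le fun _ => ?_
            rcases Finset.mem_insert.mp hs with hs' | hs'
            · rw [hs']
            · exact hF (hlt s hs').le
          · exact hF hγ
        have h2 : F' γ = F' s₀ := by
          apply le_antisymm
          · rw [hF'def, hF'def]
            refine iSup₂_le fun s hs => iSup_le fun _ => ?_
            exact le_iSup₂_of_le s hs (le_iSup_of_le (hlt s hs).le le_rfl)
          · exact hF'anti hγ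
        rw [h1, hsplit, ← h2, hG'F γ]
        apply le_antisymm
        · refine sup_le ?_ ?_
          · exact le_iSup₂_of_le s₀ hγ (by rw [Function.update_self])
          · refine iSup₂_le fun η hη => ?_
            by_cases hη0 : η = s₀
            · rw [hη0, hG's₀]; exact bot_le
            · exact le_iSup₂_of_le η hη (by rw [Function.update_of_ne hη0])
        · refine iSup₂_le fun η hη => ?_
          by_cases hη0 : η = s₀
          · rw [hη0, Function.update_self]; exact le_sup_left
          · rw [Function.update_of_ne hη0]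
            exact le_sup_of_le_right (le_iSup₂_of_le η hη le_rfl)
      · have h1 : F γ = F' γ := by
          rw [ha γ, hF'def]
          apply le_antisymm
          · refine iSup₂_le fun s hs => iSup_le fun hγs => ?_
            rcases Finset.mem_insert.mp hs with hs' | hs'
            · exact absurd (hs' ▸ hγs) hγ
            · exact le_iSup₂_of_le s hs' (le_iSup_of_le hγs le_rfl)
          · refine iSup₂_le fun s hs => iSup_le fun hγs => ?_
            exact le_iSup₂_of_le s (Finset.mem_insert_of_mem hs) (le_iSup_of_le hγs le_rfl)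
        rw [h1, hG'F γ]
        apply le_antisymm
        · refine iSup₂_le fun η hη => ?_
          have hη0 : η ≠ s₀ := fun h => hγ (h ▸ hη)
          exact le_iSup₂_of_le η hη (by rw [Function.update_of_ne hη0])
        · refine iSup₂_le fun η hη => ?_
          have hη0 : η ≠ s₀ := fun h => hγ (h ▸ hη)
          rw [Function.update_of_ne hη0]
          exact le_iSup₂_of_le η hη le_rfl

theorem lemA [Nonempty Γ] [Module.Finite R M] (G : Γ → Submodule R M)
    (hG : DirectSum.IsInternal G)
    (F : Γ → Submodule R M) (hFG : ∀ γ, F γ = ⨆ η ∈ Set.Ici γ, G η) :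
    ∃ S : Finset Γ, (∀ γ, (∃ s ∈ S, γ ≤ s ∧ F γ = F s) ∨ F γ = ⊥) ∧
      (∀ s ∈ S, ∃ C, IsCompl (F s) C) ∧ ∃ γ₀, F γ₀ = ⊤ := by
  classical
  rw [DirectSum.isInternal_submodule_iff_iSupIndep_and_iSup_eq_top] at hG
  obtain ⟨hind, htop⟩ := hG
  have hfg : (⊤ : Submodule R M).FG := Module.finite_def.mp inferInstance
  have hc := (Submodule.fg_iff_compact ⊤).mp hfg
  obtain ⟨S, hS⟩ := CompleteLattice.IsCompactElement.exists_finset_of_le_iSup _ hc G htop.ge
  have hout : ∀ η, η ∉ S → G η = ⊥ := by
    intro η hη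
    refine (hind η).eq_bot_of_le ?_
    refine le_top.trans (hS.trans ?_)
    refine iSup₂_le fun i hi => ?_
    exact le_iSup₂_of_le i (fun h => hη (h ▸ hi)) le_rfl
  have hFanti : Antitone F := by
    intro a b hab
    rw [hFG a, hFG b]
    exact iSup₂_le fun η hη => le_iSup₂_of_le η (le_trans hab hη) le_rfl
  refine ⟨S, ?_, ?_, ?_⟩
  · intro γ
    by_cases hT : (S.filter (fun s => γ ≤ s)).Nonempty
    · left
      have hmem := Finset.min'_mem _ hT
      rw [Finset.mem_filter] at hmem
      refine ⟨_, hmem.1, hmem.2, le_antisymm ?_ (hFanti hmem.2)⟩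
      rw [hFG γ, hFG]
      refine iSup₂_le fun η hη => ?_
      by_cases hηS : η ∈ S
      · have : (S.filter (fun s => γ ≤ s)).min' hT ≤ η :=
          Finset.min'_le _ η (Finset.mem_filter.mpr ⟨hηS, hη⟩)
        exact le_iSup₂_of_le η this le_rfl
      · rw [hout η hηS]; exact bot_le
    · right
      rw [hFG γ]
      refine le_bot_iff.mp (iSup₂_le fun η hη => ?_)
      by_cases hηS : η ∈ S
      · exact absurd ⟨η, Finset.mem_filter.mpr ⟨hηS, hη⟩⟩ hT
      · rw [hout η hηS]
  · intro s _
    refine ⟨⨆ η ∈ (Set.Ici s)ᶜ, G η, ?_, ?_⟩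
    · rw [hFG s]
      exact hind.disjoint_biSup_biSup disjoint_compl_right
    · rw [codisjoint_iff_le_sup, ← htop, hFG s]
      refine iSup_le fun η => ?_
      by_cases h : s ≤ η
      · exact le_sup_of_le_left (le_iSup₂_of_le η h le_rfl)
      · exact le_sup_of_le_right (le_iSup₂_of_le η h le_rfl)
  · obtain ⟨γ₀, hγ₀⟩ : ∃ γ₀ : Γ, ∀ s ∈ S, γ₀ ≤ s := by
      by_cases hSn : S.Nonempty
      · exact ⟨S.min' hSn, fun s hs => S.min'_le s hs⟩
      · rw [Finset.not_nonempty_iff_eq_empty] at hSn
        obtain ⟨γ⟩ := ‹Nonempty Γ›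
        exact ⟨γ, fun s hs => by simp [hSn] at hs⟩
    refine ⟨γ₀, ?_⟩
    rw [hFG γ₀, ← top_le_iff, ← htop]
    refine iSup_le fun η => ?_
    by_cases hηS : η ∈ S
    · exact le_iSup₂_of_le η (hγ₀ η hηS) le_rfl
    · rw [hout η hηS]; exact bot_le

end general

section pi
variable {R : Type*} [CommRing R] {A : Type*} [Fintype A] {M : A → Type*}
  [∀ a, AddCommGroup (M a)] [∀ a, Module R (M a)]

omit [Fintype A] in
theorem mem_iff_single [DecidableEq A] (p : ∀ a, Submodule R (M a)) (a : A) (x : M a) :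
    x ∈ p a ↔ Pi.single a x ∈ Submodule.pi Set.univ p := by
  constructor
  · intro hx b _
    by_cases hb : b = a
    · subst hb; simpa using hx
    · rw [Pi.single_eq_of_ne hb]; exact zero_mem _
  · intro h
    have := h a (Set.mem_univ a)
    simpa using this

theorem pi_inj {p q : ∀ a, Submodule R (M a)}
    (h : Submodule.pi Set.univ p = Submodule.pi Set.univ q) (a : A) : p a = q a := by
  classical
  ext x
  rw [mem_iff_single p a x, mem_iff_single q a x, h]

theorem compl_factor (p : ∀ a, Submodule R (M a)) (C : Submodule R (∀ a, M a))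
    (hC : IsCompl (Submodule.pi Set.univ p) C) (a : A) : ∃ Ca, IsCompl (p a) Ca := by
  classical
  let π := Submodule.projectionOnto (Submodule.pi Set.univ p) C hC
  let f : M a →ₗ[R] p a :=
    LinearMap.codRestrict (p a)
      (LinearMap.proj a ∘ₗ (Submodule.pi Set.univ p).subtype ∘ₗ π ∘ₗ LinearMap.single R M a)
      (fun x => (π (Pi.single a x)).2 a (Set.mem_univ a))
  refine ⟨LinearMap.ker f, LinearMap.isCompl_of_proj ?_⟩
  intro x
  apply Subtype.ext
  have hx : Pi.single a (x : M a) ∈ Submodule.pi Set.univ p := (mem_iff_single p a x).mp x.2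
  have h1 : π (Pi.single a (x : M a)) = ⟨Pi.single a (x : M a), hx⟩ :=
    Submodule.projectionOnto_apply_of_mem_left hC hx
  show (π (Pi.single a (x : M a))).1 a = x
  rw [h1]
  simp

theorem lemC {Γ : Type*} [LinearOrder Γ] (F : ∀ a, Γ → Submodule R (M a)) (S : Finset Γ)
    (h : (∀ γ, (∃ s ∈ S, γ ≤ s ∧ Submodule.pi Set.univ (fun a => F a γ)
            = Submodule.pi Set.univ (fun a => F a s)) ∨
          Submodule.pi Set.univ (fun a => F a γ) = ⊥) ∧
      (∀ s ∈ S, ∃ C, IsCompl (Submodule.pi Set.univ (fun a => F a s)) C) ∧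
      ∃ γ₀, Submodule.pi Set.univ (fun a => F a γ₀) = ⊤) (a : A) :
    (∀ γ, (∃ s ∈ S, γ ≤ s ∧ F a γ = F a s) ∨ F a γ = ⊥) ∧
      (∀ s ∈ S, ∃ C, IsCompl (F a s) C) ∧ ∃ γ₀, F a γ₀ = ⊤ := by
  obtain ⟨h1, h2, γ₀, h3⟩ := h
  refine ⟨fun γ => ?_, fun s hs => ?_, γ₀, ?_⟩
  · rcases h1 γ with ⟨s, hs, hγs, heq⟩ | hbot
    · exact Or.inl ⟨s, hs, hγs, pi_inj heq a⟩
    · right
      have hbot' : Submodule.pi Set.univ (fun a => F a γ)
          = Submodule.pi Set.univ (fun a => (⊥ : Submodule R (M a))) :=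
        hbot.trans Submodule.pi_univ_bot.symm
      exact pi_inj hbot' a
  · obtain ⟨C, hC⟩ := h2 s hs
    exact compl_factor _ C hC a
  · have h3' : Submodule.pi Set.univ (fun a => F a γ₀)
        = Submodule.pi Set.univ (fun a => (⊤ : Submodule R (M a))) :=
      h3.trans (Submodule.pi_top Set.univ).symm
    exact pi_inj h3' a

theorem pi_iSup {ι : Type*} (p : ∀ a, ι → Submodule R (M a)) (P : ι → Prop) :
    Submodule.pi Set.univ (fun a => ⨆ i, ⨆ (_ : P i), p a i)
      = ⨆ i, ⨆ (_ : P i), Submodule.pi Set.univ (fun a => p a i) := by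
  classical
  apply le_antisymm
  · intro x hx
    rw [← Finset.univ_sum_single x]
    refine Submodule.sum_mem _ fun a _ => ?_
    have h1 : Pi.single a (x a) ∈
        Submodule.map (LinearMap.single R M a) (⨆ i, ⨆ (_ : P i), p a i) :=
      Submodule.mem_map_of_mem (f := LinearMap.single R M a) (hx a trivial)
    simp_rw [Submodule.map_iSup] at h1
    refine SetLike.le_def.mp (iSup₂_mono fun i _ => ?_) h1
    exact Submodule.map_le_iff_le_comap.mpr
      (Submodule.le_comap_single_pi (fun a => p a i) (I := Set.univ) (i := a))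
  · exact iSup₂_le fun i hi => Submodule.pi_mono fun a _ => le_iSup₂_of_le i hi le_rfl

omit [Fintype A] in
theorem pi_disjoint (p q : ∀ a, Submodule R (M a)) (h : ∀ a, Disjoint (p a) (q a)) :
    Disjoint (Submodule.pi Set.univ p) (Submodule.pi Set.univ q) := by
  rw [Submodule.disjoint_def]
  intro x hx hx'
  funext a
  exact (Submodule.disjoint_def.mp (h a)) (x a) (hx a trivial) (hx' a trivial)

theorem main_mpr {Γ : Type*} [LinearOrder Γ] (F : ∀ a, Γ → Submodule R (M a))
    (h : ∀ a, ∃ G : Γ → Submodule R (M a), DirectSum.IsInternal G ∧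
      ∀ γ, F a γ = ⨆ η ∈ Set.Ici γ, G η) :
    ∃ G : Γ → Submodule R (∀ a, M a), DirectSum.IsInternal G ∧
        ∀ γ, Submodule.pi Set.univ (fun a => F a γ) = ⨆ η ∈ Set.Ici γ, G η := by
  classical
  choose G hG hFG using h
  simp only [DirectSum.isInternal_submodule_iff_iSupIndep_and_iSup_eq_top] at hG
  refine ⟨fun γ => Submodule.pi Set.univ (fun a => G a γ), ?_, ?_⟩
  · rw [DirectSum.isInternal_submodule_iff_iSupIndep_and_iSup_eq_top]
    constructor
    · intro γ
      have h1 : Submodule.pi Set.univ (fun a => ⨆ η, ⨆ (_ : η ≠ γ), G a η)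
          = ⨆ η, ⨆ (_ : η ≠ γ), Submodule.pi Set.univ (fun a => G a η) :=
        pi_iSup (fun a η => G a η) (fun η => η ≠ γ)
      show Disjoint (Submodule.pi Set.univ (fun a => G a γ))
        (⨆ η, ⨆ (_ : η ≠ γ), Submodule.pi Set.univ (fun a => G a η))
      rw [← h1]
      exact pi_disjoint _ _ (fun a => (hG a).1 γ)
    · have h1 : Submodule.pi Set.univ (fun a => ⨆ η, ⨆ (_ : True), G a η)
          = ⨆ η, ⨆ (_ : True), Submodule.pi Set.univ (fun a => G a η) :=
        pi_iSup (fun a η => G a η) (fun _ => True)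
      simp only [iSup_true] at h1
      show (⨆ η, Submodule.pi Set.univ (fun a => G a η)) = ⊤
      rw [← h1]
      have : (fun a => ⨆ η, G a η) = fun a => (⊤ : Submodule R (M a)) :=
        funext fun a => (hG a).2
      rw [this, Submodule.pi_top]
  · intro γ
    have h1 : Submodule.pi Set.univ (fun a => ⨆ η, ⨆ (_ : η ∈ Set.Ici γ), G a η)
        = ⨆ η, ⨆ (_ : η ∈ Set.Ici γ), Submodule.pi Set.univ (fun a => G a η) :=
      pi_iSup (fun a η => G a η) (fun η => η ∈ Set.Ici γ)
    show Submodule.pi Set.univ (fun a => F a γ)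
      = ⨆ η, ⨆ (_ : η ∈ Set.Ici γ), Submodule.pi Set.univ (fun a => G a η)
    rw [← h1]
    have : (fun a => F a γ) = fun a => ⨆ η, ⨆ (_ : η ∈ Set.Ici γ), G a η :=
      funext fun a => hFG a γ
    rw [this]

theorem main_mp {Γ : Type*} [LinearOrder Γ] [Nonempty Γ] [∀ a, Module.Finite R (M a)]
    (F : ∀ a, Γ → Submodule R (M a)) (hF : ∀ a, Antitone (F a))
    (h : ∃ G : Γ → Submodule R (∀ a, M a), DirectSum.IsInternal G ∧
        ∀ γ, Submodule.pi Set.univ (fun a => F a γ) = ⨆ η ∈ Set.Ici γ, G η) (a : A) :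
    ∃ G : Γ → Submodule R (M a), DirectSum.IsInternal G ∧
      ∀ γ, F a γ = ⨆ η ∈ Set.Ici γ, G η := by
  classical
  obtain ⟨G, hG, hFG⟩ := h
  obtain ⟨S, hcrit⟩ := lemA G hG (fun γ => Submodule.pi Set.univ (fun a => F a γ)) hFG
  obtain ⟨ha', hc, γ₀, htop⟩ := lemC F S hcrit a
  have ha : ∀ γ, F a γ = ⨆ s ∈ S, ⨆ (_ : γ ≤ s), F a s := by
    intro γ
    apply le_antisymm
    · rcases ha' γ with ⟨s, hs, hγs, heq⟩ | hbot
      · rw [heq]; exact le_iSup₂_of_le s hs (le_iSup_of_le hγs le_rfl)
      · rw [hbot]; exact bot_le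
    · exact iSup₂_le fun s _ => iSup_le fun hγs => hF a hγs
  obtain ⟨Ga, hind, _, hGa⟩ := lemB S (F a) (hF a) ha hc
  refine ⟨Ga, ?_, hGa⟩
  rw [DirectSum.isInternal_submodule_iff_iSupIndep_and_iSup_eq_top]
  refine ⟨hind, top_le_iff.mp ?_⟩
  rw [← htop, hGa γ₀]
  exact iSup₂_le fun η _ => le_iSup Ga η

end pi

end S19158aux

/-- In affine form, let Γ be a non-trivial totally ordered commutative group, R a commutative ring and
(M_a) a finite family of finitely generated projective R-modules, each carrying a non-increasing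
Γ-indexed family of submodules F_a; give M = Π_a M_a the family F^γ = Π_a F_a^γ. Then F is split by
a Γ-grading of M (an internal direct sum decomposition M = ⊕_γ G_γ with F^γ = Σ_{η ≥ γ} G_η for all
γ) if and only if each F_a is split by a Γ-grading of M_a. (The published statement is for finite
locally free sheaves on a scheme, where a filtration counts as split when it is split by a grading
locally on the scheme; this row is the affine case, in which that is the same as being split by one
global grading.) -/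
theorem result
    {Γ : Type w} [AddCommGroup Γ] [LinearOrder Γ] [IsOrderedAddMonoid Γ] [Nontrivial Γ]
    {R : Type u} [CommRing R] {A : Type v} [Fintype A] (M : A → Type v) [∀ a, AddCommGroup (M a)] [∀ a, Module R (M a)]
    [∀ a, Module.Finite R (M a)] [∀ a, Module.Projective R (M a)]
    (F : ∀ a, Γ → Submodule R (M a)) (hF : ∀ a, Antitone (F a)) :
    (∃ G : Γ → Submodule R (∀ a, M a), DirectSum.IsInternal G ∧
        ∀ γ, Submodule.pi Set.univ (fun a => F a γ) = ⨆ η ∈ Set.Ici γ, G η) ↔
    ∀ a, ∃ G : Γ → Submodule R (M a), DirectSum.IsInternal G ∧ ∀ γ, F a γ = ⨆ η ∈ Set.Ici γ, G η := by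
  classical
  constructor
  · intro h a
    exact S19158aux.main_mp F hF h a
  · intro h
    exact S19158aux.main_mpr F h

end Groth.Agent.S19158
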