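import Groth.Statements.S19167
import Mathlib

set_option autoImplicit false
universe u v
open ProCompl

namespace Groth.Agent.S19167

open Topology in
/-- Let i : A → B be an injective continuous homomorphism of topological abelian groups inducing the
topology of A from that of B (a strict injection), with open image. Then every character χ : A → ℚ/ℤ
with open kernel extends along i to a character ψ : B → ℚ/ℤ with open kernel. Here ℚ/ℤ is regarded
as a discrete group, so that continuity of a character means that its kernel is open. -/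
theorem result
    {A : Type u} {B : Type v} [AddCommGroup A] [TopologicalSpace A] [IsTopologicalAddGroup A]
    [AddCommGroup B] [TopologicalSpace B] [IsTopologicalAddGroup B]
    (i : A →+ B) (hi : Continuous i) (hinj : Function.Injective i) (hind : IsInducing i)
    (hopen : IsOpen (Set.range i))
    (χ : A →+ ℚ ⧸ AddSubgroup.zmultiples (1 : ℚ)) (hχ : IsOpen (χ.ker : Set A)) :
    ∃ ψ : B →+ ℚ ⧸ AddSubgroup.zmultiples (1 : ℚ), IsOpen (ψ.ker : Set B) ∧ ψ.comp i = χ := by
  classical
  haveI : DivisibleBy (ℚ ⧸ AddSubgroup.zmultiples (1 : ℚ)) ℤ :=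
    Function.Surjective.divisibleBy (QuotientAddGroup.mk' (AddSubgroup.zmultiples (1 : ℚ)))
      (QuotientAddGroup.mk'_surjective _) (fun a n => map_zsmul _ n a)
  obtain ⟨ψ, hψ⟩ := (Module.Baer.of_divisible
    (ℚ ⧸ AddSubgroup.zmultiples (1 : ℚ))).extension_property_addMonoidHom i hinj χ
  refine ⟨ψ, ?_, hψ⟩
  have hoe : IsOpenEmbedding i := ⟨⟨hind, hinj⟩, hopen⟩
  have hopen' : IsOpen (i '' (χ.ker : Set A)) := hoe.isOpenMap _ hχ
  have hsub : i '' (χ.ker : Set A) ⊆ (ψ.ker : Set B) := by
    rintro _ ⟨a, ha, rfl⟩
    change ψ (i a) = 0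
    have h1 := DFunLike.congr_fun hψ a
    simp only [AddMonoidHom.comp_apply] at h1
    rw [h1]
    exact ha
  exact AddSubgroup.isOpen_of_mem_nhds _
    (Filter.mem_of_superset (hopen'.mem_nhds ⟨0, χ.ker.zero_mem, map_zero i⟩) hsub)

end Groth.Agent.S19167
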