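-- Statement S19169.
import Groth.Statements.S19169
import Mathlib
import Groth.Agent.Lib.Helper1.TDLC

set_option autoImplicit false
universe u
open ProCompl

namespace Groth.Agent.S19169

/-- Let B be a Hausdorff, locally compact, totally disconnected topological abelian group which is
compactly generated, i.e. generated as a group by a compact subset. Then the open subgroups of
finite index of B have trivial intersection: every nonzero b lies outside some open subgroup of
finite index. Equivalently, the natural map from B to its completion with respect to open subgroups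
of finite index is injective. -/
theorem result
    {B : Type u} [AddCommGroup B] [TopologicalSpace B] [IsTopologicalAddGroup B]
    [T2Space B] [LocallyCompactSpace B] [TotallyDisconnectedSpace B]
    (hcg : ∃ K : Set B, IsCompact K ∧ AddSubgroup.closure K = ⊤) (b : B) (hb : b ≠ 0) :
    ∃ B' : AddSubgroup B, IsOpen (B' : Set B) ∧ B'.FiniteIndex ∧ b ∉ B' := by
  classical
  obtain ⟨K, hK, hgen⟩ := hcg
  obtain ⟨H, hHo, -, hHsub⟩ := Groth.Agent.Lib.Helper1.TDLC.exists_open_compact_subgroup
    (B := B) (O := {b}ᶜ) isOpen_compl_singleton (by simpa using hb.symm)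
  have hbH : b ∉ H := fun h => hHsub h rfl
  haveI := Groth.Agent.Lib.Helper1.TDLC.fg_quotient_of_compact_generated hK hgen H hHo
  have hb' : (QuotientAddGroup.mk b : B ⧸ H) ≠ 0 := by
    rwa [Ne, QuotientAddGroup.eq_zero_iff]
  obtain ⟨F, hF, hbF⟩ := Groth.Agent.Lib.Helper1.TDLC.exists_finiteIndex_not_mem hb'
  refine ⟨F.comap (QuotientAddGroup.mk' H), ?_, ?_, hbF⟩
  · refine AddSubgroup.isOpen_mono (H₁ := H) ?_ hHo
    intro h hh
    change (QuotientAddGroup.mk h : B ⧸ H) ∈ F
    rw [(QuotientAddGroup.eq_zero_iff h).mpr hh]
    exact F.zero_mem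
  · constructor
    rw [AddSubgroup.index_comap_of_surjective _ (QuotientAddGroup.mk'_surjective H)]
    exact hF.index_ne_zero

end Groth.Agent.S19169
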