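import Groth.Statements.S19170
import Mathlib

set_option autoImplicit false
universe u
open ProCompl

namespace Groth.Agent.S19170

/-- Let B be a topological abelian group generated as a group by a compact subset. Then every character
χ : B → ℚ/ℤ with open kernel (a continuous character for discrete ℚ/ℤ) has kernel of finite index;
consequently each such character factors through B^∧, the completion of B taken along its
finite-index open subgroups, i.e. (B^∧)^D = B^D. (The published statement assumes moreover that B is
Hausdorff, locally compact and totally disconnected; only compact generation is needed for this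
assertion, so those assumptions are dropped here.) -/
theorem result
    {B : Type u} [AddCommGroup B] [TopologicalSpace B] [IsTopologicalAddGroup B]
    (hcg : ∃ K : Set B, IsCompact K ∧ AddSubgroup.closure K = ⊤)
    (χ : B →+ ℚ ⧸ AddSubgroup.zmultiples (1 : ℚ)) (hχ : IsOpen (χ.ker : Set B)) : χ.ker.FiniteIndex := by
  classical
  obtain ⟨K, hK, hgen⟩ := hcg
  -- χ '' K is finite
  have hfin : (χ '' K).Finite := by
    have hopenU : ∀ b : B, IsOpen {x : B | χ x = χ b} := by
      intro b
      have h1 : {x : B | χ x = χ b} = (fun x => x - b) ⁻¹' (χ.ker : Set B) := by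
        ext x
        simp only [Set.mem_ofPred_eq, Set.mem_preimage, SetLike.mem_coe, AddMonoidHom.mem_ker,
          map_sub, sub_eq_zero]
      rw [h1]
      exact hχ.preimage (continuous_id.sub continuous_const)
    obtain ⟨T, hT⟩ := hK.elim_finite_subcover (fun b : B => {x : B | χ x = χ b}) hopenU
      (fun x _ => Set.mem_iUnion.mpr ⟨x, rfl⟩)
    apply Set.Finite.subset (T.image χ).finite_toSet
    rintro _ ⟨x, hx, rfl⟩
    obtain ⟨b, hb⟩ := Set.mem_iUnion.mp (hT hx)
    obtain ⟨hbT, hxb⟩ := Set.mem_iUnion.mp hb
    simp only [Finset.coe_image, Set.mem_image, Finset.mem_coe]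
    exact ⟨b, hbT, hxb.symm⟩
  -- range χ is finitely generated
  have hrange : χ.range = AddSubgroup.closure (χ '' K) := by
    rw [← AddMonoidHom.map_closure, hgen, AddMonoidHom.range_eq_map]
  have hfg : χ.range.FG := by
    rw [AddSubgroup.fg_iff]
    exact ⟨χ '' K, hrange.symm, hfin⟩
  haveI : AddGroup.FG χ.range := (AddGroup.fg_iff_addSubgroup_fg _).mpr hfg
  -- torsion
  have htors : IsAddTorsion (ℚ ⧸ AddSubgroup.zmultiples (1 : ℚ)) := by
    intro x
    obtain ⟨q, rfl⟩ := QuotientAddGroup.mk_surjective x
    rw [isOfFinAddOrder_iff_nsmul_eq_zero]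
    refine ⟨q.den, q.den_pos, ?_⟩
    have h1 : (q.den • (q : ℚ) : ℚ) = (q.num : ℚ) := by
      rw [nsmul_eq_mul, mul_comm]
      exact Rat.mul_den_eq_num q
    have h3 : (q.den • ((q : ℚ) : ℚ ⧸ AddSubgroup.zmultiples (1 : ℚ))) =
        ((q.den • q : ℚ) : ℚ ⧸ AddSubgroup.zmultiples (1 : ℚ)) := rfl
    rw [h3, h1, QuotientAddGroup.eq_zero_iff]
    exact AddSubgroup.mem_zmultiples_iff.mpr ⟨q.num, by simp⟩
  have htors' : IsAddTorsion χ.range := htors.addSubgroup χ.range
  haveI : Finite χ.range := AddCommGroup.finite_of_fg_isAddTorsion _ htors'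
  haveI : Finite (B ⧸ χ.ker) :=
    Finite.of_equiv _ (QuotientAddGroup.quotientKerEquivRange χ).symm.toEquiv
  exact AddSubgroup.finiteIndex_of_finite_quotient

end Groth.Agent.S19170
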