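-- Statement S19171.
import Groth.Statements.S19171
import Mathlib
import Groth.Agent.Lib.Helper1.TDLC

set_option autoImplicit false
universe u v
open ProCompl

namespace Groth.Agent.S19171

open Topology in
/-- Let B be a Hausdorff, locally compact, totally disconnected topological abelian group generated as a
group by a compact subset, and let i : A → B be an injective continuous homomorphism inducing the
topology of A from that of B (a strict injection) whose image is closed. Then every character χ : A
→ ℚ/ℤ with open kernel extends along i to a character ψ : B → ℚ/ℤ with open kernel; with ℚ/ℤ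
discrete this says that restriction B^D → A^D of continuous characters is surjective, i.e. the dual
of a topological exact sequence 0 → A → B → C → 0 with such B, strict closed i and open p is a short
exact sequence 0 → C^D → B^D → A^D → 0. -/
theorem result
    {A : Type u} {B : Type v} [AddCommGroup A] [TopologicalSpace A] [IsTopologicalAddGroup A]
    [AddCommGroup B] [TopologicalSpace B] [IsTopologicalAddGroup B]
    [T2Space B] [LocallyCompactSpace B] [TotallyDisconnectedSpace B]
    (hcg : ∃ K : Set B, IsCompact K ∧ AddSubgroup.closure K = ⊤)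
    (i : A →+ B) (hi : Continuous i) (hinj : Function.Injective i) (hind : IsInducing i)
    (hcl : IsClosed (Set.range i))
    (χ : A →+ ℚ ⧸ AddSubgroup.zmultiples (1 : ℚ)) (hχ : IsOpen (χ.ker : Set A)) :
    ∃ ψ : B →+ ℚ ⧸ AddSubgroup.zmultiples (1 : ℚ), IsOpen (ψ.ker : Set B) ∧ ψ.comp i = χ := by
  classical
  obtain ⟨O, hO, hOeq⟩ := hind.isOpen_iff.mp hχ
  have h0O : (0 : B) ∈ O := by
    have : (0 : A) ∈ i ⁻¹' O := by rw [hOeq]; exact χ.ker.zero_mem
    simpa using this
  obtain ⟨H, hHo, -, hHO⟩ := Groth.Agent.Lib.Helper1.TDLC.exists_open_compact_subgroup hO h0O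
  have hN : H.comap i ≤ χ.ker := by
    intro a ha
    have : a ∈ i ⁻¹' O := hHO ha
    rwa [hOeq] at this
  let χbar : A ⧸ H.comap i →+ ℚ ⧸ AddSubgroup.zmultiples (1 : ℚ) :=
    QuotientAddGroup.lift (H.comap i) χ hN
  let ibar : A ⧸ H.comap i →+ B ⧸ H := QuotientAddGroup.map (H.comap i) H i le_rfl
  have hibar : Function.Injective ibar := by
    rw [injective_iff_map_eq_zero]
    intro x hx
    obtain ⟨a, rfl⟩ := QuotientAddGroup.mk_surjective x
    have hx' : (QuotientAddGroup.mk (i a) : B ⧸ H) = 0 := hx
    rw [QuotientAddGroup.eq_zero_iff] at hx'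
    exact (QuotientAddGroup.eq_zero_iff a).mpr hx'
  haveI : DivisibleBy (ℚ ⧸ AddSubgroup.zmultiples (1 : ℚ)) ℤ :=
    Function.Surjective.divisibleBy (QuotientAddGroup.mk' (AddSubgroup.zmultiples (1 : ℚ)))
      (QuotientAddGroup.mk'_surjective _) (fun a n => map_zsmul _ n a)
  obtain ⟨ψbar, hψbar⟩ := (Module.Baer.of_divisible
    (ℚ ⧸ AddSubgroup.zmultiples (1 : ℚ))).extension_property_addMonoidHom ibar hibar χbar
  refine ⟨ψbar.comp (QuotientAddGroup.mk' H), ?_, ?_⟩
  · refine AddSubgroup.isOpen_mono (H₁ := H) ?_ hHo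
    intro h hh
    rw [AddMonoidHom.mem_ker, AddMonoidHom.comp_apply]
    have : (QuotientAddGroup.mk' H) h = 0 := (QuotientAddGroup.eq_zero_iff h).mpr hh
    rw [this, map_zero]
  · ext a
    have h1 := DFunLike.congr_fun hψbar (QuotientAddGroup.mk a)
    simp only [AddMonoidHom.comp_apply] at h1 ⊢
    exact h1

end Groth.Agent.S19171
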