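-- Statement S19172.
import Groth.Statements.S19172
import Mathlib

set_option autoImplicit false
universe u v w
open ProCompl

namespace Groth.Agent.S19172

open W4c61motalbduality in
/-- lifting compatible families along a continuous homomorphism, by compactness -/
theorem exists_lift {A : Type u} {B : Type v}
    [AddCommGroup A] [TopologicalSpace A] [IsTopologicalAddGroup A]
    [AddCommGroup B] [TopologicalSpace B] [IsTopologicalAddGroup B]
    (f : A →+ B) (hf : Continuous f) (y : FICompl B)
    (h : ∀ V : OpenFI B, ∃ a : A, y.1 V = QuotientAddGroup.mk (f a)) :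
    ∃ x : FICompl A, FICompl.map f hf x = y := by
  classical
  haveI : ∀ U : OpenFI A, DiscreteTopology (A ⧸ U.toAddSubgroup) :=
    fun U => QuotientAddGroup.discreteTopology U.isOpen'
  haveI : ∀ V : OpenFI B, DiscreteTopology (B ⧸ V.toAddSubgroup) :=
    fun V => QuotientAddGroup.discreteTopology V.isOpen'
  haveI : ∀ U : OpenFI A, Finite (A ⧸ U.toAddSubgroup) := fun U => by
    haveI := U.finiteIndex'
    exact AddSubgroup.finite_quotient_of_finiteIndex
  -- compatible families form a closed set
  have hCpt : IsClosed ((FICompl A : AddSubgroup _) : Set ((U : OpenFI A) → A ⧸ U.toAddSubgroup)) := by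
    have : ((FICompl A : AddSubgroup _) : Set ((U : OpenFI A) → A ⧸ U.toAddSubgroup)) =
        ⋂ (U : OpenFI A) (V : OpenFI A) (h : U.toAddSubgroup ≤ V.toAddSubgroup),
          {x | QuotientAddGroup.map U.toAddSubgroup V.toAddSubgroup (AddMonoidHom.id A) h (x U)
            = x V} := by
      ext x
      simp only [Set.mem_iInter, Set.mem_ofPred_eq]
      rfl
    rw [this]
    exact isClosed_iInter fun U => isClosed_iInter fun V => isClosed_iInter fun h =>
      isClosed_eq ((continuous_of_discreteTopology).comp (continuous_apply U)) (continuous_apply V)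
  let K : OpenFI B → Set ((U : OpenFI A) → A ⧸ U.toAddSubgroup) := fun V =>
    ((FICompl A : AddSubgroup _) : Set _) ∩
      {x | QuotientAddGroup.map (V.comap f hf).toAddSubgroup V.toAddSubgroup f (V.comap_le f)
        (x (V.comap f hf)) = y.1 V}
  have hKcl : ∀ V, IsClosed (K V) := fun V =>
    hCpt.inter (isClosed_eq ((continuous_of_discreteTopology).comp (continuous_apply _))
      continuous_const)
  have hKne : ∀ V, (K V).Nonempty := by
    intro V
    obtain ⟨a, ha⟩ := h V
    refine ⟨(toFICompl A a).1, (toFICompl A a).2, ?_⟩
    change QuotientAddGroup.map _ _ f _ (QuotientAddGroup.mk a) = y.1 V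
    rw [QuotientAddGroup.map_mk, ha]
  have hKmono : ∀ V₃ V₁ : OpenFI B, V₃.toAddSubgroup ≤ V₁.toAddSubgroup → K V₃ ⊆ K V₁ := by
    intro V₃ V₁ h31 x hx
    obtain ⟨hx1, hx2⟩ := hx
    refine ⟨hx1, ?_⟩
    have hc := hx1 (V₃.comap f hf) (V₁.comap f hf) (OpenFI.comap_mono f hf h31)
    have hy := y.2 V₃ V₁ h31
    change QuotientAddGroup.map _ _ f _ (x (V₁.comap f hf)) = y.1 V₁
    have hx2' : QuotientAddGroup.map (V₃.comap f hf).toAddSubgroup V₃.toAddSubgroup f
        (V₃.comap_le f) (x (V₃.comap f hf)) = y.1 V₃ := hx2
    rw [← hc, ← hy, ← hx2']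
    obtain ⟨a, ha⟩ := QuotientAddGroup.mk_surjective (x (V₃.comap f hf))
    rw [← ha]
    simp only [QuotientAddGroup.map_mk, AddMonoidHom.id_apply]
  have hdir : Directed (· ⊇ ·) K := by
    intro V₁ V₂
    haveI := V₁.finiteIndex'
    haveI := V₂.finiteIndex'
    refine ⟨⟨V₁.toAddSubgroup ⊓ V₂.toAddSubgroup, V₁.isOpen'.inter V₂.isOpen', inferInstance⟩,
      hKmono _ _ inf_le_left, hKmono _ _ inf_le_right⟩
  haveI : Nonempty (OpenFI B) := ⟨⟨⊤, isOpen_univ, inferInstance⟩⟩
  obtain ⟨x, hx⟩ := IsCompact.nonempty_iInter_of_directed_nonempty_isCompact_isClosed K hdir hKne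
    (fun V => (hKcl V).isCompact) hKcl
  rw [Set.mem_iInter] at hx
  have hxC : x ∈ FICompl A := (hx ⟨⊤, isOpen_univ, inferInstance⟩).1
  refine ⟨⟨x, hxC⟩, ?_⟩
  apply Subtype.ext
  funext V
  exact (hx V).2

open W4c61motalbduality in
/-- Let i : A → B and p : B → C be continuous homomorphisms of topological abelian groups with p
surjective and open and with the kernel of p equal to the image of i. Then the induced sequence of
completions with respect to open subgroups of finite index, A^∧ → B^∧ → C^∧ → 0, is exact: the map
B^∧ → C^∧ is surjective and its kernel is the image of A^∧. The completion is the group of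
compatible families of residues modulo all open subgroups of finite index. (The published statement
takes i injective, as the first map of an exact sequence 0 → A → B → C → 0 of topological abelian
groups; here it is only assumed that the image of i is the kernel of p, which is all the proof
uses.) -/
theorem result
    {A : Type u} {B : Type v} {C : Type w}
    [AddCommGroup A] [TopologicalSpace A] [IsTopologicalAddGroup A]
    [AddCommGroup B] [TopologicalSpace B] [IsTopologicalAddGroup B]
    [AddCommGroup C] [TopologicalSpace C] [IsTopologicalAddGroup C]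
    (i : A →+ B) (hi : Continuous i) (p : B →+ C) (hp : Continuous p)
    (hpo : IsOpenMap p) (hps : Function.Surjective p) (hex : p.ker = i.range) :
    Function.Surjective (FICompl.map p hp) ∧ (FICompl.map p hp).ker = (FICompl.map i hi).range := by
  classical
  have hpi : ∀ a : A, p (i a) = 0 := by
    intro a
    have : i a ∈ p.ker := by rw [hex]; exact ⟨a, rfl⟩
    exact this
  refine ⟨?_, ?_⟩
  · intro z
    refine exists_lift p hp z ?_
    intro W
    obtain ⟨c, hc⟩ := QuotientAddGroup.mk_surjective (z.1 W)
    obtain ⟨b, rfl⟩ := hps c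
    exact ⟨b, hc.symm⟩
  · apply le_antisymm
    · intro y hy
      rw [AddMonoidHom.mem_ker] at hy
      obtain ⟨x, hx⟩ := exists_lift i hi y (by
        intro V
        -- the open finite index subgroup p(V) of C
        haveI := V.finiteIndex'
        let W : OpenFI C := ⟨V.toAddSubgroup.map p, by
            rw [AddSubgroup.coe_map]; exact hpo _ V.isOpen', by
          constructor
          intro h0
          have := AddSubgroup.index_map_dvd V.toAddSubgroup hps
          rw [h0, zero_dvd_iff] at this
          exact V.finiteIndex'.index_ne_zero this⟩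
        have hVW : V.toAddSubgroup ≤ (W.comap p hp).toAddSubgroup := by
          intro v hv
          exact ⟨v, hv, rfl⟩
        have hy' : (FICompl.map p hp y).1 W = 0 := by rw [hy]; rfl
        have hy'' : QuotientAddGroup.map (W.comap p hp).toAddSubgroup W.toAddSubgroup p
            (W.comap_le p) (y.1 (W.comap p hp)) = 0 := hy'
        have hc := y.2 V (W.comap p hp) hVW
        obtain ⟨b', hb'⟩ := QuotientAddGroup.mk_surjective (y.1 V)
        rw [← hc, ← hb', QuotientAddGroup.map_mk, QuotientAddGroup.map_mk,
          QuotientAddGroup.eq_zero_iff] at hy''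
        obtain ⟨v, hv, hpv⟩ := hy''
        have hker : b' - v ∈ p.ker := by
          rw [AddMonoidHom.mem_ker, map_sub]
          simp only [AddMonoidHom.id_apply] at hpv
          rw [hpv, sub_self]
        rw [hex] at hker
        obtain ⟨a, ha⟩ := hker
        refine ⟨a, ?_⟩
        rw [← hb', ha]
        refine (QuotientAddGroup.eq).mpr ?_
        have : -b' + (b' - v) = -v := by abel
        rw [this]
        exact V.toAddSubgroup.neg_mem hv)
      exact ⟨x, hx⟩
    · rintro _ ⟨x, rfl⟩
      rw [AddMonoidHom.mem_ker]
      apply Subtype.ext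
      funext W
      change QuotientAddGroup.map _ _ p _ (QuotientAddGroup.map _ _ i _
        (x.1 ((W.comap p hp).comap i hi))) = 0
      obtain ⟨a, ha⟩ := QuotientAddGroup.mk_surjective (x.1 ((W.comap p hp).comap i hi))
      rw [← ha, QuotientAddGroup.map_mk, QuotientAddGroup.map_mk, hpi]
      rfl

end Groth.Agent.S19172
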