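-- Statement S19173.
import Groth.Statements.S19173
import Mathlib
import Groth.Agent.Lib.Helper1.TDLC

set_option autoImplicit false
universe u v
open ProCompl

namespace Groth.Agent.S19173

open W4c61motalbduality Topology in
/-- Let B be a Hausdorff, locally compact, totally disconnected topological abelian group generated as a
group by a compact subset, and let i : A → B be an injective continuous homomorphism inducing the
topology of A from that of B (a strict injection) with closed image. Then the map induced by i on
completions with respect to open subgroups of finite index is injective; together with right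
exactness for open surjections this makes 0 → A^∧ → B^∧ → C^∧ → 0 exact for a topological exact
sequence 0 → A → B → C → 0 with such B, strict closed i and open p. -/
theorem result
    {A : Type u} {B : Type v} [AddCommGroup A] [TopologicalSpace A] [IsTopologicalAddGroup A]
    [AddCommGroup B] [TopologicalSpace B] [IsTopologicalAddGroup B]
    [T2Space B] [LocallyCompactSpace B] [TotallyDisconnectedSpace B]
    (hcg : ∃ K : Set B, IsCompact K ∧ AddSubgroup.closure K = ⊤)
    (i : A →+ B) (hi : Continuous i) (hinj : Function.Injective i) (hind : IsInducing i)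
    (hcl : IsClosed (Set.range i)) :
    Function.Injective (FICompl.map i hi) := by
  classical
  obtain ⟨K, hK, hgen⟩ := hcg
  have key : ∀ U : OpenFI A, ∃ V : OpenFI B,
      (V.comap i hi).toAddSubgroup ≤ U.toAddSubgroup := by
    intro U
    obtain ⟨O, hO, hOeq⟩ := hind.isOpen_iff.mp U.isOpen'
    have h0O : (0 : B) ∈ O := by
      have : (0 : A) ∈ i ⁻¹' O := by rw [hOeq]; exact U.toAddSubgroup.zero_mem
      simpa using this
    obtain ⟨H, hHo, -, hHO⟩ := Groth.Agent.Lib.Helper1.TDLC.exists_open_compact_subgroup hO h0O
    have hHU : H.comap i ≤ U.toAddSubgroup := by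
      intro a ha
      have : a ∈ i ⁻¹' O := hHO ha
      rw [hOeq] at this
      exact this
    obtain ⟨H', hH'⟩ : ∃ H' : AddSubgroup B, H' = H ⊔ U.toAddSubgroup.map i := ⟨_, rfl⟩
    have hH'o : IsOpen (H' : Set B) :=
      AddSubgroup.isOpen_mono (H₁ := H) (by rw [hH']; exact le_sup_left) hHo
    haveI := Groth.Agent.Lib.Helper1.TDLC.fg_quotient_of_compact_generated hK hgen H' hH'o
    haveI := U.finiteIndex'
    haveI : Finite (A ⧸ U.toAddSubgroup) := AddSubgroup.finite_quotient_of_finiteIndex
    have hUH' : U.toAddSubgroup ≤ H'.comap i := by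
      intro u hu
      change i u ∈ H'
      rw [hH']
      exact AddSubgroup.mem_sup_right ⟨u, hu, rfl⟩
    let ρ : A ⧸ U.toAddSubgroup →+ B ⧸ H' := QuotientAddGroup.map _ _ i hUH'
    obtain ⟨F, hF, hFS⟩ :=
      Groth.Agent.Lib.Helper1.TDLC.exists_finiteIndex_inter_finite (Set.finite_range ρ)
    refine ⟨⟨F.comap (QuotientAddGroup.mk' H'), ?_, ?_⟩, ?_⟩
    · refine AddSubgroup.isOpen_mono (H₁ := H') ?_ hH'o
      intro h hh
      change (QuotientAddGroup.mk h : B ⧸ H') ∈ F
      rw [(QuotientAddGroup.eq_zero_iff h).mpr hh]
      exact F.zero_mem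
    · constructor
      rw [AddSubgroup.index_comap_of_surjective _ (QuotientAddGroup.mk'_surjective H')]
      exact hF.index_ne_zero
    · intro a ha
      have ha' : (QuotientAddGroup.mk (i a) : B ⧸ H') ∈ F := ha
      have h1 : (QuotientAddGroup.mk (i a) : B ⧸ H') = 0 :=
        hFS _ ⟨QuotientAddGroup.mk a, rfl⟩ ha'
      rw [QuotientAddGroup.eq_zero_iff, hH'] at h1
      obtain ⟨h, hh, w, ⟨u, hu, rfl⟩, hsum⟩ := AddSubgroup.mem_sup.mp h1
      have h2 : a - u ∈ H.comap i := by
        change i (a - u) ∈ H
        rw [map_sub, ← hsum]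
        simpa using hh
      have h3 := U.toAddSubgroup.add_mem (hHU h2) hu
      simpa using h3
  rw [injective_iff_map_eq_zero]
  intro x hx
  apply Subtype.ext
  funext U
  obtain ⟨V, hV⟩ := key U
  have h1 : (FICompl.map i hi x).1 V = 0 := by rw [hx]; rfl
  have h1' : QuotientAddGroup.map (V.comap i hi).toAddSubgroup V.toAddSubgroup i
      (V.comap_le i) (x.1 (V.comap i hi)) = 0 := h1
  have h2 : x.1 (V.comap i hi) = 0 := by
    obtain ⟨a, ha⟩ := QuotientAddGroup.mk_surjective (x.1 (V.comap i hi))
    rw [← ha, QuotientAddGroup.map_mk, QuotientAddGroup.eq_zero_iff] at h1'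
    rw [← ha]
    exact (QuotientAddGroup.eq_zero_iff a).mpr h1'
  have h3 := x.2 (V.comap i hi) U hV
  rw [h2, map_zero] at h3
  exact h3.symm

end Groth.Agent.S19173
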