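import Groth.Statements.S19176
import Mathlib

set_option autoImplicit false
universe u
open PlaneCurve

namespace Groth.Agent.S19176

open MvPolynomial in
theorem stair (k : Type u) [Field k] (a b : ℕ) :
    Module.finrank k (MvPolynomial (Fin 2) k ⧸
      Ideal.span ({X 0 ^ a, X 1 ^ b} : Set (MvPolynomial (Fin 2) k))) = a * b := by
  classical
  obtain ⟨expo, hexpo⟩ : ∃ expo : Fin a × Fin b → (Fin 2 →₀ ℕ), ∀ ij, expo ij =
      Finsupp.single 0 (ij.1 : ℕ) + Finsupp.single 1 (ij.2 : ℕ) := ⟨_, fun _ => rfl⟩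
  have hexpo0 : ∀ ij, expo ij 0 = ij.1 := by intro ij; rw [hexpo]; simp
  have hexpo1 : ∀ ij, expo ij 1 = ij.2 := by intro ij; rw [hexpo]; simp
  have hexpo_inj : Function.Injective expo := by
    intro x y hxy
    have h0 := congrArg (fun m => m 0) hxy
    have h1 := congrArg (fun m => m 1) hxy
    simp only [hexpo0, hexpo1] at h0 h1
    exact Prod.ext (Fin.ext h0) (Fin.ext h1)
  obtain ⟨L, hL⟩ : ∃ L : MvPolynomial (Fin 2) k →ₗ[k] (Fin a × Fin b → k),
      ∀ f ij, L f ij = coeff (expo ij) f :=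
    ⟨LinearMap.pi (fun ij => lcoeff k (expo ij)), fun f ij => rfl⟩
  obtain ⟨I, hI⟩ : ∃ I : Ideal (MvPolynomial (Fin 2) k), I =
      Ideal.span ({X 0 ^ a, X 1 ^ b} : Set (MvPolynomial (Fin 2) k)) := ⟨_, rfl⟩
  rw [← hI]
  have hI' : I = Ideal.span ((fun s => monomial s (1 : k)) ''
      ({Finsupp.single 0 a, Finsupp.single 1 b} : Set (Fin 2 →₀ ℕ))) := by
    rw [hI, Set.image_pair, X_pow_eq_monomial, X_pow_eq_monomial]
  have hmem : ∀ f, f ∈ I ↔ ∀ m ∈ f.support, a ≤ m 0 ∨ b ≤ m 1 := by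
    intro f
    rw [hI', mem_ideal_span_monomial_image]
    refine forall₂_congr fun m _ => ?_
    simp only [Set.mem_insert_iff, Set.mem_singleton_iff, exists_eq_or_imp, exists_eq_left,
      Finsupp.single_le_iff]
  have hker : LinearMap.ker L = I.restrictScalars k := by
    ext f
    rw [LinearMap.mem_ker, Submodule.restrictScalars_mem, hmem]
    constructor
    · intro hLf m hm
      by_contra hcon
      push_neg at hcon
      have hm' : m = expo (⟨m 0, hcon.1⟩, ⟨m 1, hcon.2⟩) := by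
        refine Finsupp.ext fun i => ?_
        fin_cases i
        · show m 0 = expo (⟨m 0, hcon.1⟩, ⟨m 1, hcon.2⟩) 0
          rw [hexpo0]
        · show m 1 = expo (⟨m 0, hcon.1⟩, ⟨m 1, hcon.2⟩) 1
          rw [hexpo1]
      have := congrFun hLf (⟨m 0, hcon.1⟩, ⟨m 1, hcon.2⟩)
      rw [hL, ← hm'] at this
      exact (mem_support_iff.mp hm) this
    · intro h
      ext ij
      rw [hL]
      by_contra hne
      have := h (expo ij) (mem_support_iff.mpr hne)
      rw [hexpo0, hexpo1] at this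
      have h1 := ij.1.2
      have h2 := ij.2.2
      omega
  have hsurj : Function.Surjective L := by
    intro g
    refine ⟨∑ ij, monomial (expo ij) (g ij), ?_⟩
    ext ij'
    rw [hL, coeff_sum]
    simp only [coeff_monomial]
    rw [Finset.sum_eq_single ij']
    · rw [if_pos rfl]
    · intro ij _ hne
      rw [if_neg (fun h => hne (hexpo_inj h))]
    · intro h; exact absurd (Finset.mem_univ _) h
  have e1 : (MvPolynomial (Fin 2) k ⧸ I) ≃ₗ[k] (Fin a × Fin b → k) :=
    (Submodule.Quotient.restrictScalarsEquiv k I).symm.trans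
      ((Submodule.quotEquivOfEq _ _ hker.symm).trans (L.quotKerEquivOfSurjective hsurj))
  rw [e1.finrank_eq]
  simp

theorem span_eq_of {R : Type*} [CommRing R] (S T : Set R) (h1 : ∀ x ∈ S, x ∈ Ideal.span T)
    (h2 : ∀ x ∈ T, x ∈ Ideal.span S) : Ideal.span S = Ideal.span T :=
  le_antisymm (Ideal.span_le.mpr h1) (Ideal.span_le.mpr h2)

open MvPolynomial in
/-- Let k be a field of characteristic p (p = 0 allowed) and F = y² − x³ in k[x, y] (x the variable of
index 0, y of index 1). The singular subscheme of the plane curve F = 0, cut out by F and its two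
partial derivatives, is finite over k of degree 4 when p = 2, of degree 3 when p = 3, and of degree
2 otherwise: the k-dimension of k[x, y]/(F, ∂F/∂x, ∂F/∂y) is that number. (The source phrases this
through the complete local ring of a cusp; the row is the computation for the standard cusp y² =
x³.) -/
theorem result (k : Type u) [Field k] (p : ℕ) [CharP k p] :
    Module.finrank k (MvPolynomial (Fin 2) k ⧸ Ideal.span
      ({X 1 ^ 2 - X 0 ^ 3, pderiv 0 (X 1 ^ 2 - X 0 ^ 3), pderiv 1 (X 1 ^ 2 - X 0 ^ 3)} :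
        Set (MvPolynomial (Fin 2) k))) = (if p = 2 then 4 else if p = 3 then 3 else 2) := by
  classical
  have hdx : pderiv 0 (X 1 ^ 2 - X 0 ^ 3 : MvPolynomial (Fin 2) k) = -(C (3 : k) * X 0 ^ 2) := by
    simp [pderiv_X_self, pderiv_X_of_ne]
    exact (map_ofNat C 3).symm
  have hdy : pderiv 1 (X 1 ^ 2 - X 0 ^ 3 : MvPolynomial (Fin 2) k) = C (2 : k) * X 1 := by
    simp [pderiv_X_self, pderiv_X_of_ne]
    exact (map_ofNat C 2).symm
  rw [hdx, hdy]
  have hp1 : p ≠ 1 := CharP.char_ne_one k p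
  have two0 : (2 : k) = 0 ↔ p = 2 := by
    have h2 := CharP.cast_eq_zero_iff k p 2
    rw [Nat.cast_ofNat] at h2
    rw [h2]
    exact ⟨fun h => ((Nat.dvd_prime Nat.prime_two).mp h).resolve_left hp1, fun h => h ▸ dvd_rfl⟩
  have three0 : (3 : k) = 0 ↔ p = 3 := by
    have h3 := CharP.cast_eq_zero_iff k p 3
    rw [Nat.cast_ofNat] at h3
    rw [h3]
    exact ⟨fun h => ((Nat.dvd_prime Nat.prime_three).mp h).resolve_left hp1,
      fun h => h ▸ dvd_rfl⟩
  by_cases hp2 : p = 2
  · rw [if_pos hp2]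
    have e2 : (2 : k) = 0 := two0.mpr hp2
    have e3 : (3 : k) = 1 := by
      have h : (3 : k) = 2 + 1 := by norm_num
      rw [h, e2, zero_add]
    rw [e2, e3, map_zero, zero_mul, map_one, one_mul]
    have hspan : Ideal.span ({X 1 ^ 2 - X 0 ^ 3, -(X 0 ^ 2), 0} : Set (MvPolynomial (Fin 2) k))
        = Ideal.span {X 0 ^ 2, X 1 ^ 2} := by
      apply span_eq_of
      · rintro x (rfl | rfl | rfl)
        · exact Ideal.mem_span_pair.mpr ⟨-X 0, 1, by ring⟩
        · exact Ideal.mem_span_pair.mpr ⟨-1, 0, by ring⟩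
        · exact Ideal.zero_mem _
      · have hF : (X 1 ^ 2 - X 0 ^ 3 : MvPolynomial (Fin 2) k) ∈ Ideal.span
            ({X 1 ^ 2 - X 0 ^ 3, -(X 0 ^ 2), 0} : Set (MvPolynomial (Fin 2) k)) :=
          Ideal.subset_span (by simp)
        have hD : (-(X 0 ^ 2) : MvPolynomial (Fin 2) k) ∈ Ideal.span
            ({X 1 ^ 2 - X 0 ^ 3, -(X 0 ^ 2), 0} : Set (MvPolynomial (Fin 2) k)) :=
          Ideal.subset_span (by simp)
        rintro x (rfl | rfl)
        · have h : (X 0 ^ 2 : MvPolynomial (Fin 2) k) = (-1) * (-(X 0 ^ 2)) := by ring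
          have hm := Ideal.mul_mem_left _ (-1) hD
          rwa [← h] at hm
        · have h : (X 1 ^ 2 : MvPolynomial (Fin 2) k)
              = (X 1 ^ 2 - X 0 ^ 3) + (-X 0) * (-(X 0 ^ 2)) := by ring
          have hm := Ideal.add_mem _ hF (Ideal.mul_mem_left _ (-X 0) hD)
          rwa [← h] at hm
    rw [hspan, stair k 2 2]
  · rw [if_neg hp2]
    have h2ne : (2 : k) ≠ 0 := fun h => hp2 (two0.mp h)
    have hX1 : ∀ J : Ideal (MvPolynomial (Fin 2) k), C (2 : k) * X 1 ∈ J → (X 1 : MvPolynomial (Fin 2) k) ∈ J := by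
      intro J hJ
      have h : (X 1 : MvPolynomial (Fin 2) k) = C (2 : k)⁻¹ * (C (2 : k) * X 1) := by
        rw [← mul_assoc, ← C_mul, inv_mul_cancel₀ h2ne, C_1, one_mul]
      have hm := Ideal.mul_mem_left J (C (2 : k)⁻¹) hJ
      rwa [← h] at hm
    by_cases hp3 : p = 3
    · rw [if_pos hp3]
      have e3 : (3 : k) = 0 := three0.mpr hp3
      rw [e3, map_zero, zero_mul, neg_zero]
      have hspan : Ideal.span ({X 1 ^ 2 - X 0 ^ 3, 0, C (2 : k) * X 1} :
          Set (MvPolynomial (Fin 2) k)) = Ideal.span {X 0 ^ 3, X 1 ^ 1} := by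
        apply span_eq_of
        · rintro x (rfl | rfl | rfl)
          · exact Ideal.mem_span_pair.mpr ⟨-1, X 1, by ring⟩
          · exact Ideal.zero_mem _
          · exact Ideal.mem_span_pair.mpr ⟨0, C (2 : k), by ring⟩
        · have hF : (X 1 ^ 2 - X 0 ^ 3 : MvPolynomial (Fin 2) k) ∈ Ideal.span
              ({X 1 ^ 2 - X 0 ^ 3, 0, C (2 : k) * X 1} : Set (MvPolynomial (Fin 2) k)) :=
            Ideal.subset_span (by simp)
          have hE : (X 1 : MvPolynomial (Fin 2) k) ∈ Ideal.span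
              ({X 1 ^ 2 - X 0 ^ 3, 0, C (2 : k) * X 1} : Set (MvPolynomial (Fin 2) k)) :=
            hX1 _ (Ideal.subset_span (by simp))
          rintro x (rfl | rfl)
          · have h : (X 0 ^ 3 : MvPolynomial (Fin 2) k)
                = (-1) * (X 1 ^ 2 - X 0 ^ 3) + X 1 * X 1 := by ring
            have hm := Ideal.add_mem _ (Ideal.mul_mem_left _ (-1) hF) (Ideal.mul_mem_left _ (X 1) hE)
            rwa [← h] at hm
          · rw [pow_one]; exact hE
      rw [hspan, stair k 3 1]
    · rw [if_neg hp3]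
      have h3ne : (3 : k) ≠ 0 := fun h => hp3 (three0.mp h)
      have hspan : Ideal.span ({X 1 ^ 2 - X 0 ^ 3, -(C (3 : k) * X 0 ^ 2), C (2 : k) * X 1} :
          Set (MvPolynomial (Fin 2) k)) = Ideal.span {X 0 ^ 2, X 1 ^ 1} := by
        apply span_eq_of
        · rintro x (rfl | rfl | rfl)
          · exact Ideal.mem_span_pair.mpr ⟨-X 0, X 1, by ring⟩
          · exact Ideal.mem_span_pair.mpr ⟨-C (3 : k), 0, by ring⟩
          · exact Ideal.mem_span_pair.mpr ⟨0, C (2 : k), by ring⟩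
        · have hF : (X 1 ^ 2 - X 0 ^ 3 : MvPolynomial (Fin 2) k) ∈ Ideal.span
              ({X 1 ^ 2 - X 0 ^ 3, -(C (3 : k) * X 0 ^ 2), C (2 : k) * X 1} :
                Set (MvPolynomial (Fin 2) k)) :=
            Ideal.subset_span (by simp)
          have hD : (-(C (3 : k) * X 0 ^ 2) : MvPolynomial (Fin 2) k) ∈ Ideal.span
              ({X 1 ^ 2 - X 0 ^ 3, -(C (3 : k) * X 0 ^ 2), C (2 : k) * X 1} :
                Set (MvPolynomial (Fin 2) k)) :=
            Ideal.subset_span (by simp)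
          have hE : (X 1 : MvPolynomial (Fin 2) k) ∈ Ideal.span
              ({X 1 ^ 2 - X 0 ^ 3, -(C (3 : k) * X 0 ^ 2), C (2 : k) * X 1} :
                Set (MvPolynomial (Fin 2) k)) :=
            hX1 _ (Ideal.subset_span (by simp))
          rintro x (rfl | rfl)
          · have h : (X 0 ^ 2 : MvPolynomial (Fin 2) k)
                = (-C (3 : k)⁻¹) * (-(C (3 : k) * X 0 ^ 2)) := by
              rw [neg_mul_neg, ← mul_assoc, ← C_mul, inv_mul_cancel₀ h3ne, C_1, one_mul]
            have hm := Ideal.mul_mem_left _ (-C (3 : k)⁻¹) hD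
            rwa [← h] at hm
          · rw [pow_one]; exact hE
      rw [hspan, stair k 2 1]

end Groth.Agent.S19176
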