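import Groth.Statements.S19177
import Mathlib

set_option autoImplicit false
universe u
open CAlg

namespace Groth.Agent.S19177

/-- Let S → R be a homomorphism of commutative rings making R a finitely generated projective S-module
of rank 2 at every prime of S (the affine form of a finite locally free morphism of degree 2). Then
the cokernel of the (injective) structure map S → R, the S-module R/S, is a projective S-module of
rank 1 at every prime of S (locally free of rank 1). -/
theorem result
    (S R : Type u) [CommRing S] [CommRing R] [Algebra S R] [Module.Finite S R] [Module.Projective S R]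
    (h2 : ∀ p : PrimeSpectrum S, Module.rankAtStalk (R := S) R p = 2) :
    Module.Projective S (R ⧸ LinearMap.range (Algebra.linearMap S R)) ∧
      ∀ p : PrimeSpectrum S,
        Module.rankAtStalk (R := S) (R ⧸ LinearMap.range (Algebra.linearMap S R)) p = 1 := by
  classical
  haveI : Module.Flat S R := inferInstance
  have hsurj : Function.Surjective (PrimeSpectrum.comap (algebraMap S R)) :=
    PrimeSpectrum.rankAtStalk_pos_iff_comap_surjective.mp (fun p => by rw [h2 p]; norm_num)
  haveI : Module.FaithfullyFlat S R := Module.FaithfullyFlat.of_comap_surjective hsurj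
  obtain ⟨s, hs⟩ := (Module.projective_def' (R := S) (P := R)).mp inferInstance
  have hφ : ∃ φ : R →ₗ[S] S, φ 1 = 1 := by
    by_contra hne
    have hJ : LinearMap.range (LinearMap.applyₗ (R := S) (M₂ := S) (1 : R)) ≠ ⊤ := by
      intro htop
      have h1 : (1 : S) ∈ LinearMap.range (LinearMap.applyₗ (R := S) (M₂ := S) (1 : R)) := by
        rw [htop]; trivial
      obtain ⟨φ, hφ⟩ := h1
      exact hne ⟨φ, hφ⟩
    obtain ⟨m, hm, hJm⟩ := Ideal.exists_le_maximal _ hJ
    have hcoord : ∀ r : R, (s 1) r ∈ m := fun r =>
      hJm ⟨(Finsupp.lapply r) ∘ₗ s, rfl⟩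
    have h1 : (1 : R) ∈ m • (⊤ : Submodule S R) := by
      have h : Finsupp.linearCombination S id (s 1) = (1 : R) := LinearMap.congr_fun hs 1
      have h' : Finsupp.linearCombination S id (s 1) ∈ m • (⊤ : Submodule S R) := by
        rw [Finsupp.linearCombination_apply, Finsupp.sum]
        exact Submodule.sum_mem _
          (fun r _ => Submodule.smul_mem_smul (hcoord r) Submodule.mem_top)
      rwa [h] at h'
    refine Module.FaithfullyFlat.submodule_ne_top (M := R) hm ?_
    rw [Ideal.smul_top_eq_map] at h1 ⊢
    rw [Submodule.restrictScalars_eq_top_iff, Ideal.eq_top_iff_one]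
    exact h1
  obtain ⟨φ, hφ1⟩ := hφ
  have hφa : ∀ a : S, φ (algebraMap S R a) = a := fun a => by
    rw [Algebra.algebraMap_eq_smul_one, φ.map_smul, hφ1, smul_eq_mul, mul_one]
  have hker : LinearMap.range (Algebra.linearMap S R) ≤
      LinearMap.ker (LinearMap.id - (Algebra.linearMap S R) ∘ₗ φ) := by
    rintro _ ⟨a, rfl⟩
    rw [LinearMap.mem_ker, LinearMap.sub_apply, LinearMap.id_apply, LinearMap.comp_apply,
      Algebra.linearMap_apply, hφa, Algebra.linearMap_apply, sub_self]
  obtain ⟨i, hi⟩ : ∃ i : (R ⧸ LinearMap.range (Algebra.linearMap S R)) →ₗ[S] R,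
      ∀ x : R, i (Submodule.Quotient.mk x) = x - algebraMap S R (φ x) :=
    ⟨(LinearMap.range (Algebra.linearMap S R)).liftQ _ hker, fun x => by
      rw [Submodule.liftQ_apply]; rfl⟩
  have hmk0 : ∀ a : S, (Submodule.Quotient.mk (algebraMap S R a) :
      R ⧸ LinearMap.range (Algebra.linearMap S R)) = 0 := fun a =>
    (Submodule.Quotient.mk_eq_zero _).mpr ⟨a, rfl⟩
  have hsplit : (LinearMap.range (Algebra.linearMap S R)).mkQ ∘ₗ i = LinearMap.id := by
    apply LinearMap.ext
    intro q
    obtain ⟨x, rfl⟩ := Submodule.Quotient.mk_surjective _ q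
    rw [LinearMap.comp_apply, hi, Submodule.mkQ_apply, Submodule.Quotient.mk_sub, hmk0, sub_zero,
      LinearMap.id_apply]
  haveI hproj : Module.Projective S (R ⧸ LinearMap.range (Algebra.linearMap S R)) :=
    Module.Projective.of_split i _ hsplit
  refine ⟨hproj, fun p => ?_⟩
  haveI : Nontrivial S := (PrimeSpectrum.nonempty_iff_nontrivial).mp ⟨p⟩
  obtain ⟨e⟩ : Nonempty (R ≃ₗ[S] S × (R ⧸ LinearMap.range (Algebra.linearMap S R))) := by
    refine ⟨LinearEquiv.ofLinear (φ.prod (LinearMap.range (Algebra.linearMap S R)).mkQ)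
      ((Algebra.linearMap S R).coprod i) ?_ ?_⟩
    · apply LinearMap.ext
      rintro ⟨a, q⟩
      obtain ⟨x, rfl⟩ := Submodule.Quotient.mk_surjective _ q
      apply Prod.ext
      · show φ (algebraMap S R a + i (Submodule.Quotient.mk x)) = a
        rw [hi, map_add, hφa, map_sub, hφa, sub_self, add_zero]
      · show (Submodule.Quotient.mk (algebraMap S R a + i (Submodule.Quotient.mk x)) :
          R ⧸ LinearMap.range (Algebra.linearMap S R)) = Submodule.Quotient.mk x
        rw [hi, Submodule.Quotient.mk_add, hmk0, zero_add, Submodule.Quotient.mk_sub, hmk0,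
          sub_zero]
    · apply LinearMap.ext
      intro x
      show algebraMap S R (φ x) + i (Submodule.Quotient.mk x) = x
      rw [hi]; ring
  have hr := congrFun (Module.rankAtStalk_eq_of_equiv e) p
  rw [Module.rankAtStalk_prod, Pi.add_apply, Module.rankAtStalk_self, Pi.one_apply, h2 p] at hr
  omega

end Groth.Agent.S19177
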