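import Groth.Statements.S19178
import Mathlib

set_option autoImplicit false
universe u
open Curves

namespace Groth.Agent.S19178


theorem natDegree_aeval_le {k : Type*} [Field k] (g : Fin 3 → Polynomial k)
    (hg : ∀ i, (g i).natDegree ≤ 1) (p : MvPolynomial (Fin 3) k) :
    (MvPolynomial.aeval g p).natDegree ≤ p.totalDegree := by
  rw [MvPolynomial.aeval_def, MvPolynomial.eval₂_eq']
  refine Polynomial.natDegree_sum_le_of_forall_le _ _ (fun d hd => ?_)
  calc (algebraMap k (Polynomial k) (MvPolynomial.coeff d p) * ∏ i, g i ^ d i).natDegree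
      ≤ (∏ i, g i ^ d i).natDegree := by
        rw [← Polynomial.C_eq_algebraMap]
        exact Polynomial.natDegree_C_mul_le _ _
    _ ≤ ∑ i, (g i ^ d i).natDegree := Polynomial.natDegree_prod_le _ _
    _ ≤ ∑ i, d i := Finset.sum_le_sum (fun i _ =>
        (Polynomial.natDegree_pow_le).trans (by
          have := Nat.mul_le_mul_left (d i) (hg i)
          rwa [mul_one] at this))
    _ ≤ p.totalDegree := by
        have := MvPolynomial.le_totalDegree hd
        rwa [Finsupp.sum_fintype _ _ (fun _ => rfl)] at this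

open MvPolynomial in
theorem homog (k : Type*) [Field k] (W : WeierstrassCurve k) :
    (WeierstrassCurve.Projective.polynomial W).IsHomogeneous 3 := by
  have hX : ∀ i : Fin 3, (X i : MvPolynomial (Fin 3) k).IsHomogeneous 1 := isHomogeneous_X k
  have hC : ∀ a : k, (C a : MvPolynomial (Fin 3) k).IsHomogeneous 0 := fun a => isHomogeneous_C _ a
  have t1 : (X 1 ^ 2 * X 2 : MvPolynomial (Fin 3) k).IsHomogeneous 3 :=
    ((hX 1).pow 2).mul (hX 2)
  have t2 : (C W.a₁ * X 0 * X 1 * X 2 : MvPolynomial (Fin 3) k).IsHomogeneous 3 :=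
    (((hC W.a₁).mul (hX 0)).mul (hX 1)).mul (hX 2)
  have t3 : (C W.a₃ * X 1 * X 2 ^ 2 : MvPolynomial (Fin 3) k).IsHomogeneous 3 :=
    ((hC W.a₃).mul (hX 1)).mul ((hX 2).pow 2)
  have t4 : (X 0 ^ 3 : MvPolynomial (Fin 3) k).IsHomogeneous 3 := (hX 0).pow 3
  have t5 : (C W.a₂ * X 0 ^ 2 * X 2 : MvPolynomial (Fin 3) k).IsHomogeneous 3 :=
    ((hC W.a₂).mul ((hX 0).pow 2)).mul (hX 2)
  have t6 : (C W.a₄ * X 0 * X 2 ^ 2 : MvPolynomial (Fin 3) k).IsHomogeneous 3 :=
    ((hC W.a₄).mul (hX 0)).mul ((hX 2).pow 2)
  have t7 : (C W.a₆ * X 2 ^ 3 : MvPolynomial (Fin 3) k).IsHomogeneous 3 :=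
    (hC W.a₆).mul ((hX 2).pow 3)
  rw [WeierstrassCurve.Projective.polynomial]
  exact ((t1.add t2).add t3).sub (((t4.add t5).add t6).add t7)



/-- For every field k and every choice of coefficients a₁, a₂, a₃, a₄, a₆ in k, the homogeneous
Weierstrass cubic Y²Z + a₁XYZ + a₃YZ² − (X³ + a₂X²Z + a₄XZ² + a₆Z³) is an irreducible polynomial in
k[X, Y, Z]. Applied to all fields, this says every fibre of the Weierstrass family over the affine
space of coefficients is geometrically integral. -/
theorem result (k : Type u) [Field k]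
    (W : WeierstrassCurve k) :
    Irreducible (WeierstrassCurve.Projective.polynomial W) := by
  classical
  let P := WeierstrassCurve.Projective.polynomial W
  let ρ : MvPolynomial (Fin 3) k →ₐ[k] Polynomial (Polynomial k) :=
    MvPolynomial.aeval ![Polynomial.C Polynomial.X, Polynomial.X, 1]
  let g : Fin 3 → Polynomial k := ![Polynomial.X, 0, 1]
  let σ : MvPolynomial (Fin 3) k →ₐ[k] Polynomial k := MvPolynomial.aeval g
  have hg : ∀ i, (g i).natDegree ≤ 1 := by
    intro i
    fin_cases i <;> simp [g]
  have hρP : ρ P = W.toAffine.polynomial := by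
    simp only [P, ρ, WeierstrassCurve.Projective.polynomial, WeierstrassCurve.Affine.polynomial,
      map_sub, map_add, map_mul, map_pow, MvPolynomial.aeval_X, MvPolynomial.aeval_C,
      Matrix.cons_val_zero, Matrix.cons_val_one, Matrix.cons_val_two, Matrix.head_cons,
      Matrix.tail_cons, Polynomial.algebraMap_apply, Algebra.algebraMap_self, RingHom.id_apply]
    ring
  have hσρ : ∀ F, σ F = Polynomial.eval 0 (ρ F) := by
    intro F
    have : σ.toRingHom = (Polynomial.evalRingHom (0 : Polynomial k)).comp ρ.toRingHom := by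
      apply MvPolynomial.ringHom_ext
      · intro c
        simp [σ, ρ]
      · intro i
        fin_cases i <;> simp [σ, ρ, g]
    exact RingHom.congr_fun this F
  have hσP : σ P = Polynomial.C (-1) * Polynomial.X ^ 3 + Polynomial.C (-W.a₂) * Polynomial.X ^ 2
      + Polynomial.C (-W.a₄) * Polynomial.X + Polynomial.C (-W.a₆) := by
    simp only [P, σ, g, WeierstrassCurve.Projective.polynomial,
      map_sub, map_add, map_mul, map_pow, MvPolynomial.aeval_X, MvPolynomial.aeval_C,
      Matrix.cons_val_zero, Matrix.cons_val_one, Matrix.cons_val_two, Matrix.head_cons,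
      Matrix.tail_cons, ← Polynomial.C_eq_algebraMap, Polynomial.C_neg, Polynomial.C_1]
    ring
  have hdeg : (σ P).natDegree = 3 := by
    rw [hσP]
    exact Polynomial.natDegree_cubic (by norm_num)
  have hP0 : P ≠ 0 := by
    intro h
    rw [h, map_zero] at hdeg
    simp at hdeg
  have hPdeg : P.totalDegree ≤ 3 := (homog k W).totalDegree_le
  have key : ∀ F G : MvPolynomial (Fin 3) k, P = F * G → IsUnit (ρ F) → IsUnit F := by
    intro F G hFG hu
    have hF0 : F ≠ 0 := by
      rintro rfl
      exact hP0 (by rw [hFG, zero_mul])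
    have hG0 : G ≠ 0 := by
      rintro rfl
      exact hP0 (by rw [hFG, mul_zero])
    have huσ : IsUnit (σ F) := by
      rw [hσρ]
      exact hu.map (Polynomial.evalRingHom 0)
    have h0 : (σ F).natDegree = 0 := Polynomial.natDegree_eq_zero_of_isUnit huσ
    have hmul : σ P = σ F * σ G := by rw [hFG, map_mul]
    have hσG0 : σ G ≠ 0 := by
      intro h
      rw [hmul, h, mul_zero] at hdeg
      simp at hdeg
    have h3 : (σ G).natDegree = 3 := by
      have := Polynomial.natDegree_mul huσ.ne_zero hσG0
      rw [← hmul, hdeg, h0, zero_add] at this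
      exact this.symm
    have h4 : 3 ≤ G.totalDegree := by
      calc 3 = (σ G).natDegree := h3.symm
        _ ≤ G.totalDegree := natDegree_aeval_le g hg G
    have h5 : P.totalDegree = F.totalDegree + G.totalDegree := by
      rw [hFG]
      exact MvPolynomial.totalDegree_mul_of_isDomain hF0 hG0
    have h6 : F.totalDegree = 0 := by omega
    rw [MvPolynomial.totalDegree_eq_zero_iff_eq_C] at h6
    rw [h6]
    exact (IsUnit.mk0 _ (fun h => hF0 (by rw [h6, h, map_zero]))).map MvPolynomial.C
  have hirr : Irreducible W.toAffine.polynomial := WeierstrassCurve.Affine.irreducible_polynomial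
  refine ⟨fun hu => hirr.not_isUnit (hρP ▸ hu.map ρ), fun F G hFG => ?_⟩
  have hfac : W.toAffine.polynomial = ρ F * ρ G := by
    rw [← hρP]
    show ρ P = _
    rw [show P = F * G from hFG, map_mul]
  rcases hirr.isUnit_or_isUnit hfac with h | h
  · exact Or.inl (key F G hFG h)
  · exact Or.inr (key G F (by rw [show P = F * G from hFG, mul_comm]) h)

end Groth.Agent.S19178
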