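import Groth.Statements.S1918
import Groth.Agent.Lib.Lead.CycClosed

set_option autoImplicit false
universe u
open CategoryTheory AlgebraicGeometry
open CategoryTheory.Limits
open Cyc

namespace Groth.Agent.S1918

open Groth.Agent.Lib.Lead.CycClosed

/-- Mayer–Vietoris for Chow groups, exactness in the middle: let i₁ : X₁ → X, i₂ : X₂ → X be closed
immersions covering X set-theoretically and X₁₂ = X₁ ×_X X₂ their scheme-theoretic intersection. If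
k-cycles α₁ on X₁ and α₂ on X₂ have rationally equivalent pushforwards on X, then there is a k-cycle
β on X₁₂ with α₁ ∼_rat (pr₁)_*β on X₁ and α₂ ∼_rat (pr₂)_*β on X₂. (The published statement also
asserts that CH_k(X₁) ⊕ CH_k(X₂) → CH_k(X) is surjective; that is not asserted here.) Here a pair
(X, δ) with Cyc.IsSetup plays the role of a scheme locally of finite type over a fixed base with a
dimension function (X locally Noetherian with universally catenary local rings, δ a dimension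
function). -/
theorem result (X : Scheme.{u}) (δ : X → ℤ) (hX : Cyc.IsSetup X δ) (X₁ X₂ : Scheme.{u}) (i₁ : X₁ ⟶ X) (i₂ : X₂ ⟶ X) [IsClosedImmersion i₁] [IsClosedImmersion i₂] (hcov : Set.range ⇑i₁ ∪ Set.range ⇑i₂ = Set.univ) (k : ℤ) (α₁ : AlgebraicCycle X₁ ℤ) (α₂ : AlgebraicCycle X₂ ℤ) (h₁ : α₁ ∈ Cyc.Zk X₁ (fun x => δ (i₁ x)) k) (h₂ : α₂ ∈ Cyc.Zk X₂ (fun x => δ (i₂ x)) k) (h : Cyc.RatEquiv δ k (AlgebraicCycle.map i₁ (fun x => δ (i₁ x)) δ α₁) (AlgebraicCycle.map i₂ (fun x => δ (i₂ x)) δ α₂)) : ∃ β : AlgebraicCycle (pullback i₁ i₂) ℤ, β ∈ Cyc.Zk (pullback i₁ i₂) (fun z => δ (i₁ (pullback.fst i₁ i₂ z))) k ∧ Cyc.RatEquiv (fun x => δ (i₁ x)) k α₁ (AlgebraicCycle.map (pullback.fst i₁ i₂) (fun z => δ (i₁ (pullback.fst i₁ i₂ z))) (fun x => δ (i₁ x)) β) ∧ Cyc.RatEquiv (fun x => δ (i₂ x)) k α₂ (AlgebraicCycle.map (pullback.snd i₁ i₂) (fun z => δ (i₁ (pullback.fst i₁ i₂ z))) (fun x => δ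 (i₂ x)) β) := by
  classical
  obtain ⟨hLN, -, hdim⟩ := hX
  haveI := hLN
  haveI : IsLocallyNoetherian X₁ := LocallyOfFiniteType.isLocallyNoetherian i₁
  haveI : IsLocallyNoetherian X₂ := LocallyOfFiniteType.isLocallyNoetherian i₂
  have hdim₁ : Cyc.IsDimFun X₁ (fun x => δ (i₁ x)) :=
    isDimFun_closedImmersion i₁ δ _ (fun _ => rfl) hdim
  have hdim₂ : Cyc.IsDimFun X₂ (fun x => δ (i₂ x)) :=
    isDimFun_closedImmersion i₂ δ _ (fun _ => rfl) hdim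
  obtain ⟨ι, ξ, f, hξ, hf, hlf, hsum⟩ := h
  let S₁ : Set ι := {i | ξ i ∈ Set.range i₁}
  have hS₂ : ∀ j : (S₁ᶜ : Set ι), ξ j.1 ∈ Set.range i₂ := by
    intro j
    have hmem : ξ j.1 ∈ Set.range ⇑i₁ ∪ Set.range ⇑i₂ := by rw [hcov]; exact Set.mem_univ _
    rcases hmem with h | h
    · exact absurd h j.2
    · exact h
  have H₁ : ∀ j : S₁, ∃ (z : X₁) (g' : X₁.residueField z), i₁ z = ξ j.1 ∧ g' ≠ 0 ∧
      (∀ u, Cyc.divFun δ (ξ j.1) (f j.1) (i₁ u) = Cyc.divFun (fun x => δ (i₁ x)) z g' u) ∧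
      (∀ y, y ∉ Set.range i₁ → Cyc.divFun δ (ξ j.1) (f j.1) y = 0) :=
    fun j => exists_lift_divisor i₁ δ _ (fun _ => rfl) (ξ j.1) j.2 (f j.1) (hf j.1)
  have H₂ : ∀ j : (S₁ᶜ : Set ι), ∃ (z : X₂) (g' : X₂.residueField z), i₂ z = ξ j.1 ∧ g' ≠ 0 ∧
      (∀ u, Cyc.divFun δ (ξ j.1) (f j.1) (i₂ u) = Cyc.divFun (fun x => δ (i₂ x)) z g' u) ∧
      (∀ y, y ∉ Set.range i₂ → Cyc.divFun δ (ξ j.1) (f j.1) y = 0) :=
    fun j => exists_lift_divisor i₂ δ _ (fun _ => rfl) (ξ j.1) (hS₂ j) (f j.1) (hf j.1)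
  choose ζ₁ g₁ hζ₁ hg₁ hdiv₁ hout₁ using H₁
  choose ζ₂ g₂ hζ₂ hg₂ hdiv₂ hout₂ using H₂
  have hlf₁ := locallyFinite_lift i₁ ξ (fun j : S₁ => j.1) Subtype.val_injective ζ₁ hζ₁ hlf
  have hlf₂ := locallyFinite_lift i₂ ξ (fun j : (S₁ᶜ : Set ι) => j.1) Subtype.val_injective ζ₂
    hζ₂ hlf
  obtain ⟨D₁, hD₁⟩ := exists_cycle_of_family (fun x => δ (i₁ x)) hdim₁ ζ₁ g₁ hlf₁
  obtain ⟨D₂, hD₂⟩ := exists_cycle_of_family (fun x => δ (i₂ x)) hdim₂ ζ₂ g₂ hlf₂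
  have hδζ₁ : ∀ j : S₁, δ (i₁ (ζ₁ j)) = k + 1 := fun j => by rw [hζ₁ j]; exact hξ j.1
  have hδζ₂ : ∀ j : (S₁ᶜ : Set ι), δ (i₂ (ζ₂ j)) = k + 1 := fun j => by rw [hζ₂ j]; exact hξ j.1
  have m₁ : ∀ (c : AlgebraicCycle X₁ ℤ) (u : X₁),
      AlgebraicCycle.map i₁ (fun x => δ (i₁ x)) δ c (i₁ u) = c u :=
    fun c u => map_apply_closedImmersion i₁ (fun x => δ (i₁ x)) δ (fun _ => rfl) c u
  have n₁ : ∀ (c : AlgebraicCycle X₁ ℤ) (x : X), x ∉ Set.range i₁ →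
      AlgebraicCycle.map i₁ (fun x => δ (i₁ x)) δ c x = 0 :=
    fun c x hx => map_apply_of_notMem_range i₁ (fun x => δ (i₁ x)) δ c x hx
  have m₂ : ∀ (c : AlgebraicCycle X₂ ℤ) (u : X₂),
      AlgebraicCycle.map i₂ (fun x => δ (i₂ x)) δ c (i₂ u) = c u :=
    fun c u => map_apply_closedImmersion i₂ (fun x => δ (i₂ x)) δ (fun _ => rfl) c u
  have n₂ : ∀ (c : AlgebraicCycle X₂ ℤ) (x : X), x ∉ Set.range i₂ →
      AlgebraicCycle.map i₂ (fun x => δ (i₂ x)) δ c x = 0 :=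
    fun c x hx => map_apply_of_notMem_range i₂ (fun x => δ (i₂ x)) δ c x hx
  have hsplit : ∀ x : X, AlgebraicCycle.map i₁ (fun x => δ (i₁ x)) δ α₁ x -
      AlgebraicCycle.map i₂ (fun x => δ (i₂ x)) δ α₂ x =
      ∑ᶠ j : S₁, Cyc.divFun δ (ξ j.1) (f j.1) x +
        ∑ᶠ j : (S₁ᶜ : Set ι), Cyc.divFun δ (ξ j.1) (f j.1) x := by
    intro x
    have h3 := hsum x
    rw [Function.locallyFinsuppWithin.coe_sub, Pi.sub_apply] at h3
    rw [h3]
    exact finsum_split S₁ (fun i => Cyc.divFun δ (ξ i) (f i) x)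
      (family_support_finite δ ξ f hlf x)
  have hC₁ : ∀ x, AlgebraicCycle.map i₁ (fun x => δ (i₁ x)) δ (α₁ - D₁) x =
      AlgebraicCycle.map i₁ (fun x => δ (i₁ x)) δ α₁ x -
        ∑ᶠ j : S₁, Cyc.divFun δ (ξ j.1) (f j.1) x := by
    intro x
    by_cases hx : x ∈ Set.range i₁
    · obtain ⟨u, rfl⟩ := hx
      rw [m₁, m₁, Function.locallyFinsuppWithin.coe_sub, Pi.sub_apply, hD₁ u]
      congr 1
      exact finsum_congr (fun j => (hdiv₁ j u).symm)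
    · rw [n₁ _ x hx, n₁ _ x hx, finsum_eq_zero_of_forall_eq_zero (fun j => hout₁ j x hx),
        sub_zero]
  have hC₂ : ∀ x, AlgebraicCycle.map i₂ (fun x => δ (i₂ x)) δ (α₂ + D₂) x =
      AlgebraicCycle.map i₂ (fun x => δ (i₂ x)) δ α₂ x +
        ∑ᶠ j : (S₁ᶜ : Set ι), Cyc.divFun δ (ξ j.1) (f j.1) x := by
    intro x
    by_cases hx : x ∈ Set.range i₂
    · obtain ⟨u, rfl⟩ := hx
      rw [m₂, m₂, Function.locallyFinsuppWithin.coe_add, Pi.add_apply, hD₂ u]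
      congr 1
      exact finsum_congr (fun j => (hdiv₂ j u).symm)
    · rw [n₂ _ x hx, n₂ _ x hx, finsum_eq_zero_of_forall_eq_zero (fun j => hout₂ j x hx),
        add_zero]
  have hstar : ∀ x, AlgebraicCycle.map i₁ (fun x => δ (i₁ x)) δ (α₁ - D₁) x =
      AlgebraicCycle.map i₂ (fun x => δ (i₂ x)) δ (α₂ + D₂) x := by
    intro x
    rw [hC₁ x, hC₂ x]
    have h3 := hsplit x
    linarith
  obtain ⟨β, hβ⟩ := exists_restrict_cycle (pullback.fst i₁ i₂) (α₁ - D₁)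
  have hcond : ∀ z : ↥(pullback i₁ i₂),
      i₁ (pullback.fst i₁ i₂ z) = i₂ (pullback.snd i₁ i₂ z) := fun z => by
    rw [← Scheme.Hom.comp_apply, ← Scheme.Hom.comp_apply, pullback.condition]
  refine ⟨β, ?_, ?_, ?_⟩
  · intro z hz
    rw [hβ z, Function.locallyFinsuppWithin.coe_sub, Pi.sub_apply, h₁ _ hz, hD₁,
      finsum_eq_zero_of_forall_eq_zero
        (fun j => divFun_eq_zero_of_delta_ne (fun x => δ (i₁ x)) (ζ₁ j) (g₁ j) k (hδζ₁ j) _ hz),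
      sub_zero]
  · show Cyc.RatEquivZero _ _ _
    refine ⟨S₁, ζ₁, g₁, hδζ₁, hg₁, hlf₁, ?_⟩
    intro x₁
    rw [Function.locallyFinsuppWithin.coe_sub, Pi.sub_apply, ← hD₁ x₁]
    by_cases hx : x₁ ∈ Set.range (pullback.fst i₁ i₂)
    · obtain ⟨z, rfl⟩ := hx
      rw [map_apply_closedImmersion (pullback.fst i₁ i₂) (fun z => δ (i₁ (pullback.fst i₁ i₂ z)))
        (fun x => δ (i₁ x)) (fun _ => rfl) β z, hβ z,
        Function.locallyFinsuppWithin.coe_sub, Pi.sub_apply]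
      ring
    · rw [map_apply_of_notMem_range (pullback.fst i₁ i₂) _ _ β x₁ hx, sub_zero]
      have hx' : i₁ x₁ ∉ Set.range i₂ := by
        intro hmem
        apply hx
        rw [Scheme.Pullback.range_fst]
        exact hmem
      have e1 := hstar (i₁ x₁)
      rw [m₁, n₂ _ _ hx', Function.locallyFinsuppWithin.coe_sub, Pi.sub_apply] at e1
      linarith
  · show Cyc.RatEquivZero _ _ _
    refine ⟨(S₁ᶜ : Set ι), ζ₂, fun j => (g₂ j)⁻¹, hδζ₂, fun j => inv_ne_zero (hg₂ j), hlf₂, ?_⟩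
    intro x₂
    have hneg : ∑ᶠ j : (S₁ᶜ : Set ι), Cyc.divFun (fun x => δ (i₂ x)) (ζ₂ j) (g₂ j)⁻¹ x₂ =
        - D₂ x₂ := by
      rw [hD₂ x₂, ← finsum_neg_distrib]
      exact finsum_congr (fun j => divFun_inv _ _ _ _)
    rw [Function.locallyFinsuppWithin.coe_sub, Pi.sub_apply, hneg]
    by_cases hx : x₂ ∈ Set.range (pullback.snd i₁ i₂)
    · obtain ⟨z, rfl⟩ := hx
      have e1 := hstar (i₁ (pullback.fst i₁ i₂ z))
      rw [m₁] at e1
      rw [hcond z, m₂, Function.locallyFinsuppWithin.coe_add, Pi.add_apply] at e1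
      rw [map_apply_closedImmersion (pullback.snd i₁ i₂) (fun z => δ (i₁ (pullback.fst i₁ i₂ z)))
        (fun x => δ (i₂ x)) (fun z => congrArg δ (hcond z)) β z, hβ z, e1]
      ring
    · rw [map_apply_of_notMem_range (pullback.snd i₁ i₂) _ _ β x₂ hx, sub_zero]
      have hx' : i₂ x₂ ∉ Set.range i₁ := by
        intro hmem
        apply hx
        rw [Scheme.Pullback.range_snd]
        exact hmem
      have e1 := hstar (i₂ x₂)
      rw [m₂, n₁ _ _ hx', Function.locallyFinsuppWithin.coe_add, Pi.add_apply] at e1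
      linarith

end Groth.Agent.S1918
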