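import Groth.Statements.S19180
import Groth.Agent.Lib.Helper7.SplitTw
import Groth.Agent.Lib.Helper7.HomTw

set_option autoImplicit false
universe u
open Coherent

namespace Groth.Agent.S19180

open CategoryTheory AlgebraicGeometry in
/-- Let R be a local ring and m ≥ 1, and consider the projective line P¹_R with its structure sheaf O
and twisting sheaf O(m). For every O-module F and every short exact sequence 0 → O(m) → F → O → 0 of
O-modules, the surjection F → O admits a section; consequently F is isomorphic to O(m) ⊕ O. -/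
theorem result (R : Type u) [CommRing R] [IsLocalRing R]
    (m : ℕ) (hm : 1 ≤ m) (F : (CohB1.ProjSpace 1 R).Modules)
    (i : Twist.twistProjSpace 1 R (m : ℤ) ⟶ F) (p : F ⟶ Coh.structureModule (CohB1.ProjSpace 1 R))
    (w : i ≫ p = 0) (hex : (ShortComplex.mk i p w).ShortExact) :
    ∃ s : Coh.structureModule (CohB1.ProjSpace 1 R) ⟶ F, s ≫ p = 𝟙 _ := by
  have hU := Groth.Agent.Lib.Helper7.Mumford.hU 1 R
  have h00 : (0 : ℤ) + 0 = 0 := by omega
  have hm0 : (m : ℤ) + 0 = (m : ℤ) := by omega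
  have h1 : Subsingleton (Coh.HH (CohB1.ProjSpace 1 R) (Twist.twistProjSpace 1 R (m : ℤ)) 1) :=
    Groth.Agent.S0844.result R 1 (m : ℤ) 1 (by rintro ⟨h, -⟩; omega) (by rintro ⟨-, h⟩; omega)
  obtain ⟨sp⟩ := Groth.Agent.Lib.Helper7.SplitTw.splitting_of_H1 (ShortComplex.mk i p w) hex
    (Twist.twistProjSpace 1 R 0) (Twist.twistProjSpace 1 R 0)
    (Groth.Agent.Lib.Helper7.RegRes.pairIso' hU 0 0 h00)
    (Groth.Agent.Lib.Helper3.InvMonoidal.tensorMapIso
      (Groth.Agent.Lib.Helper3.TwistMul.unitIso (𝒜 := CohB1.polyGrading 1 R)) (Iso.refl _) ≪≫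
      Groth.Agent.Lib.Helper7.RegRes.pairIso' hU 0 0 h00)
    (Groth.Agent.Lib.Helper7.TwFun.subsingleton_HH_of_iso
      (Groth.Agent.Lib.Helper7.RegRes.mulIso' hU (m : ℤ) 0 (m : ℤ) hm0) 1 h1)
  exact ⟨sp.s, sp.s_g⟩

end Groth.Agent.S19180
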