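import Groth.Statements.S19181
import Mathlib
import Groth.Agent.Lib.Helper21.Lie3A

set_option autoImplicit false
universe u
open CAlg

namespace Groth.Agent.S19181

section aux
open Groth.Agent.Lib.Helper21.Lie3

variable {R : Type u} [CommRing R]

theorem sat_iff (g : MvPolynomial (Fin 2) R)
    (hreg : ∀ t s : MvPolynomial (Fin 2) R, MvPolynomial.X 0 * t = s * g → ∃ s', t = s' * g)
    (s : MvPolynomial (Fin 2) R) :
    (∃ n : ℕ, MvPolynomial.X 0 ^ n * s ∈
        Ideal.span ({MvPolynomial.X 0 ^ 2 * g} : Set (MvPolynomial (Fin 2) R))) ↔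
      s ∈ Ideal.span ({g} : Set (MvPolynomial (Fin 2) R)) := by
  constructor
  · rintro ⟨n, hn⟩
    obtain ⟨t, ht⟩ := Ideal.mem_span_singleton'.mp hn
    have key : ∀ (n : ℕ) (s w : MvPolynomial (Fin 2) R),
        MvPolynomial.X 0 ^ n * s = w * g → ∃ s', s = s' * g := by
      intro n
      induction n with
      | zero => intro s w h; exact ⟨w, by rw [← h, pow_zero, one_mul]⟩
      | succ n ih =>
        intro s w h
        obtain ⟨s'', hs''⟩ := hreg (MvPolynomial.X 0 ^ n * s) w (by rw [← h]; ring)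
        exact ih s s'' hs''
    obtain ⟨s', hs'⟩ := key n s (t * MvPolynomial.X 0 ^ 2) (by rw [← ht]; ring)
    exact Ideal.mem_span_singleton'.mpr ⟨s', hs'.symm⟩
  · intro hs
    obtain ⟨a, ha⟩ := Ideal.mem_span_singleton'.mp hs
    refine ⟨2, Ideal.mem_span_singleton'.mpr ⟨a, ?_⟩⟩
    rw [← ha]; ring

open MvPolynomial in
theorem reg1 (a₁ a₂ : R) (t s : MvPolynomial (Fin 2) R)
    (h : X 0 * t = s * (1 + C a₁ * X 1 - X 0 * X 1 ^ 3 - C a₂ * X 1 ^ 2)) :
    ∃ s', t = s' * (1 + C a₁ * X 1 - X 0 * X 1 ^ 3 - C a₂ * X 1 ^ 2) := by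
  refine of_X_mul_eq_mul (j := 0) ?_ h
  intro z hz
  have hk : kill (0 : Fin 2)
      (1 + C a₁ * X 1 - X 0 * X 1 ^ 3 - C a₂ * X 1 ^ 2 : MvPolynomial (Fin 2) R) =
      1 + (C a₁ - C a₂ * X 1) * X 1 := by
    have h10 : (1 : Fin 2) ≠ 0 := by decide
    simp only [map_sub, map_add, map_mul, map_one, map_pow, kill_C, kill_X_self,
      kill_X_of_ne h10]
    ring
  rw [hk, mul_comm] at hz
  exact regular_of_linear (1 : Fin 2) 1 (C a₁ - C a₂ * X 1) (map_one _)
    (fun t ht => by rwa [one_mul] at ht) z hz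

theorem reg2 (a₁ a₂ : R) (t s : MvPolynomial (Fin 2) R)
    (h : MvPolynomial.X 0 * t = s * (MvPolynomial.X 1 ^ 2 + MvPolynomial.C a₁ * MvPolynomial.X 1 -
      MvPolynomial.X 0 - MvPolynomial.C a₂)) :
    ∃ s', t = s' * (MvPolynomial.X 1 ^ 2 + MvPolynomial.C a₁ * MvPolynomial.X 1 -
      MvPolynomial.X 0 - MvPolynomial.C a₂) := by
  obtain ⟨g, hg⟩ : ∃ g : MvPolynomial (Fin 2) R, g = MvPolynomial.X 1 ^ 2 +
      MvPolynomial.C a₁ * MvPolynomial.X 1 - MvPolynomial.X 0 - MvPolynomial.C a₂ := ⟨_, rfl⟩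
  rw [← hg] at h ⊢
  obtain ⟨c, hc⟩ : ∃ c : Polynomial R, c = Polynomial.X ^ 2 + Polynomial.C a₁ * Polynomial.X -
      Polynomial.C a₂ := ⟨_, rfl⟩
  have hmonic : c.Monic := by rw [hc]; monicity!
  obtain ⟨φ, hφ⟩ : ∃ φ : MvPolynomial (Fin 2) R →ₐ[R] Polynomial R,
      φ = MvPolynomial.aeval ![c, Polynomial.X] := ⟨_, rfl⟩
  obtain ⟨ψ, hψ⟩ : ∃ ψ : Polynomial R →ₐ[R] MvPolynomial (Fin 2) R,
      ψ = Polynomial.aeval (MvPolynomial.X 1) := ⟨_, rfl⟩
  have hφ0 : φ (MvPolynomial.X 0) = c := by rw [hφ]; simp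
  have hφ1 : φ (MvPolynomial.X 1) = Polynomial.X := by rw [hφ]; simp
  have hφC : ∀ a, φ (MvPolynomial.C a) = Polynomial.C a := by intro a; rw [hφ]; simp
  have hψX : ψ Polynomial.X = MvPolynomial.X 1 := by rw [hψ]; simp
  have hψC : ∀ a, ψ (Polynomial.C a) = MvPolynomial.C a := by
    intro a; rw [hψ]; simp [MvPolynomial.algebraMap_eq]
  have hψc : ψ c = MvPolynomial.X 1 ^ 2 + MvPolynomial.C a₁ * MvPolynomial.X 1 -
      MvPolynomial.C a₂ := by
    rw [hc, map_sub, map_add, map_mul, map_pow, hψX, hψC, hψC]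
  have hφg : φ g = 0 := by
    rw [hg]
    simp only [map_sub, map_add, map_mul, map_pow, hφ0, hφ1, hφC]
    rw [hc]; ring
  have hX : ∀ i : Fin 2, MvPolynomial.X i - ψ (φ (MvPolynomial.X i)) ∈
      Ideal.span ({g} : Set (MvPolynomial (Fin 2) R)) := by
    rw [Fin.forall_fin_two]
    constructor
    · rw [hφ0, hψc]
      have : MvPolynomial.X 0 - (MvPolynomial.X 1 ^ 2 + MvPolynomial.C a₁ * MvPolynomial.X 1 -
          MvPolynomial.C a₂) = -g := by rw [hg]; ring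
      rw [this]; exact neg_mem (Ideal.subset_span (Set.mem_singleton g))
    · rw [hφ1, hψX, sub_self]; exact zero_mem _
  have hall : ∀ p, p - ψ (φ p) ∈ Ideal.span ({g} : Set (MvPolynomial (Fin 2) R)) := by
    intro p
    induction p using MvPolynomial.induction_on with
    | C a => rw [hφC, hψC, sub_self]; exact zero_mem _
    | add p q hp hq =>
      rw [map_add, map_add]
      have : p + q - (ψ (φ p) + ψ (φ q)) = (p - ψ (φ p)) + (q - ψ (φ q)) := by ring
      rw [this]; exact add_mem hp hq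
    | mul_X p i hp =>
      rw [map_mul, map_mul]
      have : p * MvPolynomial.X i - ψ (φ p) * ψ (φ (MvPolynomial.X i)) =
          (p - ψ (φ p)) * MvPolynomial.X i +
            ψ (φ p) * (MvPolynomial.X i - ψ (φ (MvPolynomial.X i))) := by ring
      rw [this]
      exact add_mem (Ideal.mul_mem_right _ _ hp) (Ideal.mul_mem_left _ _ (hX i))
  have h1 := congrArg φ h
  rw [map_mul, map_mul, hφg, mul_zero, hφ0] at h1
  have h2 : φ t = 0 := hmonic.mul_right_eq_zero_iff.mp h1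
  have h3 := hall t
  rw [h2, map_zero, sub_zero] at h3
  obtain ⟨s', hs'⟩ := Ideal.mem_span_singleton'.mp h3
  exact ⟨s', hs'.symm⟩

end aux

open MvPolynomial in
/-- Let R be a commutative ring, a₁, a₂ ∈ R, and C ⊂ A²_R the curve y² + a₁xy = x³ + a₂x², blown up at
the section x = y = 0. In the chart where x = yα (variables y = X 0, α = X 1) the equation of C
becomes y²·g₁ with g₁ = 1 + a₁α − yα³ − a₂α², and the y-saturation of the ideal (y²g₁) is (g₁): for
s ∈ R[y, α], some yⁿs lies in (y²g₁) if and only if s ∈ (g₁). In the chart where y = xβ (variables x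
= X 0, β = X 1) the equation becomes x²·g₂ with g₂ = β² + a₁β − x − a₂, and some xⁿs lies in (x²g₂)
if and only if s ∈ (g₂). In other words the strict transform of C is cut out by g₁, resp. g₂, in the
two charts. -/
theorem result (R : Type u) [CommRing R] (a₁ a₂ : R) :
    (∀ s : MvPolynomial (Fin 2) R,
      (∃ n : ℕ, X 0 ^ n * s ∈ Ideal.span ({X 0 ^ 2 * (1 + C a₁ * X 1 - X 0 * X 1 ^ 3 - C a₂ * X 1 ^ 2)} :
        Set (MvPolynomial (Fin 2) R))) ↔
      s ∈ Ideal.span ({1 + C a₁ * X 1 - X 0 * X 1 ^ 3 - C a₂ * X 1 ^ 2} : Set (MvPolynomial (Fin 2) R))) ∧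
    (∀ s : MvPolynomial (Fin 2) R,
      (∃ n : ℕ, X 0 ^ n * s ∈ Ideal.span ({X 0 ^ 2 * (X 1 ^ 2 + C a₁ * X 1 - X 0 - C a₂)} :
        Set (MvPolynomial (Fin 2) R))) ↔
      s ∈ Ideal.span ({X 1 ^ 2 + C a₁ * X 1 - X 0 - C a₂} : Set (MvPolynomial (Fin 2) R))) := by
  exact ⟨fun s => sat_iff _ (reg1 a₁ a₂) s, fun s => sat_iff _ (reg2 a₁ a₂) s⟩

end Groth.Agent.S19181
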