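import Groth.Statements.S19182
import Mathlib

set_option autoImplicit false
universe u
open CAlg

namespace Groth.Agent.S19182

section aux
open MvPolynomial Algebra

variable {R : Type u} [CommRing R]

theorem smooth_of_pderiv_unit (g : MvPolynomial (Fin 2) R)
    (hu : ∃ u w : MvPolynomial (Fin 2) R, pderiv 0 g * u = 1 + w * g) :
    Algebra.Smooth R (MvPolynomial (Fin 2) R ⧸
      Ideal.span ({g} : Set (MvPolynomial (Fin 2) R))) := by
  classical
  obtain ⟨u, w, huw⟩ := hu
  have hrange : Ideal.span (Set.range (fun _ : Unit => g)) = Ideal.span {g} := by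
    rw [Set.range_const]
  let P₀ : PreSubmersivePresentation R
      (MvPolynomial (Fin 2) R ⧸ Ideal.span (Set.range (fun _ : Unit => g))) (Fin 2) Unit :=
    PreSubmersivePresentation.naive (v := fun _ : Unit => g) (fun _ => (0 : Fin 2))
      (fun _ _ _ => rfl)
  have hg0 : algebraMap P₀.Ring
      (MvPolynomial (Fin 2) R ⧸ Ideal.span (Set.range (fun _ : Unit => g))) g = 0 := by
    rw [Generators.algebraMap_apply]
    exact Generators.aeval_val_eq_zero (Presentation.mem_ker_naive _ _ ())
  have hjac : IsUnit P₀.jacobian := by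
    rw [PreSubmersivePresentation.jacobian_eq_jacobiMatrix_det, Matrix.det_unique,
      PreSubmersivePresentation.jacobiMatrix_naive]
    refine IsUnit.of_mul_eq_one (algebraMap P₀.Ring _ u) ?_
    rw [← map_mul, huw, map_add, map_one, map_mul, hg0, mul_zero, add_zero]
  let P : SubmersivePresentation R
      (MvPolynomial (Fin 2) R ⧸ Ideal.span (Set.range (fun _ : Unit => g))) (Fin 2) Unit :=
    { toPreSubmersivePresentation := P₀, jacobian_isUnit := hjac }
  have : IsStandardSmooth R
      (MvPolynomial (Fin 2) R ⧸ Ideal.span (Set.range (fun _ : Unit => g))) :=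
    P.isStandardSmooth
  exact Smooth.of_equiv (Ideal.quotientEquivAlgOfEq R hrange)

end aux

open MvPolynomial in
/-- Let R be a commutative ring and a₁, a₂ ∈ R. The two affine charts of the blow-up of the plane curve
y² + a₁xy = x³ + a₂x² at the section x = y = 0, with coordinate rings R[y, α]/(1 + a₁α − yα³ − a₂α²)
and R[x, β]/(β² + a₁β − x − a₂) (variables indexed 0 and 1 in this order), are smooth R-algebras
(formally smooth of finite presentation). This is the local computation behind the statement that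
the blow-up of a Weierstrass curve along a section through its singular locus is a smooth proper
curve of genus 0. -/
theorem result (R : Type u) [CommRing R] (a₁ a₂ : R) :
    Algebra.Smooth R (MvPolynomial (Fin 2) R ⧸
      Ideal.span ({1 + C a₁ * X 1 - X 0 * X 1 ^ 3 - C a₂ * X 1 ^ 2} : Set (MvPolynomial (Fin 2) R))) ∧
    Algebra.Smooth R (MvPolynomial (Fin 2) R ⧸
      Ideal.span ({X 1 ^ 2 + C a₁ * X 1 - X 0 - C a₂} : Set (MvPolynomial (Fin 2) R))) := by
  constructor
  · apply smooth_of_pderiv_unit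
    have hd : pderiv 0 (1 + C a₁ * X 1 - X 0 * X 1 ^ 3 - C a₂ * X 1 ^ 2 :
        MvPolynomial (Fin 2) R) = - X 1 ^ 3 := by
      simp [pderiv_X_of_ne (show (1 : Fin 2) ≠ 0 by decide)]
    refine ⟨-(X 0 * X 1 ^ 2 + C a₂ * X 1 - C a₁) ^ 3,
      -3 + 3 * (1 + C a₁ * X 1 - X 0 * X 1 ^ 3 - C a₂ * X 1 ^ 2) -
        (1 + C a₁ * X 1 - X 0 * X 1 ^ 3 - C a₂ * X 1 ^ 2) ^ 2, ?_⟩
    rw [hd]
    ring
  · apply smooth_of_pderiv_unit
    have hd : pderiv 0 (X 1 ^ 2 + C a₁ * X 1 - X 0 - C a₂ : MvPolynomial (Fin 2) R) = -1 := by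
      simp [pderiv_X_of_ne (show (1 : Fin 2) ≠ 0 by decide)]
    refine ⟨-1, 0, ?_⟩
    rw [hd]
    ring

end Groth.Agent.S19182
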