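import Groth.Statements.S19183
import Mathlib

set_option autoImplicit false
universe u
open CAlg

namespace Groth.Agent.S19183

/-- Let A be a non-zero commutative ring and f ∈ A a non-zero-divisor. The fibre product A ×_{A/(f)} A
of two copies of A over A/(f) — the A-submodule of A × A of pairs (x, y) with x − y ∈ (f), which is
the coordinate ring of two copies of Spec A glued along the Cartier divisor f = 0 — is a free
A-module of rank 2. (This is what makes the gluing of two copies of a curve along an effective
Cartier divisor finite locally free of degree 2 over the curve.) -/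
theorem result (A : Type u) [CommRing A] [Nontrivial A]
    (f : A) (hf : f ∈ nonZeroDivisors A) :
    Module.Free A (Submodule.comap (LinearMap.fst A A A - LinearMap.snd A A A) (Ideal.span ({f} : Set A))) ∧
      Module.finrank A (Submodule.comap (LinearMap.fst A A A - LinearMap.snd A A A) (Ideal.span ({f} : Set A))) = 2 := by
  classical
  set N : Submodule A (A × A) :=
    Submodule.comap (LinearMap.fst A A A - LinearMap.snd A A A) (Ideal.span ({f} : Set A)) with hN
  let ψ₀ : A × A →ₗ[A] A × A :=
    LinearMap.prod (LinearMap.fst A A A + f • LinearMap.snd A A A) (LinearMap.fst A A A)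
  have hψ₀ : ∀ z : A × A, ψ₀ z = (z.1 + f * z.2, z.1) := by
    intro z
    simp [ψ₀]
  have hmem : ∀ z : A × A, ψ₀ z ∈ N := by
    intro z
    rw [hN, Submodule.mem_comap, hψ₀]
    simp only [LinearMap.sub_apply, LinearMap.fst_apply, LinearMap.snd_apply, add_sub_cancel_left]
    exact Ideal.mul_mem_right _ _ (Ideal.mem_span_singleton_self f)
  let ψ : A × A →ₗ[A] N := LinearMap.codRestrict N ψ₀ hmem
  have hψinj : Function.Injective ψ := by
    rw [← LinearMap.ker_eq_bot, LinearMap.ker_codRestrict, LinearMap.ker_eq_bot]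
    intro z w hzw
    rw [hψ₀, hψ₀, Prod.mk.injEq] at hzw
    obtain ⟨h1, h2⟩ := hzw
    rw [h2, add_right_inj] at h1
    have h3 : f * (z.2 - w.2) = 0 := by rw [mul_sub, h1, sub_self]
    have h4 : z.2 - w.2 = 0 := (mem_nonZeroDivisors_iff_left.mp hf) _ h3
    exact Prod.ext h2 (sub_eq_zero.mp h4)
  have hψsurj : Function.Surjective ψ := by
    rintro ⟨⟨x, y⟩, hxy⟩
    rw [hN, Submodule.mem_comap] at hxy
    simp only [LinearMap.sub_apply, LinearMap.fst_apply, LinearMap.snd_apply] at hxy
    obtain ⟨d, hd⟩ := Ideal.mem_span_singleton'.mp hxy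
    refine ⟨(y, d), ?_⟩
    apply Subtype.ext
    change ψ₀ (y, d) = (x, y)
    rw [hψ₀]
    simp only [Prod.mk.injEq, and_true]
    rw [mul_comm, hd]
    ring
  let e : (A × A) ≃ₗ[A] N := LinearEquiv.ofBijective ψ ⟨hψinj, hψsurj⟩
  refine ⟨Module.Free.of_equiv e, ?_⟩
  rw [← LinearEquiv.finrank_eq e, Module.finrank_prod, Module.finrank_self]

end Groth.Agent.S19183
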