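import Groth.Statements.S19184
import Mathlib

set_option autoImplicit false
universe u
open CAlg

namespace Groth.Agent.S19184

open Polynomial in
/-- Let S be a commutative ring, a, b ∈ S, f = x² + ax + b ∈ S[x] and R = S[x]/(f), a free S-algebra of
rank 2. Let A ⊂ S[x] be the S-subalgebra of polynomials whose class in R lies in the image of S → R;
it is the fibre product S[x] ×_R S, the coordinate ring of the affine line over S with the degree-2
subscheme Spec R collapsed onto Spec S. Then A is a free S-module and S[x] is a finitely generated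
A-module. -/
theorem result (S : Type u) [CommRing S] (a b : S) :
    Module.Free S ((⊥ : Subalgebra S (S[X] ⧸ Ideal.span ({X ^ 2 + C a * X + C b} : Set S[X]))).comap
        (Ideal.Quotient.mkₐ S (Ideal.span ({X ^ 2 + C a * X + C b} : Set S[X])))) ∧
      Module.Finite ((⊥ : Subalgebra S (S[X] ⧸ Ideal.span ({X ^ 2 + C a * X + C b} : Set S[X]))).comap
        (Ideal.Quotient.mkₐ S (Ideal.span ({X ^ 2 + C a * X + C b} : Set S[X])))) S[X] := by
  classical
  set f : S[X] := X ^ 2 + C a * X + C b with hfdef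
  set I : Ideal S[X] := Ideal.span ({f} : Set S[X]) with hI
  set Asub : Subalgebra S S[X] :=
    (⊥ : Subalgebra S (S[X] ⧸ I)).comap (Ideal.Quotient.mkₐ S I) with hAsub
  rcases subsingleton_or_nontrivial S with hsub | hnt
  · haveI : Subsingleton S[X] := inferInstance
    refine ⟨Module.Free.of_subsingleton' S Asub, ?_⟩
    exact Module.Finite.of_finite
  have hf_eq : f = X ^ 2 + (C a * X + C b) := by rw [hfdef, add_assoc]
  have hmonic : f.Monic := by
    rw [hf_eq]
    exact monic_X_pow_add degree_linear_lt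
  have hdeg : f.degree = 2 := by
    rw [hf_eq, degree_add_eq_left_of_degree_lt, degree_X_pow]
    · rfl
    · rw [degree_X_pow]
      exact degree_linear_lt
  have hmemA : ∀ g : S[X], g ∈ Asub ↔ ∃ (s : S) (h : S[X]), g = C s + f * h := by
    intro g
    rw [hAsub, Subalgebra.mem_comap, Algebra.mem_bot]
    constructor
    · rintro ⟨s, hs⟩
      have h1 : Ideal.Quotient.mk I (g - C s) = 0 := by
        rw [map_sub, sub_eq_zero]
        exact hs.symm
      rw [Ideal.Quotient.eq_zero_iff_mem, hI] at h1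
      obtain ⟨h, hh⟩ := Ideal.mem_span_singleton'.mp h1
      exact ⟨s, h, by rw [mul_comm, hh]; ring⟩
    · rintro ⟨s, h, rfl⟩
      refine ⟨s, ?_⟩
      change algebraMap S (S[X] ⧸ I) s = Ideal.Quotient.mk I (C s + f * h)
      rw [map_add, map_mul]
      have h0 : Ideal.Quotient.mk I f = 0 :=
        Ideal.Quotient.eq_zero_iff_mem.mpr (Ideal.mem_span_singleton_self f)
      rw [h0, zero_mul, add_zero]
      rfl
  refine ⟨?_, ?_⟩
  · -- freeness
    let ψ₀ : S × S[X] →ₗ[S] S[X] :=
      LinearMap.coprod (Algebra.linearMap S S[X]) (LinearMap.mulLeft S f)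
    have hψ₀ : ∀ z : S × S[X], ψ₀ z = C z.1 + f * z.2 := by
      intro z
      simp [ψ₀, C_eq_algebraMap]
    have hmem : ∀ z, ψ₀ z ∈ Subalgebra.toSubmodule Asub := by
      intro z
      rw [Subalgebra.mem_toSubmodule, hmemA, hψ₀]
      exact ⟨z.1, z.2, rfl⟩
    let ψ : S × S[X] →ₗ[S] Asub := LinearMap.codRestrict (Subalgebra.toSubmodule Asub) ψ₀ hmem
    have hψinj : Function.Injective ψ := by
      rw [← LinearMap.ker_eq_bot, LinearMap.ker_codRestrict, LinearMap.ker_eq_bot]
      intro z w hzw
      rw [hψ₀, hψ₀] at hzw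
      have hlt : ∀ s : S, (C s : S[X]).degree < f.degree := by
        intro s
        rw [hdeg]
        exact lt_of_le_of_lt degree_C_le (by norm_num)
      have h1 := div_modByMonic_unique z.2 (C z.1) hmonic ⟨rfl, hlt z.1⟩
      have h2 := div_modByMonic_unique w.2 (C w.1) hmonic ⟨hzw.symm, hlt w.1⟩
      have h3 : z.2 = w.2 := h1.1.symm.trans h2.1
      have h4 : (C z.1 : S[X]) = C w.1 := h1.2.symm.trans h2.2
      exact Prod.ext (C_injective h4) h3
    have hψsurj : Function.Surjective ψ := by
      rintro ⟨g, hg⟩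
      obtain ⟨s, h, rfl⟩ := (hmemA g).mp hg
      refine ⟨(s, h), ?_⟩
      apply Subtype.ext
      change ψ₀ (s, h) = _
      rw [hψ₀]
    exact Module.Free.of_equiv (LinearEquiv.ofBijective ψ ⟨hψinj, hψsurj⟩)
  · -- finiteness: generated by 1 and X
    refine ⟨⟨{1, X}, ?_⟩⟩
    rw [eq_top_iff]
    intro g _
    have hr := degree_modByMonic_lt g hmonic
    rw [hdeg] at hr
    have hr1 : (g %ₘ f).degree ≤ 1 := by
      rw [degree_le_iff_coeff_zero]
      intro m hm
      have hm' : 1 < m := by exact_mod_cast hm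
      exact (degree_lt_iff_coeff_zero _ 2).mp (by exact_mod_cast hr) m (by omega)
    have hrr := eq_X_add_C_of_degree_le_one hr1
    have hg : g = (C ((g %ₘ f).coeff 0) + f * (g /ₘ f)) * 1 + C ((g %ₘ f).coeff 1) * X := by
      have := modByMonic_add_div g f
      conv_lhs => rw [← this, hrr]
      ring
    have hm1 : C ((g %ₘ f).coeff 0) + f * (g /ₘ f) ∈ Asub := (hmemA _).mpr ⟨_, _, rfl⟩
    have hm2 : C ((g %ₘ f).coeff 1) ∈ Asub := (hmemA _).mpr ⟨(g %ₘ f).coeff 1, 0, by simp⟩
    rw [hg]
    apply Submodule.add_mem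
    · have : (C ((g %ₘ f).coeff 0) + f * (g /ₘ f)) * 1 =
          (⟨_, hm1⟩ : Asub) • (1 : S[X]) := rfl
      rw [this]
      exact Submodule.smul_mem _ _ (Submodule.subset_span (by simp))
    · have : C ((g %ₘ f).coeff 1) * X = (⟨_, hm2⟩ : Asub) • (X : S[X]) := rfl
      rw [this]
      exact Submodule.smul_mem _ _ (Submodule.subset_span (by simp))

end Groth.Agent.S19184
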