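import Groth.Statements.S19186
import Mathlib

set_option autoImplicit false
universe u
open OneMot

namespace Groth.Agent.S19186

/-- Let p and ℓ be distinct prime numbers, r and n natural numbers, and f : A → B a homomorphism of
abelian groups whose kernel and cokernel are annihilated by p^r (f a = 0 implies p^r • a = 0, and
every p^r • b lies in the image of f). Then f induces a bijection between the ℓ^n-torsion subgroups
of A and B and a bijection A/ℓ^n A → B/ℓ^n B. Spelled out without quotients: every ℓ^n-torsion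
element of B has exactly one ℓ^n-torsion preimage; an element of A whose image is an ℓ^n-multiple is
itself an ℓ^n-multiple; and every element of B is the sum of an image and an ℓ^n-multiple. -/
theorem result {A B : Type u} [AddCommGroup A] [AddCommGroup B] (f : A →+ B) (p ℓ r n : ℕ) (hp : p.Prime) (hl : ℓ.Prime) (hne : ℓ ≠ p) (hker : ∀ a : A, f a = 0 → p ^ r • a = 0) (hcoker : ∀ b : B, ∃ a : A, f a = p ^ r • b) : (∀ b : B, ℓ ^ n • b = 0 → ∃! a : A, ℓ ^ n • a = 0 ∧ f a = b) ∧ (∀ a : A, (∃ b' : B, f a = ℓ ^ n • b') → ∃ a' : A, a = ℓ ^ n • a') ∧ (∀ b : B, ∃ (a : A) (b' : B), b = f a + ℓ ^ n • b') := by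
  have hcop : Nat.Coprime (ℓ ^ n) (p ^ r) :=
    Nat.Coprime.pow _ _ ((Nat.coprime_primes hl hp).mpr hne)
  obtain ⟨u, v, huv⟩ := (Nat.isCoprime_iff_coprime.mpr hcop)
  have hcop2 : Nat.Coprime (ℓ ^ n) (p ^ r * p ^ r) := Nat.Coprime.mul_right hcop hcop
  obtain ⟨u', v', huv'⟩ := (Nat.isCoprime_iff_coprime.mpr hcop2)
  set L : ℤ := ((ℓ ^ n : ℕ) : ℤ) with hL
  set P : ℤ := ((p ^ r : ℕ) : ℤ) with hP
  have hkerZ : ∀ a : A, f a = 0 → P • a = 0 := by
    intro a ha
    rw [hP, natCast_zsmul]
    exact hker a ha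
  have hcokerZ : ∀ b : B, ∃ a : A, f a = P • b := by
    intro b
    obtain ⟨a, ha⟩ := hcoker b
    exact ⟨a, by rw [hP, natCast_zsmul]; exact ha⟩
  have hLn : ∀ {G : Type u} [AddCommGroup G] (x : G), ℓ ^ n • x = L • x := by
    intro G _ x
    rw [hL, natCast_zsmul]
  have hone : ∀ {G : Type u} [AddCommGroup G] (x : G), x = (u * L) • x + (v * P) • x := by
    intro G _ x
    rw [← add_smul, huv, one_smul]
  have hone' : ∀ {G : Type u} [AddCommGroup G] (x : G), x = (u' * L) • x + (v' * (P * P)) • x := by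
    intro G _ x
    have : ((↑(p ^ r * p ^ r) : ℕ) : ℤ) = P * P := by rw [hP]; push_cast; ring
    rw [← this, ← add_smul, huv', one_smul]
  refine ⟨?_, ?_, ?_⟩
  · intro b hb
    rw [hLn] at hb
    obtain ⟨a₀, ha₀⟩ := hcokerZ b
    have hfa₁ : f (v • a₀) = b := by
      rw [map_zsmul, ha₀]
      linear_combination (norm := module) (-1 : ℤ) • hone b - u • hb
    have hc : P • (L • (v • a₀)) = 0 := by
      apply hkerZ
      rw [map_zsmul, hfa₁, hb]
    have haL : L • ((v * P) • (v • a₀)) = 0 := by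
      linear_combination (norm := module) v • hc
    have haf : f ((v * P) • (v • a₀)) = b := by
      rw [map_zsmul, hfa₁]
      linear_combination (norm := module) (-1 : ℤ) • hone b - u • hb
    refine ⟨(v * P) • (v • a₀), ⟨?_, haf⟩, ?_⟩
    · rw [hLn]
      exact haL
    · rintro a' ⟨ha'L, ha'f⟩
      rw [hLn] at ha'L
      have hd : f (a' - (v * P) • (v • a₀)) = 0 := by rw [map_sub, ha'f, haf, sub_self]
      have hPd : P • (a' - (v * P) • (v • a₀)) = 0 := hkerZ _ hd
      have hLd : L • (a' - (v * P) • (v • a₀)) = 0 := by rw [smul_sub, ha'L, haL, sub_self]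
      linear_combination (norm := module) hone (a' - (v * P) • (v • a₀)) + u • hLd + v • hPd
  · rintro a ⟨b', hb'⟩
    rw [hLn] at hb'
    obtain ⟨a₀, ha₀⟩ := hcokerZ b'
    have h1 : f (P • a - L • a₀) = 0 := by
      rw [map_sub, map_zsmul, map_zsmul, hb', ha₀]
      module
    have h2 : P • (P • a - L • a₀) = 0 := hkerZ _ h1
    refine ⟨u' • a + (v' * P) • a₀, ?_⟩
    rw [hLn]
    linear_combination (norm := module) hone' a + v' • h2
  · intro b
    obtain ⟨a₀, ha₀⟩ := hcokerZ b
    refine ⟨v • a₀, u • b, ?_⟩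
    rw [hLn, map_zsmul, ha₀]
    linear_combination (norm := module) hone b

end Groth.Agent.S19186
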