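import Groth.Statements.S19187
import Mathlib

set_option autoImplicit false
universe u
open Cpct

namespace Groth.Agent.S19187

open CategoryTheory AlgebraicGeometry in
/-- Let k be a field, X̄ and Ȳ schemes proper over Spec k, j : X → X̄ an open immersion with dense image
and v : Y → Ȳ an open immersion (compactifications of X and Y), f : X → Y a proper morphism and f̄ :
X̄ → Ȳ a morphism over Spec k with f̄ ∘ j = v ∘ f. Then the preimage under f̄ of the open v(Y) is
the open j(X); equivalently, the complement of X in X̄ is the preimage of the complement of Y in Ȳ.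
(The base field k is arbitrary: no perfectness assumption is needed.) -/
theorem result {k : Type u} [Field k] {X Y Xb Yb : Scheme.{u}} (a : Xb ⟶ Spec (CommRingCat.of k)) (b : Yb ⟶ Spec (CommRingCat.of k)) [IsProper a] [IsProper b] (j : X ⟶ Xb) [IsOpenImmersion j] (hj : Dense (Set.range j.base)) (v : Y ⟶ Yb) [IsOpenImmersion v] (f : X ⟶ Y) [IsProper f] (fb : Xb ⟶ Yb) (hfb : fb ≫ b = a) (hsq : j ≫ fb = f ≫ v) : fb ⁻¹ᵁ v.opensRange = j.opensRange := by
  haveI : IsProper fb := by
    haveI : IsProper (fb ≫ b) := by rw [hfb]; infer_instance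
    exact IsProper.of_comp fb b
  let W : Xb.Opens := fb ⁻¹ᵁ v.opensRange
  have hjW : ∀ x, j x ∈ W := by
    intro x
    show fb (j x) ∈ v.opensRange
    rw [← Scheme.Hom.comp_apply, hsq, Scheme.Hom.comp_apply]
    exact ⟨f x, rfl⟩
  let j' : X ⟶ W := IsOpenImmersion.lift W.ι j (by
    rw [Scheme.Opens.range_ι]; rintro _ ⟨x, rfl⟩; exact hjW x)
  have hj' : j' ≫ W.ι = j := IsOpenImmersion.lift_fac _ _ _
  let g : (W : Scheme) ⟶ Y := IsOpenImmersion.lift v (W.ι ≫ fb) (by
    rintro _ ⟨w, rfl⟩
    exact w.2)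
  have hg : g ≫ v = W.ι ≫ fb := IsOpenImmersion.lift_fac _ _ _
  haveI : IsSeparated g := by
    haveI : IsSeparated (g ≫ v) := by rw [hg]; infer_instance
    exact IsSeparated.of_comp g v
  have hj'g : j' ≫ g = f := by
    rw [← cancel_mono v, Category.assoc, hg, reassoc_of% hj', hsq]
  haveI : IsProper j' := by
    haveI : IsProper (j' ≫ g) := by rw [hj'g]; infer_instance
    exact IsProper.of_comp j' g
  have hclosed : IsClosed (Set.range j') := j'.isClosedMap.isClosed_range
  have huniv : Set.range j' = Set.univ := by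
    by_contra hne
    have hO : IsOpen (W.ι '' (Set.range j')ᶜ) :=
      W.ι.isOpenEmbedding.isOpenMap _ hclosed.isOpen_compl
    have hOne : (W.ι '' (Set.range j')ᶜ).Nonempty := by
      rw [Set.image_nonempty, Set.nonempty_compl]; exact hne
    obtain ⟨_, ⟨w, hw, rfl⟩, ⟨x, hx⟩⟩ := hj.inter_open_nonempty _ hO hOne
    apply hw
    refine ⟨x, ?_⟩
    apply W.ι.isOpenEmbedding.injective
    rw [← Scheme.Hom.comp_apply, hj', hx]
  ext w
  constructor
  · intro hw
    obtain ⟨x, hx⟩ := huniv.ge (Set.mem_univ (⟨w, hw⟩ : W))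
    refine ⟨x, ?_⟩
    have := congrArg W.ι hx
    rw [← Scheme.Hom.comp_apply, hj'] at this
    exact this
  · rintro ⟨x, rfl⟩; exact hjW x

end Groth.Agent.S19187
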