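import Groth.Statements.S19193
import Mathlib.Algebra.BigOperators.Fin
import Mathlib.Algebra.BigOperators.GroupWithZero.Action
import Mathlib.Algebra.Module.BigOperators


set_option autoImplicit false
universe u
open CategoryTheory Opposite TopologicalSpace
open CohTop

namespace Groth.Agent.S19193

section Aux
open W4c6blochformula0cyc

variable {X : Type u} [TopologicalSpace X] (F : (Opens X)ᵒᵖ ⥤ AddCommGrpCat.{u})

theorem res_res {V W W' : Opens X} (h₁ : W ≤ V) (h₂ : W' ≤ W) (x : F.obj (op V)) :
    res F h₂ (res F h₁ x) = res F (h₂.trans h₁) x := by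
  unfold res
  rw [← AddCommGrpCat.comp_apply, ← F.map_comp]
  rfl

theorem res_self {V : Opens X} (h : V ≤ V) (x : F.obj (op V)) : res F h x = x := by
  unfold res
  have : (homOfLE h).op = 𝟙 (op V) := rfl
  rw [this, F.map_id]
  rfl

theorem res_congr {ι : Type u} {U : ι → Opens X} {m : ℕ} (f : Cochain F U m)
    {t₁ t₂ : Fin m → ι} (e : t₁ = t₂) {W : Opens X} (h₁ : W ≤ cechOpen U t₁)
    (h₂ : W ≤ cechOpen U t₂) : res F h₁ (f t₁) = res F h₂ (f t₂) := by
  subst e
  rfl

theorem E_congr {ι : Type u} {U : ι → Opens X}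
    (E : ∀ (V : Opens X) (α : ι), F.obj (op (V ⊓ U α)) →+ F.obj (op V))
    {V V' : Opens X} (e : V = V') (α : ι) (g : F.obj (op (V ⊓ U α))) (h₁ : V' ≤ V)
    (h₂ : V' ⊓ U α ≤ V ⊓ U α) :
    res F h₁ (E V α g) = E V' α (res F h₂ g) := by
  subst e
  rw [res_self, res_self]

theorem cechOpen_eq {ι : Type u} (U : ι → Opens X) {m : ℕ} (t : Fin (m + 1) → ι) (i : Fin (m + 1)) :
    cechOpen U t = cechOpen U (t ∘ i.succAbove) ⊓ U (t i) := by
  apply le_antisymm
  · exact le_inf (cechOpen_le_comp U t i) (iInf_le (fun j => U (t j)) i)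
  · refine le_iInf fun j => ?_
    rcases Fin.eq_self_or_eq_succAbove i j with rfl | ⟨j', rfl⟩
    · exact inf_le_right
    · exact inf_le_left.trans (iInf_le (fun l => U ((t ∘ i.succAbove) l)) j')

theorem cons_comp_succ_succAbove {ι : Type u} {m : ℕ} (α : ι) (t : Fin (m + 1) → ι) (i : Fin (m + 1)) :
    (Fin.cons α t : Fin (m + 2) → ι) ∘ i.succ.succAbove =
      (Fin.cons α (t ∘ i.succAbove) : Fin (m + 1) → ι) := by
  funext j
  refine Fin.cases ?_ (fun j' => ?_) j
  · simp
  · simp

theorem cons_comp_zero_succAbove {ι : Type u} {m : ℕ} (α : ι) (t : Fin m → ι) :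
    (Fin.cons α t : Fin (m + 1) → ι) ∘ (0 : Fin (m + 1)).succAbove = t := by
  funext j
  simp

end Aux

open W4c6blochformula0cyc in
/-- Let `F` be a presheaf of abelian groups on a topological space `X`, `U` a family of opens of `X`
indexed by a finite type, and suppose given, for every open `V` and every index `α`, an additive map
`E V α : F(V ∩ U_α) → F(V)` such that for every nonempty tuple of indices `t`, with `V = U_{t_0} ∩ ⋯
∩ U_{t_m}`: (i) `∑_α E V α (f|_{V ∩ U_α}) = f` for all `f ∈ F(V)`, and (ii) `(E V α g)|_{V ∩ U_β} =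
E (V ∩ U_β) α (g|_{V ∩ U_β ∩ U_α})` for all indices `α, β` and all `g ∈ F(V ∩ U_α)`. Then the
operator `H` on ordered Čech cochains, `(H f)_t = ∑_α E (U_t) α (f_{(α, t)})`, satisfies `H (δ f) +
δ (H f) = f` for every Čech cochain `f` on tuples of length at least `2`, i.e. in every Čech degree
`≥ 1`. (The published statement takes a flasque sheaf on an open cover and extension maps attached
to pairs of finite intersections; this row takes any presheaf, any finite family of opens, and maps
that may depend on the index, none of which the printed argument needs. The published statement also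
asserts the identity in every degree of the Čech complex without augmentation term, and allows an
infinite index set with finitely supported sums; in Čech degree `0`, where that complex has no term
below and the identity reads `H (δ f) = f`, it fails in general — for the one-member cover of a
point and the constant presheaf `ℤ` with `E` the identity, `δ f` vanishes on the pair while `f` need
not — so it is stated here from degree `1` on, i.e. for cochains on tuples of length at least `2`
(the whole-space term on the empty tuple carried by the cochain groups used here plays no role), and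
for a finite index type.) -/
theorem result {X : Type u} [TopologicalSpace X]
    {ι : Type u} [Fintype ι] (F : (Opens X)ᵒᵖ ⥤ AddCommGrpCat.{u}) (U : ι → Opens X)
    (E : ∀ (V : Opens X) (α : ι), F.obj (op (V ⊓ U α)) →+ F.obj (op V))
    (h2 : ∀ (m : ℕ) (t : Fin (m + 1) → ι) (f : F.obj (op (cechOpen U t))),
      ∑ α, E (cechOpen U t) α (res F inf_le_left f) = f)
    (h3 : ∀ (m : ℕ) (t : Fin (m + 1) → ι) (α β : ι) (g : F.obj (op (cechOpen U t ⊓ U α))),
      res F inf_le_left (E (cechOpen U t) α g) =
        E (cechOpen U t ⊓ U β) α (res F (inf_le_inf_right (U α) inf_le_left) g))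
    (n : ℕ) (f : Cochain F U (n + 2)) :
    homotopy F U E (n + 2) (delta F U (n + 2) f) + delta F U (n + 1) (homotopy F U E (n + 1) f) = f := by
  open W4c6blochformula0cyc in
  funext t
  -- the common value of the cancelling terms
  have hA : ∀ (α : ι) (i : Fin (n + 2)),
      cechOpen U t ⊓ U α ≤ cechOpen U (Fin.cons α (t ∘ i.succAbove) : Fin (n + 2) → ι) := by
    intro α i
    refine (inf_le_inf_right (U α) (cechOpen_le_comp U t i)).trans ?_
    exact inf_le_cechOpen_cons U (t ∘ i.succAbove) α
  let A : ι → Fin (n + 2) → F.obj (op (cechOpen U t)) := fun α i =>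
    E (cechOpen U t) α (res F (hA α i) (f (Fin.cons α (t ∘ i.succAbove))))
  -- first part
  have h1 : (homotopy F U E (n + 2) (delta F U (n + 2) f)) t =
      f t + ∑ α, ∑ i : Fin (n + 2), ((-1 : ℤ) ^ ((i : ℕ) + 1)) • A α i := by
    change ∑ α : ι, E (cechOpen U t) α (res F (inf_le_cechOpen_cons U t α)
      (∑ j : Fin (n + 2 + 1), ((-1 : ℤ) ^ (j : ℕ)) •
        res F (cechOpen_le_comp U (Fin.cons α t) j) (f ((Fin.cons α t) ∘ j.succAbove)))) = _
    simp_rw [map_sum, map_zsmul, res_res]
    simp_rw [Fin.sum_univ_succ (n := n + 2)]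
    rw [Finset.sum_add_distrib]
    congr 1
    · simp only [Fin.val_zero, pow_zero, one_smul]
      rw [← h2 (n + 1) t (f t)]
      refine Finset.sum_congr rfl fun α _ => ?_
      congr 1
    · refine Finset.sum_congr rfl fun α _ => ?_
      refine Finset.sum_congr rfl fun i _ => ?_
      simp only [Fin.val_succ]
      congr 2
      exact res_congr F f (cons_comp_succ_succAbove α t i) _ _
  -- second part
  have h2' : (delta F U (n + 1) (homotopy F U E (n + 1) f)) t =
      ∑ i : Fin (n + 2), ((-1 : ℤ) ^ (i : ℕ)) • ∑ α, A α i := by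
    change ∑ i : Fin (n + 1 + 1), ((-1 : ℤ) ^ (i : ℕ)) • res F (cechOpen_le_comp U t i)
      (∑ α : ι, E (cechOpen U (t ∘ i.succAbove)) α
        (res F (inf_le_cechOpen_cons U (t ∘ i.succAbove) α) (f (Fin.cons α (t ∘ i.succAbove))))) = _
    refine Finset.sum_congr rfl fun i _ => ?_
    congr 1
    rw [map_sum]
    refine Finset.sum_congr rfl fun α _ => ?_
    set s : Fin (n + 1) → ι := t ∘ i.succAbove with hs
    set g := res F (inf_le_cechOpen_cons U s α) (f (Fin.cons α s)) with hg
    have hV : cechOpen U t = cechOpen U s ⊓ U (t i) := cechOpen_eq U t i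
    have e1 : res F (cechOpen_le_comp U t i) (E (cechOpen U s) α g) =
        res F hV.le (res F inf_le_left (E (cechOpen U s) α g)) := by
      rw [res_res]
    rw [e1, h3 n s α (t i) g]
    rw [E_congr F E hV.symm α _ hV.le (inf_le_inf_right (U α) hV.le)]
    change _ = E (cechOpen U t) α (res F (hA α i) (f (Fin.cons α (t ∘ i.succAbove))))
    rw [hg, res_res, res_res]
  have h4 : (homotopy F U E (n + 2) (delta F U (n + 2) f) +
      delta F U (n + 1) (homotopy F U E (n + 1) f)) t =
      (homotopy F U E (n + 2) (delta F U (n + 2) f)) t +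
        (delta F U (n + 1) (homotopy F U E (n + 1) f)) t := rfl
  rw [h4, h1, h2', add_assoc]
  have h5 : ∑ α, ∑ i : Fin (n + 2), ((-1 : ℤ) ^ ((i : ℕ) + 1)) • A α i +
      ∑ i : Fin (n + 2), ((-1 : ℤ) ^ (i : ℕ)) • ∑ α, A α i = 0 := by
    simp_rw [Finset.smul_sum]
    rw [Finset.sum_comm, ← Finset.sum_add_distrib]
    refine Finset.sum_eq_zero fun i _ => ?_
    rw [← Finset.sum_add_distrib]
    refine Finset.sum_eq_zero fun α _ => ?_
    rw [pow_succ, mul_neg_one, neg_smul, neg_add_cancel]
  rw [h5, add_zero]

end Groth.Agent.S19193
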