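import Groth.Statements.S19195
import Mathlib
import Groth.Agent.Lib.Helper14.LCF.Slice
import Groth.Agent.Lib.Helper25.FlatAtCrit

set_option autoImplicit false
set_option linter.style.haveILetI false
universe u
open TensorProduct
open RelS1

namespace Groth.Agent.S19195


section Aux

theorem reg_iff {R X : Type*} [Semiring R] [AddCommGroup X] [Module R X] (r : R) :
    IsSMulRegular X r ↔ ∀ x : X, r • x = 0 → x = 0 := isSMulRegular_iff_right_eq_zero_of_smul

theorem isSMulRegular_of_isLocalizedModule {R X X' : Type*} [CommRing R] [AddCommGroup X]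
    [Module R X] [AddCommGroup X'] [Module R X'] (S : Submonoid R) (g : X →ₗ[R] X')
    [IsLocalizedModule S g] {a : R} (h : IsSMulRegular X a) : IsSMulRegular X' a := by
  rw [isSMulRegular_iff_right_eq_zero_of_smul] at h ⊢
  intro x' hx'
  obtain ⟨⟨x, s⟩, hxs⟩ := IsLocalizedModule.surj S g x'
  have hxs' : (s : R) • x' = g x := hxs
  have h1 : g (a • x) = 0 := by
    rw [map_smul, ← hxs', smul_comm, hx', smul_zero]
  obtain ⟨t, ht⟩ := (IsLocalizedModule.eq_zero_iff S g).mp h1
  have h2 : (t : R) • x = 0 := by
    apply h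
    rw [smul_comm]
    exact ht
  have h3 : g x = 0 := (IsLocalizedModule.eq_zero_iff S g).mpr ⟨t, h2⟩
  rw [h3] at hxs'
  have hunit := IsLocalizedModule.map_units g s
  have hinj := ((Module.End.isUnit_iff _).mp hunit).1
  apply hinj
  rw [map_zero, Module.algebraMap_end_apply]
  exact hxs'

variable {A B M : Type u} [CommRing A] [CommRing B] [Algebra A B] [AddCommGroup M] [Module B M]
  [Module A M] [IsScalarTower A B M]

theorem fibre_regular [Algebra.FinitePresentation A B] (p : Ideal A) [p.IsPrime] (a : B)
    (hS1 : associatedPrimes (B ⊗[A] p.ResidueField) ((B ⊗[A] p.ResidueField) ⊗[B] M) ⊆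
        (Module.annihilator (B ⊗[A] p.ResidueField)
          ((B ⊗[A] p.ResidueField) ⊗[B] M)).minimalPrimes)
    (ha : ∀ P ∈ (Module.annihilator (B ⊗[A] p.ResidueField)
          ((B ⊗[A] p.ResidueField) ⊗[B] M)).minimalPrimes,
        a ⊗ₜ[A] (1 : p.ResidueField) ∉ P) :
    IsSMulRegular ((B ⊗[A] p.ResidueField) ⊗[B] M) (a ⊗ₜ[A] (1 : p.ResidueField)) := by
  haveI : IsNoetherianRing (B ⊗[A] p.ResidueField) := by
    haveI : Algebra.FiniteType A B := inferInstance
    haveI : Algebra.FiniteType p.ResidueField (p.ResidueField ⊗[A] B) := inferInstance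
    haveI : IsNoetherianRing (p.ResidueField ⊗[A] B) :=
      Algebra.FiniteType.isNoetherianRing p.ResidueField _
    exact isNoetherianRing_of_ringEquiv _
      (Algebra.TensorProduct.comm A p.ResidueField B).toRingEquiv
  refine (reg_iff (R := B ⊗[A] p.ResidueField)
    (X := (B ⊗[A] p.ResidueField) ⊗[B] M) _).mpr ?_
  intro x hx
  by_contra hne
  obtain ⟨P, hP, hle⟩ :=
    exists_le_isAssociatedPrime_of_isNoetherianRing (B ⊗[A] p.ResidueField) x hne
  have hmem : a ⊗ₜ[A] (1 : p.ResidueField) ∈ P := hle (by
    rw [Submodule.mem_colon_singleton, hx]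
    exact Submodule.zero_mem _)
  exact ha P (hS1 hP) hmem

theorem regular_tensor_residue (p : Ideal A) [p.IsPrime] (a : B)
    (h : IsSMulRegular ((B ⊗[A] p.ResidueField) ⊗[B] M) (a ⊗ₜ[A] (1 : p.ResidueField))) :
    IsSMulRegular (M ⊗[A] p.ResidueField) a := by
  have h := (reg_iff (R := B ⊗[A] p.ResidueField)
    (X := (B ⊗[A] p.ResidueField) ⊗[B] M) _).mp h
  refine (reg_iff (R := B) (X := M ⊗[A] p.ResidueField) _).mpr ?_
  intro x hx
  let e : ((B ⊗[A] p.ResidueField) ⊗[B] M) ≃ₗ[B] M ⊗[A] p.ResidueField :=
    (TensorProduct.comm B (B ⊗[A] p.ResidueField) M) ≪≫ₗ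
      (AlgebraTensorModule.cancelBaseChange A B B M p.ResidueField)
  have h2 : e.symm x = 0 := by
    apply h
    have h3 : (a ⊗ₜ[A] (1 : p.ResidueField)) • e.symm x = a • e.symm x := by
      rw [← algebraMap_smul (B ⊗[A] p.ResidueField) a (e.symm x)]
      rfl
    rw [h3, ← map_smul, hx, map_zero]
  have h4 := congrArg e h2
  rwa [LinearEquiv.apply_symm_apply, map_zero] at h4

theorem flat_localized (Q : Ideal B) [Q.IsPrime] [Module.Flat A M] :
    Module.Flat A (LocalizedModule Q.primeCompl M) := by
  rw [Groth.Agent.Lib.Helper25.FlatAtCrit.flat_localized_iff]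
  intro P₁ P₂ _ _ _ _ h hh z hz
  have hinj : Function.Injective (h.lTensor M) :=
    Module.Flat.lTensor_preserves_injective_linearMap h hh
  exact ⟨1, Submonoid.one_mem _, by rw [one_smul]; exact hinj (by rw [hz, map_zero])⟩

theorem hreg_of_regular (Q : Ideal B) [Q.IsPrime] (p : Ideal A) [p.IsPrime] (a : B)
    [Module.Flat A (LocalizedModule Q.primeCompl M)]
    (h : IsSMulRegular (M ⊗[A] p.ResidueField) a)
    (w : LocalizedModule Q.primeCompl M)
    (hw : a • w ∈ p • (⊤ : Submodule A (LocalizedModule Q.primeCompl M))) :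
    w ∈ p • (⊤ : Submodule A (LocalizedModule Q.primeCompl M)) := by
  have hα : IsSMulRegular ((LocalizedModule Q.primeCompl M) ⊗[A] p.ResidueField) a :=
    isSMulRegular_of_isLocalizedModule Q.primeCompl
      (AlgebraTensorModule.rTensor A p.ResidueField
        (LocalizedModule.mkLinearMap Q.primeCompl M)) h
  have hα := (reg_iff (R := B)
    (X := (LocalizedModule Q.primeCompl M) ⊗[A] p.ResidueField) _).mp hα
  have hkill : ∀ v ∈ p • (⊤ : Submodule A (LocalizedModule Q.primeCompl M)),
      v ⊗ₜ[A] (1 : p.ResidueField) = 0 := by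
    intro v hv
    refine Submodule.smul_induction_on hv ?_ ?_
    · intro π hπ v' _
      rw [TensorProduct.smul_tmul, Algebra.smul_def, mul_one,
        (Ideal.algebraMap_residueField_eq_zero).mpr hπ, TensorProduct.tmul_zero]
    · intro x y hx hy
      rw [TensorProduct.add_tmul, hx, hy, add_zero]
  have h1 : w ⊗ₜ[A] (1 : p.ResidueField) = 0 := by
    apply hα
    rw [TensorProduct.smul_tmul']
    exact hkill _ hw
  let ι : (A ⧸ p) →ₗ[A] p.ResidueField :=
    (IsScalarTower.toAlgHom A (A ⧸ p) p.ResidueField).toLinearMap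
  have hι : Function.Injective ι := p.injective_algebraMap_quotient_residueField
  have hinj : Function.Injective (ι.lTensor (LocalizedModule Q.primeCompl M)) :=
    Module.Flat.lTensor_preserves_injective_linearMap ι hι
  have h2 : w ⊗ₜ[A] (Ideal.Quotient.mk p 1) = 0 := by
    apply hinj
    rw [map_zero, LinearMap.lTensor_tmul]
    have h5 : ι (Ideal.Quotient.mk p 1) = 1 := by
      rw [map_one]
      exact map_one (IsScalarTower.toAlgHom A (A ⧸ p) p.ResidueField)
    rw [h5]
    exact h1
  have h3 := congrArg
    (TensorProduct.tensorQuotEquivQuotSMul (LocalizedModule Q.primeCompl M) p) h2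
  rw [map_zero, TensorProduct.tensorQuotEquivQuotSMul_tmul_mk, one_smul,
    Submodule.Quotient.mk_eq_zero] at h3
  exact h3

end Aux



/-- Let A be a commutative ring, B a finitely presented A-algebra and M a finitely presented B-module
which is flat over A. Suppose that for every prime p of A, with residue field κ(p), the fibre module
(B ⊗_A κ(p)) ⊗_B M over the fibre ring B ⊗_A κ(p) satisfies Serre's condition (S_1) in the form:
each of its associated primes is a minimal prime of its annihilator. Let a be an element of B whose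
image a ⊗ 1 in every fibre ring B ⊗_A κ(p) lies in no minimal prime of the annihilator of the fibre
module. Then a is a non-zero-divisor on M. (Since all hypotheses are preserved by base change of A
and by passing to affine opens, this expresses that a flat finitely presented sheaf with (S_1)
fibres is pure relative to the base after every base change. The published statement is an
equivalence for sheaves on a locally finitely presented morphism, quantified over all base changes;
this row states its direct implication in affine form.) -/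
theorem result (A B M : Type u) [CommRing A] [CommRing B] [Algebra A B]
    [Algebra.FinitePresentation A B] [AddCommGroup M] [Module B M] [Module A M]
    [IsScalarTower A B M] [Module.FinitePresentation B M] [Module.Flat A M]
    (hS1 : ∀ (p : Ideal A) [p.IsPrime],
      associatedPrimes (B ⊗[A] p.ResidueField) ((B ⊗[A] p.ResidueField) ⊗[B] M) ⊆
        (Module.annihilator (B ⊗[A] p.ResidueField) ((B ⊗[A] p.ResidueField) ⊗[B] M)).minimalPrimes)
    (a : B)
    (ha : ∀ (p : Ideal A) [p.IsPrime],
      ∀ P ∈ (Module.annihilator (B ⊗[A] p.ResidueField) ((B ⊗[A] p.ResidueField) ⊗[B] M)).minimalPrimes,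
        a ⊗ₜ[A] (1 : p.ResidueField) ∉ P) :
    IsSMulRegular M a := by
  classical
  have hfib : ∀ (p : Ideal A) [p.IsPrime],
      IsSMulRegular ((B ⊗[A] p.ResidueField) ⊗[B] M) (a ⊗ₜ[A] (1 : p.ResidueField)) :=
    fun p _ => fibre_regular p a (hS1 p) (ha p)
  rw [isSMulRegular_iff_right_eq_zero_of_smul]
  intro m hm
  by_contra hne
  let I : Ideal B := LinearMap.ker (LinearMap.toSpanSingleton B M m)
  have hI : I ≠ ⊤ := by
    intro h
    have h1 : (1 : B) ∈ I := h ▸ Submodule.mem_top
    rw [LinearMap.mem_ker, LinearMap.toSpanSingleton_apply, one_smul] at h1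
    exact hne h1
  obtain ⟨Q, hQmax, hIQ⟩ := Ideal.exists_le_maximal I hI
  haveI : Q.IsPrime := hQmax.isPrime
  have haI : a ∈ I := by
    rw [LinearMap.mem_ker, LinearMap.toSpanSingleton_apply]
    exact hm
  have haQ : a ∈ Q := hIQ haI
  haveI : Module.Flat A (LocalizedModule Q.primeCompl M) := flat_localized Q
  have hreg : ∀ w : LocalizedModule Q.primeCompl M,
      a • w ∈ (Q.comap (algebraMap A B)) • (⊤ : Submodule A (LocalizedModule Q.primeCompl M)) →
      w ∈ (Q.comap (algebraMap A B)) • (⊤ : Submodule A (LocalizedModule Q.primeCompl M)) :=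
    fun w hw => hreg_of_regular Q (Q.comap (algebraMap A B)) a
      (regular_tensor_residue _ a (hfib (Q.comap (algebraMap A B)))) w hw
  obtain ⟨hregW, -⟩ := Groth.Agent.Lib.Helper14.LCF.regular_and_flat_quot_of_regular_fibre
    (A := A) Q a haQ (LocalizedModule.mkLinearMap Q.primeCompl M) hreg
  have h0 : LocalizedModule.mkLinearMap Q.primeCompl M m = 0 := by
    have hregW' := (reg_iff (R := B) (X := LocalizedModule Q.primeCompl M) _).mp hregW
    apply hregW'
    rw [← map_smul, hm, map_zero]
  obtain ⟨t, ht⟩ := (IsLocalizedModule.eq_zero_iff Q.primeCompl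
    (LocalizedModule.mkLinearMap Q.primeCompl M)).mp h0
  have htI : (t : B) ∈ I := by
    rw [LinearMap.mem_ker, LinearMap.toSpanSingleton_apply]
    exact ht
  exact t.2 (hIQ htI)

end Groth.Agent.S19195
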