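import Groth.Statements.S19196
import Mathlib.RingTheory.Ideal.MinimalPrime.Noetherian
import Mathlib.RingTheory.Ideal.AssociatedPrime.Basic

set_option autoImplicit false
universe u
open RelS1

namespace Groth.Agent.S19196

/-- Let R be a Noetherian commutative ring and N a finitely generated R-module which fails Serre's
condition (S_1), in the sense that some associated prime of N is not a minimal prime of the
annihilator of N. Then there exist an element a of R lying in no minimal prime of the annihilator of
N and a nonzero element b of N with a • b = 0; thus the basic open set D(a) meets the support of N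
densely while restriction to it is not injective on N. -/
theorem result (R N : Type u) [CommRing R] [IsNoetherianRing R]
    [AddCommGroup N] [Module R N] [Module.Finite R N]
    (h : ¬ associatedPrimes R N ⊆ (Module.annihilator R N).minimalPrimes) :
    ∃ (a : R) (b : N), (∀ P ∈ (Module.annihilator R N).minimalPrimes, a ∉ P) ∧ b ≠ 0 ∧ a • b = 0 := by
  rw [Set.not_subset] at h
  obtain ⟨q, hq, hqmin⟩ := h
  obtain ⟨hqp, b, hb⟩ := (isAssociatedPrime_iff).mp hq
  have hann : Module.annihilator R N ≤ q := by
    intro r hr
    rw [hb, Submodule.mem_colon_singleton, Module.mem_annihilator.mp hr b]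
    exact Submodule.zero_mem _
  have hfin := Ideal.finite_minimalPrimes_of_isNoetherianRing R (Module.annihilator R N)
  have hnot : ¬ ((q : Set R) ⊆ ⋃ P ∈ (hfin.toFinset : Set (Ideal R)), (id P : Ideal R)) := by
    rw [Ideal.subset_union_prime (f := id) ⊤ ⊤ (fun P hP _ _ => by
      rw [Set.Finite.mem_toFinset] at hP
      exact hP.1.1)]
    rintro ⟨P, hP, hqP⟩
    rw [Set.Finite.mem_toFinset] at hP
    have hPq : P ≤ q := hP.2 ⟨hqp, hann⟩ hqP
    exact hqmin ((le_antisymm hqP hPq) ▸ hP)
  rw [Set.not_subset] at hnot
  obtain ⟨a, haq, hau⟩ := hnot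
  refine ⟨a, b, ?_, ?_, ?_⟩
  · intro P hP haP
    apply hau
    simp only [Set.mem_iUnion]
    exact ⟨P, by simpa using hP, haP⟩
  · rintro rfl
    apply hqp.ne_top
    rw [hb, Ideal.eq_top_iff_one, Submodule.mem_colon_singleton, smul_zero]
    exact Submodule.zero_mem _
  · have : a ∈ Submodule.colon (⊥ : Submodule R N) {b} := hb ▸ haq
    rw [Submodule.mem_colon_singleton] at this
    exact (Submodule.mem_bot R).mp this

end Groth.Agent.S19196
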