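import Groth.Statements.S19197
import Mathlib
import Groth.Agent.Lib.Helper25.FibrePdUSC
import Groth.Agent.Lib.Helper25.PCFlatFP2

set_option autoImplicit false
universe u
open TensorProduct CategoryTheory
open RelS1

namespace Groth.Agent.S19197

attribute [local instance] HasDerivedCategory.standard

open CategoryTheory CategoryTheory.Limits TensorProduct
open Groth.Agent.Lib.Helper18.DR Groth.Agent.Lib.Helper25.PCFlatFP
  Groth.Agent.Lib.Helper25.FibrePdUSC

set_option linter.style.haveILetI false

theorem lt_top_iff_exists_nat (x : WithBot ℕ∞) :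
    x < ((⊤ : ℕ∞) : WithBot ℕ∞) ↔ ∃ n : ℕ, x < (n : WithBot ℕ∞) := by
  constructor
  · intro h
    induction x with
    | bot => exact ⟨0, WithBot.bot_lt_coe _⟩
    | coe m =>
      have hm : m < ⊤ := WithBot.coe_lt_coe.mp h
      obtain ⟨k, rfl⟩ := ENat.ne_top_iff_exists.mp hm.ne
      refine ⟨k + 1, ?_⟩
      have : ((k : ℕ∞) : WithBot ℕ∞) < (((k + 1 : ℕ) : ℕ∞) : WithBot ℕ∞) :=
        WithBot.coe_lt_coe.mpr (by exact_mod_cast Nat.lt_succ_self k)
      exact this
  · rintro ⟨n, hn⟩
    refine lt_of_lt_of_le hn ?_
    have : (((n : ℕ) : ℕ∞) : WithBot ℕ∞) ≤ ((⊤ : ℕ∞) : WithBot ℕ∞) :=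
      WithBot.coe_le_coe.mpr le_top
    exact this


/-- In affine form, let A be a commutative ring, B a finitely presented A-algebra which is flat over A,
and M a finitely presented B-module which is flat over A. For a prime P of B lying over the prime p
of A, let B_P/pB_P be the local ring of the fibre at P and M_P/pM_P = (B_P/pB_P) ⊗_B M the fibre
stalk module. Then the function sending P to the projective dimension of M_P/pM_P over B_P/pB_P
(valued in WithBot ℕ∞, the zero module having dimension ⊥) is upper semicontinuous on Spec B: for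
every bound, the set of P where the fibre projective dimension is below the bound is open. -/
theorem result (A B M : Type u) [CommRing A] [CommRing B] [Algebra A B]
    [Algebra.FinitePresentation A B] [Module.Flat A B] [AddCommGroup M] [Module B M] [Module A M]
    [IsScalarTower A B M] [Module.FinitePresentation B M] [Module.Flat A M] :
    UpperSemicontinuous fun P : PrimeSpectrum B => projectiveDimension (ModuleCat.of
      (Localization.AtPrime P.asIdeal ⧸ (P.asIdeal.under A).map (algebraMap A (Localization.AtPrime P.asIdeal)))
      ((Localization.AtPrime P.asIdeal ⧸ (P.asIdeal.under A).map (algebraMap A (Localization.AtPrime P.asIdeal))) ⊗[B] M)) := by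
  classical
  rw [upperSemicontinuous_iff_isOpen_preimage]
  have hpc : DRing.IsPseudoCoherentModule' B M := isPseudoCoherentModule'_of_flat_fp_algebra A B M
  haveI : (Dual.inD B M).IsLE 0 := inferInstance
  obtain ⟨E, hE0, hEff, ⟨e⟩⟩ := exists_finite_free_resolution_le (Dual.inD B M) 0 hpc
  have hopen : ∀ n : ℕ, IsOpen ((fun P : PrimeSpectrum B => projectiveDimension (ModuleCat.of
      (Localization.AtPrime P.asIdeal ⧸ (P.asIdeal.under A).map (algebraMap A (Localization.AtPrime P.asIdeal)))
      ((Localization.AtPrime P.asIdeal ⧸ (P.asIdeal.under A).map (algebraMap A (Localization.AtPrime P.asIdeal))) ⊗[B] M))) ⁻¹'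
        Set.Iio (n : WithBot ℕ∞)) := by
    intro n
    cases n with
    | zero =>
      have hset : ((fun P : PrimeSpectrum B => projectiveDimension (ModuleCat.of
          (Localization.AtPrime P.asIdeal ⧸ (P.asIdeal.under A).map (algebraMap A (Localization.AtPrime P.asIdeal)))
          ((Localization.AtPrime P.asIdeal ⧸ (P.asIdeal.under A).map (algebraMap A (Localization.AtPrime P.asIdeal))) ⊗[B] M))) ⁻¹'
            Set.Iio ((0 : ℕ) : WithBot ℕ∞)) = (Module.support B M)ᶜ := by
        ext P
        simp only [Set.mem_preimage, Set.mem_Iio, Set.mem_compl_iff]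
        rw [projectiveDimension_lt_iff, hasProjectiveDimensionLT_zero_iff_isZero,
          ← subsingleton_fibre_iff (A := A) M P]
        exact ⟨fun h => ModuleCat.subsingleton_of_isZero h,
          fun h => ModuleCat.isZero_of_subsingleton _⟩
      rw [hset, Module.support_eq_zeroLocus]
      exact (PrimeSpectrum.isClosed_zeroLocus _).isOpen_compl
    | succ d =>
      have hset : ((fun P : PrimeSpectrum B => projectiveDimension (ModuleCat.of
          (Localization.AtPrime P.asIdeal ⧸ (P.asIdeal.under A).map (algebraMap A (Localization.AtPrime P.asIdeal)))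
          ((Localization.AtPrime P.asIdeal ⧸ (P.asIdeal.under A).map (algebraMap A (Localization.AtPrime P.asIdeal))) ⊗[B] M))) ⁻¹'
            Set.Iio ((d + 1 : ℕ) : WithBot ℕ∞)) =
          Module.freeLocus B (cok E (-(d : ℤ) - 1) (-(d : ℤ))) := by
        ext P
        simp only [Set.mem_preimage, Set.mem_Iio]
        rw [projectiveDimension_lt_iff,
          Module.mem_freeLocus_iff_tensor P (Localization.AtPrime P.asIdeal)]
        exact fibre_pd_lt_iff_free M E hE0 hEff e (Localization.AtPrime P.asIdeal)
          (P.asIdeal.under A) (map_under_le (A := A) P) d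
      rw [hset]
      haveI : Module.FinitePresentation B (cok E (-(d : ℤ) - 1) (-(d : ℤ))) := by
        haveI := (hEff (-(d : ℤ))).1
        haveI := (hEff (-(d : ℤ))).2
        haveI := (hEff (-(d : ℤ) - 1)).1
        refine Module.finitePresentation_of_free_of_surjective
          (LinearMap.range (E.d (-(d : ℤ) - 1) (-(d : ℤ))).hom).mkQ (Submodule.mkQ_surjective _) ?_
        rw [Submodule.ker_mkQ, ← Module.Finite.iff_fg]
        exact Module.Finite.range _
      exact Module.isOpen_freeLocus
  intro y
  induction y with
  | bot =>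
    have : Set.Iio (⊥ : WithBot ℕ∞) = ∅ := Set.Iio_bot
    rw [this, Set.preimage_empty]
    exact isOpen_empty
  | coe y =>
    induction y with
    | top =>
      have hU : ((fun P : PrimeSpectrum B => projectiveDimension (ModuleCat.of
          (Localization.AtPrime P.asIdeal ⧸ (P.asIdeal.under A).map (algebraMap A (Localization.AtPrime P.asIdeal)))
          ((Localization.AtPrime P.asIdeal ⧸ (P.asIdeal.under A).map (algebraMap A (Localization.AtPrime P.asIdeal))) ⊗[B] M))) ⁻¹'
            Set.Iio ((⊤ : ℕ∞) : WithBot ℕ∞)) =
          ⋃ n : ℕ, ((fun P : PrimeSpectrum B => projectiveDimension (ModuleCat.of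
          (Localization.AtPrime P.asIdeal ⧸ (P.asIdeal.under A).map (algebraMap A (Localization.AtPrime P.asIdeal)))
          ((Localization.AtPrime P.asIdeal ⧸ (P.asIdeal.under A).map (algebraMap A (Localization.AtPrime P.asIdeal))) ⊗[B] M))) ⁻¹'
            Set.Iio (n : WithBot ℕ∞)) := by
        ext P
        simp only [Set.mem_preimage, Set.mem_Iio, Set.mem_iUnion]
        exact lt_top_iff_exists_nat _
      rw [hU]
      exact isOpen_iUnion hopen
    | coe n => exact hopen n

end Groth.Agent.S19197
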