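import Groth.Statements.S19202
import Mathlib.RingTheory.Flat.TorsionFree

set_option autoImplicit false
universe u
open CategoryTheory AlgebraicGeometry
open FlatMor

namespace Groth.Agent.S19202

open Scheme in
/-- The colon ideal sheaf `(I : r)` for a compatible family of sections `r`. -/
noncomputable def colonSheaf {Y : Scheme.{u}} (I : Y.IdealSheafData) (r : ∀ U : Y.affineOpens, Γ(Y, U))
    (hr : ∀ (U : Y.affineOpens) (f : Γ(Y, U)),
      (Y.presheaf.map (homOfLE <| Y.basicOpen_le f).op).hom (r U) = r (Y.affineBasicOpen f)) :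
    Y.IdealSheafData where
  ideal U := Submodule.comap (LinearMap.mulLeft Γ(Y, U) (r U)) (I.ideal U)
  map_ideal_basicOpen U f := by
    have h1 : (Y.presheaf.map (homOfLE (Y.basicOpen_le f)).op).hom = algebraMap _ _ := rfl
    have inst := U.2.isLocalization_basicOpen f
    rw [← hr U f, ← I.map_ideal_basicOpen U f, h1]
    ext x
    obtain ⟨x, s, rfl⟩ := IsLocalization.exists_mk'_eq (.powers f) x
    rw [IsLocalization.mk'_mem_map_algebraMap_iff]
    change _ ↔ (algebraMap Γ(Y, U.1) Γ(Y, Y.basicOpen f) (r U)) *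
      IsLocalization.mk' (Γ(Y, Y.basicOpen f)) x s ∈
        Ideal.map (algebraMap Γ(Y, U.1) Γ(Y, Y.basicOpen f)) (I.ideal U)
    rw [IsLocalization.mul_mk'_eq_mk'_of_mul, IsLocalization.mk'_mem_map_algebraMap_iff]
    simp only [Submodule.mem_comap, LinearMap.mulLeft_apply, mul_left_comm]

theorem mem_colonSheaf {Y : Scheme.{u}} (I : Y.IdealSheafData) (r : ∀ U : Y.affineOpens, Γ(Y, U))
    (hr : ∀ (U : Y.affineOpens) (f : Γ(Y, U)),
      (Y.presheaf.map (homOfLE <| Y.basicOpen_le f).op).hom (r U) = r (Y.affineBasicOpen f))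
    (U : Y.affineOpens) (b : Γ(Y, U)) : b ∈ (colonSheaf I r hr).ideal U ↔ r U * b ∈ I.ideal U :=
  Iff.rfl

set_option backward.isDefEq.respectTransparency false in
/-- Let R be a Dedekind domain, X and Y schemes over Spec R with X flat over Spec R, and f : X → Y a
morphism over Spec R. Then the scheme-theoretic image of f, i.e. the closed subscheme of Y cut out
by the kernel ideal sheaf of f, is flat over Spec R. (The published statement takes the base to be a
non-singular curve and f proper; this row takes the spectrum of any Dedekind domain and any morphism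
f over it.) -/
theorem result (R : Type u) [CommRing R] [IsDedekindDomain R]
    {X Y : Scheme.{u}} (p : X ⟶ Spec (CommRingCat.of R)) (q : Y ⟶ Spec (CommRingCat.of R))
    (f : X ⟶ Y) (w : f ≫ q = p) [Flat p] : Flat (f.imageι ≫ q) := by
  have hA : ∀ U : Y.affineOpens, IsAffineOpen U.1 := fun U => U.2
  let ψ : ∀ U : Y.affineOpens, CommRingCat.of R ⟶ Γ(Y, U) :=
    fun U => Spec.preimage ((hA U).fromSpec ≫ q)
  have hψ : ∀ U : Y.affineOpens, Spec.map (ψ U) = (hA U).fromSpec ≫ q := fun U => Spec.map_preimage _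
  have hψres : ∀ (U V : Y.affineOpens) (h : V.1 ≤ U.1),
      ψ U ≫ Y.presheaf.map (homOfLE h).op = ψ V := by
    intro U V h
    apply Spec.map_injective
    rw [Spec.map_comp, hψ U, hψ V, ← Category.assoc]
    congr 1
    exact (hA U).map_fromSpec (hA V) _
  -- torsion-freeness of the quotients
  have key : ∀ (r : R), r ≠ 0 → ∀ (U : Y.affineOpens) (b : Γ(Y, U)),
      (ψ U).hom r * b ∈ f.ker.ideal U → b ∈ f.ker.ideal U := by
    intro r hr0 U b hb
    have hcompat : ∀ (U : Y.affineOpens) (g : Γ(Y, U)),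
        (Y.presheaf.map (homOfLE <| Y.basicOpen_le g).op).hom ((ψ U).hom r) =
          (ψ (Y.affineBasicOpen g)).hom r := by
      intro U g
      rw [← hψres U (Y.affineBasicOpen g) (Y.basicOpen_le g)]
      rfl
    have hJ : colonSheaf f.ker (fun U => (ψ U).hom r) hcompat ≤ f.ker := by
      refine Scheme.IdealSheafData.le_ofIdeals_iff.mpr fun V c hc => ?_
      rw [mem_colonSheaf] at hc
      have hc' : (ψ V).hom r * c ∈ RingHom.ker (f.app V).hom := f.ideal_ker_le V hc
      rw [RingHom.mem_ker] at hc' ⊢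
      apply X.IsSheaf.section_ext
      intro x hx
      obtain ⟨W, hW, hxW, hWle⟩ := TopologicalSpace.Opens.isBasis_iff_nbhd.mp X.isBasis_affineOpens hx
      refine ⟨W, hWle, hxW, ?_⟩
      rw [map_zero]
      change (f.appLE V.1 W hWle).hom c = 0
      have hc'' : (f.appLE V.1 W hWle).hom ((ψ V).hom r * c) = 0 := by
        change (X.presheaf.map (homOfLE hWle).op).hom ((f.app V.1).hom ((ψ V).hom r * c)) = 0
        rw [hc', map_zero]
      have hflat : (ψ V ≫ f.appLE V.1 W hWle).hom.Flat := by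
        rw [← Flat.SpecMap_iff, Spec.map_comp, hψ V, ← Category.assoc,
          IsAffineOpen.SpecMap_appLE_fromSpec f (hA V) hW hWle, Category.assoc, w]
        infer_instance
      let φ : R →+* Γ(X, W) := (ψ V ≫ f.appLE V.1 W hWle).hom
      let _ := φ.toAlgebra
      have hfl : Module.Flat R Γ(X, W) := hflat
      have hreg := Module.Flat.isSMulRegular_of_nonZeroDivisors (M := Γ(X, W))
        (mem_nonZeroDivisors_of_ne_zero hr0)
      apply hreg
      change r • _ = r • (0 : Γ(X, W))
      rw [smul_zero, Algebra.smul_def]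
      change φ r * _ = 0
      rw [map_mul] at hc''
      exact hc''
    exact hJ U ((mem_colonSheaf _ _ hcompat U b).mpr hb)
  rw [IsZariskiLocalAtSource.iff_of_openCover (P := @Flat) f.ker.subschemeCover.openCover]
  intro U'
  let U : Y.affineOpens := U'
  change @Flat (Spec (.of (Γ(Y, U.1) ⧸ f.ker.ideal U))) _
    (f.ker.subschemeCover.f U ≫ f.ker.subschemeι ≫ q)
  have e : f.ker.subschemeCover.f U ≫ f.ker.subschemeι ≫ q =
      Spec.map (ψ U ≫ CommRingCat.ofHom (Ideal.Quotient.mk (f.ker.ideal U))) := by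
    rw [← Category.assoc, Scheme.IdealSheafData.subschemeCover_map_subschemeι,
      Scheme.IdealSheafData.glueDataObjι_ι, Category.assoc, Spec.map_comp, hψ U]
  rw [e, Flat.SpecMap_iff]
  let φ : R →+* (Γ(Y, U.1) ⧸ f.ker.ideal U) :=
    (ψ U ≫ CommRingCat.ofHom (Ideal.Quotient.mk (f.ker.ideal U))).hom
  change φ.Flat
  let _ := φ.toAlgebra
  change Module.Flat R (Γ(Y, U.1) ⧸ f.ker.ideal U)
  rw [IsDedekindDomain.flat_iff_torsion_eq_bot, Submodule.eq_bot_iff]
  intro x hx
  obtain ⟨a, ha⟩ := (Submodule.mem_torsion_iff x).mp hx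
  obtain ⟨b, rfl⟩ := Ideal.Quotient.mk_surjective x
  have h1 : (a : R) • (Ideal.Quotient.mk (f.ker.ideal U) b) =
      Ideal.Quotient.mk (f.ker.ideal U) ((ψ U).hom (a : R) * b) := by
    rw [Algebra.smul_def, map_mul]
    rfl
  have h2 : (ψ U).hom (a : R) * b ∈ f.ker.ideal U := by
    rw [← Ideal.Quotient.eq_zero_iff_mem, ← h1]
    exact ha
  exact Ideal.Quotient.eq_zero_iff_mem.mpr (key a (nonZeroDivisors.coe_ne_zero a) U b h2)

end Groth.Agent.S19202
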