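import Groth.Statements.S19208
-- import your own Groth.Agent.* helpers here
import Mathlib
import Groth.Agent.Lib.Helper22.Samuel15

set_option autoImplicit false
universe u
open Filter
open LocAlg

namespace Groth.Agent.S19208

/-- Let O be a Noetherian local ring of Krull dimension r containing a field, with maximal ideal m. The
zeroth flat multiplicity e_0(O), the supremum over m-primary ideals I of e(I)/(r!·length(O/I)) with
e(I) the Samuel multiplicity, is at least 1: for every ε > 0 there is an m-primary ideal I (I ⊆ m,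
m^N ⊆ I for some N) whose multiplicity e(I), the limit of r!·length(O/I^n)/n^r, satisfies e(I) ≥ (1
− ε)·r!·length(O/I). (The same statement for the power-series rings O[[t_1, …, t_k]] is the bound
e_k(O) ≥ 1 for the k-th flat multiplicity.) -/
theorem result (O : Type u) [CommRing O] [IsNoetherianRing O]
    [IsLocalRing O] (K : Type u) [Field K] [Algebra K O] (r : ℕ) (hr : ringKrullDim O = r)
    (ε : ℝ) (hε : 0 < ε) :
    ∃ (I : Ideal O) (e : ℝ), I ≤ IsLocalRing.maximalIdeal O ∧
      (∃ N : ℕ, IsLocalRing.maximalIdeal O ^ N ≤ I) ∧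
      Tendsto (fun n : ℕ => (r.factorial : ℝ) * ((Module.length O (O ⧸ I ^ n)).toNat : ℝ) / (n : ℝ) ^ r)
        atTop (nhds e) ∧
      (1 - ε) * ((r.factorial : ℝ) * ((Module.length O (O ⧸ I)).toNat : ℝ)) ≤ e := by
  set m := IsLocalRing.maximalIdeal O with hm
  have hI0 : m ≤ IsLocalRing.maximalIdeal O ∧ ∃ n : ℕ, IsLocalRing.maximalIdeal O ^ n ≤ m :=
    ⟨le_rfl, 1, by rw [pow_one]⟩
  haveI := Groth.Agent.Lib.Helper22.Samuel.isArtinianRing_quotient_of_local m hI0
  have hIJ := Groth.Agent.Lib.Helper22.Samuel.le_jacobson_of_local m le_rfl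
  have hdim : Module.supportDim O O = (r : WithBot ℕ∞) := by
    rw [Module.supportDim_self_eq_ringKrullDim, hr]
  obtain ⟨c, hc, hc0⟩ := Groth.Agent.Lib.Helper22.Samuel.exists_tendsto_nchi m O r hdim.le
  have hc1 : 1 ≤ c :=
    Groth.Agent.Lib.Helper22.Samuel.one_le_of_supportDim_eq m hIJ O r hdim c hc hc0
  have hcpos : (0 : ℝ) < (c : ℝ) := by
    have : (1 : ℝ) ≤ (c : ℝ) := by exact_mod_cast hc1
    linarith
  -- lengths in terms of chi
  have hlen : ∀ t : ℕ, ((Module.length O (O ⧸ m ^ t)).toNat : ℝ) =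
      (Groth.Agent.Lib.Helper22.Samuel.chi m O t : ℝ) := by
    intro t
    have := Groth.Agent.Lib.Helper22.Samuel.toNat_length_quot_pow m t
    exact_mod_cast this
  -- choose N
  obtain ⟨N, hN1, hNε⟩ : ∃ N : ℕ, 1 ≤ N ∧
      (1 - ε) * ((r.factorial : ℝ) * (Groth.Agent.Lib.Helper22.Samuel.chi m O N : ℝ)) ≤
        (N : ℝ) ^ r * (c : ℝ) := by
    by_cases hε1 : 1 ≤ ε
    · refine ⟨1, le_rfl, ?_⟩
      have h1 : (0 : ℝ) ≤ (Groth.Agent.Lib.Helper22.Samuel.chi m O 1 : ℝ) := by
        exact_mod_cast Groth.Agent.Lib.Helper22.Samuel.chi_nonneg m O 1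
      have h2 : (1 - ε) * ((r.factorial : ℝ) * (Groth.Agent.Lib.Helper22.Samuel.chi m O 1 : ℝ)) ≤ 0 := by
        apply mul_nonpos_of_nonpos_of_nonneg (by linarith)
        positivity
      have h3 : (0 : ℝ) ≤ ((1 : ℕ) : ℝ) ^ r * (c : ℝ) := by positivity
      linarith
    · push Not at hε1
      have hpos : 0 < 1 - ε := by linarith
      have hlt : (c : ℝ) < (c : ℝ) / (1 - ε) := by
        rw [lt_div_iff₀ hpos]
        nlinarith
      have hev := (hc.eventually (gt_mem_nhds hlt)).and (eventually_ge_atTop 1)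
      obtain ⟨N, hN, hN1⟩ := hev.exists
      refine ⟨N, hN1, ?_⟩
      simp only [Groth.Agent.Lib.Helper22.Samuel.nchi] at hN
      have hNpos : (0 : ℝ) < (N : ℝ) ^ r := by
        have : (0 : ℝ) < (N : ℝ) := by exact_mod_cast hN1
        positivity
      rw [div_lt_div_iff₀ hNpos hpos] at hN
      nlinarith
  refine ⟨m ^ N, (N : ℝ) ^ r * (c : ℝ), Ideal.pow_le_self (by omega), ⟨N, le_rfl⟩, ?_, ?_⟩
  · have hsub : Tendsto (fun n : ℕ => N * n) atTop atTop :=
      tendsto_atTop_mono (fun n => Nat.le_mul_of_pos_left n (by omega)) tendsto_id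
    have h1 := (hc.comp hsub).const_mul ((N : ℝ) ^ r)
    refine h1.congr' ?_
    filter_upwards [eventually_ge_atTop 1] with n hn
    simp only [Function.comp_apply, Groth.Agent.Lib.Helper22.Samuel.nchi]
    have heq : (m ^ N) ^ n = m ^ (N * n) := (pow_mul m N n).symm
    have hl : Module.length O (O ⧸ (m ^ N) ^ n) = Module.length O (O ⧸ m ^ (N * n)) :=
      (Submodule.quotEquivOfEq _ _ heq).length_eq
    rw [hl, hlen]
    have hNpos : (N : ℝ) ≠ 0 := by
      have : (0 : ℝ) < (N : ℝ) := by exact_mod_cast hN1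
      exact this.ne'
    have hnpos : (n : ℝ) ≠ 0 := by
      have : (0 : ℝ) < (n : ℝ) := by exact_mod_cast hn
      exact this.ne'
    push_cast
    rw [mul_pow]
    field_simp
  · rw [hlen]
    exact hNε

end Groth.Agent.S19208
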