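import Groth.Statements.S19209
import Mathlib.Tactic.Linarith
import Mathlib.Tactic.Ring
import Mathlib.Tactic.Positivity
import Mathlib.Algebra.BigOperators.Intervals
import Mathlib.Algebra.BigOperators.Ring.Finset
import Mathlib.Algebra.Order.BigOperators.Group.Finset
import Mathlib.Data.Real.Basic
import Mathlib.Algebra.Order.Field.Basic
import Mathlib.Tactic.NormNum

set_option autoImplicit false
universe u
open Curves

namespace Groth.Agent.S19209

theorem gauss_aux (N : ℝ) (a : ℕ) :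
    ∑ i ∈ Finset.range (a + 1), (N - (i : ℝ)) = ((a : ℝ) + 1) * N - (a : ℝ) * ((a : ℝ) + 1) / 2 := by
  induction a with
  | zero => simp
  | succ a ih =>
    rw [Finset.sum_range_succ, ih]
    push_cast
    ring

/-- multiplicative form, for all `n` (including `0`), without normalising `p n = 0`. -/
theorem chain_aux : ∀ (n : ℕ) (p : ℕ → ℝ), (∀ i j : ℕ, i ≤ j → j ≤ n → p j ≤ p i) →
    ∃ (l : ℕ) (s : ℕ → ℕ), s 0 = 0 ∧ s l = n ∧ (∀ k : ℕ, k < l → s k < s (k + 1)) ∧
      ((n : ℝ) + 1) * (∑ k ∈ Finset.range l, (p (s k) - p (s (k + 1))) * ((s k : ℝ) + (s (k + 1) : ℝ))) ≤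
        2 * (n : ℝ) * ∑ i ∈ Finset.range (n + 1), (p i - p n) := by
  intro n
  induction n using Nat.strong_induction_on with
  | _ n ih =>
    intro p hp
    rcases Nat.eq_zero_or_pos n with rfl | hn
    · exact ⟨0, fun _ => 0, rfl, rfl, fun k hk => absurd hk (Nat.not_lt_zero k), by simp⟩
    -- choose `j < n` minimising the slope to `n`
    obtain ⟨j, hjmem, hjmin⟩ := Finset.exists_min_image (Finset.range n)
      (fun j' : ℕ => (p j' - p n) / ((n : ℝ) - (j' : ℝ))) ⟨0, Finset.mem_range.mpr hn⟩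
    have hjn : j < n := Finset.mem_range.mp hjmem
    have hjn' : (j : ℝ) < (n : ℝ) := by exact_mod_cast hjn
    have hm : 0 < (n : ℝ) - (j : ℝ) := sub_pos.mpr hjn'
    set c : ℝ := p j - p n with hc
    have hc0 : 0 ≤ c := sub_nonneg.mpr (hp j n hjn.le le_rfl)
    -- all points lie above the line through `(j, p j)` and `(n, p n)`
    have hline : ∀ i : ℕ, i ≤ n → c * ((n : ℝ) - (i : ℝ)) ≤ (p i - p n) * ((n : ℝ) - (j : ℝ)) := by
      intro i hi
      rcases Nat.lt_or_ge i n with hin | hin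
      · have hin' : (i : ℝ) < (n : ℝ) := by exact_mod_cast hin
        have := hjmin i (Finset.mem_range.mpr hin)
        rwa [div_le_div_iff₀ hm (sub_pos.mpr hin')] at this
      · have : i = n := le_antisymm hi hin
        subst this
        simp
    obtain ⟨l', s', hs0, hsl, hsmono, hS'⟩ := ih j hjn p (fun i i' h1 h2 => hp i i' h1 (h2.trans hjn.le))
    set S' : ℝ := ∑ k ∈ Finset.range l', (p (s' k) - p (s' (k + 1))) * ((s' k : ℝ) + (s' (k + 1) : ℝ))
      with hS'def
    refine ⟨l' + 1, fun k => if k ≤ l' then s' k else n, ?_, ?_, ?_, ?_⟩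
    · simp [hs0]
    · simp
    · intro k hk
      rcases Nat.lt_or_ge k l' with h | h
      · have h1 : k ≤ l' := h.le
        have h2 : k + 1 ≤ l' := h
        simp only [h1, h2, if_true]
        exact hsmono k h
      · have : k = l' := le_antisymm (Nat.lt_succ_iff.mp hk) h
        subst this
        simp only [le_refl, if_true, Nat.not_succ_le_self, if_false]
        rw [hsl]
        exact hjn
    · -- the main inequality
      have hsum : ∑ k ∈ Finset.range (l' + 1),
          (p (if k ≤ l' then s' k else n) - p (if k + 1 ≤ l' then s' (k + 1) else n)) *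
            (((if k ≤ l' then s' k else n : ℕ) : ℝ) + ((if k + 1 ≤ l' then s' (k + 1) else n : ℕ) : ℝ)) =
          S' + c * ((j : ℝ) + (n : ℝ)) := by
        rw [Finset.sum_range_succ]
        congr 1
        · refine Finset.sum_congr rfl fun k hk => ?_
          have h := Finset.mem_range.mp hk
          have h1 : k ≤ l' := h.le
          have h2 : k + 1 ≤ l' := h
          simp only [h1, h2, if_true]
        · simp only [le_refl, if_true, Nat.not_succ_le_self, if_false]
          rw [hsl]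
      rw [hsum]
      -- the two partial sums
      set Xj : ℝ := ∑ i ∈ Finset.range (j + 1), (p i - p n) with hXj
      set T : ℝ := ∑ i ∈ Finset.Ico (j + 1) (n + 1), (p i - p n) with hT
      have hXn : ∑ i ∈ Finset.range (n + 1), (p i - p n) = Xj + T := by
        rw [hXj, hT, Finset.sum_range_add_sum_Ico _ (by omega : j + 1 ≤ n + 1)]
      have hXjj : ∑ i ∈ Finset.range (j + 1), (p i - p j) = Xj - ((j : ℝ) + 1) * c := by
        have h0 : ∀ i ∈ Finset.range (j + 1), p i - p j = (p i - p n) - c := by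
          intro i _
          rw [hc]; ring
        rw [Finset.sum_congr rfl h0, Finset.sum_sub_distrib, Finset.sum_const, Finset.card_range,
          nsmul_eq_mul]
        push_cast
        ring
      rw [hXjj] at hS'
      have h2 : c * (((j : ℝ) + 1) * (n : ℝ) - (j : ℝ) * ((j : ℝ) + 1) / 2) ≤ Xj * ((n : ℝ) - (j : ℝ)) := by
        rw [← gauss_aux (n : ℝ) j, Finset.mul_sum, hXj, Finset.sum_mul]
        refine Finset.sum_le_sum fun i hi => ?_
        exact hline i (by have := Finset.mem_range.mp hi; omega)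
      have h3 : c * ((((n : ℝ) + 1) * (n : ℝ) - (n : ℝ) * ((n : ℝ) + 1) / 2) -
          (((j : ℝ) + 1) * (n : ℝ) - (j : ℝ) * ((j : ℝ) + 1) / 2)) ≤ T * ((n : ℝ) - (j : ℝ)) := by
        rw [← gauss_aux (n : ℝ) j, ← gauss_aux (n : ℝ) n,
          ← Finset.sum_Ico_eq_sub _ (by omega : j + 1 ≤ n + 1), Finset.mul_sum, hT, Finset.sum_mul]
        refine Finset.sum_le_sum fun i hi => ?_
        exact hline i (by have := (Finset.mem_Ico.mp hi).2; omega)
      rw [hXn]
      have hJ0 : (0 : ℝ) ≤ (j : ℝ) := Nat.cast_nonneg j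
      have hN0 : (0 : ℝ) ≤ (n : ℝ) := Nat.cast_nonneg n
      have hpos : 0 < ((j : ℝ) + 1) * ((n : ℝ) - (j : ℝ)) := mul_pos (by linarith) hm
      have e1 := mul_le_mul_of_nonneg_left hS' (mul_nonneg (by linarith : (0 : ℝ) ≤ (n : ℝ) + 1) hm.le)
      have e2 := mul_le_mul_of_nonneg_left h2 (mul_nonneg (by norm_num : (0 : ℝ) ≤ 2) hm.le)
      have e3 := mul_le_mul_of_nonneg_left h3
        (mul_nonneg (mul_nonneg (by norm_num : (0 : ℝ) ≤ 2) hN0) (by linarith : (0 : ℝ) ≤ (j : ℝ) + 1))
      have key : ((j : ℝ) + 1) * ((n : ℝ) - (j : ℝ)) * (((n : ℝ) + 1) * (S' + c * ((j : ℝ) + (n : ℝ)))) ≤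
          ((j : ℝ) + 1) * ((n : ℝ) - (j : ℝ)) * (2 * (n : ℝ) * (Xj + T)) := by
        nlinarith [e1, e2, e3]
      exact le_of_mul_le_mul_left key hpos

/-- Let n ≥ 1 and let p_0 ≥ p_1 ≥ … ≥ p_n = 0 be real numbers. Then some chain 0 = s_0 < s_1 < … < s_l =
n satisfies Σ_{k<l} (p_{s_k} − p_{s_{k+1}})·(s_k + s_{k+1}) ≤ (2n/(n+1))·(p_0 + p_1 + … + p_n).
Equivalently the minimum of these sums over all chains, which is twice the area under the Newton
polygon (lower convex hull) of the points (k, p_k), is at most 2n/(n+1) times the sum of the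
weights. -/
theorem result (n : ℕ) (hn : 1 ≤ n) (p : ℕ → ℝ)
    (hp : ∀ i j : ℕ, i ≤ j → j ≤ n → p j ≤ p i) (hpn : p n = 0) :
    ∃ (l : ℕ) (s : ℕ → ℕ), s 0 = 0 ∧ s l = n ∧ (∀ k : ℕ, k < l → s k < s (k + 1)) ∧
      (∑ k ∈ Finset.range l, (p (s k) - p (s (k + 1))) * ((s k : ℝ) + (s (k + 1) : ℝ))) ≤
        2 * (n : ℝ) / ((n : ℝ) + 1) * ∑ i ∈ Finset.range (n + 1), p i := by
  obtain ⟨l, s, hs0, hsl, hsm, hS⟩ := chain_aux n p hp
  refine ⟨l, s, hs0, hsl, hsm, ?_⟩
  have hpos : (0 : ℝ) < (n : ℝ) + 1 := by positivity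
  simp only [hpn, sub_zero] at hS
  rw [div_mul_eq_mul_div, le_div_iff₀ hpos]
  linarith

end Groth.Agent.S19209
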