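import Groth.Statements.S19210
import Mathlib.Tactic.Linarith
import Mathlib.Tactic.Ring
import Mathlib.Tactic.Positivity
import Mathlib.Tactic.FieldSimp
import Mathlib.Algebra.BigOperators.Intervals
import Mathlib.Algebra.BigOperators.Ring.Finset
import Mathlib.Algebra.Order.BigOperators.Group.Finset
import Mathlib.Data.Real.Basic
import Mathlib.Algebra.Order.Field.Basic
import Mathlib.Tactic.NormNum

set_option autoImplicit false
universe u
open LocAlg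

namespace Groth.Agent.S19210

theorem pow_diff_lower (x : ℝ) (hx : 0 ≤ x) (b : ℕ) :
    ((b : ℝ) + 1) * x ^ b ≤ (x + 1) ^ (b + 1) - x ^ (b + 1) := by
  induction b with
  | zero => simp
  | succ b ih =>
    have h1 : x ^ (b + 1) ≤ (x + 1) ^ (b + 1) := pow_le_pow_left₀ hx (by linarith) _
    have h2 := mul_le_mul_of_nonneg_left ih hx
    push_cast
    rw [pow_succ (x + 1) (b + 1), pow_succ x (b + 1)]
    rw [pow_succ x b] at h1 h2 ⊢
    linarith

theorem pow_diff_upper (x : ℝ) (hx : 0 ≤ x) (b : ℕ) :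
    (x + 1) ^ (b + 1) - x ^ (b + 1) ≤ ((b : ℝ) + 1) * (x + 1) ^ b := by
  induction b with
  | zero => simp
  | succ b ih =>
    have h1 : x ^ (b + 1) ≤ (x + 1) ^ (b + 1) := pow_le_pow_left₀ hx (by linarith) _
    have h2 := mul_le_mul_of_nonneg_left ih (by linarith : (0 : ℝ) ≤ x + 1)
    push_cast
    rw [pow_succ (x + 1) (b + 1), pow_succ x (b + 1)]
    rw [pow_succ (x + 1) b] at h1 h2 ⊢
    linarith

theorem sum_pow_bounds (b : ℕ) (n : ℕ) :
    ((b : ℝ) + 1) * (∑ i ∈ Finset.range n, (i : ℝ) ^ b) ≤ (n : ℝ) ^ (b + 1) ∧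
      (n : ℝ) ^ (b + 1) ≤ ((b : ℝ) + 1) * ((∑ i ∈ Finset.range n, (i : ℝ) ^ b) + (n : ℝ) ^ b) := by
  induction n with
  | zero =>
    constructor
    · simp
    · simp only [Finset.range_zero, Finset.sum_empty, Nat.cast_zero, zero_add]
      have : (0 : ℝ) ≤ (0 : ℝ) ^ b := pow_nonneg le_rfl _
      have h2 : (0 : ℝ) ^ (b + 1) = 0 := by simp
      rw [h2]
      positivity
  | succ n ih =>
    have hn : (0 : ℝ) ≤ (n : ℝ) := Nat.cast_nonneg n
    have hl := pow_diff_lower (n : ℝ) hn b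
    have hu := pow_diff_upper (n : ℝ) hn b
    rw [Finset.sum_range_succ]
    push_cast
    constructor
    · nlinarith [ih.1]
    · nlinarith [ih.2]

theorem main (a : ℕ) : ∀ b : ℕ, ∃ C : ℝ, ∀ n : ℕ, 1 ≤ n →
    |(∑ i ∈ Finset.range n, ((n : ℝ) - (i : ℝ)) ^ a * (i : ℝ) ^ b) -
        (a.factorial : ℝ) * (b.factorial : ℝ) / ((a + b + 1).factorial : ℝ) * (n : ℝ) ^ (a + b + 1)| ≤
      C * (n : ℝ) ^ (a + b) := by
  induction a with
  | zero =>
    intro b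
    refine ⟨1, fun n _ => ?_⟩
    obtain ⟨h1, h2⟩ := sum_pow_bounds b n
    have hb : (0 : ℝ) < (b : ℝ) + 1 := by positivity
    have hbf : (0 : ℝ) < (b.factorial : ℝ) := by exact_mod_cast Nat.factorial_pos b
    have hc : ((0 : ℕ).factorial : ℝ) * (b.factorial : ℝ) / ((0 + b + 1).factorial : ℝ) =
        1 / ((b : ℝ) + 1) := by
      rw [zero_add, Nat.factorial_succ, Nat.factorial_zero]
      push_cast
      field_simp
    rw [hc]
    simp only [pow_zero, one_mul, zero_add]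
    set S : ℝ := ∑ i ∈ Finset.range n, (i : ℝ) ^ b with hS
    have hnb : (0 : ℝ) ≤ (n : ℝ) ^ b := by positivity
    rw [abs_le]
    have e : 1 / ((b : ℝ) + 1) * (n : ℝ) ^ (b + 1) = (n : ℝ) ^ (b + 1) / ((b : ℝ) + 1) := by ring
    rw [e]
    constructor
    · have : (n : ℝ) ^ (b + 1) / ((b : ℝ) + 1) ≤ S + (n : ℝ) ^ b := by
        rw [div_le_iff₀ hb]; linarith
      linarith
    · have : S ≤ (n : ℝ) ^ (b + 1) / ((b : ℝ) + 1) := by
        rw [le_div_iff₀ hb]; linarith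
      linarith
  | succ a ih =>
    intro b
    obtain ⟨C1, hC1⟩ := ih b
    obtain ⟨C2, hC2⟩ := ih (b + 1)
    refine ⟨C1 + C2, fun n hn => ?_⟩
    have h1 := hC1 n hn
    have h2 := hC2 n hn
    have hn0 : (0 : ℝ) ≤ (n : ℝ) := Nat.cast_nonneg n
    have hsum : ∑ i ∈ Finset.range n, ((n : ℝ) - (i : ℝ)) ^ (a + 1) * (i : ℝ) ^ b =
        (n : ℝ) * (∑ i ∈ Finset.range n, ((n : ℝ) - (i : ℝ)) ^ a * (i : ℝ) ^ b) -
          ∑ i ∈ Finset.range n, ((n : ℝ) - (i : ℝ)) ^ a * (i : ℝ) ^ (b + 1) := by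
      rw [Finset.mul_sum, ← Finset.sum_sub_distrib]
      refine Finset.sum_congr rfl fun i _ => ?_
      rw [pow_succ, pow_succ]
      ring
    have hconst : ((a + 1).factorial : ℝ) * (b.factorial : ℝ) / ((a + 1 + b + 1).factorial : ℝ) =
        (a.factorial : ℝ) * (b.factorial : ℝ) / ((a + b + 1).factorial : ℝ) -
          (a.factorial : ℝ) * ((b + 1).factorial : ℝ) / ((a + (b + 1) + 1).factorial : ℝ) := by
      have e1 : a + 1 + b + 1 = (a + b + 1) + 1 := by ring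
      have e2 : a + (b + 1) + 1 = (a + b + 1) + 1 := by ring
      rw [e1, e2, Nat.factorial_succ (a + b + 1), Nat.factorial_succ a, Nat.factorial_succ b]
      have hN : (0 : ℝ) < ((a + b + 1).factorial : ℝ) := by exact_mod_cast Nat.factorial_pos _
      push_cast
      field_simp
      ring
    rw [hsum, hconst]
    have e3 : (n : ℝ) ^ (a + 1 + b + 1) = (n : ℝ) * (n : ℝ) ^ (a + b + 1) := by
      rw [← pow_succ']; congr 1; ring
    have e4 : (n : ℝ) ^ (a + 1 + b + 1) = (n : ℝ) ^ (a + (b + 1) + 1) := by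
      congr 1; ring
    have e5 : (n : ℝ) ^ (a + 1 + b) = (n : ℝ) * (n : ℝ) ^ (a + b) := by
      rw [← pow_succ']; congr 1; ring
    have e6 : (n : ℝ) ^ (a + 1 + b) = (n : ℝ) ^ (a + (b + 1)) := by
      congr 1; ring
    set S1 : ℝ := ∑ i ∈ Finset.range n, ((n : ℝ) - (i : ℝ)) ^ a * (i : ℝ) ^ b
    set S2 : ℝ := ∑ i ∈ Finset.range n, ((n : ℝ) - (i : ℝ)) ^ a * (i : ℝ) ^ (b + 1)
    set c1 : ℝ := (a.factorial : ℝ) * (b.factorial : ℝ) / ((a + b + 1).factorial : ℝ)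
    set c2 : ℝ := (a.factorial : ℝ) * ((b + 1).factorial : ℝ) / ((a + (b + 1) + 1).factorial : ℝ)
    have key : (n : ℝ) * S1 - S2 - (c1 - c2) * (n : ℝ) ^ (a + 1 + b + 1) =
        (n : ℝ) * (S1 - c1 * (n : ℝ) ^ (a + b + 1)) - (S2 - c2 * (n : ℝ) ^ (a + (b + 1) + 1)) := by
      rw [← e4, e3]; ring
    rw [key]
    calc |(n : ℝ) * (S1 - c1 * (n : ℝ) ^ (a + b + 1)) - (S2 - c2 * (n : ℝ) ^ (a + (b + 1) + 1))|
        ≤ |(n : ℝ) * (S1 - c1 * (n : ℝ) ^ (a + b + 1))| + |S2 - c2 * (n : ℝ) ^ (a + (b + 1) + 1)| :=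
          abs_sub _ _
      _ = (n : ℝ) * |S1 - c1 * (n : ℝ) ^ (a + b + 1)| + |S2 - c2 * (n : ℝ) ^ (a + (b + 1) + 1)| := by
          rw [abs_mul, abs_of_nonneg hn0]
      _ ≤ (n : ℝ) * (C1 * (n : ℝ) ^ (a + b)) + C2 * (n : ℝ) ^ (a + (b + 1)) :=
          add_le_add (mul_le_mul_of_nonneg_left h1 hn0) h2
      _ = (C1 + C2) * (n : ℝ) ^ (a + 1 + b) := by
          rw [← e6, e5]; ring

/-- For natural numbers j ≤ r, the sums Σ_{i=0}^{n−1} (n − i)^{r−j} i^j equal n^{r+1}·(r − j)!·j!/(r +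
1)! up to O(n^r): there is a real constant C with |Σ_{i<n} (n − i)^{r−j} i^j − ((r − j)!·j!/(r +
1)!)·n^{r+1}| ≤ C·n^r for all n ≥ 1. -/
theorem result (r j : ℕ) (hj : j ≤ r) :
    ∃ C : ℝ, ∀ n : ℕ, 1 ≤ n →
      |(∑ i ∈ Finset.range n, ((n : ℝ) - (i : ℝ)) ^ (r - j) * (i : ℝ) ^ j) -
          ((r - j).factorial : ℝ) * (j.factorial : ℝ) / ((r + 1).factorial : ℝ) * (n : ℝ) ^ (r + 1)| ≤
        C * (n : ℝ) ^ r := by
  obtain ⟨C, hC⟩ := main (r - j) j
  rw [Nat.sub_add_cancel hj] at hC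
  exact ⟨C, hC⟩

end Groth.Agent.S19210
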