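import Mathlib
import Groth.Statements.S19213


set_option autoImplicit false
universe u v
open TensorProduct
open DiagIdeal

namespace Aux19213

variable (k : Type u) [Field k] (A : Type v) [CommRing A] [Algebra k A]

lemma ext3 {M : Type*} [AddCommMonoid M] [Module k M] (f g : A ⊗[k] (A ⊗[k] A) →ₗ[k] M)
    (h : ∀ a b c : A, f (a ⊗ₜ[k] (b ⊗ₜ[k] c)) = g (a ⊗ₜ[k] (b ⊗ₜ[k] c))) : f = g := by
  apply TensorProduct.ext'
  intro a w
  induction w using TensorProduct.induction_on with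
  | zero => simp
  | tmul b c => exact h a b c
  | add x y hx hy => simp only [tmul_add, map_add, hx, hy]

noncomputable def tau : A ⊗[k] (A ⊗[k] A) →ₐ[k] A ⊗[k] (A ⊗[k] A) :=
  Algebra.TensorProduct.map (AlgHom.id k A) (Algebra.TensorProduct.comm k A A).toAlgHom

@[simp] lemma tau_tmul (a : A) (w : A ⊗[k] A) :
    tau k A (a ⊗ₜ[k] w) = a ⊗ₜ[k] (Algebra.TensorProduct.comm k A A w) := by
  simp [tau]

lemma tau_eq (x : A ⊗[k] (A ⊗[k] A)) :
    LinearMap.lTensor A (TensorProduct.comm k A A).toLinearMap x = tau k A x := by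
  have := ext3 k A (LinearMap.lTensor A (TensorProduct.comm k A A).toLinearMap) (tau k A).toLinearMap
    (fun a b c => by simp)
  exact LinearMap.congr_fun this x

noncomputable def R12 : A ⊗[k] (A ⊗[k] A) →ₐ[k] A ⊗[k] A :=
  Algebra.TensorProduct.lift (Algebra.TensorProduct.includeLeft : A →ₐ[k] A ⊗[k] A)
    (AlgHom.id k (A ⊗[k] A)) (fun _ _ => Commute.all _ _)

@[simp] lemma R12_tmul (a : A) (w : A ⊗[k] A) : R12 k A (a ⊗ₜ[k] w) = (a ⊗ₜ[k] (1:A)) * w := by
  simp [R12]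

noncomputable def R23 : A ⊗[k] (A ⊗[k] A) →ₐ[k] A ⊗[k] A :=
  Algebra.TensorProduct.lift (Algebra.TensorProduct.includeRight : A →ₐ[k] A ⊗[k] A)
    ((Algebra.TensorProduct.includeLeft : A →ₐ[k] A ⊗[k] A).comp (Algebra.TensorProduct.lmul' k))
    (fun _ _ => Commute.all _ _)

@[simp] lemma R23_tmul (a : A) (w : A ⊗[k] A) :
    R23 k A (a ⊗ₜ[k] w) =
      ((1:A) ⊗ₜ[k] a) * ((Algebra.TensorProduct.lmul' k w) ⊗ₜ[k] (1:A)) := by
  simp [R23]

/-- `r₁₂` restricted to the `τ`-invariants is surjective. -/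
lemma exists_R12 (w : A ⊗[k] A) : ∃ y, tau k A y = y ∧ R12 k A y = w := by
  induction w using TensorProduct.induction_on with
  | zero => exact ⟨0, by simp, by simp⟩
  | tmul a b =>
    refine ⟨a ⊗ₜ[k] (b ⊗ₜ[k] (1:A) + (1:A) ⊗ₜ[k] b) - (a * b) ⊗ₜ[k] ((1:A) ⊗ₜ[k] (1:A)), ?_, ?_⟩
    · simp [add_comm]
    · simp [mul_add]
  | add x y hx hy =>
    obtain ⟨x', hx1, hx2⟩ := hx
    obtain ⟨y', hy1, hy2⟩ := hy
    exact ⟨x' + y', by simp [hx1, hy1], by simp [hx2, hy2]⟩

/-- `r₂₃` restricted to the `τ`-invariants is surjective (char ≠ 2). -/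
lemma exists_R23 [CharZero k] (w : A ⊗[k] A) : ∃ y, tau k A y = y ∧ R23 k A y = w := by
  induction w using TensorProduct.induction_on with
  | zero => exact ⟨0, by simp, by simp⟩
  | tmul b v =>
    obtain ⟨c, rfl⟩ : ∃ c : A, c + c = b := ⟨(2:k)⁻¹ • b, by rw [← add_smul]; norm_num⟩
    refine ⟨v ⊗ₜ[k] ((c ⊗ₜ[k] (1:A)) + (1:A) ⊗ₜ[k] c), ?_, ?_⟩
    · simp [add_comm]
    · simp
  | add x y hx hy =>
    obtain ⟨x', hx1, hx2⟩ := hx
    obtain ⟨y', hy1, hy2⟩ := hy
    exact ⟨x' + y', by simp [hx1, hy1], by simp [hx2, hy2]⟩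

/-- every element of `I²` is `r₁₂` of an invariant killed by `r₂₃`. -/
lemma exists_of_mem_sq (p : A ⊗[k] A) (hp : p ∈ (KaehlerDifferential.ideal k A) ^ 2) :
    ∃ x, tau k A x = x ∧ R12 k A x = p ∧ R23 k A x = 0 := by
  rw [pow_two, ← KaehlerDifferential.span_range_eq_ideal, Ideal.span_mul_span'] at hp
  induction hp using Submodule.span_induction with
  | mem p hp =>
    obtain ⟨_, ⟨s, rfl⟩, _, ⟨t, rfl⟩, rfl⟩ := hp
    refine ⟨(1:A) ⊗ₜ[k] (((1 : A) ⊗ₜ[k] s - s ⊗ₜ[k] (1 : A)) * ((1 : A) ⊗ₜ[k] t - t ⊗ₜ[k] (1 : A))),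
      ?_, ?_, ?_⟩
    · simp only [tau_tmul, map_mul, map_sub, Algebra.TensorProduct.comm_tmul]
      congr 1; ring
    · simp only [R12_tmul]
      rw [← Algebra.TensorProduct.one_def, one_mul]
    · simp
  | zero => exact ⟨0, by simp, by simp, by simp⟩
  | add x y _ _ hx hy =>
    obtain ⟨x', hx1, hx2, hx3⟩ := hx
    obtain ⟨y', hy1, hy2, hy3⟩ := hy
    exact ⟨x' + y', by simp [hx1, hy1], by simp [hx2, hy2], by simp [hx3, hy3]⟩
  | smul w x _ hx =>
    obtain ⟨x', hx1, hx2, hx3⟩ := hx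
    obtain ⟨y, hy1, hy2⟩ := exists_R12 k A w
    exact ⟨y * x', by simp [hx1, hy1], by simp [hx2, hy2], by simp [hx3]⟩

lemma mem_sq_of (p : A ⊗[k] A) (hp : Algebra.TensorProduct.lmul' k p = 0)
    (hθ : (KaehlerDifferential.D k A).tensorProductTo p = 0) :
    p ∈ (KaehlerDifferential.ideal k A) ^ 2 := by
  have hp' : p ∈ KaehlerDifferential.ideal k A := by
    rw [RingHom.mem_ker]; exact hp
  have := KaehlerDifferential.D_tensorProductTo (R := k) (S := A) ⟨p, hp'⟩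
  rw [← Ideal.toCotangent_eq_zero _ ⟨p, hp'⟩, ← this]
  exact hθ

theorem main (k : Type u) [Field k] [CharZero k]
    (A : Type v) [CommRing A] [Algebra k A]
    (r₁₂ r₂₃ : A ⊗[k] (A ⊗[k] A) →ₗ[k] A ⊗[k] A)
    (h₁₂ : ∀ a u v : A, r₁₂ (a ⊗ₜ[k] (u ⊗ₜ[k] v)) = (a * u) ⊗ₜ[k] v)
    (h₂₃ : ∀ a u v : A, r₂₃ (a ⊗ₜ[k] (u ⊗ₜ[k] v)) = (u * v) ⊗ₜ[k] a)
    (ψ : (A ⊗[k] A) × (A ⊗[k] A) →ₗ[k] Ω[A⁄k])
    (hψ : ∀ a u b v : A, ψ (a ⊗ₜ[k] u, b ⊗ₜ[k] v) =
      (2 : A) • (a • KaehlerDifferential.D k A u) - v • KaehlerDifferential.D k A b) :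
    (∀ p q : A ⊗[k] A, LinearMap.mul' k A p = LinearMap.mul' k A q →
      (ψ (p, q) = 0 ↔ ∃ x : A ⊗[k] (A ⊗[k] A),
        LinearMap.lTensor A (TensorProduct.comm k A A).toLinearMap x = x ∧ r₁₂ x = p ∧ r₂₃ x = q)) ∧
    (∀ ω : Ω[A⁄k], ∃ p q : A ⊗[k] A, LinearMap.mul' k A p = LinearMap.mul' k A q ∧ ψ (p, q) = ω) := by
  have hr12 : ∀ x, r₁₂ x = R12 k A x := by
    intro x
    exact LinearMap.congr_fun (ext3 k A r₁₂ (R12 k A).toLinearMap (fun a b c => by simp [h₁₂])) x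
  have hr23 : ∀ x, r₂₃ x = R23 k A x := by
    intro x
    exact LinearMap.congr_fun (ext3 k A r₂₃ (R23 k A).toLinearMap
      (fun a b c => by simp [h₂₃])) x
  have hmul : ∀ p : A ⊗[k] A, LinearMap.mul' k A p = Algebra.TensorProduct.lmul' k p := by
    intro p; rw [← Algebra.TensorProduct.lmul'_toLinearMap]; rfl
  obtain ⟨θ, hθdef⟩ : ∃ θ : A ⊗[k] A →ₗ[k] Ω[A⁄k],
      θ = (KaehlerDifferential.D k A).tensorProductTo.restrictScalars k := ⟨_, rfl⟩
  have hθ : ∀ a b : A, θ (a ⊗ₜ[k] b) = a • KaehlerDifferential.D k A b := fun a b => by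
    rw [hθdef]; rfl
  have hψ1 : ∀ p, ψ (p, 0) = θ p + θ p := by
    intro p
    have : ψ.comp (LinearMap.inl k _ _) = θ + θ := TensorProduct.ext' (fun a u => by
      have := hψ a u 0 0
      simp only [zero_tmul, map_zero, smul_zero, sub_zero] at this
      simp [this, hθ, two_smul])
    exact LinearMap.congr_fun this p
  have hψ2 : ∀ q, ψ (0, q) = - θ (TensorProduct.comm k A A q) := by
    intro q
    have : ψ.comp (LinearMap.inr k _ _) =
      -(θ.comp (TensorProduct.comm k A A).toLinearMap) := TensorProduct.ext' (fun b v => by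
      have := hψ 0 0 b v
      simp only [zero_tmul, map_zero, smul_zero, zero_sub] at this
      simp [this, hθ])
    exact LinearMap.congr_fun this q
  have hψsplit : ∀ p q, ψ (p, q) = (θ p + θ p) - θ (TensorProduct.comm k A A q) := by
    intro p q
    have : ((p, q) : (A ⊗[k] A) × (A ⊗[k] A)) = (p, 0) + (0, q) := by simp
    rw [this, map_add, hψ1, hψ2, sub_eq_add_neg]
  have hA : ∀ x, tau k A x = x → ψ (r₁₂ x, r₂₃ x) = 0 := by
    intro x hx
    have hL : (ψ.comp ((r₁₂.prod r₂₃).comp (LinearMap.id + (tau k A).toLinearMap))) = 0 := by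
      apply ext3
      intro a u v
      simp only [LinearMap.comp_apply, LinearMap.add_apply, LinearMap.id_apply, map_add,
        AlgHom.toLinearMap_apply, tau_tmul, Algebra.TensorProduct.comm_tmul, LinearMap.prod_apply,
        Function.prod_apply, h₁₂, h₂₃, hψ, LinearMap.zero_apply, Derivation.leibniz]
      module
    have := LinearMap.congr_fun hL x
    simp only [LinearMap.comp_apply, LinearMap.add_apply, LinearMap.id_apply,
      AlgHom.toLinearMap_apply, hx, LinearMap.zero_apply] at this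
    rw [map_add, map_add] at this
    simp only [LinearMap.prod_apply, Function.prod_apply] at this
    have h2 : (2:k) • ψ (r₁₂ x, r₂₃ x) = 0 := by rw [two_smul]; exact this
    exact (smul_eq_zero.mp h2).resolve_left two_ne_zero
  refine ⟨fun p q hpq => ⟨fun h0 => ?_, ?_⟩, ?_⟩
  · obtain ⟨x₀, hx₀, hx₀q⟩ := exists_R23 k A q
    have hA0 := hA x₀ hx₀
    obtain ⟨p', hp'⟩ : ∃ p', p' = p - r₁₂ x₀ := ⟨_, rfl⟩
    have hmp' : Algebra.TensorProduct.lmul' k p' = 0 := by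
      have hm : ∀ x, Algebra.TensorProduct.lmul' k (R12 k A x) =
          Algebra.TensorProduct.lmul' k (R23 k A x) := by
        intro x
        exact LinearMap.congr_fun (ext3 k A
          ((Algebra.TensorProduct.lmul' k).toLinearMap.comp (R12 k A).toLinearMap)
          ((Algebra.TensorProduct.lmul' k).toLinearMap.comp (R23 k A).toLinearMap)
          (fun a b c => by simp; ring)) x
      rw [hp', map_sub, hr12, hm, hx₀q, ← hmul, ← hmul, hpq, sub_self]
    have hθp' : θ p' = 0 := by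
      have h1 : ψ (p', 0) = 0 := by
        have : ((p', 0) : (A ⊗[k] A) × (A ⊗[k] A)) = (p, q) - (r₁₂ x₀, r₂₃ x₀) := by
          rw [hr23, hx₀q]; simp [hp']
        rw [this, map_sub, h0, hA0, sub_zero]
      rw [hψ1] at h1
      have h2 : (2:k) • θ p' = 0 := by rw [two_smul]; exact h1
      exact (smul_eq_zero.mp h2).resolve_left two_ne_zero
    have hθp'' : (KaehlerDifferential.D k A).tensorProductTo p' = 0 := by
      rw [hθdef] at hθp'; exact hθp'
    obtain ⟨x₁, hx₁, hx₁p, hx₁q⟩ := exists_of_mem_sq k A p' (mem_sq_of k A p' hmp' hθp'')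
    refine ⟨x₀ + x₁, ?_, ?_, ?_⟩
    · rw [tau_eq, map_add, hx₀, hx₁]
    · rw [map_add, hr12 x₁, hx₁p, hp']; abel
    · rw [map_add, hr23, hr23, hx₀q, hx₁q, add_zero]
  · rintro ⟨x, hx, rfl, rfl⟩
    exact hA x (by rw [← tau_eq]; exact hx)
  · intro ω
    obtain ⟨p, hp⟩ := KaehlerDifferential.tensorProductTo_surjective k A ω
    have hp' : θ p = ω := by rw [hθdef]; exact hp
    refine ⟨(2:k)⁻¹ • p, (1:A) ⊗ₜ[k] (LinearMap.mul' k A ((2:k)⁻¹ • p)), ?_, ?_⟩
    · simp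
    · rw [hψsplit]
      simp only [TensorProduct.comm_tmul, hθ, map_smul, hp', Derivation.map_one_eq_zero, smul_zero,
        sub_zero]
      rw [← add_smul]
      norm_num

end Aux19213
namespace Groth.Agent.S19213

/-- Let k be an algebraically closed field of characteristic zero and A a smooth k-algebra which is a
domain. Let r₁₂, r₂₃ : A ⊗ (A ⊗ A) → A ⊗ A be the k-linear maps a ⊗ u ⊗ v ↦ au ⊗ v and a ⊗ u ⊗ v ↦
uv ⊗ a (restriction to the diagonal of factors 1, 2, resp. 2, 3, the repeated coordinate written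
first), let m : A ⊗ A → A be multiplication, and let ψ : (A ⊗ A) × (A ⊗ A) → Ω_{A/k} be the k-linear
map with ψ(a ⊗ u, b ⊗ v) = 2a·du − v·db. Then for p, q in A ⊗ A with m p = m q one has ψ(p, q) = 0
if and only if (p, q) = (r₁₂ x, r₂₃ x) for some x fixed by the swap of the last two tensor factors;
and every element of Ω_{A/k} is ψ(p, q) for some pair with m p = m q. (This is exactness at the last
two places of the right resolution, on the symmetric cube of X = Spec A, of the invariants of the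
ideal of the big diagonal under the transposition of the last two factors; exactness at the first
two places is immediate. The published statement is the sheaf version for a smooth complex variety
of any dimension; an algebraically closed field of characteristic zero is used here.) -/
theorem result (k : Type u) [Field k] [IsAlgClosed k] [CharZero k]
    (A : Type v) [CommRing A] [Algebra k A] [Algebra.Smooth k A] [IsDomain A]
    (r₁₂ r₂₃ : A ⊗[k] (A ⊗[k] A) →ₗ[k] A ⊗[k] A)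
    (h₁₂ : ∀ a u v : A, r₁₂ (a ⊗ₜ[k] (u ⊗ₜ[k] v)) = (a * u) ⊗ₜ[k] v)
    (h₂₃ : ∀ a u v : A, r₂₃ (a ⊗ₜ[k] (u ⊗ₜ[k] v)) = (u * v) ⊗ₜ[k] a)
    (ψ : (A ⊗[k] A) × (A ⊗[k] A) →ₗ[k] Ω[A⁄k])
    (hψ : ∀ a u b v : A, ψ (a ⊗ₜ[k] u, b ⊗ₜ[k] v) =
      (2 : A) • (a • KaehlerDifferential.D k A u) - v • KaehlerDifferential.D k A b) :
    (∀ p q : A ⊗[k] A, LinearMap.mul' k A p = LinearMap.mul' k A q →
      (ψ (p, q) = 0 ↔ ∃ x : A ⊗[k] (A ⊗[k] A),
        LinearMap.lTensor A (TensorProduct.comm k A A).toLinearMap x = x ∧ r₁₂ x = p ∧ r₂₃ x = q)) ∧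
    (∀ ω : Ω[A⁄k], ∃ p q : A ⊗[k] A, LinearMap.mul' k A p = LinearMap.mul' k A q ∧ ψ (p, q) = ω) := by
  exact Aux19213.main k A r₁₂ r₂₃ h₁₂ h₂₃ ψ hψ

end Groth.Agent.S19213
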