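import Mathlib
import Groth.Statements.S19212
import Groth.Agent.S19213

set_option autoImplicit false
universe u v
open TensorProduct
open DiagIdeal

namespace Aux19212

variable (k : Type u) [Field k] (A : Type v) [CommRing A] [Algebra k A]

/-- swap of the first two factors -/
noncomputable def s1 : A ⊗[k] (A ⊗[k] A) →ₐ[k] A ⊗[k] (A ⊗[k] A) :=
  (Algebra.TensorProduct.leftComm k A A A).toAlgHom

@[simp] lemma s1_tmul (a b c : A) : s1 k A (a ⊗ₜ[k] (b ⊗ₜ[k] c)) = b ⊗ₜ[k] (a ⊗ₜ[k] c) := rfl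

lemma s1_eq (x : A ⊗[k] (A ⊗[k] A)) : TensorProduct.leftComm k A A A x = s1 k A x := by
  have := Aux19213.ext3 k A (TensorProduct.leftComm k A A A).toLinearMap (s1 k A).toLinearMap
    (fun a b c => by simp)
  exact LinearMap.congr_fun this x

/-- swap of the last two factors -/
noncomputable abbrev s2 : A ⊗[k] (A ⊗[k] A) →ₐ[k] A ⊗[k] (A ⊗[k] A) := Aux19213.tau k A

noncomputable abbrev R : A ⊗[k] (A ⊗[k] A) →ₐ[k] A ⊗[k] A := Aux19213.R12 k A

/-- the invariants -/
noncomputable def T : Subalgebra k (A ⊗[k] (A ⊗[k] A)) :=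
  (AlgHom.equalizer (s1 k A) (AlgHom.id k _)) ⊓ (AlgHom.equalizer (s2 k A) (AlgHom.id k _))

lemma mem_T (x : A ⊗[k] (A ⊗[k] A)) : x ∈ T k A ↔ s1 k A x = x ∧ s2 k A x = x := by
  simp [T, Algebra.mem_inf, AlgHom.mem_equalizer]

/-- the image of the invariants -/
noncomputable def S : Subalgebra k (A ⊗[k] A) := (T k A).map (R k A)

lemma mem_S (y : A ⊗[k] A) : y ∈ S k A ↔ ∃ x, (s1 k A x = x ∧ s2 k A x = x) ∧ R k A x = y := by
  simp only [S, Subalgebra.mem_map, mem_T]

variable {A}
def X (a : A) : A ⊗[k] A := a ⊗ₜ[k] (1:A)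
def Y (a : A) : A ⊗[k] A := (1:A) ⊗ₜ[k] a
def uu (a : A) : A ⊗[k] A := X k a - Y k a
def vv (a : A) : A ⊗[k] A := X k a + X k a + Y k a

lemma X_mul (a b : A) : X k (a * b) = X k a * X k b := by simp [X]
lemma Y_mul (a b : A) : Y k (a * b) = Y k a * Y k b := by simp [Y]

lemma vv_mem (a : A) : vv k a ∈ S k A := by
  rw [mem_S]
  refine ⟨a ⊗ₜ[k] ((1:A) ⊗ₜ[k] (1:A)) + (1:A) ⊗ₜ[k] (a ⊗ₜ[k] (1:A)) + (1:A) ⊗ₜ[k] ((1:A) ⊗ₜ[k] a),
    ⟨?_, ?_⟩, ?_⟩
  · simp only [map_add, s1_tmul]; abel
  · simp only [map_add, Aux19213.tau_tmul, Algebra.TensorProduct.comm_tmul]; abel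
  · simp only [map_add, Aux19213.R12_tmul, vv, X, Y, Algebra.TensorProduct.tmul_mul_tmul, mul_one, one_mul]

lemma of_nsmul_mem [CharZero k] (S' : Subalgebra k (A ⊗[k] A)) (n : ℕ) (hn : n ≠ 0)
    (z : A ⊗[k] A) (h : n • z ∈ S') : z ∈ S' := by
  have : z = (n:k)⁻¹ • (n • z) := by
    rw [← Nat.cast_smul_eq_nsmul k n z, inv_smul_smul₀ (Nat.cast_ne_zero.mpr hn)]
  rw [this]; exact S'.smul_mem h _

variable [CharZero k]

lemma P2 (a b : A) : uu k a * uu k b ∈ S k A := by
  apply of_nsmul_mem k (S k A) 2 (by norm_num)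
  have : 2 • (uu k a * uu k b) = 3 • vv k (a * b) - vv k a * vv k b := by
    simp only [uu, vv, X_mul, Y_mul]; ring
  rw [this]
  exact sub_mem (nsmul_mem (vv_mem k _) _) (mul_mem (vv_mem k _) (vv_mem k _))

lemma Pstep (a b : A) (z : A ⊗[k] A) (h1 : uu k (a * b) * z ∈ S k A) (h2 : uu k a * z ∈ S k A)
    (h3 : uu k b * z ∈ S k A) : uu k a * uu k b * z ∈ S k A := by
  have : uu k a * uu k b * z = vv k b * (uu k a * z) + vv k a * (uu k b * z) -
      3 • (uu k (a * b) * z) := by
    simp only [uu, vv, X_mul, Y_mul]; ring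
  rw [this]
  exact sub_mem (add_mem (mul_mem (vv_mem k _) h2) (mul_mem (vv_mem k _) h3)) (nsmul_mem h1 _)

lemma P3 (a b c : A) : uu k a * uu k b * uu k c ∈ S k A :=
  Pstep k a b _ (P2 k _ _) (P2 k _ _) (P2 k _ _)

lemma P4 (a b c d : A) : uu k a * uu k b * (uu k c * uu k d) ∈ S k A := by
  refine Pstep k a b _ ?_ ?_ ?_
  · rw [← mul_assoc]; exact P3 k _ _ _
  · rw [← mul_assoc]; exact P3 k _ _ _
  · rw [← mul_assoc]; exact P3 k _ _ _

lemma mul_uu_mem (w : A ⊗[k] A) (a b : A) : w * (uu k a * uu k b) ∈ S k A := by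
  induction w using TensorProduct.induction_on with
  | zero => rw [zero_mul]; exact zero_mem _
  | tmul c d =>
    have hcd : c ⊗ₜ[k] d = X k c * Y k d := by simp [X, Y]
    rw [hcd]
    apply of_nsmul_mem k (S k A) 9 (by norm_num)
    have : 9 • (X k c * Y k d * (uu k a * uu k b)) =
        vv k d * (uu k c * uu k a * uu k b) - 2 • (uu k c * uu k d * (uu k a * uu k b))
        + vv k c * vv k d * (uu k a * uu k b) - 2 • (vv k c * (uu k d * uu k a * uu k b)) := by
      simp only [uu, vv]; ring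
    rw [this]
    refine sub_mem (add_mem (sub_mem ?_ ?_) ?_) ?_
    · exact mul_mem (vv_mem k _) (P3 k _ _ _)
    · exact nsmul_mem (P4 k _ _ _ _) _
    · exact mul_mem (mul_mem (vv_mem k _) (vv_mem k _)) (P2 k _ _)
    · exact nsmul_mem (mul_mem (vv_mem k _) (P3 k _ _ _)) _
  | add x y hx hy => rw [add_mul]; exact add_mem hx hy

lemma sq_le (p : A ⊗[k] A) (hp : p ∈ (KaehlerDifferential.ideal k A) ^ 2) : p ∈ S k A := by
  rw [pow_two, ← KaehlerDifferential.span_range_eq_ideal, Ideal.span_mul_span'] at hp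
  have key : ∀ w : A ⊗[k] A, w * p ∈ S k A := by
    induction hp using Submodule.span_induction with
    | mem p hp =>
      obtain ⟨_, ⟨s, rfl⟩, _, ⟨t, rfl⟩, rfl⟩ := hp
      intro w
      have : ((1 : A) ⊗ₜ[k] s - s ⊗ₜ[k] (1 : A)) * ((1 : A) ⊗ₜ[k] t - t ⊗ₜ[k] (1 : A)) =
          uu k s * uu k t := by
        simp only [uu, X, Y]; ring
      show w * (((1 : A) ⊗ₜ[k] s - s ⊗ₜ[k] (1 : A)) * ((1 : A) ⊗ₜ[k] t - t ⊗ₜ[k] (1 : A))) ∈ S k A
      rw [this]; exact mul_uu_mem k w s t
    | zero => intro w; rw [mul_zero]; exact zero_mem _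
    | add x y _ _ hx hy => intro w; rw [mul_add]; exact add_mem (hx w) (hy w)
    | smul w' x _ hx => intro w; rw [smul_eq_mul, ← mul_assoc]; exact hx _
  simpa using key 1

theorem main (k : Type u) [Field k] [CharZero k] (A : Type v) [CommRing A] [Algebra k A]
    (r : A ⊗[k] (A ⊗[k] A) →ₗ[k] A ⊗[k] A)
    (hr : ∀ a b c : A, r (a ⊗ₜ[k] (b ⊗ₜ[k] c)) = (a * b) ⊗ₜ[k] c)
    (D : A ⊗[k] A →ₗ[k] Ω[A⁄k])
    (hD : ∀ a b : A, D (a ⊗ₜ[k] b) =
      (2 : A) • (a • KaehlerDifferential.D k A b) - b • KaehlerDifferential.D k A a) :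
    (∀ y : A ⊗[k] A, D y = 0 ↔ ∃ x : A ⊗[k] (A ⊗[k] A),
        TensorProduct.leftComm k A A A x = x ∧
        LinearMap.lTensor A (TensorProduct.comm k A A).toLinearMap x = x ∧ r x = y) ∧
    Function.Surjective D := by
  have hr' : ∀ x, r x = R k A x := fun x =>
    LinearMap.congr_fun (Aux19213.ext3 k A r (R k A).toLinearMap (fun a b c => by simp [hr])) x
  obtain ⟨θ, hθdef⟩ : ∃ θ : A ⊗[k] A →ₗ[k] Ω[A⁄k],
      θ = (KaehlerDifferential.D k A).tensorProductTo.restrictScalars k := ⟨_, rfl⟩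
  have hθ : ∀ a b : A, θ (a ⊗ₜ[k] b) = a • KaehlerDifferential.D k A b := fun a b => by
    rw [hθdef]; rfl
  have hDθ : ∀ y, D y = θ y + θ y - θ (TensorProduct.comm k A A y) := by
    intro y
    have : D = θ + θ - θ.comp (TensorProduct.comm k A A).toLinearMap :=
      TensorProduct.ext' (fun a b => by simp [hD, hθ, two_smul])
    rw [this]; rfl
  have hθcomm : ∀ y, θ y + θ (TensorProduct.comm k A A y) =
      KaehlerDifferential.D k A (Algebra.TensorProduct.lmul' k y) := by
    intro y
    have : θ + θ.comp (TensorProduct.comm k A A).toLinearMap =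
        (KaehlerDifferential.D k A).toLinearMap.comp (Algebra.TensorProduct.lmul' k).toLinearMap :=
      TensorProduct.ext' (fun a b => by simp [hθ, Derivation.leibniz, add_comm])
    exact LinearMap.congr_fun this y
  have hA : ∀ x, s1 k A x = x → s2 k A x = x → D (r x) = 0 := by
    intro x h1 h2
    have hL : (D.comp r).comp (LinearMap.id + (s1 k A).toLinearMap + (s2 k A).toLinearMap
        + (s1 k A).toLinearMap.comp (s2 k A).toLinearMap
        + (s2 k A).toLinearMap.comp (s1 k A).toLinearMap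
        + (s1 k A).toLinearMap.comp ((s2 k A).toLinearMap.comp (s1 k A).toLinearMap)) = 0 := by
      apply Aux19213.ext3
      intro a b c
      simp only [LinearMap.comp_apply, LinearMap.add_apply, LinearMap.id_apply, map_add,
        AlgHom.toLinearMap_apply, Aux19213.tau_tmul, s1_tmul, Algebra.TensorProduct.comm_tmul, hr, hD,
        LinearMap.zero_apply, Derivation.leibniz]
      module
    have := LinearMap.congr_fun hL x
    simp only [LinearMap.comp_apply, LinearMap.add_apply, LinearMap.id_apply,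
      AlgHom.toLinearMap_apply, h1, h2, LinearMap.zero_apply, map_add] at this
    have h6 : ((6:ℕ):k) • D (r x) = 0 := by
      rw [Nat.cast_smul_eq_nsmul, ← this]; abel
    exact (smul_eq_zero.mp h6).resolve_left (by norm_num)
  refine ⟨fun y => ⟨fun hy => ?_, ?_⟩, ?_⟩
  · have hyS : y ∈ S k A := by
      obtain ⟨m, hm⟩ : ∃ m, m = Algebra.TensorProduct.lmul' k y := ⟨_, rfl⟩
      obtain ⟨y', hy'⟩ : ∃ y', y' = 3 • y - vv k m := ⟨_, rfl⟩
      have hDv : D (vv k m) = 0 := by
        simp only [vv, X, Y, map_add, hD, Derivation.map_one_eq_zero]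
        module
      have hmy' : Algebra.TensorProduct.lmul' k y' = 0 := by
        rw [hy', map_sub, map_nsmul, ← hm]
        simp only [vv, X, Y, map_add, Algebra.TensorProduct.lmul'_apply_tmul, mul_one, one_mul]
        abel
      have hDy' : D y' = 0 := by rw [hy', map_sub, map_nsmul, hy, hDv]; simp
      have hθy' : θ y' = 0 := by
        have h1 := hDθ y'
        have h2 := hθcomm y'
        rw [hmy', map_zero] at h2
        have h3 : θ (TensorProduct.comm k A A y') = - θ y' := by
          rw [eq_neg_iff_add_eq_zero, add_comm]; exact h2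
        rw [hDy', h3] at h1
        have h4 : ((3:ℕ):k) • θ y' = 0 := by
          rw [Nat.cast_smul_eq_nsmul, h1]; abel
        exact (smul_eq_zero.mp h4).resolve_left (by norm_num)
      have hy'S : y' ∈ S k A :=
        sq_le k y' (Aux19213.mem_sq_of k A y' hmy' (by rw [hθdef] at hθy'; exact hθy'))
      apply of_nsmul_mem k (S k A) 3 (by norm_num)
      have : 3 • y = y' + vv k m := by rw [hy']; abel
      rw [this]; exact add_mem hy'S (vv_mem k m)
    obtain ⟨x, ⟨h1, h2⟩, h3⟩ := (mem_S k A y).mp hyS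
    exact ⟨x, by rw [s1_eq, h1], by rw [Aux19213.tau_eq, h2], by rw [hr', h3]⟩
  · rintro ⟨x, h1, h2, rfl⟩
    exact hA x (by rw [← s1_eq]; exact h1) (by rw [← Aux19213.tau_eq]; exact h2)
  · intro ω
    obtain ⟨p, hp⟩ := KaehlerDifferential.tensorProductTo_surjective k A ω
    have hp' : θ p = ω := by rw [hθdef]; exact hp
    refine ⟨(3:k)⁻¹ • (p + p + TensorProduct.comm k A A p), ?_⟩
    rw [map_smul, hDθ]
    simp only [map_add, TensorProduct.comm_comm, hp']
    have : ω + ω + θ ((TensorProduct.comm k A A) p) + (ω + ω + θ ((TensorProduct.comm k A A) p)) -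
        (θ ((TensorProduct.comm k A A) p) + θ ((TensorProduct.comm k A A) p) + ω) = (3:k) • ω := by
      rw [show (3:k) = 1 + 1 + 1 by norm_num, add_smul, add_smul, one_smul]; abel
    rw [this, inv_smul_smul₀ (by norm_num)]

end Aux19212
namespace Groth.Agent.S19212

/-- Let k be an algebraically closed field of characteristic zero and A a smooth k-algebra which is a
domain. Let the symmetric group on three letters permute the factors of A ⊗ A ⊗ A (it is generated
by the swap of the first two factors and the swap of the last two), let r : A ⊗ (A ⊗ A) → A ⊗ A be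
the k-linear map a ⊗ b ⊗ c ↦ ab ⊗ c, and let D : A ⊗ A → Ω_{A/k} be the k-linear map a ⊗ b ↦ 2a·db −
b·da. Then an element y of A ⊗ A satisfies D y = 0 if and only if y = r x for some x fixed by both
swaps, and D is surjective. (This is exactness at the last two places of the four-term right
resolution of the invariants of the ideal of the big diagonal on the symmetric cube of X = Spec A,
namely invariant functions on X³, then functions on X × X through restriction to a diagonal, then
one-forms on X; exactness at the first two places is immediate. The published statement is the sheaf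
version on the symmetric cube of a smooth complex variety of any dimension; an algebraically closed
field of characteristic zero is used here.) -/
theorem result (k : Type u) [Field k] [IsAlgClosed k] [CharZero k]
    (A : Type v) [CommRing A] [Algebra k A] [Algebra.Smooth k A] [IsDomain A]
    (r : A ⊗[k] (A ⊗[k] A) →ₗ[k] A ⊗[k] A)
    (hr : ∀ a b c : A, r (a ⊗ₜ[k] (b ⊗ₜ[k] c)) = (a * b) ⊗ₜ[k] c)
    (D : A ⊗[k] A →ₗ[k] Ω[A⁄k])
    (hD : ∀ a b : A, D (a ⊗ₜ[k] b) = (2 : A) • (a • KaehlerDifferential.D k A b) - b • KaehlerDifferential.D k A a) :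
    (∀ y : A ⊗[k] A, D y = 0 ↔ ∃ x : A ⊗[k] (A ⊗[k] A),
        TensorProduct.leftComm k A A A x = x ∧
        LinearMap.lTensor A (TensorProduct.comm k A A).toLinearMap x = x ∧ r x = y) ∧
    Function.Surjective D := by
  exact Aux19212.main k A r hr D hD

end Groth.Agent.S19212
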