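import Groth.Statements.S19218
import Groth.Agent.Lib.Helper28.DiagSwap

set_option autoImplicit false
universe u v
open TensorProduct
open DiagIdeal

namespace Groth.Agent.S19218

/-- Let k be an algebraically closed field of characteristic zero and A a smooth k-algebra which is a
domain of Krull dimension 2. In the n-fold tensor power R of A over k, indexed by Fin n, let I_p (p
= (i, j), i < j) be the ideal generated by the a_i − a_j, a ∈ A, and let I be the intersection of
the I_p, the ideal of the big diagonal. Assume that for every s ≥ 0 the power I ^ s is the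
intersection of the powers I_p ^ s (a property of the big diagonal of a smooth surface that the
source takes from the literature). Then for m ≥ 1 every element of R fixed by all permutations of
the n factors and lying in I ^ (2m − 1) lies in I ^ (2m): on the symmetric product the invariants of
the odd power and of the next even power of the ideal of the big diagonal coincide. (The source
states the sheaf version for a smooth quasi-projective complex surface, using the displayed property
of the powers without restating it as a hypothesis.) -/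
theorem result (k : Type u) [Field k] [IsAlgClosed k] [CharZero k]
    (A : Type v) [CommRing A] [Algebra k A] [Algebra.Smooth k A] [IsDomain A]
    (hdim : ringKrullDim A = 2) (n : ℕ)
    (I : Fin n × Fin n → Ideal (⨂[k] _ : Fin n, A))
    (hI : ∀ p, I p = Ideal.span (Set.range fun a : A =>
        PiTensorProduct.singleAlgHom (R := k) (A := fun _ : Fin n => A) p.1 a -
        PiTensorProduct.singleAlgHom (R := k) (A := fun _ : Fin n => A) p.2 a))
    (IΔ : Ideal (⨂[k] _ : Fin n, A))
    (hIΔ : IΔ = ⨅ p ∈ Finset.univ.filter (fun p : Fin n × Fin n => p.1 < p.2), I p)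
    (hpow : ∀ s : ℕ, IΔ ^ s = ⨅ p ∈ Finset.univ.filter (fun p : Fin n × Fin n => p.1 < p.2), (I p) ^ s)
    (m : ℕ) (hm : 1 ≤ m) (x : ⨂[k] _ : Fin n, A)
    (hx : ∀ σ : Equiv.Perm (Fin n), PiTensorProduct.reindex k (fun _ : Fin n => A) σ x = x)
    (hmem : x ∈ IΔ ^ (2 * m - 1)) :
    x ∈ IΔ ^ (2 * m) := by
  open Groth.Agent.Lib.Helper28.DiagSwap in
  rw [hpow (2 * m)]
  rw [Submodule.mem_iInf]
  intro q
  rw [Submodule.mem_iInf]
  intro hq
  have hlt : q.1 < q.2 := (Finset.mem_filter.mp hq).2
  have hij : q.1 ≠ q.2 := ne_of_lt hlt
  have hIq : I q = Ip (k := k) (A := A) q.1 q.2 := hI q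
  have hxq : x ∈ I q ^ (2 * m - 1) := by
    have h0 := hmem
    rw [hpow (2 * m - 1)] at h0
    exact (Submodule.mem_iInf _).mp ((Submodule.mem_iInf _).mp h0 q) hq
  rw [hIq] at hxq ⊢
  have h1 := swap_pow_mem q.1 q.2 hij (2 * m - 1) x hxq
  have hodd : Odd (2 * m - 1) := ⟨m - 1, by omega⟩
  rw [τ_apply, hx, hodd.neg_one_pow, neg_one_mul, sub_neg_eq_add] at h1
  have h2 : 2 * m - 1 + 1 = 2 * m := by omega
  rw [h2] at h1
  have h3 : x = ((2 : k)⁻¹) • (x + x) := by
    rw [← two_smul k x, smul_smul, inv_mul_cancel₀ (two_ne_zero), one_smul]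
  rw [h3]
  exact Submodule.smul_of_tower_mem _ _ h1

end Groth.Agent.S19218
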