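import Groth.Statements.S19221
import Mathlib

set_option autoImplicit false
universe u
open SymRep

namespace Groth.Agent.S19221

open Equiv

/-- integer valued cycle vector -/
def zi (c : Fin 2) (i j l : Fin 4) (c' : Fin 2) (a b : Fin 4) : ℤ :=
  if c' = c then
    ((if a = i ∧ b = j then 1 else 0) + (if a = j ∧ b = l then 1 else 0) + (if a = l ∧ b = i then 1 else 0)
      - (if a = j ∧ b = i then 1 else 0) - (if a = l ∧ b = j then 1 else 0) - (if a = i ∧ b = l then 1 else 0))
  else 0

def cs : Fin 4 → Fin 2 := ![0,1,0,1]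
def js : Fin 4 → Fin 4 := ![1,1,2,2]
def ls : Fin 4 → Fin 4 := ![2,2,3,3]
def pc : Fin 4 → Fin 2 := ![0,0,1,1]
def pa : Fin 4 → Fin 4 := ![0,2,0,2]
def pb : Fin 4 → Fin 4 := ![1,3,1,3]

/-- the integer matrix of evaluations -/
def Mi (f : Fin 4 → Fin 4) : Matrix (Fin 4) (Fin 4) ℤ :=
  fun s r => zi (cs s) 0 (js s) (ls s) (pc r) (f (pa r)) (f (pb r))

set_option maxRecDepth 100000 in
theorem total : (∑ f : Fin 4 → Fin 4, if Function.Bijective f then (Mi f).det else 0) = -16 := by
  decide +kernel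

theorem fact02a : ∀ c c' a b, zi c 0 1 2 c' (Equiv.swap (0 : Fin 4) 2 a) (Equiv.swap (0 : Fin 4) 2 b)
    = - zi c 0 1 2 c' a b := by decide

theorem fact02b : ∀ c c' a b, zi c 0 2 3 c' (Equiv.swap (0 : Fin 4) 2 a) (Equiv.swap (0 : Fin 4) 2 b)
    = - zi c 0 2 3 c' a b := by decide

theorem fact13a : ∀ c c' a b, zi c 0 1 2 c' (Equiv.swap (1 : Fin 4) 3 a) (Equiv.swap (1 : Fin 4) 3 b)
    = - zi c 0 2 3 c' a b := by decide

theorem fact13b : ∀ c c' a b, zi c 0 2 3 c' (Equiv.swap (1 : Fin 4) 3 a) (Equiv.swap (1 : Fin 4) 3 b)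
    = - zi c 0 1 2 c' a b := by decide

theorem sum_perm_eq {R : Type*} [AddCommMonoid R] (G : (Fin 4 → Fin 4) → R) :
    ∑ σ : Equiv.Perm (Fin 4), G ⇑σ = ∑ f : Fin 4 → Fin 4, if Function.Bijective f then G f else 0 := by
  classical
  rw [← Finset.sum_filter]
  refine Finset.sum_bij (fun σ _ => ⇑σ) (fun σ _ => ?_) (fun σ _ τ _ h => ?_) (fun f hf => ?_)
    (fun σ _ => rfl)
  · simp only [Finset.mem_filter, Finset.mem_univ, true_and]; exact σ.bijective
  · exact DFunLike.coe_injective h
  · simp only [Finset.mem_filter, Finset.mem_univ, true_and] at hf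
    exact ⟨Equiv.ofBijective f hf, Finset.mem_univ _, rfl⟩

/-- Let k be a field of characteristic zero and F the k-space of functions Fin 2 → Fin 4 → Fin 4 → k,
with the symmetric group of Fin 4 acting through P σ f c a b = f c (σ⁻¹ a) (σ⁻¹ b). The signed edge
vectors of the complete graph on four vertices live in F as the functions antisymmetric in the two
vertex arguments, and for a colour c and an oriented 3-cycle i → j → l → i the cycle vector z c i j
l is the function equal, in colour c, to +1 at (i,j), (j,l), (l,i), to −1 at (j,i), (l,j), (i,l) and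
to 0 elsewhere (and 0 in the other colour); these cycle vectors span k² ⊗ (cycle space), the
representation written C² ⊗ q in the published text. Let Γ be the graph with edges 01, 02, 03, 12,
23 (a 4-cycle with one chord), whose cycle space is spanned by the cycles (0,1,2) and (0,2,3), and
let ω be the product in the exterior algebra of F of the four vectors z 0 0 1 2, z 1 0 1 2, z 0 0 2
3, z 1 0 2 3 (a generator of the top exterior power of k² ⊗ q_Γ). Then ω is fixed by the stabiliser
of Γ in the symmetric group (generated by the transpositions (0 2) and (1 3)), and the sum over all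
24 permutations σ of the images of ω under the maps induced by P σ is nonzero: the projection of ω
to the invariants of the fourth exterior power of k² ⊗ q_{K₄} does not vanish. (The published
statement is over the complex numbers; a field of characteristic zero is used here. The published
statement also asserts that this map is an isomorphism onto the one-dimensional space of
S₄-invariants of the fourth exterior power of k² ⊗ q_{K₄}; only its non-vanishing is stated here.) -/
theorem result (k : Type u) [Field k] [CharZero k]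
    (P : Equiv.Perm (Fin 4) → ((Fin 2 → Fin 4 → Fin 4 → k) →ₗ[k] (Fin 2 → Fin 4 → Fin 4 → k)))
    (hP : ∀ (σ : Equiv.Perm (Fin 4)) (f : Fin 2 → Fin 4 → Fin 4 → k) (c : Fin 2) (a b : Fin 4),
      P σ f c a b = f c (σ.symm a) (σ.symm b))
    (z : Fin 2 → Fin 4 → Fin 4 → Fin 4 → (Fin 2 → Fin 4 → Fin 4 → k))
    (hz : ∀ (c : Fin 2) (i j l : Fin 4) (c' : Fin 2) (a b : Fin 4), z c i j l c' a b =
      if c' = c then
        ((if a = i ∧ b = j then 1 else 0) + (if a = j ∧ b = l then 1 else 0) + (if a = l ∧ b = i then 1 else 0)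
          - (if a = j ∧ b = i then 1 else 0) - (if a = l ∧ b = j then 1 else 0) - (if a = i ∧ b = l then 1 else 0))
      else 0)
    (ω : ExteriorAlgebra k (Fin 2 → Fin 4 → Fin 4 → k))
    (hω : ω = ExteriorAlgebra.ι k (z 0 0 1 2) * ExteriorAlgebra.ι k (z 1 0 1 2) *
      ExteriorAlgebra.ι k (z 0 0 2 3) * ExteriorAlgebra.ι k (z 1 0 2 3)) :
    ExteriorAlgebra.map (P (Equiv.swap 0 2)) ω = ω ∧
    ExteriorAlgebra.map (P (Equiv.swap 1 3)) ω = ω ∧
    (∑ σ : Equiv.Perm (Fin 4), ExteriorAlgebra.map (P σ) ω) ≠ 0 := by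
  classical
  have hzi : ∀ (c : Fin 2) (i j l : Fin 4) (c' : Fin 2) (a b : Fin 4),
      z c i j l c' a b = ((zi c i j l c' a b : ℤ) : k) := by
    intro c i j l c' a b
    rw [hz]
    simp only [zi]
    push_cast
    rfl
  -- the action on the four vectors
  have h02a : ∀ c, P (Equiv.swap 0 2) (z c 0 1 2) = - z c 0 1 2 := by
    intro c; funext c' a b
    rw [hP, Equiv.symm_swap, Pi.neg_apply, Pi.neg_apply, Pi.neg_apply, hzi, hzi, fact02a]
    push_cast; rfl
  have h02b : ∀ c, P (Equiv.swap 0 2) (z c 0 2 3) = - z c 0 2 3 := by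
    intro c; funext c' a b
    rw [hP, Equiv.symm_swap, Pi.neg_apply, Pi.neg_apply, Pi.neg_apply, hzi, hzi, fact02b]
    push_cast; rfl
  have h13a : ∀ c, P (Equiv.swap 1 3) (z c 0 1 2) = - z c 0 2 3 := by
    intro c; funext c' a b
    rw [hP, Equiv.symm_swap, Pi.neg_apply, Pi.neg_apply, Pi.neg_apply, hzi, hzi, fact13a]
    push_cast; rfl
  have h13b : ∀ c, P (Equiv.swap 1 3) (z c 0 2 3) = - z c 0 1 2 := by
    intro c; funext c' a b
    rw [hP, Equiv.symm_swap, Pi.neg_apply, Pi.neg_apply, Pi.neg_apply, hzi, hzi, fact13b]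
    push_cast; rfl
  refine ⟨?_, ?_, ?_⟩
  · rw [hω]
    simp only [map_mul, ExteriorAlgebra.map_apply_ι, h02a, h02b, map_neg, neg_mul, mul_neg, neg_neg]
  · rw [hω]
    simp only [map_mul, ExteriorAlgebra.map_apply_ι, h13a, h13b, map_neg, neg_mul, mul_neg, neg_neg]
    set x1 := ExteriorAlgebra.ι k (z 0 0 1 2) with hx1
    set x2 := ExteriorAlgebra.ι k (z 1 0 1 2) with hx2
    set x3 := ExteriorAlgebra.ι k (z 0 0 2 3) with hx3
    set x4 := ExteriorAlgebra.ι k (z 1 0 2 3) with hx4
    have h41 : x4 * x1 = - (x1 * x4) :=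
      eq_neg_of_add_eq_zero_left (ExteriorAlgebra.ι_add_mul_swap _ _)
    have h31 : x3 * x1 = - (x1 * x3) :=
      eq_neg_of_add_eq_zero_left (ExteriorAlgebra.ι_add_mul_swap _ _)
    have h42 : x4 * x2 = - (x2 * x4) :=
      eq_neg_of_add_eq_zero_left (ExteriorAlgebra.ι_add_mul_swap _ _)
    have h32 : x3 * x2 = - (x2 * x3) :=
      eq_neg_of_add_eq_zero_left (ExteriorAlgebra.ι_add_mul_swap _ _)
    calc x3 * x4 * x1 * x2 = x3 * (x4 * x1) * x2 := by noncomm_ring
      _ = - ((x3 * x1) * x4 * x2) := by rw [h41]; noncomm_ring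
      _ = x1 * x3 * (x4 * x2) := by rw [h31]; noncomm_ring
      _ = - (x1 * (x3 * x2) * x4) := by rw [h42]; noncomm_ring
      _ = x1 * x2 * x3 * x4 := by rw [h32]; noncomm_ring
  · intro hsum
    -- the functional
    set L : (Fin 2 → Fin 4 → Fin 4 → k) →ₗ[k] (Fin 4 → k) :=
      LinearMap.pi (fun r => (LinearMap.proj (pb r)) ∘ₗ (LinearMap.proj (pa r)) ∘ₗ
        (LinearMap.proj (pc r))) with hL
    have hLapp : ∀ f r, L f r = f (pc r) (pa r) (pb r) := fun f r => rfl
    set A : (Fin 2 → Fin 4 → Fin 4 → k) [⋀^Fin 4]→ₗ[k] k :=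
      (Matrix.detRowAlternating (R := k) (n := Fin 4)).compLinearMap L with hA
    set Φ := ExteriorAlgebra.liftAlternating (R := k) (M := Fin 2 → Fin 4 → Fin 4 → k) (N := k)
      (Function.update (0 : ∀ i, (Fin 2 → Fin 4 → Fin 4 → k) [⋀^Fin i]→ₗ[k] k) 4 A) with hΦ
    set V : Fin 4 → (Fin 2 → Fin 4 → Fin 4 → k) := ![z 0 0 1 2, z 1 0 1 2, z 0 0 2 3, z 1 0 2 3]
      with hV
    have hVz : ∀ s, V s = z (cs s) 0 (js s) (ls s) := by
      intro s; fin_cases s <;> rfl
    have hωV : ω = ExteriorAlgebra.ιMulti k 4 V := by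
      rw [hω, ExteriorAlgebra.ιMulti_succ_apply, ExteriorAlgebra.ιMulti_succ_apply,
        ExteriorAlgebra.ιMulti_succ_apply, ExteriorAlgebra.ιMulti_succ_apply,
        ExteriorAlgebra.ιMulti_zero_apply]
      simp [hV, mul_assoc]
    have hterm : ∀ σ : Equiv.Perm (Fin 4), Φ (ExteriorAlgebra.map (P σ) ω) =
        (((Mi ⇑σ.symm).det : ℤ) : k) := by
      intro σ
      rw [hωV, ExteriorAlgebra.map_apply_ιMulti, hΦ, ExteriorAlgebra.liftAlternating_apply_ιMulti,
        Function.update_self, hA, AlternatingMap.compLinearMap_apply]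
      rw [Int.cast_det]
      change Matrix.det _ = Matrix.det _
      congr 1
      ext s r
      simp only [Function.comp_apply, hLapp, hP, hVz, hzi, Matrix.map_apply, Mi]
    have h1 : Φ (∑ σ : Equiv.Perm (Fin 4), ExteriorAlgebra.map (P σ) ω) = 0 := by
      rw [hsum, map_zero]
    rw [map_sum] at h1
    simp only [hterm] at h1
    rw [← Int.cast_sum] at h1
    have h2 : ∑ σ : Equiv.Perm (Fin 4), (Mi ⇑σ.symm).det = -16 := by
      rw [← total, ← sum_perm_eq (fun f => (Mi f).det)]
      exact Equiv.sum_comp (Equiv.inv (Equiv.Perm (Fin 4))) (fun σ => (Mi ⇑σ).det)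
    rw [h2] at h1
    norm_num at h1

end Groth.Agent.S19221
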