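import Groth.Statements.S19223
import Mathlib
import Groth.Agent.S7725
import Groth.Agent.Lib.Helper1.GalCohLim

set_option autoImplicit false
attribute [local instance] Units.mulDistribMulActionRight
open GalCoh

namespace Groth.Agent.S19223

open CategoryTheory CategoryTheory.Limits IsLocalRing Polynomial

section units
variable {R : Type} [CommRing R] [HenselianLocalRing R]

/-- `m`-th roots of principal units exist when `m` is nonzero in the residue field. -/
theorem exists_root_unit (m : ℕ) (hm0 : m ≠ 0) (hm : (m : ResidueField R) ≠ 0) (u : Rˣ)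
    (hu : residue R (u : R) = 1) : ∃ w : Rˣ, w ^ m = u ∧ residue R (w : R) = 1 := by
  have hmono : (X ^ m - C (u : R) : R[X]).Monic := monic_X_pow_sub_C _ hm0
  have h1 : (X ^ m - C (u : R) : R[X]).eval 1 ∈ maximalIdeal R := by
    rw [← residue_eq_zero_iff]
    simp [hu]
  have h2 : IsUnit ((X ^ m - C (u : R) : R[X]).derivative.eval 1) := by
    have h3 : (X ^ m - C (u : R) : R[X]).derivative.eval 1 = (m : R) := by
      simp [derivative_X_pow]
    rw [h3]
    by_contra hnu
    have h4 : (m : R) ∈ maximalIdeal R := (mem_maximalIdeal _).mpr hnu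
    rw [← residue_eq_zero_iff, map_natCast] at h4
    exact hm h4
  obtain ⟨a, ha, ha1⟩ := HenselianLocalRing.is_henselian _ hmono 1 h1 h2
  have hroot : a ^ m = (u : R) := by
    have h5 : a ^ m - (u : R) = 0 := by simpa [IsRoot] using ha
    exact sub_eq_zero.mp h5
  have hau : IsUnit a := by
    have h6 : IsUnit (a ^ m) := by rw [hroot]; exact u.isUnit
    exact (isUnit_pow_iff hm0).mp h6
  refine ⟨hau.unit, ?_, ?_⟩
  · apply Units.ext
    rw [Units.val_pow_eq_pow_val, IsUnit.unit_spec, hroot]
  · show residue R a = 1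
    have h7 : residue R (a - 1) = 0 := (residue_eq_zero_iff _).mpr ha1
    rw [map_sub, map_one, sub_eq_zero] at h7
    exact h7

theorem unit_eq_of_pow_eq (m : ℕ) (hm : (m : ResidueField R) ≠ 0) (u w : Rˣ)
    (hu : residue R (u : R) = 1) (hw : residue R (w : R) = 1) (h : u ^ m = w ^ m) : u = w := by
  have hzm : ((u * w⁻¹ : Rˣ) : R) ^ m = 1 := by
    have h1 : (u * w⁻¹) ^ m = 1 := by rw [mul_pow, inv_pow, h, mul_inv_cancel]
    have h2 := congrArg Units.val h1
    rwa [Units.val_pow_eq_pow_val, Units.val_one] at h2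
  have hzres : residue R ((u * w⁻¹ : Rˣ) : R) = 1 := by
    have hwinv : residue R ((w⁻¹ : Rˣ) : R) = 1 := by
      have h3 : residue R (w : R) * residue R ((w⁻¹ : Rˣ) : R) = 1 := by
        rw [← map_mul, Units.mul_inv, map_one]
      rw [hw, one_mul] at h3
      exact h3
    rw [Units.val_mul, map_mul, hu, hwinv, one_mul]
  have hgeom : (∑ i ∈ Finset.range m, ((u * w⁻¹ : Rˣ) : R) ^ i) * (((u * w⁻¹ : Rˣ) : R) - 1) = 0 := by
    rw [geom_sum_mul, hzm, sub_self]
  have hsum_unit : IsUnit (∑ i ∈ Finset.range m, ((u * w⁻¹ : Rˣ) : R) ^ i) := by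
    by_contra hnu
    have h4 : (∑ i ∈ Finset.range m, ((u * w⁻¹ : Rˣ) : R) ^ i) ∈ maximalIdeal R :=
      (mem_maximalIdeal _).mpr hnu
    rw [← residue_eq_zero_iff, map_sum] at h4
    simp only [map_pow, hzres, one_pow, Finset.sum_const, Finset.card_range, nsmul_eq_mul,
      mul_one] at h4
    exact hm h4
  have hz1 : ((u * w⁻¹ : Rˣ) : R) - 1 = 0 := hsum_unit.mul_right_eq_zero.mp hgeom
  have hz : u * w⁻¹ = 1 := Units.ext (by rw [Units.val_one]; exact sub_eq_zero.mp hz1)
  exact mul_inv_eq_one.mp hz

end units


/-- For a strictly henselian local ring R whose residue field k has characteristic p ≥ 0, and a finite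
group G of order prime to p acting on R by ring automorphisms (hence on the unit groups R^× and
k^×), consider the homomorphism H^n(G, R^×) → H^n(G, k^×) induced by the reduction map. It is
bijective for every n ≥ 2; it is also bijective for n = 1 provided that p = 0 or the only p-power
root of unity in R is 1. (The reduction map on cohomology is pinned by its values on units; groups,
rings and modules are taken in the lowest universe, as integral coefficients in the group-cohomology
library require.) -/
theorem result (R : Type) [CommRing R]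
    [HenselianLocalRing R] [IsSepClosed (IsLocalRing.ResidueField R)] (p : ℕ) [CharP (IsLocalRing.ResidueField R) p]
    (G : Type) [Group G] [Finite G] [MulSemiringAction G R] (hp : ¬ p ∣ Nat.card G)
    (φ : Rep.ofMulDistribMulAction G Rˣ ⟶ Rep.ofMulDistribMulAction G (IsLocalRing.ResidueField R)ˣ)
    (hφ : ∀ x : Rˣ, Additive.toMul (φ.hom (Additive.ofMul x)) = Units.map (IsLocalRing.residue R).toMonoidHom x)
    (n : ℕ) (hn : 1 ≤ n) (h1 : n = 1 → p ≠ 0 → ∀ (ζ : Rˣ) (m : ℕ), ζ ^ p ^ m = 1 → ζ = 1) :
    Function.Bijective ((groupCohomology.functor ℤ G n).map φ).hom := by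
  classical
  have hm0 : Nat.card G ≠ 0 := Nat.card_pos.ne'
  have hmk : ((Nat.card G : ℕ) : ResidueField R) ≠ 0 := by
    intro h
    exact hp ((CharP.cast_eq_zero_iff (ResidueField R) p (Nat.card G)).mp h)
  have hφsurj : Function.Surjective φ.hom := by
    intro y
    obtain ⟨r, hr⟩ := residue_surjective
      ((Additive.toMul (α := (ResidueField R)ˣ) y : (ResidueField R)ˣ) : ResidueField R)
    have hru : IsUnit r :=
      isUnit_of_map_unit (residue R) r
        (hr ▸ (Additive.toMul (α := (ResidueField R)ˣ) y : (ResidueField R)ˣ).isUnit)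
    refine ⟨Additive.ofMul (α := Rˣ) hru.unit, ?_⟩
    apply (Additive.toMul (α := (ResidueField R)ˣ)).injective
    refine (hφ hru.unit).trans ?_
    apply Units.ext
    show residue R (hru.unit : R) = _
    rw [IsUnit.unit_spec]
    exact hr
  have hX : (ShortComplex.mk (kernel.ι φ) φ (kernel.condition φ)).ShortExact :=
    { exact := ShortComplex.exact_of_f_is_kernel _ (kernelIsKernel φ)
      mono_f := inferInstanceAs (Mono (kernel.ι φ))
      epi_g := (Rep.epi_iff_surjective φ).mpr hφsurj }
  have hex2 : ∀ x : (Rep.ofMulDistribMulAction G Rˣ : Rep ℤ G), φ.hom x = 0 →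
      ∃ y : (kernel φ : Rep ℤ G), (kernel.ι φ).hom y = x :=
    fun x hx => Groth.Agent.Lib.Helper1.GalCohLim.exists_kernel_lift φ x hx
  have hιinj : Function.Injective (kernel.ι φ).hom :=
    Groth.Agent.Lib.Helper1.GalCohLim.kernel_ι_injective φ
  have hcond : ∀ a : (kernel φ : Rep ℤ G), φ.hom ((kernel.ι φ).hom a) = 0 :=
    fun a => Groth.Agent.Lib.Helper1.GalCohLim.kernel_ι_comp_apply φ a
  have hιres : ∀ a : (kernel φ : Rep ℤ G),
      residue R ((Additive.toMul (α := Rˣ) ((kernel.ι φ).hom a) : Rˣ) : R) = 1 := by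
    intro a
    have h1 := hφ (Additive.toMul (α := Rˣ) ((kernel.ι φ).hom a))
    change Additive.toMul (α := (ResidueField R)ˣ) (φ.hom ((kernel.ι φ).hom a)) = _ at h1
    rw [hcond a] at h1
    have h2 := congrArg Units.val h1
    have h3 : ((Units.map (residue R).toMonoidHom
        (Additive.toMul (α := Rˣ) ((kernel.ι φ).hom a)) : (ResidueField R)ˣ) : ResidueField R) =
        residue R ((Additive.toMul (α := Rˣ) ((kernel.ι φ).hom a) : Rˣ) : R) := rfl
    rw [← h3, ← h2]
    rfl
  have hdiv : Function.Bijective (fun a : (kernel φ : Rep ℤ G) => Nat.card G • a) := by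
    constructor
    · intro a b hab
      apply hιinj
      have h1 : Nat.card G • (kernel.ι φ).hom a = Nat.card G • (kernel.ι φ).hom b := by
        rw [← map_nsmul, ← map_nsmul]
        exact congrArg _ hab
      have h2 : (Additive.toMul (α := Rˣ) ((kernel.ι φ).hom a) : Rˣ) ^ Nat.card G =
          (Additive.toMul (α := Rˣ) ((kernel.ι φ).hom b) : Rˣ) ^ Nat.card G := by
        have h3 := congrArg (Additive.toMul (α := Rˣ)) h1
        exact h3
      have h3 := unit_eq_of_pow_eq (Nat.card G) hmk _ _ (hιres a) (hιres b) h2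
      exact (Additive.toMul (α := Rˣ)).injective h3
    · intro a
      obtain ⟨w, hw, hw1⟩ := exists_root_unit (Nat.card G) hm0 hmk
        (Additive.toMul (α := Rˣ) ((kernel.ι φ).hom a)) (hιres a)
      have hwker : φ.hom (Additive.ofMul (α := Rˣ) w) = 0 := by
        apply (Additive.toMul (α := (ResidueField R)ˣ)).injective
        refine (hφ w).trans ?_
        apply Units.ext
        show residue R (w : R) = 1
        exact hw1
      obtain ⟨b, hb⟩ := hex2 (Additive.ofMul (α := Rˣ) w) hwker
      have hb' : (kernel.ι φ).hom b = Additive.ofMul (α := Rˣ) w := hb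
      refine ⟨b, ?_⟩
      apply hιinj
      show (kernel.ι φ).hom (Nat.card G • b) = (kernel.ι φ).hom a
      rw [map_nsmul, hb']
      apply (Additive.toMul (α := Rˣ)).injective
      exact hw
  have hKz : ∀ i, 0 < i → IsZero (groupCohomology (kernel φ) i) := fun i hi =>
    haveI := Groth.Agent.S7725.result ℤ G (kernel φ) hdiv i hi
    ModuleCat.isZero_of_subsingleton _
  have hS := groupCohomology.map_cochainsFunctor_shortExact hX
  have hmono : Mono ((groupCohomology.functor ℤ G n).map φ) := by
    have hex := hS.homology_exact₂ n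
    exact hex.mono_g ((hKz n hn).eq_of_src _ _)
  have hepi : Epi ((groupCohomology.functor ℤ G n).map φ) := by
    have hex := hS.homology_exact₃ n (n + 1) rfl
    exact hex.epi_f ((hKz (n + 1) (Nat.succ_pos n)).eq_of_tgt _ _)
  exact ⟨(ModuleCat.mono_iff_injective _).mp hmono, (ModuleCat.epi_iff_surjective _).mp hepi⟩


end Groth.Agent.S19223
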