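import Groth.Statements.S1923
import Groth.Agent.Lib.Lead.C1Cap
import Groth.Agent.Lib.Lead.CycPullGeo

set_option autoImplicit false
universe u
open CategoryTheory AlgebraicGeometry
open Cyc

namespace Groth.Agent.S1923

open Groth.Agent.Lib.Lead.C1Cap Groth.Agent.Lib.Helper3.InvGen in
/-- Let X be integral with δ(η) = n, L an invertible O_X-module and s a global section of L whose germ
at η is nonzero. Then div_L(s) = [Z(s)]_{n−1} as (n − 1)-cycles, where s is viewed as a rational
section through its image in L(η). Here L(ξ) = L_ξ/𝔪_ξ L_ξ is the space of rational sections of L on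
the closure of ξ, div_{L|W}(s) and c_1(L) ∩ α are computed as coefficient functions from chosen
nonzero rational sections (Cyc.secDivFun, Cyc.c1CapFun), and results are compared up to rational
equivalence for any cycles with those coefficients. A pair (X, δ) with Cyc.IsSetup plays the role of
a scheme locally of finite type over a fixed base with a dimension function (X locally Noetherian
with universally catenary local rings, δ a dimension function), and Cyc.DeltaCompat records that the
dimension function upstairs is the induced one. -/
theorem result (X : Scheme.{u}) [IsIntegral X] (δ : X → ℤ) (hX : Cyc.IsSetup X δ) (n : ℤ) (hn : δ (genericPoint X) = n) (L : X.Modules) (hL : PicF.IsInvertible L) (s : L.presheaf.obj (Opposite.op ⊤)) (hs : (L.presheaf.germ ⊤ (genericPoint X) trivial) s ≠ 0) : Cyc.secDivFun δ L (genericPoint X) (Submodule.Quotient.mk ((L.presheaf.germ ⊤ (genericPoint X) trivial) s)) = Cyc.zeroSectionFun δ (n - 1) L s := by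
  classical
  obtain ⟨hLN, -, hdim⟩ := hX
  haveI := hLN
  funext x
  have hηx : genericPoint X ⤳ x := genericPoint_specializes x
  unfold Cyc.secDivFun Cyc.zeroSectionFun
  by_cases hc : δ x + 1 = δ (genericPoint X)
  · have hc' : δ x = n - 1 := by omega
    rw [dif_pos ⟨hηx, hc⟩, if_pos hc']
    obtain ⟨U, e, hxU, hg⟩ := exists_isGen hL x
    have hηU : genericPoint X ∈ U := hηx.mem_open U.2 hxU
    obtain ⟨c, hc0⟩ := stalk_surj hg x hxU (L.presheaf.germ ⊤ x trivial s)
    have hspec : L.presheaf.germ ⊤ (genericPoint X) trivial s =
        X.presheaf.stalkSpecializes hηx c • L.presheaf.germ U (genericPoint X) hηU e := by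
      rw [← spec_germ L hηx ⊤ trivial s, hc0, spec_smul, spec_germ]
    have hcu : IsUnit (X.presheaf.stalkSpecializes hηx c) := by
      rw [← IsLocalRing.notMem_maximalIdeal,
        Groth.Agent.Lib.Lead.CycPull.maximalIdeal_stalk_eq_bot_of_eq_genericPoint
          (genericPoint X) rfl, Ideal.mem_bot]
      intro h0
      apply hs
      rw [hspec, h0, zero_smul]
    have hc_ne : c ≠ 0 := fun h0 => hcu.ne_zero (by rw [h0, map_zero])
    have hL1 : Cyc.secOrdAt L (genericPoint X) x hηx
        (Submodule.Quotient.mk (L.presheaf.germ ⊤ (genericPoint X) trivial s)) =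
        Cyc.ordAt x (genericPoint X) hηx
          (X.residue (genericPoint X) (X.presheaf.stalkSpecializes hηx c)) := by
      rw [hspec]
      exact secOrdAt_eq hg hηx hxU _ hcu
    rw [hL1]
    have ht : ∃ t : L.presheaf.stalk x, Submodule.span (X.presheaf.stalk x) {t} = ⊤ :=
      ⟨L.presheaf.germ U x hxU e, span_germ_eq_top hg x hxU⟩
    obtain ⟨u, hu, htu⟩ := exists_unit_of_span hg x hxU (Classical.choose ht)
      (Classical.choose_spec ht)
    have hf : ∃ f : X.presheaf.stalk x,
        (L.presheaf.germ ⊤ x trivial) s = f • Classical.choose ht := by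
      obtain ⟨u', hu'⟩ := hu.exists_left_inv
      refine ⟨c * u', ?_⟩
      rw [htu, ← mul_smul, mul_assoc, hu', mul_one, hc0]
    rw [dif_pos ht, dif_pos hf]
    have hf₀ := Classical.choose_spec hf
    have hfc : Classical.choose hf * u = c := by
      have h0 : (Classical.choose hf * u - c) • L.presheaf.germ U x hxU e = 0 := by
        rw [sub_smul, mul_smul, ← htu, ← hf₀, hc0, sub_self]
      exact sub_eq_zero.mp (stalk_inj hg x hxU _ h0)
    have hspan : Ideal.span {Classical.choose hf} = Ideal.span {c} := by
      rw [← hfc]
      exact (Ideal.span_singleton_mul_right_unit hu _).symm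
    rw [hspan]
    have hsX := Groth.Agent.S1905.specMap_injective_generic X x hηx
    have himm : ∀ z : X, z ⤳ x → z = genericPoint X ∨ z = x :=
      fun z hz => Groth.Agent.Lib.Helper23.CycLib.immediate_of_delta hdim hc z
        (genericPoint_specializes z) hz
    have e0 : X.residue (genericPoint X) (X.presheaf.stalkSpecializes hηx c) =
        Cyc.specMap x (genericPoint X) hηx c := rfl
    rw [e0, Groth.Agent.S1905.ordAt_eq_ordFrac_stalk x (genericPoint X) hηx hsX]
    letI alg : Algebra (X.presheaf.stalk x) (X.residueField (genericPoint X)) :=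
      (Cyc.specMap x (genericPoint X) hηx).toAlgebra
    haveI : IsFractionRing (X.presheaf.stalk x) (X.residueField (genericPoint X)) :=
      Groth.Agent.S1905.isFractionRing_specMap x (genericPoint X) hηx hsX
    haveI : Ring.KrullDimLE 1 (X.presheaf.stalk x) :=
      Groth.Agent.S1905.krullDimLE_one_of_immediate x (genericPoint X)
        (fun z => genericPoint_specializes z) himm
    show CycAlg.ordFrac (X.presheaf.stalk x) (X.residueField (genericPoint X))
      (algebraMap (X.presheaf.stalk x) (X.residueField (genericPoint X)) c) = _
    rw [Groth.Agent.S1905.cycOrdFrac_eq_log, Groth.Agent.S1905.log_ordFrac_algebraMap hc_ne]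
    rfl
  · rw [dif_neg (fun h => hc h.2), if_neg (fun h => hc (by omega))]

end Groth.Agent.S1923
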