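import Groth.Statements.S19238
import Groth.Agent.Lib.Helper28.SigmaLinWitt

set_option autoImplicit false
universe u v
open SigmaLin

namespace Groth.Agent.S19238

/-- Let k be an algebraically closed field of characteristic p > 0 and n a natural number; let M be a
finitely generated module over the ring W_n(k) of truncated Witt vectors and T : M → M an additive
map with T (c • m) = σ(c) • T m, where σ is either the Frobenius endomorphism of W_n(k) or its
inverse. Then the set of T-fixed elements of M is finite. (The printed statement says that the
T-fixed elements form a finitely generated module over the σ-fixed subring of W_n(k), which is the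
finite ring of integers modulo p^n.) -/
theorem result
    (p : ℕ) [Fact p.Prime] (k : Type u) [Field k] [CharP k p] [IsAlgClosed k] (n : ℕ)
    (σ : TruncatedWittVector p n k →+* TruncatedWittVector p n k)
    (hσ : σ = WittGrp.truncMap p n (frobenius k p) ∨
      σ = WittGrp.truncMap p n (frobeniusEquiv k p).symm.toRingHom)
    (M : Type v) [AddCommGroup M] [Module (TruncatedWittVector p n k) M] [Module.Finite (TruncatedWittVector p n k) M]
    (T : M →ₛₗ[σ] M) :
    {m : M | T m = m}.Finite := by
  open Groth.Agent.Lib.Helper28.SigmaLin in
  rcases n with _ | n
  · haveI : Subsingleton (TruncatedWittVector p 0 k) :=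
      ⟨fun a b => TruncatedWittVector.ext (fun i => i.elim0)⟩
    have : Subsingleton M := Module.subsingleton (TruncatedWittVector p 0 k) M
    exact Set.toFinite _
  · obtain ⟨σbar, hσbar, hsurj, h2, h3, hlift, hfin⟩ := witt_hyp p k n σ hσ
    have hfg := fixedSub_fg p (maximalIdeal_eq p k n) σ σbar hσbar (n + 1)
      (p_pow_eq_zero p k n) hsurj h2 h3 hlift (n + 1) M T
      (fun m => by rw [p_pow_eq_zero, zero_smul])
    have : Module.Finite (R0 σ) (fixedSub σ T) := Module.Finite.iff_fg.mpr hfg
    have hF : Finite (fixedSub σ T) := Module.finite_of_finite (R0 σ)
    exact Set.finite_coe_iff.mp hF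

end Groth.Agent.S19238
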