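import Groth.Statements.S1925
import Groth.Agent.Lib.Lead.C1Cap
import Groth.Agent.Lib.Lead.CycPullGeo

set_option autoImplicit false
universe u
open CategoryTheory AlgebraicGeometry
open Cyc

namespace Groth.Agent.S1925


open Groth.Agent.Lib.Lead.C1Cap Groth.Agent.Lib.Helper3.InvGen Groth.Agent.Lib.Lead.CycPull
  Groth.Agent.Lib.Helper22.AssocLen Groth.Agent.Lib.Helper23.CycLib

/-- The coefficient of `[Z(s)]_k` at `y`, computed with a local generator. -/
theorem zeroSectionFun_eq_length {X : Scheme.{u}} {L : X.Modules} {U : X.Opens} {e : Γ(L, U)}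
    (hg : IsGen L U e) (δ : X → ℤ) (k : ℤ) (s : L.presheaf.obj (Opposite.op ⊤)) (y : X)
    (hyU : y ∈ U) (hyk : δ y = k) (c : X.presheaf.stalk y)
    (hc0 : L.presheaf.germ ⊤ y trivial s = c • L.presheaf.germ U y hyU e) :
    Cyc.zeroSectionFun δ k L s y =
      ((Module.length (X.presheaf.stalk y) (X.presheaf.stalk y ⧸ Ideal.span {c})).toNat : ℤ) := by
  unfold Cyc.zeroSectionFun
  rw [if_pos hyk]
  have ht : ∃ t : L.presheaf.stalk y, Submodule.span (X.presheaf.stalk y) {t} = ⊤ :=
    ⟨L.presheaf.germ U y hyU e, span_germ_eq_top hg y hyU⟩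
  obtain ⟨u, hu, htu⟩ := exists_unit_of_span hg y hyU (Classical.choose ht)
    (Classical.choose_spec ht)
  have hf : ∃ f : X.presheaf.stalk y,
      (L.presheaf.germ ⊤ y trivial) s = f • Classical.choose ht := by
    obtain ⟨u', hu'⟩ := hu.exists_left_inv
    refine ⟨c * u', ?_⟩
    rw [htu, ← mul_smul, mul_assoc, hu', mul_one, hc0]
  rw [dif_pos ht, dif_pos hf]
  have hf₀ := Classical.choose_spec hf
  have hfc : Classical.choose hf * u = c := by
    have h0 : (Classical.choose hf * u - c) • L.presheaf.germ U y hyU e = 0 := by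
      rw [sub_smul, mul_smul, ← htu, ← hf₀, hc0, sub_self]
    exact sub_eq_zero.mp (stalk_inj hg y hyU _ h0)
  have hspan : Ideal.span {Classical.choose hf} = Ideal.span {c} := by
    rw [← hfc]
    exact (Ideal.span_singleton_mul_right_unit hu _).symm
  rw [hspan]

/-- The one-dimensional associativity formula for the ring itself. -/
theorem length_quot_eq_sum {B : Type u} [CommRing B] [IsNoetherianRing B] [IsLocalRing B]
    {ι : Type u} [Fintype ι] (P : ι → Ideal B) [∀ i, (P i).IsPrime]
    (c : B) (hcm : c ∈ IsLocalRing.maximalIdeal B)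
    (hreg : Function.Injective (fun b : B => c * b))
    (hinc : ∀ i j, P i ≤ P j → i = j) (hcP : ∀ i, c ∉ P i)
    (hPm : ∀ i, P i ≠ IsLocalRing.maximalIdeal B)
    (hall : ∀ Q : Ideal B, Q.IsPrime → Q = IsLocalRing.maximalIdeal B ∨ ∃ i, Q = P i) :
    Module.length B (B ⧸ Ideal.span {c}) =
      ∑ i, lam (P i) (B ⧸ (⊥ : Ideal B)) * Module.length B (B ⧸ (P i ⊔ Ideal.span {c})) := by
  have hgood : Good P (B ⧸ (⊥ : Ideal B)) := fun q _ => hall q.asIdeal q.2
  have hform := formula (P := P) hcm hinc hcP hPm (B ⧸ (⊥ : Ideal B)) hgood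
  have hK : Module.length B (Kt c (B ⧸ (⊥ : Ideal B))) = 0 := by
    rw [length_Kt_eq_zero_iff]
    intro a b hab
    obtain ⟨a, rfl⟩ := Ideal.Quotient.mk_surjective a
    obtain ⟨b, rfl⟩ := Ideal.Quotient.mk_surjective b
    have h1 : Ideal.Quotient.mk (⊥ : Ideal B) (c * a) = Ideal.Quotient.mk ⊥ (c * b) := hab
    rw [Ideal.Quotient.eq, Ideal.mem_bot, sub_eq_zero] at h1
    rw [hreg h1]
  rw [hK, zero_add, length_Ct_quot, bot_sup_eq] at hform
  exact hform

theorem lam_bot_eq_length {X : Scheme.{u}} (y η : X) (h : η ⤳ y) :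
    (haveI : (RingHom.ker (Cyc.specMap y η h)).IsPrime := RingHom.ker_isPrime _
     lam (RingHom.ker (Cyc.specMap y η h))
      (X.presheaf.stalk y ⧸ (⊥ : Ideal (X.presheaf.stalk y)))) =
      Module.length (X.presheaf.stalk η) (X.presheaf.stalk η) := by
  letI := (X.presheaf.stalkSpecializes h).hom.toAlgebra
  haveI : (RingHom.ker (Cyc.specMap y η h)).IsPrime := RingHom.ker_isPrime _
  haveI := isLocalization_stalkSpecializes y η h
  rw [lam_quot_eq_length _ _ (X.presheaf.stalk η), Ideal.map_bot]
  exact (Submodule.quotEquivOfEqBot (⊥ : Ideal (X.presheaf.stalk η)) rfl).length_eq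

theorem length_stalk_ne_top {X : Scheme.{u}} [IsLocallyNoetherian X] (η : X)
    (hmin : ∀ z : X, z ⤳ η → z = η) :
    Module.length (X.presheaf.stalk η) (X.presheaf.stalk η) ≠ ⊤ := by
  have h1 := length_quot_ne_top_of_forall_prime (⊥ : Ideal (X.presheaf.stalk η)) (by
    intro Q hQ _
    obtain ⟨z, hz, rfl⟩ := exists_eq_ker_specMap η Q hQ
    rw [ker_specMap_congr η z η (hmin z hz) hz (specializes_refl η), ker_specMap_self])
  rwa [(Submodule.quotEquivOfEqBot (⊥ : Ideal (X.presheaf.stalk η)) rfl).length_eq] at h1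

theorem subschemeFun_id {X : Scheme.{u}} (δ : X → ℤ) (k : ℤ) (η : X) (hη : δ η = k) :
    Cyc.subschemeFun δ k (𝟙 X) η =
      ((Module.length (X.presheaf.stalk η) (X.presheaf.stalk η)).toNat : ℤ) := by
  unfold Cyc.subschemeFun
  rw [if_pos hη]
  have hset : {z : X | (𝟙 X : X ⟶ X) z = η} = {η} := by
    ext z
    exact Iff.rfl
  rw [hset, finsum_mem_singleton]


/-- Core of S1925, with only the hypotheses used: locally Noetherian and a dimension function. -/
theorem core (Y : Scheme.{u}) [IsLocallyNoetherian Y] (δ : Y → ℤ) (hdimf : Cyc.IsDimFun Y δ)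
    (L : Y.Modules) (hL : PicF.IsInvertible L) (k : ℤ) (hdim : ∀ y : Y, δ y ≤ k + 1)
    (s : L.presheaf.obj (Opposite.op ⊤))
    (hZ : ∀ y : Y, (L.presheaf.germ ⊤ y trivial) s ∈
      IsLocalRing.maximalIdeal (Y.presheaf.stalk y) •
        (⊤ : Submodule (Y.presheaf.stalk y) (L.presheaf.stalk y)) → δ y ≤ k)
    (hreg : ∀ y : Y, δ y = k →
      Function.Injective (fun a : Y.presheaf.stalk y => a • (L.presheaf.germ ⊤ y trivial) s)) :
    Cyc.zeroSectionFun δ k L s = Cyc.c1CapFun δ L (Cyc.subschemeFun δ (k + 1) (𝟙 Y))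
      (fun ξ => Submodule.Quotient.mk ((L.presheaf.germ ⊤ ξ trivial) s)) := by
  classical
  funext y
  show Cyc.zeroSectionFun δ k L s y = ∑ᶠ η : Y, Cyc.subschemeFun δ (k + 1) (𝟙 Y) η *
      Cyc.secDivFun δ L η (Submodule.Quotient.mk ((L.presheaf.germ ⊤ η trivial) s)) y
  by_cases hyk : δ y = k
  swap
  · have h1 : Cyc.zeroSectionFun δ k L s y = 0 := by
      unfold Cyc.zeroSectionFun
      rw [if_neg hyk]
    rw [h1]
    symm
    apply finsum_eq_zero_of_forall_eq_zero
    intro η
    by_cases hc : η ⤳ y ∧ δ y + 1 = δ η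
    · have hc2 := hc.2
      have h2 : Cyc.subschemeFun δ (k + 1) (𝟙 Y) η = 0 := by
        unfold Cyc.subschemeFun
        rw [if_neg (fun h => hyk (by omega))]
      rw [h2, zero_mul]
    · have h2 : Cyc.secDivFun δ L η
          (Submodule.Quotient.mk ((L.presheaf.germ ⊤ η trivial) s)) y = 0 := by
        unfold Cyc.secDivFun
        rw [dif_neg hc]
      rw [h2, mul_zero]
  · obtain ⟨U, e, hyU, hg⟩ := exists_isGen hL y
    obtain ⟨c, hc0⟩ := stalk_surj hg y hyU (L.presheaf.germ ⊤ y trivial s)
    rw [zeroSectionFun_eq_length hg δ k s y hyU hyk c hc0]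
    have hgenδ : ∀ η : Y, η ⤳ y → η ≠ y → δ η = k + 1 := by
      intro η h hne
      have h1 := (hdimf η y h hne).1
      have h2 := hdim η
      omega
    have hspecη : ∀ (η : Y) (h : η ⤳ y), L.presheaf.germ ⊤ η trivial s =
        Y.presheaf.stalkSpecializes h c • L.presheaf.germ U η (h.mem_open U.2 hyU) e := by
      intro η h
      rw [← spec_germ L h ⊤ trivial s, hc0, spec_smul, spec_germ]
    have hunit : ∀ (η : Y) (h : η ⤳ y), η ≠ y → IsUnit (Y.presheaf.stalkSpecializes h c) := by
      intro η h hne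
      by_contra hnu
      have hmem : (L.presheaf.germ ⊤ η trivial) s ∈
          IsLocalRing.maximalIdeal (Y.presheaf.stalk η) •
            (⊤ : Submodule (Y.presheaf.stalk η) (L.presheaf.stalk η)) := by
        rw [hspecη η h]
        exact Submodule.smul_mem_smul ((IsLocalRing.mem_maximalIdeal _).mpr hnu)
          Submodule.mem_top
      have h1 := hZ η hmem
      have h2 := hgenδ η h hne
      omega
    have hterm : ∀ (η : Y) (h : η ⤳ y) (hne : η ≠ y),
        Cyc.secOrdAt L η y h (Submodule.Quotient.mk ((L.presheaf.germ ⊤ η trivial) s)) =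
          ((Module.length (Y.presheaf.stalk y) (Y.presheaf.stalk y ⧸
            (RingHom.ker (Cyc.specMap y η h) ⊔ Ideal.span {c}))).toNat : ℤ) := by
      intro η h hne
      have hu := hunit η h hne
      rw [hspecη η h, secOrdAt_eq hg h hyU _ hu]
      have hd : δ y + 1 = δ η := by
        have := hgenδ η h hne
        omega
      have himm : ∀ z : Y, η ⤳ z → z ⤳ y → z = η ∨ z = y :=
        fun z h1 h2 => immediate_of_delta hdimf hd z h1 h2
      have hdim1 := krullDimLE_one_locQuot y η h himm
      have hG : Cyc.specMap y η h c * Cyc.specMap y η h 1 = Cyc.specMap y η h c := by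
        rw [map_one, mul_one]
      have hcn : c ∉ RingHom.ker (Cyc.specMap y η h) :=
        fun hmem => (hu.map (Y.residue η).hom).ne_zero (RingHom.mem_ker.mp hmem)
      have h1n : (1 : Y.presheaf.stalk y) ∉ RingHom.ker (Cyc.specMap y η h) := by
        rw [RingHom.mem_ker, map_one]
        exact one_ne_zero
      have hsub := ordAt_eq_sub y η h hdim1 c 1 (Cyc.specMap y η h c) hG hcn h1n
      have h0 : Module.length (Y.presheaf.stalk y) (Y.presheaf.stalk y ⧸
          (RingHom.ker (Cyc.specMap y η h) ⊔ Ideal.span {(1 : Y.presheaf.stalk y)})) = 0 := by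
        rw [Module.length_eq_zero_iff]
        exact Ideal.Quotient.subsingleton_iff.mpr
          (by rw [Ideal.span_singleton_one, sup_top_eq])
      rw [h0] at hsub
      simp only [ENat.toNat_zero, Nat.cast_zero, sub_zero] at hsub
      exact hsub
    haveI hPprime : ∀ i : {η : Y // η ⤳ y ∧ η ≠ y},
        (RingHom.ker (Cyc.specMap y i.1 i.2.1)).IsPrime := fun i => RingHom.ker_isPrime _
    have hinc : ∀ i j : {η : Y // η ⤳ y ∧ η ≠ y},
        RingHom.ker (Cyc.specMap y i.1 i.2.1) ≤ RingHom.ker (Cyc.specMap y j.1 j.2.1) →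
          i = j := by
      intro i j hle
      have h1 : i.1 ⤳ j.1 := (ker_specMap_le_iff y i.1 j.1 i.2.1 j.2.1).mp hle
      apply Subtype.ext
      by_contra hne
      have h2 := (hdimf i.1 j.1 h1 hne).1
      have h3 := hgenδ i.1 i.2.1 i.2.2
      have h4 := hgenδ j.1 j.2.1 j.2.2
      omega
    have hcP : ∀ i : {η : Y // η ⤳ y ∧ η ≠ y}, c ∉ RingHom.ker (Cyc.specMap y i.1 i.2.1) := by
      intro i hmem
      exact ((hunit i.1 i.2.1 i.2.2).map (Y.residue i.1).hom).ne_zero (RingHom.mem_ker.mp hmem)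
    have hPm : ∀ i : {η : Y // η ⤳ y ∧ η ≠ y}, RingHom.ker (Cyc.specMap y i.1 i.2.1) ≠
        IsLocalRing.maximalIdeal (Y.presheaf.stalk y) := by
      intro i h
      rw [← ker_specMap_self y (specializes_refl y)] at h
      exact i.2.2 (ker_specMap_injective y i.1 y i.2.1 _ h)
    have hall : ∀ Q : Ideal (Y.presheaf.stalk y), Q.IsPrime →
        Q = IsLocalRing.maximalIdeal (Y.presheaf.stalk y) ∨
          ∃ i : {η : Y // η ⤳ y ∧ η ≠ y}, Q = RingHom.ker (Cyc.specMap y i.1 i.2.1) := by
      intro Q hQ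
      obtain ⟨z, hz, rfl⟩ := exists_eq_ker_specMap y Q hQ
      by_cases hzy : z = y
      · left
        rw [ker_specMap_congr y z y hzy hz (specializes_refl y), ker_specMap_self]
      · right
        exact ⟨⟨z, hz, hzy⟩, rfl⟩
    haveI : Finite {η : Y // η ⤳ y ∧ η ≠ y} := by
      have hmin : ∀ i : {η : Y // η ⤳ y ∧ η ≠ y}, RingHom.ker (Cyc.specMap y i.1 i.2.1) ∈
          (⊥ : Ideal (Y.presheaf.stalk y)).minimalPrimes := by
        intro i
        refine ⟨⟨hPprime i, bot_le⟩, ?_⟩
        rintro Q ⟨hQ, -⟩ hQle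
        rcases hall Q hQ with h | ⟨j, rfl⟩
        · exfalso
          rw [h] at hQle
          exact hPm i (le_antisymm (IsLocalRing.le_maximalIdeal (hPprime i).ne_top) hQle)
        · rw [hinc j i hQle]
      haveI : Finite {p : Ideal (Y.presheaf.stalk y) //
          p ∈ (⊥ : Ideal (Y.presheaf.stalk y)).minimalPrimes} :=
        (Ideal.finite_minimalPrimes_of_isNoetherianRing (Y.presheaf.stalk y) ⊥).to_subtype
      exact Finite.of_injective
        (fun i : {η : Y // η ⤳ y ∧ η ≠ y} =>
          (⟨RingHom.ker (Cyc.specMap y i.1 i.2.1), hmin i⟩ :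
            {p : Ideal (Y.presheaf.stalk y) //
              p ∈ (⊥ : Ideal (Y.presheaf.stalk y)).minimalPrimes}))
        (fun i j hij => hinc i j (le_of_eq (congrArg Subtype.val hij)))
    haveI : Fintype {η : Y // η ⤳ y ∧ η ≠ y} := Fintype.ofFinite _
    have hsum : (∑ᶠ η : Y, Cyc.subschemeFun δ (k + 1) (𝟙 Y) η *
        Cyc.secDivFun δ L η (Submodule.Quotient.mk ((L.presheaf.germ ⊤ η trivial) s)) y) =
        ∑ i : {η : Y // η ⤳ y ∧ η ≠ y},
          ((Module.length (Y.presheaf.stalk i.1) (Y.presheaf.stalk i.1)).toNat : ℤ) *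
          ((Module.length (Y.presheaf.stalk y) (Y.presheaf.stalk y ⧸
            (RingHom.ker (Cyc.specMap y i.1 i.2.1) ⊔ Ideal.span {c}))).toNat : ℤ) := by
      rw [← finsum_eq_sum_of_fintype]
      have hG : ∀ i : {η : Y // η ⤳ y ∧ η ≠ y},
          ((Module.length (Y.presheaf.stalk i.1) (Y.presheaf.stalk i.1)).toNat : ℤ) *
          ((Module.length (Y.presheaf.stalk y) (Y.presheaf.stalk y ⧸
            (RingHom.ker (Cyc.specMap y i.1 i.2.1) ⊔ Ideal.span {c}))).toNat : ℤ) =
          (fun η : Y => Cyc.subschemeFun δ (k + 1) (𝟙 Y) η *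
            Cyc.secDivFun δ L η
              (Submodule.Quotient.mk ((L.presheaf.germ ⊤ η trivial) s)) y) i.1 := by
        intro i
        show _ = Cyc.subschemeFun δ (k + 1) (𝟙 Y) i.1 *
            Cyc.secDivFun δ L i.1
              (Submodule.Quotient.mk ((L.presheaf.germ ⊤ i.1 trivial) s)) y
        have hi := hgenδ i.1 i.2.1 i.2.2
        rw [subschemeFun_id δ (k + 1) i.1 hi]
        unfold Cyc.secDivFun
        rw [dif_pos ⟨i.2.1, by omega⟩, hterm i.1 i.2.1 i.2.2]
      rw [finsum_congr hG,
        finsum_subtype_eq_finsum_cond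
          (f := fun η : Y => Cyc.subschemeFun δ (k + 1) (𝟙 Y) η *
            Cyc.secDivFun δ L η
              (Submodule.Quotient.mk ((L.presheaf.germ ⊤ η trivial) s)) y)
          (fun η => η ⤳ y ∧ η ≠ y)]
      refine finsum_congr (fun η => ?_)
      rw [finsum_eq_if]
      split_ifs with h0
      · rfl
      · show Cyc.subschemeFun δ (k + 1) (𝟙 Y) η * Cyc.secDivFun δ L η
          (Submodule.Quotient.mk ((L.presheaf.germ ⊤ η trivial) s)) y = 0
        have h2 : Cyc.secDivFun δ L η
            (Submodule.Quotient.mk ((L.presheaf.germ ⊤ η trivial) s)) y = 0 := by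
          unfold Cyc.secDivFun
          rw [dif_neg]
          rintro ⟨h1, h2⟩
          apply h0
          refine ⟨h1, ?_⟩
          intro hηy
          rw [hηy] at h2
          omega
        rw [h2, mul_zero]
    rw [hsum]
    have h3 : ∀ J : Ideal (Y.presheaf.stalk y), J = ⊤ →
        Module.length (Y.presheaf.stalk y) (Y.presheaf.stalk y ⧸ J) = 0 := by
      intro J hJ
      rw [Module.length_eq_zero_iff]
      exact Ideal.Quotient.subsingleton_iff.mpr hJ
    by_cases hcu : IsUnit c
    · have h1 : Ideal.span {c} = ⊤ := Ideal.span_singleton_eq_top.mpr hcu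
      have h4 : ∀ i : {η : Y // η ⤳ y ∧ η ≠ y},
          Module.length (Y.presheaf.stalk y) (Y.presheaf.stalk y ⧸
            (RingHom.ker (Cyc.specMap y i.1 i.2.1) ⊔ Ideal.span {c})) = 0 :=
        fun i => h3 _ (by rw [h1, sup_top_eq])
      rw [h3 _ h1]
      simp only [h4, ENat.toNat_zero, Nat.cast_zero, mul_zero, Finset.sum_const_zero]
    · have hcm : c ∈ IsLocalRing.maximalIdeal (Y.presheaf.stalk y) :=
        (IsLocalRing.mem_maximalIdeal c).mpr hcu
      have hregc : Function.Injective (fun b : Y.presheaf.stalk y => c * b) := by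
        intro a b hab
        have hab' : c * a = c * b := hab
        apply hreg y hyk
        show a • (L.presheaf.germ ⊤ y trivial) s = b • (L.presheaf.germ ⊤ y trivial) s
        rw [hc0, ← mul_smul, ← mul_smul, mul_comm a c, mul_comm b c, hab']
      have halg := length_quot_eq_sum
        (fun i : {η : Y // η ⤳ y ∧ η ≠ y} => RingHom.ker (Cyc.specMap y i.1 i.2.1))
        c hcm hregc hinc hcP hPm hall
      have hlam : ∀ i : {η : Y // η ⤳ y ∧ η ≠ y},
          lam (RingHom.ker (Cyc.specMap y i.1 i.2.1))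
            (Y.presheaf.stalk y ⧸ (⊥ : Ideal (Y.presheaf.stalk y))) =
          Module.length (Y.presheaf.stalk i.1) (Y.presheaf.stalk i.1) :=
        fun i => lam_bot_eq_length y i.1 i.2.1
      have halg' : Module.length (Y.presheaf.stalk y) (Y.presheaf.stalk y ⧸ Ideal.span {c}) =
          ∑ i : {η : Y // η ⤳ y ∧ η ≠ y},
            Module.length (Y.presheaf.stalk i.1) (Y.presheaf.stalk i.1) *
              Module.length (Y.presheaf.stalk y) (Y.presheaf.stalk y ⧸
                (RingHom.ker (Cyc.specMap y i.1 i.2.1) ⊔ Ideal.span {c})) := by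
        rw [halg]
        exact Finset.sum_congr rfl (fun i _ => by rw [hlam i])
      have hfin1 : ∀ i : {η : Y // η ⤳ y ∧ η ≠ y},
          Module.length (Y.presheaf.stalk i.1) (Y.presheaf.stalk i.1) ≠ ⊤ := by
        intro i
        apply length_stalk_ne_top
        intro z hz
        by_contra hne
        have h1 := (hdimf z i.1 hz hne).1
        have h2 := hdim z
        have h4 := hgenδ i.1 i.2.1 i.2.2
        omega
      have hfin2 : ∀ i : {η : Y // η ⤳ y ∧ η ≠ y},
          Module.length (Y.presheaf.stalk y) (Y.presheaf.stalk y ⧸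
            (RingHom.ker (Cyc.specMap y i.1 i.2.1) ⊔ Ideal.span {c})) ≠ ⊤ := by
        intro i
        have hd : δ y + 1 = δ i.1 := by
          have := hgenδ i.1 i.2.1 i.2.2
          omega
        have himm : ∀ z : Y, i.1 ⤳ z → z ⤳ y → z = i.1 ∨ z = y :=
          fun z h1 h2 => immediate_of_delta hdimf hd z h1 h2
        exact NA_ne_top (RingHom.ker (Cyc.specMap y i.1 i.2.1))
          (krullDimLE_one_locQuot y i.1 i.2.1 himm) (hcP i)
      first
      | (have h2 := congrArg ENat.toNat halg'
         rw [ENat.toNat_sum (fun i _ => WithTop.mul_ne_top (hfin1 i) (hfin2 i))] at h2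
         rw [h2, Nat.cast_sum]
         refine Finset.sum_congr rfl (fun i _ => ?_)
         rw [ENat.toNat_mul, Nat.cast_mul])
      | (have h5 : ∀ i : {η : Y // η ⤳ y ∧ η ≠ y}, ∃ n : ℕ,
            Module.length (Y.presheaf.stalk i.1) (Y.presheaf.stalk i.1) *
              Module.length (Y.presheaf.stalk y) (Y.presheaf.stalk y ⧸
                (RingHom.ker (Cyc.specMap y i.1 i.2.1) ⊔ Ideal.span {c})) = (n : ℕ∞) :=
           fun i => ⟨_, (ENat.coe_toNat (WithTop.mul_ne_top (hfin1 i) (hfin2 i))).symm⟩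
         choose n hn using h5
         have h6 : Module.length (Y.presheaf.stalk y) (Y.presheaf.stalk y ⧸ Ideal.span {c}) =
             ((∑ i, n i : ℕ) : ℕ∞) := by
           rw [halg', Nat.cast_sum]
           exact Finset.sum_congr rfl (fun i _ => hn i)
         rw [h6, ENat.toNat_coe, Nat.cast_sum]
         refine Finset.sum_congr rfl (fun i _ => ?_)
         have h7 := congrArg ENat.toNat (hn i)
         rw [ENat.toNat_mul, ENat.toNat_coe] at h7
         rw [← h7, Nat.cast_mul])
/-- Let L be an invertible O_Y-module and s a global section of L; assume δ ≤ k + 1 on Y, δ ≤ k on the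
zero locus of s, and multiplication by the germ of s injective on O_{Y,ξ} at the points ξ of
δ-dimension k. Writing [Y]_{k+1} = Σ n_i[Y_i] over the irreducible components of δ-dimension k + 1,
one has [Z(s)]_k = Σ n_i [Z(s|_{Y_i})]_k as k-cycles on Y; here the right side is computed as c_1(L)
∩ [Y]_{k+1} with the rational sections induced by s. Here L(ξ) = L_ξ/𝔪_ξ L_ξ is the space of
rational sections of L on the closure of ξ, div_{L|W}(s) and c_1(L) ∩ α are computed as coefficient
functions from chosen nonzero rational sections (Cyc.secDivFun, Cyc.c1CapFun), and results are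
compared up to rational equivalence for any cycles with those coefficients. A pair (X, δ) with
Cyc.IsSetup plays the role of a scheme locally of finite type over a fixed base with a dimension
function (X locally Noetherian with universally catenary local rings, δ a dimension function), and
Cyc.DeltaCompat records that the dimension function upstairs is the induced one. -/
theorem result (Y : Scheme.{u}) (δ : Y → ℤ) (hY : Cyc.IsSetup Y δ) (L : Y.Modules) (hL : PicF.IsInvertible L) (k : ℤ) (hdim : ∀ y : Y, δ y ≤ k + 1) (s : L.presheaf.obj (Opposite.op ⊤)) (hZ : ∀ y : Y, (L.presheaf.germ ⊤ y trivial) s ∈ IsLocalRing.maximalIdeal (Y.presheaf.stalk y) • (⊤ : Submodule (Y.presheaf.stalk y) (L.presheaf.stalk y)) → δ y ≤ k) (hreg : ∀ y : Y, δ y = k → Function.Injective (fun a : Y.presheaf.stalk y => a • (L.presheaf.germ ⊤ y trivial) s)) : Cyc.zeroSectionFun δ k L s = Cyc.c1CapFun δ L (Cyc.subschemeFun δ (k + 1) (𝟙 Y)) (fun ξ => Submodule.Quotient.mk ((L.presheaf.germ ⊤ ξ trivial) s)) := by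
  obtain ⟨hLN, -, hdimf⟩ := hY
  haveI := hLN
  exact core Y δ hdimf L hL k hdim s hZ hreg

end Groth.Agent.S1925
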