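import Groth.Statements.S1924
import Groth.Agent.Lib.Lead.C1Sub
import Groth.Agent.S1925

set_option autoImplicit false
universe u
open CategoryTheory AlgebraicGeometry
open Cyc

namespace Groth.Agent.S1924


open Groth.Agent.Lib.Lead.C1Cap Groth.Agent.Lib.Lead.C1Pull Groth.Agent.Lib.Lead.C1Sub
  Groth.Agent.Lib.Helper3.PbBasic Groth.Agent.Lib.Lead.CycClosed

/-- Let L be invertible on X, ι : Y → X a closed immersion with δ ≤ k + 1 on Y, and s a global section
of L|_Y = ι^*L such that the points of its zero locus have δ ≤ k and, at every such point ξ with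
δ(ξ) = k, multiplication by the germ of s is injective on O_{Y,ξ}. Then c_1(L) ∩ [Y]_{k+1} ∼_rat
ι_*[Z(s)]_k as k-cycles on X (for any nonzero rational sections used to compute the left side and
any cycle on Y with the coefficients of [Z(s)]_k). Here L(ξ) = L_ξ/𝔪_ξ L_ξ is the space of rational
sections of L on the closure of ξ, div_{L|W}(s) and c_1(L) ∩ α are computed as coefficient functions
from chosen nonzero rational sections (Cyc.secDivFun, Cyc.c1CapFun), and results are compared up to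
rational equivalence for any cycles with those coefficients. A pair (X, δ) with Cyc.IsSetup plays
the role of a scheme locally of finite type over a fixed base with a dimension function (X locally
Noetherian with universally catenary local rings, δ a dimension function), and Cyc.DeltaCompat
records that the dimension function upstairs is the induced one. -/
theorem result (X Y : Scheme.{u}) (δ : X → ℤ) (hX : Cyc.IsSetup X δ) (L : X.Modules) (hL : PicF.IsInvertible L) (ι : Y ⟶ X) [IsClosedImmersion ι] (k : ℤ) (hY : ∀ y : Y, δ (ι y) ≤ k + 1) (s : ((Scheme.Modules.pullback ι).obj L).presheaf.obj (Opposite.op ⊤)) (hZ : ∀ y : Y, (((Scheme.Modules.pullback ι).obj L).presheaf.germ ⊤ y trivial) s ∈ IsLocalRing.maximalIdeal (Y.presheaf.stalk y) • (⊤ : Submodule (Y.presheaf.stalk y) (((Scheme.Modules.pullback ι).obj L).presheaf.stalk y)) → δ (ι y) ≤ k) (hreg : ∀ y : Y, δ (ι y) = k → Function.Injective (fun a : Y.presheaf.stalk y => a • (((Scheme.Modules.pullback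 ι).obj L).presheaf.germ ⊤ y trivial) s)) (v : (ξ : X) → Cyc.secFibre L ξ) (hv : ∀ ξ, v ξ ≠ 0) (γ : AlgebraicCycle X ℤ) (hγ : ⇑γ = Cyc.c1CapFun δ L (Cyc.subschemeFun δ (k + 1) ι) v) (ζ : AlgebraicCycle Y ℤ) (hζ : ⇑ζ = Cyc.zeroSectionFun (fun y => δ (ι y)) k ((Scheme.Modules.pullback ι).obj L) s) : Cyc.RatEquiv δ k γ (AlgebraicCycle.map ι (fun y => δ (ι y)) δ ζ) := by
  classical
  obtain ⟨hLN, -, hdimf⟩ := hX
  haveI := hLN
  haveI : IsLocallyNoetherian Y := LocallyOfFiniteType.isLocallyNoetherian ι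
  have hinj : Function.Injective ⇑ι := ι.isClosedEmbedding.injective
  have hdY : Cyc.IsDimFun Y (fun y => δ (ι y)) :=
    isDimFun_closedImmersion ι δ _ (fun _ => rfl) hdimf
  have hMinv := isInvertible_pullback ι hL
  have hcore := Groth.Agent.S1925.core Y (fun y => δ (ι y)) hdY _ hMinv k hY s hZ hreg
  obtain ⟨A, hA, hAk⟩ := exists_cycle_subschemeFun ι δ hdY (k + 1) hY
  have hQ : ∀ ξ : X, ∃ v'ξ : Cyc.secFibre L ξ, v'ξ ≠ 0 ∧ ∀ η : Y, ι η = ξ →
      (Submodule.Quotient.mk ((((Scheme.Modules.pullback ι).obj L).presheaf.germ ⊤ η trivial) s) : Cyc.secFibre ((Scheme.Modules.pullback ι).obj L) η) ≠ 0 →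
      ∀ (d : Y) (h : η ⤳ d) (h' : ξ ⤳ ι d),
        Cyc.secOrdAt ((Scheme.Modules.pullback ι).obj L) η d h (Submodule.Quotient.mk ((((Scheme.Modules.pullback ι).obj L).presheaf.germ ⊤ η trivial) s) : Cyc.secFibre ((Scheme.Modules.pullback ι).obj L) η) = Cyc.secOrdAt L ξ (ι d) h' v'ξ := by
    intro ξ
    by_cases hξ : ∃ η : Y, ι η = ξ ∧ (Submodule.Quotient.mk ((((Scheme.Modules.pullback ι).obj L).presheaf.germ ⊤ η trivial) s) : Cyc.secFibre ((Scheme.Modules.pullback ι).obj L) η) ≠ 0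
    · obtain ⟨η, rfl, hne⟩ := hξ
      obtain ⟨s', hs', hord⟩ := exists_section_of_pull ι hL η _ hne
      refine ⟨s', hs', ?_⟩
      intro η₂ h2 hne2 d h h'
      obtain rfl := hinj h2
      exact hord d h h'
    · refine ⟨v ξ, hv ξ, ?_⟩
      intro η h2 hne2
      exact absurd ⟨η, h2, hne2⟩ hξ
  choose v' hv' hord using hQ
  refine c1Cap_indep δ L hL k A hAk v v' hv hv' γ _ (by rw [hγ, hA]) ?_
  funext x
  rw [hA]
  show (AlgebraicCycle.map ι (fun y => δ (ι y)) δ ζ) x =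
    ∑ᶠ ξ : X, Cyc.subschemeFun δ (k + 1) ι ξ * Cyc.secDivFun δ L ξ (v' ξ) x
  by_cases hx : x ∈ Set.range ⇑ι
  · obtain ⟨d, rfl⟩ := hx
    rw [map_apply_closedImmersion ι _ δ (fun _ => rfl) ζ d, hζ, hcore]
    show (∑ᶠ η : Y, Cyc.subschemeFun (fun y => δ (ι y)) (k + 1) (𝟙 Y) η *
      Cyc.secDivFun (fun y => δ (ι y)) ((Scheme.Modules.pullback ι).obj L) η (Submodule.Quotient.mk ((((Scheme.Modules.pullback ι).obj L).presheaf.germ ⊤ η trivial) s) : Cyc.secFibre ((Scheme.Modules.pullback ι).obj L) η) d) = _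
    obtain ⟨F, hF⟩ : ∃ F : X → ℤ, F = fun ξ => Cyc.subschemeFun δ (k + 1) ι ξ *
        Cyc.secDivFun δ L ξ (v' ξ) (ι d) := ⟨_, rfl⟩
    have hsupp : ∀ ξ ∈ Function.support F, ξ ∈ (Set.univ : Set X) ↔ ξ ∈ Set.range ⇑ι := by
      intro ξ hξ
      refine ⟨fun _ => ?_, fun _ => trivial⟩
      by_contra hnr
      apply hξ
      rw [hF]
      show Cyc.subschemeFun δ (k + 1) ι ξ * _ = 0
      rw [subschemeFun_eq_zero_of_notMem_range ι δ (k + 1) ξ hnr, zero_mul]
    have e1 : ∑ᶠ ξ : X, F ξ = ∑ᶠ η : Y, F (ι η) :=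
      calc ∑ᶠ ξ : X, F ξ = ∑ᶠ ξ ∈ (Set.univ : Set X), F ξ := (finsum_mem_univ F).symm
        _ = ∑ᶠ ξ ∈ Set.range ⇑ι, F ξ := finsum_mem_inter_support_eq' F _ _ hsupp
        _ = ∑ᶠ η : Y, F (ι η) := finsum_mem_range hinj
    have e0 : (∑ᶠ ξ : X, Cyc.subschemeFun δ (k + 1) ι ξ *
        Cyc.secDivFun δ L ξ (v' ξ) (ι d)) = ∑ᶠ ξ : X, F ξ := by rw [hF]
    rw [e0, e1]
    refine finsum_congr (fun η => ?_)
    rw [hF]
    show Cyc.subschemeFun (fun y => δ (ι y)) (k + 1) (𝟙 Y) η *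
        Cyc.secDivFun (fun y => δ (ι y)) ((Scheme.Modules.pullback ι).obj L) η (Submodule.Quotient.mk ((((Scheme.Modules.pullback ι).obj L).presheaf.germ ⊤ η trivial) s) : Cyc.secFibre ((Scheme.Modules.pullback ι).obj L) η) d =
      Cyc.subschemeFun δ (k + 1) ι (ι η) * Cyc.secDivFun δ L (ι η) (v' (ι η)) (ι d)
    rw [subschemeFun_apply_closedImmersion ι δ (k + 1) η]
    by_cases hB : Cyc.subschemeFun (fun y => δ (ι y)) (k + 1) (𝟙 Y) η = 0
    · rw [hB, zero_mul, zero_mul]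
    · congr 1
      have hηk : δ (ι η) = k + 1 := by
        by_contra hk
        apply hB
        unfold Cyc.subschemeFun
        rw [if_neg hk]
      have hne : (Submodule.Quotient.mk ((((Scheme.Modules.pullback ι).obj L).presheaf.germ ⊤ η trivial) s) : Cyc.secFibre ((Scheme.Modules.pullback ι).obj L) η) ≠ 0 := by
        intro h0
        rw [Submodule.Quotient.mk_eq_zero] at h0
        have h3 := hZ η h0
        omega
      unfold Cyc.secDivFun
      have hiff : (ι η ⤳ ι d) ↔ (η ⤳ d) := ι.isClosedEmbedding.isInducing.specializes_iff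
      by_cases hc : η ⤳ d ∧ δ (ι d) + 1 = δ (ι η)
      · have hc' : ι η ⤳ ι d ∧ δ (ι d) + 1 = δ (ι η) := ⟨hiff.2 hc.1, hc.2⟩
        rw [dif_pos hc, dif_pos hc']
        exact hord (ι η) η rfl hne d hc.1 hc'.1
      · have hc' : ¬ (ι η ⤳ ι d ∧ δ (ι d) + 1 = δ (ι η)) := fun h => hc ⟨hiff.1 h.1, h.2⟩
        rw [dif_neg hc, dif_neg hc']
  · rw [map_apply_of_notMem_range ι _ δ ζ x hx]
    symm
    apply finsum_eq_zero_of_forall_eq_zero
    intro ξ
    by_cases hr : ξ ∈ Set.range ⇑ι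
    · have h2 : Cyc.secDivFun δ L ξ (v' ξ) x = 0 := by
        unfold Cyc.secDivFun
        rw [dif_neg]
        rintro ⟨hs, -⟩
        exact hx (hs.mem_closed ι.isClosedEmbedding.isClosed_range hr)
      rw [h2, mul_zero]
    · rw [subschemeFun_eq_zero_of_notMem_range ι δ (k + 1) ξ hr, zero_mul]

end Groth.Agent.S1924
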