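import Groth.Statements.S19247
import Mathlib

set_option autoImplicit false
universe u
open CohTop

namespace Groth.Agent.S19247

open CategoryTheory CategoryTheory.Limits TopologicalSpace Opposite

theorem tower_lift {A B C : ℕ → Type u} [∀ n, AddCommGroup (A n)] [∀ n, AddCommGroup (B n)]
    [∀ n, AddCommGroup (C n)]
    (f : ∀ n, A n →+ B n) (g : ∀ n, B n →+ C n)
    (rA : ∀ n, A (n+1) →+ A n) (rB : ∀ n, B (n+1) →+ B n) (rC : ∀ n, C (n+1) →+ C n)
    (hf : ∀ n a, rB n (f (n+1) a) = f n (rA n a))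
    (hg : ∀ n b, rC n (g (n+1) b) = g n (rB n b))
    (hgf : ∀ n a, g n (f n a) = 0)
    (hex : ∀ n b, g n b = 0 → ∃ a, f n a = b)
    (hgs : ∀ n, Function.Surjective (g n))
    (hrA : ∀ n, Function.Surjective (rA n))
    (t : ∀ n, C n) (ht : ∀ n, rC n (t (n+1)) = t n) :
    ∃ s : ∀ n, B n, (∀ n, rB n (s (n+1)) = s n) ∧ ∀ n, g n (s n) = t n := by
  have step : ∀ n (s : B n), g n s = t n →
      ∃ s' : B (n+1), rB n s' = s ∧ g (n+1) s' = t (n+1) := by
    intro n s hs
    obtain ⟨s', hs'⟩ := hgs (n+1) (t (n+1))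
    have h0 : g n (rB n s' - s) = 0 := by rw [map_sub, ← hg, hs', ht, hs, sub_self]
    obtain ⟨a, ha⟩ := hex n _ h0
    obtain ⟨a', ha'⟩ := hrA n a
    refine ⟨s' - f (n+1) a', ?_, ?_⟩
    · rw [map_sub, hf, ha', ha]; abel
    · rw [map_sub, hs', hgf, sub_zero]
  obtain ⟨s0, hs0⟩ := hgs 0 (t 0)
  let σ : ∀ n, {s : B n // g n s = t n} := fun n =>
    Nat.rec (motive := fun n => {s : B n // g n s = t n}) ⟨s0, hs0⟩
      (fun n p => ⟨(step n p.1 p.2).choose, (step n p.1 p.2).choose_spec.2⟩) n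
  exact ⟨fun n => (σ n).1, fun n => (step n (σ n).1 (σ n).2).choose_spec.1, fun n => (σ n).2⟩

theorem mem_sections_of_succ (F : ℕᵒᵖ ⥤ Type u) (x : ∀ j, F.obj j)
    (h : ∀ n : ℕ, F.map (homOfLE (Nat.le_succ n)).op (x (op (n+1))) = x (op n)) :
    x ∈ F.sections := by
  have key : ∀ (n m : ℕ) (hnm : n ≤ m), F.map (homOfLE hnm).op (x (op m)) = x (op n) := by
    intro n m hnm
    induction m, hnm using Nat.le_induction with
    | base =>
      have h1 : (homOfLE (le_refl n)).op = 𝟙 (op n) := rfl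
      rw [h1, Functor.map_id_apply]
    | succ m hnm ih =>
      have h1 : (homOfLE (hnm.trans (Nat.le_succ m))).op =
          (homOfLE (Nat.le_succ m)).op ≫ (homOfLE hnm).op := rfl
      rw [h1, Functor.map_comp_apply, h, ih]
  intro j j' φ
  obtain ⟨m⟩ := j
  obtain ⟨n⟩ := j'
  have hnm : n ≤ m := leOfHom φ.unop
  have h1 : φ = (homOfLE hnm).op := Quiver.Hom.unop_inj (Subsingleton.elim _ _)
  rw [h1]
  exact key n m hnm


open CategoryTheory CategoryTheory.Limits TopologicalSpace Opposite in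
/-- Let X be a topological space and S : 0 ⟶ M' ⟶ M ⟶ M'' ⟶ 0 a short exact sequence of ℕ-indexed
inverse systems of abelian sheaves on X (short exact in the abelian category of such systems, i.e.
levelwise), such that each of M', M, M'' is a flasque tower: every term is flasque and every
transition map is an epimorphism of sheaves with flasque kernel. Then the induced map lim M ⟶ lim
M'' is an epimorphism of sheaves, so that, lim being left exact, the sequence 0 ⟶ lim M' ⟶ lim M ⟶
lim M'' ⟶ 0 is exact. (The source's statement is the exactness of lim on flasque de Rham–Witt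
systems on a scheme; the de Rham–Witt structure plays no role, so the row is stated for towers of
abelian sheaves on any space.) -/
theorem result {X : TopCat.{u}}
    (S : ShortComplex (ℕᵒᵖ ⥤ CohTop.Ab X)) (hS : S.ShortExact) :
    (∀ n : ℕ, TopCat.Sheaf.IsFlasque (S.X₁.obj (op n))) →
      (∀ n : ℕ, Epi (S.X₁.map (homOfLE (Nat.le_succ n)).op)) →
      (∀ n : ℕ, TopCat.Sheaf.IsFlasque (kernel (S.X₁.map (homOfLE (Nat.le_succ n)).op) : CohTop.Ab X)) →
    (∀ n : ℕ, TopCat.Sheaf.IsFlasque (S.X₂.obj (op n))) →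
      (∀ n : ℕ, Epi (S.X₂.map (homOfLE (Nat.le_succ n)).op)) →
      (∀ n : ℕ, TopCat.Sheaf.IsFlasque (kernel (S.X₂.map (homOfLE (Nat.le_succ n)).op) : CohTop.Ab X)) →
    (∀ n : ℕ, TopCat.Sheaf.IsFlasque (S.X₃.obj (op n))) →
      (∀ n : ℕ, Epi (S.X₃.map (homOfLE (Nat.le_succ n)).op)) →
      (∀ n : ℕ, TopCat.Sheaf.IsFlasque (kernel (S.X₃.map (homOfLE (Nat.le_succ n)).op) : CohTop.Ab X)) →
      Epi (limMap S.g) := by
  intro hF1 hE1 hK1 _ _ _ _ _ _
  suffices hsurj : ∀ U : Opens X, Function.Surjective ((limMap S.g).hom.app (op U)) by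
    haveI : Epi ((sheafToPresheaf _ _).map (limMap S.g)) := by
      haveI : ∀ V, Epi (((sheafToPresheaf _ _).map (limMap S.g)).app V) := by
        intro V
        obtain ⟨V⟩ := V
        exact (AddCommGrpCat.epi_iff_surjective _).mpr (hsurj V)
      exact NatTrans.epi_of_epi_app _
    exact (sheafToPresheaf _ _).epi_of_epi_map this
  intro U
  let G : CohTop.Ab X ⥤ Type u :=
    sheafToPresheaf _ _ ⋙ (evaluation _ _).obj (op U) ⋙ forget AddCommGrpCat
  haveI : PreservesLimit S.X₂ G := inferInstance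
  haveI : PreservesLimit S.X₃ G := inferInstance
  have hM₂ := isLimitOfPreserves G (limit.isLimit S.X₂)
  have hM₃ := isLimitOfPreserves G (limit.isLimit S.X₃)
  have hSn : ∀ n : ℕ, (S.map ((evaluation ℕᵒᵖ (CohTop.Ab X)).obj (op n))).ShortExact :=
    fun n => hS.map_of_exact _
  have hgs : ∀ n : ℕ, Function.Surjective ((S.g.app (op n)).hom.app (op U)) := by
    intro n
    haveI : TopCat.Sheaf.IsFlasque (S.map ((evaluation ℕᵒᵖ (CohTop.Ab X)).obj (op n))).X₁ := hF1 n
    exact (AddCommGrpCat.epi_iff_surjective _).mp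
      (TopCat.Sheaf.IsFlasque.epi_of_shortExact (U := U) (hSn n))
  have hrA : ∀ n : ℕ, Function.Surjective
      ((S.X₁.map (homOfLE (Nat.le_succ n)).op).hom.app (op U)) := by
    intro n
    let K : ShortComplex (CohTop.Ab X) :=
      ShortComplex.mk (kernel.ι (S.X₁.map (homOfLE (Nat.le_succ n)).op))
        (S.X₁.map (homOfLE (Nat.le_succ n)).op) (kernel.condition _)
    have hK : K.ShortExact :=
      { exact := ShortComplex.exact_kernel _
        mono_f := inferInstanceAs (Mono (kernel.ι (S.X₁.map (homOfLE (Nat.le_succ n)).op)))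
        epi_g := hE1 n }
    haveI : TopCat.Sheaf.IsFlasque K.X₁ := hK1 n
    exact (AddCommGrpCat.epi_iff_surjective _).mp
      (TopCat.Sheaf.IsFlasque.epi_of_shortExact (U := U) hK)
  have hex : ∀ (n : ℕ) (b : (S.X₂.obj (op n)).obj.obj (op U)),
      (S.g.app (op n)).hom.app (op U) b = 0 → ∃ a, (S.f.app (op n)).hom.app (op U) a = b := by
    intro n b hb
    exact TopCat.Sheaf.sections_exact_of_left_exact (hSn n).exact (hSn n).mono_f b hb
  have hgf : ∀ (n : ℕ) (a : (S.X₁.obj (op n)).obj.obj (op U)),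
      (S.g.app (op n)).hom.app (op U) ((S.f.app (op n)).hom.app (op U) a) = 0 := by
    intro n a
    have h1 : S.f.app (op n) ≫ S.g.app (op n) = 0 := by
      rw [← NatTrans.comp_app, S.zero]; rfl
    have h2 := congrArg (fun ψ => (ConcreteCategory.hom (ψ.hom.app (op U))) a) h1
    exact h2
  have hf : ∀ (n : ℕ) (a : (S.X₁.obj (op (n+1))).obj.obj (op U)),
      (S.X₂.map (homOfLE (Nat.le_succ n)).op).hom.app (op U)
        ((S.f.app (op (n+1))).hom.app (op U) a) =
      (S.f.app (op n)).hom.app (op U)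
        ((S.X₁.map (homOfLE (Nat.le_succ n)).op).hom.app (op U) a) := by
    intro n a
    have h := congrArg (fun ψ => (ConcreteCategory.hom (ψ.hom.app (op U))) a)
      (S.f.naturality (homOfLE (Nat.le_succ n)).op)
    exact h.symm
  have hg : ∀ (n : ℕ) (b : (S.X₂.obj (op (n+1))).obj.obj (op U)),
      (S.X₃.map (homOfLE (Nat.le_succ n)).op).hom.app (op U)
        ((S.g.app (op (n+1))).hom.app (op U) b) =
      (S.g.app (op n)).hom.app (op U)
        ((S.X₂.map (homOfLE (Nat.le_succ n)).op).hom.app (op U) b) := by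
    intro n b
    have h := congrArg (fun ψ => (ConcreteCategory.hom (ψ.hom.app (op U))) b)
      (S.g.naturality (homOfLE (Nat.le_succ n)).op)
    exact h.symm
  intro t
  let tn : ∀ n : ℕ, (S.X₃.obj (op n)).obj.obj (op U) :=
    fun n => (limit.π S.X₃ (op n)).hom.app (op U) t
  have htn : ∀ n : ℕ, (S.X₃.map (homOfLE (Nat.le_succ n)).op).hom.app (op U) (tn (n+1)) = tn n := by
    intro n
    have h := congrArg (fun ψ => (ConcreteCategory.hom (ψ.hom.app (op U))) t)
      (limit.w S.X₃ (homOfLE (Nat.le_succ n)).op)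
    exact h
  obtain ⟨s, hs1, hs2⟩ := tower_lift
    (A := fun n => (S.X₁.obj (op n)).obj.obj (op U))
    (B := fun n => (S.X₂.obj (op n)).obj.obj (op U))
    (C := fun n => (S.X₃.obj (op n)).obj.obj (op U))
    (fun n => ((S.f.app (op n)).hom.app (op U)).hom)
    (fun n => ((S.g.app (op n)).hom.app (op U)).hom)
    (fun n => ((S.X₁.map (homOfLE (Nat.le_succ n)).op).hom.app (op U)).hom)
    (fun n => ((S.X₂.map (homOfLE (Nat.le_succ n)).op).hom.app (op U)).hom)
    (fun n => ((S.X₃.map (homOfLE (Nat.le_succ n)).op).hom.app (op U)).hom)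
    hf hg hgf hex hgs hrA tn htn
  let x : ∀ j : ℕᵒᵖ, (S.X₂ ⋙ G).obj j := fun j => s j.unop
  have hx : x ∈ (S.X₂ ⋙ G).sections := mem_sections_of_succ _ x (fun n => hs1 n)
  let sU : G.obj (limit S.X₂) := (Types.isLimitEquivSections hM₂).symm ⟨x, hx⟩
  refine ⟨sU, ?_⟩
  apply (Types.isLimitEquivSections hM₃).injective
  apply Subtype.ext
  funext j
  show G.map (limit.π S.X₃ j) (G.map (limMap S.g) sU) = G.map (limit.π S.X₃ j) t
  rw [← Functor.map_comp_apply, limMap_π, Functor.map_comp_apply]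
  have h1 : G.map (limit.π S.X₂ j) sU = x j :=
    Types.isLimitEquivSections_symm_apply hM₂ ⟨x, hx⟩ j
  rw [h1]
  exact hs2 j.unop

end Groth.Agent.S19247
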