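import Groth.Statements.S19246
import Mathlib
import Groth.Agent.S19247

set_option autoImplicit false
universe u
open CohTop

namespace Groth.Agent.S19246

open CategoryTheory CategoryTheory.Limits TopologicalSpace Opposite

theorem tower_lift2 {A B KU KV : ℕ → Type u} [∀ n, AddCommGroup (A n)] [∀ n, AddCommGroup (B n)]
    [∀ n, AddCommGroup (KU n)] [∀ n, AddCommGroup (KV n)]
    (ρ : ∀ n, A n →+ B n) (rA : ∀ n, A (n+1) →+ A n) (rB : ∀ n, B (n+1) →+ B n)
    (ιU : ∀ n, KU n →+ A (n+1)) (ιV : ∀ n, KV n →+ B (n+1)) (ρK : ∀ n, KU n →+ KV n)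
    (h1 : ∀ n a, ρ n (rA n a) = rB n (ρ (n+1) a))
    (h2 : ∀ n κ, ρ (n+1) (ιU n κ) = ιV n (ρK n κ))
    (h3 : ∀ n κ, rA n (ιU n κ) = 0)
    (hex : ∀ n b, rB n b = 0 → ∃ κ, ιV n κ = b)
    (hρK : ∀ n, Function.Surjective (ρK n))
    (hrA : ∀ n, Function.Surjective (rA n))
    (hρ0 : Function.Surjective (ρ 0))
    (t : ∀ n, B n) (ht : ∀ n, rB n (t (n+1)) = t n) :
    ∃ s : ∀ n, A n, (∀ n, rA n (s (n+1)) = s n) ∧ ∀ n, ρ n (s n) = t n := by
  have step : ∀ n (s : A n), ρ n s = t n →
      ∃ s' : A (n+1), rA n s' = s ∧ ρ (n+1) s' = t (n+1) := by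
    intro n s hs
    obtain ⟨s', hs'⟩ := hrA n s
    have h0 : rB n (ρ (n+1) s' - t (n+1)) = 0 := by
      rw [map_sub, ← h1, hs', ht, hs, sub_self]
    obtain ⟨κV, hκV⟩ := hex n _ h0
    obtain ⟨κU, hκU⟩ := hρK n κV
    refine ⟨s' - ιU n κU, ?_, ?_⟩
    · rw [map_sub, h3, hs', sub_zero]
    · rw [map_sub, h2, hκU, hκV, sub_sub_cancel]
  obtain ⟨s0, hs0⟩ := hρ0 (t 0)
  let σ : ∀ n, {s : A n // ρ n s = t n} := fun n =>
    Nat.rec (motive := fun n => {s : A n // ρ n s = t n}) ⟨s0, hs0⟩
      (fun n p => ⟨(step n p.1 p.2).choose, (step n p.1 p.2).choose_spec.2⟩) n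
  exact ⟨fun n => (σ n).1, fun n => (step n (σ n).1 (σ n).2).choose_spec.1, fun n => (σ n).2⟩


open CategoryTheory CategoryTheory.Limits TopologicalSpace Opposite in
/-- Let X be a topological space and (M_n)_{n ≥ 0} an inverse system of abelian sheaves on X indexed by
the natural numbers, such that every M_n is flasque and every transition map M_{n+1} ⟶ M_n is an
epimorphism of sheaves with flasque kernel. Then the limit sheaf lim_n M_n is flasque. (The source's
statement is about flasque de Rham–Witt systems on a scheme, whose definition is exactly this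
condition on the underlying tower of abelian sheaves; the additional structure plays no role in the
assertion or its proof, so the row is stated for towers of abelian sheaves on any space.) -/
theorem result {X : TopCat.{u}} (M : ℕᵒᵖ ⥤ CohTop.Ab X) :
    (∀ n : ℕ, TopCat.Sheaf.IsFlasque (M.obj (op n))) →
      (∀ n : ℕ, Epi (M.map (homOfLE (Nat.le_succ n)).op)) →
      (∀ n : ℕ, TopCat.Sheaf.IsFlasque (kernel (M.map (homOfLE (Nat.le_succ n)).op) : CohTop.Ab X)) →
      TopCat.Sheaf.IsFlasque (limit M : CohTop.Ab X) := by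
  intro hF hE hK
  refine ⟨?_⟩
  intro U V i
  obtain ⟨U⟩ := U
  obtain ⟨V⟩ := V
  refine (AddCommGrpCat.epi_iff_surjective _).mpr ?_
  let GU : CohTop.Ab X ⥤ Type u :=
    sheafToPresheaf _ _ ⋙ (evaluation _ _).obj (op U) ⋙ forget AddCommGrpCat
  let GV : CohTop.Ab X ⥤ Type u :=
    sheafToPresheaf _ _ ⋙ (evaluation _ _).obj (op V) ⋙ forget AddCommGrpCat
  haveI : PreservesLimit M GU := inferInstance
  haveI : PreservesLimit M GV := inferInstance
  have hU := isLimitOfPreserves GU (limit.isLimit M)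
  have hV := isLimitOfPreserves GV (limit.isLimit M)
  have hKse : ∀ n : ℕ, (ShortComplex.mk (kernel.ι (M.map (homOfLE (Nat.le_succ n)).op))
      (M.map (homOfLE (Nat.le_succ n)).op) (kernel.condition _)).ShortExact := fun n =>
    { exact := ShortComplex.exact_kernel _
      mono_f := inferInstanceAs (Mono (kernel.ι (M.map (homOfLE (Nat.le_succ n)).op)))
      epi_g := hE n }
  have hrA : ∀ n : ℕ, Function.Surjective
      ((M.map (homOfLE (Nat.le_succ n)).op).hom.app (op U)) := by
    intro n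
    haveI : TopCat.Sheaf.IsFlasque (ShortComplex.mk (kernel.ι (M.map (homOfLE (Nat.le_succ n)).op))
      (M.map (homOfLE (Nat.le_succ n)).op) (kernel.condition _)).X₁ := hK n
    exact (AddCommGrpCat.epi_iff_surjective _).mp
      (TopCat.Sheaf.IsFlasque.epi_of_shortExact (U := U) (hKse n))
  have hex : ∀ (n : ℕ) (b : (M.obj (op (n+1))).obj.obj (op V)),
      (M.map (homOfLE (Nat.le_succ n)).op).hom.app (op V) b = 0 →
      ∃ κ, (kernel.ι (M.map (homOfLE (Nat.le_succ n)).op)).hom.app (op V) κ = b := by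
    intro n b hb
    exact TopCat.Sheaf.sections_exact_of_left_exact (hKse n).exact (hKse n).mono_f b hb
  have hρK : ∀ n : ℕ, Function.Surjective
      ((kernel (M.map (homOfLE (Nat.le_succ n)).op) : CohTop.Ab X).obj.map i) := by
    intro n
    exact (AddCommGrpCat.epi_iff_surjective _).mp ((hK n).epi i)
  have hρ0 : Function.Surjective ((M.obj (op 0)).obj.map i) :=
    (AddCommGrpCat.epi_iff_surjective _).mp ((hF 0).epi i)
  have h1 : ∀ (n : ℕ) (a : (M.obj (op (n+1))).obj.obj (op U)),
      (M.obj (op n)).obj.map i ((M.map (homOfLE (Nat.le_succ n)).op).hom.app (op U) a) =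
      (M.map (homOfLE (Nat.le_succ n)).op).hom.app (op V) ((M.obj (op (n+1))).obj.map i a) := by
    intro n a
    have h := congrArg (fun ψ => (ConcreteCategory.hom ψ) a)
      ((M.map (homOfLE (Nat.le_succ n)).op).hom.naturality i)
    exact h.symm
  have h2 : ∀ (n : ℕ) (κ : (kernel (M.map (homOfLE (Nat.le_succ n)).op) : CohTop.Ab X).obj.obj (op U)),
      (M.obj (op (n+1))).obj.map i
        ((kernel.ι (M.map (homOfLE (Nat.le_succ n)).op)).hom.app (op U) κ) =
      (kernel.ι (M.map (homOfLE (Nat.le_succ n)).op)).hom.app (op V)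
        ((kernel (M.map (homOfLE (Nat.le_succ n)).op) : CohTop.Ab X).obj.map i κ) := by
    intro n κ
    have h := congrArg (fun ψ => (ConcreteCategory.hom ψ) κ)
      ((kernel.ι (M.map (homOfLE (Nat.le_succ n)).op)).hom.naturality i)
    exact h.symm
  have h3 : ∀ (n : ℕ) (κ : (kernel (M.map (homOfLE (Nat.le_succ n)).op) : CohTop.Ab X).obj.obj (op U)),
      (M.map (homOfLE (Nat.le_succ n)).op).hom.app (op U)
        ((kernel.ι (M.map (homOfLE (Nat.le_succ n)).op)).hom.app (op U) κ) = 0 := by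
    intro n κ
    have h := congrArg (fun ψ => (ConcreteCategory.hom (ψ.hom.app (op U))) κ)
      (kernel.condition (M.map (homOfLE (Nat.le_succ n)).op))
    exact h
  intro t
  let tn : ∀ n : ℕ, (M.obj (op n)).obj.obj (op V) :=
    fun n => (limit.π M (op n)).hom.app (op V) t
  have htn : ∀ n : ℕ, (M.map (homOfLE (Nat.le_succ n)).op).hom.app (op V) (tn (n+1)) = tn n := by
    intro n
    have h := congrArg (fun ψ => (ConcreteCategory.hom (ψ.hom.app (op V))) t)
      (limit.w M (homOfLE (Nat.le_succ n)).op)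
    exact h
  obtain ⟨s, hs1, hs2⟩ := tower_lift2
    (A := fun n => (M.obj (op n)).obj.obj (op U))
    (B := fun n => (M.obj (op n)).obj.obj (op V))
    (KU := fun n => (kernel (M.map (homOfLE (Nat.le_succ n)).op) : CohTop.Ab X).obj.obj (op U))
    (KV := fun n => (kernel (M.map (homOfLE (Nat.le_succ n)).op) : CohTop.Ab X).obj.obj (op V))
    (fun n => ((M.obj (op n)).obj.map i).hom)
    (fun n => ((M.map (homOfLE (Nat.le_succ n)).op).hom.app (op U)).hom)
    (fun n => ((M.map (homOfLE (Nat.le_succ n)).op).hom.app (op V)).hom)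
    (fun n => ((kernel.ι (M.map (homOfLE (Nat.le_succ n)).op)).hom.app (op U)).hom)
    (fun n => ((kernel.ι (M.map (homOfLE (Nat.le_succ n)).op)).hom.app (op V)).hom)
    (fun n => ((kernel (M.map (homOfLE (Nat.le_succ n)).op) : CohTop.Ab X).obj.map i).hom)
    h1 h2 h3 hex hρK hrA hρ0 tn htn
  let x : ∀ j : ℕᵒᵖ, (M ⋙ GU).obj j := fun j => s j.unop
  have hx : x ∈ (M ⋙ GU).sections :=
    Groth.Agent.S19247.mem_sections_of_succ _ x (fun n => hs1 n)
  let sU : GU.obj (limit M) := (Types.isLimitEquivSections hU).symm ⟨x, hx⟩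
  refine ⟨sU, ?_⟩
  apply (Types.isLimitEquivSections hV).injective
  apply Subtype.ext
  funext j
  show GV.map (limit.π M j) (((limit M : CohTop.Ab X).obj.map i) sU) = GV.map (limit.π M j) t
  have hnat : GV.map (limit.π M j) (((limit M : CohTop.Ab X).obj.map i) sU) =
      ((M.obj j).obj.map i) (GU.map (limit.π M j) sU) := by
    have h := congrArg (fun ψ => (ConcreteCategory.hom ψ) sU) ((limit.π M j).hom.naturality i)
    exact h
  rw [hnat]
  have h4 : GU.map (limit.π M j) sU = x j :=
    Types.isLimitEquivSections_symm_apply hU ⟨x, hx⟩ j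
  rw [h4]
  exact hs2 j.unop

end Groth.Agent.S19246
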