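import Groth.Statements.S19258
import Mathlib

set_option autoImplicit false
universe u
open PontDual

namespace Groth.Agent.S19258

theorem torsion_eq (N : ℕ) (hN : 0 < N) (y : AddCircle (1 : ℚ)) (hy : N • y = 0) :
    ∃ k : ℤ, y = k • (((1 : ℚ) / N : ℚ) : AddCircle (1 : ℚ)) := by
  have hN' : (N : ℚ) ≠ 0 := by exact_mod_cast hN.ne'
  obtain ⟨q, rfl⟩ := QuotientAddGroup.mk_surjective y
  have h1 : ((N • q : ℚ) : AddCircle (1 : ℚ)) = 0 := by
    rw [AddCircle.coe_nsmul]; exact hy
  rw [AddCircle.coe_eq_zero_iff] at h1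
  obtain ⟨n, hn⟩ := h1
  refine ⟨n, ?_⟩
  rw [← AddCircle.coe_zsmul]
  congr 1
  rw [zsmul_eq_mul, mul_one, nsmul_eq_mul] at hn
  rw [zsmul_eq_mul, hn, mul_comm (N : ℚ) q, mul_assoc, mul_one_div_cancel hN', mul_one]

theorem torsion_char (Ψ : AddCircle (1 : ℚ) →+ AddCircle (1 : ℚ)) (N : ℕ) (hN : 0 < N) :
    ∃ m : ℤ, ∀ y : AddCircle (1 : ℚ), N • y = 0 → Ψ y = m • y := by
  have hN' : (N : ℚ) ≠ 0 := by exact_mod_cast hN.ne'
  have hg : N • (((1 : ℚ) / N : ℚ) : AddCircle (1 : ℚ)) = 0 := by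
    rw [← AddCircle.coe_nsmul, nsmul_eq_mul, mul_one_div_cancel hN']
    exact AddCircle.coe_period (1 : ℚ)
  have h2 : N • Ψ (((1 : ℚ) / N : ℚ) : AddCircle (1 : ℚ)) = 0 := by
    rw [← map_nsmul, hg, map_zero]
  obtain ⟨m, hm⟩ := torsion_eq N hN _ h2
  refine ⟨m, fun y hy => ?_⟩
  obtain ⟨k, rfl⟩ := torsion_eq N hN y hy
  rw [map_zsmul, hm, smul_smul, smul_smul, mul_comm]

/-- restriction of a pairing to a subgroup -/
def restr {G G' : Type*} [AddCommGroup G] [AddCommGroup G']
    (β : G' →+ (G →+ AddCircle (1 : ℚ))) (K : AddSubgroup G) :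
    G' →+ (K →+ AddCircle (1 : ℚ)) where
  toFun f := (β f).comp K.subtype
  map_zero' := by ext x; simp
  map_add' a b := by ext x; simp

theorem exists_of_finset {G' : Type u} [AddCommGroup G'] (hG' : AddMonoid.IsTorsion G')
    (t : Finset G') :
    ∀ (G : Type u) [AddCommGroup G] (β : G' →+ (G →+ AddCircle (1 : ℚ)))
      (χ : G →+ AddCircle (1 : ℚ)),
      (∀ x, (∀ f ∈ t, β f x = 0) → χ x = 0) → ∃ f' : G', β f' = χ := by
  classical
  induction t using Finset.induction_on with
  | empty =>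
    intro G _ β χ h
    refine ⟨0, ?_⟩
    ext x
    rw [map_zero, AddMonoidHom.zero_apply, h x (by simp)]
  | insert f₀ s hf₀ ih =>
    intro G _ β χ h
    obtain ⟨K, hK⟩ : ∃ K : AddSubgroup G, K = (β f₀).ker := ⟨_, rfl⟩
    obtain ⟨f₁, hf₁⟩ := ih K (restr β K) (χ.comp K.subtype) (by
      intro x hx
      apply h
      intro f hf
      rcases Finset.mem_insert.mp hf with hf | hf
      · rw [hf]
        have hx2 : (x : G) ∈ (β f₀).ker := hK ▸ x.2
        exact AddMonoidHom.mem_ker.mp hx2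
      · exact hx f hf)
    have hK1 : ∀ x : G, x ∈ K → β f₁ x = χ x := fun x hx => DFunLike.congr_fun hf₁ ⟨x, hx⟩
    have hker : (β f₀).ker ≤ (χ - β f₁).ker := by
      intro x hx
      rw [AddMonoidHom.mem_ker, AddMonoidHom.sub_apply, hK1 x (by rw [hK]; exact hx), sub_self]
    obtain ⟨Ψ, hΨ⟩ := (Module.Baer.of_divisible (AddCircle (1 : ℚ))).extension_property_addMonoidHom
      (QuotientAddGroup.kerLift (β f₀)) (QuotientAddGroup.kerLift_injective (β f₀))
      (QuotientAddGroup.lift (β f₀).ker (χ - β f₁) hker)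
    have hΨx : ∀ x, Ψ (β f₀ x) = χ x - β f₁ x := by
      intro x
      have h3 := DFunLike.congr_fun hΨ (QuotientAddGroup.mk x)
      rw [AddMonoidHom.comp_apply, QuotientAddGroup.kerLift_mk, QuotientAddGroup.lift_mk] at h3
      exact h3
    have hNpos : 0 < addOrderOf f₀ := (hG' f₀).addOrderOf_pos
    obtain ⟨m, hm⟩ := torsion_char Ψ (addOrderOf f₀) hNpos
    have hNβ : ∀ x, addOrderOf f₀ • β f₀ x = 0 := by
      intro x
      have h4 : addOrderOf f₀ • (β.flip x) f₀ = 0 := by
        rw [← map_nsmul, addOrderOf_nsmul_eq_zero, map_zero]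
      exact h4
    refine ⟨f₁ + m • f₀, ?_⟩
    ext x
    have h5 : β (m • f₀) x = m • β f₀ x := map_zsmul (β.flip x) m f₀
    rw [map_add, AddMonoidHom.add_apply, h5, ← hm _ (hNβ x), hΨx x]
    abel

/-- Let G and G' be abelian groups such that every element of G' has finite order, and let β : G' →
Hom(G, ℚ/ℤ) be an injective homomorphism (equivalently a pairing G' × G → ℚ/ℤ with no left kernel).
Endow G with the weak topology defined by G': the coarsest topology for which every character β(f),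
f ∈ G', is continuous when ℚ/ℤ carries the discrete topology. Then every homomorphism χ : G → ℚ/ℤ
that is continuous for this topology on G and the discrete topology on ℚ/ℤ equals β(f) for some f ∈
G', so that β is a bijection from G' onto the group of continuous characters of G. -/
theorem result
    (G : Type u) (G' : Type u) [AddCommGroup G] [AddCommGroup G'] (hG' : IsAddTorsion G')
    (β : G' →+ (G →+ AddCircle (1 : ℚ))) (hβ : Function.Injective β)
    (χ : G →+ AddCircle (1 : ℚ))
    (hχ : @Continuous G (AddCircle (1 : ℚ)) (⨅ f' : G', TopologicalSpace.induced (fun x : G => β f' x) ⊥) ⊥ χ) :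
    ∃ f' : G', β f' = χ := by
  have hmem : χ ⁻¹' {0} ∈ @nhds G (⨅ f' : G', TopologicalSpace.induced (fun x : G => β f' x) ⊥) 0 := by
    letI : TopologicalSpace G := ⨅ f' : G', TopologicalSpace.induced (fun x : G => β f' x) ⊥
    letI : TopologicalSpace (AddCircle (1 : ℚ)) := ⊥
    haveI : DiscreteTopology (AddCircle (1 : ℚ)) := ⟨rfl⟩
    have hc : Continuous χ := hχ
    exact (hc.isOpen_preimage {0} (isOpen_discrete _)).mem_nhds (by simp)
  rw [nhds_iInf] at hmem
  have hn : @nhds (AddCircle (1 : ℚ)) ⊥ = pure := by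
    letI : TopologicalSpace (AddCircle (1 : ℚ)) := ⊥
    haveI : DiscreteTopology (AddCircle (1 : ℚ)) := ⟨rfl⟩
    exact nhds_discrete _
  simp only [nhds_induced, hn, Filter.comap_pure] at hmem
  obtain ⟨t, ht⟩ := (Filter.mem_iInf_finite _).mp hmem
  rw [Filter.iInf_principal_finset, Filter.mem_principal] at ht
  refine exists_of_finset hG' t G β χ (fun x hx => ?_)
  have hx' : x ∈ ⋂ i ∈ t, (fun x : G => β i x) ⁻¹' {β i 0} := by
    simp only [Set.mem_iInter, Set.mem_preimage, Set.mem_singleton_iff]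
    intro f hf
    rw [hx f hf, map_zero]
  simpa using ht hx'

end Groth.Agent.S19258
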