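import Groth.Statements.S19264
import Mathlib
import Groth.Agent.Lib.Helper15.UFDLoc

set_option autoImplicit false
universe u
open WittFil

namespace Groth.Agent.S19264

open Helper15.UFDLoc in
theorem key2 {A B : Type u} [CommRing A] [IsDomain A] [UniqueFactorizationMonoid A] [CommRing B]
    [Algebra A B] {r : ℕ} (x : Fin r → A) (hx : ∀ i, Prime (x i))
    (hxa : ∀ i j, Associated (x i) (x j) → i = j) [IsLocalization.Away (∏ i, x i) B]
    (p : ℕ) (ρ : Fin r → ℕ) (hρ : ∀ i, ρ i < p) (t : B) (c : A)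
    (ht : t ^ p * algebraMap A B (∏ i, x i ^ ρ i) = algebraMap A B c) :
    ∃ a : A, t = algebraMap A B a := by
  classical
  have hinj := algebraMap_injective (B := B) x hx
  apply mem_range_of_forall_dvd (B := B) x hx hxa t
  intro N a ha i
  have h1 : a ^ p * ∏ j, x j ^ ρ j = c * (∏ j, x j) ^ ((N + 1) * p) := by
    apply hinj
    have e1 : algebraMap A B (a ^ p * ∏ j, x j ^ ρ j) =
        (t * algebraMap A B (∏ j, x j) ^ (N + 1)) ^ p * algebraMap A B (∏ j, x j ^ ρ j) := by
      rw [ha, map_mul, map_pow]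
    have e2 : (t * algebraMap A B (∏ j, x j) ^ (N + 1)) ^ p * algebraMap A B (∏ j, x j ^ ρ j) =
        (t ^ p * algebraMap A B (∏ j, x j ^ ρ j)) * algebraMap A B (∏ j, x j) ^ ((N + 1) * p) := by
      rw [mul_pow, ← pow_mul]; ring
    rw [e1, e2, ht, map_mul, map_pow]
  by_contra hnd
  have hxip : x i ^ p ∣ a ^ p * ∏ j, x j ^ ρ j := by
    rw [h1]
    apply Dvd.dvd.mul_left
    rw [pow_mul']
    exact (pow_dvd_pow_of_dvd (Finset.dvd_prod_of_mem x (Finset.mem_univ i)) p).trans
      (dvd_pow_self _ (Nat.succ_ne_zero N))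
  have h2 : x i ^ p ∣ ∏ j, x j ^ ρ j :=
    (hx i).pow_dvd_of_dvd_mul_left p (fun h => hnd ((hx i).dvd_of_dvd_pow h)) hxip
  rw [← Finset.mul_prod_erase Finset.univ (fun j => x j ^ ρ j) (Finset.mem_univ i)] at h2
  have h3 : ¬ x i ∣ ∏ j ∈ Finset.univ.erase i, x j ^ ρ j := by
    intro hd
    obtain ⟨j, hj, hdj⟩ := ((hx i).dvd_finset_prod_iff _).mp hd
    have := hxa i j ((hx i).associated_of_dvd (hx j) ((hx i).dvd_of_dvd_pow hdj))
    exact (Finset.ne_of_mem_erase hj) this.symm
  have h4 : x i ^ p ∣ x i ^ ρ i := (hx i).pow_dvd_of_dvd_mul_right p h3 h2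
  have h5 := (pow_dvd_pow_iff (hx i).ne_zero (hx i).not_unit).mp h4
  have := hρ i
  omega

/-- Let A be a unique factorisation domain of characteristic p, x_1, …, x_r pairwise non-associate prime
elements of A, B = A[1/(x_1⋯x_r)] with u_i the unit of B defined by x_i, n ∈ ℤ^r and m ≥ 0. The
restriction map from truncated p-typical Witt vectors of length m+1 to those of length m over B
(forgetting the last coordinate) maps the filtered piece cut out by ∏ u_i ^ n_i onto the filtered
piece cut out by ∏ u_i ^ ⌊n_i / p⌋; that is, the image is exactly that piece. (The other parts of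
the exact sequence, injectivity of the (m-fold) Verschiebung from the fractional ideal generated by
(∏ u_i ^ n_i)⁻¹ and exactness in the middle, are immediate from the definition and are not restated.
The published setting is a regular local ring; only unique factorisation is used.) -/
theorem result (p : ℕ) [Fact p.Prime] {A B : Type u} [CommRing A] [IsDomain A]
    [UniqueFactorizationMonoid A] [CharP A p] [CommRing B] [Algebra A B] {r : ℕ} (x : Fin r → A)
    (hx : ∀ i, Prime (x i)) (hxa : ∀ i j, Associated (x i) (x j) → i = j)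
    [IsLocalization.Away (∏ i, x i) B] (u : Fin r → Bˣ)
    (hu : ∀ i, (u i : B) = algebraMap A B (x i)) (n : Fin r → ℤ) (m : ℕ) :
    (TruncatedWittVector.truncate (Nat.le_succ m)) '' WittFil.fil p (m + 1) (A := A) (WittFil.zmon u n) =
      WittFil.fil p m (A := A) (WittFil.zmon u (fun i => n i / (p : ℤ))) := by
  have hp := (Fact.out : p.Prime)
  have hp0 : (p : ℤ) ≠ 0 := by exact_mod_cast hp.ne_zero
  have hppos : (0 : ℤ) < p := by exact_mod_cast hp.pos
  obtain ⟨ρ, hρdef⟩ : ∃ ρ : Fin r → ℕ, ∀ i, ρ i = (n i % (p : ℤ)).toNat := ⟨_, fun _ => rfl⟩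
  have hρcast : ∀ i, (ρ i : ℤ) = n i % (p : ℤ) := fun i => by
    rw [hρdef]; exact Int.toNat_of_nonneg (Int.emod_nonneg _ hp0)
  have hρlt : ∀ i, ρ i < p := fun i => by
    have h1 := hρcast i
    have h2 := Int.emod_lt_of_pos (n i) hppos
    omega
  obtain ⟨w1, hw1⟩ : ∃ w : Bˣ, w = ∏ i, u i ^ n i := ⟨_, rfl⟩
  obtain ⟨w2, hw2⟩ : ∃ w : Bˣ, w = ∏ i, u i ^ (n i / (p : ℤ)) := ⟨_, rfl⟩
  have hzm1 : WittFil.zmon u n = (w1 : B) := by rw [hw1]; rfl
  have hzm2 : WittFil.zmon u (fun i => n i / (p : ℤ)) = (w2 : B) := by rw [hw2]; rfl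
  have hunits : w1 = w2 ^ p * ∏ i, u i ^ ρ i := by
    rw [hw1, hw2, ← Finset.prod_pow, ← Finset.prod_mul_distrib]
    refine Finset.prod_congr rfl fun i _ => ?_
    rw [← zpow_natCast (u i ^ (n i / (p : ℤ))) p, ← zpow_mul, ← zpow_natCast (u i) (ρ i),
      ← zpow_add, hρcast, mul_comm]
    exact congrArg (fun e : ℤ => u i ^ e) (Int.mul_ediv_add_emod (n i) p).symm
  obtain ⟨zm', hzm'⟩ : ∃ z : B, z = WittFil.zmon u (fun i => n i / (p : ℤ)) := ⟨_, rfl⟩
  have hz : WittFil.zmon u n = zm' ^ p * algebraMap A B (∏ i, x i ^ ρ i) := by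
    rw [hzm', hzm1, hzm2]
    have := congrArg (fun v : Bˣ => (v : B)) hunits
    simp only [Units.val_mul, Units.coe_prod, Units.val_pow_eq_pow_val, hu] at this
    rw [map_prod]; simp only [map_pow]
    exact this
  rw [← hzm']
  apply Set.Subset.antisymm
  · rintro _ ⟨a, ha, rfl⟩
    intro j
    rw [TruncatedWittVector.coeff_truncate]
    obtain ⟨c, hc⟩ := ha (Fin.castLE (Nat.le_succ m) j)
    have hexp : m + 1 - 1 - ((Fin.castLE (Nat.le_succ m) j : Fin (m + 1)) : ℕ)
        = (m - 1 - (j : ℕ)) + 1 := by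
      rw [Fin.val_castLE]; have := j.2; omega
    rw [hexp, pow_succ, pow_mul, hz] at hc
    obtain ⟨a', ha'⟩ := key2 x hx hxa p ρ hρlt
      ((TruncatedWittVector.coeff (Fin.castLE (Nat.le_succ m) j) a) ^ (p ^ (m - 1 - (j : ℕ))) * zm')
      c (by rw [mul_pow, mul_assoc]; exact hc.symm)
    exact ⟨a', ha'.symm⟩
  · intro y hy
    refine ⟨TruncatedWittVector.mk p (fun i : Fin (m + 1) =>
      if h : (i : ℕ) < m then TruncatedWittVector.coeff ⟨i, h⟩ y else 0), ?_, ?_⟩
    · intro i
      rw [TruncatedWittVector.coeff_mk]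
      by_cases h : (i : ℕ) < m
      · rw [dif_pos h]
        obtain ⟨c, hc⟩ := hy ⟨i, h⟩
        have hc' : algebraMap A B c =
            (TruncatedWittVector.coeff ⟨i, h⟩ y) ^ p ^ (m - 1 - (i : ℕ)) * zm' := hc
        have hexp : m + 1 - 1 - (i : ℕ) = (m - 1 - (i : ℕ)) + 1 := by omega
        refine ⟨c ^ p * ∏ j, x j ^ ρ j, ?_⟩
        rw [hexp, pow_succ, pow_mul, hz, map_mul, map_pow, hc', mul_pow, mul_assoc]
      · rw [dif_neg h]
        refine ⟨0, ?_⟩
        rw [map_zero, zero_pow (pow_ne_zero _ hp.ne_zero), zero_mul]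
    · refine TruncatedWittVector.ext fun j => ?_
      rw [TruncatedWittVector.coeff_truncate, TruncatedWittVector.coeff_mk]
      have hlt : ((Fin.castLE (Nat.le_succ m) j : Fin (m + 1)) : ℕ) < m := by
        rw [Fin.val_castLE]; exact j.2
      rw [dif_pos hlt]
      congr 1

end Groth.Agent.S19264
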