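import Groth.Statements.S1946
import Groth.Agent.Lib.Lead.C1Flat

set_option autoImplicit false
universe u
open CategoryTheory AlgebraicGeometry
open Cyc

namespace Groth.Agent.S1946


open Groth.Agent.Lib.Lead.C1Cap Groth.Agent.Lib.Lead.C1Pull Groth.Agent.Lib.Lead.C1Flat
  Groth.Agent.Lib.Helper3.PbBasic Groth.Agent.Lib.Helper3.InvGen Groth.Agent.Lib.Lead.CycPull
  Groth.Agent.S1940

/-- Intersecting with the first Chern class commutes with flat base change: in the base-change setting,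
take an invertible O_X-module L and write L' = p^*L for its pullback to X'. For a k-cycle α on X,
g^*(c_1(L) ∩ α) ∼_rat c_1(L') ∩ g^*α as (k + c − 1)-cycles on X', where the two caps are computed
with any nonzero rational sections of L on X and of L' on X'. The base-change setting, stated
without a base scheme: p : X' → X is flat (not necessarily of finite type), (X, δ) and (X', δ')
carry dimension functions, and δ'(x') = δ(p x') + c whenever x' is a generic point of an irreducible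
component of its fibre; g^* : Z_k(X) → Z_{k+c}(X') is the coefficientwise flat pullback Cyc.pullFun
p δ' δ c. Here L(ξ) = L_ξ/𝔪_ξ L_ξ is the space of rational sections of L on the closure of ξ,
div_{L|W}(s) and c_1(L) ∩ α are computed as coefficient functions from chosen nonzero rational
sections (Cyc.secDivFun, Cyc.c1CapFun), and results are compared up to rational equivalence for any
cycles with those coefficients. A pair (X, δ) with Cyc.IsSetup (X locally Noetherian with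
universally catenary local rings, δ a dimension function) plays the role of a scheme locally of
finite type over a base equipped with a dimension function. -/
theorem result (X X' : Scheme.{u}) (δ : X → ℤ) (δ' : X' → ℤ) (hX : Cyc.IsSetup X δ) (hX' : Cyc.IsSetup X' δ') (p : X' ⟶ X) [Flat p] (c : ℤ) (hc : ∀ x' : X', (∀ y, p y = p x' → y ⤳ x' → y = x') → δ' x' = δ (p x') + c) (L : X.Modules) (hL : PicF.IsInvertible L) (k : ℤ) (α : AlgebraicCycle X ℤ) (hα : α ∈ Cyc.Zk X δ k) (v : (ξ : X) → Cyc.secFibre L ξ) (hv : ∀ ξ, v ξ ≠ 0) (u : (ξ : X') → Cyc.secFibre ((Scheme.Modules.pullback p).obj L) ξ) (hu : ∀ ξ, u ξ ≠ 0) (γ₁ γ₂ : AlgebraicCycle X' ℤ) (h₁ : ⇑γ₁ = Cyc.pullFun p δ' δ c (Cyc.c1CapFun δ L ⇑α v)) (h₂ : ⇑γ₂ = Cyc.c1CapFun δ' ((Scheme.Modules.pullback p).obj L) (Cyc.pullFun p δ' δ c ⇑α) u) : Cyc.RatEquiv δ' (k + c - 1) γ₁ γ₂ := by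
  classical
  obtain ⟨hLNX, -, hdimX⟩ := hX
  obtain ⟨hLNX', -, hdimX'⟩ := hX'
  haveI := hLNX
  haveI := hLNX'
  have hLinv' := isInvertible_pullback p hL
  obtain ⟨α', hα'fun, hα'k⟩ := exists_cycle_pullFun p δ δ' hdimX' c hc k α hα
  choose u' hu' hord using fun ξ' : X' => exists_pull_section_gen p hL ξ' (v (p ξ')) (hv (p ξ'))
  have hα'k' : α' ∈ Cyc.Zk X' δ' (k + c - 1 + 1) := by rwa [sub_add_cancel]
  refine c1Cap_indep δ' _ hLinv' (k + c - 1) α' hα'k' u' u hu' hu γ₁ γ₂ ?_ (by rw [h₂, hα'fun])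
  funext x'
  have hL1 : γ₁ x' = Cyc.pullFun p δ' δ c (Cyc.c1CapFun δ L ⇑α v) x' := congrFun h₁ x'
  rw [hL1]
  show Cyc.pullFun p δ' δ c (Cyc.c1CapFun δ L ⇑α v) x' =
    ∑ᶠ ξ' : X', α' ξ' * Cyc.secDivFun δ' ((Scheme.Modules.pullback p).obj L) ξ' (u' ξ') x'
  obtain ⟨U, e, hxU, hg⟩ := exists_isGen hL (p x')
  have hcoord : ∀ ξ : X, ∃ φ : X.presheaf.stalk ξ, IsUnit φ ∧ ∀ hξU : ξ ∈ U,
      v ξ = Submodule.Quotient.mk (φ • L.presheaf.germ U ξ hξU e) := by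
    intro ξ
    by_cases hξU : ξ ∈ U
    · obtain ⟨φ, hφ, hvφ⟩ := exists_coord_unit hg ξ hξU (v ξ) (hv ξ)
      exact ⟨φ, hφ, fun _ => hvφ⟩
    · exact ⟨1, isUnit_one, fun h => absurd h hξU⟩
  choose φ hφu hφv using hcoord
  have hcongr : ∀ (y y' : X) (e : y = y'),
      (X.residueFieldCongr e).hom (X.residue y (φ y)) = X.residue y' (φ y') := by
    intro y y' e
    subst e
    rw [Scheme.residueFieldCongr_refl]
    rfl
  obtain ⟨ff, hffdef⟩ : ∃ ff : (i : {ξ : X // α ξ ≠ 0}) → X.residueField i.1,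
      ∀ i, ff i = (X.residue i.1 (φ i.1)) ^ (α i.1) := ⟨_, fun _ => rfl⟩
  have hδξ : ∀ i : {ξ : X // α ξ ≠ 0}, δ i.1 = k - 1 + 1 := by
    intro i
    rw [sub_add_cancel]
    by_contra hne
    exact i.2 (hα i.1 hne)
  have hff0 : ∀ i : {ξ : X // α ξ ≠ 0}, ff i ≠ 0 := by
    intro i
    rw [hffdef i]
    exact zpow_ne_zero _ ((hφu i.1).map (X.residue i.1).hom).ne_zero
  have hterm : ∀ ξ : X, α ξ * Cyc.secDivFun δ L ξ (v ξ) (p x') =
      Cyc.divFun δ ξ ((X.residue ξ (φ ξ)) ^ (α ξ)) (p x') := by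
    intro ξ
    rw [divFun_zpow]
    congr 1
    unfold Cyc.secDivFun Cyc.divFun
    split_ifs with hcnd
    · have hξU : ξ ∈ U := hcnd.1.mem_open U.2 hxU
      rw [hφv ξ hξU]
      exact secOrdAt_eq hg hcnd.1 hxU (φ ξ) (hφu ξ)
    · rfl
  have ha : Cyc.c1CapFun δ L ⇑α v (p x') = ∑ᶠ i : {ξ : X // α ξ ≠ 0}, Cyc.divFun δ i.1 (ff i) (p x') := by
    show (∑ᶠ ξ : X, α ξ * Cyc.secDivFun δ L ξ (v ξ) (p x')) = _
    have h1 : ∀ i : {ξ : X // α ξ ≠ 0}, Cyc.divFun δ i.1 (ff i) (p x') =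
        (fun ξ : X => α ξ * Cyc.secDivFun δ L ξ (v ξ) (p x')) i.1 := by
      intro i
      rw [hffdef i]
      exact (hterm i.1).symm
    rw [finsum_congr h1,
      finsum_subtype_eq_finsum_cond (f := fun ξ : X => α ξ * Cyc.secDivFun δ L ξ (v ξ) (p x'))
        (fun ξ => α ξ ≠ 0)]
    refine finsum_congr (fun ξ => ?_)
    rw [finsum_eq_if]
    split_ifs with h0
    · rfl
    · have h0' : α ξ = 0 := not_not.mp h0
      rw [h0', zero_mul]
  have ha0 : δ (p x') ≠ k - 1 → Cyc.c1CapFun δ L ⇑α v (p x') = 0 := by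
    intro hk
    show (∑ᶠ ξ : X, α ξ * Cyc.secDivFun δ L ξ (v ξ) (p x')) = 0
    apply finsum_eq_zero_of_forall_eq_zero
    intro ξ
    by_cases h0 : α ξ = 0
    · rw [h0, zero_mul]
    · have hδ : δ ξ = k := by
        by_contra hne
        exact h0 (hα ξ hne)
      have h2 : Cyc.secDivFun δ L ξ (v ξ) (p x') = 0 := by
        unfold Cyc.secDivFun
        rw [dif_neg]
        rintro ⟨-, h3⟩
        apply hk
        omega
      rw [h2, mul_zero]
  have hpt := pull_point_formula δ δ' hdimX hdimX' p c hc (k - 1) (Subtype.val : {ξ : X // α ξ ≠ 0} → X) ff hδξ hff0 x'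
    (Cyc.c1CapFun δ L ⇑α v (p x')) (fun _ => ha) ha0
  have hLHS : Cyc.pullFun p δ' δ c (Cyc.c1CapFun δ L ⇑α v) x' =
      (if δ' x' = δ (p x') + c then Cyc.c1CapFun δ L ⇑α v (p x') * mult p x' else 0) := rfl
  have he : Function.Injective (fun j : (Σ i : {ξ : X // α ξ ≠ 0}, SIdx p (Subtype.val : {ξ : X // α ξ ≠ 0} → X) i) => j.2.1) := by
    rintro ⟨i, a⟩ ⟨i', a'⟩ h
    have h' : a.1 = a'.1 := h
    have h1 : p a.1 = i.1 := a.2.1
    have h2 : p a'.1 = i'.1 := a'.2.1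
    have hi : i = i' := Subtype.ext (by rw [← h1, ← h2, h'])
    subst hi
    have haa : a = a' := Subtype.ext h'
    rw [haa]
  have claimA : ∀ j : (Σ i : {ξ : X // α ξ ≠ 0}, SIdx p (Subtype.val : {ξ : X // α ξ ≠ 0} → X) i),
      α' j.2.1 * Cyc.secDivFun δ' ((Scheme.Modules.pullback p).obj L) j.2.1 (u' j.2.1) x' =
        Cyc.divFun δ' j.2.1 (pfn p (Subtype.val : {ξ : X // α ξ ≠ 0} → X) ff j) x' := by
    rintro ⟨i, s⟩
    have hps : p s.1 = i.1 := s.2.1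
    have hgen_s : ∀ y, p y = p s.1 → y ⤳ s.1 → y = s.1 := s.2.2
    have hδs : δ' s.1 = δ (p s.1) + c := hc s.1 hgen_s
    have hαs : α' s.1 = α (p s.1) * mult p s.1 := by
      rw [congrFun hα'fun s.1]
      exact if_pos hδs
    show α' s.1 * Cyc.secDivFun δ' ((Scheme.Modules.pullback p).obj L) s.1 (u' s.1) x' =
      Cyc.divFun δ' s.1 (pfn p (Subtype.val : {ξ : X // α ξ ≠ 0} → X) ff ⟨i, s⟩) x'
    by_cases hcnd : s.1 ⤳ x' ∧ δ' x' + 1 = δ' s.1
    · have hpos := divFun_pfn_pos p (Subtype.val : {ξ : X // α ξ ≠ 0} → X) ff δ' ⟨i, s⟩ x' hcnd.1 hcnd.2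
      have hsec : Cyc.secDivFun δ' ((Scheme.Modules.pullback p).obj L) s.1 (u' s.1) x' =
          Cyc.secOrdAt ((Scheme.Modules.pullback p).obj L) s.1 x' hcnd.1 (u' s.1) := dif_pos hcnd
      have hξU : p s.1 ∈ U := (p.base.hom.map_specializes hcnd.1).mem_open U.2 hxU
      have hpb : pbase p (Subtype.val : {ξ : X // α ξ ≠ 0} → X) ff ⟨i, s⟩ =
          ((p.residueFieldMap s.1).hom (X.residue (p s.1) (φ (p s.1)))) ^ (α i.1) := by
        show (p.residueFieldMap s.1).hom ((X.residueFieldCongr hps.symm).hom (ff i)) = _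
        rw [hffdef i, map_zpow₀, map_zpow₀, hcongr i.1 (p s.1) hps.symm]
      have hαeq : α (p s.1) = α i.1 := congrArg (fun y => α y) hps
      have hm : mult p s.1 = (multN p s.1 : ℤ) := rfl
      refine Eq.trans ?_ hpos.symm
      rw [hsec, hord s.1 x' hcnd.1 U e hg hxU hξU (φ (p s.1)) (hφv (p s.1) hξU), hαs, hpb,
        ordAt_zpow, hαeq, hm]
      ring
    · have hneg := divFun_pfn_neg p (Subtype.val : {ξ : X // α ξ ≠ 0} → X) ff δ' ⟨i, s⟩ x' hcnd
      have hsec : Cyc.secDivFun δ' ((Scheme.Modules.pullback p).obj L) s.1 (u' s.1) x' = 0 := dif_neg hcnd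
      rw [hsec, mul_zero]
      exact hneg.symm
  have h2 : ∀ ξ' : X', ξ' ∉ Set.range (fun j : (Σ i : {ξ : X // α ξ ≠ 0}, SIdx p (Subtype.val : {ξ : X // α ξ ≠ 0} → X) i) => j.2.1) →
      α' ξ' * Cyc.secDivFun δ' ((Scheme.Modules.pullback p).obj L) ξ' (u' ξ') x' = 0 := by
    intro ξ' hξ'
    by_contra hne
    apply hξ'
    have h0 : α' ξ' ≠ 0 := fun h0 => hne (by rw [h0, zero_mul])
    rw [congrFun hα'fun ξ'] at h0
    obtain ⟨h1, hgen'⟩ := pullFun_ne_zero p δ δ' hdimX' c hc ⇑α ξ' h0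
    exact ⟨⟨⟨p ξ', h1⟩, ⟨ξ', rfl, hgen'⟩⟩, rfl⟩
  have hTfin : (Function.support (fun j : (Σ i : {ξ : X // α ξ ≠ 0}, SIdx p (Subtype.val : {ξ : X // α ξ ≠ 0} → X) i) =>
      Cyc.divFun δ' j.2.1 (pfn p (Subtype.val : {ξ : X // α ξ ≠ 0} → X) ff j) x')).Finite := by
    refine ((c1_support_finite δ' ((Scheme.Modules.pullback p).obj L) α' u' x').preimage he.injOn).subset ?_
    intro j hj
    show α' j.2.1 * Cyc.secDivFun δ' ((Scheme.Modules.pullback p).obj L) j.2.1 (u' j.2.1) x' ≠ 0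
    rw [claimA j]
    exact hj
  have e1 : (∑ᶠ i : {ξ : X // α ξ ≠ 0}, ∑ᶠ s : SIdx p (Subtype.val : {ξ : X // α ξ ≠ 0} → X) i, Cyc.divFun δ' s.1 (pfn p (Subtype.val : {ξ : X // α ξ ≠ 0} → X) ff ⟨i, s⟩) x') =
      ∑ᶠ j : (Σ i : {ξ : X // α ξ ≠ 0}, SIdx p (Subtype.val : {ξ : X // α ξ ≠ 0} → X) i), Cyc.divFun δ' j.2.1 (pfn p (Subtype.val : {ξ : X // α ξ ≠ 0} → X) ff j) x' :=
    (finsum_sigma' (fun j : (Σ i : {ξ : X // α ξ ≠ 0}, SIdx p (Subtype.val : {ξ : X // α ξ ≠ 0} → X) i) =>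
      Cyc.divFun δ' j.2.1 (pfn p (Subtype.val : {ξ : X // α ξ ≠ 0} → X) ff j) x') hTfin).symm
  have e2 : (∑ᶠ ξ' : X', α' ξ' * Cyc.secDivFun δ' ((Scheme.Modules.pullback p).obj L) ξ' (u' ξ') x') =
      ∑ᶠ j : (Σ i : {ξ : X // α ξ ≠ 0}, SIdx p (Subtype.val : {ξ : X // α ξ ≠ 0} → X) i), Cyc.divFun δ' j.2.1 (pfn p (Subtype.val : {ξ : X // α ξ ≠ 0} → X) ff j) x' :=
    finsum_eq_of_injective_of_support (fun j : (Σ i : {ξ : X // α ξ ≠ 0}, SIdx p (Subtype.val : {ξ : X // α ξ ≠ 0} → X) i) => j.2.1) he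
      (fun ξ' : X' => α' ξ' * Cyc.secDivFun δ' ((Scheme.Modules.pullback p).obj L) ξ' (u' ξ') x') _ claimA h2
  exact hLHS.trans (hpt.trans (e1.trans e2.symm))

end Groth.Agent.S1946
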