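import Groth.Statements.S19272
import Mathlib
import Groth.Agent.Lib.Helper15.UFDLoc

set_option autoImplicit false
universe u
open WittFil

namespace Groth.Agent.S19272

open Helper15.UFDLoc in
theorem key {A B : Type u} [CommRing A] [IsDomain A] [UniqueFactorizationMonoid A] [CommRing B]
    [Algebra A B] {r : ℕ} (x : Fin r → A) (hx : ∀ i, Prime (x i))
    (hxa : ∀ i j, Associated (x i) (x j) → i = j) [IsLocalization.Away (∏ i, x i) B]
    (e : ℕ) (y : B) (c : A) (hc : ∀ i, x i ∣ c) (hy : y ^ e = algebraMap A B c) :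
    ∃ b : A, y = algebraMap A B ((∏ i, x i) * b) := by
  have hinj := algebraMap_injective (B := B) x hx
  obtain ⟨a, rfl⟩ := mem_range_of_forall_dvd (B := B) x hx hxa y (by
    intro N a ha i
    have h1 : a ^ e = c * (∏ i, x i) ^ ((N + 1) * e) := by
      apply hinj
      rw [map_pow, ← ha, mul_pow, hy, map_mul, map_pow, ← pow_mul]
    exact (hx i).dvd_of_dvd_pow (h1 ▸ Dvd.dvd.mul_right (hc i) _))
  have h2 : a ^ e = c := by
    apply hinj
    rw [map_pow, hy]
  obtain ⟨b, rfl⟩ := prod_dvd x hx hxa a (fun i => (hx i).dvd_of_dvd_pow (h2 ▸ hc i))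
  exact ⟨b, rfl⟩

/-- Let A be a unique factorisation domain of characteristic p, x_1, …, x_r pairwise non-associate prime
elements of A, B = A[1/(x_1⋯x_r)] with u_i the unit of B defined by x_i, m ≥ 0, and n ∈ ℤ^r with n_i
< 0 for every i. Then every truncated p-typical Witt vector of length m over B lying in the filtered
piece cut out by ∏ u_i ^ n_i (every coordinate y_j has y_j ^ (p ^ (m−1−j)) · ∏ u_i ^ n_i in the
image of A) has all its coordinates in the image of the ideal (x_1⋯x_r)·A. (The published item,
stated for the filtered de Rham–Witt pieces in all degrees over a regular local ring, says only that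
such vectors have all coordinates in A; this row states the divisibility of every coordinate by
x_1⋯x_r that its proof establishes, in degree zero, for a unique factorisation domain in place of a
regular local ring.) -/
theorem result (p : ℕ) [Fact p.Prime] {A B : Type u} [CommRing A] [IsDomain A]
    [UniqueFactorizationMonoid A] [CharP A p] [CommRing B] [Algebra A B] {r : ℕ} (x : Fin r → A)
    (hx : ∀ i, Prime (x i)) (hxa : ∀ i j, Associated (x i) (x j) → i = j)
    [IsLocalization.Away (∏ i, x i) B] (u : Fin r → Bˣ)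
    (hu : ∀ i, (u i : B) = algebraMap A B (x i)) (m : ℕ) (n : Fin r → ℤ) (hn : ∀ i, n i < 0)
    (a : TruncatedWittVector p m B) (ha : a ∈ WittFil.fil p m (A := A) (WittFil.zmon u n))
    (j : Fin m) :
    ∃ b : A, TruncatedWittVector.coeff j a = algebraMap A B ((∏ i, x i) * b) := by
  obtain ⟨c0, hc0⟩ := ha j
  have hk : ∀ i, ((-(n i)).toNat : ℤ) = -(n i) := fun i =>
    Int.toNat_of_nonneg (by have := hn i; omega)
  have hkpos : ∀ i, 0 < (-(n i)).toNat := fun i => by have := hn i; omega
  obtain ⟨w, hw⟩ : ∃ w : Bˣ, w = ∏ i, u i ^ n i := ⟨_, rfl⟩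
  have hzm : WittFil.zmon u n = (w : B) := by rw [hw]; rfl
  have hunits : w * (∏ i, u i ^ (-(n i)).toNat : Bˣ) = 1 := by
    rw [hw, ← Finset.prod_mul_distrib]
    apply Finset.prod_eq_one
    intro i _
    rw [← zpow_natCast, hk, ← zpow_add, add_neg_cancel, zpow_zero]
  have hz : WittFil.zmon u n * algebraMap A B (∏ i, x i ^ (-(n i)).toNat) = 1 := by
    have := congrArg (fun v : Bˣ => (v : B)) hunits
    simp only [Units.val_mul, Units.val_one, Units.coe_prod, Units.val_pow_eq_pow_val, hu] at this
    rw [map_prod, hzm]; simp only [map_pow]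
    exact this
  refine key x hx hxa (p ^ (m - 1 - (j : ℕ))) _ (c0 * ∏ i, x i ^ (-(n i)).toNat) ?_ ?_
  · intro i
    exact Dvd.dvd.mul_left ((dvd_pow_self (x i) (hkpos i).ne').trans
      (Finset.dvd_prod_of_mem (fun i => x i ^ (-(n i)).toNat) (Finset.mem_univ i))) _
  · rw [map_mul, hc0, mul_assoc, hz, mul_one]

end Groth.Agent.S19272
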