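import Groth.Statements.S19273
import Mathlib

set_option autoImplicit false
universe u
open CAlg

namespace Groth.Agent.S19273


namespace H19273
open KaehlerDifferential

theorem main {A B : Type u} [CommRing A] [IsDomain A] [CommRing B] [Algebra A B] {r N : ℕ}
    (hr : r ≤ N) (x : Fin N → A) [IsLocalization.Away (∏ i : Fin r, x (Fin.castLE hr i)) B]
    (u : Fin r → Bˣ) (hu : ∀ i, (u i : B) = algebraMap A B (x (Fin.castLE hr i)))
    {ι : Type u} (b : Module.Basis (Fin N ⊕ ι) A (Ω[A⁄ℤ])) (hb : ∀ i, b (Sum.inl i) = D ℤ A (x i)) :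
    ∃ e : Module.Basis (Fin N ⊕ ι) A
        (W4c6katofilta.logForms1 (fun i : Fin r => x (Fin.castLE hr i)) u),
      (∀ i : Fin r, (e (Sum.inl (Fin.castLE hr i)) : Ω[B⁄ℤ]) =
          ((u i)⁻¹ : Bˣ) • KaehlerDifferential.map ℤ ℤ A B (D ℤ A (x (Fin.castLE hr i)))) ∧
      (∀ i : Fin N, r ≤ (i : ℕ) →
          (e (Sum.inl i) : Ω[B⁄ℤ]) = KaehlerDifferential.map ℤ ℤ A B (D ℤ A (x i))) ∧
      (∀ k : ι, (e (Sum.inr k) : Ω[B⁄ℤ]) = KaehlerDifferential.map ℤ ℤ A B (b (Sum.inr k))) := by
  classical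
  obtain ⟨P, hP⟩ : ∃ P : A, P = ∏ i : Fin r, x (Fin.castLE hr i) := ⟨_, rfl⟩
  haveI hloc : IsLocalization (Submonoid.powers P) B := by rw [hP]; infer_instance
  have hx0 : ∀ i, x i ≠ 0 := by
    intro i h
    have := b.ne_zero (Sum.inl i)
    rw [hb, h, map_zero] at this
    exact this rfl
  have hP0 : P ≠ 0 := by rw [hP]; exact Finset.prod_ne_zero_iff.2 (fun i _ => hx0 _)
  have hinj : Function.Injective (algebraMap A B) :=
    IsLocalization.injective B (powers_le_nonZeroDivisors_of_noZeroDivisors hP0)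
  obtain ⟨f, hf⟩ : ∃ f : Ω[A⁄ℤ] →ₗ[A] Ω[B⁄ℤ], f = KaehlerDifferential.map ℤ ℤ A B := ⟨_, rfl⟩
  haveI : IsLocalizedModule (Submonoid.powers P) f := by
    rw [hf]; infer_instance
  obtain ⟨bB, hbB⟩ : ∃ bB : Module.Basis (Fin N ⊕ ι) B (Ω[B⁄ℤ]), ∀ j, bB j = f (b j) :=
    ⟨b.ofIsLocalizedModule B (Submonoid.powers P) f,
      fun j => Module.Basis.ofIsLocalizedModule_apply B (Submonoid.powers P) f b j⟩
  obtain ⟨c, hc⟩ : ∃ c : Fin N ⊕ ι → Bˣ, c = fun j => Sum.elim
      (fun i : Fin N => if h : (i : ℕ) < r then (u ⟨i, h⟩)⁻¹ else 1) (fun _ => 1) j := ⟨_, rfl⟩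
  obtain ⟨w, hw⟩ : ∃ w : Fin N ⊕ ι → Ω[B⁄ℤ], w = c • ⇑bB := ⟨_, rfl⟩
  have hwli : LinearIndependent A w := by
    have h1 : LinearIndependent B w := by rw [hw]; exact bB.linearIndependent.units_smul c
    refine h1.restrict_scalars ?_
    intro a a' h
    apply hinj
    rw [Algebra.algebraMap_eq_smul_one, Algebra.algebraMap_eq_smul_one]
    exact h
  have hw_lt : ∀ (i : Fin N) (h : (i : ℕ) < r),
      w (Sum.inl i) = ((u ⟨i, h⟩)⁻¹ : Bˣ) • f (D ℤ A (x i)) := by
    intro i h
    rw [hw, hc, Pi.smul_apply']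
    simp only [Sum.elim_inl, dif_pos h]
    rw [hbB, hb]
  have hw_ge : ∀ (i : Fin N), ¬ (i : ℕ) < r → w (Sum.inl i) = f (D ℤ A (x i)) := by
    intro i h
    rw [hw, hc, Pi.smul_apply']
    simp only [Sum.elim_inl, dif_neg h, one_smul]
    rw [hbB, hb]
  have hw_inr : ∀ k, w (Sum.inr k) = f (b (Sum.inr k)) := by
    intro k
    rw [hw, hc, Pi.smul_apply']
    simp only [Sum.elim_inr, one_smul]
    rw [hbB]
  have hwW : ∀ j, w j ∈ W4c6katofilta.logForms1 (fun i : Fin r => x (Fin.castLE hr i)) u := by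
    intro j
    rcases j with i | k
    · by_cases h : (i : ℕ) < r
      · rw [hw_lt i h]
        exact Submodule.subset_span (Or.inr ⟨⟨i, h⟩, by rw [hf]; rfl⟩)
      · rw [hw_ge i h]
        exact Submodule.subset_span (Or.inl ⟨_, by rw [hf]⟩)
    · rw [hw_inr]
      exact Submodule.subset_span (Or.inl ⟨_, by rw [hf]⟩)
  have hfb : ∀ j, f (b j) ∈ Submodule.span A (Set.range w) := by
    intro j
    rcases j with i | k
    · by_cases h : (i : ℕ) < r
      · have h1 : f (b (Sum.inl i)) = x i • w (Sum.inl i) := by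
          rw [hw_lt i h, hb, Units.smul_def, ← algebraMap_smul B (x i), smul_smul]
          have h2 : algebraMap A B (x i) = (u ⟨i, h⟩ : B) := (hu ⟨i, h⟩).symm
          rw [h2, Units.mul_inv, one_smul]
        rw [h1]
        exact Submodule.smul_mem _ _ (Submodule.subset_span (Set.mem_range_self _))
      · rw [hb, ← hw_ge i h]
        exact Submodule.subset_span (Set.mem_range_self _)
    · rw [← hw_inr]
      exact Submodule.subset_span (Set.mem_range_self _)
  have hspan : Submodule.span A (Set.range w) =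
      W4c6katofilta.logForms1 (fun i : Fin r => x (Fin.castLE hr i)) u := by
    apply le_antisymm
    · rw [Submodule.span_le]
      rintro _ ⟨j, rfl⟩
      exact hwW j
    · unfold W4c6katofilta.logForms1
      rw [Submodule.span_le]
      rintro y (⟨ω, rfl⟩ | ⟨i', rfl⟩)
      · have h1 : ω ∈ Submodule.span A (Set.range b) := by rw [b.span_eq]; exact Submodule.mem_top
        have h2 : (Submodule.span A (Set.range b)).map f ≤ Submodule.span A (Set.range w) := by
          rw [Submodule.map_span_le]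
          rintro _ ⟨j, rfl⟩
          exact hfb j
        rw [← hf]
        exact h2 (Submodule.mem_map_of_mem h1)
      · have h1 := hw_lt (Fin.castLE hr i') i'.2
        rw [hf] at h1
        change ((u i')⁻¹ : Bˣ) • KaehlerDifferential.map ℤ ℤ A B (D ℤ A (x (Fin.castLE hr i')))
          ∈ _
        have h2 : ((u i')⁻¹ : Bˣ) • KaehlerDifferential.map ℤ ℤ A B (D ℤ A (x (Fin.castLE hr i')))
            = w (Sum.inl (Fin.castLE hr i')) := h1.symm
        rw [h2]
        exact Submodule.subset_span (Set.mem_range_self _)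
  obtain ⟨e, he⟩ : ∃ e : Module.Basis (Fin N ⊕ ι) A
      (W4c6katofilta.logForms1 (fun i : Fin r => x (Fin.castLE hr i)) u),
      ∀ j, (e j : Ω[B⁄ℤ]) = w j := by
    refine ⟨(Module.Basis.span hwli).map (LinearEquiv.ofEq _ _ hspan), fun j => ?_⟩
    rw [Module.Basis.map_apply, LinearEquiv.coe_ofEq_apply, Module.Basis.span_apply]
  refine ⟨e, fun i => ?_, fun i hi => ?_, fun k => ?_⟩
  · rw [he, hw_lt (Fin.castLE hr i) i.2, hf]
    rfl
  · rw [he, hw_ge i (not_lt.2 hi), hf]
  · rw [he, hw_inr, hf]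

end H19273

open KaehlerDifferential in
/-- Let A be an integral domain of prime characteristic p, x_1, …, x_N elements of A, r ≤ N, B =
A[1/(x_1⋯x_r)] with u_i the unit of B defined by x_i for i ≤ r, and suppose that the module Ω_A of
absolute Kähler differentials of A is free with a basis b indexed by {1, …, N} ⊔ ι whose i-th vector
is d(x_i) for i ≤ N. Then the module of logarithmic 1-forms — the A-submodule of Ω_B spanned by the
image of Ω_A and the forms u_i⁻¹ · d(x_i), i ≤ r — is a free A-module: it has a basis indexed by {1,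
…, N} ⊔ ι whose vector at i ≤ r is u_i⁻¹ · d(x_i), at r < i ≤ N is d(x_i), and at k ∈ ι is the image
of b_k. (In the published statement A is a regular local F-finite algebra over the prime field with
maximal ideal (x_1, …, x_N), the basis of Ω_A comes from the preceding lemma, and the assertion
covers the logarithmic q-forms for all q together with their identification with the log de Rham
complex of the log ring; only the degree-one freeness is stated here, from the properties of A
actually used.) -/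
theorem result (p : ℕ) [Fact p.Prime]
    {A B : Type u} [CommRing A] [IsDomain A] [CharP A p] [CommRing B] [Algebra A B] {r N : ℕ}
    (hr : r ≤ N) (x : Fin N → A) [IsLocalization.Away (∏ i : Fin r, x (Fin.castLE hr i)) B]
    (u : Fin r → Bˣ) (hu : ∀ i, (u i : B) = algebraMap A B (x (Fin.castLE hr i)))
    {ι : Type u} (b : Module.Basis (Fin N ⊕ ι) A (Ω[A⁄ℤ])) (hb : ∀ i, b (Sum.inl i) = D ℤ A (x i)) :
    ∃ e : Module.Basis (Fin N ⊕ ι) A
        (W4c6katofilta.logForms1 (fun i : Fin r => x (Fin.castLE hr i)) u),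
      (∀ i : Fin r, (e (Sum.inl (Fin.castLE hr i)) : Ω[B⁄ℤ]) =
          ((u i)⁻¹ : Bˣ) • KaehlerDifferential.map ℤ ℤ A B (D ℤ A (x (Fin.castLE hr i)))) ∧
      (∀ i : Fin N, r ≤ (i : ℕ) →
          (e (Sum.inl i) : Ω[B⁄ℤ]) = KaehlerDifferential.map ℤ ℤ A B (D ℤ A (x i))) ∧
      (∀ k : ι, (e (Sum.inr k) : Ω[B⁄ℤ]) = KaehlerDifferential.map ℤ ℤ A B (b (Sum.inr k))) := by
  exact H19273.main hr x u hu b hb

end Groth.Agent.S19273
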