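import Groth.Statements.S19274
import Mathlib

set_option autoImplicit false
universe u
open WittFil

namespace Groth.Agent.S19274

theorem key3 {A B : Type u} [CommRing A] [IsDomain A] [UniqueFactorizationMonoid A] [CommRing B]
    [Algebra A B] (x : A) (hx : Prime x) [IsLocalization.Away x B] (u : Bˣ)
    (hu : (u : B) = algebraMap A B x) (e : ℕ) (he : 0 < e) (n : ℤ) (hn : ¬ ((e : ℤ) ∣ n))
    (z : B) (c : A) (hz : z ^ e * ((u ^ n : Bˣ) : B) = algebraMap A B c) :
    ∃ c' : A, z ^ e * ((u ^ (n - 1) : Bˣ) : B) = algebraMap A B c' := by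
  have hinj : Function.Injective (algebraMap A B) :=
    IsLocalization.injective B (powers_le_nonZeroDivisors_of_noZeroDivisors hx.ne_zero)
  have hupow : ∀ j : ℕ, ((u ^ j : Bˣ) : B) = algebraMap A B (x ^ j) := by
    intro j; rw [Units.val_pow_eq_pow_val, hu, map_pow]
  by_cases hz0 : z = 0
  · exact ⟨0, by rw [hz0, zero_pow he.ne', zero_mul, map_zero]⟩
  obtain ⟨⟨a'', ⟨_, N, rfl⟩⟩, h⟩ := IsLocalization.surj (Submonoid.powers x) z
  simp only at h
  rw [← hupow] at h
  have ha''0 : a'' ≠ 0 := by
    rintro rfl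
    rw [map_zero] at h
    exact hz0 ((Units.mul_left_eq_zero _).mp h)
  obtain ⟨s, a', hnd, rfl⟩ := WfDvdMonoid.max_power_factor ha''0 hx.irreducible
  rw [map_mul, ← hupow] at h
  obtain ⟨k, hk⟩ : ∃ k : ℤ, k = (s : ℤ) - (N : ℤ) := ⟨_, rfl⟩
  have hzk : z = algebraMap A B a' * ((u ^ k : Bˣ) : B) := by
    have h1 : z = ((u ^ s : Bˣ) : B) * algebraMap A B a' * ((u ^ N : Bˣ)⁻¹ : Bˣ) :=
      (Units.eq_mul_inv_iff_mul_eq (u ^ N)).mpr h
    rw [h1, hk, zpow_sub, zpow_natCast, zpow_natCast, Units.val_mul]
    ring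
  have hgen : ∀ j : ℤ, z ^ e * ((u ^ j : Bˣ) : B)
      = algebraMap A B (a' ^ e) * ((u ^ (k * e + j) : Bˣ) : B) := by
    intro j
    rw [hzk, mul_pow, map_pow, mul_assoc, ← Units.val_pow_eq_pow_val, ← Units.val_mul,
      ← zpow_natCast (u ^ k) e, ← zpow_mul, ← zpow_add]
  obtain ⟨q, hq⟩ : ∃ q : ℤ, q = k * e + n := ⟨_, rfl⟩
  rcases le_or_gt q 0 with hq0 | hq1
  · exfalso
    have h1 : algebraMap A B (a' ^ e) = algebraMap A B (c * x ^ (-q).toNat) := by
      rw [map_mul, ← hupow, ← hz, hgen n, ← hq, mul_assoc, ← Units.val_mul, ← zpow_natCast,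
        ← zpow_add, Int.toNat_of_nonneg (by omega), add_neg_cancel, zpow_zero, Units.val_one,
        mul_one]
    have h2 := hinj h1
    by_cases hq00 : q = 0
    · apply hn
      exact Dvd.intro (-k) (by linarith)
    · have hpos : 0 < (-q).toNat := by omega
      apply hnd
      apply hx.dvd_of_dvd_pow (n := e)
      rw [h2]
      exact Dvd.dvd.mul_left (dvd_pow_self x hpos.ne') _
  · refine ⟨a' ^ e * x ^ (q - 1).toNat, ?_⟩
    have hexp : k * (e : ℤ) + (n - 1) = q - 1 := by rw [hq]; ring
    rw [hgen (n - 1), hexp, map_mul, ← hupow, ← zpow_natCast, Int.toNat_of_nonneg (by omega)]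

/-- Let A be a unique factorisation domain of characteristic p, x a prime element of A, B = A[1/x] with
u the unit of B defined by x, m ≥ 1, and n an integer NOT divisible by p^m. For e in B and k ≥ 0
write fil_k(e) for the set of truncated p-typical Witt vectors of length k over B whose j-th
coordinate y_j satisfies y_j ^ (p ^ (k−1−j)) · e ∈ A for all j < k (the filtered piece; fil_k(u^n)
is the piece of index n). Then fil_{m+1}(u^n) is contained in fil_{m+1}(u^(n−1)) + V(fil_m(u^n))
(the reverse inclusion is immediate): every a in fil_{m+1}(u^n) can be written a = b + V(y) with b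
in fil_{m+1}(u^(n−1)) and y a Witt vector over B whose length-m truncation lies in fil_m(u^n), V(y)
being truncated to length m+1. (In the source A is a henselian discrete valuation ring, n = p^r·l >
1 with p not dividing l, and the condition reads m ≥ r + 1.) -/
theorem result (p : ℕ) [Fact p.Prime]
    {A B : Type u} [CommRing A] [IsDomain A] [UniqueFactorizationMonoid A] [CharP A p]
    [CommRing B] [Algebra A B] (x : A) (hx : Prime x) [IsLocalization.Away x B] (u : Bˣ)
    (hu : (u : B) = algebraMap A B x) (m : ℕ) (hm : 0 < m) (n : ℤ) (hn : ¬ ((p : ℤ) ^ m ∣ n)) :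
    ∀ a ∈ WittFil.fil p (m + 1) (A := A) ((u ^ n : Bˣ) : B),
      ∃ b ∈ WittFil.fil p (m + 1) (A := A) ((u ^ (n - 1) : Bˣ) : B),
        ∃ y : WittVector p B,
          WittVector.truncate m y ∈ WittFil.fil p m (A := A) ((u ^ n : Bˣ) : B) ∧
            a = b + WittVector.truncate (m + 1) (WittVector.verschiebung y) := by
  intro a ha
  have hp := (Fact.out : p.Prime)
  obtain ⟨ã, hã⟩ : ∃ ã : WittVector p B, ã = a.out := ⟨_, rfl⟩
  have hãa : WittVector.truncate (m + 1) ã = a := by
    rw [hã]; exact TruncatedWittVector.truncateFun_out a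
  have hcoeff : ∀ i : Fin (m + 1), ã.coeff i = a.coeff i := fun i => by
    rw [hã]; exact TruncatedWittVector.coeff_out a i
  obtain ⟨y, hy⟩ : ∃ y : WittVector p B, ∀ j, y.coeff j = ã.coeff (j + 1) :=
    ⟨WittVector.mk p (fun j => ã.coeff (j + 1)), fun j => by rw [WittVector.coeff_mk]⟩
  have hV : WittVector.verschiebung y = WittVector.tail 1 ã := by
    ext k
    cases k with
    | zero =>
      rw [WittVector.verschiebung_coeff_zero]
      unfold WittVector.tail WittVector.select
      rw [WittVector.coeff_mk]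
      exact (if_neg (by omega)).symm
    | succ k =>
      rw [WittVector.verschiebung_coeff_succ, hy]
      unfold WittVector.tail WittVector.select
      rw [WittVector.coeff_mk]
      exact (if_pos (by omega)).symm
  refine ⟨WittVector.truncate (m + 1) (WittVector.init 1 ã), ?_, y, ?_, ?_⟩
  · intro i
    rw [WittVector.coeff_truncate]
    by_cases hi : (i : ℕ) = 0
    · have h0 : (WittVector.init 1 ã).coeff i = a.coeff i := by
        rw [← hcoeff]
        unfold WittVector.init WittVector.select
        rw [WittVector.coeff_mk]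
        exact if_pos (by omega)
      rw [h0]
      have hexp : m + 1 - 1 - (i : ℕ) = m := by omega
      have hai := ha i
      rw [hexp] at hai ⊢
      obtain ⟨c, hc⟩ := hai
      obtain ⟨c', hc'⟩ := key3 x hx u hu (p ^ m) (pow_pos hp.pos m) n
        (by rw [Nat.cast_pow]; exact hn) (TruncatedWittVector.coeff i a) c hc.symm
      exact ⟨c', hc'.symm⟩
    · have h0 : (WittVector.init 1 ã).coeff i = 0 := by
        unfold WittVector.init WittVector.select
        rw [WittVector.coeff_mk]
        exact if_neg (by omega)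
      rw [h0, zero_pow (pow_ne_zero _ hp.ne_zero), zero_mul]
      exact ⟨0, map_zero _⟩
  · intro j
    rw [WittVector.coeff_truncate, hy]
    have hj1 : (j : ℕ) + 1 < m + 1 := by have := j.2; omega
    have h1 := ha ⟨(j : ℕ) + 1, hj1⟩
    have h2 : TruncatedWittVector.coeff ⟨(j : ℕ) + 1, hj1⟩ a = ã.coeff ((j : ℕ) + 1) :=
      (hcoeff ⟨(j : ℕ) + 1, hj1⟩).symm
    have hexp : m + 1 - 1 - ((j : ℕ) + 1) = m - 1 - (j : ℕ) := by omega
    rw [← hexp, ← h2]
    exact h1
  · rw [hV, ← map_add, WittVector.init_add_tail, hãa]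

end Groth.Agent.S19274
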