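import Mathlib
import Groth.Statements.S19275
import Groth.Agent.Lib.Helper19.ConvBC

set_option autoImplicit false
universe u v w
open Hoch

namespace Groth.Agent.S19275

open TensorProduct
open Groth.Agent.Lib.Helper19

attribute [local instance] CoactBr.Comod.baseChange

section Abstract

variable {K : Type*} [Field K] {R : Type*} [CommRing R] [Algebra K R]

/-- flat base change of `Z ∩ B` inside `Z`, in the form needed below -/
theorem ker_mkQ_baseChange_iff {C P : Type*} [AddCommGroup C] [Module K C] [AddCommGroup P]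
    [Module K P] (Z : Submodule K C) (δ : P →ₗ[K] C) (x : R ⊗[K] Z) :
    ((LinearMap.range δ).comap Z.subtype).mkQ.baseChange R x = 0 ↔
      Z.subtype.baseChange R x ∈ LinearMap.range (δ.baseChange R) := by
  have E1 : Function.Exact (((LinearMap.range δ).comap Z.subtype).subtype.lTensor R)
      (((LinearMap.range δ).comap Z.subtype).mkQ.lTensor R) :=
    _root_.lTensor_exact R (LinearMap.exact_subtype_mkQ _) (Submodule.mkQ_surjective _)
  have hWex : Function.Exact ((LinearMap.range δ).comap Z.subtype).subtype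
      ((LinearMap.range δ).mkQ ∘ₗ Z.subtype) := by
    rw [LinearMap.exact_iff, LinearMap.ker_comp, Submodule.ker_mkQ, Submodule.range_subtype]
  have E2 := Module.Flat.lTensor_exact R hWex
  have E3 : Function.Exact (δ.lTensor R) ((LinearMap.range δ).mkQ.lTensor R) :=
    _root_.lTensor_exact R (LinearMap.exact_map_mkQ_range δ) (Submodule.mkQ_surjective _)
  have e2 := E2 x
  rw [LinearMap.lTensor_comp_apply] at e2
  exact (E1 x).trans (e2.symm.trans (E3 _))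

/-- abstract flat base change for the cohomology of a three-term complex -/
theorem coh_baseChange
    {C C1 P : Type*} [AddCommGroup C] [Module K C] [AddCommGroup C1] [Module K C1]
    [AddCommGroup P] [Module K P]
    {C' C1' P' : Type*} [AddCommGroup C'] [Module R C'] [AddCommGroup C1'] [Module R C1']
    [AddCommGroup P'] [Module R P']
    (d : C →ₗ[K] C1) (δ : P →ₗ[K] C) (d' : C' →ₗ[R] C1') (δ' : P' →ₗ[R] C')
    (Φ : R ⊗[K] C →ₗ[R] C') (hΦ : Function.Bijective Φ)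
    (Φ1 : R ⊗[K] C1 →ₗ[R] C1') (hΦ1 : Function.Injective Φ1)
    (θ : R ⊗[K] P →ₗ[R] P') (hθ : Function.Surjective θ)
    (h1 : ∀ x, Φ1 (d.baseChange R x) = d' (Φ x))
    (h2 : ∀ y, Φ (δ.baseChange R y) = δ' (θ y))
    (Z B : Submodule K C) (hZ : Z = LinearMap.ker d) (hB : B = LinearMap.range δ)
    (Z' B' : Submodule R C') (hZ' : Z' = LinearMap.ker d') (hB' : B' = LinearMap.range δ') :
    ∃ e : R ⊗[K] (Z ⧸ B.comap Z.subtype) ≃ₗ[R] (Z' ⧸ B'.comap Z'.subtype),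
      ∀ (r : R) (z : Z) (hz : Φ (r ⊗ₜ[K] (z : C)) ∈ Z'),
        e (r ⊗ₜ[K] (B.comap Z.subtype).mkQ z) =
          (B'.comap Z'.subtype).mkQ ⟨Φ (r ⊗ₜ[K] (z : C)), hz⟩ := by
  subst hZ hB hZ' hB'
  have hψ₀inj : Function.Injective ((LinearMap.ker d).subtype.baseChange R) :=
    Module.Flat.lTensor_preserves_injective_linearMap (M := R) (LinearMap.ker d).subtype
      (Submodule.injective_subtype _)
  have hex : Function.Exact ((LinearMap.ker d).subtype.baseChange R) (d.baseChange R) :=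
    Module.Flat.lTensor_exact R (LinearMap.exact_subtype_ker_map d)
  have hmem : ∀ x : R ⊗[K] (LinearMap.ker d),
      (Φ ∘ₗ (LinearMap.ker d).subtype.baseChange R) x ∈ LinearMap.ker d' := by
    intro x
    rw [LinearMap.mem_ker, LinearMap.comp_apply, ← h1, hex.apply_apply_eq_zero, map_zero]
  let ψ : R ⊗[K] (LinearMap.ker d) →ₗ[R] LinearMap.ker d' :=
    LinearMap.codRestrict (LinearMap.ker d') (Φ ∘ₗ (LinearMap.ker d).subtype.baseChange R) hmem
  have hψval : ∀ x, ((ψ x : LinearMap.ker d') : C') =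
      Φ ((LinearMap.ker d).subtype.baseChange R x) := fun x => rfl
  have hψinj : Function.Injective ψ := by
    intro x y hxy
    apply hψ₀inj
    apply hΦ.1
    rw [← hψval, ← hψval, hxy]
  have hψsurj : Function.Surjective ψ := by
    intro z'
    obtain ⟨c, hc⟩ := hΦ.2 (z' : C')
    have hc0 : d.baseChange R c = 0 := by
      apply hΦ1
      rw [h1, hc, map_zero]
      exact LinearMap.mem_ker.1 z'.2
    obtain ⟨x, hx⟩ := (hex c).1 hc0
    refine ⟨x, Subtype.ext ?_⟩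
    rw [hψval, hx, hc]
  let Ψ : R ⊗[K] (LinearMap.ker d) ≃ₗ[R] LinearMap.ker d' :=
    LinearEquiv.ofBijective ψ ⟨hψinj, hψsurj⟩
  have hΨval : ∀ x, ((Ψ x : LinearMap.ker d') : C') =
      Φ ((LinearMap.ker d).subtype.baseChange R x) := fun x => rfl
  have hqsurj : Function.Surjective
      (((LinearMap.range δ).comap (LinearMap.ker d).subtype).mkQ.baseChange R) :=
    LinearMap.lTensor_surjective R (Submodule.mkQ_surjective _)
  have hkey : ∀ x : R ⊗[K] (LinearMap.ker d),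
      x ∈ LinearMap.ker
        (((LinearMap.range δ).comap (LinearMap.ker d).subtype).mkQ.baseChange R) ↔
        Ψ x ∈ (LinearMap.range δ').comap (LinearMap.ker d').subtype := by
    intro x
    rw [LinearMap.mem_ker, ker_mkQ_baseChange_iff, Submodule.mem_comap, Submodule.subtype_apply,
      hΨval, LinearMap.mem_range, LinearMap.mem_range]
    constructor
    · rintro ⟨y, hy⟩
      exact ⟨θ y, by rw [← h2, hy]⟩
    · rintro ⟨p', hp'⟩
      obtain ⟨y, rfl⟩ := hθ p'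
      exact ⟨y, hΦ.1 (by rw [h2, hp'])⟩
  have hmap : (LinearMap.ker
      (((LinearMap.range δ).comap (LinearMap.ker d).subtype).mkQ.baseChange R)).map
      (Ψ : R ⊗[K] (LinearMap.ker d) →ₗ[R] LinearMap.ker d') =
      (LinearMap.range δ').comap (LinearMap.ker d').subtype := by
    ext z'
    rw [Submodule.mem_map]
    constructor
    · rintro ⟨x, hx, rfl⟩
      exact (hkey x).1 hx
    · intro hz'
      refine ⟨Ψ.symm z', (hkey _).2 ?_, Ψ.apply_symm_apply z'⟩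
      rw [LinearEquiv.apply_symm_apply]
      exact hz'
  refine ⟨(LinearMap.quotKerEquivOfSurjective _ hqsurj).symm ≪≫ₗ
    Submodule.Quotient.equiv _ _ Ψ hmap, ?_⟩
  intro r z hz
  rw [LinearEquiv.trans_apply]
  have h3 : (LinearMap.quotKerEquivOfSurjective _ hqsurj).symm
      (r ⊗ₜ[K] ((LinearMap.range δ).comap (LinearMap.ker d).subtype).mkQ z) =
      Submodule.Quotient.mk (r ⊗ₜ[K] z) :=
    LinearMap.quotKerEquivOfSurjective_symm_apply
      (((LinearMap.range δ).comap (LinearMap.ker d).subtype).mkQ.baseChange R) hqsurj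
      (r ⊗ₜ[K] z)
  rw [h3, Submodule.Quotient.equiv_apply, Submodule.mapQ_apply, Submodule.mkQ_apply]
  exact congrArg Submodule.Quotient.mk (Subtype.ext rfl)

end Abstract

section Step

variable (K : Type u) [Field K] (A : Type v) [CommRing A] [HopfAlgebra K A]
  (R : Type w) [CommRing R] [Algebra K R]

theorem bij_step {M : Type*} [AddCommGroup M] [Module K M] {M' : Type*} [AddCommGroup M']
    [Module R M'] (f : R ⊗[K] M →ₗ[R] M')
    (g : R ⊗[K] (M ⊗[K] A) →ₗ[R] M' ⊗[R] (R ⊗[K] A))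
    (h : ∀ (r : R) (m : M) (a : A),
      g (r ⊗ₜ[K] (m ⊗ₜ[K] a)) = f (r ⊗ₜ[K] m) ⊗ₜ[R] ((1 : R) ⊗ₜ[K] a))
    (hf : Function.Bijective f) : Function.Bijective g := by
  have hg : ∀ x, g x = ((AlgebraTensorModule.distribBaseChange K R M A) ≪≫ₗ
      (TensorProduct.congr (LinearEquiv.ofBijective f hf)
        (LinearEquiv.refl R (R ⊗[K] A)))) x := by
    intro x
    induction x using TensorProduct.induction_on with
    | zero => simp only [map_zero]
    | add x y hx hy => simp only [map_add, hx, hy]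
    | tmul r y =>
      induction y using TensorProduct.induction_on with
      | zero => simp only [tmul_zero, map_zero]
      | add y₁ y₂ h₁ h₂ => simp only [tmul_add, map_add, h₁, h₂]
      | tmul m a =>
        rw [h, LinearEquiv.trans_apply, AlgebraTensorModule.distribBaseChange_tmul,
          TensorProduct.congr_tmul, LinearEquiv.ofBijective_apply, LinearEquiv.refl_apply]
  have hg' : (g : _ → _) = ⇑((AlgebraTensorModule.distribBaseChange K R M A) ≪≫ₗ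
      (TensorProduct.congr (LinearEquiv.ofBijective f hf)
        (LinearEquiv.refl R (R ⊗[K] A)))) :=
    funext hg
  rw [hg']
  exact LinearEquiv.bijective _

theorem rTensor_step {M N : Type*} [AddCommGroup M] [Module K M] [AddCommGroup N] [Module K N]
    {M' N' : Type*} [AddCommGroup M'] [Module R M'] [AddCommGroup N'] [Module R N']
    (f : M →ₗ[K] N) (f' : M' →ₗ[R] N')
    (φM : R ⊗[K] M →ₗ[R] M') (φN : R ⊗[K] N →ₗ[R] N')
    (φMA : R ⊗[K] (M ⊗[K] A) →ₗ[R] M' ⊗[R] (R ⊗[K] A))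
    (φNA : R ⊗[K] (N ⊗[K] A) →ₗ[R] N' ⊗[R] (R ⊗[K] A))
    (hM : ∀ (r : R) (m : M) (a : A),
      φMA (r ⊗ₜ[K] (m ⊗ₜ[K] a)) = φM (r ⊗ₜ[K] m) ⊗ₜ[R] ((1 : R) ⊗ₜ[K] a))
    (hN : ∀ (r : R) (m : N) (a : A),
      φNA (r ⊗ₜ[K] (m ⊗ₜ[K] a)) = φN (r ⊗ₜ[K] m) ⊗ₜ[R] ((1 : R) ⊗ₜ[K] a))
    (hf : ∀ x, φN (f.baseChange R x) = f' (φM x)) (x : R ⊗[K] (M ⊗[K] A)) :
    φNA ((f.rTensor A).baseChange R x) = (f'.rTensor (R ⊗[K] A)) (φMA x) := by
  induction x using TensorProduct.induction_on with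
  | zero => simp only [map_zero]
  | add x y hx hy => simp only [map_add, hx, hy]
  | tmul r y =>
    induction y using TensorProduct.induction_on with
    | zero => simp only [tmul_zero, map_zero]
    | add y₁ y₂ h₁ h₂ => simp only [tmul_add, map_add, h₁, h₂]
    | tmul m a =>
      rw [LinearMap.baseChange_tmul, LinearMap.rTensor_tmul, hN, hM, LinearMap.rTensor_tmul,
        ← hf, LinearMap.baseChange_tmul]

theorem redComul_one_tmul (a : A) :
    Hoch.redComul R (R ⊗[K] A) ((1 : R) ⊗ₜ[K] a) =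
      ConvBC.iota2 K R A (Hoch.redComul K A a) := by
  rw [Hoch.redComul_apply, Hoch.redComul_apply, map_sub, map_sub, ConvBC.comul_one_tmul,
    ConvBC.iota2_tmul, ConvBC.iota2_tmul, Algebra.TensorProduct.one_def]

theorem phi_assoc_symm {M : Type v} [AddCommGroup M] [Module K M] {M' : Type (max w v)}
    [AddCommGroup M'] [Module R M']
    (φM : R ⊗[K] M →ₗ[R] M') (φMA : R ⊗[K] (M ⊗[K] A) →ₗ[R] M' ⊗[R] (R ⊗[K] A))
    (φMAA : R ⊗[K] ((M ⊗[K] A) ⊗[K] A) →ₗ[R] (M' ⊗[R] (R ⊗[K] A)) ⊗[R] (R ⊗[K] A))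
    (hM : ∀ (r : R) (m : M) (a : A),
      φMA (r ⊗ₜ[K] (m ⊗ₜ[K] a)) = φM (r ⊗ₜ[K] m) ⊗ₜ[R] ((1 : R) ⊗ₜ[K] a))
    (hMA : ∀ (r : R) (y : M ⊗[K] A) (a : A),
      φMAA (r ⊗ₜ[K] (y ⊗ₜ[K] a)) = φMA (r ⊗ₜ[K] y) ⊗ₜ[R] ((1 : R) ⊗ₜ[K] a))
    (r : R) (m : M) (t : A ⊗[K] A) :
    φMAA (r ⊗ₜ[K] ((TensorProduct.assoc K M A A).symm (m ⊗ₜ[K] t))) =
      (TensorProduct.assoc R M' (R ⊗[K] A) (R ⊗[K] A)).symm
        (φM (r ⊗ₜ[K] m) ⊗ₜ[R] ConvBC.iota2 K R A t) := by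
  induction t using TensorProduct.induction_on with
  | zero => simp only [tmul_zero, map_zero]
  | add t₁ t₂ h₁ h₂ => simp only [tmul_add, map_add, h₁, h₂]
  | tmul x y =>
    rw [TensorProduct.assoc_symm_tmul, hMA, hM, ConvBC.iota2_tmul,
      TensorProduct.assoc_symm_tmul]

theorem tail_step {M : Type v} [AddCommGroup M] [Module K M] {M' : Type (max w v)}
    [AddCommGroup M'] [Module R M']
    (φM : R ⊗[K] M →ₗ[R] M') (φMA : R ⊗[K] (M ⊗[K] A) →ₗ[R] M' ⊗[R] (R ⊗[K] A))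
    (φMAA : R ⊗[K] ((M ⊗[K] A) ⊗[K] A) →ₗ[R] (M' ⊗[R] (R ⊗[K] A)) ⊗[R] (R ⊗[K] A))
    (hM : ∀ (r : R) (m : M) (a : A),
      φMA (r ⊗ₜ[K] (m ⊗ₜ[K] a)) = φM (r ⊗ₜ[K] m) ⊗ₜ[R] ((1 : R) ⊗ₜ[K] a))
    (hMA : ∀ (r : R) (y : M ⊗[K] A) (a : A),
      φMAA (r ⊗ₜ[K] (y ⊗ₜ[K] a)) = φMA (r ⊗ₜ[K] y) ⊗ₜ[R] ((1 : R) ⊗ₜ[K] a))
    (x : R ⊗[K] (M ⊗[K] A)) :
    φMAA ((Hoch.tail K A M).baseChange R x) = Hoch.tail R (R ⊗[K] A) M' (φMA x) := by
  induction x using TensorProduct.induction_on with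
  | zero => simp only [map_zero]
  | add x y hx hy => simp only [map_add, hx, hy]
  | tmul r y =>
    induction y using TensorProduct.induction_on with
    | zero => simp only [tmul_zero, map_zero]
    | add y₁ y₂ h₁ h₂ => simp only [tmul_add, map_add, h₁, h₂]
    | tmul m a =>
      have e1 : Hoch.tail K A M (m ⊗ₜ[K] a) =
          (TensorProduct.assoc K M A A).symm (m ⊗ₜ[K] Hoch.redComul K A a) := rfl
      have e2 : Hoch.tail R (R ⊗[K] A) M' (φM (r ⊗ₜ[K] m) ⊗ₜ[R] ((1 : R) ⊗ₜ[K] a)) =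
          (TensorProduct.assoc R M' (R ⊗[K] A) (R ⊗[K] A)).symm
            (φM (r ⊗ₜ[K] m) ⊗ₜ[R] Hoch.redComul R (R ⊗[K] A) ((1 : R) ⊗ₜ[K] a)) := rfl
      rw [LinearMap.baseChange_tmul, hM, e1, e2, redComul_one_tmul,
        phi_assoc_symm K A R φM φMA φMAA hM hMA]

theorem d_step {M : Type v} [AddCommGroup M] [Module K M] {M' : Type (max w v)}
    [AddCommGroup M'] [Module R M']
    (f : M →ₗ[K] M ⊗[K] A) (f' : M' →ₗ[R] M' ⊗[R] (R ⊗[K] A)) (c : K)
    (φM : R ⊗[K] M →ₗ[R] M') (φMA : R ⊗[K] (M ⊗[K] A) →ₗ[R] M' ⊗[R] (R ⊗[K] A))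
    (φMAA : R ⊗[K] ((M ⊗[K] A) ⊗[K] A) →ₗ[R] (M' ⊗[R] (R ⊗[K] A)) ⊗[R] (R ⊗[K] A))
    (hM : ∀ (r : R) (m : M) (a : A),
      φMA (r ⊗ₜ[K] (m ⊗ₜ[K] a)) = φM (r ⊗ₜ[K] m) ⊗ₜ[R] ((1 : R) ⊗ₜ[K] a))
    (hMA : ∀ (r : R) (y : M ⊗[K] A) (a : A),
      φMAA (r ⊗ₜ[K] (y ⊗ₜ[K] a)) = φMA (r ⊗ₜ[K] y) ⊗ₜ[R] ((1 : R) ⊗ₜ[K] a))
    (hf : ∀ x, φMA (f.baseChange R x) = f' (φM x)) (x : R ⊗[K] (M ⊗[K] A)) :
    φMAA ((f.rTensor A + c • Hoch.tail K A M).baseChange R x) =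
      (f'.rTensor (R ⊗[K] A) + (algebraMap K R c) • Hoch.tail R (R ⊗[K] A) M') (φMA x) := by
  have hsm : ∀ y : R ⊗[K] ((M ⊗[K] A) ⊗[K] A), c • y = (algebraMap K R c) • y :=
    fun y => (algebraMap_smul R c y).symm
  rw [LinearMap.baseChange_add, LinearMap.baseChange_smul, LinearMap.add_apply,
    LinearMap.add_apply, LinearMap.smul_apply, LinearMap.smul_apply, map_add,
    rTensor_step K A R f f' φM φMA φMA φMAA hM hMA hf x, hsm, map_smul,
    tail_step K A R φM φMA φMAA hM hMA x]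

theorem d_zero_step (V : Type v) [AddCommGroup V] [Module K V] [HopfRep.Comod K A V]
    (φ0 : R ⊗[K] V →ₗ[R] R ⊗[K] V)
    (φ1 : R ⊗[K] (V ⊗[K] A) →ₗ[R] (R ⊗[K] V) ⊗[R] (R ⊗[K] A))
    (h0 : ∀ x, φ0 x = x)
    (h1 : ∀ (r : R) (v : V) (a : A),
      φ1 (r ⊗ₜ[K] (v ⊗ₜ[K] a)) = φ0 (r ⊗ₜ[K] v) ⊗ₜ[R] ((1 : R) ⊗ₜ[K] a))
    (x : R ⊗[K] V) :
    φ1 ((Hoch.d K A V 0).baseChange R x) = Hoch.d R (R ⊗[K] A) (R ⊗[K] V) 0 (φ0 x) := by
  have key : ∀ (r : R) (t : V ⊗[K] A), φ1 (r ⊗ₜ[K] t) =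
      AlgebraTensorModule.tensorTensorTensorComm K R K R R R V A
        (((1 : R) ⊗ₜ[R] r) ⊗ₜ[K] t) := by
    intro r t
    induction t using TensorProduct.induction_on with
    | zero => simp only [tmul_zero, map_zero]
    | add t₁ t₂ h₁ h₂ => simp only [tmul_add, map_add, h₁, h₂]
    | tmul v a =>
      rw [h1, h0, AlgebraTensorModule.tensorTensorTensorComm_tmul]
      have e1 : r ⊗ₜ[K] v = r • ((1 : R) ⊗ₜ[K] v) := by
        rw [TensorProduct.smul_tmul', smul_eq_mul, mul_one]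
      have e2 : r ⊗ₜ[K] a = r • ((1 : R) ⊗ₜ[K] a) := by
        rw [TensorProduct.smul_tmul', smul_eq_mul, mul_one]
      rw [e1, e2]
      exact TensorProduct.smul_tmul r _ _
  induction x using TensorProduct.induction_on with
  | zero => simp only [map_zero]
  | add x y hx hy => simp only [map_add, hx, hy]
  | tmul r v =>
    rw [LinearMap.baseChange_tmul, h0, Hoch.d_zero_apply, Hoch.d_zero_apply, tmul_sub, map_sub,
      h1, h0, key]
    rfl

end Step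

section Concrete

variable (K : Type u) [Field K] (A : Type v) [CommRing A] [HopfAlgebra K A]
  (R : Type w) [CommRing R] [Algebra K R]
  (V : Type v) [AddCommGroup V] [Module K V] [HopfRep.Comod K A V]

theorem phi_bij
    (φ : ∀ n : ℕ, R ⊗[K] (Hoch.cochain K A V n) →ₗ[R]
      (Hoch.cochain R (R ⊗[K] A) (R ⊗[K] V) n))
    (hφ0 : ∀ x : R ⊗[K] V, φ 0 x = x)
    (hφs : ∀ (n : ℕ) (r : R) (c : Hoch.cochain K A V n) (a : A),
      φ (n + 1) (r ⊗ₜ[K] (c ⊗ₜ[K] a)) = (φ n (r ⊗ₜ[K] c)) ⊗ₜ[R] ((1 : R) ⊗ₜ[K] a))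
    (n : ℕ) : Function.Bijective (φ n) := by
  induction n with
  | zero =>
    refine ⟨fun x y h => ?_, fun y => ⟨y, hφ0 y⟩⟩
    exact (hφ0 x).symm.trans (h.trans (hφ0 y))
  | succ n ih =>
    exact bij_step K A R (M := Hoch.cochain K A V n)
      (M' := Hoch.cochain R (R ⊗[K] A) (R ⊗[K] V) n) (φ n) (φ (n + 1)) (hφs n) ih

theorem phi_d
    (φ : ∀ n : ℕ, R ⊗[K] (Hoch.cochain K A V n) →ₗ[R]
      (Hoch.cochain R (R ⊗[K] A) (R ⊗[K] V) n))
    (hφ0 : ∀ x : R ⊗[K] V, φ 0 x = x)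
    (hφs : ∀ (n : ℕ) (r : R) (c : Hoch.cochain K A V n) (a : A),
      φ (n + 1) (r ⊗ₜ[K] (c ⊗ₜ[K] a)) = (φ n (r ⊗ₜ[K] c)) ⊗ₜ[R] ((1 : R) ⊗ₜ[K] a))
    (n : ℕ) : ∀ x : R ⊗[K] (Hoch.cochain K A V n),
      φ (n + 1) ((Hoch.d K A V n).baseChange R x) =
        Hoch.d R (R ⊗[K] A) (R ⊗[K] V) n (φ n x) := by
  induction n with
  | zero =>
    intro x
    exact d_zero_step K A R V (φ 0) (φ (0 + 1)) hφ0 (hφs 0) x
  | succ n ih =>
    intro x
    have h := d_step K A R (M := Hoch.cochain K A V n)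
      (M' := Hoch.cochain R (R ⊗[K] A) (R ⊗[K] V) n)
      (Hoch.d K A V n) (Hoch.d R (R ⊗[K] A) (R ⊗[K] V) n) ((-1 : K) ^ (n + 1))
      (φ n) (φ (n + 1)) (φ (n + 1 + 1)) (hφs n) (hφs (n + 1)) ih x
    rw [map_pow, map_neg, map_one] at h
    exact h

theorem coh_iso
    (φ : ∀ n : ℕ, R ⊗[K] (Hoch.cochain K A V n) →ₗ[R]
      (Hoch.cochain R (R ⊗[K] A) (R ⊗[K] V) n))
    (hφ0 : ∀ x : R ⊗[K] V, φ 0 x = x)
    (hφs : ∀ (n : ℕ) (r : R) (c : Hoch.cochain K A V n) (a : A),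
      φ (n + 1) (r ⊗ₜ[K] (c ⊗ₜ[K] a)) = (φ n (r ⊗ₜ[K] c)) ⊗ₜ[R] ((1 : R) ⊗ₜ[K] a))
    (n : ℕ) :
    ∃ e : R ⊗[K] Hoch.H K A V n ≃ₗ[R] Hoch.H R (R ⊗[K] A) (R ⊗[K] V) n,
      ∀ (r : R) (z : Hoch.cocycles K A V n)
        (hz : φ n (r ⊗ₜ[K] (z : Hoch.cochain K A V n)) ∈
          Hoch.cocycles R (R ⊗[K] A) (R ⊗[K] V) n),
        e (r ⊗ₜ[K] Hoch.H.mk K A V n z) =
          Hoch.H.mk R (R ⊗[K] A) (R ⊗[K] V) n
            ⟨φ n (r ⊗ₜ[K] (z : Hoch.cochain K A V n)), hz⟩ := by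
  cases n with
  | zero =>
    exact coh_baseChange (Hoch.d K A V 0)
      (0 : Hoch.cochain K A V 0 →ₗ[K] Hoch.cochain K A V 0)
      (Hoch.d R (R ⊗[K] A) (R ⊗[K] V) 0)
      (0 : Hoch.cochain R (R ⊗[K] A) (R ⊗[K] V) 0 →ₗ[R]
        Hoch.cochain R (R ⊗[K] A) (R ⊗[K] V) 0)
      (φ 0) (phi_bij K A R V φ hφ0 hφs 0) (φ (0 + 1)) (phi_bij K A R V φ hφ0 hφs (0 + 1)).1
      (φ 0) (phi_bij K A R V φ hφ0 hφs 0).2 (phi_d K A R V φ hφ0 hφs 0)
      (fun y => by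
        rw [LinearMap.baseChange_zero, LinearMap.zero_apply, map_zero, LinearMap.zero_apply])
      (Hoch.cocycles K A V 0) (Hoch.coboundaries K A V 0) rfl LinearMap.range_zero.symm
      (Hoch.cocycles R (R ⊗[K] A) (R ⊗[K] V) 0)
      (Hoch.coboundaries R (R ⊗[K] A) (R ⊗[K] V) 0) rfl LinearMap.range_zero.symm
  | succ m =>
    exact coh_baseChange (Hoch.d K A V (m + 1)) (Hoch.d K A V m)
      (Hoch.d R (R ⊗[K] A) (R ⊗[K] V) (m + 1)) (Hoch.d R (R ⊗[K] A) (R ⊗[K] V) m)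
      (φ (m + 1)) (phi_bij K A R V φ hφ0 hφs (m + 1)) (φ (m + 1 + 1))
      (phi_bij K A R V φ hφ0 hφs (m + 1 + 1)).1
      (φ m) (phi_bij K A R V φ hφ0 hφs m).2 (phi_d K A R V φ hφ0 hφs (m + 1))
      (phi_d K A R V φ hφ0 hφs m)
      (Hoch.cocycles K A V (m + 1)) (Hoch.coboundaries K A V (m + 1)) rfl rfl
      (Hoch.cocycles R (R ⊗[K] A) (R ⊗[K] V) (m + 1))
      (Hoch.coboundaries R (R ⊗[K] A) (R ⊗[K] V) (m + 1)) rfl rfl

end Concrete


open TensorProduct in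
/-- In the case of an affine group scheme over a field (a K-groupoid acting on Spec K itself),
cohomology commutes with arbitrary base change. Precisely: let K be a field, A a commutative Hopf
algebra over K (the coordinate ring of an affine K-group scheme G), V a right A-comodule (a linear
representation of G) and R any commutative K-algebra. Give R ⊗ V the base-changed comodule structure
over the R-bialgebra R ⊗ A, whose coaction sends r ⊗ v to the image of r ⊗ ρ(v) under the canonical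
identification of R ⊗ (V ⊗ A) with (R ⊗ V) ⊗_R (R ⊗ A), and let φ_n : R ⊗ C^n(A, V) → C^n(R ⊗ A, R ⊗
V) be the canonical R-linear maps between the Hochschild cochain modules, determined by φ_0 = id and
φ_{n+1}(r ⊗ (c ⊗ a)) = φ_n(r ⊗ c) ⊗ (1 ⊗ a). Then every φ_n is bijective, the φ_n commute with the
Hochschild differentials, and for every n there is an R-linear isomorphism R ⊗ H^n(A, V) ≅ H^n(R ⊗
A, R ⊗ V) sending r ⊗ [z] to [φ_n(r ⊗ z)] for every n-cocycle z. (The published statement is for an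
affine K-groupoid acting on the spectrum of a finite extension L of K and its coherent
representations, with K of characteristic 0; this is its case L = K, in which the cochain complex of
a representation is the Hochschild complex of the comodule; V is not assumed finite-dimensional and
K may be any field.) -/
theorem result
    (K : Type u) [Field K] (A : Type v) [CommRing A] [HopfAlgebra K A]
    (V : Type v) [AddCommGroup V] [Module K V] [HopfRep.Comod K A V]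
    (R : Type w) [CommRing R] [Algebra K R]
    (φ : ∀ n : ℕ, R ⊗[K] (Hoch.cochain K A V n) →ₗ[R] (Hoch.cochain R (R ⊗[K] A) (R ⊗[K] V) n))
    (hφ0 : ∀ x : R ⊗[K] V, φ 0 x = x)
    (hφs : ∀ (n : ℕ) (r : R) (c : Hoch.cochain K A V n) (a : A),
      φ (n + 1) (r ⊗ₜ[K] (c ⊗ₜ[K] a)) = (φ n (r ⊗ₜ[K] c)) ⊗ₜ[R] ((1 : R) ⊗ₜ[K] a)) :
    letI := CoactBr.Comod.baseChange K R A V
    (∀ n : ℕ, Function.Bijective (φ n)) ∧
    (∀ (n : ℕ) (x : R ⊗[K] (Hoch.cochain K A V n)),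
        φ (n + 1) ((Hoch.d K A V n).baseChange R x) = Hoch.d R (R ⊗[K] A) (R ⊗[K] V) n (φ n x)) ∧
      ∀ n : ℕ, ∃ e : R ⊗[K] Hoch.H K A V n ≃ₗ[R] Hoch.H R (R ⊗[K] A) (R ⊗[K] V) n,
        ∀ (r : R) (z : Hoch.cocycles K A V n)
          (hz : φ n (r ⊗ₜ[K] (z : Hoch.cochain K A V n)) ∈ Hoch.cocycles R (R ⊗[K] A) (R ⊗[K] V) n),
          e (r ⊗ₜ[K] Hoch.H.mk K A V n z) = Hoch.H.mk R (R ⊗[K] A) (R ⊗[K] V) n ⟨φ n (r ⊗ₜ[K] (z : Hoch.cochain K A V n)), hz⟩ := by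
  exact ⟨phi_bij K A R V φ hφ0 hφs, phi_d K A R V φ hφ0 hφs, coh_iso K A R V φ hφ0 hφs⟩

end Groth.Agent.S19275
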