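import Groth.Statements.S19288
import Groth.Agent.Lib.Helper11.UD3

set_option autoImplicit false
universe u
open CategoryTheory CategoryTheory.Limits MonoidalCategory CartesianMonoidalCategory MonObj AlgebraicGeometry
open AbSch

namespace Groth.Agent.S19288

/-- Let S be a scheme, X a commutative S-group scheme which is etale and separated over S (hence locally
of finite presentation), and P a commutative S-group scheme of finite presentation over S all of
whose fibres are connected. Then every homomorphism of S-group schemes from P to X is trivial (it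
factors through the unit section). -/
theorem result {S : Scheme.{u}} (P X : Over S)
    [GrpObj P] [IsCommMonObj P] [GrpObj X] [IsCommMonObj X]
    [Etale X.hom] [IsSeparated X.hom]
    [QuasiCompact P.hom] [QuasiSeparated P.hom] [LocallyOfFinitePresentation P.hom]
    (hP : ∀ s : S, ConnectedSpace ↥(P.hom.fiber s))
    (f : P ⟶ X) [IsMonHom f] : f = 1 := by

  have hone : (1 : P ⟶ X).left = P.hom ≫ η[X].left := by
    rw [Hom.one_def, Over.comp_left]; rfl
  have hunit : η[X].left ≫ X.hom = 𝟙 S := Over.w η[X]
  have hunitP : η[P].left ≫ P.hom = 𝟙 S := Over.w η[P]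
  have hηf : η[P].left ≫ f.left = η[X].left := by
    rw [← Over.comp_left, IsMonHom.one_hom]
  have hab : (P.hom ≫ η[X].left) ≫ X.hom = f.left ≫ X.hom := by
    rw [Category.assoc, hunit, Category.comp_id, Over.w f]
  have hE : Groth.Agent.Lib.Helper11.UD3.E X.hom (P.hom ≫ η[X].left) f.left hab = Set.univ := by
    rw [Set.eq_univ_iff_forall]
    intro z
    haveI := hP (P.hom z)
    have hΦ : _root_.IsPreconnected (Set.range (P.hom.fiberι (P.hom z))) :=
      isPreconnected_range (P.hom.fiberι (P.hom z)).continuous
    have hz : z ∈ Set.range (P.hom.fiberι (P.hom z)) := by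
      rw [Scheme.Hom.range_fiberι]; rfl
    refine Groth.Agent.Lib.Helper11.UD3.subset_E_of_isPreconnected X.hom _ _ hab _ hΦ
      (η[X].left (P.hom z)) ?_ ?_ hz
    · rintro _ ⟨w, rfl⟩
      have hw : P.hom (P.hom.fiberι (P.hom z) w) = P.hom z := by
        have : P.hom.fiberι (P.hom z) w ∈ P.hom ⁻¹' {P.hom z} := by
          rw [← Scheme.Hom.range_fiberι]; exact ⟨w, rfl⟩
        exact this
      rw [Scheme.Hom.comp_apply, hw]
    · refine ⟨η[P].left (P.hom z), ?_, ?_⟩
      · rw [Scheme.Hom.range_fiberι]
        show P.hom (η[P].left (P.hom z)) = P.hom z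
        rw [← Scheme.Hom.comp_apply, hunitP]; rfl
      · refine Groth.Agent.Lib.Helper11.UD3.range_subset_E X.hom _ _ hab η[P].left ?_ ⟨P.hom z, rfl⟩
        rw [← Category.assoc, hunitP, hηf]; exact Category.id_comp _
  apply Over.OverMorphism.ext
  rw [hone]
  exact (Groth.Agent.Lib.Helper11.UD3.eq_of_E_eq_univ X.hom _ _ hab hE).symm

end Groth.Agent.S19288
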