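import Groth.Statements.S19309
import Mathlib

set_option autoImplicit false
universe u
open PowerSeries LaurentSeries
open CAlg

namespace Groth.Agent.S19309

/-- Let k be a field, R a commutative k-algebra, B a finitely presented R⟦X⟧-algebra (an affine scheme V
= Spec B of finite presentation over the disc D_R = Spec R⟦X⟧) and s : B → R((X)) an R⟦X⟧-algebra
map (a section of V over the punctured disc). Then there is an ideal I of R such that for every ring
map φ : R → R', writing θ : R((X)) → R'((X)) for the ring map compatible with R⟦X⟧ → R'⟦X⟧, the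
section s extends to a section over D_{R'} — an R⟦X⟧-algebra map s' : B → R'⟦X⟧ whose composite with
R'⟦X⟧ → R'((X)) is θ ∘ s — if and only if φ kills I. In other words the sub-presheaf of Spec R where
s extends over the disc is the closed subscheme defined by I. -/
theorem result
    (k : Type u) [Field k] (R : Type u) [CommRing R] [Algebra k R]
    (B : Type u) [CommRing B] [Algebra R⟦X⟧ B] [Algebra.FinitePresentation R⟦X⟧ B]
    (s : B →ₐ[R⟦X⟧] R⸨X⸩) :
    ∃ I : Ideal R, ∀ (R' : Type u) [CommRing R'] (φ : R →+* R') (θ : R⸨X⸩ →+* R'⸨X⸩),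
      θ.comp (algebraMap R⟦X⟧ R⸨X⸩) = (algebraMap R'⟦X⟧ R'⸨X⸩).comp (PowerSeries.map φ) →
      ((∃ s' : B →+* R'⟦X⟧, s'.comp (algebraMap R⟦X⟧ B) = PowerSeries.map φ ∧
          (algebraMap R'⟦X⟧ R'⸨X⸩).comp s' = θ.comp s.toRingHom) ↔ I ≤ RingHom.ker φ) := by
  classical
  have hex : ∀ b : B, ∃ (n : ℕ) (p : PowerSeries R),
      algebraMap (PowerSeries R) (LaurentSeries R) (PowerSeries.X ^ n) * s b =
        algebraMap (PowerSeries R) (LaurentSeries R) p := by
    intro b
    obtain ⟨⟨p, ⟨_, n, rfl⟩⟩, h⟩ :=
      IsLocalization.surj (Submonoid.powers (PowerSeries.X : PowerSeries R)) (s b)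
    exact ⟨n, p, by rw [mul_comm]; exact h⟩
  choose nb pb hpb using hex
  refine ⟨Ideal.span {r | ∃ (b : B) (j : ℕ), j < nb b ∧ r = PowerSeries.coeff j (pb b)}, ?_⟩
  intro R' _ φ θ hθ
  have hθ' : ∀ p : PowerSeries R, θ (algebraMap (PowerSeries R) (LaurentSeries R) p) =
      algebraMap (PowerSeries R') (LaurentSeries R') (PowerSeries.map φ p) :=
    fun p => RingHom.congr_fun hθ p
  have hinj : Function.Injective (algebraMap (PowerSeries R') (LaurentSeries R')) := by
    rw [LaurentSeries.coe_algebraMap]; exact HahnSeries.ofPowerSeries_injective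
  have hunit : ∀ n : ℕ, IsUnit (algebraMap (PowerSeries R') (LaurentSeries R')
      (PowerSeries.X ^ n)) := fun n =>
    IsLocalization.map_units (LaurentSeries R')
      (⟨PowerSeries.X ^ n, n, rfl⟩ : Submonoid.powers (PowerSeries.X : PowerSeries R'))
  have hkey : ∀ b : B, algebraMap (PowerSeries R') (LaurentSeries R') (PowerSeries.X ^ nb b) *
      θ (s b) = algebraMap (PowerSeries R') (LaurentSeries R') (PowerSeries.map φ (pb b)) := by
    intro b
    have h1 := congrArg θ (hpb b)
    rw [map_mul, hθ', hθ', map_pow, PowerSeries.map_X] at h1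
    exact h1
  constructor
  · rintro ⟨s', hs'1, hs'2⟩
    rw [Ideal.span_le]
    rintro r ⟨b, j, hj, rfl⟩
    show PowerSeries.coeff j (pb b) ∈ RingHom.ker φ
    rw [RingHom.mem_ker, ← PowerSeries.coeff_map]
    have h2 : PowerSeries.X ^ nb b * s' b = PowerSeries.map φ (pb b) := by
      apply hinj
      rw [map_mul, ← hkey b]
      congr 1
      exact RingHom.congr_fun hs'2 b
    rw [← h2, PowerSeries.coeff_X_pow_mul', if_neg (not_le.mpr hj)]
  · intro hI
    have hmem : ∀ b : B, θ (s b) ∈ (algebraMap (PowerSeries R') (LaurentSeries R')).range := by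
      intro b
      have hdvd : (PowerSeries.X : PowerSeries R') ^ nb b ∣ PowerSeries.map φ (pb b) := by
        rw [PowerSeries.X_pow_dvd_iff]
        intro m hm
        rw [PowerSeries.coeff_map, ← RingHom.mem_ker]
        exact hI (Ideal.subset_span ⟨b, m, hm, rfl⟩)
      obtain ⟨q, hq⟩ := hdvd
      refine ⟨q, ?_⟩
      have h3 := hkey b
      rw [hq, map_mul] at h3
      exact ((hunit (nb b)).mul_left_cancel h3).symm
    obtain ⟨e, he⟩ : ∃ e : PowerSeries R' ≃+*
        (algebraMap (PowerSeries R') (LaurentSeries R')).range,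
        ∀ x, (e x : LaurentSeries R') = algebraMap (PowerSeries R') (LaurentSeries R') x :=
      ⟨RingEquiv.ofLeftInverse (Function.leftInverse_invFun hinj), fun x => rfl⟩
    obtain ⟨s', hs'⟩ : ∃ s' : B →+* PowerSeries R',
        ∀ b, algebraMap (PowerSeries R') (LaurentSeries R') (s' b) = θ (s b) := by
      refine ⟨(e.symm : _ →+* PowerSeries R').comp
        ((θ.comp s.toRingHom).codRestrict _ hmem), fun b => ?_⟩
      rw [← he]
      simp only [RingHom.comp_apply, RingHom.coe_coe, RingEquiv.apply_symm_apply]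
      rfl
    refine ⟨s', ?_, ?_⟩
    · refine RingHom.ext (fun p => ?_)
      apply hinj
      rw [RingHom.comp_apply, hs', ← hθ']
      congr 1
      exact s.commutes p
    · exact RingHom.ext (fun b => hs' b)

end Groth.Agent.S19309
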