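import Groth.Statements.S19322
import Mathlib
import Groth.Agent.Lib.Helper25.SCLength

set_option autoImplicit false
universe v u
open CategoryTheory CategoryTheory.Limits
open SpSeq

namespace Groth.Agent.S19322

open Groth.Agent.Lib.Helper25.SCLength


/-- Let K be a field and E a cohomological spectral sequence of K-vector spaces, pages from r₀,
concentrated in the first quadrant on page r₀ and with all terms of page r₀ finite-dimensional, and
let H be abutment data for E whose filtration in degree n is finite, H n finite-dimensional. If the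
dimensions of the page-r₀ terms E^{s, n-s}, 0 ≤ s ≤ n, add up to the dimension of H n, then every
position of total degree n is stationary from page r₀ on: all differentials into and out of it
vanish on every page. (The printed statement takes r₀ a positive integer and n ≥ 0; neither
restriction is needed.) -/
theorem result
    {K : Type u} [Field K] {r₀ : ℤ}
    (E : CohomologicalSpectralSequence (ModuleCat.{v} K) r₀) (H : ℤ → ModuleCat.{v} K)
    (a : SpSeq.Abutment E H) (n : ℤ) (hfin : a.IsFinite n)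
    (hquad : ∀ pq : ℤ × ℤ, pq.1 < 0 ∨ pq.2 < 0 → IsZero ((E.page r₀ le_rfl).X pq))
    (hfd : ∀ pq : ℤ × ℤ, Module.Finite K ((E.page r₀ le_rfl).X pq))
    (hH : Module.Finite K (H n))
    (hsum : ∑ s ∈ Finset.Icc (0 : ℤ) n, Module.finrank K ((E.page r₀ le_rfl).X (s, n - s)) =
      Module.finrank K (H n)) :
    ∀ s : ℤ, SpSeq.StationaryAt E (s, n - s) r₀ := by
  classical
  obtain ⟨⟨a₀, ha₀⟩, ⟨b₁, hb₁⟩⟩ := hfin
  change a.fil n a₀ = ⊤ at ha₀
  change a.fil n b₁ = ⊥ at hb₁
  have hb₀ : a.fil n (max a₀ b₁) = ⊥ := by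
    have h1 : a.fil n (max a₀ b₁) ≤ a.fil n b₁ := a.anti n (le_max_right a₀ b₁)
    rw [hb₁] at h1
    exact le_bot_iff.mp h1
  have hab : a₀ ≤ max a₀ b₁ := le_max_left _ _
  generalize max a₀ b₁ = b₀ at hb₀ hab
  have hstep : ∀ p : ℤ, Module.length K ((a.fil n p : Subobject (H n)) : ModuleCat.{v} K) =
      Module.length K ((a.fil n (p + 1) : Subobject (H n)) : ModuleCat.{v} K) +
        Module.length K (grPiece (a.fil n) (a.anti n) p : ModuleCat.{v} K) :=
    fun p => length_eq_add_cokernel
      ((a.fil n (p + 1)).ofLE (a.fil n p) (a.anti n (Int.le_add_one le_rfl)))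
  have htel : ∀ (b : ℤ) (hb : a₀ ≤ b),
      Module.length K ((a.fil n a₀ : Subobject (H n)) : ModuleCat.{v} K) =
      (∑ p ∈ Finset.Ico a₀ b, Module.length K (grPiece (a.fil n) (a.anti n) p : ModuleCat.{v} K))
        + Module.length K ((a.fil n b : Subobject (H n)) : ModuleCat.{v} K) := by
    intro b hb
    induction b, hb using Int.leInduction with
    | base => simp
    | succ b hb ih =>
      rw [← Finset.insert_Ico_right_eq_Ico_add_one hb, Finset.sum_insert Finset.right_notMem_Ico,
        ih, hstep b]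
      ring
  have htop : Module.length K ((a.fil n a₀ : Subobject (H n)) : ModuleCat.{v} K) =
      Module.length K (H n) := by
    rw [ha₀]
    exact (asIso (⊤ : Subobject (H n)).arrow).toLinearEquiv.length_eq
  have hbot : Module.length K ((a.fil n b₀ : Subobject (H n)) : ModuleCat.{v} K) = 0 := by
    rw [hb₀]
    haveI : Subsingleton (((⊥ : Subobject (H n)) : ModuleCat.{v} K)) :=
      ModuleCat.subsingleton_of_isZero (IsZero.of_iso (isZero_zero _) Subobject.botCoeIsoZero)
    exact Module.length_eq_zero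
  have hquad0 : ∀ p : ℤ, p ∉ Finset.Icc (0 : ℤ) n →
      Module.length K ((E.page r₀ le_rfl).X (p, n - p)) = 0 := by
    intro p hp
    have h1 : p < 0 ∨ n - p < 0 := by
      rw [Finset.mem_Icc] at hp; omega
    haveI := ModuleCat.subsingleton_of_isZero (hquad (p, n - p) h1)
    exact Module.length_eq_zero
  have hpage_le : ∀ (pq : ℤ × ℤ) (r : ℤ) (hr : r₀ ≤ r),
      Module.length K ((E.page (r + 1) (by omega)).X pq) ≤ Module.length K ((E.page r hr).X pq) := by
    intro pq r hr
    rw [← (E.iso r (r + 1) pq rfl hr).toLinearEquiv.length_eq]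
    exact length_homology_le (E.page r hr) pq
  have hanti : ∀ (pq : ℤ × ℤ) (r : ℤ) (hr : r₀ ≤ r) (r' : ℤ) (hrr' : r ≤ r'),
      Module.length K ((E.page r' (hr.trans hrr')).X pq) ≤
        Module.length K ((E.page r hr).X pq) := by
    intro pq r hr r' hrr'
    induction r', hrr' using Int.leInduction with
    | base => exact le_rfl
    | succ r' hrr' ih => exact (hpage_le pq r' (hr.trans hrr')).trans ih
  have hvanish : ∀ (pq : ℤ × ℤ) (r : ℤ) (hr : r₀ ≤ r),
      Module.length K ((E.page (r + 1) (by omega)).X pq) = Module.length K ((E.page r hr).X pq) →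
      Module.length K ((E.page r hr).X pq) ≠ ⊤ →
      (E.page r hr).d (pq - (r, 1 - r)) pq = 0 ∧ (E.page r hr).d pq (pq + (r, 1 - r)) = 0 := by
    intro pq r hr heq hfin
    rw [← (E.iso r (r + 1) pq rfl hr).toLinearEquiv.length_eq] at heq
    obtain ⟨h1, h2⟩ := gam_eq_zero_of_length_homology_eq
      (c := ComplexShape.up' (⟨r, 1 - r⟩ : ℤ × ℤ)) (E.page r hr) pq heq hfin
    have hprev : (ComplexShape.up' (⟨r, 1 - r⟩ : ℤ × ℤ)).prev pq = pq - (r, 1 - r) :=
      (ComplexShape.up' (⟨r, 1 - r⟩ : ℤ × ℤ)).prev_eq'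
        (show pq - (r, 1 - r) + (r, 1 - r) = pq from sub_add_cancel _ _)
    have hnext : (ComplexShape.up' (⟨r, 1 - r⟩ : ℤ × ℤ)).next pq = pq + (r, 1 - r) :=
      (ComplexShape.up' (⟨r, 1 - r⟩ : ℤ × ℤ)).next_eq'
        (show pq + (r, 1 - r) = pq + (r, 1 - r) from rfl)
    rw [hprev] at h1
    rw [hnext] at h2
    exact ⟨d_eq_zero_of_gam_eq_zero _ _ _ h1, d_eq_zero_of_gam_eq_zero _ _ _ h2⟩
  have hfin0 : ∀ pq : ℤ × ℤ, Module.length K ((E.page r₀ le_rfl).X pq) ≠ ⊤ := by
    intro pq
    haveI := hfd pq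
    rw [Module.length_eq_finrank]
    exact ENat.coe_ne_top _
  have hgr : ∀ s : ℤ, Module.length K (grPiece (a.fil n) (a.anti n) s : ModuleCat.{v} K) =
      Module.length K ((E.page (a.rk (s, n - s)) (a.stat (s, n - s)).1).X (s, n - s)) := by
    intro s
    have key : ∀ m : ℤ, m = n →
        Module.length K (grPiece (a.fil m) (a.anti m) s : ModuleCat.{v} K) =
          Module.length K (grPiece (a.fil n) (a.anti n) s : ModuleCat.{v} K) := by
      rintro m rfl; rfl
    rw [← key (s + (n - s)) (by ring)]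
    exact ((a.β (s, n - s)).toLinearEquiv.length_eq).symm
  have hge : ∀ s : ℤ, Module.length K (grPiece (a.fil n) (a.anti n) s : ModuleCat.{v} K) ≤
      Module.length K ((E.page r₀ le_rfl).X (s, n - s)) := by
    intro s
    rw [hgr s]
    exact hanti (s, n - s) r₀ le_rfl (a.rk (s, n - s)) (a.stat (s, n - s)).1
  have he : ∀ s : ℤ, Module.length K ((E.page r₀ le_rfl).X (s, n - s)) =
      ((Module.finrank K ((E.page r₀ le_rfl).X (s, n - s)) : ℕ) : ℕ∞) := by
    intro s
    haveI := hfd (s, n - s)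
    exact Module.length_eq_finrank _ _
  obtain ⟨gN, hgN⟩ : ∃ gN : ℤ → ℕ, ∀ s, gN s =
      (Module.length K (grPiece (a.fil n) (a.anti n) s : ModuleCat.{v} K)).toNat :=
    ⟨_, fun _ => rfl⟩
  have hg : ∀ s : ℤ, Module.length K (grPiece (a.fil n) (a.anti n) s : ModuleCat.{v} K) =
      ((gN s : ℕ) : ℕ∞) := by
    intro s
    rw [hgN s]
    exact (ENat.natCast_toNat (ne_top_of_le_ne_top (hfin0 _) (hge s))).symm
  have hgeN : ∀ s, gN s ≤ Module.finrank K ((E.page r₀ le_rfl).X (s, n - s)) := by
    intro s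
    have h1 := hge s
    rw [hg s, he s] at h1
    exact_mod_cast h1
  have heN0 : ∀ s, s ∉ Finset.Icc (0 : ℤ) n →
      Module.finrank K ((E.page r₀ le_rfl).X (s, n - s)) = 0 := by
    intro s hs
    have h1 := hquad0 s hs
    rw [he s] at h1
    exact_mod_cast h1
  haveI := hH
  have hsumg : ((Module.finrank K (H n) : ℕ) : ℕ∞) =
      ((∑ p ∈ Finset.Ico a₀ b₀, gN p : ℕ) : ℕ∞) := by
    rw [← Module.length_eq_finrank K (H n), ← htop, htel b₀ hab, hbot, add_zero, Nat.cast_sum]
    exact Finset.sum_congr rfl (fun p _ => hg p)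
  have hsumg' : Module.finrank K (H n) = ∑ p ∈ Finset.Ico a₀ b₀, gN p := by
    exact_mod_cast hsumg
  have h1 : ∑ p ∈ Finset.Ico a₀ b₀, gN p ≤ ∑ p ∈ Finset.Icc (0 : ℤ) n, gN p := by
    apply Finset.sum_le_sum_of_ne_zero
    intro p _ hp
    by_contra hnot
    apply hp
    have h2 := hgeN p
    rw [heN0 p hnot] at h2
    omega
  have h2 : ∑ p ∈ Finset.Icc (0 : ℤ) n, gN p ≤
      ∑ p ∈ Finset.Icc (0 : ℤ) n, Module.finrank K ((E.page r₀ le_rfl).X (p, n - p)) :=
    Finset.sum_le_sum (fun p _ => hgeN p)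
  have h3 : ∑ p ∈ Finset.Icc (0 : ℤ) n, gN p =
      ∑ p ∈ Finset.Icc (0 : ℤ) n, Module.finrank K ((E.page r₀ le_rfl).X (p, n - p)) := by
    apply le_antisymm h2
    rw [hsum, hsumg']
    exact h1
  have h4 : ∀ p ∈ Finset.Icc (0 : ℤ) n,
      gN p = Module.finrank K ((E.page r₀ le_rfl).X (p, n - p)) :=
    (Finset.sum_eq_sum_iff_of_le (fun p _ => hgeN p)).mp h3
  have h5 : ∀ s, gN s = Module.finrank K ((E.page r₀ le_rfl).X (s, n - s)) := by
    intro s
    by_cases hs : s ∈ Finset.Icc (0 : ℤ) n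
    · exact h4 s hs
    · have h6 := hgeN s
      rw [heN0 s hs] at h6 ⊢
      omega
  intro s
  unfold SpSeq.StationaryAt
  refine ⟨le_rfl, fun r' h₀ _ => ?_⟩
  by_cases hlt : r' < a.rk (s, n - s)
  · have hA := hanti (s, n - s) r₀ le_rfl r' h₀
    have hB := hpage_le (s, n - s) r' h₀
    have hC := hanti (s, n - s) (r' + 1) (by omega) (a.rk (s, n - s)) (by omega)
    have hD : Module.length K ((E.page (a.rk (s, n - s)) (a.stat (s, n - s)).1).X (s, n - s)) =
        Module.length K ((E.page r₀ le_rfl).X (s, n - s)) := by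
      rw [← hgr s, hg s, he s, h5 s]
    have hE : Module.length K ((E.page (r' + 1) (by omega)).X (s, n - s)) =
        Module.length K ((E.page r' h₀).X (s, n - s)) := by
      apply le_antisymm hB
      calc Module.length K ((E.page r' h₀).X (s, n - s))
          ≤ Module.length K ((E.page r₀ le_rfl).X (s, n - s)) := hA
        _ = Module.length K ((E.page (a.rk (s, n - s)) (a.stat (s, n - s)).1).X (s, n - s)) :=
            hD.symm
        _ ≤ Module.length K ((E.page (r' + 1) (by omega)).X (s, n - s)) := hC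
    exact hvanish (s, n - s) r' h₀ hE (ne_top_of_le_ne_top (hfin0 _) hA)
  · exact (a.stat (s, n - s)).2 r' h₀ (not_lt.mp hlt)

end Groth.Agent.S19322
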