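import Groth.Statements.S19323
import Mathlib

set_option autoImplicit false
universe v u
open CategoryTheory CategoryTheory.Limits
open SpSeq

namespace Groth.Agent.S19323


theorem mono_homologyMap {C : Type u} [Category.{v} C] [Abelian C] {ι : Type*}
    {c : ComplexShape ι} {K L : HomologicalComplex C c} (φ : K ⟶ L) (j : ι)
    (hK : K.d (c.prev j) j = 0) (hL : L.d (c.prev j) j = 0) (hm : Mono (φ.f j)) :
    Mono (HomologicalComplex.homologyMap φ j) := by
  haveI : IsIso (K.pOpcycles j) := K.isIso_pOpcycles (c.prev j) j rfl hK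
  haveI : IsIso (L.pOpcycles j) := L.isIso_pOpcycles (c.prev j) j rfl hL
  have h2 : HomologicalComplex.opcyclesMap φ j = inv (K.pOpcycles j) ≫ φ.f j ≫ L.pOpcycles j := by
    rw [← HomologicalComplex.p_opcyclesMap, IsIso.inv_hom_id_assoc]
  haveI : Mono (HomologicalComplex.opcyclesMap φ j) := by
    rw [h2]; infer_instance
  haveI : Mono (HomologicalComplex.homologyMap φ j ≫ L.homologyι j) := by
    rw [HomologicalComplex.homologyι_naturality]; infer_instance
  exact mono_of_mono _ (L.homologyι j)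



/-- In an abelian category let E and E' be first-quadrant E₂ cohomological spectral sequences and φ : E
⟶ E' a morphism of spectral sequences such that (i) every differential of E' leaving a position
whose first coordinate is nonzero vanishes, (ii) on every page the map φ at each position followed
by the outgoing differential of E' is zero, and (iii) φ is a monomorphism at every position of page
2. Then E degenerates at page 2. -/
theorem result
    {C : Type u} [Category.{v} C] [Abelian C]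
    (E E' : E₂CohomologicalSpectralSequence C) (φ : E ⟶ E')
    (hE : ∀ pq : ℤ × ℤ, pq.1 < 0 ∨ pq.2 < 0 → IsZero ((E.page 2 le_rfl).X pq))
    (hE' : ∀ pq : ℤ × ℤ, pq.1 < 0 ∨ pq.2 < 0 → IsZero ((E'.page 2 le_rfl).X pq))
    (hd' : ∀ (r : ℤ) (hr : 2 ≤ r) (pq : ℤ × ℤ), pq.1 ≠ 0 →
      (E'.page r hr).d pq (pq + (r, 1 - r)) = 0)
    (hφd : ∀ (r : ℤ) (hr : 2 ≤ r) (pq : ℤ × ℤ),
      (φ.hom r hr).f pq ≫ (E'.page r hr).d pq (pq + (r, 1 - r)) = 0)
    (hmono : ∀ pq : ℤ × ℤ, Mono ((φ.hom 2 le_rfl).f pq)) :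
    SpSeq.Degenerates E 2 := by
  have hd'rel : ∀ (r : ℤ) (hr : 2 ≤ r) (i j : ℤ × ℤ), i.1 ≠ 0 → (E'.page r hr).d i j = 0 := by
    intro r hr i j hi
    by_cases hij : (ComplexShape.up' (⟨r, 1 - r⟩ : ℤ × ℤ)).Rel i j
    · obtain rfl : i + (r, 1 - r) = j := hij
      exact hd' r hr i hi
    · exact (E'.page r hr).shape i j hij
  have dzero : ∀ (r : ℤ) (hr : 2 ≤ r),
      (∀ pq : ℤ × ℤ, pq.1 < 0 ∨ pq.2 < 0 → IsZero ((E.page r hr).X pq)) →
      (∀ pq : ℤ × ℤ, pq.1 < 2 ∨ r ≤ pq.1 → Mono ((φ.hom r hr).f pq)) →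
      ∀ i j : ℤ × ℤ, (E.page r hr).d i j = 0 := by
    intro r hr hZ hQ i j
    by_cases hij : (ComplexShape.up' (⟨r, 1 - r⟩ : ℤ × ℤ)).Rel i j
    · obtain rfl : i + (r, 1 - r) = j := hij
      by_cases hi : i.1 < 0
      · exact (hZ i (Or.inl hi)).eq_of_src _ _
      · haveI : Mono ((φ.hom r hr).f (i + (r, 1 - r))) :=
          hQ _ (Or.inr (by show r ≤ i.1 + r; omega))
        have hc := (φ.hom r hr).comm i (i + (r, 1 - r))
        rw [hφd r hr i] at hc
        rw [← cancel_mono ((φ.hom r hr).f (i + (r, 1 - r))), zero_comp]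
        exact hc.symm
    · exact (E.page r hr).shape i j hij
  have key : ∀ (r : ℤ) (hr : 2 ≤ r),
      (∀ pq : ℤ × ℤ, pq.1 < 0 ∨ pq.2 < 0 → IsZero ((E.page r hr).X pq)) ∧
      (∀ pq : ℤ × ℤ, pq.1 < 2 ∨ r ≤ pq.1 → Mono ((φ.hom r hr).f pq)) := by
    intro r hr
    induction r, hr using Int.leInduction with
    | base => exact ⟨hE, fun pq _ => hmono pq⟩
    | succ r hr ih =>
      obtain ⟨ihZ, ihQ⟩ := ih
      have hD := dzero r hr ihZ ihQ
      refine ⟨?_, ?_⟩
      · intro pq hpq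
        exact IsZero.of_iso (ShortComplex.isZero_homology_of_isZero_X₂ ((E.page r hr).sc pq)
          (ihZ pq hpq)) (E.iso r (r + 1) pq rfl hr).symm
      · intro pq hpq
        have hm : Mono ((φ.hom r hr).f pq) := ihQ pq (by omega)
        have hL : (E'.page r hr).d ((ComplexShape.up' (⟨r, 1 - r⟩ : ℤ × ℤ)).prev pq) pq = 0 := by
          by_cases hij : (ComplexShape.up' (⟨r, 1 - r⟩ : ℤ × ℤ)).Rel
              ((ComplexShape.up' (⟨r, 1 - r⟩ : ℤ × ℤ)).prev pq) pq
          · apply hd'rel r hr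
            have h1 : ((ComplexShape.up' (⟨r, 1 - r⟩ : ℤ × ℤ)).prev pq + (r, 1 - r)).1 = pq.1 :=
              congrArg Prod.fst hij
            have h2 : ((ComplexShape.up' (⟨r, 1 - r⟩ : ℤ × ℤ)).prev pq).1 + r = pq.1 := h1
            omega
          · exact (E'.page r hr).shape _ _ hij
        haveI hmono' := mono_homologyMap (φ.hom r hr) pq (hD _ _) hL hm
        have hcomm := φ.comm r (r + 1) pq rfl hr
        have h3 : (φ.hom (r + 1) (Int.le_add_one hr)).f pq = (E.iso r (r + 1) pq rfl hr).inv ≫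
            HomologicalComplex.homologyMap (φ.hom r hr) pq ≫ (E'.iso r (r + 1) pq rfl hr).hom := by
          rw [hcomm, Iso.inv_hom_id_assoc]
        rw [h3]
        infer_instance
  unfold SpSeq.Degenerates
  refine ⟨le_rfl, fun r' h₀ _ pq pq' => ?_⟩
  obtain ⟨hZ, hQ⟩ := key r' h₀
  exact dzero r' h₀ hZ hQ pq pq'

end Groth.Agent.S19323
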