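import Groth.Statements.S19326
-- import your own Groth.Agent.* helpers here
import Mathlib
import Groth.Agent.Lib.Helper22.TorusWt

set_option autoImplicit false
universe u
open TensorProduct
open GLin

namespace Groth.Agent.S19326

/-- Let k be a field, M a finite abelian group and D = Spec k[M] the finite diagonalizable group scheme
it defines, acting on an affine k-scheme U = Spec R through a multiplicative coaction R → R ⊗ k[M];
write R_a for the weight space of a ∈ M (elements with coaction f ⊗ a). For an ideal J of R the
induced action of D on the closed subscheme V(J) is trivial, meaning that the coaction followed by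
reduction modulo J equals f ↦ (f mod J) ⊗ 1, exactly when J contains the ideal generated by the
weight spaces R_a for a ≠ 0; in other words that ideal defines the largest closed subscheme of U on
which D acts trivially. (The printed setting has U smooth, which plays no role here and is not
assumed; the further assertion that the construction commutes with flat base change on U/D is not
part of this statement.) -/
theorem result
    {k : Type u} [Field k] {M : Type u} [AddCommGroup M] [Finite M]
    {R : Type u} [CommRing R] [Algebra k R] [HopfRep.Comod k (AddMonoidAlgebra k M) R]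
    [GLin.IsCoactAlg k (AddMonoidAlgebra k M) R] (J : Ideal R) :
    (∀ f : R, LinearMap.rTensor (AddMonoidAlgebra k M) (Ideal.Quotient.mkₐ k J).toLinearMap
        (HopfRep.Comod.coact (k := k) (A := AddMonoidAlgebra k M) f) =
        (Ideal.Quotient.mk J f) ⊗ₜ[k] (1 : AddMonoidAlgebra k M)) ↔
      Ideal.span (⋃ (a : M) (_ : a ≠ 0),
        (HopfRep.eigenspace k (AddMonoidAlgebra k M) R (AddMonoidAlgebra.single a 1) : Set R)) ≤ J := by
  classical
  constructor
  · intro htriv
    rw [Ideal.span_le]
    intro f hf
    obtain ⟨a, ha, hfa⟩ := Set.mem_iUnion₂.mp hf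
    have hfa' : HopfRep.Comod.coact (k := k) (A := AddMonoidAlgebra k M) f =
        f ⊗ₜ[k] (AddMonoidAlgebra.single a (1 : k) : AddMonoidAlgebra k M) := hfa
    have h := htriv f
    rw [hfa', LinearMap.rTensor_tmul] at h
    have h2 := congrArg (Groth.Agent.Lib.Helper22.TorusWt.wt (V := R ⧸ J) a) h
    rw [Groth.Agent.Lib.Helper22.TorusWt.wt_tmul, Groth.Agent.Lib.Helper22.TorusWt.wt_tmul,
      AddMonoidAlgebra.one_def, AddMonoidAlgebra.coeff_single, AddMonoidAlgebra.coeff_single,
      Finsupp.single_apply, Finsupp.single_apply, if_pos rfl, if_neg (Ne.symm ha), one_smul,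
      zero_smul] at h2
    exact Ideal.Quotient.eq_zero_iff_mem.mp h2
  · intro hI f
    have hmem : ∀ w : M, w ≠ 0 → ∀ g ∈ HopfRep.eigenspace k (AddMonoidAlgebra k M) R
        (AddMonoidAlgebra.single w (1 : k)), g ∈ J := by
      intro w hw g hg
      apply hI
      apply Ideal.subset_span
      exact Set.mem_iUnion₂.mpr ⟨w, hw, hg⟩
    have h0 : Ideal.Quotient.mk J (Groth.Agent.Lib.Helper22.TorusWt.proj k (0 : M) f) =
        Ideal.Quotient.mk J f := by
      rw [eq_comm, Ideal.Quotient.eq]
      exact Groth.Agent.Lib.Helper22.TorusWt.sub_proj_mem J.toAddSubgroup 0 hmem f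
    rw [Groth.Agent.Lib.Helper22.TorusWt.coact_eq_sum, Finsupp.sum, map_sum,
      Finset.sum_eq_single (0 : M)]
    · rw [LinearMap.rTensor_tmul, Groth.Agent.Lib.Helper22.TorusWt.comps_apply,
        AddMonoidAlgebra.one_def]
      show (Ideal.Quotient.mk J (Groth.Agent.Lib.Helper22.TorusWt.proj k (0 : M) f)) ⊗ₜ[k] _ = _
      rw [h0]
    · intro w _ hw
      rw [LinearMap.rTensor_tmul, Groth.Agent.Lib.Helper22.TorusWt.comps_apply]
      have : (Ideal.Quotient.mkₐ k J).toLinearMap (Groth.Agent.Lib.Helper22.TorusWt.proj k w f) = 0 :=
        Ideal.Quotient.eq_zero_iff_mem.mpr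
          (hmem w hw _ (Groth.Agent.Lib.Helper22.TorusWt.proj_mem_eigenspace w f))
      rw [this, TensorProduct.zero_tmul]
    · intro h0'
      rw [Finsupp.notMem_support_iff] at h0'
      rw [h0', TensorProduct.zero_tmul, map_zero]

end Groth.Agent.S19326
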