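import Groth.Statements.S19328
import Mathlib

set_option autoImplicit false
universe u
open CategoryTheory CategoryTheory.Limits AlgebraicGeometry
open ModPair

namespace Groth.Agent.S19328

open Polynomial in
lemma exists_root_of_monic (A : Type u) [CommRing A] [Nontrivial A]
    (hloc : ∀ (X : Scheme.{u}) (R : Presieve X),
      R ∈ Scheme.precoverage (@Flat ⊓ @LocallyOfFinitePresentation ⊓ @QuasiCompact ⊓ @QuasiSeparated) X →
      ∀ g : Spec (CommRingCat.of A) ⟶ X,
        ∃ (Y : Scheme.{u}) (v : Y ⟶ X) (h : Spec (CommRingCat.of A) ⟶ Y), R v ∧ h ≫ v = g)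
    (G : A[X]) (hG : G.Monic) (hdeg : 0 < G.natDegree) : ∃ r : A, G.eval r = 0 := by
  let pb := AdjoinRoot.powerBasis' hG
  haveI : Module.Free A (AdjoinRoot G) := Module.Free.of_basis pb.basis
  haveI : Nontrivial (AdjoinRoot G) := by
    have hd : pb.dim = G.natDegree := AdjoinRoot.powerBasis'_dim hG
    have : pb.basis ⟨0, by rw [hd]; exact hdeg⟩ ≠ 0 := pb.basis.ne_zero _
    exact nontrivial_of_ne _ _ this
  let φ : CommRingCat.of A ⟶ CommRingCat.of (AdjoinRoot G) :=
    CommRingCat.ofHom (algebraMap A (AdjoinRoot G))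
  have hff : φ.hom.FaithfullyFlat := by
    show (algebraMap A (AdjoinRoot G)).FaithfullyFlat
    rw [RingHom.faithfullyFlat_algebraMap_iff]
    infer_instance
  have hfs := (flat_and_surjective_SpecMap_iff φ).mpr hff
  have hfp : LocallyOfFinitePresentation (Spec.map φ) := by
    rw [HasRingHomProperty.Spec_iff (P := @LocallyOfFinitePresentation)]
    show (algebraMap A (AdjoinRoot G)).FinitePresentation
    rw [RingHom.finitePresentation_algebraMap]
    infer_instance
  have hmem : Presieve.singleton (Spec.map φ) ∈ Scheme.precoverage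
      (@Flat ⊓ @LocallyOfFinitePresentation ⊓ @QuasiCompact ⊓ @QuasiSeparated)
      (Spec (CommRingCat.of A)) := by
    rw [Scheme.singleton_mem_precoverage_iff]
    exact ⟨hfs.2.surj, ⟨⟨⟨hfs.1, hfp⟩, inferInstance⟩, inferInstance⟩⟩
  obtain ⟨Y, v', h, hR, hv⟩ := hloc _ _ hmem (𝟙 _)
  cases hR
  let ψ : CommRingCat.of (AdjoinRoot G) ⟶ CommRingCat.of A := Spec.preimage h
  have hψ : Spec.map ψ = h := Spec.map_preimage h
  have hcomp : φ ≫ ψ = 𝟙 _ := by
    apply Spec.map_injective
    rw [Spec.map_comp, hψ, hv, Spec.map_id]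
  have hcomp' : ψ.hom.comp (algebraMap A (AdjoinRoot G)) = RingHom.id A := by
    have := congrArg CommRingCat.Hom.hom hcomp
    exact this
  refine ⟨ψ.hom (AdjoinRoot.root G), ?_⟩
  have h1 : G.eval₂ (ψ.hom.comp (algebraMap A (AdjoinRoot G))) (ψ.hom (AdjoinRoot.root G)) =
      ψ.hom (G.eval₂ (algebraMap A (AdjoinRoot G)) (AdjoinRoot.root G)) :=
    (Polynomial.hom_eval₂ G _ ψ.hom _).symm
  rw [hcomp'] at h1
  rw [← Polynomial.eval₂_id, h1]
  have h2 : G.eval₂ (algebraMap A (AdjoinRoot G)) (AdjoinRoot.root G) = 0 :=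
    AdjoinRoot.eval₂_root G
  rw [h2, map_zero]


/-- Let A be a commutative ring such that Spec A is local for fppf coverings, in the sense that for
every scheme X, every jointly surjective family of morphisms to X each of which is flat and of
finite presentation (locally of finite presentation, quasi-compact and quasi-separated), and every
morphism Spec A ⟶ X, the morphism factors through a member of the family. Then the residue field of
A at every prime ideal is algebraically closed. -/
theorem result (A : Type u) [CommRing A]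
    (hloc : ∀ (X : Scheme.{u}) (R : Presieve X),
      R ∈ Scheme.precoverage (@Flat ⊓ @LocallyOfFinitePresentation ⊓ @QuasiCompact ⊓ @QuasiSeparated) X →
      ∀ g : Spec (CommRingCat.of A) ⟶ X,
        ∃ (Y : Scheme.{u}) (v : Y ⟶ X) (h : Spec (CommRingCat.of A) ⟶ Y), R v ∧ h ≫ v = g)
    (p : Ideal A) [p.IsPrime] : IsAlgClosed p.ResidueField := by
  classical
  haveI : Nontrivial A := by
    refine ⟨⟨0, 1, fun h0 => ?_⟩⟩
    exact (‹p.IsPrime›.ne_top) ((Ideal.eq_top_iff_one p).mpr (h0 ▸ p.zero_mem))
  refine IsAlgClosed.of_exists_root _ fun q hq hirr => ?_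
  have hn : 0 < q.natDegree := hirr.natDegree_pos
  set n := q.natDegree with hndef
  obtain ⟨b, hb⟩ := IsLocalization.exist_integer_multiples (nonZeroDivisors (A ⧸ p))
    (Finset.range (n + 1)) (fun i => q.coeff i)
  set s : p.ResidueField := algebraMap (A ⧸ p) p.ResidueField (b : A ⧸ p) with hsdef
  have hs0 : s ≠ 0 := by
    rw [hsdef]
    exact IsLocalization.to_map_ne_zero_of_mem_nonZeroDivisors p.ResidueField le_rfl b.2
  have hrangeD : ∀ d : A ⧸ p, algebraMap (A ⧸ p) p.ResidueField d ∈
      Set.range (algebraMap A p.ResidueField) := by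
    intro d
    obtain ⟨a, rfl⟩ := Ideal.Quotient.mk_surjective d
    exact ⟨a, (IsScalarTower.algebraMap_apply A (A ⧸ p) p.ResidueField a)⟩
  have hmul : ∀ x y : p.ResidueField, x ∈ Set.range (algebraMap A p.ResidueField) →
      y ∈ Set.range (algebraMap A p.ResidueField) →
      x * y ∈ Set.range (algebraMap A p.ResidueField) := by
    rintro _ _ ⟨a, rfl⟩ ⟨a', rfl⟩
    exact ⟨a * a', map_mul _ _ _⟩
  have hpow : ∀ k : ℕ, s ^ k ∈ Set.range (algebraMap A p.ResidueField) := by
    intro k
    obtain ⟨a, ha⟩ := hrangeD (b : A ⧸ p)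
    exact ⟨a ^ k, by rw [map_pow, ha]⟩
  have hlifts : Polynomial.scaleRoots q s ∈ Polynomial.lifts (algebraMap A p.ResidueField) := by
    rw [Polynomial.lifts_iff_coeff_lifts]
    intro i
    rw [Polynomial.coeff_scaleRoots, ← hndef]
    rcases lt_trichotomy i n with hi | hi | hi
    · obtain ⟨d, hd⟩ := hb i (Finset.mem_range.mpr (by omega))
      have h1 : q.coeff i * s ^ (n - i) = (s * q.coeff i) * s ^ (n - i - 1) := by
        have : n - i = (n - i - 1) + 1 := by omega
        rw [this, pow_succ]
        have : n - i - 1 + 1 - 1 = n - i - 1 := by omega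
        rw [this]
        ring
      rw [h1]
      refine hmul _ _ ?_ (hpow _)
      have h2 : s * q.coeff i = algebraMap (A ⧸ p) p.ResidueField d := by
        rw [hd, hsdef, Algebra.smul_def]
      rw [h2]
      exact hrangeD d
    · subst hi
      have : q.coeff n = 1 := hq
      rw [this, Nat.sub_self, pow_zero, one_mul]
      exact ⟨1, map_one _⟩
    · rw [Polynomial.coeff_eq_zero_of_natDegree_lt hi, zero_mul]
      exact ⟨0, map_zero _⟩
  have hmonic : (Polynomial.scaleRoots q s).Monic := (Polynomial.monic_scaleRoots_iff s).mpr hq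
  obtain ⟨G, hGmap, hGdeg, hGmonic⟩ :=
    Polynomial.lifts_and_natDegree_eq_and_monic hlifts hmonic
  have hGpos : 0 < G.natDegree := by
    rw [hGdeg, Polynomial.natDegree_scaleRoots]; exact hn
  obtain ⟨r, hr⟩ := exists_root_of_monic A hloc G hGmonic hGpos
  have hroot : (Polynomial.scaleRoots q s).eval (algebraMap A p.ResidueField r) = 0 := by
    rw [← hGmap, Polynomial.eval_map, Polynomial.eval₂_at_apply, hr, map_zero]
  refine ⟨algebraMap A p.ResidueField r / s, ?_⟩
  have key := Polynomial.scaleRoots_eval₂_mul (p := q) (RingHom.id p.ResidueField)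
    (algebraMap A p.ResidueField r / s) s
  rw [RingHom.id_apply, mul_div_cancel₀ _ hs0, Polynomial.eval₂_id, Polynomial.eval₂_id,
    hroot] at key
  exact (mul_eq_zero.mp key.symm).resolve_left (pow_ne_zero _ hs0)

end Groth.Agent.S19328
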