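import Groth.Statements.S1933
import Groth.Agent.Lib.Lead.GysinPull

set_option autoImplicit false
set_option linter.style.haveILetI false
universe u
open CategoryTheory AlgebraicGeometry
open CategoryTheory.Limits
open Cyc

namespace Groth.Agent.S1933

open Groth.Agent.Lib.Lead.C1Cap Groth.Agent.Lib.Lead.C1Pull Groth.Agent.Lib.Lead.C1Flat
  Groth.Agent.Lib.Helper3.PbBasic Groth.Agent.Lib.Helper3.InvGen Groth.Agent.Lib.Lead.CycPull
  Groth.Agent.Lib.Lead.CycClosed Groth.Agent.Lib.Lead.GysinPull

/-- Gysin maps commute with flat pullback. Let f : X' → X be flat, locally of finite type, of relative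
dimension r, (L, s, i : D → X) as in the Gysin construction and D' = X' ×_X D with i' : D' → X' (the
zero scheme of a section of f^*L) and g : D' → D. For a (k + 1)-cycle α on X, (i')^*(f^*α) ∼_rat
g^*(i^*α) as (k + r)-cycles on D', flat pullbacks being taken coefficientwise. Here i : D → X is the
zero scheme of a global section s of the invertible module L (Cyc.IsZeroSchemeOf), the Gysin map i^*
: Z_{k+1}(X) → CH_k(D) is computed on coefficient functions as c_1(L) ∩ − with the rational sections
taken to be s where it is nonzero (Cyc.gysinChoice) and restricted to the points of D, and classes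
on D are compared up to rational equivalence on D for the restricted dimension function. A pair (X,
δ) with Cyc.IsSetup plays the role of a scheme locally of finite type over a base (S, δ) (X locally
Noetherian with universally catenary local rings, δ a dimension function), and Cyc.DeltaCompat
records that the dimension function upstairs is the induced one. -/
theorem result (X X' D : Scheme.{u}) (δ : X → ℤ) (δ' : X' → ℤ) (hX : Cyc.IsSetup X δ) (hX' : Cyc.IsSetup X' δ') (f : X' ⟶ X) [Flat f] [LocallyOfFiniteType f] (r : ℕ) (hr : Cyc.HasRelDim f r) (hδ : Cyc.DeltaCompat f δ' δ) (L : X.Modules) (hL : PicF.IsInvertible L) (s : L.presheaf.obj (Opposite.op ⊤)) (i : D ⟶ X) [IsClosedImmersion i] (hD : Cyc.IsZeroSchemeOf i L s) (s' : ((Scheme.Modules.pullback f).obj L).presheaf.obj (Opposite.op ⊤)) (hD' : Cyc.IsZeroSchemeOf (pullback.fst f i) ((Scheme.Modules.pullback f).obj L) s') (k : ℤ) (α : AlgebraicCycle X ℤ) (hα : α ∈ Cyc.Zk X δ (k + 1)) (w : (ξ : X) → Cyc.secFibre L ξ) (hw : ∀ ξ, w ξ ≠ 0) (w' : (ξ : X')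 → Cyc.secFibre ((Scheme.Modules.pullback f).obj L) ξ) (hw' : ∀ ξ, w' ξ ≠ 0) (ζ₁ ζ₂ : AlgebraicCycle (pullback f i) ℤ) (h₁ : ∀ z, ζ₁ z = Cyc.c1CapFun δ' ((Scheme.Modules.pullback f).obj L) (Cyc.pullFun f δ' δ r ⇑α) (Cyc.gysinChoice ((Scheme.Modules.pullback f).obj L) s' w') (pullback.fst f i z)) (h₂ : ⇑ζ₂ = Cyc.pullFun (pullback.snd f i) (fun z => δ' (pullback.fst f i z)) (fun d => δ (i d)) r (fun d => Cyc.c1CapFun δ L ⇑α (Cyc.gysinChoice L s w) (i d))) : Cyc.RatEquiv (fun z => δ' (pullback.fst f i z)) (k + r) ζ₁ ζ₂ := by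
  classical
  obtain ⟨hLNX, -, hdimX⟩ := hX
  obtain ⟨hLNX', -, hdimX'⟩ := hX'
  haveI := hLNX
  haveI := hLNX'
  have hLinv' := isInvertible_pullback f hL
  have hc : ∀ x' : X', (∀ y, f y = f x' → y ⤳ x' → y = x') → δ' x' = δ (f x') + (r : ℤ) :=
    fun x hx => Groth.Agent.S6478.shift_of_genF X' X δ' δ f r hr hδ x hx
  obtain ⟨α', hα'fun, hα'k⟩ := exists_cycle_pullFun f δ δ' hdimX' (r : ℤ) hc (k + 1) α hα
  have hv : ∀ ξ, Cyc.gysinChoice L s w ξ ≠ 0 := by
    intro ξ
    unfold Cyc.gysinChoice
    split_ifs with h0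
    · exact h0
    · exact hw ξ
  have hv' : ∀ ξ, Cyc.gysinChoice ((Scheme.Modules.pullback f).obj L) s' w' ξ ≠ 0 := by
    intro ξ
    unfold Cyc.gysinChoice
    split_ifs with h0
    · exact h0
    · exact hw' ξ
  choose u' hu' hord using fun ξ' : X' =>
    exists_pull_section_gen f hL ξ' (Cyc.gysinChoice L s w (f ξ')) (hv (f ξ'))
  -- step A: ζ₂ is the restriction of the flat pullback on X'
  have hζ₂ : ∀ z, ζ₂ z = ∑ᶠ ξ' : X', α' ξ' *
      Cyc.secDivFun δ' ((Scheme.Modules.pullback f).obj L) ξ' (u' ξ') (pullback.fst f i z) := by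
    intro z
    rw [← pullFun_c1Cap_pointwise X X' δ δ' hdimX hdimX' f (r : ℤ) hc L hL (k + 1) α hα
      (Cyc.gysinChoice L s w) hv α' hα'fun u' hord (pullback.fst f i z), h₂]
    unfold Cyc.pullFun
    dsimp only
    have hcd := pullback_cond_apply f i z
    have hlen := length_fibre_pullback f i z
    simp only [hcd, hlen]
  rw [← hα'fun] at h₁
  choose a ha hsa using fun ξ' : X' => exists_unit_smul_eq hLinv' ξ'
    (Cyc.gysinChoice ((Scheme.Modules.pullback f).obj L) s' w' ξ') (u' ξ') (hv' ξ') (hu' ξ')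
  obtain ⟨b, hb⟩ := exists_restrict_cycle (pullback.fst f i) α'
  have hbk : b ∈ Cyc.Zk (pullback f i) (fun z => δ' (pullback.fst f i z)) (k + r + 1) := by
    show ∀ z, (fun z => δ' (pullback.fst f i z)) z ≠ k + r + 1 → b z = 0
    intro z hz
    have hz' : δ' (pullback.fst f i z) ≠ k + r + 1 := hz
    rw [hb z]
    apply hα'k
    intro h0
    exact hz' (by omega)
  have hinj : Function.Injective (fun ξ : ↥(pullback f i) => pullback.fst f i ξ) :=
    (pullback.fst f i).isClosedEmbedding.injective
  show Cyc.RatEquivZero (fun z => δ' (pullback.fst f i z)) (k + r) (ζ₁ - ζ₂)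
  refine ratEquivZero_of_div (fun z => δ' (pullback.fst f i z)) (k + r) b hbk
    (fun ξ => ((pullback.fst f i).residueFieldMap ξ).hom
      (X'.residue (pullback.fst f i ξ) (a (pullback.fst f i ξ))))
    (fun ξ => (map_ne_zero ((pullback.fst f i).residueFieldMap ξ).hom).mpr
      ((ha (pullback.fst f i ξ)).map (X'.residue (pullback.fst f i ξ)).hom).ne_zero)
    (ζ₁ - ζ₂) (fun z => ?_)
  rw [Function.locallyFinsuppWithin.coe_sub, Pi.sub_apply, h₁ z, hζ₂ z]
  show (∑ᶠ ξ' : X', α' ξ' * Cyc.secDivFun δ' ((Scheme.Modules.pullback f).obj L) ξ'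
        (Cyc.gysinChoice ((Scheme.Modules.pullback f).obj L) s' w' ξ') (pullback.fst f i z)) -
      (∑ᶠ ξ' : X', α' ξ' * Cyc.secDivFun δ' ((Scheme.Modules.pullback f).obj L) ξ' (u' ξ')
        (pullback.fst f i z)) = _
  rw [← finsum_sub_distrib
    (c1_support_finite δ' ((Scheme.Modules.pullback f).obj L) α'
      (Cyc.gysinChoice ((Scheme.Modules.pullback f).obj L) s' w') (pullback.fst f i z))
    (c1_support_finite δ' ((Scheme.Modules.pullback f).obj L) α' u' (pullback.fst f i z))]
  refine finsum_eq_of_injective_of_support (fun ξ : ↥(pullback f i) => pullback.fst f i ξ) hinj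
    _ _ (fun ξ => ?_) (fun ξ' hξ' => ?_)
  · show α' (pullback.fst f i ξ) * Cyc.secDivFun δ' ((Scheme.Modules.pullback f).obj L)
          (pullback.fst f i ξ)
          (Cyc.gysinChoice ((Scheme.Modules.pullback f).obj L) s' w' (pullback.fst f i ξ))
          (pullback.fst f i z) -
        α' (pullback.fst f i ξ) * Cyc.secDivFun δ' ((Scheme.Modules.pullback f).obj L)
          (pullback.fst f i ξ) (u' (pullback.fst f i ξ)) (pullback.fst f i z) =
      b ξ * Cyc.divFun (fun z => δ' (pullback.fst f i z)) ξ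
        (((pullback.fst f i).residueFieldMap ξ).hom
          (X'.residue (pullback.fst f i ξ) (a (pullback.fst f i ξ)))) z
    rw [hb ξ, ← mul_sub]
    congr 1
    refine Eq.trans ?_ (divFun_closedImmersion (pullback.fst f i) δ'
      (fun z => δ' (pullback.fst f i z)) (fun _ => rfl) ξ
      (X'.residue (pullback.fst f i ξ) (a (pullback.fst f i ξ))) z)
    unfold Cyc.secDivFun Cyc.divFun
    split_ifs with hcnd
    · rw [hsa (pullback.fst f i ξ), secOrdAt_smul hLinv' hcnd.1 (u' (pullback.fst f i ξ))
        (hu' (pullback.fst f i ξ)) (a (pullback.fst f i ξ)) (ha (pullback.fst f i ξ))]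
      ring
    · rw [sub_zero]
  · show α' ξ' * Cyc.secDivFun δ' ((Scheme.Modules.pullback f).obj L) ξ'
          (Cyc.gysinChoice ((Scheme.Modules.pullback f).obj L) s' w' ξ') (pullback.fst f i z) -
        α' ξ' * Cyc.secDivFun δ' ((Scheme.Modules.pullback f).obj L) ξ' (u' ξ')
          (pullback.fst f i z) = 0
    have hE : Cyc.secDivFun δ' ((Scheme.Modules.pullback f).obj L) ξ'
          (Cyc.gysinChoice ((Scheme.Modules.pullback f).obj L) s' w' ξ') (pullback.fst f i z) =
        Cyc.secDivFun δ' ((Scheme.Modules.pullback f).obj L) ξ' (u' ξ')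
          (pullback.fst f i z) := by
      have hne' : (Submodule.Quotient.mk
          (((Scheme.Modules.pullback f).obj L).presheaf.germ ⊤ ξ' trivial s') :
          Cyc.secFibre ((Scheme.Modules.pullback f).obj L) ξ') ≠ 0 := by
        intro h0
        apply hξ'
        have hmem : ξ' ∈ Set.range ⇑(pullback.fst f i) := by
          rw [hD'.1]
          exact h0
        exact hmem
      have hfξ : f ξ' ∉ Set.range ⇑i := by
        intro hmem
        apply hξ'
        have hmem' : ξ' ∈ Set.range ⇑(pullback.fst f i) := by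
          rw [Scheme.Pullback.range_fst]
          exact hmem
        exact hmem'
      have hne : (Submodule.Quotient.mk (L.presheaf.germ ⊤ (f ξ') trivial s) :
          Cyc.secFibre L (f ξ')) ≠ 0 := by
        intro h0
        apply hfξ
        rw [hD.1]
        exact h0
      have hv'ξ : Cyc.gysinChoice ((Scheme.Modules.pullback f).obj L) s' w' ξ' =
          Submodule.Quotient.mk
            (((Scheme.Modules.pullback f).obj L).presheaf.germ ⊤ ξ' trivial s') := by
        unfold Cyc.gysinChoice
        rw [if_pos hne']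
      have hvξ : Cyc.gysinChoice L s w (f ξ') =
          Submodule.Quotient.mk (L.presheaf.germ ⊤ (f ξ') trivial s) := by
        unfold Cyc.gysinChoice
        rw [if_pos hne]
      unfold Cyc.secDivFun
      split_ifs with hcnd
      · rw [hv'ξ]
        exact secOrdAt_gysin_eq f hL s i hD s' hD' z ξ' hcnd.1 hne' (u' ξ')
          (fun V' e' hg' hxV' hξV' φ hφ =>
            hord ξ' (pullback.fst f i z) hcnd.1 V' e' hg' hxV' hξV' φ (hvξ.trans hφ))
      · rfl
    rw [hE, sub_self]

end Groth.Agent.S1933
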