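import Groth.Statements.S19330
import Mathlib
import Groth.Agent.Lib.Helper17.ClosureInterior

set_option autoImplicit false
universe u
open CategoryTheory CategoryTheory.Limits AlgebraicGeometry TopologicalSpace
open ModPair

namespace Groth.Agent.S19330

/-- Let (S, I) be a modulus pair, i.e. a scheme with the quasi-coherent ideal sheaf of an effective
Cartier divisor, with interior U, and let g_i : V_i ⟶ U be a jointly surjective family of closed
immersions into the interior. Let V̄_i be the scheme-theoretic image of V_i ⟶ U ⟶ S. Then the closed
immersions V̄_i ⟶ S are jointly surjective, the modulus restricted to each V̄_i is again the ideal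
sheaf of an effective Cartier divisor (so that V̄_i ⟶ S is a minimal morphism of modulus pairs), and
the interior of V̄_i is V_i: the canonical morphism V_i ⟶ V̄_i is an open immersion whose image is
the preimage of U. -/
theorem result {S : Scheme.{u}} (I : S.IdealSheafData)
    (hI : BlowUp.IsEffCartierIdeal I) {ι : Type u} (V : ι → Scheme.{u})
    (g : ∀ i, V i ⟶ (ModPair.interior I : Scheme.{u})) [∀ i, IsClosedImmersion (g i)]
    (hsurj : ∀ u : (ModPair.interior I : Scheme.{u}), ∃ (i : ι) (v : V i), (g i).base v = u) :
    (∀ s : S, ∃ (i : ι) (v : (g i ≫ (ModPair.interior I).ι).image),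
        (g i ≫ (ModPair.interior I).ι).imageι.base v = s) ∧
      (∀ i, BlowUp.IsEffCartierIdeal (I.comap (g i ≫ (ModPair.interior I).ι).imageι)) ∧
      ∀ i, IsOpenImmersion (g i ≫ (ModPair.interior I).ι).toImage ∧
        Set.range (g i ≫ (ModPair.interior I).ι).toImage.base =
          (g i ≫ (ModPair.interior I).ι).imageι.base ⁻¹' (ModPair.interior I : Set S) := by
  haveI : QuasiCompact (ModPair.interior I).ι :=
    Groth.Agent.Lib.Helper17.SchImage.quasiCompact_ι_interior I hI
  refine ⟨?_, ?_, ?_⟩
  · intro s
    exact Groth.Agent.Lib.Helper17.ClosureInterior.exists_mem_imageι I hI V g hsurj s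
  · intro i
    refine Groth.Agent.Lib.Helper17.SchImage.isEffCartierIdeal_comap_imageι
      (g i ≫ (ModPair.interior I).ι) I
      (Groth.Agent.Lib.Helper17.SchImage.isLocallyPrincipal_of_isEffCartierIdeal hI) ?_
    intro o
    rw [Scheme.Hom.comp_apply]
    exact (g i o).2
  · intro i
    exact Groth.Agent.Lib.Helper17.ClosureInterior.isOpenImmersion_toImage
      (ModPair.interior I) (g i)

end Groth.Agent.S19330
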