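import Groth.Statements.S19333
import Mathlib

set_option autoImplicit false
universe u
open ModPair

namespace Groth.Agent.S19333

/-- Let A → B be any homomorphism of commutative rings. An element x of B is integral over A if and only
if for every field K, every valuation subring R of K and every ring homomorphism φ : B → K which
sends the image of A into R, the element φ(x) lies in R. In other words the integral closure of A in
B is the intersection of the subrings R ×_K B taken over all commutative squares A → R ⊆ K ← B with
R a valuation ring of the field K. -/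
theorem result {A B : Type u} [CommRing A]
    [CommRing B] [Algebra A B] (x : B) :
    x ∈ integralClosure A B ↔
      ∀ (K : Type u) [Field K] (R : ValuationSubring K) (φ : B →+* K),
        (∀ a : A, φ (algebraMap A B a) ∈ R) → φ x ∈ R := by
  classical
  constructor
  · -- integral ⇒ lands in every valuation ring
    intro hx K _ R φ hA
    have hx' : IsIntegral A x := hx
    let ψ : A →+* R := (φ.comp (algebraMap A B)).codRestrict R.toSubring (fun a => hA a)
    have hcomp : (algebraMap R K).comp ψ = φ.comp (algebraMap A B) := by
      ext a
      rfl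
    have h1 : IsIntegral R (φ x) := hx'.map_of_comp_eq ψ φ hcomp
    haveI : IsIntegrallyClosedIn R K := inferInstance
    obtain ⟨y, hy⟩ := (IsIntegrallyClosedIn.isIntegral_iff (R := R) (A := K)).mp h1
    rw [← hy]
    exact y.2
  · -- converse by contraposition
    intro hall
    by_contra hx
    -- the multiplicative set of values of monic polynomials at x
    let S : Submonoid B :=
      { carrier := {b | ∃ p : Polynomial A, p.Monic ∧ Polynomial.aeval x p = b}
        one_mem' := ⟨1, Polynomial.monic_one, by simp⟩
        mul_mem' := by
          rintro _ _ ⟨p, hp, rfl⟩ ⟨p', hp', rfl⟩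
          exact ⟨p * p', hp.mul hp', by simp⟩ }
    have h0 : (0 : B) ∉ S := by
      rintro ⟨p, hp, hp0⟩
      exact hx ⟨p, hp, hp0⟩
    have hdisj : Disjoint ((⊥ : Ideal B) : Set B) (S : Set B) := by
      rw [Set.disjoint_left]
      intro b hb hbS
      have : b = 0 := hb
      rw [this] at hbS
      exact h0 hbS
    obtain ⟨q, hqprime, -, hqS⟩ := Ideal.exists_le_prime_disjoint (⊥ : Ideal B) S hdisj
    haveI := hqprime
    let K := FractionRing (B ⧸ q)
    let φ : B →+* K := (algebraMap (B ⧸ q) K).comp (Ideal.Quotient.mk q)
    let f : A →+* K := φ.comp (algebraMap A B)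
    have hallV : ∀ V : ValuationSubring K, (∀ a, f a ∈ V) → φ x ∈ V := by
      intro V hV
      exact hall K V φ hV
    have key : φ x ∈ (integralClosure (Subring.closure (Set.range f)) K).toSubring := by
      rw [← iInf_valuationSubring_superset, Subring.mem_iInf]
      rintro ⟨V, hV⟩
      exact hallV V (fun a => hV ⟨a, rfl⟩)
    have key' : IsIntegral (Subring.closure (Set.range f)) (φ x) := key
    have hT : Subring.closure (Set.range f) = f.range := by
      rw [← RingHom.coe_range, Subring.closure_eq]
    let g : A →+* Subring.closure (Set.range f) :=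
      f.codRestrict (Subring.closure (Set.range f)) (fun a => Subring.subset_closure ⟨a, rfl⟩)
    have hg : Function.Surjective g := by
      rintro ⟨t, ht⟩
      have ht' : t ∈ f.range := hT ▸ ht
      obtain ⟨a, ha⟩ := ht'
      exact ⟨a, Subtype.ext ha⟩
    obtain ⟨P, hPmonic, hP0⟩ := key'
    have hPl : P ∈ Polynomial.lifts g := by
      obtain ⟨p0, hp0⟩ := Polynomial.map_surjective g hg P
      exact ⟨p0, hp0⟩
    obtain ⟨p, hpP, -, hpmonic⟩ := Polynomial.lifts_and_natDegree_eq_and_monic hPl hPmonic
    have hgf : (algebraMap (Subring.closure (Set.range f)) K).comp g = f := by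
      ext a
      rfl
    have h1 : Polynomial.eval₂ f (φ x) p = 0 := by
      rw [← hgf, ← Polynomial.eval₂_map, hpP]
      exact hP0
    have h2 : φ (Polynomial.eval₂ (algebraMap A B) x p) = 0 := by
      rw [Polynomial.hom_eval₂]
      exact h1
    have h3 : Ideal.Quotient.mk q (Polynomial.eval₂ (algebraMap A B) x p) = 0 := by
      have hinj : Function.Injective (algebraMap (B ⧸ q) K) := IsFractionRing.injective _ _
      apply hinj
      rw [map_zero]
      exact h2
    have h4 : Polynomial.eval₂ (algebraMap A B) x p ∈ q := Ideal.Quotient.eq_zero_iff_mem.mp h3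
    have h5 : Polynomial.eval₂ (algebraMap A B) x p ∈ S := ⟨p, hpmonic, rfl⟩
    exact Set.disjoint_left.mp hqS h4 h5

end Groth.Agent.S19333
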