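import Groth.Statements.S19338
import Mathlib

set_option autoImplicit false
universe w v u
open CategoryTheory
open ModPair

namespace Groth.Agent.S19338

/-- Let C be a category and S a class of morphisms which contains the identities, is closed under
composition, admits a right calculus of fractions, and consists of monomorphisms. Then the sieves
containing a morphism of S are the covering sieves of a Grothendieck topology on C, and for every
such topology J a presheaf of types F on C is a J-sheaf if and only if it is S-local, i.e. F sends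
every morphism of S to a bijection. -/
theorem result {C : Type u} [Category.{v} C]
    (S : MorphismProperty C) [S.HasRightCalculusOfFractions]
    (hmono : ∀ ⦃X Y : C⦄ (s : X ⟶ Y), S s → Mono s) :
    (∃ J : GrothendieckTopology C, ∀ (X : C) (T : Sieve X),
        T ∈ J X ↔ ∃ (Y : C) (s : Y ⟶ X), S s ∧ T s) ∧
      ∀ J : GrothendieckTopology C, (∀ (X : C) (T : Sieve X),
          T ∈ J X ↔ ∃ (Y : C) (s : Y ⟶ X), S s ∧ T s) →
        ∀ F : Cᵒᵖ ⥤ Type w,
          Presheaf.IsSheaf J F ↔ ∀ ⦃X Y : C⦄ (s : X ⟶ Y), S s → IsIso (F.map s.op) := by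
  classical
  have hfrac : ∀ ⦃X X' Y : C⦄ (f : X' ⟶ X) (s : Y ⟶ X), S s →
      ∃ (Z : C) (t : Z ⟶ X') (g : Z ⟶ Y), S t ∧ t ≫ f = g ≫ s := by
    intro X X' Y f s hs
    obtain ⟨ψ, hψ⟩ := MorphismProperty.HasRightCalculusOfFractions.exists_rightFraction (W := S)
      (MorphismProperty.LeftFraction.mk f s hs)
    exact ⟨ψ.X', ψ.s, ψ.f, ψ.hs, hψ⟩
  refine ⟨⟨{ sieves := fun X => {T | ∃ (Y : C) (s : Y ⟶ X), S s ∧ T s}
             top_mem' := fun X => ⟨X, 𝟙 X, S.id_mem X, trivial⟩
             pullback_stable' := ?_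
             transitive' := ?_ }, fun X T => Iff.rfl⟩, ?_⟩
  · intro X X' T f hT
    obtain ⟨Y, s, hs, hTs⟩ := hT
    obtain ⟨Z, t, g, ht, htg⟩ := hfrac f s hs
    refine ⟨Z, t, ht, ?_⟩
    change T (t ≫ f)
    rw [htg]
    exact T.downward_closed hTs g
  · intro X T hT R hR
    obtain ⟨Y, s, hs, hTs⟩ := hT
    obtain ⟨Z, t, ht, hRt⟩ := hR hTs
    exact ⟨Z, t ≫ s, S.comp_mem t s ht hs, hRt⟩
  · intro J hJ F
    rw [isSheaf_iff_isSheaf_of_type]
    constructor
    · -- sheaf ⇒ inverts S
      intro hF X Y s hs
      haveI : Mono s := hmono s hs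
      rw [isIso_iff_bijective]
      let T : Sieve Y :=
        { arrows := fun Z f => ∃ g : Z ⟶ X, g ≫ s = f
          downward_closed := by
            rintro Z Z' f ⟨g, rfl⟩ h
            exact ⟨h ≫ g, Category.assoc _ _ _⟩ }
      have hTJ : T ∈ J Y := (hJ Y T).mpr ⟨X, s, hs, ⟨𝟙 X, Category.id_comp s⟩⟩
      have hsh := hF T hTJ
      constructor
      · intro a b hab
        apply hsh.isSeparatedFor.ext
        rintro Z f ⟨g, rfl⟩
        rw [op_comp, Functor.map_comp_apply, Functor.map_comp_apply, hab]
      · intro x₀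
        let x : Presieve.FamilyOfElements F T.arrows := fun Z f hf => F.map hf.choose.op x₀
        have hx : x.Compatible := by
          intro Y₁ Y₂ Z g₁ g₂ f₁ f₂ h₁ h₂ hcomm
          change F.map g₁.op (F.map h₁.choose.op x₀) = F.map g₂.op (F.map h₂.choose.op x₀)
          rw [← Functor.map_comp_apply, ← Functor.map_comp_apply, ← op_comp, ← op_comp]
          have h3 : g₁ ≫ h₁.choose = g₂ ≫ h₂.choose := by
            rw [← cancel_mono s, Category.assoc, Category.assoc, h₁.choose_spec, h₂.choose_spec]
            exact hcomm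
          rw [h3]
        obtain ⟨t, ht, -⟩ := hsh x hx
        refine ⟨t, ?_⟩
        have hs' : T.arrows s := ⟨𝟙 X, Category.id_comp s⟩
        have h4 := ht s hs'
        rw [h4]
        change F.map hs'.choose.op x₀ = x₀
        have h5 : hs'.choose = 𝟙 X := by
          rw [← cancel_mono s, hs'.choose_spec, Category.id_comp]
        rw [h5, op_id, Functor.map_id_apply]
    · -- inverts S ⇒ sheaf
      intro hinv X T hT
      obtain ⟨Y, s, hs, hTs⟩ := (hJ X T).mp hT
      have hbij := (isIso_iff_bijective (F.map s.op)).mp (hinv s hs)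
      intro x hx
      obtain ⟨a, ha⟩ := hbij.2 (x s hTs)
      refine ⟨a, ?_, ?_⟩
      · intro Z f hf
        obtain ⟨Z', t, g, ht, htg⟩ := hfrac f s hs
        have hbij' := (isIso_iff_bijective (F.map t.op)).mp (hinv t ht)
        apply hbij'.1
        rw [← Functor.map_comp_apply, ← op_comp, htg, op_comp, Functor.map_comp_apply, ha]
        exact hx g t hTs hf htg.symm
      · intro b hb
        apply hbij.1
        rw [ha]
        exact hb s hTs

end Groth.Agent.S19338
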