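import Groth.Statements.S19340
import Mathlib

set_option autoImplicit false
universe v v' u u'
open CategoryTheory
open ModPair

namespace Groth.Agent.S19340

/-- Let C be a category, S a class of morphisms of C containing the identities, closed under composition
and admitting a right calculus of fractions, and L : C ⥤ D a localization functor for S. Then for
every object X of C the comma category of L under X, whose objects are pairs (Y, L(X) ⟶ L(Y)) and
whose morphisms are morphisms Y ⟶ Y' of C compatible with the structure maps, is cofiltered. The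
published statement calls this category filtered; its proof verifies, and this row states,
cofilteredness. -/
theorem result {C : Type u}
    [Category.{v} C] {D : Type u'} [Category.{v'} D] (S : MorphismProperty C)
    [S.HasRightCalculusOfFractions] (L : C ⥤ D) [L.IsLocalization S] (X : C) :
    IsCofiltered (StructuredArrow (L.obj X) L) := by
  classical
  have hinv : S.IsInvertedBy L := Localization.inverts L S
  -- every morphism L X ⟶ L Y is a right fraction
  have hfr : ∀ {Y : C} (φ : L.obj X ⟶ L.obj Y),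
      ∃ (X' : C) (s : X' ⟶ X) (f : X' ⟶ Y), S s ∧ L.map s ≫ φ = L.map f := by
    intro Y φ
    obtain ⟨ψ, hψ⟩ := Localization.exists_rightFraction L S φ
    refine ⟨ψ.X', ψ.s, ψ.f, ψ.hs, ?_⟩
    rw [hψ]
    exact MorphismProperty.RightFraction.map_s_comp_map ψ L hinv
  haveI : Nonempty (StructuredArrow (L.obj X) L) :=
    ⟨StructuredArrow.mk (Y := X) (𝟙 (L.obj X))⟩
  refine { cone_objs := ?_, cone_maps := ?_, nonempty := this }
  · intro A₁ A₂
    obtain ⟨X₁, s₁, f₁, hs₁, e₁⟩ := hfr A₁.hom
    obtain ⟨X₂, s₂, f₂, hs₂, e₂⟩ := hfr A₂.hom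
    obtain ⟨ψ, hψ⟩ := MorphismProperty.HasRightCalculusOfFractions.exists_rightFraction (W := S)
      (MorphismProperty.LeftFraction.mk s₁ s₂ hs₂)
    have hs₃ : S (ψ.s ≫ s₁) := S.comp_mem _ _ ψ.hs hs₁
    haveI : IsIso (L.map (ψ.s ≫ s₁)) := hinv _ hs₃
    have hψ' : ψ.s ≫ s₁ = ψ.f ≫ s₂ := hψ
    refine ⟨StructuredArrow.mk (Y := ψ.X') (inv (L.map (ψ.s ≫ s₁))),
      StructuredArrow.homMk (ψ.s ≫ f₁) ?_, StructuredArrow.homMk (ψ.f ≫ f₂) ?_, trivial⟩
    · change inv (L.map (ψ.s ≫ s₁)) ≫ L.map (ψ.s ≫ f₁) = A₁.hom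
      rw [IsIso.inv_comp_eq, L.map_comp, L.map_comp, Category.assoc, e₁]
    · change inv (L.map (ψ.s ≫ s₁)) ≫ L.map (ψ.f ≫ f₂) = A₂.hom
      rw [IsIso.inv_comp_eq, hψ', L.map_comp, L.map_comp, Category.assoc, e₂]
  · intro A₁ A₂ g g'
    obtain ⟨X', s, f, hs, e⟩ := hfr A₁.hom
    have hg : A₁.hom ≫ L.map g.right = A₂.hom := StructuredArrow.w g
    have hg' : A₁.hom ≫ L.map g'.right = A₂.hom := StructuredArrow.w g'
    have heq : L.map (f ≫ g.right) = L.map (f ≫ g'.right) := by
      rw [L.map_comp, L.map_comp, ← e, Category.assoc, Category.assoc, hg, hg']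
    obtain ⟨X'', t, ht, htf⟩ := (MorphismProperty.map_eq_iff_precomp L S _ _).mp heq
    have hs₃ : S (t ≫ s) := S.comp_mem _ _ ht hs
    haveI : IsIso (L.map (t ≫ s)) := hinv _ hs₃
    refine ⟨StructuredArrow.mk (Y := X'') (inv (L.map (t ≫ s))),
      StructuredArrow.homMk (t ≫ f) ?_, ?_⟩
    · change inv (L.map (t ≫ s)) ≫ L.map (t ≫ f) = A₁.hom
      rw [IsIso.inv_comp_eq, L.map_comp, L.map_comp, Category.assoc, e]
    · apply StructuredArrow.hom_ext
      change (t ≫ f) ≫ g.right = (t ≫ f) ≫ g'.right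
      rw [Category.assoc, Category.assoc]
      exact htf

end Groth.Agent.S19340
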