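import Groth.Statements.S19348
-- import your own Groth.Agent.* helpers here

set_option autoImplicit false
universe u
open RigCh

namespace Groth.Agent.S19348

/-- Let p be a prime and m a natural number, P a commutative ring complete and separated for the p-adic
topology, and I an ideal of P with a divided power structure of level m, that is a sub-ideal J of I
endowed with divided powers such that x ^ (p ^ m) and p * x lie in J for all x in I. Then an element
of P whose class in P / I is invertible is invertible in P. (The source states this for a lift of a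
unit to the p-adically completed level-m divided power envelope of a closed immersion; the statement
here keeps exactly what its argument uses: completeness for p and the level-m divided powers on the
kernel.) -/
theorem result (p : ℕ) [Fact p.Prime] (m : ℕ)
    (P : Type u) [CommRing P] [IsAdicComplete (Ideal.span {(p : P)}) P]
    (I J : Ideal P) (hJ : DividedPowers J) (hJI : J ≤ I)
    (hpow : ∀ x ∈ I, x ^ (p ^ m) ∈ J) (hmul : ∀ x ∈ I, (p : P) * x ∈ J)
    (u : P) (hu : IsUnit (Ideal.Quotient.mk I u)) : IsUnit u := by
  obtain ⟨w, hw⟩ := hu.exists_right_inv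
  obtain ⟨v, rfl⟩ := Ideal.Quotient.mk_surjective w
  have hx : u * v - 1 ∈ I := by
    rw [← Ideal.Quotient.eq, map_mul, map_one]; exact hw
  have h1 : (u * v - 1) ^ (p ^ m) ∈ J := hpow _ hx
  have h2 : ((u * v - 1) ^ (p ^ m)) ^ p ∈ Ideal.span {(p : P)} := by
    rw [← hJ.factorial_mul_dpow_eq_pow h1]
    apply Ideal.mul_mem_right
    rw [Ideal.mem_span_singleton]
    have hp : p ∣ p.factorial := Nat.dvd_factorial (Fact.out : p.Prime).pos le_rfl
    exact_mod_cast Nat.cast_dvd_cast (α := P) hp
  have h3 : u * v - 1 ∈ (⊥ : Ideal P).jacobson := by
    apply (Ideal.isRadical_jacobson (⊥ : Ideal P))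
    refine ⟨p ^ m * p, ?_⟩
    rw [pow_mul]
    exact IsAdicComplete.le_jacobson_bot (Ideal.span {(p : P)}) h2
  have h4 : IsUnit (u * v) := Ideal.isUnit_of_sub_one_mem_jacobson_bot _ h3
  exact isUnit_of_mul_isUnit_left h4

end Groth.Agent.S19348
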