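import Groth.Statements.S19350
import Mathlib
import Groth.Agent.Lib.Helper17.StrictFlat
import Groth.Agent.Lib.Helper17.PinchGeom
import Groth.Agent.Lib.Helper17.PbFlat
import Groth.Agent.Lib.Helper3.LocFreeCrit

set_option autoImplicit false
universe u
open RigCh

namespace Groth.Agent.S19350

open AlgebraicGeometry CategoryTheory in
/-- Let X be a separated scheme of finite type over a field k, I a quasi-coherent ideal sheaf on X, b :
X' → X a blowing up of X in I and F a finite locally free O_X-module. Then for any strict transform
G of F along b (an epimorphism π from the pullback of F onto G whose kernel consists,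
affine-locally, of the sections annihilated by a power of the exceptional ideal), π is an
isomorphism and G is finite locally free. (The published statement asserts only that the strict
transform is locally free. The source assumes k of positive characteristic, which plays no role
here.) -/
theorem result (k : Type u) [Field k]
    (X : Scheme.{u}) (f : X ⟶ Spec (CommRingCat.of k)) [IsSeparated f] [QuasiCompact f] [LocallyOfFiniteType f]
    (I : X.IdealSheafData) {X' : Scheme.{u}} (b : X' ⟶ X) (hb : BlowUp.IsBlowUp b I)
    (F : X.Modules) (hF : FlatMod.IsFinLocFree F) (G : X'.Modules) (π : (Scheme.Modules.pullback b).obj F ⟶ G)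
    (hG : BlowUp.IsStrictTransform b I F G π) : IsIso π ∧ FlatMod.IsFinLocFree G := by
  haveI : F.IsQuasicoherent :=
    Groth.Agent.Lib.Helper3.LocFreeCrit.isQuasicoherent_of_isFinLocFree hF
  have hflat : ∀ s : X, s ∈ I.support → FlatMod.IsFlatAt F s := fun s _ =>
    Groth.Agent.Lib.Helper17.FinLocFreeSec.isFlat_of_isFinLocFree F hF s
  obtain ⟨hepi, hker⟩ := hG
  haveI := hepi
  haveI : Mono π := by
    apply Groth.Agent.Lib.Helper17.PbFlat.mono_of_injective_on_basis
    intro W x hx
    obtain ⟨V, hV, hxV, hVW⟩ :=
      TopologicalSpace.Opens.isBasis_iff_nbhd.mp X'.isBasis_affineOpens hx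
    refine ⟨V, hxV, hVW, ?_⟩
    intro m m' hmm
    have h0 : π.app V (m - m') = 0 := by rw [map_sub, hmm, sub_self]
    have h1 := (hker ⟨V, hV⟩ (m - m')).mp h0
    exact sub_eq_zero.mp
      (Groth.Agent.Lib.Helper17.StrictFlat.eq_zero_of_killedByPowerNear b I hb.1 F hflat
        ⟨V, hV⟩ _ h1)
  haveI : IsIso π := isIso_of_mono_of_epi π
  exact ⟨inferInstance, Groth.Agent.Lib.Helper3.LocFreeCrit.isFinLocFree_of_iso (asIso π)
    (Groth.Agent.Lib.Helper17.PinchGeom.isFinLocFree_pullback b F hF)⟩

end Groth.Agent.S19350
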