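import Mathlib
import Groth.Statements.S19356
-- import your own Groth.Agent.* helpers here

set_option autoImplicit false
universe u
open AbVar

namespace Groth.Agent.S19356

section aux
variable {R : Type u} [Ring R] [Algebra ℚ R] [Module.Finite ℚ R] [StarRing R] [StarModule ℚ R]

/-- the bilinear form `(s,t) ↦ σ (s * star t)` on a subalgebra -/
noncomputable def bform (σ : R →ₗ[ℚ] ℚ) (S : Subalgebra ℚ R) : LinearMap.BilinForm ℚ S :=
  LinearMap.mk₂ ℚ (fun s t : S => σ ((s : R) * star (t : R)))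
    (by intros; simp [add_mul])
    (by intros; simp)
    (by intros; simp [mul_add])
    (by intros; simp)

theorem bound (σ : R →ₗ[ℚ] ℚ) (hpos : ∀ x : R, x ≠ 0 → 0 < σ (x * star x))
    (S : Subalgebra ℚ R) (ρ : S →ₐ[ℚ] ℂ) :
    ∃ C : ℝ, ∀ s : S, ‖ρ s‖ ^ 2 ≤ C * ((σ ((s : R) * star (s : R)) : ℚ) : ℝ) := by
  obtain ⟨w, ⟨e⟩⟩ := QuadraticForm.equivalent_weightedSumSquares (bform σ S).toQuadraticMap
  have he : ∀ s : S, ∑ i, w i * (e s i * e s i) = σ ((s : R) * star (s : R)) := by
    intro s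
    have := e.map_app s
    rw [QuadraticMap.weightedSumSquares_apply] at this
    simpa [bform] using this
  -- the basis vectors
  let u : Fin (Module.finrank ℚ S) → S := fun i => e.symm (Pi.single i 1)
  have heu : ∀ i, e (u i) = Pi.single i 1 := fun i => e.apply_symm_apply _
  have hw : ∀ i, 0 < w i := by
    intro i
    have h1 := he (u i)
    rw [heu] at h1
    have hne : (u i : R) ≠ 0 := by
      intro h
      have h2 : u i = 0 := Subtype.ext h
      have h3 := heu i
      rw [h2, map_zero] at h3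
      have := congr_fun h3 i
      simp at this
    have h2 := hpos _ hne
    rw [← h1] at h2
    simpa [Pi.single_apply] using h2
  have hdecomp : ∀ s : S, ρ s = ∑ i, ((e s i : ℚ) : ℂ) * ρ (u i) := by
    intro s
    have h1 : s = ∑ i, e s i • u i := by
      apply e.injective
      rw [map_sum]
      funext j
      simp [heu, Finset.sum_apply, Pi.single_apply]
    conv_lhs => rw [h1]
    rw [map_sum]
    refine Finset.sum_congr rfl fun i _ => ?_
    rw [map_smul, Algebra.smul_def]
    simp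
  refine ⟨(Module.finrank ℚ S : ℝ) * ∑ i, ‖ρ (u i)‖ ^ 2 / ((w i : ℚ) : ℝ), fun s => ?_⟩
  have hQ : ∀ i, ((e s i : ℚ) : ℝ) ^ 2 ≤ ((σ ((s : R) * star (s : R)) : ℚ) : ℝ) / ((w i : ℚ) : ℝ) := by
    intro i
    have hwi : (0 : ℝ) < ((w i : ℚ) : ℝ) := by exact_mod_cast hw i
    rw [le_div_iff₀ hwi]
    have h1 : w i * (e s i * e s i) ≤ σ ((s : R) * star (s : R)) := by
      rw [← he s]
      exact Finset.single_le_sum (f := fun i => w i * (e s i * e s i))
        (fun j _ => mul_nonneg (hw j).le (mul_self_nonneg _)) (Finset.mem_univ i)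
    have h2 : ((w i * (e s i * e s i) : ℚ) : ℝ) ≤ ((σ ((s : R) * star (s : R)) : ℚ) : ℝ) := by
      exact_mod_cast h1
    push_cast at h2
    nlinarith
  rw [hdecomp s]
  calc ‖∑ i, ((e s i : ℚ) : ℂ) * ρ (u i)‖ ^ 2
      ≤ (∑ i, |((e s i : ℚ) : ℝ)| * ‖ρ (u i)‖) ^ 2 := by
        gcongr
        refine (norm_sum_le _ _).trans (le_of_eq ?_)
        refine Finset.sum_congr rfl fun i _ => ?_
        rw [norm_mul]
        simp
    _ ≤ (Module.finrank ℚ S : ℝ) * ∑ i, (|((e s i : ℚ) : ℝ)| * ‖ρ (u i)‖) ^ 2 := by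
        have := sq_sum_le_card_mul_sum_sq (s := (Finset.univ : Finset (Fin (Module.finrank ℚ S))))
          (f := fun i => |((e s i : ℚ) : ℝ)| * ‖ρ (u i)‖)
        simpa using this
    _ ≤ (Module.finrank ℚ S : ℝ) * ∑ i, ((σ ((s : R) * star (s : R)) : ℚ) : ℝ) / ((w i : ℚ) : ℝ) * ‖ρ (u i)‖ ^ 2 := by
        gcongr with i _
        rw [mul_pow, sq_abs]
        gcongr
        exact hQ i
    _ = _ := by
        rw [Finset.mul_sum, Finset.mul_sum, Finset.sum_mul]
        refine Finset.sum_congr rfl fun i _ => ?_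
        ring

theorem comm_of_mem_adjoin (α s : R) (hs : s ∈ Algebra.adjoin ℚ ({α} : Set R)) :
    s * α = α * s := by
  rw [Algebra.adjoin_singleton_eq_range_aeval] at hs
  obtain ⟨p, rfl⟩ := hs
  have h1 : Polynomial.aeval α (p * Polynomial.X) = Polynomial.aeval α (Polynomial.X * p) := by
    rw [mul_comm]
  simpa using h1

theorem star_mem (α : R) (q : ℚ) (hq : q ≠ 0)
    (hα : α * star α = algebraMap ℚ R q) : star α ∈ Algebra.adjoin ℚ ({α} : Set R) := by
  set S := Algebra.adjoin ℚ ({α} : Set R) with hS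
  have hαS : α ∈ S := Algebra.self_mem_adjoin_singleton ℚ α
  -- β is a right inverse of α
  set β : R := q⁻¹ • star α with hβ
  have hαβ : α * β = 1 := by
    rw [hβ, mul_smul_comm, hα, Algebra.algebraMap_eq_smul_one, smul_smul, inv_mul_cancel₀ hq,
      one_smul]
  -- multiplication by α on S is injective
  let L : S →ₗ[ℚ] S := LinearMap.mulLeft ℚ (⟨α, hαS⟩ : S)
  have hinj : Function.Injective L := by
    rw [← LinearMap.ker_eq_bot, LinearMap.ker_eq_bot']
    intro s hs
    have h1 : α * (s : R) = 0 := by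
      have := congrArg Subtype.val hs
      simpa [L] using this
    have h2 : (s : R) * α = 0 := by rw [comm_of_mem_adjoin α s s.2, h1]
    have h3 : (s : R) = 0 := by
      calc (s : R) = (s : R) * (α * β) := by rw [hαβ, mul_one]
        _ = ((s : R) * α) * β := by rw [mul_assoc]
        _ = 0 := by rw [h2, zero_mul]
    exact Subtype.ext h3
  have hsurj : Function.Surjective L := LinearMap.surjective_of_injective hinj
  obtain ⟨b, hb⟩ := hsurj 1
  have hb1 : α * (b : R) = 1 := by
    have := congrArg Subtype.val hb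
    simpa [L] using this
  have hb2 : (b : R) * α = 1 := by rw [comm_of_mem_adjoin α b b.2, hb1]
  have hbβ : (b : R) = β := by
    calc (b : R) = (b : R) * (α * β) := by rw [hαβ, mul_one]
      _ = ((b : R) * α) * β := by rw [mul_assoc]
      _ = β := by rw [hb2, one_mul]
  have h4 : star α = q • β := by
    rw [hβ, smul_smul, mul_inv_cancel₀ hq, one_smul]
  rw [h4, ← hbβ]
  exact S.smul_mem b.2 q

theorem norm_sq_le (σ : R →ₗ[ℚ] ℚ) (hpos : ∀ x : R, x ≠ 0 → 0 < σ (x * star x))
    (S : Subalgebra ℚ R) (ρ : S →ₐ[ℚ] ℂ) (b : S) (q : ℚ) (hq : 0 < q)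
    (hb : (b : R) * star (b : R) = algebraMap ℚ R q) : ‖ρ b‖ ^ 2 ≤ (q : ℝ) := by
  obtain ⟨C, hC⟩ := bound σ hpos S ρ
  have hpow : ∀ n : ℕ, (b : R) ^ n * star ((b : R) ^ n) = algebraMap ℚ R (q ^ n) := by
    intro n
    induction n with
    | zero => simp
    | succ n ih =>
      calc (b : R) ^ (n + 1) * star ((b : R) ^ (n + 1))
          = (b : R) ^ n * ((b : R) * star (b : R)) * star ((b : R) ^ n) := by
            rw [pow_succ, star_mul]; simp only [mul_assoc]
        _ = algebraMap ℚ R q * ((b : R) ^ n * star ((b : R) ^ n)) := by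
            rw [hb, ← Algebra.commutes, mul_assoc]
        _ = algebraMap ℚ R (q ^ (n + 1)) := by
            rw [ih, ← map_mul, pow_succ, mul_comm]
  have hn : ∀ n : ℕ, (‖ρ b‖ ^ 2) ^ n ≤ C * ((q : ℝ) ^ n * ((σ 1 : ℚ) : ℝ)) := by
    intro n
    have h1 := hC (b ^ n)
    rw [map_pow, norm_pow, SubmonoidClass.coe_pow, hpow n, Algebra.algebraMap_eq_smul_one,
      map_smul] at h1
    rw [← pow_mul, mul_comm 2 n, pow_mul]
    refine h1.trans (le_of_eq ?_)
    simp
  by_contra hcon
  rw [not_le] at hcon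
  have hq' : (0 : ℝ) < (q : ℝ) := by exact_mod_cast hq
  have ht : 1 < ‖ρ b‖ ^ 2 / (q : ℝ) := by rwa [one_lt_div hq']
  obtain ⟨n, hn'⟩ := pow_unbounded_of_one_lt (C * ((σ 1 : ℚ) : ℝ)) ht
  have h2 := hn n
  rw [div_pow, lt_div_iff₀ (pow_pos hq' n)] at hn'
  nlinarith


end aux

/-- Let R be a finite-dimensional ℚ-algebra with a ℚ-linear involution x ↦ x† (an anti-automorphism of
order two) and a ℚ-linear functional σ with σ(x x†) > 0 for every x ≠ 0; this is the positivity of
the involution, σ being the trace of R over ℚ in the case of the endomorphism algebra of an abelian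
variety with a Rosati involution, and the trace on a cohomology group in the case of an algebra of
correspondences with the adjoint for a Weil form. Let α ∈ R with α α† = q for a rational number q.
Then α† lies in the subalgebra ℚ[α], and for every ℚ-algebra homomorphism ρ : ℚ[α] → ℂ one has ρ(α†)
= the complex conjugate of ρ(α) and |ρ(α)|² = q. (The published statement is for the endomorphism
algebra of an abelian variety with a Rosati involution, with σ its trace over ℚ and q an integer;
the form given here, for an arbitrary ℚ-linear functional σ positive on every x x† with x ≠ 0 and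
rational q, is what its proof establishes.) -/
theorem result (R : Type u) [Ring R] [Algebra ℚ R]
    [Module.Finite ℚ R] [StarRing R] [StarModule ℚ R]
    (σ : R →ₗ[ℚ] ℚ) (hpos : ∀ x : R, x ≠ 0 → 0 < σ (x * star x))
    (α : R) (q : ℚ) (hα : α * star α = algebraMap ℚ R q) :
    ∃ hmem : star α ∈ Algebra.adjoin ℚ ({α} : Set R),
      ∀ ρ : Algebra.adjoin ℚ ({α} : Set R) →ₐ[ℚ] ℂ,
        ρ ⟨star α, hmem⟩ = starRingEnd ℂ (ρ ⟨α, Algebra.self_mem_adjoin_singleton ℚ α⟩) ∧
          ‖ρ ⟨α, Algebra.self_mem_adjoin_singleton ℚ α⟩‖ ^ 2 = (q : ℝ) := by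
  by_cases hα0 : α = 0
  · subst hα0
    refine ⟨by rw [star_zero]; exact Subalgebra.zero_mem _, fun ρ => ?_⟩
    have hq0 : q = 0 := by
      have h1 : algebraMap ℚ (Algebra.adjoin ℚ ({(0 : R)} : Set R)) q = 0 := by
        apply Subtype.ext
        rw [Subalgebra.coe_algebraMap, ← hα]
        simp
      have h2 := congrArg ρ h1
      rw [AlgHom.commutes, map_zero] at h2
      simpa using h2
    subst hq0
    have e1 : (⟨star (0 : R), by rw [star_zero]; exact Subalgebra.zero_mem _⟩ :
        Algebra.adjoin ℚ ({(0 : R)} : Set R)) = 0 := Subtype.ext (star_zero R)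
    have e2 : (⟨(0 : R), Algebra.self_mem_adjoin_singleton ℚ 0⟩ :
        Algebra.adjoin ℚ ({(0 : R)} : Set R)) = 0 := rfl
    rw [e1, e2, map_zero]
    simp
  · -- α ≠ 0
    have hR : (1 : R) ≠ 0 := by
      intro h
      apply hα0
      rw [← mul_one α, h, mul_zero]
    have hσ1 : 0 < σ 1 := by
      have := hpos 1 hR
      simpa using this
    have hq : 0 < q := by
      have h1 := hpos α hα0
      rw [hα, Algebra.algebraMap_eq_smul_one, map_smul, smul_eq_mul] at h1
      by_contra hcon
      rw [not_lt] at hcon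
      nlinarith
    have hmem : star α ∈ Algebra.adjoin ℚ ({α} : Set R) := star_mem α q hq.ne' hα
    refine ⟨hmem, fun ρ => ?_⟩
    generalize ha : (⟨α, Algebra.self_mem_adjoin_singleton ℚ α⟩ : Algebra.adjoin ℚ ({α} : Set R)) = a
    generalize ha' : (⟨star α, hmem⟩ : Algebra.adjoin ℚ ({α} : Set R)) = a'
    have hav : (a : R) = α := by rw [← ha]
    have hav' : (a' : R) = star α := by rw [← ha']
    have hα' : star α * α = algebraMap ℚ R q := by
      rw [comm_of_mem_adjoin α (star α) hmem, hα]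
    have h1 : ‖ρ a‖ ^ 2 ≤ (q : ℝ) := norm_sq_le σ hpos _ ρ a q hq (by rw [hav, hα])
    have h2 : ‖ρ a'‖ ^ 2 ≤ (q : ℝ) :=
      norm_sq_le σ hpos _ ρ a' q hq (by rw [hav', star_star, hα'])
    have h3 : ρ a * ρ a' = (q : ℂ) := by
      rw [← map_mul]
      have : a * a' = algebraMap ℚ (Algebra.adjoin ℚ ({α} : Set R)) q :=
        Subtype.ext (by rw [Subalgebra.coe_mul, hav, hav', hα]; rfl)
      rw [this, AlgHom.commutes]
      simp
    have h4 : ‖ρ a‖ ^ 2 * ‖ρ a'‖ ^ 2 = (q : ℝ) ^ 2 := by
      have := congrArg (fun z : ℂ => ‖z‖ ^ 2) h3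
      simp only [norm_mul, mul_pow] at this
      rw [this]
      simp
    have hq' : (0 : ℝ) < (q : ℝ) := by exact_mod_cast hq
    have h5 : ‖ρ a‖ ^ 2 = (q : ℝ) := by
      by_contra hne
      have hlt : ‖ρ a‖ ^ 2 < (q : ℝ) := lt_of_le_of_ne h1 hne
      have h6 : 0 ≤ ‖ρ a‖ ^ 2 := by positivity
      have h7 : 0 ≤ ‖ρ a'‖ ^ 2 := by positivity
      nlinarith
    refine ⟨?_, h5⟩
    have h8 : ρ a ≠ 0 := by
      intro h
      rw [h, norm_zero] at h5
      simp at h5
      linarith
    have h9 : ρ a * starRingEnd ℂ (ρ a) = (q : ℂ) := by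
      rw [Complex.mul_conj, Complex.normSq_eq_norm_sq, h5]
      simp
    exact mul_left_cancel₀ h8 (h3.trans h9.symm)


end Groth.Agent.S19356
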