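-- Statement S1937.
import Groth.Statements.S1937
import Mathlib
import Groth.Agent.Lib.Helper1.GrpOmega
import Groth.Agent.Lib.Helper1.FreeField
set_option linter.style.haveILetI false

set_option autoImplicit false
universe u v
open CategoryTheory MonoidalCategory CartesianMonoidalCategory MonObj GrpObj AlgebraicGeometry
open GrpSch

namespace Groth.Agent.S1937

/-- Let G be a group scheme over S with structure morphism f and unit section e : S → G. Then Ω_{G/S} ≅
f^* C_{S/G}, the pullback of the conormal sheaf of the immersion e; and when S is the spectrum of a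
field, Ω_{G/S} is a free O_G-module (a coproduct of copies of O_G). Stated for G → S
quasi-separated, where the shared prelude's Ω (conormal sheaf of the diagonal through Mathlib's
kernel ideal sheaf) and conormal sheaf of e are the usual ones. -/
theorem result (S : Scheme.{u}) (G : Over S) [GrpObj G] [QuasiSeparated G.hom] : Nonempty (Omega.sheaf G.hom ≅ (Scheme.Modules.pullback G.hom).obj (Omega.conormal η[G].left)) ∧ ∀ (K : Type u) [Field K], Nonempty (S ≅ Spec (CommRingCat.of K)) → ∃ I : Type u, Nonempty (Omega.sheaf G.hom ≅ ∐ fun _ : I => Coh.structureModule G.left) := by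
  obtain ⟨e₁⟩ := Groth.Agent.Lib.Helper1.GrpOmega.omega_iso S G
  refine ⟨⟨e₁⟩, ?_⟩
  intro K _ ⟨θ⟩
  have hε := Groth.Agent.Lib.Helper1.GrpOmega.unit_comp_hom S G
  -- the conormal sheaf of the unit section, transported to `Spec K`
  let C : S.Modules := Omega.conormal η[G].left
  haveI qC : C.IsQuasicoherent :=
    Groth.Agent.Lib.Helper17.PbStalk.isQuasicoherent_pullback η[G].left
      (ClSub.idealMod η[G].left.ker)
  let C₀ : (Spec (CommRingCat.of K)).Modules := (Scheme.Modules.pullback θ.inv).obj C
  haveI qC₀ : C₀.IsQuasicoherent :=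
    Groth.Agent.Lib.Helper17.PbStalk.isQuasicoherent_pullback θ.inv C
  obtain ⟨I, ⟨e₂⟩⟩ := Groth.Agent.Lib.Helper1.FreeField.exists_iso_free (CommRingCat.of K)
    (Field.toIsField K) C₀
  -- `C ≅ θ.hom^* C₀`
  let e₃ : (Scheme.Modules.pullback θ.hom).obj C₀ ≅ C :=
    (Scheme.Modules.pullbackComp θ.hom θ.inv).app C ≪≫
      (Scheme.Modules.pullbackCongr θ.hom_inv_id).app C ≪≫ (Scheme.Modules.pullbackId S).app C
  refine ⟨I, ⟨?_⟩⟩
  exact e₁ ≪≫ (Scheme.Modules.pullback G.hom).mapIso e₃.symm ≪≫
    (Scheme.Modules.pullback G.hom).mapIso ((Scheme.Modules.pullback θ.hom).mapIso e₂) ≪≫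
    (Scheme.Modules.pullback G.hom).mapIso
      (Groth.Agent.Lib.Helper1.FreeField.pullbackFreeIso θ.hom I) ≪≫
    Groth.Agent.Lib.Helper1.FreeField.pullbackFreeIso G.hom I

end Groth.Agent.S1937
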