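import Groth.Statements.S19377
import Groth.Agent.Lib.Helper3.GenProj
import Groth.Agent.Lib.Helper21.RMd
import Groth.Agent.Lib.Helper26.QProjG2
import Groth.Agent.Lib.Helper13.QProjOpenImm

set_option autoImplicit false
universe u
open CategoryTheory AlgebraicGeometry
open RelProj

namespace Groth.Agent.S19377

/-- Let k be a field, S a smooth, separated and quasi-compact k-scheme and f : X → S a proper smooth
morphism. The following two conditions are equivalent. (P): there is a dense open subscheme U of X,
quasi-projective over S, such that every connected component of S has a point not lying in the image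
f(X ∖ U). Generic projectivity: there is a dense open subscheme V of S such that the restriction
f⁻¹(V) → V of f is projective. (The source works over the residue field of a complete discrete
valuation ring of mixed characteristic and adds that the restriction over V is smooth, which is
automatic; the base field plays no role and is arbitrary here.) -/
theorem result
    {k : Type u} [Field k] {X S : Scheme.{u}} (f : X ⟶ S) (g : S ⟶ Spec (.of k))
    [Smooth g] [IsSeparated g] [QuasiCompact g] [IsProper f] [Smooth f] :
    (∃ U : X.Opens, Dense (U : Set X) ∧ RelProj.IsQuasiProjective (U.ι ≫ f) ∧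
        ∀ s : S, ∃ s' : S, s' ∈ connectedComponent s ∧ s' ∉ ⇑f.base '' (U : Set X)ᶜ) ↔
      ∃ V : S.Opens, Dense (V : Set S) ∧ RelProj.IsProjective (f ∣_ V) := by
  haveI : CompactSpace S := QuasiCompact.compactSpace_of_compactSpace g
  exact Groth.Agent.Lib.Helper3.GenProj.main f g
    (fun s => Groth.Agent.Lib.Helper21.RMd.isDomain_stalk_of_smooth_over_field g s)
    (fun U hq V hVU => Groth.Agent.Lib.Helper26.QProjG2.isQuasiProjective_restrict_of_le f U hq V hVU)
    (fun V hqc hq => by
      haveI := hqc
      exact Groth.Agent.Lib.Helper13.QProjOpenImm.isQuasiProjective_comp_openImmersion (f ∣_ V) V.ι hq)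

end Groth.Agent.S19377
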