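import Groth.Statements.S2038
import Mathlib
import Groth.Agent.Lib.Helper7.FlatFS2
import Groth.Agent.Lib.Helper28.TakCancel
import Groth.Agent.S4573
import Groth.Agent.S4512
import Groth.Agent.S2461

set_option autoImplicit false
universe u
open CAlg

namespace Groth.Agent.S2038

open IsLocalRing TensorProduct Groth.Agent.Lib.Helper7 Groth.Agent.Lib.Helper15

section fibre

variable {A B : Type u} [CommRing A] [CommRing B]
    [IsLocalRing A] [IsLocalRing B] [IsNoetherianRing A] [IsNoetherianRing B] [Algebra A B]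
    [IsLocalHom (algebraMap A B)]

theorem map_le : (maximalIdeal A).map (algebraMap A B) ≤ maximalIdeal B :=
  ((IsLocalRing.local_hom_TFAE (algebraMap A B)).out 0 2).mp ‹IsLocalHom (algebraMap A B)›

omit [IsNoetherianRing A] in
theorem hκs : Function.Surjective (algebraMap A (maximalIdeal A).ResidueField) :=
  Ideal.algebraMap_residueField_surjective (maximalIdeal A)

omit [IsNoetherianRing A] in
theorem hκk : RingHom.ker (algebraMap A (maximalIdeal A).ResidueField) = maximalIdeal A :=
  Ideal.ker_algebraMap_residueField (maximalIdeal A)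

theorem incl_surj : Function.Surjective
    (Algebra.TensorProduct.includeRight : B →ₐ[A] (maximalIdeal A).ResidueField ⊗[A] B) := by
  intro z
  obtain ⟨b, rfl⟩ := CohenPres2.exists_one_tmul (hκs (A := A)) z
  exact ⟨b, rfl⟩

theorem incl_ker : RingHom.ker
    (Algebra.TensorProduct.includeRight : B →ₐ[A] (maximalIdeal A).ResidueField ⊗[A] B) ≤
    (RingHom.ker (algebraMap A (maximalIdeal A).ResidueField)).map (algebraMap A B) := by
  intro b hb
  have h : (Algebra.TensorProduct.includeRight :
      B →ₐ[A] (maximalIdeal A).ResidueField ⊗[A] B) b = 0 := hb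
  exact FlatFS.mem_map_of_one_tmul_eq_zero (hκs (A := A)) b h

theorem fib_nontrivial : Nontrivial ((maximalIdeal A).Fiber B) := by
  refine ⟨⟨1, 0, fun h => ?_⟩⟩
  have h1 : (1 : B) ∈ (RingHom.ker (algebraMap A (maximalIdeal A).ResidueField)).map
      (algebraMap A B) := FlatFS.mem_map_of_one_tmul_eq_zero (hκs (A := A)) 1 h
  rw [hκk] at h1
  exact (maximalIdeal.isMaximal B).ne_top ((Ideal.eq_top_iff_one _).mpr (map_le h1))

theorem fib_local : IsLocalRing ((maximalIdeal A).Fiber B) := by
  haveI := fib_nontrivial (A := A) (B := B)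
  exact IsLocalRing.of_surjective'
    (Algebra.TensorProduct.includeRight : B →ₐ[A] (maximalIdeal A).ResidueField ⊗[A] B).toRingHom
    incl_surj

theorem fib_noeth : IsNoetherianRing ((maximalIdeal A).Fiber B) :=
  isNoetherianRing_of_surjective B _
    (Algebra.TensorProduct.includeRight : B →ₐ[A] (maximalIdeal A).ResidueField ⊗[A] B).toRingHom
    incl_surj

theorem fibreLift_iff [IsLocalRing ((maximalIdeal A).Fiber B)] :
    FlatFS.FibreLift A B ↔ CAlgX.IsAdicFormallySmooth (maximalIdeal A).ResidueField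
      ((maximalIdeal A).Fiber B) (maximalIdeal ((maximalIdeal A).Fiber B)) := by
  rw [← FlatFS.fibreLift_field_iff]
  exact ⟨FlatFS.fibreLift_base_of_surjective hκs _ incl_surj incl_ker,
    FlatFS.fibreLift_of_surjective hκs _ incl_surj incl_ker⟩

theorem flat_of_adic (hfs : CAlgX.IsAdicFormallySmooth A B (maximalIdeal B)) :
    Module.Flat A B := by
  haveI : IsNoetherianRing (AdicCompletion (maximalIdeal B) B) :=
    ComplLim.isNoetherianRing_compl B
  haveI : IsScalarTower A B (AdicCompletion (maximalIdeal B) B) :=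
    IsScalarTower.of_algebraMap_eq (fun _ => rfl)
  have hfŝ : CAlgX.IsAdicFormallySmooth A (AdicCompletion (maximalIdeal B) B)
      (maximalIdeal (AdicCompletion (maximalIdeal B) B)) := by
    have h1 : EGA41.IsFormallySmoothAdic A ⊥ B (maximalIdeal B) :=
      (Groth.Agent.S4537.result _).mp hfs
    have h2 := (Groth.Agent.S2461.result (⊥ : Ideal A) (maximalIdeal B)).mp h1
    rw [← AdicCompletion.maximalIdeal_eq_map] at h2
    exact (Groth.Agent.S4537.result _).mpr h2
  haveI hloc : IsLocalHom (algebraMap A (AdicCompletion (maximalIdeal B) B)) := by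
    rw [IsScalarTower.algebraMap_eq A B (AdicCompletion (maximalIdeal B) B)]
    exact RingHom.isLocalHom_comp _ _
  obtain ⟨𝔣, h𝔣def⟩ : ∃ 𝔣 : Ideal (AdicCompletion (maximalIdeal B) B),
      𝔣 = (maximalIdeal A).map (algebraMap A (AdicCompletion (maximalIdeal B) B)) := ⟨_, rfl⟩
  have h𝔣 : 𝔣 ≤ maximalIdeal (AdicCompletion (maximalIdeal B) B) := h𝔣def ▸ map_le
  haveI : IsLocalRing (AdicCompletion (maximalIdeal B) B ⧸ 𝔣) := SmallExt.isLocalRing_quot 𝔣 h𝔣
  haveI : IsAdicComplete (maximalIdeal (AdicCompletion (maximalIdeal B) B ⧸ 𝔣))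
      (AdicCompletion (maximalIdeal B) B ⧸ 𝔣) := FlatFS.isAdicComplete_quot 𝔣
  have hF0 : ∀ a ∈ maximalIdeal A,
      algebraMap A (AdicCompletion (maximalIdeal B) B ⧸ 𝔣) a = 0 := by
    intro a ha
    show Ideal.Quotient.mk 𝔣 (algebraMap A (AdicCompletion (maximalIdeal B) B) a) = 0
    rw [Ideal.Quotient.eq_zero_iff_mem, h𝔣def]
    exact Ideal.mem_map_of_mem _ ha
  have hkN : RingHom.ker (Ideal.Quotient.mkₐ A 𝔣) ≤
      (maximalIdeal A).map (algebraMap A (AdicCompletion (maximalIdeal B) B)) := by
    intro x hx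
    rw [← h𝔣def]
    exact Ideal.Quotient.eq_zero_iff_mem.mp (RingHom.mem_ker.mp hx)
  haveI : IsRegularLocalRing (AdicCompletion (maximalIdeal B) B ⧸ 𝔣) :=
    FlatFS.isRegularLocalRing_of_fibreLift (FlatFS.fibreLift_of_adic hfŝ)
      (Ideal.Quotient.mkₐ A 𝔣) (Ideal.Quotient.mkₐ_surjective A 𝔣) hkN hF0
  obtain ⟨C, hCring, hCloc, hCN, hCalg, hCloch, β, hCc, hCflat, hβs, hβg, hβk⟩ :=
    FlatFS.exists_flat_lift' (algebraMap A (AdicCompletion (maximalIdeal B) B ⧸ 𝔣)) hF0
  letI := hCring
  haveI := hCloc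
  haveI := hCN
  letI := hCalg
  haveI := hCloch
  haveI := hCflat
  haveI := hCc
  let βM : C →ₐ[A] (AdicCompletion (maximalIdeal B) B ⧸ 𝔣) :=
    { β with commutes' := fun a => hβg a }
  have hβMs : Function.Surjective βM := hβs
  have hkM : RingHom.ker βM ≤ (maximalIdeal A).map (algebraMap A C) := by
    rw [← hβk]
    intro x hx
    exact hx
  obtain ⟨v, -⟩ := FlatFS.exists_algEquiv_of_fs_of_flat (maximalIdeal A)
    (h𝔣def ▸ h𝔣) map_le hfŝ (Ideal.Quotient.mkₐ A 𝔣) βM
    (Ideal.Quotient.mkₐ_surjective A 𝔣) hβMs hkN hkM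
  haveI : Module.Flat A (AdicCompletion (maximalIdeal B) B) :=
    Module.Flat.of_linearEquiv v.toLinearEquiv
  haveI : Module.FaithfullyFlat B (AdicCompletion (maximalIdeal B) B) :=
    Module.FaithfullyFlat.of_flat_of_isLocalHom
  exact Groth.Agent.Lib.Helper28.TakCancel.flat_of_flat_of_faithfullyFlat A B
    (AdicCompletion (maximalIdeal B) B)

end fibre

/-- Let `A → B` be a local homomorphism of Noetherian local rings with residue field `k` of `A`. Then `A
→ B` is flat with special fibre `B ⊗ k` geometrically regular over `k` if and only if `A → B` is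
formally smooth for the adic topology of the maximal ideal of `B`. -/
theorem result {A B : Type u} [CommRing A] [CommRing B]
    [IsLocalRing A] [IsLocalRing B] [IsNoetherianRing A] [IsNoetherianRing B] [Algebra A B]
    [IsLocalHom (algebraMap A B)] :
    (Module.Flat A B ∧ CAlg.IsGeometricallyRegular (IsLocalRing.maximalIdeal A).ResidueField
        ((IsLocalRing.maximalIdeal A).Fiber B)) ↔
      CAlgX.IsAdicFormallySmooth A B (IsLocalRing.maximalIdeal B) := by
  haveI := fib_local (A := A) (B := B)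
  haveI := fib_noeth (A := A) (B := B)
  constructor
  · rintro ⟨hflat, hgr⟩
    haveI := hflat
    have h1 : CAlgX.IsAdicFormallySmooth (maximalIdeal A).ResidueField
        ((maximalIdeal A).Fiber B) (maximalIdeal ((maximalIdeal A).Fiber B)) :=
      (Groth.Agent.S4573.result (ringExpChar (maximalIdeal A).ResidueField)).mpr
        (fun k' _ _ hfin _ => hgr k' hfin)
    exact FlatFS.adic_of_flat (fibreLift_iff.mpr h1)
  · intro hfs
    refine ⟨flat_of_adic hfs, ?_⟩
    exact (Groth.Agent.S4512.result (fibreLift_iff.mp (FlatFS.fibreLift_of_adic hfs))).1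

end Groth.Agent.S2038
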