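import Groth.Statements.S19379
import Mathlib
import Groth.Agent.Lib.Helper21.GeomRegD
import Groth.Agent.S2038

set_option autoImplicit false
universe u
open CAlg

namespace Groth.Agent.S19379

/-- Let A and B be Noetherian rings and let B be an A-algebra which is formally smooth for the discrete
topologies. Then A → B is a regular homomorphism, that is, flat with (Noetherian) geometrically
regular fibres. -/
theorem result
    (A B : Type u) [CommRing A] [CommRing B] [Algebra A B]
    [IsNoetherianRing A] [IsNoetherianRing B] [Algebra.FormallySmooth A B] :
    CAlg.IsRegularHom A B := by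
  classical
  refine ⟨?_, ?_⟩
  · -- flatness, checked at the primes of `B`
    rw [← RingHom.flat_algebraMap_iff]
    apply RingHom.Flat.ofLocalizationPrime
    intro q hq
    haveI hp : (q.comap (algebraMap A B)).IsPrime := Ideal.comap_isPrime _ _
    letI : Algebra (Localization.AtPrime (q.comap (algebraMap A B))) (Localization.AtPrime q) :=
      (Localization.localRingHom (q.comap (algebraMap A B)) q (algebraMap A B) rfl).toAlgebra
    haveI : IsScalarTower A (Localization.AtPrime (q.comap (algebraMap A B)))
        (Localization.AtPrime q) :=
      .of_algebraMap_eq fun x => (Localization.localRingHom_to_map _ _ _ rfl x).symm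
    haveI : IsLocalHom (algebraMap (Localization.AtPrime (q.comap (algebraMap A B)))
        (Localization.AtPrime q)) :=
      Localization.isLocalHom_localRingHom _ q (algebraMap A B) rfl
    haveI : Algebra.FormallySmooth A (Localization.AtPrime q) := inferInstance
    haveI : Algebra.FormallySmooth (Localization.AtPrime (q.comap (algebraMap A B)))
        (Localization.AtPrime q) :=
      Algebra.FormallySmooth.localization_base (q.comap (algebraMap A B)).primeCompl
    have hfs : CAlgX.IsAdicFormallySmooth (Localization.AtPrime (q.comap (algebraMap A B)))
        (Localization.AtPrime q) (IsLocalRing.maximalIdeal (Localization.AtPrime q)) := by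
      intro C _ _ J hJ ψ _
      exact Algebra.FormallySmooth.comp_surjective _ _ J hJ ψ
    exact (Groth.Agent.S2038.result.mpr hfs).1
  · intro p hp
    haveI hN : IsNoetherianRing (p.Fiber B) :=
      Groth.Agent.Lib.Helper21.GeomReg.isNoetherianRing_fiber A B p
    refine ⟨hN, ?_⟩
    intro k' _ _ hfin
    haveI := hfin
    haveI := Groth.Agent.Lib.Helper21.GeomReg.isNoetherianRing_baseChange_finite
      p.ResidueField (p.Fiber B) k'
    apply Groth.Agent.Lib.Helper21.GeomReg.isRegularRing_baseChange_of_forall_adicFS
      p.ResidueField (p.Fiber B) _ k'
    intro 𝔮 _
    haveI : Algebra.FormallySmooth p.ResidueField (p.Fiber B) := inferInstance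
    haveI : Algebra.FormallySmooth p.ResidueField (Localization.AtPrime 𝔮) := inferInstance
    intro C _ _ J hJ ψ _
    exact Algebra.FormallySmooth.comp_surjective _ _ J hJ ψ

end Groth.Agent.S19379
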