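import Groth.Statements.S19380
-- import your own Groth.Agent.* helpers here

set_option autoImplicit false
universe u
open CAlg

namespace Groth.Agent.S19380

theorem charpolyRev_mul_comm' {R : Type*} [CommRing R] {n : Type*} [Fintype n] [DecidableEq n]
    (A B : Matrix n n R) : (A * B).charpolyRev = (B * A).charpolyRev := by
  rw [← Matrix.reverse_charpoly, ← Matrix.reverse_charpoly, Matrix.charpoly_mul_comm]

theorem charpolyRev_map' {R S : Type*} [CommRing R] [CommRing S] {n : Type*} [Fintype n]
    [DecidableEq n] (f : R →+* S) (A : Matrix n n R) :
    (A.map f).charpolyRev = A.charpolyRev.map f := by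
  unfold Matrix.charpolyRev
  rw [← Polynomial.coe_mapRingHom, RingHom.map_det]
  congr 1
  ext i j : 1
  simp [Matrix.one_apply, apply_ite]

theorem map_list_prod' {R S : Type*} [CommRing R] [CommRing S] {n : Type*} [Fintype n]
    [DecidableEq n] (f : R →+* S) (l : List (Matrix n n R)) :
    l.prod.map f = (l.map fun A => A.map f).prod := by
  have := map_list_prod f.mapMatrix l
  exact this

/-- Let L be a commutative ring, σ a ring automorphism of L of finite order dividing d (σ^d = 1), and C
an r × r matrix over L. The reverse characteristic polynomial det(1 − T·N) of the twisted product N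
= C·σ(C)·σ²(C)⋯σ^(d−1)(C), with σ applied to the entries, is fixed by σ acting on coefficients. (In
the source this is phrased for the fibre at a closed point x of degree d of a convergent F-module
with Frobenius matrix C: the d-th iterate of the semilinear Frobenius of the fibre is the linear map
with matrix N, so its characteristic polynomial has coefficients in the subfield fixed by the
Frobenius of K(x), namely K, and likewise with the valuation ring in place of K for an integral
F-module; only this linear-algebra statement, over any commutative ring, is given here.) -/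
theorem result
    (L : Type u) [CommRing L] (σ : L ≃+* L) (d : ℕ) (hσ : σ ^ d = 1)
    (r : ℕ) (C : Matrix (Fin r) (Fin r) L) :
    (Matrix.charpolyRev (((List.range d).map fun i => C.map ⇑(σ ^ i)).prod)).map (σ : L →+* L) =
      Matrix.charpolyRev (((List.range d).map fun i => C.map ⇑(σ ^ i)).prod) := by
  rw [← charpolyRev_map', map_list_prod']
  cases d with
  | zero => simp
  | succ d =>
    have key : ∀ i : ℕ, (C.map ⇑(σ ^ i)).map ⇑(σ : L →+* L) = C.map ⇑(σ ^ (i + 1)) := by
      intro i
      ext a b
      simp [pow_succ']
    rw [List.map_map]
    have h1 : ((fun A : Matrix (Fin r) (Fin r) L => A.map ⇑(σ : L →+* L)) ∘ fun i => C.map ⇑(σ ^ i))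
        = fun i => C.map ⇑(σ ^ (i + 1)) := by
      funext i; exact key i
    rw [h1]
    have h0 : C.map ⇑(σ ^ (d + 1)) = C := by
      rw [hσ]; ext a b; simp
    have h2 : ((List.range (d + 1)).map fun i => C.map ⇑(σ ^ (i + 1))).prod
        = ((List.range d).map fun i => C.map ⇑(σ ^ (i + 1))).prod * C := by
      rw [List.range_succ, List.map_append, List.prod_append, List.map_singleton,
        List.prod_singleton, h0]
    have h3 : ((List.range (d + 1)).map fun i => C.map ⇑(σ ^ i)).prod
        = C * ((List.range d).map fun i => C.map ⇑(σ ^ (i + 1))).prod := by
      rw [List.range_succ_eq_map, List.map_cons, List.prod_cons, List.map_map]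
      congr 1
    rw [h2, h3, charpolyRev_mul_comm']

end Groth.Agent.S19380
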