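import Mathlib
import Groth.Statements.S19383
-- import your own Groth.Agent.* helpers here

set_option autoImplicit false
universe u
open CAlg

namespace Groth.Agent.S19383

/-- Over a discrete valuation ring, let V be a henselian discrete valuation ring with maximal ideal 𝔪
and B a Noetherian V-algebra, B̂ its 𝔪B-adic completion. Then B is flat over V if and only if B̂ is
flat over V. (The published lemma takes V an excellent normal ring with an ideal I such that (V,
V/I) is a henselian pair and B of finite type; in that generality it fails: for V = ℤ_p[[x]], I =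
(p) and B = V[y]/(x, py − 1) ≅ ℚ_p one has IB = B, so B̂ = 0 is flat while B is not flat over V.
Over a discrete valuation ring flatness is torsion-freeness and the statement holds for every
Noetherian B.) -/
theorem result
    (V : Type u) [CommRing V] [IsDomain V] [IsDiscreteValuationRing V] [HenselianLocalRing V]
    (B : Type u) [CommRing B] [Algebra V B] [IsNoetherianRing B] :
    Module.Flat V B ↔
      Module.Flat V (AdicCompletion ((IsLocalRing.maximalIdeal V).map (algebraMap V B)) B) := by
  constructor
  · intro h
    exact Module.Flat.trans V B _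
  · intro h
    set I := (IsLocalRing.maximalIdeal V).map (algebraMap V B) with hI
    suffices Module.IsTorsionFree V B from inferInstance
    obtain ⟨ϖ, hϖ⟩ := IsDiscreteValuationRing.exists_irreducible V
    have hm : IsLocalRing.maximalIdeal V = Ideal.span {ϖ} := hϖ.maximalIdeal_eq
    refine ⟨fun r hr b₁ b₂ hb => ?_⟩
    rw [← sub_eq_zero]
    set b := b₁ - b₂ with hbdef
    have hrb : r • b = 0 := by
      simp only [hbdef, smul_sub]
      exact sub_eq_zero.mpr hb
    have hr0 : r ≠ 0 := hr.ne_zero
    -- image of b in the completion vanishes
    have h1 : AdicCompletion.of I B b = 0 := by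
      have h2 : r • AdicCompletion.of I B b = 0 := by
        rw [← algebraMap_smul B r (AdicCompletion.of I B b), ← map_smul, algebraMap_smul, hrb,
          map_zero]
      have := (Module.Flat.isTorsionFree (R := V)
        (M := AdicCompletion I B)).isSMulRegular hr
      exact this (by show r • _ = r • 0; rw [h2, smul_zero])
    have h3 : b ∈ (⨅ i : ℕ, I ^ i • ⊤ : Submodule B B) := by
      rw [Submodule.mem_iInf]
      intro n
      have := congrArg (fun f => f.1 n) h1
      simp only [AdicCompletion.of_apply] at this
      exact (Submodule.Quotient.mk_eq_zero _).mp this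
    obtain ⟨⟨c, hc⟩, hcb⟩ := (Ideal.mem_iInf_smul_pow_eq_bot_iff I b).mp h3
    have hc' : ∃ c', c = algebraMap V B ϖ * c' := by
      rw [hI, hm, Ideal.map_span, Set.image_singleton, Ideal.mem_span_singleton'] at hc
      obtain ⟨a, ha⟩ := hc
      exact ⟨a, by rw [← ha, mul_comm]⟩
    obtain ⟨c', rfl⟩ := hc'
    obtain ⟨k, u, hu⟩ := IsDiscreteValuationRing.eq_unit_mul_pow_irreducible hr0 hϖ
    have h4 : ∀ k : ℕ, b = c' ^ k * (ϖ ^ k • b) := by
      intro k
      induction k with
      | zero => simp
      | succ k ih =>
        have : (algebraMap V B ϖ * c') • b = b := hcb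
        calc b = c' ^ k * (ϖ ^ k • b) := ih
          _ = c' ^ k * (ϖ ^ k • ((algebraMap V B ϖ * c') • b)) := by rw [this]
          _ = c' ^ (k + 1) * (ϖ ^ (k + 1) • b) := by
            simp only [Algebra.smul_def, map_pow, Algebra.algebraMap_self, RingHom.id_apply]
            ring
    have h5 : ϖ ^ k • b = 0 := by
      have : (u : V) • (ϖ ^ k • b) = 0 := by rw [smul_smul, ← hu, hrb]
      have h6 := congrArg (fun x => ((u⁻¹ : Vˣ) : V) • x) this
      simpa [smul_smul] using h6
    rw [h4 k, h5, mul_zero]

end Groth.Agent.S19383
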