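import Groth.Statements.S1939
import Groth.Agent.S9358
import Groth.Agent.Lib.Helper12.FibreMax

set_option autoImplicit false
universe u
open CategoryTheory AlgebraicGeometry
open CategoryTheory.Limits
open Cyc

namespace Groth.Agent.S1939

open Groth.Agent.Lib.Helper12.SchemeDimIneq Groth.Agent.Lib.Helper12.FibreMax

/-- In a base change square `X' = X ×_S S'`, the image in `S'` of a maximal point of `X'` is generic
in its fibre over `S`. -/
theorem genF_snd_of_max {S S' X : Scheme.{u}} (g : S' ⟶ S) (a : X ⟶ S)
    (x' : ↥(pullback a g)) (hx' : ∀ y : ↥(pullback a g), y ⤳ x' → y = x') :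
    ∀ y' : S', g y' = g ((pullback.snd a g) x') → y' ⤳ (pullback.snd a g) x' →
      y' = (pullback.snd a g) x' := by
  intro y' hy'g hsp
  have hcond : a ((pullback.fst a g) x') = g ((pullback.snd a g) x') := by
    show (pullback.fst a g ≫ a) x' = (pullback.snd a g ≫ g) x'
    rw [pullback.condition]
  have hsq : IsPullback (pullback.snd a g) (pullback.fst a g) g a :=
    (IsPullback.of_hasPullback a g).flip
  have hsqF := isPullback_fiberToSpecResidueField_of_isPullback hsq ((pullback.fst a g) x')
  obtain ⟨ψ, hψsq, hψι⟩ : ∃ ψ : (pullback.fst a g).fiber ((pullback.fst a g) x') ⟶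
        g.fiber (a ((pullback.fst a g) x')),
      IsPullback ψ ((pullback.fst a g).fiberToSpecResidueField ((pullback.fst a g) x'))
        (g.fiberToSpecResidueField (a ((pullback.fst a g) x')))
        (Spec.map (a.residueFieldMap ((pullback.fst a g) x'))) ∧
      ψ ≫ g.fiberι (a ((pullback.fst a g) x')) =
        (pullback.fst a g).fiberι ((pullback.fst a g) x') ≫ pullback.snd a g :=
    ⟨_, hsqF, pullback.lift_fst _ _ _⟩
  have hflatφ : Flat (Spec.map (a.residueFieldMap ((pullback.fst a g) x'))) := by
    rw [HasRingHomProperty.Spec_iff (P := @Flat)]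
    have : (a.residueFieldMap ((pullback.fst a g) x')).hom.Flat := by
      letI := (a.residueFieldMap ((pullback.fst a g) x')).hom.toAlgebra
      exact (inferInstance : Module.Flat (S.residueField (a ((pullback.fst a g) x')))
        (X.residueField ((pullback.fst a g) x')))
    exact this
  have hflatψ : Flat ψ := MorphismProperty.of_isPullback (P := @Flat) hψsq.flip hflatφ
  have hemb := (g.fiberι (a ((pullback.fst a g) x'))).isEmbedding
  have hy'mem : y' ∈ Set.range (g.fiberι (a ((pullback.fst a g) x'))) := by
    rw [Scheme.Hom.range_fiberι]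
    show g y' = a ((pullback.fst a g) x')
    rw [hy'g, hcond]
  obtain ⟨yF, hyF⟩ := hy'mem
  have hψapp : ∀ w : ↥((pullback.fst a g).fiber ((pullback.fst a g) x')),
      (g.fiberι (a ((pullback.fst a g) x'))) (ψ w) =
        (pullback.snd a g) (((pullback.fst a g).fiberι ((pullback.fst a g) x')) w) := by
    intro w
    have h1 := congrArg (fun f => f.base w) hψι
    exact h1
  have hψx : (g.fiberι (a ((pullback.fst a g) x'))) (ψ ((pullback.fst a g).asFiber x')) =
      (pullback.snd a g) x' := by
    rw [hψapp, (pullback.fst a g).fiberι_asFiber x']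
  have hspF : yF ⤳ ψ ((pullback.fst a g).asFiber x') := by
    apply hemb.isInducing.specializes_iff.mp
    have e1 : (g.fiberι (a ((pullback.fst a g) x'))) yF = y' := hyF
    rw [e1, hψx]
    exact hsp
  obtain ⟨w, hw1, hw2⟩ := (Flat.generalizingMap ψ) hspF
  have hw3 : ((pullback.fst a g).fiberι ((pullback.fst a g) x')) w ⤳ x' := by
    have := hw1.map ((pullback.fst a g).fiberι ((pullback.fst a g) x')).continuous
    rwa [(pullback.fst a g).fiberι_asFiber x'] at this
  have hw4 := hx' _ hw3
  calc y' = (g.fiberι (a ((pullback.fst a g) x'))) yF := hyF.symm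
    _ = (g.fiberι (a ((pullback.fst a g) x'))) (ψ w) := by rw [hw2]
    _ = (pullback.snd a g) (((pullback.fst a g).fiberι ((pullback.fst a g) x')) w) := hψapp w
    _ = (pullback.snd a g) x' := by rw [hw4]

/-- Let (S, δS) and (S', δS') be two pairs satisfying Cyc.IsSetup, g : S' → S flat with δS'(s') = δS(g
s') + c for every s' generic in an irreducible component of its fibre g⁻¹(g s'), a : X → S locally
of finite type with X integral of δ-dimension k (δX induced from δS), and X' = X ×_S S' with δX'
induced from δS'. Then every generic point x' of an irreducible component of X' has δX'(x') = k + c.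
A pair (X, δ) with Cyc.IsSetup plays the role of a scheme locally of finite type over a fixed base
with a dimension function (X locally Noetherian with universally catenary local rings, δ a dimension
function), and Cyc.DeltaCompat records that the dimension function upstairs is the induced one. -/
theorem result (S S' X : Scheme.{u}) (δS : S → ℤ) (δS' : S' → ℤ) (hS : Cyc.IsSetup S δS) (hS' : Cyc.IsSetup S' δS') (g : S' ⟶ S) [Flat g] (c : ℤ) (hc : ∀ s' : S', (∀ y, g y = g s' → y ⤳ s' → y = s') → δS' s' = δS (g s') + c) (a : X ⟶ S) [LocallyOfFiniteType a] [IsIntegral X] (δX : X → ℤ) (hX : Cyc.DeltaCompat a δX δS) (δX' : ↥(pullback a g) → ℤ) (hX' : Cyc.DeltaCompat (pullback.snd a g) δX' δS') (k : ℤ) (hk : δX (genericPoint X) = k) (x' : ↥(pullback a g)) (hx' : ∀ y : ↥(pullback a g), y ⤳ x' → y = x') : δX' x' = k + c := by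
  have hpx : (pullback.fst a g) x' = genericPoint X := by
    have hη : genericPoint X ⤳ (pullback.fst a g) x' := genericPoint_specializes _
    obtain ⟨y', hy'1, hy'2⟩ := (Flat.generalizingMap (pullback.fst a g)) hη
    have := hx' y' hy'1
    rw [← hy'2, this]
  have hcond : a ((pullback.fst a g) x') = g ((pullback.snd a g) x') := by
    show (pullback.fst a g ≫ a) x' = (pullback.snd a g ≫ g) x'
    rw [pullback.condition]
  have hgen := genF_snd_of_max g a x' hx'
  have hmaxq : ∀ z' : ↥(pullback a g), (pullback.snd a g) z' = (pullback.snd a g) x' →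
      z' ⤳ x' → z' = x' := fun z' _ hz' => hx' z' hz'
  have hmaxa : ∀ z : X, a z = a ((pullback.fst a g) x') → z ⤳ (pullback.fst a g) x' →
      z = (pullback.fst a g) x' := by
    intro z _ hz
    rw [hpx] at hz ⊢
    exact ((genericPoint_specializes z).antisymm hz).eq.symm
  have e1 : FlatMor.fibreDimAt (pullback.snd a g) x' =
      ((trn (pullback.snd a g) x' : ℕ∞) : WithBot ℕ∞) := by
    rw [fibreDimAt_eq_trn_add (pullback.snd a g) x',
      ringKrullDim_fiber_stalk_eq_zero (pullback.snd a g) x' hmaxq, add_zero]
  have e2 : FlatMor.fibreDimAt a ((pullback.fst a g) x') =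
      ((trn a ((pullback.fst a g) x') : ℕ∞) : WithBot ℕ∞) := by
    rw [fibreDimAt_eq_trn_add a ((pullback.fst a g) x'),
      ringKrullDim_fiber_stalk_eq_zero a ((pullback.fst a g) x') hmaxa, add_zero]
  have e3 := (Groth.Agent.S9358.result a g (pullback.fst a g) (pullback.snd a g)
    (IsPullback.of_hasPullback a g) 0).1 x'
  have e4 : trn (pullback.snd a g) x' = trn a ((pullback.fst a g) x') := by
    have : ((trn (pullback.snd a g) x' : ℕ∞) : WithBot ℕ∞) =
        ((trn a ((pullback.fst a g) x') : ℕ∞) : WithBot ℕ∞) := by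
      rw [← e1, ← e2]; exact e3
    exact WithBot.coe_injective this
  obtain ⟨n', hn'1, hn'2⟩ := hX' x'
  obtain ⟨n, hn1, hn2⟩ := hX ((pullback.fst a g) x')
  have t1 : trn (pullback.snd a g) x' = (n' : ℕ∞) :=
    (congrArg Cardinal.toENat hn'1).trans (Cardinal.toENat_nat n')
  have t2 : trn a ((pullback.fst a g) x') = (n : ℕ∞) :=
    (congrArg Cardinal.toENat hn1).trans (Cardinal.toENat_nat n)
  have hnn : n' = n := by
    have : (n' : ℕ∞) = (n : ℕ∞) := by rw [← t1, ← t2, e4]
    exact_mod_cast this
  have hshift := hc ((pullback.snd a g) x') hgen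
  have hk' : δX ((pullback.fst a g) x') = k := by rw [hpx]; exact hk
  have hh : δS (a ((pullback.fst a g) x')) = δS (g ((pullback.snd a g) x')) := congrArg δS hcond
  subst hnn
  omega

end Groth.Agent.S1939
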