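import Mathlib
import Groth.Statements.S19390
-- import your own Groth.Agent.* helpers here

set_option autoImplicit false
universe u
open GIT

namespace Groth.Agent.S19390

open Finset

theorem card_filter_get_eq_count {β : Type*} [DecidableEq β] (l : List β) (m : β) :
    (Finset.univ.filter fun k : Fin l.length => l.get k = m).card = l.count m := by
  induction l with
  | nil => simp
  | cons a t ih =>
    have := Fin.card_filter_univ_succ (fun k : Fin (t.length + 1) => (a :: t).get k = m)
    refine this.trans ?_
    simp only [List.get_cons_zero, List.get_cons_succ', List.count_cons, ih]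
    by_cases h : a = m <;> simp [h]

/-- The list form of the statement, for a finite set of indices. -/
theorem list_form {ι α : Type*} [DecidableEq ι] [DecidableEq α] (x : ι → α) :
    ∀ (e : ℕ), 1 ≤ e → ∀ s : Finset ι, s.card = 2 * e + 1 →
      (∀ a : α, (s.filter fun k => x k = a).card ≤ e) →
      ∃ l : List (ι × ι), l.length = 2 * e + 1 ∧
        (∀ m, (l.map Prod.fst).count m + (l.map Prod.snd).count m = if m ∈ s then 2 else 0) ∧
        (∀ ab ∈ l, x ab.1 ≠ x ab.2) ∧
        ∃ a b c rest, l = (a, b) :: (b, c) :: (c, a) :: rest := by
  intro e he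
  induction e, he using Nat.le_induction with
  | base =>
    intro s hs hx
    obtain ⟨a, b, c, hab, hac, hbc, rfl⟩ := Finset.card_eq_three.mp hs
    have hne : ∀ u v, u ∈ ({a, b, c} : Finset ι) → v ∈ ({a, b, c} : Finset ι) → u ≠ v →
        x u ≠ x v := by
      intro u v hu hv huv h
      have h1 := hx (x u)
      have h2 : ({u, v} : Finset ι) ⊆ ({a, b, c} : Finset ι).filter fun k => x k = x u := by
        intro w hw
        simp only [Finset.mem_insert, Finset.mem_singleton] at hw
        rcases hw with rfl | rfl
        · exact Finset.mem_filter.mpr ⟨hu, rfl⟩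
        · exact Finset.mem_filter.mpr ⟨hv, h.symm⟩
      have h3 := Finset.card_le_card h2
      rw [Finset.card_pair huv] at h3
      omega
    refine ⟨[(a, b), (b, c), (c, a)], rfl, ?_, ?_, a, b, c, [], rfl⟩
    · intro m
      simp only [List.map_cons, List.map_nil, List.count_cons, List.count_nil, Finset.mem_insert,
        Finset.mem_singleton, beq_iff_eq]
      by_cases h1 : m = a
      · subst h1
        simp [hab, hac, Ne.symm hab, Ne.symm hac]
      by_cases h2 : m = b
      · subst h2
        simp [hab, hbc, Ne.symm hab, Ne.symm hbc]
      by_cases h3 : m = c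
      · subst h3
        simp [hac, hbc, Ne.symm hac, Ne.symm hbc]
      simp [h1, h2, h3, Ne.symm h1, Ne.symm h2, Ne.symm h3]
    · intro ab hab'
      simp only [List.mem_cons, List.not_mem_nil, or_false] at hab'
      rcases hab' with rfl | rfl | rfl
      · exact hne _ _ (by simp) (by simp) hab
      · exact hne _ _ (by simp) (by simp) hbc
      · exact hne _ _ (by simp) (by simp) (Ne.symm hac)
  | succ e he ih =>
    intro s hs hx
    -- class size function
    let cls : ι → ℕ := fun v => (s.filter fun k => x k = x v).card
    have hsne : s.Nonempty := by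
      rw [← Finset.card_pos]; omega
    obtain ⟨p, hp, hpmax⟩ := Finset.exists_max_image s cls hsne
    have hs2ne : (s.filter fun k => x k ≠ x p).Nonempty := by
      by_contra hcon
      rw [Finset.not_nonempty_iff_eq_empty] at hcon
      have h1 : s.filter (fun k => x k = x p) = s := by
        rw [Finset.filter_eq_self]
        intro k hk
        by_contra hne
        have : k ∈ s.filter fun k => x k ≠ x p := Finset.mem_filter.mpr ⟨hk, hne⟩
        rw [hcon] at this
        exact absurd this (Finset.notMem_empty k)
      have h2 := hx (x p)
      rw [h1, hs] at h2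
      omega
    obtain ⟨q, hq, hqmax⟩ := Finset.exists_max_image _ cls hs2ne
    rw [Finset.mem_filter] at hq
    obtain ⟨hqs, hqp⟩ := hq
    have hpq : p ≠ q := fun h => hqp (by rw [h])
    set s' := (s.erase p).erase q with hs'
    have hqs' : q ∈ s.erase p := Finset.mem_erase.mpr ⟨Ne.symm hpq, hqs⟩
    have hcard' : s'.card = 2 * e + 1 := by
      rw [hs', Finset.card_erase_of_mem hqs', Finset.card_erase_of_mem hp, hs]
      omega
    have hmem' : ∀ m, m ∈ s' ↔ m ∈ s ∧ m ≠ p ∧ m ≠ q := by
      intro m
      simp only [hs', Finset.mem_erase]
      tauto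
    have hx' : ∀ a : α, (s'.filter fun k => x k = a).card ≤ e := by
      intro a
      by_cases hap : a = x p
      · have hsub : (s'.filter fun k => x k = a) ⊆ (s.filter fun k => x k = a).erase p := by
          intro k hk
          rw [Finset.mem_filter, hmem'] at hk
          exact Finset.mem_erase.mpr ⟨hk.1.2.1, Finset.mem_filter.mpr ⟨hk.1.1, hk.2⟩⟩
        have h1 := Finset.card_le_card hsub
        rw [Finset.card_erase_of_mem (Finset.mem_filter.mpr ⟨hp, hap.symm⟩)] at h1
        have := hx a
        omega
      by_cases haq : a = x q
      · have hsub : (s'.filter fun k => x k = a) ⊆ (s.filter fun k => x k = a).erase q := by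
          intro k hk
          rw [Finset.mem_filter, hmem'] at hk
          exact Finset.mem_erase.mpr ⟨hk.1.2.2, Finset.mem_filter.mpr ⟨hk.1.1, hk.2⟩⟩
        have h1 := Finset.card_le_card hsub
        rw [Finset.card_erase_of_mem (Finset.mem_filter.mpr ⟨hqs, haq.symm⟩)] at h1
        have := hx a
        omega
      by_contra hcon
      rw [not_le] at hcon
      have hsub : (s'.filter fun k => x k = a) ⊆ (s.filter fun k => x k = a) := by
        intro k hk
        rw [Finset.mem_filter, hmem'] at hk
        exact Finset.mem_filter.mpr ⟨hk.1.1, hk.2⟩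
      have h1 := Finset.card_le_card hsub
      have hne : (s'.filter fun k => x k = a).Nonempty := by
        rw [← Finset.card_pos]; omega
      obtain ⟨v, hv⟩ := hne
      rw [Finset.mem_filter, hmem'] at hv
      obtain ⟨⟨hvs, -, -⟩, hva⟩ := hv
      have hA : e + 1 ≤ (s.filter fun k => x k = a).card := by omega
      have hP : e + 1 ≤ (s.filter fun k => x k = x p).card := by
        have := hpmax v hvs
        simp only [cls, hva] at this
        omega
      have hQ : e + 1 ≤ (s.filter fun k => x k = x q).card := by
        have := hqmax v (Finset.mem_filter.mpr ⟨hvs, by rw [hva]; exact hap⟩)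
        simp only [cls, hva] at this
        omega
      have hd1 : Disjoint (s.filter fun k => x k = a) (s.filter fun k => x k = x p) := by
        rw [Finset.disjoint_filter]
        intro k _ h1 h2
        exact hap (h1.symm.trans h2)
      have hd2 : Disjoint ((s.filter fun k => x k = a) ∪ (s.filter fun k => x k = x p))
          (s.filter fun k => x k = x q) := by
        rw [Finset.disjoint_union_left, Finset.disjoint_filter, Finset.disjoint_filter]
        refine ⟨fun k _ h1 h2 => haq (h1.symm.trans h2), fun k _ h1 h2 => hqp (h2.symm.trans h1)⟩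
      have hU : ((s.filter fun k => x k = a) ∪ (s.filter fun k => x k = x p)) ∪
          (s.filter fun k => x k = x q) ⊆ s := by
        intro k hk
        simp only [Finset.mem_union, Finset.mem_filter] at hk
        rcases hk with (hk | hk) | hk <;> exact hk.1
      have h2 := Finset.card_le_card hU
      rw [Finset.card_union_of_disjoint hd2, Finset.card_union_of_disjoint hd1, hs] at h2
      omega
    obtain ⟨l', hlen, hcount, hneq, a, b, c, rest, hl'⟩ := ih s' hcard' hx'
    refine ⟨l' ++ [(p, q), (p, q)], ?_, ?_, ?_, a, b, c, rest ++ [(p, q), (p, q)], ?_⟩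
    · rw [List.length_append, hlen]; simp; omega
    · intro m
      have h0 := hcount m
      simp only [List.map_append, List.count_append, List.map_cons, List.map_nil, List.count_cons,
        List.count_nil, beq_iff_eq]
      have hm := hmem' m
      by_cases h1 : m = p
      · subst h1
        have : m ∉ s' := fun h => ((hmem' m).mp h).2.1 rfl
        rw [if_neg this] at h0
        simp [hp, Ne.symm hpq]
        omega
      by_cases h2 : m = q
      · subst h2
        have : m ∉ s' := fun h => ((hmem' m).mp h).2.2 rfl
        rw [if_neg this] at h0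
        simp [hqs, hpq]
        omega
      have hiff : m ∈ s' ↔ m ∈ s := by rw [hm]; tauto
      simp only [hiff] at h0
      simp [Ne.symm h1, Ne.symm h2]
      exact h0
    · intro ab hab
      rw [List.mem_append] at hab
      rcases hab with hab | hab
      · exact hneq ab hab
      · simp only [List.mem_cons, List.not_mem_nil, or_false, or_self] at hab
        subst hab
        exact fun h => hqp h.symm
    · rw [hl']; rfl

/-- Let e ≥ 1, n = 2e + 1, and let x_1, …, x_n be points such that no point occurs more than e times
among them (the stability condition for n ordered points on a line, n odd). Then there are index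
sequences i_1, …, i_n and j_1, …, j_n in which every index between 1 and n occurs exactly twice in
total, such that x_{i_k} ≠ x_{j_k} for every k and (i_1, i_2, i_3) = (j_3, j_1, j_2). Indices are
written 0, …, n − 1 here. -/
theorem result {α : Type u} [DecidableEq α] (e : ℕ) (he : 1 ≤ e)
    (x : Fin (2 * e + 1) → α)
    (hx : ∀ a : α, (Finset.univ.filter fun k => x k = a).card ≤ e) :
    ∃ i j : Fin (2 * e + 1) → Fin (2 * e + 1),
      (∀ m : Fin (2 * e + 1),
        (Finset.univ.filter fun k => i k = m).card + (Finset.univ.filter fun k => j k = m).card = 2) ∧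
      (∀ k, x (i k) ≠ x (j k)) ∧
      i 0 = j 2 ∧ i 1 = j 0 ∧ i 2 = j 1 := by
  obtain ⟨l, hlen, hcount, hneq, a, b, c, rest, hl⟩ :=
    list_form x e he Finset.univ (by simp) hx
  have h0 : ((0 : Fin (2 * e + 1)) : ℕ) = 0 := by simp
  have h1 : ((1 : Fin (2 * e + 1)) : ℕ) = 1 := by simp; omega
  have h2 : ((2 : Fin (2 * e + 1)) : ℕ) = 2 := by simp; omega
  have key : ∀ (n : ℕ) (hn : l.length = n), ∃ i j : Fin n → Fin (2 * e + 1),
      (∀ m, (Finset.univ.filter fun k => i k = m).card = (l.map Prod.fst).count m) ∧
      (∀ m, (Finset.univ.filter fun k => j k = m).card = (l.map Prod.snd).count m) ∧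
      (∀ k, (i k, j k) ∈ l) ∧
      ∀ (k : Fin n) (ab : Fin (2 * e + 1) × Fin (2 * e + 1)), l[(k : ℕ)]? = some ab →
        i k = ab.1 ∧ j k = ab.2 := by
    intro n hn
    subst hn
    refine ⟨fun k => (l.get k).1, fun k => (l.get k).2, ?_, ?_, ?_, ?_⟩
    · intro m
      rw [← card_filter_get_eq_count]
      apply Finset.card_bij (fun k _ => Fin.cast (by simp) k)
      · intro k hk
        simpa using hk
      · intro k₁ _ k₂ _ h
        exact Fin.cast_injective _ h
      · intro k hk
        refine ⟨Fin.cast (by simp) k, ?_, by simp⟩
        simpa using hk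
    · intro m
      rw [← card_filter_get_eq_count]
      apply Finset.card_bij (fun k _ => Fin.cast (by simp) k)
      · intro k hk
        simpa using hk
      · intro k₁ _ k₂ _ h
        exact Fin.cast_injective _ h
      · intro k hk
        refine ⟨Fin.cast (by simp) k, ?_, by simp⟩
        simpa using hk
    · intro k
      exact List.get_mem l k
    · intro k ab hk
      rw [List.getElem?_eq_getElem k.2] at hk
      have : l.get k = ab := Option.some.inj hk
      show (l.get k).1 = ab.1 ∧ (l.get k).2 = ab.2
      rw [this]
      exact ⟨rfl, rfl⟩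
  obtain ⟨i, j, hi, hj, hmem, hget⟩ := key (2 * e + 1) hlen
  refine ⟨i, j, ?_, ?_, ?_, ?_, ?_⟩
  · intro m
    rw [hi, hj, hcount]
    simp
  · intro k
    exact hneq _ (hmem k)
  · have e0 := hget 0 (a, b) (by rw [h0, hl]; rfl)
    have e2 := hget 2 (c, a) (by rw [h2, hl]; rfl)
    rw [e0.1, e2.2]
  · have e0 := hget 0 (a, b) (by rw [h0, hl]; rfl)
    have e1 := hget 1 (b, c) (by rw [h1, hl]; rfl)
    rw [e0.2, e1.1]
  · have e1 := hget 1 (b, c) (by rw [h1, hl]; rfl)
    have e2 := hget 2 (c, a) (by rw [h2, hl]; rfl)
    rw [e1.2, e2.1]

end Groth.Agent.S19390
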