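import Mathlib
import Groth.Statements.S19392
import Groth.Agent.S19391

set_option autoImplicit false
universe u
open InvQ

namespace Groth.Agent.S19392

open Groth.Agent.S19391

section
variable {R : Type u} [CommRing R] (la mu : Fin 4 → R)

/-- the bracket `[a b]` -/
def br (a b : Fin 4) : R := la a * mu b - la b * mu a

theorem two_invI :
    2 * W4c6intromoduli.invI (W4c6intromoduli.coef la mu) =
      (br la mu 0 1 * br la mu 2 3) ^ 2 + (br la mu 0 2 * br la mu 3 1) ^ 2
        + (br la mu 0 3 * br la mu 1 2) ^ 2 := by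
  obtain ⟨h0, h1, h2, h3, h4⟩ := coef_vals la mu
  rw [W4c6intromoduli.invI, h0, h1, h2, h3, h4]
  unfold br
  ring

theorem invJ_eq :
    W4c6intromoduli.invJ (W4c6intromoduli.coef la mu) =
      (br la mu 0 1 * br la mu 2 3 - br la mu 0 2 * br la mu 3 1)
      * (br la mu 0 2 * br la mu 3 1 - br la mu 0 3 * br la mu 1 2)
      * (br la mu 0 3 * br la mu 1 2 - br la mu 0 1 * br la mu 2 3) := by
  obtain ⟨h0, h1, h2, h3, h4⟩ := coef_vals la mu
  rw [W4c6intromoduli.invJ, h0, h1, h2, h3, h4]
  unfold br
  ring

theorem plucker :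
    br la mu 0 1 * br la mu 2 3 + br la mu 0 2 * br la mu 3 1 + br la mu 0 3 * br la mu 1 2 = 0 := by
  unfold br
  ring

end

theorem comb (i j l : Fin 4) (hij : i ≠ j) (hjl : j ≠ l) (hil : i ≠ l) :
    ((((0 : Fin 4) = i ∨ 0 = j ∨ 0 = l) ∧ ((1 : Fin 4) = i ∨ 1 = j ∨ 1 = l)) ∨
      (((2 : Fin 4) = i ∨ 2 = j ∨ 2 = l) ∧ ((3 : Fin 4) = i ∨ 3 = j ∨ 3 = l))) ∧
    ((((0 : Fin 4) = i ∨ 0 = j ∨ 0 = l) ∧ ((2 : Fin 4) = i ∨ 2 = j ∨ 2 = l)) ∨
      (((3 : Fin 4) = i ∨ 3 = j ∨ 3 = l) ∧ ((1 : Fin 4) = i ∨ 1 = j ∨ 1 = l))) ∧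
    ((((0 : Fin 4) = i ∨ 0 = j ∨ 0 = l) ∧ ((3 : Fin 4) = i ∨ 3 = j ∨ 3 = l)) ∨
      (((1 : Fin 4) = i ∨ 1 = j ∨ 1 = l) ∧ ((2 : Fin 4) = i ∨ 2 = j ∨ 2 = l))) := by
  revert hij hjl hil
  fin_cases i <;> fin_cases j <;> fin_cases l <;> decide

/-- Over a field of characteristic different from 2 and 3, a nonzero binary quartic f has P(f) = Q(f) =
0 for the two basic invariants P, Q if and only if f has a triple zero. Stated for f = ∏_i (μ_i X₀ −
λ_i X₁) given by four root points (λ_i, μ_i) ≠ (0, 0) (over an algebraically closed field every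
nonzero quartic form is of this shape), with the integral invariants I = 6P and J = 72Q of the
coefficients of f; a triple zero means that three of the four root points are pairwise proportional. -/
theorem result (k : Type u) [Field k]
    (h2 : (2 : k) ≠ 0) (h3 : (3 : k) ≠ 0) (la mu : Fin 4 → k) (hne : ∀ i, la i ≠ 0 ∨ mu i ≠ 0) :
    (W4c6intromoduli.invI (W4c6intromoduli.coef la mu) = 0 ∧
        W4c6intromoduli.invJ (W4c6intromoduli.coef la mu) = 0) ↔
      ∃ i j l : Fin 4, i ≠ j ∧ j ≠ l ∧ i ≠ l ∧
        la i * mu j = la j * mu i ∧ la j * mu l = la l * mu j := by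
  set A := br la mu 0 1 * br la mu 2 3 with hA
  set B := br la mu 0 2 * br la mu 3 1 with hB
  set C := br la mu 0 3 * br la mu 1 2 with hC
  have hI := two_invI la mu
  have hJ := invJ_eq la mu
  have hP : A + B + C = 0 := plucker la mu
  rw [← hA, ← hB, ← hC] at hI hJ
  constructor
  · rintro ⟨hI0, hJ0⟩
    rw [hI0, mul_zero] at hI
    rw [hJ0] at hJ
    have h6 : (6 : k) ≠ 0 := by
      have : (6 : k) = 2 * 3 := by norm_num
      rw [this]; exact mul_ne_zero h2 h3
    -- A = B = C = 0
    have hABC : A = 0 ∧ B = 0 ∧ C = 0 := by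
      have hC' : C = -A - B := by linear_combination hP
      rcases mul_eq_zero.mp hJ.symm with h | h
      · rcases mul_eq_zero.mp h with h | h
        · -- A = B
          have hAB : A = B := sub_eq_zero.mp h
          have : 6 * A ^ 2 = 0 := by rw [hC', ← hAB] at hI; linear_combination -hI
          have hA0 : A = 0 := by
            have := (mul_eq_zero.mp this).resolve_left h6
            exact pow_eq_zero_iff (two_ne_zero) |>.mp this
          refine ⟨hA0, by rw [← hAB, hA0], by rw [hC', ← hAB, hA0]; ring⟩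
        · -- B = C
          have hBC : B = C := sub_eq_zero.mp h
          have hA' : A = -2 * B := by linear_combination hP + hBC
          have : 6 * B ^ 2 = 0 := by rw [← hBC, hA'] at hI; linear_combination -hI
          have hB0 : B = 0 := by
            have := (mul_eq_zero.mp this).resolve_left h6
            exact pow_eq_zero_iff (two_ne_zero) |>.mp this
          refine ⟨by rw [hA', hB0]; ring, hB0, by rw [← hBC, hB0]⟩
      · -- C = A
        have hCA : C = A := sub_eq_zero.mp h
        have hB' : B = -2 * A := by linear_combination hP - hCA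
        have : 6 * A ^ 2 = 0 := by rw [hCA, hB'] at hI; linear_combination -hI
        have hA0 : A = 0 := by
          have := (mul_eq_zero.mp this).resolve_left h6
          exact pow_eq_zero_iff (two_ne_zero) |>.mp this
        refine ⟨hA0, by rw [hB', hA0]; ring, by rw [hCA, hA0]⟩
    obtain ⟨hA0, hB0, -⟩ := hABC
    rw [hA] at hA0
    rw [hB] at hB0
    unfold br at hA0 hB0
    rcases mul_eq_zero.mp hA0 with h01 | h23 <;> rcases mul_eq_zero.mp hB0 with h02 | h31
    · exact ⟨1, 0, 2, by decide, by decide, by decide, by linear_combination -h01, by linear_combination h02⟩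
    · exact ⟨0, 1, 3, by decide, by decide, by decide, by linear_combination h01, by linear_combination -h31⟩
    · exact ⟨3, 2, 0, by decide, by decide, by decide, by linear_combination -h23, by linear_combination -h02⟩
    · exact ⟨2, 3, 1, by decide, by decide, by decide, by linear_combination h23, by linear_combination h31⟩
  · rintro ⟨i, j, l, hij, hjl, hil, e1, e2⟩
    have e3 : la i * mu l = la l * mu i := by
      rcases hne j with hj | hj
      · apply mul_left_cancel₀ hj
        linear_combination la i * e2 + la l * e1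
      · apply mul_left_cancel₀ hj
        linear_combination mu l * e1 + mu i * e2
    have hd : ∀ a b : Fin 4, (a = i ∨ a = j ∨ a = l) → (b = i ∨ b = j ∨ b = l) → br la mu a b = 0 := by
      intro a b ha hb
      unfold br
      rcases ha with rfl | rfl | rfl <;> rcases hb with rfl | rfl | rfl
      · ring
      · linear_combination e1
      · linear_combination e3
      · linear_combination -e1
      · ring
      · linear_combination e2
      · linear_combination -e3
      · linear_combination -e2
      · ring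
    obtain ⟨c1, c2, c3⟩ := comb i j l hij hjl hil
    have hA0 : A = 0 := by
      rw [hA]
      rcases c1 with ⟨x, y⟩ | ⟨x, y⟩
      · rw [hd 0 1 x y, zero_mul]
      · rw [hd 2 3 x y, mul_zero]
    have hB0 : B = 0 := by
      rw [hB]
      rcases c2 with ⟨x, y⟩ | ⟨x, y⟩
      · rw [hd 0 2 x y, zero_mul]
      · rw [hd 3 1 x y, mul_zero]
    have hC0 : C = 0 := by
      rw [hC]
      rcases c3 with ⟨x, y⟩ | ⟨x, y⟩
      · rw [hd 0 3 x y, zero_mul]
      · rw [hd 1 2 x y, mul_zero]
    rw [hA0, hB0, hC0] at hI hJ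
    refine ⟨?_, by rw [hJ]; ring⟩
    have : 2 * W4c6intromoduli.invI (W4c6intromoduli.coef la mu) = 0 := by rw [hI]; ring
    exact (mul_eq_zero.mp this).resolve_left h2

end Groth.Agent.S19392
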