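import Mathlib
import Groth.Statements.S19393
import Groth.Agent.S19391
import Groth.Agent.S19392

set_option autoImplicit false
universe u
open InvQ

namespace Aux19393
open MvPolynomial W4c6intromoduli

variable {k : Type u} [Field k]

theorem match_rest (s A B C A' B' C' : k) (hs : s ≠ 0) (hA : A ≠ 0)
    (hP : A + B + C = 0) (hP' : A' + B' + C' = 0)
    (h3 : s ^ 3 * (A * B * C) = A' * B' * C') (hA' : A' = s * A) :
    (B' = s * B ∧ C' = s * C) ∨ (B' = s * C ∧ C' = s * B) := by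
  have hBC : B' * C' = s ^ 2 * (B * C) := by
    apply mul_left_cancel₀ (mul_ne_zero hs hA)
    linear_combination (-(B' * C')) * hA' - h3
  have hsum : B' + C' = s * (B + C) := by linear_combination hP' - hA' - s * hP
  have hq : (B' - s * B) * (B' - s * C) = 0 := by linear_combination B' * hsum - hBC
  rcases mul_eq_zero.mp hq with h | h
  · have hB : B' = s * B := sub_eq_zero.mp h
    exact Or.inl ⟨hB, by linear_combination hsum - hB⟩
  · have hB : B' = s * C := sub_eq_zero.mp h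
    exact Or.inr ⟨hB, by linear_combination hsum - hB⟩

theorem cubic_match (A B C A' B' C' : k)
    (hP : A + B + C = 0) (hP' : A' + B' + C' = 0)
    (h0 : A * B * C ≠ 0) (h0' : A' * B' * C' ≠ 0)
    (hrel : (A * B + B * C + C * A) ^ 3 * (A' * B' * C') ^ 2 =
      (A' * B' + B' * C' + C' * A') ^ 3 * (A * B * C) ^ 2) :
    ∃ s : k, s ≠ 0 ∧
      ((A' = s * A ∧ B' = s * B ∧ C' = s * C) ∨ (A' = s * A ∧ B' = s * C ∧ C' = s * B) ∨
       (A' = s * B ∧ B' = s * A ∧ C' = s * C) ∨ (A' = s * B ∧ B' = s * C ∧ C' = s * A) ∨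
       (A' = s * C ∧ B' = s * A ∧ C' = s * B) ∨ (A' = s * C ∧ B' = s * B ∧ C' = s * A)) := by
  have hA : A ≠ 0 := fun h => h0 (by rw [h]; ring)
  have hB : B ≠ 0 := fun h => h0 (by rw [h]; ring)
  have hC : C ≠ 0 := fun h => h0 (by rw [h]; ring)
  have hA'n : A' ≠ 0 := fun h => h0' (by rw [h]; ring)
  obtain ⟨s, hs, h2, h3⟩ : ∃ s : k, s ≠ 0 ∧
      s ^ 2 * (A * B + B * C + C * A) = A' * B' + B' * C' + C' * A' ∧
      s ^ 3 * (A * B * C) = A' * B' * C' := by
    by_cases he : A * B + B * C + C * A = 0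
    · have he' : A' * B' + B' * C' + C' * A' = 0 := by
        rw [he] at hrel
        have : (A' * B' + B' * C' + C' * A') ^ 3 * (A * B * C) ^ 2 = 0 := by rw [← hrel]; ring
        rcases mul_eq_zero.mp this with h | h
        · exact (pow_eq_zero_iff (by norm_num)).mp h
        · exact absurd ((pow_eq_zero_iff (by norm_num)).mp h) h0
      have hA3 : A ^ 3 = A * B * C := by linear_combination A ^ 2 * hP - A * he
      have hA3' : A' ^ 3 = A' * B' * C' := by linear_combination A' ^ 2 * hP' - A' * he'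
      refine ⟨A' / A, div_ne_zero hA'n hA, ?_, ?_⟩
      · rw [he, he']; ring
      · rw [← hA3, ← hA3', div_pow, div_mul_cancel₀ _ (pow_ne_zero 3 hA)]
    · have he' : A' * B' + B' * C' + C' * A' ≠ 0 := by
        intro he'
        rw [he'] at hrel
        have : (A * B + B * C + C * A) ^ 3 * (A' * B' * C') ^ 2 = 0 := by rw [hrel]; ring
        rcases mul_eq_zero.mp this with h | h
        · exact he ((pow_eq_zero_iff (by norm_num)).mp h)
        · exact h0' ((pow_eq_zero_iff (by norm_num)).mp h)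
      have hden : A * B * C * (A' * B' + B' * C' + C' * A') ≠ 0 := mul_ne_zero h0 he'
      obtain ⟨s, hsdef⟩ : ∃ s, s = (A' * B' * C' * (A * B + B * C + C * A)) /
          (A * B * C * (A' * B' + B' * C' + C' * A')) := ⟨_, rfl⟩
      have hu : s * (A * B * C * (A' * B' + B' * C' + C' * A')) =
          A' * B' * C' * (A * B + B * C + C * A) := by
        rw [hsdef, div_mul_cancel₀ _ hden]
      refine ⟨s, ?_, ?_, ?_⟩
      · rw [hsdef]; exact div_ne_zero (mul_ne_zero h0' he) hden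
      · apply mul_right_cancel₀ (pow_ne_zero 2 hden)
        linear_combination (s * (A * B * C * (A' * B' + B' * C' + C' * A')) +
          A' * B' * C' * (A * B + B * C + C * A)) * (A * B + B * C + C * A) * hu + hrel
      · apply mul_right_cancel₀ (pow_ne_zero 3 hden)
        linear_combination ((s * (A * B * C * (A' * B' + B' * C' + C' * A'))) ^ 2 +
          (s * (A * B * C * (A' * B' + B' * C' + C' * A'))) *
            (A' * B' * C' * (A * B + B * C + C * A)) +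
          (A' * B' * C' * (A * B + B * C + C * A)) ^ 2) * (A * B * C) * hu +
          (A' * B' * C') * (A * B * C) * hrel
  have hroot : (A' - s * A) * (A' - s * B) * (A' - s * C) = 0 := by
    linear_combination (-s * A' ^ 2) * hP + A' * h2 - h3 + A' ^ 2 * hP'
  rcases mul_eq_zero.mp hroot with h | h
  · rcases mul_eq_zero.mp h with h | h
    · have hA' : A' = s * A := sub_eq_zero.mp h
      rcases match_rest s A B C A' B' C' hs hA hP hP' h3 hA' with ⟨hb, hc⟩ | ⟨hb, hc⟩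
      · exact ⟨s, hs, Or.inl ⟨hA', hb, hc⟩⟩
      · exact ⟨s, hs, Or.inr (Or.inl ⟨hA', hb, hc⟩)⟩
    · have hA' : A' = s * B := sub_eq_zero.mp h
      rcases match_rest s B A C A' B' C' hs hB (by linear_combination hP) hP'
        (by linear_combination h3) hA' with ⟨hb, hc⟩ | ⟨hb, hc⟩
      · exact ⟨s, hs, Or.inr (Or.inr (Or.inl ⟨hA', hb, hc⟩))⟩
      · exact ⟨s, hs, Or.inr (Or.inr (Or.inr (Or.inl ⟨hA', hb, hc⟩)))⟩
  · have hA' : A' = s * C := sub_eq_zero.mp h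
    rcases match_rest s C A B A' B' C' hs hC (by linear_combination hP) hP'
      (by linear_combination h3) hA' with ⟨hb, hc⟩ | ⟨hb, hc⟩
    · exact ⟨s, hs, Or.inr (Or.inr (Or.inr (Or.inr (Or.inl ⟨hA', hb, hc⟩))))⟩
    · exact ⟨s, hs, Or.inr (Or.inr (Or.inr (Or.inr (Or.inr ⟨hA', hb, hc⟩))))⟩

theorem br_ne_all (la mu : Fin 4 → k) (hd : disc la mu ≠ 0) (a b : Fin 4) (hab : a ≠ b) :
    la a * mu b - la b * mu a ≠ 0 := by
  unfold W4c6intromoduli.disc at hd
  rw [Finset.prod_ne_zero_iff] at hd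
  intro h0
  rcases lt_or_gt_of_ne hab with hlt | hgt
  · refine hd (a, b) (by simp [hlt]) ?_
    show (la b * mu a - la a * mu b) ^ 2 = 0
    have : la b * mu a - la a * mu b = 0 := by linear_combination -h0
    rw [this]; ring
  · refine hd (b, a) (by simp [hgt]) ?_
    show (la a * mu b - la b * mu a) ^ 2 = 0
    rw [h0]; ring

theorem subst_lin' (a b c d l m : k) :
    subst !![a, b; c, d] (C m * X 0 - C l * X 1) =
      C (m * a - l * c) * X 0 - C (l * d - m * b) * X 1 := by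
  simp only [subst, map_sub, map_mul, aeval_X, aeval_C, Fin.sum_univ_two, algebraMap_eq,
    C_sub, C_mul, Matrix.of_apply, Matrix.cons_val', Matrix.cons_val_zero, Matrix.cons_val_one,
    Matrix.cons_val_fin_one]
  ring

theorem factor_eq (a b c d l m x y e : k) (h1 : m * a - l * c = e * y)
    (h2 : l * d - m * b = e * x) :
    subst !![a, b; c, d] (C m * X 0 - C l * X 1) = C e * (C y * X 0 - C x * X 1) := by
  rw [subst_lin', h1, h2, C_mul, C_mul]; ring

theorem final' (l0 m0 l1 m1 l2 m2 l3 m3 x0 y0 x1 y1 x2 y2 x3 y3 : k)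
    (p01 : l0 * m1 - l1 * m0 ≠ 0) (p02 : l0 * m2 - l2 * m0 ≠ 0)
    (p21 : l2 * m1 - l1 * m2 ≠ 0) (p31 : l3 * m1 - l1 * m3 ≠ 0)
    (q01 : x0 * y1 - x1 * y0 ≠ 0) (q02 : x0 * y2 - x2 * y0 ≠ 0)
    (q21 : x2 * y1 - x1 * y2 ≠ 0) (q31 : x3 * y1 - x1 * y3 ≠ 0)
    (hcr : (l0 * m2 - l2 * m0) * (l3 * m1 - l1 * m3) * ((x0 * y3 - x3 * y0) * (x1 * y2 - x2 * y1)) =
      (l0 * m3 - l3 * m0) * (l1 * m2 - l2 * m1) * ((x0 * y2 - x2 * y0) * (x3 * y1 - x1 * y3))) :
    ∃ (M : Matrix (Fin 2) (Fin 2) k) (c : k), IsUnit M.det ∧ c ≠ 0 ∧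
      (C y0 * X 0 - C x0 * X 1) * (C y1 * X 0 - C x1 * X 1) * (C y2 * X 0 - C x2 * X 1) *
        (C y3 * X 0 - C x3 * X 1)
      = C c * subst M ((C m0 * X 0 - C l0 * X 1) * (C m1 * X 0 - C l1 * X 1) *
        (C m2 * X 0 - C l2 * X 1) * (C m3 * X 0 - C l3 * X 1)) := by
  obtain ⟨c0, hc0⟩ : ∃ c0, c0 = (x2 * y1 - x1 * y2) * (l0 * m2 - l2 * m0) := ⟨_, rfl⟩
  obtain ⟨c1, hc1⟩ : ∃ c1, c1 = (x0 * y2 - x2 * y0) * (l2 * m1 - l1 * m2) := ⟨_, rfl⟩
  have hc0n : c0 ≠ 0 := by rw [hc0]; exact mul_ne_zero q21 p02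
  have hc1n : c1 ≠ 0 := by rw [hc1]; exact mul_ne_zero q02 p21
  obtain ⟨T00, hT00⟩ : ∃ t, t = c0 * x0 * m1 - c1 * x1 * m0 := ⟨_, rfl⟩
  obtain ⟨T01, hT01⟩ : ∃ t, t = -(c0 * x0 * l1) + c1 * x1 * l0 := ⟨_, rfl⟩
  obtain ⟨T10, hT10⟩ : ∃ t, t = c0 * y0 * m1 - c1 * y1 * m0 := ⟨_, rfl⟩
  obtain ⟨T11, hT11⟩ : ∃ t, t = -(c0 * y0 * l1) + c1 * y1 * l0 := ⟨_, rfl⟩
  obtain ⟨d0, hd0⟩ : ∃ d, d = c0 * (l0 * m1 - l1 * m0) := ⟨_, rfl⟩
  obtain ⟨d1, hd1⟩ : ∃ d, d = c1 * (l0 * m1 - l1 * m0) := ⟨_, rfl⟩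
  obtain ⟨d2, hd2⟩ : ∃ d, d = (l2 * m1 - l1 * m2) * (l0 * m2 - l2 * m0) * (x0 * y1 - x1 * y0) :=
    ⟨_, rfl⟩
  obtain ⟨d3, hd3⟩ : ∃ d, d = (x2 * y1 - x1 * y2) * (l0 * m2 - l2 * m0) * (l3 * m1 - l1 * m3) *
      (x0 * y1 - x1 * y0) / (x3 * y1 - x1 * y3) := ⟨_, rfl⟩
  have hd0n : d0 ≠ 0 := by rw [hd0]; exact mul_ne_zero hc0n p01
  have hd1n : d1 ≠ 0 := by rw [hd1]; exact mul_ne_zero hc1n p01
  have hd2n : d2 ≠ 0 := by rw [hd2]; exact mul_ne_zero (mul_ne_zero p21 p02) q01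
  have hd3n : d3 ≠ 0 := by
    rw [hd3]
    exact div_ne_zero (mul_ne_zero (mul_ne_zero (mul_ne_zero q21 p02) p31) q01) q31
  have e0a : l0 * T00 + m0 * T01 = d0 * x0 := by rw [hT00, hT01, hd0]; ring
  have e0b : m0 * T11 + l0 * T10 = d0 * y0 := by rw [hT11, hT10, hd0]; ring
  have e1a : l1 * T00 + m1 * T01 = d1 * x1 := by rw [hT00, hT01, hd1]; ring
  have e1b : m1 * T11 + l1 * T10 = d1 * y1 := by rw [hT11, hT10, hd1]; ring
  have e2a : l2 * T00 + m2 * T01 = d2 * x2 := by rw [hT00, hT01, hd2, hc0, hc1]; ring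
  have e2b : m2 * T11 + l2 * T10 = d2 * y2 := by rw [hT11, hT10, hd2, hc0, hc1]; ring
  have e3a : l3 * T00 + m3 * T01 = d3 * x3 := by
    rw [hd3, div_mul_eq_mul_div, eq_div_iff q31, hT00, hT01, hc0, hc1]
    linear_combination x1 * hcr
  have e3b : m3 * T11 + l3 * T10 = d3 * y3 := by
    rw [hd3, div_mul_eq_mul_div, eq_div_iff q31, hT11, hT10, hc0, hc1]
    linear_combination y1 * hcr
  have f0 := factor_eq T11 (-T01) (-T10) T00 l0 m0 x0 y0 d0
    (by linear_combination e0b) (by linear_combination e0a)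
  have f1 := factor_eq T11 (-T01) (-T10) T00 l1 m1 x1 y1 d1
    (by linear_combination e1b) (by linear_combination e1a)
  have f2 := factor_eq T11 (-T01) (-T10) T00 l2 m2 x2 y2 d2
    (by linear_combination e2b) (by linear_combination e2a)
  have f3 := factor_eq T11 (-T01) (-T10) T00 l3 m3 x3 y3 d3
    (by linear_combination e3b) (by linear_combination e3a)
  have hdn : d0 * d1 * d2 * d3 ≠ 0 :=
    mul_ne_zero (mul_ne_zero (mul_ne_zero hd0n hd1n) hd2n) hd3n
  refine ⟨!![T11, -T01; -T10, T00], (d0 * d1 * d2 * d3)⁻¹, ?_, inv_ne_zero hdn, ?_⟩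
  · rw [Matrix.det_fin_two_of, isUnit_iff_ne_zero]
    have : T11 * T00 - -T01 * -T10 =
        c0 * c1 * (x0 * y1 - x1 * y0) * (l0 * m1 - l1 * m0) := by
      rw [hT00, hT01, hT10, hT11]; ring
    rw [this]
    exact mul_ne_zero (mul_ne_zero (mul_ne_zero hc0n hc1n) q01) p01
  · rw [map_mul, map_mul, map_mul, f0, f1, f2, f3]
    have hcc : (C ((d0 * d1 * d2 * d3)⁻¹) : MvPolynomial (Fin 2) k) *
        (C d0 * C d1 * C d2 * C d3) = 1 := by
      have : (C d0 * C d1 * C d2 * C d3 : MvPolynomial (Fin 2) k) = C (d0 * d1 * d2 * d3) := by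
        simp only [C_mul]
      rw [this, ← C_mul, inv_mul_cancel₀ hdn, C_1]
    have key : ∀ L0 L1 L2 L3 : MvPolynomial (Fin 2) k, L0 * L1 * L2 * L3 =
        C ((d0 * d1 * d2 * d3)⁻¹) * (C d0 * L0 * (C d1 * L1) * (C d2 * L2) * (C d3 * L3)) := by
      intro L0 L1 L2 L3
      linear_combination (-(L0 * L1 * L2 * L3)) * hcc
    exact key _ _ _ _

theorem finish (la mu la' mu' : Fin 4 → k)
    (hb : ∀ a b : Fin 4, a ≠ b → la a * mu b - la b * mu a ≠ 0)
    (hb' : ∀ a b : Fin 4, a ≠ b → la' a * mu' b - la' b * mu' a ≠ 0)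
    (i0 i1 i2 i3 : Fin 4) (n01 : i0 ≠ i1) (n02 : i0 ≠ i2) (n21 : i2 ≠ i1) (n31 : i3 ≠ i1)
    (hprod : ∀ f : Fin 4 → MvPolynomial (Fin 2) k, f i0 * f i1 * f i2 * f i3 = f 0 * f 1 * f 2 * f 3)
    (B C' B2 C2 : k)
    (dB : B = (la 0 * mu 2 - la 2 * mu 0) * (la 3 * mu 1 - la 1 * mu 3))
    (dC : C' = (la 0 * mu 3 - la 3 * mu 0) * (la 1 * mu 2 - la 2 * mu 1))
    (dB2 : B2 = (la' i0 * mu' i2 - la' i2 * mu' i0) * (la' i3 * mu' i1 - la' i1 * mu' i3))
    (dC2 : C2 = (la' i0 * mu' i3 - la' i3 * mu' i0) * (la' i1 * mu' i2 - la' i2 * mu' i1))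
    (hcr : B * C2 = C' * B2) :
    ∃ (M : Matrix (Fin 2) (Fin 2) k) (c : k), IsUnit M.det ∧ c ≠ 0 ∧
      binForm la' mu' = MvPolynomial.C c * subst M (binForm la mu) := by
  subst dB dC dB2 dC2
  obtain ⟨M, c, hM, hc, heq⟩ := final' (la 0) (mu 0) (la 1) (mu 1) (la 2) (mu 2) (la 3) (mu 3)
    (la' i0) (mu' i0) (la' i1) (mu' i1) (la' i2) (mu' i2) (la' i3) (mu' i3)
    (hb 0 1 (by decide)) (hb 0 2 (by decide)) (hb 2 1 (by decide)) (hb 3 1 (by decide))
    (hb' i0 i1 n01) (hb' i0 i2 n02) (hb' i2 i1 n21) (hb' i3 i1 n31) hcr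
  refine ⟨M, c, hM, hc, ?_⟩
  have bf : binForm la mu = (C (mu 0) * X 0 - C (la 0) * X 1) * (C (mu 1) * X 0 - C (la 1) * X 1) *
      (C (mu 2) * X 0 - C (la 2) * X 1) * (C (mu 3) * X 0 - C (la 3) * X 1) := by
    simp only [binForm, Fin.prod_univ_four]
  have bf' : binForm la' mu' = (C (mu' i0) * X 0 - C (la' i0) * X 1) *
      (C (mu' i1) * X 0 - C (la' i1) * X 1) * (C (mu' i2) * X 0 - C (la' i2) * X 1) *
      (C (mu' i3) * X 0 - C (la' i3) * X 1) := by
    have h := hprod (fun i => C (mu' i) * X 0 - C (la' i) * X 1)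
    simp only [binForm, Fin.prod_univ_four]
    exact h.symm
  rw [bf, bf']; exact heq

theorem main (h2 : (2 : k) ≠ 0) (h3 : (3 : k) ≠ 0) (la mu la' mu' : Fin 4 → k)
    (hd : disc la mu ≠ 0) (hd' : disc la' mu' ≠ 0)
    (h : invI (coef la mu) ^ 3 * invJ (coef la' mu') ^ 2 =
        invI (coef la' mu') ^ 3 * invJ (coef la mu) ^ 2) :
    ∃ (M : Matrix (Fin 2) (Fin 2) k) (c : k), IsUnit M.det ∧ c ≠ 0 ∧
      binForm la' mu' = MvPolynomial.C c * subst M (binForm la mu) := by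
  have hb := br_ne_all la mu hd
  have hb' := br_ne_all la' mu' hd'
  obtain ⟨A, dA⟩ : ∃ A, A = (la 0 * mu 1 - la 1 * mu 0) * (la 2 * mu 3 - la 3 * mu 2) := ⟨_, rfl⟩
  obtain ⟨B, dB⟩ : ∃ B, B = (la 0 * mu 2 - la 2 * mu 0) * (la 3 * mu 1 - la 1 * mu 3) := ⟨_, rfl⟩
  obtain ⟨Cc, dC⟩ : ∃ Cc, Cc = (la 0 * mu 3 - la 3 * mu 0) * (la 1 * mu 2 - la 2 * mu 1) := ⟨_, rfl⟩
  obtain ⟨A', dA'⟩ : ∃ A', A' = (la' 0 * mu' 1 - la' 1 * mu' 0) * (la' 2 * mu' 3 - la' 3 * mu' 2) :=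
    ⟨_, rfl⟩
  obtain ⟨B', dB'⟩ : ∃ B', B' = (la' 0 * mu' 2 - la' 2 * mu' 0) * (la' 3 * mu' 1 - la' 1 * mu' 3) :=
    ⟨_, rfl⟩
  obtain ⟨C', dC'⟩ : ∃ C', C' = (la' 0 * mu' 3 - la' 3 * mu' 0) * (la' 1 * mu' 2 - la' 2 * mu' 1) :=
    ⟨_, rfl⟩
  have hP : A + B + Cc = 0 := by rw [dA, dB, dC]; ring
  have hP' : A' + B' + C' = 0 := by rw [dA', dB', dC']; ring
  have hI : 2 * invI (coef la mu) = A ^ 2 + B ^ 2 + Cc ^ 2 := by
    rw [dA, dB, dC]; exact Groth.Agent.S19392.two_invI la mu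
  have hI' : 2 * invI (coef la' mu') = A' ^ 2 + B' ^ 2 + C' ^ 2 := by
    rw [dA', dB', dC']; exact Groth.Agent.S19392.two_invI la' mu'
  have hD : disc la mu = (A * B * Cc) ^ 2 := by
    rw [Groth.Agent.S19391.disc_eq, dA, dB, dC]; ring
  have hD' : disc la' mu' = (A' * B' * C') ^ 2 := by
    rw [Groth.Agent.S19391.disc_eq, dA', dB', dC']; ring
  have r := Groth.Agent.S19391.result k la mu
  have r' := Groth.Agent.S19391.result k la' mu'
  rw [hD] at r
  rw [hD'] at r'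
  generalize invI (coef la mu) = I at hI r h
  generalize invJ (coef la mu) = J at r h
  generalize invI (coef la' mu') = I' at hI' r' h
  generalize invJ (coef la' mu') = J' at r' h
  have h27 : (27 : k) ≠ 0 := by
    have : (27 : k) = 3 ^ 3 := by norm_num
    rw [this]; exact pow_ne_zero 3 h3
  have hID : I ^ 3 * (A' * B' * C') ^ 2 = I' ^ 3 * (A * B * Cc) ^ 2 := by
    apply mul_left_cancel₀ h27
    linear_combination I ^ 3 * r' - I' ^ 3 * r - h
  have hIe : I = -(A * B + B * Cc + Cc * A) := by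
    apply mul_left_cancel₀ h2
    linear_combination hI + (A + B + Cc) * hP
  have hIe' : I' = -(A' * B' + B' * C' + C' * A') := by
    apply mul_left_cancel₀ h2
    linear_combination hI' + (A' + B' + C') * hP'
  have hrel : (A * B + B * Cc + Cc * A) ^ 3 * (A' * B' * C') ^ 2 =
      (A' * B' + B' * C' + C' * A') ^ 3 * (A * B * Cc) ^ 2 := by
    rw [hIe, hIe'] at hID
    linear_combination (-1 : k) * hID
  have h0 : A * B * Cc ≠ 0 := by
    rw [dA, dB, dC]
    exact mul_ne_zero (mul_ne_zero (mul_ne_zero (hb 0 1 (by decide)) (hb 2 3 (by decide)))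
      (mul_ne_zero (hb 0 2 (by decide)) (hb 3 1 (by decide))))
      (mul_ne_zero (hb 0 3 (by decide)) (hb 1 2 (by decide)))
  have h0' : A' * B' * C' ≠ 0 := by
    rw [dA', dB', dC']
    exact mul_ne_zero (mul_ne_zero (mul_ne_zero (hb' 0 1 (by decide)) (hb' 2 3 (by decide)))
      (mul_ne_zero (hb' 0 2 (by decide)) (hb' 3 1 (by decide))))
      (mul_ne_zero (hb' 0 3 (by decide)) (hb' 1 2 (by decide)))
  obtain ⟨s, hs, hcases⟩ := cubic_match A B Cc A' B' C' hP hP' h0 h0' hrel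
  rcases hcases with ⟨hA', hB', hC'⟩ | ⟨hA', hB', hC'⟩ | ⟨hA', hB', hC'⟩ | ⟨hA', hB', hC'⟩ |
    ⟨hA', hB', hC'⟩ | ⟨hA', hB', hC'⟩
  · exact finish la mu la' mu' hb hb' 0 1 2 3 (by decide) (by decide) (by decide) (by decide)
      (fun f => rfl) B Cc B' C' dB dC dB' dC' (by rw [hB', hC']; ring)
  · exact finish la mu la' mu' hb hb' 1 0 2 3 (by decide) (by decide) (by decide) (by decide)
      (fun f => by ring) B Cc (-C') (-B') dB dC (by rw [dC']; ring) (by rw [dB']; ring)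
      (by rw [hB', hC']; ring)
  · exact finish la mu la' mu' hb hb' 3 1 2 0 (by decide) (by decide) (by decide) (by decide)
      (fun f => by ring) B Cc (-A') (-C') dB dC (by rw [dA']; ring) (by rw [dC']; ring)
      (by rw [hA', hC']; ring)
  · exact finish la mu la' mu' hb hb' 0 3 1 2 (by decide) (by decide) (by decide) (by decide)
      (fun f => by ring) B Cc A' B' dB dC (by rw [dA']) (by rw [dB']) (by rw [hA', hB']; ring)
  · exact finish la mu la' mu' hb hb' 0 2 3 1 (by decide) (by decide) (by decide) (by decide)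
      (fun f => by ring) B Cc C' A' dB dC (by rw [dC']) (by rw [dA']) (by rw [hA', hC']; ring)
  · exact finish la mu la' mu' hb hb' 2 1 0 3 (by decide) (by decide) (by decide) (by decide)
      (fun f => by ring) B Cc (-B') (-A') dB dC (by rw [dB']; ring) (by rw [dA']; ring)
      (by rw [hA', hB']; ring)

end Aux19393
namespace Groth.Agent.S19393

/-- Over a field of characteristic different from 2 and 3, two binary quartics without double zeros
lying in the same fibre of the map to the projective line given by the invariants, i.e. with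
proportional (P³, Q²), are equivalent under a linear substitution of the variables up to a nonzero
constant factor. Stated for split quartics f = ∏_i (μ_i X₀ − λ_i X₁) given by root points (λ_i, μ_i)
≠ (0, 0), with the integral invariants I = 6P, J = 72Q and the discriminant ∏_{i<j} (λ_j μ_i − λ_i
μ_j)²; only the assertion that such a fibre is a single orbit is stated (not its closedness). -/
theorem result (k : Type u) [Field k]
    (h2 : (2 : k) ≠ 0) (h3 : (3 : k) ≠ 0) (la mu la' mu' : Fin 4 → k)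
    (hne : ∀ i, la i ≠ 0 ∨ mu i ≠ 0) (hne' : ∀ i, la' i ≠ 0 ∨ mu' i ≠ 0)
    (hd : W4c6intromoduli.disc la mu ≠ 0) (hd' : W4c6intromoduli.disc la' mu' ≠ 0)
    (h : W4c6intromoduli.invI (W4c6intromoduli.coef la mu) ^ 3
          * W4c6intromoduli.invJ (W4c6intromoduli.coef la' mu') ^ 2 =
        W4c6intromoduli.invI (W4c6intromoduli.coef la' mu') ^ 3
          * W4c6intromoduli.invJ (W4c6intromoduli.coef la mu) ^ 2) :
    ∃ (M : Matrix (Fin 2) (Fin 2) k) (c : k), IsUnit M.det ∧ c ≠ 0 ∧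
      W4c6intromoduli.binForm la' mu' =
        MvPolynomial.C c * W4c6intromoduli.subst M (W4c6intromoduli.binForm la mu) := by
  exact Aux19393.main h2 h3 la mu la' mu' hd hd' h

end Groth.Agent.S19393
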