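import Mathlib
import Groth.Statements.S19394


set_option autoImplicit false
universe u
open InvQ

namespace Aux19394
open Matrix

variable {k : Type u} [Field k]

theorem conj_calc {R : Type*} [Ring R] [Algebra k R] (P S N : R) (hPP : P * P = P)
    (hPS : P * S = S * P) (hPN : P * N = N) (t : k) (ht : t ≠ 0) :
    (P + t⁻¹ • (1 - P)) * (P + t • (1 - P)) = 1 ∧
    (P + t⁻¹ • (1 - P)) * (S + N) * (P + t • (1 - P)) = S + N * P + t • (N * (1 - P)) := by
  obtain ⟨Q, hQ⟩ : ∃ Q, Q = 1 - P := ⟨_, rfl⟩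
  rw [← hQ]
  have hPQ : P * Q = 0 := by rw [hQ, mul_sub, mul_one, hPP, sub_self]
  have hQP : Q * P = 0 := by rw [hQ, sub_mul, one_mul, hPP, sub_self]
  have hQQ : Q * Q = Q := by
    have : Q * Q = Q * 1 - Q * P := by rw [← mul_sub, ← hQ]
    rw [this, hQP, mul_one, sub_zero]
  have hQN : Q * N = 0 := by rw [hQ, sub_mul, one_mul, hPN, sub_self]
  have hQS : Q * S = S * Q := by rw [hQ, sub_mul, mul_sub, one_mul, mul_one, hPS]
  have hPQ1 : P + Q = 1 := by rw [hQ]; abel
  have hU1 : (P + t⁻¹ • Q) * (P + t • Q) = 1 := by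
    simp only [add_mul, mul_add, smul_mul_assoc, mul_smul_comm, hPP, hPQ, hQP, hQQ, smul_zero,
      add_zero, zero_add, smul_smul, inv_mul_cancel₀ ht, mul_inv_cancel₀ ht, one_smul, hPQ1]
  refine ⟨hU1, ?_⟩
  have hUS : (P + t⁻¹ • Q) * S = S * (P + t⁻¹ • Q) := by
    rw [add_mul, mul_add, smul_mul_assoc, mul_smul_comm, hPS, hQS]
  have hUN : (P + t⁻¹ • Q) * N = N := by
    rw [add_mul, smul_mul_assoc, hPN, hQN, smul_zero, add_zero]
  calc (P + t⁻¹ • Q) * (S + N) * (P + t • Q)
      = (S * (P + t⁻¹ • Q) + N) * (P + t • Q) := by rw [mul_add (P + t⁻¹ • Q) S N, hUS, hUN]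
    _ = S * ((P + t⁻¹ • Q) * (P + t • Q)) + N * (P + t • Q) := by rw [add_mul, mul_assoc]
    _ = S + N * P + t • (N * Q) := by rw [hU1, mul_one, mul_add, mul_smul_comm, add_assoc]

theorem exists_proj {n : ℕ} (S N : Matrix (Fin n) (Fin n) k)
    (hS : Module.End.IsSemisimple (Matrix.toLin' S)) (hSN : Commute S N) (r : ℕ)
    (hN : N ^ (r + 2) = 0) :
    ∃ P : Matrix (Fin n) (Fin n) k, P * P = P ∧ P * S = S * P ∧ P * N = N ∧
      N ^ (r + 1) * P = 0 := by
  obtain ⟨s, hs⟩ : ∃ s, s = Matrix.toLin' S := ⟨_, rfl⟩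
  obtain ⟨ν, hν⟩ : ∃ ν, ν = Matrix.toLin' N := ⟨_, rfl⟩
  rw [← hs] at hS
  have hcomm : Commute s ν := by
    show s * ν = ν * s
    rw [hs, hν, Module.End.mul_eq_comp, Module.End.mul_eq_comp, ← Matrix.toLin'_mul,
      ← Matrix.toLin'_mul, hSN.eq]
  have hνpow : ν ^ (r + 2) = 0 := by rw [hν, ← Matrix.toLin'_pow, hN, map_zero]
  have hK : LinearMap.ker (ν ^ (r + 1)) ∈ Module.End.invtSubmodule s := by
    rw [Module.End.mem_invtSubmodule_iff_forall_mem_of_mem]
    intro v hv
    rw [LinearMap.mem_ker] at hv ⊢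
    have h1 : (ν ^ (r + 1)) (s v) = s ((ν ^ (r + 1)) v) :=
      (LinearMap.congr_fun (hcomm.pow_right (r + 1)).eq v).symm
    rw [h1, hv, map_zero]
  obtain ⟨Q, hQ, hKQ⟩ := (Module.End.isSemisimple_iff.mp hS) _ hK
  obtain ⟨π, hπ⟩ : ∃ π : Module.End k (Fin n → k),
      π = (LinearMap.ker (ν ^ (r + 1))).projection Q hKQ := ⟨_, rfl⟩
  have hidem : IsIdempotentElem π := by rw [hπ]; exact Submodule.isIdempotentElem_projection hKQ
  have hπs : Commute π s := by
    rw [LinearMap.IsIdempotentElem.commute_iff hidem]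
    constructor
    · rw [hπ, Submodule.range_projection]; exact hK
    · rw [hπ, Submodule.ker_projection]; exact hQ
  have hπν : π * ν = ν := by
    apply LinearMap.ext; intro v
    show π (ν v) = ν v
    rw [hπ]
    apply Submodule.projection_apply_of_mem_left
    rw [LinearMap.mem_ker]
    have : (ν ^ (r + 1)) (ν v) = (ν ^ (r + 2)) v := by
      rw [show r + 2 = (r + 1) + 1 from rfl, pow_succ]; rfl
    rw [this, hνpow]; rfl
  have hνπ : ν ^ (r + 1) * π = 0 := by
    apply LinearMap.ext; intro v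
    show (ν ^ (r + 1)) (π v) = 0
    rw [hπ]
    exact LinearMap.mem_ker.mp (Submodule.projection_apply_mem hKQ v)
  refine ⟨LinearMap.toMatrix' π, ?_, ?_, ?_, ?_⟩
  · apply Matrix.toLin'.injective
    rw [Matrix.toLin'_mul, Matrix.toLin'_toMatrix']; exact hidem.eq
  · apply Matrix.toLin'.injective
    rw [Matrix.toLin'_mul, Matrix.toLin'_mul, Matrix.toLin'_toMatrix', ← hs]; exact hπs.eq
  · apply Matrix.toLin'.injective
    rw [Matrix.toLin'_mul, Matrix.toLin'_toMatrix', ← hν]; exact hπν
  · apply Matrix.toLin'.injective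
    rw [Matrix.toLin'_mul, Matrix.toLin'_toMatrix', Matrix.toLin'_pow, ← hν, map_zero]; exact hνπ

theorem eval_line_zero [Infinite k] {n : ℕ} (F : MvPolynomial (Fin n × Fin n) k)
    (C E : Matrix (Fin n) (Fin n) k)
    (h : ∀ t : k, t ≠ 0 → MvPolynomial.eval (fun p => (C + t • E) p.1 p.2) F = 0) :
    MvPolynomial.eval (fun p => C p.1 p.2) F = 0 := by
  obtain ⟨g, hgdef⟩ : ∃ g : Polynomial k, g = MvPolynomial.aeval
    (fun p : Fin n × Fin n => Polynomial.C (C p.1 p.2) + Polynomial.X * Polynomial.C (E p.1 p.2)) F :=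
    ⟨_, rfl⟩
  have hg : ∀ t : k, g.eval t = MvPolynomial.eval (fun p => (C + t • E) p.1 p.2) F := by
    intro t
    have : (Polynomial.evalRingHom t).comp (MvPolynomial.aeval
        (fun p : Fin n × Fin n => Polynomial.C (C p.1 p.2) + Polynomial.X * Polynomial.C (E p.1 p.2)) :
          MvPolynomial (Fin n × Fin n) k →ₐ[k] Polynomial k).toRingHom
        = MvPolynomial.eval (fun p => (C + t • E) p.1 p.2) := by
      apply MvPolynomial.ringHom_ext
      · intro a; simp
      · intro p
        simp only [RingHom.coe_comp, Function.comp_apply, AlgHom.toRingHom_eq_coe, RingHom.coe_coe,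
          MvPolynomial.aeval_X, Polynomial.coe_evalRingHom, Polynomial.eval_add, Polynomial.eval_mul,
          Polynomial.eval_C, Polynomial.eval_X, MvPolynomial.eval_X, Matrix.add_apply,
          Matrix.smul_apply, smul_eq_mul]
    rw [hgdef]
    exact RingHom.congr_fun this F
  have hg0 : g = 0 := by
    apply Polynomial.eq_zero_of_infinite_isRoot
    apply Set.Infinite.mono (s := {t : k | t ≠ 0})
    · intro t ht
      show g.IsRoot t
      rw [Polynomial.IsRoot.def, hg t]; exact h t ht
    · have : {t : k | t ≠ 0} = ({0} : Set k)ᶜ := by ext; simp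
      rw [this]; exact (Set.finite_singleton 0).infinite_compl
  have h0 := hg 0
  rw [hg0, Polynomial.eval_zero, zero_smul, add_zero] at h0
  exact h0.symm

theorem main_aux [IsAlgClosed k] {n : ℕ} (S : Matrix (Fin n) (Fin n) k)
    (hS : Module.End.IsSemisimple (Matrix.toLin' S)) (F : MvPolynomial (Fin n × Fin n) k) :
    ∀ (r : ℕ) (N : Matrix (Fin n) (Fin n) k), N ^ (r + 1) = 0 → Commute S N →
      (∀ A : Matrix (Fin n) (Fin n) k, IsUnit A.det →
        MvPolynomial.eval (fun p => (A * (S + N) * A⁻¹) p.1 p.2) F = 0) →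
      MvPolynomial.eval (fun p => S p.1 p.2) F = 0 := by
  intro r
  induction r with
  | zero =>
    intro N hN _ hF
    rw [zero_add, pow_one] at hN
    have := hF 1 (by simp)
    simpa [hN] using this
  | succ r ih =>
    intro N hN hSN hF
    obtain ⟨P, hPP, hPS, hPN, hNP⟩ := exists_proj S N hS hSN r hN
    apply ih (N * P)
    · have hpow : ∀ m : ℕ, (N * P) ^ (m + 1) = N ^ (m + 1) * P := by
        intro m
        induction m with
        | zero => simp
        | succ m ihm =>
          rw [pow_succ, ihm, pow_succ N (m + 1), mul_assoc, ← mul_assoc P N P, hPN, mul_assoc]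
      rw [hpow, hNP]
    · show S * (N * P) = N * P * S
      rw [← mul_assoc, hSN.eq, mul_assoc, mul_assoc, hPS]
    · intro A hA
      apply eval_line_zero F (A * (S + N * P) * A⁻¹) (A * (N * (1 - P)) * A⁻¹)
      intro t ht
      obtain ⟨hU, hconj⟩ := conj_calc P S N hPP hPS hPN t ht
      have hdetU : IsUnit (P + t⁻¹ • (1 - P)).det := Matrix.isUnit_det_of_right_inverse hU
      have hinvU : (P + t⁻¹ • (1 - P))⁻¹ = P + t • (1 - P) := Matrix.inv_eq_right_inv hU
      have hAU : IsUnit (A * (P + t⁻¹ • (1 - P))).det := by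
        rw [Matrix.det_mul]; exact hA.mul hdetU
      have := hF (A * (P + t⁻¹ • (1 - P))) hAU
      rw [Matrix.mul_inv_rev, hinvU] at this
      have hmat : A * (P + t⁻¹ • (1 - P)) * (S + N) * ((P + t • (1 - P)) * A⁻¹) =
          A * (S + N * P) * A⁻¹ + t • (A * (N * (1 - P)) * A⁻¹) := by
        calc A * (P + t⁻¹ • (1 - P)) * (S + N) * ((P + t • (1 - P)) * A⁻¹)
            = A * ((P + t⁻¹ • (1 - P)) * (S + N) * (P + t • (1 - P))) * A⁻¹ := by
              simp only [mul_assoc]
          _ = A * (S + N * P + t • (N * (1 - P))) * A⁻¹ := by rw [hconj]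
          _ = A * (S + N * P) * A⁻¹ + t • (A * (N * (1 - P)) * A⁻¹) := by
              rw [mul_add A, add_mul, mul_smul_comm, smul_mul_assoc]
      rw [hmat] at this
      exact this

theorem main [IsAlgClosed k] (n : ℕ)
    (B S N : Matrix (Fin n) (Fin n) k) (hS : Module.End.IsSemisimple (Matrix.toLin' S))
    (hN : IsNilpotent N) (hSN : Commute S N) (hB : B = S + N)
    (F : MvPolynomial (Fin n × Fin n) k)
    (hF : ∀ A : Matrix (Fin n) (Fin n) k, IsUnit A.det →
      MvPolynomial.eval (fun p => (A * B * A⁻¹) p.1 p.2) F = 0) :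
    MvPolynomial.eval (fun p => S p.1 p.2) F = 0 := by
  subst hB
  obtain ⟨m, hm⟩ := hN
  exact main_aux S hS F m N (by rw [pow_succ, hm, zero_mul]) hSN hF

end Aux19394
namespace Groth.Agent.S19394

/-- Over an algebraically closed field, the semisimple part of a square matrix B lies in the Zariski
closure of the orbit of B under conjugation by the general linear group. The semisimple part is
given as S with B = S + N, S semisimple, N nilpotent and SN = NS; membership in the Zariski closure
is spelled out as: every polynomial in the n² matrix entries vanishing at all conjugates A B A⁻¹ (A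
invertible) vanishes at S. -/
theorem result (k : Type u) [Field k] [IsAlgClosed k] (n : ℕ)
    (B S N : Matrix (Fin n) (Fin n) k) (hS : Module.End.IsSemisimple (Matrix.toLin' S))
    (hN : IsNilpotent N) (hSN : Commute S N) (hB : B = S + N)
    (F : MvPolynomial (Fin n × Fin n) k)
    (hF : ∀ A : Matrix (Fin n) (Fin n) k, IsUnit A.det →
      MvPolynomial.eval (fun p => (A * B * A⁻¹) p.1 p.2) F = 0) :
    MvPolynomial.eval (fun p => S p.1 p.2) F = 0 := by
  exact Aux19394.main n B S N hS hN hSN hB F hF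

end Groth.Agent.S19394
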