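import Mathlib
import Groth.Statements.S19395
import Groth.Agent.S19394

set_option autoImplicit false
universe u
open InvQ

namespace Aux19395
open Matrix

variable {k : Type u} [Field k]

theorem main_aux' [IsAlgClosed k] {n : ℕ} (S : Matrix (Fin n) (Fin n) k)
    (hS : Module.End.IsSemisimple (Matrix.toLin' S)) (F : MvPolynomial (Fin n × Fin n) k) :
    ∀ (r : ℕ) (N : Matrix (Fin n) (Fin n) k), N ^ (r + 1) = 0 → Commute S N →
      (∀ A : Matrix (Fin n) (Fin n) k, IsUnit A.det →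
        MvPolynomial.eval (fun p => (A * (S + N) * A⁻¹) p.1 p.2) F = 0) →
      ∀ A : Matrix (Fin n) (Fin n) k, IsUnit A.det →
        MvPolynomial.eval (fun p => (A * S * A⁻¹) p.1 p.2) F = 0 := by
  intro r
  induction r with
  | zero =>
    intro N hN _ hF A hA
    rw [zero_add, pow_one] at hN
    have := hF A hA
    simpa [hN] using this
  | succ r ih =>
    intro N hN hSN hF
    obtain ⟨P, hPP, hPS, hPN, hNP⟩ := Aux19394.exists_proj S N hS hSN r hN
    apply ih (N * P)
    · have hpow : ∀ m : ℕ, (N * P) ^ (m + 1) = N ^ (m + 1) * P := by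
        intro m
        induction m with
        | zero => simp
        | succ m ihm =>
          rw [pow_succ, ihm, pow_succ N (m + 1), mul_assoc, ← mul_assoc P N P, hPN, mul_assoc]
      rw [hpow, hNP]
    · show S * (N * P) = N * P * S
      rw [← mul_assoc, hSN.eq, mul_assoc, mul_assoc, hPS]
    · intro A hA
      apply Aux19394.eval_line_zero F (A * (S + N * P) * A⁻¹) (A * (N * (1 - P)) * A⁻¹)
      intro t ht
      obtain ⟨hU, hconj⟩ := Aux19394.conj_calc P S N hPP hPS hPN t ht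
      have hdetU : IsUnit (P + t⁻¹ • (1 - P)).det := Matrix.isUnit_det_of_right_inverse hU
      have hinvU : (P + t⁻¹ • (1 - P))⁻¹ = P + t • (1 - P) := Matrix.inv_eq_right_inv hU
      have hAU : IsUnit (A * (P + t⁻¹ • (1 - P))).det := by
        rw [Matrix.det_mul]; exact hA.mul hdetU
      have := hF (A * (P + t⁻¹ • (1 - P))) hAU
      rw [Matrix.mul_inv_rev, hinvU] at this
      have hmat : A * (P + t⁻¹ • (1 - P)) * (S + N) * ((P + t • (1 - P)) * A⁻¹) =
          A * (S + N * P) * A⁻¹ + t • (A * (N * (1 - P)) * A⁻¹) := by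
        calc A * (P + t⁻¹ • (1 - P)) * (S + N) * ((P + t • (1 - P)) * A⁻¹)
            = A * ((P + t⁻¹ • (1 - P)) * (S + N) * (P + t • (1 - P))) * A⁻¹ := by
              simp only [mul_assoc]
          _ = A * (S + N * P + t • (N * (1 - P))) * A⁻¹ := by rw [hconj]
          _ = A * (S + N * P) * A⁻¹ + t • (A * (N * (1 - P)) * A⁻¹) := by
              rw [mul_add A, add_mul, mul_smul_comm, smul_mul_assoc]
      rw [hmat] at this
      exact this

/-- coefficient polynomials of the generic characteristic polynomial -/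
noncomputable def G (k : Type u) [Field k] (n : ℕ) (i : ℕ) : MvPolynomial (Fin n × Fin n) k :=
  (Matrix.mvPolynomialX (Fin n) (Fin n) k).charpoly.coeff i

theorem eval_G {n : ℕ} (M : Matrix (Fin n) (Fin n) k) (i : ℕ) :
    MvPolynomial.eval (fun p => M p.1 p.2) (G k n i) = M.charpoly.coeff i := by
  unfold G
  have h := Matrix.mvPolynomialX_mapMatrix_eval M
  conv_rhs => rw [← h]
  rw [RingHom.mapMatrix_apply, Matrix.charpoly_map, Polynomial.coeff_map]

theorem charpoly_eq_of_mem_closure {n : ℕ} (B C : Matrix (Fin n) (Fin n) k)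
    (hC : ∀ F : MvPolynomial (Fin n × Fin n) k,
      (∀ A : Matrix (Fin n) (Fin n) k, IsUnit A.det →
        MvPolynomial.eval (fun p => (A * B * A⁻¹) p.1 p.2) F = 0) →
      MvPolynomial.eval (fun p => C p.1 p.2) F = 0) :
    C.charpoly = B.charpoly := by
  ext i
  have key := hC (G k n i - MvPolynomial.C (B.charpoly.coeff i)) (by
    intro A hA
    rw [map_sub, eval_G, MvPolynomial.eval_C, sub_eq_zero]
    have := Matrix.charpoly_units_conj (Matrix.nonsingInvUnit A hA) B
    exact congrArg (fun q => q.coeff i) this)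
  rw [map_sub, eval_G, MvPolynomial.eval_C, sub_eq_zero] at key
  exact key

theorem charpoly_semisimplePart [IsAlgClosed k] {n : ℕ} (B S N : Matrix (Fin n) (Fin n) k)
    (hS : Module.End.IsSemisimple (Matrix.toLin' S)) (hN : IsNilpotent N) (hSN : Commute S N)
    (hB : B = S + N) : S.charpoly = B.charpoly := by
  apply charpoly_eq_of_mem_closure B S
  intro F hF
  exact Groth.Agent.S19394.result k n B S N hS hN hSN hB F hF

theorem finrank_eigenspace [IsAlgClosed k] {n : ℕ} (S : Matrix (Fin n) (Fin n) k)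
    (hS : Module.End.IsSemisimple (Matrix.toLin' S)) (μ : k) :
    Module.finrank k (Module.End.eigenspace (Matrix.toLin' S) μ) =
      S.charpoly.rootMultiplicity μ := by
  rw [← hS.isFinitelySemisimple.maxGenEigenspace_eq_eigenspace, LinearMap.finrank_maxGenEigenspace_eq,
    Matrix.charpoly_toLin']

theorem conj_of_charpoly_eq [IsAlgClosed k] {n : ℕ} (S₁ S₂ : Matrix (Fin n) (Fin n) k)
    (h₁ : Module.End.IsSemisimple (Matrix.toLin' S₁))
    (h₂ : Module.End.IsSemisimple (Matrix.toLin' S₂))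
    (hχ : S₁.charpoly = S₂.charpoly) :
    ∃ A : Matrix (Fin n) (Fin n) k, IsUnit A.det ∧ A * S₁ * A⁻¹ = S₂ := by
  classical
  obtain ⟨s₁, hs₁⟩ : ∃ s, s = Matrix.toLin' S₁ := ⟨_, rfl⟩
  obtain ⟨s₂, hs₂⟩ : ∃ s, s = Matrix.toLin' S₂ := ⟨_, rfl⟩
  have hfr : ∀ μ : k, Module.finrank k (Module.End.eigenspace s₁ μ) =
      Module.finrank k (Module.End.eigenspace s₂ μ) := fun μ => by
    rw [hs₁, hs₂, finrank_eigenspace S₁ h₁, finrank_eigenspace S₂ h₂, hχ]
  rw [← hs₁] at h₁
  rw [← hs₂] at h₂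
  let ε : ∀ μ : k, Module.End.eigenspace s₁ μ ≃ₗ[k] Module.End.eigenspace s₂ μ :=
    fun μ => LinearEquiv.ofFinrankEq _ _ (hfr μ)
  have hI₁ : DirectSum.IsInternal (fun μ : k => Module.End.eigenspace s₁ μ) :=
    DirectSum.isInternal_submodule_of_iSupIndep_of_iSup_eq_top
      (Module.End.eigenspaces_iSupIndep s₁) h₁.iSup_eigenspace_eq_top
  have hI₂ : DirectSum.IsInternal (fun μ : k => Module.End.eigenspace s₂ μ) :=
    DirectSum.isInternal_submodule_of_iSupIndep_of_iSup_eq_top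
      (Module.End.eigenspaces_iSupIndep s₂) h₂.iSup_eigenspace_eq_top
  let e₁ := LinearEquiv.ofBijective (DirectSum.coeLinearMap fun μ : k => Module.End.eigenspace s₁ μ) hI₁
  let e₂ := LinearEquiv.ofBijective (DirectSum.coeLinearMap fun μ : k => Module.End.eigenspace s₂ μ) hI₂
  let m : (DirectSum k fun μ : k => Module.End.eigenspace s₁ μ) ≃ₗ[k]
      (DirectSum k fun μ : k => Module.End.eigenspace s₂ μ) := DFinsupp.mapRange.linearEquiv ε
  let φ : (Fin n → k) ≃ₗ[k] (Fin n → k) := (e₁.symm.trans m).trans e₂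
  have hφ : ∀ v, φ (s₁ v) = s₂ (φ v) := by
    intro v
    obtain ⟨x, rfl⟩ := e₁.surjective v
    induction x using DirectSum.induction_on with
    | zero => simp
    | of μ y =>
      have hy : e₁ (DirectSum.of _ μ y) = (y : Fin n → k) := DirectSum.coeLinearMap_of _ μ y
      have hsy : s₁ (y : Fin n → k) = μ • (y : Fin n → k) := Module.End.mem_eigenspace_iff.mp y.2
      have hφy : φ (y : Fin n → k) = ((ε μ y : Module.End.eigenspace s₂ μ) : Fin n → k) := by
        rw [← hy]
        show e₂ (m (e₁.symm (e₁ (DirectSum.of _ μ y)))) = _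
        rw [LinearEquiv.symm_apply_apply]
        have : m (DirectSum.of _ μ y) = DirectSum.of _ μ (ε μ y) := by
          show DFinsupp.mapRange.linearEquiv ε (DFinsupp.single μ y) = DFinsupp.single μ (ε μ y)
          rw [DFinsupp.mapRange.linearEquiv_apply, DFinsupp.mapRange_single]
        rw [this]
        exact DirectSum.coeLinearMap_of _ μ (ε μ y)
      rw [hy, hsy, map_smul, hφy]
      exact (Module.End.mem_eigenspace_iff.mp (ε μ y).2).symm
    | add x y hx hy => simp only [map_add, hx, hy]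
  obtain ⟨A, hA⟩ : ∃ A, A = LinearMap.toMatrix' (φ : (Fin n → k) →ₗ[k] (Fin n → k)) := ⟨_, rfl⟩
  obtain ⟨A', hA'⟩ : ∃ A', A' = LinearMap.toMatrix' (φ.symm : (Fin n → k) →ₗ[k] (Fin n → k)) :=
    ⟨_, rfl⟩
  have hAA' : A * A' = 1 := by
    rw [hA, hA', ← LinearMap.toMatrix'_comp]
    have : (φ : (Fin n → k) →ₗ[k] (Fin n → k)) ∘ₗ (φ.symm : (Fin n → k) →ₗ[k] (Fin n → k)) =
        LinearMap.id := by
      ext v; simp
    rw [this, LinearMap.toMatrix'_id]
  refine ⟨A, Matrix.isUnit_det_of_right_inverse hAA', ?_⟩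
  rw [Matrix.inv_eq_right_inv hAA']
  apply Matrix.toLin'.injective
  rw [Matrix.toLin'_mul, Matrix.toLin'_mul, hA, hA', Matrix.toLin'_toMatrix', Matrix.toLin'_toMatrix',
    ← hs₁, ← hs₂]
  apply LinearMap.ext
  intro v
  show φ (s₁ (φ.symm v)) = s₂ v
  rw [hφ, LinearEquiv.apply_symm_apply]

theorem main [IsAlgClosed k]
    (n : ℕ) (B₁ S₁ N₁ B₂ S₂ N₂ : Matrix (Fin n) (Fin n) k)
    (hS₁ : Module.End.IsSemisimple (Matrix.toLin' S₁)) (hN₁ : IsNilpotent N₁) (hc₁ : Commute S₁ N₁)
    (hB₁ : B₁ = S₁ + N₁)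
    (hS₂ : Module.End.IsSemisimple (Matrix.toLin' S₂)) (hN₂ : IsNilpotent N₂) (hc₂ : Commute S₂ N₂)
    (hB₂ : B₂ = S₂ + N₂) :
    (∃ C : Matrix (Fin n) (Fin n) k,
        (∀ F : MvPolynomial (Fin n × Fin n) k,
          (∀ A : Matrix (Fin n) (Fin n) k, IsUnit A.det →
            MvPolynomial.eval (fun p => (A * B₁ * A⁻¹) p.1 p.2) F = 0) →
          MvPolynomial.eval (fun p => C p.1 p.2) F = 0) ∧
        (∀ F : MvPolynomial (Fin n × Fin n) k,
          (∀ A : Matrix (Fin n) (Fin n) k, IsUnit A.det →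
            MvPolynomial.eval (fun p => (A * B₂ * A⁻¹) p.1 p.2) F = 0) →
          MvPolynomial.eval (fun p => C p.1 p.2) F = 0)) ↔
      ∃ A : Matrix (Fin n) (Fin n) k, IsUnit A.det ∧ A * S₁ * A⁻¹ = S₂ := by
  constructor
  · rintro ⟨C, hC₁, hC₂⟩
    apply conj_of_charpoly_eq S₁ S₂ hS₁ hS₂
    have e1 := charpoly_semisimplePart B₁ S₁ N₁ hS₁ hN₁ hc₁ hB₁
    have e2 := charpoly_semisimplePart B₂ S₂ N₂ hS₂ hN₂ hc₂ hB₂
    have e3 := charpoly_eq_of_mem_closure B₁ C hC₁
    have e4 := charpoly_eq_of_mem_closure B₂ C hC₂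
    exact e1.trans (e3.symm.trans (e4.trans e2.symm))
  · rintro ⟨A, hA, hAS⟩
    refine ⟨S₂, ?_, ?_⟩
    · intro F hF
      subst hB₁
      obtain ⟨m, hm⟩ := hN₁
      have := main_aux' S₁ hS₁ F m N₁ (by rw [pow_succ, hm, zero_mul]) hc₁ hF A hA
      rw [hAS] at this
      exact this
    · intro F hF
      exact Groth.Agent.S19394.result k n B₂ S₂ N₂ hS₂ hN₂ hc₂ hB₂ F hF

end Aux19395
namespace Groth.Agent.S19395

/-- Over an algebraically closed field, the Zariski closures of the conjugation orbits of two square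
matrices B₁, B₂ meet if and only if their semisimple parts lie in one orbit. The semisimple parts
are given as S_i with B_i = S_i + N_i, S_i semisimple, N_i nilpotent, S_i N_i = N_i S_i; a common
point of the two closures is a matrix C at which every polynomial in the matrix entries vanishing on
the whole orbit of B₁, and every one vanishing on the whole orbit of B₂, vanishes. -/
theorem result (k : Type u) [Field k] [IsAlgClosed k]
    (n : ℕ) (B₁ S₁ N₁ B₂ S₂ N₂ : Matrix (Fin n) (Fin n) k)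
    (hS₁ : Module.End.IsSemisimple (Matrix.toLin' S₁)) (hN₁ : IsNilpotent N₁) (hc₁ : Commute S₁ N₁)
    (hB₁ : B₁ = S₁ + N₁)
    (hS₂ : Module.End.IsSemisimple (Matrix.toLin' S₂)) (hN₂ : IsNilpotent N₂) (hc₂ : Commute S₂ N₂)
    (hB₂ : B₂ = S₂ + N₂) :
    (∃ C : Matrix (Fin n) (Fin n) k,
        (∀ F : MvPolynomial (Fin n × Fin n) k,
          (∀ A : Matrix (Fin n) (Fin n) k, IsUnit A.det →
            MvPolynomial.eval (fun p => (A * B₁ * A⁻¹) p.1 p.2) F = 0) →
          MvPolynomial.eval (fun p => C p.1 p.2) F = 0) ∧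
        (∀ F : MvPolynomial (Fin n × Fin n) k,
          (∀ A : Matrix (Fin n) (Fin n) k, IsUnit A.det →
            MvPolynomial.eval (fun p => (A * B₂ * A⁻¹) p.1 p.2) F = 0) →
          MvPolynomial.eval (fun p => C p.1 p.2) F = 0)) ↔
      ∃ A : Matrix (Fin n) (Fin n) k, IsUnit A.det ∧ A * S₁ * A⁻¹ = S₂ := by
  exact Aux19395.main n B₁ S₁ N₁ B₂ S₂ N₂ hS₁ hN₁ hc₁ hB₁ hS₂ hN₂ hc₂ hB₂

end Groth.Agent.S19395
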