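import Groth.Statements.S19397
-- import your own Groth.Agent.* helpers here
import Groth.Agent.Lib.Helper23.Ell2

set_option autoImplicit false
universe u v
open FunFld

namespace Groth.Agent.S19397



open Classical in
/-- Over an algebraically closed field of characteristic different from 2 and 3, the automorphism group
of an elliptic curve (automorphisms fixing the base point) with invariant j has order 2 if j ≠ 0,
12³, order 4 if j = 12³ and order 6 if j = 0. Stated for the function field K/k of the curve: K of
genus 1 generated by x, y with y² = x³ + a x + b and 4a³ + 27b² ≠ 0, P the place where x has its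
double and y its triple pole (and no other poles), so that j = 12³ · 4a³/(4a³ + 27b²) and the three
cases are a, b ≠ 0; b = 0; a = 0; the automorphisms are the k-algebra automorphisms of K preserving
the valuation of P. -/
theorem result (k : Type u) (K : Type v) [Field k]
    [IsAlgClosed k] [Field K] [Algebra k K] (h2 : (2 : k) ≠ 0) (h3 : (3 : k) ≠ 0)
    (hK : FunFld.IsFunctionField k K) (hgen : FunFld.genus k K = 1) (P : FunFld.Place k K)
    (a b : k) (hdisc : 4 * a ^ 3 + 27 * b ^ 2 ≠ 0) (x y : K)
    (heq : y ^ 2 = x ^ 3 + algebraMap k K a * x + algebraMap k K b)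
    (hxy : IntermediateField.adjoin k ({x, y} : Set K) = ⊤)
    (hx : x ∈ FunFld.L (Finsupp.single P 2)) (hx2 : P.ord x = -2)
    (hy : y ∈ FunFld.L (Finsupp.single P 3)) (hy3 : P.ord y = -3) :
    Nat.card {σ : K ≃ₐ[k] K // ∀ z : K, P.1 (σ z) = P.1 z} =
      if a = 0 then 6 else if b = 0 then 4 else 2 := by
  by_cases ha : a = 0
  · rw [if_pos ha]
    have hb : b ≠ 0 := by
      rintro rfl
      apply hdisc
      rw [ha]; ring
    refine Groth.Agent.Lib.Helper23.Ell.card_aut h2 h3 hK hgen P a b x y heq hxy hx hx2 hy hy3 6
      (by norm_num) ?_ ?_ ?_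
    · have h6 : ((6 : ℕ) : k) = 2 * 3 := by norm_num
      rw [h6]; exact mul_ne_zero h2 h3
    · intro w hw
      refine ⟨by rw [ha]; ring, ?_⟩
      rw [hw, mul_one]
    · intro u v hu hv e1 e2 e3
      have hv2 : v ^ 2 = 1 := by
        have h0 : b * (v ^ 2 - 1) = 0 := by linear_combination e3
        rcases mul_eq_zero.mp h0 with h | h
        · exact absurd h hb
        · linear_combination h
      have hu3 : u ^ 3 = 1 := by rw [← e1, hv2]
      rw [div_pow, div_eq_one_iff_eq (pow_ne_zero _ hu)]
      calc v ^ 6 = (v ^ 2) ^ 3 := by ring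
        _ = 1 := by rw [hv2, one_pow]
        _ = (u ^ 3) ^ 2 := by rw [hu3, one_pow]
        _ = u ^ 6 := by ring
  · rw [if_neg ha]
    by_cases hb : b = 0
    · rw [if_pos hb]
      refine Groth.Agent.Lib.Helper23.Ell.card_aut h2 h3 hK hgen P a b x y heq hxy hx hx2 hy hy3 4
        (by norm_num) ?_ ?_ ?_
      · have h4 : ((4 : ℕ) : k) = 2 * 2 := by norm_num
        rw [h4]; exact mul_ne_zero h2 h2
      · intro w hw
        have h6 : w ^ 6 = w ^ 2 := by
          calc w ^ 6 = w ^ 4 * w ^ 2 := by ring
            _ = w ^ 2 := by rw [hw, one_mul]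
        refine ⟨by rw [h6], by rw [hb]; ring⟩
      · intro u v hu hv e1 e2 e3
        have hvu : v ^ 2 = u := mul_left_cancel₀ ha e2
        have hu2 : u ^ 2 = 1 := by
          have h0 : u * (u ^ 2 - 1) = 0 := by linear_combination -e1 + hvu
          rcases mul_eq_zero.mp h0 with h | h
          · exact absurd h hu
          · linear_combination h
        rw [div_pow, div_eq_one_iff_eq (pow_ne_zero _ hu)]
        calc v ^ 4 = (v ^ 2) ^ 2 := by ring
          _ = u ^ 2 := by rw [hvu]
          _ = 1 := hu2
          _ = (u ^ 2) ^ 2 := by rw [hu2, one_pow]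
          _ = u ^ 4 := by ring
    · rw [if_neg hb]
      refine Groth.Agent.Lib.Helper23.Ell.card_aut h2 h3 hK hgen P a b x y heq hxy hx hx2 hy hy3 2
        (by norm_num) ?_ ?_ ?_
      · exact_mod_cast h2
      · intro w hw
        have h6 : w ^ 6 = 1 := by
          calc w ^ 6 = (w ^ 2) ^ 3 := by ring
            _ = 1 := by rw [hw, one_pow]
        rw [h6, hw]
        exact ⟨rfl, mul_one b⟩
      · intro u v hu hv e1 e2 e3
        have hvu : v ^ 2 = u := mul_left_cancel₀ ha e2
        have hv2 : v ^ 2 = 1 := by
          have h0 : b * (v ^ 2 - 1) = 0 := by linear_combination e3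
          rcases mul_eq_zero.mp h0 with h | h
          · exact absurd h hb
          · linear_combination h
        have hu1 : u = 1 := by rw [← hvu, hv2]
        rw [div_pow, hv2, hu1, one_pow, div_one]

end Groth.Agent.S19397
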