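import Groth.Statements.S19402
import Groth.Agent.Lib.Helper19.GalEtB

set_option autoImplicit false
universe u v w
open scoped Pointwise
open GLin

namespace Groth.Agent.S19402

/-- Let k be an algebraically closed field of characteristic zero, R a finitely generated commutative
k-algebra which is an integrally closed domain (a normal irreducible affine variety X), and G a
finite group acting faithfully on R by k-algebra automorphisms. Let B be a commutative k-algebra
with an injective algebra map B → R, compatible with the k-structures and G-invariant, whose image
is exactly the subring of G-invariants (so Spec R → Spec B is the quotient morphism X → X/G). Then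
for a maximal ideal m of R (a closed point x of X), R is étale over B at m (the local ring R_m is
formally étale over B) if and only if the stabilizer of m in G is trivial. -/
theorem result (k : Type u) [Field k] [IsAlgClosed k] [CharZero k]
    (R : Type v) [CommRing R] [IsDomain R] [IsIntegrallyClosed R] [Algebra k R] [Algebra.FiniteType k R]
    (G : Type w) [Group G] [Finite G] [MulSemiringAction G R] [FaithfulSMul G R] [SMulCommClass G k R]
    (B : Type v) [CommRing B] [Algebra k B] [Algebra B R] [IsScalarTower k B R] [FaithfulSMul B R]
    [SMulCommClass G B R] [Algebra.IsInvariant B R G]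
    (m : Ideal R) [m.IsMaximal] :
    Algebra.IsEtaleAt B m ↔ MulAction.stabilizer G m = ⊥ := by
  have hinj : Function.Injective (algebraMap B R) := FaithfulSMul.algebraMap_injective B R
  constructor
  · intro h
    have h1 : Algebra.FormallyEtale B (Localization.AtPrime m) := h
    have h2 : Algebra.FormallyUnramified B (Localization.AtPrime m) := inferInstance
    exact Groth.Agent.Lib.Helper19.GalEt.stabilizer_eq_bot_of_unramifiedAt k (B := B) m
  · intro hstab
    obtain ⟨f, e, hfm, he1, heg⟩ :=
      Groth.Agent.Lib.Helper19.GalEt.exists_datum (B := B) m hstab
    have hfp : Algebra.FinitePresentation B R :=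
      Groth.Agent.Lib.Helper19.GalEt.finitePresentation_of_invariant k G hinj
    have hf0 : algebraMap B R f ≠ 0 := fun h0 => hfm (h0 ▸ m.zero_mem)
    cases nonempty_fintype G
    have hE := Groth.Agent.Lib.Helper19.GalEt.etale_of_datum (G := G) hinj hf0 e he1 heg
    have hsub := (Algebra.basicOpen_subset_etaleLocus_iff (R := B) (A := R)
      (f := algebraMap B R f)).mpr hE.formallyEtale
    exact hsub (show (⟨m, inferInstance⟩ : PrimeSpectrum R)
      ∈ PrimeSpectrum.basicOpen (algebraMap B R f) from hfm)

end Groth.Agent.S19402
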