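import Groth.Statements.S19408
import Groth.Agent.S16717
import Mathlib

set_option autoImplicit false
universe u
open TensorProduct
open GLin

namespace Groth.Agent.S19408


section L
variable {A B A' B' : Type u} [CommRing A] [CommRing B] [CommRing A'] [CommRing B']
  [Algebra A B] [Algebra A A'] [Algebra A' B'] [Algebra B B'] [Algebra A B']
  [IsScalarTower A A' B'] [IsScalarTower A B B']

theorem tensor_quot_bijective (hA' : Function.Surjective (algebraMap A A'))
    (hB' : Function.Surjective (algebraMap B B'))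
    (hker : ∀ b : B, algebraMap B B' b = 0 →
      b ∈ Ideal.map (algebraMap A B) (RingHom.ker (algebraMap A A'))) :
    Function.Bijective (Algebra.TensorProduct.productMap (IsScalarTower.toAlgHom A A' B')
      (IsScalarTower.toAlgHom A B B')) := by
  have h1 : ∀ t : A' ⊗[A] B, ∃ b : B, t = (1 : A') ⊗ₜ[A] b := by
    intro t
    induction t using TensorProduct.induction_on with
    | zero => exact ⟨0, (TensorProduct.tmul_zero _ _).symm⟩
    | tmul a' b =>
      obtain ⟨a, rfl⟩ := hA' a'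
      refine ⟨a • b, ?_⟩
      rw [Algebra.algebraMap_eq_smul_one, TensorProduct.smul_tmul]
    | add x y hx hy =>
      obtain ⟨b₁, rfl⟩ := hx
      obtain ⟨b₂, rfl⟩ := hy
      exact ⟨b₁ + b₂, (TensorProduct.tmul_add _ _ _).symm⟩
  have h2 : ∀ b ∈ Ideal.map (algebraMap A B) (RingHom.ker (algebraMap A A')),
      (1 : A') ⊗ₜ[A] b = 0 := by
    intro b hb
    have hb' : b ∈ Submodule.span B
        (⇑(algebraMap A B) '' (RingHom.ker (algebraMap A A') : Set A)) := hb
    refine Submodule.span_induction (p := fun b _ => (1 : A') ⊗ₜ[A] b = 0) ?_ ?_ ?_ ?_ hb'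
    · rintro _ ⟨a, ha, rfl⟩
      have ha' : algebraMap A A' a = 0 := ha
      rw [Algebra.algebraMap_eq_smul_one, ← TensorProduct.smul_tmul,
        ← Algebra.algebraMap_eq_smul_one, ha', TensorProduct.zero_tmul]
    · exact TensorProduct.tmul_zero _ _
    · intro x y _ _ hx hy
      rw [TensorProduct.tmul_add, hx, hy, add_zero]
    · intro c x _ hx
      have : (1 : A') ⊗ₜ[A] (c • x) = ((1 : A') ⊗ₜ[A] c) * ((1 : A') ⊗ₜ[A] x) := by
        rw [Algebra.TensorProduct.tmul_mul_tmul, one_mul, smul_eq_mul]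
      rw [this, hx, mul_zero]
  constructor
  · rw [injective_iff_map_eq_zero]
    intro t ht
    obtain ⟨b, rfl⟩ := h1 t
    rw [Algebra.TensorProduct.productMap_apply_tmul, map_one, one_mul] at ht
    exact h2 b (hker b ht)
  · intro b'
    obtain ⟨b, rfl⟩ := hB' b'
    refine ⟨(1 : A') ⊗ₜ[A] b, ?_⟩
    rw [Algebra.TensorProduct.productMap_apply_tmul, map_one, one_mul]
    rfl

end L

section F
variable {S₀ S R₀ R : Type u} [CommRing S₀] [CommRing S] [CommRing R₀] [CommRing R]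
  [Algebra S₀ S] [Algebra S₀ R₀] [Algebra S R] [Algebra R₀ R] [Algebra S₀ R]
  [IsScalarTower S₀ S R] [IsScalarTower S₀ R₀ R] [Module.Flat S₀ R₀]

theorem mem_map_comap_of_flat
    (hcart : Function.Bijective (Algebra.TensorProduct.productMap (IsScalarTower.toAlgHom S₀ S R)
      (IsScalarTower.toAlgHom S₀ R₀ R)))
    (J : Ideal S) (r₀ : R₀) (h : algebraMap R₀ R r₀ ∈ J.map (algebraMap S R)) :
    r₀ ∈ Ideal.map (algebraMap S₀ R₀) (Ideal.comap (algebraMap S₀ S) J) := by
  let E : S ⊗[S₀] R₀ ≃ₐ[S₀] R := AlgEquiv.ofBijective _ hcart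
  have hE : ∀ (s : S) (r : R₀), E (s ⊗ₜ[S₀] r) = algebraMap S R s * algebraMap R₀ R r := by
    intro s r
    show Algebra.TensorProduct.productMap _ _ (s ⊗ₜ[S₀] r) = _
    rw [Algebra.TensorProduct.productMap_apply_tmul]; rfl
  let i : (S₀ ⧸ Ideal.comap (algebraMap S₀ S) J) →ₐ[S₀] (S ⧸ J) :=
    Ideal.quotientMapₐ J (Algebra.ofId S₀ S) le_rfl
  have hi : Function.Injective i.toLinearMap := by
    have : Function.Injective i := by
      rw [injective_iff_map_eq_zero]
      intro x hx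
      obtain ⟨a, rfl⟩ := Ideal.Quotient.mk_surjective x
      have h1 : i (Ideal.Quotient.mk _ a) = Ideal.Quotient.mk J (algebraMap S₀ S a) := rfl
      rw [h1] at hx
      have h2 : algebraMap S₀ S a ∈ J := Ideal.Quotient.eq_zero_iff_mem.mp hx
      exact Ideal.Quotient.eq_zero_iff_mem.mpr (Ideal.mem_comap.mpr h2)
    exact this
  let Θ : R →ₐ[S₀] (S ⧸ J) ⊗[S₀] R₀ :=
    (Algebra.TensorProduct.map (Ideal.Quotient.mkₐ S₀ J) (AlgHom.id S₀ R₀)).comp E.symm.toAlgHom
  have hΘφ : ∀ s : S, Θ (algebraMap S R s) = (Ideal.Quotient.mk J s) ⊗ₜ[S₀] (1 : R₀) := by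
    intro s
    have : E.symm (algebraMap S R s) = s ⊗ₜ[S₀] (1 : R₀) := by
      rw [AlgEquiv.symm_apply_eq, hE, map_one, mul_one]
    show (Algebra.TensorProduct.map (Ideal.Quotient.mkₐ S₀ J) (AlgHom.id S₀ R₀))
      (E.symm (algebraMap S R s)) = _
    rw [this, Algebra.TensorProduct.map_tmul]
    rfl
  have hΘι : Θ (algebraMap R₀ R r₀) = (1 : S ⧸ J) ⊗ₜ[S₀] r₀ := by
    have : E.symm (algebraMap R₀ R r₀) = (1 : S) ⊗ₜ[S₀] r₀ := by
      rw [AlgEquiv.symm_apply_eq, hE, map_one, one_mul]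
    show (Algebra.TensorProduct.map (Ideal.Quotient.mkₐ S₀ J) (AlgHom.id S₀ R₀))
      (E.symm (algebraMap R₀ R r₀)) = _
    rw [this, Algebra.TensorProduct.map_tmul, map_one]
    rfl
  have hle : J.map (algebraMap S R) ≤ RingHom.ker (Θ : R →+* (S ⧸ J) ⊗[S₀] R₀) := by
    rw [Ideal.map_le_iff_le_comap]
    intro j hj
    rw [Ideal.mem_comap, RingHom.mem_ker]
    show Θ (algebraMap S R j) = 0
    rw [hΘφ, Ideal.Quotient.eq_zero_iff_mem.mpr hj, TensorProduct.zero_tmul]
  have h0 : (1 : S ⧸ J) ⊗ₜ[S₀] r₀ = 0 := by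
    rw [← hΘι]
    exact (RingHom.mem_ker).mp (hle h)
  have hz : (1 : S₀ ⧸ Ideal.comap (algebraMap S₀ S) J) ⊗ₜ[S₀] r₀ = 0 := by
    apply Module.Flat.rTensor_preserves_injective_linearMap (M := R₀) i.toLinearMap hi
    rw [LinearMap.rTensor_tmul, map_zero]
    show i 1 ⊗ₜ[S₀] r₀ = 0
    rw [map_one]
    exact h0
  have h3 := Algebra.TensorProduct.quotIdealMapEquivQuotTensor_mk R₀
    (Ideal.comap (algebraMap S₀ S) J) r₀
  rw [hz] at h3
  have h4 := (map_eq_zero_iff _ (AlgEquiv.injective _)).mp h3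
  exact Ideal.Quotient.eq_zero_iff_mem.mp h4

end F

theorem exists_tau (k : Type u) [Field k] (A : Type u) [CommRing A] [HopfAlgebra k A]
    [Algebra.FiniteType k A] (hG : HopfRep.IsLinearlyReductive k A)
    (T : Type u) [CommRing T] [Algebra k T] [HopfRep.Comod k A T] [GLin.IsCoactAlg k A T]
    (T₀ : Type u) [CommRing T₀] [Algebra k T₀] [Algebra T₀ T] [IsScalarTower k T₀ T]
    (hT₀ : (IsScalarTower.toAlgHom k T₀ T).range = GLin.invariants k A T)
    (I : Ideal T) [HopfRep.Comod k A (T ⧸ I)] [GLin.IsCoactAlg k A (T ⧸ I)]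
    (hq : ∀ t : T, HopfRep.Comod.coact (k := k) (A := A) ((Ideal.Quotient.mkₐ k I) t) =
      Algebra.TensorProduct.map (Ideal.Quotient.mkₐ k I) (AlgHom.id k A)
        (HopfRep.Comod.coact (k := k) (A := A) t))
    (T₁ : Type u) [CommRing T₁] [Algebra k T₁] [Algebra T₁ (T ⧸ I)] [IsScalarTower k T₁ (T ⧸ I)]
    (hT₁i : Function.Injective (algebraMap T₁ (T ⧸ I)))
    (hT₁ : (IsScalarTower.toAlgHom k T₁ (T ⧸ I)).range = GLin.invariants k A (T ⧸ I)) :
    ∃ τ : T₀ →+* T₁, Function.Surjective τ ∧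
      ∀ t₀, algebraMap T₁ (T ⧸ I) (τ t₀) = Ideal.Quotient.mk I (algebraMap T₀ T t₀) := by
  classical
  have hrt : ∀ z : T ⊗[k] A, LinearMap.rTensor A (Ideal.Quotient.mkₐ k I).toLinearMap z =
      Algebra.TensorProduct.map (Ideal.Quotient.mkₐ k I) (AlgHom.id k A) z := by
    intro z
    induction z using TensorProduct.induction_on with
    | zero => simp
    | tmul a b => simp [LinearMap.rTensor_tmul, Algebra.TensorProduct.map_tmul]
    | add a b ha hb => simp only [map_add, ha, hb]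
  have hex := (Groth.Agent.S16717.result k A (inferInstance : Algebra.FiniteType k A)).mp hG
    T (T ⧸ I) (Ideal.Quotient.mkₐ k I).toLinearMap
    (by
      apply LinearMap.ext
      intro t
      simp only [LinearMap.comp_apply]
      rw [hrt]
      exact (hq t).symm)
    (Ideal.Quotient.mkₐ_surjective k I)
  have hinvq : ∀ t₀ : T₀,
      Ideal.Quotient.mk I (algebraMap T₀ T t₀) ∈ GLin.invariants k A (T ⧸ I) := by
    intro t₀
    have hm : algebraMap T₀ T t₀ ∈ GLin.invariants k A T := by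
      rw [← hT₀]; exact AlgHom.mem_range_self (IsScalarTower.toAlgHom k T₀ T) t₀
    have hc : HopfRep.Comod.coact (k := k) (A := A) (algebraMap T₀ T t₀) =
        algebraMap T₀ T t₀ ⊗ₜ[k] (1 : A) := hm
    rw [GLin.mem_invariants_iff]
    have h := hq (algebraMap T₀ T t₀)
    rw [hc, Algebra.TensorProduct.map_tmul] at h
    simpa [Ideal.Quotient.mkₐ_eq_mk] using h
  have hlift : ∀ t₀ : T₀, ∃ t₁ : T₁,
      algebraMap T₁ (T ⧸ I) t₁ = Ideal.Quotient.mk I (algebraMap T₀ T t₀) := by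
    intro t₀
    have := hinvq t₀
    rw [← hT₁] at this
    obtain ⟨t₁, ht₁⟩ := (AlgHom.mem_range _).mp this
    exact ⟨t₁, ht₁⟩
  choose τf hτf using hlift
  let τ : T₀ →+* T₁ :=
    { toFun := τf
      map_one' := by apply hT₁i; simp only [hτf, map_one]
      map_mul' := fun a b => by
        show τf (a * b) = τf a * τf b
        apply hT₁i; simp only [hτf, map_mul]
      map_zero' := by
        show τf 0 = 0
        apply hT₁i; simp only [hτf, map_zero]
      map_add' := fun a b => by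
        show τf (a + b) = τf a + τf b
        apply hT₁i; simp only [hτf, map_add] }
  refine ⟨τ, ?_, hτf⟩
  intro t₁
  have hm : algebraMap T₁ (T ⧸ I) t₁ ∈ GLin.invariants k A (T ⧸ I) := by
    rw [← hT₁]; exact AlgHom.mem_range_self (IsScalarTower.toAlgHom k T₁ (T ⧸ I)) t₁
  obtain ⟨v, hv, hvw⟩ := hex _ (show _ ∈ HopfRep.fixedPts k A (T ⧸ I) from hm)
  have hv' : v ∈ GLin.invariants k A T := hv
  rw [← hT₀] at hv'
  obtain ⟨t₀, rfl⟩ := (AlgHom.mem_range _).mp hv'
  refine ⟨t₀, hT₁i ?_⟩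
  show algebraMap T₁ (T ⧸ I) (τf t₀) = _
  rw [hτf]
  exact hvw


/-- Let k be an algebraically closed field of characteristic zero, A a finitely generated commutative
Hopf algebra over k all of whose finite-dimensional comodules are semisimple (a reductive group G),
S and R finitely generated commutative k-algebras with multiplicative A-coactions (G acting on
affine Y = Spec S and X = Spec R), S → R an algebra map compatible with the coactions (a G-morphism
θ : X → Y), S₀ → S and R₀ → R injective k-algebra maps whose images are the subrings of invariants,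
and S₀ → R₀ an algebra map with S₀ → R₀ → R equal to S₀ → S → R (θ/G). Suppose R is étale over S, R₀
is étale over S₀, and the canonical map S ⊗_{S₀} R₀ → R is bijective (θ and θ/G étale and X ≅ Y
×_{Y//G} X//G). Let J be an ideal of S which is a subcomodule (Y' = V(J) a closed G-invariant
subscheme), let S/J and R/JR carry A-coactions for which the quotient maps are compatible with the
coactions (the induced actions on Y' and X' = Y' ×_Y X), and let S₁ → S/J and R₁ → R/JR be injective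
k-algebra maps whose images are the subrings of invariants, with S₁ → R₁ an algebra map such that S₁
→ R₁ → R/JR equals S₁ → S/J → R/JR. Then R/JR is étale over S/J, R₁ is étale over S₁, and the
canonical map (S/J) ⊗_{S₁} R₁ → R/JR is bijective (θ' : X' → Y' and θ'/G are étale and X' ≅ Y'
×_{Y'//G} X'//G). -/
theorem result (k : Type u) [Field k] [IsAlgClosed k] [CharZero k]
    (A : Type u) [CommRing A] [HopfAlgebra k A] [Algebra.FiniteType k A] (hG : HopfRep.IsLinearlyReductive k A)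
    (S : Type u) [CommRing S] [Algebra k S] [Algebra.FiniteType k S] [HopfRep.Comod k A S] [GLin.IsCoactAlg k A S]
    (R : Type u) [CommRing R] [Algebra k R] [Algebra.FiniteType k R] [HopfRep.Comod k A R] [GLin.IsCoactAlg k A R]
    [Algebra S R] [IsScalarTower k S R]
    (hequiv : (∀ s : S, HopfRep.Comod.coact (k := k) (A := A) (algebraMap S R s) =
      Algebra.TensorProduct.map (IsScalarTower.toAlgHom k S R) (AlgHom.id k A) (HopfRep.Comod.coact (k := k) (A := A) s)))
    (S₀ : Type u) [CommRing S₀] [Algebra k S₀] [Algebra S₀ S] [IsScalarTower k S₀ S]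
    (hS₀i : Function.Injective (algebraMap S₀ S)) (hS₀ : (IsScalarTower.toAlgHom k S₀ S).range = GLin.invariants k A S)
    (R₀ : Type u) [CommRing R₀] [Algebra k R₀] [Algebra R₀ R] [IsScalarTower k R₀ R]
    (hR₀i : Function.Injective (algebraMap R₀ R)) (hR₀ : (IsScalarTower.toAlgHom k R₀ R).range = GLin.invariants k A R)
    [Algebra S₀ R₀] [Algebra S₀ R] [IsScalarTower S₀ S R] [IsScalarTower S₀ R₀ R]
    (het : Algebra.Etale S R) (het₀ : Algebra.Etale S₀ R₀)
    (hcart : Function.Bijective (Algebra.TensorProduct.productMap (IsScalarTower.toAlgHom S₀ S R) (IsScalarTower.toAlgHom S₀ R₀ R)))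
    (J : Ideal S) (hJ : HopfRep.IsSubcomod (k := k) (A := A) (J.restrictScalars k))
    [HopfRep.Comod k A (S ⧸ J)] [GLin.IsCoactAlg k A (S ⧸ J)]
    (hqS : (∀ s : S, HopfRep.Comod.coact (k := k) (A := A) ((Ideal.Quotient.mkₐ k J) s) =
        Algebra.TensorProduct.map (Ideal.Quotient.mkₐ k J) (AlgHom.id k A) (HopfRep.Comod.coact (k := k) (A := A) s)))
    [HopfRep.Comod k A (R ⧸ J.map (algebraMap S R))] [GLin.IsCoactAlg k A (R ⧸ J.map (algebraMap S R))]
    (hqR : (∀ s : R, HopfRep.Comod.coact (k := k) (A := A) ((Ideal.Quotient.mkₐ k (J.map (algebraMap S R))) s) =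
        Algebra.TensorProduct.map (Ideal.Quotient.mkₐ k (J.map (algebraMap S R))) (AlgHom.id k A) (HopfRep.Comod.coact (k := k) (A := A) s)))
    (S₁ : Type u) [CommRing S₁] [Algebra k S₁] [Algebra S₁ (S ⧸ J)] [IsScalarTower k S₁ (S ⧸ J)]
    (hS₁i : Function.Injective (algebraMap S₁ (S ⧸ J)))
    (hS₁ : (IsScalarTower.toAlgHom k S₁ (S ⧸ J)).range = GLin.invariants k A (S ⧸ J))
    (R₁ : Type u) [CommRing R₁] [Algebra k R₁] [Algebra R₁ (R ⧸ J.map (algebraMap S R))] [IsScalarTower k R₁ (R ⧸ J.map (algebraMap S R))]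
    (hR₁i : Function.Injective (algebraMap R₁ (R ⧸ J.map (algebraMap S R))))
    (hR₁ : (IsScalarTower.toAlgHom k R₁ (R ⧸ J.map (algebraMap S R))).range = GLin.invariants k A (R ⧸ J.map (algebraMap S R)))
    [Algebra S₁ R₁] [Algebra S₁ (R ⧸ J.map (algebraMap S R))]
    [IsScalarTower S₁ (S ⧸ J) (R ⧸ J.map (algebraMap S R))] [IsScalarTower S₁ R₁ (R ⧸ J.map (algebraMap S R))] :
    Algebra.Etale (S ⧸ J) (R ⧸ J.map (algebraMap S R)) ∧ Algebra.Etale S₁ R₁ ∧
      Function.Bijective (Algebra.TensorProduct.productMap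
        (IsScalarTower.toAlgHom S₁ (S ⧸ J) (R ⧸ J.map (algebraMap S R)))
        (IsScalarTower.toAlgHom S₁ R₁ (R ⧸ J.map (algebraMap S R)))) := by
  classical
  obtain ⟨σ, hσs, hσ⟩ := exists_tau k A hG S S₀ hS₀ J hqS S₁ hS₁i hS₁
  obtain ⟨ρ, hρs, hρ⟩ := exists_tau k A hG R R₀ hR₀ (J.map (algebraMap S R)) hqR R₁ hR₁i hR₁
  haveI := het
  haveI := het₀
  haveI : Module.Flat S₀ R₀ := inferInstance
  have hF := fun r₀ h => mem_map_comap_of_flat hcart J r₀ h
  have h1 : Algebra.Etale (S ⧸ J) (R ⧸ J.map (algebraMap S R)) :=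
    Algebra.Etale.of_equiv (Algebra.TensorProduct.quotIdealMapEquivQuotTensor R J).symm
  have hsq : ∀ s₀ : S₀, ρ (algebraMap S₀ R₀ s₀) = algebraMap S₁ R₁ (σ s₀) := by
    intro s₀
    apply hR₁i
    rw [hρ, ← IsScalarTower.algebraMap_apply S₁ R₁ (R ⧸ J.map (algebraMap S R)),
      IsScalarTower.algebraMap_apply S₁ (S ⧸ J) (R ⧸ J.map (algebraMap S R)), hσ,
      ← IsScalarTower.algebraMap_apply S₀ R₀ R, IsScalarTower.algebraMap_apply S₀ S R]
    rfl
  have hJ₀ : Ideal.comap (algebraMap S₀ S) J ≤ RingHom.ker σ := by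
    intro j₀ hj₀
    rw [RingHom.mem_ker]
    apply hS₁i
    rw [hσ, map_zero]
    exact Ideal.Quotient.eq_zero_iff_mem.mpr hj₀
  have hρker : ∀ b : R₀, ρ b = 0 → b ∈ Ideal.map (algebraMap S₀ R₀) (RingHom.ker σ) := by
    intro b hb
    have hbK : algebraMap R₀ R b ∈ J.map (algebraMap S R) := by
      apply Ideal.Quotient.eq_zero_iff_mem.mp
      rw [← hρ, hb, map_zero]
    exact Ideal.map_mono hJ₀ (hF b hbK)
  have h2 : Algebra.Etale S₁ R₁ := by
    letI iA : Algebra S₀ S₁ := σ.toAlgebra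
    letI iB : Algebra R₀ R₁ := ρ.toAlgebra
    letI iC : Algebra S₀ R₁ := ((algebraMap S₁ R₁).comp σ).toAlgebra
    haveI t1 : IsScalarTower S₀ S₁ R₁ := IsScalarTower.of_algebraMap_eq (fun x => rfl)
    haveI t2 : IsScalarTower S₀ R₀ R₁ := IsScalarTower.of_algebraMap_eq (fun x => (hsq x).symm)
    have hbij : Function.Bijective (Algebra.TensorProduct.productMap
        (IsScalarTower.toAlgHom S₀ S₁ R₁) (IsScalarTower.toAlgHom S₀ R₀ R₁)) :=
      tensor_quot_bijective (A := S₀) (B := R₀) (A' := S₁) (B' := R₁) hσs hρs hρker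
    let pm₁ := Algebra.TensorProduct.productMap
        (IsScalarTower.toAlgHom S₀ S₁ R₁) (IsScalarTower.toAlgHom S₀ R₀ R₁)
    let e1 : S₁ ⊗[S₀] R₀ →ₐ[S₁] R₁ :=
      { pm₁.toRingHom with
        commutes' := fun s => by
          show pm₁ (algebraMap S₁ (S₁ ⊗[S₀] R₀) s) = algebraMap S₁ R₁ s
          rw [Algebra.TensorProduct.algebraMap_apply,
            Algebra.TensorProduct.productMap_apply_tmul]
          simp }
    have hb : Function.Bijective e1 := hbij
    exact Algebra.Etale.of_equiv (AlgEquiv.ofBijective e1 hb)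
  have h3 : Function.Bijective (Algebra.TensorProduct.productMap
        (IsScalarTower.toAlgHom S₁ (S ⧸ J) (R ⧸ J.map (algebraMap S R)))
        (IsScalarTower.toAlgHom S₁ R₁ (R ⧸ J.map (algebraMap S R)))) := by
    set pm' := Algebra.TensorProduct.productMap
        (IsScalarTower.toAlgHom S₁ (S ⧸ J) (R ⧸ J.map (algebraMap S R)))
        (IsScalarTower.toAlgHom S₁ R₁ (R ⧸ J.map (algebraMap S R))) with hpm'
    let E : S ⊗[S₀] R₀ ≃ₐ[S₀] R := AlgEquiv.ofBijective _ hcart
    have hE : ∀ (s : S) (r₀ : R₀),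
        E (s ⊗ₜ[S₀] r₀) = algebraMap S R s * algebraMap R₀ R r₀ := by
      intro s r₀
      show Algebra.TensorProduct.productMap _ _ (s ⊗ₜ[S₀] r₀) = _
      rw [Algebra.TensorProduct.productMap_apply_tmul]; rfl
    have hpm : ∀ (s : S) (r₀ : R₀), pm' ((Ideal.Quotient.mk J s) ⊗ₜ[S₁] (ρ r₀)) =
        Ideal.Quotient.mk (J.map (algebraMap S R)) (E (s ⊗ₜ[S₀] r₀)) := by
      intro s r₀
      rw [hE, hpm', Algebra.TensorProduct.productMap_apply_tmul, map_mul]
      show algebraMap (S ⧸ J) (R ⧸ J.map (algebraMap S R)) (Ideal.Quotient.mk J s) *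
        algebraMap R₁ (R ⧸ J.map (algebraMap S R)) (ρ r₀) = _
      rw [hρ]; rfl
    let f : S →+ R₀ →+ (S ⧸ J) ⊗[S₁] R₁ :=
      AddMonoidHom.mk' (fun s => AddMonoidHom.mk'
        (fun r₀ => (Ideal.Quotient.mk J s) ⊗ₜ[S₁] (ρ r₀))
        (fun a b => by
          show (Ideal.Quotient.mk J s) ⊗ₜ[S₁] (ρ (a + b)) =
            (Ideal.Quotient.mk J s) ⊗ₜ[S₁] (ρ a) + (Ideal.Quotient.mk J s) ⊗ₜ[S₁] (ρ b)
          rw [map_add, TensorProduct.tmul_add]))
        (fun a b => by
          apply AddMonoidHom.ext; intro r₀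
          show (Ideal.Quotient.mk J (a + b)) ⊗ₜ[S₁] (ρ r₀) =
            (Ideal.Quotient.mk J a) ⊗ₜ[S₁] (ρ r₀) + (Ideal.Quotient.mk J b) ⊗ₜ[S₁] (ρ r₀)
          rw [map_add, TensorProduct.add_tmul])
    have hf : ∀ (s₀ : S₀) (s : S) (r₀ : R₀), f (s₀ • s) r₀ = f s (s₀ • r₀) := by
      intro s₀ s r₀
      show (Ideal.Quotient.mk J (s₀ • s)) ⊗ₜ[S₁] (ρ r₀) =
        (Ideal.Quotient.mk J s) ⊗ₜ[S₁] (ρ (s₀ • r₀))
      rw [Algebra.smul_def, Algebra.smul_def, map_mul, map_mul, ← hσ s₀, hsq s₀,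
        ← Algebra.smul_def, ← Algebra.smul_def, TensorProduct.smul_tmul]
    let Ψ' : S ⊗[S₀] R₀ →+ (S ⧸ J) ⊗[S₁] R₁ := TensorProduct.liftAddHom f hf
    have hΨ : ∀ (s : S) (r₀ : R₀),
        Ψ' (s ⊗ₜ[S₀] r₀) = (Ideal.Quotient.mk J s) ⊗ₜ[S₁] (ρ r₀) := fun s r₀ => rfl
    have hΨK : ∀ r ∈ J.map (algebraMap S R), ∀ a : S ⊗[S₀] R₀, Ψ' (a * E.symm r) = 0 := by
      intro r hr
      have hr' : r ∈ Submodule.span R (⇑(algebraMap S R) '' (J : Set S)) := hr
      refine Submodule.span_induction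
        (p := fun r _ => ∀ a : S ⊗[S₀] R₀, Ψ' (a * E.symm r) = 0) ?_ ?_ ?_ ?_ hr'
      · rintro _ ⟨j, hj, rfl⟩ a
        have hEj : E.symm (algebraMap S R j) = j ⊗ₜ[S₀] (1 : R₀) := by
          rw [AlgEquiv.symm_apply_eq, hE, map_one, mul_one]
        rw [hEj]
        induction a using TensorProduct.induction_on with
        | zero => rw [zero_mul, map_zero]
        | tmul s r₀ =>
          rw [Algebra.TensorProduct.tmul_mul_tmul, hΨ,
            Ideal.Quotient.eq_zero_iff_mem.mpr (J.mul_mem_left s hj), TensorProduct.zero_tmul]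
        | add x y hx hy => rw [add_mul, map_add, hx, hy, add_zero]
      · intro a; rw [map_zero, mul_zero, map_zero]
      · intro x y _ _ hx hy a; rw [map_add, mul_add, map_add, hx, hy, add_zero]
      · intro c x _ hx a
        rw [smul_eq_mul, map_mul E.symm, ← mul_assoc]
        exact hx _
    have hrep : ∀ t : (S ⧸ J) ⊗[S₁] R₁, ∃ u : S ⊗[S₀] R₀, Ψ' u = t ∧
        pm' t = Ideal.Quotient.mk (J.map (algebraMap S R)) (E u) := by
      intro t
      induction t using TensorProduct.induction_on with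
      | zero => exact ⟨0, by rw [map_zero], by rw [map_zero, map_zero, map_zero]⟩
      | tmul x y =>
        obtain ⟨s, rfl⟩ := Ideal.Quotient.mk_surjective x
        obtain ⟨r₀, rfl⟩ := hρs y
        exact ⟨s ⊗ₜ[S₀] r₀, hΨ s r₀, hpm s r₀⟩
      | add x y hx hy =>
        obtain ⟨u₁, h₁, h₁'⟩ := hx
        obtain ⟨u₂, h₂, h₂'⟩ := hy
        exact ⟨u₁ + u₂, by rw [map_add, h₁, h₂], by rw [map_add, map_add, map_add, h₁', h₂']⟩
    constructor
    · rw [injective_iff_map_eq_zero]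
      intro t ht
      obtain ⟨u, hu1, hu2⟩ := hrep t
      rw [ht] at hu2
      have hK : E u ∈ J.map (algebraMap S R) := Ideal.Quotient.eq_zero_iff_mem.mp hu2.symm
      have := hΨK _ hK 1
      rw [AlgEquiv.symm_apply_apply, one_mul, hu1] at this
      exact this
    · intro y
      obtain ⟨r, rfl⟩ := Ideal.Quotient.mk_surjective y
      obtain ⟨u, hu⟩ := E.surjective r
      subst hu
      induction u using TensorProduct.induction_on with
      | zero => exact ⟨0, by rw [map_zero, map_zero, map_zero]⟩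
      | tmul s r₀ => exact ⟨_, hpm s r₀⟩
      | add x y hx hy =>
        obtain ⟨t₁, h₁⟩ := hx
        obtain ⟨t₂, h₂⟩ := hy
        exact ⟨t₁ + t₂, by rw [map_add, h₁, h₂, map_add, map_add]⟩
  exact ⟨h1, h2, h3⟩
end Groth.Agent.S19408
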