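import Groth.Statements.S19412
import Mathlib

set_option autoImplicit false
universe u
open TensorProduct
open GLin

namespace Groth.Agent.S19412


section aux
variable (k : Type u) [Field k] (A : Type u) [CommRing A] [HopfAlgebra k A]
  (R : Type u) [CommRing R] [Algebra k R] [HopfRep.Comod k A R] [GLin.IsCoactAlg k A R]

theorem orbitHom_of_mem_invariants (x : R →ₐ[k] k) {r : R} (hr : r ∈ GLin.invariants k A R) :
    GLin.orbitHom k A x r = algebraMap k A (x r) := by
  have h : HopfRep.Comod.coact (k := k) (A := A) r = r ⊗ₜ[k] (1 : A) := hr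
  simp only [GLin.orbitHom, AlgHom.comp_apply, GLin.coactAlgHom_apply, h]
  rw [Algebra.TensorProduct.map_tmul]
  simp [Algebra.algebraMap_eq_smul_one]

end aux


/-- Let k be an algebraically closed field of characteristic zero, A a finitely generated commutative
Hopf algebra over k (an algebraic group G), S and R finitely generated commutative k-algebras with
multiplicative A-coactions (G acting on affine Y = Spec S, X = Spec R), S → R an algebra map
compatible with the coactions (a G-morphism φ : X → Y), S₀ → S and R₀ → R injective k-algebra maps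
whose images are the subrings of invariants, and S₀ → R₀ an algebra map with S₀ → R₀ → R equal to S₀
→ S → R (φ/G). Suppose R₀ is étale over S₀ and the canonical map S ⊗_{S₀} R₀ → R is bijective (φ is
strongly étale: φ/G étale and X ≅ Y ×_{Y//G} X//G). Then R is étale over S (φ étale), and for every
k-point x of X: every k-point of G fixing the image point φ(x) fixes x (φ restricted to the orbit of
x is injective), and the orbit of x is closed if and only if the orbit of φ(x) is closed. (The
published item also asserts that φ is surjective; that fails when φ is the inclusion of a proper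
saturated open subset, which is strongly étale, so surjectivity is not asserted here.) -/
theorem result (k : Type u) [Field k] [IsAlgClosed k] [CharZero k]
    (A : Type u) [CommRing A] [HopfAlgebra k A] [Algebra.FiniteType k A]
    (S : Type u) [CommRing S] [Algebra k S] [Algebra.FiniteType k S] [HopfRep.Comod k A S] [GLin.IsCoactAlg k A S]
    (R : Type u) [CommRing R] [Algebra k R] [Algebra.FiniteType k R] [HopfRep.Comod k A R] [GLin.IsCoactAlg k A R]
    [Algebra S R] [IsScalarTower k S R]
    (hequiv : (∀ s : S, HopfRep.Comod.coact (k := k) (A := A) (algebraMap S R s) =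
      Algebra.TensorProduct.map (IsScalarTower.toAlgHom k S R) (AlgHom.id k A) (HopfRep.Comod.coact (k := k) (A := A) s)))
    (S₀ : Type u) [CommRing S₀] [Algebra k S₀] [Algebra S₀ S] [IsScalarTower k S₀ S]
    (hS₀i : Function.Injective (algebraMap S₀ S)) (hS₀ : (IsScalarTower.toAlgHom k S₀ S).range = GLin.invariants k A S)
    (R₀ : Type u) [CommRing R₀] [Algebra k R₀] [Algebra R₀ R] [IsScalarTower k R₀ R]
    (hR₀i : Function.Injective (algebraMap R₀ R)) (hR₀ : (IsScalarTower.toAlgHom k R₀ R).range = GLin.invariants k A R)
    [Algebra S₀ R₀] [Algebra S₀ R] [IsScalarTower S₀ S R] [IsScalarTower S₀ R₀ R]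
    (het₀ : Algebra.Etale S₀ R₀)
    (hcart : Function.Bijective (Algebra.TensorProduct.productMap (IsScalarTower.toAlgHom S₀ S R) (IsScalarTower.toAlgHom S₀ R₀ R))) :
    Algebra.Etale S R ∧
      ∀ x : R →ₐ[k] k,
        (∀ g : A →ₐ[k] k, GLin.actPt k g (x.comp (IsScalarTower.toAlgHom k S R)) = x.comp (IsScalarTower.toAlgHom k S R) →
          GLin.actPt k g x = x) ∧
        (GLin.IsClosedOrbit k A x ↔ GLin.IsClosedOrbit k A (x.comp (IsScalarTower.toAlgHom k S R))) := by
  classical
  have hφs : ∀ s : S, IsScalarTower.toAlgHom k S R s = algebraMap S R s := fun s => rfl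
  -- induction principle: every element of `R` is a sum of products `φ s * ι r₀`
  have hgen : ∀ (P : R → Prop), P 0 → (∀ a b, P a → P b → P (a + b)) →
      (∀ (s : S) (r₀ : R₀), P (algebraMap S R s * algebraMap R₀ R r₀)) → ∀ r, P r := by
    intro P h0 hadd hmul r
    obtain ⟨t, rfl⟩ := hcart.2 r
    induction t using TensorProduct.induction_on with
    | zero => simpa using h0
    | tmul s r₀ =>
      rw [Algebra.TensorProduct.productMap_apply_tmul]
      exact hmul s r₀
    | add a b ha hb => rw [map_add]; exact hadd _ _ ha hb
  -- étaleness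
  have het : Algebra.Etale S R := by
    haveI := het₀
    let pm := Algebra.TensorProduct.productMap (IsScalarTower.toAlgHom S₀ S R)
      (IsScalarTower.toAlgHom S₀ R₀ R)
    let e0 : S ⊗[S₀] R₀ →ₐ[S] R :=
      { pm.toRingHom with
        commutes' := fun s => by
          show pm (algebraMap S (S ⊗[S₀] R₀) s) = algebraMap S R s
          rw [Algebra.TensorProduct.algebraMap_apply,
            Algebra.TensorProduct.productMap_apply_tmul]
          simp }
    have hb : Function.Bijective e0 := hcart
    exact Algebra.Etale.of_equiv (AlgEquiv.ofBijective e0 hb)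
  -- the orbit map of the image point
  have horb : ∀ x : R →ₐ[k] k, GLin.orbitHom k A (x.comp (IsScalarTower.toAlgHom k S R)) =
      (GLin.orbitHom k A x).comp (IsScalarTower.toAlgHom k S R) := by
    intro x
    apply AlgHom.ext
    intro s
    simp only [GLin.orbitHom, AlgHom.comp_apply, GLin.coactAlgHom_apply]
    rw [hφs, hequiv s]
    have hmap : ∀ t : S ⊗[k] A,
        Algebra.TensorProduct.map (x.comp (IsScalarTower.toAlgHom k S R)) (AlgHom.id k A) t =
        Algebra.TensorProduct.map x (AlgHom.id k A)
          (Algebra.TensorProduct.map (IsScalarTower.toAlgHom k S R) (AlgHom.id k A) t) := by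
      intro t
      induction t using TensorProduct.induction_on with
      | zero => simp
      | tmul a b => simp [Algebra.TensorProduct.map_tmul]
      | add a b ha hb => simp only [map_add, ha, hb]
    rw [hmap]
  have hmemι : ∀ r₀ : R₀, algebraMap R₀ R r₀ ∈ GLin.invariants k A R := by
    intro r₀
    rw [← hR₀]
    exact AlgHom.mem_range_self (IsScalarTower.toAlgHom k R₀ R) r₀
  refine ⟨het, fun x => ⟨?_, ?_⟩⟩
  · -- stabilisers
    intro g hg
    apply AlgHom.ext
    intro r
    refine hgen (fun r => GLin.actPt k g x r = x r) (by simp)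
      (fun a b ha hb => by simp only [map_add, ha, hb]) (fun s r₀ => ?_) r
    have h1 : GLin.actPt k g x (algebraMap S R s) = x (algebraMap S R s) := by
      have h := DFunLike.congr_fun hg s
      simp only [GLin.actPt, horb, AlgHom.comp_apply, hφs] at h
      simpa [GLin.actPt] using h
    have h2 : GLin.actPt k g x (algebraMap R₀ R r₀) = x (algebraMap R₀ R r₀) := by
      simp only [GLin.actPt, AlgHom.comp_apply]
      rw [orbitHom_of_mem_invariants k A R x (hmemι r₀), AlgHom.commutes]
      simp
    show GLin.actPt k g x (algebraMap S R s * algebraMap R₀ R r₀) =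
      x (algebraMap S R s * algebraMap R₀ R r₀)
    rw [map_mul, map_mul, h1, h2]
  · -- closed orbits
    set oX := GLin.orbitHom k A x with hoX
    have hZ' : Set.range (PrimeSpectrum.comap
        (GLin.orbitHom k A (x.comp (IsScalarTower.toAlgHom k S R))).toRingHom) =
        PrimeSpectrum.comap (algebraMap S R) '' Set.range (PrimeSpectrum.comap oX.toRingHom) := by
      rw [horb x]
      have hc : ((GLin.orbitHom k A x).comp (IsScalarTower.toAlgHom k S R)).toRingHom =
          oX.toRingHom.comp (algebraMap S R) := rfl
      rw [hc, PrimeSpectrum.comap_comp, Set.range_comp]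
    unfold GLin.IsClosedOrbit
    rw [hZ']
    set Z := Set.range (PrimeSpectrum.comap oX.toRingHom) with hZ
    let p₀ : R₀ →+* k := x.toRingHom.comp (algebraMap R₀ R)
    let I : Ideal R := Ideal.map (algebraMap R₀ R) (RingHom.ker p₀)
    have hZI : Z ⊆ PrimeSpectrum.zeroLocus (I : Set R) := by
      rintro _ ⟨q, rfl⟩
      rw [PrimeSpectrum.mem_zeroLocus, SetLike.coe_subset_coe, PrimeSpectrum.comap_asIdeal,
        Ideal.map_le_iff_le_comap]
      intro r₀ hr₀
      rw [Ideal.mem_comap, Ideal.mem_comap]
      have h0 : x (algebraMap R₀ R r₀) = 0 := hr₀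
      have : oX.toRingHom (algebraMap R₀ R r₀) = 0 := by
        show oX (algebraMap R₀ R r₀) = 0
        rw [hoX, orbitHom_of_mem_invariants k A R x (hmemι r₀), h0, map_zero]
      rw [this]
      exact Ideal.zero_mem _
    let π : R →+* R ⧸ I := Ideal.Quotient.mk I
    have hπι : ∀ r₀ : R₀, π (algebraMap R₀ R r₀) =
        π (algebraMap S R (algebraMap k S (x (algebraMap R₀ R r₀)))) := by
      intro r₀
      set c : k := x (algebraMap R₀ R r₀) with hc
      have e1 : algebraMap S R (algebraMap k S c) = algebraMap R₀ R (algebraMap k R₀ c) := by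
        rw [← IsScalarTower.algebraMap_apply k S R, ← IsScalarTower.algebraMap_apply k R₀ R]
      rw [e1]
      apply (Ideal.Quotient.eq).mpr
      rw [← map_sub]
      apply Ideal.mem_map_of_mem
      show p₀ (r₀ - algebraMap k R₀ c) = 0
      rw [map_sub]
      have : p₀ (algebraMap k R₀ c) = c := by
        show x (algebraMap R₀ R (algebraMap k R₀ c)) = c
        rw [← IsScalarTower.algebraMap_apply k R₀ R, AlgHom.commutes]
        rfl
      rw [this]
      exact sub_self _
    have hsurj : Function.Surjective (π.comp (algebraMap S R)) := by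
      intro y
      obtain ⟨r, rfl⟩ := Ideal.Quotient.mk_surjective y
      refine hgen (fun r => ∃ s, (π.comp (algebraMap S R)) s = π r) ⟨0, by simp⟩ ?_ ?_ r
      · rintro a b ⟨s₁, h₁⟩ ⟨s₂, h₂⟩
        exact ⟨s₁ + s₂, by rw [map_add, map_add, h₁, h₂]⟩
      · intro s r₀
        refine ⟨s * algebraMap k S (x (algebraMap R₀ R r₀)), ?_⟩
        rw [RingHom.comp_apply, map_mul, map_mul, map_mul, hπι r₀]
    have hce := PrimeSpectrum.isClosedEmbedding_comap_of_surjective _ _ hsurj
    have hfj : PrimeSpectrum.comap (π.comp (algebraMap S R)) =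
        PrimeSpectrum.comap (algebraMap S R) ∘ PrimeSpectrum.comap π := rfl
    have hrange : Set.range (PrimeSpectrum.comap π) = PrimeSpectrum.zeroLocus (I : Set R) := by
      rw [range_comap_of_surjective _ _ Ideal.Quotient.mk_surjective]
      show PrimeSpectrum.zeroLocus ((RingHom.ker (Ideal.Quotient.mk I) : Ideal R) : Set R) = _
      rw [Ideal.mk_ker]
    constructor
    · intro hcl
      have hZeq : Z = PrimeSpectrum.comap π '' (PrimeSpectrum.comap π ⁻¹' Z) := by
        rw [Set.image_preimage_eq_inter_range, hrange]
        exact (Set.inter_eq_left.mpr hZI).symm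
      rw [hZeq, ← Set.image_comp, ← hfj]
      exact hce.isClosedMap _ (hcl.preimage (PrimeSpectrum.continuous_comap π))
    · intro hcl
      have hZeq : Z = PrimeSpectrum.comap (algebraMap S R) ⁻¹'
          (PrimeSpectrum.comap (algebraMap S R) '' Z) ∩ PrimeSpectrum.zeroLocus (I : Set R) := by
        apply Set.Subset.antisymm
        · intro z hz
          exact ⟨⟨z, hz, rfl⟩, hZI hz⟩
        · rintro p ⟨⟨z, hz, hzp⟩, hpI⟩
          have hzI := hZI hz
          rw [← hrange] at hpI hzI
          obtain ⟨p', rfl⟩ := hpI
          obtain ⟨z', rfl⟩ := hzI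
          have : z' = p' := hce.injective (by rw [hfj]; exact hzp)
          rw [← this]
          exact hz
      rw [hZeq]
      exact (hcl.preimage (PrimeSpectrum.continuous_comap _)).inter
        (PrimeSpectrum.isClosed_zeroLocus _)
end Groth.Agent.S19412
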