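import Groth.Statements.S1942
import Groth.Agent.Lib.Lead.StalkLoc
import Groth.Agent.Lib.Lead.C1Pull

set_option autoImplicit false
universe u
open CategoryTheory AlgebraicGeometry
open CategoryTheory.Limits
open Cyc

namespace Groth.Agent.S1942


open Groth.Agent.Lib.Lead.C1Cap Groth.Agent.Lib.Lead.C1Pull Groth.Agent.Lib.Helper3.InvGen
  Groth.Agent.Lib.Lead.CycPull Groth.Agent.Lib.Helper22.AssocLen Groth.Agent.Lib.Helper23.CycLib
  Groth.Agent.Lib.Lead.StalkLoc Groth.Agent.Lib.Helper17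

/-- The coefficient of `c_1(L) ∩ [F]_{k+1}` (computed with the Gysin sections of `s`) at a point
`y` of δ-dimension `k` where `s = c · e` with `c` in the maximal ideal and `F_y`-regular:
the one-dimensional associativity formula for the module `F_y`. -/
theorem c1Cap_sheafFun_eq {X : Scheme.{u}} [IsLocallyNoetherian X] (δ : X → ℤ)
    (hdimf : Cyc.IsDimFun X δ) {L : X.Modules} {U : X.Opens} {e : Γ(L, U)} (hg : IsGen L U e)
    (s : L.presheaf.obj (Opposite.op ⊤)) (k : ℤ) (F : X.Modules) [F.IsQuasicoherent]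
    [F.IsFiniteType]
    (hdim : ∀ x : X, Nontrivial (F.presheaf.stalk x) → δ x ≤ k + 1)
    (w : (ξ : X) → Cyc.secFibre L ξ) (y : X) (hyU : y ∈ U) (hyk : δ y = k)
    (c : X.presheaf.stalk y)
    (hc0 : L.presheaf.germ ⊤ y trivial s = c • L.presheaf.germ U y hyU e)
    (hcm : c ∈ IsLocalRing.maximalIdeal (X.presheaf.stalk y))
    (hregc : Function.Injective (fun m : F.presheaf.stalk y => c • m)) :
    Cyc.c1CapFun δ L (Cyc.sheafFun δ (k + 1) F) (Cyc.gysinChoice L s w) y =
      ((Module.length (X.presheaf.stalk y) ((F.presheaf.stalk y) ⧸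
        (Ideal.span {c} • (⊤ : Submodule (X.presheaf.stalk y) (F.presheaf.stalk y))))).toNat : ℤ) := by
  classical
  show (∑ᶠ η : X, Cyc.sheafFun δ (k + 1) F η *
      Cyc.secDivFun δ L η (Cyc.gysinChoice L s w η) y) = _
  haveI hfinM : Module.Finite (X.presheaf.stalk y) (F.presheaf.stalk y) := CohStalk.finite_stalk F y
  have hgenδ : ∀ η : X, η ⤳ y → η ≠ y → Nontrivial (F.presheaf.stalk η) → δ η = k + 1 := by
    intro η h hne hnt
    have h1 := (hdimf η y h hne).1
    have h2 := hdim η hnt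
    omega
  haveI hPprime : ∀ i : {η : X // η ⤳ y ∧ η ≠ y ∧ Nontrivial (F.presheaf.stalk η)}, (RingHom.ker (Cyc.specMap y i.1 i.2.1)).IsPrime := fun i => RingHom.ker_isPrime _
  have hinc : ∀ i j : {η : X // η ⤳ y ∧ η ≠ y ∧ Nontrivial (F.presheaf.stalk η)}, RingHom.ker (Cyc.specMap y i.1 i.2.1) ≤ RingHom.ker (Cyc.specMap y j.1 j.2.1) → i = j := by
    intro i j hle
    have h1 : i.1 ⤳ j.1 := (ker_specMap_le_iff y i.1 j.1 i.2.1 j.2.1).mp hle
    apply Subtype.ext
    by_contra hne
    have h2 := (hdimf i.1 j.1 h1 hne).1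
    have h3 := hgenδ i.1 i.2.1 i.2.2.1 i.2.2.2
    have h4 := hgenδ j.1 j.2.1 j.2.2.1 j.2.2.2
    omega
  have hPm : ∀ i : {η : X // η ⤳ y ∧ η ≠ y ∧ Nontrivial (F.presheaf.stalk η)}, RingHom.ker (Cyc.specMap y i.1 i.2.1) ≠ IsLocalRing.maximalIdeal (X.presheaf.stalk y) := by
    intro i h
    rw [← ker_specMap_self y (specializes_refl y)] at h
    exact i.2.2.1 (ker_specMap_injective y i.1 y i.2.1 _ h)
  have hgood : Good (fun i : {η : X // η ⤳ y ∧ η ≠ y ∧ Nontrivial (F.presheaf.stalk η)} => RingHom.ker (Cyc.specMap y i.1 i.2.1)) (F.presheaf.stalk y) := by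
    intro q hq
    obtain ⟨z, hz, hqz⟩ := exists_eq_ker_specMap y q.asIdeal q.2
    have hnt := (mem_support_iff_nontrivial F hz q hqz).mp hq
    by_cases hzy : z = y
    · left
      rw [hqz, ker_specMap_congr y z y hzy hz (specializes_refl y), ker_specMap_self]
    · right
      exact ⟨⟨z, hz, hzy, hnt⟩, hqz⟩
  have hmin : ∀ i : {η : X // η ⤳ y ∧ η ≠ y ∧ Nontrivial (F.presheaf.stalk η)}, RingHom.ker (Cyc.specMap y i.1 i.2.1) ∈ (Module.annihilator (X.presheaf.stalk y) (F.presheaf.stalk y)).minimalPrimes := by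
    intro i
    have hsupp : (⟨RingHom.ker (Cyc.specMap y i.1 i.2.1), hPprime i⟩ : PrimeSpectrum (X.presheaf.stalk y)) ∈ Module.support (X.presheaf.stalk y) (F.presheaf.stalk y) :=
      (mem_support_iff_nontrivial F i.2.1 ⟨_, hPprime i⟩ rfl).mpr i.2.2.2
    refine ⟨⟨hPprime i, Module.mem_support_iff_of_finite.mp hsupp⟩, ?_⟩
    rintro Q ⟨hQ, hQann⟩ hQle
    have hQs : (⟨Q, hQ⟩ : PrimeSpectrum (X.presheaf.stalk y)) ∈ Module.support (X.presheaf.stalk y) (F.presheaf.stalk y) :=
      Module.mem_support_iff_of_finite.mpr hQann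
    rcases hgood ⟨Q, hQ⟩ hQs with h | ⟨j, hj⟩
    · exfalso
      have h' : Q = IsLocalRing.maximalIdeal (X.presheaf.stalk y) := h
      rw [h'] at hQle
      exact hPm i (le_antisymm (IsLocalRing.le_maximalIdeal (hPprime i).ne_top) hQle)
    · have hj' : Q = RingHom.ker (Cyc.specMap y j.1 j.2.1) := hj
      rw [hj'] at hQle ⊢
      rw [hinc j i hQle]
  haveI : Finite {η : X // η ⤳ y ∧ η ≠ y ∧ Nontrivial (F.presheaf.stalk η)} := by
    haveI : Finite {p : Ideal (X.presheaf.stalk y) // p ∈ (Module.annihilator (X.presheaf.stalk y) (F.presheaf.stalk y)).minimalPrimes} :=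
      (Ideal.finite_minimalPrimes_of_isNoetherianRing (X.presheaf.stalk y) _).to_subtype
    exact Finite.of_injective
      (fun i : {η : X // η ⤳ y ∧ η ≠ y ∧ Nontrivial (F.presheaf.stalk η)} => (⟨RingHom.ker (Cyc.specMap y i.1 i.2.1), hmin i⟩ :
          {p : Ideal (X.presheaf.stalk y) // p ∈ (Module.annihilator (X.presheaf.stalk y) (F.presheaf.stalk y)).minimalPrimes}))
      (fun i j hij => hinc i j (le_of_eq (congrArg Subtype.val hij)))
  haveI : Fintype {η : X // η ⤳ y ∧ η ≠ y ∧ Nontrivial (F.presheaf.stalk η)} := Fintype.ofFinite _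
  have hcP : ∀ i : {η : X // η ⤳ y ∧ η ≠ y ∧ Nontrivial (F.presheaf.stalk η)}, c ∉ RingHom.ker (Cyc.specMap y i.1 i.2.1) := by
    intro i hmem
    have h1 := Module.associatedPrimes.minimalPrimes_annihilator_subset_associatedPrimes (X.presheaf.stalk y) (F.presheaf.stalk y)
      (hmin i)
    have h2 : c ∈ ⋃ P ∈ associatedPrimes (X.presheaf.stalk y) (F.presheaf.stalk y), (P : Set (X.presheaf.stalk y)) := Set.mem_biUnion h1 hmem
    rw [biUnion_associatedPrimes_eq_compl_regular (X.presheaf.stalk y) (F.presheaf.stalk y)] at h2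
    exact h2 hregc
  have hunit : ∀ i : {η : X // η ⤳ y ∧ η ≠ y ∧ Nontrivial (F.presheaf.stalk η)}, IsUnit (X.presheaf.stalkSpecializes i.2.1 c) := by
    intro i
    show IsUnit ((X.presheaf.stalkSpecializes i.2.1).hom c)
    apply IsLocalRing.notMem_maximalIdeal.mp
    intro hmem
    apply hcP i
    rw [RingHom.mem_ker]
    unfold Cyc.specMap
    rw [CommRingCat.hom_comp, RingHom.comp_apply]
    exact (IsLocalRing.residue_eq_zero_iff _).mpr hmem
  have hspecη : ∀ (η : X) (h : η ⤳ y), L.presheaf.germ ⊤ η trivial s =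
      X.presheaf.stalkSpecializes h c • L.presheaf.germ U η (h.mem_open U.2 hyU) e := by
    intro η h
    rw [← spec_germ L h ⊤ trivial s, hc0, spec_smul, spec_germ]
  have hterm : ∀ i : {η : X // η ⤳ y ∧ η ≠ y ∧ Nontrivial (F.presheaf.stalk η)},
      Cyc.secOrdAt L i.1 y i.2.1 (Cyc.gysinChoice L s w i.1) =
        ((Module.length (X.presheaf.stalk y) ((X.presheaf.stalk y) ⧸ (RingHom.ker (Cyc.specMap y i.1 i.2.1) ⊔ Ideal.span {c}))).toNat : ℤ) := by
    intro i
    have hu := hunit i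
    have hne : (Submodule.Quotient.mk ((L.presheaf.germ ⊤ i.1 trivial) s) :
        Cyc.secFibre L i.1) ≠ 0 := by
      rw [hspecη i.1 i.2.1]
      exact mk_ne_zero_of_isUnit hg i.1 (i.2.1.mem_open U.2 hyU) _ hu
    have hgy : Cyc.gysinChoice L s w i.1 =
        Submodule.Quotient.mk ((L.presheaf.germ ⊤ i.1 trivial) s) := by
      unfold Cyc.gysinChoice
      rw [if_pos hne]
    rw [hgy, hspecη i.1 i.2.1, secOrdAt_eq hg i.2.1 hyU _ hu]
    have hd : δ y + 1 = δ i.1 := by
      have := hgenδ i.1 i.2.1 i.2.2.1 i.2.2.2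
      omega
    have himm : ∀ z : X, i.1 ⤳ z → z ⤳ y → z = i.1 ∨ z = y :=
      fun z h1 h2 => immediate_of_delta hdimf hd z h1 h2
    have hdim1 := krullDimLE_one_locQuot y i.1 i.2.1 himm
    have hG : Cyc.specMap y i.1 i.2.1 c * Cyc.specMap y i.1 i.2.1 1 =
        Cyc.specMap y i.1 i.2.1 c := by
      rw [map_one, mul_one]
    have h1n : (1 : (X.presheaf.stalk y)) ∉ RingHom.ker (Cyc.specMap y i.1 i.2.1) := by
      rw [RingHom.mem_ker, map_one]
      exact one_ne_zero
    have hsub := ordAt_eq_sub y i.1 i.2.1 hdim1 c 1 (Cyc.specMap y i.1 i.2.1 c) hG (hcP i) h1n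
    have h0 : Module.length (X.presheaf.stalk y) ((X.presheaf.stalk y) ⧸
        (RingHom.ker (Cyc.specMap y i.1 i.2.1) ⊔ Ideal.span {(1 : (X.presheaf.stalk y))})) = 0 := by
      rw [Module.length_eq_zero_iff]
      exact Ideal.Quotient.subsingleton_iff.mpr
        (by rw [Ideal.span_singleton_one, sup_top_eq])
    rw [h0] at hsub
    simp only [ENat.toNat_zero, Nat.cast_zero, sub_zero] at hsub
    exact hsub
  have hsum : (∑ᶠ η : X, Cyc.sheafFun δ (k + 1) F η *
      Cyc.secDivFun δ L η (Cyc.gysinChoice L s w η) y) =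
      ∑ i : {η : X // η ⤳ y ∧ η ≠ y ∧ Nontrivial (F.presheaf.stalk η)},
        ((Module.length (X.presheaf.stalk i.1) (F.presheaf.stalk i.1)).toNat : ℤ) *
        ((Module.length (X.presheaf.stalk y) ((X.presheaf.stalk y) ⧸ (RingHom.ker (Cyc.specMap y i.1 i.2.1) ⊔ Ideal.span {c}))).toNat : ℤ) := by
    rw [← finsum_eq_sum_of_fintype]
    have hG : ∀ i : {η : X // η ⤳ y ∧ η ≠ y ∧ Nontrivial (F.presheaf.stalk η)},
        ((Module.length (X.presheaf.stalk i.1) (F.presheaf.stalk i.1)).toNat : ℤ) *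
        ((Module.length (X.presheaf.stalk y) ((X.presheaf.stalk y) ⧸ (RingHom.ker (Cyc.specMap y i.1 i.2.1) ⊔ Ideal.span {c}))).toNat : ℤ) = (fun η : X => Cyc.sheafFun δ (k + 1) F η * Cyc.secDivFun δ L η (Cyc.gysinChoice L s w η) y) i.1 := by
      intro i
      show _ = Cyc.sheafFun δ (k + 1) F i.1 *
          Cyc.secDivFun δ L i.1 (Cyc.gysinChoice L s w i.1) y
      have hi := hgenδ i.1 i.2.1 i.2.2.1 i.2.2.2
      have hsf : Cyc.sheafFun δ (k + 1) F i.1 =
          ((Module.length (X.presheaf.stalk i.1) (F.presheaf.stalk i.1)).toNat : ℤ) :=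
        if_pos hi
      rw [hsf]
      unfold Cyc.secDivFun
      rw [dif_pos ⟨i.2.1, by omega⟩, hterm i]
    rw [finsum_congr hG,
      finsum_subtype_eq_finsum_cond (f := (fun η : X => Cyc.sheafFun δ (k + 1) F η * Cyc.secDivFun δ L η (Cyc.gysinChoice L s w η) y))
        (fun η => η ⤳ y ∧ η ≠ y ∧ Nontrivial (F.presheaf.stalk η))]
    refine finsum_congr (fun η => ?_)
    rw [finsum_eq_if]
    split_ifs with h0
    · rfl
    · show Cyc.sheafFun δ (k + 1) F η *
        Cyc.secDivFun δ L η (Cyc.gysinChoice L s w η) y = 0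
      by_cases hc : η ⤳ y ∧ δ y + 1 = δ η
      · have hne : η ≠ y := by
          intro hηy
          have h2 := hc.2
          rw [hηy] at h2
          omega
        have hnn : ¬ Nontrivial (F.presheaf.stalk η) := fun hnt => h0 ⟨hc.1, hne, hnt⟩
        rw [not_nontrivial_iff_subsingleton] at hnn
        have h2 : Cyc.sheafFun δ (k + 1) F η = 0 := by
          unfold Cyc.sheafFun
          split_ifs
          · rw [Module.length_eq_zero_iff.mpr hnn]
            rfl
          · rfl
        rw [h2, zero_mul]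
      · have h2 : Cyc.secDivFun δ L η (Cyc.gysinChoice L s w η) y = 0 := by
          unfold Cyc.secDivFun
          rw [dif_neg hc]
        rw [h2, mul_zero]
  rw [hsum]
  have hform := formula (P := fun i : {η : X // η ⤳ y ∧ η ≠ y ∧ Nontrivial (F.presheaf.stalk η)} => RingHom.ker (Cyc.specMap y i.1 i.2.1)) hcm hinc hcP hPm (F.presheaf.stalk y) hgood
  have hK : Module.length (X.presheaf.stalk y) (Kt c (F.presheaf.stalk y)) = 0 := (length_Kt_eq_zero_iff c (F.presheaf.stalk y)).mpr hregc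
  have hCt : Module.length (X.presheaf.stalk y) (Ct c (F.presheaf.stalk y)) = Module.length (X.presheaf.stalk y) ((F.presheaf.stalk y) ⧸
      (Ideal.span {c} • (⊤ : Submodule (X.presheaf.stalk y) (F.presheaf.stalk y)))) :=
    (Submodule.quotEquivOfEq _ _ (range_lsmul_eq c (F.presheaf.stalk y))).length_eq
  have halg' : Module.length (X.presheaf.stalk y) ((F.presheaf.stalk y) ⧸ (Ideal.span {c} • (⊤ : Submodule (X.presheaf.stalk y) (F.presheaf.stalk y)))) =
      ∑ i : {η : X // η ⤳ y ∧ η ≠ y ∧ Nontrivial (F.presheaf.stalk η)},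
        Module.length (X.presheaf.stalk i.1) (F.presheaf.stalk i.1) *
          Module.length (X.presheaf.stalk y) ((X.presheaf.stalk y) ⧸ (RingHom.ker (Cyc.specMap y i.1 i.2.1) ⊔ Ideal.span {c})) := by
    rw [← hCt, hform, hK, zero_add]
    exact Finset.sum_congr rfl (fun i _ => by rw [lam_stalk_eq F i.2.1])
  have hfin1 : ∀ i : {η : X // η ⤳ y ∧ η ≠ y ∧ Nontrivial (F.presheaf.stalk η)},
      Module.length (X.presheaf.stalk i.1) (F.presheaf.stalk i.1) ≠ ⊤ := by
    intro i
    refine (CohStalk.length_stalk_lt_top F i.1 ?_).ne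
    intro z hnt hz
    by_contra hne
    have h1 := (hdimf z i.1 hz hne).1
    have h2 := hdim z hnt
    have h4 := hgenδ i.1 i.2.1 i.2.2.1 i.2.2.2
    omega
  have hfin2 : ∀ i : {η : X // η ⤳ y ∧ η ≠ y ∧ Nontrivial (F.presheaf.stalk η)}, Module.length (X.presheaf.stalk y) ((X.presheaf.stalk y) ⧸ (RingHom.ker (Cyc.specMap y i.1 i.2.1) ⊔ Ideal.span {c})) ≠ ⊤ := by
    intro i
    have hd : δ y + 1 = δ i.1 := by
      have := hgenδ i.1 i.2.1 i.2.2.1 i.2.2.2
      omega
    have himm : ∀ z : X, i.1 ⤳ z → z ⤳ y → z = i.1 ∨ z = y :=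
      fun z h1 h2 => immediate_of_delta hdimf hd z h1 h2
    exact NA_ne_top (RingHom.ker (Cyc.specMap y i.1 i.2.1)) (krullDimLE_one_locQuot y i.1 i.2.1 himm) (hcP i)
  have h5 : ∀ i : {η : X // η ⤳ y ∧ η ≠ y ∧ Nontrivial (F.presheaf.stalk η)}, ∃ n : ℕ,
      Module.length (X.presheaf.stalk i.1) (F.presheaf.stalk i.1) *
        Module.length (X.presheaf.stalk y) ((X.presheaf.stalk y) ⧸ (RingHom.ker (Cyc.specMap y i.1 i.2.1) ⊔ Ideal.span {c})) = (n : ℕ∞) :=
    fun i => ⟨_, (ENat.coe_toNat (WithTop.mul_ne_top (hfin1 i) (hfin2 i))).symm⟩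
  choose n hn using h5
  have h6 : Module.length (X.presheaf.stalk y) ((F.presheaf.stalk y) ⧸ (Ideal.span {c} • (⊤ : Submodule (X.presheaf.stalk y) (F.presheaf.stalk y)))) =
      ((∑ i, n i : ℕ) : ℕ∞) := by
    rw [halg', Nat.cast_sum]
    exact Finset.sum_congr rfl (fun i _ => hn i)
  rw [h6, ENat.toNat_coe, Nat.cast_sum]
  refine Finset.sum_congr rfl (fun i _ => ?_)
  have h7 := congrArg ENat.toNat (hn i)
  rw [ENat.toNat_mul, ENat.toNat_coe] at h7
  rw [← h7, Nat.cast_mul]

/-- Let (L, s, i : D → X) be an invertible module, a global section and its zero scheme, and F a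
coherent O_X-module with δ ≤ k + 1 on its support such that s : F → F ⊗ L is injective (at each
point, writing s = f·t on a generator t of L_x, multiplication by f is injective on F_x). Then
i^*[F]_{k+1} ∼_rat [i^*F]_k as k-cycles on D. Here i : D → X is the zero scheme of a global section
s of the invertible module L (Cyc.IsZeroSchemeOf), the Gysin map i^* : Z_{k+1}(X) → CH_k(D) is
computed on coefficient functions as c_1(L) ∩ − with the rational sections taken to be s where it is
nonzero (Cyc.gysinChoice) and restricted to the points of D, and classes on D are compared up to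
rational equivalence on D for the restricted dimension function. Here a pair (X, δ) satisfying
Cyc.IsSetup (X locally Noetherian with universally catenary local rings, δ a dimension function)
plays the role of a scheme locally of finite type over a fixed base equipped with a dimension
function. -/
theorem result (X D : Scheme.{u}) (δ : X → ℤ) (hX : Cyc.IsSetup X δ) (L : X.Modules) (hL : PicF.IsInvertible L) (s : L.presheaf.obj (Opposite.op ⊤)) (i : D ⟶ X) [IsClosedImmersion i] (hD : Cyc.IsZeroSchemeOf i L s) (k : ℤ) (F : X.Modules) (hF : Coh.IsCoh F) (hdim : ∀ x : X, Nontrivial (F.presheaf.stalk x) → δ x ≤ k + 1) (hreg : ∀ (x : X) (t : L.presheaf.stalk x) (f : X.presheaf.stalk x), Submodule.span (X.presheaf.stalk x) {t} = ⊤ → (L.presheaf.germ ⊤ x trivial) s = f • t → Function.Injective (fun m : F.presheaf.stalk x => f • m)) (w : (ξ : X) → Cyc.secFibre L ξ) (hw : ∀ ξ, w ξ ≠ 0) (γ : AlgebraicCycle D ℤ) (hγ : ∀ d, γ d = Cyc.c1CapFun δ L (Cyc.sheafFun δ (k + 1) F) (Cyc.gysinChoice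 L s w) (i d)) (ζ : AlgebraicCycle D ℤ) (hζ : ⇑ζ = Cyc.sheafFun (fun d => δ (i d)) k ((Scheme.Modules.pullback i).obj F)) : Cyc.RatEquiv (fun d => δ (i d)) k γ ζ := by
  classical
  obtain ⟨hLN, -, hdimf⟩ := hX
  haveI := hLN
  obtain ⟨hQC, hFT⟩ := hF
  haveI : F.IsQuasicoherent := hQC
  haveI : F.IsFiniteType := hFT
  show Cyc.RatEquivZero (fun d => δ (i d)) k (γ - ζ)
  apply ratEquivZero_of_forall_eq_zero
  intro d
  rw [Function.locallyFinsuppWithin.coe_sub, Pi.sub_apply, hγ d, hζ, sub_eq_zero]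
  by_cases hyk : δ (i d) = k
  swap
  · have hR : Cyc.sheafFun (fun d => δ (i d)) k ((Scheme.Modules.pullback i).obj F) d = 0 :=
      if_neg hyk
    rw [hR]
    show (∑ᶠ η : X, Cyc.sheafFun δ (k + 1) F η *
      Cyc.secDivFun δ L η (Cyc.gysinChoice L s w η) (i d)) = 0
    apply finsum_eq_zero_of_forall_eq_zero
    intro η
    by_cases hc : η ⤳ i d ∧ δ (i d) + 1 = δ η
    · have h2 : Cyc.sheafFun δ (k + 1) F η = 0 :=
        if_neg (fun h => hyk (by have := hc.2; omega))
      rw [h2, zero_mul]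
    · have h2 : Cyc.secDivFun δ L η (Cyc.gysinChoice L s w η) (i d) = 0 := by
        unfold Cyc.secDivFun
        rw [dif_neg hc]
      rw [h2, mul_zero]
  · obtain ⟨U, e, hyU, hg⟩ := exists_isGen hL (i d)
    obtain ⟨c, hc0⟩ := stalk_surj hg (i d) hyU (L.presheaf.germ ⊤ (i d) trivial s)
    obtain ⟨t', f', ht', hs', hker⟩ := hD.2 d
    obtain ⟨u, hu, htu⟩ := exists_unit_of_span hg (i d) hyU t' ht'
    have hfc : f' * u = c := by
      have h0 : (f' * u - c) • L.presheaf.germ U (i d) hyU e = 0 := by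
        rw [sub_smul, mul_smul, ← htu, ← hs', hc0, sub_self]
      exact sub_eq_zero.mp (stalk_inj hg (i d) hyU _ h0)
    have hkerc : RingHom.ker (i.stalkMap d).hom = Ideal.span {c} := by
      rw [hker, ← hfc]
      exact (Ideal.span_singleton_mul_right_unit hu _).symm
    have hcm : c ∈ IsLocalRing.maximalIdeal (X.presheaf.stalk (i d)) := by
      by_contra hnm
      have hcu : IsUnit c := by
        by_contra h
        exact hnm ((IsLocalRing.mem_maximalIdeal c).mpr h)
      have h1 : Ideal.span {c} = ⊤ := Ideal.span_singleton_eq_top.mpr hcu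
      have h2 : (1 : X.presheaf.stalk (i d)) ∈ RingHom.ker (i.stalkMap d).hom := by
        rw [hkerc, h1]
        trivial
      rw [RingHom.mem_ker, map_one] at h2
      exact one_ne_zero h2
    have hregc := hreg (i d) (L.presheaf.germ U (i d) hyU e) c
      (span_germ_eq_top hg (i d) hyU) hc0
    rw [c1Cap_sheafFun_eq δ hdimf hg s k F hdim w (i d) hyU hyk c hc0 hcm hregc]
    have hR : Cyc.sheafFun (fun d => δ (i d)) k ((Scheme.Modules.pullback i).obj F) d =
        ((Module.length (D.presheaf.stalk d)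
          (((Scheme.Modules.pullback i).obj F).presheaf.stalk d)).toNat : ℤ) := if_pos hyk
    rw [hR, length_pullback_stalk i F d c hkerc]

end Groth.Agent.S1942
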