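import Mathlib
import Groth.Statements.S19422
-- import your own Groth.Agent.* helpers here

set_option autoImplicit false
universe u
open TensorProduct LaurentPolynomial
open GIT

namespace Groth.Agent.S19422

section aux
variable (k : Type u) [Field k]
    (ι : Type u) [Fintype ι] [HopfRep.Comod k k[T;T⁻¹] (MvPolynomial ι k)] [GLin.IsCoactAlg k k[T;T⁻¹] (MvPolynomial ι k)]
    (r : ι → ℤ)
    (hr : ∀ i : ι, HopfRep.Comod.coact (k := k) (A := k[T;T⁻¹]) (MvPolynomial.X i : MvPolynomial ι k) =
      (MvPolynomial.X i : MvPolynomial ι k) ⊗ₜ[k] (T (r i) : k[T;T⁻¹]))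

/-- weight of a monomial -/
def wt (m : ι →₀ ℕ) : ℤ := m.sum fun i n => (n : ℤ) * r i

include hr in
theorem coact_monomial (m : ι →₀ ℕ) :
    HopfRep.Comod.coact (k := k) (A := k[T;T⁻¹]) (MvPolynomial.monomial m (1 : k) : MvPolynomial ι k) =
      (MvPolynomial.monomial m (1 : k) : MvPolynomial ι k) ⊗ₜ[k] (T (wt ι r m) : k[T;T⁻¹]) := by
  classical
  unfold wt
  rw [← GLin.coactAlgHom_apply]
  induction m using Finsupp.induction with
  | zero =>
    simp only [Finsupp.sum_zero_index]
    rw [show (MvPolynomial.monomial (0 : ι →₀ ℕ) (1 : k) : MvPolynomial ι k) = 1 from rfl, map_one]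
    rfl
  | single_add i n m hi hn ih =>
    have e : (MvPolynomial.monomial (Finsupp.single i n + m) (1 : k) : MvPolynomial ι k) =
        MvPolynomial.X i ^ n * MvPolynomial.monomial m 1 := by
      rw [MvPolynomial.X_pow_eq_monomial, MvPolynomial.monomial_mul, one_mul]
    rw [e, map_mul, map_pow, ih, GLin.coactAlgHom_apply, hr i, Algebra.TensorProduct.tmul_pow,
      Algebra.TensorProduct.tmul_mul_tmul]
    congr 1
    rw [Finsupp.sum_add_index' (by simp) (by intros; push_cast; ring), Finsupp.sum_single_index (by simp),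
      T_pow, T_add]

include hr in
theorem coact_eq (F : MvPolynomial ι k) :
    HopfRep.Comod.coact (k := k) (A := k[T;T⁻¹]) F =
      ∑ m ∈ F.support, F.coeff m • ((MvPolynomial.monomial m (1 : k) : MvPolynomial ι k) ⊗ₜ[k]
        (T (wt ι r m) : k[T;T⁻¹])) := by
  conv_lhs => rw [F.as_sum]
  rw [map_sum]
  refine Finset.sum_congr rfl fun m _ => ?_
  have : (MvPolynomial.monomial m (F.coeff m) : MvPolynomial ι k) =
      F.coeff m • MvPolynomial.monomial m (1 : k) := by
    rw [MvPolynomial.smul_monomial, smul_eq_mul, mul_one]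
  rw [this, map_smul, coact_monomial k ι r hr]

/-- extraction of the coefficient of a monomial -/
noncomputable def ext (m : ι →₀ ℕ) : MvPolynomial ι k ⊗[k] k[T;T⁻¹] →ₗ[k] k[T;T⁻¹] :=
  (TensorProduct.lid k k[T;T⁻¹]).toLinearMap ∘ₗ
    LinearMap.rTensor k[T;T⁻¹] (MvPolynomial.lcoeff k m)

theorem ext_tmul (m : ι →₀ ℕ) (p : MvPolynomial ι k) (a : k[T;T⁻¹]) :
    ext k ι m (p ⊗ₜ[k] a) = p.coeff m • a := by
  simp [ext]

include hr in
theorem wt_eq_zero_of_invariant (F : MvPolynomial ι k)
    (hF : F ∈ GLin.invariants k k[T;T⁻¹] (MvPolynomial ι k)) (m : ι →₀ ℕ) (hm : m ∈ F.support) :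
    wt ι r m = 0 := by
  classical
  rw [GLin.mem_invariants_iff, coact_eq k ι r hr] at hF
  have h := congrArg (ext k ι m) hF
  rw [map_sum, ext_tmul] at h
  have h2 : ∀ m' ∈ F.support, ext k ι m (F.coeff m' • ((MvPolynomial.monomial m' (1 : k) : MvPolynomial ι k) ⊗ₜ[k]
        (T (wt ι r m') : k[T;T⁻¹]))) = if m' = m then F.coeff m • (T (wt ι r m) : k[T;T⁻¹]) else 0 := by
    intro m' _
    rw [map_smul, ext_tmul, MvPolynomial.coeff_monomial]
    split_ifs with h'
    · subst h'; rw [one_smul]
    · rw [zero_smul, smul_zero]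
  rw [Finset.sum_congr rfl h2, Finset.sum_ite_eq' F.support m, if_pos hm] at h
  have hc : F.coeff m ≠ 0 := MvPolynomial.mem_support_iff.mp hm
  have h3 : (T (wt ι r m) : k[T;T⁻¹]) = 1 := by
    have := congrArg (fun x => (F.coeff m)⁻¹ • x) h
    simpa [smul_smul, inv_mul_cancel₀ hc] using this
  rw [← T_zero] at h3
  unfold T at h3
  exact (AddMonoidAlgebra.single_left_inj one_ne_zero).mp h3

end aux

/-- Over an algebraically closed field k, let the multiplicative group, whose coordinate Hopf algebra is
the Laurent polynomial ring, act diagonally on affine ι-space, ι finite: the coaction on the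
polynomial ring is multiplicative and sends the coordinate function X_i to X_i ⊗ T^(r_i) for
integers r_i. Then a vector v is semistable (some invariant homogeneous polynomial of positive
degree does not vanish at v) if and only if there are indices i and j, possibly equal, with v_i ≠ 0,
v_j ≠ 0 and r_i ≤ 0 ≤ r_j, i.e. the origin lies in the convex hull of the weights of v. (Stated for
the ambient projective space on its affine cone; the published statement is for a point of a closed
invariant subvariety, whose semistability is that of the point in the ambient space.) -/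
theorem result (k : Type u) [Field k] [IsAlgClosed k]
    (ι : Type u) [Fintype ι] [HopfRep.Comod k k[T;T⁻¹] (MvPolynomial ι k)] [GLin.IsCoactAlg k k[T;T⁻¹] (MvPolynomial ι k)]
    (r : ι → ℤ)
    (hr : ∀ i : ι, HopfRep.Comod.coact (k := k) (A := k[T;T⁻¹]) (MvPolynomial.X i : MvPolynomial ι k) =
      (MvPolynomial.X i : MvPolynomial ι k) ⊗ₜ[k] (T (r i) : k[T;T⁻¹]))
    (v : ι → k) :
    GLin.IsSemistableVec k k[T;T⁻¹] v ↔ ∃ i j : ι, v i ≠ 0 ∧ v j ≠ 0 ∧ r i ≤ 0 ∧ 0 ≤ r j := by
  classical
  constructor
  · intro hss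
    unfold GLin.IsSemistableVec GLin.IsNullform at hss
    push Not at hss
    obtain ⟨F, hF, d, hd, hhom, hev⟩ := hss
    rw [MvPolynomial.eval_eq'] at hev
    obtain ⟨m, hm, hmne⟩ := Finset.exists_ne_zero_of_sum_ne_zero hev
    have hprod : ∏ i, v i ^ m i ≠ 0 := right_ne_zero_of_mul hmne
    have hvi : ∀ i, m i ≠ 0 → v i ≠ 0 := by
      intro i hi hv
      apply hprod
      apply Finset.prod_eq_zero (Finset.mem_univ i)
      rw [hv, zero_pow hi]
    have hwt : wt ι r m = 0 := wt_eq_zero_of_invariant k ι r hr F hF m hm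
    have hm0 : m ≠ 0 := by
      intro h0
      have := hhom (MvPolynomial.mem_support_iff.mp hm)
      rw [h0] at this
      simp at this
      omega
    have hsupp : m.support.Nonempty := Finsupp.support_nonempty_iff.mpr hm0
    unfold wt at hwt
    rw [Finsupp.sum] at hwt
    have h1 : ∃ i ∈ m.support, r i ≤ 0 := by
      by_contra hcon
      push Not at hcon
      have : 0 < ∑ i ∈ m.support, (m i : ℤ) * r i := by
        apply Finset.sum_pos
        · intro i hi
          have : 0 < m i := Nat.pos_of_ne_zero (Finsupp.mem_support_iff.mp hi)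
          have := hcon i hi
          positivity
        · exact hsupp
      omega
    have h2 : ∃ j ∈ m.support, 0 ≤ r j := by
      by_contra hcon
      push Not at hcon
      have : ∑ i ∈ m.support, (m i : ℤ) * r i < 0 := by
        apply Finset.sum_neg
        · intro i hi
          have h3 : 0 < m i := Nat.pos_of_ne_zero (Finsupp.mem_support_iff.mp hi)
          have h4 := hcon i hi
          have h5 : (0 : ℤ) < (m i : ℤ) := by exact_mod_cast h3
          exact mul_neg_of_pos_of_neg h5 h4
        · exact hsupp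
      omega
    obtain ⟨i, hi, hri⟩ := h1
    obtain ⟨j, hj, hrj⟩ := h2
    exact ⟨i, j, hvi i (Finsupp.mem_support_iff.mp hi), hvi j (Finsupp.mem_support_iff.mp hj), hri, hrj⟩
  · rintro ⟨i, j, hvi, hvj, hri, hrj⟩
    unfold GLin.IsSemistableVec GLin.IsNullform
    push Not
    -- choose exponents
    obtain ⟨a, b, hab, hw⟩ : ∃ a b : ℕ, 0 < a + b ∧ (a : ℤ) * r i + (b : ℤ) * r j = 0 := by
      rcases hri.eq_or_lt with h0 | hneg
      · exact ⟨1, 0, by norm_num, by rw [h0]; simp⟩
      · refine ⟨(r j).toNat, (-r i).toNat, ?_, ?_⟩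
        · have : 0 < (-r i).toNat := by omega
          omega
        · rw [Int.toNat_of_nonneg hrj, Int.toNat_of_nonneg (by omega)]
          ring
    set m : ι →₀ ℕ := Finsupp.single i a + Finsupp.single j b with hmdef
    have hwt : wt ι r m = 0 := by
      unfold wt
      rw [hmdef, Finsupp.sum_add_index' (by simp) (by intros; push_cast; ring),
        Finsupp.sum_single_index (by simp), Finsupp.sum_single_index (by simp)]
      exact hw
    refine ⟨MvPolynomial.monomial m 1, ?_, a + b, hab, ?_, ?_⟩
    · rw [GLin.mem_invariants_iff, coact_monomial k ι r hr, hwt, T_zero]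
    · apply MvPolynomial.isHomogeneous_monomial
      rw [hmdef, map_add, Finsupp.degree_single, Finsupp.degree_single]
    · rw [MvPolynomial.eval_monomial, one_mul, hmdef, Finsupp.prod_add_index' (by simp) (by intros; rw [pow_add]),
        Finsupp.prod_single_index (by simp), Finsupp.prod_single_index (by simp)]
      exact mul_ne_zero (pow_ne_zero _ hvi) (pow_ne_zero _ hvj)

end Groth.Agent.S19422
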