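import Groth.Statements.S19425
import Mathlib

set_option autoImplicit false
universe u
open CategoryTheory MonoidalCategory CartesianMonoidalCategory MonObj AlgebraicGeometry Topology
open NRQuot

namespace Groth.Agent.S19425


open Limits

theorem appLE_hom_congr {A B : Scheme.{u}} {f g : A ⟶ B} (h : f = g) (U : B.Opens) (V : A.Opens)
    (e : V ≤ f ⁻¹ᵁ U) : f.appLE U V e = g.appLE U V (h ▸ e) := by
  subst h; rfl

section
variable {k : Type u} [Field k] {G X Y : Over (Spec (CommRingCat.of k))} [GrpObj G]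
  (a : AlgGrp.Action G X) (φ : X ⟶ Y) (U : Y.left.Opens)
  (aU : AlgGrp.Action G (Over.mk ((φ.left ⁻¹ᵁ U).ι ≫ X.hom)))
  (jU : Over.mk ((φ.left ⁻¹ᵁ U).ι ≫ X.hom) ⟶ X) (hjU : jU.left = (φ.left ⁻¹ᵁ U).ι)
  (haU : aU.act ≫ jU = (G ◁ jU) ≫ a.act)

include hjU haU in
theorem F1 : aU.act.left ≫ (φ.left ⁻¹ᵁ U).ι = (G ◁ jU).left ≫ a.act.left := by
  have := congrArg CommaMorphism.left haU
  simpa only [Over.comp_left, hjU] using this

include hjU in
theorem F2 : (snd G (Over.mk ((φ.left ⁻¹ᵁ U).ι ≫ X.hom))).left ≫ (φ.left ⁻¹ᵁ U).ι =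
    (G ◁ jU).left ≫ (snd G X).left := by
  have := congrArg CommaMorphism.left (whiskerLeft_snd G jU)
  simp only [Over.comp_left, hjU] at this
  exact this.symm

include hjU in
theorem isOpenImmersion_whisker : IsOpenImmersion (G ◁ jU).left := by
  haveI : IsOpenImmersion jU.left := by rw [hjU]; infer_instance
  rw [Over.whiskerLeft_left]; infer_instance

include hjU in
theorem exists_preimage_whisker (b : ↥(G ⊗ X).left)
    (hb : (snd G X).left.base b ∈ Set.range (φ.left ⁻¹ᵁ U).ι.base) :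
    ∃ b' : ↥(G ⊗ Over.mk ((φ.left ⁻¹ᵁ U).ι ≫ X.hom)).left, (G ◁ jU).left.base b' = b := by
  have hmem : b ∈ Set.range (G ◁ jU).left := by
    rw [Over.whiskerLeft_left, Scheme.Pullback.range_map]
    refine ⟨⟨pullback.fst G.hom X.hom b, by simp⟩, ?_⟩
    rw [hjU]
    exact hb
  obtain ⟨b', hb'⟩ := hmem
  exact ⟨b', hb'⟩

include hjU haU in
theorem closure_props (hopen : IsOpenMap (snd G X).left.base)
    (Wc : Set ↥(Over.mk ((φ.left ⁻¹ᵁ U).ι ≫ X.hom)).left) (hWc : IsClosed Wc)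
    (hinv : NRQuot.IsInvariantSet aU Wc) :
    NRQuot.IsInvariantSet a (closure ((φ.left ⁻¹ᵁ U).ι.base '' Wc)) ∧
    ∀ z ∈ closure ((φ.left ⁻¹ᵁ U).ι.base '' Wc), φ.left.base z ∈ U →
      ∃ w ∈ Wc, (φ.left ⁻¹ᵁ U).ι.base w = z := by
  have hF1 := F1 a φ U aU jU hjU haU
  have hF2 := F2 (G := G) φ U jU hjU
  constructor
  · intro p hp
    have h1 : p ∈ closure ((snd G X).left.base ⁻¹' ((φ.left ⁻¹ᵁ U).ι.base '' Wc)) := by
      rw [← hopen.preimage_closure_eq_closure_preimage (Scheme.Hom.continuous _)]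
      exact hp
    have h2 : a.act.left.base '' ((snd G X).left.base ⁻¹' ((φ.left ⁻¹ᵁ U).ι.base '' Wc)) ⊆
        (φ.left ⁻¹ᵁ U).ι.base '' Wc := by
      rintro _ ⟨b, ⟨w, hw, hwb⟩, rfl⟩
      obtain ⟨b', rfl⟩ := exists_preimage_whisker φ U jU hjU b ⟨w, hwb⟩
      have e2 : (φ.left ⁻¹ᵁ U).ι.base ((snd G _).left.base b') = (φ.left ⁻¹ᵁ U).ι.base w := by
        rw [hwb]; exact congrArg (fun f => f.base b') hF2
      have e3 : (snd G _).left.base b' = w := (φ.left ⁻¹ᵁ U).ι.isOpenEmbedding.injective e2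
      have e4 : aU.act.left.base b' ∈ Wc := hinv b' (e3 ▸ hw)
      exact ⟨_, e4, congrArg (fun f => f.base b') hF1⟩
    exact closure_mono h2
      (image_closure_subset_closure_image (Scheme.Hom.continuous a.act.left) ⟨p, h1, rfl⟩)
  · intro z hz hzU
    have hzr : z ∈ Set.range (φ.left ⁻¹ᵁ U).ι.base := by
      rw [show Set.range (φ.left ⁻¹ᵁ U).ι.base = ((φ.left ⁻¹ᵁ U : X.left.Opens) : Set X.left) from
        Scheme.Opens.range_ι _]
      exact hzU
    obtain ⟨w, rfl⟩ := hzr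
    refine ⟨w, ?_, rfl⟩
    have := (φ.left ⁻¹ᵁ U).ι.isOpenEmbedding.isInducing.closure_eq_preimage_closure_image Wc
    rw [hWc.closure_eq] at this
    rw [this]; exact hz

end


/-- Let k be an algebraically closed field, G an affine group scheme of finite type over k acting on a
k-scheme X locally of finite type, φ : X → Y a good quotient (affine and invariant, functions on
every open of Y are exactly the invariant functions on its preimage, invariant closed subsets have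
closed images, and images commute with intersections of families of invariant closed subsets), and U
an open subset of Y. Equip the open subscheme φ⁻¹(U) of X with the restricted action, given here as
an action compatible with the inclusion into X, and let φ_U : φ⁻¹(U) → U be the restriction of φ.
Then φ_U is a good quotient for the restricted action. -/
theorem result
    (k : Type u) [Field k] [IsAlgClosed k]
    (G X Y : Over (Spec (CommRingCat.of k))) [GrpObj G] [IsAffine G.left] [LocallyOfFiniteType G.hom]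
    [LocallyOfFiniteType X.hom]
    (a : AlgGrp.Action G X) (φ : X ⟶ Y) (h : NRQuot.IsGoodQuot a φ)
    (U : Y.left.Opens)
    (aU : AlgGrp.Action G (Over.mk ((φ.left ⁻¹ᵁ U).ι ≫ X.hom)))
    (jU : Over.mk ((φ.left ⁻¹ᵁ U).ι ≫ X.hom) ⟶ X) (hjU : jU.left = (φ.left ⁻¹ᵁ U).ι)
    (haU : aU.act ≫ jU = (G ◁ jU) ≫ a.act)
    (φU : Over.mk ((φ.left ⁻¹ᵁ U).ι ≫ X.hom) ⟶ Over.mk (U.ι ≫ Y.hom))
    (hφU : φU.left ≫ U.ι = (φ.left ⁻¹ᵁ U).ι ≫ φ.left) :
    NRQuot.IsGoodQuot aU φU := by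
  classical
  have hF1 := F1 a φ U aU jU hjU haU
  have hF2 := F2 (G := G) φ U jU hjU
  haveI := isOpenImmersion_whisker (G := G) φ U jU hjU
  have hopen : IsOpenMap (snd G X).left.base := by
    haveI : LocallyOfFinitePresentation G.hom :=
      LocallyOfFinitePresentation.iff_locallyOfFiniteType.2 inferInstance
    haveI : Flat G.hom := inferInstance
    haveI : UniversallyOpen G.hom := inferInstance
    show IsOpenMap (Limits.pullback.snd G.hom X.hom).base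
    exact (Limits.pullback.snd G.hom X.hom).isOpenMap
  have hUmem : ∀ y : ↥(Over.mk (U.ι ≫ Y.hom)).left, U.ι.base y ∈ U := by
    intro y
    have := Set.mem_range_self (f := U.ι.base) y
    rwa [show Set.range U.ι.base = ((U : Y.left.Opens) : Set Y.left) from Scheme.Opens.range_ι U] at this
  have hφUeq : φU.left = φ.left ∣_ U := by
    rw [← cancel_mono U.ι, hφU, morphismRestrict_ι]
  refine ⟨?_, ?_, ?_, ?_, ?_⟩
  · rw [hφUeq]
    exact IsZariskiLocalAtTarget.restrict h.affine U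
  · let jY : Over.mk (U.ι ≫ Y.hom) ⟶ Y := Over.homMk U.ι rfl
    haveI : Mono jY := by
      haveI : Mono jY.left := by show Mono U.ι; infer_instance
      exact Over.mono_of_mono_left jY
    have hsq : φU ≫ jY = jU ≫ φ := by
      apply Over.OverMorphism.ext
      simp only [Over.comp_left, jY, Over.homMk_left, hjU]
      exact hφU
    have hinv : a.act ≫ φ = snd G X ≫ φ := h.inv
    show aU.act ≫ φU = snd G _ ≫ φU
    rw [← cancel_mono jY, Category.assoc, Category.assoc, hsq, ← Category.assoc, haU, Category.assoc,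
      hinv, ← Category.assoc, whiskerLeft_snd, Category.assoc]
  · intro V
    obtain ⟨V', hV'⟩ : ∃ V' : Y.left.Opens, V' = U.ι ''ᵁ V := ⟨_, rfl⟩
    have hV'U : V' ≤ U := hV' ▸ U.ι_image_le V
    have hVpre : U.ι ⁻¹ᵁ V' = V := by rw [hV']; exact U.ι.preimage_image_eq V
    have hWeq : φU.left ⁻¹ᵁ V = (φ.left ⁻¹ᵁ U).ι ⁻¹ᵁ (φ.left ⁻¹ᵁ V') := by
      calc φU.left ⁻¹ᵁ V = φU.left ⁻¹ᵁ (U.ι ⁻¹ᵁ V') := by rw [hVpre]
        _ = (φU.left ≫ U.ι) ⁻¹ᵁ V' := rfl
        _ = ((φ.left ⁻¹ᵁ U).ι ≫ φ.left) ⁻¹ᵁ V' := by rw [hφU]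
        _ = _ := rfl
    have hOU : φ.left ⁻¹ᵁ V' ≤ φ.left ⁻¹ᵁ U := fun x hx => hV'U hx
    have eα : V ≤ U.ι ⁻¹ᵁ V' := hVpre.ge
    haveI hαiso : IsIso (U.ι.appLE V' V eα) := by
      subst hV'
      rw [← Scheme.Hom.appIso_hom']
      infer_instance
    have eβ : φU.left ⁻¹ᵁ V ≤ (φ.left ⁻¹ᵁ U).ι ⁻¹ᵁ (φ.left ⁻¹ᵁ V') := hWeq.le
    have hOimg : (φ.left ⁻¹ᵁ U).ι ''ᵁ (φU.left ⁻¹ᵁ V) = φ.left ⁻¹ᵁ V' := by
      rw [hWeq, Scheme.Hom.image_preimage_eq_opensRange_inf, Scheme.Opens.opensRange_ι]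
      exact inf_eq_right.2 hOU
    haveI hβiso : IsIso ((φ.left ⁻¹ᵁ U).ι.appLE (φ.left ⁻¹ᵁ V') (φU.left ⁻¹ᵁ V) eβ) := by
      rw [Scheme.Hom.appLE_congr _ eβ hOimg.symm rfl (fun f => IsIso f), ← Scheme.Hom.appIso_hom']
      infer_instance
    have hC1 : U.ι.appLE V' V eα ≫ φU.left.app V =
        φ.left.app V' ≫ (φ.left ⁻¹ᵁ U).ι.appLE (φ.left ⁻¹ᵁ V') (φU.left ⁻¹ᵁ V) eβ := by
      rw [Scheme.Hom.app_eq_appLE, Scheme.Hom.app_eq_appLE, Scheme.Hom.appLE_comp_appLE,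
        Scheme.Hom.appLE_comp_appLE]
      exact appLE_hom_congr hφU _ _ _
    have hQU : aU.act.left ⁻¹ᵁ (φU.left ⁻¹ᵁ V) ⊓ (snd G _).left ⁻¹ᵁ (φU.left ⁻¹ᵁ V) =
        (G ◁ jU).left ⁻¹ᵁ (a.act.left ⁻¹ᵁ (φ.left ⁻¹ᵁ V') ⊓ (snd G X).left ⁻¹ᵁ (φ.left ⁻¹ᵁ V')) := by
      have e1 : aU.act.left ⁻¹ᵁ (φU.left ⁻¹ᵁ V) =
          (G ◁ jU).left ⁻¹ᵁ (a.act.left ⁻¹ᵁ (φ.left ⁻¹ᵁ V')) := by
        calc aU.act.left ⁻¹ᵁ (φU.left ⁻¹ᵁ V)
            = (aU.act.left ≫ (φ.left ⁻¹ᵁ U).ι) ⁻¹ᵁ (φ.left ⁻¹ᵁ V') := by rw [hWeq]; rfl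
          _ = ((G ◁ jU).left ≫ a.act.left) ⁻¹ᵁ (φ.left ⁻¹ᵁ V') := by rw [hF1]
          _ = _ := rfl
      have e2 : (snd G _).left ⁻¹ᵁ (φU.left ⁻¹ᵁ V) =
          (G ◁ jU).left ⁻¹ᵁ ((snd G X).left ⁻¹ᵁ (φ.left ⁻¹ᵁ V')) := by
        calc (snd G _).left ⁻¹ᵁ (φU.left ⁻¹ᵁ V)
            = ((snd G _).left ≫ (φ.left ⁻¹ᵁ U).ι) ⁻¹ᵁ (φ.left ⁻¹ᵁ V') := by rw [hWeq]; rfl
          _ = ((G ◁ jU).left ≫ (snd G X).left) ⁻¹ᵁ (φ.left ⁻¹ᵁ V') := by rw [hF2]
          _ = _ := rfl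
      rw [e1, e2]; rfl
    have hQrange : a.act.left ⁻¹ᵁ (φ.left ⁻¹ᵁ V') ⊓ (snd G X).left ⁻¹ᵁ (φ.left ⁻¹ᵁ V') ≤
        (G ◁ jU).left.opensRange := by
      rintro b ⟨-, hb⟩
      obtain ⟨b', hb'⟩ := exists_preimage_whisker (G := G) φ U jU hjU b (by
        rw [show Set.range (φ.left ⁻¹ᵁ U).ι.base = ((φ.left ⁻¹ᵁ U : X.left.Opens) : Set X.left) from
          Scheme.Opens.range_ι _]
        exact hOU hb)
      exact ⟨b', hb'⟩
    have eγ := hQU.le
    have hQimg : (G ◁ jU).left ''ᵁ (aU.act.left ⁻¹ᵁ (φU.left ⁻¹ᵁ V) ⊓ (snd G _).left ⁻¹ᵁ (φU.left ⁻¹ᵁ V)) =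
        a.act.left ⁻¹ᵁ (φ.left ⁻¹ᵁ V') ⊓ (snd G X).left ⁻¹ᵁ (φ.left ⁻¹ᵁ V') := by
      rw [hQU, Scheme.Hom.image_preimage_eq_opensRange_inf]
      exact inf_eq_right.2 hQrange
    haveI hγiso : IsIso ((G ◁ jU).left.appLE _ _ eγ) := by
      rw [Scheme.Hom.appLE_congr _ eγ hQimg.symm rfl (fun f => IsIso f), ← Scheme.Hom.appIso_hom']
      infer_instance
    have hI1 : (φ.left ⁻¹ᵁ U).ι.appLE (φ.left ⁻¹ᵁ V') (φU.left ⁻¹ᵁ V) eβ ≫
          aU.act.left.appLE (φU.left ⁻¹ᵁ V) _ inf_le_left =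
        a.act.left.appLE (φ.left ⁻¹ᵁ V') _ inf_le_left ≫ (G ◁ jU).left.appLE _ _ eγ := by
      rw [Scheme.Hom.appLE_comp_appLE, Scheme.Hom.appLE_comp_appLE]
      exact appLE_hom_congr hF1 _ _ _
    have hI2 : (φ.left ⁻¹ᵁ U).ι.appLE (φ.left ⁻¹ᵁ V') (φU.left ⁻¹ᵁ V) eβ ≫
          (snd G _).left.appLE (φU.left ⁻¹ᵁ V) _ inf_le_right =
        (snd G X).left.appLE (φ.left ⁻¹ᵁ V') _ inf_le_right ≫ (G ◁ jU).left.appLE _ _ eγ := by
      rw [Scheme.Hom.appLE_comp_appLE, Scheme.Hom.appLE_comp_appLE]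
      exact appLE_hom_congr hF2 _ _ _
    have hC2 : ∀ f' : Γ(X.left, φ.left ⁻¹ᵁ V'),
        GIT.IsInvSection aU φU V (((φ.left ⁻¹ᵁ U).ι.appLE (φ.left ⁻¹ᵁ V') (φU.left ⁻¹ᵁ V) eβ) f') ↔
          GIT.IsInvSection a φ V' f' := by
      intro f'
      have h1 := ConcreteCategory.congr_hom hI1 f'
      have h2 := ConcreteCategory.congr_hom hI2 f'
      rw [CategoryTheory.comp_apply, CategoryTheory.comp_apply] at h1 h2
      unfold GIT.IsInvSection
      rw [h1, h2]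
      exact (ConcreteCategory.bijective_of_isIso _).1.eq_iff
    have hαbij := ConcreteCategory.bijective_of_isIso (U.ι.appLE V' V eα)
    have hβbij := ConcreteCategory.bijective_of_isIso
      ((φ.left ⁻¹ᵁ U).ι.appLE (φ.left ⁻¹ᵁ V') (φU.left ⁻¹ᵁ V) eβ)
    have hC1' : ∀ g', (φU.left.app V) ((U.ι.appLE V' V eα) g') =
        ((φ.left ⁻¹ᵁ U).ι.appLE (φ.left ⁻¹ᵁ V') (φU.left ⁻¹ᵁ V) eβ) ((φ.left.app V') g') := by
      intro g'
      have := ConcreteCategory.congr_hom hC1 g'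
      rwa [CategoryTheory.comp_apply, CategoryTheory.comp_apply] at this
    obtain ⟨hinj, hrng⟩ := h.sections V'
    constructor
    · intro g₁ g₂ hg
      obtain ⟨g₁', rfl⟩ := hαbij.2 g₁
      obtain ⟨g₂', rfl⟩ := hαbij.2 g₂
      rw [hC1', hC1'] at hg
      rw [hinj (hβbij.1 hg)]
    · ext f
      constructor
      · rintro ⟨g, rfl⟩
        obtain ⟨g', rfl⟩ := hαbij.2 g
        show GIT.IsInvSection aU φU V _
        rw [hC1']
        refine (hC2 _).2 ?_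
        have : (φ.left.app V') g' ∈ Set.range (φ.left.app V') := ⟨g', rfl⟩
        rw [hrng] at this
        exact this
      · intro hf
        obtain ⟨f', rfl⟩ := hβbij.2 f
        have h3 : GIT.IsInvSection a φ V' f' := (hC2 f').1 hf
        have : f' ∈ Set.range (φ.left.app V') := by rw [hrng]; exact h3
        obtain ⟨g', rfl⟩ := this
        exact ⟨(U.ι.appLE V' V eα) g', hC1' g'⟩
  · intro Wc hWc hinvW
    obtain ⟨hZinv, hZmem⟩ := closure_props a φ U aU jU hjU haU hopen Wc hWc hinvW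
    have hcl := h.closed _ isClosed_closure hZinv
    have : φU.left.base '' Wc =
        U.ι.base ⁻¹' (φ.left.base '' closure ((φ.left ⁻¹ᵁ U).ι.base '' Wc)) := by
      ext y
      constructor
      · rintro ⟨w, hw, rfl⟩
        refine ⟨(φ.left ⁻¹ᵁ U).ι.base w, subset_closure ⟨w, hw, rfl⟩, ?_⟩
        exact (congrArg (fun f => f.base w) hφU).symm
      · rintro ⟨z, hz, hzy⟩
        have hzU : φ.left.base z ∈ U := by rw [hzy]; exact hUmem y
        obtain ⟨w, hw, rfl⟩ := hZmem z hz hzU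
        refine ⟨w, hw, ?_⟩
        apply U.ι.isOpenEmbedding.injective
        rw [← hzy]; exact congrArg (fun f => f.base w) hφU
    rw [this]
    exact hcl.preimage (Scheme.Hom.continuous U.ι)
  · intro J Wc hWc hinvW
    apply subset_antisymm
    · exact Set.image_iInter_subset _ _
    · intro y hy
      have hy' : ∀ i, y ∈ φU.left.base '' Wc i := Set.mem_iInter.1 hy
      have hP := fun i => closure_props a φ U aU jU hjU haU hopen (Wc i) (hWc i) (hinvW i)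
      have hint := h.inter J (fun i => closure ((φ.left ⁻¹ᵁ U).ι.base '' Wc i))
        (fun i => isClosed_closure) (fun i => (hP i).1)
      have hyI : U.ι.base y ∈ ⋂ i, φ.left.base '' closure ((φ.left ⁻¹ᵁ U).ι.base '' Wc i) := by
        refine Set.mem_iInter.2 fun i => ?_
        obtain ⟨w, hw, hwy⟩ := hy' i
        refine ⟨(φ.left ⁻¹ᵁ U).ι.base w, subset_closure ⟨w, hw, rfl⟩, ?_⟩
        rw [← hwy]; exact (congrArg (fun f => f.base w) hφU).symm
      rw [← hint] at hyI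
      obtain ⟨z, hz, hzy⟩ := hyI
      have hzU : φ.left.base z ∈ U := by rw [hzy]; exact hUmem y
      have hzr : z ∈ Set.range (φ.left ⁻¹ᵁ U).ι.base := by
        rw [show Set.range (φ.left ⁻¹ᵁ U).ι.base = ((φ.left ⁻¹ᵁ U : X.left.Opens) : Set X.left) from
          Scheme.Opens.range_ι _]
        exact hzU
      obtain ⟨w, rfl⟩ := hzr
      refine ⟨w, Set.mem_iInter.2 fun i => ?_, ?_⟩
      · obtain ⟨w', hw', hww'⟩ := (hP i).2 _ (Set.mem_iInter.1 hz i) hzU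
        have : w' = w := (φ.left ⁻¹ᵁ U).ι.isOpenEmbedding.injective hww'
        exact this ▸ hw'
      · apply U.ι.isOpenEmbedding.injective
        rw [← hzy]; exact congrArg (fun f => f.base w) hφU

end Groth.Agent.S19425
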