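import Groth.Statements.S19427
import Groth.Agent.Lib.Helper29.MilnorK2

set_option autoImplicit false
universe u
open MilnorK

namespace Groth.Agent.S19427

open Groth.Agent.Lib.Helper29.MilnorK2

/-- For a field F and nonzero b, c with b + c ≠ 0, in the Milnor K-group K_2(F) one has {b, c} + {b + c,
-b/c} = 0, that is {b, c} = -{b + c, -b/c} = {b + c, -c/b}. (The identity as displayed in the source
is {b, c} = {b + c, -b/c}, which differs from this by a sign and fails in general: for b = 3, c = 5
over the rationals the tame symbol at 5 takes the values 3 and 1/3 on the two sides; the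
accompanying derivation from the Steinberg relation b/(b+c) + c/(b+c) = 1 gives exactly the identity
stated here.) -/
theorem result (F : Type u) [Field F] (b c : Fˣ)
    (h : (b : F) + (c : F) ≠ 0) :
    (MilK.symbol ![b, c] : MilK.K F 2) + MilK.symbol ![Units.mk0 ((b : F) + (c : F)) h, -(b / c)] = 0 := by
  set s : Fˣ := Units.mk0 ((b : F) + (c : F)) h with hs
  -- Steinberg relation for b/s + c/s = 1
  have hst : (MilK.symbol ![b / s, c / s] : MilK.K F 2) = 0 := by
    apply sym_steinberg
    simp only [Units.val_div_eq_div_val, hs, Units.val_mk0]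
    field_simp
  rw [sym_div_left, sym_div_right, sym_div_right] at hst
  -- expand the second symbol
  have e : -(b / c) = (-1) * b / c := by rw [neg_one_mul, neg_div]
  have h2 : (MilK.symbol ![s, -(b / c)] : MilK.K F 2) =
      MilK.symbol ![s, -1] + MilK.symbol ![s, b] - MilK.symbol ![s, c] := by
    rw [e, sym_div_right, sym_mul_right]
  have h3 := sym_anticomm s b
  have h4 := sym_self s
  rw [h2, ← h4]
  -- hst : {b,c} - {b,s} - ({s,c} - {s,s}) = 0
  have h5 : (MilK.symbol ![s, b] : MilK.K F 2) = -MilK.symbol ![b, s] :=
    eq_neg_of_add_eq_zero_left h3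
  rw [h5]
  have : (MilK.symbol ![b, c] : MilK.K F 2) + (MilK.symbol ![s, s] + -MilK.symbol ![b, s] - MilK.symbol ![s, c])
      = MilK.symbol ![b, c] - MilK.symbol ![b, s] - (MilK.symbol ![s, c] - MilK.symbol ![s, s]) := by
    abel
  rw [this, hst]

end Groth.Agent.S19427
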