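import Mathlib
import Groth.Statements.S19436
-- import your own Groth.Agent.* helpers here

set_option autoImplicit false
universe u
open CAlg

namespace Groth.Agent.S19436

/-- For a Noetherian local commutative algebra R over a field k, with maximal ideal M, and an ideal I of
R whose quotient R/I is finite-dimensional over k of dimension n, the power M^n lies in I. -/
theorem result (k : Type u) [Field k] (R : Type u) [CommRing R]
    [Algebra k R] [IsNoetherianRing R] [IsLocalRing R] (I : Ideal R) [Module.Finite k (R ⧸ I)] (n : ℕ)
    (hn : Module.finrank k (R ⧸ I) = n) : IsLocalRing.maximalIdeal R ^ n ≤ I := by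
  set m := IsLocalRing.maximalIdeal R with hm
  let N : ℕ → Submodule R (R ⧸ I) := fun i => m ^ i • ⊤
  have hNsucc : ∀ i, N (i + 1) = m • N i := by
    intro i
    show m ^ (i + 1) • (⊤ : Submodule R (R ⧸ I)) = m • (m ^ i • ⊤)
    rw [pow_succ', Submodule.mul_smul]
  have hlt : ∀ i, N i ≠ ⊥ → N (i + 1) < N i := by
    intro i hi
    refine lt_of_le_of_ne ?_ ?_
    · rw [hNsucc]; exact Submodule.smul_le_right
    · intro h
      apply hi
      refine Submodule.eq_bot_of_le_smul_of_le_jacobson_bot m (N i) (IsNoetherian.noetherian _) ?_
        (IsLocalRing.maximalIdeal_le_jacobson _)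
      rw [← hNsucc, h]
  let d : ℕ → ℕ := fun i => Module.finrank k ((N i).restrictScalars k)
  have hd0 : d 0 = n := by
    show Module.finrank k ((m ^ 0 • (⊤ : Submodule R (R ⧸ I))).restrictScalars k) = n
    rw [pow_zero, Ideal.one_eq_top, Submodule.top_smul, Submodule.restrictScalars_top, finrank_top, hn]
  have hdlt : ∀ i, N i ≠ ⊥ → d (i + 1) < d i := by
    intro i hi
    apply Submodule.finrank_lt_finrank_of_lt
    exact (Submodule.restrictScalarsEmbedding k R (R ⧸ I)).lt_iff_lt.mpr (hlt i hi)
  have hmain : ∀ i, N i = ⊥ ∨ d i + i ≤ n := by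
    intro i
    induction i with
    | zero => right; rw [hd0]; omega
    | succ i ih =>
      by_cases hi : N i = ⊥
      · left
        rw [hNsucc, hi, Submodule.smul_bot]
      · rcases ih with h | h
        · exact absurd h hi
        · right
          have := hdlt i hi
          omega
  have hNn : N n = ⊥ := by
    rcases hmain n with h | h
    · exact h
    · have h0 : d n = 0 := by omega
      have h1 : (N n).restrictScalars k = ⊥ := Submodule.finrank_eq_zero.mp h0
      exact (Submodule.restrictScalars_eq_bot_iff k R (R ⧸ I)).mp h1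
  intro x hx
  have h1 : x • (1 : R ⧸ I) ∈ N n := Submodule.smul_mem_smul hx Submodule.mem_top
  rw [hNn, Submodule.mem_bot] at h1
  rw [← Ideal.Quotient.eq_zero_iff_mem]
  simpa [Algebra.smul_def] using h1

end Groth.Agent.S19436
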