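import Mathlib
import Groth.Statements.S19438
-- import your own Groth.Agent.* helpers here

set_option autoImplicit false
universe u
open CAlg

namespace Groth.Agent.S19438

/-- First assertion: let A be a Noetherian local commutative algebra over a field k with maximal ideal
M, residue field k (the map from k to A/M is onto) and embedding dimension dim M/M^2 at least 2, and
let I be a proper ideal with A/I finite-dimensional over k. If A/I is generated as a k-algebra by
one element, then some element of I does not lie in M^2; that is, the finite closed subscheme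
defined by I lies on a smooth hypersurface germ (it is curvilinear). (The published statement is for
the local ring of a smooth surface at a closed point; only a Noetherian local algebra with residue
field k and embedding dimension at least 2 is assumed here, which is what the published argument
uses.) -/
theorem result (k : Type u) [Field k]
    (A : Type u) [CommRing A] [Algebra k A] [IsNoetherianRing A] [IsLocalRing A]
    (hres : Function.Surjective (algebraMap k (IsLocalRing.ResidueField A)))
    (hemb : 2 ≤ Module.finrank (IsLocalRing.ResidueField A) (IsLocalRing.CotangentSpace A))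
    (I : Ideal A) (hI : I ≠ ⊤) [Module.Finite k (A ⧸ I)]
    (f : A ⧸ I) (hf : Algebra.adjoin k {f} = ⊤) :
    ∃ g ∈ I, g ∉ IsLocalRing.maximalIdeal A ^ 2 := by
  by_contra hcon
  push Not at hcon
  set m := IsLocalRing.maximalIdeal A with hm
  obtain ⟨F, rfl⟩ := Ideal.Quotient.mk_surjective f
  obtain ⟨c, hc⟩ := hres (IsLocalRing.residue A F)
  have hν : F - algebraMap k A c ∈ m := by
    rw [hm, ← IsLocalRing.residue_eq_zero_iff, map_sub, ← hc, sub_eq_zero,
      IsScalarTower.algebraMap_apply k A (IsLocalRing.ResidueField A)]
    rfl
  set ν : A := F - algebraMap k A c with hνdef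
  -- key claim
  have key : ∀ a ∈ m, ∃ t : k, a - t • ν ∈ m ^ 2 := by
    intro a ha
    have h1 : Ideal.Quotient.mk I a ∈ Algebra.adjoin k {Ideal.Quotient.mk I F} := by
      rw [hf]; exact Algebra.mem_top
    rw [Algebra.adjoin_singleton_eq_range_aeval] at h1
    obtain ⟨p, hp⟩ := h1
    have h2 : Polynomial.aeval (Ideal.Quotient.mk I F) p = Ideal.Quotient.mk I (Polynomial.aeval F p) :=
      (Polynomial.aeval_algHom_apply (Ideal.Quotient.mkₐ k I) F p)
    have h3 : a - Polynomial.aeval F p ∈ m ^ 2 := by
      apply hcon
      rw [← Ideal.Quotient.eq, ← h2]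
      exact hp.symm
    -- work in A / m^2
    let π : A →ₐ[k] A ⧸ m ^ 2 := Ideal.Quotient.mkₐ k (m ^ 2)
    have hπν : (π ν) ^ 2 = 0 := by
      rw [← map_pow]
      exact Ideal.Quotient.eq_zero_iff_mem.mpr (Ideal.pow_mem_pow hν 2)
    have hF : F = algebraMap k A c + ν := by rw [hνdef]; ring
    have h4 : π (Polynomial.aeval F p) =
        algebraMap k (A ⧸ m ^ 2) (p.eval c) + algebraMap k (A ⧸ m ^ 2) (p.derivative.eval c) * π ν := by
      rw [← Polynomial.aeval_algHom_apply, hF, map_add, AlgHom.commutes,
        Polynomial.aeval_add_of_sq_eq_zero _ _ _ hπν, Polynomial.aeval_algebraMap_apply,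
        Polynomial.aeval_algebraMap_apply]
      simp
    -- p(c) = 0
    have h5 : algebraMap k A (p.eval c) + algebraMap k A (p.derivative.eval c) * ν - a ∈ m ^ 2 := by
      rw [← Ideal.Quotient.eq_zero_iff_mem]
      have : π a = π (Polynomial.aeval F p) := by
        rw [← sub_eq_zero, ← map_sub]
        exact Ideal.Quotient.eq_zero_iff_mem.mpr h3
      have e : Ideal.Quotient.mk (m ^ 2) (algebraMap k A (p.eval c) +
          algebraMap k A (p.derivative.eval c) * ν - a) =
          algebraMap k (A ⧸ m ^ 2) (p.eval c) + algebraMap k (A ⧸ m ^ 2) (p.derivative.eval c) * π ν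
            - π a := by
        simp only [map_sub, map_add, map_mul]
        rfl
      rw [e, this, h4, sub_self]
    have hm2 : m ^ 2 ≤ m := Ideal.pow_le_self two_ne_zero
    have h6 : algebraMap k A (p.eval c) ∈ m := by
      have h7 := hm2 h5
      have h8 : algebraMap k A (p.derivative.eval c) * ν ∈ m := Ideal.mul_mem_left _ _ hν
      have h9 := m.sub_mem (m.add_mem h7 ha) h8
      convert h9 using 1
      ring
    have h7 : p.eval c = 0 := by
      by_contra hne
      have : IsUnit (algebraMap k A (p.eval c)) := (IsUnit.mk0 _ hne).map _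
      exact (IsLocalRing.mem_maximalIdeal _).mp h6 this
    refine ⟨p.derivative.eval c, ?_⟩
    rw [h7, map_zero, zero_add] at h5
    have := (m ^ 2).neg_mem h5
    convert this using 1
    rw [Algebra.smul_def]
    ring
  -- cotangent space is spanned by the class of ν
  have hle : Module.finrank (IsLocalRing.ResidueField A) (IsLocalRing.CotangentSpace A) ≤ 1 := by
    apply finrank_le_one (m.toCotangent ⟨ν, hν⟩)
    intro w
    obtain ⟨⟨a, ha⟩, rfl⟩ := Ideal.toCotangent_surjective m w
    obtain ⟨t, ht⟩ := key a ha
    refine ⟨IsLocalRing.residue A (algebraMap k A t), ?_⟩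
    have h1 : IsLocalRing.residue A (algebraMap k A t) • m.toCotangent ⟨ν, hν⟩ =
        (algebraMap k A t) • m.toCotangent ⟨ν, hν⟩ := by
      rw [← algebraMap_smul (IsLocalRing.ResidueField A) (algebraMap k A t) (m.toCotangent ⟨ν, hν⟩)]
      rfl
    rw [h1, ← map_smul, Ideal.toCotangent_eq]
    have := (m ^ 2).neg_mem ht
    convert this using 1
    simp [Algebra.smul_def]
  omega

end Groth.Agent.S19438
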