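import Mathlib
import Groth.Statements.S19439
-- import your own Groth.Agent.* helpers here

set_option autoImplicit false
universe u
open CAlg

namespace Groth.Agent.S19439

/-- Affine form: for all n and N there is an integer d, that depends only on n and N, such that for
every algebraically closed field k and every ideal I of the polynomial ring in N variables over k
whose quotient has finite dimension n over k, the polynomials of total degree at most d map onto the
quotient. -/
theorem result (n N : ℕ) :
    ∃ d : ℕ, ∀ (k : Type u) [Field k] [IsAlgClosed k] (I : Ideal (MvPolynomial (Fin N) k))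
      [Module.Finite k (MvPolynomial (Fin N) k ⧸ I)],
      Module.finrank k (MvPolynomial (Fin N) k ⧸ I) = n →
      Submodule.map (Ideal.Quotient.mkₐ k I).toLinearMap (MvPolynomial.restrictTotalDegree (Fin N) k d) = ⊤ := by
  refine ⟨n, ?_⟩
  intro k _ _ I _ hn
  let π : MvPolynomial (Fin N) k →ₐ[k] MvPolynomial (Fin N) k ⧸ I := Ideal.Quotient.mkₐ k I
  let W : ℕ → Submodule k (MvPolynomial (Fin N) k ⧸ I) := fun j =>
    Submodule.map π.toLinearMap (MvPolynomial.restrictTotalDegree (Fin N) k j)
  have hmemW : ∀ j (p : MvPolynomial (Fin N) k), p.totalDegree ≤ j → π p ∈ W j := by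
    intro j p hp
    exact ⟨p, (MvPolynomial.mem_restrictTotalDegree _ _ _).mpr hp, rfl⟩
  have hmono : ∀ j, W j ≤ W (j + 1) := by
    intro j
    apply Submodule.map_mono
    intro p hp
    rw [MvPolynomial.mem_restrictTotalDegree] at hp ⊢
    omega
  have hstab : ∀ j, ∀ w ∈ W j, ∀ i : Fin N, π (MvPolynomial.X i) * w ∈ W (j + 1) := by
    rintro j _ ⟨p, hp, rfl⟩ i
    rw [SetLike.mem_coe, MvPolynomial.mem_restrictTotalDegree] at hp
    have : π (MvPolynomial.X i) * π.toLinearMap p = π (MvPolynomial.X i * p) := by
      simp
    rw [this]
    apply hmemW
    calc (MvPolynomial.X i * p).totalDegree ≤ (MvPolynomial.X i : MvPolynomial (Fin N) k).totalDegree + p.totalDegree :=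
          MvPolynomial.totalDegree_mul _ _
      _ ≤ 1 + j := by
          gcongr
          exact le_of_eq (MvPolynomial.totalDegree_X i)
      _ = j + 1 := by ring
  have hc : ∀ j, W (j + 1) ≤ W j → W j = ⊤ := by
    intro j hj
    rw [eq_top_iff]
    intro q hq'
    clear hq'
    obtain ⟨p, rfl⟩ := Ideal.Quotient.mk_surjective q
    show π p ∈ W j
    induction p using MvPolynomial.induction_on with
    | C a =>
      apply hmemW
      rw [MvPolynomial.totalDegree_C]; omega
    | add p q hp hq =>
      rw [map_add]; exact (W j).add_mem hp hq
    | mul_X p i hp =>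
      rw [map_mul, mul_comm]
      exact hj (hstab j _ hp i)
  have hmain : ∀ j, W j = ⊤ ∨ j + 1 ≤ Module.finrank k (W j) := by
    intro j
    induction j with
    | zero =>
      by_cases h1 : (1 : MvPolynomial (Fin N) k ⧸ I) = 0
      · left
        rw [eq_top_iff]
        intro q _
        have : q = 0 := by rw [← mul_one q, h1, mul_zero]
        rw [this]; exact (W 0).zero_mem
      · right
        have hmem : (1 : MvPolynomial (Fin N) k ⧸ I) ∈ W 0 := by
          have := hmemW 0 1 (by simp)
          simpa using this
        have hne : W 0 ≠ ⊥ := by
          intro h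
          rw [h, Submodule.mem_bot] at hmem
          exact h1 hmem
        have : 0 < Module.finrank k (W 0) := Module.finrank_pos_iff.mpr
          ((Submodule.nontrivial_iff_ne_bot).mpr hne)
        omega
    | succ j ih =>
      rcases ih with h | h
      · left
        rw [eq_top_iff, ← h]
        exact hmono j
      · by_cases hjj : W (j + 1) ≤ W j
        · left
          rw [eq_top_iff, ← hc j hjj]
          exact hmono j
        · right
          have hlt : W j < W (j + 1) := lt_of_le_of_ne (hmono j) (fun h => hjj (le_of_eq h.symm))
          have := Submodule.finrank_lt_finrank_of_lt hlt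
          omega
  rcases hmain n with h | h
  · exact h
  · have := Submodule.finrank_le (W n)
    omega

end Groth.Agent.S19439
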