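import Mathlib
import Groth.Statements.S19443

set_option autoImplicit false
universe u
open LinAlg

namespace Groth.Agent.S19443

/-- Algebraic form: let G be a finite group with order invertible in the field k, ρ a linear
representation of G on a k-vector space V, and ω a nondegenerate bilinear form on V invariant under
G. Then ω restricted to the fixed subspace V^G is nondegenerate (for a finite group of symplectic
automorphisms, the fixed subspace is a symplectic subspace). -/
theorem result (k : Type u) [Field k]
    (G : Type u) [Group G] [Finite G] (hG : (Nat.card G : k) ≠ 0)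
    (V : Type u) [AddCommGroup V] [Module k V] (ρ : Representation k G V)
    (ω : LinearMap.BilinForm k V) (hω : ω.Nondegenerate)
    (hinv : ∀ (g : G) (v w : V), ω (ρ g v) (ρ g w) = ω v w) :
    (ω.restrict ρ.invariants).Nondegenerate := by
  classical
  haveI : Fintype G := Fintype.ofFinite G
  have hcard : (Fintype.card G : k) ≠ 0 := by rwa [Nat.card_eq_fintype_card] at hG
  let avg : V → V := fun u => (Fintype.card G : k)⁻¹ • ∑ g : G, ρ g u
  have avg_mem : ∀ u, avg u ∈ ρ.invariants := by
    intro u h
    simp only [avg, map_smul, map_sum]
    congr 1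
    have : ∀ g, ρ h (ρ g u) = ρ (h * g) u := fun g => by rw [map_mul]; rfl
    simp_rw [this]
    exact Function.Bijective.sum_comp (Group.mulLeft_bijective h) (fun g => ρ g u)
  have key1 : ∀ x ∈ ρ.invariants, ∀ u, ω x (avg u) = ω x u := by
    intro x hx u
    simp only [avg, map_smul, map_sum, smul_eq_mul]
    have : ∀ g, ω x (ρ g u) = ω x u := fun g => by
      conv_lhs => rw [← hx g]
      exact hinv g x u
    simp_rw [this]
    simp only [Finset.sum_const, Finset.card_univ, nsmul_eq_mul]
    field_simp
  have key2 : ∀ x ∈ ρ.invariants, ∀ u, ω (avg u) x = ω u x := by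
    intro x hx u
    simp only [avg, map_smul, map_sum, smul_eq_mul, LinearMap.smul_apply, LinearMap.sum_apply]
    have : ∀ g, ω (ρ g u) x = ω u x := fun g => by
      conv_lhs => rw [← hx g]
      exact hinv g u x
    simp_rw [this]
    simp only [Finset.sum_const, Finset.card_univ, nsmul_eq_mul]
    field_simp
  refine ⟨?_, ?_⟩
  · intro x hx
    have : (x : V) = 0 := hω.1 x fun u => by
      rw [← key1 x x.2 u]
      exact hx ⟨avg u, avg_mem u⟩
    exact Subtype.ext this
  · intro x hx
    have : (x : V) = 0 := hω.2 x fun u => by
      rw [← key2 x x.2 u]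
      exact hx ⟨avg u, avg_mem u⟩
    exact Subtype.ext this

end Groth.Agent.S19443
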