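import Mathlib
import Groth.Statements.S19448

set_option autoImplicit false
universe u
open CAlg

namespace Groth.Agent.S19448

/-- Let k be a field, A a Noetherian local k-algebra with maximal ideal M and residue field k, and G a
finite group with |G| ≠ 0 in k acting on A by k-algebra automorphisms. An element of G which acts
trivially on M/M^2 acts trivially on A; in other words the stabilizer acts faithfully on the
cotangent space whenever it acts faithfully on the local ring. -/
theorem result (k : Type u) [Field k] (A : Type u) [CommRing A]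
    [Algebra k A] [IsLocalRing A] [IsNoetherianRing A]
    (hres : Function.Surjective (algebraMap k (IsLocalRing.ResidueField A)))
    (G : Type u) [Group G] [Finite G] [MulSemiringAction G A] [SMulCommClass G k A]
    (hG : (Nat.card G : k) ≠ 0) (g : G)
    (hg : ∀ a ∈ IsLocalRing.maximalIdeal A, g • a - a ∈ IsLocalRing.maximalIdeal A ^ 2) (a : A) :
    g • a = a := by
  classical
  generalize hM : IsLocalRing.maximalIdeal A = M at hg
  have hMtop : M ≠ ⊤ := by rw [← hM]; exact Ideal.IsPrime.ne_top'
  -- decomposition
  have hdec : ∀ a : A, ∃ c : k, a - algebraMap k A c ∈ M := by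
    intro a
    obtain ⟨c, hc⟩ := hres (IsLocalRing.residue A a)
    refine ⟨c, ?_⟩
    rw [← hM, ← IsLocalRing.residue_eq_zero_iff, map_sub, ← hc, sub_eq_zero]
    rw [IsScalarTower.algebraMap_apply k A (IsLocalRing.ResidueField A)]
    rfl
  have hfix : ∀ c : k, g • algebraMap k A c = algebraMap k A c := by
    intro c
    rw [Algebra.algebraMap_eq_smul_one, smul_comm, smul_one]
  -- N
  let N : A →+ A := (DistribSMul.toAddMonoidHom A g) - AddMonoidHom.id A
  have hNdef : ∀ x, N x = g • x - x := fun x => rfl
  have hpow_le : ∀ {i j : ℕ}, i ≤ j → M ^ j ≤ M ^ i := fun h => Ideal.pow_le_pow_right h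
  -- Step 1
  have h1 : ∀ x, N x ∈ M ^ 2 := by
    intro x
    obtain ⟨c, hc⟩ := hdec x
    have : N x = N (x - algebraMap k A c) := by
      rw [map_sub, hNdef (algebraMap k A c), hfix, sub_self, sub_zero]
    rw [this]
    exact hg _ hc
  have hgM : ∀ x ∈ M, g • x ∈ M := by
    intro x hx
    have : g • x = x + N x := by rw [hNdef]; ring
    rw [this]
    exact M.add_mem hx (by simpa using hpow_le (show 1 ≤ 2 by norm_num) (h1 x))
  -- Step 2
  have h2 : ∀ j : ℕ, ∀ b ∈ M ^ j, N b ∈ M ^ (j + 1) := by
    intro j
    induction j with
    | zero => intro b _; exact hpow_le (show 0 + 1 ≤ 2 by norm_num) (h1 b)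
    | succ j ih =>
      intro b hb
      rw [pow_succ] at hb
      refine Submodule.mul_induction_on hb ?_ ?_
      · intro m hm n hn
        have e : N (m * n) = N m * (g • n) + m * N n := by
          simp only [hNdef, smul_mul']; ring
        rw [e]
        refine Ideal.add_mem _ ?_ ?_
        · have := Ideal.mul_mem_mul (ih m hm) (hgM n hn)
          rwa [← pow_succ] at this
        · have := Ideal.mul_mem_mul hm (h1 n)
          rwa [← pow_add] at this
      · intro x y hx hy
        rw [map_add]; exact Ideal.add_mem _ hx hy
  -- unit
  have hunit : IsUnit ((Nat.card G : ℕ) : A) := by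
    have : ((Nat.card G : ℕ) : A) = algebraMap k A (Nat.card G : k) := by rw [map_natCast]
    rw [this]
    exact (IsUnit.mk0 _ hG).map (algebraMap k A)
  -- Step 3
  have h3 : ∀ i : ℕ, ∀ x, N x ∈ M ^ i := by
    intro i
    induction i with
    | zero => intro x; simp
    | succ i ih =>
      intro x
      have claim : ∀ j : ℕ, g ^ j • x - x - j • N x ∈ M ^ (i + 1) := by
        intro j
        induction j with
        | zero => simp
        | succ j ihj =>
          set b := g ^ j • x with hb
          set r := b - x - j • N x with hr
          have hbx : b = x + j • N x + r := by rw [hr]; ring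
          have e : g ^ (j + 1) • x - x - (j + 1) • N x = j • N (N x) + N r + r := by
            rw [pow_succ', mul_smul, ← hb]
            have : g • b = b + N b := by rw [hNdef]; ring
            rw [this]
            have hNb : N b = N x + j • N (N x) + N r := by
              rw [hbx, map_add, map_add, map_nsmul]
            rw [hNb, hr, succ_nsmul]; ring
          rw [e]
          refine Ideal.add_mem _ (Ideal.add_mem _ ?_ ?_) ihj
          · exact (M ^ (i + 1)).nsmul_mem (h2 i _ (ih x)) j
          · exact hpow_le (Nat.le_succ _) (h2 (i + 1) r ihj)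
      have hn := claim (Nat.card G)
      rw [pow_card_eq_one', one_smul, sub_self, zero_sub, neg_mem_iff, nsmul_eq_mul] at hn
      obtain ⟨u, hu⟩ := hunit
      have : N x = (↑u⁻¹ : A) * (((Nat.card G : ℕ) : A) * N x) := by
        rw [← hu, ← mul_assoc, Units.inv_mul, one_mul]
      rw [this]
      exact Ideal.mul_mem_left _ _ hn
  have h4 : N a ∈ (⨅ i : ℕ, M ^ i) := by
    rw [Ideal.mem_iInf]; exact fun i => h3 i a
  rw [Ideal.iInf_pow_eq_bot_of_isLocalRing M hMtop, Ideal.mem_bot, hNdef, sub_eq_zero] at h4
  exact h4

end Groth.Agent.S19448
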