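import Groth.Statements.S1945
import Groth.Agent.Lib.Lead.GysinFlat

set_option autoImplicit false
universe u
open CategoryTheory AlgebraicGeometry
open CategoryTheory.Limits
open Cyc

namespace Groth.Agent.S1945


open Groth.Agent.Lib.Lead.C1Cap Groth.Agent.Lib.Lead.C1Pull Groth.Agent.Lib.Helper3.InvGen
  Groth.Agent.Lib.Lead.CycPull Groth.Agent.Lib.Helper22.AssocLen Groth.Agent.Lib.Helper23.CycLib
  Groth.Agent.Lib.Lead.StalkLoc Groth.Agent.Lib.Lead.GysinFlat Groth.Agent.Lib.Helper17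

/-- The coefficient of `c_1(L) ∩ p^*α` (computed with the Gysin sections of `s`) at a point `x`
which has relative dimension `r` over its image, where `s = c · e` with `c` in the maximal ideal
and regular on the local ring of the fibre: the one-dimensional associativity formula for the
local ring of the fibre. -/
theorem c1Cap_pullFun_eq {X Y : Scheme.{u}} [IsLocallyNoetherian X] (δX : X → ℤ) (δY : Y → ℤ)
    (hdimX : Cyc.IsDimFun X δX) (hdimY : Cyc.IsDimFun Y δY) (p : X ⟶ Y)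
    (r : ℕ) (hle : ∀ z : X, δX z ≤ δY (p z) + ((r : ℤ) + 1))
    {L : X.Modules} {U : X.Opens} {e : Γ(L, U)} (hg : IsGen L U e)
    (s : L.presheaf.obj (Opposite.op ⊤)) (α : Y → ℤ) (w : (ξ : X) → Cyc.secFibre L ξ)
    (x : X) (hxU : x ∈ U) (hx : δX x = δY (p x) + r) (c : X.presheaf.stalk x)
    (hc0 : L.presheaf.germ ⊤ x trivial s = c • L.presheaf.germ U x hxU e)
    (hcm : c ∈ IsLocalRing.maximalIdeal (X.presheaf.stalk x))
    (hregc : IsSMulRegular ((X.presheaf.stalk x) ⧸ (Ideal.map (p.stalkMap x).hom (IsLocalRing.maximalIdeal (Y.presheaf.stalk (p x))))) c) :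
    Cyc.c1CapFun δX L (Cyc.pullFun p δX δY ((r : ℤ) + 1) α) (Cyc.gysinChoice L s w) x =
      α (p x) * ((Module.length (X.presheaf.stalk x) ((X.presheaf.stalk x) ⧸ ((Ideal.map (p.stalkMap x).hom (IsLocalRing.maximalIdeal (Y.presheaf.stalk (p x)))) ⊔ Ideal.span {c}))).toNat : ℤ) := by
  classical
  show (∑ᶠ ξ : X, Cyc.pullFun p δX δY ((r : ℤ) + 1) α ξ *
      Cyc.secDivFun δX L ξ (Cyc.gysinChoice L s w ξ) x) = _
  have hδi : ∀ i : {ξ : X // ξ ⤳ x ∧ ξ ≠ x ∧ p ξ = p x}, δX i.1 = δX x + 1 := by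
    intro i
    have h1 := (hdimX i.1 x i.2.1 i.2.2.1).1
    have h2 := hle i.1
    rw [i.2.2.2] at h2
    omega
  have hgeni : ∀ i : {ξ : X // ξ ⤳ x ∧ ξ ≠ x ∧ p ξ = p x}, ∀ z, p z = p i.1 → z ⤳ i.1 → z = i.1 := by
    intro i z hz1 hz2
    by_contra hne
    have h1 := (hdimX z i.1 hz2 hne).1
    have h2 := hle z
    rw [hz1, i.2.2.2] at h2
    have h3 := hδi i
    omega
  haveI hPprime : ∀ i : {ξ : X // ξ ⤳ x ∧ ξ ≠ x ∧ p ξ = p x}, (RingHom.ker (Cyc.specMap x i.1 i.2.1)).IsPrime := fun i => RingHom.ker_isPrime _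
  have hJP : ∀ i : {ξ : X // ξ ⤳ x ∧ ξ ≠ x ∧ p ξ = p x}, (Ideal.map (p.stalkMap x).hom (IsLocalRing.maximalIdeal (Y.presheaf.stalk (p x)))) ≤ RingHom.ker (Cyc.specMap x i.1 i.2.1) := by
    intro i
    have h1 := (map_ker_le_iff p x i.1 i.2.1 (p x) (specializes_refl _)).mpr
      (specializes_of_eq i.2.2.2.symm)
    rwa [ker_specMap_self] at h1
  have hinc : ∀ i j : {ξ : X // ξ ⤳ x ∧ ξ ≠ x ∧ p ξ = p x}, RingHom.ker (Cyc.specMap x i.1 i.2.1) ≤ RingHom.ker (Cyc.specMap x j.1 j.2.1) → i = j := by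
    intro i j hle'
    have h1 : i.1 ⤳ j.1 := (ker_specMap_le_iff x i.1 j.1 i.2.1 j.2.1).mp hle'
    apply Subtype.ext
    by_contra hne
    have h2 := (hdimX i.1 j.1 h1 hne).1
    have h3 := hδi i
    have h4 := hδi j
    omega
  have hPm : ∀ i : {ξ : X // ξ ⤳ x ∧ ξ ≠ x ∧ p ξ = p x}, RingHom.ker (Cyc.specMap x i.1 i.2.1) ≠ IsLocalRing.maximalIdeal (X.presheaf.stalk x) := by
    intro i h
    rw [← ker_specMap_self x (specializes_refl x)] at h
    exact i.2.2.1 (ker_specMap_injective x i.1 x i.2.1 _ h)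
  have hgood : Good (fun i : {ξ : X // ξ ⤳ x ∧ ξ ≠ x ∧ p ξ = p x} => RingHom.ker (Cyc.specMap x i.1 i.2.1)) ((X.presheaf.stalk x) ⧸ (Ideal.map (p.stalkMap x).hom (IsLocalRing.maximalIdeal (Y.presheaf.stalk (p x))))) := by
    intro q hq
    have hJq : (Ideal.map (p.stalkMap x).hom (IsLocalRing.maximalIdeal (Y.presheaf.stalk (p x)))) ≤ q.asIdeal := by
      have h1 := Module.mem_support_iff_of_finite.mp hq
      rwa [Ideal.annihilator_quotient] at h1
    obtain ⟨z, hz, hqz⟩ := exists_eq_ker_specMap x q.asIdeal q.2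
    by_cases hzx : z = x
    · left
      rw [hqz, ker_specMap_congr x z x hzx hz (specializes_refl x), ker_specMap_self]
    · right
      have h2 : p x ⤳ p z := by
        apply (map_ker_le_iff p x z hz (p x) (specializes_refl _)).mp
        rw [ker_specMap_self, ← hqz]
        exact hJq
      have h3 : p z ⤳ p x := p.base.hom.map_specializes hz
      have h4 : p z = p x := (h3.antisymm h2).eq
      exact ⟨⟨z, hz, hzx, h4⟩, hqz⟩
  have hmin : ∀ i : {ξ : X // ξ ⤳ x ∧ ξ ≠ x ∧ p ξ = p x}, RingHom.ker (Cyc.specMap x i.1 i.2.1) ∈ (Module.annihilator (X.presheaf.stalk x) ((X.presheaf.stalk x) ⧸ (Ideal.map (p.stalkMap x).hom (IsLocalRing.maximalIdeal (Y.presheaf.stalk (p x)))))).minimalPrimes := by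
    intro i
    refine ⟨⟨hPprime i, ?_⟩, ?_⟩
    · rw [Ideal.annihilator_quotient]
      exact hJP i
    rintro Q ⟨hQ, hQann⟩ hQle
    have hQs : (⟨Q, hQ⟩ : PrimeSpectrum (X.presheaf.stalk x)) ∈ Module.support (X.presheaf.stalk x) ((X.presheaf.stalk x) ⧸ (Ideal.map (p.stalkMap x).hom (IsLocalRing.maximalIdeal (Y.presheaf.stalk (p x))))) :=
      Module.mem_support_iff_of_finite.mpr hQann
    rcases hgood ⟨Q, hQ⟩ hQs with h | ⟨j, hj⟩
    · exfalso
      have h' : Q = IsLocalRing.maximalIdeal (X.presheaf.stalk x) := h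
      rw [h'] at hQle
      exact hPm i (le_antisymm (IsLocalRing.le_maximalIdeal (hPprime i).ne_top) hQle)
    · have hj' : Q = RingHom.ker (Cyc.specMap x j.1 j.2.1) := hj
      rw [hj'] at hQle ⊢
      rw [hinc j i hQle]
  haveI : Finite {ξ : X // ξ ⤳ x ∧ ξ ≠ x ∧ p ξ = p x} := by
    haveI : Finite {P : Ideal (X.presheaf.stalk x) // P ∈ (Module.annihilator (X.presheaf.stalk x) ((X.presheaf.stalk x) ⧸ (Ideal.map (p.stalkMap x).hom (IsLocalRing.maximalIdeal (Y.presheaf.stalk (p x)))))).minimalPrimes} :=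
      (Ideal.finite_minimalPrimes_of_isNoetherianRing (X.presheaf.stalk x) _).to_subtype
    exact Finite.of_injective
      (fun i : {ξ : X // ξ ⤳ x ∧ ξ ≠ x ∧ p ξ = p x} => (⟨RingHom.ker (Cyc.specMap x i.1 i.2.1), hmin i⟩ :
          {P : Ideal (X.presheaf.stalk x) // P ∈ (Module.annihilator (X.presheaf.stalk x) ((X.presheaf.stalk x) ⧸ (Ideal.map (p.stalkMap x).hom (IsLocalRing.maximalIdeal (Y.presheaf.stalk (p x)))))).minimalPrimes}))
      (fun i j hij => hinc i j (le_of_eq (congrArg Subtype.val hij)))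
  haveI : Fintype {ξ : X // ξ ⤳ x ∧ ξ ≠ x ∧ p ξ = p x} := Fintype.ofFinite _
  have hcP : ∀ i : {ξ : X // ξ ⤳ x ∧ ξ ≠ x ∧ p ξ = p x}, c ∉ RingHom.ker (Cyc.specMap x i.1 i.2.1) := by
    intro i hmem
    have h1 := Module.associatedPrimes.minimalPrimes_annihilator_subset_associatedPrimes (X.presheaf.stalk x) ((X.presheaf.stalk x) ⧸ (Ideal.map (p.stalkMap x).hom (IsLocalRing.maximalIdeal (Y.presheaf.stalk (p x)))))
      (hmin i)
    have h2 : c ∈ ⋃ P ∈ associatedPrimes (X.presheaf.stalk x) ((X.presheaf.stalk x) ⧸ (Ideal.map (p.stalkMap x).hom (IsLocalRing.maximalIdeal (Y.presheaf.stalk (p x))))), (P : Set (X.presheaf.stalk x)) := Set.mem_biUnion h1 hmem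
    rw [biUnion_associatedPrimes_eq_compl_regular (X.presheaf.stalk x) ((X.presheaf.stalk x) ⧸ (Ideal.map (p.stalkMap x).hom (IsLocalRing.maximalIdeal (Y.presheaf.stalk (p x)))))] at h2
    exact h2 hregc
  have hunit : ∀ i : {ξ : X // ξ ⤳ x ∧ ξ ≠ x ∧ p ξ = p x}, IsUnit (X.presheaf.stalkSpecializes i.2.1 c) := by
    intro i
    show IsUnit ((X.presheaf.stalkSpecializes i.2.1).hom c)
    apply IsLocalRing.notMem_maximalIdeal.mp
    intro hmem
    apply hcP i
    rw [RingHom.mem_ker]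
    unfold Cyc.specMap
    rw [CommRingCat.hom_comp, RingHom.comp_apply]
    exact (IsLocalRing.residue_eq_zero_iff _).mpr hmem
  have hspecη : ∀ (η : X) (h : η ⤳ x), L.presheaf.germ ⊤ η trivial s =
      X.presheaf.stalkSpecializes h c • L.presheaf.germ U η (h.mem_open U.2 hxU) e := by
    intro η h
    rw [← spec_germ L h ⊤ trivial s, hc0, spec_smul, spec_germ]
  have hterm : ∀ i : {ξ : X // ξ ⤳ x ∧ ξ ≠ x ∧ p ξ = p x},
      Cyc.secOrdAt L i.1 x i.2.1 (Cyc.gysinChoice L s w i.1) =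
        ((Module.length (X.presheaf.stalk x) ((X.presheaf.stalk x) ⧸ (RingHom.ker (Cyc.specMap x i.1 i.2.1) ⊔ Ideal.span {c}))).toNat : ℤ) := by
    intro i
    have hu := hunit i
    have hne : (Submodule.Quotient.mk ((L.presheaf.germ ⊤ i.1 trivial) s) :
        Cyc.secFibre L i.1) ≠ 0 := by
      rw [hspecη i.1 i.2.1]
      exact mk_ne_zero_of_isUnit hg i.1 (i.2.1.mem_open U.2 hxU) _ hu
    have hgy : Cyc.gysinChoice L s w i.1 =
        Submodule.Quotient.mk ((L.presheaf.germ ⊤ i.1 trivial) s) := by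
      unfold Cyc.gysinChoice
      rw [if_pos hne]
    rw [hgy, hspecη i.1 i.2.1, secOrdAt_eq hg i.2.1 hxU _ hu]
    have hd : δX x + 1 = δX i.1 := (hδi i).symm
    have himm : ∀ z : X, i.1 ⤳ z → z ⤳ x → z = i.1 ∨ z = x :=
      fun z h1 h2 => immediate_of_delta hdimX hd z h1 h2
    have hdim1 := krullDimLE_one_locQuot x i.1 i.2.1 himm
    have hG : Cyc.specMap x i.1 i.2.1 c * Cyc.specMap x i.1 i.2.1 1 =
        Cyc.specMap x i.1 i.2.1 c := by
      rw [map_one, mul_one]
    have h1n : (1 : (X.presheaf.stalk x)) ∉ RingHom.ker (Cyc.specMap x i.1 i.2.1) := by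
      rw [RingHom.mem_ker, map_one]
      exact one_ne_zero
    have hsub := ordAt_eq_sub x i.1 i.2.1 hdim1 c 1 (Cyc.specMap x i.1 i.2.1 c) hG (hcP i) h1n
    have h0 : Module.length (X.presheaf.stalk x) ((X.presheaf.stalk x) ⧸
        (RingHom.ker (Cyc.specMap x i.1 i.2.1) ⊔ Ideal.span {(1 : (X.presheaf.stalk x))})) = 0 := by
      rw [Module.length_eq_zero_iff]
      exact Ideal.Quotient.subsingleton_iff.mpr
        (by rw [Ideal.span_singleton_one, sup_top_eq])
    rw [h0] at hsub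
    simp only [ENat.toNat_zero, Nat.cast_zero, sub_zero] at hsub
    exact hsub
  have hsum : (∑ᶠ ξ : X, Cyc.pullFun p δX δY ((r : ℤ) + 1) α ξ *
      Cyc.secDivFun δX L ξ (Cyc.gysinChoice L s w ξ) x) =
      ∑ i : {ξ : X // ξ ⤳ x ∧ ξ ≠ x ∧ p ξ = p x}, α (p i.1) * (((Module.length (X.presheaf.stalk i.1) (X.presheaf.stalk i.1 ⧸ Ideal.map (p.stalkMap i.1).hom (IsLocalRing.maximalIdeal (Y.presheaf.stalk (p i.1)))))).toNat : ℤ) * ((Module.length (X.presheaf.stalk x) ((X.presheaf.stalk x) ⧸ (RingHom.ker (Cyc.specMap x i.1 i.2.1) ⊔ Ideal.span {c}))).toNat : ℤ) := by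
    rw [← finsum_eq_sum_of_fintype]
    have hG : ∀ i : {ξ : X // ξ ⤳ x ∧ ξ ≠ x ∧ p ξ = p x},
        α (p i.1) * (((Module.length (X.presheaf.stalk i.1) (X.presheaf.stalk i.1 ⧸ Ideal.map (p.stalkMap i.1).hom (IsLocalRing.maximalIdeal (Y.presheaf.stalk (p i.1)))))).toNat : ℤ) * ((Module.length (X.presheaf.stalk x) ((X.presheaf.stalk x) ⧸ (RingHom.ker (Cyc.specMap x i.1 i.2.1) ⊔ Ideal.span {c}))).toNat : ℤ) = (fun ξ : X => Cyc.pullFun p δX δY ((r : ℤ) + 1) α ξ * Cyc.secDivFun δX L ξ (Cyc.gysinChoice L s w ξ) x) i.1 := by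
      intro i
      show _ = Cyc.pullFun p δX δY ((r : ℤ) + 1) α i.1 *
          Cyc.secDivFun δX L i.1 (Cyc.gysinChoice L s w i.1) x
      have hi : δX i.1 = δY (p i.1) + ((r : ℤ) + 1) := by
        have h1 := hδi i
        rw [i.2.2.2]
        omega
      have hpf : Cyc.pullFun p δX δY ((r : ℤ) + 1) α i.1 =
          α (p i.1) * (((Module.length (X.presheaf.stalk i.1) (X.presheaf.stalk i.1 ⧸ Ideal.map (p.stalkMap i.1).hom (IsLocalRing.maximalIdeal (Y.presheaf.stalk (p i.1)))))).toNat : ℤ) := if_pos hi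
      rw [hpf]
      unfold Cyc.secDivFun
      rw [dif_pos ⟨i.2.1, (hδi i).symm⟩, hterm i]
    rw [finsum_congr hG,
      finsum_subtype_eq_finsum_cond (f := (fun ξ : X => Cyc.pullFun p δX δY ((r : ℤ) + 1) α ξ * Cyc.secDivFun δX L ξ (Cyc.gysinChoice L s w ξ) x))
        (fun ξ => ξ ⤳ x ∧ ξ ≠ x ∧ p ξ = p x)]
    refine finsum_congr (fun η => ?_)
    rw [finsum_eq_if]
    split_ifs with h0
    · rfl
    · show Cyc.pullFun p δX δY ((r : ℤ) + 1) α η *
        Cyc.secDivFun δX L η (Cyc.gysinChoice L s w η) x = 0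
      by_cases hc : η ⤳ x ∧ δX x + 1 = δX η
      · have hne : η ≠ x := by
          intro hηx
          have h2 := hc.2
          rw [hηx] at h2
          omega
        have hpne : p η ≠ p x := fun hp => h0 ⟨hc.1, hne, hp⟩
        have h2 : Cyc.pullFun p δX δY ((r : ℤ) + 1) α η = 0 := by
          unfold Cyc.pullFun
          rw [if_neg]
          intro h3
          have h4 : p η ⤳ p x := p.base.hom.map_specializes hc.1
          have h5 := (hdimY (p η) (p x) h4 hpne).1
          have h6 := hc.2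
          omega
        rw [h2, zero_mul]
      · have h2 : Cyc.secDivFun δX L η (Cyc.gysinChoice L s w η) x = 0 := by
          unfold Cyc.secDivFun
          rw [dif_neg hc]
        rw [h2, mul_zero]
  rw [hsum]
  have hform := formula (P := fun i : {ξ : X // ξ ⤳ x ∧ ξ ≠ x ∧ p ξ = p x} => RingHom.ker (Cyc.specMap x i.1 i.2.1)) hcm hinc hcP hPm ((X.presheaf.stalk x) ⧸ (Ideal.map (p.stalkMap x).hom (IsLocalRing.maximalIdeal (Y.presheaf.stalk (p x))))) hgood
  have hK : Module.length (X.presheaf.stalk x) (Kt c ((X.presheaf.stalk x) ⧸ (Ideal.map (p.stalkMap x).hom (IsLocalRing.maximalIdeal (Y.presheaf.stalk (p x)))))) = 0 := (length_Kt_eq_zero_iff c ((X.presheaf.stalk x) ⧸ (Ideal.map (p.stalkMap x).hom (IsLocalRing.maximalIdeal (Y.presheaf.stalk (p x)))))).mpr hregc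
  have hlam : ∀ i : {ξ : X // ξ ⤳ x ∧ ξ ≠ x ∧ p ξ = p x}, lam (RingHom.ker (Cyc.specMap x i.1 i.2.1)) ((X.presheaf.stalk x) ⧸ (Ideal.map (p.stalkMap x).hom (IsLocalRing.maximalIdeal (Y.presheaf.stalk (p x))))) = (Module.length (X.presheaf.stalk i.1) (X.presheaf.stalk i.1 ⧸ Ideal.map (p.stalkMap i.1).hom (IsLocalRing.maximalIdeal (Y.presheaf.stalk (p i.1))))) := by
    intro i
    have h1 : ∀ J₀ : Ideal (X.presheaf.stalk x), J₀ = Ideal.map (p.stalkMap x).hom
        (RingHom.ker (Cyc.specMap (p x) (p x) (specializes_refl _))) →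
        lam (RingHom.ker (Cyc.specMap x i.1 i.2.1)) ((X.presheaf.stalk x) ⧸ J₀) = (Module.length (X.presheaf.stalk i.1) (X.presheaf.stalk i.1 ⧸ Ideal.map (p.stalkMap i.1).hom (IsLocalRing.maximalIdeal (Y.presheaf.stalk (p i.1))))) := by
      rintro _ rfl
      exact lam_eq_mult p x (p x) (specializes_refl _) i.1 i.2.1 i.2.2.2
    exact h1 _ (by rw [ker_specMap_self])
  have halg' : Module.length (X.presheaf.stalk x) ((X.presheaf.stalk x) ⧸ ((Ideal.map (p.stalkMap x).hom (IsLocalRing.maximalIdeal (Y.presheaf.stalk (p x)))) ⊔ Ideal.span {c})) =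
      ∑ i : {ξ : X // ξ ⤳ x ∧ ξ ≠ x ∧ p ξ = p x}, (Module.length (X.presheaf.stalk i.1) (X.presheaf.stalk i.1 ⧸ Ideal.map (p.stalkMap i.1).hom (IsLocalRing.maximalIdeal (Y.presheaf.stalk (p i.1))))) * Module.length (X.presheaf.stalk x) ((X.presheaf.stalk x) ⧸ (RingHom.ker (Cyc.specMap x i.1 i.2.1) ⊔ Ideal.span {c})) := by
    rw [← length_Ct_quot, hform, hK, zero_add]
    exact Finset.sum_congr rfl (fun i _ => by rw [hlam i])
  have hfin1 : ∀ i : {ξ : X // ξ ⤳ x ∧ ξ ≠ x ∧ p ξ = p x}, (Module.length (X.presheaf.stalk i.1) (X.presheaf.stalk i.1 ⧸ Ideal.map (p.stalkMap i.1).hom (IsLocalRing.maximalIdeal (Y.presheaf.stalk (p i.1))))) ≠ ⊤ := fun i => length_fibre_ne_top p i.1 (hgeni i)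
  have hfin2 : ∀ i : {ξ : X // ξ ⤳ x ∧ ξ ≠ x ∧ p ξ = p x}, Module.length (X.presheaf.stalk x) ((X.presheaf.stalk x) ⧸ (RingHom.ker (Cyc.specMap x i.1 i.2.1) ⊔ Ideal.span {c})) ≠ ⊤ := by
    intro i
    have hd : δX x + 1 = δX i.1 := (hδi i).symm
    have himm : ∀ z : X, i.1 ⤳ z → z ⤳ x → z = i.1 ∨ z = x :=
      fun z h1 h2 => immediate_of_delta hdimX hd z h1 h2
    exact NA_ne_top (RingHom.ker (Cyc.specMap x i.1 i.2.1)) (krullDimLE_one_locQuot x i.1 i.2.1 himm) (hcP i)
  have h5 : ∀ i : {ξ : X // ξ ⤳ x ∧ ξ ≠ x ∧ p ξ = p x}, ∃ n : ℕ, (Module.length (X.presheaf.stalk i.1) (X.presheaf.stalk i.1 ⧸ Ideal.map (p.stalkMap i.1).hom (IsLocalRing.maximalIdeal (Y.presheaf.stalk (p i.1))))) * Module.length (X.presheaf.stalk x) ((X.presheaf.stalk x) ⧸ (RingHom.ker (Cyc.specMap x i.1 i.2.1) ⊔ Ideal.span {c})) = (n : ℕ∞) :=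
    fun i => ⟨_, (ENat.coe_toNat (WithTop.mul_ne_top (hfin1 i) (hfin2 i))).symm⟩
  choose n hn using h5
  have h6 : Module.length (X.presheaf.stalk x) ((X.presheaf.stalk x) ⧸ ((Ideal.map (p.stalkMap x).hom (IsLocalRing.maximalIdeal (Y.presheaf.stalk (p x)))) ⊔ Ideal.span {c})) = ((∑ i, n i : ℕ) : ℕ∞) := by
    rw [halg', Nat.cast_sum]
    exact Finset.sum_congr rfl (fun i _ => hn i)
  rw [h6, ENat.toNat_coe, Nat.cast_sum, Finset.mul_sum]
  refine Finset.sum_congr rfl (fun i _ => ?_)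
  have h7 := congrArg ENat.toNat (hn i)
  rw [ENat.toNat_mul, ENat.toNat_coe] at h7
  rw [← h7, Nat.cast_mul, congrArg α i.2.2.2, mul_assoc]

/-- Let p : X → Y be flat, locally of finite type, of relative dimension r + 1, and i : D → X the zero
scheme of a global section s of an invertible module L which is a nonzerodivisor at every stalk,
with D → Y flat of relative dimension r (a relative effective Cartier divisor). Then for a (k +
1)-cycle α on Y, i^*(p^*α) ∼_rat (p|_D)^*α as (k + r + 1)-cycles on D, flat pullbacks taken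
coefficientwise. (The companion formula c_1(L) ∩ p^*α = i_*((p|_D)^*α) is not stated here.) Here i :
D → X is the zero scheme of a global section s of the invertible module L (Cyc.IsZeroSchemeOf), the
Gysin map i^* : Z_{k+1}(X) → CH_k(D) is computed on coefficient functions as c_1(L) ∩ − with the
rational sections taken to be s where it is nonzero (Cyc.gysinChoice) and restricted to the points
of D, and classes on D are compared up to rational equivalence on D for the restricted dimension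
function. A pair (X, δ) with Cyc.IsSetup plays the role of a scheme locally of finite type over a
base with a dimension function (X locally Noetherian with universally catenary local rings, δ a
dimension function), and Cyc.DeltaCompat records that the dimension function upstairs is the induced
one. -/
theorem result (X Y D : Scheme.{u}) (δX : X → ℤ) (δY : Y → ℤ) (hX : Cyc.IsSetup X δX) (hY : Cyc.IsSetup Y δY) (p : X ⟶ Y) [Flat p] [LocallyOfFiniteType p] (r : ℕ) (hr : Cyc.HasRelDim p (r + 1)) (hδ : Cyc.DeltaCompat p δX δY) (L : X.Modules) (hL : PicF.IsInvertible L) (s : L.presheaf.obj (Opposite.op ⊤)) (hreg : ∀ x : X, Function.Injective (fun a : X.presheaf.stalk x => a • (L.presheaf.germ ⊤ x trivial) s)) (i : D ⟶ X) [IsClosedImmersion i] (hD : Cyc.IsZeroSchemeOf i L s) [Flat (i ≫ p)] (hrD : Cyc.HasRelDim (i ≫ p) r) (k : ℤ) (α : AlgebraicCycle Y ℤ) (hα : α ∈ Cyc.Zk Y δY (k + 1)) (w : (ξ : X) → Cyc.secFibre L ξ) (hw : ∀ ξ, w ξ ≠ 0) (γ ζ : AlgebraicCycle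 D ℤ) (hγ : ∀ d, γ d = Cyc.c1CapFun δX L (Cyc.pullFun p δX δY (r + 1) ⇑α) (Cyc.gysinChoice L s w) (i d)) (hζ : ⇑ζ = Cyc.pullFun (i ≫ p) (fun d => δX (i d)) δY r ⇑α) : Cyc.RatEquiv (fun d => δX (i d)) (k + r + 1) γ ζ := by
  classical
  obtain ⟨hLNX, -, hdimX⟩ := hX
  obtain ⟨hLNY, -, hdimY⟩ := hY
  haveI := hLNX
  haveI := hLNY
  show Cyc.RatEquivZero (fun d => δX (i d)) (k + r + 1) (γ - ζ)
  apply ratEquivZero_of_forall_eq_zero
  intro d
  rw [Function.locallyFinsuppWithin.coe_sub, Pi.sub_apply, hγ d, hζ, sub_eq_zero]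
  have hle : ∀ z : X, δX z ≤ δY (p z) + ((r : ℤ) + 1) := by
    intro z
    have h1 := delta_le_of_hasRelDim X Y δX δY p (r + 1) hr hδ z
    push_cast at h1
    exact h1
  obtain ⟨U, e, hxU, hg⟩ := exists_isGen hL (i d)
  obtain ⟨c, hc0⟩ := stalk_surj hg (i d) hxU (L.presheaf.germ ⊤ (i d) trivial s)
  obtain ⟨t', f', ht', hs', hker⟩ := hD.2 d
  obtain ⟨u, hu, htu⟩ := exists_unit_of_span hg (i d) hxU t' ht'
  have hfc : f' * u = c := by
    have h0 : (f' * u - c) • L.presheaf.germ U (i d) hxU e = 0 := by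
      rw [sub_smul, mul_smul, ← htu, ← hs', hc0, sub_self]
    exact sub_eq_zero.mp (stalk_inj hg (i d) hxU _ h0)
  have hkerc : RingHom.ker (i.stalkMap d).hom = Ideal.span {c} := by
    rw [hker, ← hfc]
    exact (Ideal.span_singleton_mul_right_unit hu _).symm
  have hcm : c ∈ IsLocalRing.maximalIdeal (X.presheaf.stalk (i d)) := by
    by_contra hnm
    have hcu : IsUnit c := by
      by_contra h
      exact hnm ((IsLocalRing.mem_maximalIdeal c).mpr h)
    have h1 : Ideal.span {c} = ⊤ := Ideal.span_singleton_eq_top.mpr hcu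
    have h2 : (1 : X.presheaf.stalk (i d)) ∈ RingHom.ker (i.stalkMap d).hom := by
      rw [hkerc, h1]
      trivial
    rw [RingHom.mem_ker, map_one] at h2
    exact one_ne_zero h2
  have hregB : IsSMulRegular (X.presheaf.stalk (i d)) c := by
    intro a b hab
    have hab' : c * a = c * b := hab
    apply hreg (i d)
    show a • (L.presheaf.germ ⊤ (i d) trivial) s = b • (L.presheaf.germ ⊤ (i d) trivial) s
    rw [hc0, ← mul_smul, ← mul_smul, mul_comm a c, mul_comm b c, hab']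
  have hhom : ((i ≫ p).stalkMap d).hom =
      (i.stalkMap d).hom.comp (p.stalkMap (i d)).hom := by
    rw [Scheme.Hom.stalkMap_comp]; rfl
  have hregN : IsSMulRegular (X.presheaf.stalk (i d) ⧸ Ideal.map (p.stalkMap (i d)).hom
      (IsLocalRing.maximalIdeal (Y.presheaf.stalk (p (i d))))) c := by
    letI := (p.stalkMap (i d)).hom.toAlgebra
    have hfl : ((i.stalkMap d).hom.comp (algebraMap (Y.presheaf.stalk (p (i d)))
        (X.presheaf.stalk (i d)))).Flat := by
      have h := Flat.stalkMap (i ≫ p) d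
      rw [hhom] at h
      exact h
    haveI := flat_quot_of_surjective (A := Y.presheaf.stalk (p (i d))) (i.stalkMap d).hom
      (i.stalkMap_surjective d) c hkerc hfl
    exact isSMulRegular_quot_of_flat_quot
      (IsLocalRing.maximalIdeal (Y.presheaf.stalk (p (i d)))) c hregB
  by_cases hcase : δX (i d) = δY (p (i d)) + r
  · rw [c1Cap_pullFun_eq δX δY hdimX hdimY p r hle hg s ⇑α w (i d) hxU hcase c hc0 hcm hregN]
    have hR : Cyc.pullFun (i ≫ p) (fun d => δX (i d)) δY r ⇑α d =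
        α ((i ≫ p) d) * ((Module.length (D.presheaf.stalk d) (D.presheaf.stalk d ⧸
          Ideal.map ((i ≫ p).stalkMap d).hom
            (IsLocalRing.maximalIdeal (Y.presheaf.stalk ((i ≫ p) d))))).toNat : ℤ) :=
      if_pos hcase
    rw [hR]
    have hI : Ideal.map ((i ≫ p).stalkMap d).hom
        (IsLocalRing.maximalIdeal (Y.presheaf.stalk ((i ≫ p) d))) =
        Ideal.map (i.stalkMap d).hom (Ideal.map (p.stalkMap (i d)).hom
          (IsLocalRing.maximalIdeal (Y.presheaf.stalk (p (i d))))) := by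
      rw [Ideal.map_map, hhom]
      rfl
    rw [Groth.Agent.S6479.length_congr _ _ hI,
      length_quot_map_of_surjective (i.stalkMap d).hom (i.stalkMap_surjective d) _, hkerc]
    rfl
  · have hR : Cyc.pullFun (i ≫ p) (fun d => δX (i d)) δY r ⇑α d = 0 := if_neg hcase
    rw [hR]
    show (∑ᶠ ξ : X, Cyc.pullFun p δX δY ((r : ℤ) + 1) ⇑α ξ *
      Cyc.secDivFun δX L ξ (Cyc.gysinChoice L s w ξ) (i d)) = 0
    apply finsum_eq_zero_of_forall_eq_zero
    intro ξ
    by_cases hc : ξ ⤳ i d ∧ δX (i d) + 1 = δX ξ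
    swap
    · have h2 : Cyc.secDivFun δX L ξ (Cyc.gysinChoice L s w ξ) (i d) = 0 := by
        unfold Cyc.secDivFun
        rw [dif_neg hc]
      rw [h2, mul_zero]
    by_cases h2 : δX ξ = δY (p ξ) + ((r : ℤ) + 1)
    swap
    · have h3 : Cyc.pullFun p δX δY ((r : ℤ) + 1) ⇑α ξ = 0 := if_neg h2
      rw [h3, zero_mul]
    exfalso
    have hsp : p ξ ⤳ p (i d) := p.base.hom.map_specializes hc.1
    have hpne : p ξ ≠ p (i d) := by
      intro h
      apply hcase
      rw [← h]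
      have := hc.2
      omega
    have h3 := (hdimY (p ξ) (p (i d)) hsp hpne).1
    have h4 := hle (i d)
    have h5 : δX (i d) = δY (p (i d)) + ((r : ℤ) + 1) := by
      have := hc.2
      omega
    have hgen : ∀ z, p z = p (i d) → z ⤳ i d → z = i d := by
      intro z hz1 hz2
      by_contra hne
      have h6 := (hdimX z (i d) hz2 hne).1
      have h7 := hle z
      rw [hz1] at h7
      omega
    have hfin := length_fibre_ne_top p (i d) hgen
    have hJm : Ideal.map (p.stalkMap (i d)).hom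
        (IsLocalRing.maximalIdeal (Y.presheaf.stalk (p (i d)))) ≤
        IsLocalRing.maximalIdeal (X.presheaf.stalk (i d)) := by
      rw [Ideal.map_le_iff_le_comap]
      intro a ha
      exact map_nonunit (p.stalkMap (i d)).hom a ha
    exact false_of_regular_of_length_ne_top _ hJm c hcm hregN hfin

end Groth.Agent.S1945
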