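import Groth.Statements.S19452
import Mathlib
import Groth.Agent.Lib.Helper8.LocalCriterion
import Groth.Agent.Lib.Helper9.FlatSqZero

set_option autoImplicit false
universe u
attribute [local instance] W4c6puncthilbintro.dualAlgebra
open HilbD

namespace Groth.Agent.S19452


open TensorProduct DualNumber TrivSqZeroExt W4c6puncthilbintro

/-- Local criterion over a nilpotent ideal, phrased with a surjection `R → S` with kernel `K` and a
surjection `M → Q` with kernel `K M` onto a flat `S`-module. -/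
theorem flat_of_nilpotent_of_surjective {R : Type u} [CommRing R] (K : Ideal R) (hK : IsNilpotent K)
    {S : Type u} [CommRing S] [Algebra R S] (hS : Function.Surjective (algebraMap R S))
    (hKS : RingHom.ker (algebraMap R S) = K)
    {M : Type u} [AddCommGroup M] [Module R M]
    {Q : Type u} [AddCommGroup Q] [Module R Q] [Module S Q] [IsScalarTower R S Q] [Module.Flat S Q]
    (q : M →ₗ[R] Q) (hq : Function.Surjective q)
    (hker : LinearMap.ker q ≤ K • (⊤ : Submodule R M))
    (H2 : Function.Injective (K.subtype.rTensor M)) : Module.Flat R M := by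
  have hkerq : K • (⊤ : Submodule R M) = LinearMap.ker q := by
    refine le_antisymm ?_ hker
    rw [Submodule.smul_le]
    intro k hk m _
    rw [LinearMap.mem_ker, map_smul, ← algebraMap_smul S k (q m)]
    rw [← hKS, RingHom.mem_ker] at hk
    rw [hk, zero_smul]
  have hS' : Function.Surjective (Algebra.ofId R S) := hS
  have hker' : RingHom.ker (Algebra.ofId R S) = K := by
    rw [← hKS]
    ext x
    exact Iff.rfl
  let e₁ : S ≃ₐ[R] R ⧸ K :=
    (Ideal.quotientKerAlgEquivOfSurjective hS').symm.trans (Ideal.quotientEquivAlgOfEq R hker')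
  let e₂ : S ⊗[R] M ≃ₗ[R] Q :=
    (TensorProduct.congr e₁.toLinearEquiv (LinearEquiv.refl R M)) ≪≫ₗ
      (TensorProduct.quotTensorEquivQuotSMul M K) ≪≫ₗ
      (Submodule.quotEquivOfEq _ _ hkerq) ≪≫ₗ (q.quotKerEquivOfSurjective hq)
  haveI : Module.Flat S (S ⊗[R] M) := Module.Flat.of_linearEquiv (e₂.extendScalarsOfSurjective hS)
  haveI : Module.Flat (R ⧸ K) ((R ⧸ K) ⊗[R] M) :=
    Groth.Agent.Lib.Helper9.FlatSqZero.flat_of_algHom e₁.toAlgHom M
  exact Groth.Agent.Lib.Helper8.flat_of_isNilpotent K hK this H2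

lemma rTensor_span_eps_injective {A : Type u} [CommRing A] {N : Type u} [AddCommGroup N]
    [Module (DualNumber A) N]
    (htor : ∀ n : N, (ε : DualNumber A) • n = 0 → ∃ n', n = (ε : DualNumber A) • n') :
    Function.Injective ((Ideal.span {(ε : DualNumber A)}).subtype.rTensor N) := by
  have hε : (ε : DualNumber A) ∈ Ideal.span {(ε : DualNumber A)} := Ideal.subset_span rfl
  have hform : ∀ x : (Ideal.span {(ε : DualNumber A)}) ⊗[DualNumber A] N,
      ∃ n : N, x = (⟨ε, hε⟩ : Ideal.span {(ε : DualNumber A)}) ⊗ₜ[DualNumber A] n := by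
    intro x
    induction x using TensorProduct.induction_on with
    | zero => exact ⟨0, by rw [TensorProduct.tmul_zero]⟩
    | tmul k n =>
      obtain ⟨k, hk⟩ := k
      obtain ⟨d, rfl⟩ := Ideal.mem_span_singleton'.mp hk
      refine ⟨d • n, ?_⟩
      have h1 : (⟨d * ε, hk⟩ : Ideal.span {(ε : DualNumber A)}) = d • ⟨ε, hε⟩ := Subtype.ext rfl
      rw [h1, TensorProduct.smul_tmul]
    | add x y hx hy =>
      obtain ⟨n₁, rfl⟩ := hx
      obtain ⟨n₂, rfl⟩ := hy
      exact ⟨n₁ + n₂, by rw [TensorProduct.tmul_add]⟩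
  rw [injective_iff_map_eq_zero]
  intro x hx
  obtain ⟨n, rfl⟩ := hform x
  have h1 : (ε : DualNumber A) • n = 0 := by
    have h := congrArg (TensorProduct.lid (DualNumber A) N) hx
    rw [LinearMap.rTensor_tmul, TensorProduct.lid_tmul, map_zero] at h
    exact h
  obtain ⟨n', rfl⟩ := htor n h1
  rw [← TensorProduct.smul_tmul]
  have h2 : (ε : DualNumber A) • (⟨ε, hε⟩ : Ideal.span {(ε : DualNumber A)}) = 0 :=
    Subtype.ext (by simp)
  rw [h2, TensorProduct.zero_tmul]

/-- Flatness over the dual numbers. -/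
theorem flat_dualNumber {A : Type u} [CommRing A] {N : Type u} [AddCommGroup N]
    [Module (DualNumber A) N] {Q : Type u} [AddCommGroup Q] [Module A Q] [Module.Flat A Q]
    (q : N →+ Q) (hq : ∀ (d : DualNumber A) (n : N), q (d • n) = d.fst • q n)
    (hsurj : Function.Surjective q)
    (hker : ∀ n, q n = 0 → ∃ n', n = (ε : DualNumber A) • n')
    (htor : ∀ n : N, (ε : DualNumber A) • n = 0 → ∃ n', n = (ε : DualNumber A) • n') :
    Module.Flat (DualNumber A) N := by
  have hε : (ε : DualNumber A) ∈ Ideal.span {(ε : DualNumber A)} := Ideal.subset_span rfl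
  have hK : IsNilpotent (Ideal.span {(ε : DualNumber A)}) :=
    ⟨2, by rw [Ideal.span_singleton_pow, DualNumber.eps_pow_two, Ideal.zero_eq_bot,
      Ideal.span_singleton_eq_bot]⟩
  have H2 := rTensor_span_eps_injective (A := A) (N := N) htor
  letI : Module (DualNumber A) Q := Module.compHom Q (TrivSqZeroExt.fstHom A A A).toRingHom
  let qL : N →ₗ[DualNumber A] Q :=
    { toFun := q
      map_add' := map_add q
      map_smul' := fun d n => hq d n }
  have hqL : Function.Surjective qL := hsurj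
  have hker' : LinearMap.ker qL ≤
      (Ideal.span {(ε : DualNumber A)}) • (⊤ : Submodule (DualNumber A) N) := by
    intro n hn
    obtain ⟨n', rfl⟩ := hker n (LinearMap.mem_ker.mp hn)
    exact Submodule.smul_mem_smul hε Submodule.mem_top
  letI : Algebra (DualNumber A) A := (TrivSqZeroExt.fstHom A A A).toRingHom.toAlgebra
  haveI : IsScalarTower (DualNumber A) A Q := IsScalarTower.of_algebraMap_smul (fun _ _ => rfl)
  have hS : Function.Surjective (algebraMap (DualNumber A) A) := fun a => ⟨inl a, rfl⟩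
  have hKS : RingHom.ker (algebraMap (DualNumber A) A) = Ideal.span {(ε : DualNumber A)} := by
    ext x
    rw [RingHom.mem_ker, Ideal.mem_span_singleton']
    show x.fst = 0 ↔ _
    constructor
    · intro h
      refine ⟨inl x.snd, ?_⟩
      ext <;> simp [h]
    · rintro ⟨d, rfl⟩
      simp
  exact flat_of_nilpotent_of_surjective _ hK hS hKS qL hqL hker' H2

section lift

variable {A : Type u} [CommRing A] {R : Type u} [CommRing R] [Algebra A R]

lemma dualMap_apply (d : DualNumber A) :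
    dualMap A R d = inl (algebraMap A R d.fst) + inl (algebraMap A R d.snd) * ε := rfl

lemma dualMap_fst (d : DualNumber A) : (dualMap A R d).fst = algebraMap A R d.fst := by
  rw [dualMap_apply]; simp

lemma smul_mk (J : Ideal (DualNumber R)) (d : DualNumber A) (x : DualNumber R) :
    d • (Ideal.Quotient.mk J x) = Ideal.Quotient.mk J (dualMap A R d * x) := rfl

lemma eps_smul_mk (J : Ideal (DualNumber R)) (x : DualNumber R) :
    (ε : DualNumber A) • (Ideal.Quotient.mk J x) = Ideal.Quotient.mk J (ε * x) := by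
  rw [smul_mk, dualMap_eps]

/-- The reduction `R[ε]/J → R/I`. -/
noncomputable def gbar (I : Ideal R) (J : Ideal (DualNumber R)) (hJ1 : ∀ x ∈ J, x.fst ∈ I) :
    DualNumber R ⧸ J →+* R ⧸ I :=
  Ideal.Quotient.lift J ((Ideal.Quotient.mk I).comp (TrivSqZeroExt.fstHom R R R).toRingHom)
    (fun x hx => Ideal.Quotient.eq_zero_iff_mem.mpr (hJ1 x hx))

lemma gbar_mk (I : Ideal R) (J : Ideal (DualNumber R)) (hJ1 : ∀ x ∈ J, x.fst ∈ I)
    (x : DualNumber R) :
    gbar I J hJ1 (Ideal.Quotient.mk J x) = Ideal.Quotient.mk I x.fst := rfl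

lemma gbar_smul (I : Ideal R) (J : Ideal (DualNumber R)) (hJ1 : ∀ x ∈ J, x.fst ∈ I)
    (d : DualNumber A) (n : DualNumber R ⧸ J) :
    gbar I J hJ1 (d • n) = d.fst • gbar I J hJ1 n := by
  obtain ⟨x, rfl⟩ := Ideal.Quotient.mk_surjective n
  rw [smul_mk, gbar_mk, gbar_mk, TrivSqZeroExt.fst_mul, dualMap_fst]
  show _ = Ideal.Quotient.mk I (d.fst • x.fst)
  rw [Algebra.smul_def]

lemma mem_liftIdeal {I : Ideal R} {φ : I →ₗ[R] R ⧸ I} {x : DualNumber R} :
    x ∈ liftIdeal I φ ↔ ∃ h : x.fst ∈ I, Ideal.Quotient.mk I x.snd = φ ⟨x.fst, h⟩ := Iff.rfl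

lemma mem_liftIdeal_add {I : Ideal R} {φ : I →ₗ[R] R ⧸ I} (a b : R) :
    (inl a + inr b : DualNumber R) ∈ liftIdeal I φ ↔
      ∃ h : a ∈ I, Ideal.Quotient.mk I b = φ ⟨a, h⟩ := by
  have hf : (inl a + inr b : DualNumber R).fst = a := by simp
  have hs : (inl a + inr b : DualNumber R).snd = b := by simp
  rw [mem_liftIdeal]
  constructor
  · rintro ⟨h, h'⟩
    have h2 : a ∈ I := hf ▸ h
    refine ⟨h2, ?_⟩
    rw [hs] at h'
    rw [h']
    congr 1
    exact Subtype.ext hf
  · rintro ⟨h, h'⟩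
    have h2 : (inl a + inr b : DualNumber R).fst ∈ I := hf.symm ▸ h
    refine ⟨h2, ?_⟩
    rw [hs, h']
    congr 1
    exact Subtype.ext hf.symm

theorem flat_quot (I : Ideal R) [Module.Flat A (R ⧸ I)] (J : Ideal (DualNumber R))
    (hJ1 : ∀ x ∈ J, x.fst ∈ I) (hJ2 : ∀ a ∈ I, ∃ b, (inl a + inr b : DualNumber R) ∈ J)
    (hJ3 : ∀ b, (inr b : DualNumber R) ∈ J → b ∈ I) :
    Module.Flat (DualNumber A) (DualNumber R ⧸ J) := by
  have hker : ∀ n : DualNumber R ⧸ J, (gbar I J hJ1).toAddMonoidHom n = 0 →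
      ∃ n', n = (ε : DualNumber A) • n' := by
    intro n hn
    obtain ⟨x, rfl⟩ := Ideal.Quotient.mk_surjective n
    change gbar I J hJ1 (Ideal.Quotient.mk J x) = 0 at hn
    rw [gbar_mk, Ideal.Quotient.eq_zero_iff_mem] at hn
    obtain ⟨b', hb'⟩ := hJ2 x.fst hn
    refine ⟨Ideal.Quotient.mk J (inl (x.snd - b')), ?_⟩
    rw [eps_smul_mk, Ideal.Quotient.eq]
    have h1 : x - ε * inl (x.snd - b') = inl x.fst + inr b' := by
      ext <;> simp
    rw [h1]
    exact hb'
  apply flat_dualNumber (A := A) (Q := R ⧸ I) (gbar I J hJ1).toAddMonoidHom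
  · intro d n
    exact gbar_smul I J hJ1 d n
  · intro y
    obtain ⟨r, rfl⟩ := Ideal.Quotient.mk_surjective y
    exact ⟨Ideal.Quotient.mk J (inl r), rfl⟩
  · exact hker
  · intro n hn
    apply hker
    obtain ⟨x, rfl⟩ := Ideal.Quotient.mk_surjective n
    rw [eps_smul_mk, Ideal.Quotient.eq_zero_iff_mem] at hn
    have h2 : (ε * x : DualNumber R) = inr x.fst := by
      ext <;> simp
    rw [h2] at hn
    show gbar I J hJ1 (Ideal.Quotient.mk J x) = 0
    rw [gbar_mk]
    exact Ideal.Quotient.eq_zero_iff_mem.mpr (hJ3 _ hn)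

lemma map_fst_eq (I : Ideal R) (J : Ideal (DualNumber R))
    (hJ1 : ∀ x ∈ J, x.fst ∈ I) (hJ2 : ∀ a ∈ I, ∃ b, (inl a + inr b : DualNumber R) ∈ J) :
    Ideal.map (TrivSqZeroExt.fstHom A R R) J = I := by
  apply le_antisymm
  · rw [Ideal.map_le_iff_le_comap]
    intro x hx
    exact hJ1 x hx
  · intro a ha
    obtain ⟨b, hb⟩ := hJ2 a ha
    have := Ideal.mem_map_of_mem (TrivSqZeroExt.fstHom A R R) hb
    simpa using this

lemma mem_of_inr_mem_of_flat (I : Ideal R) (J : Ideal (DualNumber R))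
    (hJ1 : ∀ x ∈ J, x.fst ∈ I) [Module.Flat (DualNumber A) (DualNumber R ⧸ J)] (b : R)
    (hb : (inr b : DualNumber R) ∈ J) : b ∈ I := by
  have h0 : ∑ _i : Unit, (ε : DualNumber A) • (Ideal.Quotient.mk J (inl b)) = 0 := by
    rw [Fintype.sum_unique, eps_smul_mk, Ideal.Quotient.eq_zero_iff_mem]
    have : (ε * inl b : DualNumber R) = inr b := by ext <;> simp
    rw [this]
    exact hb
  obtain ⟨k, a, y, h1, h2⟩ := Module.Flat.isTrivialRelation_of_sum_smul_eq_zero (ι := Unit)
    (f := fun _ => (ε : DualNumber A)) (x := fun _ => Ideal.Quotient.mk J (inl b)) h0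
  have h3 : ∀ j, (a () j).fst = 0 := by
    intro j
    have h4 := h2 j
    rw [Fintype.sum_unique] at h4
    have h5 := congrArg TrivSqZeroExt.snd h4
    rw [DualNumber.snd_mul, DualNumber.fst_eps, DualNumber.snd_eps, zero_mul, one_mul, zero_add,
      TrivSqZeroExt.snd_zero] at h5
    exact h5
  have h5 : gbar I J hJ1 (Ideal.Quotient.mk J (inl b)) = gbar I J hJ1 (∑ j, a () j • y j) :=
    congrArg (gbar I J hJ1) (h1 ())
  rw [gbar_mk, TrivSqZeroExt.fst_inl, map_sum] at h5
  rw [← Ideal.Quotient.eq_zero_iff_mem, h5]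
  apply Finset.sum_eq_zero
  intro j _
  rw [gbar_smul, h3 j, zero_smul]

end lift

/-- Let A be a commutative ring, R a commutative A-algebra free as an A-module, I an ideal of R with R/I
flat over A, and view the dual numbers R[ε] as an algebra over A[ε] (ε ↦ ε). For φ : I → R/I linear
over R, let J_φ be the ideal of elements a + bε of R[ε] with a ∈ I and b ≡ φ(a) modulo I. Then each
R[ε]/J_φ is flat over A[ε] and J_φ reduces to I modulo ε; the assignment φ ↦ J_φ is injective; and
every ideal J of R[ε] with R[ε]/J flat over A[ε] which reduces to I modulo ε equals some J_φ. Thus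
the first-order liftings of I correspond one-to-one to Hom_R(I, R/I) (the tangent space of the
Hilbert scheme at I). -/
theorem result (A : Type u) [CommRing A] (R : Type u) [CommRing R]
    [Algebra A R] [Module.Free A R] (I : Ideal R) [Module.Flat A (R ⧸ I)] :
    (∀ φ : I →ₗ[R] R ⧸ I,
        Module.Flat (DualNumber A) (DualNumber R ⧸ W4c6puncthilbintro.liftIdeal I φ) ∧
          Ideal.map (TrivSqZeroExt.fstHom A R R) (W4c6puncthilbintro.liftIdeal I φ) = I) ∧
      Function.Injective (W4c6puncthilbintro.liftIdeal I) ∧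
      ∀ J : Ideal (DualNumber R), Module.Flat (DualNumber A) (DualNumber R ⧸ J) →
        Ideal.map (TrivSqZeroExt.fstHom A R R) J = I →
          ∃ φ : I →ₗ[R] R ⧸ I, J = W4c6puncthilbintro.liftIdeal I φ := by
  have hsurjfst : Function.Surjective (TrivSqZeroExt.fstHom A R R) := fun r => ⟨inl r, rfl⟩
  refine ⟨?_, ?_, ?_⟩
  · intro φ
    have hJ1 : ∀ x ∈ liftIdeal I φ, x.fst ∈ I := by
      intro x hx
      obtain ⟨h, _⟩ := mem_liftIdeal.mp hx
      exact h
    have hJ2 : ∀ a ∈ I, ∃ b, (inl a + inr b : DualNumber R) ∈ liftIdeal I φ := by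
      intro a ha
      obtain ⟨b, hb⟩ := Ideal.Quotient.mk_surjective (φ ⟨a, ha⟩)
      exact ⟨b, (mem_liftIdeal_add a b).mpr ⟨ha, hb⟩⟩
    have hJ3 : ∀ b, (inr b : DualNumber R) ∈ liftIdeal I φ → b ∈ I := by
      intro b hb
      have h := (mem_liftIdeal_add (I := I) (φ := φ) 0 b).mp (by simpa using hb)
      obtain ⟨h0, h1⟩ := h
      have h2 : (⟨0, h0⟩ : I) = 0 := rfl
      rw [h2, map_zero] at h1
      exact Ideal.Quotient.eq_zero_iff_mem.mp h1
    exact ⟨flat_quot I _ hJ1 hJ2 hJ3, map_fst_eq I _ hJ1 hJ2⟩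
  · intro φ ψ h
    apply LinearMap.ext
    rintro ⟨a, ha⟩
    obtain ⟨b, hb⟩ := Ideal.Quotient.mk_surjective (φ ⟨a, ha⟩)
    have hmem : (inl a + inr b : DualNumber R) ∈ liftIdeal I φ :=
      (mem_liftIdeal_add a b).mpr ⟨ha, hb⟩
    rw [h] at hmem
    obtain ⟨_, h2⟩ := (mem_liftIdeal_add a b).mp hmem
    rw [← hb]
    exact h2
  · intro J hflat hmap
    haveI := hflat
    have hJ1 : ∀ x ∈ J, x.fst ∈ I := by
      intro x hx
      have := Ideal.mem_map_of_mem (TrivSqZeroExt.fstHom A R R) hx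
      rw [hmap] at this
      exact this
    have hJ2 : ∀ a ∈ I, ∃ b, (inl a + inr b : DualNumber R) ∈ J := by
      intro a ha
      rw [← hmap] at ha
      obtain ⟨y, hy, rfl⟩ := (Ideal.mem_map_iff_of_surjective _ hsurjfst).mp ha
      refine ⟨y.snd, ?_⟩
      have : (inl ((TrivSqZeroExt.fstHom A R R) y) + inr y.snd : DualNumber R) = y :=
        TrivSqZeroExt.inl_fst_add_inr_snd_eq y
      rw [this]
      exact hy
    have hJ3 : ∀ b, (inr b : DualNumber R) ∈ J → b ∈ I :=
      fun b hb => mem_of_inr_mem_of_flat (A := A) I J hJ1 b hb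
    have hJ3' : ∀ b ∈ I, (inr b : DualNumber R) ∈ J := by
      intro b hb
      obtain ⟨b', hb'⟩ := hJ2 b hb
      have : (inr b : DualNumber R) = ε * (inl b + inr b') := by ext <;> simp
      rw [this]
      exact J.mul_mem_left _ hb'
    have W : ∀ a b b' : R, (inl a + inr b : DualNumber R) ∈ J → (inl a + inr b' : DualNumber R) ∈ J →
        Ideal.Quotient.mk I b = Ideal.Quotient.mk I b' := by
      intro a b b' h1 h2
      rw [Ideal.Quotient.eq]
      apply hJ3
      have : (inr (b - b') : DualNumber R) = (inl a + inr b) - (inl a + inr b') := by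
        ext <;> simp
      rw [this]
      exact J.sub_mem h1 h2
    choose! c hc using hJ2
    let φ : I →ₗ[R] R ⧸ I :=
      { toFun := fun a => Ideal.Quotient.mk I (c a.1)
        map_add' := fun a a' => by
          rw [← map_add]
          apply W (a.1 + a'.1) _ _ (hc _ (a + a').2)
          have h3 := J.add_mem (hc a.1 a.2) (hc a'.1 a'.2)
          convert h3 using 1
          ext <;> simp
        map_smul' := fun r a => by
          show Ideal.Quotient.mk I (c (r * a.1)) = Ideal.Quotient.mk I (r * c a.1)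
          apply W (r * a.1) _ _ (hc _ (I.mul_mem_left r a.2))
          have h3 := J.mul_mem_left (inl r) (hc a.1 a.2)
          convert h3 using 1
          ext <;> simp }
    refine ⟨φ, ?_⟩
    ext x
    obtain ⟨a, b, rfl⟩ : ∃ a b, x = inl a + inr b :=
      ⟨x.fst, x.snd, (TrivSqZeroExt.inl_fst_add_inr_snd_eq x).symm⟩
    rw [mem_liftIdeal_add]
    constructor
    · intro hx
      have h1 : a ∈ I := by simpa using hJ1 _ hx
      exact ⟨h1, W a b (c a) hx (hc _ h1)⟩
    · rintro ⟨h1, h2⟩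
      have h3 : b - c a ∈ I := Ideal.Quotient.eq.mp h2
      have h4 := J.add_mem (hc _ h1) (hJ3' _ h3)
      convert h4 using 1
      ext <;> simp

end Groth.Agent.S19452
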