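import Groth.Statements.S19453
import Mathlib
import Groth.Agent.Lib.Helper9.RegLocal

set_option autoImplicit false
universe u
open CAlg

namespace Groth.Agent.S19453


section
open IsLocalRing Groth.Agent.Lib.Helper9.RegLocal Polynomial

lemma mk_mem_maximalIdeal_iff {A : Type u} [CommRing A] [IsLocalRing A] (J : Ideal A)
    (hJ : J ≤ maximalIdeal A) [IsLocalRing (A ⧸ J)] {a : A} :
    Ideal.Quotient.mk J a ∈ maximalIdeal (A ⧸ J) ↔ a ∈ maximalIdeal A := by
  constructor
  · intro h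
    by_contra ha
    have hu : IsUnit a := IsLocalRing.notMem_maximalIdeal.mp ha
    exact (IsLocalRing.notMem_maximalIdeal.mpr (hu.map (Ideal.Quotient.mk J))) h
  · intro ha
    by_contra h
    have hu : IsUnit (Ideal.Quotient.mk J a) := IsLocalRing.notMem_maximalIdeal.mp h
    obtain ⟨b, hb⟩ := hu.exists_right_inv
    obtain ⟨b, rfl⟩ := Ideal.Quotient.mk_surjective b
    rw [← map_mul, ← map_one (Ideal.Quotient.mk J), Ideal.Quotient.eq] at hb
    have h1 : (1 : A) ∈ maximalIdeal A := by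
      have h2 : a * b - (a * b - 1) ∈ maximalIdeal A :=
        Ideal.sub_mem _ (Ideal.mul_mem_right _ _ ha) (hJ hb)
      simpa using h2
    exact (Ideal.ne_top_iff_one _).mp (maximalIdeal.isMaximal A).ne_top h1

theorem aux (k : Type u) [Field k]
    (A : Type u) [CommRing A] [Algebra k A] [IsRegularLocalRing A] (hdim : ringKrullDim A = 2)
    (hres : Function.Surjective (algebraMap k (ResidueField A)))
    (I : Ideal A) [Module.Finite k (A ⧸ I)] (n : ℕ) (hn : Module.finrank k (A ⧸ I) = n)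
    (h1 : 1 ≤ n) (g : A) (hgI : g ∈ I) (hg : g ∉ maximalIdeal A ^ 2) :
    Nonempty ((A ⧸ I) ≃ₐ[k] (k[X] ⧸ Ideal.span {(X : k[X]) ^ n})) := by
  classical
  haveI hBnt : Nontrivial (A ⧸ I) := Module.nontrivial_of_finrank_pos (R := k) (by omega)
  have hItop : I ≠ ⊤ := Ideal.Quotient.nontrivial_iff.mp hBnt
  have hIm : I ≤ maximalIdeal A := le_maximalIdeal hItop
  have hgm : g ∈ maximalIdeal A := hIm hgI
  let x : Fin 1 → maximalIdeal A := fun _ => ⟨g, hgm⟩
  have hx : LinearIndependent (ResidueField A)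
      (fun i => (maximalIdeal A).toCotangent (x i)) := by
    rw [linearIndependent_unique_iff]
    show (maximalIdeal A).toCotangent ⟨g, hgm⟩ ≠ 0
    rw [Ne, Ideal.toCotangent_eq_zero]
    exact hg
  obtain ⟨hq1, hq2⟩ := quotient_regular A 1 x hx
  have hJ : Ideal.span (Set.range fun i => (x i : A)) = Ideal.span {g} := by
    congr 1; ext a; simp [x]
  rw [hJ] at hq1 hq2
  haveI := hq2
  haveI : IsDomain (A ⧸ Ideal.span {g}) := isDomain_of_isRegularLocalRing _
  have hnq : (maximalIdeal (A ⧸ Ideal.span {g})).spanFinrank = 1 := by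
    have h5 : ((maximalIdeal (A ⧸ Ideal.span {g})).spanFinrank : WithBot ℕ∞) +
        ((1 : ℕ) : WithBot ℕ∞) = ((2 : ℕ) : WithBot ℕ∞) := by
      rw [IsRegularLocalRing.spanFinrank_maximalIdeal, hq1, hdim]; rfl
    have h6 : (maximalIdeal (A ⧸ Ideal.span {g})).spanFinrank + 1 = 2 := by
      exact_mod_cast h5
    omega
  have hfr : Module.finrank (ResidueField (A ⧸ Ideal.span {g}))
      (CotangentSpace (A ⧸ Ideal.span {g})) ≤ 1 := by
    rw [← spanFinrank_maximalIdeal_eq_finrank_cotangentSpace, hnq]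
  have hprin : (maximalIdeal (A ⧸ Ideal.span {g})).IsPrincipal :=
    ((tfae_of_isNoetherianRing_of_isLocalRing_of_isDomain
      (A ⧸ Ideal.span {g})).out 5 4).mp hfr
  obtain ⟨τ₀, hτ₀⟩ := hprin.principal
  obtain ⟨t, rfl⟩ := Ideal.Quotient.mk_surjective τ₀
  have hgm' : Ideal.span {g} ≤ maximalIdeal A := (Ideal.span_singleton_le_iff_mem _).mpr hgm
  have htm : t ∈ maximalIdeal A := by
    rw [← mk_mem_maximalIdeal_iff (Ideal.span {g}) hgm', hτ₀]
    exact Submodule.mem_span_singleton_self _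
  have hmA : ∀ a ∈ maximalIdeal A, ∃ c : A, a - c * t ∈ Ideal.span {g} := by
    intro a ha
    have h1 : Ideal.Quotient.mk (Ideal.span {g}) a ∈ maximalIdeal (A ⧸ Ideal.span {g}) :=
      (mk_mem_maximalIdeal_iff (Ideal.span {g}) hgm').mpr ha
    rw [hτ₀] at h1
    obtain ⟨c, hc⟩ := Submodule.mem_span_singleton.mp h1
    obtain ⟨c, rfl⟩ := Ideal.Quotient.mk_surjective c
    refine ⟨c, ?_⟩
    rw [← Ideal.Quotient.eq, ← hc, smul_eq_mul, map_mul]
  -- the quotient B = A ⧸ I
  haveI : IsLocalRing (A ⧸ I) :=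
    IsLocalRing.of_surjective' (Ideal.Quotient.mk I) Ideal.Quotient.mk_surjective
  haveI : IsArtinianRing (A ⧸ I) := IsArtinianRing.of_finite k (A ⧸ I)
  set τ : A ⧸ I := Ideal.Quotient.mk I t with hτ
  have hτm : τ ∈ maximalIdeal (A ⧸ I) := (mk_mem_maximalIdeal_iff I hIm).mpr htm
  have hmB : ∀ b ∈ maximalIdeal (A ⧸ I), ∃ b', b = τ * b' := by
    intro b hb
    obtain ⟨a, rfl⟩ := Ideal.Quotient.mk_surjective b
    have ha : a ∈ maximalIdeal A := (mk_mem_maximalIdeal_iff I hIm).mp hb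
    obtain ⟨c, hc⟩ := hmA a ha
    obtain ⟨d, hd⟩ := Ideal.mem_span_singleton'.mp hc
    refine ⟨Ideal.Quotient.mk I c, ?_⟩
    have : a = c * t + d * g := by rw [hd]; ring
    rw [this, map_add, map_mul, map_mul, Ideal.Quotient.eq_zero_iff_mem.mpr hgI, mul_zero,
      add_zero, mul_comm]
  have hresB : ∀ b : A ⧸ I, ∃ c : k, b - algebraMap k (A ⧸ I) c ∈ maximalIdeal (A ⧸ I) := by
    intro b
    obtain ⟨a, rfl⟩ := Ideal.Quotient.mk_surjective b
    obtain ⟨c, hc⟩ := hres (residue A a)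
    refine ⟨c, ?_⟩
    have h2 : a - algebraMap k A c ∈ maximalIdeal A := by
      rw [← residue_eq_zero_iff, map_sub, ← hc, IsScalarTower.algebraMap_apply k A (ResidueField A),
        ResidueField.algebraMap_eq, sub_self]
    have h3 := (mk_mem_maximalIdeal_iff I hIm).mpr h2
    rwa [map_sub] at h3
  -- nilpotency
  obtain ⟨N, hN⟩ : IsNilpotent (maximalIdeal (A ⧸ I)) := by
    have := IsArtinianRing.isNilpotent_jacobson_bot (R := A ⧸ I)
    rwa [IsLocalRing.jacobson_eq_maximalIdeal ⊥ bot_ne_top] at this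
  have hτN : τ ^ N = 0 := by
    have : τ ^ N ∈ maximalIdeal (A ⧸ I) ^ N := Ideal.pow_mem_pow hτm N
    rw [hN] at this
    exact this
  -- the map
  let ψ : k[X] →ₐ[k] (A ⧸ I) := aeval τ
  have hψs : Function.Surjective ψ := by
    have key : ∀ j : ℕ, ∀ b : A ⧸ I, ∃ (p : k[X]) (b' : A ⧸ I), b - ψ p = τ ^ j * b' := by
      intro j
      induction j with
      | zero => intro b; exact ⟨0, b, by simp⟩
      | succ j ih =>
        intro b
        obtain ⟨p, b', hp⟩ := ih b
        obtain ⟨c, hc⟩ := hresB b'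
        obtain ⟨b'', hb''⟩ := hmB _ hc
        refine ⟨p + C c * X ^ j, b'', ?_⟩
        have h4 : ψ (C c * X ^ j) = algebraMap k (A ⧸ I) c * τ ^ j := by
          simp [ψ]
        rw [map_add, h4, ← sub_sub, hp, pow_succ, mul_assoc, ← hb'']
        ring
    intro b
    obtain ⟨p, b', hp⟩ := key N b
    rw [hτN, zero_mul, sub_eq_zero] at hp
    exact ⟨p, hp.symm⟩
  -- kernel
  obtain ⟨q, hq⟩ := (IsPrincipalIdealRing.principal (RingHom.ker ψ)).principal
  have hXN : (X : k[X]) ^ N ∈ RingHom.ker ψ := by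
    rw [RingHom.mem_ker]
    simp [ψ, hτN]
  have hqdvd : q ∣ (X : k[X]) ^ N := by
    rw [hq] at hXN
    exact Ideal.mem_span_singleton.mp hXN
  obtain ⟨i, -, hi⟩ := (dvd_prime_pow Polynomial.prime_X N).mp hqdvd
  have hker : RingHom.ker ψ = Ideal.span {(X : k[X]) ^ i} := by
    rw [hq]
    exact Ideal.span_singleton_eq_span_singleton.mpr hi
  let E1 : (k[X] ⧸ RingHom.ker ψ) ≃ₐ[k] (A ⧸ I) := Ideal.quotientKerAlgEquivOfSurjective hψs
  let E2 : (k[X] ⧸ RingHom.ker ψ) ≃ₐ[k] (k[X] ⧸ Ideal.span {(X : k[X]) ^ i}) :=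
    Ideal.quotientEquivAlgOfEq k hker
  let E : (A ⧸ I) ≃ₐ[k] (k[X] ⧸ Ideal.span {(X : k[X]) ^ i}) := E1.symm.trans E2
  have hin : i = n := by
    have h5 := E.toLinearEquiv.finrank_eq
    rw [hn, finrank_quotient_span_eq_natDegree, natDegree_X_pow] at h5
    exact h5.symm
  rw [← hin]
  exact ⟨E⟩

end

/-- Converse direction: let k be a field, A a regular local k-algebra of Krull dimension 2 with maximal
ideal M and residue field k, and I an ideal with A/I of finite dimension n ≥ 1 over k. If some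
element of I does not lie in M^2, then A/I is isomorphic as a k-algebra to k[x]/(x^n): a cluster
lying on a smooth curve germ of a smooth surface is curvilinear, with coordinate ring generated by
one element. -/
theorem result (k : Type u) [Field k]
    (A : Type u) [CommRing A] [Algebra k A] [IsRegularLocalRing A] (hdim : ringKrullDim A = 2)
    (hres : Function.Surjective (algebraMap k (IsLocalRing.ResidueField A)))
    (I : Ideal A) [Module.Finite k (A ⧸ I)] (n : ℕ) (hn : Module.finrank k (A ⧸ I) = n) (h1 : 1 ≤ n)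
    (g : A) (hgI : g ∈ I) (hg : g ∉ IsLocalRing.maximalIdeal A ^ 2) :
    Nonempty ((A ⧸ I) ≃ₐ[k] (Polynomial k ⧸ Ideal.span {(Polynomial.X : Polynomial k) ^ n})) := by
  exact aux k A hdim hres I n hn h1 g hgI hg

end Groth.Agent.S19453
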