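import Groth.Statements.S19460
-- import your own Groth.Agent.* helpers here
import Mathlib
import Groth.Agent.Lib.Helper22.SmoothJZ4
import Groth.Agent.Lib.Helper12.SchemeDimFT4
import Groth.Agent.Lib.Helper14.HomogDim

set_option autoImplicit false
universe u
open CategoryTheory CategoryTheory.Limits AlgebraicGeometry
open Variety

namespace Groth.Agent.S19460

/-- Let k be an algebraically closed field, X and Y smooth irreducible varieties over k (integral,
separated, of finite type and smooth over k) of dimensions dX and dY, and f : X → Y a k-morphism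
which is smooth in the sense that at every closed point x of X the tangent map T_x X → T_{f(x)} Y is
surjective, equivalently the cotangent map m_{f(x)}/m_{f(x)}² → m_x/m_x² of the local rings is
injective. Then f is dominant, dY ≤ dX, and for every closed point y of Y in the image of f the
scheme-theoretic fibre X_y is smooth over the residue field κ(y) (which is k) and each of its
irreducible components has dimension dX − dY. (The published statement is for varieties in the
classical sense, with the fibre carrying its reduced structure, and it also identifies the tangent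
space of the fibre at each point with the kernel of the tangent map; that identification is not part
of this row.) -/
theorem result (k : Type u) [Field k] [IsAlgClosed k]
    {X Y : Scheme.{u}} (qX : X ⟶ Spec (CommRingCat.of k)) (qY : Y ⟶ Spec (CommRingCat.of k))
    [AlgebraicGeometry.IsIntegral X] [IsSeparated qX] [LocallyOfFiniteType qX] [QuasiCompact qX] [Smooth qX]
    [AlgebraicGeometry.IsIntegral Y] [IsSeparated qY] [LocallyOfFiniteType qY] [QuasiCompact qY] [Smooth qY]
    (f : X ⟶ Y) (hf : f ≫ qY = qX) (dX dY : ℕ) (hX : topologicalKrullDim ↥X = dX)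
    (hY : topologicalKrullDim ↥Y = dY)
    (hT : ∀ x : X, IsClosed ({x} : Set ↥X) → Function.Injective (FixPt.cotangentMapAt f x (f.base x) rfl)) :
    DenseRange f.base ∧ dY ≤ dX ∧
      ∀ y : Y, IsClosed ({y} : Set ↥Y) → y ∈ Set.range f.base →
        Smooth (f.fiberToSpecResidueField y) ∧
          ∀ Z ∈ irreducibleComponents ↥(f.fiber y),
            topologicalKrullDim ↥Z = ((dX - dY : ℕ) : WithBot ℕ∞) := by
  subst hf
  haveI : Smooth f := Groth.Agent.Lib.Helper22.SmoothJZ.smooth_of_cotangent_injective k qY f hT
  have hdimX : ∀ x : X, FlatMor.fibreDimAt (f ≫ qY) x = (dX : WithBot ℕ∞) :=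
    fun x => Groth.Agent.Lib.Helper22.SmoothJZ.fibreDimAt_eq_of_irreducible_field k (f ≫ qY) dX hX x
  have hdimY : ∀ y : Y, FlatMor.fibreDimAt qY y = (dY : WithBot ℕ∞) :=
    fun y => Groth.Agent.Lib.Helper22.SmoothJZ.fibreDimAt_eq_of_irreducible_field k qY dY hY y
  obtain ⟨x0⟩ : Nonempty X := inferInstance
  obtain ⟨m, V, hV, W, hW, hxW, e, hss, hdim⟩ :=
    Groth.Agent.Lib.Helper22.SmoothMono.exists_chart f x0
  have h1 := Groth.Agent.Lib.Helper22.SmoothRelDim.fibreDimAt_comp f qY x0
  rw [hdimX, hdim, hdimY] at h1
  have hm : dX = m + dY := by exact_mod_cast h1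
  have hle : dY ≤ dX := by omega
  have hX' : topologicalKrullDim ↥X = ((dY + (dX - dY) : ℕ) : WithBot ℕ∞) := by
    rw [hX]
    have : dY + (dX - dY) = dX := by omega
    rw [this]
  haveI hsm : SmoothOfRelativeDimension (dX - dY) f :=
    Groth.Agent.Lib.Helper22.SmoothJZ.smoothOfRelativeDimension_of_smooth k qY f (dX - dY) dY hY hX'
  refine ⟨?_, hle, ?_⟩
  · have hopen : IsOpen (Set.range f.base) := f.isOpenMap.isOpen_range
    exact hopen.dense (Set.range_nonempty _)
  · intro y hy hyr
    haveI := smoothOfRelativeDimension_isStableUnderBaseChange (dX - dY)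
    haveI hsmg : SmoothOfRelativeDimension (dX - dY) (f.fiberToSpecResidueField y) :=
      MorphismProperty.pullback_snd (P := @SmoothOfRelativeDimension (dX - dY)) f
        (Y.fromSpecResidueField y) inferInstance
    haveI hsg : Smooth (f.fiberToSpecResidueField y) :=
      SmoothOfRelativeDimension.smooth (dX - dY) _
    refine ⟨hsg, ?_⟩
    intro Z hZ
    letI : (f.fiber y).Over (Spec (CommRingCat.of (Y.residueField y))) :=
      ⟨f.fiberToSpecResidueField y⟩
    haveI : LocallyOfFiniteType ((f.fiber y) ↘ Spec (CommRingCat.of (Y.residueField y))) :=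
      (inferInstance : LocallyOfFiniteType (f.fiberToSpecResidueField y))
    obtain ⟨ζ, hζ, rfl⟩ :=
      (Groth.Agent.Lib.Helper12.SchemeDimFT.mem_irreducibleComponents_iff _).mp hZ
    rw [Groth.Agent.Lib.Helper12.SchemeDimFT.topologicalKrullDim_closure_singleton
      (Y.residueField y) (f.fiber y) ζ]
    have hloc : FlatMor.localDim (f.fiber y) ζ = ((dX - dY : ℕ) : WithBot ℕ∞) := by
      haveI : Subsingleton ↥(Spec (Y.residueField y)) :=
        inferInstanceAs (Subsingleton (PrimeSpectrum (Y.residueField y)))
      rw [← Groth.Agent.Lib.Helper14.HomogDim.fibreDimAt_eq_localDim_of_subsingleton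
        (f.fiberToSpecResidueField y) ζ]
      exact Groth.Agent.Lib.Helper22.SmoothRelDim.fibreDimAt_eq (dX - dY)
        (f.fiberToSpecResidueField y) ζ
    obtain ⟨U, hU, hζU⟩ := Groth.Agent.Lib.Helper12.SchemeDimFT.exists_affineOpen_mem (f.fiber y) ζ
    have hb : ringKrullDim ((f.fiber y).presheaf.stalk ζ) = ((0 : ℕ) : WithBot ℕ∞) := by
      rw [Groth.Agent.Lib.Helper12.SchemeDimFT.ringKrullDim_stalk_eq_height' U hU ⟨ζ, hζU⟩,
        (Groth.Agent.Lib.Helper12.SchemeDimFT.isMaxPt_iff_height_eq_zero hU ⟨ζ, hζU⟩).mp hζ]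
      rfl
    rw [Groth.Agent.Lib.Helper12.SchemeDimFT.localDim_eq (Y.residueField y) (f.fiber y) ζ _ 0
      (Groth.Agent.Lib.Helper12.SchemeDimFT.tr_spec _ _ ζ) hb] at hloc
    have h5 : Groth.Agent.Lib.Helper12.SchemeDimFT.tr (Y.residueField y) (f.fiber y) ζ + 0
        = dX - dY := by exact_mod_cast hloc
    rw [add_zero] at h5
    rw [h5]

end Groth.Agent.S19460
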