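import Mathlib
import Groth.Statements.S19461

set_option autoImplicit false
universe u
open CAlg

namespace Groth.Agent.S19461

open TensorProduct in
/-- Flatness descends along a faithfully flat extension of the target. -/
theorem flat_of_faithfullyFlat_comp (A B C : Type u) [CommRing A] [CommRing B] [CommRing C]
    [Algebra A B] [Algebra B C] [Algebra A C] [IsScalarTower A B C]
    [Module.FaithfullyFlat B C] [Module.Flat A C] : Module.Flat A B := by
  rw [Module.Flat.iff_lTensor_preserves_injective_linearMap]
  intro N P _ _ _ _ f hf
  have h1 : Function.Injective (f.lTensor C) :=
    Module.Flat.lTensor_preserves_injective_linearMap f hf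
  rw [← LinearMap.baseChange_eq_ltensor (A := B)]
  rw [← Module.FaithfullyFlat.lTensor_injective_iff_injective B C]
  let eN := TensorProduct.AlgebraTensorModule.cancelBaseChange A B C C N
  let eP := TensorProduct.AlgebraTensorModule.cancelBaseChange A B C C P
  have comm : ∀ x, eP ((f.baseChange B).lTensor C x) = f.lTensor C (eN x) := by
    intro x
    induction x using TensorProduct.induction_on with
    | zero => simp
    | tmul c y =>
      induction y using TensorProduct.induction_on with
      | zero => simp
      | tmul b n => simp [eN, eP]
      | add y z hy hz => simp only [TensorProduct.tmul_add, map_add, hy, hz]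
    | add x y hx hy => simp only [map_add, hx, hy]
  intro x y hxy
  apply eN.injective
  apply h1
  rw [← comm, ← comm, hxy]

/-- The implication from isomorphic completions to flat and unramified. Let A → B be a local
homomorphism of Noetherian local rings and ψ a ring map from the completion of A at its maximal
ideal to that of B whose composite with A → A^ is A → B → B^. If ψ is bijective, then A → B is flat
and the maximal ideal of A generates the maximal ideal of B. (The published statement is the
implication, for a morphism of algebraic varieties over an algebraically closed field, from
isomorphic induced maps of completed local rings at every point to flat and unramified; its proof is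
this local-ring argument, valid for any Noetherian local rings. The converse implication is a
separate result.) -/
theorem result (A B : Type u) [CommRing A]
    [CommRing B] [IsLocalRing A] [IsLocalRing B] [IsNoetherianRing A] [IsNoetherianRing B]
    [Algebra A B] [IsLocalHom (algebraMap A B)]
    (ψ : AdicCompletion (IsLocalRing.maximalIdeal A) A →+* AdicCompletion (IsLocalRing.maximalIdeal B) B)
    (hψ : ψ.comp (algebraMap A (AdicCompletion (IsLocalRing.maximalIdeal A) A)) =
      (algebraMap B (AdicCompletion (IsLocalRing.maximalIdeal B) B)).comp (algebraMap A B))
    (hbij : Function.Bijective ψ) :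
    Module.Flat A B ∧
      Ideal.map (algebraMap A B) (IsLocalRing.maximalIdeal A) = IsLocalRing.maximalIdeal B := by
  have htower : IsScalarTower A B (AdicCompletion (IsLocalRing.maximalIdeal B) B) :=
    IsScalarTower.of_algebraMap_eq (fun a => by
      apply Subtype.ext
      funext n
      simp only [AdicCompletion.algebraMap_apply]
      rfl)
  have hff : Module.FaithfullyFlat B (AdicCompletion (IsLocalRing.maximalIdeal B) B) :=
    Module.FaithfullyFlat.of_flat_of_isLocalHom
  have hψa : ∀ a : A, ψ (algebraMap A _ a) = algebraMap B _ (algebraMap A B a) :=
    fun a => congrArg (fun f => f a) hψ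
  refine ⟨?_, ?_⟩
  · -- flatness
    have hflat : Module.Flat A (AdicCompletion (IsLocalRing.maximalIdeal B) B) := by
      let e : AdicCompletion (IsLocalRing.maximalIdeal A) A ≃ₗ[A]
          AdicCompletion (IsLocalRing.maximalIdeal B) B :=
        { (RingEquiv.ofBijective ψ hbij).toAddEquiv with
          map_smul' := fun a x => by
            change ψ (a • x) = a • ψ x
            rw [Algebra.smul_def, map_mul, hψa, Algebra.smul_def,
              IsScalarTower.algebraMap_apply A B (AdicCompletion (IsLocalRing.maximalIdeal B) B)] }
      exact Module.Flat.of_linearEquiv e.symm
    exact flat_of_faithfullyFlat_comp A B (AdicCompletion (IsLocalRing.maximalIdeal B) B)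
  · -- maximal ideal
    apply Ideal.map_injective_of_faithfullyFlat
      (B := AdicCompletion (IsLocalRing.maximalIdeal B) B)
    rw [← AdicCompletion.maximalIdeal_eq_map, Ideal.map_map, ← hψ, ← Ideal.map_map,
      ← AdicCompletion.maximalIdeal_eq_map]
    have hmax : (Ideal.map ψ (IsLocalRing.maximalIdeal
        (AdicCompletion (IsLocalRing.maximalIdeal A) A))).IsMaximal :=
      Ideal.IsMaximal.map_bijective ψ hbij inferInstance
    exact IsLocalRing.eq_maximalIdeal hmax

end Groth.Agent.S19461
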