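import Groth.Statements.S19462
import Mathlib

set_option autoImplicit false
universe u
open GrNak

namespace Groth.Agent.S19462


section ring

variable {R : Type*} [CommRing R] {σ : Type*} [SetLike σ R] [AddSubmonoidClass σ R]
  (𝒜 : ℤ → σ) [GradedRing 𝒜]

theorem proj_of_mem {j : ℤ} {x : R} (hx : x ∈ 𝒜 j) (e : ℤ) :
    GradedRing.proj 𝒜 e x = if j = e then x else 0 := by
  classical
  rw [GradedRing.proj_apply]
  split_ifs with h
  · subst h; exact DirectSum.decompose_of_mem_same 𝒜 hx
  · exact DirectSum.decompose_of_mem_ne 𝒜 hx h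

theorem proj_mul_of_mem_left {i : ℤ} {h : R} (hh : h ∈ 𝒜 i) (x : R) (e : ℤ) :
    GradedRing.proj 𝒜 e (h * x) = h * GradedRing.proj 𝒜 (e - i) x := by
  classical
  refine DirectSum.Decomposition.inductionOn 𝒜 ?_ ?_ ?_ x
  · simp
  · intro j y
    rw [proj_of_mem 𝒜 (SetLike.mul_mem_graded hh y.2), proj_of_mem 𝒜 y.2]
    by_cases hij : i + j = e
    · have h2 : j = e - i := by omega
      rw [if_pos hij, if_pos h2]
    · have h2 : ¬ j = e - i := by omega
      rw [if_neg hij, if_neg h2, mul_zero]
  · intro a b ha hb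
    rw [mul_add, map_add, map_add, ha, hb, mul_add]

theorem proj_mul_eq_zero_of_low (hneg : ∀ i : ℤ, i < 0 → ∀ x ∈ 𝒜 i, x = 0) (e : ℤ) (x : R)
    (hx : ∀ e' < e, GradedRing.proj 𝒜 e' x = 0) (r : R) :
    ∀ e' < e, GradedRing.proj 𝒜 e' (r * x) = 0 := by
  classical
  intro e' he'
  refine DirectSum.Decomposition.inductionOn 𝒜 ?_ ?_ ?_ r
  · rw [zero_mul, map_zero]
  · intro i h
    by_cases hi : i < 0
    · rw [hneg i hi h h.2, zero_mul, map_zero]
    · rw [proj_mul_of_mem_left 𝒜 h.2, hx (e' - i) (by omega), mul_zero]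
  · intro a b ha hb
    rw [add_mul, map_add, ha, hb, add_zero]

/-- the irrelevant ideal -/
def Rplus : Ideal R := Ideal.span {x | ∃ i : ℤ, 0 < i ∧ x ∈ 𝒜 i}

theorem proj_mul_eq_zero_of_mem_Rplus (hneg : ∀ i : ℤ, i < 0 → ∀ x ∈ 𝒜 i, x = 0) {b : R}
    (hb : b ∈ Rplus 𝒜) : ∀ (e : ℤ) (x : R), (∀ e' < e, GradedRing.proj 𝒜 e' x = 0) →
      GradedRing.proj 𝒜 e (b * x) = 0 := by
  refine Submodule.span_induction ?_ ?_ ?_ ?_ hb
  · rintro h ⟨i, hi, hh⟩ e x hx
    rw [proj_mul_of_mem_left 𝒜 hh, hx (e - i) (by omega), mul_zero]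
  · intro e x _; rw [zero_mul, map_zero]
  · intro a b _ _ ha hb e x hx
    rw [add_mul, map_add, ha e x hx, hb e x hx, add_zero]
  · intro r b _ hb e x hx
    rw [smul_eq_mul, mul_assoc, mul_left_comm]
    exact hb e (r * x) (proj_mul_eq_zero_of_low 𝒜 hneg e x hx r)

theorem mem_Rplus_of_proj_zero (hneg : ∀ i : ℤ, i < 0 → ∀ x ∈ 𝒜 i, x = 0) {x : R}
    (hx : GradedRing.proj 𝒜 0 x = 0) : x ∈ Rplus 𝒜 := by
  classical
  rw [← DirectSum.sum_support_decompose 𝒜 x]
  refine Ideal.sum_mem _ (fun j _ => ?_)
  rcases lt_trichotomy j 0 with hj | hj | hj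
  · rw [hneg j hj _ (SetLike.coe_mem _)]; exact Ideal.zero_mem _
  · subst hj; rw [← GradedRing.proj_apply, hx]; exact Ideal.zero_mem _
  · exact Ideal.subset_span ⟨j, hj, SetLike.coe_mem _⟩

theorem eq_zero_of_mul_eq_zero' (hneg : ∀ i : ℤ, i < 0 → ∀ x ∈ 𝒜 i, x = 0) {a : R}
    (ha : a - 1 ∈ Rplus 𝒜) {x : R} (hax : a * x = 0) : x = 0 := by
  classical
  have hlow : ∀ n : ℕ, ∀ e' < (n : ℤ), GradedRing.proj 𝒜 e' x = 0 := by
    intro n
    induction n with
    | zero =>
      intro e' he'
      have hmem : GradedRing.proj 𝒜 e' x ∈ 𝒜 e' := by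
        rw [GradedRing.proj_apply]; exact SetLike.coe_mem _
      exact hneg e' (by simpa using he') _ hmem
    | succ n ih =>
      intro e' he'
      by_cases h : e' < (n : ℤ)
      · exact ih e' h
      · have he : e' = (n : ℤ) := by push_cast at he'; omega
        subst he
        have h1 : GradedRing.proj 𝒜 (n : ℤ) (a * x) = 0 := by rw [hax, map_zero]
        have h2 : a * x = x + (a - 1) * x := by ring
        rw [h2, map_add, proj_mul_eq_zero_of_mem_Rplus 𝒜 hneg ha (n : ℤ) x ih, add_zero] at h1
        exact h1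
  have hall : ∀ e, GradedRing.proj 𝒜 e x = 0 := fun e => by
    by_cases he : e < 0
    · exact hlow 0 e (by simpa using he)
    · have := Int.toNat_of_nonneg (not_lt.1 he)
      exact hlow (e.toNat + 1) e (by push_cast; omega)
  rw [← DirectSum.sum_support_decompose 𝒜 x]
  refine Finset.sum_eq_zero (fun i _ => ?_)
  have := hall i
  rwa [GradedRing.proj_apply] at this

end ring

section module

variable {R : Type*} [CommRing R] {σ : Type*} [SetLike σ R] [AddSubmonoidClass σ R]
  (𝒜 : ℤ → σ) [GradedRing 𝒜]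
  {M : Type*} [AddCommGroup M] [Module R M] {τ : Type*} [SetLike τ M] [AddSubmonoidClass τ M]
  (ℳ : ℤ → τ) [DirectSum.Decomposition ℳ] [SetLike.GradedSMul 𝒜 ℳ]

/-- degree d component as additive map -/
noncomputable def cM (d : ℤ) : M →+ M where
  toFun m := ((DirectSum.decompose ℳ m) d : M)
  map_zero' := by simp
  map_add' x y := by simp

theorem cM_apply (d : ℤ) (m : M) : cM ℳ d m = ((DirectSum.decompose ℳ m) d : M) := rfl

theorem cM_of_mem {j : ℤ} {x : M} (hx : x ∈ ℳ j) (d : ℤ) :
    cM ℳ d x = if j = d then x else 0 := by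
  classical
  rw [cM_apply]
  split_ifs with h
  · subst h; exact DirectSum.decompose_of_mem_same ℳ hx
  · exact DirectSum.decompose_of_mem_ne ℳ hx h

theorem cM_smul_of_mem {e : ℤ} {g : M} (hg : g ∈ ℳ e) (r : R) (d : ℤ) :
    cM ℳ d (r • g) = (GradedRing.proj 𝒜 (d - e) r) • g := by
  classical
  refine DirectSum.Decomposition.inductionOn 𝒜 ?_ ?_ ?_ r
  · rw [zero_smul, map_zero, map_zero, zero_smul]
  · intro i h
    have hmem : (h : R) • g ∈ ℳ (i + e) := SetLike.GradedSMul.smul_mem h.2 hg
    rw [cM_of_mem ℳ hmem, proj_of_mem 𝒜 h.2]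
    by_cases hij : i + e = d
    · have h2 : i = d - e := by omega
      rw [if_pos hij, if_pos h2]
    · have h2 : ¬ i = d - e := by omega
      rw [if_neg hij, if_neg h2, zero_smul]
  · intro a b ha hb
    rw [add_smul, map_add, map_add, ha, hb, add_smul]

end module


/-- Let k be a field and R a commutative ℤ-graded k-algebra whose pieces of negative degree vanish and
whose degree-zero piece is the image of k, and let M be a finitely generated ℤ-graded R-module,
graded compatibly with R. Then M is a projective R-module if and only if M has an R-basis consisting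
of homogeneous elements, i.e. M is a free graded module. (The published statement takes R a graded
quotient of a polynomial ring k[x_0, …, x_n] with its standard grading; stated here for any
commutative graded k-algebra concentrated in non-negative degrees with degree-zero part k, to which
the same graded-Nakayama argument applies.) -/
theorem result {k : Type u} [Field k] {R : Type u} [CommRing R] [Algebra k R]
    {σ : Type u} [SetLike σ R] [AddSubmonoidClass σ R] (𝒜 : ℤ → σ) [GradedRing 𝒜]
    (hneg : ∀ i : ℤ, i < 0 → ∀ x ∈ 𝒜 i, x = 0)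
    (hk : ∀ c : k, algebraMap k R c ∈ 𝒜 0) (h0 : ∀ x ∈ 𝒜 0, ∃ c : k, algebraMap k R c = x)
    {M : Type u} [AddCommGroup M] [Module R M] [Module.Finite R M]
    {τ : Type u} [SetLike τ M] [AddSubmonoidClass τ M] (ℳ : ℤ → τ) [DirectSum.Decomposition ℳ]
    [SetLike.GradedSMul 𝒜 ℳ] :
    Module.Projective R M ↔
      ∃ (ι : Type u) (b : Module.Basis ι R M), ∀ i : ι, SetLike.IsHomogeneousElem ℳ (b i) := by
  classical
  constructor
  swap
  · rintro ⟨ι, b, -⟩
    exact Module.Projective.of_basis b
  intro hproj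
  have hex : ∃ s : ℕ, ∃ m : Fin s → M, (∀ i, SetLike.IsHomogeneousElem ℳ (m i)) ∧
      Submodule.span R (Set.range m) = ⊤ := by
    obtain ⟨n, f, hf⟩ := Module.Finite.exists_fin (R := R) (M := M)
    let ι := Σ j : Fin n, {d : ℤ // d ∈ (DirectSum.decompose ℳ (f j)).support}
    let m' : ι → M := fun p => cM ℳ p.2.1 (f p.1)
    have hm' : Submodule.span R (Set.range m') = ⊤ := by
      rw [eq_top_iff, ← hf, Submodule.span_le]
      rintro _ ⟨j, rfl⟩
      rw [← DirectSum.sum_support_decompose ℳ (f j)]
      refine Submodule.sum_mem _ (fun d hd => ?_)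
      exact Submodule.subset_span ⟨⟨j, ⟨d, hd⟩⟩, rfl⟩
    refine ⟨Fintype.card ι, m' ∘ (Fintype.equivFin ι).symm, fun i => ⟨((Fintype.equivFin ι).symm i).2.1, ?_⟩, ?_⟩
    · show ((DirectSum.decompose ℳ _) _ : M) ∈ ℳ _
      exact SetLike.coe_mem _
    · rw [Set.range_comp, Equiv.range_eq_univ, Set.image_univ]; exact hm'
  obtain ⟨s, hs⟩ := hex
  induction s using Nat.strong_induction_on with
  | _ s ih =>
    obtain ⟨m, hmh, hms⟩ := hs
    let φ : (Fin s → R) →ₗ[R] M := Fintype.linearCombination R m
    have hφsurj : Function.Surjective φ :=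
      LinearMap.range_eq_top.1 (by rw [Fintype.range_linearCombination, hms])
    by_cases hall : ∀ v : Fin s → R, φ v = 0 → ∀ i, GradedRing.proj 𝒜 0 (v i) = 0
    · set K := LinearMap.ker φ with hKdef
      have hK1 : ∀ v ∈ K, v ∈ (Rplus 𝒜) • (⊤ : Submodule R (Fin s → R)) := by
        intro v hv
        have hvi : ∀ i, v i ∈ Rplus 𝒜 :=
          fun i => mem_Rplus_of_proj_zero 𝒜 hneg (hall v hv i)
        have hsum := pi_eq_sum_univ v
        rw [hsum]
        exact Submodule.sum_mem _ (fun i _ => Submodule.smul_mem_smul (hvi i) Submodule.mem_top)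
      obtain ⟨ψ, hψ⟩ := Module.projective_lifting_property φ LinearMap.id hφsurj
      let p : (Fin s → R) →ₗ[R] (Fin s → R) := LinearMap.id - ψ ∘ₗ φ
      have hpK : ∀ v ∈ K, p v = v := by
        intro v hv
        have h0 : φ v = 0 := hv
        show v - ψ (φ v) = v
        rw [h0, map_zero, sub_zero]
      have hpmem : ∀ w, p w ∈ K := by
        intro w
        show φ (w - ψ (φ w)) = 0
        have h1 : φ (ψ (φ w)) = φ w := by
          have := congrArg (fun g => g (φ w)) hψ
          simpa using this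
        rw [map_sub, h1, sub_self]
      have hKle : K ≤ (Rplus 𝒜) • K := by
        intro v hv
        have h1 : p v ∈ Submodule.map p ((Rplus 𝒜) • (⊤ : Submodule R (Fin s → R))) :=
          Submodule.mem_map_of_mem (hK1 v hv)
        rw [Submodule.map_smul'', hpK v hv] at h1
        refine Submodule.smul_mono le_rfl ?_ h1
        rintro _ ⟨w, -, rfl⟩
        exact hpmem w
      have hKfg : K.FG := by
        have hKeq : K = Submodule.map p ⊤ := by
          apply le_antisymm
          · intro v hv; exact ⟨v, trivial, hpK v hv⟩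
          · rintro _ ⟨w, -, rfl⟩; exact hpmem w
        rw [hKeq]
        exact Submodule.FG.map p Module.Finite.fg_top
      obtain ⟨a, ha1, ha2⟩ :=
        Submodule.exists_sub_one_mem_and_smul_eq_zero_of_fg_of_le_smul (Rplus 𝒜) K hKfg hKle
      have hinj : Function.Injective φ := by
        rw [← LinearMap.ker_eq_bot, LinearMap.ker_eq_bot']
        intro v hv
        have h0 := ha2 v hv
        funext i
        have h1 : a * v i = 0 := by
          have := congrFun h0 i
          simpa using this
        exact eq_zero_of_mul_eq_zero' 𝒜 hneg ha1 h1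
      have hli : LinearIndependent R m := by
        rw [linearIndependent_iff_injective_fintypeLinearCombination]; exact hinj
      let b := Module.Basis.mk hli (by rw [hms])
      refine ⟨ULift.{u} (Fin s), b.reindex Equiv.ulift.symm, fun i => ?_⟩
      rw [Module.Basis.reindex_apply, Module.Basis.mk_apply]
      exact hmh _
    · push Not at hall
      obtain ⟨v, hv, i₀, hne⟩ := hall
      obtain ⟨t, rfl⟩ : ∃ t, s = t + 1 := ⟨s - 1, by have := i₀.pos; omega⟩
      choose deg hdeg using hmh
      set d := deg i₀ with hd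
      let w : Fin (t + 1) → R := fun i => GradedRing.proj 𝒜 (d - deg i) (v i)
      have hw : ∑ i, w i • m i = 0 := by
        have h1 : cM ℳ d (φ v) = 0 := by rw [hv, map_zero]
        rw [Fintype.linearCombination_apply, map_sum] at h1
        rw [← h1]
        refine Finset.sum_congr rfl (fun i _ => ?_)
        exact (cM_smul_of_mem 𝒜 ℳ (hdeg i) (v i) d).symm
      have hw0 : w i₀ = GradedRing.proj 𝒜 0 (v i₀) := by simp only [w, hd, sub_self]
      obtain ⟨c, hc⟩ := h0 (w i₀) (by rw [hw0, GradedRing.proj_apply]; exact SetLike.coe_mem _)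
      have hc0 : c ≠ 0 := by
        rintro rfl
        rw [map_zero] at hc
        exact hne (by rw [← hw0, ← hc])
      let m' : Fin t → M := m ∘ i₀.succAbove
      have hmi₀ : m i₀ ∈ Submodule.span R (Set.range m') := by
        rw [Fin.sum_univ_succAbove _ i₀] at hw
        have h2 : w i₀ • m i₀ = -∑ j, w (i₀.succAbove j) • m (i₀.succAbove j) :=
          eq_neg_of_add_eq_zero_left hw
        have h3 : m i₀ = algebraMap k R c⁻¹ • (w i₀ • m i₀) := by
          rw [← hc, smul_smul, ← map_mul, inv_mul_cancel₀ hc0, map_one, one_smul]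
        rw [h3, h2]
        refine Submodule.smul_mem _ _ (Submodule.neg_mem _ (Submodule.sum_mem _ (fun j _ => ?_)))
        exact Submodule.smul_mem _ _ (Submodule.subset_span ⟨j, rfl⟩)
      have hspan' : Submodule.span R (Set.range m') = ⊤ := by
        rw [eq_top_iff, ← hms, Submodule.span_le]
        rintro _ ⟨i, rfl⟩
        by_cases hi : i = i₀
        · rw [hi]; exact hmi₀
        · obtain ⟨j, rfl⟩ := Fin.exists_succAbove_eq hi
          exact Submodule.subset_span ⟨j, rfl⟩
      exact ih t (Nat.lt_succ_self t) ⟨m', fun j => ⟨deg _, hdeg _⟩, hspan'⟩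

end Groth.Agent.S19462
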