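-- Statement S19465.
import Groth.Statements.S19465
import Mathlib
import Groth.Agent.Lib.Helper11.UnramFib

set_option autoImplicit false
universe u
open CategoryTheory CategoryTheory.Limits MonoidalCategory CartesianMonoidalCategory MonObj GrpObj AlgebraicGeometry
open AlgGrp

namespace Groth.Agent.S19465

/-- Let S be a scheme and G an S-group scheme whose structure morphism G → S is locally of finite type.
Then G → S is an isomorphism (G is the trivial group scheme over S) if and only if every fibre G_s →
Spec κ(s), s ∈ S, is an isomorphism. -/
theorem result (S : Scheme.{u}) (G : Over S)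
    [GrpObj G] [LocallyOfFiniteType G.hom] :
    IsIso G.hom ↔ ∀ s : S, IsIso (G.hom.fiberToSpecResidueField s) := by
  constructor
  · intro h s
    exact inferInstanceAs (IsIso (Limits.pullback.snd G.hom (S.fromSpecResidueField s)))
  · intro h
    have hunr : FormallyUnramified G.hom :=
      Groth.Agent.Lib.Helper11.UnramFib.formallyUnramified_of_fiberToSpecResidueField G.hom
        (fun s => by
          have := h s
          infer_instance)
    obtain ⟨e, he⟩ : ∃ e : S ⟶ G.left, e ≫ G.hom = 𝟙 S :=
      ⟨(η[G]).left, by
        have := Over.w η[G]
        simpa using this⟩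
    have h1 : Etale (e ≫ G.hom) := by rw [he]; infer_instance
    have h2 : Etale e := Etale.of_comp e G.hom
    have h3 : Mono e := mono_of_mono_fac he
    have h4 : IsOpenImmersion e := IsOpenImmersion.of_flat_of_mono e
    have hsurj : Function.Surjective e := by
      intro g
      refine ⟨G.hom g, ?_⟩
      have := h (G.hom g)
      have hsub : Subsingleton ↥(G.hom.fiber (G.hom g)) :=
        (Scheme.homeoOfIso (asIso (G.hom.fiberToSpecResidueField (G.hom g)))).injective.subsingleton
      have hmem : e (G.hom g) ∈ G.hom ⁻¹' {G.hom g} := by
        change G.hom (e (G.hom g)) = G.hom g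
        rw [← Scheme.Hom.comp_apply, he]
        rfl
      have h1 : (G.hom.fiberHomeo (G.hom g)).symm ⟨e (G.hom g), hmem⟩ =
          (G.hom.fiberHomeo (G.hom g)).symm ⟨g, rfl⟩ := Subsingleton.elim _ _
      have h2 := (G.hom.fiberHomeo (G.hom g)).symm.injective h1
      exact congrArg Subtype.val h2
    have h5 : Epi e.base := (TopCat.epi_iff_surjective _).mpr hsurj
    have h6 : IsIso e := IsOpenImmersion.isIso e
    have h7 : IsIso (e ≫ G.hom) := by rw [he]; infer_instance
    exact IsIso.of_isIso_comp_left e G.hom

end Groth.Agent.S19465
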