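import Groth.Statements.S19474
import Groth.Agent.Lib.Helper26.RegularCompletion
import Groth.Agent.Lib.Helper8.ComplDim

set_option autoImplicit false
universe u
open CAlg

namespace Groth.Agent.S19474

open Groth.Agent.Lib.Helper26.RegularCompletion

/-- Let A be a Noetherian local ring and I an ideal of A different from A. Then the I-adic completion of
A has the same Krull dimension as A, and A is a regular local ring if and only if the I-adic
completion of A is a regular local ring (in particular the completion is then local and Noetherian).
The case where I is the maximal ideal is the classical one; here I is any proper ideal. -/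
theorem result (A : Type u) [CommRing A]
    [IsLocalRing A] [IsNoetherianRing A] (I : Ideal A) (hI : I ≠ ⊤) :
    ringKrullDim (AdicCompletion I A) = ringKrullDim A ∧
      (IsRegularLocalRing A ↔ IsRegularLocalRing (AdicCompletion I A)) := by
  have fg : I.FG := Ideal.fg_of_isNoetherianRing I
  haveI hN : IsNoetherianRing (AdicCompletion I A) := Groth.Agent.S0542.result A I fg
  haveI hL := isLocalRing_adicCompletion A I hI
  have hm := maximalIdeal_adicCompletion A I hI
  haveI hloc : IsLocalHom (algebraMap A (AdicCompletion I A)) := by
    apply ((IsLocalRing.local_hom_TFAE _).out 0 2).mpr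
    rw [hm]
  refine ⟨Groth.Agent.Lib.Helper8.ringKrullDim_eq_of_flat hm, ⟨fun h => ?_, fun h => ?_⟩⟩
  · haveI := Groth.Agent.Lib.Helper26.RegularRing.isRegularRing_of_isRegularLocalRing A
    haveI := isRegularRing_adicCompletion A I
    exact IsRegularLocalRing.of_isRegularRing_of_isLocalRing _
  · exact Groth.Agent.Lib.Helper26.RegularRing.isRegularLocalRing_of_flat A (AdicCompletion I A)

end Groth.Agent.S19474
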