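import Mathlib
import Groth.Statements.S19475

set_option autoImplicit false
universe u
open CAlg

namespace Groth.Agent.S19475

open IsLocalRing TensorProduct

section Aux

variable {A B : Type u} [CommRing A] [CommRing B] [Algebra A B] (q : Ideal B) [q.IsPrime]

/-- The local homomorphism `A_p → B_q`. -/
noncomputable def hloc : Localization.AtPrime (q.under A) →+* Localization.AtPrime q :=
  Localization.localRingHom (q.under A) q (algebraMap A B) rfl

lemma hloc_algebraMap (a : A) :
    hloc (A := A) q (algebraMap A (Localization.AtPrime (q.under A)) a) =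
      algebraMap A (Localization.AtPrime q) a := by
  unfold hloc
  rw [Localization.localRingHom_to_map, ← IsScalarTower.algebraMap_apply]

instance : IsLocalHom (hloc (A := A) q) := by
  unfold hloc
  exact Localization.isLocalHom_localRingHom _ _ _ _

instance towerCompl (R : Type u) [CommRing R] [Algebra A R] (I : Ideal R) :
    IsScalarTower A R (AdicCompletion I R) :=
  IsScalarTower.of_algebraMap_eq (fun a => by
    apply Subtype.ext
    funext n
    simp only [AdicCompletion.algebraMap_apply]
    rfl)

/-- The balancing lemma: scalars from `A_p` may be moved across the tensor product over `A`. -/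
lemma balance (c : Localization.AtPrime (q.under A)) (r : Localization.AtPrime q)
    (z : AdicCompletion (maximalIdeal (Localization.AtPrime (q.under A)))
      (Localization.AtPrime (q.under A))) :
    r ⊗ₜ[A] (algebraMap (Localization.AtPrime (q.under A)) _ c * z) = (hloc (A := A) q c * r) ⊗ₜ[A] z := by
  obtain ⟨⟨a', s⟩, hs⟩ := IsLocalization.surj (q.under A).primeCompl c
  simp only at hs
  have hsq : algebraMap A B (s : A) ∈ q.primeCompl := fun hmem => s.2 hmem
  have hu : IsUnit (algebraMap A (Localization.AtPrime q) (s : A)) := by
    rw [IsScalarTower.algebraMap_apply A B (Localization.AtPrime q)]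
    exact IsLocalization.map_units (Localization.AtPrime q) (⟨_, hsq⟩ : q.primeCompl)
  obtain ⟨v, hv⟩ := hu.exists_right_inv
  have e1 : r = (s : A) • (v * r) := by
    rw [Algebra.smul_def, ← mul_assoc, hv, one_mul]
  have tw : ∀ a : A, algebraMap A (AdicCompletion (maximalIdeal (Localization.AtPrime (q.under A)))
      (Localization.AtPrime (q.under A))) a =
      algebraMap (Localization.AtPrime (q.under A)) _
        (algebraMap A (Localization.AtPrime (q.under A)) a) := fun a =>
    IsScalarTower.algebraMap_apply A (Localization.AtPrime (q.under A)) _ a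
  have e2 : (s : A) • (algebraMap (Localization.AtPrime (q.under A)) _ c * z) = a' • z := by
    calc (s : A) • (algebraMap (Localization.AtPrime (q.under A)) _ c * z)
        = algebraMap (Localization.AtPrime (q.under A)) _
            (c * algebraMap A (Localization.AtPrime (q.under A)) (s : A)) * z := by
          rw [Algebra.smul_def, tw, map_mul]; ring
      _ = a' • z := by rw [hs, ← tw, ← Algebra.smul_def]
  have e3 : a' • (v * r) = hloc (A := A) q c * r := by
    have : hloc (A := A) q c * algebraMap A (Localization.AtPrime q) (s : A) =
        algebraMap A (Localization.AtPrime q) a' := by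
      rw [← hloc_algebraMap q (s : A), ← hloc_algebraMap q a', ← map_mul, hs]
    rw [Algebra.smul_def, ← this, mul_assoc, ← mul_assoc _ v r, hv, one_mul]
  conv_lhs => rw [e1]
  rw [TensorProduct.smul_tmul, e2, ← TensorProduct.smul_tmul, e3]

/-- Shorthand for the ideal in question. -/
noncomputable abbrev Iq : Ideal (TensorProduct A (Localization.AtPrime q)
    (AdicCompletion (maximalIdeal (Localization.AtPrime (q.under A)))
      (Localization.AtPrime (q.under A)))) :=
  (maximalIdeal (Localization.AtPrime q)).map
    (Algebra.TensorProduct.includeLeftRingHom :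
      Localization.AtPrime q →+* TensorProduct A (Localization.AtPrime q)
        (AdicCompletion (maximalIdeal (Localization.AtPrime (q.under A)))
          (Localization.AtPrime (q.under A))))

lemma tmul_one_mem (r : Localization.AtPrime q) (hr : r ∈ maximalIdeal (Localization.AtPrime q)) :
    r ⊗ₜ[A] (1 : AdicCompletion (maximalIdeal (Localization.AtPrime (q.under A)))
      (Localization.AtPrime (q.under A))) ∈ Iq (A := A) q :=
  Ideal.mem_map_of_mem _ hr

lemma tmul_mem_of_mem_map
    (y : AdicCompletion (maximalIdeal (Localization.AtPrime (q.under A)))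
      (Localization.AtPrime (q.under A)))
    (hy : y ∈ (maximalIdeal (Localization.AtPrime (q.under A))).map
      (algebraMap (Localization.AtPrime (q.under A))
        (AdicCompletion (maximalIdeal (Localization.AtPrime (q.under A)))
          (Localization.AtPrime (q.under A))))) :
    ∀ r : Localization.AtPrime q, r ⊗ₜ[A] y ∈ Iq (A := A) q := by
  unfold Ideal.map at hy
  induction hy using Submodule.span_induction with
  | mem x hx =>
    intro r
    obtain ⟨c, hc, rfl⟩ := hx
    have := balance (A := A) q c r 1
    rw [mul_one] at this
    rw [this]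
    exact tmul_one_mem q _ (Ideal.mul_mem_right _ _ (map_nonunit (hloc (A := A) q) c hc))
  | zero => intro r; simp
  | add x y _ _ hx hy => intro r; rw [tmul_add]; exact add_mem (hx r) (hy r)
  | smul z x _ hx =>
    intro r
    have : r ⊗ₜ[A] (z • x) = (r ⊗ₜ[A] x) * ((1 : Localization.AtPrime q) ⊗ₜ[A] z) := by
      rw [Algebra.TensorProduct.tmul_mul_tmul, mul_one, smul_eq_mul, mul_comm]
    rw [this]
    exact Ideal.mul_mem_right _ _ (hx r)

lemma exists_decomp [IsNoetherianRing A]
    (x : AdicCompletion (maximalIdeal (Localization.AtPrime (q.under A)))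
      (Localization.AtPrime (q.under A))) :
    ∃ a : Localization.AtPrime (q.under A), x - algebraMap _ _ a ∈
      (maximalIdeal (Localization.AtPrime (q.under A))).map
        (algebraMap (Localization.AtPrime (q.under A))
          (AdicCompletion (maximalIdeal (Localization.AtPrime (q.under A)))
            (Localization.AtPrime (q.under A)))) := by
  obtain ⟨a, ha⟩ := Ideal.Quotient.mk_surjective
    (AdicCompletion.evalOneₐ (maximalIdeal (Localization.AtPrime (q.under A))) x)
  refine ⟨a, ?_⟩
  rw [← AdicCompletion.ker_evalOneₐ_eq_map _ (IsNoetherian.noetherian _), RingHom.mem_ker]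
  change AdicCompletion.evalOneₐ _ (x - algebraMap _ _ a) = 0
  rw [map_sub, AlgHom.commutes, ← ha, Ideal.Quotient.algebraMap_eq, sub_self]

lemma exists_rep [IsNoetherianRing A]
    (t : TensorProduct A (Localization.AtPrime q)
      (AdicCompletion (maximalIdeal (Localization.AtPrime (q.under A)))
        (Localization.AtPrime (q.under A)))) :
    ∃ r : Localization.AtPrime q, t - r ⊗ₜ[A] 1 ∈ Iq (A := A) q := by
  induction t using TensorProduct.induction_on with
  | zero => exact ⟨0, by simp⟩
  | tmul r x =>
    obtain ⟨a, ha⟩ := exists_decomp (A := A) q x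
    refine ⟨hloc (A := A) q a * r, ?_⟩
    have h1 := balance (A := A) q a r 1
    rw [mul_one] at h1
    have : r ⊗ₜ[A] x - (hloc (A := A) q a * r) ⊗ₜ[A] 1 = r ⊗ₜ[A] (x - algebraMap _ _ a) := by
      rw [tmul_sub, h1]
    rw [this]
    exact tmul_mem_of_mem_map q _ ha r
  | add t₁ t₂ h₁ h₂ =>
    obtain ⟨r₁, h₁⟩ := h₁
    obtain ⟨r₂, h₂⟩ := h₂
    refine ⟨r₁ + r₂, ?_⟩
    have : t₁ + t₂ - (r₁ + r₂) ⊗ₜ[A] 1 = (t₁ - r₁ ⊗ₜ[A] 1) + (t₂ - r₂ ⊗ₜ[A] 1) := by
      rw [add_tmul]; abel
    rw [this]
    exact add_mem h₁ h₂

lemma hle_comap : maximalIdeal (Localization.AtPrime (q.under A)) ≤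
    Ideal.comap (hloc (A := A) q) (maximalIdeal (Localization.AtPrime q)) :=
  fun c hc => Ideal.mem_comap.mpr (map_nonunit (hloc (A := A) q) c hc)

/-- The ring map from the completion to the residue field of `B_q`. -/
noncomputable def gRing :
    AdicCompletion (maximalIdeal (Localization.AtPrime (q.under A)))
      (Localization.AtPrime (q.under A)) →+*
      (Localization.AtPrime q ⧸ maximalIdeal (Localization.AtPrime q)) :=
  (Ideal.quotientMap (maximalIdeal (Localization.AtPrime q)) (hloc (A := A) q)
      (hle_comap (A := A) q)).comp
      (AdicCompletion.evalOneₐ (maximalIdeal (Localization.AtPrime (q.under A)))).toRingHom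

lemma gRing_algebraMap (a : A) :
    gRing (A := A) q (algebraMap A (AdicCompletion (maximalIdeal (Localization.AtPrime (q.under A)))
          (Localization.AtPrime (q.under A))) a) =
      algebraMap A (Localization.AtPrime q ⧸ maximalIdeal (Localization.AtPrime q)) a := by
  unfold gRing
  rw [RingHom.comp_apply, IsScalarTower.algebraMap_apply A (Localization.AtPrime (q.under A))
        (AdicCompletion (maximalIdeal (Localization.AtPrime (q.under A)))
          (Localization.AtPrime (q.under A)))]
  change Ideal.quotientMap _ _ (hle_comap (A := A) q) (AdicCompletion.evalOneₐ _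
    (algebraMap (Localization.AtPrime (q.under A))
        (AdicCompletion (maximalIdeal (Localization.AtPrime (q.under A)))
          (Localization.AtPrime (q.under A))) (algebraMap A (Localization.AtPrime (q.under A)) a))) = _
  rw [AlgHom.commutes, Ideal.Quotient.algebraMap_eq, Ideal.quotientMap_mk, hloc_algebraMap]
  rfl

/-- The map from the completion to the residue field of `B_q`. -/
noncomputable def gHom :
    AdicCompletion (maximalIdeal (Localization.AtPrime (q.under A)))
      (Localization.AtPrime (q.under A)) →ₐ[A]
      (Localization.AtPrime q ⧸ maximalIdeal (Localization.AtPrime q)) :=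
  { toRingHom := gRing (A := A) q
    commutes' := gRing_algebraMap (A := A) q }

/-- The map from the tensor product to the residue field of `B_q`. -/
noncomputable def phiHom :
    TensorProduct A (Localization.AtPrime q)
      (AdicCompletion (maximalIdeal (Localization.AtPrime (q.under A)))
        (Localization.AtPrime (q.under A))) →ₐ[A]
      (Localization.AtPrime q ⧸ maximalIdeal (Localization.AtPrime q)) :=
  Algebra.TensorProduct.lift (Ideal.Quotient.mkₐ A (maximalIdeal (Localization.AtPrime q)))
    (gHom (A := A) q) (fun _ _ => Commute.all _ _)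

lemma one_not_mem : (1 : TensorProduct A (Localization.AtPrime q)
      (AdicCompletion (maximalIdeal (Localization.AtPrime (q.under A)))
        (Localization.AtPrime (q.under A)))) ∉ Iq (A := A) q := by
  have hle : Iq (A := A) q ≤ RingHom.ker (phiHom (A := A) q).toRingHom := by
    refine Ideal.map_le_iff_le_comap.mpr (fun r hr => ?_)
    rw [Ideal.mem_comap, RingHom.mem_ker]
    change phiHom (A := A) q (r ⊗ₜ[A] 1) = 0
    unfold phiHom
    rw [Algebra.TensorProduct.lift_tmul, map_one, mul_one]
    exact Ideal.Quotient.eq_zero_iff_mem.mpr hr
  intro h1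
  have h0 := hle h1
  rw [RingHom.mem_ker, map_one] at h0
  have hnt : Nontrivial (Localization.AtPrime q ⧸ maximalIdeal (Localization.AtPrime q)) :=
    Ideal.Quotient.nontrivial_iff.mpr Ideal.IsPrime.ne_top'
  exact one_ne_zero h0

theorem main [IsNoetherianRing A] : (Iq (A := A) q).IsMaximal := by
  rw [Ideal.isMaximal_iff]
  refine ⟨one_not_mem q, fun J x hIJ hxI hxJ => ?_⟩
  obtain ⟨r, hr⟩ := exists_rep (A := A) q x
  have hrm : r ∉ maximalIdeal (Localization.AtPrime q) := by
    intro hmem
    apply hxI
    have := add_mem hr (tmul_one_mem (A := A) q r hmem)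
    simpa using this
  have hru : IsUnit r := by
    by_contra h
    exact hrm ((IsLocalRing.mem_maximalIdeal r).mpr h)
  obtain ⟨r', hr'⟩ := hru.exists_left_inv
  have h1 : r ⊗ₜ[A] (1 : AdicCompletion (maximalIdeal (Localization.AtPrime (q.under A)))
      (Localization.AtPrime (q.under A))) ∈ J := by
    have : r ⊗ₜ[A] (1 : AdicCompletion (maximalIdeal (Localization.AtPrime (q.under A)))
        (Localization.AtPrime (q.under A))) = x - (x - r ⊗ₜ[A] 1) := by abel
    rw [this]
    exact sub_mem hxJ (hIJ hr)
  have : (1 : TensorProduct A (Localization.AtPrime q)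
      (AdicCompletion (maximalIdeal (Localization.AtPrime (q.under A)))
        (Localization.AtPrime (q.under A)))) = (r' ⊗ₜ[A] 1) * (r ⊗ₜ[A] 1) := by
    rw [Algebra.TensorProduct.tmul_mul_tmul, hr', mul_one]
    rfl
  rw [this]
  exact Ideal.mul_mem_left _ _ h1

end Aux

open IsLocalRing in
/-- Let A be a Noetherian ring, B an A-algebra, q a prime ideal of B and p its preimage in A; let A_p
and B_q be the local rings at p and q and Â_p the completion of A_p at its maximal ideal pA_p. Then
the ideal generated by qB_q in B_q ⊗ Â_p is maximal. (The tensor product is formed over A; since A_p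
is a localization of A it agrees with the tensor product over A_p used in the published statement.) -/
theorem result (A B : Type u) [CommRing A] [CommRing B]
    [Algebra A B] [IsNoetherianRing A] (q : Ideal B) [q.IsPrime] :
    ((maximalIdeal (Localization.AtPrime q)).map
      (Algebra.TensorProduct.includeLeftRingHom :
        Localization.AtPrime q →+* TensorProduct A (Localization.AtPrime q)
          (AdicCompletion (maximalIdeal (Localization.AtPrime (q.under A)))
            (Localization.AtPrime (q.under A))))).IsMaximal := by
  exact main (A := A) q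

end Groth.Agent.S19475
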