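import Groth.Statements.S9647
import Mathlib

set_option autoImplicit false
universe u
open CAlg

namespace Groth.Agent.S9647


open TensorProduct

section galtrans
universe v
variable {k L K : Type v} [Field k] [Field L] [Field K] [Algebra k L] [Algebra k K]

/-- the action map -/
noncomputable abbrev T (g : L ≃ₐ[k] L) : L ⊗[k] K →ₐ[k] L ⊗[k] K :=
  Algebra.TensorProduct.map (g : L →ₐ[k] L) (AlgHom.id k K)

lemma T_tmul (g : L ≃ₐ[k] L) (a : L) (b : K) : T (K := K) g (a ⊗ₜ[k] b) = g a ⊗ₜ[k] b := by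
  simp

lemma T_one (x : L ⊗[k] K) : T (1 : L ≃ₐ[k] L) x = x := by
  have : ((1 : L ≃ₐ[k] L) : L →ₐ[k] L) = AlgHom.id k L := rfl
  simp only [T, this, Algebra.TensorProduct.map_id]
  rfl

lemma T_mul (g h : L ≃ₐ[k] L) (x : L ⊗[k] K) : T (g * h) x = T g (T h x) := by
  induction x using TensorProduct.induction_on with
  | zero => simp
  | tmul a b => simp [T]
  | add x y hx hy => simp only [map_add, hx, hy]

lemma smul_eq_T (g : L ≃ₐ[k] L) (x : L ⊗[k] K) : g • x = T g x := by
  induction x using TensorProduct.induction_on with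
  | zero => simp
  | tmul a b => rw [TensorProduct.smul_tmul', T_tmul, AlgEquiv.smul_def]
  | add x y hx hy => rw [smul_add, hx, hy, map_add]

/-- the action of the Galois group on the tensor product -/
@[reducible] noncomputable def galAct : MulSemiringAction (L ≃ₐ[k] L) (L ⊗[k] K) :=
  { (inferInstance : DistribMulAction (L ≃ₐ[k] L) (L ⊗[k] K)) with
    smul_one := fun g => by rw [smul_eq_T, map_one]
    smul_mul := fun g x y => by rw [smul_eq_T, smul_eq_T, smul_eq_T, map_mul] }

lemma open_stab [Algebra.IsIntegral k L] (x : L ⊗[k] K) :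
    ∃ U : Subgroup (L ≃ₐ[k] L), IsOpen (U : Set (L ≃ₐ[k] L)) ∧ ∀ g ∈ U, T g x = x := by
  induction x using TensorProduct.induction_on with
  | zero => exact ⟨⊤, by simp, fun g _ => map_zero _⟩
  | tmul a b =>
    have := IntermediateField.adjoin.finiteDimensional
      (Algebra.IsIntegral.isIntegral (R := k) a)
    refine ⟨(IntermediateField.adjoin k ({a} : Set L)).fixingSubgroup,
      IntermediateField.fixingSubgroup_isOpen _, fun g hg => ?_⟩
    rw [IntermediateField.mem_fixingSubgroup_iff] at hg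
    rw [T_tmul, hg a (IntermediateField.mem_adjoin_simple_self k a)]
  | add x y hx hy =>
    obtain ⟨U, hU, hUx⟩ := hx
    obtain ⟨V, hV, hVy⟩ := hy
    refine ⟨U ⊓ V, ?_, fun g hg => ?_⟩
    · rw [Subgroup.coe_inf]; exact hU.inter hV
    · rw [map_add, hUx g hg.1, hVy g hg.2]

lemma repr_T {ι : Type*} (b : Module.Basis ι k K) (g : L ≃ₐ[k] L) (x : L ⊗[k] K) (i : ι) :
    (Algebra.TensorProduct.basis L b).repr (T g x) i
      = g ((Algebra.TensorProduct.basis L b).repr x i) := by
  induction x using TensorProduct.induction_on with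
  | zero => simp
  | tmul a m =>
    rw [T_tmul]
    simp only [Algebra.TensorProduct.basis_repr_tmul, Finsupp.smul_apply, Finsupp.mapRange_apply,
      smul_eq_mul, map_mul, AlgEquiv.commutes]
  | add x y hx hy => simp only [map_add, Finsupp.add_apply, hx, hy]

lemma invariants [IsGalois k L] (x : L ⊗[k] K) (hx : ∀ g : L ≃ₐ[k] L, T g x = x) :
    ∃ c : K, (1 : L) ⊗ₜ[k] c = x := by
  classical
  let b := Module.Free.chooseBasis k K
  let 𝔅 := Algebra.TensorProduct.basis L b
  have h1 : ∀ i, ∃ c : k, algebraMap k L c = 𝔅.repr x i := by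
    intro i
    have : 𝔅.repr x i ∈ Set.range (algebraMap k L) := by
      rw [InfiniteGalois.mem_range_algebraMap_iff_fixed]
      intro g
      rw [← repr_T b g x i, hx g]
    exact this
  choose c hc using h1
  refine ⟨∑ i ∈ (𝔅.repr x).support, c i • b i, ?_⟩
  conv_rhs => rw [← 𝔅.linearCombination_repr x]
  rw [Finsupp.linearCombination_apply, Finsupp.sum, TensorProduct.tmul_sum]
  refine Finset.sum_congr rfl fun i _ => ?_
  rw [← hc i, Algebra.TensorProduct.basis_apply, TensorProduct.smul_tmul', smul_eq_mul, mul_one,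
    TensorProduct.tmul_smul, TensorProduct.smul_tmul', Algebra.algebraMap_eq_smul_one]

theorem galois_transitive [IsGalois k L] (P Q : Ideal (L ⊗[k] K)) [P.IsPrime] [Q.IsPrime] :
    ∃ σ : L ≃ₐ[k] L,
      Q = P.comap (Algebra.TensorProduct.map (σ : L →ₐ[k] L) (AlgHom.id k K)) := by
  letI : MulSemiringAction (L ≃ₐ[k] L) (L ⊗[k] K) := galAct
  letI : Algebra K (L ⊗[k] K) := Algebra.TensorProduct.rightAlgebra
  letI : TopologicalSpace (L ⊗[k] K) := ⊥
  haveI : DiscreteTopology (L ⊗[k] K) := ⟨rfl⟩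
  have hsmul : ∀ (g : L ≃ₐ[k] L) (x : L ⊗[k] K), g • x = T g x := smul_eq_T
  haveI : SMulCommClass (L ≃ₐ[k] L) K (L ⊗[k] K) := by
    refine ⟨fun g c x => ?_⟩
    rw [hsmul, hsmul, Algebra.smul_def, Algebra.smul_def, map_mul]
    congr 1
    show T g ((1 : L) ⊗ₜ[k] c) = (1 : L) ⊗ₜ[k] c
    simp [T]
  haveI : ContinuousSMul (L ≃ₐ[k] L) (L ⊗[k] K) := by
    refine ⟨IsLocallyConstant.continuous ((IsLocallyConstant.iff_exists_open _).2 ?_)⟩
    rintro ⟨g₀, x₀⟩
    obtain ⟨U, hU, hfix⟩ := open_stab x₀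
    refine ⟨((fun h => g₀⁻¹ * h) ⁻¹' (U : Set (L ≃ₐ[k] L))) ×ˢ {x₀}, ?_, ?_, ?_⟩
    · exact (hU.preimage (continuous_mul_left g₀⁻¹)).prod (isOpen_discrete _)
    · simp [U.one_mem]
    · rintro ⟨g, x⟩ ⟨hg, hx⟩
      simp only [Set.mem_singleton_iff] at hx
      subst hx
      simp only [Set.mem_preimage, SetLike.mem_coe] at hg
      show g • x = g₀ • x
      have h2 : g = g₀ * (g₀⁻¹ * g) := by group
      rw [h2, mul_smul, hsmul (g₀⁻¹ * g), hfix _ hg]
  haveI : Algebra.IsInvariant K (L ⊗[k] K) (L ≃ₐ[k] L) := by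
    refine ⟨fun x hx => ?_⟩
    obtain ⟨c, hc⟩ := invariants x (fun g => by rw [← hsmul]; exact hx g)
    exact ⟨c, hc⟩
  have hP : P.under K = ⊥ := by
    have h := Ideal.eq_bot_or_top (P.under K)
    rcases h with h | h
    · exact h
    · exact absurd h (Ideal.IsPrime.ne_top inferInstance)
  have hQ : Q.under K = ⊥ := by
    have h := Ideal.eq_bot_or_top (Q.under K)
    rcases h with h | h
    · exact h
    · exact absurd h (Ideal.IsPrime.ne_top inferInstance)
  obtain ⟨g, hg⟩ := Algebra.IsInvariant.exists_smul_of_under_eq_of_profinite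
    (A := K) (G := L ≃ₐ[k] L) P Q (hP.trans hQ.symm)
  refine ⟨g⁻¹, ?_⟩
  rw [hg, Ideal.pointwise_smul_eq_comap]
  ext x
  simp only [Ideal.mem_comap]
  have : (MulSemiringAction.toRingAut (L ≃ₐ[k] L) (L ⊗[k] K) g).symm x = T g⁻¹ x := by
    rw [← hsmul]; rfl
  rw [this]

end galtrans

open TensorProduct in
/-- Let K/k be a field extension and k^sep a separable algebraic closure of k. Then the automorphism
group of k^sep over k acts transitively on the primes of k^sep ⊗_k K: for any two primes P, Q there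
is a k-automorphism σ of k^sep with Q the inverse image of P under σ ⊗ id_K. -/
theorem result {k K : Type u} [Field k] [Field K] [Algebra k K]
    (P Q : Ideal (SeparableClosure k ⊗[k] K)) [P.IsPrime] [Q.IsPrime] :
    ∃ σ : SeparableClosure k ≃ₐ[k] SeparableClosure k, Q = P.comap (Algebra.TensorProduct.map (σ : SeparableClosure k →ₐ[k] SeparableClosure k) (AlgHom.id k K)) := by
  exact galois_transitive P Q

end Groth.Agent.S9647
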