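import Groth.Statements.S19477
import Groth.Agent.S9647
import Mathlib

set_option autoImplicit false
universe u
open Variety

namespace Groth.Agent.S19477


open TensorProduct

section galfin
universe v
variable {k L F : Type v} [Field k] [Field L] [Field F] [Algebra k L] [Algebra k F]

open Groth.Agent.S9647

lemma open_stab_finset [Algebra.IsIntegral k L] (s : Finset (L ⊗[k] F)) :
    ∃ U : Subgroup (L ≃ₐ[k] L), IsOpen (U : Set (L ≃ₐ[k] L)) ∧
      ∀ g ∈ U, ∀ x ∈ s, T g x = x := by
  classical
  induction s using Finset.induction_on with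
  | empty => exact ⟨⊤, by simp, fun g _ x hx => by simp at hx⟩
  | insert a s _ ih =>
    obtain ⟨U, hU, hUx⟩ := ih
    obtain ⟨V, hV, hVa⟩ := open_stab (K := F) a
    refine ⟨U ⊓ V, ?_, fun g hg x hx => ?_⟩
    · rw [Subgroup.coe_inf]; exact hU.inter hV
    · rw [Finset.mem_insert] at hx
      rcases hx with rfl | hx
      · exact hVa g hg.2
      · exact hUx g hg.1 x hx

lemma T_inv_T (g : L ≃ₐ[k] L) (x : L ⊗[k] F) : T g⁻¹ (T g x) = x := by
  rw [← T_mul, inv_mul_cancel, T_one]

lemma comap_T_eq (P : Ideal (L ⊗[k] F)) (s : Finset (L ⊗[k] F)) (hs : Ideal.span (s : Set (L ⊗[k] F)) = P)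
    (U : Subgroup (L ≃ₐ[k] L)) (hU : ∀ g ∈ U, ∀ x ∈ s, T g x = x) (g : L ≃ₐ[k] L) (hg : g ∈ U) :
    P.comap (T g) = P := by
  have key : ∀ h ∈ U, P ≤ P.comap (T h) := by
    intro h hh
    rw [← hs, Ideal.span_le]
    intro x hx
    simp only [SetLike.mem_coe, Ideal.mem_comap]
    rw [hU h hh x hx]
    exact Ideal.subset_span hx
  refine le_antisymm ?_ (key g hg)
  intro x hx
  have h1 := key g⁻¹ (U.inv_mem hg) hx
  rw [Ideal.mem_comap] at h1 hx
  rw [T_inv_T] at h1
  exact h1

lemma finite_primes [IsGalois k L] [IsNoetherianRing (L ⊗[k] F)] :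
    Finite (PrimeSpectrum (L ⊗[k] F)) := by
  classical
  by_cases hne : Nonempty (PrimeSpectrum (L ⊗[k] F))
  swap
  · rw [not_nonempty_iff] at hne; infer_instance
  obtain ⟨P₀⟩ := hne
  have hfg : P₀.asIdeal.FG := IsNoetherian.noetherian _
  obtain ⟨s, hs⟩ := hfg
  obtain ⟨U, hUo, hU⟩ := open_stab_finset (k := k) (L := L) (F := F) s
  have hstab := comap_T_eq P₀.asIdeal s hs U hU
  let f : (L ≃ₐ[k] L) → PrimeSpectrum (L ⊗[k] F) := fun g =>
    ⟨P₀.asIdeal.comap (T g), Ideal.comap_isPrime _ _⟩
  have hf : IsLocallyConstant f := by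
    rw [IsLocallyConstant.iff_exists_open]
    intro g₀
    refine ⟨(fun h => h * g₀⁻¹) ⁻¹' (U : Set (L ≃ₐ[k] L)), hUo.preimage (continuous_mul_right g₀⁻¹),
      by simp [U.one_mem], ?_⟩
    intro g hg
    simp only [Set.mem_preimage, SetLike.mem_coe] at hg
    apply PrimeSpectrum.ext
    show P₀.asIdeal.comap (T g) = P₀.asIdeal.comap (T g₀)
    have h2 : g = (g * g₀⁻¹) * g₀ := by group
    ext x
    rw [Ideal.mem_comap, Ideal.mem_comap, h2, T_mul, ← Ideal.mem_comap, hstab _ hg]
  have hsurj : Set.range f = Set.univ := by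
    rw [Set.range_eq_univ]
    intro Q
    obtain ⟨σ, hσ⟩ := galois_transitive P₀.asIdeal Q.asIdeal
    exact ⟨σ, PrimeSpectrum.ext hσ.symm⟩
  have := hf.range_finite
  rw [hsurj] at this
  exact Set.finite_univ_iff.mp this

end galfin

/-- Let K be a field, B an integral K-algebra of finite type with fraction field F, and L a Galois
extension of K with group Γ = Aut_K(L). Then F ⊗_K L has only finitely many prime ideals and Γ,
acting through the second factor, permutes them transitively: for prime ideals P, Q there is γ ∈ Γ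
with Q the preimage of P under id ⊗ γ. (The published statement is the geometric one, that the
points of an algebraic K-scheme X correspond to the Γ-orbits of points of X_L and that these orbits
are finite; it reduces to this algebraic statement by passing to the fibre over a point, and the
algebraic statement is what is proved.) -/
theorem result (K B L : Type u) [Field K]
    [CommRing B] [IsDomain B] [Algebra K B] [Algebra.FiniteType K B] [Field L] [Algebra K L] [IsGalois K L] :
    Finite (PrimeSpectrum (TensorProduct K (FractionRing B) L)) ∧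
      ∀ P Q : PrimeSpectrum (TensorProduct K (FractionRing B) L), ∃ γ : L ≃ₐ[K] L,
        Q.asIdeal = P.asIdeal.comap
          (Algebra.TensorProduct.map (AlgHom.id K (FractionRing B)) (γ : L →ₐ[K] L)) := by
  classical
  let F := FractionRing B
  let e : F ⊗[K] L ≃ₐ[K] L ⊗[K] F := Algebra.TensorProduct.comm K F L
  haveI : Algebra.EssFiniteType K F := inferInstance
  haveI : Algebra.EssFiniteType L (L ⊗[K] F) := inferInstance
  haveI : IsNoetherianRing (L ⊗[K] F) := Algebra.EssFiniteType.isNoetherianRing L _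
  haveI hfin : Finite (PrimeSpectrum (L ⊗[K] F)) := finite_primes (k := K) (L := L) (F := F)
  have hesymm : Function.Surjective (e.symm : L ⊗[K] F →+* F ⊗[K] L) := e.symm.surjective
  refine ⟨?_, ?_⟩
  · exact Finite.of_injective _
      (PrimeSpectrum.comap_injective_of_surjective (e.symm : L ⊗[K] F →+* F ⊗[K] L) hesymm)
  · intro P Q
    haveI hP' : (P.asIdeal.comap (e.symm : L ⊗[K] F →+* F ⊗[K] L)).IsPrime := Ideal.comap_isPrime _ _
    haveI hQ' : (Q.asIdeal.comap (e.symm : L ⊗[K] F →+* F ⊗[K] L)).IsPrime := Ideal.comap_isPrime _ _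
    obtain ⟨σ, hσ⟩ := Groth.Agent.S9647.galois_transitive
      (P.asIdeal.comap (e.symm : L ⊗[K] F →+* F ⊗[K] L))
      (Q.asIdeal.comap (e.symm : L ⊗[K] F →+* F ⊗[K] L))
    refine ⟨σ, ?_⟩
    have hconj : ∀ x : F ⊗[K] L,
        e.symm (Groth.Agent.S9647.T σ (e x)) =
          Algebra.TensorProduct.map (AlgHom.id K F) (σ : L →ₐ[K] L) x := by
      intro x
      induction x using TensorProduct.induction_on with
      | zero => simp
      | tmul a b => simp [e, Groth.Agent.S9647.T]
      | add x y hx hy => simp only [map_add, hx, hy]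
    ext x
    rw [Ideal.mem_comap, ← hconj x]
    have h1 : x ∈ Q.asIdeal ↔ e x ∈ Q.asIdeal.comap (e.symm : L ⊗[K] F →+* F ⊗[K] L) := by
      rw [Ideal.mem_comap]
      show x ∈ Q.asIdeal ↔ e.symm (e x) ∈ Q.asIdeal
      rw [AlgEquiv.symm_apply_apply]
    rw [h1, hσ, Ideal.mem_comap, Ideal.mem_comap]
    rfl

end Groth.Agent.S19477
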