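import Mathlib
import Groth.Statements.S19479
import Groth.Agent.Lib.Helper29.Comod

set_option autoImplicit false
universe u v w
open HopfRep

namespace Groth.Agent.S19479

open Groth.Agent.Lib.Helper29.ComodLib in
open TensorProduct in
/-- Let K be a field, C a K-coalgebra and V a right C-comodule. The following are equivalent: (i) V is
the internal direct sum of a family of simple subcomodules, i.e. there is an independent family of
subcomodules W_i with sum V, each W_i nonzero and having no subcomodules inside it other than 0 and
W_i; (ii) every subcomodule of V has a complementary subcomodule. A subcomodule is a subspace W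
whose coaction lands in the image of W ⊗ C. (The source states this for left comodules; a left
comodule over C is a right comodule over the co-opposite coalgebra, so the statement is the same.) -/
theorem result {K : Type u} {C : Type v} [Field K]
    [AddCommGroup C] [Module K C] [Coalgebra K C] (V : Type w) [AddCommGroup V] [Module K V] [HopfRep.Comod K C V] :
    (∃ (ι : Type w) (W : ι → Submodule K V), iSupIndep W ∧ iSup W = ⊤ ∧ ∀ i,
        HopfRep.IsSubcomod (k := K) (A := C) (W i) ∧ W i ≠ ⊥ ∧
          ∀ W' : Submodule K V, HopfRep.IsSubcomod (k := K) (A := C) W' → W' ≤ W i → W' = ⊥ ∨ W' = W i) ↔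
      HopfRep.IsSemisimpleComod K C V := by
  rw [isSemisimpleComod_iff]
  constructor
  · rintro ⟨ι, W, -, hsup, hW⟩
    apply IsSemisimpleModule.of_sSup_simples_eq_top
    rw [eq_top_iff]
    have htop : (⨆ i, toOp (W i) (hW i).1) = ⊤ := by
      apply Submodule.restrictScalars_injective K
      rw [Submodule.restrictScalars_iSup, Submodule.restrictScalars_top]
      simp only [toOp_restrictScalars]
      exact hsup
    rw [← htop]
    refine iSup_le fun i => le_sSup ?_
    rw [Set.mem_setOf_eq, isSimpleModule_iff_isAtom, isAtom_toOp_iff]
    exact (hW i).2
  · intro hss
    obtain ⟨s, hind, hsup, hsimple⟩ :=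
      IsSemisimpleModule.exists_sSupIndep_sSup_simples_eq_top (opAlg K C V) V
    refine ⟨s, fun i => (i : Submodule (opAlg K C V) V).restrictScalars K, ?_, ?_, ?_⟩
    · rw [sSupIndep_iff] at hind
      intro i
      have := hind i
      rw [disjoint_iff] at this ⊢
      have h2 := congrArg (Submodule.restrictScalars K) this
      simpa only [Submodule.restrictScalars_inf, Submodule.restrictScalars_iSup,
        Submodule.restrictScalars_bot] using h2
    · rw [← Submodule.restrictScalars_iSup, ← sSup_eq_iSup', hsup, Submodule.restrictScalars_top]
    · intro i
      have hat : IsAtom (i : Submodule (opAlg K C V) V) :=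
        isSimpleModule_iff_isAtom.mp (hsimple i i.2)
      rw [← toOp_of_restrictScalars (i : Submodule (opAlg K C V) V), isAtom_toOp_iff] at hat
      exact ⟨isSubcomod_restrictScalars _, hat⟩

end Groth.Agent.S19479
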