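import Groth.Statements.S19482
import Mathlib
import Groth.Agent.Lib.Helper17.NoriSSD
import Groth.Agent.S15341
import Groth.Agent.S16468

set_option autoImplicit false
universe u
open CategoryTheory CategoryTheory.Limits AlgebraicGeometry
open VBCurve

namespace Groth.Agent.S19482

open Groth.Agent.Lib.Helper17.NoriSSA Groth.Agent.Lib.Helper17.NoriSSB
  Groth.Agent.Lib.Helper17.NoriSSC Groth.Agent.Lib.Helper17.NoriSSD
  Groth.Agent.Lib.Helper23 Groth.Agent.Lib.Helper23.Curve Groth.Agent.Lib.Helper23.T2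
  Groth.Agent.Lib.Helper3.InvMonoidal

/-- Let X be a smooth proper integral curve over an algebraically closed field k. Say that a finite
locally free O_X-module E of rank r is essentially finite if it is slope-semistable of degree 0
(degree = χ(E) − r·χ(O_X); semistable: every finite locally free submodule of positive rank has
degree ≤ 0) and there exist a finite locally free module G which is finite in the sense of Weil —
P(G) ≅ Q(G) for two distinct polynomials P ≠ Q with natural-number coefficients, where P(G) is the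
direct sum over i of P_i copies of G^{⊗ i} — and sub-bundles F₂ ⊆ F₁ ⊆ G (monomorphisms F₂ → F₁ → G
whose cokernels are finite locally free), with F₁ and F₂ slope-semistable of degree 0, such that E ≅
F₁/F₂. If E₁ of rank r₁ and E₂ of rank r₂ are essentially finite, then E₁ ⊗ E₂ is finite locally
free of rank r₁ r₂ and essentially finite. (The predicate is written out in full three times; the
curve is smooth, proper and integral of dimension one over an algebraically closed field, so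
slope-semistability has its usual meaning.) -/
theorem result (k : Type u) [Field k] [IsAlgClosed k] (X : Scheme.{u}) [X.Over (Spec (CommRingCat.of k))]
    [IsIntegral X] [IsProper (X ↘ Spec (CommRingCat.of k))] [Smooth (X ↘ Spec (CommRingCat.of k))]
    (hdim : topologicalKrullDim X = 1)
    (r₁ r₂ : ℕ) (E₁ E₂ : X.Modules) (hE₁ : FlatMod.IsFinLocFreeOfRank r₁ E₁) (hE₂ : FlatMod.IsFinLocFreeOfRank r₂ E₂)
    (h₁ : (Curv2.deg k X E₁ r₁ = 0 ∧ ModFun.IsSlopeSemistable k X E₁ r₁ ∧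
      ∃ (s : ℕ) (G : X.Modules) (s₁ : ℕ) (F₁ : X.Modules) (s₂ : ℕ) (F₂ : X.Modules) (i₁ : F₁ ⟶ G) (i₂ : F₂ ⟶ F₁),
        FlatMod.IsFinLocFreeOfRank s G ∧
        (∃ P Q : Polynomial ℕ, P ≠ Q ∧ Nonempty ((∐ fun i : Fin (P.natDegree + 1) => ∐ fun _ : Fin (P.coeff ↑i) => CohB1.tensorPow G ↑i) ≅
          (∐ fun i : Fin (Q.natDegree + 1) => ∐ fun _ : Fin (Q.coeff ↑i) => CohB1.tensorPow G ↑i))) ∧
        FlatMod.IsFinLocFreeOfRank s₁ F₁ ∧ FlatMod.IsFinLocFreeOfRank s₂ F₂ ∧ Mono i₁ ∧ Mono i₂ ∧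
        FlatMod.IsFinLocFree (cokernel i₁) ∧ FlatMod.IsFinLocFree (cokernel i₂) ∧
        Curv2.deg k X F₁ s₁ = 0 ∧ ModFun.IsSlopeSemistable k X F₁ s₁ ∧
        Curv2.deg k X F₂ s₂ = 0 ∧ ModFun.IsSlopeSemistable k X F₂ s₂ ∧
        Nonempty (E₁ ≅ cokernel i₂)))
    (h₂ : (Curv2.deg k X E₂ r₂ = 0 ∧ ModFun.IsSlopeSemistable k X E₂ r₂ ∧
      ∃ (s : ℕ) (G : X.Modules) (s₁ : ℕ) (F₁ : X.Modules) (s₂ : ℕ) (F₂ : X.Modules) (i₁ : F₁ ⟶ G) (i₂ : F₂ ⟶ F₁),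
        FlatMod.IsFinLocFreeOfRank s G ∧
        (∃ P Q : Polynomial ℕ, P ≠ Q ∧ Nonempty ((∐ fun i : Fin (P.natDegree + 1) => ∐ fun _ : Fin (P.coeff ↑i) => CohB1.tensorPow G ↑i) ≅
          (∐ fun i : Fin (Q.natDegree + 1) => ∐ fun _ : Fin (Q.coeff ↑i) => CohB1.tensorPow G ↑i))) ∧
        FlatMod.IsFinLocFreeOfRank s₁ F₁ ∧ FlatMod.IsFinLocFreeOfRank s₂ F₂ ∧ Mono i₁ ∧ Mono i₂ ∧
        FlatMod.IsFinLocFree (cokernel i₁) ∧ FlatMod.IsFinLocFree (cokernel i₂) ∧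
        Curv2.deg k X F₁ s₁ = 0 ∧ ModFun.IsSlopeSemistable k X F₁ s₁ ∧
        Curv2.deg k X F₂ s₂ = 0 ∧ ModFun.IsSlopeSemistable k X F₂ s₂ ∧
        Nonempty (E₂ ≅ cokernel i₂))) :
    FlatMod.IsFinLocFreeOfRank (r₁ * r₂) (CohB1.tensorMod E₁ E₂) ∧
    (Curv2.deg k X (CohB1.tensorMod E₁ E₂) (r₁ * r₂) = 0 ∧ ModFun.IsSlopeSemistable k X (CohB1.tensorMod E₁ E₂) (r₁ * r₂) ∧
      ∃ (s : ℕ) (G : X.Modules) (s₁ : ℕ) (F₁ : X.Modules) (s₂ : ℕ) (F₂ : X.Modules) (i₁ : F₁ ⟶ G) (i₂ : F₂ ⟶ F₁),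
        FlatMod.IsFinLocFreeOfRank s G ∧
        (∃ P Q : Polynomial ℕ, P ≠ Q ∧ Nonempty ((∐ fun i : Fin (P.natDegree + 1) => ∐ fun _ : Fin (P.coeff ↑i) => CohB1.tensorPow G ↑i) ≅
          (∐ fun i : Fin (Q.natDegree + 1) => ∐ fun _ : Fin (Q.coeff ↑i) => CohB1.tensorPow G ↑i))) ∧
        FlatMod.IsFinLocFreeOfRank s₁ F₁ ∧ FlatMod.IsFinLocFreeOfRank s₂ F₂ ∧ Mono i₁ ∧ Mono i₂ ∧
        FlatMod.IsFinLocFree (cokernel i₁) ∧ FlatMod.IsFinLocFree (cokernel i₂) ∧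
        Curv2.deg k X F₁ s₁ = 0 ∧ ModFun.IsSlopeSemistable k X F₁ s₁ ∧
        Curv2.deg k X F₂ s₂ = 0 ∧ ModFun.IsSlopeSemistable k X F₂ s₂ ∧
        Nonempty ((CohB1.tensorMod E₁ E₂) ≅ cokernel i₂)) := by
  classical
  have hdim' : topologicalKrullDim X ≤ 1 := hdim.le
  haveI := isNoetherian_of_isProper k X
  haveI : Nonempty X := inferInstance
  obtain ⟨hd₁, hss₁, s, G, s₁, F₁, s₂, F₂, i₁, i₂, hG, hGfin, hF₁, hF₂, hi₁, hi₂, hc₁, hc₂,
    hdF₁, hssF₁, hdF₂, hssF₂, ⟨e₁⟩⟩ := h₁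
  obtain ⟨hd₂, hss₂, s', G', s₁', F₁', s₂', F₂', i₁', i₂', hG', hGfin', hF₁', hF₂', hi₁', hi₂',
    hc₁', hc₂', hdF₁', hssF₁', hdF₂', hssF₂', ⟨e₂⟩⟩ := h₂
  haveI := hi₁
  haveI := hi₁'
  -- the ambient Weil-finite bundle
  have hGG : FlatMod.IsFinLocFreeOfRank (s * s') (CohB1.tensorMod G G') :=
    isFinLocFreeOfRank_tensorMod hG hG'
  have hGGfin := (Groth.Agent.S15341.result k X hdim s s' G G' hG hG' hGfin hGfin').2
  have hdGG : Curv2.deg k X (CohB1.tensorMod G G') (s * s') = 0 := by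
    rcases Nat.eq_zero_or_pos (s * s') with h0 | hpos
    · have hz : FlatMod.IsFinLocFreeOfRank 0 (CohB1.tensorMod G G') := h0 ▸ hGG
      rw [h0]
      exact VBMaps.deg_zero_of_isZero k (StableEnd.isZero_of_rank_zero hz)
    · obtain ⟨P, Q, hPQ, hiso⟩ := hGGfin
      exact (Groth.Agent.S16468.result k X hdim (s * s') hpos _ hGG P Q hPQ hiso).1
  have hNP : NP k (CohB1.tensorMod G G') := by
    rcases Nat.eq_zero_or_pos (s * s') with h0 | hpos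
    · exact np_of_rank_zero k (h0 ▸ hGG)
    · obtain ⟨P, Q, hPQ, hiso⟩ := hGGfin
      have h := Groth.Agent.S16468.result k X hdim (s * s') hpos _ hGG P Q hPQ hiso
      exact np_of_semistable k hpos h.1 h.2
  -- the sub-bundle `F₁ ⊗ F₁'`
  have hFF : FlatMod.IsFinLocFreeOfRank (s₁ * s₁') (CohB1.tensorMod F₁ F₁') :=
    isFinLocFreeOfRank_tensorMod hF₁ hF₁'
  haveI hii₁ : Mono (tensorMap i₁ i₁') := mono_tensorMap hG hF₁' i₁ i₁'
  have hdFF : Curv2.deg k X (CohB1.tensorMod F₁ F₁') (s₁ * s₁') = 0 := by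
    rw [DegTensor.deg_tensor k hdim' hF₁ hF₁', hdF₁, hdF₁']
    simp
  have hNPFF : NP k (CohB1.tensorMod F₁ F₁') := np_of_mono k (tensorMap i₁ i₁') hNP
  -- the epimorphism onto `E₁ ⊗ E₂`
  let π₁ : F₁ ⟶ E₁ := cokernel.π i₂ ≫ e₁.inv
  let π₂ : F₁' ⟶ E₂ := cokernel.π i₂' ≫ e₂.inv
  haveI : Epi π₁ := epi_comp _ _
  haveI : Epi π₂ := epi_comp _ _
  let π : CohB1.tensorMod F₁ F₁' ⟶ CohB1.tensorMod E₁ E₂ := tensorMap π₁ π₂
  haveI hπ : Epi π := epi_tensorMap hE₁ hF₁' π₁ π₂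
  have hEE : FlatMod.IsFinLocFreeOfRank (r₁ * r₂) (CohB1.tensorMod E₁ E₂) :=
    isFinLocFreeOfRank_tensorMod hE₁ hE₂
  have hdEE : Curv2.deg k X (CohB1.tensorMod E₁ E₂) (r₁ * r₂) = 0 := by
    rw [DegTensor.deg_tensor k hdim' hE₁ hE₂, hd₁, hd₂]
    simp
  obtain ⟨a, hK, hrk, hdegK⟩ := Sat.kernel_epi_data k hdim' hFF hEE π
  have hdK : Curv2.deg k X (kernel π) a = 0 := by
    rw [hdFF, hdEE] at hdegK
    linarith
  have hNPK : NP k (kernel π) := np_of_mono k (kernel.ι π) hNPFF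
  let T : ShortComplex X.Modules := ShortComplex.mk (kernel.ι π) π (kernel.condition π)
  have hTex : T.Exact := ShortComplex.exact_of_f_is_kernel T (kernelIsKernel π)
  haveI : Mono T.f := (inferInstance : Mono (kernel.ι π))
  haveI : Epi T.g := hπ
  have hT : T.ShortExact := ShortComplex.ShortExact.mk hTex
  have hNPEE : NP k (CohB1.tensorMod E₁ E₂) :=
    np_of_quotient k hdim' T hT hK hFF (isCoh_of_isFinLocFreeOfRank hEE) hdK hNPFF
  refine ⟨hEE, hdEE, semistable_of_np k hdEE hNPEE, s * s', CohB1.tensorMod G G', s₁ * s₁',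
    CohB1.tensorMod F₁ F₁', a, kernel π, tensorMap i₁ i₁', kernel.ι π, hGG, hGGfin, hFF, hK, hii₁,
    inferInstance, ?_, ?_, hdFF, semistable_of_np k hdFF hNPFF, hdK,
    semistable_of_np k hdK hNPK, ⟨(cokernelKernelIso π).symm⟩⟩
  · exact isFinLocFree_cokernel_of_np k hdim' hFF hGG (tensorMap i₁ i₁') hdFF hNP
  · intro x
    obtain ⟨U, hxU, ⟨φ⟩⟩ := hEE x
    exact ⟨U, r₁ * r₂, hxU,
      ⟨(Scheme.Modules.restrictFunctor U.ι).mapIso (cokernelKernelIso π) ≪≫ φ⟩⟩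

end Groth.Agent.S19482
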