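import Groth.Statements.S19484
import Groth.Agent.Lib.Helper5.CurveIso

set_option autoImplicit false
universe u
open CategoryTheory CategoryTheory.Limits AlgebraicGeometry
open Curves

namespace Groth.Agent.S19484

/-- Let k be a separably closed field and C a curve over k, that is a scheme of finite type over k of
dimension at most one (no connectedness, smoothness, separatedness or properness assumed). Let φ : F
→ G be a morphism of torsion abelian sheaves on the small étale site of C which induces an
isomorphism on stalks at every geometric point of C lying over a generic point of an irreducible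
component (a point admitting no proper generalization). Then the induced map H^q(C_ét, F) →
H^q(C_ét, G) is an isomorphism for all q > 1; if moreover φ is an epimorphism, it is an isomorphism
for q = 1 as well. (The published statement fixes one geometric point over each generic point; the
dimension is taken at most one here.) -/
theorem result
    (k : Type u) [Field k] [IsSepClosed k] (C : Scheme.{u})
    (f : C ⟶ Spec (CommRingCat.of k)) [LocallyOfFiniteType f] [QuasiCompact f]
    (hdim : topologicalKrullDim C ≤ 1) (F G : EtCoh.Ab C) (hF : EtCoh.IsTorsion F) (hG : EtCoh.IsTorsion G)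
    (φ : F ⟶ G)
    (hgen : ∀ (Ω : Type u) [Field Ω] [IsSepClosed Ω] (ξ : Spec (CommRingCat.of Ω) ⟶ C),
      (∀ x ∈ Set.range ξ.base, ∀ y : C, y ⤳ x → y = x) → IsIso ((EtCoh.stalk ξ).map φ)) :
    (∀ q : ℕ, 1 < q → IsIso ((EtCoh.HF C q).map φ)) ∧ (Epi φ → IsIso ((EtCoh.HF C 1).map φ)) := by
  haveI : CompactSpace C := by
    haveI : CompactSpace (Spec (CommRingCat.of k)) := inferInstance
    exact QuasiCompact.compactSpace_of_compactSpace f
  haveI : IsLocallyNoetherian C := LocallyOfFiniteType.isLocallyNoetherian f
  have hX : ∀ x : C, IsClosed ({x} : Set C) → IsSepClosed (C.residueField x) :=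
    fun x hx => Groth.Agent.Lib.Helper5.ClosedPtSupp.isSepClosed_residueField_of_isClosed' f x hx
  refine Groth.Agent.Lib.Helper5.CurveIso.isIso_HF_map φ ?_ ?_
  · intro q hq
    exact Groth.Agent.Lib.Helper5.ClosedPtSupp.subsingleton_H_of_supp_closedPts (kernel φ) hX
      (fun x hx => Groth.Agent.Lib.Helper5.CurveSupp.isClosed_of_mem_supp hdim (kernel φ)
        (fun Ω _ _ ξ hξ => Groth.Agent.Lib.Helper5.CurveIso.isZero_stalk_kernel φ ξ
          (hgen Ω ξ hξ)) x hx) q hq
  · intro q hq
    exact Groth.Agent.Lib.Helper5.ClosedPtSupp.subsingleton_H_of_supp_closedPts (cokernel φ) hX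
      (fun x hx => Groth.Agent.Lib.Helper5.CurveSupp.isClosed_of_mem_supp hdim (cokernel φ)
        (fun Ω _ _ ξ hξ => Groth.Agent.Lib.Helper5.CurveIso.isZero_stalk_cokernel φ ξ
          (hgen Ω ξ hξ)) x hx) q hq

end Groth.Agent.S19484
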