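import Mathlib
import Groth.Statements.S19485

set_option autoImplicit false
universe u
open Crimp

namespace Groth.Agent.S19485

/-- An arithmetic fact on extended naturals used for comparing orders. -/
theorem enat_aux (m : ℕ) (hm : ¬ 3 ∣ m) (a b : ℕ∞) (hab : a ≠ ⊤ ∨ b ≠ ⊤) :
    (3 • a ≠ 3 • b + m) ∧ (3 • a ⊓ (3 • b + m) ≠ ((2 * m : ℕ) : ℕ∞)) := by
  have h3 : (3 : ℕ) • (⊤ : ℕ∞) = ⊤ := by simp
  induction a using ENat.recTopCoe with
  | top =>
    induction b using ENat.recTopCoe with
    | top => simp at hab
    | coe b =>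
      rw [h3]
      have : (3 : ℕ) • (b : ℕ∞) + (m : ℕ∞) = ((3 * b + m : ℕ) : ℕ∞) := by push_cast; simp
      rw [this]
      refine ⟨?_, ?_⟩
      · exact (ENat.natCast_ne_top (3 * b + m)).symm
      · rw [top_inf_eq, Ne, Nat.cast_inj]
        omega
  | coe a =>
    induction b using ENat.recTopCoe with
    | top =>
      rw [h3]
      have e : (3 : ℕ) • (a : ℕ∞) = ((3 * a : ℕ) : ℕ∞) := by push_cast; simp
      refine ⟨?_, ?_⟩
      · rw [e, top_add]; exact ENat.natCast_ne_top _
      · rw [top_add, inf_top_eq, e, Ne, Nat.cast_inj]; omega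
    | coe b =>
      have e : (3 : ℕ) • (a : ℕ∞) = ((3 * a : ℕ) : ℕ∞) := by push_cast; simp
      have e' : (3 : ℕ) • (b : ℕ∞) + (m : ℕ∞) = ((3 * b + m : ℕ) : ℕ∞) := by push_cast; simp
      rw [e, e']
      refine ⟨?_, ?_⟩
      · rw [Ne, Nat.cast_inj]; omega
      · rcases le_total (3 * a) (3 * b + m) with h | h
        · rw [inf_eq_left.mpr (by exact_mod_cast h), Ne, Nat.cast_inj]; omega
        · rw [inf_eq_right.mpr (by exact_mod_cast h), Ne, Nat.cast_inj]; omega

/-- The criterion for closedness under multiplication on which the description of the stratum rests.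
Over R = k⟦t⟧ with k an algebraically closed field of characteristic zero, let S̃ = k⟦x⟧ regarded as
an R-algebra through t ↦ x ^ 3, that is S̃ = R[x] / (x ^ 3 - t). Let m, n be natural numbers with m
not divisible by 3, and let g be a power series with nonzero constant term. Then the R-submodule of
S̃ spanned by 1 and x ^ m g together with the ideal x ^ n S̃ is closed under multiplication if and
only if n ≤ 2m. (The published proposition goes on to describe the stratum of crimps with these
invariants as irreducible of dimension ⌊(n - m)/3⌋ with a normal form for g; only the closedness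
criterion is stated here.) -/
theorem result {k : Type u} [Field k] [IsAlgClosed k] [CharZero k]
    (m n : ℕ) (hm : ¬ 3 ∣ m) (x g : W4c1hurwitzcpt.RootDisk 3 k)
    (hx : W4c1hurwitzcpt.RootDisk.val x = PowerSeries.X) (hg : PowerSeries.order (W4c1hurwitzcpt.RootDisk.val g) = 0)
    (M : Submodule (PowerSeries k) (W4c1hurwitzcpt.RootDisk 3 k))
    (hM : M = Submodule.span (PowerSeries k) {1, x ^ m * g} ⊔
      (Ideal.span {x ^ n} : Ideal (W4c1hurwitzcpt.RootDisk 3 k)).restrictScalars (PowerSeries k)) :
    (∀ a ∈ M, ∀ b ∈ M, a * b ∈ M) ↔ n ≤ 2 * m := by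
  subst hM
  set e : W4c1hurwitzcpt.RootDisk 3 k := x ^ m * g with he
  set I : Ideal (W4c1hurwitzcpt.RootDisk 3 k) := Ideal.span {x ^ n} with hI
  have heM : e ∈ Submodule.span (PowerSeries k) {1, e} ⊔ I.restrictScalars (PowerSeries k) :=
    Submodule.mem_sup_left (Submodule.subset_span (by simp))
  have hIM : ∀ z ∈ I, z ∈ Submodule.span (PowerSeries k) {1, e} ⊔ I.restrictScalars (PowerSeries k) :=
    fun z hz => Submodule.mem_sup_right (by simpa using hz)
  constructor
  · intro hclosed
    by_contra hlt
    rw [not_le] at hlt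
    have hmem := hclosed e heM e heM
    rw [Submodule.mem_sup] at hmem
    obtain ⟨y, hy, z, hz, hyz⟩ := hmem
    rw [Submodule.mem_span_pair] at hy
    obtain ⟨r₁, r₂, rfl⟩ := hy
    rw [Submodule.restrictScalars_mem, hI, Ideal.mem_span_singleton'] at hz
    obtain ⟨s, rfl⟩ := hz
    have hE : ∀ r, W4c1hurwitzcpt.RootDisk.val (algebraMap (PowerSeries k) (W4c1hurwitzcpt.RootDisk 3 k) r) =
        PowerSeries.expand 3 three_ne_zero r := fun r => rfl
    have h1' := congrArg W4c1hurwitzcpt.RootDisk.val hyz
    rw [Algebra.smul_def, Algebra.smul_def] at h1'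
    simp only [he, map_add, map_mul, map_pow, hx, hE, mul_one] at h1'
    generalize W4c1hurwitzcpt.RootDisk.val g = G at hg h1'
    generalize W4c1hurwitzcpt.RootDisk.val s = S at h1'
    have hG0 : PowerSeries.constantCoeff G ≠ 0 := by
      have := (PowerSeries.order_eq_nat (φ := G) (n := 0)).mp (by simpa using hg)
      simpa using this.1
    -- the combination A + B
    have hAB : PowerSeries.expand 3 three_ne_zero r₁ +
        PowerSeries.expand 3 three_ne_zero r₂ * (PowerSeries.X ^ m * G) =
        PowerSeries.X ^ (2 * m) * (G * G - S * PowerSeries.X ^ (n - 2 * m)) := by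
      have hn : n = 2 * m + (n - 2 * m) := by omega
      have : PowerSeries.X ^ (2 * m) * (G * G - S * PowerSeries.X ^ (n - 2 * m)) =
          PowerSeries.X ^ m * G * (PowerSeries.X ^ m * G) - S * PowerSeries.X ^ (2 * m + (n - 2 * m)) := by
        ring
      rw [this, ← hn, ← h1']; ring
    have hordC : PowerSeries.order (PowerSeries.X ^ (2 * m) * (G * G - S * PowerSeries.X ^ (n - 2 * m))) =
        ((2 * m : ℕ) : ℕ∞) := by
      rw [PowerSeries.order_mul, PowerSeries.order_X_pow]
      have : PowerSeries.order (G * G - S * PowerSeries.X ^ (n - 2 * m)) = ((0 : ℕ) : ℕ∞) := by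
        rw [PowerSeries.order_eq_nat]
        refine ⟨?_, fun i hi => absurd hi (Nat.not_lt_zero _)⟩
        rw [map_sub, PowerSeries.coeff_mul_X_pow', if_neg (by omega), sub_zero]
        simp only [PowerSeries.coeff_zero_eq_constantCoeff, map_mul]
        exact mul_ne_zero hG0 hG0
      rw [this]; simp
    have hordA : PowerSeries.order (PowerSeries.expand 3 three_ne_zero r₁) = 3 • PowerSeries.order r₁ :=
      PowerSeries.order_expand 3 three_ne_zero r₁
    have hordB : PowerSeries.order (PowerSeries.expand 3 three_ne_zero r₂ * (PowerSeries.X ^ m * G)) =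
        3 • PowerSeries.order r₂ + m := by
      rw [PowerSeries.order_mul, PowerSeries.order_mul, PowerSeries.order_X_pow, hg, add_zero,
        PowerSeries.order_expand]
    by_cases htop : PowerSeries.order r₁ = ⊤ ∧ PowerSeries.order r₂ = ⊤
    · rw [PowerSeries.order_eq_top, PowerSeries.order_eq_top] at htop
      rw [htop.1, htop.2, map_zero, zero_mul, add_zero] at hAB
      rw [← hAB, PowerSeries.order_zero] at hordC
      exact ENat.natCast_ne_top _ hordC.symm
    obtain ⟨hne, hmin⟩ := enat_aux m hm (PowerSeries.order r₁) (PowerSeries.order r₂)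
      (by tauto)
    have := PowerSeries.order_add_of_order_ne (PowerSeries.expand 3 three_ne_zero r₁)
      (PowerSeries.expand 3 three_ne_zero r₂ * (PowerSeries.X ^ m * G))
      (by rw [hordA, hordB]; exact hne)
    rw [hAB, hordC, hordA, hordB] at this
    exact hmin this.symm
  · intro hle
    have hee : e * e ∈ I := by
      rw [hI, Ideal.mem_span_singleton']
      refine ⟨x ^ (2 * m - n) * g * g, ?_⟩
      have : 2 * m = (2 * m - n) + n := by omega
      rw [he]
      calc x ^ (2 * m - n) * g * g * x ^ n = x ^ ((2 * m - n) + n) * g * g := by ring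
        _ = x ^ (2 * m) * g * g := by rw [← this]
        _ = x ^ m * g * (x ^ m * g) := by ring
    have heb : ∀ b ∈ Submodule.span (PowerSeries k) {1, e} ⊔ I.restrictScalars (PowerSeries k),
        e * b ∈ Submodule.span (PowerSeries k) {1, e} ⊔ I.restrictScalars (PowerSeries k) := by
      intro b hb
      rw [Submodule.mem_sup] at hb
      obtain ⟨y, hy, z, hz, rfl⟩ := hb
      rw [Submodule.mem_span_pair] at hy
      obtain ⟨r₁, r₂, rfl⟩ := hy
      rw [Submodule.restrictScalars_mem] at hz
      have : e * (r₁ • 1 + r₂ • e + z) = r₁ • e + r₂ • (e * e) + e * z := by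
        simp only [Algebra.smul_def]; ring
      rw [this]
      refine Submodule.add_mem _ (Submodule.add_mem _ (Submodule.smul_mem _ _ heM)
        (Submodule.smul_mem _ _ (hIM _ hee))) (hIM _ (I.mul_mem_left _ hz))
    intro a ha b hb
    rw [Submodule.mem_sup] at ha
    obtain ⟨y, hy, z, hz, rfl⟩ := ha
    rw [Submodule.mem_span_pair] at hy
    obtain ⟨r₁, r₂, rfl⟩ := hy
    rw [Submodule.restrictScalars_mem] at hz
    have : (r₁ • 1 + r₂ • e + z) * b = r₁ • b + r₂ • (e * b) + z * b := by
      simp only [Algebra.smul_def]; ring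
    rw [this]
    exact Submodule.add_mem _ (Submodule.add_mem _ (Submodule.smul_mem _ _ hb)
      (Submodule.smul_mem _ _ (heb b hb))) (hIM _ (I.mul_mem_right _ hz))

end Groth.Agent.S19485
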