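import Mathlib
import Groth.Statements.S19486

set_option autoImplicit false
universe u
open Crimp

namespace Groth.Agent.S19486

/-- The emptiness of the stratum rests on the following computation. Over R = k⟦t⟧ with k an
algebraically closed field of characteristic zero, let S̃ = S̃₁ × R where S̃₁ = k⟦x⟧ is regarded as
an R-algebra through t ↦ x ^ 2, that is S̃₁ = R[x] / (x ^ 2 - t), with R embedded diagonally in the
product. Let m be odd, n > 2m, and let g be a power series with nonzero constant term. Then the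
R-submodule of S̃ spanned by 1 = (1, 1) and (x ^ m g, 0) together with the ideal x ^ n S̃₁ × 0 is
not closed under multiplication. (The published item concludes that the corresponding stratum of
crimps is empty; only this computation is stated here, with the ideal read as x ^ n S̃₁ × 0.) -/
theorem result {k : Type u} [Field k] [IsAlgClosed k] [CharZero k]
    (m n : ℕ) (hm : Odd m) (hmn : 2 * m < n) (x g : W4c1hurwitzcpt.RootDisk 2 k)
    (hx : W4c1hurwitzcpt.RootDisk.val x = PowerSeries.X) (hg : PowerSeries.order (W4c1hurwitzcpt.RootDisk.val g) = 0)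
    (M : Submodule (PowerSeries k) (W4c1hurwitzcpt.RootDisk 2 k × PowerSeries k))
    (hM : M = Submodule.span (PowerSeries k) {(1 : W4c1hurwitzcpt.RootDisk 2 k × PowerSeries k), (x ^ m * g, 0)} ⊔
      ((Ideal.span {x ^ n} : Ideal (W4c1hurwitzcpt.RootDisk 2 k)).restrictScalars (PowerSeries k)).prod ⊥) :
    ∃ a ∈ M, ∃ b ∈ M, a * b ∉ M := by
  subst hM
  have he₂M : ((x ^ m * g, 0) : W4c1hurwitzcpt.RootDisk 2 k × PowerSeries k) ∈
      Submodule.span (PowerSeries k) {(1 : W4c1hurwitzcpt.RootDisk 2 k × PowerSeries k), (x ^ m * g, 0)} ⊔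
      ((Ideal.span {x ^ n} : Ideal (W4c1hurwitzcpt.RootDisk 2 k)).restrictScalars (PowerSeries k)).prod ⊥ :=
    Submodule.mem_sup_left (Submodule.subset_span (by simp))
  refine ⟨_, he₂M, _, he₂M, ?_⟩
  intro hmem
  rw [Submodule.mem_sup] at hmem
  obtain ⟨y, hy, z, hz, hyz⟩ := hmem
  rw [Submodule.mem_span_pair] at hy
  obtain ⟨r₁, r₂, rfl⟩ := hy
  rw [Submodule.mem_prod] at hz
  obtain ⟨hz1, hz2⟩ := hz
  rw [Submodule.restrictScalars_mem, Ideal.mem_span_singleton'] at hz1
  obtain ⟨s, hs⟩ := hz1
  rw [Submodule.mem_bot] at hz2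
  have h2 := congrArg Prod.snd hyz
  have h1 := congrArg Prod.fst hyz
  simp only [Prod.snd_add, Prod.smul_snd, Prod.snd_one, add_zero, hz2, Prod.snd_mul,
    mul_zero, smul_eq_mul, mul_one] at h2
  subst h2
  simp only [Prod.fst_add, Prod.smul_fst, zero_smul, zero_add, Prod.fst_mul,
    ← hs] at h1
  -- transport to power series
  have hE : W4c1hurwitzcpt.RootDisk.val (algebraMap (PowerSeries k) (W4c1hurwitzcpt.RootDisk 2 k) r₂) =
      PowerSeries.expand 2 two_ne_zero r₂ := rfl
  have h1' := congrArg W4c1hurwitzcpt.RootDisk.val h1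
  rw [Algebra.smul_def] at h1'
  simp only [map_add, map_mul, map_pow, hx, hE] at h1'
  generalize W4c1hurwitzcpt.RootDisk.val g = G at hg h1'
  generalize W4c1hurwitzcpt.RootDisk.val s = S at h1'
  have hG0 : PowerSeries.constantCoeff G ≠ 0 := by
    have := (PowerSeries.order_eq_nat (φ := G) (n := 0)).mp (by simpa using hg)
    simpa using this.1
  have hGu : IsUnit G := PowerSeries.isUnit_iff_constantCoeff.mpr (IsUnit.mk0 _ hG0)
  obtain ⟨v, hv⟩ := hGu.exists_right_inv
  have h3 : PowerSeries.X ^ (2 * m) * G =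
      PowerSeries.expand 2 two_ne_zero r₂ * PowerSeries.X ^ m + S * v * PowerSeries.X ^ n := by
    have := congrArg (fun t => t * v) h1'
    beta_reduce at this
    have e1 : (PowerSeries.expand 2 two_ne_zero r₂ * (PowerSeries.X ^ m * G) + S * PowerSeries.X ^ n) * v
        = PowerSeries.expand 2 two_ne_zero r₂ * PowerSeries.X ^ m * (G * v) + S * v * PowerSeries.X ^ n := by ring
    have e2 : PowerSeries.X ^ m * G * (PowerSeries.X ^ m * G) * v
        = PowerSeries.X ^ (2 * m) * G * (G * v) := by ring
    rw [e1, e2, hv, mul_one, mul_one] at this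
    exact this.symm
  have h4 := congrArg (PowerSeries.coeff (2 * m)) h3
  rw [map_add, PowerSeries.coeff_X_pow_mul', PowerSeries.coeff_mul_X_pow',
    PowerSeries.coeff_mul_X_pow', if_pos le_rfl, if_pos (by omega), if_neg (by omega)] at h4
  have h5 : 2 * m - m = m := by omega
  rw [h5, PowerSeries.coeff_expand_of_not_dvd 2 two_ne_zero _ (by
    rcases hm with ⟨j, rfl⟩; omega), Nat.sub_self, add_zero] at h4
  exact hG0 (by simpa using h4)

end Groth.Agent.S19486
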