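import Mathlib
import Groth.Statements.S19487

set_option autoImplicit false
open W4c1frobunstiva

namespace Groth.Agent.S19487

open Polynomial in
/-- One-variable count: bounded positive exponent vectors of given sum are counted by a coefficient
of a power of `X + X^2 + ⋯ + X^(q-1)`. -/
theorem cardA (q m t : ℕ) :
    Fintype.card {e : Fin m → Fin q // (∀ i, 1 ≤ (e i : ℕ)) ∧ ∑ i, (e i : ℕ) = t} =
      ((∑ w ∈ Finset.Ico 1 q, (X : ℕ[X]) ^ w) ^ m).coeff t := by
  classical
  have hsum : (∑ w ∈ Finset.Ico 1 q, (X : ℕ[X]) ^ w) =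
      ∑ w : Fin q, (if 1 ≤ (w : ℕ) then (X : ℕ[X]) ^ (w : ℕ) else 0) := by
    rw [Fin.sum_univ_eq_sum_range (fun w => if 1 ≤ w then (X : ℕ[X]) ^ w else 0) q,
      ← Finset.sum_filter]
    congr 1
    ext w
    simp only [Finset.mem_Ico, Finset.mem_filter, Finset.mem_range]
    tauto
  have hpow : (∑ w ∈ Finset.Ico 1 q, (X : ℕ[X]) ^ w) ^ m =
      ∏ _i : Fin m, ∑ w : Fin q, (if 1 ≤ (w : ℕ) then (X : ℕ[X]) ^ (w : ℕ) else 0) := by
    rw [Finset.prod_const, Finset.card_univ, Fintype.card_fin, hsum]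
  rw [Fintype.card_subtype, Finset.card_filter, hpow, Finset.prod_univ_sum,
    Fintype.piFinset_univ, finsetSum_coeff]
  refine Finset.sum_congr rfl fun e _ => ?_
  rw [Fintype.prod_ite_zero, Finset.prod_pow_eq_pow_sum]
  by_cases h : ∀ i, 1 ≤ (e i : ℕ)
  · simp only [h, true_and, if_true, coeff_X_pow]
    by_cases h2 : ∑ i, (e i : ℕ) = t
    · simp [h2]
    · simp [h2, Ne.symm h2]
  · simp [h]

section Generic

open Polynomial

variable {A : Type*} [CommSemiring A]

/-- The local factor of the two-variable generating polynomial (generic coefficients). -/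
noncomputable def GG (r : ℕ) (a : ℕ → A) (v : ℕ) : A[X] :=
  if 1 ≤ v then C (a v) * (if 2 * v < 2 * r + 1 then (X : A[X]) else 1) else 0

theorem GG_sum (r : ℕ) (a : ℕ → A) :
    (X * C (∑ w ∈ Finset.Ico 1 (r + 1), a w) +
      C (∑ w ∈ Finset.Ico 1 (r + 1), a (w + r)) : A[X]) =
      ∑ v : Fin (2 * r + 1), GG r a v := by
  classical
  rw [Fin.sum_univ_eq_sum_range (GG r a) (2 * r + 1)]
  have hsplit : ∀ v, GG r a v =
      (if 1 ≤ v ∧ 2 * v < 2 * r + 1 then C (a v) * X else 0) +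
      (if 1 ≤ v ∧ ¬ 2 * v < 2 * r + 1 then C (a v) else 0) := by
    intro v
    simp only [GG]
    by_cases h1 : 1 ≤ v <;> by_cases h2 : 2 * v < 2 * r + 1 <;> simp [h1, h2]
  rw [Finset.sum_congr rfl (fun v _ => hsplit v), Finset.sum_add_distrib, ← Finset.sum_filter,
    ← Finset.sum_filter]
  have hf1 : (Finset.range (2 * r + 1)).filter (fun v => 1 ≤ v ∧ 2 * v < 2 * r + 1) =
      Finset.Ico 1 (r + 1) := by
    ext v
    simp only [Finset.mem_Ico, Finset.mem_filter, Finset.mem_range]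
    omega
  have hf2 : (Finset.range (2 * r + 1)).filter (fun v => 1 ≤ v ∧ ¬ 2 * v < 2 * r + 1) =
      Finset.Ico (1 + r) (r + 1 + r) := by
    ext v
    simp only [Finset.mem_Ico, Finset.mem_filter, Finset.mem_range]
    omega
  rw [hf1, hf2]
  congr 1
  · rw [← Finset.sum_mul, ← map_sum]
    exact X_mul_C _
  · rw [← Finset.sum_Ico_add' (fun v => C (a v)) 1 (r + 1) r, ← map_sum]

theorem GG_prod (r n D : ℕ) (a : ℕ → A) (e : Fin n → Fin (2 * r + 1)) :
    (∏ i, GG r a (e i)).coeff D =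
      if (∀ i, 1 ≤ (e i : ℕ)) ∧
        (Finset.univ.filter fun i => 2 * (e i : ℕ) < 2 * r + 1).card = D
      then ∏ i, a (e i) else 0 := by
  classical
  simp only [GG]
  rw [Fintype.prod_ite_zero]
  by_cases h : ∀ i, 1 ≤ (e i : ℕ)
  · rw [if_pos h, Finset.prod_mul_distrib, Finset.prod_ite, Finset.prod_const,
      Finset.prod_const_one, mul_one, ← map_prod, coeff_C_mul_X_pow]
    by_cases hD : D = (Finset.univ.filter fun i => 2 * (e i : ℕ) < 2 * r + 1).card
    · rw [if_pos hD, if_pos ⟨h, hD.symm⟩]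
    · rw [if_neg hD, if_neg (fun hc => hD hc.2.symm)]
  · rw [if_neg h, coeff_zero, if_neg (fun hc => h hc.1)]

/-- Binomial extraction of the `Y`-coefficient. -/
theorem coeff_binom (P Q : A) (n D : ℕ) :
    ((X * C P + C Q : A[X]) ^ n).coeff D = P ^ D * Q ^ (n - D) * (n.choose D : A) := by
  rw [add_pow (X * C P : A[X]) (C Q) n, finsetSum_coeff]
  have hterm : ∀ m ∈ Finset.range (n + 1),
      ((X * C P) ^ m * (C Q) ^ (n - m) * (n.choose m : A[X])).coeff D =
        if D = m then P ^ m * Q ^ (n - m) * (n.choose m : A) else 0 := by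
    intro m _
    have : (X * C P) ^ m * (C Q) ^ (n - m) * (n.choose m : A[X]) =
        C (P ^ m * Q ^ (n - m) * (n.choose m : A)) * X ^ m := by
      rw [map_mul, map_mul, map_pow, map_pow, map_natCast]
      ring
    rw [this, coeff_C_mul_X_pow]
  rw [Finset.sum_congr rfl hterm, Finset.sum_ite_eq]
  split_ifs with h
  · rfl
  · rw [Finset.mem_range, not_lt] at h
    rw [Nat.choose_eq_zero_of_lt (by omega)]
    simp

theorem gen_count (r n D : ℕ) (a : ℕ → A) :
    ∑ e : Fin n → Fin (2 * r + 1),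
      (if (∀ i, 1 ≤ (e i : ℕ)) ∧
        (Finset.univ.filter fun i => 2 * (e i : ℕ) < 2 * r + 1).card = D
      then ∏ i, a (e i) else 0) =
      (∑ w ∈ Finset.Ico 1 (r + 1), a w) ^ D * (∑ w ∈ Finset.Ico 1 (r + 1), a (w + r)) ^ (n - D) *
        (n.choose D : A) := by
  classical
  have h1 := Finset.prod_univ_sum (fun _ : Fin n => (Finset.univ : Finset (Fin (2 * r + 1))))
    (fun _ v => GG r a v)
  rw [Fintype.piFinset_univ, Finset.prod_const, Finset.card_univ, Fintype.card_fin,
    ← GG_sum] at h1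
  rw [← coeff_binom, h1, finsetSum_coeff]
  exact Finset.sum_congr rfl (fun e _ => (GG_prod r n D a e).symm)

end Generic

open Polynomial in
/-- Two-variable count. -/
theorem cardL (r n s D : ℕ) :
    Fintype.card {e : Fin n → Fin (2 * r + 1) // (∀ i, 1 ≤ (e i : ℕ)) ∧ ∑ i, (e i : ℕ) = s ∧
        (Finset.univ.filter fun i => 2 * (e i : ℕ) < 2 * r + 1).card = D} =
      ((∑ w ∈ Finset.Ico 1 (r + 1), (X : ℕ[X]) ^ w) ^ D *
        (X ^ r * ∑ w ∈ Finset.Ico 1 (r + 1), (X : ℕ[X]) ^ w) ^ (n - D) *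
          (n.choose D : ℕ[X])).coeff s := by
  classical
  have hg := gen_count (A := ℕ[X]) r n D (fun v => (X : ℕ[X]) ^ v)
  have hR : (∑ w ∈ Finset.Ico 1 (r + 1), (X : ℕ[X]) ^ (w + r)) =
      X ^ r * ∑ w ∈ Finset.Ico 1 (r + 1), (X : ℕ[X]) ^ w := by
    rw [Finset.mul_sum]
    refine Finset.sum_congr rfl fun w _ => ?_
    rw [pow_add, mul_comm]
  rw [hR] at hg
  rw [Fintype.card_subtype, Finset.card_filter, ← hg, finsetSum_coeff]
  refine Finset.sum_congr rfl fun e _ => ?_
  rw [Finset.prod_pow_eq_pow_sum]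
  by_cases h1 : ∀ i, 1 ≤ (e i : ℕ)
  · by_cases h3 : (Finset.univ.filter fun i => 2 * (e i : ℕ) < 2 * r + 1).card = D
    · rw [if_pos (⟨h1, h3⟩ : (∀ i, 1 ≤ (e i : ℕ)) ∧ _), coeff_X_pow]
      by_cases h2 : ∑ i, (e i : ℕ) = s
      · rw [if_pos ⟨h1, h2, h3⟩, if_pos h2.symm]
      · rw [if_neg (fun hc => h2 hc.2.1), if_neg (fun hc => h2 hc.symm)]
    · rw [if_neg (fun hc => h3 hc.2.2), if_neg (fun hc => h3 hc.2), coeff_zero]
  · rw [if_neg (fun hc => h1 hc.1), if_neg (fun hc => h1 hc.1), coeff_zero]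

open Polynomial in
/-- The second formula. For p odd and natural numbers n, s, write N_p(n, s) for the number of monomials
of degree s in n variables in which every variable occurs with a positive exponent strictly less
than p, that is of exponent vectors (e_1, …, e_n) with sum s and 1 ≤ e_i ≤ p − 1, and N_p^D(n, s)
for the number of those in which exactly D variables occur with exponent less than p/2. Then
N_p^D(n, s) = C(n, D) · Σ_j N_{(p+1)/2}(D, j) · N_{(p+1)/2}(n − D, s − j − (n − D)(p − 1)/2), the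
sum running over 0 ≤ j ≤ s. (Natural-number subtraction is used in the last argument; when it
truncates and n > D the factor vanishes, as it should. The published setting has p an odd prime;
only p odd is used. The companion inclusion–exclusion expression for N_p(n, s) itself is a separate
statement.) -/
theorem result (p n s D : ℕ) (hp : Odd p) :
    Fintype.card {e : Fin n → Fin p // (∀ i, 1 ≤ (e i : ℕ)) ∧ ∑ i, (e i : ℕ) = s ∧
        (Finset.univ.filter fun i => 2 * (e i : ℕ) < p).card = D} =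
      n.choose D * ∑ j ∈ Finset.range (s + 1),
        Fintype.card {e : Fin D → Fin ((p + 1) / 2) // (∀ i, 1 ≤ (e i : ℕ)) ∧ ∑ i, (e i : ℕ) = j} *
          Fintype.card {e : Fin (n - D) → Fin ((p + 1) / 2) // (∀ i, 1 ≤ (e i : ℕ)) ∧ ∑ i, (e i : ℕ) = (s - j - (n - D) * ((p - 1) / 2))} := by
  obtain ⟨r, rfl⟩ := hp
  simp only [cardA]
  rw [cardL]
  have hq : (2 * r + 1 + 1) / 2 = r + 1 := by omega
  have hr : (2 * r + 1 - 1) / 2 = r := by omega
  rw [hq, hr]
  set P : ℕ[X] := ∑ w ∈ Finset.Ico 1 (r + 1), (X : ℕ[X]) ^ w with hP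
  have hP0 : ∀ m, 1 ≤ m → (P ^ m).coeff 0 = 0 := by
    intro m hm
    rw [coeff_zero_eq_eval_zero, eval_pow, hP, eval_finsetSum]
    have : ∑ i ∈ Finset.Ico 1 (r + 1), eval 0 ((X : ℕ[X]) ^ i) = 0 := by
      refine Finset.sum_eq_zero fun i hi => ?_
      rw [Finset.mem_Ico] at hi
      simp [eval_pow, eval_X, zero_pow (by omega : i ≠ 0)]
    rw [this, zero_pow (by omega)]
  rw [coeff_mul_natCast, Nat.cast_id]
  refine (Nat.mul_comm _ _).trans ?_
  congr 1
  have hQ : (X ^ r * P) ^ (n - D) = X ^ ((n - D) * r) * P ^ (n - D) := by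
    rw [mul_pow, ← pow_mul, mul_comm r]
  rw [hQ, coeff_mul, Finset.Nat.sum_antidiagonal_eq_sum_range_succ_mk]
  refine Finset.sum_congr rfl fun j hj => ?_
  congr 1
  rw [coeff_X_pow_mul']
  split_ifs with hle
  · rfl
  · have h1 : 1 ≤ n - D := by
      by_contra hcon
      have h0 : n - D = 0 := by omega
      rw [h0, zero_mul] at hle
      exact hle (Nat.zero_le _)
    have h2 : s - j - (n - D) * r = 0 := by omega
    rw [h2, hP0 _ h1]

end Groth.Agent.S19487
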