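import Mathlib
import Groth.Statements.S19488

set_option autoImplicit false
universe u
open CategoryTheory CategoryTheory.Limits AlgebraicGeometry
open W4c1frobunstiva

namespace Groth.Agent.S19488

/-- Fix a closed immersion of schemes f : S → T, an O_T-module G, an O_S-module E and an epimorphism ψ :
G → f_*E. Then the morphism ψ′ : f^*G → E that corresponds to ψ under the adjunction between
pullback and pushforward (it is the pullback f^*ψ followed by the counit f^*f_*E → E, an isomorphism
for a closed immersion) is an epimorphism, and the canonical map f^*(ker ψ) → ker(f^*ψ) is an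
epimorphism. (The published statement takes G and E locally free, which these two assertions do not
use.) -/
theorem result
    {S T : Scheme.{u}} (f : S ⟶ T) [IsClosedImmersion f] (G : T.Modules) (E : S.Modules)
    (ψ : G ⟶ (Scheme.Modules.pushforward f).obj E) [Epi ψ] :
    Epi (((Scheme.Modules.pullbackPushforwardAdjunction f).homEquiv G E).symm ψ) ∧
      Epi (kernelComparison ψ (Scheme.Modules.pullback f)) := by
  refine ⟨?_, ?_⟩
  · -- faithfulness of pushforward along an embedding
    have hfaith : ∀ {H : S.Modules} (h₁ h₂ : E ⟶ H),
        (Scheme.Modules.pushforward f).map h₁ = (Scheme.Modules.pushforward f).map h₂ →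
          h₁ = h₂ := by
      intro H h₁ h₂ h
      apply Scheme.Modules.hom_ext
      intro U
      have hind : Topology.IsInducing f.base :=
        f.isClosedEmbedding.isInducing
      obtain ⟨V, hVopen, hV⟩ := hind.isOpen_iff.mp U.2
      have hU : f ⁻¹ᵁ ⟨V, hVopen⟩ = U := TopologicalSpace.Opens.ext hV
      subst hU
      have := congrArg (fun φ => Scheme.Modules.Hom.app φ ⟨V, hVopen⟩) h
      simpa using this
    constructor
    intro H h₁ h₂ h
    apply hfaith
    have e := congrArg ((Scheme.Modules.pullbackPushforwardAdjunction f).homEquiv G H) h
    rw [Adjunction.homEquiv_naturality_right, Adjunction.homEquiv_naturality_right,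
      Equiv.apply_symm_apply] at e
    exact (cancel_epi ψ).mp e
  · let Sc : ShortComplex T.Modules := ShortComplex.mk (kernel.ι ψ) ψ (kernel.condition ψ)
    have hSc : Sc.ShortExact :=
      { exact := ShortComplex.exact_kernel ψ
        mono_f := by dsimp [Sc]; infer_instance
        epi_g := by dsimp [Sc]; infer_instance }
    have hpres : PreservesFiniteColimits (Scheme.Modules.pullback f) := by
      have : PreservesColimitsOfSize.{0, 0} (Scheme.Modules.pullback f) :=
        (Scheme.Modules.pullbackPushforwardAdjunction f).leftAdjoint_preservesColimits
      exact PreservesColimitsOfSize.preservesFiniteColimits _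
    have hall : ∀ (S' : ShortComplex T.Modules), S'.ShortExact →
        (S'.map (Scheme.Modules.pullback f)).Exact ∧
          Epi ((Scheme.Modules.pullback f).map S'.g) :=
      ((Functor.preservesFiniteColimits_tfae (Scheme.Modules.pullback f)).out 3 0).mp hpres
    have hF := hall Sc hSc
    have := (ShortComplex.exact_iff_epi_kernel_lift _).mp hF.1
    exact this

end Groth.Agent.S19488
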