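import Mathlib
import Groth.Statements.S19489

set_option autoImplicit false
open scoped TensorProduct
open ZeroCyc

namespace Groth.Agent.S19489

section Law

variable (p : ℕ) [Fact p.Prime] (k : Type) [Field k] [CharP k p]

lemma add_pow_p (S : Type) [CommSemiring S] [Algebra k S] (x y : S) :
    (x + y) ^ p = x ^ p + y ^ p := by
  obtain ⟨r, hr⟩ := exists_add_pow_prime_eq (Fact.out : p.Prime) x y
  have hp0 : (p : S) = 0 := by
    rw [← map_natCast (algebraMap k S) p, CharP.cast_eq_zero k p, map_zero]
  rw [hr, hp0]; ring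

/-- The inner additive map. -/
noncomputable def fS (S : Type) [CommSemiring S] [Algebra k S] (s : S) :
    FrobAlg.Twist p k →+ S ⊗[k] k where
  toFun a := (s ^ p) ⊗ₜ[k] ((FrobAlg.toTwist p k).symm a)
  map_zero' := by simp
  map_add' a b := by simp [TensorProduct.tmul_add]

/-- The biadditive map. -/
noncomputable def fAdd (S : Type) [CommSemiring S] [Algebra k S] :
    S →+ FrobAlg.Twist p k →+ S ⊗[k] k where
  toFun s := fS p k S s
  map_zero' := by
    ext a
    simp [fS, zero_pow (Fact.out : p.Prime).ne_zero]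
  map_add' s t := by
    ext a
    simp [fS, add_pow_p p k S, TensorProduct.add_tmul]

lemma fAdd_balanced (S : Type) [CommSemiring S] [Algebra k S] (c : k) (s : S)
    (a : FrobAlg.Twist p k) : fAdd p k S (c • s) a = fAdd p k S s (c • a) := by
  change ((c • s) ^ p) ⊗ₜ[k] ((FrobAlg.toTwist p k).symm a) =
    (s ^ p) ⊗ₜ[k] ((FrobAlg.toTwist p k).symm (c • a))
  rw [smul_pow, TensorProduct.smul_tmul, Algebra.smul_def c a, FrobAlg.algebraMap_twist, map_mul,
    RingEquiv.symm_apply_apply, smul_eq_mul]

/-- The member of the Frobenius law over `S`, as an additive map. -/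
noncomputable def FS (S : Type) [CommSemiring S] [Algebra k S] :
    S ⊗[k] FrobAlg.Twist p k →+ S ⊗[k] k :=
  TensorProduct.liftAddHom (fAdd p k S) (fAdd_balanced p k S)

lemma FS_tmul (S : Type) [CommSemiring S] [Algebra k S] (s : S) (a : FrobAlg.Twist p k) :
    FS p k S (s ⊗ₜ[k] a) = (s ^ p) ⊗ₜ[k] ((FrobAlg.toTwist p k).symm a) := rfl

/-- The Frobenius polynomial law. -/
noncomputable def frobLaw : FrobAlg.Twist p k →ₚₗ[k] k where
  toFun' S _ _ := fun x => FS p k S x
  isCompat' {S} _ _ {S'} _ _ φ := by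
    funext x
    simp only [Function.comp_apply]
    induction x using TensorProduct.induction_on with
    | zero => simp
    | tmul s a => simp [FS_tmul]
    | add x y hx hy => simp only [map_add, hx, hy]

/-- The Frobenius multiplicative law. -/
noncomputable def frobMulLaw : PolLaw.MulLaw k (FrobAlg.Twist p k) k p where
  law := frobLaw p k
  homog := by
    intro S _ _ s x
    change FS p k S (s • x) = s ^ p • FS p k S x
    induction x using TensorProduct.induction_on with
    | zero => simp
    | tmul t a =>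
      rw [TensorProduct.smul_tmul', FS_tmul, FS_tmul, smul_eq_mul, mul_pow,
        TensorProduct.smul_tmul', smul_eq_mul]
    | add x y hx hy => rw [smul_add, map_add, map_add, smul_add, hx, hy]
  mult := by
    intro S _ _
    refine ⟨?_, fun x y => ?_⟩
    · change FS p k S 1 = 1
      rw [Algebra.TensorProduct.one_def, FS_tmul, one_pow, map_one]
      rfl
    · change FS p k S (x * y) = FS p k S x * FS p k S y
      induction x using TensorProduct.induction_on with
      | zero => simp
      | tmul s a =>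
        induction y using TensorProduct.induction_on with
        | zero => simp
        | tmul t b =>
          rw [Algebra.TensorProduct.tmul_mul_tmul, FS_tmul, FS_tmul, FS_tmul,
            Algebra.TensorProduct.tmul_mul_tmul, mul_pow, map_mul]
        | add y z hy hz => rw [mul_add, map_add, map_add, mul_add, hy, hz]
      | add x z hx hz => rw [add_mul, map_add, map_add, add_mul, hx, hz]

lemma ker_eq_bot (F : PolLaw.MulLaw k (FrobAlg.Twist p k) k p)
    (hF : ∀ (S : Type) [CommSemiring S] [Algebra k S] (s : S) (a : FrobAlg.Twist p k),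
      F.law.toFun' S (s ⊗ₜ[k] a) = (s ^ p) ⊗ₜ[k] (FrobAlg.toTwist p k).symm a) :
    PolLaw.ker F.law = ⊥ := by
  rw [eq_bot_iff]
  intro b hb
  have hb' : ∀ (S : Type) [CommSemiring S] [Algebra k S] (x w : S ⊗[k] FrobAlg.Twist p k),
      F.law.toFun' S (x + w * (1 ⊗ₜ[k] b)) = F.law.toFun' S x := hb
  have h := hb' k ((0 : k) ⊗ₜ[k] (0 : FrobAlg.Twist p k)) 1
  have e1 : ((0 : k) ⊗ₜ[k] (0 : FrobAlg.Twist p k)) + 1 * ((1 : k) ⊗ₜ[k] b) = (1 : k) ⊗ₜ[k] b := by
    simp
  rw [e1, hF, hF] at h
  have h2 := congrArg (TensorProduct.lid k k) h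
  simp only [TensorProduct.lid_tmul, one_pow, one_smul, zero_pow (Fact.out : p.Prime).ne_zero,
    zero_smul] at h2
  rw [Ideal.mem_bot]
  exact (RingEquiv.map_eq_zero_iff _).mp h2

end Law

section NotFinite

variable (p : ℕ) [Fact p.Prime]

lemma poly_indep (s : Finset ℕ) (a : ℕ → MvPolynomial ℕ (ZMod p))
    (h : ∑ i ∈ s, a i ^ p * MvPolynomial.X i = 0) : ∀ i ∈ s, a i = 0 := by
  classical
  intro i hi
  ext m
  have hp : p.Prime := Fact.out
  have hc := congrArg (MvPolynomial.coeff (p • m + Finsupp.single i 1)) h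
  rw [MvPolynomial.coeff_sum, MvPolynomial.coeff_zero, Finset.sum_eq_single i] at hc
  · rw [MvPolynomial.coeff_mul_X', if_pos (by simp), add_tsub_cancel_right,
      ← MvPolynomial.expand_zmod, MvPolynomial.coeff_expand_smul p hp.ne_zero] at hc
    simpa using hc
  · intro j _ hji
    rw [MvPolynomial.coeff_mul_X']
    split_ifs with hjs
    · rw [← MvPolynomial.expand_zmod]
      apply MvPolynomial.coeff_expand_of_not_dvd (i := i)
      have : (p • m + Finsupp.single i 1 - Finsupp.single j 1 : ℕ →₀ ℕ) i = p * m i + 1 := by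
        simp [hji]
      rw [this]
      intro hdvd
      exact hp.one_lt.ne' (Nat.dvd_one.mp ((Nat.dvd_add_right (dvd_mul_right _ _)).mp hdvd))
    · rfl
  · intro hni
    exact absurd hi hni

lemma linInd : LinearIndependent (FractionRing (MvPolynomial ℕ (ZMod p)))
    (fun i : ℕ => FrobAlg.toTwist p (FractionRing (MvPolynomial ℕ (ZMod p)))
      (algebraMap (MvPolynomial ℕ (ZMod p)) (FractionRing (MvPolynomial ℕ (ZMod p)))
        (MvPolynomial.X i))) := by
  rw [linearIndependent_iff']
  intro s c hc i hi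
  have h1 : ∑ i ∈ s, (c i) ^ p * algebraMap (MvPolynomial ℕ (ZMod p))
      (FractionRing (MvPolynomial ℕ (ZMod p))) (MvPolynomial.X i) = 0 := by
    have := congrArg (FrobAlg.toTwist p (FractionRing (MvPolynomial ℕ (ZMod p)))).symm hc
    rw [map_sum, map_zero] at this
    rw [← this]
    refine Finset.sum_congr rfl fun j _ => ?_
    rw [Algebra.smul_def, FrobAlg.algebraMap_twist, map_mul, RingEquiv.symm_apply_apply,
      RingEquiv.symm_apply_apply]
  obtain ⟨d, hd⟩ := IsLocalization.exist_integer_multiples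
    (nonZeroDivisors (MvPolynomial ℕ (ZMod p))) s c
  have hd' : ∀ i ∈ s, ∃ x : MvPolynomial ℕ (ZMod p),
      algebraMap (MvPolynomial ℕ (ZMod p)) (FractionRing (MvPolynomial ℕ (ZMod p))) x =
        ((d : MvPolynomial ℕ (ZMod p))) • c i := fun i hi => hd i hi
  choose! a ha using hd'
  have h2 : ∑ i ∈ s, a i ^ p * MvPolynomial.X i = 0 := by
    apply IsFractionRing.injective (MvPolynomial ℕ (ZMod p))
      (FractionRing (MvPolynomial ℕ (ZMod p)))
    rw [map_sum, map_zero]
    have : ∀ i ∈ s, algebraMap (MvPolynomial ℕ (ZMod p))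
        (FractionRing (MvPolynomial ℕ (ZMod p))) (a i ^ p * MvPolynomial.X i) =
        (algebraMap (MvPolynomial ℕ (ZMod p)) (FractionRing (MvPolynomial ℕ (ZMod p)))
          (d : MvPolynomial ℕ (ZMod p))) ^ p *
          (c i ^ p * algebraMap (MvPolynomial ℕ (ZMod p))
            (FractionRing (MvPolynomial ℕ (ZMod p))) (MvPolynomial.X i)) := by
      intro j hj
      rw [map_mul, map_pow, ha j hj, Algebra.smul_def, mul_pow]; ring
    rw [Finset.sum_congr rfl this, ← Finset.mul_sum, h1, mul_zero]
  have h3 := poly_indep p s a h2 i hi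
  have h4 := ha i hi
  rw [h3, map_zero, Algebra.smul_def] at h4
  have hd0 : algebraMap (MvPolynomial ℕ (ZMod p)) (FractionRing (MvPolynomial ℕ (ZMod p)))
      (d : MvPolynomial ℕ (ZMod p)) ≠ 0 :=
    IsFractionRing.to_map_ne_zero_of_mem_nonZeroDivisors d.2
  exact (mul_eq_zero.mp h4.symm).resolve_left hd0

theorem not_fin : ¬ Module.Finite (FractionRing (MvPolynomial ℕ (ZMod p)))
    (FrobAlg.Twist p (FractionRing (MvPolynomial ℕ (ZMod p)))) := by
  intro hfin
  have hN : IsNoetherian (FractionRing (MvPolynomial ℕ (ZMod p)))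
      (FrobAlg.Twist p (FractionRing (MvPolynomial ℕ (ZMod p)))) := inferInstance
  have := (linInd p).finite_of_isNoetherian
  exact not_finite ℕ

end NotFinite

/-- Let p be a prime, k = F_p(t_0, t_1, …) the field of rational functions over F_p in countably many
variables, and K = k^{1/p} = F_p(t_0^{1/p}, t_1^{1/p}, …), modelled here as a copy of k made into a
k-algebra through the Frobenius b ↦ b ^ p (under a ↦ a ^ p the extension k ⊆ k^{1/p} becomes this
algebra). Then a ↦ a ^ p is a multiplicative polynomial law from K to k over k, homogeneous of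
degree p: there is such a law sending s ⊗ a to s ^ p ⊗ a ^ p on every test algebra S, where a ^ p is
read in k. Every such law has zero kernel, so the support of the corresponding family of zero-cycles
of degree p on Spec K over Spec k is all of Spec K; and K is not finite over k. Thus the support of
a family of zero-cycles need not be finite over the base. -/
theorem result (p : ℕ) [Fact p.Prime] :
    (∃ F : PolLaw.MulLaw (FractionRing (MvPolynomial ℕ (ZMod p))) (FrobAlg.Twist p (FractionRing (MvPolynomial ℕ (ZMod p)))) (FractionRing (MvPolynomial ℕ (ZMod p))) p,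
      ∀ (S : Type) [CommSemiring S] [Algebra (FractionRing (MvPolynomial ℕ (ZMod p))) S] (s : S) (a : FrobAlg.Twist p (FractionRing (MvPolynomial ℕ (ZMod p)))),
        F.law.toFun' S (s ⊗ₜ[FractionRing (MvPolynomial ℕ (ZMod p))] a) =
          (s ^ p) ⊗ₜ[FractionRing (MvPolynomial ℕ (ZMod p))] (FrobAlg.toTwist p (FractionRing (MvPolynomial ℕ (ZMod p)))).symm a) ∧
    (∀ F : PolLaw.MulLaw (FractionRing (MvPolynomial ℕ (ZMod p))) (FrobAlg.Twist p (FractionRing (MvPolynomial ℕ (ZMod p)))) (FractionRing (MvPolynomial ℕ (ZMod p))) p,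
      (∀ (S : Type) [CommSemiring S] [Algebra (FractionRing (MvPolynomial ℕ (ZMod p))) S] (s : S) (a : FrobAlg.Twist p (FractionRing (MvPolynomial ℕ (ZMod p)))),
        F.law.toFun' S (s ⊗ₜ[FractionRing (MvPolynomial ℕ (ZMod p))] a) =
          (s ^ p) ⊗ₜ[FractionRing (MvPolynomial ℕ (ZMod p))] (FrobAlg.toTwist p (FractionRing (MvPolynomial ℕ (ZMod p)))).symm a) →
      PolLaw.ker F.law = ⊥) ∧
    ¬ Module.Finite (FractionRing (MvPolynomial ℕ (ZMod p))) (FrobAlg.Twist p (FractionRing (MvPolynomial ℕ (ZMod p)))) := by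
  refine ⟨⟨frobMulLaw p _, fun S _ _ s a => rfl⟩, fun F hF => ker_eq_bot p _ F hF, not_fin p⟩

end Groth.Agent.S19489
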