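import Mathlib
import Groth.Statements.S19502
-- import your own Groth.Agent.* helpers here

set_option autoImplicit false
universe u
open W4c3ghconstell

namespace Groth.Agent.S19502

section aux

lemma hasSum_ite_notMem {ι : Type*} [DecidableEq ι] (f : ι → ℝ) (hf : Summable f) (D : Finset ι) :
    HasSum (fun i => if i ∈ D then (0:ℝ) else f i) (∑' i, f i - ∑ i ∈ D, f i) := by
  have h1 : HasSum (fun i => if i ∈ D then f i else 0) (∑ i ∈ D, f i) := by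
    have h0 : HasSum (fun i => if i ∈ D then f i else 0)
        (∑ i ∈ D, (fun i => if i ∈ D then f i else 0) i) :=
      hasSum_sum_of_ne_finset_zero (fun i hi => by simp [hi])
    have h00 : (∑ i ∈ D, (fun i => if i ∈ D then f i else 0) i) = ∑ i ∈ D, f i :=
      Finset.sum_congr rfl (fun i hi => by simp [hi])
    rw [h00] at h0
    exact h0
  have h2 := hf.hasSum.sub h1
  have h3 : (fun i => if i ∈ D then (0:ℝ) else f i) =
      (fun b => f b - if b ∈ D then f b else 0) := by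
    ext i
    split_ifs <;> simp
  rw [h3]
  exact h2

lemma alg1 (B Bd S A Ad R Rd : ℝ) (n m : ℕ) (hR : n = 0 → R = 0) :
    ((B + Bd) + ((S - (A + Ad)) / ((n:ℝ) + m)) * (R + Rd)) - (B + ((S - A) / n) * R) =
      Bd - (1 / (n:ℝ) * R) * Ad + ((S - (A + Ad)) / ((n:ℝ) + m)) * Rd
        - m * (((S - (A + Ad)) / ((n:ℝ) + m)) * (1 / (n:ℝ) * R)) := by
  by_cases hn : n = 0
  · rw [hR hn]; subst hn; simp; ring
  · have hn' : (n:ℝ) ≠ 0 := by exact_mod_cast hn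
    have hnm : (n:ℝ) + m ≠ 0 := by
      have : (0:ℝ) < (n:ℝ) + m := by
        have : (0:ℝ) < n := by exact_mod_cast Nat.pos_of_ne_zero hn
        positivity
      exact this.ne'
    field_simp
    ring

lemma main {ι : Type*} [DecidableEq ι] (a b ρ : ι → ℝ) (hab : ∀ i, a i * ρ i = b i)
    (ha : Summable a) (hb : Summable b) (M D D' : Finset ι) (hMD : M ⊆ D) (hDD' : D ⊆ D') :
    (((∑ i ∈ D', b i) + ((∑' i, if i ∈ D' then (0:ℝ) else a i) / ((D' \ M).card : ℝ)) *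
        (∑ σ ∈ D' \ M, ρ σ)) -
      ((∑ i ∈ D, b i) + ((∑' i, if i ∈ D then (0:ℝ) else a i) / ((D \ M).card : ℝ)) *
        (∑ σ ∈ D \ M, ρ σ)) =
      ∑ τ ∈ D' \ D, (a τ + (∑' i, if i ∈ D' then (0:ℝ) else a i) / ((D' \ M).card : ℝ)) *
        (ρ τ - (1 / ((D \ M).card : ℝ)) * (∑ σ ∈ D \ M, ρ σ))) ∧
    ((∑' i, b i) - ((∑ i ∈ D, b i) + ((∑' i, if i ∈ D then (0:ℝ) else a i) /
        ((D \ M).card : ℝ)) * (∑ σ ∈ D \ M, ρ σ)) =
      ∑' τ, if τ ∈ D then (0:ℝ) else a τ * (ρ τ - (1 / ((D \ M).card : ℝ)) *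
        (∑ σ ∈ D \ M, ρ σ))) := by
  have hSD : (∑' i, if i ∈ D then (0:ℝ) else a i) = ∑' i, a i - ∑ i ∈ D, a i :=
    (hasSum_ite_notMem a ha D).tsum_eq
  have hSD' : (∑' i, if i ∈ D' then (0:ℝ) else a i) = ∑' i, a i - ∑ i ∈ D', a i :=
    (hasSum_ite_notMem a ha D').tsum_eq
  have hsplit : ∀ f : ι → ℝ, ∑ i ∈ D', f i = ∑ i ∈ D, f i + ∑ i ∈ D' \ D, f i := fun f => by
    rw [add_comm, Finset.sum_sdiff hDD']
  have hD'M : D' \ M = (D \ M) ∪ (D' \ D) := by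
    ext i
    simp only [Finset.mem_sdiff, Finset.mem_union]
    constructor
    · rintro ⟨h1, h2⟩
      by_cases hi : i ∈ D
      · exact Or.inl ⟨hi, h2⟩
      · exact Or.inr ⟨h1, hi⟩
    · rintro (⟨h1, h2⟩ | ⟨h1, h2⟩)
      · exact ⟨hDD' h1, h2⟩
      · exact ⟨h1, fun h => h2 (hMD h)⟩
  have hdisj : Disjoint (D \ M) (D' \ D) := by
    rw [Finset.disjoint_left]
    intro i h1 h2
    exact (Finset.mem_sdiff.mp h2).2 (Finset.mem_sdiff.mp h1).1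
  have hsplitM : ∀ f : ι → ℝ, ∑ i ∈ D' \ M, f i = ∑ i ∈ D \ M, f i + ∑ i ∈ D' \ D, f i :=
    fun f => by rw [hD'M, Finset.sum_union hdisj]
  have hcard : ((D' \ M).card : ℝ) = ((D \ M).card : ℝ) + ((D' \ D).card : ℝ) := by
    rw [hD'M, Finset.card_union_of_disjoint hdisj]; push_cast; ring
  have hR0 : (D \ M).card = 0 → ∑ σ ∈ D \ M, ρ σ = 0 := fun h0 => by
    rw [Finset.card_eq_zero.mp h0]; simp
  constructor
  · rw [hSD, hSD', hsplit a, hsplit b, hsplitM ρ, hcard]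
    have hexp : ∀ c e : ℝ, ∑ τ ∈ D' \ D, (a τ + c) * (ρ τ - e) =
        (∑ τ ∈ D' \ D, b τ) - e * (∑ τ ∈ D' \ D, a τ) + c * (∑ τ ∈ D' \ D, ρ τ)
          - ((D' \ D).card : ℝ) * (c * e) := by
      intro c e
      have : ∀ τ ∈ D' \ D, (a τ + c) * (ρ τ - e) = b τ - e * a τ + c * ρ τ - c * e := by
        intro τ _
        rw [← hab τ]; ring
      rw [Finset.sum_congr rfl this, Finset.sum_sub_distrib, Finset.sum_add_distrib,
        Finset.sum_sub_distrib, ← Finset.mul_sum, ← Finset.mul_sum, Finset.sum_const,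
        nsmul_eq_mul]
    rw [hexp]
    exact alg1 _ _ _ _ _ _ _ _ _ hR0
  · have h1 := (hasSum_ite_notMem b hb D).sub
      ((hasSum_ite_notMem a ha D).mul_left ((1 / ((D \ M).card : ℝ)) * (∑ σ ∈ D \ M, ρ σ)))
    have h2 : (fun τ => if τ ∈ D then (0:ℝ) else a τ * (ρ τ - (1 / ((D \ M).card : ℝ)) *
        (∑ σ ∈ D \ M, ρ σ))) =
        (fun τ => (if τ ∈ D then (0:ℝ) else b τ) -
          ((1 / ((D \ M).card : ℝ)) * (∑ σ ∈ D \ M, ρ σ)) * (if τ ∈ D then (0:ℝ) else a τ)) := by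
      ext τ
      split_ifs
      · simp
      · rw [← hab τ]; ring
    rw [h2, h1.tsum_eq, hSD]
    ring

end aux

/-- Let ι index the irreducible representations, θ : ι → ℚ a weight which is negative exactly on the
finite set D₋, h h' : ι → ℕ with h' ≤ h pointwise (the isotypic dimensions of an object and of a
sub-object) and Σ_i θ_i h_i summable. For a finite set D of indices put S_D = Σ_{i ∉ D} θ_i h_i, d =
#(D ∖ D₋) and θ̃_D = Σ_{i ∈ D} θ_i h'_i + (S_D / d) · Σ_{i ∈ D ∖ D₋} h'_i / h_i, the modified weight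
attached to the parameters chosen for D (a quotient by zero is read as zero). Then for finite sets
D₋ ⊆ D ⊆ D̃ contained in the locus θ ≠ 0: (first error term) θ̃_{D̃} − θ̃_D = Σ_{τ ∈ D̃ ∖ D} (θ_τ
h_τ + S_{D̃}/d̃) · (h'_τ/h_τ − (1/d) Σ_{σ ∈ D ∖ D₋} h'_σ/h_σ); (second error term) Σ_i θ_i h'_i −
θ̃_D = Σ_{τ ∉ D} θ_τ h_τ · (h'_τ/h_τ − (1/d) Σ_{σ ∈ D ∖ D₋} h'_σ/h_σ). -/
theorem result {ι : Type u} [DecidableEq ι]
    (θ : ι → ℚ) (h h' : ι → ℕ) (hle : ∀ i, h' i ≤ h i) (hfin : {i | θ i < 0}.Finite)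
    (hsum : Summable (fun i => (θ i : ℝ) * (h i : ℝ))) (D D' : Finset ι)
    (hDm : hfin.toFinset ⊆ D) (hDD' : D ⊆ D') (hsupp : ∀ i ∈ D', θ i ≠ 0) :
    (((∑ i ∈ D', (θ i : ℝ) * (h' i : ℝ)) + ((∑' i, if i ∈ D' then (0 : ℝ) else (θ i : ℝ) * (h i : ℝ)) / ((D' \ hfin.toFinset).card : ℝ)) * (∑ σ ∈ D' \ hfin.toFinset, ((h' σ : ℝ) / (h σ : ℝ)))) - ((∑ i ∈ D, (θ i : ℝ) * (h' i : ℝ)) + ((∑' i, if i ∈ D then (0 : ℝ) else (θ i : ℝ) * (h i : ℝ)) / ((D \ hfin.toFinset).card : ℝ)) * (∑ σ ∈ D \ hfin.toFinset, ((h' σ : ℝ) / (h σ : ℝ)))) =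
      ∑ τ ∈ D' \ D, ((θ τ : ℝ) * (h τ : ℝ) + (∑' i, if i ∈ D' then (0 : ℝ) else (θ i : ℝ) * (h i : ℝ)) / ((D' \ hfin.toFinset).card : ℝ)) *
        (((h' τ : ℝ) / (h τ : ℝ)) - (1 / ((D \ hfin.toFinset).card : ℝ)) * (∑ σ ∈ D \ hfin.toFinset, ((h' σ : ℝ) / (h σ : ℝ))))) ∧
    ((∑' i, (θ i : ℝ) * (h' i : ℝ)) - ((∑ i ∈ D, (θ i : ℝ) * (h' i : ℝ)) + ((∑' i, if i ∈ D then (0 : ℝ) else (θ i : ℝ) * (h i : ℝ)) / ((D \ hfin.toFinset).card : ℝ)) * (∑ σ ∈ D \ hfin.toFinset, ((h' σ : ℝ) / (h σ : ℝ)))) =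
      ∑' τ, if τ ∈ D then (0 : ℝ) else (θ τ : ℝ) * (h τ : ℝ) *
        (((h' τ : ℝ) / (h τ : ℝ)) - (1 / ((D \ hfin.toFinset).card : ℝ)) * (∑ σ ∈ D \ hfin.toFinset, ((h' σ : ℝ) / (h σ : ℝ))))) := by
  have hab : ∀ i, ((θ i : ℝ) * (h i : ℝ)) * ((h' i : ℝ) / (h i : ℝ)) = (θ i : ℝ) * (h' i : ℝ) := by
    intro i
    by_cases hi : h i = 0
    · have : h' i = 0 := Nat.le_zero.mp (hi ▸ hle i)
      simp [hi, this]
    · have : (h i : ℝ) ≠ 0 := by exact_mod_cast hi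
      field_simp
  have hb : Summable (fun i => (θ i : ℝ) * (h' i : ℝ)) := by
    refine Summable.of_norm_bounded hsum.norm (fun i => ?_)
    rw [norm_mul, norm_mul]
    refine mul_le_mul_of_nonneg_left ?_ (norm_nonneg _)
    rw [Real.norm_natCast, Real.norm_natCast]
    exact_mod_cast hle i
  exact main (fun i => (θ i : ℝ) * (h i : ℝ)) (fun i => (θ i : ℝ) * (h' i : ℝ))
    (fun i => (h' i : ℝ) / (h i : ℝ)) hab hsum hb hfin.toFinset D D' hDm hDD'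

end Groth.Agent.S19502
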