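import Groth.Statements.S19506
import Mathlib
import Groth.Agent.S2453
import Groth.Agent.Lib.Helper19.ArtFunSmooth

set_option autoImplicit false
universe u
open CAlg

namespace Groth.Agent.S19506

open ArtFun ArtFun.Art CategoryTheory IsLocalRing
open Groth.Agent.Lib.Helper19.ArtFunBasic Groth.Agent.Lib.Helper19.ArtFunLength
open Groth.Agent.Lib.Helper19.ArtFunSmooth

/-- A local ring with an augmentation onto `k` whose kernel is the maximal ideal has a
geometrically reduced residue field over `k`. -/
theorem geomRed (k A : Type u) [Field k] [CommRing A] [Algebra k A] [IsLocalRing A]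
    (π : A →ₐ[k] k) (hπ : RingHom.ker π = maximalIdeal A) :
    Algebra.IsGeometricallyReduced k (ResidueField A) := by
  haveI : Algebra.IsGeometricallyReduced k k := by
    rw [Algebra.isGeometricallyReduced_field_iff]
    exact isReduced_of_injective (Algebra.TensorProduct.rid k k (AlgebraicClosure k))
      (Algebra.TensorProduct.rid k k (AlgebraicClosure k)).injective
  let f : ResidueField A →ₐ[k] k :=
    Ideal.Quotient.liftₐ (maximalIdeal A) π (fun a ha => by
      rw [← hπ] at ha
      exact ha)
  exact Algebra.IsGeometricallyReduced.of_injective f (f : ResidueField A →+* k).injective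

/-- A local homomorphism to a quotient of an Artinian local ring kills a power of the maximal
ideal. -/
theorem exists_pow_kill {A R : Type u} [CommRing A] [IsLocalRing A] [CommRing R] [IsArtinianRing R]
    [IsLocalRing R] (J : Ideal R) (f : A →+* R ⧸ J) (hf : IsLocalHom f) :
    ∃ n : ℕ, ∀ x ∈ maximalIdeal A ^ n, f x = 0 := by
  have h := IsArtinianRing.isNilpotent_jacobson_bot (R := R)
  rw [IsLocalRing.jacobson_eq_maximalIdeal ⊥ bot_ne_top] at h
  obtain ⟨N, hN⟩ := h
  have h1 : Ideal.map f (maximalIdeal A) ≤ Ideal.map (Ideal.Quotient.mk J) (maximalIdeal R) := by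
    rw [Ideal.map_le_iff_le_comap]
    intro a ha
    obtain ⟨r, hr⟩ := Ideal.Quotient.mk_surjective (f a)
    have hr' : r ∈ maximalIdeal R := by
      by_contra hcon
      have hu : IsUnit r := IsLocalRing.notMem_maximalIdeal.mp hcon
      have hu2 : IsUnit (f a) := by
        rw [← hr]
        exact hu.map (Ideal.Quotient.mk J)
      have hu3 : IsUnit a := hf.map_nonunit a hu2
      exact (IsLocalRing.mem_maximalIdeal a).mp ha hu3
    rw [Ideal.mem_comap, ← hr]
    exact Ideal.mem_map_of_mem _ hr'
  have h2 : Ideal.map f (maximalIdeal A ^ N) ≤ ⊥ := by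
    rw [Ideal.map_pow]
    refine le_trans (Ideal.pow_right_mono h1 N) ?_
    rw [← Ideal.map_pow, hN, Ideal.zero_eq_bot, Ideal.map_bot]
  refine ⟨N, fun x hx => ?_⟩
  have := h2 (Ideal.mem_map_of_mem f hx)
  exact this

/-- (i) ⇔ (iii): let k be a field and A a complete local Noetherian k-algebra with residue field k (a
k-algebra map π : A → k with kernel the maximal ideal; A complete for the adic topology of its
maximal ideal). Then A is regular if and only if A satisfies the infinitesimal lifting criterion:
for every Artinian local k-algebra R and every ideal J of R of square zero, every local k-algebra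
homomorphism A → R/J (one carrying non-units to non-units) lifts to a k-algebra homomorphism A → R.
(The test algebras R range over one universe, that of A. The published criterion is worded for
arbitrary k-algebra homomorphisms A → R/J; it is stated here for local ones, the case the argument
establishes and the form in which the text itself restates the criterion afterwards. The published
statement lists a third equivalent condition, A ≅ k[[x_1, …, x_d]].) -/
theorem result (k A : Type u) [Field k]
    [CommRing A] [Algebra k A] [IsLocalRing A] [IsNoetherianRing A]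
    [IsAdicComplete (IsLocalRing.maximalIdeal A) A]
    (π : A →ₐ[k] k) (hπ : RingHom.ker π = IsLocalRing.maximalIdeal A) :
    IsRegularLocalRing A ↔
      ∀ (R : Type u) [CommRing R] [Algebra k R] [IsArtinianRing R] [IsLocalRing R] (J : Ideal R),
        J ^ 2 = ⊥ → ∀ f : A →ₐ[k] R ⧸ J, IsLocalHom (f : A →+* R ⧸ J) →
          ∃ g : A →ₐ[k] R, (Ideal.Quotient.mkₐ k J).comp g = f := by
  haveI := geomRed k A π hπ
  have hiff : CAlgX.IsAdicFormallySmooth k A (maximalIdeal A) ↔ IsRegularLocalRing A :=
    (Groth.Agent.S2453.result (k := k) (A := A)).out 0 3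
  have hπs : Function.Surjective π := fun c => ⟨algebraMap k A c, by
    rw [AlgHom.commutes]
    rfl⟩
  constructor
  · intro hreg R _ _ _ _ J hJ f hf
    have hfs := hiff.mpr hreg
    obtain ⟨n, hn⟩ := exists_pow_kill J (f : A →+* R ⧸ J) hf
    exact hfs R J hJ f ⟨n, hn⟩
  · intro hLC
    apply hiff.mp
    let R₀ : CRing k k :=
      { carrier := A
        res := π
        res_surjective := hπs
        isAdicComplete := inferInstance }
    have hsm : IsSmoothFunctor (hR R₀.carrier R₀.res) := by
      apply isSmoothFunctor_of_smallExt
      intro B C μ hμ φ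
      let K : Ideal B := RingHom.ker μ.toAlgHom
      have hK2 : K ^ 2 = ⊥ := by
        rw [pow_two, ← le_bot_iff, ← hμ.2.2.2]
        exact Ideal.mul_mono_left (ker_le_maximalIdeal μ)
      let e : (B ⧸ K) ≃ₐ[k] C := Ideal.quotientKerAlgEquivOfSurjective hμ.1
      have he : ∀ b : B, e (Ideal.Quotient.mk K b) = μ b := fun b => rfl
      let ψ : A →ₐ[k] B ⧸ K := (e.symm : C →ₐ[k] B ⧸ K).comp φ.1
      have hloc : IsLocalHom (ψ : A →+* B ⧸ K) := by
        refine ⟨fun a ha => ?_⟩
        have h2 : e (ψ a) = φ.1 a := AlgEquiv.apply_symm_apply e (φ.1 a)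
        have h1 : IsUnit (φ.1 a) := by
          have := ha.map e
          rwa [show e ((ψ : A →+* B ⧸ K) a) = φ.1 a from h2] at this
        have h3 : C.res (φ.1 a) = π a := AlgHom.congr_fun φ.2 a
        have h4 : π a ≠ 0 := by
          rw [← h3]
          exact (h1.map C.res).ne_zero
        have h5 : a ∉ maximalIdeal A := by
          rw [← hπ, RingHom.mem_ker]
          exact h4
        exact IsLocalRing.notMem_maximalIdeal.mp h5
      obtain ⟨g, hg⟩ := hLC B K hK2 ψ hloc
      have hμg : μ.toAlgHom.comp g = φ.1 := by
        apply AlgHom.ext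
        intro r
        have h1 : Ideal.Quotient.mk K (g r) = e.symm (φ.1 r) := AlgHom.congr_fun hg r
        change μ (g r) = φ.1 r
        rw [← he, h1, AlgEquiv.apply_symm_apply]
      have hres : B.res.comp g = R₀.res := by
        rw [← μ.res_comp, AlgHom.comp_assoc, hμg]
        exact φ.2
      exact ⟨⟨g, hres⟩, Subtype.ext hμg⟩
    exact isAdicFormallySmooth_of_isSmoothFunctor_hR R₀ hsm

end Groth.Agent.S19506
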