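import Groth.Statements.S19520
-- import your own Groth.Agent.* helpers here
import Mathlib
import Groth.Agent.Lib.Helper22.OmegaGen7
import Groth.Agent.Lib.Helper3.SecLoc

set_option autoImplicit false
universe u
open CategoryTheory CategoryTheory.Limits AlgebraicGeometry
open OmegaSh

namespace Groth.Agent.S19520

/-- Let k be a field and f : X → Z a k-morphism between integral proper k-schemes, where X is
geometrically normal (its base change to an algebraic closure of k has integrally closed local
domains) and Z is smooth over k; let Y ⊆ Z be the closure of the image of f, m its dimension, and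
assume the fibre of f over the generic point of Y is geometrically reduced over the residue field
there (the function field extension K(Y) ⊆ K(X) is separable). Let d_Z : O_Z → Ω_Z and d_X : O_X →
Ω_X be universal k-derivations and c : f^*Ω_Z → Ω_X the O_X-linear map compatible with them, and let
U ⊆ X be the largest open subscheme smooth over k. If f^*Ω_Z is a free O_X-module of finite rank,
then there are m sections of Ω_X over U which are linearly independent over Γ(U, O_X); in particular
the space of sections of Ω¹ over U has dimension at least m. (The second estimate of (ii), a nonzero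
section of Ω^m over U, is not stated.) -/
theorem result (k : Type u) [Field k]
    (X Z : Scheme.{u}) [X.Over (Spec (CommRingCat.of k))] [Z.Over (Spec (CommRingCat.of k))]
    [IsProper (X ↘ Spec (CommRingCat.of k))] [IsProper (Z ↘ Spec (CommRingCat.of k))] [IsIntegral X] [IsIntegral Z]
    [Smooth (Z ↘ Spec (CommRingCat.of k))]
    (hgn : ∀ (K : Type u) [Field K] [Algebra k K] [IsAlgClosure k K],
      Pi1.IsNormalScheme (pullback (X ↘ Spec (CommRingCat.of k)) (Spec.map (CommRingCat.ofHom (algebraMap k K)))))
    (f : X ⟶ Z) (hf : f ≫ (Z ↘ Spec (CommRingCat.of k)) = X ↘ Spec (CommRingCat.of k))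
    (η : Z) (hη : closure {η} = closure (Set.range f.base)) (m : ℕ)
    (hm : topologicalKrullDim (closure (Set.range f.base)) = m)
    (hsep : GeometricallyReduced (pullback.snd f (Z.fromSpecResidueField η)))
    (ΩZ : Z.Modules) (dZ : OmegaSh.Der (Z ↘ Spec (CommRingCat.of k)) ΩZ) (hdZ : OmegaSh.IsUniversal dZ)
    (ΩX : X.Modules) (dX : OmegaSh.Der (X ↘ Spec (CommRingCat.of k)) ΩX) (hdX : OmegaSh.IsUniversal dX)
    (c : (Scheme.Modules.pullback f).obj ΩZ ⟶ ΩX) (hc : OmegaSh.IsDiffCompat f dZ dX c)
    (hfree : ∃ d : ℕ, Nonempty ((Scheme.Modules.pullback f).obj ΩZ ≅ FlatMod.freeMod X d))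
    (U : X.Opens) (hU : Smooth (U.ι ≫ (X ↘ Spec (CommRingCat.of k))))
    (hUmax : ∀ V : X.Opens, Smooth (V.ι ≫ (X ↘ Spec (CommRingCat.of k))) → V ≤ U) :
    ∃ s : Fin m → ΩX.val.obj (Opposite.op U),
      LinearIndependent (X.ringCatSheaf.obj.obj (Opposite.op U)) s := by
  classical
  obtain ⟨d, ⟨φ⟩⟩ := hfree
  have main : ∀ (pX : X ⟶ Spec (CommRingCat.of k)) [LocallyOfFiniteType pX]
      (hf : f ≫ (Z ↘ Spec (CommRingCat.of k)) = pX) (dX : OmegaSh.Der pX ΩX)
      (_ : OmegaSh.IsUniversal dX) (_ : OmegaSh.IsDiffCompat f dZ dX c),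
      ∃ s : Fin m → ΩX.val.obj (Opposite.op U),
        LinearIndependent (X.ringCatSheaf.obj.obj (Opposite.op U)) s := by
    intro pX _ hf dX hdX hc
    subst hf
    haveI : LocallyOfFiniteType f := locallyOfFiniteType_of_comp f (Z ↘ Spec (CommRingCat.of k))
    by_cases hU0 : genericPoint X ∈ U
    · have hη' : f (genericPoint X) = η := by
        have h1 := (genericPoint_spec X).image f.continuous
        rw [Set.image_univ] at h1
        have h2 : IsGenericPoint η (closure (Set.range f)) := hη
        exact h1.eq h2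
      have hm' : topologicalKrullDim (closure ({η} : Set Z)) = m := by
        rw [hη]; exact hm
      have hb : Groth.Agent.Lib.Helper3.FreeBasis.IsBasis ((Scheme.Modules.pullback f).obj ΩZ) ⊤
          (fun i => φ.inv.app ⊤ (Groth.Agent.Lib.Helper3.FreeBasis.bsec d i ⊤)) := by
        intro V hV
        have h1 := (Groth.Agent.Lib.Helper3.FreeBasis.isBasis_bsec (X := X) d ⊤ V hV).map_iso φ.symm
        simpa only [Iso.symm_hom, Groth.Agent.Lib.Helper3.QCExact.app_res'] using h1
      obtain ⟨σ, U₂, hU₂, hle, hξ, K, _, _, V, _, _, _, _, Ψ, hinj, hli⟩ :=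
        Groth.Agent.Lib.Helper22.OmegaGen7.exists_generic_linearIndependent k f η hη' m hm' hsep
          dZ hdZ dX hdX c hc _ hb U hU0
      refine ⟨fun i => c.app U (Groth.Agent.Lib.Helper3.QCSec.res
        ((Scheme.Modules.pullback f).obj ΩZ) le_top
        (φ.inv.app ⊤ (Groth.Agent.Lib.Helper3.FreeBasis.bsec d (σ i) ⊤))), ?_⟩
      rw [Fintype.linearIndependent_iff]
      intro a ha i
      have h1 : ∑ j, Groth.Agent.Lib.Helper3.QCSec.rres X hle (a j) •
          c.app U₂ (Groth.Agent.Lib.Helper3.QCSec.res ((Scheme.Modules.pullback f).obj ΩZ)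
            le_top (φ.inv.app ⊤ (Groth.Agent.Lib.Helper3.FreeBasis.bsec d (σ j) ⊤))) = 0 := by
        have h0 := (congrArg (Groth.Agent.Lib.Helper3.QCSec.res ΩX hle) ha).trans
          (Groth.Agent.Lib.Helper3.QCSec.res_zero ΩX hle)
        refine Eq.trans ?_ h0
        refine Eq.trans ?_ (Groth.Agent.Lib.Helper3.SecLoc.res_sum ΩX hle Finset.univ _).symm
        apply Finset.sum_congr rfl
        intro j _
        refine Eq.trans ?_ (Groth.Agent.Lib.Helper3.QCSec.res_smul ΩX hle (a j) _).symm
        congr 1
        rw [← Groth.Agent.Lib.Helper3.QCExact.app_res' c hle, Groth.Agent.Lib.Helper3.QCSec.res_res]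
      have h2 := congrArg Ψ h1
      rw [map_sum, map_zero] at h2
      simp only [map_smul] at h2
      have h3 : ∑ j, (algebraMap Γ(X, U₂) K (Groth.Agent.Lib.Helper3.QCSec.rres X hle (a j))) •
          Ψ (c.app U₂ (Groth.Agent.Lib.Helper3.QCSec.res ((Scheme.Modules.pullback f).obj ΩZ)
            le_top (φ.inv.app ⊤ (Groth.Agent.Lib.Helper3.FreeBasis.bsec d (σ j) ⊤)))) = 0 := by
        rw [← h2]
        apply Finset.sum_congr rfl
        intro j _
        rw [algebraMap_smul]
      have h4 := Fintype.linearIndependent_iff.mp hli _ h3 i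
      have h5 : Groth.Agent.Lib.Helper3.QCSec.rres X hle (a i) = 0 :=
        hinj (by rw [h4, map_zero])
      haveI : Nonempty U₂ := ⟨⟨genericPoint X, hξ⟩⟩
      exact map_injective_of_isIntegral X (homOfLE hle) (h5.trans (map_zero _).symm)
    · have hbot : U = ⊥ := by
        by_contra hne
        apply hU0
        obtain ⟨z, hz⟩ : (U : Set X).Nonempty := by
          rw [Set.nonempty_iff_ne_empty]
          intro h0
          exact hne (TopologicalSpace.Opens.ext h0)
        exact ((genericPoint_spec X).mem_open_set_iff U.isOpen).mpr ⟨z, trivial, hz⟩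
      subst hbot
      haveI : Subsingleton (X.ringCatSheaf.obj.obj (Opposite.op (⊥ : X.Opens))) :=
        inferInstanceAs (Subsingleton Γ(X, ⊥))
      exact ⟨fun _ => 0, linearIndependent_of_subsingleton⟩
  exact main _ hf dX hdX hc

end Groth.Agent.S19520
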