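import Mathlib
import Groth.Statements.S19522
-- import your own Groth.Agent.* helpers here

set_option autoImplicit false
universe u
open TensorProduct
open GLin

namespace Groth.Agent.S19522

section aux
variable {k : Type u} [Field k] {A : Type u} [CommRing A] [Algebra k A]
  {R : Type u} [CommRing R] [Algebra k R]

/-- coefficient extraction on `R[t] ⊗ A`. -/
noncomputable def cf (r : ℕ) : Polynomial R ⊗[k] A →ₗ[k] R ⊗[k] A :=
  ((Polynomial.lcoeff R r).restrictScalars k).rTensor A

lemma cf_tmul (r : ℕ) (p : Polynomial R) (a : A) :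
    cf (k := k) r (p ⊗ₜ[k] a) = p.coeff r ⊗ₜ[k] a := by
  simp [cf]

lemma cf_map_mul (r s : ℕ) (a : A) (z : R ⊗[k] A) :
    cf (k := k) r (Algebra.TensorProduct.map (Polynomial.CAlgHom : R →ₐ[k] Polynomial R)
      (AlgHom.id k A) z * ((Polynomial.X ^ s : Polynomial R) ⊗ₜ[k] a)) =
      if r = s then z * ((1 : R) ⊗ₜ[k] a) else 0 := by
  induction z using TensorProduct.induction_on with
  | zero => simp
  | tmul u b =>
    simp only [Algebra.TensorProduct.map_tmul, Algebra.TensorProduct.tmul_mul_tmul, cf_tmul,
      Polynomial.CAlgHom_apply, Polynomial.coeff_C_mul_X_pow, AlgHom.id_apply, mul_one]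
    split_ifs <;> simp
  | add x y hx hy =>
    rw [map_add, add_mul, map_add, hx, hy]
    split_ifs <;> simp [add_mul]

end aux

/-- Let k be a field, A a commutative k-bialgebra coacting multiplicatively on a commutative k-algebra
R, and χ ∈ A a group-like element with an inverse χ' (χχ' = 1). Suppose the polynomial ring R[t]
carries a multiplicative coaction which restricts to the given one on constants and sends t to t ⊗
χ'. Then g ∈ R[t] is coinvariant if and only if, for every r, its r-th coefficient has coaction g_r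
↦ g_r ⊗ χ^r; that is, the ring of invariants of R[t] is the sum over r ≥ 0 of the weight-χ^r
semi-invariants of R times t^r. (The published statement is phrased for an affine variety with an
action of a linear algebraic group over an algebraically closed field of characteristic zero and
identifies the invariants of X × A¹ with the graded ring of invariant sections of the powers of the
linearised trivial bundle; this is its coordinate-ring content, valid over any field.) -/
theorem result (k : Type u) [Field k]
    (A : Type u) [CommRing A] [Bialgebra k A]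
    (R : Type u) [CommRing R] [Algebra k R] [HopfRep.Comod k A R] [GLin.IsCoactAlg k A R]
    [HopfRep.Comod k A (Polynomial R)] [GLin.IsCoactAlg k A (Polynomial R)]
    (χ χ' : A) (hχ : CoalgebraStruct.comul (R := k) (A := A) χ = χ ⊗ₜ[k] χ)
    (hχε : CoalgebraStruct.counit (R := k) (A := A) χ = 1) (hχχ' : χ * χ' = 1)
    (hC : ∀ r : R, HopfRep.Comod.coact (k := k) (A := A) (Polynomial.C r) =
      Algebra.TensorProduct.map (Polynomial.CAlgHom : R →ₐ[k] Polynomial R) (AlgHom.id k A)
        (HopfRep.Comod.coact (k := k) (A := A) r))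
    (hX : HopfRep.Comod.coact (k := k) (A := A) (Polynomial.X : Polynomial R) = Polynomial.X ⊗ₜ[k] χ')
    (g : Polynomial R) :
    g ∈ GLin.invariants k A (Polynomial R) ↔
      ∀ r : ℕ, g.coeff r ∈ HopfRep.eigenspace k A R (χ ^ r) := by
  have hρg : ∀ p : Polynomial R, HopfRep.Comod.coact (k := k) (A := A) p =
      ∑ s ∈ p.support, Algebra.TensorProduct.map (Polynomial.CAlgHom : R →ₐ[k] Polynomial R)
        (AlgHom.id k A) (HopfRep.Comod.coact (k := k) (A := A) (p.coeff s)) *
        ((Polynomial.X ^ s : Polynomial R) ⊗ₜ[k] (χ' ^ s)) := by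
    intro p
    conv_lhs => rw [p.as_sum_support_C_mul_X_pow]
    rw [← coactAlgHom_apply, map_sum]
    refine Finset.sum_congr rfl fun s _ => ?_
    rw [map_mul, map_pow, coactAlgHom_apply, coactAlgHom_apply, hC, hX,
      Algebra.TensorProduct.tmul_pow]
  have hpow : ∀ r : ℕ, χ ^ r * χ' ^ r = 1 := fun r => by rw [← mul_pow, hχχ', one_pow]
  rw [mem_invariants_iff]
  constructor
  · intro hg r
    have h1 := congrArg (cf (k := k) r) hg
    rw [cf_tmul, hρg g, map_sum] at h1
    simp only [cf_map_mul] at h1
    rw [Finset.sum_ite_eq] at h1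
    have h2 : HopfRep.Comod.coact (k := k) (A := A) (g.coeff r) * ((1 : R) ⊗ₜ[k] (χ' ^ r)) =
        g.coeff r ⊗ₜ[k] (1 : A) := by
      by_cases hr : r ∈ g.support
      · rw [if_pos hr] at h1; exact h1
      · rw [if_neg hr] at h1
        have : g.coeff r = 0 := Polynomial.notMem_support_iff.mp hr
        rw [this]; simp
    change HopfRep.Comod.coact (k := k) (A := A) (g.coeff r) = g.coeff r ⊗ₜ[k] (χ ^ r)
    have h3 := congrArg (· * ((1 : R) ⊗ₜ[k] (χ ^ r))) h2
    simp only [mul_assoc, Algebra.TensorProduct.tmul_mul_tmul, mul_one, one_mul] at h3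
    rw [mul_comm (χ' ^ r), hpow r] at h3
    rw [← h3, ← Algebra.TensorProduct.one_def, mul_one]
  · intro hg
    rw [hρg g]
    have : ∀ s ∈ g.support, Algebra.TensorProduct.map (Polynomial.CAlgHom : R →ₐ[k] Polynomial R)
        (AlgHom.id k A) (HopfRep.Comod.coact (k := k) (A := A) (g.coeff s)) *
        ((Polynomial.X ^ s : Polynomial R) ⊗ₜ[k] (χ' ^ s)) =
        (Polynomial.C (g.coeff s) * Polynomial.X ^ s) ⊗ₜ[k] (1 : A) := by
      intro s _
      have hs : HopfRep.Comod.coact (k := k) (A := A) (g.coeff s) = g.coeff s ⊗ₜ[k] (χ ^ s) := hg s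
      rw [hs, Algebra.TensorProduct.map_tmul, Algebra.TensorProduct.tmul_mul_tmul]
      simp only [Polynomial.CAlgHom_apply, AlgHom.id_apply, hpow]
    rw [Finset.sum_congr rfl this, ← TensorProduct.sum_tmul, ← g.as_sum_support_C_mul_X_pow]

end Groth.Agent.S19522
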