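import Groth.Statements.S19524
-- import your own Groth.Agent.* helpers here
import Mathlib
import Groth.Agent.Lib.Helper22.OmegaGen7
import Groth.Agent.Lib.Helper22.OmegaGen8
import Groth.Agent.Lib.Helper22.OmegaGen9
import Groth.Agent.Lib.Helper22.OmegaGen10
import Groth.Agent.Lib.Helper3.SecLoc

set_option autoImplicit false
universe u
open CategoryTheory CategoryTheory.Limits AlgebraicGeometry
open OmegaSh

namespace Groth.Agent.S19524

/-- Let k be a field and f : X → Z a k-morphism between integral proper k-schemes, where X is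
geometrically normal (its base change to an algebraic closure of k has integrally closed local
domains) and Z is smooth over k; let Y ⊆ Z be the closure of the image of f, m its dimension, and
assume the fibre of f over the generic point of Y is geometrically reduced over the residue field
there (the function field extension K(Y) ⊆ K(X) is separable). Let d_Z : O_Z → Ω_Z and d_X : O_X →
Ω_X be universal k-derivations and c : f^*Ω_Z → Ω_X the O_X-linear map compatible with them, and let
U ⊆ X be the largest open subscheme smooth over k. If f^*Ω_Z is a free O_X-module of finite rank and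
Ω^m_X is an m-th exterior power of Ω_X (affine-locally the exterior power of the sections), then
Ω^m_X has a nonzero section over U: h⁰(U, Ω^m) ≥ 1. -/
theorem result (k : Type u) [Field k]
    (X Z : Scheme.{u}) [X.Over (Spec (CommRingCat.of k))] [Z.Over (Spec (CommRingCat.of k))]
    [IsProper (X ↘ Spec (CommRingCat.of k))] [IsProper (Z ↘ Spec (CommRingCat.of k))] [IsIntegral X] [IsIntegral Z]
    [Smooth (Z ↘ Spec (CommRingCat.of k))]
    (hgn : ∀ (K : Type u) [Field K] [Algebra k K] [IsAlgClosure k K],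
      Pi1.IsNormalScheme (pullback (X ↘ Spec (CommRingCat.of k)) (Spec.map (CommRingCat.ofHom (algebraMap k K)))))
    (f : X ⟶ Z) (hf : f ≫ (Z ↘ Spec (CommRingCat.of k)) = X ↘ Spec (CommRingCat.of k))
    (η : Z) (hη : closure {η} = closure (Set.range f.base)) (m : ℕ)
    (hm : topologicalKrullDim (closure (Set.range f.base)) = m)
    (hsep : GeometricallyReduced (pullback.snd f (Z.fromSpecResidueField η)))
    (ΩZ : Z.Modules) (dZ : OmegaSh.Der (Z ↘ Spec (CommRingCat.of k)) ΩZ) (hdZ : OmegaSh.IsUniversal dZ)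
    (ΩX : X.Modules) (dX : OmegaSh.Der (X ↘ Spec (CommRingCat.of k)) ΩX) (hdX : OmegaSh.IsUniversal dX)
    (c : (Scheme.Modules.pullback f).obj ΩZ ⟶ ΩX) (hc : OmegaSh.IsDiffCompat f dZ dX c)
    (hfree : ∃ d : ℕ, Nonempty ((Scheme.Modules.pullback f).obj ΩZ ≅ FlatMod.freeMod X d))
    (U : X.Opens) (hU : Smooth (U.ι ≫ (X ↘ Spec (CommRingCat.of k))))
    (hUmax : ∀ V : X.Opens, Smooth (V.ι ≫ (X ↘ Spec (CommRingCat.of k))) → V ≤ U)
    (Ωm : X.Modules) (hΩm : ExtPow.IsExtPow m ΩX Ωm) :
    ∃ s : Ωm.val.obj (Opposite.op U), s ≠ 0 := by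
  classical
  obtain ⟨d, ⟨φ⟩⟩ := hfree
  obtain ⟨ψ, hψ⟩ := hΩm
  have main : ∀ (pX : X ⟶ Spec (CommRingCat.of k)) [LocallyOfFiniteType pX]
      (hf : f ≫ (Z ↘ Spec (CommRingCat.of k)) = pX) (dX : OmegaSh.Der pX ΩX)
      (_ : OmegaSh.IsUniversal dX) (_ : OmegaSh.IsDiffCompat f dZ dX c)
      (_ : ∀ (K : Type u) [Field K] [Algebra k K] [IsAlgClosure k K],
        Pi1.IsNormalScheme (pullback pX (Spec.map (CommRingCat.ofHom (algebraMap k K)))))
      (_ : ∀ V : X.Opens, Smooth (V.ι ≫ pX) → V ≤ U),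
      ∃ s : Ωm.val.obj (Opposite.op U), s ≠ 0 := by
    intro pX _ hf dX hdX hc hgn' hUmax'
    obtain ⟨V₀, hV₀ne, hV₀s⟩ :=
      Groth.Agent.Lib.Helper22.OmegaGen10.exists_nonempty_smooth_open k pX hgn'
    have hU0 : genericPoint X ∈ U := by
      obtain ⟨z, hz⟩ := hV₀ne
      exact ((genericPoint_spec X).mem_open_set_iff U.isOpen).mpr ⟨z, trivial, hUmax' V₀ hV₀s hz⟩
    subst hf
    haveI : LocallyOfFiniteType f := locallyOfFiniteType_of_comp f (Z ↘ Spec (CommRingCat.of k))
    have hη' : f (genericPoint X) = η := by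
      have h1 := (genericPoint_spec X).image f.continuous
      rw [Set.image_univ] at h1
      have h2 : IsGenericPoint η (closure (Set.range f)) := hη
      exact h1.eq h2
    have hm' : topologicalKrullDim (closure ({η} : Set Z)) = m := by
      rw [hη]; exact hm
    have hb : Groth.Agent.Lib.Helper3.FreeBasis.IsBasis ((Scheme.Modules.pullback f).obj ΩZ) ⊤
        (fun i => φ.inv.app ⊤ (Groth.Agent.Lib.Helper3.FreeBasis.bsec d i ⊤)) := by
      intro V hV
      have h1 := (Groth.Agent.Lib.Helper3.FreeBasis.isBasis_bsec (X := X) d ⊤ V hV).map_iso φ.symm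
      simpa only [Iso.symm_hom, Groth.Agent.Lib.Helper3.QCExact.app_res'] using h1
    obtain ⟨σ, U₂, hU₂, hle, hξ, K, _, _, V, _, _, _, _, Ψ, hinj, hli⟩ :=
      Groth.Agent.Lib.Helper22.OmegaGen7.exists_generic_linearIndependent k f η hη' m hm' hsep
        dZ hdZ dX hdX c hc _ hb U hU0
    obtain ⟨t, ht⟩ := Groth.Agent.Lib.Helper22.OmegaGen9.exists_wedge_section ψ hψ U
      (fun i => c.app U (Groth.Agent.Lib.Helper3.QCSec.res
        ((Scheme.Modules.pullback f).obj ΩZ) le_top
        (φ.inv.app ⊤ (Groth.Agent.Lib.Helper3.FreeBasis.bsec d (σ i) ⊤))))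
    refine ⟨t, ?_⟩
    intro h0
    have h1 := ht ⟨U₂, hU₂⟩ hle
    rw [h0] at h1
    have h1' := (Groth.Agent.Lib.Helper3.QCSec.res_zero Ωm hle).symm.trans h1
    have h2 := ((map_zero (ψ ⟨U₂, hU₂⟩)).symm.trans (congrArg (ψ ⟨U₂, hU₂⟩) h1')).trans
      (LinearEquiv.apply_symm_apply _ _)
    have h3 : (fun j => Groth.Agent.Lib.Helper3.QCSec.res ΩX hle
        (c.app U (Groth.Agent.Lib.Helper3.QCSec.res ((Scheme.Modules.pullback f).obj ΩZ) le_top
          (φ.inv.app ⊤ (Groth.Agent.Lib.Helper3.FreeBasis.bsec d (σ j) ⊤))))) =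
        fun j => c.app U₂ (Groth.Agent.Lib.Helper3.QCSec.res
          ((Scheme.Modules.pullback f).obj ΩZ) le_top
          (φ.inv.app ⊤ (Groth.Agent.Lib.Helper3.FreeBasis.bsec d (σ j) ⊤))) := by
      funext j
      rw [← Groth.Agent.Lib.Helper3.QCExact.app_res' c hle, Groth.Agent.Lib.Helper3.QCSec.res_res]
    rw [h3] at h2
    exact Groth.Agent.Lib.Helper22.OmegaGen8.ιMulti_ne_zero Ψ _ hli h2.symm
  exact main _ hf dX hdX hc hgn hUmax

end Groth.Agent.S19524
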