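import Groth.Statements.S19533
import Groth.Agent.Lib.Helper11.PC3
import Groth.Agent.Lib.Helper11.AA6

set_option autoImplicit false
universe u
open CategoryTheory CategoryTheory.Limits MonoidalCategory CartesianMonoidalCategory MonObj GrpObj AlgebraicGeometry
open AbVar

namespace Groth.Agent.S19533

open Groth.Agent.Lib.Helper11.PC3 in
theorem main (k : Type u) [Field k] [IsAlgClosed k] (X : Over (Spec (CommRingCat.of k)))
    [GrpObj X] [IsProper X.hom] [ConnectedSpace X.left]
    (Y : Over (Spec (CommRingCat.of k))) [IsSeparated Y.hom] (f : X ⟶ Y)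
    (x y : 𝟙_ (Over (Spec (CommRingCat.of k))) ⟶ X)
    (hx : x.left (IsLocalRing.closedPoint k) ∈
      connectedComponentIn (f.left ⁻¹' {f.left (η[X].left (IsLocalRing.closedPoint k))}) (η[X].left (IsLocalRing.closedPoint k)))
    (hy : y.left (IsLocalRing.closedPoint k) ∈
      connectedComponentIn (f.left ⁻¹' {f.left (η[X].left (IsLocalRing.closedPoint k))}) (η[X].left (IsLocalRing.closedPoint k))) :
    (lift x y ≫ μ[X]).left (IsLocalRing.closedPoint k) ∈
        connectedComponentIn (f.left ⁻¹' {f.left (η[X].left (IsLocalRing.closedPoint k))}) (η[X].left (IsLocalRing.closedPoint k)) ∧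
      (x ≫ ι[X]).left (IsLocalRing.closedPoint k) ∈
        connectedComponentIn (f.left ⁻¹' {f.left (η[X].left (IsLocalRing.closedPoint k))}) (η[X].left (IsLocalRing.closedPoint k)) := by
  have hrig : ∀ (C' : Over (Spec (CommRingCat.of k))) [IsProper C'.hom]
      (_ : Function.Bijective ((Scheme.ΓSpecIso (CommRingCat.of k)).inv ≫ C'.hom.appTop).hom)
      (x₀ : 𝟙_ (Over (Spec (CommRingCat.of k))) ⟶ C') (y₀ : 𝟙_ (Over (Spec (CommRingCat.of k))) ⟶ X)
      (φ : C' ⊗ X ⟶ Y),
      (C' ◁ y₀) ≫ φ = toUnit _ ≫ lift x₀ y₀ ≫ φ →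
        φ = snd C' X ≫ lift (toUnit X ≫ x₀) (𝟙 X) ≫ φ := by
    intro C' _ hbij x₀ y₀ φ h
    refine Groth.Agent.Lib.Helper11.AA6.rigidity_connected C' X Y hbij x₀ y₀ φ
      (lift (toUnit X ≫ x₀) (𝟙 X) ≫ φ) ?_ ?_
    · have e : (x₀ ▷ X) = snd (𝟙_ (Over (Spec (CommRingCat.of k)))) X ≫ lift (toUnit X ≫ x₀) (𝟙 X) := by
        apply CartesianMonoidalCategory.hom_ext
        · rw [whiskerRight_fst, Category.assoc, lift_fst, ← Category.assoc]
          congr 1
          exact toUnit_unique _ _
        · rw [whiskerRight_snd, Category.assoc, lift_snd, Category.comp_id]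
      rw [← Category.assoc (x₀ ▷ X), whiskerRight_snd, e, Category.assoc]
    · rw [h]
      congr 1
      rw [← Category.assoc y₀, comp_lift, Category.comp_id, ← Category.assoc y₀]
      have : y₀ ≫ toUnit X = 𝟙 _ := toUnit_unique _ _
      rw [this, Category.id_comp]
  set pt := IsLocalRing.closedPoint k with hpt
  set S := f.left ⁻¹' {f.left (η[X].left pt)} with hS
  set F := connectedComponentIn S (η[X].left pt) with hF
  have e1 : lift x η[X] ≫ μ[X] = x := by
    have := lift_comp_one_right x (𝟙 (𝟙_ (Over (Spec (CommRingCat.of k)))))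
    rwa [Category.id_comp] at this
  have e1' : lift (x ≫ ι[X]) η[X] ≫ μ[X] = x ≫ ι[X] := by
    have := lift_comp_one_right (x ≫ ι[X]) (𝟙 (𝟙_ (Over (Spec (CommRingCat.of k)))))
    rwa [Category.id_comp] at this
  have e2 : lift (x ≫ ι[X]) x ≫ μ[X] = η[X] := by
    have h1 : lift (x ≫ ι[X]) x = x ≫ lift ι[X] (𝟙 X) := by
      rw [comp_lift, Category.comp_id]
    rw [h1, Category.assoc, GrpObj.left_inv, ← Category.assoc]
    have : x ≫ toUnit X = 𝟙 _ := toUnit_unique _ _
    rw [this, Category.id_comp]
  -- the fibre and component through x coincide with those through e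
  have hxS : f.left (x.left pt) = f.left (η[X].left pt) := connectedComponentIn_subset S _ hx
  have hFx : connectedComponentIn (f.left ⁻¹' {f.left (x.left pt)}) (x.left pt) = F := by
    rw [hxS]
    exact (connectedComponentIn_eq hx).symm
  have hemem : η[X].left pt ∈ F := mem_connectedComponentIn rfl
  constructor
  · have h3 := translate_component_subset X Y f hrig η[X] x
    rw [e1, hFx] at h3
    have h4 := congrArg (fun ψ => ψ.left pt) (pt_translate X x y)
    have h5 : (lift x y ≫ μ[X]).left pt =
        (lift (toUnit X ≫ x) (𝟙 X) ≫ μ[X]).left (y.left pt) := h4.symm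
    rw [h5]
    exact h3 ⟨_, hy, rfl⟩
  · have h3 := translate_component_subset X Y f hrig x (x ≫ ι[X])
    rw [e2, hFx] at h3
    have h4 := congrArg (fun ψ => ψ.left pt) (pt_translate X (x ≫ ι[X]) η[X])
    rw [e1'] at h4
    have h5 : (x ≫ ι[X]).left pt =
        (lift (toUnit X ≫ x ≫ ι[X]) (𝟙 X) ≫ μ[X]).left (η[X].left pt) := h4.symm
    rw [h5]
    exact h3 ⟨_, hemem, rfl⟩

/-- Let k be an algebraically closed field, A an abelian variety over k (a k-group scheme whose
structure morphism is proper, smooth and geometrically connected) with unit point e, Y a scheme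
separated over k and f : A → Y a morphism over k. Write F₀ for the connected component of e in the
fibre f⁻¹(f(e)). Then the k-rational points of F₀ are stable under the group law: if k-points x and
y of A lie in F₀ then so do the product point x·y and the inverse point x⁻¹. (The published
statement is for Y a k-variety and concludes that F₀ with its reduced structure is an abelian
subvariety, together with the translation formula F_a = a + F₀; this row records the closure of
F₀(k) under multiplication and inversion, for Y merely separated over k.) -/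
theorem result (k : Type u) [Field k] [IsAlgClosed k]
    (A : Over (Spec (CommRingCat.of k))) [GrpObj A] [IsProper A.hom] [Smooth A.hom] [GeometricallyConnected A.hom]
    {Y : Scheme.{u}} (q : Y ⟶ Spec (CommRingCat.of k)) [IsSeparated q] (f : A.left ⟶ Y) (hf : f ≫ q = A.hom)
    (x y : 𝟙_ (Over (Spec (CommRingCat.of k))) ⟶ A)
    (hx : x.left (IsLocalRing.closedPoint k) ∈
      connectedComponentIn (f ⁻¹' {f (η[A].left (IsLocalRing.closedPoint k))}) (η[A].left (IsLocalRing.closedPoint k)))
    (hy : y.left (IsLocalRing.closedPoint k) ∈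
      connectedComponentIn (f ⁻¹' {f (η[A].left (IsLocalRing.closedPoint k))}) (η[A].left (IsLocalRing.closedPoint k))) :
    (lift x y ≫ μ[A]).left (IsLocalRing.closedPoint k) ∈
        connectedComponentIn (f ⁻¹' {f (η[A].left (IsLocalRing.closedPoint k))}) (η[A].left (IsLocalRing.closedPoint k)) ∧
      (x ≫ ι[A]).left (IsLocalRing.closedPoint k) ∈
        connectedComponentIn (f ⁻¹' {f (η[A].left (IsLocalRing.closedPoint k))}) (η[A].left (IsLocalRing.closedPoint k)) := by
  haveI : IsSeparated (Over.mk q).hom := ‹IsSeparated q›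
  haveI : ConnectedSpace A.left := GeometricallyConnected.connectedSpace_of_subsingleton A.hom
  have := main k A (Over.mk q) (Over.homMk f hf) x y hx hy
  exact this

end Groth.Agent.S19533
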