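import Groth.Statements.S19535
import Mathlib
import Groth.Agent.Lib.Helper17.CurveDiff

set_option autoImplicit false
universe u
open CategoryTheory CategoryTheory.Limits AlgebraicGeometry TopologicalSpace
open Curves

namespace Groth.Agent.S19535

/-- Dichotomy for the differential of a map of smooth curves: let k be a field, X and Y integral schemes
each smooth, separated and quasi-compact over Spec k and of dimension one, and φ : X → Y a morphism
over k. Let Ω_Y and Ω_X be sheaves of differentials of Y and of X over k, given as universal
derivations, and c : φ^*Ω_Y → Ω_X the compatible map dφ (sending the pullback of d_Y s to d_X(φ^♯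
s)). Then exactly one of two things happens, stated here as a disjunction: either c is the zero map,
or c is a monomorphism of O_X-modules and its cokernel (the sheaf of relative differentials Ω_{X/Y})
restricts to zero on some nonempty open subset of X, so that it is supported at finitely many closed
points. (The published statement is for smooth curves, which are in addition geometrically
connected; integrality of X and Y is what the argument uses.) -/
theorem result (k : Type u) [Field k] {X Y : Scheme.{u}}
    (pX : X ⟶ Spec (CommRingCat.of k)) (pY : Y ⟶ Spec (CommRingCat.of k)) (φ : X ⟶ Y) (w : φ ≫ pY = pX)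
    [IsIntegral X] [Smooth pX] [IsSeparated pX] [QuasiCompact pX] (hdX : topologicalKrullDim X = 1)
    [IsIntegral Y] [Smooth pY] [IsSeparated pY] [QuasiCompact pY] (hdY : topologicalKrullDim Y = 1)
    (ΩY : Y.Modules) (dY : OmegaSh.Der pY ΩY) (hY : OmegaSh.IsUniversal dY)
    (ΩX : X.Modules) (dX : OmegaSh.Der pX ΩX) (hX : OmegaSh.IsUniversal dX)
    (c : (Scheme.Modules.pullback φ).obj ΩY ⟶ ΩX) (hc : OmegaSh.IsDiffCompat φ dY dX c) :
    c = 0 ∨ (Mono c ∧ ∃ U : X.Opens, (U : Set X).Nonempty ∧ IsZero ((Scheme.Modules.pullback U.ι).obj (cokernel c))) := by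
  classical
  by_cases h0 : c = 0
  · exact Or.inl h0
  · right
    haveI : LocallyOfFiniteType pX := inferInstance
    haveI : LocallyOfFiniteType pY := inferInstance
    have hΩX := Groth.Agent.Lib.Helper17.CurveDiff.isFinLocFreeOfRank_one_of_curve k pX hdX ΩX dX hX
    have hΩY := Groth.Agent.Lib.Helper17.CurveDiff.isFinLocFreeOfRank_one_of_curve k pY hdY ΩY dY hY
    have hL := Groth.Agent.Lib.Helper17.LocFreeRank.isFinLocFreeOfRank_pullback φ ΩY 1 hΩY
    haveI : ΩX.IsQuasicoherent := Groth.Agent.Lib.Helper1.DerSmooth.isQuasicoherent pX dX hX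
    haveI : ΩX.IsFiniteType := Groth.Agent.Lib.Helper1.DerFin.isFT pX dX hX
    haveI : ΩY.IsQuasicoherent := Groth.Agent.Lib.Helper1.DerSmooth.isQuasicoherent pY dY hY
    haveI : ((Scheme.Modules.pullback φ).obj ΩY).IsQuasicoherent :=
      Groth.Agent.Lib.Helper17.PbStalk.isQuasicoherent_pullback φ ΩY
    exact Groth.Agent.Lib.Helper17.CurveDiff.dichotomy hL hΩX c h0

end Groth.Agent.S19535
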