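import Groth.Statements.S19541
-- import your own Groth.Agent.* helpers here
import Mathlib
import Groth.Agent.Lib.Helper22.GenEtale
import Groth.Agent.Lib.Helper22.CurveOmega
import Groth.Agent.Lib.Helper22.SmoothJZ4
import Groth.Agent.Lib.Helper22.OmegaFibre
import Groth.Agent.Lib.Helper12.SchemeDimFT2

set_option autoImplicit false
universe u
open CategoryTheory CategoryTheory.Limits AlgebraicGeometry TopologicalSpace
open Curves

namespace Groth.Agent.S19541

/-- Pointwise criterion for a map of smooth curves to be étale: let k be an algebraically closed field,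
X and Y integral schemes each smooth, separated and quasi-compact over Spec k and of dimension one,
φ : X → Y a morphism over k and x a closed point of X. Then φ is étale at x (the restriction of φ to
some open neighbourhood of x is étale) if and only if the induced homomorphism of stalks O_{Y,φ(x)}
→ O_{X,x} carries the maximal ideal of the discrete valuation ring O_{Y,φ(x)} to an ideal generating
the maximal ideal of O_{X,x}; equivalently a uniformiser at φ(x) pulls back to a uniformiser at x.
(The published statement is for smooth curves, which are in addition geometrically connected;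
integrality is what is used. For a constant φ both sides fail.) -/
theorem result (k : Type u) [Field k] [IsAlgClosed k] {X Y : Scheme.{u}}
    (pX : X ⟶ Spec (CommRingCat.of k)) (pY : Y ⟶ Spec (CommRingCat.of k)) (φ : X ⟶ Y) (w : φ ≫ pY = pX)
    [IsIntegral X] [Smooth pX] [IsSeparated pX] [QuasiCompact pX] (hdX : topologicalKrullDim X = 1)
    [IsIntegral Y] [Smooth pY] [IsSeparated pY] [QuasiCompact pY] (hdY : topologicalKrullDim Y = 1)
    (x : X) (hx : IsClosed ({x} : Set X)) :
    (∃ U : X.Opens, x ∈ U ∧ Etale (U.ι ≫ φ)) ↔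
      Ideal.map (φ.stalkMap x).hom (IsLocalRing.maximalIdeal (Y.presheaf.stalk (φ.base x))) =
        IsLocalRing.maximalIdeal (X.presheaf.stalk x) := by
  subst w
  classical
  letI ovX : X.Over (Spec (CommRingCat.of k)) := ⟨φ ≫ pY⟩
  letI ovY : Y.Over (Spec (CommRingCat.of k)) := ⟨pY⟩
  haveI : LocallyOfFiniteType (φ ≫ pY) := inferInstance
  haveI : LocallyOfFiniteType (X ↘ Spec (CommRingCat.of k)) := ‹LocallyOfFiniteType (φ ≫ pY)›
  haveI : LocallyOfFiniteType pY := inferInstance
  haveI : LocallyOfFiniteType φ := locallyOfFiniteType_of_comp φ pY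
  haveI : IsLocallyNoetherian Y := LocallyOfFiniteType.isLocallyNoetherian pY
  haveI : LocallyOfFinitePresentation φ := inferInstance
  letI algYX : Algebra (Y.presheaf.stalk (φ.base x)) (X.presheaf.stalk x) :=
    (φ.stalkMap x).hom.toAlgebra
  haveI : IsLocalHom (algebraMap (Y.presheaf.stalk (φ.base x)) (X.presheaf.stalk x)) :=
    inferInstanceAs (IsLocalHom (φ.stalkMap x).hom)
  haveI hEss : Algebra.EssFiniteType (Y.presheaf.stalk (φ.base x)) (X.presheaf.stalk x) := by
    rw [← RingHom.essFiniteType_algebraMap, RingHom.algebraMap_toAlgebra]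
    exact LocallyOfFiniteType.stalkMap φ x
  constructor
  · rintro ⟨U, hxU, hU⟩
    have h1 := FormallyUnramified.stalkMap (U.ι ≫ φ) ⟨x, hxU⟩
    have h2 : (U.ι ≫ φ).stalkMap ⟨x, hxU⟩ =
        φ.stalkMap (U.ι ⟨x, hxU⟩) ≫ U.ι.stalkMap ⟨x, hxU⟩ := Scheme.Hom.stalkMap_comp _ _ _
    rw [h2] at h1
    have h3 : (φ.stalkMap x).hom.FormallyUnramified :=
      (RingHom.FormallyUnramified.respectsIso.cancel_right_isIso
        (φ.stalkMap (U.ι ⟨x, hxU⟩)) (U.ι.stalkMap ⟨x, hxU⟩)).mp h1
    haveI : Algebra.FormallyUnramified (Y.presheaf.stalk (φ.base x)) (X.presheaf.stalk x) := by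
      rw [← RingHom.formallyUnramified_algebraMap, RingHom.algebraMap_toAlgebra]
      exact h3
    exact Algebra.FormallyUnramified.map_maximalIdeal
  · intro H
    -- residue fields
    have hbx := Groth.Agent.Lib.Helper22.OmegaFibre.bijective_resMap k X x hx
    have hcompat : ∀ c : k, (φ.residueFieldMap x).hom (Curv2.resMap k Y (φ x) c) =
        Curv2.resMap k X x c :=
      fun c => Groth.Agent.Lib.Helper12.SchemeDimFT.residueFieldMap_resMap k pY (φ ≫ pY) φ rfl x c
    have hinjκ : Function.Injective (φ.residueFieldMap x).hom :=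
      (φ.residueFieldMap x).hom.injective
    have hsurjy : Function.Surjective (Curv2.resMap k Y (φ x)) := by
      intro w
      obtain ⟨c, hc⟩ := hbx.2 ((φ.residueFieldMap x).hom w)
      exact ⟨c, hinjκ (by rw [hcompat c, hc])⟩
    have hsurjκ : Function.Surjective (φ.residueFieldMap x).hom := by
      intro z
      obtain ⟨c, hc⟩ := hbx.2 z
      exact ⟨Curv2.resMap k Y (φ x) c, by rw [hcompat c, hc]⟩
    haveI hsepκ : Algebra.IsSeparable (IsLocalRing.ResidueField (Y.presheaf.stalk (φ.base x)))
        (IsLocalRing.ResidueField (X.presheaf.stalk x)) :=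
      ⟨fun z => by
        obtain ⟨a, rfl⟩ := hsurjκ z
        exact isSeparable_algebraMap (F := IsLocalRing.ResidueField (Y.presheaf.stalk (φ.base x)))
          (K := IsLocalRing.ResidueField (X.presheaf.stalk x)) a⟩
    haveI hunr : Algebra.FormallyUnramified (Y.presheaf.stalk (φ.base x)) (X.presheaf.stalk x) :=
      Algebra.FormallyUnramified.of_map_maximalIdeal H
    have h3 : (φ.stalkMap x).hom.FormallyUnramified := by
      have h := hunr
      rw [← RingHom.formallyUnramified_algebraMap, RingHom.algebraMap_toAlgebra] at h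
      exact h
    obtain ⟨V, hxV, hV⟩ :=
      Groth.Agent.Lib.Helper22.GenEtale.exists_formallyUnramified_nhd φ x h3
    -- local ring data at x
    have hdX' : topologicalKrullDim X = ((1 : ℕ) : WithBot ℕ∞) := by rw [hdX]; rfl
    have hdY' : topologicalKrullDim Y = ((1 : ℕ) : WithBot ℕ∞) := by rw [hdY]; rfl
    obtain ⟨tx, htx, htx0⟩ : ∃ t : X.presheaf.stalk x,
        IsLocalRing.maximalIdeal (X.presheaf.stalk x) = Ideal.span {t} ∧ t ≠ 0 := by
      obtain ⟨n, V', hV', W, hW, hxW, e, hstd, hdim⟩ :=
        Groth.Agent.Lib.Helper22.SmoothMono.exists_chart (φ ≫ pY) x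
      have h1 := Groth.Agent.Lib.Helper22.SmoothJZ.fibreDimAt_eq_of_irreducible_field k
        (φ ≫ pY) 1 hdX' x
      have hn : n = 1 := by
        rw [h1] at hdim
        exact_mod_cast hdim.symm
      subst hn
      obtain ⟨hN, hFS, hfree, hfin, hrank⟩ :=
        Groth.Agent.Lib.Helper22.CurveOmega.stalk_data_of_chart k X x 1 V' W hW hxW e hstd
      letI := Curv2.stalkAlgebra k X x
      haveI := hN
      haveI := hFS
      haveI := hfree
      haveI := hfin
      letI algkκ : Algebra k (IsLocalRing.ResidueField (X.presheaf.stalk x)) :=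
        Curv2.resAlgebra k X x
      haveI : IsScalarTower k (X.presheaf.stalk x)
          (IsLocalRing.ResidueField (X.presheaf.stalk x)) :=
        IsScalarTower.of_algebraMap_eq (fun _ => rfl)
      haveI : Algebra.IsSeparable k (IsLocalRing.ResidueField (X.presheaf.stalk x)) :=
        ⟨fun z => by
          obtain ⟨c, rfl⟩ := hbx.2 z
          exact isSeparable_algebraMap c⟩
      exact Groth.Agent.Lib.Helper22.CurveOmega.maximalIdeal_principal k (X.presheaf.stalk x) hrank
    obtain ⟨ty, hty, -⟩ : ∃ t : Y.presheaf.stalk (φ.base x),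
        IsLocalRing.maximalIdeal (Y.presheaf.stalk (φ.base x)) = Ideal.span {t} ∧ t ≠ 0 := by
      obtain ⟨n, V', hV', W, hW, hxW, e, hstd, hdim⟩ :=
        Groth.Agent.Lib.Helper22.SmoothMono.exists_chart pY (φ.base x)
      have h1 := Groth.Agent.Lib.Helper22.SmoothJZ.fibreDimAt_eq_of_irreducible_field k
        pY 1 hdY' (φ.base x)
      have hn : n = 1 := by
        rw [h1] at hdim
        exact_mod_cast hdim.symm
      subst hn
      obtain ⟨hN, hFS, hfree, hfin, hrank⟩ :=
        Groth.Agent.Lib.Helper22.CurveOmega.stalk_data_of_chart k Y (φ.base x) 1 V' W hW hxW e hstd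
      letI := Curv2.stalkAlgebra k Y (φ.base x)
      haveI := hN
      haveI := hFS
      haveI := hfree
      haveI := hfin
      letI algkκ : Algebra k (IsLocalRing.ResidueField (Y.presheaf.stalk (φ.base x))) :=
        Curv2.resAlgebra k Y (φ.base x)
      haveI : IsScalarTower k (Y.presheaf.stalk (φ.base x))
          (IsLocalRing.ResidueField (Y.presheaf.stalk (φ.base x))) :=
        IsScalarTower.of_algebraMap_eq (fun _ => rfl)
      haveI : Algebra.IsSeparable k (IsLocalRing.ResidueField (Y.presheaf.stalk (φ.base x))) :=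
        ⟨fun z => by
          obtain ⟨c, rfl⟩ := hsurjy z
          exact isSeparable_algebraMap c⟩
      exact Groth.Agent.Lib.Helper22.CurveOmega.maximalIdeal_principal k
        (Y.presheaf.stalk (φ.base x)) hrank
    -- Noetherian stalk at x
    haveI hNx : IsNoetherianRing (X.presheaf.stalk x) := by
      haveI : IsLocallyNoetherian X := LocallyOfFiniteType.isLocallyNoetherian (φ ≫ pY)
      infer_instance
    -- injectivity of the cotangent map
    have hinj : Function.Injective (FixPt.cotangentMapAt φ x (φ.base x) rfl) := by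
      rw [Groth.Agent.Lib.Helper22.SmoothJZ.cotangentMapAt_injective_iff]
      intro b hb hφb
      rw [hty] at hb
      obtain ⟨a, rfl⟩ := Ideal.mem_span_singleton'.mp hb
      by_cases ha : a ∈ IsLocalRing.maximalIdeal (Y.presheaf.stalk (φ.base x))
      · rw [pow_two]
        refine Ideal.mul_mem_mul ha ?_
        rw [hty]
        exact Ideal.mem_span_singleton_self ty
      · exfalso
        have hau : IsUnit a := by
          by_contra hnu
          exact ha ((IsLocalRing.mem_maximalIdeal _).mpr hnu)
        have hφt : (φ.stalkMap x).hom ty ∈ IsLocalRing.maximalIdeal (X.presheaf.stalk x) ^ 2 := by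
          obtain ⟨u, rfl⟩ := hau
          have h5 : (φ.stalkMap x).hom ty =
              (φ.stalkMap x).hom (↑u⁻¹ : Y.presheaf.stalk (φ.base x)) *
                (φ.stalkMap x).hom (↑u * ty) := by
            rw [← map_mul, ← mul_assoc, Units.inv_mul, one_mul]
          rw [h5]
          exact Ideal.mul_mem_left _ _ hφb
        have hmx : IsLocalRing.maximalIdeal (X.presheaf.stalk x) =
            Ideal.span {(φ.stalkMap x).hom ty} := by
          rw [← H, hty, Ideal.map_span, Set.image_singleton]
        have hle : IsLocalRing.maximalIdeal (X.presheaf.stalk x) ≤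
            IsLocalRing.maximalIdeal (X.presheaf.stalk x) •
              IsLocalRing.maximalIdeal (X.presheaf.stalk x) := by
          rw [smul_eq_mul, ← pow_two]
          conv_lhs => rw [hmx]
          exact (Ideal.span_singleton_le_iff_mem _).mpr hφt
        have hbot := Submodule.eq_bot_of_le_smul_of_le_jacobson_bot
          (IsLocalRing.maximalIdeal (X.presheaf.stalk x))
          (IsLocalRing.maximalIdeal (X.presheaf.stalk x)) (IsNoetherian.noetherian _) hle
          (IsLocalRing.maximalIdeal_le_jacobson ⊥)
        apply htx0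
        have : tx ∈ IsLocalRing.maximalIdeal (X.presheaf.stalk x) := by
          rw [htx]; exact Ideal.mem_span_singleton_self tx
        rw [hbot] at this
        exact this
    have hxS : x ∈ φ.smoothLocus :=
      Groth.Agent.Lib.Helper22.SmoothJZ.mem_smoothLocus_of_cotangent k pY φ x hx hinj
    refine ⟨V ⊓ φ.smoothLocus, ⟨hxV, hxS⟩, ?_⟩
    have hle : V ⊓ φ.smoothLocus ≤ V := inf_le_left
    haveI hunr' : FormallyUnramified ((V ⊓ φ.smoothLocus).ι ≫ φ) := by
      rw [← X.homOfLE_ι hle, Category.assoc]
      haveI : FormallyUnramified (X.homOfLE hle) := inferInstance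
      exact MorphismProperty.comp_mem _ _ _ this hV
    haveI hsm : Smooth ((V ⊓ φ.smoothLocus).ι ≫ φ) := by
      rw [← Scheme.Hom.smoothLocus_eq_top_iff, ← Scheme.Hom.preimage_smoothLocus_eq, eq_top_iff]
      intro z _
      exact (inf_le_right : V ⊓ φ.smoothLocus ≤ φ.smoothLocus) z.2
    exact Etale.of_formallyUnramified_of_flat _

end Groth.Agent.S19541
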