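import Mathlib
import Groth.Statements.S19547
-- import your own Groth.Agent.* helpers here

set_option autoImplicit false
universe u
open TensorProduct
open Desc

namespace Groth.Agent.S19547

/-- Let A → A' be a faithfully flat homomorphism of commutative rings, M' an A'-module and φ : M' ⊗_A A'
→ A' ⊗_A M' an isomorphism of (A' ⊗_A A')-modules for the diagonal actions (x ⊗ y)(u ⊗ z) = xu ⊗ yz
and (x ⊗ y)(z ⊗ u) = xz ⊗ yu, satisfying the cocycle condition φ_13 = φ_23 ∘ φ_12 between the three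
pullbacks to A' ⊗_A A' ⊗_A A'. Here linearity over A' ⊗_A A' is stated on the generators x ⊗ 1 and 1
⊗ y, and the cocycle condition on pure tensors u ⊗ a ⊗ b: writing φ(u ⊗ a) = Σ a_i ⊗ u_i, it says Σ
a_i ⊗ φ(u_i ⊗ b) = Σ b_j ⊗ a ⊗ u'_j where φ(u ⊗ b) = Σ b_j ⊗ u'_j. Let M = {u ∈ M' : φ(u ⊗ 1) = 1 ⊗
u}, an A-submodule of M'. Then the canonical map λ : A' ⊗_A M → M', x ⊗ u ↦ xu, is an isomorphism. -/
theorem result (A A' : Type u) [CommRing A] [CommRing A']
    [Algebra A A'] [Module.FaithfullyFlat A A'] (M' : Type u) [AddCommGroup M'] [Module A M']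
    [Module A' M'] [IsScalarTower A A' M']
    (φ : M' ⊗[A] A' →ₗ[A] A' ⊗[A] M') (hφ : Function.Bijective φ)
    (h1 : ∀ (x : A') (u : M') (z : A'),
      φ ((x • u) ⊗ₜ[A] z) = LinearMap.rTensor M' (LinearMap.mulLeft A x) (φ (u ⊗ₜ[A] z)))
    (h2 : ∀ (y : A') (u : M') (z : A'),
      φ (u ⊗ₜ[A] (y * z)) = LinearMap.lTensor A' (Algebra.lsmul A A M' y) (φ (u ⊗ₜ[A] z)))
    (hcoc : ∀ (u : M') (a b : A'),
      LinearMap.lTensor A' φ (TensorProduct.assoc A A' M' A' (LinearMap.rTensor A' φ ((u ⊗ₜ[A] a) ⊗ₜ[A] b))) =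
        LinearMap.lTensor A' (TensorProduct.mk A A' M' a) (φ (u ⊗ₜ[A] b)))
    (M : Submodule A M') (hM : ∀ u : M', u ∈ M ↔ φ (u ⊗ₜ[A] (1 : A')) = (1 : A') ⊗ₜ[A] u) :
    Function.Bijective
      ((TensorProduct.lift (Algebra.lsmul A A M').toLinearMap) ∘ₗ (LinearMap.lTensor A' M.subtype)) := by
  classical
  have hflat : Module.Flat A A' := inferInstance
  set μ : A' ⊗[A] M' →ₗ[A] M' := TensorProduct.lift (Algebra.lsmul A A M').toLinearMap with hμdef
  let α : M' →ₗ[A] A' ⊗[A] M' := TensorProduct.mk A A' M' 1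
  let β : M' →ₗ[A] A' ⊗[A] M' := φ ∘ₗ (TensorProduct.mk A M' A').flip 1
  have hμ_tmul : ∀ (a : A') (m : M'), μ (a ⊗ₜ[A] m) = a • m := fun a m => by simp [μ]
  have hβ : ∀ u, β u = φ (u ⊗ₜ[A] (1 : A')) := fun u => rfl
  have hα : ∀ u, α u = (1 : A') ⊗ₜ[A] u := fun u => rfl
  have hμ1 : ∀ (x : A') (w : A' ⊗[A] M'),
      μ (LinearMap.rTensor M' (LinearMap.mulLeft A x) w) = x • μ w := by
    intro x w
    induction w using TensorProduct.induction_on with
    | zero => simp
    | tmul a m => simp [hμ_tmul, mul_smul]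
    | add w1 w2 h1 h2 => simp only [map_add, h1, h2, smul_add]
  have hμ2 : ∀ (z : A') (w : A' ⊗[A] M'),
      μ (LinearMap.lTensor A' (Algebra.lsmul A A M' z) w) = z • μ w := by
    intro z w
    induction w using TensorProduct.induction_on with
    | zero => simp
    | tmul a m => simp [hμ_tmul, smul_comm a z m]
    | add w1 w2 h1 h2 => simp only [map_add, h1, h2, smul_add]
  have hψ1 : ∀ (x : A') (u : M'), μ (β (x • u)) = x • μ (β u) := by
    intro x u
    rw [hβ, hβ, h1, hμ1]
  have hψ2 : ∀ (z : A') (u : M'), μ (φ (u ⊗ₜ[A] z)) = z • μ (β u) := by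
    intro z u
    have := h2 z u 1
    rw [mul_one] at this
    rw [this, hμ2, hβ]
  have hrange : ∀ t : M' ⊗[A] A', μ (φ t) ∈ LinearMap.range (μ ∘ₗ β) := by
    intro t
    induction t using TensorProduct.induction_on with
    | zero => simp
    | tmul u z => exact ⟨z • u, by rw [LinearMap.comp_apply, hψ1, hψ2]⟩
    | add t1 t2 h1 h2 => rw [map_add, map_add]; exact Submodule.add_mem _ h1 h2
  have hhelp : ∀ w : A' ⊗[A] M',
      LinearMap.lTensor A' φ (TensorProduct.assoc A A' M' A' (w ⊗ₜ[A] (1 : A'))) =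
        LinearMap.lTensor A' β w := by
    intro w
    induction w using TensorProduct.induction_on with
    | zero => simp
    | tmul a m => simp [hβ]
    | add w1 w2 h1 h2 => rw [TensorProduct.add_tmul, map_add, map_add, h1, h2, map_add]
  have hcoc1 : ∀ u, LinearMap.lTensor A' β (β u) = LinearMap.lTensor A' α (β u) := by
    intro u
    have := hcoc u 1 1
    rw [LinearMap.rTensor_tmul, hhelp] at this
    exact this
  have hν_β : ∀ w : A' ⊗[A] M',
      μ (LinearMap.lTensor A' μ (LinearMap.lTensor A' β w)) = μ (β (μ w)) := by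
    intro w
    induction w using TensorProduct.induction_on with
    | zero => simp
    | tmul a m => simp [hμ_tmul, hψ1]
    | add w1 w2 h1 h2 => simp only [map_add, h1, h2]
  have hν_α : ∀ w : A' ⊗[A] M',
      μ (LinearMap.lTensor A' μ (LinearMap.lTensor A' α w)) = μ w := by
    intro w
    induction w using TensorProduct.induction_on with
    | zero => simp
    | tmul a m => simp [hμ_tmul, hα]
    | add w1 w2 h1 h2 => simp only [map_add, h1, h2]
  have hidem : ∀ u, μ (β (μ (β u))) = μ (β u) := by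
    intro u
    rw [← hν_β, hcoc1, hν_α]
  have hψid : ∀ m : M', μ (β m) = m := by
    intro m
    obtain ⟨t, ht⟩ := hφ.2 ((1 : A') ⊗ₜ[A] m)
    have hm : m = μ (φ t) := by rw [ht, hμ_tmul, one_smul]
    obtain ⟨n, hn⟩ := hrange t
    rw [hm, ← hn]
    exact hidem n
  let κ : A' ⊗[A] (A' ⊗[A] M') →ₗ[A] A' ⊗[A] M' :=
    TensorProduct.lift ((LinearMap.rTensorHom M') ∘ₗ (LinearMap.mul A A'))
  have hκ : ∀ (x : A') (w : A' ⊗[A] M'),
      κ (x ⊗ₜ[A] w) = LinearMap.rTensor M' (LinearMap.mulLeft A x) w := by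
    intro x w
    simp [κ]
    rfl
  have hκα : ∀ t : A' ⊗[A] M', κ (LinearMap.lTensor A' α t) = t := by
    intro t
    induction t using TensorProduct.induction_on with
    | zero => simp
    | tmul x m => simp [hκ, hα]
    | add w1 w2 h1 h2 => simp only [map_add, h1, h2]
  have hκβ : ∀ t : A' ⊗[A] M', κ (LinearMap.lTensor A' β t) = β (μ t) := by
    intro t
    induction t using TensorProduct.induction_on with
    | zero => simp
    | tmul x m => rw [LinearMap.lTensor_tmul, hκ, hβ, hμ_tmul, hβ, h1]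
    | add w1 w2 h1 h2 => simp only [map_add, h1, h2]
  have hex : Function.Exact M.subtype (α - β) := by
    intro u
    rw [LinearMap.sub_apply, sub_eq_zero, hα, hβ]
    constructor
    · intro h
      exact ⟨⟨u, (hM u).mpr h.symm⟩, rfl⟩
    · rintro ⟨⟨v, hv⟩, rfl⟩
      exact ((hM v).mp hv).symm
  have hex' := Module.Flat.lTensor_exact A' hex
  constructor
  · intro s s' hss
    have hmem : ∀ s, LinearMap.lTensor A' α (LinearMap.lTensor A' M.subtype s) =
        LinearMap.lTensor A' β (LinearMap.lTensor A' M.subtype s) := by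
      intro s
      have := (hex' (LinearMap.lTensor A' M.subtype s)).mpr ⟨s, rfl⟩
      rw [LinearMap.lTensor_sub, LinearMap.sub_apply, sub_eq_zero] at this
      exact this
    have e1 : ∀ s, LinearMap.lTensor A' M.subtype s =
        β (μ (LinearMap.lTensor A' M.subtype s)) := by
      intro s
      rw [← hκβ, ← hmem, hκα]
    have : LinearMap.lTensor A' M.subtype s = LinearMap.lTensor A' M.subtype s' := by
      rw [e1 s, e1 s']
      exact congrArg β hss
    exact Module.Flat.lTensor_preserves_injective_linearMap M.subtype M.injective_subtype this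
  · intro m
    have h0 : (LinearMap.lTensor A' (α - β)) (β m) = 0 := by
      rw [LinearMap.lTensor_sub, LinearMap.sub_apply, sub_eq_zero, hcoc1]
    obtain ⟨s, hs⟩ := (hex' (β m)).mp h0
    exact ⟨s, by rw [LinearMap.comp_apply, hs, hψid]⟩

end Groth.Agent.S19547
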