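import Mathlib
import Groth.Statements.S19548
-- import your own Groth.Agent.* helpers here

set_option autoImplicit false
universe u
open CategoryTheory AlgebraicGeometry
open RedSub

namespace Groth.Agent.S19548

section aux

variable {idx M N : Type} [AddCommGroup M] [AddCommGroup N]

lemma mem_closure_sum (P : RootPairing idx ℤ M N) (b : P.Base) (m : M)
    (hm : m ∈ AddSubmonoid.closure (P.root '' (b.support : Set idx))) :
    ∃ f : idx → ℕ, m = ∑ j ∈ b.support, f j • P.root j := by
  classical
  refine AddSubmonoid.closure_induction ?_ ⟨0, by simp⟩ ?_ hm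
  · rintro - ⟨j, hj, rfl⟩
    refine ⟨Pi.single j 1, ?_⟩
    rw [Finset.sum_eq_single_of_mem j hj]
    · simp
    · intro k _ hk
      simp [Pi.single_apply, hk]
  · intro _ _ _ _ ⟨f, hf⟩ ⟨g, hg⟩
    exact ⟨f + g, by simp [hf, hg, add_smul, Finset.sum_add_distrib]⟩

lemma isPos_of_mem_posRoots (P : RootPairing idx ℤ M N) (b : P.Base) {c : idx}
    (hc : c ∈ RedSub.posRoots P b) : b.IsPos c := by
  obtain ⟨f, hf⟩ := mem_closure_sum P b _ hc
  rw [b.isPos_iff']
  have : P.root c = ∑ j ∈ b.support, ((f j : ℤ)) • P.root j := by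
    simpa using hf
  rw [RootPairing.Base.height_eq_sum this]
  exact Finset.sum_nonneg (fun _ _ => Int.natCast_nonneg _)

lemma not_isPos_of_mem_negRoots (P : RootPairing idx ℤ M N) (b : P.Base) {c : idx}
    (hc : c ∈ RedSub.negRoots P b) : ¬ b.IsPos c := by
  obtain ⟨f, hf⟩ := mem_closure_sum P b _ hc
  have : P.root c = ∑ j ∈ b.support, (-(f j : ℤ)) • P.root j := by
    simp only [neg_smul, Finset.sum_neg_distrib, natCast_zsmul]
    rw [← hf, neg_neg]
  rw [b.isPos_iff, RootPairing.Base.height_eq_sum this]
  simp only [Finset.sum_neg_distrib, Left.neg_pos_iff, not_lt]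
  exact Finset.sum_nonneg (fun _ _ => Int.natCast_nonneg _)

lemma reflectionPerm_reflectionPerm' (P : RootPairing idx ℤ M N) (i j : idx) :
    P.reflectionPerm (P.reflectionPerm j i) =
      P.reflectionPerm j * P.reflectionPerm i * P.reflectionPerm j := by
  ext k
  apply P.root.injective
  simp [RootPairing.root_reflectionPerm, RootPairing.reflection_reflectionPerm]

lemma reflectionPerm_wordPerm (P : RootPairing idx ℤ M N) (l : List idx) (a : idx) :
    P.reflectionPerm (RedSub.wordPerm P l a) =
      RedSub.wordPerm P l * P.reflectionPerm a * (RedSub.wordPerm P l)⁻¹ := by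
  induction l with
  | nil => simp [RedSub.wordPerm]
  | cons x l ih =>
    have h1 : RedSub.wordPerm P (x :: l) = P.reflectionPerm x * RedSub.wordPerm P l := by
      simp [RedSub.wordPerm]
    rw [h1, Equiv.Perm.mul_apply, reflectionPerm_reflectionPerm', ih, mul_inv_rev,
      RootPairing.reflectionPerm_inv]
    simp only [mul_assoc]

lemma exists_step (p : ℕ → Prop) (n : ℕ) (h0 : p 0) (hn : ¬ p n) :
    ∃ i < n, p i ∧ ¬ p (i + 1) := by
  induction n with
  | zero => exact absurd h0 hn
  | succ n ih =>
    by_cases hpn : p n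
    · exact ⟨n, Nat.lt_succ_self n, hpn, hn⟩
    · obtain ⟨i, hi, h⟩ := ih hpn
      exact ⟨i, Nat.lt_succ_of_lt hi, h⟩

end aux

/-- Let Φ be a finite reduced root system (a reduced root pairing over ℤ on a finite index set) with a
base b, let w = σ_{α_1} ⋯ σ_{α_ℓ} be a reduced decomposition of a Weyl group element into simple
reflections (every α_j in the base, and no shorter word in the simple reflections gives the same
permutation of the roots), and let γ be a positive root with w⁻¹(γ) negative. Then for some i with 1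
≤ i ≤ ℓ one has σ_γ σ_{α_1} ⋯ σ_{α_i} = σ_{α_1} ⋯ σ_{α_{i-1}}. (Indices are shifted by one below:
the word is a list and the prefixes are its first i + 1 and first i letters.) -/
theorem result {idx M N : Type}
    [AddCommGroup M] [AddCommGroup N] [Finite idx]
    (P : RootPairing idx ℤ M N) [P.IsReduced] (b : P.Base) (l : List idx)
    (hl : ∀ a ∈ l, a ∈ b.support)
    (hred : ∀ l' : List idx, (∀ a ∈ l', a ∈ b.support) →
      RedSub.wordPerm P l' = RedSub.wordPerm P l → l.length ≤ l'.length)
    (c : idx) (hc : c ∈ RedSub.posRoots P b) (hneg : (RedSub.wordPerm P l).symm c ∈ RedSub.negRoots P b) :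
    ∃ i : ℕ, i < l.length ∧
      P.reflectionPerm c * RedSub.wordPerm P (l.take (i + 1)) = RedSub.wordPerm P (l.take i) := by
  have h0 : b.IsPos ((RedSub.wordPerm P (l.take 0)).symm c) := by
    exact isPos_of_mem_posRoots P b hc
  have hn : ¬ b.IsPos ((RedSub.wordPerm P (l.take l.length)).symm c) := by
    rw [List.take_length]
    exact not_isPos_of_mem_negRoots P b hneg
  obtain ⟨i, hi, hpi, hni⟩ := exists_step
    (fun j => b.IsPos ((RedSub.wordPerm P (l.take j)).symm c)) l.length h0 hn
  refine ⟨i, hi, ?_⟩
  have hstep : RedSub.wordPerm P (l.take (i + 1)) =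
      RedSub.wordPerm P (l.take i) * P.reflectionPerm (l[i]) := by
    unfold RedSub.wordPerm
    rw [List.take_succ_eq_append_getElem hi, List.map_append, List.prod_append]
    simp
  have hmem : l[i] ∈ b.support := hl _ (List.getElem_mem hi)
  -- the root `w_i⁻¹ c` must be the simple root `l[i]`
  have heq : (RedSub.wordPerm P (l.take i)).symm c = l[i] := by
    by_contra hne
    apply hni
    have := RootPairing.Base.IsPos.reflectionPerm hpi hmem hne
    simpa [hstep, Equiv.Perm.mul_def, Equiv.symm_trans_apply] using this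
  have hc' : c = RedSub.wordPerm P (l.take i) (l[i]) := by
    rw [← heq]; simp
  rw [hstep]
  conv_lhs => rw [hc', reflectionPerm_wordPerm]
  have hsq : P.reflectionPerm (l[i]) * P.reflectionPerm (l[i]) = 1 := by
    rw [← sq]; exact P.reflectionPerm_sq _
  calc RedSub.wordPerm P (l.take i) * P.reflectionPerm (l[i]) * (RedSub.wordPerm P (l.take i))⁻¹ *
        (RedSub.wordPerm P (l.take i) * P.reflectionPerm (l[i]))
      = RedSub.wordPerm P (l.take i) * (P.reflectionPerm (l[i]) * P.reflectionPerm (l[i])) := by
        group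
    _ = RedSub.wordPerm P (l.take i) := by rw [hsq, mul_one]

end Groth.Agent.S19548
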