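import Groth.Statements.S19550
import Mathlib

set_option autoImplicit false
universe u
open SchFin SchFin.RSpace

namespace Groth.Agent.S19550

section helpers

theorem idem_zero_or_one {R : Type*} [CommRing R] [ConnectedSpace (PrimeSpectrum R)] (a : R)
    (ha : IsIdempotentElem a) : a = 0 ∨ a = 1 := by
  have hcl : IsClopen (PrimeSpectrum.basicOpen a : Set (PrimeSpectrum R)) :=
    PrimeSpectrum.isClopen_basicOpen_of_mul_add a (1 - a)
      (by rw [mul_sub, mul_one, ha.eq, sub_self]) (by ring)
  rcases isClopen_iff.mp hcl with h | h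
  · left
    refine PrimeSpectrum.basicOpen_injOn_isIdempotentElem ha IsIdempotentElem.zero ?_
    apply TopologicalSpace.Opens.ext
    rw [h, PrimeSpectrum.basicOpen_zero]; rfl
  · right
    refine PrimeSpectrum.basicOpen_injOn_isIdempotentElem ha IsIdempotentElem.one ?_
    apply TopologicalSpace.Opens.ext
    rw [h, PrimeSpectrum.basicOpen_one]; rfl

theorem algHom_pi_eq_eval {R : Type*} [CommRing R] [ConnectedSpace (PrimeSpectrum R)]
    {F : Type*} [Finite F] (ψ : (F → R) →ₐ[R] R) : ∃ i : F, ∀ g : F → R, ψ g = g i := by
  classical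
  cases nonempty_fintype F
  haveI : Nontrivial R := (PrimeSpectrum.nonempty_iff_nontrivial).mp inferInstance
  have hid : ∀ j, ψ (Pi.single j 1) = 0 ∨ ψ (Pi.single j 1) = 1 := fun j =>
    idem_zero_or_one _ (by
      show ψ (Pi.single j 1) * ψ (Pi.single j 1) = ψ (Pi.single j 1)
      rw [← map_mul, ← Pi.single_mul, mul_one])
  have h1 : (∑ j, Pi.single j (1:R) : F → R) = 1 := Finset.univ_sum_single (fun _ : F => (1:R))
  have hsum : ∑ j, ψ (Pi.single j 1) = 1 := by
    rw [← map_sum, h1]
    exact map_one ψ
  have hg : ∀ g : F → R, ψ g = ∑ j, g j * ψ (Pi.single j 1) := by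
    intro g
    conv_lhs => rw [← Finset.univ_sum_single g]
    rw [map_sum]
    refine Finset.sum_congr rfl fun j _ => ?_
    have : (Pi.single j (g j) : F → R) = g j • Pi.single j 1 := by
      rw [← Pi.single_smul, smul_eq_mul, mul_one]
    rw [this, map_smul, smul_eq_mul]
  have hex : ∃ i, ψ (Pi.single i 1) = 1 := by
    by_contra hne
    push_neg at hne
    have h0 : ∀ j, ψ (Pi.single j 1) = 0 := fun j => (hid j).resolve_right (hne j)
    rw [Finset.sum_congr rfl (fun j _ => h0 j), Finset.sum_const_zero] at hsum
    exact zero_ne_one hsum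
  obtain ⟨i, hi⟩ := hex
  have hother : ∀ j, j ≠ i → ψ (Pi.single j 1) = 0 := by
    intro j hj
    rcases hid j with h | h
    · exact h
    · exfalso
      have h2 : ψ (Pi.single j 1 * Pi.single i 1) = 1 := by rw [map_mul, h, hi, mul_one]
      have h0 : (Pi.single j 1 * Pi.single i 1 : F → R) = 0 := by
        ext k
        simp only [Pi.mul_apply, Pi.single_apply, Pi.zero_apply]
        split_ifs with h1 h2
        · exact absurd (h1.symm.trans h2) hj
        · simp
        · simp
        · simp
      rw [h0, map_zero] at h2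
      exact zero_ne_one h2
  refine ⟨i, fun g => ?_⟩
  rw [hg g, Finset.sum_eq_single i]
  · rw [hi, mul_one]
  · intro j _ hj; rw [hother j hj, mul_zero]
  · intro h; exact absurd (Finset.mem_univ i) h

end helpers


open SchFin in
/-- Let X be a well-connected schematic finite space and f : A → B a morphism of quasi-coherent algebras
between trivial étale covers A ≅ O_X^F and B ≅ O_X^E, F and E finite sets. Then f is induced by a
map of finite sets φ : E → F. Here the trivial algebras are written out: f is a family of
O_p-algebra maps (F → O_p) → (E → O_p), one for each point p, compatible with the restriction maps,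
and the conclusion says f_p(g) = g ∘ φ for every p and g. (The published statement names a map F →
E; a map of algebras of functions O^F → O^E is composition with a map E → F, which is what this row
states.) -/
theorem result (X : RSpace.{u})
    (hX : X.IsSchematic) (hW : X.IsWellConnected) (F E : Type) [Finite F] [Finite E]
    (f : ∀ p : X.pt, (F → X.ring p) →ₐ[X.ring p] (E → X.ring p))
    (hf : ∀ (p q : X.pt) (h : p ≤ q) (g : F → X.ring p) (e : E),
      X.res h (f p g e) = f q (fun i => X.res h (g i)) e) :
    ∃ φ : E → F, ∀ (p : X.pt) (g : F → X.ring p) (e : E), f p g e = g (φ e) := by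
  classical
  obtain ⟨hconn, hpw⟩ := hW
  have h1 : ∀ (p : X.pt) (e : E), ∃ i : F, ∀ g : F → X.ring p, f p g e = g i := by
    intro p e
    haveI := hpw p
    exact algHom_pi_eq_eval ((Pi.evalAlgHom (X.ring p) (fun _ : E => X.ring p) e).comp (f p))
  choose φ hφ using h1
  have hnt : ∀ p : X.pt, Nontrivial (X.ring p) := fun p => by
    haveI := hpw p
    exact (PrimeSpectrum.nonempty_iff_nontrivial).mp inferInstance
  have h2 : ∀ (p q : X.pt), p ≤ q → φ p = φ q := by
    intro p q h
    funext e
    have h3 := hf p q h (Pi.single (φ p e) 1) e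
    rw [hφ p, hφ q] at h3
    simp only [Pi.single_eq_same, map_one] at h3
    by_contra hne
    rw [Pi.single_eq_of_ne (Ne.symm hne), map_zero] at h3
    haveI := hnt q
    exact one_ne_zero h3
  haveI : ConnectedSpace (PrimeSpectrum (X.sectRing Set.univ)) := hconn
  have hne : Nonempty X.pt := by
    by_contra hemp
    rw [not_nonempty_iff] at hemp
    have hsub : Subsingleton (X.sectRing Set.univ) :=
      ⟨fun a b => Subtype.ext (funext fun q => (hemp.false q.1).elim)⟩
    have hnt' : Nontrivial (X.sectRing Set.univ) :=
      (PrimeSpectrum.nonempty_iff_nontrivial).mp inferInstance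
    exact not_subsingleton _ hsub
  obtain ⟨p0⟩ := hne
  have hsmem : (fun q : (Set.univ : Set X.pt) => if φ q.1 = φ p0 then (1 : X.ring q.1) else 0) ∈
      X.sectRing Set.univ := by
    change ∀ (q q' : (Set.univ : Set X.pt)) (h : q.1 ≤ q'.1),
      X.res h (if φ q.1 = φ p0 then (1 : X.ring q.1) else 0) =
        if φ q'.1 = φ p0 then (1 : X.ring q'.1) else 0
    intro q q' h
    rw [h2 q.1 q'.1 h]
    split_ifs <;> simp
  let s : X.sectRing Set.univ := ⟨_, hsmem⟩
  have hs : IsIdempotentElem s := by
    apply Subtype.ext
    funext q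
    show (if φ q.1 = φ p0 then (1 : X.ring q.1) else 0) * (if φ q.1 = φ p0 then 1 else 0) =
      if φ q.1 = φ p0 then 1 else 0
    split_ifs <;> simp
  rcases idem_zero_or_one s hs with h0 | h1'
  · exfalso
    have h4 := congrArg (fun t : X.sectRing Set.univ => t.1 ⟨p0, trivial⟩) h0
    have h5 : (if φ p0 = φ p0 then (1 : X.ring p0) else 0) = 0 := h4
    rw [if_pos rfl] at h5
    haveI := hnt p0
    exact one_ne_zero h5
  · refine ⟨φ p0, fun p g e => ?_⟩
    have h4 := congrArg (fun t : X.sectRing Set.univ => t.1 ⟨p, trivial⟩) h1'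
    have h5 : (if φ p = φ p0 then (1 : X.ring p) else 0) = 1 := h4
    have hpp : φ p = φ p0 := by
      by_contra hne
      rw [if_neg hne] at h5
      haveI := hnt p
      exact zero_ne_one h5
    rw [hφ p, hpp]

end Groth.Agent.S19550
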