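import Mathlib
import Groth.Statements.S19551
-- import your own Groth.Agent.* helpers here

set_option autoImplicit false
universe u v w
open KronMod

namespace Groth.Agent.S19551

open Module

section pencil

variable {K : Type*} [Field K] {X Y : Type*} [AddCommGroup X] [Module K X]
  [AddCommGroup Y] [Module K Y] {ι : Type*} [Fintype ι] [DecidableEq ι]

/-- the determinant polynomial of a pencil -/
noncomputable def pol (bX : Basis ι K X) (bY : Basis ι K Y) (p0 p1 : X →ₗ[K] Y) :
    MvPolynomial (Fin 2) K :=
  Matrix.det ((MvPolynomial.X 0 : MvPolynomial (Fin 2) K) •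
      (LinearMap.toMatrix bX bY p0).map MvPolynomial.C +
    (MvPolynomial.X 1 : MvPolynomial (Fin 2) K) •
      (LinearMap.toMatrix bX bY p1).map MvPolynomial.C)

lemma eval_pol (bX : Basis ι K X) (bY : Basis ι K Y) (p0 p1 : X →ₗ[K] Y) (z : Fin 2 → K) :
    MvPolynomial.eval z (pol bX bY p0 p1) =
      (LinearMap.toMatrix bX bY (z 0 • p0 + z 1 • p1)).det := by
  unfold pol
  rw [RingHom.map_det]
  congr 1
  ext i j
  simp [Matrix.map_apply]

lemma pol_ne_zero (bX : Basis ι K X) (bY : Basis ι K Y) (p0 p1 : X →ₗ[K] Y) (a0 a1 : K)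
    (hb : Function.Bijective (a0 • p0 + a1 • p1)) : pol bX bY p0 p1 ≠ 0 := by
  intro h0
  have h1 := eval_pol bX bY p0 p1 ![a0, a1]
  rw [h0, map_zero] at h1
  have h2 := LinearEquiv.isUnit_det (LinearEquiv.ofBijective _ hb) bX bY
  have h3 : ((LinearEquiv.ofBijective _ hb : X ≃ₗ[K] Y) : X →ₗ[K] Y) = a0 • p0 + a1 • p1 := by
    ext x; rfl
  rw [h3] at h2
  simp only [Matrix.cons_val_zero, Matrix.cons_val_one] at h1
  rw [← h1] at h2
  exact not_isUnit_zero h2

lemma bijective_of_eval_pol_ne_zero (bX : Basis ι K X) (bY : Basis ι K Y) (p0 p1 : X →ₗ[K] Y)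
    (z : Fin 2 → K) (h : MvPolynomial.eval z (pol bX bY p0 p1) ≠ 0) :
    Function.Bijective (z 0 • p0 + z 1 • p1) := by
  rw [eval_pol] at h
  have hu : IsUnit (LinearMap.toMatrix bX bY (z 0 • p0 + z 1 • p1)).det := isUnit_iff_ne_zero.mpr h
  have := (LinearEquiv.ofIsUnitDet hu).bijective
  exact this

end pencil

section dimq

variable {K : Type*} [Field K]

lemma finrank_comap_mkQ {Z : Type*} [AddCommGroup Z] [Module K Z] [FiniteDimensional K Z]
    (p : Submodule K Z) (S : Submodule K (Z ⧸ p)) :
    finrank K ↥(S.comap p.mkQ) = finrank K S + finrank K p := by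
  have hr := LinearMap.finrank_range_add_finrank_ker (p.mkQ.domRestrict (S.comap p.mkQ))
  have hrange : LinearMap.range (p.mkQ.domRestrict (S.comap p.mkQ)) = S := by
    ext y
    constructor
    · rintro ⟨⟨x, hx⟩, rfl⟩
      exact hx
    · intro hy
      obtain ⟨x, rfl⟩ := p.mkQ_surjective y
      exact ⟨⟨x, hy⟩, rfl⟩
  have hker : LinearMap.ker (p.mkQ.domRestrict (S.comap p.mkQ)) =
      Submodule.comap (S.comap p.mkQ).subtype p := by
    ext ⟨x, hx⟩
    simp [LinearMap.mem_ker, LinearMap.domRestrict_apply]
  have hple : p ≤ S.comap p.mkQ := by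
    intro x hx
    simp [Submodule.mem_comap, (Submodule.Quotient.mk_eq_zero p).mpr hx]
  rw [hrange, hker, (Submodule.comapSubtypeEquivOfLe hple).finrank_eq] at hr
  exact hr.symm

end dimq

section main

variable (K : Type u) [Field K] [Infinite K]

theorem key (k : ℕ) :
    ∀ (V : Type v) (W : Type w) [AddCommGroup V] [Module K V] [FiniteDimensional K V]
      [AddCommGroup W] [Module K W] [FiniteDimensional K W] (f0 f1 : V →ₗ[K] W),
      finrank K V = k → finrank K W = k →
      (∀ (V' : Submodule K V) (W' : Submodule K W), V'.map f0 ≤ W' → V'.map f1 ≤ W' →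
        finrank K V' ≤ finrank K W') →
      ∃ z0 z1 : K, Function.Bijective (z0 • f0 + z1 • f1) := by
  induction k using Nat.strong_induction_on with
  | _ k ih =>
    intro V W _ _ _ _ _ _ f0 f1 hV hW hE
    by_cases hB : ∃ V' : Submodule K V, V' ≠ ⊥ ∧ V' ≠ ⊤ ∧
        finrank K ↥(V'.map f0 ⊔ V'.map f1) ≤ finrank K V'
    · -- Case B: a proper nonzero subrepresentation of the same dimension
      obtain ⟨V', hbot, htop, hle⟩ := hB
      set W' : Submodule K W := V'.map f0 ⊔ V'.map f1 with hW'
      have h0 : ∀ x ∈ V', f0 x ∈ W' := fun x hx =>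
        (le_sup_left : V'.map f0 ≤ W') (Submodule.mem_map_of_mem hx)
      have h1 : ∀ x ∈ V', f1 x ∈ W' := fun x hx =>
        (le_sup_right : V'.map f1 ≤ W') (Submodule.mem_map_of_mem hx)
      have hk' : finrank K W' = finrank K V' :=
        le_antisymm hle (hE V' W' le_sup_left le_sup_right)
      have hk'pos : 0 < finrank K V' := by
        rw [Module.finrank_pos_iff_exists_ne_zero]
        obtain ⟨x, hx, hx0⟩ := Submodule.exists_mem_ne_zero_of_ne_bot hbot
        exact ⟨⟨x, hx⟩, fun h => hx0 (congrArg Subtype.val h)⟩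
      have hk'lt : finrank K V' < k := hV ▸ Submodule.finrank_lt htop
      -- the sub-pencil
      let g0 : V' →ₗ[K] W' := f0.restrict h0
      let g1 : V' →ₗ[K] W' := f1.restrict h1
      have hEg : ∀ (U : Submodule K V') (T : Submodule K W'), U.map g0 ≤ T → U.map g1 ≤ T →
          finrank K U ≤ finrank K T := by
        intro U T hU0 hU1
        rw [← Submodule.finrank_map_subtype_eq V' U, ← Submodule.finrank_map_subtype_eq W' T]
        apply hE
        · rintro _ ⟨_, ⟨u, hu, rfl⟩, rfl⟩
          exact ⟨g0 u, hU0 (Submodule.mem_map_of_mem hu), rfl⟩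
        · rintro _ ⟨_, ⟨u, hu, rfl⟩, rfl⟩
          exact ⟨g1 u, hU1 (Submodule.mem_map_of_mem hu), rfl⟩
      obtain ⟨a0, a1, hga⟩ := ih (finrank K V') hk'lt V' W' g0 g1 rfl hk' hEg
      -- the quotient pencil
      have hq0 : V' ≤ W'.comap f0 := fun x hx => h0 x hx
      have hq1 : V' ≤ W'.comap f1 := fun x hx => h1 x hx
      let q0 : (V ⧸ V') →ₗ[K] (W ⧸ W') := V'.mapQ W' f0 hq0
      let q1 : (V ⧸ V') →ₗ[K] (W ⧸ W') := V'.mapQ W' f1 hq1
      have hEq : ∀ (U : Submodule K (V ⧸ V')) (T : Submodule K (W ⧸ W')), U.map q0 ≤ T →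
          U.map q1 ≤ T → finrank K U ≤ finrank K T := by
        intro U T hU0 hU1
        have := hE (U.comap V'.mkQ) (T.comap W'.mkQ) ?_ ?_
        · rw [finrank_comap_mkQ V' U, finrank_comap_mkQ W' T, hk'] at this
          exact Nat.le_of_add_le_add_right this
        · rintro _ ⟨x, hx, rfl⟩
          exact hU0 ⟨V'.mkQ x, hx, rfl⟩
        · rintro _ ⟨x, hx, rfl⟩
          exact hU1 ⟨V'.mkQ x, hx, rfl⟩
      have hqV : finrank K (V ⧸ V') = k - finrank K V' := by
        have := Submodule.finrank_quotient_add_finrank V'
        omega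
      have hqW : finrank K (W ⧸ W') = k - finrank K V' := by
        have := Submodule.finrank_quotient_add_finrank W'
        omega
      obtain ⟨b0, b1, hqb⟩ := ih (k - finrank K V') (by omega) (V ⧸ V') (W ⧸ W') q0 q1 hqV hqW hEq
      -- combine
      let bV' := Module.finBasisOfFinrankEq K V' (rfl : finrank K V' = finrank K V')
      let bW' := Module.finBasisOfFinrankEq K W' hk'
      let bQV := Module.finBasisOfFinrankEq K (V ⧸ V') hqV
      let bQW := Module.finBasisOfFinrankEq K (W ⧸ W') hqW
      have hP1 := pol_ne_zero bV' bW' g0 g1 a0 a1 hga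
      have hP2 := pol_ne_zero bQV bQW q0 q1 b0 b1 hqb
      have hP : pol bV' bW' g0 g1 * pol bQV bQW q0 q1 ≠ 0 := mul_ne_zero hP1 hP2
      obtain ⟨z, hz⟩ : ∃ z : Fin 2 → K,
          MvPolynomial.eval z (pol bV' bW' g0 g1 * pol bQV bQW q0 q1) ≠ 0 := by
        by_contra hcon
        push Not at hcon
        exact hP (MvPolynomial.funext (fun x => by rw [hcon x, map_zero]))
      rw [map_mul] at hz
      have hg := bijective_of_eval_pol_ne_zero bV' bW' g0 g1 z (left_ne_zero_of_mul hz)
      have hq := bijective_of_eval_pol_ne_zero bQV bQW q0 q1 z (right_ne_zero_of_mul hz)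
      refine ⟨z 0, z 1, ?_⟩
      have hinj : Function.Injective (z 0 • f0 + z 1 • f1) := by
        rw [injective_iff_map_eq_zero]
        intro x hx
        have hxq : (z 0 • q0 + z 1 • q1) (V'.mkQ x) = 0 := by
          have : (z 0 • q0 + z 1 • q1) (V'.mkQ x) = W'.mkQ ((z 0 • f0 + z 1 • f1) x) := by
            simp [q0, q1, Submodule.mapQ_apply]
          rw [this, hx, map_zero]
        have hxV' : x ∈ V' := by
          have := hq.1 (hxq.trans (map_zero _).symm)
          exact (Submodule.Quotient.mk_eq_zero V').mp this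
        have hxg : (z 0 • g0 + z 1 • g1) ⟨x, hxV'⟩ = 0 := by
          apply Subtype.ext
          simpa [g0, g1, LinearMap.restrict_apply] using hx
        have := hg.1 (hxg.trans (map_zero _).symm)
        exact congrArg Subtype.val this
      exact ⟨hinj, (LinearMap.injective_iff_surjective_of_finrank_eq_finrank
        (hV.trans hW.symm)).mp hinj⟩
    · -- Case A
      push Not at hB
      by_cases hinj : Function.Injective f0
      · refine ⟨1, 0, ?_⟩
        rw [one_smul, zero_smul, add_zero]
        exact ⟨hinj, (LinearMap.injective_iff_surjective_of_finrank_eq_finrank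
          (hV.trans hW.symm)).mp hinj⟩
      · obtain ⟨v, hv0, hv⟩ : ∃ v : V, f0 v = 0 ∧ v ≠ 0 := by
          rw [injective_iff_map_eq_zero] at hinj
          push Not at hinj
          exact hinj
        have hspan : (K ∙ v) ≠ ⊥ := by
          simpa [Submodule.span_singleton_eq_bot] using hv
        have himg : (K ∙ v).map f0 ⊔ (K ∙ v).map f1 = K ∙ (f1 v) := by
          rw [Submodule.map_span, Submodule.map_span, Set.image_singleton, Set.image_singleton,
            hv0]
          simp
        have hle1 : finrank K ↥(K ∙ (f1 v)) ≤ 1 := by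
          have := finrank_span_le_card (R := K) ({f1 v} : Set W)
          simpa using this
        have htop : (K ∙ v) = ⊤ := by
          by_contra hne
          have := hB (K ∙ v) hspan hne
          rw [himg, finrank_span_singleton hv] at this
          omega
        have hf1v : f1 v ≠ 0 := by
          intro h
          have := hE (K ∙ v) (K ∙ (f1 v)) (by rw [← himg]; exact le_sup_left)
            (by rw [← himg]; exact le_sup_right)
          rw [finrank_span_singleton hv, h] at this
          simp at this
        have hinj1 : Function.Injective f1 := by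
          rw [injective_iff_map_eq_zero]
          intro x hx
          have hxm : x ∈ (K ∙ v) := htop ▸ Submodule.mem_top
          obtain ⟨c, rfl⟩ := Submodule.mem_span_singleton.mp hxm
          rw [map_smul, smul_eq_zero] at hx
          rcases hx with hc | hc
          · rw [hc, zero_smul]
          · exact absurd hc hf1v
        refine ⟨0, 1, ?_⟩
        rw [one_smul, zero_smul, zero_add]
        exact ⟨hinj1, (LinearMap.injective_iff_surjective_of_finrank_eq_finrank
          (hV.trans hW.symm)).mp hinj1⟩

end main

/-- Case of two arrows. Over an algebraically closed field K, if a Kronecker module f = (f_0, f_1) with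
two arrows between spaces V and W of the same finite dimension k is semistable, then some linear
combination z_0 f_0 + z_1 f_1 of its arrows is a linear isomorphism V → W: for two arrows the
semistable locus of dimension vector (k, k) lies in the open set of modules whose generic
combination is invertible, for every k. (The published statement, over an algebraically closed field
of characteristic zero, also covers the dimension vectors (1, 1) and (2, 2) for any number of
arrows; this row states the two-arrow case for all k, without the characteristic assumption.) -/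
theorem result (K : Type u) [Field K] [IsAlgClosed K]
    (V : Type v) (W : Type w)
    [AddCommGroup V] [Module K V] [FiniteDimensional K V]
    [AddCommGroup W] [Module K W] [FiniteDimensional K W]
    (f : Fin 2 → (V →ₗ[K] W)) (k : ℕ)
    (hV : Module.finrank K V = k) (hW : Module.finrank K W = k)
    (hf : KronMod.IsSemistable f) :
    ∃ z : Fin 2 → K, Function.Bijective ((∑ j, z j • f j : V →ₗ[K] W) : V → W) := by
  have : Infinite K := IsAlgClosed.instInfinite
  obtain ⟨hpos, hss⟩ := hf
  have hkpos : 0 < k := by omega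
  have hE : ∀ (V' : Submodule K V) (W' : Submodule K W), V'.map (f 0) ≤ W' → V'.map (f 1) ≤ W' →
      finrank K V' ≤ finrank K W' := by
    intro V' W' h0 h1
    by_cases hb : V' = ⊥ ∧ W' = ⊥
    · rw [hb.1, hb.2]; simp
    by_cases ht : V' = ⊤ ∧ W' = ⊤
    · rw [ht.1, ht.2, finrank_top, finrank_top, hV, hW]
    have hsub : IsSubrep f V' W' := by
      intro j
      fin_cases j
      · exact h0
      · exact h1
    have := hss V' W' hsub hb ht
    rw [hV, hW] at this
    exact Nat.le_of_mul_le_mul_left this hkpos
  obtain ⟨z0, z1, hz⟩ := key K k V W (f 0) (f 1) hV hW hE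
  refine ⟨![z0, z1], ?_⟩
  rw [Fin.sum_univ_two]
  simpa using hz

end Groth.Agent.S19551
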