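import Mathlib
import Groth.Statements.S19556
-- import your own Groth.Agent.* helpers here

set_option autoImplicit false
universe u
open CategoryTheory CategoryTheory.Limits AlgebraicGeometry
open Mor

namespace Groth.Agent.S19556

/-- Let S be a scheme, p : X → S and q : Y → S schemes over S, and π : X → Y a finite surjective
morphism over S (π ≫ q = p). If X is separated over S then Y is separated over S. (The published
statement is about the quotient map X → X/G of a scheme by an action of a finite group scheme,
assumed to exist and then finite and surjective; this row keeps of it only a finite surjective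
S-morphism π, which is all the argument uses.) -/
theorem result {S X Y : Scheme.{u}} (p : X ⟶ S) (q : Y ⟶ S)
    (π : X ⟶ Y) (hπ : π ≫ q = p) [IsFinite π] [Surjective π] [IsSeparated p] :
    IsSeparated q := by
  subst hπ
  rw [isSeparated_iff]
  apply IsClosedImmersion.of_isPreimmersion
  have hP : IsFinite (pullback.map (π ≫ q) (π ≫ q) q q π π (𝟙 S)
      ((Category.comp_id _).trans rfl) ((Category.comp_id _).trans rfl)) :=
    MorphismProperty.pullbackMap (P := @IsFinite) ‹IsFinite π› ‹IsFinite π› rfl rfl
  generalize hPdef : (pullback.map (π ≫ q) (π ≫ q) q q π π (𝟙 S)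
      ((Category.comp_id _).trans rfl) ((Category.comp_id _).trans rfl)) = P at hP
  have hcomm : pullback.diagonal (π ≫ q) ≫ P = π ≫ pullback.diagonal q := by
    subst hPdef
    apply pullback.hom_ext
    · simp only [Category.assoc]
      rw [pullback.lift_fst, pullback.diagonal_fst_assoc]
      simp
    · simp only [Category.assoc]
      rw [pullback.lift_snd, pullback.diagonal_snd_assoc]
      simp
  have hrange : Set.range (pullback.diagonal q) = P '' Set.range (pullback.diagonal (π ≫ q)) := by
    ext y
    constructor
    · rintro ⟨y0, rfl⟩
      obtain ⟨x, rfl⟩ := π.surjective y0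
      refine ⟨pullback.diagonal (π ≫ q) x, ⟨x, rfl⟩, ?_⟩
      rw [← Scheme.Hom.comp_apply, hcomm, Scheme.Hom.comp_apply]
    · rintro ⟨_, ⟨x, rfl⟩, rfl⟩
      refine ⟨π x, ?_⟩
      rw [← Scheme.Hom.comp_apply, ← hcomm, Scheme.Hom.comp_apply]
  rw [hrange]
  exact P.isClosedMap _ (pullback.diagonal (π ≫ q)).isClosedEmbedding.isClosed_range

end Groth.Agent.S19556
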