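import Groth.Statements.S19558
import Groth.Agent.Lib.Helper27.EtExtB

set_option autoImplicit false
universe u
open CategoryTheory CategoryTheory.Limits MonoidalCategory CartesianMonoidalCategory MonObj GrpObj AlgebraicGeometry
open NeronHD

namespace Groth.Agent.S19558

/-- Let S be a locally Noetherian scheme over a field of characteristic 0 which satisfies Serre's
condition (S₂), i.e. every local ring O_{S,x} has depth at least min(2, dim O_{S,x}), and let S₁ ⊆ S
be a scheme-theoretically dense open whose complement has codimension at least 2 (dim O_{S,x} ≥ 2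
for every point x outside S₁). Let G and H be smooth S-group schemes (group objects in the cartesian
monoidal category of S-schemes), H having the Néron mapping property for S₁ ⊆ S (restriction to S₁
of S-morphisms from smooth S-schemes into H is bijective), and let f : G → H be a homomorphism of
S-group schemes whose restriction G|S₁ → H|S₁ is étale. Then f is étale. (So the Néron extension of
an étale homomorphism G|S₁ → H|S₁ is étale. Case of schemes, with smooth test schemes, of a
statement about group algebraic spaces.) -/
theorem result {k : Type u} [Field k] [CharZero k] {S : Scheme.{u}} (σ : S ⟶ Spec (CommRingCat.of k)) [IsLocallyNoetherian S]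
    (hS2 : ∀ x : S, min (2 : WithBot ℕ∞) (ringKrullDim (S.presheaf.stalk x)) ≤ ((LocCoh.depth (S.presheaf.stalk x) (S.presheaf.stalk x) : ℕ∞) : WithBot ℕ∞))
    (S₁ : S.Opens) (hS₁ : CInt.IsSchematicallyDense S₁)
    (hcodim : ∀ x : S, x ∉ S₁ → (2 : WithBot ℕ∞) ≤ ringKrullDim (S.presheaf.stalk x))
    (G H : Over S) [GrpObj G] [GrpObj H] [Smooth G.hom] [Smooth H.hom]
    (hH : ∀ Z : Over S, Smooth Z.hom → Function.Bijective (fun g : Z ⟶ H => (Over.pullback S₁.ι).map g))
    (f : G ⟶ H) [IsMonHom f] [Etale ((Over.pullback S₁.ι).map f).left] :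
    Etale f.left := by
  haveI : IsLocallyNoetherian G.left := LocallyOfFiniteType.isLocallyNoetherian G.hom
  have hsq : Limits.pullback.fst G.hom S₁.ι ≫ f.left =
      ((Over.pullback S₁.ι).map f).left ≫ Limits.pullback.fst H.hom S₁.ι := by
    simp only [Over.pullback_map_left]
    erw [Limits.pullback.lift_fst]
  haveI : Etale ((G.hom ⁻¹ᵁ S₁).ι ≫ f.left) := by
    have h1 : (G.hom ⁻¹ᵁ S₁).ι ≫ f.left = (pullbackRestrictIsoRestrict G.hom S₁).inv ≫
        (((Over.pullback S₁.ι).map f).left ≫ Limits.pullback.fst H.hom S₁.ι) := by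
      rw [← hsq, ← Category.assoc, pullbackRestrictIsoRestrict_inv_fst]
    rw [h1]
    infer_instance
  refine Groth.Agent.Lib.Helper27.EtExtB.etale_of_etale_on_open G.hom H.hom f.left (Over.w f)
    (G.hom ⁻¹ᵁ S₁) ?_
  intro x hx
  have hs : G.hom x ∉ S₁ := hx
  exact (hcodim _ hs).trans
    (Groth.Agent.Lib.Helper27.EtExtB.ringKrullDim_stalk_le_of_flat G.hom x)

end Groth.Agent.S19558
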