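import Groth.Statements.S19560
import Mathlib

set_option autoImplicit false
universe u
open W4c1limliniiii

namespace Groth.Agent.S19560

open Polynomial in
theorem aux (k : Type u) [Field k] (p : ℕ) [CharP k p] (s0 s1 : k[X]) (a : k)
    (h0 : s0.eval a ≠ 0) (h1 : s1.eval a = 0) (hW : wronskian s0 s1 ≠ 0) (e : ℕ)
    (he : (wronskian s0 s1).rootMultiplicity a + 1 = e) (hp : p = 0 ∨ e - 1 < p) :
    W4c1limliniiii.HasRamIdx (Submodule.span k {s0, s1}) a e ∧ ¬ p ∣ e := by
  have hs1 : s1 ≠ 0 := by
    rintro rfl
    exact hW (wronskian_zero_right _)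
  obtain ⟨u, hu, hudvd⟩ := exists_eq_pow_rootMultiplicity_mul_and_not_dvd s1 hs1 a
  obtain ⟨m, hm⟩ : ∃ m, m = rootMultiplicity a s1 := ⟨_, rfl⟩
  rw [← hm] at hu
  have hua : u.eval a ≠ 0 := fun h => hudvd (dvd_iff_isRoot.mpr h)
  have hmpos : 0 < m := by
    rw [hm]; exact (rootMultiplicity_pos hs1).mpr h1
  obtain ⟨m', rfl⟩ : ∃ m', m = m' + 1 := ⟨m - 1, by omega⟩
  obtain ⟨Q, hQ⟩ : ∃ Q : k[X], Q = C ((m' + 1 : ℕ) : k) * s0 * u
      + (X - C a) * (s0 * derivative u - derivative s0 * u) := ⟨_, rfl⟩
  have hWQ : wronskian s0 s1 = (X - C a) ^ m' * Q := by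
    rw [hu, hQ]
    simp only [wronskian, derivative_mul, derivative_X_sub_C_pow, Nat.add_sub_cancel]
    ring
  have hQa : Q.eval a = ((m' + 1 : ℕ) : k) * s0.eval a * u.eval a := by
    rw [hQ]
    simp only [eval_add, eval_mul, eval_sub, eval_C, eval_X, sub_self, zero_mul, add_zero]
  have hmult : (wronskian s0 s1).rootMultiplicity a = m' + Q.rootMultiplicity a := by
    rw [hWQ, rootMultiplicity_mul (hWQ ▸ hW), rootMultiplicity_X_sub_C_pow]
  have hQ0 : Q ≠ 0 := by
    rintro h
    apply hW
    rw [hWQ, h, mul_zero]
  have hcast : ((m' + 1 : ℕ) : k) ≠ 0 := by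
    intro hc
    have hQroot : Q.IsRoot a := by
      show Q.eval a = 0
      rw [hQa, hc, zero_mul, zero_mul]
    have hpos := (rootMultiplicity_pos hQ0).mpr hQroot
    have hdvd : p ∣ m' + 1 := (CharP.cast_eq_zero_iff k p (m' + 1)).mp hc
    rcases hp with hp | hp
    · rw [hp] at hdvd
      have := Nat.eq_zero_of_zero_dvd hdvd
      omega
    · have := Nat.le_of_dvd (Nat.succ_pos m') hdvd
      omega
  have hQnr : ¬ Q.IsRoot a := by
    show ¬ Q.eval a = 0
    rw [hQa]
    exact mul_ne_zero (mul_ne_zero hcast h0) hua
  have hQm : Q.rootMultiplicity a = 0 := rootMultiplicity_eq_zero hQnr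
  have hem : e = m' + 1 := by omega
  refine ⟨⟨⟨s1, Submodule.subset_span (by simp), hs1, by omega⟩, ?_⟩, ?_⟩
  · intro s hs hs0
    obtain ⟨α, β, rfl⟩ := Submodule.mem_span_pair.mp hs
    by_cases hα : α = 0
    · subst hα
      rw [zero_smul, zero_add] at hs0 ⊢
      have hβ : β ≠ 0 := by
        rintro rfl
        exact hs0 (zero_smul _ _)
      rw [smul_eq_C_mul] at hs0 ⊢
      rw [rootMultiplicity_mul hs0, rootMultiplicity_C, zero_add, ← hm]
      omega
    · have : ¬ (α • s0 + β • s1).IsRoot a := by
        show ¬ (α • s0 + β • s1).eval a = 0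
        rw [eval_add, eval_smul, eval_smul, h1, smul_zero, add_zero, smul_eq_mul]
        exact mul_ne_zero hα h0
      rw [rootMultiplicity_eq_zero this]
      exact Nat.zero_le _
  · rw [hem]
    intro hdvd
    exact hcast ((CharP.cast_eq_zero_iff k p (m' + 1)).mpr hdvd)

open Polynomial in
theorem main (k : Type u) [Field k] (p : ℕ) [CharP k p] (F G : k[X]) (a : k)
    (hFa : F.eval a ≠ 0) (hW : wronskian F G ≠ 0) (e : ℕ)
    (he : (wronskian F G).rootMultiplicity a + 1 = e) (hp : p = 0 ∨ e - 1 < p) :
    W4c1limliniiii.HasRamIdx (Submodule.span k {F, G}) a e ∧ ¬ p ∣ e := by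
  obtain ⟨s1, hs1⟩ : ∃ s1 : k[X], s1 = C (G.eval a) * F - C (F.eval a) * G := ⟨_, rfl⟩
  have hWs : wronskian F s1 = C (- F.eval a) * wronskian F G := by
    rw [hs1]
    simp only [wronskian, derivative_sub, derivative_mul, derivative_C, zero_mul, zero_add, map_neg]
    ring
  have hc : C (- F.eval a) ≠ (0 : k[X]) := by
    rw [Ne, C_eq_zero, neg_eq_zero]; exact hFa
  have hW' : wronskian F s1 ≠ 0 := by
    rw [hWs]; exact mul_ne_zero hc hW
  have hmul : (wronskian F s1).rootMultiplicity a = (wronskian F G).rootMultiplicity a := by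
    rw [hWs, rootMultiplicity_mul (hWs ▸ hW'), rootMultiplicity_C, zero_add]
  have hspan : Submodule.span k {F, G} = Submodule.span k {F, s1} := by
    apply le_antisymm
    · rw [Submodule.span_le]
      rintro x (rfl | rfl)
      · exact Submodule.subset_span (by simp)
      · have hx : F.eval a • x = x.eval a • F - s1 := by
          rw [hs1]; simp only [smul_eq_C_mul]; ring
        have hmem : F.eval a • x ∈ Submodule.span k {F, s1} := by
          rw [hx]
          exact Submodule.sub_mem _ (Submodule.smul_mem _ _ (Submodule.subset_span (by simp)))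
            (Submodule.subset_span (by simp))
        exact (Submodule.smul_mem_iff _ hFa).mp hmem
    · rw [Submodule.span_le]
      rintro x (rfl | rfl)
      · exact Submodule.subset_span (by simp)
      · rw [hs1]
        have hF : F ∈ Submodule.span k {F, G} := Submodule.subset_span (by simp)
        have hG : G ∈ Submodule.span k {F, G} := Submodule.subset_span (by simp)
        have := Submodule.sub_mem _ (Submodule.smul_mem _ (G.eval a) hF)
          (Submodule.smul_mem _ (F.eval a) hG)
        simp only [smul_eq_C_mul] at this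
        exact this
  rw [hspan]
  refine aux k p F s1 a hFa ?_ hW' e (by rw [hmul]; exact he) hp
  rw [hs1]
  simp only [eval_sub, eval_mul, eval_C]
  ring


open Polynomial in
theorem rootMult_neg (k : Type u) [Field k] (q : k[X]) (a : k) :
    (-q).rootMultiplicity a = q.rootMultiplicity a := by
  by_cases hq : q = 0
  · simp [hq]
  · have h : -q = C (-1) * q := by simp
    rw [h, rootMultiplicity_mul (by rw [← h]; exact neg_ne_zero.mpr hq), rootMultiplicity_C,
      zero_add]

open Polynomial in
/-- Let k be an algebraically closed field of characteristic p (a prime or zero) and let F, G be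
polynomials spanning a base-point-free pencil V of degree d (a two-dimensional space of polynomials
of degree at most d containing one of degree d and with no common zero in k), so that V encodes a
degree-d self-map F/G of the projective line up to automorphisms of the target. Suppose the
Wronskian W = F′G − FG′ is non-zero and vanishes at the point a to order exactly e − 1 with e ≥ 1,
and that p = 0 or e − 1 < p. Then the map is tamely ramified at a with index e: the largest order of
vanishing at a of a non-zero member of V is e, and p does not divide e. (The hypothesis W ≠ 0 makes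
the order of vanishing meaningful; for W = 0 the map is inseparable.) -/
theorem result
    (k : Type u) [Field k] [IsAlgClosed k] (p : ℕ) [CharP k p]
    (d : ℕ) (F G : k[X]) (hV : W4c1limliniiii.IsPencil d (Submodule.span k {F, G}))
    (hW : Polynomial.wronskian F G ≠ 0) (a : k) (e : ℕ)
    (he : (Polynomial.wronskian F G).rootMultiplicity a + 1 = e) (hp : p = 0 ∨ e - 1 < p) :
    W4c1limliniiii.HasRamIdx (Submodule.span k {F, G}) a e ∧ ¬ p ∣ e := by
  obtain ⟨-, -, -, hbpf⟩ := hV
  obtain ⟨s, hs, hsa⟩ := hbpf a
  obtain ⟨α, β, rfl⟩ := Submodule.mem_span_pair.mp hs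
  by_cases hFa : F.eval a = 0
  · have hGa : G.eval a ≠ 0 := by
      intro hGa
      apply hsa
      rw [Polynomial.eval_add, Polynomial.eval_smul, Polynomial.eval_smul, hFa, hGa, smul_zero,
        smul_zero, add_zero]
    have hWn : Polynomial.wronskian G F = - Polynomial.wronskian F G :=
      (Polynomial.wronskian_neg_eq F G).symm
    have hW' : Polynomial.wronskian G F ≠ 0 := by
      rw [hWn]; exact neg_ne_zero.mpr hW
    have hmul : (Polynomial.wronskian G F).rootMultiplicity a
        = (Polynomial.wronskian F G).rootMultiplicity a := by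
      rw [hWn, rootMult_neg]
    have := main k p G F a hGa hW' e (by rw [hmul]; exact he) hp
    rwa [Set.pair_comm] at this
  · exact main k p F G a hFa hW e he hp

end Groth.Agent.S19560
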