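import Groth.Statements.S19562
import Mathlib

set_option autoImplicit false
universe u
open W4c1limliniiii

namespace Groth.Agent.S19562

theorem rankNull {K E : Type*} [Field K] [AddCommGroup E] [Module K E] [FiniteDimensional K E]
    (f : E →ₗ[K] E) (V : Submodule K E) :
    Module.finrank K (V.map f) + Module.finrank K (LinearMap.ker f ⊓ V : Submodule K E)
      = Module.finrank K V := by
  have h := (f.domRestrict V).finrank_range_add_finrank_ker
  rw [LinearMap.range_domRestrict, LinearMap.ker_domRestrict,
    ← Submodule.finrank_map_subtype_eq V ((LinearMap.ker f).comap V.subtype),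
    Submodule.map_comap_subtype, inf_comm] at h
  exact h

theorem key {K E : Type*} [Field K] [AddCommGroup E] [Module K E] [FiniteDimensional K E]
    (f g : E →ₗ[K] E) (hfg : f.comp g = 0) (hgf : g.comp f = 0) (V V' : Submodule K E) (r : ℕ)
    (hV : Module.finrank K V = r) (hV' : Module.finrank K V' = r)
    (h1 : V.map f ≤ V') (h2 : V'.map g ≤ V) :
    ((LinearMap.ker g ⊓ V' ≤ V.map f) ∧ (LinearMap.ker f ⊓ V ≤ V'.map g)) ↔
      Module.finrank K (V.map f) + Module.finrank K (V'.map g) = r := by
  have hA := rankNull f V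
  have hB := rankNull g V'
  rw [hV] at hA
  rw [hV'] at hB
  have hle1 : V.map f ≤ LinearMap.ker g ⊓ V' := by
    refine le_inf ?_ h1
    rintro _ ⟨x, -, rfl⟩
    rw [LinearMap.mem_ker]
    exact LinearMap.congr_fun hgf x
  have hle2 : V'.map g ≤ LinearMap.ker f ⊓ V := by
    refine le_inf ?_ h2
    rintro _ ⟨x, -, rfl⟩
    rw [LinearMap.mem_ker]
    exact LinearMap.congr_fun hfg x
  constructor
  · rintro ⟨ha, -⟩
    have heq : V.map f = LinearMap.ker g ⊓ V' := le_antisymm hle1 ha
    rw [← heq] at hB
    omega
  · intro hsum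
    have e1 : V.map f = LinearMap.ker g ⊓ V' :=
      Submodule.eq_of_le_of_finrank_eq hle1 (by omega)
    have e2 : V'.map g = LinearMap.ker f ⊓ V :=
      Submodule.eq_of_le_of_finrank_eq hle2 (by omega)
    exact ⟨e1.ge, e2.ge⟩

open TensorProduct in
theorem grassDim (k : Type u) [Field k] (d r : ℕ) (hrd : r < d)
    (V : Module.Grassmannian k (k ⊗[k] (Fin d → k)) (d - r)) :
    Module.finrank k V.toSubmodule = r := by
  obtain ⟨p⟩ : Nonempty (PrimeSpectrum k) := inferInstance
  have h := V.rankAtStalk_eq p
  simp only [Module.rankAtStalk_eq_finrank_of_free, Pi.natCast_apply, Nat.cast_id] at h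
  have h2 := V.toSubmodule.finrank_quotient_add_finrank
  have h3 : Module.finrank k (k ⊗[k] (Fin d → k)) = d := by simp
  omega

open TensorProduct in
/-- Let k be a field, 0 < r < d, and f_i, g_i (i < n) linear maps forward and backward between
consecutive ones of n + 1 copies of k^d, forming a linked Grassmannian over Spec k whose scalar s is
zero: every composite f_i ∘ g_i and g_i ∘ f_i vanishes, rank f_i + rank g_i ≥ d, and for consecutive
indices im f_i ∩ ker f_{i+1} = 0 and im g_{i+1} ∩ ker g_i = 0. Let (V_i) be a k-valued point of the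
linked Grassmannian of rank-r sub-bundles (subspaces V_i of k ⊗ k^d with quotient of rank d − r,
with f_i(V_i) ⊆ V_{i+1} and g_i(V_{i+1}) ⊆ V_i). Then (V_i) is exact, meaning ker g_i ∩ V_{i+1} ⊆
f_i(V_i) and ker f_i ∩ V_i ⊆ g_i(V_{i+1}) for all i, if and only if dim f_i(V_i) + dim g_i(V_{i+1})
= r for all i. (The published assertion is for points with values in an arbitrary scheme and also
says that f_i(V_i) and g_i(V_{i+1}) are then sub-bundles; this row is the case of a field, where the
last clause is empty.) -/
theorem result (k : Type u) [Field k]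
    (d r n : ℕ) (hr : 0 < r) (hrd : r < d) (f g : Fin n → ((Fin d → k) →ₗ[k] (Fin d → k)))
    (hI : ∀ i, (f i).comp (g i) = 0 ∧ (g i).comp (f i) = 0)
    (hII : ∀ i, d ≤ Module.finrank k (LinearMap.range (f i)) + Module.finrank k (LinearMap.range (g i)))
    (hIII : ∀ i j : Fin n, i.val + 1 = j.val →
      LinearMap.range (f i) ⊓ LinearMap.ker (f j) = ⊥ ∧
        LinearMap.range (g j) ⊓ LinearMap.ker (g i) = ⊥)
    (V : Fin (n + 1) → Module.Grassmannian k (k ⊗[k] (Fin d → k)) (d - r))
    (hV : V ∈ W4c1limliniiii.LGPoints k d r n f g k) :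
    W4c1limliniiii.IsExact k d r n f g k V ↔
      ∀ i : Fin n,
        Module.finrank k ↥(Submodule.map ((f i).baseChange k) (V i.castSucc).toSubmodule) +
          Module.finrank k ↥(Submodule.map ((g i).baseChange k) (V i.succ).toSubmodule) = r := by
  unfold W4c1limliniiii.IsExact
  refine forall_congr' fun i => ?_
  have hVi := hV i
  refine key ((f i).baseChange k) ((g i).baseChange k) ?_ ?_ _ _ r
    (grassDim k d r hrd _) (grassDim k d r hrd _) hVi.1 hVi.2
  · rw [← LinearMap.baseChange_comp, (hI i).1, LinearMap.baseChange_zero]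
  · rw [← LinearMap.baseChange_comp, (hI i).2, LinearMap.baseChange_zero]

end Groth.Agent.S19562
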