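import Groth.Statements.S19567
import Groth.Agent.Lib.Helper26.PairHensOps

set_option autoImplicit false
universe u
open Hensel

namespace Groth.Agent.S19567

open TensorProduct Groth.Agent.Lib.Helper26.PairHensNbhd Groth.Agent.Lib.Helper26.PairHensConstr
  Groth.Agent.Lib.Helper26.PairHensOps

/-- Let A be a ring and I an ideal of A, and consider étale A-algebras A' for which the induced map A/I
→ A'/IA' is bijective. (1) For any two such algebras A₁ and A₂ there is a third such algebra A₃
admitting A-algebra maps from both. (2) For any two A-algebra maps f, g : A₁ → A₂ between such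
algebras there are such an algebra A₃ and an A-algebra map h : A₂ → A₃ with h ∘ f = h ∘ g. (All
algebras are taken in the universe of A. Since A itself is such an algebra, (1) and (2) say that the
category of these algebras and A-algebra maps is filtered.) -/
theorem result (A : Type u) [CommRing A] (I : Ideal A) :
    (∀ (A₁ A₂ : Type u) [CommRing A₁] [Algebra A A₁] [Algebra.Etale A A₁] [CommRing A₂] [Algebra A A₂]
        [Algebra.Etale A A₂],
        Function.Bijective (Ideal.quotientMap (I.map (algebraMap A A₁)) (algebraMap A A₁) Ideal.le_comap_map) →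
        Function.Bijective (Ideal.quotientMap (I.map (algebraMap A A₂)) (algebraMap A A₂) Ideal.le_comap_map) →
          ∃ (A₃ : Type u) (_ : CommRing A₃) (_ : Algebra A A₃) (_ : Algebra.Etale A A₃),
            Function.Bijective (Ideal.quotientMap (I.map (algebraMap A A₃)) (algebraMap A A₃) Ideal.le_comap_map) ∧
              Nonempty (A₁ →ₐ[A] A₃) ∧ Nonempty (A₂ →ₐ[A] A₃)) ∧
    (∀ (A₁ A₂ : Type u) [CommRing A₁] [Algebra A A₁] [Algebra.Etale A A₁] [CommRing A₂] [Algebra A A₂]
        [Algebra.Etale A A₂],
        Function.Bijective (Ideal.quotientMap (I.map (algebraMap A A₁)) (algebraMap A A₁) Ideal.le_comap_map) →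
        Function.Bijective (Ideal.quotientMap (I.map (algebraMap A A₂)) (algebraMap A A₂) Ideal.le_comap_map) →
          ∀ (f g : A₁ →ₐ[A] A₂),
            ∃ (A₃ : Type u) (_ : CommRing A₃) (_ : Algebra A A₃) (_ : Algebra.Etale A A₃),
              Function.Bijective (Ideal.quotientMap (I.map (algebraMap A A₃)) (algebraMap A A₃) Ideal.le_comap_map) ∧
                ∃ h : A₂ →ₐ[A] A₃, h.comp f = h.comp g) := by
  classical
  constructor
  · intro A₁ A₂ _ _ _ _ _ _ h₁ h₂
    haveI : Algebra.Etale A (A₁ ⊗[A] A₂) := Algebra.Etale.comp A A₁ (A₁ ⊗[A] A₂)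
    exact ⟨A₁ ⊗[A] A₂, inferInstance, inferInstance, inferInstance,
      quotBij_tensorProduct h₁ h₂, ⟨Algebra.TensorProduct.includeLeft⟩,
      ⟨Algebra.TensorProduct.includeRight⟩⟩
  · intro A₁ A₂ _ _ _ _ _ _ h₁ h₂ f g
    have hH : Hens2.IsPairHenselization A I (PH A I) := isPairHenselization_PH
    haveI := hH.1
    obtain ⟨u₁⟩ := nonempty_unique_algHom_nbhd (B := PH A I) h₁
    obtain ⟨u₂⟩ := nonempty_unique_algHom_nbhd (B := PH A I) h₂
    have hfg : (u₂.default).comp f = (u₂.default).comp g := (u₁.uniq _).trans (u₁.uniq _).symm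
    obtain ⟨n, π, hπ⟩ := Algebra.FiniteType.iff_quotient_mvPolynomial''.mp
      (inferInstance : Algebra.FiniteType A A₁)
    let s : Finset A₂ := Finset.univ.image (fun k : Fin n =>
      f (π (MvPolynomial.X k)) - g (π (MvPolynomial.X k)))
    have hs : ∀ x ∈ s, u₂.default x = 0 := by
      intro x hx
      obtain ⟨k, -, rfl⟩ := Finset.mem_image.mp hx
      rw [map_sub, sub_eq_zero]
      exact DFunLike.congr_fun hfg _
    obtain ⟨A₃, _, _, _, h₃, h, hh⟩ := exists_nbhd_of_finset_map_eq_zero hH h₂ u₂.default s hs
    refine ⟨A₃, inferInstance, inferInstance, inferInstance, h₃, h, ?_⟩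
    have e : ((h.comp f).comp π) = ((h.comp g).comp π) := by
      apply MvPolynomial.algHom_ext
      intro k
      have := hh _ (Finset.mem_image_of_mem _ (Finset.mem_univ k))
      rw [map_sub, sub_eq_zero] at this
      exact this
    ext x
    obtain ⟨p, rfl⟩ := hπ x
    exact DFunLike.congr_fun e p

end Groth.Agent.S19567
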