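import Groth.Statements.S19569
import Mathlib


set_option autoImplicit false
universe u
open CAlg

namespace Groth.Agent.S19569

lemma eval_compat_q {R S : Type u} [CommRing R] [CommRing S] (h : R →+* S) {σ : Type u}
    (y : σ → R) (v : σ → S) (hy : ∀ k, h (y k) = v k) (P : MvPolynomial σ ℤ) :
    h (MvPolynomial.eval₂Hom (Int.castRingHom R) y P) = MvPolynomial.aeval v P := by
  have : h.comp (MvPolynomial.eval₂Hom (Int.castRingHom R) y)
      = (MvPolynomial.aeval v : MvPolynomial σ ℤ →ₐ[ℤ] S).toRingHom := by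
    apply MvPolynomial.ringHom_ext'
    · exact RingHom.ext_int _ _
    · intro k
      simp [hy k]
  exact RingHom.congr_fun this P

lemma eval_nat_q {R S : Type u} [CommRing R] [CommRing S] (h : R →+* S) {σ : Type u}
    (y : σ → R) (P : MvPolynomial σ ℤ) :
    MvPolynomial.eval₂Hom (Int.castRingHom S) (fun k => h (y k)) P
      = h (MvPolynomial.eval₂Hom (Int.castRingHom R) y P) := by
  have : MvPolynomial.eval₂Hom (Int.castRingHom S) (fun k => h (y k))
      = h.comp (MvPolynomial.eval₂Hom (Int.castRingHom R) y) := by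
    apply MvPolynomial.ringHom_ext'
    · exact RingHom.ext_int _ _
    · intro k
      simp
  exact RingHom.congr_fun this P

lemma exists_lift_aux_q {ι : Type u} [Preorder ι] [IsDirected ι (· ≤ ·)] [Nonempty ι]
    (G : ι → Type u) [∀ i, CommRing (G i)] (f : ∀ i j, i ≤ j → (G i →+* G j))
    (A : Type u) [CommRing A] (g : ∀ i, G i →+* A)
    (hg : ∀ i j (h : i ≤ j), (g j).comp (f i j h) = g i)
    (hsurj : ∀ a : A, ∃ i, ∃ x : G i, g i x = a)
    (hker : ∀ i (x : G i), g i x = 0 → ∃ j, ∃ h : i ≤ j, f i j h x = 0)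
    {σ : Type u} [Finite σ] (v : σ → A) (T : Finset (MvPolynomial σ ℤ))
    (hT : ∀ P ∈ T, MvPolynomial.aeval v P = 0) :
    ∃ (j : ι) (y : σ → G j), (∀ k, g j (y k) = v k) ∧
      ∀ P ∈ T, MvPolynomial.eval₂Hom (Int.castRingHom (G j)) y P = 0 := by
  classical
  induction T using Finset.induction_on with
  | empty =>
    choose i x hx using fun k => hsurj (v k)
    obtain ⟨j, hj⟩ := Finite.exists_le i
    refine ⟨j, fun k => f (i k) j (hj k) (x k), fun k => ?_,
      fun P hP => absurd hP (Finset.notMem_empty P)⟩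
    have h1 := RingHom.congr_fun (hg (i k) j (hj k)) (x k)
    rw [RingHom.comp_apply] at h1
    rw [h1, hx k]
  | insert P₀ T hP₀ ih =>
    obtain ⟨j, y, hy, hyT⟩ := ih (fun P hP => hT P (Finset.mem_insert_of_mem hP))
    have hz : g j (MvPolynomial.eval₂Hom (Int.castRingHom (G j)) y P₀) = 0 := by
      rw [eval_compat_q (g j) y v hy, hT P₀ (Finset.mem_insert_self _ _)]
    obtain ⟨j', hjj', hz'⟩ := hker j _ hz
    refine ⟨j', fun k => f j j' hjj' (y k), fun k => ?_, fun P hP => ?_⟩
    · have h1 := RingHom.congr_fun (hg j j' hjj') (y k)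
      rw [RingHom.comp_apply] at h1
      rw [h1, hy k]
    · rw [eval_nat_q (f j j' hjj') y P]
      rcases Finset.mem_insert.mp hP with h | hP'
      · rw [h]; exact hz'
      · rw [hyT P hP', map_zero]

open TensorProduct in
/-- Let A be the colimit of a directed system of rings (A_i), given by compatible ring maps A_i → A
which are jointly surjective and such that an element of some A_i mapping to zero in A already maps
to zero in some later A_j, and let B be an étale A-algebra. Then for some index i there is an étale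
A_i-algebra B_i such that B is isomorphic, as an A-algebra, to the base change A ⊗_{A_i} B_i
(existence of an isomorphism). (Stated for a system indexed by a directed preordered set.) -/
theorem result {ι : Type u} [Preorder ι] [IsDirected ι (· ≤ ·)] [Nonempty ι]
    (G : ι → Type u) [∀ i, CommRing (G i)] (f : ∀ i j, i ≤ j → (G i →+* G j))
    (A : Type u) [CommRing A] (g : ∀ i, G i →+* A) (hg : ∀ i j (h : i ≤ j), (g j).comp (f i j h) = g i)
    (hsurj : ∀ a : A, ∃ i, ∃ x : G i, g i x = a)
    (hker : ∀ i (x : G i), g i x = 0 → ∃ j, ∃ h : i ≤ j, f i j h x = 0)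
    (B : Type u) [CommRing B] [Algebra A B] [Algebra.Etale A B] :
    ∃ (i : ι) (Bi : Type u) (_ : CommRing Bi) (_ : Algebra (G i) Bi), Algebra.Etale (G i) Bi ∧
      letI : Algebra (G i) A := (g i).toAlgebra
      Nonempty (B ≃ₐ[A] A ⊗[G i] Bi) := by
  classical
  obtain ⟨A₀, B₀, _, _, hfg, hEt, ⟨e⟩⟩ := Algebra.Etale.exists_subalgebra_fg ℤ A B
  obtain ⟨t, ht⟩ := hfg
  have ht' : (MvPolynomial.aeval (Subtype.val : (↑(↑t : Set A)) → A) :
      MvPolynomial _ ℤ →ₐ[ℤ] A).range = A₀ := by
    rw [← Algebra.adjoin_eq_range]; exact ht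
  generalize hφ : (MvPolynomial.aeval (Subtype.val : (↑(↑t : Set A)) → A) :
      MvPolynomial _ ℤ →ₐ[ℤ] A) = φ at ht'
  subst ht'
  obtain ⟨T, hTspan⟩ := (isNoetherianRing_iff_ideal_fg _).mp
    (inferInstance : IsNoetherianRing (MvPolynomial (↑(↑t : Set A)) ℤ)) (RingHom.ker φ)
  have hT0 : ∀ P ∈ T, MvPolynomial.aeval (Subtype.val : (↑(↑t : Set A)) → A) P = 0 := by
    intro P hP
    have h1 : P ∈ RingHom.ker φ := by rw [← hTspan]; exact Ideal.subset_span hP
    rw [hφ]
    exact RingHom.mem_ker.mp h1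
  obtain ⟨j, y, hy, hyT⟩ := exists_lift_aux_q G f A g hg hsurj hker Subtype.val T hT0
  have hkerle : RingHom.ker φ ≤
      RingHom.ker (MvPolynomial.eval₂Hom (Int.castRingHom (G j)) y) := by
    rw [← hTspan, Ideal.span_le]
    intro P hP
    exact RingHom.mem_ker.mpr (hyT P hP)
  let fr : MvPolynomial (↑(↑t : Set A)) ℤ →+* ↥φ.range := φ.rangeRestrict.toRingHom
  have hfr : Function.Surjective fr := AlgHom.rangeRestrict_surjective φ
  have hfrval : ∀ P, ((fr P : ↥φ.range) : A) = φ P := fun P => rfl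
  have hkerfr : RingHom.ker fr ≤
      RingHom.ker (MvPolynomial.eval₂Hom (Int.castRingHom (G j)) y) := by
    intro P hP
    apply hkerle
    rw [RingHom.mem_ker] at hP ⊢
    rw [← hfrval P, hP]
    rfl
  let ψ : ↥φ.range →+* G j := RingHom.liftOfSurjective fr hfr ⟨_, hkerfr⟩
  have hψ : ∀ P, ψ (fr P) = MvPolynomial.eval₂Hom (Int.castRingHom (G j)) y P := by
    intro P
    exact RingHom.congr_fun (RingHom.liftOfSurjective_comp fr hfr ⟨_, hkerfr⟩) P
  have hgψ : ∀ a : ↥φ.range, g j (ψ a) = (a : A) := by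
    intro a
    obtain ⟨P, rfl⟩ := hfr a
    rw [hψ P, hfrval P, eval_compat_q (g j) y Subtype.val hy, hφ]
  letI algGA : Algebra (G j) A := (g j).toAlgebra
  letI algA₀G : Algebra ↥φ.range (G j) := ψ.toAlgebra
  haveI tower : IsScalarTower ↥φ.range (G j) A := IsScalarTower.of_algebraMap_eq (fun a => by
    show (algebraMap ↥φ.range A) a = g j (ψ a)
    rw [hgψ a]
    rfl)
  refine ⟨j, G j ⊗[↥φ.range] B₀, inferInstance, inferInstance,
    Algebra.Etale.baseChange ↥φ.range B₀ (G j), ?_⟩
  exact ⟨e.trans (Algebra.TensorProduct.cancelBaseChange ↥φ.range (G j) A A B₀).symm⟩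

end Groth.Agent.S19569
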