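import Groth.Statements.S19573
import Mathlib

set_option autoImplicit false
universe u
open LocInt

namespace Groth.Agent.S19573

section Aux
variable {R : Type u} [CommRing R] {n : ℕ}

/-- the quotient module -/
abbrev F (a : Fin n → R) := (Fin n → R) ⧸ Submodule.span R {a}

/-- images of the standard basis vectors -/
noncomputable def ebar (a : Fin n → R) (l : Fin n) : F a :=
  Submodule.Quotient.mk (Pi.single l (1 : R))

theorem sum_smul_ebar (a : Fin n → R) : ∑ l, a l • ebar a l = 0 := by
  have h1 : (∑ l, a l • (Pi.single l (1 : R) : Fin n → R)) = a := by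
    ext j
    simp [Finset.sum_apply, Pi.single_apply]
  have h2 : (Submodule.Quotient.mk a : F a) = 0 :=
    (Submodule.Quotient.mk_eq_zero _).mpr (Submodule.mem_span_singleton_self a)
  calc ∑ l, a l • ebar a l
      = (Submodule.span R {a}).mkQ (∑ l, a l • (Pi.single l (1 : R) : Fin n → R)) := by
        simp [ebar, map_sum]
    _ = (Submodule.span R {a}).mkQ a := by rw [h1]
    _ = 0 := by simpa using h2

theorem span_ebar (a : Fin n → R) : Submodule.span R (Set.range (ebar a)) = ⊤ := by
  have h : Set.range (ebar a) = (Submodule.span R {a}).mkQ ''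
      Set.range (fun l : Fin n => (Pi.single l (1 : R) : Fin n → R)) := by
    rw [← Set.range_comp]; rfl
  have e : (fun l : Fin n => (Pi.single l (1 : R) : Fin n → R)) = ⇑(Pi.basisFun R (Fin n)) := by
    funext l; rw [Pi.basisFun_apply]
  rw [h, ← Submodule.map_span, e, Module.Basis.span_eq, Submodule.map_top, Submodule.range_mkQ]

theorem keyK (a : Fin n → R) (σ : Fin n → Fin n) (hσ : Function.Injective σ) (i : Fin n) :
    a i • ExteriorAlgebra.ιMulti R n (ebar a ∘ σ) = 0 := by
  classical
  obtain ⟨j₀, hj₀⟩ := (Finite.injective_iff_surjective.mp hσ) i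
  obtain ⟨v, hv⟩ : ∃ v : Fin n → F a, v = ebar a ∘ σ := ⟨_, rfl⟩
  rw [← hv]
  let L : F a →ₗ[R] ExteriorAlgebra R (F a) :=
    (ExteriorAlgebra.ιMulti R n).toMultilinearMap.toLinearMap v j₀
  have hL : ∀ x, L x = ExteriorAlgebra.ιMulti R n (Function.update v j₀ x) := fun x => rfl
  have h1 : ExteriorAlgebra.ιMulti R n v = L (ebar a i) := by
    rw [hL]
    congr 1
    have : ebar a i = v j₀ := by rw [hv, Function.comp_apply, hj₀]
    rw [this, Function.update_eq_self]
  have h2 : a i • ebar a i = - ∑ l ∈ Finset.univ.erase i, a l • ebar a l := by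
    have h3 := sum_smul_ebar a
    rw [← Finset.add_sum_erase Finset.univ _ (Finset.mem_univ i)] at h3
    exact eq_neg_of_add_eq_zero_left h3
  rw [h1, ← LinearMap.map_smul, h2, map_neg, map_sum, neg_eq_zero]
  refine Finset.sum_eq_zero fun l hl => ?_
  rw [LinearMap.map_smul]
  have hli : l ≠ i := Finset.ne_of_mem_erase hl
  obtain ⟨j₁, hj₁⟩ := (Finite.injective_iff_surjective.mp hσ) l
  have hne : j₀ ≠ j₁ := by
    rintro rfl
    exact hli (hj₁.symm.trans hj₀)
  have h4 : L (ebar a l) = 0 := by
    rw [hL]
    refine AlternatingMap.map_eq_zero_of_eq _ _ (i := j₀) (j := j₁) ?_ hne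
    rw [Function.update_self, Function.update_of_ne hne.symm, hv, Function.comp_apply, hj₁]
  rw [h4, smul_zero]

theorem le_ann (a : Fin n → R) :
    Ideal.span (Set.range a) ≤ (⋀[R]^n (F a)).annihilator := by
  rw [Ideal.span_le]
  rintro _ ⟨i, rfl⟩
  rw [SetLike.mem_coe, Submodule.mem_annihilator]
  intro x hx
  rw [← exteriorPower.ιMulti_family_span_fixedDegree_of_span R (span_ebar a)] at hx
  induction hx using Submodule.span_induction with
  | mem x hx =>
    obtain ⟨s, rfl⟩ := hx
    exact keyK a _ (Set.powersetCard.ofFinEmbEquiv.symm s).injective i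
  | zero => simp
  | add x y _ _ hx hy => rw [smul_add, hx, hy, add_zero]
  | smul r x _ hx => rw [smul_comm, hx, smul_zero]

/-- determinant on `(R/J)^n` as an `R`-alternating map -/
noncomputable def detAlt (J : Ideal R) : (Fin n → R ⧸ J) [⋀^Fin n]→ₗ[R] (R ⧸ J) where
  toFun m := (Matrix.detRowAlternating : (Fin n → R ⧸ J) [⋀^Fin n]→ₗ[R ⧸ J] (R ⧸ J)) m
  map_update_add' := by
    intro _ m i x y
    exact AlternatingMap.map_update_add _ m i x y
  map_update_smul' := by
    intro _ m i c x
    have h : c • x = (Ideal.Quotient.mk J c) • x := by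
      ext j
      simp [Algebra.smul_def]
    rw [h, AlternatingMap.map_update_smul]
    simp [Algebra.smul_def]
  map_eq_zero_of_eq' := by
    intro v i j h hij
    exact AlternatingMap.map_eq_zero_of_eq _ v h hij

theorem detAlt_apply (J : Ideal R) (m : Fin n → Fin n → R ⧸ J) :
    detAlt J m = Matrix.det (Matrix.of m) := rfl

/-- reduction map `F → (R/J)^n` -/
noncomputable def redMap (a : Fin n → R) : F a →ₗ[R] (Fin n → R ⧸ Ideal.span (Set.range a)) :=
  (Submodule.span R {a}).liftQ
    (LinearMap.pi fun j => (Submodule.mkQ (Ideal.span (Set.range a))) ∘ₗ LinearMap.proj j) (by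
      rw [Submodule.span_le, Set.singleton_subset_iff, SetLike.mem_coe, LinearMap.mem_ker]
      ext j
      simp only [LinearMap.pi_apply, LinearMap.comp_apply, LinearMap.proj_apply, Pi.zero_apply]
      exact (Submodule.Quotient.mk_eq_zero _).mpr (Ideal.subset_span ⟨j, rfl⟩))

theorem redMap_ebar (a : Fin n → R) (l : Fin n) :
    redMap a (ebar a l) = Pi.single l 1 := by
  ext j
  simp only [redMap, ebar, Submodule.liftQ_apply, LinearMap.pi_apply, LinearMap.comp_apply,
    LinearMap.proj_apply, Submodule.mkQ_apply, Pi.single_apply]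
  split_ifs with h
  · rfl
  · rfl

theorem ann_le (a : Fin n → R) :
    (⋀[R]^n (F a)).annihilator ≤ Ideal.span (Set.range a) := by
  intro r hr
  rw [Submodule.mem_annihilator] at hr
  let φ : ⋀[R]^n (F a) →ₗ[R] (R ⧸ Ideal.span (Set.range a)) :=
    exteriorPower.alternatingMapLinearEquiv
      ((detAlt (Ideal.span (Set.range a))).compLinearMap (redMap a))
  have hφ : φ (exteriorPower.ιMulti R n (ebar a)) = 1 := by
    show exteriorPower.alternatingMapLinearEquiv
      ((detAlt (Ideal.span (Set.range a))).compLinearMap (redMap a))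
        (exteriorPower.ιMulti R n (ebar a)) = 1
    rw [exteriorPower.alternatingMapLinearEquiv_apply_ιMulti, AlternatingMap.compLinearMap_apply,
      detAlt_apply]
    have h5 : (Matrix.of fun i => redMap a (ebar a i)) =
        (1 : Matrix (Fin n) (Fin n) (R ⧸ Ideal.span (Set.range a))) := by
      ext i j
      rw [Matrix.of_apply, redMap_ebar, Matrix.one_apply, Pi.single_apply]
      simp [eq_comm]
    rw [h5, Matrix.det_one]
  have h0 := hr (exteriorPower.ιMulti R n (ebar a) : ExteriorAlgebra R (F a)) (Subtype.coe_prop _)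
  have h1 : r • (exteriorPower.ιMulti R n (ebar a)) = 0 := by
    apply Subtype.ext
    simpa using h0
  have h2 := congrArg φ h1
  rw [map_smul, hφ, map_zero, Algebra.smul_def, mul_one, Ideal.Quotient.algebraMap_eq] at h2
  exact Ideal.Quotient.eq_zero_iff_mem.mp h2

/-- insertion of `0` at position `i`, as a linear map -/
noncomputable def insL {n' : ℕ} (i : Fin (n' + 1)) : (Fin n' → R) →ₗ[R] (Fin (n' + 1) → R) where
  toFun y := i.insertNth (α := fun _ => R) (0 : R) y
  map_add' y z := by
    ext j
    rcases Fin.eq_self_or_eq_succAbove i j with rfl | ⟨j', rfl⟩ <;> simp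
  map_smul' c y := by
    ext j
    rcases Fin.eq_self_or_eq_succAbove i j with rfl | ⟨j', rfl⟩ <;> simp

theorem insL_same {n' : ℕ} (i : Fin (n' + 1)) (y : Fin n' → R) : insL i y i = 0 := by
  simp [insL]

theorem insL_succAbove {n' : ℕ} (i : Fin (n' + 1)) (y : Fin n' → R) (j : Fin n') :
    insL i y (i.succAbove j) = y j := by
  simp [insL]

/-- the map `x ↦ (a_i x_j - x_i a_j)_{j ≠ i}` -/
noncomputable def w₀ {n' : ℕ} (a : Fin (n' + 1) → R) (i : Fin (n' + 1)) :
    (Fin (n' + 1) → R) →ₗ[R] (Fin n' → R) :=
  a i • (LinearMap.funLeft R R i.succAbove) -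
    (LinearMap.proj i : (Fin (n' + 1) → R) →ₗ[R] R).smulRight (fun j' => a (i.succAbove j'))

theorem w₀_apply {n' : ℕ} (a : Fin (n' + 1) → R) (i : Fin (n' + 1)) (x : Fin (n' + 1) → R)
    (j : Fin n') : w₀ a i x j = a i * x (i.succAbove j) - x i * a (i.succAbove j) := by
  simp [w₀, LinearMap.funLeft_apply]

theorem free_part (n' : ℕ) (a : Fin (n' + 1) → R) (p : PrimeSpectrum R)
    (hp : ¬ Ideal.span (Set.range a) ≤ p.asIdeal) :
    p ∈ Module.freeLocus R (F a) ∧ Module.rankAtStalk (F a) p = n' := by
  classical
  obtain ⟨i, hi⟩ : ∃ i, a i ∉ p.asIdeal := by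
    by_contra hcon
    push_neg at hcon
    exact hp (Ideal.span_le.mpr (by rintro _ ⟨j, rfl⟩; exact hcon j))
  let w : F a →ₗ[R] (Fin n' → R) := (Submodule.span R {a}).liftQ (w₀ a i) (by
    rw [Submodule.span_le, Set.singleton_subset_iff, SetLike.mem_coe, LinearMap.mem_ker]
    ext j
    rw [w₀_apply]
    simp only [Pi.zero_apply]
    ring)
  let u : (Fin n' → R) →ₗ[R] F a := (Submodule.span R {a}).mkQ ∘ₗ insL i
  have c1 : ∀ y, w (u y) = a i • y := by
    intro y
    ext j
    show (Submodule.span R {a}).liftQ (w₀ a i) _ (Submodule.Quotient.mk (insL i y)) j = _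
    rw [Submodule.liftQ_apply, w₀_apply, insL_same, insL_succAbove]
    simp
  have c2 : ∀ z, u (w z) = a i • z := by
    intro z
    induction z using Submodule.Quotient.induction_on with
    | H x =>
      show Submodule.Quotient.mk (insL i ((Submodule.span R {a}).liftQ (w₀ a i) _
        (Submodule.Quotient.mk x))) = a i • Submodule.Quotient.mk x
      rw [Submodule.liftQ_apply, ← Submodule.Quotient.mk_smul, Submodule.Quotient.eq]
      refine Submodule.mem_span_singleton.mpr ⟨-(x i), ?_⟩
      ext j
      rcases Fin.eq_self_or_eq_succAbove i j with rfl | ⟨j', rfl⟩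
      · simp only [Pi.smul_apply, Pi.sub_apply, insL_same, smul_eq_mul]
        ring
      · simp only [Pi.smul_apply, Pi.sub_apply, insL_succAbove, w₀_apply, smul_eq_mul]
        ring
  let S := p.asIdeal.primeCompl
  let fF := LocalizedModule.mkLinearMap S (F a)
  let fG := LocalizedModule.mkLinearMap S (Fin n' → R)
  have hcomp1 : (IsLocalizedModule.map S fG fF u) ∘ₗ (IsLocalizedModule.map S fF fG w) =
      a i • LinearMap.id := by
    rw [← IsLocalizedModule.map_comp' (S := S) (f₀ := fF) (f₁ := fG) (f₂ := fF) w u]
    have h6 : u ∘ₗ w = a i • LinearMap.id := LinearMap.ext (fun z => c2 z)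
    rw [h6, map_smul, IsLocalizedModule.map_id]
  have hcomp2 : (IsLocalizedModule.map S fF fG w) ∘ₗ (IsLocalizedModule.map S fG fF u) =
      a i • LinearMap.id := by
    rw [← IsLocalizedModule.map_comp' (S := S) (f₀ := fG) (f₁ := fF) (f₂ := fG) u w]
    have h6 : w ∘ₗ u = a i • LinearMap.id := LinearMap.ext (fun z => c1 z)
    rw [h6, map_smul, IsLocalizedModule.map_id]
  have hbijF : Function.Bijective (fun z : LocalizedModule S (F a) => a i • z) := by
    have h7 := (Module.End.isUnit_iff _).mp (IsLocalizedModule.map_units fF (⟨a i, hi⟩ : S))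
    have h9 : (fun z : LocalizedModule S (F a) => a i • z) =
        ⇑(algebraMap R (Module.End R (LocalizedModule S (F a))) (a i)) := by
      funext z; rw [Module.algebraMap_end_apply]
    rw [h9]; exact h7
  have hbijG : Function.Bijective (fun z : LocalizedModule S (Fin n' → R) => a i • z) := by
    have h7 := (Module.End.isUnit_iff _).mp (IsLocalizedModule.map_units fG (⟨a i, hi⟩ : S))
    have h9 : (fun z : LocalizedModule S (Fin n' → R) => a i • z) =
        ⇑(algebraMap R (Module.End R (LocalizedModule S (Fin n' → R))) (a i)) := by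
      funext z; rw [Module.algebraMap_end_apply]
    rw [h9]; exact h7
  let U : LocalizedModule S (Fin n' → R) →ₗ[Localization.AtPrime p.asIdeal]
      LocalizedModule S (F a) :=
    IsLocalizedModule.mapExtendScalars S fG fF (Localization.AtPrime p.asIdeal) u
  have hU : ∀ x, U x = IsLocalizedModule.map S fG fF u x := fun x => rfl
  have hUbij : Function.Bijective U := by
    constructor
    · intro x y hxy
      rw [hU, hU] at hxy
      have h8 := congrArg (IsLocalizedModule.map S fF fG w) hxy
      have e1 := LinearMap.congr_fun hcomp2 x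
      have e2 := LinearMap.congr_fun hcomp2 y
      simp only [LinearMap.comp_apply, LinearMap.smul_apply, LinearMap.id_apply] at e1 e2
      rw [e1, e2] at h8
      exact hbijG.1 h8
    · intro z
      obtain ⟨z', hz'⟩ := hbijF.2 z
      refine ⟨IsLocalizedModule.map S fF fG w z', ?_⟩
      rw [hU]
      have e1 := LinearMap.congr_fun hcomp1 z'
      simp only [LinearMap.comp_apply, LinearMap.smul_apply, LinearMap.id_apply] at e1
      rw [e1]
      exact hz'
  let e := LinearEquiv.ofBijective U hUbij
  haveI : Module.Free (Localization.AtPrime p.asIdeal) (LocalizedModule S (Fin n' → R)) :=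
    Module.free_of_isLocalizedModule S fG
  have hfree : Module.Free (Localization.AtPrime p.asIdeal) (LocalizedModule S (F a)) :=
    Module.Free.of_equiv e
  refine ⟨hfree, ?_⟩
  haveI : Nontrivial R := (algebraMap R (Localization.AtPrime p.asIdeal)).domain_nontrivial
  show Module.finrank (Localization.AtPrime p.asIdeal) (LocalizedModule S (F a)) = n'
  rw [← e.finrank_eq, Module.finrank_of_isLocalizedModule_of_free (Localization.AtPrime p.asIdeal) S fG,
    Module.finrank_fintype_fun_eq_card, Fintype.card_fin]

end Aux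

/-- The first sentence of the lemma together with the description of the closed subscheme Z given in its
proof, in the local model. Let R be a commutative ring, n ≥ 1, a ∈ R^n, and F = R^n / R·a the
cokernel of R → R^n, 1 ↦ a (the zeroth homology of the two-term complex R → R^n). Then the
annihilator ideal of the top exterior power ⋀^n F is the ideal generated by the coordinates a_1, …,
a_n of a, and at every prime p of R off the closed set V(a_1, …, a_n) the module F is free of rank n
− 1 after localization at p. (The published statement is for a complex on a scheme which is locally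
quasi-isomorphic to such a two-term complex L → E with L invertible and E locally free of rank n,
and says that H^0 restricted to the complement of the closed subscheme cut out by the annihilator of
its n-th exterior power is locally free of rank n − 1; this row is the local model.) -/
theorem result (R : Type u) [CommRing R]
    (n : ℕ) (hn : 1 ≤ n) (a : Fin n → R) :
    (⋀[R]^n ((Fin n → R) ⧸ Submodule.span R {a})).annihilator = Ideal.span (Set.range a) ∧
    ∀ p : PrimeSpectrum R, ¬ Ideal.span (Set.range a) ≤ p.asIdeal →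
      p ∈ Module.freeLocus R ((Fin n → R) ⧸ Submodule.span R {a}) ∧
      Module.rankAtStalk ((Fin n → R) ⧸ Submodule.span R {a}) p = n - 1 := by
  refine ⟨le_antisymm (ann_le a) (le_ann a), ?_⟩
  intro p hp
  obtain ⟨n', rfl⟩ : ∃ n', n = n' + 1 := ⟨n - 1, by omega⟩
  have h := free_part n' a p hp
  exact ⟨h.1, by rw [h.2]; omega⟩

end Groth.Agent.S19573
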