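import Mathlib
import Groth.Statements.S19574
-- import your own Groth.Agent.* helpers here

set_option autoImplicit false
universe u
open CategoryTheory MonoidalCategory
open Lie3Mod

namespace Groth.Agent.S19574

section aux

open TensorProduct

variable {R : Type u} [CommRing R] (I : Ideal R)

/-- the multiplication map `I ⊗ N → N` -/
noncomputable def sig (N : Type u) [AddCommGroup N] [Module R N] : I ⊗[R] N →ₗ[R] N :=
  TensorProduct.lift ((LinearMap.lsmul R N).comp I.subtype)

lemma sig_tmul (N : Type u) [AddCommGroup N] [Module R N] (i : I) (n : N) :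
    sig I N (i ⊗ₜ[R] n) = (i : R) • n := by
  simp [sig]

lemma sig_nat {N N' : Type u} [AddCommGroup N] [Module R N] [AddCommGroup N'] [Module R N']
    (f : N →ₗ[R] N') (s : I ⊗[R] N) : f (sig I N s) = sig I N' (LinearMap.lTensor I f s) := by
  induction s using TensorProduct.induction_on with
  | zero => simp
  | tmul i n => simp [sig_tmul]
  | add a b ha hb => simp only [map_add, ha, hb]

lemma one_tmul_sig (N : Type u) [AddCommGroup N] [Module R N] (s : I ⊗[R] N) :
    (1 : R ⧸ I) ⊗ₜ[R] (sig I N s) = 0 := by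
  induction s using TensorProduct.induction_on with
  | zero => simp
  | tmul i n =>
    rw [sig_tmul, ← TensorProduct.smul_tmul]
    have : ((i : R) • (1 : R ⧸ I)) = 0 := by
      rw [Algebra.smul_def, mul_one]
      exact Ideal.Quotient.eq_zero_iff_mem.mpr i.2
    rw [this, TensorProduct.zero_tmul]
  | add a b ha hb => rw [map_add, TensorProduct.tmul_add, ha, hb, add_zero]

lemma exists_sig_of_one_tmul_eq_zero (N : Type u) [AddCommGroup N] [Module R N] (n : N)
    (h : (1 : R ⧸ I) ⊗ₜ[R] n = 0) : ∃ s, sig I N s = n := by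
  have h1 := congrArg (TensorProduct.quotTensorEquivQuotSMul N I) h
  rw [TensorProduct.quotTensorEquivQuotSMul_mk_one_tmul, map_zero,
    Submodule.Quotient.mk_eq_zero] at h1
  refine Submodule.smul_induction_on h1 ?_ ?_
  · intro r hr m _
    exact ⟨(⟨r, hr⟩ : I) ⊗ₜ[R] m, by rw [sig_tmul]⟩
  · rintro x y ⟨s, rfl⟩ ⟨t, rfl⟩
    exact ⟨s + t, map_add _ _ _⟩

lemma exists_one_tmul (N : Type u) [AddCommGroup N] [Module R N] (t : (R ⧸ I) ⊗[R] N) :
    ∃ n : N, (1 : R ⧸ I) ⊗ₜ[R] n = t := by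
  induction t using TensorProduct.induction_on with
  | zero => exact ⟨0, by simp⟩
  | tmul a n =>
    obtain ⟨a, rfl⟩ := Ideal.Quotient.mk_surjective a
    refine ⟨a • n, ?_⟩
    rw [← TensorProduct.smul_tmul, Algebra.smul_def, mul_one]
    rfl
  | add x y hx hy =>
    obtain ⟨n, rfl⟩ := hx
    obtain ⟨m, rfl⟩ := hy
    exact ⟨n + m, TensorProduct.tmul_add _ _ _⟩

lemma chase (hI : I.FG) {P3 P2 P1 M : Type u} [AddCommGroup P3] [Module R P3] [AddCommGroup P2]
    [Module R P2] [AddCommGroup P1] [Module R P1] [AddCommGroup M] [Module R M]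
    (d3 : P3 →ₗ[R] P2) (d2 : P2 →ₗ[R] P1) (d1 : P1 →ₗ[R] M) [Module.Flat R P1]
    (hsurj : Function.Surjective d1) (hex1 : ∀ p, d1 p = 0 → ∃ q, d2 q = p)
    (h12 : ∀ q, d1 (d2 q) = 0) (h23 : ∀ r, d2 (d3 r) = 0)
    (hT : ∀ t : (R ⧸ I) ⊗[R] P2, LinearMap.lTensor (R ⧸ I) d2 t = 0 →
      ∃ r, LinearMap.lTensor (R ⧸ I) d3 r = t) :
    Function.Injective (sig I M) := by
  rw [injective_iff_map_eq_zero]
  intro x hx
  obtain ⟨y, rfl⟩ := LinearMap.lTensor_surjective I hsurj x
  have hp : d1 (sig I P1 y) = 0 := by rw [sig_nat, hx]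
  obtain ⟨q, hq⟩ := hex1 _ hp
  have h1 : LinearMap.lTensor (R ⧸ I) d2 ((1 : R ⧸ I) ⊗ₜ[R] q) = 0 := by
    rw [LinearMap.lTensor_tmul, hq, one_tmul_sig]
  obtain ⟨rbar, hr⟩ := hT _ h1
  obtain ⟨r, rfl⟩ := exists_one_tmul I P3 rbar
  have h2 : (1 : R ⧸ I) ⊗ₜ[R] (q - d3 r) = 0 := by
    rw [TensorProduct.tmul_sub, ← hr, LinearMap.lTensor_tmul, sub_self]
  obtain ⟨s, hs⟩ := exists_sig_of_one_tmul_eq_zero I P2 _ h2
  have h3 : sig I P1 y = sig I P1 (LinearMap.lTensor I d2 s) := by
    rw [← sig_nat, hs, map_sub, h23, sub_zero, hq]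
  have hinj : Function.Injective (sig I P1) :=
    (Module.Flat.iff_lift_lsmul_comp_subtype_injective.mp inferInstance) hI
  rw [hinj h3, ← LinearMap.comp_apply, ← LinearMap.lTensor_comp]
  have : d1 ∘ₗ d2 = 0 := LinearMap.ext h12
  rw [this, LinearMap.lTensor_zero, LinearMap.zero_apply]

end aux


/-- Let R be a commutative ring and d ≥ 1. Let K be a chain complex of R-modules concentrated in degrees
0, …, d + 1, written … → 0 → P_{d+1} → P_d → … → P_1 → M with M = K_0, which is exact (so 0 →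
P_{d+1} → … → P_1 → M → 0 is an exact sequence), such that P_1, …, P_d are flat R-modules and such
that for every ideal I of R the complex obtained by applying (R/I) ⊗_R − termwise is again exact.
Then M is a flat R-module. (No flatness is assumed for P_{d+1}. The published lemma adds that for R
Noetherian it suffices to test prime ideals I; that refinement is not part of this statement.) -/
theorem result (R : Type u) [CommRing R]
    (d : ℕ) (hd : 1 ≤ d) (K : ChainComplex (ModuleCat.{u} R) ℕ)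
    (hzero : ∀ i : ℕ, d + 1 < i → Limits.IsZero (K.X i))
    (hflat : ∀ i : ℕ, 1 ≤ i → i ≤ d → Module.Flat R (K.X i))
    (hK : K.Acyclic)
    (hbc : ∀ I : Ideal R,
      (((tensorLeft (ModuleCat.of R (R ⧸ I))).mapHomologicalComplex (ComplexShape.down ℕ)).obj K).Acyclic) :
    Module.Flat R (K.X 0) := by
  have h1flat : Module.Flat R (K.X 1) := hflat 1 le_rfl hd
  rw [Module.Flat.iff_lift_lsmul_comp_subtype_injective]
  intro I hI
  -- exactness of K at 0, 1
  have hE0 := (K.exactAt_iff' 1 0 0 (by simp) (by simp)).mp (hK 0)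
  have hE1 := (K.exactAt_iff' 2 1 0 (by simp) (by simp)).mp (hK 1)
  rw [ShortComplex.moduleCat_exact_iff] at hE0 hE1
  have hsurj : Function.Surjective (K.d 1 0).hom := by
    intro m
    obtain ⟨x, hx⟩ := hE0 m (by
      change (K.d 0 0) m = 0
      rw [K.shape 0 0 (by simp)]
      rfl)
    exact ⟨x, hx⟩
  have hex1 : ∀ p, (K.d 1 0).hom p = 0 → ∃ q, (K.d 2 1).hom q = p := fun p hp => hE1 p hp
  have h12 : ∀ q, (K.d 1 0).hom ((K.d 2 1).hom q) = 0 := by
    intro q
    have := K.d_comp_d 2 1 0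
    exact congrArg (fun f => f.hom q) this
  have h23 : ∀ r, (K.d 2 1).hom ((K.d 3 2).hom r) = 0 := by
    intro r
    have := K.d_comp_d 3 2 1
    exact congrArg (fun f => f.hom r) this
  have hL2 := ((((tensorLeft (ModuleCat.of R (R ⧸ I))).mapHomologicalComplex
    (ComplexShape.down ℕ)).obj K).exactAt_iff' 3 2 1 (by simp) (by simp)).mp (hbc I 2)
  rw [ShortComplex.moduleCat_exact_iff] at hL2
  have hT : ∀ t : TensorProduct R (R ⧸ I) (K.X 2),
      LinearMap.lTensor (R ⧸ I) (K.d 2 1).hom t = 0 →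
        ∃ r, LinearMap.lTensor (R ⧸ I) (K.d 3 2).hom r = t := fun t ht => hL2 t ht
  exact chase I hI (K.d 3 2).hom (K.d 2 1).hom (K.d 1 0).hom hsurj hex1 h12 h23 hT

end Groth.Agent.S19574
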