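import Groth.Statements.S1959


set_option autoImplicit false
universe u
open Polynomial
open EtAlg

namespace Groth.Agent.S1959

/-- Let I be an ideal of a ring A, A -> B an integral ring map and b an element of B whose image in B/IB
is idempotent. Then there are d ≥ 1 and a monic polynomial f over A with f(b) = 0 whose reduction
modulo I is x^d (x - 1)^d. -/
theorem result (A B : Type u) [CommRing A] [CommRing B] [Algebra A B]
    [Algebra.IsIntegral A B] (I : Ideal A) (b : B)
    (hb : IsIdempotentElem (Ideal.Quotient.mk (I.map (algebraMap A B)) b)) :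
    ∃ (f : A[X]) (d : ℕ), f.Monic ∧ 1 ≤ d ∧ aeval b f = 0 ∧
      f.map (Ideal.Quotient.mk I) = X ^ d * (X - 1) ^ d := by
  classical
  rcases subsingleton_or_nontrivial A with hA | hA
  · have hB : Subsingleton B := by
      refine ⟨fun x y => ?_⟩
      have h1 : (1 : B) = 0 := by
        rw [← map_one (algebraMap A B), Subsingleton.elim (1 : A) 0, map_zero]
      rw [← mul_one x, ← mul_one y, h1, mul_zero, mul_zero]
    refine ⟨1, 1, monic_one, le_rfl, Subsingleton.elim _ _, ?_⟩
    have : Subsingleton (A ⧸ I) := Function.Surjective.subsingleton Ideal.Quotient.mk_surjective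
    exact Subsingleton.elim _ _
  -- step 1
  have hz : b * b - b ∈ I.map (algebraMap A B) := by
    rw [← Ideal.Quotient.eq_zero_iff_mem, map_sub, map_mul, hb.eq, sub_self]
  have hz' : b * b - b ∈ I • (⊤ : Submodule A B) := by
    rw [Ideal.smul_top_eq_map]; exact hz
  rw [← Submodule.span_univ, ← Set.range_id] at hz'
  obtain ⟨a, ha, hsum⟩ := (Submodule.mem_ideal_smul_span_iff_exists_sum I (id : B → B) _).mp hz'
  -- the finite subalgebra
  let s : Set B := insert b (a.support : Set B)
  have hsfin : s.Finite := (a.support.finite_toSet).insert b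
  let B' : Subalgebra A B := Algebra.adjoin A s
  have hfin : Module.Finite A B' :=
    Module.Finite.iff_fg.mpr (fg_adjoin_of_finite hsfin fun x _ => Algebra.IsIntegral.isIntegral x)
  have hbB' : b ∈ B' := Algebra.subset_adjoin (Set.mem_insert _ _)
  let b' : B' := ⟨b, hbB'⟩
  let z' : B' := b' * b' - b'
  have hz'mem : z' ∈ I.map (algebraMap A B') := by
    have h1 : z' = a.sum fun c r => algebraMap A B' r * (if h : c ∈ B' then ⟨c, h⟩ else 0) := by
      apply Subtype.ext
      change b * b - b = _
      rw [← hsum, Finsupp.sum, Finsupp.sum]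
      rw [AddSubmonoidClass.coe_finsetSum]
      refine Finset.sum_congr rfl fun c hc => ?_
      have hcB' : c ∈ B' := Algebra.subset_adjoin (Set.mem_insert_of_mem _ hc)
      rw [dif_pos hcB']
      simp [Algebra.smul_def]
    rw [h1, Finsupp.sum]
    exact Submodule.sum_mem _ fun c _ => Ideal.mul_mem_right _ _ (Ideal.mem_map_of_mem _ (ha c))
  -- Cayley-Hamilton
  have hrange : LinearMap.range (LinearMap.mulLeft A z') ≤ I • (⊤ : Submodule A B') := by
    rintro _ ⟨y, rfl⟩
    rw [Ideal.smul_top_eq_map]
    exact Ideal.mul_mem_right _ _ hz'mem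
  obtain ⟨p, hpm, -, hpc, hp0⟩ :=
    LinearMap.exists_monic_and_natDegree_eq_and_coeff_mem_pow_and_aeval_eq_zero A
      (LinearMap.mulLeft A z') I hrange
  have hpz' : aeval z' p = 0 := by
    have h2 : aeval (LinearMap.mulLeft A z') p = LinearMap.mulLeft A (aeval z' p) := by
      have := Polynomial.aeval_algHom_apply (Algebra.lmul A B') z' p
      exact this
    rw [h2] at hp0
    have := LinearMap.congr_fun hp0 1
    simpa using this
  have hpz : aeval (b * b - b) p = 0 := by
    have := congrArg (B'.val) hpz'
    rw [← Polynomial.aeval_algHom_apply, map_zero] at this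
    exact this
  set d := p.natDegree with hd
  have hpmap : p.map (Ideal.Quotient.mk I) = X ^ d := by
    ext k
    rw [Polynomial.coeff_map, Polynomial.coeff_X_pow]
    rcases lt_trichotomy k d with hk | hk | hk
    · rw [if_neg hk.ne]
      rw [Ideal.Quotient.eq_zero_iff_mem]
      have := hpc k
      exact Ideal.pow_le_self (by omega) this
    · rw [if_pos hk, hk, hd, hpm.coeff_natDegree, map_one]
    · rw [if_neg hk.ne', Polynomial.coeff_eq_zero_of_natDegree_lt (by omega), map_zero]
  -- the polynomial
  let q : A[X] := p * X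
  have hqm : q.Monic := hpm.mul monic_X
  let g : A[X] := X ^ 2 - X
  have hgm : g.Monic := by
    apply Polynomial.monic_X_pow_sub
    exact lt_of_le_of_lt degree_X_le (by norm_num)
  have hgdeg : g.natDegree ≠ 0 := by
    have : g.natDegree = 2 := by
      have h3 : (X : A[X]).natDegree < ((X : A[X]) ^ 2).natDegree := by
        rw [natDegree_X_pow, natDegree_X]; norm_num
      rw [Polynomial.natDegree_sub_eq_left_of_natDegree_lt h3, natDegree_X_pow]
    omega
  refine ⟨q.comp g, d + 1, hqm.comp hgm hgdeg, by omega, ?_, ?_⟩
  · rw [Polynomial.aeval_comp]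
    have hg : aeval b g = b * b - b := by simp [g, pow_two]
    rw [hg]
    simp [q, hpz]
  · rw [Polynomial.map_comp]
    have : q.map (Ideal.Quotient.mk I) = X ^ (d + 1) := by
      simp [q, hpmap, pow_succ]
    rw [this]
    have hg' : g.map (Ideal.Quotient.mk I) = X * (X - 1) := by
      simp [g]; ring
    rw [hg', Polynomial.X_pow_comp, mul_pow]

end Groth.Agent.S1959
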