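import Mathlib
import Groth.Statements.S19590
-- import your own Groth.Agent.* helpers here

set_option autoImplicit false
open BddFin

namespace Groth.Agent.S19590

section aux

variable {n : ℕ}

/-- Entrywise divisibility of an integer matrix. -/
def MDvd (d : ℤ) (X : Matrix (Fin n) (Fin n) ℤ) : Prop := ∀ i j, d ∣ X i j

lemma MDvd.mul {d d' : ℤ} {X Z : Matrix (Fin n) (Fin n) ℤ} (hX : MDvd d X) (hZ : MDvd d' Z) :
    MDvd (d * d') (X * Z) := by
  intro i j
  rw [Matrix.mul_apply]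
  exact Finset.dvd_sum fun k _ => mul_dvd_mul (hX i k) (hZ k j)

lemma MDvd.one (X : Matrix (Fin n) (Fin n) ℤ) : MDvd 1 X := fun _ _ => one_dvd _

lemma MDvd.mul_right {d : ℤ} {X : Matrix (Fin n) (Fin n) ℤ} (hX : MDvd d X)
    (Z : Matrix (Fin n) (Fin n) ℤ) : MDvd d (X * Z) := by
  simpa using hX.mul (MDvd.one Z)

lemma MDvd.mul_left {d : ℤ} {X : Matrix (Fin n) (Fin n) ℤ} (hX : MDvd d X)
    (Z : Matrix (Fin n) (Fin n) ℤ) : MDvd d (Z * X) := by
  simpa using (MDvd.one Z).mul hX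

lemma MDvd.add {d : ℤ} {X Z : Matrix (Fin n) (Fin n) ℤ} (hX : MDvd d X) (hZ : MDvd d Z) :
    MDvd d (X + Z) := fun i j => by
  rw [Matrix.add_apply]; exact dvd_add (hX i j) (hZ i j)

lemma MDvd.mono {d d' : ℤ} {X : Matrix (Fin n) (Fin n) ℤ} (h : d' ∣ d) (hX : MDvd d X) :
    MDvd d' X := fun i j => h.trans (hX i j)

lemma MDvd.eq_zero {X : Matrix (Fin n) (Fin n) ℤ} (h : ∀ a : ℕ, MDvd ((3:ℤ) ^ a) X) : X = 0 := by
  ext i j
  have h1 := h (X i j).natAbs i j
  apply Int.eq_zero_of_dvd_of_natAbs_lt_natAbs h1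
  rw [Int.natAbs_pow]
  exact Nat.lt_pow_self (by norm_num)

/-- binomial expansion up to second order, noncommutative version. -/
lemma one_add_pow_exists (X : Matrix (Fin n) (Fin n) ℤ) (m : ℕ) :
    ∃ Y : Matrix (Fin n) (Fin n) ℤ, (1 + X) ^ m = 1 + (m : ℤ) • X + X * X * Y := by
  induction m with
  | zero => exact ⟨0, by simp⟩
  | succ m ih =>
    obtain ⟨Y, hY⟩ := ih
    refine ⟨(m : ℤ) • 1 + Y + Y * X, ?_⟩
    rw [pow_succ, hY]
    push_cast
    simp only [add_mul, mul_add, mul_one, one_mul, add_smul, one_smul, smul_mul_assoc,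
      mul_smul_comm, mul_assoc]
    abel

/-- descent step, exponent prime to 3 -/
lemma descent1 (X Y : Matrix (Fin n) (Fin n) ℤ) (m : ℕ) (hm : Nat.Coprime m 3)
    (h : (m : ℤ) • X + X * X * Y = 0) (a : ℕ) (ha : 1 ≤ a) (hX : MDvd ((3:ℤ) ^ a) X) :
    MDvd ((3:ℤ) ^ (a + 1)) X := by
  intro i j
  have h1 : MDvd ((3:ℤ) ^ a * (3:ℤ) ^ a) (X * X * Y) := (hX.mul hX).mul_right Y
  have h2 : (m : ℤ) * X i j = - (X * X * Y) i j := by
    have := congrFun (congrFun h i) j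
    simp only [Matrix.add_apply, Matrix.smul_apply, smul_eq_mul, Matrix.zero_apply] at this
    linarith
  have h3 : (3:ℤ) ^ (a + 1) ∣ (m : ℤ) * X i j := by
    rw [h2, dvd_neg]
    refine Dvd.dvd.trans ?_ (h1 i j)
    rw [← pow_add]
    exact pow_dvd_pow _ (by omega)
  have hcop : IsCoprime ((3:ℤ) ^ (a + 1)) (m : ℤ) := by
    apply IsCoprime.pow_left
    have : IsCoprime ((3 : ℕ) : ℤ) (m : ℤ) := Nat.isCoprime_iff_coprime.mpr hm.symm
    simpa using this
  exact hcop.dvd_of_dvd_mul_left h3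

/-- descent step, exponent 3 -/
lemma descent2 (X : Matrix (Fin n) (Fin n) ℤ)
    (h : (3 : ℤ) • X + (3 : ℤ) • (X * X) + X * X * X = 0) (a : ℕ) (ha : 1 ≤ a)
    (hX : MDvd ((3:ℤ) ^ a) X) : MDvd ((3:ℤ) ^ (a + 1)) X := by
  intro i j
  have h1 : MDvd ((3:ℤ) ^ a * (3:ℤ) ^ a) (X * X) := hX.mul hX
  have h1' : MDvd ((3:ℤ) ^ a * (3:ℤ) ^ a * (3:ℤ) ^ a) (X * X * X) := h1.mul hX
  have h2 : (3 : ℤ) * X i j = - ((3 : ℤ) * (X * X) i j + (X * X * X) i j) := by
    have := congrFun (congrFun h i) j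
    simp only [Matrix.add_apply, Matrix.smul_apply, smul_eq_mul, Matrix.zero_apply] at this
    linarith
  have h3 : (3:ℤ) * (3:ℤ) ^ (a + 1) ∣ (3 : ℤ) * X i j := by
    rw [h2, dvd_neg]
    apply dvd_add
    · apply mul_dvd_mul_left
      refine Dvd.dvd.trans ?_ (h1 i j)
      rw [← pow_add]
      exact pow_dvd_pow _ (by omega)
    · refine Dvd.dvd.trans ?_ (h1' i j)
      rw [← pow_add, ← pow_add, ← pow_succ']
      exact pow_dvd_pow _ (by omega)
  exact (mul_dvd_mul_iff_left (by norm_num)).mp h3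

lemma eq_zero_of_descent (X : Matrix (Fin n) (Fin n) ℤ) (h3 : MDvd 3 X)
    (hstep : ∀ a : ℕ, 1 ≤ a → MDvd ((3:ℤ) ^ a) X → MDvd ((3:ℤ) ^ (a + 1)) X) : X = 0 := by
  apply MDvd.eq_zero
  intro a
  induction a with
  | zero => simpa using MDvd.one X
  | succ a ih =>
    rcases Nat.eq_zero_or_pos a with rfl | ha
    · simpa using h3
    · exact hstep a ha ih

lemma L1 (A : Matrix (Fin n) (Fin n) ℤ) (hA : MDvd 3 (A - 1)) (m : ℕ) (hm : Nat.Coprime m 3)
    (hAm : A ^ m = 1) : A = 1 := by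
  obtain ⟨Y, hY⟩ := one_add_pow_exists (A - 1) m
  rw [add_sub_cancel, hAm] at hY
  have h : (m : ℤ) • (A - 1) + (A - 1) * (A - 1) * Y = 0 := by
    have := hY
    rw [add_assoc] at this
    exact (add_eq_left.mp this.symm)
  have := eq_zero_of_descent (A - 1) hA (descent1 (A - 1) Y m hm h)
  exact sub_eq_zero.mp this

lemma L2 (A : Matrix (Fin n) (Fin n) ℤ) (hA : MDvd 3 (A - 1)) (hA3 : A ^ 3 = 1) : A = 1 := by
  have h : (3 : ℤ) • (A - 1) + (3 : ℤ) • ((A - 1) * (A - 1)) + (A - 1) * (A - 1) * (A - 1) = 0 := by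
    have e : (3 : ℤ) • (A - 1) + (3 : ℤ) • ((A - 1) * (A - 1)) + (A - 1) * (A - 1) * (A - 1)
        = A ^ 3 - 1 := by
      simp only [pow_succ, pow_zero, one_mul, sub_mul, mul_sub, mul_one, one_mul, smul_sub,
        ofNat_smul_eq_nsmul, succ_nsmul, zero_nsmul]
      abel
    rw [e, hA3, sub_self]
  have := eq_zero_of_descent (A - 1) hA (descent2 (A - 1) h)
  exact sub_eq_zero.mp this

lemma mdvd_pow_sub_one (A : Matrix (Fin n) (Fin n) ℤ) (hA : MDvd 3 (A - 1)) (k : ℕ) :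
    MDvd 3 (A ^ k - 1) := by
  induction k with
  | zero => intro i j; simp
  | succ k ih =>
    have : A ^ (k + 1) - 1 = A ^ k * (A - 1) + (A ^ k - 1) := by
      rw [pow_succ, mul_sub, mul_one]; abel
    rw [this]
    exact (hA.mul_left _).add ih

lemma eq_one_of_pow (A : Matrix (Fin n) (Fin n) ℤ) (hA : MDvd 3 (A - 1)) (m : ℕ) (hm : m ≠ 0)
    (hAm : A ^ m = 1) : A = 1 := by
  obtain ⟨e, m', hm', rfl⟩ := Nat.exists_eq_pow_mul_and_not_dvd hm 3 (by norm_num)
  have hcop : Nat.Coprime m' 3 := by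
    rw [Nat.coprime_comm]
    exact (Nat.Prime.coprime_iff_not_dvd Nat.prime_three).mpr hm'
  clear hm
  induction e generalizing A with
  | zero =>
    rw [pow_zero, one_mul] at hAm
    exact L1 A hA m' hcop hAm
  | succ e ih =>
    have h3 : A ^ 3 = 1 := by
      apply ih (A ^ 3) (mdvd_pow_sub_one A hA 3)
      rw [← pow_mul, ← hAm]
      congr 1
      ring
    exact L2 A hA h3

end aux

/-- For every n, the orders of the finite subgroups of GL_n(ℤ) are bounded: there is B such that every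
finite subgroup of GL_n(ℤ) has at most B elements. -/
theorem result (n : ℕ) :
    ∃ B : ℕ, ∀ H : Subgroup (Matrix.GeneralLinearGroup (Fin n) ℤ), Finite H → Nat.card H ≤ B := by
  refine ⟨Nat.card (Matrix (Fin n) (Fin n) (ZMod 3)), ?_⟩
  intro H hH
  let f : H → Matrix (Fin n) (Fin n) (ZMod 3) :=
    fun h => ((h.1 : Matrix (Fin n) (Fin n) ℤ)).map (Int.cast : ℤ → ZMod 3)
  apply Nat.card_le_card_of_injective f
  intro h1 h2 hf
  -- the element g = h1⁻¹ * h2
  have hg : ((h1⁻¹ * h2 : H).1 : Matrix (Fin n) (Fin n) ℤ) = 1 := by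
    obtain ⟨m, hmpos, hm⟩ := (isOfFinOrder_of_finite (h1⁻¹ * h2 : H)).exists_pow_eq_one
    apply eq_one_of_pow _ ?_ m hmpos.ne'
    · have := congrArg (fun x : H => ((x.1 : Matrix (Fin n) (Fin n) ℤ))) hm
      simpa using this
    · have hd : MDvd 3 ((h2.1 : Matrix (Fin n) (Fin n) ℤ) - (h1.1 : Matrix (Fin n) (Fin n) ℤ)) := by
        intro i j
        have := congrFun (congrFun hf i) j
        simp only [f, Matrix.map_apply] at this
        rw [Matrix.sub_apply]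
        exact (ZMod.intCast_eq_intCast_iff_dvd_sub _ _ 3).mp this
      have e : ((h1⁻¹ * h2 : H).1 : Matrix (Fin n) (Fin n) ℤ) - 1 =
          ((h1⁻¹ : H).1 : Matrix (Fin n) (Fin n) ℤ) *
            ((h2.1 : Matrix (Fin n) (Fin n) ℤ) - (h1.1 : Matrix (Fin n) (Fin n) ℤ)) := by
        have h11 : ((h1⁻¹ : H).1 : Matrix (Fin n) (Fin n) ℤ) * (h1.1 : Matrix (Fin n) (Fin n) ℤ) = 1 := by
          have : (h1⁻¹ * h1 : H) = 1 := inv_mul_cancel h1
          have := congrArg (fun x : H => ((x.1 : Matrix (Fin n) (Fin n) ℤ))) this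
          simpa using this
        rw [mul_sub, h11]
        simp
      rw [e]
      exact hd.mul_left _
  have : (h1⁻¹ * h2 : H) = 1 := by
    apply Subtype.ext
    apply Units.ext
    simpa using hg
  exact (inv_mul_eq_one.mp this)

end Groth.Agent.S19590
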