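import Mathlib
import Groth.Statements.S19591
-- import your own Groth.Agent.* helpers here

set_option autoImplicit false
universe u v
open BddFin

namespace Groth.Agent.S19591


/-- Let K be a perfect field of characteristic 2, V a finite-dimensional K-vector space with dim V > 2
and q a quadratic form on V whose polar bilinear form is non-degenerate. Then q represents zero
non-trivially. (Non-degeneracy of the polar form, which is alternating in characteristic 2, forces
dim V to be even, as the published lemma notes.) -/
theorem result
    (K : Type u) [Field K] [CharP K 2] [PerfectField K]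
    (V : Type v) [AddCommGroup V] [Module K V] [FiniteDimensional K V]
    (hV : 2 < Module.finrank K V) (q : QuadraticForm K V)
    (hq : (QuadraticMap.polarBilin q).Nondegenerate) :
    ∃ v : V, v ≠ 0 ∧ q v = 0 := by
  have hpos : 0 < Module.finrank K V := by omega
  obtain ⟨x, hx⟩ := Module.finrank_pos_iff_exists_ne_zero.mp hpos
  by_cases hqx : q x = 0
  · exact ⟨x, hx, hqx⟩
  let φ : V →ₗ[K] K := QuadraticMap.polarBilin q x
  have hker : 2 ≤ Module.finrank K (LinearMap.ker φ) := by
    have := LinearMap.finrank_range_add_finrank_ker φ
    have hr : Module.finrank K (LinearMap.range φ) ≤ 1 := by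
      calc _ ≤ Module.finrank K K := Submodule.finrank_le _
        _ = 1 := Module.finrank_self K
    omega
  have hex : ∃ y ∈ LinearMap.ker φ, y ∉ (K ∙ x) := by
    by_contra hcon
    push Not at hcon
    have hle : LinearMap.ker φ ≤ K ∙ x := hcon
    have := Submodule.finrank_mono hle
    rw [finrank_span_singleton hx] at this
    omega
  obtain ⟨y, hy, hyx⟩ := hex
  haveI : Fact (Nat.Prime 2) := ⟨Nat.prime_two⟩
  haveI : ExpChar K 2 := ExpChar.prime Nat.prime_two
  haveI : PerfectRing K 2 := PerfectField.toPerfectRing 2
  obtain ⟨s, hs⟩ := (bijective_frobenius K 2).2 (q y / q x)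
  refine ⟨s • x + y, ?_, ?_⟩
  · intro h
    apply hyx
    have : y = (-s) • x := by rw [neg_smul]; exact eq_neg_of_add_eq_zero_right h
    rw [this]
    exact Submodule.smul_mem _ _ (Submodule.mem_span_singleton_self x)
  · have h1 : q (s • x + y) = q (s • x) + q y + QuadraticMap.polar q (s • x) y := by
      rw [QuadraticMap.polar]; ring
    have h2 : QuadraticMap.polar q (s • x) y = s * QuadraticMap.polar q x y := by
      rw [QuadraticMap.polar_smul_left]; rfl
    have h3 : QuadraticMap.polar q x y = 0 := by
      have : φ y = 0 := hy
      simpa [φ, QuadraticMap.polarBilin_apply_apply] using this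
    have h4 : q (s • x) = (s * s) * q x := by rw [QuadraticMap.map_smul]; rfl
    have h5 : s * s * q x = q y := by
      have : s ^ 2 = q y / q x := by simpa [frobenius_def] using hs
      rw [← sq, this, div_mul_cancel₀ _ hqx]
    rw [h1, h2, h3, h4, h5, mul_zero, add_zero]
    exact CharTwo.add_self_eq_zero (q y)

end Groth.Agent.S19591
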