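import Groth.Statements.S19595
import Groth.Agent.Lib.Lead.PowSerFix

set_option autoImplicit false
universe u
open ArLef

namespace Groth.Agent.S19595

/-- In the case of a smooth point lying on the divisorial part of the fixed locus with multiplicity i
strictly between 0 and j, let B be a discrete valuation ring with uniformizer π and residue field k,
B[[t]] the complete local ring of a semi-stable arithmetic surface over B at a point x where the
closed fibre is smooth, and σ a ring automorphism of B[[t]] with σ(π) = π + γ π^j (γ a unit of B, j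
≥ 1) and σ(b) - b ∈ π^j B[[t]] for all b ∈ B (σ lies over an automorphism τ of B with v(τ(π) - π) =
j). Suppose σ(t) - t = π^i f with 0 < i < j and π not dividing f, so that the fixed-point ideal I of
σ is (π^j, π^i f) and its divisorial part near x is the closed fibre with multiplicity i. Then the
residual fixed-point scheme, with ideal (I : π^i), has length (j - i) m at x, where m is the length
of k[[t]]/(f mod π) (the order at x of the derivation induced by σ on the closed fibre). -/
theorem result (B : Type u) [CommRing B] [IsDomain B] [IsDiscreteValuationRing B] (π : B) (hπ : Irreducible π)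
    (j i : ℕ) (hi : 0 < i) (hij : i < j) (γ : B) (hγ : IsUnit γ)
    (σ : PowerSeries B ≃+* PowerSeries B)
    (hσB : ∀ b : B, σ (algebraMap B (PowerSeries B) b) - algebraMap B (PowerSeries B) b ∈
      Ideal.span ({algebraMap B (PowerSeries B) (π ^ j)} : Set (PowerSeries B)))
    (hσπ : σ (algebraMap B (PowerSeries B) π) = algebraMap B (PowerSeries B) (π + γ * π ^ j))
    (f : PowerSeries B) (hf : σ PowerSeries.X - PowerSeries.X = algebraMap B (PowerSeries B) (π ^ i) * f)
    (hfπ : ¬ (algebraMap B (PowerSeries B) π ∣ f)) :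
    Module.length (PowerSeries B) (PowerSeries B ⧸ (ArLef.fixIdeal σ).colon ({algebraMap B (PowerSeries B) (π ^ i)} : Set (PowerSeries B))) =
      ((j - i : ℕ) : ℕ∞) * Module.length (PowerSeries (IsLocalRing.ResidueField B)) (PowerSeries (IsLocalRing.ResidueField B) ⧸
        Ideal.span ({PowerSeries.map (IsLocalRing.residue B) f} : Set (PowerSeries (IsLocalRing.ResidueField B)))) := by
  have hσB' : ∀ b : B, σ (PowerSeries.C b) - PowerSeries.C b ∈
      Ideal.span {(PowerSeries.C π ^ j : PowerSeries B)} := by
    intro b
    have h := hσB b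
    rwa [Lib.Lead.PowSerFix.algebraMap_eq_C, Lib.Lead.PowSerFix.algebraMap_eq_C, map_pow] at h
  have hσπ' : σ (PowerSeries.C π) = PowerSeries.C (π + γ * π ^ j) := by
    rw [← Lib.Lead.PowSerFix.algebraMap_eq_C, ← Lib.Lead.PowSerFix.algebraMap_eq_C]; exact hσπ
  have hfπ' : ¬ PowerSeries.C π ∣ f := by
    rwa [Lib.Lead.PowSerFix.algebraMap_eq_C] at hfπ
  have hf' : σ PowerSeries.X - PowerSeries.X = PowerSeries.C π ^ i * f := by
    rw [hf, Lib.Lead.PowSerFix.algebraMap_eq_C, map_pow]
  rw [Lib.Lead.PowSerFix.fixIdeal_eq π j γ hγ σ hσB' hσπ', hf',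
    Lib.Lead.PowSerFix.algebraMap_eq_C, map_pow]
  have hne : (PowerSeries.C π ^ i : PowerSeries B) ≠ 0 :=
    pow_ne_zero _ (Lib.Lead.PowSerFix.C_pi_ne_zero π hπ)
  have hj : (PowerSeries.C π ^ j : PowerSeries B) = PowerSeries.C π ^ (j - i) * PowerSeries.C π ^ i := by
    rw [← pow_add, Nat.sub_add_cancel hij.le]
  have hcolon : (Ideal.span {(PowerSeries.C π ^ j : PowerSeries B), PowerSeries.C π ^ i * f}).colon
      ({PowerSeries.C π ^ i} : Set (PowerSeries B)) =
      Ideal.span {(PowerSeries.C π ^ (j - i) : PowerSeries B), f} := by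
    ext x
    rw [Submodule.mem_colon_singleton, smul_eq_mul]
    constructor
    · intro hx
      obtain ⟨a, b, hab⟩ := Ideal.mem_span_pair.mp hx
      have hx' : x = a * PowerSeries.C π ^ (j - i) + b * f := by
        apply mul_right_cancel₀ hne
        rw [hj] at hab
        linear_combination (-1 : PowerSeries B) * hab
      rw [hx']
      exact Ideal.mem_span_pair.mpr ⟨a, b, rfl⟩
    · intro hx
      obtain ⟨a, b, rfl⟩ := Ideal.mem_span_pair.mp hx
      refine Ideal.mem_span_pair.mpr ⟨a, b, ?_⟩
      rw [hj]; ring
  rw [hcolon]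
  exact Lib.Lead.PowSerFix.length_Ipf' π hπ f hfπ' (j - i)

end Groth.Agent.S19595
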