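import Groth.Statements.S19596
import Groth.Agent.Lib.Lead.NodeLen

set_option autoImplicit false
universe u
open ArLef ArLef.NodeAlg

namespace Groth.Agent.S19596

open Groth.Agent.Lib.Lead.NodeB

section work

variable {B : Type u} [CommRing B] [IsDomain B] [IsDiscreteValuationRing B] (π : B)
  (hπ : Irreducible π)

local notation "NN" => ArLef.NodeAlg B π
local notation "𝔱" => ArLef.NodeAlg.t π
local notation "𝔢" => ArLef.NodeAlg.e π
local notation "ι" => algebraMap B (ArLef.NodeAlg B π)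

include hπ

theorem main (j i₁ i₂ : ℕ) (h12 : i₁ ≤ i₂) (h2 : 0 < i₂) (h2j : i₂ < j) (γ : B) (hγ : IsUnit γ)
    (σ : NN ≃+* NN)
    (hσB : ∀ c : B, σ (ι c) - ι c ∈ Ideal.span ({ι (π ^ j)} : Set NN))
    (hσπ : σ (ι π) = ι (π + γ * π ^ j))
    (α β : (NN)ˣ) (ht : σ 𝔱 = (α : NN) * 𝔱) (he : σ 𝔢 = (β : NN) * 𝔢)
    (a b : NN) (ha : (α : NN) - 1 = 𝔱 ^ i₁ * 𝔢 ^ i₂ * a) (hb : (β : NN) - 1 = 𝔱 ^ i₁ * 𝔢 ^ i₂ * b)
    (hea : ¬ (𝔢 ∣ a)) (htb : ¬ (𝔱 ∣ b)) :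
    Module.length NN (NN ⧸ (ArLef.fixIdeal σ).colon ({𝔱 ^ i₁ * 𝔢 ^ i₂} : Set NN)) =
      1 + ((j - i₁ : ℕ) : ℕ∞) * Module.length NN (NN ⧸ Ideal.span ({𝔱, b} : Set NN)) +
        ((j - i₂ : ℕ) : ℕ∞) * Module.length NN (NN ⧸ Ideal.span ({𝔢, a} : Set NN)) := by
  obtain ⟨j', rfl⟩ : ∃ j', j = j' + 1 := ⟨j - 1, by omega⟩
  obtain ⟨m', hm⟩ : ∃ m', j' = i₁ + m' := ⟨j' - i₁, by omega⟩
  obtain ⟨n', hn⟩ : ∃ n', j' = i₂ + n' := ⟨j' - i₂, by omega⟩
  have hte := t_mul_e π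
  have treg := t_regular π hπ
  have ereg := e_regular π hπ
  have hγu : IsUnit (ι γ) := hγ.map _
  have hαβ : (α : NN) * β = 1 + ι γ * ι π ^ j' := by
    have h1 : ι π * ((α : NN) * β - (1 + ι γ * ι π ^ j')) = 0 := by
      have h2 : σ 𝔱 * σ 𝔢 = ι π + ι γ * ι π ^ (j' + 1) := by
        rw [← map_mul, hte, hσπ, map_add, map_mul, map_pow]
      rw [ht, he] at h2
      have h3 : (α : NN) * 𝔱 * ((β : NN) * 𝔢) = (𝔱 * 𝔢) * ((α : NN) * β) := by ring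
      rw [h3, hte, pow_succ] at h2
      linear_combination h2
    exact sub_eq_zero.mp (pi_regular π hπ _ h1)
  have hpiF : ι γ * ι (π ^ (j' + 1)) ∈ ArLef.fixIdeal σ := by
    have h1 : ι γ * ι (π ^ (j' + 1)) = σ (ι π) - ι π := by
      rw [hσπ, map_add, map_mul]; ring
    rw [h1]; exact mem_fixIdeal σ _
  have hpiF' : ι (π ^ (j' + 1)) ∈ ArLef.fixIdeal σ := (Ideal.unit_mul_mem_iff_mem _ hγu).mp hpiF
  have htj : 𝔱 ^ j' = 𝔱 ^ i₁ * 𝔱 ^ m' := by rw [hm, pow_add]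
  have hej : 𝔢 ^ j' = 𝔢 ^ i₂ * 𝔢 ^ n' := by rw [hn, pow_add]
  have Dreg : ∀ z : NN, (𝔱 ^ i₁ * 𝔢 ^ i₂) * z = 0 → z = 0 :=
    mul_regular (pow_regular treg i₁) (pow_regular ereg i₂)
  have hpow : ι (π ^ (j' + 1)) = (𝔱 ^ i₁ * 𝔢 ^ i₂) * (𝔱 ^ (m' + 1) * 𝔢 ^ (n' + 1)) := by
    rw [map_pow, ← hte, mul_pow, pow_succ, pow_succ 𝔢 j', htj, hej]; ring
  have hF : ArLef.fixIdeal σ = Ideal.span ({(𝔱 ^ i₁ * 𝔢 ^ i₂) * (𝔱 ^ (m' + 1) * 𝔢 ^ (n' + 1)),
      (𝔱 ^ i₁ * 𝔢 ^ i₂) * (𝔱 * a), (𝔱 ^ i₁ * 𝔢 ^ i₂) * (𝔢 * b)} : Set NN) := by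
    apply le_antisymm
    · apply fixIdeal_le π hπ σ
      · intro c
        obtain ⟨w, hw⟩ := Ideal.mem_span_singleton'.mp (hσB c)
        rw [← hw, hpow]
        exact Ideal.mul_mem_left _ _ (Ideal.subset_span (by simp))
      · have : σ 𝔱 - 𝔱 = (𝔱 ^ i₁ * 𝔢 ^ i₂) * (𝔱 * a) := by rw [ht]; linear_combination 𝔱 * ha
        rw [this]; exact Ideal.subset_span (by simp)
      · have : σ 𝔢 - 𝔢 = (𝔱 ^ i₁ * 𝔢 ^ i₂) * (𝔢 * b) := by rw [he]; linear_combination 𝔢 * hb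
        rw [this]; exact Ideal.subset_span (by simp)
    · rw [Ideal.span_le]
      intro x hx
      simp only [Set.mem_insert_iff, Set.mem_singleton_iff] at hx
      rcases hx with rfl | rfl | rfl
      · rw [← hpow]; exact hpiF'
      · have : (𝔱 ^ i₁ * 𝔢 ^ i₂) * (𝔱 * a) = σ 𝔱 - 𝔱 := by rw [ht]; linear_combination (-𝔱) * ha
        rw [this]; exact mem_fixIdeal σ _
      · have : (𝔱 ^ i₁ * 𝔢 ^ i₂) * (𝔢 * b) = σ 𝔢 - 𝔢 := by rw [he]; linear_combination (-𝔢) * hb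
        rw [this]; exact mem_fixIdeal σ _
  have hrel : b * α = ι γ * 𝔱 ^ m' * 𝔢 ^ n' - a := by
    have key : (𝔱 ^ i₁ * 𝔢 ^ i₂) * (b * α - (ι γ * 𝔱 ^ m' * 𝔢 ^ n' - a)) = 0 := by
      rw [← hte, mul_pow, htj, hej] at hαβ
      linear_combination hαβ - (α : NN) * hb - ha
    exact sub_eq_zero.mp (Dreg _ key)
  have hn1 : j' + 1 - i₁ = m' + 1 := by omega
  have hn2 : j' + 1 - i₂ = n' + 1 := by omega
  rw [hF, colon_mul_span_triple Dreg, length_G π hπ m' n' a b α (ι γ) α.isUnit hrel htb hea,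
    hn1, hn2]

end work

/-- In the cases where σ fixes the two branches through the point, these lie on different components,
and the second branch lies in the divisorial part of the fixed locus with multiplicity i₂ strictly
between 0 and j while the first has multiplicity i₁ ≤ i₂, let B be a discrete valuation ring with
uniformizer π, N = B[[t, e]]/(te - π) the complete local ring of a semi-stable arithmetic surface
over B at a singular point x of the closed fibre, and σ a ring automorphism of N with σ(π) = π + γ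
π^j (γ a unit of B, j ≥ 1) and σ(c) - c ∈ π^j N for all c ∈ B. Suppose σ(t) = α t and σ(e) = β e
with units α, β, and α - 1 = t^{i₁} e^{i₂} a, β - 1 = t^{i₁} e^{i₂} b with i₁ ≤ i₂, 0 < i₂ < j, e
not dividing a and t not dividing b. Then, I being the fixed-point ideal of σ, whose divisorial part
near x is t^{i₁} e^{i₂}, the residual fixed-point scheme with ideal (I : t^{i₁} e^{i₂}) has length 1
+ (j - i₁)·Leng N/(t, b) + (j - i₂)·Leng N/(e, a) at x; here Leng N/(t, b) + i₂ + 1 and Leng N/(e,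
a) + i₁ + 1 are the orders at x of the derivations σ induces on the two components (the fixed-point
multiplicities when the component is outside the divisorial part). -/
theorem result (B : Type u) [CommRing B] [IsDomain B] [IsDiscreteValuationRing B] (π : B) (hπ : Irreducible π)
    (j i₁ i₂ : ℕ) (h12 : i₁ ≤ i₂) (h2 : 0 < i₂) (h2j : i₂ < j) (γ : B) (hγ : IsUnit γ)
    (σ : ArLef.NodeAlg B π ≃+* ArLef.NodeAlg B π)
    (hσB : ∀ c : B, σ (algebraMap B (ArLef.NodeAlg B π) c) - algebraMap B (ArLef.NodeAlg B π) c ∈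
      Ideal.span ({algebraMap B (ArLef.NodeAlg B π) (π ^ j)} : Set (ArLef.NodeAlg B π)))
    (hσπ : σ (algebraMap B (ArLef.NodeAlg B π) π) = algebraMap B (ArLef.NodeAlg B π) (π + γ * π ^ j))
    (α β : (ArLef.NodeAlg B π)ˣ) (ht : σ (ArLef.NodeAlg.t π) = (α : ArLef.NodeAlg B π) * ArLef.NodeAlg.t π) (he : σ (ArLef.NodeAlg.e π) = (β : ArLef.NodeAlg B π) * ArLef.NodeAlg.e π)
    (a b : ArLef.NodeAlg B π) (ha : (α : ArLef.NodeAlg B π) - 1 = ArLef.NodeAlg.t π ^ i₁ * ArLef.NodeAlg.e π ^ i₂ * a) (hb : (β : ArLef.NodeAlg B π) - 1 = ArLef.NodeAlg.t π ^ i₁ * ArLef.NodeAlg.e π ^ i₂ * b)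
    (hea : ¬ (ArLef.NodeAlg.e π ∣ a)) (htb : ¬ (ArLef.NodeAlg.t π ∣ b)) :
    Module.length (ArLef.NodeAlg B π) (ArLef.NodeAlg B π ⧸ (ArLef.fixIdeal σ).colon ({ArLef.NodeAlg.t π ^ i₁ * ArLef.NodeAlg.e π ^ i₂} : Set (ArLef.NodeAlg B π))) =
      1 + ((j - i₁ : ℕ) : ℕ∞) * Module.length (ArLef.NodeAlg B π) (ArLef.NodeAlg B π ⧸ Ideal.span ({ArLef.NodeAlg.t π, b} : Set (ArLef.NodeAlg B π))) +
        ((j - i₂ : ℕ) : ℕ∞) * Module.length (ArLef.NodeAlg B π) (ArLef.NodeAlg B π ⧸ Ideal.span ({ArLef.NodeAlg.e π, a} : Set (ArLef.NodeAlg B π))) := by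
  exact main π hπ j i₁ i₂ h12 h2 h2j γ hγ σ hσB hσπ α β ht he a b ha hb hea htb

end Groth.Agent.S19596
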