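import Groth.Statements.S19602
import Groth.Agent.Lib.Helper28.OrbitPts

set_option autoImplicit false
universe u
open GIT

namespace Groth.Agent.S19602

/-- Let k be an algebraically closed field, G = Spec A a linearly reductive affine algebraic group over
k, and U = Spec R an affine k-scheme of finite type on which G acts. Two k-points x₁, x₂ of U have
the same image in U//G = Spec R^G if and only if the closures of their orbits have a common k-point.
Stated in coaction form. The published statement allows any affine U and asks only that the two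
orbit closures meet; this row assumes U of finite type over k and asks for a common k-point, which
is then equivalent. -/
theorem result (k : Type u) [Field k] [IsAlgClosed k]
    (A : Type u) [CommRing A] [HopfAlgebra k A] [Algebra.FiniteType k A] (hG : HopfRep.IsLinearlyReductive k A)
    (R : Type u) [CommRing R] [Algebra k R] [Algebra.FiniteType k R] [HopfRep.Comod k A R] [GLin.IsCoactAlg k A R]
    (x₁ x₂ : R →ₐ[k] k) :
    x₁.comp (GLin.invariants k A R).val = x₂.comp (GLin.invariants k A R).val ↔
      ∃ z : R →ₐ[k] k, GLin.InOrbitClosure k A x₁ z ∧ GLin.InOrbitClosure k A x₂ z := by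
  have htame := Groth.Agent.Lib.Helper28.TameAct.exists_totalIntegral_of_isLinearlyReductive (B := R) hG
  have hL : x₁.comp (GLin.invariants k A R).val = x₂.comp (GLin.invariants k A R).val ↔
      ∀ f ∈ GLin.invariants k A R, x₁ f = x₂ f := by
    constructor
    · intro h f hf
      exact congrArg (fun φ => φ ⟨f, hf⟩) h
    · intro h
      apply AlgHom.ext
      intro f
      exact h f.1 f.2
  rw [hL]
  constructor
  · intro h
    have hne := Groth.Agent.Lib.Helper28.OrbitPts.ker_orbitHom_sup_ne_top htame x₁ x₂ h
    obtain ⟨n, hn, hle⟩ := Ideal.exists_le_maximal _ hne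
    haveI := hn
    obtain ⟨z, hz⟩ := Groth.Agent.Lib.Helper28.TameAct.exists_point_of_isMaximal (k := k) n
    refine ⟨z, fun f hf => ?_, fun f hf => ?_⟩
    · exact (hz f).mpr (hle (Ideal.mem_sup_left hf))
    · exact (hz f).mpr (hle (Ideal.mem_sup_right hf))
  · rintro ⟨z, hz1, hz2⟩ f hf
    have key : ∀ w : R →ₐ[k] k, GLin.InOrbitClosure k A w z → z f = w f := by
      intro w hw
      have hf' : HopfRep.Comod.coact (k := k) (A := A) f = f ⊗ₜ[k] (1 : A) := hf
      have h1 : f - algebraMap k R (w f) ∈ RingHom.ker (GLin.orbitHom k A w) := by
        rw [RingHom.mem_ker, map_sub, AlgHom.commutes,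
          Groth.Agent.Lib.Helper28.OrbitPts.orbitHom_apply, hf',
          Groth.Agent.Lib.Helper28.OrbitPts.oMap_tmul, Algebra.algebraMap_eq_smul_one, sub_self]
      have h2 := hw h1
      rw [RingHom.mem_ker, map_sub, AlgHom.commutes, sub_eq_zero] at h2
      exact h2
    rw [← key x₁ hz1, ← key x₂ hz2]

end Groth.Agent.S19602
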