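import Groth.Statements.S19603
import Groth.Agent.Lib.Helper28.Nullform

set_option autoImplicit false
universe u
open GIT

namespace Groth.Agent.S19603

/-- For the whole projective space U = P(V), let k be an algebraically closed field of arbitrary
characteristic and G = Spec A a linearly reductive affine algebraic group acting linearly on affine
ι-space, and let v be a vector. Then some invariant homogeneous polynomial of positive degree is
non-zero at v (the point of v is semistable) if and only if the origin is not in the closure of the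
orbit of v. -/
theorem result (k : Type u) [Field k] [IsAlgClosed k]
    (A : Type u) [CommRing A] [HopfAlgebra k A] [Algebra.FiniteType k A] (hG : HopfRep.IsLinearlyReductive k A)
    (ι : Type u) [Fintype ι] [HopfRep.Comod k A (MvPolynomial ι k)] [GLin.IsCoactAlg k A (MvPolynomial ι k)]
    (hlin : GLin.IsLinear k A ι) (v : ι → k) :
    GLin.IsSemistableVec k A v ↔
      ¬ GLin.InOrbitClosure k A (GLin.vecPt k ι v) (GLin.vecPt k ι (fun _ => (0 : k))) := by
  obtain ⟨I, hI⟩ := Groth.Agent.Lib.Helper28.ComodIntegral.exists_isIntegral_of_isLinearlyReductive hG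
  have htame := Groth.Agent.Lib.Helper28.TameAct.exists_totalIntegral_of_isLinearlyReductive
    (B := MvPolynomial ι k) hG
  unfold GLin.IsSemistableVec
  rw [not_iff_not]
  constructor
  · intro hv
    have h : ∀ f ∈ GLin.invariants k A (MvPolynomial ι k),
        (GLin.vecPt k ι v) f = (GLin.vecPt k ι (fun _ => (0 : k))) f := by
      intro f hf
      exact Groth.Agent.Lib.Helper28.Nullform.eval_eq_of_isNullform hlin I hI v hv f hf
    have hne := Groth.Agent.Lib.Helper28.OrbitPts.ker_orbitHom_sup_ne_top htame _ _ h
    obtain ⟨n, hn, hle⟩ := Ideal.exists_le_maximal _ hne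
    haveI := hn
    obtain ⟨z, hz⟩ := Groth.Agent.Lib.Helper28.TameAct.exists_point_of_isMaximal (k := k) n
    have hz0 : z = GLin.vecPt k ι (fun _ => (0 : k)) := by
      apply MvPolynomial.algHom_ext
      intro i
      rw [MvPolynomial.aeval_X]
      apply (hz _).mpr
      apply hle
      apply Ideal.mem_sup_right
      rw [RingHom.mem_ker, Groth.Agent.Lib.Helper28.OrbitPts.orbitHom_apply]
      obtain ⟨m, hm⟩ := hlin i
      rw [hm, map_sum]
      simp [Groth.Agent.Lib.Helper28.OrbitPts.oMap_tmul]
    intro f hf
    rw [← hz0, RingHom.mem_ker]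
    exact (hz f).mpr (hle (Ideal.mem_sup_left hf))
  · intro hcl F hF d hd hFd
    have hF' : HopfRep.Comod.coact (k := k) (A := A) F = F ⊗ₜ[k] (1 : A) := hF
    have h1 : F - algebraMap k (MvPolynomial ι k) (GLin.vecPt k ι v F) ∈
        RingHom.ker (GLin.orbitHom k A (GLin.vecPt k ι v)) := by
      rw [RingHom.mem_ker, map_sub, AlgHom.commutes,
        Groth.Agent.Lib.Helper28.OrbitPts.orbitHom_apply, hF',
        Groth.Agent.Lib.Helper28.OrbitPts.oMap_tmul, Algebra.algebraMap_eq_smul_one, sub_self]
    have h2 := hcl h1
    rw [RingHom.mem_ker, map_sub, AlgHom.commutes, sub_eq_zero] at h2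
    have h3 : MvPolynomial.eval (fun _ => (0 : k)) F = 0 :=
      Groth.Agent.Lib.Helper28.Nullform.eval_zero_of_isHomogeneous hd hFd
    have h4 : (GLin.vecPt k ι (fun _ => (0 : k))) F = MvPolynomial.eval (fun _ => (0 : k)) F := rfl
    have h5 : (GLin.vecPt k ι v) F = MvPolynomial.eval v F := rfl
    rw [← h5, ← Algebra.algebraMap_self_apply (R := k) ((GLin.vecPt k ι v) F), ← h2, h4, h3]

end Groth.Agent.S19603
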