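import Mathlib
import Groth.Statements.S19609

set_option autoImplicit false
universe u
open CartMod

namespace Groth.Agent.S19609

/-- Let p be a prime and u : A → B a ring homomorphism between commutative rings which are complete and
separated for the p-adic topology and have no p-torsion (flat over the p-adic base). If u induces a
bijection A/pA → B/pB (injectivity: u a ∈ pB forces a ∈ pA; surjectivity: every b ∈ B is congruent
to some u a modulo pB), then u is bijective. (The published statement is for a morphism of flat
p-adic formal schemes over the Witt vectors of a perfect field: if its special fibre is an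
isomorphism, so is the morphism; this row is its affine, ring-level case.) -/
theorem result (p : ℕ) [Fact p.Prime]
    {A B : Type u} [CommRing A] [CommRing B]
    [IsAdicComplete (Ideal.span {(p : A)}) A] [IsAdicComplete (Ideal.span {(p : B)}) B]
    (hA : IsSMulRegular A (p : A)) (hB : IsSMulRegular B (p : B)) (u : A →+* B)
    (hinj : ∀ a : A, u a ∈ Ideal.span {(p : B)} → a ∈ Ideal.span {(p : A)})
    (hsurj : ∀ b : B, ∃ a : A, b - u a ∈ Ideal.span {(p : B)}) :
    Function.Bijective u := by
  have hpowA : ∀ n : ℕ, (Ideal.span {(p : A)} ^ n • (⊤ : Submodule A A)) = Ideal.span {(p : A) ^ n} := by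
    intro n
    rw [Ideal.span_singleton_pow, smul_eq_mul, Ideal.mul_top]
  have hpowB : ∀ n : ℕ, (Ideal.span {(p : B)} ^ n • (⊤ : Submodule B B)) = Ideal.span {(p : B) ^ n} := by
    intro n
    rw [Ideal.span_singleton_pow, smul_eq_mul, Ideal.mul_top]
  have hup : u (p : A) = (p : B) := map_natCast u p
  constructor
  · -- injective
    rw [injective_iff_map_eq_zero]
    have hstep : ∀ n : ℕ, ∀ a : A, u a = 0 → a ∈ Ideal.span {(p : A) ^ n} := by
      intro n
      induction n with
      | zero => intro a _; simp
      | succ n ih =>
        intro a ha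
        have h1 : a ∈ Ideal.span {(p : A)} := hinj a (by rw [ha]; exact Submodule.zero_mem _)
        obtain ⟨a1, rfl⟩ := Ideal.mem_span_singleton.mp h1
        have h2 : u a1 = 0 := by
          apply hB
          show (p : B) • u a1 = (p : B) • (0 : B)
          rw [smul_eq_mul, smul_eq_mul, mul_zero, ← hup, ← map_mul, ha]
        obtain ⟨c, hc⟩ := Ideal.mem_span_singleton.mp (ih a1 h2)
        rw [Ideal.mem_span_singleton]
        exact ⟨c, by rw [hc, pow_succ]; ring⟩
    intro a ha
    apply IsHausdorff.haus (IsAdicComplete.toIsHausdorff (I := Ideal.span {(p : A)}) (M := A)) a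
    intro n
    rw [SModEq.zero, hpowA]
    exact hstep n a ha
  · -- surjective
    intro b
    choose g hg using hsurj
    have hr : ∀ b' : B, ∃ r : B, b' - u (g b') = (p : B) * r := fun b' =>
      Ideal.mem_span_singleton.mp (hg b')
    choose r hr using hr
    let bseq : ℕ → B := fun n => r^[n] b
    let s : ℕ → A := fun n => ∑ i ∈ Finset.range n, (p : A) ^ i * g (bseq i)
    have key : ∀ n, b = u (s n) + (p : B) ^ n * bseq n := by
      intro n
      induction n with
      | zero => simp [s, bseq]
      | succ n ih =>
        have h1 : s (n + 1) = s n + (p : A) ^ n * g (bseq n) := Finset.sum_range_succ _ _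
        have h2 : bseq (n + 1) = r (bseq n) := Function.iterate_succ_apply' r n b
        have h3 := hr (bseq n)
        rw [h1, h2, map_add, map_mul, map_pow, hup]
        have h4 : bseq n = u (g (bseq n)) + (p : B) * r (bseq n) := by rw [← h3]; ring
        conv_lhs => rw [ih]
        conv_lhs => rw [h4]
        ring
    have hcauchy : ∀ {m n : ℕ}, m ≤ n →
        s m ≡ s n [SMOD (Ideal.span {(p : A)} ^ m • (⊤ : Submodule A A))] := by
      intro m n hmn
      rw [SModEq.sub_mem, hpowA, ← neg_sub, neg_mem_iff]
      have : s n - s m = ∑ i ∈ Finset.Ico m n, (p : A) ^ i * g (bseq i) := by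
        rw [Finset.sum_Ico_eq_sub _ hmn]
      rw [this]
      refine Ideal.sum_mem _ fun i hi => ?_
      rw [Ideal.mem_span_singleton]
      have hmi : m ≤ i := (Finset.mem_Ico.mp hi).1
      exact Dvd.dvd.mul_right (pow_dvd_pow _ hmi) _
    obtain ⟨L, hL⟩ := IsPrecomplete.prec
      (IsAdicComplete.toIsPrecomplete (I := Ideal.span {(p : A)}) (M := A)) hcauchy
    refine ⟨L, ?_⟩
    symm
    rw [← sub_eq_zero]
    apply IsHausdorff.haus (IsAdicComplete.toIsHausdorff (I := Ideal.span {(p : B)}) (M := B))
    intro n
    rw [SModEq.zero, hpowB]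
    have h1 := hL n
    rw [SModEq.sub_mem, hpowA] at h1
    obtain ⟨c, hc⟩ := Ideal.mem_span_singleton.mp h1
    rw [Ideal.mem_span_singleton]
    refine ⟨bseq n + u c, ?_⟩
    have h2 : u (s n) - u L = (p : B) ^ n * u c := by
      rw [← map_sub, hc, map_mul, map_pow, hup]
    calc b - u L = (u (s n) + (p : B) ^ n * bseq n) - u L := by rw [← key n]
      _ = (u (s n) - u L) + (p : B) ^ n * bseq n := by ring
      _ = (p : B) ^ n * (bseq n + u c) := by rw [h2]; ring

end Groth.Agent.S19609
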