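import Mathlib
import Groth.Statements.S19610
import Groth.Agent.Lib.Helper8.LocalCriterion

set_option autoImplicit false
universe u
open scoped TensorProduct
open CartMod

namespace Groth.Agent.S19610.Aux

section H2

/-- every element of `(π̄) ⊗ M` is `π̄ ⊗ m`. -/
lemma exists_tmul {R M : Type*} [CommRing R] [AddCommGroup M] [Module R M] (ϖ : R)
    (z : (Ideal.span {ϖ} : Ideal R) ⊗[R] M) :
    ∃ m : M, z = (⟨ϖ, Ideal.subset_span (Set.mem_singleton ϖ)⟩ : (Ideal.span {ϖ} : Ideal R)) ⊗ₜ m := by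
  induction z using TensorProduct.induction_on with
  | zero => exact ⟨0, by rw [TensorProduct.tmul_zero]⟩
  | tmul i m =>
    obtain ⟨i, hi⟩ := i
    obtain ⟨a, rfl⟩ := Ideal.mem_span_singleton'.mp hi
    refine ⟨a • m, ?_⟩
    rw [← TensorProduct.smul_tmul]
    congr 1
  | add x y hx hy =>
    obtain ⟨m1, rfl⟩ := hx
    obtain ⟨m2, rfl⟩ := hy
    exact ⟨m1 + m2, by rw [TensorProduct.tmul_add]⟩

variable {A B : Type u} [CommRing A] [AddCommGroup B] [Module A B]

lemma exists_eq_pow_smul (π : A) (k : ℕ) (hB : ∀ b : B, π • b = 0 → b = 0)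
    (m : (A ⧸ Ideal.span {π} ^ (k + 1)) ⊗[A] B) (hm : π • m = 0) :
    ∃ m' : (A ⧸ Ideal.span {π} ^ (k + 1)) ⊗[A] B, m = π ^ k • m' := by
  let e := TensorProduct.quotTensorEquivQuotSMul B (Ideal.span {π} ^ (k + 1))
  obtain ⟨b, hb⟩ := Submodule.Quotient.mk_surjective _ (e m)
  have h1 : e (π • m) = 0 := by rw [hm, map_zero]
  rw [map_smul, ← hb, ← Submodule.Quotient.mk_smul, Submodule.Quotient.mk_eq_zero,
    Ideal.span_singleton_pow, Submodule.ideal_span_singleton_smul,
    Submodule.mem_smul_pointwise_iff_exists] at h1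
  obtain ⟨b', -, hb'⟩ := h1
  have h2 : b = π ^ k • b' := by
    have : π • (b - π ^ k • b') = 0 := by
      rw [smul_sub, ← hb', ← mul_smul, ← pow_succ', sub_self]
    exact sub_eq_zero.mp (hB _ this)
  refine ⟨e.symm (Submodule.Quotient.mk b'), ?_⟩
  rw [← map_smul, ← Submodule.Quotient.mk_smul, ← h2, hb, LinearEquiv.symm_apply_apply]

lemma rTensor_injective (π : A) (k : ℕ) (hB : ∀ b : B, π • b = 0 → b = 0)
    (ϖ : A ⧸ Ideal.span {π} ^ (k + 1)) (hϖ : ϖ = Ideal.Quotient.mk _ π) :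
    Function.Injective ((Ideal.span {ϖ}).subtype.rTensor
      ((A ⧸ Ideal.span {π} ^ (k + 1)) ⊗[A] B)) := by
  rw [injective_iff_map_eq_zero]
  intro z hz
  obtain ⟨m, rfl⟩ := exists_tmul ϖ z
  rw [LinearMap.rTensor_tmul, Submodule.subtype_apply] at hz
  have h1 : ϖ • m = 0 := by
    have := congrArg (TensorProduct.lid (A ⧸ Ideal.span {π} ^ (k + 1)) _) hz
    rwa [TensorProduct.lid_tmul, map_zero] at this
  have h2 : π • m = 0 := by
    rw [← algebraMap_smul (A ⧸ Ideal.span {π} ^ (k + 1)) π m, Ideal.Quotient.algebraMap_eq,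
      ← hϖ, h1]
  obtain ⟨m', rfl⟩ := exists_eq_pow_smul π k hB m h2
  rw [← algebraMap_smul (A ⧸ Ideal.span {π} ^ (k + 1)) (π ^ k) m', TensorProduct.tmul_smul,
    TensorProduct.smul_tmul']
  have : (algebraMap A (A ⧸ Ideal.span {π} ^ (k + 1)) (π ^ k)) •
      (⟨ϖ, Ideal.subset_span (Set.mem_singleton ϖ)⟩ : (Ideal.span {ϖ} : Ideal _)) = 0 := by
    apply Subtype.ext
    show algebraMap A (A ⧸ Ideal.span {π} ^ (k + 1)) (π ^ k) • ϖ = 0
    rw [hϖ, Ideal.Quotient.algebraMap_eq, smul_eq_mul, ← map_mul, ← pow_succ,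
      Ideal.Quotient.eq_zero_iff_mem]
    exact Ideal.pow_mem_pow (Ideal.subset_span (Set.mem_singleton π)) _
  rw [this, TensorProduct.zero_tmul]

end H2

section H1
variable {A B : Type u} [CommRing A] [AddCommGroup B] [Module A B]

/-- transport flatness of `M/JM` over `A/J` to `S ⊗_A M` over any `A`-algebra `S` killed by `J`. -/
lemma flat_of_quot (J : Ideal A) (S : Type u) [CommRing S] [Algebra A S]
    (hJ : ∀ a ∈ J, algebraMap A S a = 0)
    (h : Module.Flat (A ⧸ J) ((A ⧸ J) ⊗[A] B)) : Module.Flat S (S ⊗[A] B) := by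
  let _ : Algebra (A ⧸ J) S := (Ideal.Quotient.lift J (algebraMap A S) hJ).toAlgebra
  have : IsScalarTower A (A ⧸ J) S :=
    IsScalarTower.of_algebraMap_eq (fun a => (Ideal.Quotient.lift_mk J _ hJ).symm)
  exact Module.Flat.of_linearEquiv
    (TensorProduct.AlgebraTensorModule.cancelBaseChange A (A ⧸ J) S S B).symm

end H1

theorem main (p : ℕ)
    {A B : Type u} [CommRing A] [CommRing B] [Algebra A B]
    (hB : IsSMulRegular B (p : B))
    (h : Module.Flat (A ⧸ Ideal.span {(p : A)}) ((A ⧸ Ideal.span {(p : A)}) ⊗[A] B))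
    (n : ℕ) (hn : 1 ≤ n) :
    Module.Flat (A ⧸ (Ideal.span {(p : A)} ^ n)) ((A ⧸ (Ideal.span {(p : A)} ^ n)) ⊗[A] B) := by
  obtain ⟨k, rfl⟩ : ∃ k, n = k + 1 := ⟨n - 1, by omega⟩
  have hϖ : ((p : ℕ) : A ⧸ (Ideal.span {(p : A)} ^ (k + 1))) = Ideal.Quotient.mk _ (p : A) :=
    (map_natCast (Ideal.Quotient.mk _) p).symm
  have hB' : ∀ b : B, (p : A) • b = 0 → b = 0 := by
    intro b hb
    rw [Algebra.smul_def, map_natCast] at hb
    have : (p : B) • b = (p : B) • (0 : B) := by rw [smul_eq_mul, hb, smul_zero]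
    exact hB this
  apply Groth.Agent.Lib.Helper8.flat_of_isNilpotent
    (Ideal.span {((p : ℕ) : A ⧸ (Ideal.span {(p : A)} ^ (k + 1)))})
  · refine ⟨k + 1, ?_⟩
    refine (Ideal.span_singleton_pow _ _).trans (Ideal.span_singleton_eq_bot.mpr ?_)
    rw [hϖ, ← map_pow, Ideal.Quotient.eq_zero_iff_mem]
    exact Ideal.pow_mem_pow (Ideal.subset_span (Set.mem_singleton _)) _
  · have hJ : ∀ a ∈ Ideal.span {(p : A)}, algebraMap A
        ((A ⧸ (Ideal.span {(p : A)} ^ (k + 1))) ⧸
          Ideal.span {((p : ℕ) : A ⧸ (Ideal.span {(p : A)} ^ (k + 1)))}) a = 0 := by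
      intro a ha
      obtain ⟨c, rfl⟩ := Ideal.mem_span_singleton'.mp ha
      rw [IsScalarTower.algebraMap_apply A (A ⧸ (Ideal.span {(p : A)} ^ (k + 1))),
        Ideal.Quotient.algebraMap_eq, Ideal.Quotient.algebraMap_eq, Ideal.Quotient.eq_zero_iff_mem,
        map_mul, ← hϖ]
      exact Ideal.mul_mem_left _ _ (Ideal.subset_span (Set.mem_singleton _))
    have := flat_of_quot (B := B) (Ideal.span {(p : A)}) _ hJ h
    exact Module.Flat.of_linearEquiv
      (TensorProduct.AlgebraTensorModule.cancelBaseChange A (A ⧸ (Ideal.span {(p : A)} ^ (k + 1)))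
        _ _ B)
  · exact rTensor_injective (p : A) k hB' _ hϖ

end Groth.Agent.S19610.Aux

namespace Groth.Agent.S19610

/-- Let p be a prime and B a commutative algebra over the commutative ring A, both complete and
separated for the p-adic topology and both without p-torsion (flat over the p-adic base). If B/pB is
flat over A/pA, then B/p^nB is flat over A/p^nA for every n ≥ 1 (the quotients are written as base
changes (A/p^n) ⊗_A B). (The published statement is for a morphism of flat p-adic formal schemes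
over the Witt vectors of a perfect field: if its special fibre is flat, so are the induced morphisms
of schemes modulo every power of p; this row is its affine, ring-level case.) -/
theorem result (p : ℕ) [Fact p.Prime]
    {A B : Type u} [CommRing A] [CommRing B] [Algebra A B]
    [IsAdicComplete (Ideal.span {(p : A)}) A] [IsAdicComplete (Ideal.span {(p : B)}) B]
    (hA : IsSMulRegular A (p : A)) (hB : IsSMulRegular B (p : B))
    (h : Module.Flat (A ⧸ Ideal.span {(p : A)}) ((A ⧸ Ideal.span {(p : A)}) ⊗[A] B))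
    (n : ℕ) (hn : 1 ≤ n) :
    Module.Flat (A ⧸ (Ideal.span {(p : A)} ^ n)) ((A ⧸ (Ideal.span {(p : A)} ^ n)) ⊗[A] B) := by
  exact Aux.main p hB h n hn

end Groth.Agent.S19610
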