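import Mathlib
import Groth.Statements.S19611
-- import your own Groth.Agent.* helpers here

set_option autoImplicit false
universe u
open CategoryTheory AlgebraicGeometry
open CartMod

namespace Groth.Agent.S19611.Aux

theorem epi_of_surjective_of_app_injective {X W : Scheme.{u}} (f : X ⟶ W)
    (hs : Function.Surjective f) (hi : ∀ V : W.Opens, Function.Injective (f.app V)) : Epi f := by
  constructor
  intro Z g₁ g₂ h
  have hbase : g₁.base = g₂.base := by
    ext y
    obtain ⟨x, rfl⟩ := hs y
    have := congr($h x)
    simpa using this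
  refine Scheme.Hom.ext hbase (fun U => ?_)
  have : Mono (f.app (g₂ ⁻¹ᵁ U)) := ConcreteCategory.mono_of_injective _ (hi _)
  have hU : g₂ ⁻¹ᵁ U = g₁ ⁻¹ᵁ U := congr((TopologicalSpace.Opens.map $hbase.symm).obj U)
  have key : g₁.app U ≫ f.app (g₁ ⁻¹ᵁ U) =
      (g₂.app U ≫ f.app (g₂ ⁻¹ᵁ U)) ≫ X.presheaf.map (eqToHom (by rw [hU])).op :=
    Scheme.Hom.congr_app h U
  rw [← cancel_mono (f.app (g₂ ⁻¹ᵁ U)), Category.assoc, Scheme.Hom.naturality,
    ← Category.assoc, key, Category.assoc, Category.assoc, ← Functor.map_comp]
  have h1 : ∀ (V : X.Opens) (i : Opposite.op V ⟶ Opposite.op V), X.presheaf.map i = 𝟙 _ := by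
    intro V i
    rw [Subsingleton.elim i (𝟙 _), X.presheaf.map_id]
  rw [h1, Category.comp_id]

end Groth.Agent.S19611.Aux

namespace Groth.Agent.S19611.Aux2
open Groth.Agent.S19611.Aux

theorem main (p : ℕ) [Fact p.Prime] (Y : Scheme.{u}) [FrobSch.IsCharP Y p] :
    Epi (FrobSch.frob Y p).toImage := by
  have hqc : QuasiCompact (FrobSch.frob Y p) := by
    constructor
    intro U _ hU
    exact hU
  apply epi_of_surjective_of_app_injective
  · intro y
    refine ⟨(FrobSch.frob Y p).imageι y, ?_⟩
    apply (FrobSch.frob Y p).imageι.isEmbedding.injective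
    have h1 : ((FrobSch.frob Y p).toImage ≫ (FrobSch.frob Y p).imageι)
        ((FrobSch.frob Y p).imageι y) = (FrobSch.frob Y p) ((FrobSch.frob Y p).imageι y) := by
      rw [Scheme.Hom.toImage_imageι]
    rw [Scheme.Hom.comp_apply, FrobSch.frob_apply] at h1
    exact h1
  · intro V
    exact TopCat.Presheaf.app_injective_of_stalkFunctor_map_injective
      (F := (FrobSch.frob Y p).image.sheaf) (FrobSch.frob Y p).toImage.c V
      (fun x _ => Scheme.Hom.stalkFunctor_toImage_injective _ x)

end Groth.Agent.S19611.Aux2

namespace Groth.Agent.S19611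

/-- For a prime p and a scheme Y of characteristic p, write Y♭ for the scheme-theoretic image of the
absolute Frobenius F_Y : Y → Y, i.e. the closed subscheme of Y defined by the sections of O_Y whose
p-th power vanishes, and Y → Y♭ for the canonical morphism through which F_Y factors. Then Y → Y♭ is
an epimorphism of schemes: two morphisms g₁, g₂ from Y♭ to a scheme Z with equal composites Y → Y♭ →
Z are equal. (The published statement is for k-morphisms g₁, g₂ from Y♭ to a k-scheme Z over a
perfect field k of characteristic p, compared after Frobenius twist through Y → (Y♭)'; this row asks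
right-cancellation against morphisms to every scheme Z, which is equivalent to it for k-morphisms.) -/
theorem result (p : ℕ) [Fact p.Prime] (Y : Scheme.{u}) [FrobSch.IsCharP Y p] :
    Epi (FrobSch.frob Y p).toImage := by
  exact Aux2.main p Y

end Groth.Agent.S19611
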