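import Mathlib
import Groth.Statements.S19612
-- import your own Groth.Agent.* helpers here

set_option autoImplicit false
universe u
open scoped TensorProduct
open CartMod

namespace Groth.Agent.S19612.Aux

/-- If `M/π^{m+1}` is flat over `R/π^{m+1}` and `π a = 0` then `a ∈ π^m M`. -/
theorem mem_of_flat_quot {R M : Type*} [CommRing R] [IsDomain R] [AddCommGroup M] [Module R M]
    (π : R) (hπ : π ≠ 0) (m : ℕ)
    [hflat : Module.Flat (R ⧸ (Ideal.span {π} ^ (m + 1)))
      ((R ⧸ (Ideal.span {π} ^ (m + 1))) ⊗[R] M)]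
    (a : M) (ha : π • a = 0) : a ∈ (Ideal.span {π} ^ m • ⊤ : Submodule R M) := by
  set I : Ideal R := Ideal.span {π} ^ (m + 1) with hI
  have hrel : ∑ _i : Unit, (Ideal.Quotient.mk I π) • ((1 : R ⧸ I) ⊗ₜ[R] a) = 0 := by
    rw [Fintype.sum_unique, TensorProduct.smul_tmul', smul_eq_mul, mul_one]
    have : (Ideal.Quotient.mk I π) = π • (1 : R ⧸ I) := by
      rw [Algebra.smul_def, mul_one, Ideal.Quotient.algebraMap_eq]
    rw [this, TensorProduct.smul_tmul, ha, TensorProduct.tmul_zero]
  obtain ⟨k, c, y, hxy, hc⟩ := Module.Flat.isTrivialRelation_of_sum_smul_eq_zero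
    (f := fun _ : Unit => Ideal.Quotient.mk I π) (x := fun _ : Unit => (1 : R ⧸ I) ⊗ₜ[R] a) hrel
  have hc' : ∀ j, ∃ s : R, c () j = Ideal.Quotient.mk I (π ^ m * s) := by
    intro j
    obtain ⟨r, hr⟩ := Ideal.Quotient.mk_surjective (c () j)
    have h1 := hc j
    rw [Fintype.sum_unique] at h1
    change Ideal.Quotient.mk I π * c () j = 0 at h1
    rw [← hr, ← map_mul,
      Ideal.Quotient.eq_zero_iff_mem, hI, Ideal.span_singleton_pow,
      Ideal.mem_span_singleton, pow_succ'] at h1
    obtain ⟨s, hs⟩ := (mul_dvd_mul_iff_left hπ).mp h1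
    exact ⟨s, by rw [← hr, hs]⟩
  choose s hs using hc'
  let e := TensorProduct.quotTensorEquivQuotSMul M I
  have hb : ∀ j, ∃ b : M, e (y j) = Submodule.Quotient.mk b :=
    fun j => (Submodule.Quotient.mk_surjective _ (e (y j))).imp (fun _ h => h.symm)
  choose b hb using hb
  have h2 := congrArg e (hxy ())
  change e ((1 : R ⧸ I) ⊗ₜ[R] a) = _ at h2
  rw [TensorProduct.quotTensorEquivQuotSMul_mk_one_tmul, map_sum] at h2
  have h3 : ∀ j, e (c () j • y j) = Submodule.Quotient.mk ((π ^ m * s j) • b j) := by
    intro j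
    rw [hs j, Submodule.Quotient.mk_smul, ← hb j, ← map_smul]
    congr 1
  simp_rw [h3] at h2
  have h2' : (Submodule.Quotient.mk a : M ⧸ (I • ⊤ : Submodule R M)) =
      Submodule.Quotient.mk (∑ j, (π ^ m * s j) • b j) := by
    rw [h2]
    exact (map_sum (Submodule.mkQ (I • ⊤ : Submodule R M)) _ _).symm
  rw [Submodule.Quotient.eq] at h2'
  have hle : (I • ⊤ : Submodule R M) ≤ Ideal.span {π} ^ m • ⊤ :=
    Submodule.smul_mono_left (Ideal.pow_le_pow_right (Nat.le_succ m))
  have h4 : ∑ j, (π ^ m * s j) • b j ∈ (Ideal.span {π} ^ m • ⊤ : Submodule R M) := by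
    refine Submodule.sum_mem _ (fun j _ => ?_)
    have hπm : π ^ m * s j ∈ Ideal.span {π} ^ m :=
      Ideal.mul_mem_right _ _ (Ideal.pow_mem_pow (Ideal.subset_span (Set.mem_singleton π)) m)
    exact Submodule.smul_mem_smul hπm (Submodule.mem_top (x := b j))
  have := Submodule.add_mem _ (hle h2') h4
  rwa [sub_add_cancel] at this

end Groth.Agent.S19612.Aux

namespace Groth.Agent.S19612

/-- Let k be a perfect field of characteristic p, W = W(k) the ring of Witt vectors of k, and A a
commutative W-algebra which is complete and separated for the p-adic topology (an adic W-algebra).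
Then flatness of A over W is equivalent to flatness of A/p^nA = (W/p^nW) ⊗_W A over W/p^nW for every
n ≥ 1. -/
theorem result (p : ℕ) [Fact p.Prime] (k : Type u) [Field k]
    [CharP k p] [PerfectRing k p] (A : Type u) [CommRing A] [Algebra (WittVector p k) A]
    [IsAdicComplete (Ideal.span {(p : WittVector p k)}) A] :
    Module.Flat (WittVector p k) A ↔
      ∀ n : ℕ, 1 ≤ n →
        Module.Flat (WittVector p k ⧸ (Ideal.span {(p : WittVector p k)} ^ n))
          ((WittVector p k ⧸ (Ideal.span {(p : WittVector p k)} ^ n)) ⊗[WittVector p k] A) := by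
  constructor
  · intro hflat n hn
    infer_instance
  · intro h
    have hp : (p : WittVector p k) ≠ 0 := WittVector.p_nonzero p k
    have hreg : ∀ a : A, (p : WittVector p k) • a = 0 → a = 0 := by
      intro a ha
      apply IsHausdorff.haus' (I := Ideal.span {(p : WittVector p k)}) a
      intro n
      rw [SModEq.zero]
      haveI := h (n + 1) (by omega)
      exact Aux.mem_of_flat_quot (p : WittVector p k) hp n a ha
    have hpow : ∀ (n : ℕ) (a : A), ((p : WittVector p k) ^ n) • a = 0 → a = 0 := by
      intro n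
      induction n with
      | zero => intro a ha; rwa [pow_zero, one_smul] at ha
      | succ n ih =>
        intro a ha
        rw [pow_succ, mul_smul] at ha
        exact hreg a (ih _ ha)
    rw [IsDedekindDomain.flat_iff_torsion_eq_bot, eq_bot_iff]
    rintro x ⟨⟨r, hr⟩, hx⟩
    have hr0 : r ≠ 0 := nonZeroDivisors.ne_zero hr
    obtain ⟨n, u, rfl⟩ := IsDiscreteValuationRing.eq_unit_mul_pow_irreducible hr0
      (WittVector.irreducible p)
    change ((u : WittVector p k) * (p : WittVector p k) ^ n) • x = 0 at hx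
    rw [mul_smul] at hx
    have h2 : ((p : WittVector p k) ^ n) • x = 0 := by
      have := congrArg (fun z => ((u⁻¹ : (WittVector p k)ˣ) : WittVector p k) • z) hx
      simp only [smul_zero] at this
      rwa [← mul_smul, Units.inv_mul, one_smul] at this
    exact (Submodule.mem_bot _).mpr (hpow n x h2)

end Groth.Agent.S19612
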