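import Groth.Statements.S19613
import Groth.Agent.Lib.Helper3.QCExact
import Groth.Agent.Lib.Helper3.QCProps
import Groth.Agent.Lib.Helper28.Thick.Affine
import Mathlib.Topology.Sheaves.LocallySurjective

set_option autoImplicit false
universe u
open CategoryTheory CategoryTheory.Limits AlgebraicGeometry TopologicalSpace Opposite
open CartMod

namespace Groth.Agent.S19613
open Groth.Agent.Lib.Helper3

theorem surj_of_nil {T Tc : Scheme.{u}} (i : T ⟶ Tc) [IsClosedImmersion i]
    (hnil : ∃ n : ℕ, ∀ V : Tc.affineOpens, i.ker.ideal V ^ n = ⊥) : Function.Surjective i := by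
  obtain ⟨n, hn⟩ := hnil
  have h1 : i.ker ^ (n+1) = ⊥ := by
    apply Scheme.IdealSheafData.ext
    funext V
    rw [Scheme.IdealSheafData.ideal_pow]
    show i.ker.ideal V ^ (n+1) = ⊥
    rw [pow_succ, hn V, Ideal.bot_mul]
  have h2 : i.ker.support = ⊤ := by
    rw [← Scheme.IdealSheafData.support_pow_succ i.ker n, h1, Scheme.IdealSheafData.support_bot]
  have h3 : closure (Set.range i) = Set.univ := by
    rw [← Scheme.Hom.support_ker, h2]; rfl
  have h4 : Set.range i = Set.univ := by
    rw [← i.isClosedEmbedding.isClosed_range.closure_eq]; exact h3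
  exact Set.range_eq_univ.mp h4

/-- Let u : T → U be an affine morphism of schemes and i : T → T♮ a nilpotent closed immersion (its
ideal has a vanishing power), so that |T♮| = |T|; let g : |T♮| → |U| be the continuous map
underlying u, and v : (T♮, O_{T♮}) → (U, g_*O_{T♮}) the induced morphism of ringed spaces (identity
on structure rings), with direct image v_* (sections over g⁻¹ of an open) and inverse image v^* its
left adjoint. Then the restriction of v_* to quasi-coherent O_{T♮}-modules is exact; since v_* is a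
right adjoint, the content is that v_* of an epimorphism between quasi-coherent O_{T♮}-modules is an
epimorphism of sheaves of g_*O_{T♮}-modules on U, which is what is stated. -/
theorem result
    {T Tc U : Scheme.{u}} (i : T ⟶ Tc) [IsClosedImmersion i]
    (hnil : ∃ n : ℕ, ∀ V : Tc.affineOpens, i.ker.ideal V ^ n = ⊥)
    (u : T ⟶ U) [IsAffineHom u] (g : Tc.carrier ⟶ U.carrier) (hg : i.base ≫ g = u.base)
    (M N : Tc.Modules) [M.IsQuasicoherent] [N.IsQuasicoherent] (φ : M ⟶ N) [Epi φ] :
    Epi ((SheafOfModules.pushforward (F := Opens.map g) (R := Tc.ringCatSheaf)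
      (𝟙 (((Opens.map g).sheafPushforwardContinuous RingCat.{u} (Opens.grothendieckTopology U)
        (Opens.grothendieckTopology Tc)).obj Tc.ringCatSheaf))).map φ) := by
  have hsurj : Function.Surjective i := surj_of_nil i hnil
  haveI hK : (kernel φ : Tc.Modules).IsQuasicoherent := QCProps.isQuasicoherent_kernel φ
  let Sc : ShortComplex Tc.Modules := ShortComplex.mk (kernel.ι φ) φ (kernel.condition φ)
  have hSc : Sc.ShortExact :=
    { exact := ShortComplex.exact_kernel φ, mono_f := inferInstanceAs (Mono (kernel.ι φ)), epi_g := ‹Epi φ› }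
  apply (SheafOfModules.toSheaf _).epi_of_epi_map
  refine (TopCat.Sheaf.isLocallySurjective_iff_epi (X := U.carrier) (C := AddCommGrpCat.{u}) _).mp ?_
  rw [TopCat.Presheaf.isLocallySurjective_iff]
  intro W t x hx
  obtain ⟨V, hV, hxV, hVW⟩ := Opens.isBasis_iff_nbhd.mp U.isBasis_affineOpens (show x ∈ W from hx)
  have hpre : i ⁻¹ᵁ ((Opens.map g).obj V) = u ⁻¹ᵁ V := by
    ext y
    have hy : g (i.base y) = u.base y := by rw [← hg]; rfl
    show g (i.base y) ∈ V ↔ u.base y ∈ V
    rw [hy]
  have hW : IsAffineOpen ((Opens.map g).obj V) :=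
    Groth.Agent.Lib.Helper28.Thick.isAffineOpen_of_preimage i hsurj
      (by rw [hpre]; exact hV.preimage u)
  obtain ⟨s, hs⟩ := QCExact.surjective_app_of_isAffineOpen Sc hSc hW
    (N.presheaf.map (homOfLE (show (Opens.map g).obj V ≤ (Opens.map g).obj W from
      fun y hy => hVW hy)).op t)
  exact ⟨V, hVW, ⟨s, hs⟩, hxV⟩

end Groth.Agent.S19613
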