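import Groth.Statements.S19618
import Mathlib

set_option autoImplicit false
universe u
open CategoryTheory CategoryTheory.Limits AlgebraicGeometry Opposite TopologicalSpace
open BlowUp

namespace Groth.Agent.S19618

/-- Let X be a locally Noetherian scheme, Y an effective Cartier divisor on X (a quasi-coherent ideal
sheaf which, near every point, is generated on some affine open by one nonzerodivisor; Y is its
support) and Z a closed integral subscheme (a closed immersion i from an integral scheme with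
generic point ξ). If Y and Z intersect properly — every point ζ of Y ∩ Z which is maximal under
generization inside Y ∩ Z satisfies dim O_{X,ζ} = codim(Y,X) + codim(Z,X), where codim(Y,X) is the
infimum over y ∈ Y of dim O_{X,y} and codim(Z,X) = dim O_{X,i(ξ)} — then Z is not contained in Y. -/
theorem result {X Z : Scheme.{u}}
    [IsLocallyNoetherian X] (𝓘 : X.IdealSheafData) (hY : BlowUp.IsEffCartierIdeal 𝓘)
    (i : Z ⟶ X) [IsClosedImmersion i] [IsIntegral Z]
    (hprop : ∀ ζ : ↥X, ζ ∈ (𝓘.support : Set ↥X) ∩ Set.range i.base →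
        (∀ ζ' : ↥X, ζ' ∈ (𝓘.support : Set ↥X) ∩ Set.range i.base → ζ' ⤳ ζ → ζ' = ζ) →
        ringKrullDim ↑(X.presheaf.stalk ζ) =
          (⨅ y : (𝓘.support : Set ↥X), ringKrullDim ↑(X.presheaf.stalk y.1)) +
            ringKrullDim ↑(X.presheaf.stalk (i (genericPoint ↥Z)))) :
    ¬ Set.range i.base ⊆ (𝓘.support : Set ↥X) := by
  intro hsub
  have hζmem : i.base (genericPoint ↥Z) ∈ (𝓘.support : Set ↥X) ∩ Set.range i.base :=
    ⟨hsub ⟨_, rfl⟩, ⟨_, rfl⟩⟩
  have hmax : ∀ ζ' : ↥X, ζ' ∈ (𝓘.support : Set ↥X) ∩ Set.range i.base →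
      ζ' ⤳ i.base (genericPoint ↥Z) → ζ' = i.base (genericPoint ↥Z) := by
    rintro ζ' ⟨_, z, rfl⟩ hsp
    have h1 : genericPoint ↥Z ⤳ z := genericPoint_specializes z
    have h2 : i.base (genericPoint ↥Z) ⤳ i.base z := h1.map i.base.hom.continuous
    exact (hsp.antisymm h2).eq
  have heq := hprop _ hζmem hmax
  have hc : (1 : WithBot ℕ∞) ≤
      ⨅ y : (𝓘.support : Set ↥X), ringKrullDim ↑(X.presheaf.stalk y.1) := by
    refine le_iInf fun y => ?_
    obtain ⟨y, hy⟩ := y
    obtain ⟨U, hyU, f, hf, hI⟩ := hY y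
    have hnu : ¬ IsUnit (X.presheaf.germ U.1 y hyU f) := by
      rw [← Scheme.mem_basicOpen]
      have h0 := (Scheme.IdealSheafData.mem_support_iff_of_mem (I := 𝓘) hyU).mp hy
      rw [Scheme.mem_zeroLocus_iff] at h0
      exact h0 f (by rw [hI]; exact Ideal.mem_span_singleton_self f)
    have hloc := U.2.isLocalization_stalk ⟨y, hyU⟩
    have hnzd : (X.presheaf.germ U.1 y hyU f) ∈ nonZeroDivisors (X.presheaf.stalk y) := by
      letI : Algebra Γ(X, U.1) (X.presheaf.stalk y) := (X.presheaf.germ U.1 y hyU).hom.toAlgebra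
      haveI : IsLocalization.AtPrime (X.presheaf.stalk y)
        (U.2.primeIdealOf ⟨y, hyU⟩).asIdeal := hloc
      have h1 := IsLocalization.map_nonZeroDivisors_le
        (U.2.primeIdealOf ⟨y, hyU⟩).asIdeal.primeCompl
        (X.presheaf.stalk y)
      exact h1 ⟨f, hf, rfl⟩
    show (1 : WithBot ℕ∞) ≤ ringKrullDim ↑(X.presheaf.stalk y)
    have h2 := ringKrullDim_quotient_succ_le_of_nonZeroDivisor hnzd
    have hne : Ideal.span {X.presheaf.germ U.1 y hyU f} ≠ ⊤ := by
      rw [Ne, Ideal.span_singleton_eq_top]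
      exact hnu
    have : Nontrivial (↑(X.presheaf.stalk y) ⧸ Ideal.span {X.presheaf.germ U.1 y hyU f}) :=
      Ideal.Quotient.nontrivial_iff.mpr hne
    have h3 : (0 : WithBot ℕ∞) ≤
        ringKrullDim (↑(X.presheaf.stalk y) ⧸ Ideal.span {X.presheaf.germ U.1 y hyU f}) :=
      ringKrullDim_nonneg_of_nontrivial
    calc (1 : WithBot ℕ∞) = 0 + 1 := by simp
      _ ≤ ringKrullDim (↑(X.presheaf.stalk y) ⧸ Ideal.span {X.presheaf.germ U.1 y hyU f}) + 1 := by
          gcongr
      _ ≤ _ := h2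
  have hnb : ringKrullDim ↑(X.presheaf.stalk (i.base (genericPoint ↥Z))) ≠ ⊥ := ringKrullDim_ne_bot
  have hnt : ringKrullDim ↑(X.presheaf.stalk (i.base (genericPoint ↥Z))) ≠ ⊤ := ringKrullDim_ne_top
  obtain ⟨d, hd⟩ := WithBot.ne_bot_iff_exists.mp hnb
  have hd' : d ≠ ⊤ := by
    rintro rfl
    exact hnt hd.symm
  obtain ⟨n, rfl⟩ := ENat.ne_top_iff_exists.mp hd'
  rw [← hd] at heq
  have h4 : (1 : WithBot ℕ∞) + ((n : ℕ∞) : WithBot ℕ∞) ≤ ((n : ℕ∞) : WithBot ℕ∞) := by
    calc (1 : WithBot ℕ∞) + ((n : ℕ∞) : WithBot ℕ∞)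
        ≤ (⨅ y : (𝓘.support : Set ↥X), ringKrullDim ↑(X.presheaf.stalk y.1)) + ((n : ℕ∞) : WithBot ℕ∞) := by
          gcongr
      _ = _ := heq.symm
  have h5 : ((1 + n : ℕ) : WithBot ℕ∞) ≤ ((n : ℕ) : WithBot ℕ∞) := by
    push_cast
    exact h4
  have h6 : (1 + n : ℕ) ≤ n := by exact_mod_cast h5
  omega

end Groth.Agent.S19618
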