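import Groth.Statements.S19621
import Groth.Agent.Lib.Helper10.IndCofInd
import Groth.Agent.Lib.Helper13.DivML
import Groth.Agent.Lib.Helper24.DivQuotML
import Groth.Agent.Lib.Helper6.DivQuotFin
import Groth.Agent.Lib.Helper4.DivQuotFin

set_option autoImplicit false
universe v
open IndCof

namespace Groth.Agent.S19621

open CategoryTheory CategoryTheory.Limits in
/-- Let C be a small abelian category all of whose objects are Artinian and killed by some positive
integer, and A an ind-object of C of cofinite type (A[n] is isomorphic to an object of C for every n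
≥ 1). Then the following are equivalent: (i) the inverse system of copies of A indexed by the
positive integers ordered by divisibility, with transition map from the m-th to the n-th copy
multiplication by m/n, is Mittag-Leffler (for every n the images of these maps in the n-th copy are
eventually constant): A is divisibly ML; (ii) A has a divisible sub-object B' (multiplication by
every positive integer is an epimorphism of B') such that A/B' is isomorphic to an object of C;
(iii) multiplication by p on A is an epimorphism for all but finitely many primes p. (The published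
statement phrases (ii) as: A modulo its divisible part lies in C, and (iii) as: the p-primary part
of A is divisible for almost all p; the divisible part is the largest divisible sub-object, and
multiplication by p on A is an epimorphism exactly when it is one on the p-primary part, the other
primary parts being uniquely p-divisible.) -/
theorem result {C : Type v} [SmallCategory C] [Abelian C]
    (hart : ∀ X : C, IsArtinianObject X)
    (htor : ∀ X : C, ∃ n : ℕ, 0 < n ∧ n • 𝟙 X = 0)
    (A : Ind C) (hA : ∀ n : ℕ, 0 < n → (Ind.yoneda (C := C)).essImage (kernel (n • 𝟙 A))) :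
    ((∀ n : ℕ, 0 < n → ∃ m : ℕ, 0 < m ∧ n ∣ m ∧ ∀ m' : ℕ, 0 < m' → m ∣ m' →
        imageSubobject ((m' / n) • 𝟙 A) = imageSubobject ((m / n) • 𝟙 A)) ↔
      ∃ B' : Subobject A, (∀ k : ℕ, 0 < k → Epi (k • 𝟙 (B' : Ind C))) ∧
        (Ind.yoneda (C := C)).essImage (cokernel B'.arrow)) ∧
    ((∃ B' : Subobject A, (∀ k : ℕ, 0 < k → Epi (k • 𝟙 (B' : Ind C))) ∧
        (Ind.yoneda (C := C)).essImage (cokernel B'.arrow)) ↔
      {p : ℕ | p.Prime ∧ ¬ Epi (p • 𝟙 A)}.Finite) := by
  have hP := H10Ind.setting_ind hart
  have htorP : ∀ T : Ind C, (Ind.yoneda (C := C)).essImage T → ∃ n, 0 < n ∧ n • 𝟙 T = 0 := by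
    intro T hT
    obtain ⟨X, ⟨e⟩⟩ := hT
    obtain ⟨n, hn, hnX⟩ := htor X
    refine ⟨n, hn, ?_⟩
    have h0 : n • 𝟙 ((Ind.yoneda (C := C)).obj X) = 0 := by
      rw [← (Ind.yoneda (C := C)).map_id, ← Functor.map_nsmul, hnX, Functor.map_zero]
    calc n • 𝟙 T = n • (e.inv ≫ 𝟙 _ ≫ e.hom) := by
          rw [Category.id_comp, e.inv_hom_id]
      _ = e.inv ≫ (n • 𝟙 _) ≫ e.hom := by
          rw [Preadditive.nsmul_comp, Preadditive.comp_nsmul]
      _ = 0 := by rw [h0, zero_comp, comp_zero]
  refine ⟨⟨fun hML => ?_, fun ⟨B', hdiv, hQ⟩ =>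
      Groth.Agent.Lib.Helper13.DivML.ml_of_divQuot htorP A B' hdiv hQ⟩,
    ⟨fun ⟨B', hdiv, hQ⟩ => Groth.Agent.Lib.Helper6.DivQuotFin.finite_of_divQuot htorP A B' hdiv hQ,
      fun hfin => Groth.Agent.Lib.Helper4.DivQuotFin.divQuot_of_finite hP A hA hfin⟩⟩
  apply Groth.Agent.Lib.Helper24.DivQuotML.divQuot_of_ml hP A hA
  obtain ⟨m, hm, -, h⟩ := hML 1 Nat.one_pos
  refine ⟨m, hm, fun m' hm' hdvd => ?_⟩
  have := h m' hm' hdvd
  rwa [Nat.div_one, Nat.div_one] at this

end Groth.Agent.S19621
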