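import Groth.Statements.S19622
import Groth.Agent.Lib.Helper10.IndCofInd
import Groth.Agent.Lib.Helper13.DivPart

set_option autoImplicit false
universe v
open IndCof

namespace Groth.Agent.S19622

open CategoryTheory CategoryTheory.Limits in
/-- Let C be a small abelian category all of whose objects are Artinian and killed by some positive
integer, and A an ind-object of C of cofinite type (A[n] is isomorphic to an object of C for every n
≥ 1). Then A has a largest divisible sub-object D — multiplication by every positive integer is an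
epimorphism of D, and D contains every sub-object of A with this property — and both D and A/D are
of cofinite type, so that 0 → D → A → A/D → 0 is an exact sequence of ind-objects of cofinite type.
(The published statement also describes A/D as the largest quotient of A all of whose primary parts
lie in C; that clause is not included here.) -/
theorem result {C : Type v} [SmallCategory C] [Abelian C]
    (hart : ∀ X : C, IsArtinianObject X)
    (htor : ∀ X : C, ∃ n : ℕ, 0 < n ∧ n • 𝟙 X = 0)
    (A : Ind C) (hA : ∀ n : ℕ, 0 < n → (Ind.yoneda (C := C)).essImage (kernel (n • 𝟙 A))) :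
    ∃ D : Subobject A, (∀ k : ℕ, 0 < k → Epi (k • 𝟙 (D : Ind C))) ∧
      (∀ D' : Subobject A, (∀ k : ℕ, 0 < k → Epi (k • 𝟙 (D' : Ind C))) → D' ≤ D) ∧
      (∀ n : ℕ, 0 < n → (Ind.yoneda (C := C)).essImage (kernel (n • 𝟙 (D : Ind C)))) ∧
      (∀ n : ℕ, 0 < n → (Ind.yoneda (C := C)).essImage (kernel (n • 𝟙 (cokernel D.arrow)))) := by
  have hP := H10Ind.setting_ind hart
  have htorP : ∀ T : Ind C, (Ind.yoneda (C := C)).essImage T → ∃ n, 0 < n ∧ n • 𝟙 T = 0 := by
    intro T hT
    obtain ⟨X, ⟨e⟩⟩ := hT
    obtain ⟨n, hn, hnX⟩ := htor X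
    refine ⟨n, hn, ?_⟩
    have h0 : n • 𝟙 ((Ind.yoneda (C := C)).obj X) = 0 := by
      rw [← (Ind.yoneda (C := C)).map_id, ← Functor.map_nsmul, hnX, Functor.map_zero]
    calc n • 𝟙 T = n • (e.inv ≫ 𝟙 _ ≫ e.hom) := by
          rw [Category.id_comp, e.inv_hom_id]
      _ = e.inv ≫ (n • 𝟙 _) ≫ e.hom := by
          rw [Preadditive.nsmul_comp, Preadditive.comp_nsmul]
      _ = 0 := by rw [h0, zero_comp, comp_zero]
  obtain ⟨D, h1, h2, h3⟩ := Groth.Agent.Lib.Helper13.DivPart.main hP htorP A hA
  refine ⟨D, h1, h2, h3, fun n hn => ?_⟩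
  exact H10Ind.P_tor_cokernel hP D.arrow n
    (fun k => h3 (n ^ k) (pow_pos hn k))
    (fun k => hA (n ^ k) (pow_pos hn k))

end Groth.Agent.S19622
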