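import Groth.Statements.S19624
import Mathlib
import Groth.Agent.Lib.Helper9.LatticeDist

set_option autoImplicit false
universe u v
open IntTh

namespace Groth.Agent.S19624

namespace S19624aux

universe uu vv

lemma addVal_prod {B : Type*} [CommRing B] [IsDomain B] [IsDiscreteValuationRing B]
    {ι : Type*} (s : Finset ι) (f : ι → B) :
    IsDiscreteValuationRing.addVal B (∏ i ∈ s, f i) =
      ∑ i ∈ s, IsDiscreteValuationRing.addVal B (f i) := by
  classical
  induction s using Finset.induction_on with
  | empty => simp [IsDiscreteValuationRing.addVal_one]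
  | insert a s ha ih =>
    rw [Finset.prod_insert ha, Finset.sum_insert ha, IsDiscreteValuationRing.addVal_mul, ih]

/-- one block -/
lemma block {B : Type uu} [CommRing B] [IsDomain B] [IsDiscreteValuationRing B] {r : ℕ}
    {N : Type vv} [AddCommGroup N] [Module B N] (bN : Module.Basis (Fin r) B N)
    (w : Fin r → N) :
    Module.length B (N ⧸ Submodule.span B (Set.range w)) =
      IsDiscreteValuationRing.addVal B
        (Matrix.det (Matrix.of fun (a c : Fin r) => bN.repr (w c) a)) := by
  rw [← Helper9.LatticeDist.length_quot_range_mulVecLin]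
  have h : (Submodule.span B (Set.range w)).map (bN.equivFun : N →ₗ[B] (Fin r → B)) =
      LinearMap.range (Matrix.of fun (a c : Fin r) => bN.repr (w c) a).mulVecLin := by
    rw [Matrix.range_mulVecLin, Submodule.map_span, ← Set.range_comp]
    congr 1
  exact (Submodule.Quotient.equiv _ _ bN.equivFun h).length_eq

end S19624aux

/-- Let B be a discrete valuation ring with its normalised additive valuation v (so v(0) = ∞) and ω a
ring automorphism of B. For each i in a finite index set let M_i and N_i be free B-modules with
chosen bases indexed by one and the same finite type, and χ_i : M_i → N_i an additive map which is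
ω-semilinear, χ_i(b·x) = ω(b)·χ_i(x); write A_i for the matrix of χ_i in the chosen bases. Then the
length over B of the cokernel of the direct sum χ = ⊕_i χ_i : ⊕_i M_i → ⊕_i N_i (the quotient of ⊕_i
N_i by the submodule generated by the image of χ) equals v(∏_i det A_i); in particular both sides
are infinite exactly when some det A_i is zero. -/
theorem result {B : Type u} [CommRing B] [IsDomain B]
    [IsDiscreteValuationRing B] (ω : B ≃+* B) {n : ℕ} (r : Fin n → ℕ)
    (M N : Fin n → Type v) [∀ i, AddCommGroup (M i)] [∀ i, Module B (M i)]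
    [∀ i, AddCommGroup (N i)] [∀ i, Module B (N i)]
    (bM : ∀ i, Module.Basis (Fin (r i)) B (M i)) (bN : ∀ i, Module.Basis (Fin (r i)) B (N i))
    (χ : ∀ i, M i →+ N i) (hχ : ∀ i (b : B) (x : M i), χ i (b • x) = ω b • χ i x) :
    Module.length B ((∀ i, N i) ⧸ Submodule.span B (Set.range (fun (x : ∀ i, M i) (i : Fin n) => χ i (x i)))) =
      IsDiscreteValuationRing.addVal B (∏ i, Matrix.det
        (Matrix.of fun (a c : Fin (r i)) => (bN i).repr (χ i (bM i c)) a)) := by
  classical
  obtain ⟨w, hw⟩ : ∃ w : ∀ i, Fin (r i) → N i, w = fun i c => χ i (bM i c) := ⟨_, rfl⟩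
  obtain ⟨S, hS⟩ : ∃ S : ∀ i, Submodule B (N i),
    S = fun i => Submodule.span B (Set.range (w i)) := ⟨_, rfl⟩
  have hχmem : ∀ i (x : M i), χ i x ∈ S i := by
    intro i x
    rw [hS, ← (bM i).sum_repr x, map_sum]
    refine Submodule.sum_mem _ fun c _ => ?_
    rw [hχ]
    refine Submodule.smul_mem _ _ (Submodule.subset_span ⟨c, ?_⟩)
    rw [hw]
  have hχ0 : ∀ i, χ i 0 = 0 := fun i => map_zero _
  have h1 : Submodule.span B (Set.range (fun (x : ∀ i, M i) (i : Fin n) => χ i (x i))) =
      Submodule.pi Set.univ S := by
    apply le_antisymm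
    · refine Submodule.span_le.mpr ?_
      rintro _ ⟨x, rfl⟩
      exact fun i _ => hχmem i (x i)
    · intro y hy
      have key : ∀ i, ∀ s ∈ S i, (Pi.single i s : ∀ i, N i) ∈
          Submodule.span B (Set.range (fun (x : ∀ i, M i) (i : Fin n) => χ i (x i))) := by
        intro i s hs
        rw [hS] at hs
        induction hs using Submodule.span_induction with
        | mem s hs =>
          obtain ⟨c, rfl⟩ := hs
          refine Submodule.subset_span ⟨Pi.single i (bM i c), ?_⟩
          funext j
          show χ j ((Pi.single i (bM i c) : ∀ i, M i) j) = (Pi.single i (w i c) : ∀ i, N i) j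
          by_cases hj : j = i
          · subst hj
            rw [Pi.single_eq_same, Pi.single_eq_same, hw]
          · rw [Pi.single_eq_of_ne hj, Pi.single_eq_of_ne hj, hχ0]
        | zero => rw [Pi.single_zero]; exact Submodule.zero_mem _
        | add s t _ _ hs ht => rw [Pi.single_add]; exact Submodule.add_mem _ hs ht
        | smul b s _ hs => rw [Pi.single_smul]; exact Submodule.smul_mem _ b hs
      rw [← Finset.univ_sum_single y]
      exact Submodule.sum_mem _ fun i _ => key i (y i) (hy i (Set.mem_univ i))
  rw [h1, (Submodule.quotientPi S).length_eq,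
    Module.length_pi_of_fintype (R := B) (fun i => N i ⧸ S i), S19624aux.addVal_prod]
  refine Finset.sum_congr rfl fun i _ => ?_
  rw [hS]
  have := S19624aux.block (bN i) (w i)
  rw [this, hw]

end Groth.Agent.S19624
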