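import Mathlib
import Groth.Statements.S19630
-- import your own Groth.Agent.* helpers here

set_option autoImplicit false
universe u
open DeRham

namespace Groth.Agent.S19630.Aux
open exteriorPower

variable (k K : Type u) [Field k] [Field K] [CharZero k] [Algebra k K] [Module.Finite k K]
    (B : Type u) [CommRing B] [Algebra K B] [Algebra k B] [IsScalarTower k K B]

lemma π_bijective : Function.Bijective (KaehlerDifferential.map k K B B) := by
  refine ⟨?_, KaehlerDifferential.map_surjective k K B⟩
  rw [injective_iff_map_eq_zero]
  intro x hx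
  haveI : Algebra.IsSeparable k K := Algebra.IsSeparable.of_integral k K
  haveI : Algebra.FormallyUnramified k K := Algebra.FormallyUnramified.of_isSeparable k K
  obtain ⟨y, rfl⟩ := (KaehlerDifferential.exact_mapBaseChange_map k K B x).mp hx
  rw [Subsingleton.elim y 0, map_zero]

end Groth.Agent.S19630.Aux

namespace Groth.Agent.S19630.Aux2
open exteriorPower Groth.Agent.S19630.Aux

variable {k K : Type u} [Field k] [Field K] [Algebra k K]
    {B : Type u} [CommRing B] [Algebra K B] [Algebra k B] [IsScalarTower k K B]
    (ψ : ∀ p : ℕ, ↥(⋀[B]^p (Ω[B⁄k])) →+ ↥(⋀[B]^p (Ω[B⁄K])))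
    (hψ : DeRham.IsCxMap (KaehlerDifferential.D k B) (KaehlerDifferential.D K B) (RingHom.id B) ψ)

include hψ in
lemma ψ_eq (p : ℕ) (x : ↥(⋀[B]^p (Ω[B⁄k]))) :
    ψ p x = exteriorPower.map p (KaehlerDifferential.map k K B B) x := by
  have hx : x ∈ Submodule.span B (ιMulti B p ''
      {a | Set.range a ⊆ Set.range (KaehlerDifferential.D k B)}) := by
    rw [ιMulti_span_of_span B p _ (KaehlerDifferential.span_range_derivation k B)]; trivial
  have key : ∀ c : B, ψ p (c • x) =
      exteriorPower.map p (KaehlerDifferential.map k K B B) (c • x) := by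
    induction hx using Submodule.span_induction with
    | mem y hy =>
      obtain ⟨a, ha, rfl⟩ := hy
      have : ∀ i, ∃ b, KaehlerDifferential.D k B b = a i := fun i => ha ⟨i, rfl⟩
      choose b hb using this
      obtain rfl : a = fun i => KaehlerDifferential.D k B (b i) := funext (fun i => (hb i).symm)
      intro c
      have := hψ p c b
      rw [DeRham.gen, DeRham.gen] at this
      rw [this, LinearMap.map_smul, map_apply_ιMulti]
      simp only [RingHom.id_apply]
      congr 2
      funext i
      exact (KaehlerDifferential.map_D k K B B (b i)).symm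
    | zero => intro c; rw [smul_zero, map_zero, map_zero]
    | add y z _ _ hy hz => intro c; rw [smul_add, map_add, map_add, hy, hz]
    | smul c' y _ hy => intro c; rw [smul_smul]; exact hy _
  simpa using key 1

end Groth.Agent.S19630.Aux2

namespace Groth.Agent.S19630.Aux3
open exteriorPower Groth.Agent.S19630.Aux Groth.Agent.S19630.Aux2

lemma map_bijective {R M N : Type*} [CommRing R] [AddCommGroup M] [Module R M] [AddCommGroup N]
    [Module R N] (f : M →ₗ[R] N) (hf : Function.Bijective f) (p : ℕ) :
    Function.Bijective (exteriorPower.map p f) := by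
  let e := LinearEquiv.ofBijective f hf
  have h1 : exteriorPower.map p e.symm.toLinearMap ∘ₗ exteriorPower.map p f = LinearMap.id := by
    rw [← exteriorPower.map_comp]
    have : e.symm.toLinearMap ∘ₗ f = LinearMap.id := by
      ext x; exact e.symm_apply_apply x
    rw [this, exteriorPower.map_id]
  have h2 : exteriorPower.map p f ∘ₗ exteriorPower.map p e.symm.toLinearMap = LinearMap.id := by
    rw [← exteriorPower.map_comp]
    have : f ∘ₗ e.symm.toLinearMap = LinearMap.id := by
      ext x; exact e.apply_symm_apply x
    rw [this, exteriorPower.map_id]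
  refine ⟨Function.LeftInverse.injective (g := exteriorPower.map p e.symm.toLinearMap)
    (fun x => LinearMap.congr_fun h1 x), Function.RightInverse.surjective
    (g := exteriorPower.map p e.symm.toLinearMap) (fun x => LinearMap.congr_fun h2 x)⟩

theorem main
    (k K : Type u) [Field k] [Field K] [CharZero k] [Algebra k K] [Module.Finite k K]
    (B : Type u) [CommRing B] [Algebra K B] [Algebra k B] [IsScalarTower k K B]
    (ψ : ∀ p : ℕ, ↥(⋀[B]^p (Ω[B⁄k])) →+ ↥(⋀[B]^p (Ω[B⁄K])))
    (hψ : DeRham.IsCxMap (KaehlerDifferential.D k B) (KaehlerDifferential.D K B) (RingHom.id B) ψ)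
    (p : ℕ) :
    Function.Bijective (ψ p) := by
  have h : (ψ p : ↥(⋀[B]^p (Ω[B⁄k])) → ↥(⋀[B]^p (Ω[B⁄K]))) =
      exteriorPower.map p (KaehlerDifferential.map k K B B) := funext (ψ_eq ψ hψ p)
  rw [h]
  exact map_bijective _ (π_bijective k K B) p

end Groth.Agent.S19630.Aux3

namespace Groth.Agent.S19630

open exteriorPower in
/-- In the affine case, at ring level, let k ⊆ K be a finite extension of fields of characteristic zero
and B a smooth K-algebra, so that Y = Spec B is a smooth affine variety over K which may also be
regarded over k. Let ψ be the map of de Rham complexes from Ω•_{B/k} to Ω•_{B/K} induced by the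
identity of B. Then ψ is bijective in every degree: the de Rham complex of Y over k and over K
coincide, and hence the natural map H^i_dR(Y/k) → H^i_dR(Y/K) is an isomorphism. (The source states
the isomorphism on de Rham cohomology for any smooth variety Y over K, through the equality of the
two de Rham complexes; this row is that equality for affine Y.) -/
theorem result
    (k K : Type u) [Field k] [Field K] [CharZero k] [Algebra k K] [Module.Finite k K]
    (B : Type u) [CommRing B] [Algebra K B] [Algebra k B] [IsScalarTower k K B] [Algebra.Smooth K B]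
    (ψ : ∀ p : ℕ, ↥(⋀[B]^p (Ω[B⁄k])) →+ ↥(⋀[B]^p (Ω[B⁄K])))
    (hψ : DeRham.IsCxMap (KaehlerDifferential.D k B) (KaehlerDifferential.D K B) (RingHom.id B) ψ)
    (p : ℕ) :
    Function.Bijective (ψ p) := by
  exact Aux3.main k K B ψ hψ p

end Groth.Agent.S19630
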