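import Mathlib
import Groth.Statements.S19632
-- import your own Groth.Agent.* helpers here

set_option autoImplicit false
universe u
open DeRham


namespace Groth.Agent.S19632.Aux
variable (k : Type*) [Field k]

noncomputable def Elin : AddMonoidAlgebra k ℤ →ₗ[k] AddMonoidAlgebra k ℤ :=
  (AddMonoidAlgebra.coeffLinearEquiv k).symm.toLinearMap ∘ₗ
    (Finsupp.lsum k (fun n : ℤ => ((n : k)) • (Finsupp.lsingle n : k →ₗ[k] ℤ →₀ k))) ∘ₗ
    (AddMonoidAlgebra.coeffLinearEquiv k).toLinearMap

lemma Elin_single (n : ℤ) (r : k) :
    Elin k (AddMonoidAlgebra.single n r) = AddMonoidAlgebra.single n ((n:k) * r) := by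
  have h1 : (AddMonoidAlgebra.coeffLinearEquiv k) (AddMonoidAlgebra.single n r) =
      Finsupp.single n r := rfl
  have h2 : (AddMonoidAlgebra.coeffLinearEquiv k).symm (Finsupp.single n ((n:k) * r)) =
      AddMonoidAlgebra.single n ((n:k) * r) := rfl
  show (AddMonoidAlgebra.coeffLinearEquiv k).symm
    ((Finsupp.lsum k (fun n : ℤ => ((n : k)) • (Finsupp.lsingle n : k →ₗ[k] ℤ →₀ k)))
      ((AddMonoidAlgebra.coeffLinearEquiv k) (AddMonoidAlgebra.single n r))) = _
  rw [h1, Finsupp.lsum_single, LinearMap.smul_apply, Finsupp.lsingle_apply, Finsupp.smul_single,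
    smul_eq_mul, h2]

lemma Elin_mul (a b : AddMonoidAlgebra k ℤ) : Elin k (a * b) = a * Elin k b + b * Elin k a := by
  induction a using AddMonoidAlgebra.induction_linear with
  | zero => simp only [zero_mul, map_zero, mul_zero, add_zero]
  | add x y hx hy => rw [add_mul, map_add, hx, hy, add_mul, map_add, mul_add]; abel
  | single m r =>
    induction b using AddMonoidAlgebra.induction_linear with
    | zero => simp only [zero_mul, map_zero, mul_zero, add_zero]
    | add x y hx hy => rw [mul_add, map_add, hx, hy, map_add, mul_add, add_mul]; abel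
    | single n s =>
      rw [AddMonoidAlgebra.single_mul_single, Elin_single, Elin_single, Elin_single,
        AddMonoidAlgebra.single_mul_single, AddMonoidAlgebra.single_mul_single,
        add_comm n m, ← AddMonoidAlgebra.single_add]
      congr 1
      push_cast; ring

lemma Elin_coeff (f : AddMonoidAlgebra k ℤ) (n : ℤ) :
    (Elin k f).coeff n = (n : k) * f.coeff n := by
  induction f using AddMonoidAlgebra.induction_linear with
  | zero => simp only [map_zero, AddMonoidAlgebra.coeff_zero, Finsupp.coe_zero, Pi.zero_apply, mul_zero]
  | add x y hx hy =>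
    rw [map_add, AddMonoidAlgebra.coeff_add, Finsupp.add_apply, hx, hy, AddMonoidAlgebra.coeff_add,
      Finsupp.add_apply, mul_add]
  | single m r =>
    rw [Elin_single, AddMonoidAlgebra.coeff_single, AddMonoidAlgebra.coeff_single,
      Finsupp.single_apply, Finsupp.single_apply]
    by_cases h : m = n
    · subst h; simp only [if_true]
    · simp only [h, if_false, mul_zero]

noncomputable def Eder : Derivation k (LaurentPolynomial k) (LaurentPolynomial k) :=
  Derivation.mk' (Elin k) (fun a b => by
    rw [smul_eq_mul, smul_eq_mul]; exact Elin_mul k a b)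

theorem result' [CharZero k]
    (f : LaurentPolynomial k) :
    KaehlerDifferential.D k (LaurentPolynomial k) f = 0 ↔ f ∈ Set.range (algebraMap k (LaurentPolynomial k)) := by
  constructor
  · intro h
    have hE : Elin k f = 0 := by
      have := congrArg (Eder k).liftKaehlerDifferential h
      rw [Derivation.liftKaehlerDifferential_comp_D, map_zero] at this
      exact this
    refine ⟨f.coeff 0, ?_⟩
    rw [LaurentPolynomial.algebraMap_apply]
    have hc : ∀ n : ℤ, n ≠ 0 → f.coeff n = 0 := by
      intro n hn
      have := Elin_coeff k f n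
      rw [hE] at this
      simp only [AddMonoidAlgebra.coeff_zero, Finsupp.coe_zero, Pi.zero_apply] at this
      rcases mul_eq_zero.mp this.symm with h0 | h0
      · exact absurd (by exact_mod_cast h0) hn
      · exact h0
    apply AddMonoidAlgebra.coeff_injective
    ext n
    show (AddMonoidAlgebra.single (0:ℤ) (f.coeff 0)).coeff n = f.coeff n
    rw [AddMonoidAlgebra.coeff_single, Finsupp.single_apply]
    by_cases hn : 0 = n
    · subst hn; simp
    · rw [if_neg hn, hc n (Ne.symm hn)]
  · rintro ⟨c, rfl⟩
    exact Derivation.map_algebraMap _ c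

end Groth.Agent.S19632.Aux

namespace Groth.Agent.S19632

/-- Let k be a field of characteristic zero and G_m = Spec k[t, t⁻¹] the multiplicative group. The
kernel of the differential d : k[t, t⁻¹] → Ω¹ of the de Rham complex of G_m consists of the
constants: for a Laurent polynomial f, df = 0 if and only if f lies in the image of k. Equivalently
H^0_dR(G_m/k) = k. (Characteristic zero is used: in characteristic p the element t^p is closed.) -/
theorem result (k : Type u) [Field k] [CharZero k]
    (f : LaurentPolynomial k) :
    KaehlerDifferential.D k (LaurentPolynomial k) f = 0 ↔ f ∈ Set.range (algebraMap k (LaurentPolynomial k)) := by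
  exact Aux.result' k f

end Groth.Agent.S19632
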