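import Mathlib
import Groth.Statements.S19633
import Groth.Agent.Lib.Helper29.LaurentDR

set_option autoImplicit false
universe u
open DeRham


namespace Groth.Agent.S19633.Aux

open exteriorPower LaurentPolynomial Groth.Agent.Lib.Helper29.LaurentDR

variable (k : Type u) [Field k]

/-- the injective `k`-linear map `⋀¹Ω → A`, `f dT ↦ f T`. -/
noncomputable def ρ : ↥(⋀[LaurentPolynomial k]^1 (Ω[LaurentPolynomial k⁄k])) →ₗ[k]
    LaurentPolynomial k :=
  ((φ k).restrictScalars k) ∘ₗ
    ((oneEquiv (LaurentPolynomial k) (Ω[LaurentPolynomial k⁄k])).toLinearMap.restrictScalars k)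

lemma ρ_apply (x : ↥(⋀[LaurentPolynomial k]^1 (Ω[LaurentPolynomial k⁄k]))) :
    ρ k x = φ k (oneEquiv (LaurentPolynomial k) (Ω[LaurentPolynomial k⁄k]) x) := rfl

lemma ρ_injective : Function.Injective (ρ k) := by
  intro x y h
  rw [ρ_apply, ρ_apply] at h
  exact (oneEquiv (LaurentPolynomial k) (Ω[LaurentPolynomial k⁄k])).injective
    (φ_injective k h)

variable {k}
variable (d : ∀ p : ℕ, ↥(⋀[LaurentPolynomial k]^p (Ω[LaurentPolynomial k⁄k])) →ₗ[k]
  ↥(⋀[LaurentPolynomial k]^(p + 1) (Ω[LaurentPolynomial k⁄k])))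
  (hd : DeRham.IsDiff (KaehlerDifferential.D k (LaurentPolynomial k)) d)

include hd in
lemma ρ_d0 (x : ↥(⋀[LaurentPolynomial k]^0 (Ω[LaurentPolynomial k⁄k]))) :
    ρ k (d 0 x) = E k (zeroEquiv (LaurentPolynomial k) (Ω[LaurentPolynomial k⁄k]) x) := by
  have hx : x = DeRham.gen (KaehlerDifferential.D k (LaurentPolynomial k)) 0
      (zeroEquiv (LaurentPolynomial k) (Ω[LaurentPolynomial k⁄k]) x) Fin.elim0 := by
    apply (zeroEquiv (LaurentPolynomial k) (Ω[LaurentPolynomial k⁄k])).injective
    rw [DeRham.gen, map_smul, zeroEquiv_ιMulti, smul_eq_mul, mul_one]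
  conv_lhs => rw [hx]
  rw [hd.1 0, ρ_apply, oneEquiv_ιMulti, ← φ_D]
  rfl

lemma ρ_gen : ρ k (DeRham.gen (KaehlerDifferential.D k (LaurentPolynomial k)) 1
    (LaurentPolynomial.T (-1)) (fun _ => LaurentPolynomial.T 1)) = 1 := by
  rw [DeRham.gen, ρ_apply, map_smul, oneEquiv_ιMulti, φ_smul_dT, ← T_add]
  simp

include hd in
lemma not_mem : DeRham.gen (KaehlerDifferential.D k (LaurentPolynomial k)) 1
    (LaurentPolynomial.T (-1)) (fun _ => LaurentPolynomial.T 1) ∉ DeRham.coboundaries d 1 := by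
  rintro ⟨x, hx⟩
  have h := congrArg (ρ k) hx
  rw [ρ_d0 d hd, ρ_gen] at h
  have h2 := congrArg (fun f : LaurentPolynomial k => f.coeff 0) h
  simp only [E_coeff, Int.cast_zero, zero_mul] at h2
  have h3 : (1 : LaurentPolynomial k).coeff 0 = 1 := by
    show (AddMonoidAlgebra.single (0 : ℤ) (1 : k)).coeff 0 = 1
    rw [AddMonoidAlgebra.coeff_single, Finsupp.single_eq_same]
  rw [h3] at h2
  exact zero_ne_one h2

include hd in
lemma disj : Disjoint (DeRham.coboundaries d 1)
    (Submodule.span k {DeRham.gen (KaehlerDifferential.D k (LaurentPolynomial k)) 1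
        (LaurentPolynomial.T (-1)) (fun _ => LaurentPolynomial.T 1)}) := by
  rw [Submodule.disjoint_def]
  rintro x ⟨y, rfl⟩ hx2
  obtain ⟨c, hc⟩ := Submodule.mem_span_singleton.mp hx2
  have h := congrArg (ρ k) hc
  rw [ρ_d0 d hd, map_smul, ρ_gen] at h
  have h2 := congrArg (fun f : LaurentPolynomial k => f.coeff 0) h
  simp only [E_coeff, Int.cast_zero, zero_mul] at h2
  have h3 : (c • (1 : LaurentPolynomial k)).coeff 0 = c := by
    show (c • AddMonoidAlgebra.single (0 : ℤ) (1 : k)).coeff 0 = c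
    rw [AddMonoidAlgebra.smul_single, AddMonoidAlgebra.coeff_single, Finsupp.single_eq_same,
      smul_eq_mul, mul_one]
  rw [h3] at h2
  rw [← hc, h2, zero_smul]

include hd in
lemma codisj [CharZero k] : Codisjoint (DeRham.coboundaries d 1)
    (Submodule.span k {DeRham.gen (KaehlerDifferential.D k (LaurentPolynomial k)) 1
        (LaurentPolynomial.T (-1)) (fun _ => LaurentPolynomial.T 1)}) := by
  rw [codisjoint_iff, Submodule.eq_top_iff']
  intro x
  rw [Submodule.mem_sup]
  refine ⟨d 0 ((zeroEquiv (LaurentPolynomial k) (Ω[LaurentPolynomial k⁄k])).symm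
      (Einv k (ρ k x))), ⟨_, rfl⟩,
    ((ρ k x).coeff 0) • DeRham.gen (KaehlerDifferential.D k (LaurentPolynomial k)) 1
        (LaurentPolynomial.T (-1)) (fun _ => LaurentPolynomial.T 1),
    Submodule.smul_mem _ _ (Submodule.subset_span rfl), ?_⟩
  apply ρ_injective k
  rw [map_add, ρ_d0 d hd, LinearEquiv.apply_symm_apply, E_Einv, map_smul, ρ_gen,
    ← Algebra.algebraMap_eq_smul_one, LaurentPolynomial.algebraMap_apply, Algebra.algebraMap_self,
    RingHom.id_apply, sub_add_cancel]

end Groth.Agent.S19633.Aux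

namespace Groth.Agent.S19633

open exteriorPower in
/-- Let k be a field of characteristic zero, G_m = Spec k[t, t⁻¹], and d the de Rham differential of
k[t, t⁻¹] over k. Then: every 1-form is closed; the exact 1-forms and the k-line spanned by t⁻¹ dt
are complementary subspaces of the 1-forms, and t⁻¹ dt is not exact — so H^1_dR(G_m/k) is
one-dimensional, generated by the class of dt/t (the isomorphism with k being the residue); and for
every i ≥ 2 the closed i-forms are exact, so H^i_dR(G_m/k) = 0 for i > 1. (Characteristic zero is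
used in the computation of the exact forms.) -/
theorem result (k : Type u) [Field k] [CharZero k]
    (d : ∀ p : ℕ, ↥(⋀[LaurentPolynomial k]^p (Ω[LaurentPolynomial k⁄k])) →ₗ[k] ↥(⋀[LaurentPolynomial k]^(p + 1) (Ω[LaurentPolynomial k⁄k])))
    (hd : DeRham.IsDiff (KaehlerDifferential.D k (LaurentPolynomial k)) d) :
    DeRham.cocycles d 1 = ⊤ ∧
    IsCompl (DeRham.coboundaries d 1)
      (Submodule.span k {DeRham.gen (KaehlerDifferential.D k (LaurentPolynomial k)) 1
        (LaurentPolynomial.T (-1)) (fun _ => LaurentPolynomial.T 1)}) ∧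
    DeRham.gen (KaehlerDifferential.D k (LaurentPolynomial k)) 1
        (LaurentPolynomial.T (-1)) (fun _ => LaurentPolynomial.T 1) ∉ DeRham.coboundaries d 1 ∧
    ∀ i : ℕ, DeRham.cocycles d (i + 2) ≤ DeRham.coboundaries d (i + 2) := by
  refine ⟨?_, ⟨Aux.disj d hd, Aux.codisj d hd⟩, Aux.not_mem d hd, ?_⟩
  · rw [eq_top_iff]
    intro x _
    show d 1 x = 0
    haveI := Groth.Agent.Lib.Helper29.LaurentDR.subsingleton_exteriorPower k 0
    exact Subsingleton.elim _ _
  · intro i x _
    haveI := Groth.Agent.Lib.Helper29.LaurentDR.subsingleton_exteriorPower k i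
    rw [Subsingleton.elim x 0]
    exact Submodule.zero_mem _

end Groth.Agent.S19633
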