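import Groth.Statements.S1965
import Mathlib
import Groth.Agent.Lib.Helper12.OneDimLocal
import Groth.Agent.Lib.Helper3.HenselFiltration

set_option autoImplicit false
universe u
open Polynomial
open EtAlg

namespace Groth.Agent.S1965

open IsLocalRing

lemma eval_mem {A : Type*} [CommRing A] (I : Ideal A) (p : A[X]) (hp : ∀ i, p.coeff i ∈ I)
    (a : A) : p.eval a ∈ I := by
  rw [Polynomial.eval_eq_sum_range]
  exact Ideal.sum_mem _ fun i _ => Ideal.mul_mem_right _ _ (hp i)

lemma mem_smul_top_iff {A : Type*} [CommRing A] (J : Ideal A) (n : ℕ) (x : A) :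
    x ∈ (J ^ n • ⊤ : Submodule A A) ↔ x ∈ J ^ n := by
  rw [smul_eq_mul, Ideal.mul_top]

/-- Newton's method in an adically complete ring (no monicity needed). -/
theorem newton_complete {A : Type*} [CommRing A] (J : Ideal A) [IsAdicComplete J A]
    (h : A[X]) (a₀ : A) (k : ℕ) (hk : 1 ≤ k) (h₁ : h.eval a₀ ∈ J ^ k)
    (h₂ : IsUnit (h.derivative.eval a₀)) :
    ∃ a : A, h.eval a = 0 ∧ a - a₀ ∈ J ^ k := by
  have hJ : J ≤ Ideal.jacobson ⊥ := IsAdicComplete.le_jacobson_bot J
  have hstep : ∀ (n : ℕ) (a : A),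
      (h.eval a ∈ J ^ (k + n) ∧ a - a₀ ∈ J ^ k ∧ IsUnit (h.derivative.eval a)) →
      ∃ a', (h.eval a' ∈ J ^ (k + (n + 1)) ∧ a' - a₀ ∈ J ^ k ∧ IsUnit (h.derivative.eval a')) ∧
        a' - a ∈ J ^ (k + n) := by
    rintro n a ⟨ha1, ha2, ha3⟩
    obtain ⟨v, hv⟩ := ha3.exists_right_inv
    obtain ⟨κ, hκ⟩ := h.binomExpansion a (-(h.eval a * v))
    have hmem : h.eval a * v ∈ J ^ (k + n) := Ideal.mul_mem_right _ _ ha1
    have hsub : a + -(h.eval a * v) - a = -(h.eval a * v) := by ring
    refine ⟨a + -(h.eval a * v), ⟨?_, ?_, ?_⟩, ?_⟩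
    · rw [hκ]
      have e0 : h.eval a + h.derivative.eval a * -(h.eval a * v) = 0 := by
        linear_combination (- h.eval a) * hv
      rw [e0, zero_add]
      have h3 : (-(h.eval a * v)) ^ 2 ∈ J ^ (k + (n + 1)) := by
        have h2 : (-(h.eval a * v)) ^ 2 ∈ (J ^ (k + n)) ^ 2 := Ideal.pow_mem_pow (neg_mem hmem) 2
        rw [← pow_mul] at h2
        exact Ideal.pow_le_pow_right (by omega) h2
      exact Ideal.mul_mem_left _ _ h3
    · have e4 : a + -(h.eval a * v) - a₀ = (a - a₀) - h.eval a * v := by ring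
      rw [e4]
      exact sub_mem ha2 (Ideal.pow_le_pow_right (by omega) hmem)
    · obtain ⟨z, hz⟩ := h.derivative.evalSubFactor (a + -(h.eval a * v)) a
      have hdiff : h.derivative.eval (a + -(h.eval a * v)) - h.derivative.eval a ∈ J := by
        rw [hz]
        refine Ideal.mul_mem_left _ _ ?_
        rw [hsub]
        exact neg_mem (Ideal.pow_le_self (by omega) hmem)
      have hjac := (Ideal.mem_jacobson_bot.1 (hJ hdiff)) v
      have e5 : h.derivative.eval (a + -(h.eval a * v)) = h.derivative.eval a *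
          ((h.derivative.eval (a + -(h.eval a * v)) - h.derivative.eval a) * v + 1) := by
        linear_combination (-(h.derivative.eval (a + -(h.eval a * v)) - h.derivative.eval a)) * hv
      rw [e5]
      exact ha3.mul hjac
    · rw [hsub]; exact neg_mem hmem
  obtain ⟨s, hs1, hs2⟩ := Groth.Agent.Lib.Helper3.exists_seq_of_step
    (fun n a => h.eval a ∈ J ^ (k + n) ∧ a - a₀ ∈ J ^ k ∧ IsUnit (h.derivative.eval a))
    (fun n a a' => a' - a ∈ J ^ (k + n))
    ⟨a₀, by simpa using h₁, by simp, h₂⟩ hstep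
  have hcauchy : ∀ m d, s (m + d) - s m ∈ J ^ m := by
    intro m d
    induction d with
    | zero => simp
    | succ d ih =>
      have e6 : s (m + (d + 1)) - s m = (s (m + d + 1) - s (m + d)) + (s (m + d) - s m) := by
        rw [← add_assoc]; ring
      rw [e6]
      exact add_mem (Ideal.pow_le_pow_right (by omega) (hs2 (m + d))) ih
  obtain ⟨L, hL⟩ := IsPrecomplete.prec' (I := J) s (by
    intro m n hmn
    obtain ⟨d, rfl⟩ := Nat.exists_eq_add_of_le hmn
    exact (SModEq.sub_mem.2 ((mem_smul_top_iff J m _).2 (hcauchy m d))).symm)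
  have hL' : ∀ n, s n - L ∈ J ^ n := fun n =>
    (mem_smul_top_iff J n _).1 (SModEq.sub_mem.1 (hL n))
  refine ⟨L, ?_, ?_⟩
  · refine IsHausdorff.haus' (I := J) (h.eval L) (fun n => ?_)
    rw [SModEq.sub_mem, sub_zero, mem_smul_top_iff]
    obtain ⟨z, hz⟩ := h.evalSubFactor L (s n)
    have e7 : h.eval L = (h.eval L - h.eval (s n)) + h.eval (s n) := by ring
    rw [e7, hz]
    refine add_mem (Ideal.mul_mem_left _ _ ?_) (Ideal.pow_le_pow_right (by omega) (hs1 n).1)
    have e8 : L - s n = -(s n - L) := by ring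
    rw [e8]; exact neg_mem (hL' n)
  · have e9 : L - a₀ = -(s k - L) + (s k - a₀) := by ring
    rw [e9]
    exact add_mem (neg_mem (hL' k)) (hs1 k).2.1

/-- Let A be a complete Noetherian local domain of Krull dimension 1 with maximal ideal m, P a
polynomial over A and α a root of P which is not a root of the derivative P'. Then for every c there
is an n such that for every polynomial Q all of whose coefficients lie in m^n, the polynomial P + Q
has a root β with β - α in m^c. -/
theorem result (A : Type u) [CommRing A] [IsDomain A] [IsLocalRing A] [IsNoetherianRing A]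
    [IsAdicComplete (IsLocalRing.maximalIdeal A) A] (hdim : ringKrullDim A = 1) (P : A[X]) (α : A)
    (hα : P.eval α = 0) (hα' : (derivative P).eval α ≠ 0) (c : ℕ) :
    ∃ n : ℕ, ∀ Q : A[X], (∀ i, Q.coeff i ∈ IsLocalRing.maximalIdeal A ^ n) →
      ∃ β : A, (P + Q).eval β = 0 ∧ β - α ∈ IsLocalRing.maximalIdeal A ^ c := by
  set d := (derivative P).eval α with hd
  have hm_le : maximalIdeal A ≤ (Ideal.span {d}).radical := by
    apply Groth.Agent.Lib.Helper12.maximalIdeal_le_radical_of_forall_not_le hdim.le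
    intro p hp hle
    rw [IsDomain.minimalPrimes_eq_singleton_bot] at hp
    have hp' : p = ⊥ := hp
    rw [hp', Ideal.span_le, Set.singleton_subset_iff] at hle
    exact hα' (by simpa using hle)
  obtain ⟨N, hN⟩ := Ideal.exists_pow_le_of_le_radical_of_fg hm_le (IsNoetherian.noetherian _)
  refine ⟨2 * N + c + 1, fun Q hQ => ?_⟩
  have hQα : Q.eval α ∈ maximalIdeal A ^ (2 * N + c + 1) := eval_mem _ Q hQ α
  have hQ'α : (derivative Q).eval α ∈ maximalIdeal A ^ (2 * N + c + 1) := by
    refine eval_mem _ _ (fun i => ?_) α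
    rw [coeff_derivative]
    exact Ideal.mul_mem_right _ _ (hQ _)
  have hsplit1 : maximalIdeal A ^ (2 * N + c + 1) ≤
      Ideal.span {d ^ 2} * maximalIdeal A ^ (c + 1) := by
    have e1 : 2 * N + c + 1 = N + N + (c + 1) := by ring
    rw [e1, pow_add, pow_add, ← Ideal.span_singleton_pow, pow_two]
    exact Ideal.mul_mono_left (Ideal.mul_mono hN hN)
  obtain ⟨e, he, hde⟩ := Ideal.mem_span_singleton_mul.1 (hsplit1 hQα)
  have hsplit2 : maximalIdeal A ^ (2 * N + c + 1) ≤
      Ideal.span {d} * maximalIdeal A ^ (N + c + 1) := by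
    have e1 : 2 * N + c + 1 = N + (N + c + 1) := by ring
    rw [e1, pow_add]; exact Ideal.mul_mono_left hN
  obtain ⟨q, hq, hdq⟩ := Ideal.mem_span_singleton_mul.1 (hsplit2 hQ'α)
  have hqm : q ∈ maximalIdeal A := Ideal.pow_le_self (by omega) hq
  have hu : IsUnit (1 + q) := by
    have h1 : IsUnit (1 - (-q)) :=
      isUnit_one_sub_self_of_mem_nonunits _ ((mem_maximalIdeal _).1 (neg_mem hqm))
    rwa [sub_neg_eq_add] at h1
  have hfα : (P + Q).eval α = d ^ 2 * e := by rw [eval_add, hα, zero_add, hde]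
  have hf'α : (P + Q).derivative.eval α = d * (1 + q) := by
    rw [derivative_add, eval_add, ← hd, ← hdq]; ring
  obtain ⟨κ, hκ⟩ := ((P + Q).map C).binomExpansion (C α) (C d * X)
  have e1 : ((P + Q).map C).eval (C α) = C ((P + Q).eval α) := by
    rw [eval_map, eval₂_at_apply]
  have e2 : ((P + Q).map C).derivative.eval (C α) = C ((P + Q).derivative.eval α) := by
    rw [derivative_map, eval_map, eval₂_at_apply]
  have hcomp : ((P + Q).map C).eval (C α + C d * X) =
      C (d ^ 2) * (C e + C (1 + q) * X + κ * X ^ 2) := by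
    rw [hκ, e1, e2, hfα, hf'α]
    simp only [map_mul, map_pow, map_add, map_one]
    ring
  have hh0 : (C e + C (1 + q) * X + κ * X ^ 2 : A[X]).eval 0 = e := by simp
  have hh'0 : (C e + C (1 + q) * X + κ * X ^ 2 : A[X]).derivative.eval 0 = 1 + q := by simp
  obtain ⟨y, hy, hy0⟩ := newton_complete (maximalIdeal A) (C e + C (1 + q) * X + κ * X ^ 2) 0
    (c + 1) (by omega) (by rw [hh0]; exact he) (by rw [hh'0]; exact hu)
  refine ⟨α + d * y, ?_, ?_⟩
  · have e3 : (((P + Q).map C).eval (C α + C d * X)).eval y = (P + Q).eval (α + d * y) := by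
      rw [eval_map]
      show ((P + Q).comp (C α + C d * X)).eval y = _
      rw [eval_comp]; simp
    rw [← e3, hcomp, eval_mul, hy, mul_zero]
  · have e4 : α + d * y - α = d * y := by ring
    rw [e4]
    rw [sub_zero] at hy0
    exact Ideal.mul_mem_left _ _ (Ideal.pow_le_pow_right (by omega) hy0)

end Groth.Agent.S1965
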