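import Groth.Statements.S19653
import Groth.Agent.Lib.Helper13.ProperNhd2

set_option autoImplicit false
universe u
open AlgebraicGeometry CategoryTheory CategoryTheory.Limits
open EGA43

namespace Groth.Agent.S19653

/-- Let R be a discrete valuation ring and f : X → Spec R a flat, separated morphism of finite type
whose closed fibre is nonempty and proper over the residue field and whose generic fibre is
geometrically connected. Then f is proper, and its closed fibre is geometrically connected too. (The
published statement does not require the closed fibre to be nonempty; the affine line over the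
fraction field, viewed over R, has empty closed fibre and satisfies the other hypotheses without
being proper, and the published proof uses a point of the closed fibre, so nonemptiness is assumed
here.) -/
theorem result
    (R : Type u) [CommRing R] [IsDomain R] [IsDiscreteValuationRing R]
    (X : Scheme.{u}) (f : X ⟶ Spec (CommRingCat.of R))
    [Flat f] [IsSeparated f] [LocallyOfFiniteType f] [QuasiCompact f]
    [IsProper (f.fiberToSpecResidueField (IsLocalRing.closedPoint R))]
    [Nonempty ↥(f.fiber (IsLocalRing.closedPoint R))]
    [GeometricallyConnected (f.fiberToSpecResidueField (genericPoint ↥(Spec (CommRingCat.of R))))] :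
    IsProper f ∧ GeometricallyConnected (f.fiberToSpecResidueField (IsLocalRing.closedPoint R)) := by
  have hmaxgen : ∀ η : Spec (CommRingCat.of R), (∀ η', η' ⤳ η → η' = η) →
      η = genericPoint ↥(Spec (CommRingCat.of R)) := by
    intro η hη
    exact (hη _ (genericPoint_specializes η)).symm
  have hgen : ∀ η : Spec (CommRingCat.of R), (∀ η', η' ⤳ η → η' = η) →
      GeometricallyConnected (f.fiberToSpecResidueField η) := by
    intro η hη
    rw [hmaxgen η hη]; infer_instance
  obtain ⟨U, hU, hUp⟩ := Groth.Agent.Lib.Helper13.ProperNhd2.proper_nhd_flat f
    (fun η hη _ => hgen η hη) (IsLocalRing.closedPoint R) inferInstance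
  have hUtop : U = ⊤ := by
    rw [eq_top_iff]
    intro x _
    exact (IsLocalRing.specializes_closedPoint (R := R) x).mem_open U.isOpen hU
  have hP : IsProper f := by
    refine (IsZariskiLocalAtTarget.iff_of_iSup_eq_top (P := @IsProper) (fun _ : Unit => U)
      ?_).mpr (fun _ => hUp)
    rw [hUtop]; exact ciSup_const
  haveI := hP
  haveI : LocallyOfFinitePresentation f :=
    Groth.Agent.Lib.Helper12.SecCompBC.locallyOfFinitePresentation_of_isLocallyNoetherian f
  exact ⟨hP, Groth.Agent.Lib.Helper13.ProperNhd2.geomConn_of_max f hgen _⟩

end Groth.Agent.S19653
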