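import Groth.Statements.S1966
import Mathlib.RingTheory.Henselian
import Mathlib.RingTheory.Nilpotent.Defs
import Groth.Agent.Lib.Helper3.HenselFiltration

set_option autoImplicit false
universe u
open EtAlg

namespace Groth.Agent.S1966

open Groth.Agent.Lib.Helper3

/-- Towers indexed by the natural numbers: let (A_k) be rings with surjective transition maps A_{k+1} ->
A_k whose kernels consist of nilpotent elements, and let A be a ring with compatible projections p_k
: A -> A_k identifying A with the set of compatible sequences (p is jointly injective and every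
compatible sequence comes from an element of A). Then for every k the pair (A, ker p_k) is
henselian. -/
theorem result (A : Type u) [CommRing A] (As : ℕ → Type u) [∀ k, CommRing (As k)]
    (t : ∀ k, As (k + 1) →+* As k) (ht : ∀ k, Function.Surjective (t k))
    (hnil : ∀ k (x : As (k + 1)), t k x = 0 → IsNilpotent x)
    (p : ∀ k, A →+* As k) (hp : ∀ k, (t k).comp (p (k + 1)) = p k)
    (hinj : ∀ a b : A, (∀ k, p k a = p k b) → a = b)
    (hsurj : ∀ x : ∀ k, As k, (∀ k, t k (x (k + 1)) = x k) → ∃ a : A, ∀ k, p k a = x k) (k : ℕ) :
    HenselianRing A (RingHom.ker (p k)) := by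
  have hp' : ∀ j (a : A), t j (p (j + 1) a) = p j a := fun j a => by
    rw [← hp j]; rfl
  have hker : ∀ j, RingHom.ker (p (j + 1)) ≤ RingHom.ker (p j) := by
    intro j a ha
    rw [RingHom.mem_ker] at ha ⊢
    rw [← hp' j a, ha, map_zero]
  have hker' : ∀ j m, RingHom.ker (p (j + m)) ≤ RingHom.ker (p j) := by
    intro j m
    induction m with
    | zero => exact le_rfl
    | succ m ih => exact (hker (j + m)).trans ih
  have := henselianRing_of_filtration (fun j => RingHom.ker (p (k + j)))
    (fun j => hker (k + j)) ?_ ?_ ?_
  · simpa using this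
  · intro a ha
    apply hinj
    intro i
    rw [map_zero]
    have h1 : a ∈ RingHom.ker (p (i + k)) := by
      have := ha i
      rwa [add_comm] at this
    exact hker' i k h1
  · intro s hs
    -- reindexed sequence
    let b : ℕ → A := fun i => s (i - k)
    have hb : ∀ i, b (i + 1) - b i ∈ RingHom.ker (p i) := by
      intro i
      by_cases hik : k ≤ i
      · obtain ⟨j, rfl⟩ := Nat.exists_eq_add_of_le hik
        have e1 : k + j + 1 - k = j + 1 := by omega
        have e2 : k + j - k = j := by omega
        simp only [b, e1, e2]
        exact hs j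
      · have e1 : i + 1 - k = 0 := by omega
        have e2 : i - k = 0 := by omega
        simp only [b, e1, e2, sub_self]
        exact Ideal.zero_mem _
    obtain ⟨a, ha⟩ := hsurj (fun i => p i (b i)) (by
      intro i
      rw [hp' i]
      have := hb i
      rw [RingHom.mem_ker, map_sub, sub_eq_zero] at this
      exact this)
    refine ⟨a, fun j => ?_⟩
    rw [RingHom.mem_ker, map_sub, sub_eq_zero, ha (k + j)]
    simp [b]
  · intro j a ha
    rw [RingHom.mem_ker] at ha
    have h1 : t (k + j) (p (k + j + 1) a) = 0 := by rw [hp', ha]
    obtain ⟨m, hm⟩ := hnil _ _ h1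
    refine ⟨m, ?_⟩
    rw [RingHom.mem_ker, map_pow]
    exact hm

end Groth.Agent.S1966
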