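import Mathlib
import Groth.Statements.S19660
-- import your own Groth.Agent.* helpers here

set_option autoImplicit false
universe u v
open AbVar


section
open Polynomial
namespace Groth.Agent.S19660.Aux
variable {k : Type u} [Field k] {V : Type v} [AddCommGroup V] [Module k V]
variable (B : LinearMap.BilinForm k V) (f : V →ₗ[k] V) (q : k)

lemma comm1 (μ : k) (n : ℕ) (v : V) : f (((f - μ • 1) ^ n) v) = ((f - μ • 1) ^ n) (f v) := by
  have hc : Commute f ((f - μ • (1 : V →ₗ[k] V)) ^ n) :=
    ((Commute.refl f).sub_right ((Commute.one_right f).smul_right μ)).pow_right n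
  have := congrArg (fun g : V →ₗ[k] V => g v) hc.eq
  simpa [Module.End.mul_apply] using this

variable (hM : ∀ x y : V, B (f x) (f y) = q * B x y)
include hM

lemma id1 (n : ℕ) (u v : V) :
    B (((f - (1 : k) • 1) ^ n) u) ((f ^ n) v) = (-1) ^ n * B u (((f - q • 1) ^ n) v) := by
  induction n generalizing u v with
  | zero => simp
  | succ n ih =>
    rw [pow_succ, Module.End.mul_apply, pow_succ f, Module.End.mul_apply, ih,
      ← comm1 f q n v, pow_succ' (f - q • 1), Module.End.mul_apply]
    set w := ((f - q • 1) ^ n) v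
    simp only [LinearMap.sub_apply, LinearMap.smul_apply, Module.End.one_apply, map_sub,
      map_smul, smul_eq_mul, one_smul, hM]
    ring

lemma id2 (n : ℕ) (u v : V) :
    B ((f ^ n) u) (((f - q • 1) ^ n) v) = (-q) ^ n * B (((f - (1 : k) • 1) ^ n) u) v := by
  induction n generalizing u v with
  | zero => simp
  | succ n ih =>
    rw [pow_succ, Module.End.mul_apply, pow_succ (f - q • 1), Module.End.mul_apply, ih,
      ← comm1 f 1 n u, pow_succ' (f - (1 : k) • 1), Module.End.mul_apply]
    set w := ((f - (1 : k) • 1) ^ n) u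
    simp only [LinearMap.sub_apply, LinearMap.smul_apply, Module.End.one_apply, map_sub,
      map_smul, smul_eq_mul, one_smul, hM]
    ring

lemma ortho1 (n : ℕ) (x : V) (hx : ((f - (1 : k) • 1) ^ n) x = 0) (v : V) :
    B x (((f - q • 1) ^ n) v) = 0 := by
  have h := id1 B f q hM n x v
  rw [hx, map_zero, LinearMap.zero_apply] at h
  rcases mul_eq_zero.mp h.symm with h0 | h0
  · exact absurd h0 (pow_ne_zero _ (neg_ne_zero.mpr one_ne_zero))
  · exact h0

lemma ortho2 (hq : q ≠ 0) (n : ℕ) (y : V) (hy : ((f - q • 1) ^ n) y = 0) (u : V) :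
    B (((f - (1 : k) • 1) ^ n) u) y = 0 := by
  have h := id2 B f q hM n u y
  rw [hy, map_zero] at h
  rcases mul_eq_zero.mp h.symm with h0 | h0
  · exact absurd h0 (pow_ne_zero _ (neg_ne_zero.mpr hq))
  · exact h0

omit hM in
lemma mem_range_of_ne (μ ν : k) (hμν : μ ≠ ν) (m n : ℕ) (x : V)
    (hx : ((f - μ • 1) ^ m) x = 0) : x ∈ LinearMap.range ((f - ν • 1) ^ n) := by
  have hcop : IsCoprime ((X - C μ : k[X]) ^ m) ((X - C ν) ^ n) :=
    (isCoprime_X_sub_C_of_isUnit_sub (IsUnit.mk0 _ (sub_ne_zero.mpr hμν))).pow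
  obtain ⟨a, b, hab⟩ := hcop
  rw [mul_comm b] at hab
  have h1 : ∀ c : k, aeval f (X - C c : k[X]) = f - c • 1 := by
    intro c
    rw [map_sub, aeval_X, aeval_C, Algebra.algebraMap_eq_smul_one]
  have := congrArg (fun P => aeval f P x) hab
  simp only [map_add, map_mul, map_one, map_pow, h1, LinearMap.add_apply, Module.End.mul_apply,
    Module.End.one_apply, hx, map_zero, zero_add] at this
  exact ⟨_, this⟩

omit hM in
lemma mem_iSup_ker_iff (μ : k) (w : V) :
    w ∈ (⨆ n : ℕ, LinearMap.ker ((f - μ • 1) ^ n)) ↔ w ∈ Module.End.maxGenEigenspace f μ := by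
  rw [Module.End.mem_maxGenEigenspace]
  exact Submodule.mem_iSup_of_chain (LinearMap.iterateKer (f - μ • 1)) w

theorem main [FiniteDimensional k V] (hB : B.Nondegenerate) (hq : q ≠ 0) :
    (∀ x ∈ Module.End.maxGenEigenspace f 1,
        (∀ y ∈ Module.End.maxGenEigenspace f q, B x y = 0) → x = 0) ∧
      (∀ y ∈ Module.End.maxGenEigenspace f q,
        (∀ x ∈ Module.End.maxGenEigenspace f 1, B x y = 0) → y = 0) ∧
      (q ≠ 1 → ∀ x ∈ Module.End.maxGenEigenspace f 1,
        ∀ x' ∈ Module.End.maxGenEigenspace f 1, B x x' = 0) ∧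
      (q ≠ 1 → ∀ y ∈ Module.End.maxGenEigenspace f q,
        ∀ y' ∈ Module.End.maxGenEigenspace f q, B y y' = 0) := by
  refine ⟨?_, ?_, ?_, ?_⟩
  · intro x hx hxy
    obtain ⟨n, hn⟩ := (Module.End.mem_maxGenEigenspace _ _ _).mp hx
    apply hB.1 x
    intro v
    obtain ⟨w, w', hw, hw', rfl⟩ := Submodule.codisjoint_iff_exists_add_eq.mp
      (LinearMap.isCompl_iSup_ker_pow_iInf_range_pow (f - q • 1)).codisjoint v
    obtain ⟨v', rfl⟩ := (Submodule.mem_iInf _).mp hw' n
    rw [map_add, ortho1 B f q hM n x hn, add_zero]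
    exact hxy w ((mem_iSup_ker_iff f q w).mp hw)
  · intro y hy hxy
    obtain ⟨n, hn⟩ := (Module.End.mem_maxGenEigenspace _ _ _).mp hy
    apply hB.2 y
    intro v
    obtain ⟨w, w', hw, hw', rfl⟩ := Submodule.codisjoint_iff_exists_add_eq.mp
      (LinearMap.isCompl_iSup_ker_pow_iInf_range_pow (f - (1 : k) • 1)).codisjoint v
    obtain ⟨v', rfl⟩ := (Submodule.mem_iInf _).mp hw' n
    rw [map_add, LinearMap.add_apply, ortho2 B f q hM hq n y hn, add_zero]
    exact hxy w ((mem_iSup_ker_iff f 1 w).mp hw)
  · intro hq1 x hx x' hx'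
    obtain ⟨n, hn⟩ := (Module.End.mem_maxGenEigenspace _ _ _).mp hx
    obtain ⟨m, hm⟩ := (Module.End.mem_maxGenEigenspace _ _ _).mp hx'
    obtain ⟨v, rfl⟩ := mem_range_of_ne f 1 q (Ne.symm hq1) m n x' hm
    exact ortho1 B f q hM n x hn v
  · intro hq1 y hy y' hy'
    obtain ⟨n, hn⟩ := (Module.End.mem_maxGenEigenspace _ _ _).mp hy'
    obtain ⟨m, hm⟩ := (Module.End.mem_maxGenEigenspace _ _ _).mp hy
    obtain ⟨u, rfl⟩ := mem_range_of_ne f q 1 hq1 m n y hm
    exact ortho2 B f q hM hq n y' hn u

end Groth.Agent.S19660.Aux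
end

namespace Groth.Agent.S19660

/-- The text applies this to the Frobenius acting on the points of prime order of a principally
polarised abelian variety over a finite field with q elements and to their Weil pairing. Let k be a
field, V a finite-dimensional k-vector space with a nondegenerate bilinear form B, q a nonzero
element of k and M a linear automorphism of V with B(Mx, My) = q·B(x, y) for all x, y. Write V₁ and
V_q for the generalized eigenspaces of M at 1 and at q. Then every vector of V₁ that is B-orthogonal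
to all of V_q is zero, every vector of V_q that is B-orthogonal (on the right) to all of V₁ is zero,
and when q ≠ 1 the form B vanishes identically on V₁ × V₁ and on V_q × V_q. (The text asserts this
as the evident adaptation, to a form scaled by q, of the orthogonality and nondegeneracy facts for
generalized kernels of an automorphism preserving a form; the abstract statement is recorded here,
the application to the Weil pairing needing that pairing's formalism.) -/
theorem result
    {k : Type u} [Field k] {V : Type v} [AddCommGroup V] [Module k V] [FiniteDimensional k V]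
    (B : LinearMap.BilinForm k V) (hB : B.Nondegenerate) (q : k) (hq : q ≠ 0)
    (M : V ≃ₗ[k] V) (hM : ∀ x y : V, B (M x) (M y) = q * B x y) :
    (∀ x ∈ Module.End.maxGenEigenspace (M : Module.End k V) 1,
        (∀ y ∈ Module.End.maxGenEigenspace (M : Module.End k V) q, B x y = 0) → x = 0) ∧
      (∀ y ∈ Module.End.maxGenEigenspace (M : Module.End k V) q,
        (∀ x ∈ Module.End.maxGenEigenspace (M : Module.End k V) 1, B x y = 0) → y = 0) ∧
      (q ≠ 1 → ∀ x ∈ Module.End.maxGenEigenspace (M : Module.End k V) 1,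
        ∀ x' ∈ Module.End.maxGenEigenspace (M : Module.End k V) 1, B x x' = 0) ∧
      (q ≠ 1 → ∀ y ∈ Module.End.maxGenEigenspace (M : Module.End k V) q,
        ∀ y' ∈ Module.End.maxGenEigenspace (M : Module.End k V) q, B y y' = 0) := by
  exact Aux.main B (M : V →ₗ[k] V) q (fun x y => hM x y) hB hq

end Groth.Agent.S19660
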