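import Groth.Statements.S1968
import Groth.Agent.S7143

set_option autoImplicit false
universe u
open EtAlg

namespace Groth.Agent.S1968

/-- Let (A_j) be a family of valuation rings with fraction fields K_j. Then every ideal of the product
ring Π A_j is a flat Π A_j-module (that is, Π A_j has weak dimension at most 1), and Π K_j is the
localization of Π A_j at its non-zero-divisors. -/
theorem result {J : Type u} (A : J → Type u) [∀ j, CommRing (A j)] [∀ j, IsDomain (A j)]
    [∀ j, ValuationRing (A j)] (K : J → Type u) [∀ j, Field (K j)] [∀ j, Algebra (A j) (K j)]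
    [∀ j, IsFractionRing (A j) (K j)] :
    (∀ I : Ideal (∀ j, A j), Module.Flat (∀ j, A j) I) ∧
      IsLocalization (nonZeroDivisors (∀ j, A j)) (∀ j, K j) := by
  classical
  refine ⟨fun I => Groth.Agent.S7143.flat_ideal_pi A I, ?_⟩
  rw [isLocalization_iff]
  refine ⟨?_, ?_, ?_⟩
  · rintro ⟨y, hy⟩
    have hj : ∀ j, y j ≠ 0 := by
      intro j h0
      have h1 : (Pi.single j (1 : A j) : ∀ j, A j) * y = 0 := by
        funext i
        by_cases hij : i = j
        · subst hij
          simp [h0]
        · simp [Pi.single_eq_of_ne hij]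
      have h2 := (mul_right_mem_nonZeroDivisors_eq_zero_iff hy).mp h1
      have h3 := congrFun h2 j
      simp at h3
    show IsUnit (algebraMap (∀ j, A j) (∀ j, K j) y)
    rw [Pi.isUnit_iff]
    intro j
    exact IsUnit.mk0 _ ((map_ne_zero_iff _ (IsFractionRing.injective (A j) (K j))).mpr (hj j))
  · intro z
    have h1 : ∀ j, ∃ x : A j × nonZeroDivisors (A j),
        z j * algebraMap (A j) (K j) x.2 = algebraMap (A j) (K j) x.1 :=
      fun j => IsLocalization.surj (nonZeroDivisors (A j)) (z j)
    choose x hx using h1
    have hs : (fun j => ((x j).2 : A j)) ∈ nonZeroDivisors (∀ j, A j) := by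
      rw [mem_nonZeroDivisors_iff_right]
      intro w hw
      funext j
      have h2 := congrFun hw j
      exact (mul_right_mem_nonZeroDivisors_eq_zero_iff (x j).2.2).mp h2
    refine ⟨(fun j => (x j).1, ⟨fun j => ((x j).2 : A j), hs⟩), ?_⟩
    funext j
    exact hx j
  · intro x y hxy
    refine ⟨1, ?_⟩
    have h1 : x = y := by
      funext j
      exact IsFractionRing.injective (A j) (K j) (congrFun hxy j)
    rw [h1]

end Groth.Agent.S1968
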