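import Groth.Statements.S19695
import Mathlib
import Groth.Agent.Lib.Helper17.FinCovTrace
import Groth.Agent.Lib.Helper3.QCExact

set_option autoImplicit false
universe u
open CategoryTheory CategoryTheory.Limits AlgebraicGeometry Opposite
open FinCov

namespace Groth.Agent.S19695

open CategoryTheory CategoryTheory.Limits AlgebraicGeometry Opposite TopologicalSpace
open Groth.Agent.Lib.Helper3 Groth.Agent.Lib.Helper17.FinCovTrace

/-- Let X be a scheme, A a quasi-coherent O_X-algebra which is locally free of rank d as an O_X-module,
and τ : A → O_X its trace (the O_X-linear map which over every affine open where A is finite free is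
the trace of the regular representation). Then the structure map O_X → A followed by τ equals
multiplication by d on O_X. -/
theorem result {X : Scheme.{u}} (A : RelSpec.QCAlg X) (d : ℕ)
    (hA : FlatMod.IsFinLocFreeOfRank d A.toModule)
    (τ : A.toModule ⟶ Coh.structureModule X) (hτ : FinCov.IsTrace A τ) :
    FinCov.strMod A ≫ τ = d • 𝟙 (Coh.structureModule X) := by
  classical
  apply Scheme.Modules.hom_ext
  intro U
  ext s
  have key : ∀ x : U, ∃ (V : X.Opens) (_ : V ≤ U), x.1 ∈ V ∧ IsAffineOpen V ∧
      ∃ e : Fin d → Γ(A.toModule, V), FreeBasis.IsBasis A.toModule V e :=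
    fun x => exists_affine_isBasis hA U x.1 x.2
  choose W hWU hxW hWaff e he using key
  refine InvGen.sec_eq_of_locally_eq (Coh.structureModule X) W U hWU
    (fun y hy => Opens.mem_iSup.mpr ⟨⟨y, hy⟩, hxW ⟨y, hy⟩⟩) _ _ (fun x => ?_)
  show QCSec.res (Coh.structureModule X) (hWU x) ((FinCov.strMod A ≫ τ).app U s) =
    QCSec.res (Coh.structureModule X) (hWU x) ((d • 𝟙 (Coh.structureModule X) :
      Coh.structureModule X ⟶ Coh.structureModule X).app U s)
  rw [← QCExact.app_res', ← QCExact.app_res']
  rw [nsmul_app]
  exact trace_str A hτ (hWaff x) (he x).self _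

end Groth.Agent.S19695
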