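import Groth.Statements.S19696
import Mathlib
import Groth.Agent.Lib.Helper17.FinCovKer
import Groth.Agent.Lib.Helper17.FinCovTrace
import Groth.Agent.S19695

set_option autoImplicit false
universe u
open CategoryTheory CategoryTheory.Limits AlgebraicGeometry Opposite
open FinCov

namespace Groth.Agent.S19696

open CategoryTheory CategoryTheory.Limits AlgebraicGeometry Opposite TopologicalSpace
open Groth.Agent.Lib.Helper3 Groth.Agent.Lib.Helper17.FinCovTrace Groth.Agent.Lib.Helper17.FinCovKer

/-- Let X be a scheme, A a quasi-coherent O_X-algebra which is locally free of rank d as an O_X-module,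
and τ : A → O_X its trace (the O_X-linear map which over every affine open where A is finite free is
the trace of the regular representation). If d is invertible in O_X(X), then τ is a split
epimorphism of O_X-modules — so 0 → ker τ → A → O_X → 0 is split exact — and its kernel ker τ is
locally free of rank d − 1 as an O_X-module. -/
theorem result {X : Scheme.{u}}
    (A : RelSpec.QCAlg X) (d : ℕ) (hA : FlatMod.IsFinLocFreeOfRank d A.toModule)
    (τ : A.toModule ⟶ Coh.structureModule X) (hτ : FinCov.IsTrace A τ)
    (hd : IsUnit ((d : Γ(X, ⊤)))) :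
    IsSplitEpi τ ∧ FlatMod.IsFinLocFreeOfRank (d - 1) (kernel τ) := by
  classical
  have hstr : FinCov.strMod A ≫ τ = d • 𝟙 (Coh.structureModule X) :=
    Groth.Agent.S19695.result A d hA τ hτ
  have hdU : ∀ U : X.Opens, IsUnit ((d : Γ(X, U))) := by
    intro U
    have := hd.map (X.presheaf.map (homOfLE (le_top : U ≤ ⊤)).op).hom
    rwa [map_natCast] at this
  have happ : ∀ (U : X.Opens) (t : Γ(Coh.structureModule X, U)),
      τ.app U ((FinCov.strMod A).app U t) = d • t := by
    intro U t
    have := congrArg (fun φ : Coh.structureModule X ⟶ Coh.structureModule X => φ.app U t) hstr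
    simp only at this
    rw [nsmul_app] at this
    exact this
  constructor
  · -- split epi
    have hiso : IsIso (FinCov.strMod A ≫ τ) := by
      rw [Scheme.Modules.Hom.isIso_iff_isIso_app]
      intro U
      rw [ConcreteCategory.isIso_iff_bijective]
      obtain ⟨w, hw⟩ := hdU U
      have hfun : ∀ t : Γ(Coh.structureModule X, U),
          (FinCov.strMod A ≫ τ).app U t = InvGen.ofFun U ((d : Γ(X, U)) * InvGen.toFun U t) := by
        intro t
        show τ.app U ((FinCov.strMod A).app U t) = _
        rw [happ]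
        show d • (InvGen.toFun U t) = _
        rw [nsmul_eq_mul]
        rfl
      constructor
      · intro s t hst
        rw [hfun, hfun] at hst
        have h1 : (d : Γ(X, U)) * InvGen.toFun U s = (d : Γ(X, U)) * InvGen.toFun U t := hst
        rw [← hw] at h1
        exact w.isUnit.mul_left_cancel h1
      · intro s
        refine ⟨InvGen.ofFun U ((↑w⁻¹ : Γ(X, U)) * InvGen.toFun U s), ?_⟩
        rw [hfun]
        show InvGen.ofFun U ((d : Γ(X, U)) * ((↑w⁻¹ : Γ(X, U)) * InvGen.toFun U s)) = s
        rw [← mul_assoc, ← hw, Units.mul_inv, one_mul]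
        rfl
    exact IsSplitEpi.mk' ⟨inv (FinCov.strMod A ≫ τ) ≫ FinCov.strMod A, by
      rw [Category.assoc, IsIso.inv_hom_id]⟩
  · -- the kernel
    rw [FreeBasis.isFinLocFreeOfRank_iff]
    intro x
    obtain ⟨d', rfl⟩ : ∃ d', d = d' + 1 := by
      rcases d with _ | d'
      · exfalso
        have h0 : IsUnit (0 : Γ(X, ⊤)) := by
          have := hd
          rwa [Nat.cast_zero] at this
        have hgerm := h0.map (X.presheaf.germ ⊤ x trivial).hom
        rw [map_zero] at hgerm
        exact not_isUnit_zero hgerm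
      · exact ⟨d', rfl⟩
    rw [Nat.add_sub_cancel]
    rw [FreeBasis.isFinLocFreeOfRank_iff] at hA
    obtain ⟨U₀, e, hxU₀, he⟩ := hA x
    obtain ⟨c, hc⟩ := he.self.2 ((FinCov.strMod A).app U₀ (InvGen.ofFun U₀ 1))
    simp only at hc
    have hsum : ∑ i, c i * tauL τ U₀ (e i) = ((d' + 1 : ℕ) : Γ(X, U₀)) := by
      have h1 := congrArg (tauL τ U₀) hc
      rw [map_sum] at h1
      simp only [map_smul, smul_eq_mul] at h1
      rw [h1, tauL_apply, happ]
      show (d' + 1) • (1 : Γ(X, U₀)) = _
      rw [nsmul_eq_mul, mul_one]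
    obtain ⟨i₀, hi₀⟩ : ∃ i₀, x ∈ X.basicOpen (tauL τ U₀ (e i₀)) := by
      by_contra hno
      push_neg at hno
      have hmem : ∀ i, (X.presheaf.germ U₀ x hxU₀).hom (c i * tauL τ U₀ (e i)) ∈
          IsLocalRing.maximalIdeal (X.presheaf.stalk x) := by
        intro i
        rw [IsLocalRing.mem_maximalIdeal, mem_nonunits_iff]
        intro hu
        apply hno i
        rw [X.mem_basicOpen _ x hxU₀]
        rw [map_mul] at hu
        exact isUnit_of_mul_isUnit_right hu
      have hs := Ideal.sum_mem _ (fun i (_ : i ∈ Finset.univ) => hmem i)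
      rw [← map_sum, hsum] at hs
      exact hs ((hdU U₀).map (X.presheaf.germ U₀ x hxU₀).hom)
    have hVle : X.basicOpen (tauL τ U₀ (e i₀)) ≤ U₀ := X.basicOpen_le _
    have hunit : IsUnit (QCSec.rres X hVle (tauL τ U₀ (e i₀))) :=
      RingedSpace.isUnit_res_basicOpen _ _
    obtain ⟨w, hw⟩ := hunit
    obtain ⟨f, hf⟩ := exists_isBasis_kernel τ (fun i => QCSec.res A.toModule hVle (e i))
      (he.mono hVle) i₀ (↑w⁻¹ : Γ(X, X.basicOpen (tauL τ U₀ (e i₀)))) (by
        rw [tauL_res, ← hw, Units.mul_inv])
    exact ⟨_, f, hi₀, hf⟩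

end Groth.Agent.S19696
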