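import Groth.Statements.S19698
import Mathlib
import Groth.Agent.Lib.Helper3.FreeBasis
import Groth.Agent.Lib.Helper3.InvGen

set_option autoImplicit false
universe u
open CategoryTheory CategoryTheory.Limits AlgebraicGeometry Opposite
open FinCov

namespace Groth.Agent.S19698

open Groth.Agent.Lib.Helper3 AlgebraicGeometry CategoryTheory Opposite

/-- Let X be a scheme, L an invertible O_X-module, m : L ⊗ L → O_X a homomorphism of O_X-modules, and
(A, j : L → A) a quasi-coherent O_X-algebra presented as O_X ⊕ L with product given by m (over every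
open, every section of A is uniquely s·1 + j(l), and j(l)·j(l') = m(l ⊗ l')·1). Then A is locally
free of rank 2 as an O_X-module. (The classification of double covers is stated for schemes on which
2 is invertible; this assertion does not use that assumption, so it is not made here.) -/
theorem result {X : Scheme.{u}} (L : X.Modules) (hL : PicF.IsInvertible L)
    (m : CohB1.tensorMod L L ⟶ Coh.structureModule X) (A : RelSpec.QCAlg X) (j : L ⟶ A.toModule)
    (h : FinCov.IsDblAlg L m A j) : FlatMod.IsFinLocFreeOfRank 2 A.toModule := by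
  obtain ⟨hbij, -⟩ := h
  rw [FreeBasis.isFinLocFreeOfRank_iff]
  intro x
  obtain ⟨U, e, hxU, hg⟩ := InvGen.exists_isGen hL x
  let one : Γ(A.toModule, U) := (1 : A.presheaf.obj (op U))
  refine ⟨U, ![one, j.app U e], hxU, ?_⟩
  intro V hV
  have hone : QCSec.res A.toModule hV one = (1 : A.presheaf.obj (op V)) :=
    map_one (A.presheaf.map (homOfLE hV).op).hom
  have hcomp : (fun a : Fin 2 → Γ(X, V) =>
        ∑ i, a i • (fun i => QCSec.res A.toModule hV ((![one, j.app U e] : Fin 2 → _) i)) i) =
      (fun p : Γ(X, V) × L.val.obj (op V) =>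
        (A.str.app (op V)).hom p.1 + FinCov.toSec A ((j.val.app (op V)).hom p.2)) ∘
        (fun a : Fin 2 → Γ(X, V) => (a 0, a 1 • QCSec.res L hV e)) := by
    funext a
    rw [Fin.sum_univ_two]
    simp only [Function.comp, Matrix.cons_val_zero, Matrix.cons_val_one]
    congr 1
    · rw [hone]
      exact mul_one ((A.str.app (op V)).hom (a 0))
    · rw [← QCExact.app_res' j hV e]
      exact (Scheme.Modules.Hom.app_smul j (a 1) (QCSec.res L hV e)).symm
  unfold FreeBasis.IsBasisAt
  rw [hcomp]
  refine (hbij V).comp ?_
  have hgV := hg V hV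
  constructor
  · intro a b hab
    simp only [Prod.mk.injEq] at hab
    funext i
    fin_cases i
    · exact hab.1
    · exact hgV.1 hab.2
  · rintro ⟨s, l⟩
    obtain ⟨r, hr⟩ := hgV.2 l
    refine ⟨![s, r], ?_⟩
    simp only [Matrix.cons_val_zero, Matrix.cons_val_one]
    exact Prod.ext rfl hr

end Groth.Agent.S19698
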