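import Groth.Statements.S19699
import Mathlib
import Groth.Agent.Lib.Helper17.FinCovDbl2
import Groth.Agent.Lib.Helper3.TensorDesc
import Groth.Agent.S19695
import Groth.Agent.S19696

set_option autoImplicit false
universe u
open CategoryTheory CategoryTheory.Limits AlgebraicGeometry Opposite
open FinCov

namespace Groth.Agent.S19699

open CategoryTheory CategoryTheory.Limits AlgebraicGeometry Opposite TopologicalSpace
open Groth.Agent.Lib.Helper3 Groth.Agent.Lib.Helper17.FinCovTrace Groth.Agent.Lib.Helper17.FinCovTraceEx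
  Groth.Agent.Lib.Helper17.FinCovDbl Groth.Agent.Lib.Helper17.FinCovDbl2

/-- Let X be a scheme with 2 invertible in O_X(X), A a quasi-coherent O_X-algebra which is locally free
of rank 2 as an O_X-module, and τ : A → O_X its trace (the O_X-linear map which over every affine
open where A is finite free is the trace of the regular representation). Then there is a
homomorphism of O_X-modules m : ker τ ⊗ ker τ → O_X such that A, with the inclusion ker τ → A, is
the algebra O_X ⊕ ker τ with product given by m: over every open subset, every section of A is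
uniquely s·1 + l with s a function and l a section of ker τ, and l·l' = m(l ⊗ l')·1 for sections l,
l' of ker τ. -/
theorem result {X : Scheme.{u}} (A : RelSpec.QCAlg X)
    (hA : FlatMod.IsFinLocFreeOfRank 2 A.toModule)
    (τ : A.toModule ⟶ Coh.structureModule X) (hτ : FinCov.IsTrace A τ) (h2 : IsUnit (2 : Γ(X, ⊤))) :
    ∃ m : CohB1.tensorMod (kernel τ) (kernel τ) ⟶ Coh.structureModule X,
      FinCov.IsDblAlg (kernel τ) m A (kernel.ι τ) := by
  classical
  have hstr : FinCov.strMod A ≫ τ = 2 • 𝟙 (Coh.structureModule X) :=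
    Groth.Agent.S19695.result A 2 hA τ hτ
  have happ : ∀ (U : X.Opens) (t : Γ(Coh.structureModule X, U)),
      τ.app U ((FinCov.strMod A).app U t) = 2 • t := by
    intro U t
    have := congrArg (fun φ : Coh.structureModule X ⟶ Coh.structureModule X => φ.app U t) hstr
    simp only at this
    rw [nsmul_app] at this
    exact this
  have hbij := decomp_bijective happ h2
  have hK1 : FlatMod.IsFinLocFreeOfRank 1 (kernel τ : X.Modules) :=
    (Groth.Agent.S19696.result A 2 hA τ hτ (by rw [Nat.cast_ofNat]; exact h2)).2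
  -- local generators of the kernel
  have hgen : ∀ (U : X.Opens) (x : X), x ∈ U → ∃ (V : X.Opens) (_ : V ≤ U)
      (f : Γ((kernel τ : X.Modules), V)), x ∈ V ∧ IsAffineOpen V ∧
        InvGen.IsGen (kernel τ) V f := by
    intro U x hx
    obtain ⟨V, hle, hxV, hV, e, he⟩ := exists_affine_isBasis hK1 U x hx
    exact ⟨V, hle, e 0, hxV, hV, isGen_of_isBasis he⟩
  obtain ⟨w, hw⟩ := h2
  set u : Γ(X, ⊤) := (↑w⁻¹ : Γ(X, ⊤)) with hu
  have hu2 : ∀ U : X.Opens, QCSec.rres X (le_top : U ≤ ⊤) u * 2 = 1 := by
    intro U
    have h1 : u * 2 = 1 := by rw [hu, ← hw, Units.inv_mul]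
    have := congrArg (QCSec.rres X (le_top : U ≤ ⊤)) h1
    rw [InvGen.rres_mul, InvGen.rres_one] at this
    rw [← this]
    congr 1
    exact (map_ofNat (X.presheaf.map (homOfLE (le_top : U ≤ ⊤)).op).hom 2).symm
  -- the product of two sections of the kernel, as a section of `A`
  let prod : ∀ U : X.Opens, Γ((kernel τ : X.Modules), U) → Γ((kernel τ : X.Modules), U) →
      Γ(A.toModule, U) := fun U l l' =>
    (FinCov.toSec A ((kernel.ι τ).app U l) * FinCov.toSec A ((kernel.ι τ).app U l') :
      A.presheaf.obj (op U))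
  have prod_res : ∀ {U V : X.Opens} (h : V ≤ U) (l l' : Γ((kernel τ : X.Modules), U)),
      QCSec.res A.toModule h (prod U l l') =
        prod V (QCSec.res (kernel τ) h l) (QCSec.res (kernel τ) h l') := by
    intro U V h l l'
    show ares A h (_ * _) = _
    rw [map_mul]
    show ares A h _ * ares A h _ = FinCov.toSec A ((kernel.ι τ).app V _) *
      FinCov.toSec A ((kernel.ι τ).app V _)
    rw [QCExact.app_res', QCExact.app_res']
    rfl
  -- the pairing
  let pair : ∀ U : X.Opens, Γ((kernel τ : X.Modules), U) → Γ((kernel τ : X.Modules), U) →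
      Γ(Coh.structureModule X, U) := fun U l l' =>
    InvGen.ofFun U (QCSec.rres X (le_top : U ≤ ⊤) u * InvGen.toFun U (τ.app U (prod U l l')))
  have hmul : ∀ (U : X.Opens) (l l' : Γ((kernel τ : X.Modules), U)),
      prod U l l' = (FinCov.strMod A).app U (pair U l l') := by
    intro U l l'
    have key : ∀ x : U, ∃ (V : X.Opens) (hle : V ≤ U), x.1 ∈ V ∧
        QCSec.res A.toModule hle (prod U l l') =
          QCSec.res A.toModule hle ((FinCov.strMod A).app U (pair U l l')) := by
      intro x
      obtain ⟨V, hle, f, hxV, hV, hg⟩ := hgen U x.1 x.2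
      refine ⟨V, hle, hxV, ?_⟩
      obtain ⟨α, hα⟩ := sq_mem_str hτ hbij hV hg.self
      obtain ⟨c, hc⟩ := hg.self.2 (QCSec.res (kernel τ) hle l)
      obtain ⟨c', hc'⟩ := hg.self.2 (QCSec.res (kernel τ) hle l')
      simp only at hc hc'
      have h1 : QCSec.res A.toModule hle (prod U l l') =
          (FinCov.strMod A).app V (InvGen.ofFun V (c * c' * α)) := by
        rw [prod_res, ← hc, ← hc']
        show FinCov.toSec A ((kernel.ι τ).app V (c • f)) *
          FinCov.toSec A ((kernel.ι τ).app V (c' • f)) = (A.str.app (op V)).hom (c * c' * α)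
        rw [Scheme.Modules.Hom.app_smul, Scheme.Modules.Hom.app_smul]
        show ((A.str.app (op V)).hom c * FinCov.toSec A ((kernel.ι τ).app V f)) *
          ((A.str.app (op V)).hom c' * FinCov.toSec A ((kernel.ι τ).app V f)) = _
        rw [map_mul, map_mul, ← hα]
        ring
      rw [h1, ← QCExact.app_res']
      congr 1
      symm
      show InvGen.ofFun V (QCSec.rres X hle (QCSec.rres X (le_top : U ≤ ⊤) u *
        InvGen.toFun U (τ.app U (prod U l l')))) = InvGen.ofFun V (c * c' * α)
      congr 1
      rw [InvGen.rres_mul, QCSec.rres_rres]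
      have h2 : QCSec.rres X hle (InvGen.toFun U (τ.app U (prod U l l'))) =
          InvGen.toFun V (τ.app V (QCSec.res A.toModule hle (prod U l l'))) := by
        rw [QCExact.app_res']
        rfl
      rw [h2, h1, happ]
      have e3 : ∀ t : Γ(X, V), InvGen.toFun V
          ((2 • InvGen.ofFun V t : Γ(Coh.structureModule X, V))) = 2 * t := by
        intro t
        rw [two_nsmul, two_mul]
        rfl
      rw [e3, ← mul_assoc, hu2 V, one_mul]
    choose W hWU hxW hW using key
    exact InvGen.sec_eq_of_locally_eq A.toModule W U hWU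
      (fun y hy => Opens.mem_iSup.mpr ⟨⟨y, hy⟩, hxW ⟨y, hy⟩⟩) _ _ hW
  have prod_add_left : ∀ (U : X.Opens) (l₁ l₂ l' : Γ((kernel τ : X.Modules), U)),
      prod U (l₁ + l₂) l' = prod U l₁ l' + prod U l₂ l' := by
    intro U l₁ l₂ l'
    have h0 : (kernel.ι τ).app U (l₁ + l₂) = (kernel.ι τ).app U l₁ + (kernel.ι τ).app U l₂ :=
      map_add _ _ _
    show FinCov.toSec A ((kernel.ι τ).app U (l₁ + l₂)) * FinCov.toSec A ((kernel.ι τ).app U l') =
      FinCov.toSec A ((kernel.ι τ).app U l₁) * FinCov.toSec A ((kernel.ι τ).app U l') +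
        FinCov.toSec A ((kernel.ι τ).app U l₂) * FinCov.toSec A ((kernel.ι τ).app U l')
    rw [h0]
    exact add_mul (FinCov.toSec A ((kernel.ι τ).app U l₁))
      (FinCov.toSec A ((kernel.ι τ).app U l₂)) (FinCov.toSec A ((kernel.ι τ).app U l'))
  have prod_comm : ∀ (U : X.Opens) (l l' : Γ((kernel τ : X.Modules), U)),
      prod U l l' = prod U l' l := fun U l l' =>
    mul_comm (FinCov.toSec A ((kernel.ι τ).app U l)) (FinCov.toSec A ((kernel.ι τ).app U l'))
  have prod_smul_left : ∀ (U : X.Opens) (a : Γ(X, U)) (l l' : Γ((kernel τ : X.Modules), U)),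
      prod U (a • l) l' = a • prod U l l' := by
    intro U a l l'
    have h0 : (kernel.ι τ).app U (a • l) = a • (kernel.ι τ).app U l :=
      Scheme.Modules.Hom.app_smul _ _ _
    show FinCov.toSec A ((kernel.ι τ).app U (a • l)) * FinCov.toSec A ((kernel.ι τ).app U l') =
      (A.str.app (op U)).hom a * (FinCov.toSec A ((kernel.ι τ).app U l) *
        FinCov.toSec A ((kernel.ι τ).app U l'))
    rw [h0]
    exact mul_assoc ((A.str.app (op U)).hom a) (FinCov.toSec A ((kernel.ι τ).app U l))
      (FinCov.toSec A ((kernel.ι τ).app U l'))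
  have pair_add_left : ∀ (U : X.Opens) (l₁ l₂ l' : Γ((kernel τ : X.Modules), U)),
      pair U (l₁ + l₂) l' = pair U l₁ l' + pair U l₂ l' := by
    intro U l₁ l₂ l'
    have e : InvGen.toFun U (τ.app U (prod U l₁ l') + τ.app U (prod U l₂ l')) =
        InvGen.toFun U (τ.app U (prod U l₁ l')) + InvGen.toFun U (τ.app U (prod U l₂ l')) := rfl
    show InvGen.ofFun U (QCSec.rres X (le_top : U ≤ ⊤) u *
        InvGen.toFun U (τ.app U (prod U (l₁ + l₂) l'))) =
      InvGen.ofFun U (QCSec.rres X (le_top : U ≤ ⊤) u *
        InvGen.toFun U (τ.app U (prod U l₁ l'))) +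
      InvGen.ofFun U (QCSec.rres X (le_top : U ≤ ⊤) u *
        InvGen.toFun U (τ.app U (prod U l₂ l')))
    rw [prod_add_left, map_add, e, mul_add]
    rfl
  have pair_smul_left : ∀ (U : X.Opens) (a : Γ(X, U)) (l l' : Γ((kernel τ : X.Modules), U)),
      pair U (a • l) l' = a • pair U l l' := by
    intro U a l l'
    have e : InvGen.toFun U (a • τ.app U (prod U l l')) =
        a * InvGen.toFun U (τ.app U (prod U l l')) := rfl
    show InvGen.ofFun U (QCSec.rres X (le_top : U ≤ ⊤) u *
        InvGen.toFun U (τ.app U (prod U (a • l) l'))) =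
      InvGen.ofFun U (a * (QCSec.rres X (le_top : U ≤ ⊤) u *
        InvGen.toFun U (τ.app U (prod U l l'))))
    rw [prod_smul_left, Scheme.Modules.Hom.app_smul, e, mul_left_comm]
  have pair_comm : ∀ (U : X.Opens) (l l' : Γ((kernel τ : X.Modules), U)),
      pair U l l' = pair U l' l := by
    intro U l l'
    show InvGen.ofFun U (_ * InvGen.toFun U (τ.app U (prod U l l'))) = _
    rw [prod_comm]
  let B : TensorDesc.Pairing (kernel τ : X.Modules) (kernel τ : X.Modules)
      (Coh.structureModule X) :=
    { toFun := pair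
      add_left := pair_add_left
      add_right := fun U l l₁ l₂ => by
        rw [pair_comm, pair_add_left, pair_comm U l₁, pair_comm U l₂]
      smul_left := pair_smul_left
      smul_right := fun U a l l' => by
        rw [pair_comm, pair_smul_left, pair_comm]
      map_res := fun {U V} h l l' => by
        show InvGen.ofFun V (QCSec.rres X h (QCSec.rres X (le_top : U ≤ ⊤) u *
          InvGen.toFun U (τ.app U (prod U l l')))) = _
        rw [InvGen.rres_mul, QCSec.rres_rres]
        have h2 : QCSec.rres X h (InvGen.toFun U (τ.app U (prod U l l'))) =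
            InvGen.toFun V (τ.app V (QCSec.res A.toModule h (prod U l l'))) := by
          rw [QCExact.app_res']
          rfl
        rw [h2, prod_res] }
  refine ⟨B.hom, hbij, ?_⟩
  intro U l l'
  have h1 := TensorDesc.Pairing.hom_tm B U l l'
  have h3 := hmul U l l'
  show prod U l l' = (FinCov.strMod A).app U (B.hom.app U (InvTensor.tm _ _ U l l'))
  rw [h1]
  exact h3

end Groth.Agent.S19699
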