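import Groth.Statements.S19700
import Mathlib
import Groth.Agent.Lib.Helper17.FinCovDbl
import Groth.Agent.S19695
import Groth.Agent.S19698

set_option autoImplicit false
universe u
open CategoryTheory CategoryTheory.Limits AlgebraicGeometry Opposite
open FinCov

namespace Groth.Agent.S19700

open CategoryTheory CategoryTheory.Limits AlgebraicGeometry Opposite TopologicalSpace
open Groth.Agent.Lib.Helper3 Groth.Agent.Lib.Helper17.FinCovTrace Groth.Agent.Lib.Helper17.FinCovDbl

/-- Let X be a scheme with 2 invertible in O_X(X), L an invertible O_X-module, m : L ⊗ L → O_X a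
homomorphism of O_X-modules, (A, j : L → A) a quasi-coherent O_X-algebra presented as O_X ⊕ L with
product given by m (every section of A is uniquely s·1 + j(l), and j(l)·j(l') = m(l ⊗ l')·1), and τ
: A → O_X the trace of A (the O_X-linear map which over every affine open where A is finite free is
the trace of the regular representation; A is locally free of rank 2 here). Then for every open
subset U of X and every section a of A over U, τ(a) = 0 if and only if a lies in the image of j over
U: the kernel of the trace is exactly j(L). -/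
theorem result {X : Scheme.{u}} (L : X.Modules) (hL : PicF.IsInvertible L)
    (m : CohB1.tensorMod L L ⟶ Coh.structureModule X) (A : RelSpec.QCAlg X) (j : L ⟶ A.toModule)
    (h : FinCov.IsDblAlg L m A j) (h2 : IsUnit (2 : Γ(X, ⊤)))
    (τ : A.toModule ⟶ Coh.structureModule X) (hτ : FinCov.IsTrace A τ)
    (U : X.Opens) (a : A.toModule.val.obj (op U)) :
    (τ.val.app (op U)).hom a = 0 ↔ a ∈ Set.range (j.val.app (op U)).hom := by
  classical
  have hrank : FlatMod.IsFinLocFreeOfRank 2 A.toModule := Groth.Agent.S19698.result L hL m A j h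
  have hstr : FinCov.strMod A ≫ τ = 2 • 𝟙 (Coh.structureModule X) :=
    Groth.Agent.S19695.result A 2 hrank τ hτ
  -- the trace of `j(l)` vanishes
  have hj : ∀ l : Γ(L, U), τ.app U (j.app U l) = 0 := by
    intro l
    have key : ∀ x : U, ∃ (V : X.Opens) (e : Γ(L, V)), IsAffineOpen V ∧ x.1 ∈ V ∧ V ≤ U ∧
        InvGen.IsGen L V e := fun x => InvGen.exists_affine_isGen_le hL x.1 U x.2
    choose W e hWaff hxW hWU he using key
    refine InvGen.sec_eq_of_locally_eq (Coh.structureModule X) W U hWU
      (fun y hy => Opens.mem_iSup.mpr ⟨⟨y, hy⟩, hxW ⟨y, hy⟩⟩) _ _ (fun x => ?_)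
    rw [← QCExact.app_res', ← QCExact.app_res', QCSec.res_zero]
    exact trace_j_of_isGenAt hτ h (hWaff x) (he x).self _
  have hs : ∀ s : Γ(Coh.structureModule X, U), τ.app U ((FinCov.strMod A).app U s) = 2 • s := by
    intro s
    have := congrArg (fun φ : Coh.structureModule X ⟶ Coh.structureModule X => φ.app U s) hstr
    simp only at this
    rw [nsmul_app] at this
    exact this
  have h2U : IsUnit (2 : Γ(X, U)) := by
    have := h2.map (X.presheaf.map (homOfLE (le_top : U ≤ ⊤)).op).hom
    rwa [map_ofNat] at this
  constructor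
  · intro ha
    obtain ⟨⟨s, l⟩, hsl⟩ := (h.1 U).2 (FinCov.toSec A a)
    have ha' : a = (FinCov.strMod A).app U s + j.app U l := hsl.symm
    have h3 : τ.app U a = 2 • (show Γ(Coh.structureModule X, U) from s) := by
      rw [ha', map_add, hj, add_zero, hs]
    have h4 : (2 : Γ(X, U)) * s = 0 := by
      have : τ.app U a = 0 := ha
      rw [h3] at this
      rw [two_mul]
      rw [two_nsmul] at this
      exact this
    have h5 : s = 0 := h2U.mul_right_eq_zero.mp h4
    refine ⟨l, ?_⟩
    rw [ha', h5]
    show j.app U l = (FinCov.strMod A).app U (0 : Γ(Coh.structureModule X, U)) + j.app U l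
    rw [QCExact.app_zero, zero_add]
  · rintro ⟨l, rfl⟩
    exact hj l

end Groth.Agent.S19700
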