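import Mathlib
import Groth.Statements.S19708
-- import your own Groth.Agent.* helpers here

set_option autoImplicit false
universe u v w
open W4c5adicflatcompl
open CAlg

namespace Groth.Agent.S19708.Aux

theorem main {A : Type u} [CommRing A] (I : Ideal A) (Z : Type v)
    (M : Type w) [AddCommGroup M] [Module A M] [IsAdicComplete I M] (f : Z → M) :
    f ∈ decaying I Z M ↔ ∃ m : M, ∀ n : ℕ, ∃ S : Finset Z,
      (∀ z, z ∉ S → f z ∈ (I ^ n • ⊤ : Submodule A M)) ∧ m - (∑ z ∈ S, f z) ∈ (I ^ n • ⊤ : Submodule A M) := by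
  classical
  constructor
  · intro hf
    have hfin : ∀ n : ℕ, {z | f z ∉ (I ^ n • ⊤ : Submodule A M)}.Finite := hf
    let S : ℕ → Finset Z := fun n => (hfin n).toFinset
    have hS : ∀ n z, z ∉ S n → f z ∈ (I ^ n • ⊤ : Submodule A M) := by
      intro n z hz
      by_contra h
      exact hz ((hfin n).mem_toFinset.mpr h)
    have hmono : ∀ {a b : ℕ}, a ≤ b → S a ⊆ S b := by
      intro a b hab z hz
      rw [(hfin a).mem_toFinset] at hz
      rw [(hfin b).mem_toFinset]
      intro h
      exact hz (Submodule.smul_mono_left (Ideal.pow_le_pow_right hab) h)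
    have hcauchy : ∀ {a b : ℕ}, a ≤ b →
        (∑ z ∈ S a, f z) ≡ (∑ z ∈ S b, f z) [SMOD (I ^ a • ⊤ : Submodule A M)] := by
      intro a b hab
      rw [SModEq.comm, SModEq.sub_mem, ← Finset.sum_sdiff (hmono hab), add_sub_cancel_right]
      refine Submodule.sum_mem _ (fun z hz => ?_)
      exact hS a z (Finset.mem_sdiff.mp hz).2
    obtain ⟨m, hm⟩ := IsPrecomplete.prec (I := I) inferInstance (f := fun n => ∑ z ∈ S n, f z) hcauchy
    refine ⟨m, fun n => ⟨S n, hS n, ?_⟩⟩
    have := hm n
    rw [SModEq.comm, SModEq.sub_mem] at this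
    exact this
  · rintro ⟨m, hm⟩ n
    obtain ⟨S, hS, -⟩ := hm n
    refine S.finite_toSet.subset ?_
    intro z hz
    by_contra h
    exact hz (hS z h)

end Groth.Agent.S19708.Aux

namespace Groth.Agent.S19708

/-- Let A be a commutative ring, I an ideal of A, M an I-adically complete A-module, Z a set and f : Z →
M a function. Then f is I-adically decaying (for every n, all but finitely many values f(z) lie in
I^n M) if and only if the family (f(z))_{z ∈ Z} has an I-adic sum in M, i.e. there is an element m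
of M such that for every n some finite subset S of Z has f(z) ∈ I^n M for all z outside S and m −
Σ_{z ∈ S} f(z) ∈ I^n M. -/
theorem result {A : Type u} [CommRing A] (I : Ideal A) (Z : Type v)
    (M : Type w) [AddCommGroup M] [Module A M] [IsAdicComplete I M] (f : Z → M) :
    f ∈ decaying I Z M ↔ ∃ m : M, ∀ n : ℕ, ∃ S : Finset Z,
      (∀ z, z ∉ S → f z ∈ (I ^ n • ⊤ : Submodule A M)) ∧ m - (∑ z ∈ S, f z) ∈ (I ^ n • ⊤ : Submodule A M) := by
  exact Aux.main I Z M f

end Groth.Agent.S19708
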