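import Groth.Statements.S1971
import Mathlib.RingTheory.Spectrum.Prime.Basic
import Groth.Agent.Lib.Helper3.HenselPair

set_option autoImplicit false
universe u
open EtAlg

namespace Groth.Agent.S1971

open Groth.Agent.Lib.Helper3

theorem map_le_radical_map_of_zeroLocus_eq {A : Type u} [CommRing A] {I J : Ideal A}
    (h : PrimeSpectrum.zeroLocus (I : Set A) = PrimeSpectrum.zeroLocus (J : Set A))
    {C : Type u} [CommRing C] (f : A →+* C) : I.map f ≤ (J.map f).radical := by
  have hrad : I.radical = J.radical := by
    rw [← PrimeSpectrum.vanishingIdeal_zeroLocus_eq_radical, ← PrimeSpectrum.vanishingIdeal_zeroLocus_eq_radical, h]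
  calc I.map f ≤ I.radical.map f := Ideal.map_mono Ideal.le_radical
    _ = J.radical.map f := by rw [hrad]
    _ ≤ (J.map f).radical := Ideal.map_radical_le f

theorem aux1971 (A : Type u) [CommRing A] (I J : Ideal A)
    (h : PrimeSpectrum.zeroLocus (I : Set A) = PrimeSpectrum.zeroLocus (J : Set A)) (B : Type u) [CommRing B] [Algebra A B]
    (H : Hens2.IsPairHenselization A I B) : Hens2.IsPairHenselization A J B := by
  obtain ⟨H1, H2⟩ := H
  refine ⟨henselianRing_of_le_radical H1 (map_le_radical_map_of_zeroLocus_eq h.symm _), ?_⟩
  intro C _ J' f hC hJ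
  exact H2 C J'.radical f (henselianRing_radical hC)
    ((map_le_radical_map_of_zeroLocus_eq h f).trans (Ideal.radical_mono hJ))

/-- Let A be a ring with ideals I and J having the same zero locus in Spec A. Then an A-algebra is a
henselization of the pair (A, I) if and only if it is a henselization of the pair (A, J). -/
theorem result (A : Type u) [CommRing A] (I J : Ideal A)
    (h : PrimeSpectrum.zeroLocus (I : Set A) = PrimeSpectrum.zeroLocus (J : Set A)) (B : Type u) [CommRing B] [Algebra A B] :
    Hens2.IsPairHenselization A I B ↔ Hens2.IsPairHenselization A J B := by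
  exact ⟨aux1971 A I J h B, aux1971 A J I h.symm B⟩

end Groth.Agent.S1971
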