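import Mathlib
import Groth.Statements.S19711


set_option autoImplicit false
universe u
open CategoryTheory
open Coh

namespace Aux19711
open Submodule

/-- generic splitting over a domain -/
theorem gen_split {A : Type*} [CommRing A] [IsDomain A] {FA Q : Type*} [AddCommGroup FA] [Module A FA]
    [AddCommGroup Q] [Module A Q] [Module.Finite A Q] (π : FA →ₗ[A] Q) (hπ : Function.Surjective π) :
    ∃ g : A, g ≠ 0 ∧ ∃ σ : Q →ₗ[A] FA, ∀ q, π (σ q) = g • q := by
  classical
  obtain ⟨n, s, hs⟩ := Submodule.fg_iff_exists_fin_generating_family.mp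
    (Module.Finite.fg_top (R := A) (M := Q))
  have hfin : ({I : Set (Fin n) | LinearIndepOn A s I}).Finite := Set.toFinite _
  have hne : ({I : Set (Fin n) | LinearIndepOn A s I}).Nonempty := ⟨∅, linearIndepOn_empty A s⟩
  obtain ⟨I, hI⟩ := hfin.exists_maximal hne
  have hIli : LinearIndepOn A s I := hI.prop
  -- each generator has a nonzero multiple in span (s '' I)
  have hmul : ∀ j : Fin n, ∃ a : A, a ≠ 0 ∧ a • s j ∈ span A (s '' I) := by
    intro j
    by_cases hj : j ∈ I
    · exact ⟨1, one_ne_zero, by rw [one_smul]; exact subset_span ⟨j, hj, rfl⟩⟩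
    · have hnot : ¬ LinearIndepOn A s (insert j I) := by
        intro h
        have := hI.le_of_ge h (Set.subset_insert j I)
        exact hj (this (Set.mem_insert j I))
      rw [linearDepOn_iff'] at hnot
      obtain ⟨f, hfs, hf0, hfne⟩ := hnot
      have herase : f.erase j ∈ Finsupp.supported A A I := by
        rw [Finsupp.mem_supported'] at hfs ⊢
        intro x hx
        by_cases hxj : x = j
        · rw [hxj, Finsupp.erase_same]
        · rw [Finsupp.erase_ne hxj]
          apply hfs
          rw [Set.mem_insert_iff]
          push Not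
          exact ⟨hxj, hx⟩
      have hfj : f j ≠ 0 := by
        intro h0
        apply hfne
        have h1 : f = f.erase j := by
          conv_lhs => rw [← Finsupp.single_add_erase j f, h0, Finsupp.single_zero, zero_add]
        rw [h1] at hf0 ⊢
        exact linearIndepOn_iff.mp hIli _ herase hf0
      refine ⟨f j, hfj, ?_⟩
      have h2 : f j • s j = - Finsupp.linearCombination A s (f.erase j) := by
        rw [← Finsupp.single_add_erase j f, map_add, Finsupp.linearCombination_single] at hf0
        exact eq_neg_of_add_eq_zero_left hf0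
      rw [h2]
      apply Submodule.neg_mem
      exact (Finsupp.mem_span_image_iff_linearCombination A).mpr ⟨_, herase, rfl⟩
  choose a ha hamem using hmul
  set g : A := ∏ j, a j with hg
  have hgne : g ≠ 0 := Finset.prod_ne_zero_iff.mpr fun j _ => ha j
  have hgs : ∀ j, g • s j ∈ span A (s '' I) := by
    intro j
    have : g = (∏ j' ∈ Finset.univ.erase j, a j') * a j := by
      rw [hg, Finset.prod_erase_mul _ _ (Finset.mem_univ j)]
    rw [this, mul_smul]
    exact Submodule.smul_mem _ _ (hamem j)
  have hgq : ∀ q : Q, g • q ∈ span A (s '' I) := by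
    intro q
    have hq : q ∈ span A (Set.range s) := by rw [hs]; trivial
    induction hq using Submodule.span_induction with
    | mem x hx =>
      obtain ⟨j, rfl⟩ := hx
      exact hgs j
    | zero => rw [smul_zero]; exact zero_mem _
    | add x y _ _ hx hy => rw [smul_add]; exact add_mem hx hy
    | smul c x _ hx => rw [smul_comm]; exact Submodule.smul_mem _ _ hx
  -- basis of span (s '' I)
  have hrange : Set.range (fun i : I => s i) = s '' I := by
    ext x; simp
  let b : Module.Basis I A (span A (Set.range (fun i : I => s i))) := Module.Basis.span hIli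
  choose lift hlift using hπ
  let τ : span A (Set.range (fun i : I => s i)) →ₗ[A] FA := b.constr A (fun i : I => lift (s i))
  have hτ : ∀ x : span A (Set.range (fun i : I => s i)), π (τ x) = (x : Q) := by
    intro x
    have : π ∘ₗ τ = (span A (Set.range (fun i : I => s i))).subtype := by
      apply b.ext
      intro i
      simp only [LinearMap.comp_apply, τ, Module.Basis.constr_basis, hlift, Submodule.subtype_apply]
      exact (congrArg Subtype.val (Module.Basis.span_apply hIli i)).symm
    exact LinearMap.congr_fun this x
  have hgq' : ∀ q : Q, g • q ∈ span A (Set.range (fun i : I => s i)) := by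
    intro q; rw [hrange]; exact hgq q
  refine ⟨g, hgne, τ ∘ₗ (LinearMap.codRestrict _ (g • LinearMap.id) hgq'), ?_⟩
  intro q
  rw [LinearMap.comp_apply, hτ]
  rfl



theorem main {A : Type u} [CommRing A] [IsNoetherianRing A] [IsDomain A]
    (F K : ModuleCat.{u} A ⥤ ModuleCat.{u} A) [F.Additive] [F.Linear A] [K.Additive] [K.Linear A]
    (ι : K ⟶ F) (hι : ∀ X : ModuleCat.{u} A, Function.Injective (ι.app X).hom)
    (hfin : Module.Finite A (F.obj (ModuleCat.of A A)))
    (hGI : ∃ U : Set (PrimeSpectrum A), IsOpen U ∧ Dense U ∧ ∀ u ∈ U, Algebra.FiniteType A u.asIdeal.ResidueField →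
        ∀ m : F.obj (ModuleCat.of A A),
          (F.map (ModuleCat.ofHom (Algebra.linearMap A u.asIdeal.ResidueField))).hom m = 0 →
            ∃ s ∉ u.asIdeal, s • m ∈ u.asIdeal • (⊤ : Submodule A (F.obj (ModuleCat.of A A)))) :
    ∃ U : Set (PrimeSpectrum A), IsOpen U ∧ Dense U ∧ ∀ u ∈ U, Algebra.FiniteType A u.asIdeal.ResidueField →
        ∀ m : K.obj (ModuleCat.of A A),
          (K.map (ModuleCat.ofHom (Algebra.linearMap A u.asIdeal.ResidueField))).hom m = 0 →
            ∃ s ∉ u.asIdeal, s • m ∈ u.asIdeal • (⊤ : Submodule A (K.obj (ModuleCat.of A A))) := by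
  obtain ⟨U, hUo, hUd, hU⟩ := hGI
  let ιA : (K.obj (ModuleCat.of A A)) →ₗ[A] (F.obj (ModuleCat.of A A)) :=
    (ι.app (ModuleCat.of A A)).hom
  let R : Submodule A (F.obj (ModuleCat.of A A)) := LinearMap.range ιA
  let π : (F.obj (ModuleCat.of A A)) →ₗ[A] ((F.obj (ModuleCat.of A A)) ⧸ R) := R.mkQ
  have hπ : Function.Surjective π := R.mkQ_surjective
  obtain ⟨g, hg, σ, hσ⟩ := gen_split π hπ
  refine ⟨U ∩ (PrimeSpectrum.basicOpen g : Set (PrimeSpectrum A)),
    hUo.inter (PrimeSpectrum.basicOpen g).isOpen, ?_, ?_⟩
  · apply hUd.inter_of_isOpen_right _ (PrimeSpectrum.basicOpen g).isOpen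
    apply IsOpen.dense (PrimeSpectrum.basicOpen g).isOpen
    refine ⟨⟨⊥, Ideal.isPrime_bot⟩, ?_⟩
    show g ∉ (⊥ : Ideal A)
    simpa using hg
  · rintro u ⟨hu, hug⟩ hft m hm
    have hug' : g ∉ u.asIdeal := hug
    have hnat : (F.map (ModuleCat.ofHom (Algebra.linearMap A u.asIdeal.ResidueField))).hom (ιA m) = 0 := by
      have h1 := ι.naturality (ModuleCat.ofHom (Algebra.linearMap A u.asIdeal.ResidueField))
      have h2 := congrArg (fun φ => φ.hom m) h1
      simp only [ModuleCat.hom_comp, LinearMap.comp_apply] at h2
      rw [← h2, hm, map_zero]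
    obtain ⟨s, hs, hmem⟩ := hU u hu hft (ιA m) hnat
    refine ⟨s * g, fun h => (u.isPrime.mem_or_mem h).elim hs hug', ?_⟩
    let ρ' : (F.obj (ModuleCat.of A A)) →ₗ[A] (F.obj (ModuleCat.of A A)) :=
      g • LinearMap.id - σ ∘ₗ π
    have hρrange : LinearMap.range ρ' ≤ R := by
      rintro _ ⟨x, rfl⟩
      rw [← Submodule.ker_mkQ R, LinearMap.mem_ker]
      show π (g • x - σ (π x)) = 0
      rw [map_sub, map_smul, hσ, sub_self]
    have h1 : ρ' (s • ιA m) ∈ (u.asIdeal • (⊤ : Submodule A (F.obj (ModuleCat.of A A)))).map ρ' :=
      Submodule.mem_map_of_mem hmem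
    rw [Submodule.map_smul'', Submodule.map_top] at h1
    have h2 : u.asIdeal • LinearMap.range ρ' ≤
        (u.asIdeal • (⊤ : Submodule A (K.obj (ModuleCat.of A A)))).map ιA := by
      rw [Submodule.map_smul'', Submodule.map_top]
      exact Submodule.smul_mono le_rfl hρrange
    obtain ⟨y, hy, hye⟩ := h2 h1
    have hπι : π (ιA m) = 0 := by
      rw [← LinearMap.mem_ker, Submodule.ker_mkQ]
      exact ⟨m, rfl⟩
    have h4 : ρ' (s • ιA m) = ιA ((s * g) • m) := by
      show g • (s • ιA m) - σ (π (s • ιA m)) = _
      rw [map_smul π, hπι, smul_zero, map_zero, sub_zero, map_smul, smul_smul, mul_comm]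
    rw [h4] at hye
    have h5 := hι _ hye
    rw [← h5]
    exact hy

end Aux19711
namespace Groth.Agent.S19711

/-- Let A be a Noetherian integral domain and F an A-linear additive functor from A-modules to A-modules
with F(A) a finitely generated A-module. Call such a functor generically injective when there is a
dense open subset U of Spec A such that for every point u of U whose residue field κ(u) is a
finitely generated A-algebra the comparison map F(A) ⊗_A κ(u) → F(κ(u)) is injective; since F is
A-linear this injectivity says: every m in F(A) whose image under F(A → κ(u)) vanishes satisfies s·m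
∈ u·F(A) for some s outside u. If F is generically injective then so is every A-linear additive
subfunctor K ⊆ F (a natural transformation K → F with injective components). (The published
statement is over a reduced Noetherian affine scheme, for additive functors on quasi-coherent
sheaves with values in abelian groups and the induced A-action, assumes F weakly bounded (F(A/p)
finitely generated for every prime ideal p) and also records that K is again weakly bounded; only
the finite generation of F(A), which its argument uses, is assumed here, and the integral case with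
A-linear functors stated here is the one its argument by generic flatness treats.) -/
theorem result {A : Type u} [CommRing A] [IsNoetherianRing A] [IsDomain A]
    (F K : ModuleCat.{u} A ⥤ ModuleCat.{u} A) [F.Additive] [F.Linear A] [K.Additive] [K.Linear A]
    (ι : K ⟶ F) (hι : ∀ X : ModuleCat.{u} A, Function.Injective (ι.app X).hom)
    (hfin : Module.Finite A (F.obj (ModuleCat.of A A)))
    (hGI : ∃ U : Set (PrimeSpectrum A), IsOpen U ∧ Dense U ∧ ∀ u ∈ U, Algebra.FiniteType A u.asIdeal.ResidueField →
        ∀ m : F.obj (ModuleCat.of A A),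
          (F.map (ModuleCat.ofHom (Algebra.linearMap A u.asIdeal.ResidueField))).hom m = 0 →
            ∃ s ∉ u.asIdeal, s • m ∈ u.asIdeal • (⊤ : Submodule A (F.obj (ModuleCat.of A A)))) :
    ∃ U : Set (PrimeSpectrum A), IsOpen U ∧ Dense U ∧ ∀ u ∈ U, Algebra.FiniteType A u.asIdeal.ResidueField →
        ∀ m : K.obj (ModuleCat.of A A),
          (K.map (ModuleCat.ofHom (Algebra.linearMap A u.asIdeal.ResidueField))).hom m = 0 →
            ∃ s ∉ u.asIdeal, s • m ∈ u.asIdeal • (⊤ : Submodule A (K.obj (ModuleCat.of A A))) := by
  exact Aux19711.main F K ι hι hfin hGI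

end Groth.Agent.S19711
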