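import Groth.Statements.S1973
import Mathlib
import Groth.Agent.Lib.Helper8.EtaleDedekind

set_option autoImplicit false
universe u
open EtAlg

namespace Groth.Agent.S1973

/-- Let A be a Dedekind domain and B an etale A-algebra. Then B is isomorphic as a ring to a finite
product of Dedekind domains, and for every maximal ideal q of B whose localization is not a field,
the localization B_q is a discrete valuation ring. (The source states the last claim for all maximal
ideals; it fails for field factors, e.g. A a DVR with uniformizer π and B = A[1/π], so the guard is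
needed.) -/
theorem result (A B : Type u) [CommRing A] [IsDedekindDomain A] [CommRing B] [Algebra A B]
    [Algebra.Etale A B] :
    (∃ (n : ℕ) (D : Fin n → Type u) (_ : ∀ i, CommRing (D i)) (_ : ∀ i, IsDedekindDomain (D i)),
      Nonempty (B ≃+* ∀ i, D i)) ∧
    ∀ (q : Ideal B) [q.IsMaximal], ¬ IsField (Localization.AtPrime q) →
      ∃ _ : IsDomain (Localization.AtPrime q), IsDiscreteValuationRing (Localization.AtPrime q) := by
  haveI : IsNoetherianRing B := Algebra.FiniteType.isNoetherianRing A B
  refine ⟨?_, fun q _ hq =>
    Groth.Agent.Lib.Helper8.EtaleDedekind.isDiscreteValuationRing_localization A B q hq⟩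
  obtain ⟨n, f, hf, e, he⟩ := Groth.Agent.Lib.Helper8.LocDomainProd.exists_equiv_pi (R := B)
    (fun m _ => (Groth.Agent.Lib.Helper8.NormalSmooth.isDomain_isIntegrallyClosed_of_etale A B m).1)
  haveI : ∀ i, (f i).IsPrime := fun i => (hf i).1.1
  let e' : B ≃ₐ[A] (∀ i, B ⧸ f i) := AlgEquiv.ofRingEquiv (f := e) (by
    intro a
    funext i
    rw [he]
    rfl)
  haveI : Algebra.FormallyEtale A (∀ i, B ⧸ f i) := Algebra.FormallyEtale.of_equiv e'
  have hfe : ∀ i, Algebra.FormallyEtale A (B ⧸ f i) :=
    (Algebra.FormallyEtale.pi_iff (R := A) (fun i => B ⧸ f i)).mp inferInstance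
  have het : ∀ i, Algebra.Etale A (B ⧸ f i) := fun i =>
    { formallyEtale := hfe i
      finitePresentation := Algebra.FinitePresentation.quotient (IsNoetherian.noetherian (f i)) }
  refine ⟨n, fun i => B ⧸ f i, inferInstance, fun i => ?_, ⟨e⟩⟩
  haveI := het i
  exact Groth.Agent.Lib.Helper8.EtaleDedekind.isDedekindDomain_of_isDomain A (B ⧸ f i)

end Groth.Agent.S1973
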