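import Mathlib
import Groth.Statements.S19748
import Groth.Agent.Lib.Helper29.GradedZ

set_option autoImplicit false
universe u
open scoped TensorProduct
open GrSegre

namespace Groth.Agent.S19748.Aux
open Groth.Agent.Lib.Helper29.GradedZ

lemma pow_smul_bijective {R M : Type*} [Monoid R] [MulAction R M] (f : R)
    (h : Function.Bijective (fun x : M => f • x)) (e : ℕ) :
    Function.Bijective (fun x : M => f ^ e • x) := by
  induction e with
  | zero =>
    have : (fun x : M => f ^ 0 • x) = id := by funext x; simp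
    rw [this]; exact Function.bijective_id
  | succ e ih =>
    have : (fun x : M => f ^ (e + 1) • x) = (fun x => f • x) ∘ (fun x => f ^ e • x) := by
      funext x; simp [pow_succ', mul_smul]
    rw [this]; exact h.comp ih

variable {k : Type u} [Field k] {R S : Type u} [CommRing R] [Algebra k R] [CommRing S] [Algebra k S]
  {M : Type u} [AddCommGroup M] [Module R M] [Module k M] [IsScalarTower k R M]
  {N : Type u} [AddCommGroup N] [Module S N] [Module k N] [IsScalarTower k S N]

lemma act_tmul_eq (r : R) (s : S) :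
    GrSeg.act k R S M N (r ⊗ₜ[k] s) =
      TensorProduct.map (Algebra.lsmul k k M r) (Algebra.lsmul k k N s) := by
  apply TensorProduct.ext'
  intro m n
  rw [GrSeg.act_tmul, TensorProduct.map_tmul]
  rfl

end Groth.Agent.S19748.Aux

namespace Groth.Agent.S19748

/-- Let R and S be graded rings defined over a field k with Segre product T = R # S, M a graded R-module
and N a graded S-module. Suppose that multiplication by some homogeneous element f ∈ R_d of positive
degree d is bijective on M and multiplication by some homogeneous g ∈ S_e of positive degree e is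
bijective on N. Then multiplication by some homogeneous element of T of positive degree is bijective
on M # N. Here a graded ring defined over k is a commutative k-algebra of finite type, graded in
nonnegative degrees by k-subspaces with degree-zero part k·1; the Segre product T = R # S = ⊕_n R_n
⊗_k S_n is presented abstractly as a graded k-algebra T with an injective k-algebra homomorphism ψ :
T → R ⊗_k S carrying T_n onto the k-span of the elementary tensors a ⊗ b with a ∈ R_n, b ∈ S_n; the
Segre product M # N = ⊕_n M_n ⊗_k N_n of a graded R-module M and a graded S-module N is presented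
abstractly as a graded T-module P with an injective k-linear map φ : P → M ⊗_k N carrying P_n onto
the k-span of the tensors x ⊗ y with x ∈ M_n, y ∈ N_n and turning the action of t ∈ T into that of
ψ(t) (acting factorwise on M ⊗_k N). -/
theorem result (k : Type u) [Field k] (R : Type u) [CommRing R] [Algebra k R] (𝒜 : ℤ → Submodule k R) [GradedAlgebra 𝒜] (hposR : ∀ n : ℤ, n < 0 → 𝒜 n = ⊥) (h0R : 𝒜 0 = Submodule.span k {(1 : R)}) [Algebra.FiniteType k R] (S : Type u) [CommRing S] [Algebra k S] (ℬ : ℤ → Submodule k S) [GradedAlgebra ℬ] (hposS : ∀ n : ℤ, n < 0 → ℬ n = ⊥) (h0S : ℬ 0 = Submodule.span k {(1 : S)}) [Algebra.FiniteType k S] (T : Type u) [CommRing T] [Algebra k T] (𝒯 : ℤ → Submodule k T) [GradedAlgebra 𝒯] (ψ : T →ₐ[k] TensorProduct k R S) (hT : GrSeg.IsSegreRing 𝒜 ℬ 𝒯 ψ) (M : Type u) [AddCommGroup M] [Module R M] [Module k M] [IsScalarTower k R M] (ℳ : ℤ → AddSubgroup M) [DirectSum.Decomposition ℳ] [SetLike.GradedSMul 𝒜 ℳ] (N : Type u) [AddCommGroup N] [Module S N] [Module k N] [IsScalarTower k S N]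 (𝒩 : ℤ → AddSubgroup N) [DirectSum.Decomposition 𝒩] [SetLike.GradedSMul ℬ 𝒩] (P : Type u) [AddCommGroup P] [Module T P] [Module k P] [IsScalarTower k T P] (𝒬 : ℤ → AddSubgroup P) [DirectSum.Decomposition 𝒬] (φ : P →ₗ[k] TensorProduct k M N) (hP : GrSeg.IsSegreMod ψ ℳ 𝒩 𝒬 φ) (d : ℕ) (hd : 0 < d) (f : R) (hf : f ∈ 𝒜 (d : ℤ)) (hfM : Function.Bijective (fun x : M => f • x)) (e : ℕ) (he : 0 < e) (g : S) (hg : g ∈ ℬ (e : ℤ)) (hgN : Function.Bijective (fun y : N => g • y)) : ∃ (c : ℤ) (t : T), 0 < c ∧ t ∈ 𝒯 c ∧ Function.Bijective (fun p : P => t • p) := by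
  classical
  -- the homogeneous elements
  set c : ℤ := (d : ℤ) * e with hc
  have hcpos : 0 < c := by positivity
  have hr : f ^ e ∈ 𝒜 c := by
    have := SetLike.pow_mem_graded e hf
    rwa [nsmul_eq_mul, mul_comm] at this
  have hs : g ^ d ∈ ℬ c := by
    have := SetLike.pow_mem_graded d hg
    rwa [nsmul_eq_mul] at this
  have hrM := Aux.pow_smul_bijective f hfM e
  have hsN := Aux.pow_smul_bijective g hgN d
  -- the element t
  have hτ : (f ^ e) ⊗ₜ[k] (g ^ d) ∈ GrSeg.segrePiece k 𝒜 ℬ c :=
    Submodule.subset_span ⟨_, hr, _, hs, rfl⟩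
  rw [← hT.2 c] at hτ
  obtain ⟨t, ht, hψt⟩ := hτ
  refine ⟨c, t, hcpos, ht, ?_⟩
  -- linear equivalences
  let FM : M ≃ₗ[k] M := LinearEquiv.ofBijective (Algebra.lsmul k k M (f ^ e)) hrM
  let GN : N ≃ₗ[k] N := LinearEquiv.ofBijective (Algebra.lsmul k k N (g ^ d)) hsN
  let E : TensorProduct k M N ≃ₗ[k] TensorProduct k M N := TensorProduct.congr FM GN
  have hE : ∀ p : P, φ (t • p) = E (φ p) := by
    intro p
    rw [hP.map_smul]
    have h1 : ψ t = (f ^ e) ⊗ₜ[k] (g ^ d) := hψt
    rw [h1, Aux.act_tmul_eq]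
    rfl
  constructor
  · intro p p' hpp
    apply hP.injective
    apply E.injective
    rw [← hE, ← hE]
    exact congrArg φ hpp
  · intro p
    induction p using DirectSum.Decomposition.inductionOn 𝒬 with
    | zero => exact ⟨0, smul_zero t⟩
    | @homogeneous n p =>
      have hφp : φ (p : P) ∈ GrSeg.segrePiece k ℳ 𝒩 n := by
        have := hP.image_piece n
        rw [← SetLike.mem_coe, ← this]
        exact ⟨p, p.2, rfl⟩
      have hle : GrSeg.segrePiece k ℳ 𝒩 n ≤
          (GrSeg.segrePiece k ℳ 𝒩 (n - c)).comap E.symm.toLinearMap := by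
        refine Submodule.span_le.mpr ?_
        rintro _ ⟨a, ha, b, hb, rfl⟩
        show E.symm (a ⊗ₜ[k] b) ∈ GrSeg.segrePiece k ℳ 𝒩 (n - c)
        have h1 : E.symm (a ⊗ₜ[k] b) = FM.symm a ⊗ₜ[k] GN.symm b := rfl
        rw [h1]
        refine Submodule.subset_span ⟨_, ?_, _, ?_, rfl⟩
        · apply Groth.Agent.Lib.Helper29.GradedZ.mem_of_smul_mem 𝒜 ℳ hr hrM.injective
          have : f ^ e • FM.symm a = a := FM.apply_symm_apply a
          rw [this]; exact ha
        · apply Groth.Agent.Lib.Helper29.GradedZ.mem_of_smul_mem ℬ 𝒩 hs hsN.injective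
          have : g ^ d • GN.symm b = b := GN.apply_symm_apply b
          rw [this]; exact hb
      have hq : E.symm (φ (p : P)) ∈ (GrSeg.segrePiece k ℳ 𝒩 (n - c) : Set (TensorProduct k M N)) :=
        hle hφp
      rw [← hP.image_piece (n - c)] at hq
      obtain ⟨q, -, hq⟩ := hq
      refine ⟨q, ?_⟩
      apply hP.injective
      rw [hE, hq, LinearEquiv.apply_symm_apply]
    | add p p' hp hp' =>
      obtain ⟨q, rfl⟩ := hp
      obtain ⟨q', rfl⟩ := hp'
      exact ⟨q + q', smul_add t q q'⟩

end Groth.Agent.S19748
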