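import Mathlib
import Groth.Statements.S19749
-- import your own Groth.Agent.* helpers here

set_option autoImplicit false
universe u
open scoped TensorProduct
open GrSegre

namespace Groth.Agent.S19749

/-- Let R and S be graded rings defined over a field k, both generated over k by their degree-one parts
and of positive Krull dimension, T = R # S, M a graded R-module and N a graded S-module, n an
integer with N_m ≠ 0 for every m ≥ n, and x ∈ M_n, y ∈ N_n. If x # y generates M # N as a T-module,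
then R_d x = M_{n+d} for every d ≥ 0 (every element of M_{n+d} is r x for some r ∈ R_d). Here a
graded ring defined over k is a commutative k-algebra of finite type, graded in nonnegative degrees
by k-subspaces with degree-zero part k·1; the Segre product T = R # S = ⊕_n R_n ⊗_k S_n is presented
abstractly as a graded k-algebra T with an injective k-algebra homomorphism ψ : T → R ⊗_k S carrying
T_n onto the k-span of the elementary tensors a ⊗ b with a ∈ R_n, b ∈ S_n; the Segre product M # N =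
⊕_n M_n ⊗_k N_n of a graded R-module M and a graded S-module N is presented abstractly as a graded
T-module P with an injective k-linear map φ : P → M ⊗_k N carrying P_n onto the k-span of the
tensors x ⊗ y with x ∈ M_n, y ∈ N_n and turning the action of t ∈ T into that of ψ(t) (acting
factorwise on M ⊗_k N), and x # y is the element of P mapped to x ⊗ y. -/
theorem result (k : Type u) [Field k] (R : Type u) [CommRing R] [Algebra k R] (𝒜 : ℤ → Submodule k R) [GradedAlgebra 𝒜] (hposR : ∀ n : ℤ, n < 0 → 𝒜 n = ⊥) (h0R : 𝒜 0 = Submodule.span k {(1 : R)}) [Algebra.FiniteType k R] (S : Type u) [CommRing S] [Algebra k S] (ℬ : ℤ → Submodule k S) [GradedAlgebra ℬ] (hposS : ∀ n : ℤ, n < 0 → ℬ n = ⊥) (h0S : ℬ 0 = Submodule.span k {(1 : S)}) [Algebra.FiniteType k S] (T : Type u) [CommRing T] [Algebra k T] (𝒯 : ℤ → Submodule k T) [GradedAlgebra 𝒯] (ψ : T →ₐ[k] TensorProduct k R S) (hT : GrSeg.IsSegreRing 𝒜 ℬ 𝒯 ψ) (hstdR : Ideal.span (⋃ n ∈ Set.Ioi (0 : ℤ), (𝒜 n : Set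 R)) = Ideal.span ((𝒜 1 : Submodule k R) : Set R)) (hstdS : Ideal.span (⋃ n ∈ Set.Ioi (0 : ℤ), (ℬ n : Set S)) = Ideal.span ((ℬ 1 : Submodule k S) : Set S)) (hr1 : 1 ≤ ringKrullDim R) (hs1 : 1 ≤ ringKrullDim S) (M : Type u) [AddCommGroup M] [Module R M] [Module k M] [IsScalarTower k R M] (ℳ : ℤ → AddSubgroup M) [DirectSum.Decomposition ℳ] [SetLike.GradedSMul 𝒜 ℳ] (N : Type u) [AddCommGroup N] [Module S N] [Module k N] [IsScalarTower k S N] (𝒩 : ℤ → AddSubgroup N) [DirectSum.Decomposition 𝒩] [SetLike.GradedSMul ℬ 𝒩] (P : Type u) [AddCommGroup P] [Module T P] [Module k P] [IsScalarTower k T P] (𝒬 : ℤ → AddSubgroup P) [DirectSum.Decomposition 𝒬] (φ : P →ₗ[k] TensorProduct k M N) (hP : GrSeg.IsSegreMod ψ ℳ 𝒩 𝒬 φ) (n : ℤ) (hNn : ∀ m : ℤ, n ≤ m → 𝒩 m ≠ ⊥) (x : M) (hx : x ∈ ℳ n) (y : N) (hy : y ∈ 𝒩 n) (p : P) (hp : φ p = x ⊗ₜ[k] y) (hgen : Submodule.span T {p} = ⊤) (d : ℤ) (hd : 0 ≤ d) (z : M) (hz : z ∈ ℳ (n + d)) : ∃ r ∈ 𝒜 d, r • x = z := by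
  classical
  -- a nonzero element of `N_{n+d}` and a functional detecting it
  obtain ⟨⟨w, hw⟩, hw0⟩ := (AddSubgroup.ne_bot_iff_exists_ne_zero).mp (hNn (n + d) (by omega))
  have hw0' : w ≠ 0 := fun h => hw0 (Subtype.ext h)
  obtain ⟨lam0, hlam0⟩ : ∃ l : Module.Dual k N, l w ≠ 0 := by
    by_contra hcon
    push Not at hcon
    exact hw0' ((Module.forall_dual_apply_eq_zero_iff k w).mp hcon)
  let lam : Module.Dual k N := (lam0 w)⁻¹ • lam0
  have hlam : lam w = 1 := by
    show (lam0 w)⁻¹ • lam0 w = 1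
    rw [smul_eq_mul, inv_mul_cancel₀ hlam0]
  let Λ : TensorProduct k M N →ₗ[k] M :=
    (TensorProduct.rid k M).toLinearMap ∘ₗ (LinearMap.lTensor M lam)
  have hΛ : ∀ (m : M) (v : N), Λ (m ⊗ₜ[k] v) = lam v • m := by
    intro m v
    show (TensorProduct.rid k M) ((LinearMap.lTensor M lam) (m ⊗ₜ[k] v)) = lam v • m
    rw [LinearMap.lTensor_tmul, TensorProduct.rid_tmul]
  -- `z ⊗ w` comes from `q = t • p`
  have hzw : z ⊗ₜ[k] w ∈ (GrSeg.segrePiece k ℳ 𝒩 (n + d) : Set (TensorProduct k M N)) :=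
    Submodule.subset_span ⟨z, hz, w, hw, rfl⟩
  rw [← hP.image_piece (n + d)] at hzw
  obtain ⟨q, -, hq⟩ := hzw
  have hqspan : q ∈ Submodule.span T {p} := by rw [hgen]; trivial
  obtain ⟨t, rfl⟩ := Submodule.mem_span_singleton.mp hqspan
  -- per-degree extraction
  have hL : ∀ (j : ℤ) (u : TensorProduct k R S), u ∈ GrSeg.segrePiece k 𝒜 ℬ j →
      ∃ r ∈ 𝒜 j, Λ (GrSeg.act k R S M N u (x ⊗ₜ[k] y)) = r • x := by
    intro j u hu
    induction hu using Submodule.span_induction with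
    | mem u hu =>
      obtain ⟨a, ha, b, hb, rfl⟩ := hu
      refine ⟨lam (b • y) • a, Submodule.smul_mem _ _ ha, ?_⟩
      rw [GrSeg.act_tmul, hΛ, smul_assoc]
    | zero => exact ⟨0, Submodule.zero_mem _, by rw [map_zero, LinearMap.zero_apply, map_zero, zero_smul]⟩
    | add u v _ _ hu hv =>
      obtain ⟨r₁, hr₁, h₁⟩ := hu
      obtain ⟨r₂, hr₂, h₂⟩ := hv
      exact ⟨r₁ + r₂, Submodule.add_mem _ hr₁ hr₂, by
        rw [map_add, LinearMap.add_apply, map_add, h₁, h₂, add_smul]⟩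
    | smul c u _ hu =>
      obtain ⟨r₁, hr₁, h₁⟩ := hu
      exact ⟨c • r₁, Submodule.smul_mem _ _ hr₁, by
        rw [map_smul, LinearMap.smul_apply, map_smul, h₁, smul_assoc]⟩
  have hmemj : ∀ j : ℤ, ψ (DirectSum.decompose 𝒯 t j : T) ∈ GrSeg.segrePiece k 𝒜 ℬ j := by
    intro j
    rw [← hT.2 j]
    exact Submodule.mem_map_of_mem (DirectSum.decompose 𝒯 t j).2
  choose r hr hrx using fun j => hL j _ (hmemj j)
  -- `z = Σ_j r_j • x`
  have hzsum : z = ∑ j ∈ (DirectSum.decompose 𝒯 t).support, r j • x := by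
    have h1 : Λ (φ (t • p)) = z := by rw [hq, hΛ, hlam, one_smul]
    rw [← h1, hP.map_smul, hp]
    conv_lhs => rw [← DirectSum.sum_support_decompose 𝒯 t]
    rw [map_sum, map_sum, LinearMap.sum_apply, map_sum]
    exact Finset.sum_congr rfl (fun j _ => hrx j)
  -- extract the degree `n + d` component
  have hcomp : ∀ j : ℤ, r j • x ∈ ℳ (j + n) := fun j => SetLike.GradedSMul.smul_mem (hr j) hx
  have h2 : (DirectSum.decompose ℳ z (n + d) : M) = z := DirectSum.decompose_of_mem_same ℳ hz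
  have h3 : (DirectSum.decompose ℳ z (n + d) : M) =
      ∑ j ∈ (DirectSum.decompose 𝒯 t).support, if j = d then r j • x else 0 := by
    conv_lhs => rw [hzsum]
    rw [DirectSum.decompose_sum, DFinsupp.finset_sum_apply, AddSubgroup.val_finsetSum]
    refine Finset.sum_congr rfl (fun j _ => ?_)
    by_cases hjd : j = d
    · subst hjd
      rw [if_pos rfl]
      have : j + n = n + j := add_comm _ _
      exact DirectSum.decompose_of_mem_same ℳ (this ▸ hcomp j)
    · rw [if_neg hjd]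
      exact DirectSum.decompose_of_mem_ne ℳ (hcomp j) (by omega)
  rw [h2, Finset.sum_ite_eq'] at h3
  by_cases hds : d ∈ (DirectSum.decompose 𝒯 t).support
  · rw [if_pos hds] at h3
    exact ⟨r d, hr d, h3.symm⟩
  · rw [if_neg hds] at h3
    exact ⟨0, Submodule.zero_mem _, by rw [zero_smul, h3]⟩

end Groth.Agent.S19749
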