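import Mathlib
import Groth.Statements.S19751
import Groth.Agent.Lib.Helper29.GrDual

set_option autoImplicit false
universe u
open GrDual

namespace Aux19751

open Groth.Agent.Lib.Helper29.GrDual

theorem main (k : Type u) [Field k] (R : Type u) [CommRing R] [Algebra k R] (𝒜 : ℤ → Submodule k R) [GradedAlgebra 𝒜] (hposR : ∀ n : ℤ, n < 0 → 𝒜 n = ⊥) (h0R : 𝒜 0 = Submodule.span k {(1 : R)}) [Algebra.FiniteType k R] (mR : HomogeneousIdeal 𝒜) (hmR : mR.toIdeal = Ideal.span (⋃ n ∈ Set.Ioi (0 : ℤ), (𝒜 n : Set R))) (F : Type u) [AddCommGroup F] [Module R F] [Module k F] [IsScalarTower k R F] (ℱ : ℤ → AddSubgroup F) [DirectSum.Decomposition ℱ] [SetLike.GradedSMul 𝒜 ℱ] [Module.Finite R F] (M : Type u) [AddCommGroup M] [Module R M] [Module k M] [IsScalarTower k R M] (ℳ : ℤ → AddSubgroup M) [DirectSum.Decomposition ℳ] [SetLike.GradedSMul 𝒜 ℳ] [Module.Finite R M] (f : F →ₗ[R] M) (hf : Function.Surjective f) (hfgr : GrLC.IsGrHom ℱ ℳ f) (DM : Type u) [AddCommGroup DM] [Module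 R DM] [Module k DM] [IsScalarTower k R DM] (𝒟M : ℤ → AddSubgroup DM) [DirectSum.Decomposition 𝒟M] [SetLike.GradedSMul 𝒜 𝒟M] (βM : DM →ₗ[k] M →ₗ[k] k) (hDM : GrSeg.IsGDual R ℳ 𝒟M βM) (DF : Type u) [AddCommGroup DF] [Module R DF] [Module k DF] [IsScalarTower k R DF] (𝒟F : ℤ → AddSubgroup DF) [DirectSum.Decomposition 𝒟F] [SetLike.GradedSMul 𝒜 𝒟F] (βF : DF →ₗ[k] F →ₗ[k] k) (hDF : GrSeg.IsGDual R ℱ 𝒟F βF) (g : DM →ₗ[R] DF) (hg : GrSeg.IsGDualMap βM βF f g) : LinearMap.ker f ≤ mR.toIdeal • (⊤ : Submodule R F) ↔ GrLC.IsStarEss 𝒟M 𝒟F g := by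
  classical
  have hginj : Function.Injective g := by
    rw [← LinearMap.ker_eq_bot, LinearMap.ker_eq_bot']
    intro d hd
    apply left_nondeg hDM
    intro y
    obtain ⟨x, rfl⟩ := hf y
    rw [← hg d x, hd, map_zero, LinearMap.zero_apply]
  have hggr : GrLC.IsGrHom 𝒟M 𝒟F g := by
    intro n d hd
    apply mem_of_vanish hDF
    intro m hm x hx
    rw [hg d x]
    exact hDM.vanish n d hd m hm (f x) (hfgr m x hx)
  have hker_hom : ∀ x ∈ LinearMap.ker f, ∀ n, pr ℱ n x ∈ LinearMap.ker f := by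
    intro x hx n
    rw [LinearMap.mem_ker, ← pr_map0 ℱ ℳ f hfgr, LinearMap.mem_ker.mp hx, pr_zero]
  have hK0 : ∀ n, ∀ d ∈ 𝒟F n, (∀ x ∈ LinearMap.ker f, βF d x = 0) → d ∈ LinearMap.range g := by
    intro n d hd hkill
    obtain ⟨ρ, hρ⟩ := LinearMap.exists_rightInverse_of_surjective (f.restrictScalars k)
      (LinearMap.range_eq_top.mpr hf)
    have hρ' : ∀ y, f (ρ y) = y := fun y => LinearMap.congr_fun hρ y
    have hφf : ∀ x, βF d (ρ (f x)) = βF d x := by
      intro x
      have h1 : ρ (f x) - x ∈ LinearMap.ker f := by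
        rw [LinearMap.mem_ker, map_sub, hρ', sub_self]
      have h2 := hkill _ h1
      rwa [map_sub, sub_eq_zero] at h2
    obtain ⟨d', hd', hd'φ⟩ := exists_of_vanish hDM n ((βF d).comp ρ) (by
      intro m hm y hy
      rw [LinearMap.comp_apply]
      have h1 : f (pr ℱ m (ρ y)) = y := by
        rw [← pr_map0 ℱ ℳ f hfgr, hρ', pr_of_mem_same ℳ hy]
      rw [← h1, hφf]
      exact hDF.vanish n d hd m hm _ (pr_mem ℱ m _))
    refine ⟨d', ?_⟩
    apply left_ext hDF
    intro x
    rw [hg d' x, hd'φ, LinearMap.comp_apply, hφf]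
  have hK : ∀ d : DF, (∀ x ∈ LinearMap.ker f, βF d x = 0) → d ∈ LinearMap.range g := by
    intro d hkill
    rw [← DirectSum.sum_support_decompose 𝒟F d]
    refine Submodule.sum_mem _ (fun n _ => ?_)
    apply hK0 n _ (pr_mem 𝒟F n d)
    intro x hx
    show βF (pr 𝒟F n d) x = 0
    rw [beta_pr_pr hDF]
    exact hkill _ (hker_hom x hx (-n))
  constructor
  · intro hker
    refine ⟨hginj, hggr, ?_⟩
    intro P hP hPne
    obtain ⟨x, hxP, hx0⟩ := (Submodule.ne_bot_iff P).mp hPne
    obtain ⟨n₀, hn₀⟩ := exists_bound_below 𝒜 ℱ hposR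
    have hbd : ∃ b : ℤ, ∀ n, b < n → ∀ d ∈ 𝒟F n, d = 0 := by
      refine ⟨-n₀, fun n hn d hd => ?_⟩
      apply hDF.eq_zero n d hd
      intro y hy
      rw [hn₀ (-n) (by omega) y hy, map_zero]
    obtain ⟨r, hrx, hsoc⟩ := exists_smul_mem_soc 𝒜 𝒟F hposR hbd hx0
    have hz : r • x ∈ LinearMap.range g := by
      apply hK
      intro y hy
      have hy' := hker hy
      refine Submodule.smul_induction_on (p := fun y => βF (r • x) y = 0) hy'
        (fun a ha w _ => ?_) (fun w w' hw hw' => ?_)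
      · show βF (r • x) (a • w) = 0
        rw [← hDF.map_smul, smul_eq_zero_of_mem_irrelevant 𝒜 hsoc (by rw [← hmR]; exact ha),
          map_zero, LinearMap.zero_apply]
      · show βF (r • x) (w + w') = 0
        rw [map_add, hw, hw', add_zero]
    intro hbot
    apply hrx
    have hmem : r • x ∈ P ⊓ LinearMap.range g := ⟨P.smul_mem r hxP, hz⟩
    rw [hbot] at hmem
    exact (Submodule.mem_bot R).mp hmem
  · intro hess x hx
    by_contra hxN
    have hNhom : ∀ y ∈ mR.toIdeal • (⊤ : Submodule R F), ∀ n,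
        pr ℱ n y ∈ mR.toIdeal • (⊤ : Submodule R F) := by
      intro y hy n
      refine Submodule.smul_induction_on
        (p := fun y => pr ℱ n y ∈ mR.toIdeal • (⊤ : Submodule R F)) hy
        (fun a ha w _ => ?_) (fun w w' hw hw' => ?_)
      · show pr ℱ n (a • w) ∈ mR.toIdeal • (⊤ : Submodule R F)
        have hsum : a • w = ∑ j ∈ (DirectSum.decompose 𝒜 a).support,
            (DirectSum.decompose 𝒜 a j : R) • w := by
          rw [← Finset.sum_smul, DirectSum.sum_support_decompose]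
        rw [hsum, ← prL_apply 𝒜 ℱ, map_sum]
        refine Submodule.sum_mem _ (fun j _ => ?_)
        rw [prL_apply, pr_smul_hom' 𝒜 ℱ (SetLike.coe_mem _)]
        exact Submodule.smul_mem_smul (mR.isHomogeneous j ha) Submodule.mem_top
      · show pr ℱ n (w + w') ∈ mR.toIdeal • (⊤ : Submodule R F)
        rw [pr_add]; exact Submodule.add_mem _ hw hw'
    obtain ⟨n, hn⟩ : ∃ n, pr ℱ n x ∉ mR.toIdeal • (⊤ : Submodule R F) := by
      by_contra hall
      push Not at hall
      apply hxN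
      rw [← DirectSum.sum_support_decompose ℱ x]
      exact Submodule.sum_mem _ (fun i _ => hall i)
    obtain ⟨x', hx'⟩ : ∃ x' : F, x' = pr ℱ n x := ⟨_, rfl⟩
    have hx'ker : x' ∈ LinearMap.ker f := by rw [hx']; exact hker_hom x hx n
    have hx'n : x' ∈ ℱ n := by rw [hx']; exact pr_mem ℱ n x
    obtain ⟨ψ, hψx, hψN⟩ := Submodule.exists_dual_map_eq_bot_of_notMem
      (p := (mR.toIdeal • (⊤ : Submodule R F)).restrictScalars k) (x := x')
      (by rw [hx']; exact hn) inferInstance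
    have hψN' : ∀ y ∈ mR.toIdeal • (⊤ : Submodule R F), ψ y = 0 := by
      intro y hy
      have h1 : ψ y ∈ ((mR.toIdeal • (⊤ : Submodule R F)).restrictScalars k).map ψ :=
        Submodule.mem_map_of_mem hy
      rw [hψN] at h1
      exact (Submodule.mem_bot k).mp h1
    let φ : F →ₗ[k] k := ψ.comp (prL 𝒜 ℱ n)
    have hφ : ∀ y, φ y = ψ (pr ℱ n y) := fun y => rfl
    obtain ⟨d, hd, hdφ⟩ := exists_of_vanish hDF (-n) φ (by
      intro m hm y hy
      rw [hφ, pr_of_mem_ne ℱ hy (by intro e; apply hm; omega), map_zero])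
    have hdx' : βF d x' ≠ 0 := by
      rw [hdφ, hφ, pr_of_mem_same ℱ hx'n]
      exact hψx
    have hsoc : ∀ i : ℤ, 0 < i → ∀ a ∈ 𝒜 i, a • d = 0 := by
      intro i hi a ha
      apply left_nondeg hDF
      intro y
      rw [hDF.map_smul, hdφ, hφ]
      have ha' : a ∈ mR.toIdeal := by
        rw [hmR]
        exact Ideal.subset_span (Set.mem_biUnion (Set.mem_Ioi.mpr hi) ha)
      exact hψN' _ (hNhom _ (Submodule.smul_mem_smul ha' (Submodule.mem_top : y ∈ ⊤)) n)
    have hd0 : d ≠ 0 := by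
      intro h; apply hdx'; rw [h, map_zero, LinearMap.zero_apply]
    have hspan : ∀ w ∈ Submodule.span R {d}, ∃ c : k, w = c • d := by
      intro w hw
      obtain ⟨r, rfl⟩ := Submodule.mem_span_singleton.mp hw
      obtain ⟨c, hc⟩ := exists_eq_algebraMap 𝒜 hposR h0R (pr_mem 𝒜 0 r)
      exact ⟨c, by rw [smul_eq_pr_zero_smul 𝒜 hposR hsoc r, hc, algebraMap_smul]⟩
    have hPhom : (Submodule.span R {d}).IsHomogeneous 𝒟F := by
      intro i w hw
      obtain ⟨c, rfl⟩ := hspan w hw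
      show pr 𝒟F i (c • d) ∈ _
      rw [pr_ksmul 𝒜 𝒟F]
      by_cases hi : -n = i
      · subst hi
        rw [pr_of_mem_same 𝒟F hd, ← algebraMap_smul R c d]
        exact Submodule.smul_mem _ _ (Submodule.mem_span_singleton_self d)
      · rw [pr_of_mem_ne 𝒟F hd hi, smul_zero]; exact zero_mem _
    have hPne : Submodule.span R {d} ≠ ⊥ := by
      intro h
      apply hd0
      have h1 := Submodule.mem_span_singleton_self (R := R) d
      rw [h] at h1
      exact (Submodule.mem_bot R).mp h1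
    have hmeet := hess.essential _ hPhom hPne
    obtain ⟨w, hw, hw0⟩ := (Submodule.ne_bot_iff _).mp hmeet
    obtain ⟨c, rfl⟩ := hspan w hw.1
    have hc0 : c ≠ 0 := by
      intro h; apply hw0; rw [h, zero_smul]
    have hdrange : d ∈ LinearMap.range g := by
      have h1 : c⁻¹ • (c • d) ∈ LinearMap.range g := by
        rw [← algebraMap_smul R c⁻¹ (c • d)]
        exact Submodule.smul_mem _ _ hw.2
      rwa [smul_smul, inv_mul_cancel₀ hc0, one_smul] at h1
    obtain ⟨d'', rfl⟩ := hdrange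
    apply hdx'
    rw [hg d'' x', LinearMap.mem_ker.mp hx'ker, map_zero]

end Aux19751

namespace Groth.Agent.S19751

/-- Let R be a graded ring defined over a field k with m = R_+, let F and M be finitely generated graded
R-modules and f : F → M a surjective homomorphism of graded R-modules, with dual f^* : M^* → F^* on
graded k-duals. Then f is minimal, that is Ker f ⊆ m F, if and only if f^* is essential: an
injective homomorphism of graded modules such that every nonzero graded submodule of F^* meets its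
image. Here a graded ring defined over k is a commutative k-algebra of finite type, graded in
nonnegative degrees by k-subspaces with degree-zero part k·1, and R_+ is the ideal spanned by the
R_n with n > 0; the graded k-dual M^* = ⊕_n Hom_k(M_{−n}, k) of a graded R-module M (with r ∈ R
acting by (r f)(x) = f(r x)) is presented abstractly as a graded R-module D with a k-bilinear
pairing β : D × M → k compatible with the R-actions, under which D_n pairs to zero with M_m for m ≠
−n and is identified with the full dual space of M_{−n}; f^* is presented as the R-linear map g :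
M^* → F^* with β_F(g d, x) = β_M(d, f x). -/
theorem result (k : Type u) [Field k] (R : Type u) [CommRing R] [Algebra k R] (𝒜 : ℤ → Submodule k R) [GradedAlgebra 𝒜] (hposR : ∀ n : ℤ, n < 0 → 𝒜 n = ⊥) (h0R : 𝒜 0 = Submodule.span k {(1 : R)}) [Algebra.FiniteType k R] (mR : HomogeneousIdeal 𝒜) (hmR : mR.toIdeal = Ideal.span (⋃ n ∈ Set.Ioi (0 : ℤ), (𝒜 n : Set R))) (F : Type u) [AddCommGroup F] [Module R F] [Module k F] [IsScalarTower k R F] (ℱ : ℤ → AddSubgroup F) [DirectSum.Decomposition ℱ] [SetLike.GradedSMul 𝒜 ℱ] [Module.Finite R F] (M : Type u) [AddCommGroup M] [Module R M] [Module k M] [IsScalarTower k R M] (ℳ : ℤ → AddSubgroup M) [DirectSum.Decomposition ℳ] [SetLike.GradedSMul 𝒜 ℳ] [Module.Finite R M] (f : F →ₗ[R] M) (hf : Function.Surjective f) (hfgr : GrLC.IsGrHom ℱ ℳ f) (DM : Type u) [AddCommGroup DM] [Module R DM] [Module k DM] [IsScalarTower k R DM] (𝒟M : ℤ → AddSubgroup DM) [DirectSum.Decomposition 𝒟M] [SetLike.GradedSMul 𝒜 𝒟M] (βM : DM →ₗ[k] M →ₗ[k]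 k) (hDM : GrSeg.IsGDual R ℳ 𝒟M βM) (DF : Type u) [AddCommGroup DF] [Module R DF] [Module k DF] [IsScalarTower k R DF] (𝒟F : ℤ → AddSubgroup DF) [DirectSum.Decomposition 𝒟F] [SetLike.GradedSMul 𝒜 𝒟F] (βF : DF →ₗ[k] F →ₗ[k] k) (hDF : GrSeg.IsGDual R ℱ 𝒟F βF) (g : DM →ₗ[R] DF) (hg : GrSeg.IsGDualMap βM βF f g) : LinearMap.ker f ≤ mR.toIdeal • (⊤ : Submodule R F) ↔ GrLC.IsStarEss 𝒟M 𝒟F g := by
  exact Aux19751.main k R 𝒜 hposR h0R mR hmR F ℱ M ℳ f hf hfgr DM 𝒟M βM hDM DF 𝒟F βF hDF g hg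

end Groth.Agent.S19751
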