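import Mathlib
import Groth.Statements.S19752
import Groth.Agent.Lib.Helper29.GrDual

set_option autoImplicit false
universe u
open GrDual

namespace Aux19752

open Groth.Agent.Lib.Helper29.GrDual

theorem starInj (k : Type u) [Field k] (R : Type u) [CommRing R] [Algebra k R] (𝒜 : ℤ → Submodule k R) [GradedAlgebra 𝒜] (D : Type u) [AddCommGroup D] [Module R D] [Module k D] [IsScalarTower k R D] (𝒟 : ℤ → AddSubgroup D) [DirectSum.Decomposition 𝒟] [SetLike.GradedSMul 𝒜 𝒟] (β : D →ₗ[k] R →ₗ[k] k) (hD : GrSeg.IsGDual R 𝒜 𝒟 β) :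
    GrLC.IsStarInj 𝒜 𝒟 := by
  classical
  intro A B f hf hfinj g hg
  letI : Module k A.carrier := Module.compHom A.carrier (algebraMap k R)
  haveI : IsScalarTower k R A.carrier := IsScalarTower.of_algebraMap_smul (fun _ _ => rfl)
  letI : Module k B.carrier := Module.compHom B.carrier (algebraMap k R)
  haveI : IsScalarTower k R B.carrier := IsScalarTower.of_algebraMap_smul (fun _ _ => rfl)
  -- functional on A
  let lamA : A.carrier →ₗ[k] k := (β.flip 1).comp (g.restrictScalars k)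
  have hlamA : ∀ a, lamA a = β (g a) 1 := fun a => rfl
  obtain ⟨ρ, hρ⟩ := LinearMap.exists_leftInverse_of_injective (f.restrictScalars k)
    (LinearMap.ker_eq_bot.mpr hfinj)
  have hρ' : ∀ a, ρ (f a) = a := fun a => LinearMap.congr_fun hρ a
  let lamB : B.carrier →ₗ[k] k := (lamA.comp ρ).comp (prL 𝒜 B.gr 0)
  have hlamB : ∀ b, lamB b = lamA (ρ (pr B.gr 0 b)) := fun b => rfl
  let γ : B.carrier →+ (R →ₗ[k] k) :=
    { toFun := fun b => lamB.comp ((LinearMap.toSpanSingleton R B.carrier b).restrictScalars k)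
      map_zero' := by ext r; simp
      map_add' := by intro b b'; ext r; simp [smul_add] }
  have hγ_apply : ∀ b r, γ b r = lamB (r • b) := fun b r => rfl
  obtain ⟨h, hh, hgr⟩ := exists_lift hD B.gr γ 0
    (by
      intro n b hb m hm r hr
      rw [hγ_apply, hlamB]
      have hmem : r • b ∈ B.gr (m + n) := smul_mem_add 𝒜 B.gr hr hb
      rw [pr_of_mem_ne B.gr hmem (by intro e; apply hm; omega), map_zero, map_zero])
    (by
      intro s b r
      rw [hγ_apply, hγ_apply, smul_eq_mul, mul_smul, smul_comm])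
  refine ⟨h, ?_, ?_⟩
  · intro n b hb
    have := hgr n b hb
    rwa [add_zero] at this
  · apply LinearMap.ext
    intro a
    rw [LinearMap.comp_apply]
    apply left_ext hD
    intro r
    rw [hh, hγ_apply, hlamB, ← map_smul, pr_map0 A.gr B.gr f hf, hρ', hlamA,
      ← pr_map0 A.gr 𝒟 g hg, beta_pr_pr hD, neg_zero,
      pr_of_mem_same 𝒜 (SetLike.GradedOne.one_mem), map_smul, hD.map_smul, smul_eq_mul, mul_one]


theorem main (k : Type u) [Field k] (R : Type u) [CommRing R] [Algebra k R] (𝒜 : ℤ → Submodule k R) [GradedAlgebra 𝒜] (hposR : ∀ n : ℤ, n < 0 → 𝒜 n = ⊥) (h0R : 𝒜 0 = Submodule.span k {(1 : R)}) [Algebra.FiniteType k R] (mR : HomogeneousIdeal 𝒜) (hmR : mR.toIdeal = Ideal.span (⋃ n ∈ Set.Ioi (0 : ℤ), (𝒜 n : Set R))) (D : Type u) [AddCommGroup D] [Module R D] [Module k D] [IsScalarTower k R D] (𝒟 : ℤ → AddSubgroup D) [DirectSum.Decomposition 𝒟] [SetLike.GradedSMul 𝒜 𝒟] (β : D →ₗ[k] R →ₗ[k] k) (hD : GrSeg.IsGDual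 R 𝒜 𝒟 β) (e : (R ⧸ mR.toIdeal) →ₗ[R] D) (he : Function.Injective e) (hegr : GrLC.IsGrHom (GrLC.quotGr 𝒜 mR) 𝒟 e) : GrLC.IsStarInjHull 𝒜 (GrLC.quotGr 𝒜 mR) 𝒟 e := by
  classical
  refine { injective := he, grHom := hegr, essential := ?_, starInj := starInj k R 𝒜 D 𝒟 β hD }
  intro P hP hPne
  obtain ⟨x, hxP, hx0⟩ := (Submodule.ne_bot_iff P).mp hPne
  -- R is nontrivial
  haveI : Nontrivial R := by
    refine ⟨⟨1, 0, fun h10 => hx0 ?_⟩⟩
    rw [← one_smul R x, h10, zero_smul]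
  -- a nonzero homogeneous component
  obtain ⟨n, hn⟩ : ∃ n, pr 𝒟 n x ≠ 0 := by
    by_contra hall
    push Not at hall
    exact hx0 (eq_zero_of_pr 𝒟 x hall)
  have hdP : pr 𝒟 n x ∈ P := hP n hxP
  obtain ⟨r, hr, hrd⟩ : ∃ r ∈ 𝒜 (-n), β (pr 𝒟 n x) r ≠ 0 := by
    by_contra hall
    push Not at hall
    exact hn (hD.eq_zero n _ (pr_mem 𝒟 n x) hall)
  obtain ⟨d₀, hd₀⟩ : ∃ d₀ : D, d₀ = r • pr 𝒟 n x := ⟨_, rfl⟩
  have hd₀P : d₀ ∈ P := by rw [hd₀]; exact P.smul_mem r hdP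
  have hd₀0 : d₀ ∈ 𝒟 0 := by
    have := smul_mem_add 𝒜 𝒟 hr (pr_mem 𝒟 n x)
    rwa [neg_add_cancel, ← hd₀] at this
  have hd₀1 : β d₀ 1 ≠ 0 := by
    rw [hd₀, hD.map_smul, smul_eq_mul, mul_one]
    exact hrd
  -- 1 ∉ mR
  have h1 : (1 : R) ∉ mR.toIdeal := by
    rw [hmR]
    intro h
    have hle : Ideal.span (⋃ n ∈ Set.Ioi (0 : ℤ), (𝒜 n : Set R)) ≤ Mge 𝒜 𝒜 hposR 1 := by
      rw [Ideal.span_le]
      intro a ha
      simp only [Set.mem_iUnion, Set.mem_Ioi] at ha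
      obtain ⟨m, hm, ham⟩ := ha
      exact Mge_anti 𝒜 𝒜 hposR (by omega) (mem_Mge_of_mem 𝒜 𝒜 hposR ham)
    have := hle h 0 (by norm_num)
    rw [pr_of_mem_same 𝒜 SetLike.GradedOne.one_mem] at this
    exact one_ne_zero this
  obtain ⟨ε₀, hε₀⟩ : ∃ ε₀ : D, ε₀ = e (Ideal.Quotient.mk mR.toIdeal 1) := ⟨_, rfl⟩
  have hε₀0 : ε₀ ∈ 𝒟 0 := by
    rw [hε₀]
    apply hegr 0
    exact AddSubgroup.mem_map.mpr ⟨1, (SetLike.GradedOne.one_mem : (1 : R) ∈ 𝒜 0), rfl⟩
  have hε₀ne : ε₀ ≠ 0 := by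
    intro h
    have : Ideal.Quotient.mk mR.toIdeal 1 = 0 := he (by rw [← hε₀, h, map_zero])
    exact h1 (Ideal.Quotient.eq_zero_iff_mem.mp this)
  have hkey : ∀ d ∈ 𝒟 0, β d 1 = 0 → d = 0 := by
    intro d hd hd1
    apply hD.eq_zero 0 d hd
    intro a ha
    rw [neg_zero] at ha
    obtain ⟨c, rfl⟩ := exists_eq_algebraMap 𝒜 hposR h0R ha
    rw [Algebra.algebraMap_eq_smul_one, map_smul, hd1, smul_zero]
  have hε₀1 : β ε₀ 1 ≠ 0 := fun h => hε₀ne (hkey ε₀ hε₀0 h)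
  obtain ⟨c, hc⟩ : ∃ c : k, c = β d₀ 1 / β ε₀ 1 := ⟨_, rfl⟩
  have hd₀c : d₀ = c • ε₀ := by
    rw [← sub_eq_zero]
    apply hkey _ (sub_mem hd₀0 (ksmul_mem 𝒜 𝒟 c hε₀0))
    rw [map_sub, LinearMap.sub_apply, LinearMap.map_smul β c ε₀, LinearMap.smul_apply, smul_eq_mul, hc,
      div_mul_cancel₀ _ hε₀1, sub_self]
  have hd₀ne : d₀ ≠ 0 := by
    intro h
    apply hd₀1
    rw [h, map_zero, LinearMap.zero_apply]
  intro hbot
  apply hd₀ne
  have hmem : d₀ ∈ P ⊓ LinearMap.range e := by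
    refine ⟨hd₀P, ?_⟩
    refine ⟨algebraMap k R c • Ideal.Quotient.mk mR.toIdeal 1, ?_⟩
    rw [map_smul, algebraMap_smul, hd₀c, hε₀]
  rw [hbot] at hmem
  exact (Submodule.mem_bot R).mp hmem

end Aux19752

namespace Groth.Agent.S19752

/-- Let R = ⊕_{n ≥ 0} R_n be a Noetherian graded ring with R_0 = k a field, m = R_+ and k = R/m. Then
the graded k-dual R^* = ⊕_n Hom_k(R_{−n}, k) is the injective envelope of R/m in the category of
graded R-modules: for every injective homomorphism of graded R-modules e : R/m → R^*, the module R^*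
is an injective object of the graded category and every nonzero graded submodule of R^* meets the
image of e. Here a graded ring defined over k is a commutative k-algebra of finite type, graded in
nonnegative degrees by k-subspaces with degree-zero part k·1, and R_+ is the ideal spanned by the
R_n with n > 0 (a Noetherian such ring is the same as one of finite type over k); the graded k-dual
M^* = ⊕_n Hom_k(M_{−n}, k) of a graded R-module M (with r ∈ R acting by (r f)(x) = f(r x)) is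
presented abstractly as a graded R-module D with a k-bilinear pairing β : D × M → k compatible with
the R-actions, under which D_n pairs to zero with M_m for m ≠ −n and is identified with the full
dual space of M_{−n}. -/
theorem result (k : Type u) [Field k] (R : Type u) [CommRing R] [Algebra k R] (𝒜 : ℤ → Submodule k R) [GradedAlgebra 𝒜] (hposR : ∀ n : ℤ, n < 0 → 𝒜 n = ⊥) (h0R : 𝒜 0 = Submodule.span k {(1 : R)}) [Algebra.FiniteType k R] (mR : HomogeneousIdeal 𝒜) (hmR : mR.toIdeal = Ideal.span (⋃ n ∈ Set.Ioi (0 : ℤ), (𝒜 n : Set R))) (D : Type u) [AddCommGroup D] [Module R D] [Module k D] [IsScalarTower k R D] (𝒟 : ℤ → AddSubgroup D) [DirectSum.Decomposition 𝒟] [SetLike.GradedSMul 𝒜 𝒟] (β : D →ₗ[k] R →ₗ[k] k) (hD : GrSeg.IsGDual R 𝒜 𝒟 β) (e : (R ⧸ mR.toIdeal) →ₗ[R] D) (he : Function.Injective e) (hegr : GrLC.IsGrHom (GrLC.quotGr 𝒜 mR) 𝒟 e) : GrLC.IsStarInjHull 𝒜 (GrLC.quotGr 𝒜 mR) 𝒟 e := by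
  exact Aux19752.main k R 𝒜 hposR h0R mR hmR D 𝒟 β hD e he hegr

end Groth.Agent.S19752
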