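import Mathlib
import Groth.Statements.S19760
import Groth.Agent.Lib.Helper29.GrDual

set_option autoImplicit false
universe u
open GrDual

namespace Aux19760

open Groth.Agent.Lib.Helper29.GrDual

theorem main (k : Type u) [Field k] (R : Type u) [CommRing R] [Algebra k R] (𝒜 : ℤ → Submodule k R) [GradedAlgebra 𝒜] (hposR : ∀ n : ℤ, n < 0 → 𝒜 n = ⊥) (h0R : 𝒜 0 = Submodule.span k {(1 : R)}) [Algebra.FiniteType k R] (D : Type u) [AddCommGroup D] [Module R D] [Module k D] [IsScalarTower k R D] (𝒟 : ℤ → AddSubgroup D) [DirectSum.Decomposition 𝒟] [SetLike.GradedSMul 𝒜 𝒟] (β : D →ₗ[k] R →ₗ[k] k) (hD : GrSeg.IsGDual R 𝒜 𝒟 β) (M : Type u) [AddCommGroup M] [Module R M] [Module k M] [IsScalarTower k R M] (ℳ : ℤ → AddSubgroup M) [DirectSum.Decomposition ℳ] [SetLike.GradedSMul 𝒜 ℳ] : IsArtinian R M ↔ ∃ (t : ℕ) (sh : Fin t → ℤ) (f : M →ₗ[R] (Fin t → D)), Function.Injective f ∧ ∀ (i : Fin t) (g : ℤ) (x : M), x ∈ ℳ g → f x i ∈ 𝒟 (g + sh i) := by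
  classical
  constructor
  · intro hart
    haveI := hart
    obtain ⟨n₁, hn₁⟩ := exists_bound_above 𝒜 ℳ hposR
    haveI : Module.Finite k (soc 𝒜 M) := finite_soc 𝒜 hposR h0R
    let b := Module.finBasis k (soc 𝒜 M)
    have hext : ∀ i : Fin (Module.finrank k (soc 𝒜 M)),
        ∃ μ : M →ₗ[k] k, μ.comp (soc 𝒜 M).subtype = b.coord i :=
      fun i => LinearMap.exists_extend _
    choose μ hμ using hext
    have hμ' : ∀ i (z : soc 𝒜 M), μ i z = b.coord i z := fun i z => LinearMap.congr_fun (hμ i) z
    let T : Finset ℤ := Finset.univ.biUnion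
      (fun i : Fin (Module.finrank k (soc 𝒜 M)) =>
        (DirectSum.decompose ℳ ((b i : soc 𝒜 M) : M)).support)
    have hT : ∀ z ∈ soc 𝒜 M, ∀ n, n ∉ T → pr ℳ n z = 0 := by
      intro z hz n hn
      have hz' : z = ∑ i, (b.repr ⟨z, hz⟩ i) • ((b i : soc 𝒜 M) : M) := by
        have h1 := congrArg (soc 𝒜 M).subtype (b.sum_repr ⟨z, hz⟩)
        rw [map_sum] at h1
        simp only [map_smul, Submodule.subtype_apply] at h1
        exact h1.symm
      have hzero : pr ℳ n (∑ i, (b.repr ⟨z, hz⟩ i) • ((b i : soc 𝒜 M) : M)) = 0 := by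
        rw [← prL_apply 𝒜 ℳ, map_sum]
        apply Finset.sum_eq_zero
        intro i _
        rw [map_smul, prL_apply]
        have h2 : n ∉ (DirectSum.decompose ℳ ((b i : soc 𝒜 M) : M)).support :=
          fun h => hn (Finset.mem_biUnion.mpr ⟨i, Finset.mem_univ i, h⟩)
        rw [DFinsupp.notMem_support_iff] at h2
        have h3 : pr ℳ n ((b i : soc 𝒜 M) : M) = 0 := by unfold pr; rw [h2]; rfl
        rw [h3, smul_zero]
      rw [hz']
      exact hzero
    have hlift : ∀ j : Fin (Module.finrank k (soc 𝒜 M)) × {n // n ∈ T}, ∃ h : M →ₗ[R] D,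
        (∀ x r, β (h x) r = μ j.1 (pr ℳ j.2.1 (r • x))) ∧
          ∀ g, ∀ x ∈ ℳ g, h x ∈ 𝒟 (g + -j.2.1) := by
      intro j
      let lam : M →ₗ[k] k := (μ j.1).comp (prL 𝒜 ℳ j.2.1)
      let γ : M →+ (R →ₗ[k] k) :=
        { toFun := fun b => lam.comp ((LinearMap.toSpanSingleton R M b).restrictScalars k)
          map_zero' := by ext r; simp
          map_add' := by intro b b'; ext r; simp [smul_add] }
      have hγ_apply : ∀ x r, γ x r = μ j.1 (pr ℳ j.2.1 (r • x)) := fun x r => rfl
      obtain ⟨h, hh, hgr⟩ := exists_lift hD ℳ γ (-j.2.1)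
        (by
          intro n x hx m hm r hr
          rw [hγ_apply]
          have hmem : r • x ∈ ℳ (m + n) := smul_mem_add 𝒜 ℳ hr hx
          rw [pr_of_mem_ne ℳ hmem (by intro e; apply hm; omega), map_zero])
        (by
          intro s x r
          rw [hγ_apply, hγ_apply, smul_eq_mul, mul_smul, smul_comm])
      exact ⟨h, hh, hgr⟩
    choose h hh hgr using hlift
    let e := Fintype.equivFin (Fin (Module.finrank k (soc 𝒜 M)) × {n // n ∈ T})
    refine ⟨Fintype.card (Fin (Module.finrank k (soc 𝒜 M)) × {n // n ∈ T}),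
      fun j' => -(e.symm j').2.1,
      (LinearMap.funLeft R D e.symm).comp (LinearMap.pi h), ?_, ?_⟩
    · rw [LinearMap.coe_comp]
      apply Function.Injective.comp
      · exact LinearMap.funLeft_injective_of_surjective R D e.symm e.symm.surjective
      · rw [← LinearMap.ker_eq_bot, LinearMap.ker_eq_bot']
        intro x hx
        by_contra hx0
        obtain ⟨r, hrx, hsoc⟩ := exists_smul_mem_soc 𝒜 ℳ hposR ⟨n₁, hn₁⟩ hx0
        apply hrx
        have hz : r • x ∈ soc 𝒜 M := hsoc
        have hcomp : ∀ n, pr ℳ n (r • x) = 0 := by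
          intro n
          by_cases hn : n ∈ T
          · have hmem := pr_mem_soc 𝒜 ℳ hz n
            have h0 : (⟨pr ℳ n (r • x), hmem⟩ : soc 𝒜 M) = 0 := by
              apply b.forall_coord_eq_zero_iff.mp
              intro i
              rw [← hμ' i]
              have h1 := hh (i, ⟨n, hn⟩) (r • x) 1
              rw [one_smul] at h1
              show μ i (pr ℳ n (r • x)) = 0
              rw [← h1]
              have h2 : h (i, ⟨n, hn⟩) (r • x) = 0 := by
                rw [map_smul]
                have h3 := congrFun hx (i, ⟨n, hn⟩)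
                simp only [LinearMap.pi_apply, Pi.zero_apply] at h3
                rw [h3, smul_zero]
              rw [h2, map_zero, LinearMap.zero_apply]
            exact congrArg Subtype.val h0
          · exact hT _ hz n hn
        exact eq_zero_of_pr ℳ _ hcomp
    · intro j' g x hx
      exact hgr (e.symm j') g x hx
  · rintro ⟨t, sh, f, hf, -⟩
    haveI : IsArtinian R D := isArtinian_dual 𝒜 hposR h0R hD
    exact isArtinian_of_injective f hf

end Aux19760

namespace Groth.Agent.S19760

/-- Let R = ⊕_{n ≥ 0} R_n be a Noetherian graded ring with R_0 = k a field and R^* = ⊕_n Hom_k(R_{−n},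
k) its graded k-dual. A graded R-module M is Artinian exactly when, for some t and some integer
shifts n_1, …, n_t, it embeds as a graded module into the direct sum of the shifted duals R^*(n_1),
…, R^*(n_t), that is, when there is an injective R-linear map M → (R^*)^t whose i-th component
carries M_g into R^*_{g+n_i} for every g. Here a graded ring defined over k is a commutative
k-algebra of finite type, graded in nonnegative degrees by k-subspaces with degree-zero part k·1,
and R_+ is the ideal spanned by the R_n with n > 0 (a Noetherian such ring is the same as one of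
finite type over k); the graded k-dual M^* = ⊕_n Hom_k(M_{−n}, k) of a graded R-module M (with r ∈ R
acting by (r f)(x) = f(r x)) is presented abstractly as a graded R-module D with a k-bilinear
pairing β : D × M → k compatible with the R-actions, under which D_n pairs to zero with M_m for m ≠
−n and is identified with the full dual space of M_{−n}. -/
theorem result (k : Type u) [Field k] (R : Type u) [CommRing R] [Algebra k R] (𝒜 : ℤ → Submodule k R) [GradedAlgebra 𝒜] (hposR : ∀ n : ℤ, n < 0 → 𝒜 n = ⊥) (h0R : 𝒜 0 = Submodule.span k {(1 : R)}) [Algebra.FiniteType k R] (D : Type u) [AddCommGroup D] [Module R D] [Module k D] [IsScalarTower k R D] (𝒟 : ℤ → AddSubgroup D) [DirectSum.Decomposition 𝒟] [SetLike.GradedSMul 𝒜 𝒟] (β : D →ₗ[k] R →ₗ[k] k) (hD : GrSeg.IsGDual R 𝒜 𝒟 β) (M : Type u) [AddCommGroup M] [Module R M] [Module k M] [IsScalarTower k R M] (ℳ : ℤ → AddSubgroup M) [DirectSum.Decomposition ℳ] [SetLike.GradedSMul 𝒜 ℳ] : IsArtinian R M ↔ ∃ (t : ℕ) (sh : Fin t → ℤ) (f : M →ₗ[R] (Fin t → D)), Function.Injective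 f ∧ ∀ (i : Fin t) (g : ℤ) (x : M), x ∈ ℳ g → f x i ∈ 𝒟 (g + sh i) := by
  exact Aux19760.main k R 𝒜 hposR h0R D 𝒟 β hD M ℳ

end Groth.Agent.S19760
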