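import Mathlib
import Groth.Agent.Lib.Helper20.SegPolyShift
import Groth.Statements.S19763
-- import your own Groth.Agent.* helpers here

set_option autoImplicit false
universe u
open scoped TensorProduct
attribute [local instance] MvPolynomial.weightedGradedAlgebra
open GrSegre

namespace Groth.Agent.S19763

/-- Let R = k[X_1, …, X_r] and S = k[Y_1, …, Y_s] be polynomial rings over a field k with every variable
of degree 1, r ≥ 2 and s ≥ 2, T = R # S, and M = R(a), N = S(b) for integers a, b. Then (a) M # N is
a Cohen–Macaulay T-module if and only if s > a − b > −r; (b) if a − b ≥ s then depth (M # N) = s;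
(c) if a − b ≤ −r then depth (M # N) = r. Here the polynomial rings carry the standard grading by
k-subspaces of homogeneous polynomials (indexed by ℤ, all variables of weight 1); the Segre product
T = R # S = ⊕_n R_n ⊗_k S_n is presented abstractly as a graded k-algebra T with an injective
k-algebra homomorphism ψ : T → R ⊗_k S carrying T_n onto the k-span of the elementary tensors of
bidegree (n, n), T_+ is the ideal spanned by the T_n with n > 0, and R(a) # S(b) = ⊕_n R_{n+a} ⊗_k
S_{n+b} is presented abstractly as a graded T-module P with an injective k-linear map φ : P → R ⊗_k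
S carrying P_n onto the k-span of the tensors x ⊗ y with x ∈ R_{n+a}, y ∈ S_{n+b} and turning the
action of t ∈ T into that of ψ(t); a module over a ring is called Cohen–Macaulay when each of its
localizations at a prime ideal is zero or a Cohen–Macaulay module over the local ring (dimension of
the support equal to the depth), and the dimension of a module is the Krull dimension of its
support; the depth of P is its grade with respect to T_+ (the common length of the maximal P-regular
sequences in T_+). -/
theorem result (k : Type u) [Field k] (r s : ℕ) (h2r : 2 ≤ r) (h2s : 2 ≤ s) (T : Type u) [CommRing T] [Algebra k T] (𝒯 : ℤ → Submodule k T) [GradedAlgebra 𝒯] (ψ : T →ₐ[k] TensorProduct k (MvPolynomial (Fin r) k) (MvPolynomial (Fin s) k)) (hT : GrSeg.IsSegreRing (MvPolynomial.weightedHomogeneousSubmodule k (fun _ : Fin r => (1 : ℤ))) (MvPolynomial.weightedHomogeneousSubmodule k (fun _ : Fin s => (1 : ℤ))) 𝒯 ψ) (mT : HomogeneousIdeal 𝒯) (hmT : mT.toIdeal = Ideal.span (⋃ n ∈ Set.Ioi (0 : ℤ), (𝒯 n : Set T))) (a b : ℤ) (P : Type u) [AddCommGroup P] [Module T P] [Module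 k P] [IsScalarTower k T P] (𝒬 : ℤ → AddSubgroup P) [DirectSum.Decomposition 𝒬] (φ : P →ₗ[k] TensorProduct k (MvPolynomial (Fin r) k) (MvPolynomial (Fin s) k)) (hP : GrSeg.IsSegreMod ψ (fun n : ℤ => (MvPolynomial.weightedHomogeneousSubmodule k (fun _ : Fin r => (1 : ℤ))) (n + a)) (fun n : ℤ => (MvPolynomial.weightedHomogeneousSubmodule k (fun _ : Fin s => (1 : ℤ))) (n + b)) 𝒬 φ) : ((∀ (q : Ideal T) [q.IsPrime], Subsingleton (LocalizedModule q.primeCompl P) ∨ LocCoh.IsCohenMacaulayModule (Localization.AtPrime q) (LocalizedModule q.primeCompl P)) ↔ (a - b < (s : ℤ) ∧ -(r : ℤ) < a - b)) ∧ ((s : ℤ) ≤ a - b → LocCoh.idealDepth mT.toIdeal P = (s : ℕ∞)) ∧ (a - b ≤ -(r : ℤ) → LocCoh.idealDepth mT.toIdeal P = (r : ℕ∞)) := by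
  classical
  obtain ⟨hcm, hdepth⟩ := Groth.Agent.Lib.Helper20.SegPolyShift.polyShift_main k r s (by omega)
    (by omega) T 𝒯 ψ hT mT hmT a b P 𝒬 φ hP
  refine ⟨?_, ?_, ?_⟩
  · rw [hcm]
    constructor
    · intro h
      have h1 := (h s (by omega) (-a)).1
      have h2 := (h r (by omega) (-b)).2.1
      constructor
      · rcases h1 with h1 | h1
        · exact absurd (by omega) h1
        · by_contra hcon
          exact h1 ⟨rfl, by omega⟩
      · rcases h2 with h2 | h2
        · by_contra hcon
          exact h2 ⟨rfl, by omega⟩
        · exact absurd (by omega) h2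
    · rintro ⟨h1, h2⟩ q hq d
      refine ⟨?_, ?_, fun hq' => absurd hq' (by omega)⟩
      · by_cases hd : 0 ≤ d + a
        · right
          rintro ⟨-, hd'⟩
          omega
        · exact Or.inl hd
      · by_cases hd : 0 ≤ d + b
        · left
          rintro ⟨-, hd'⟩
          omega
        · exact Or.inr hd
  · intro hab
    apply hdepth s
    · intro i hi d
      refine ⟨Or.inr (fun h => by omega), ?_, fun hq' => absurd hq' (by omega)⟩
      by_cases hd : 0 ≤ d + b
      · left
        rintro ⟨-, hd'⟩
        omega
      · exact Or.inr hd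
    · refine ⟨-a, fun h => ?_⟩
      rcases h.1 with h1 | h1
      · exact h1 (by omega)
      · exact h1 ⟨rfl, by omega⟩
  · intro hab
    apply hdepth r
    · intro i hi d
      refine ⟨?_, Or.inl (fun h => by omega), fun hq' => absurd hq' (by omega)⟩
      by_cases hd : 0 ≤ d + a
      · right
        rintro ⟨-, hd'⟩
        omega
      · exact Or.inl hd
    · refine ⟨-b, fun h => ?_⟩
      rcases h.2.1 with h1 | h1
      · exact h1 ⟨rfl, by omega⟩
      · exact h1 (by omega)

end Groth.Agent.S19763
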