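import Groth.Statements.S19770
import Groth.Agent.Lib.Helper13.ThetaKL

set_option autoImplicit false
universe u
open CategoryTheory MonoidalCategory CartesianMonoidalCategory MonObj GrpObj AlgebraicGeometry
open AbVar

namespace Groth.Agent.S19770

/-- Let X be an abelian variety over a field k (a proper, geometrically integral k-group scheme), L an
invertible O_X-module, i : K → X a closed immersion exhibiting K as K(L) (the maximal closed
subscheme over which the Mumford bundle m^*L ⊗ p_1^*L⁻¹ ⊗ p_2^*L⁻¹, restricted to X ×_k K, is the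
inverse image of an invertible module on K, with its universal property), and B a k-group scheme
with a homomorphism j : B → X that factors through i. Write M = j^*L. Then M ⊗ [-1]^*M ≅ O_B, where
[-1] : B → B is the inversion (existence of an isomorphism). (The published statement assumes k
algebraically closed and takes for B the reduced identity component of K(L), an abelian subvariety;
the argument — restrict the Mumford bundle to B × B and pull back along (1, -1) — applies to any
group scheme over k mapping homomorphically into K(L).) -/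
theorem result (k : Type u) [Field k] (X : Over (Spec (CommRingCat.of k)))
    [GrpObj X] [IsProper X.hom] [GeometricallyIntegral X.hom] (L : X.left.Modules) (hL : PicF.IsInvertible L)
    (K : Over (Spec (CommRingCat.of k))) (i : K ⟶ X) (hK : ThetaGrp.IsKL X L i)
    (B : Over (Spec (CommRingCat.of k))) [GrpObj B] (j : B ⟶ X) [IsMonHom j] (hj : ∃ y : B ⟶ K, y ≫ i = j) :
    Nonempty (CohB1.tensorMod ((Scheme.Modules.pullback j.left).obj L)
        ((Scheme.Modules.pullback ((𝟙 B)⁻¹ ≫ j).left).obj L) ≅ Coh.structureModule B.left) := by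
  have hj' : Groth.Agent.Lib.Helper13.ThetaKL.KLcond X L j :=
    (Groth.Agent.Lib.Helper13.ThetaKL.isMumfordTriv_iff hL j).1 ((hK.univ B j).2 hj)
  obtain ⟨c, hc, h⟩ := hj'
  have hcj := Groth.Agent.Lib.Helper13.ThetaKL.cl_eq_of_transl hL j c h
  have ha := Groth.Agent.Lib.Helper13.ClMon.isInvCl_cl hL
  let w : B ⟶ X ⊗ B := lift j ((𝟙 B)⁻¹)
  have hw1 : w ≫ fst X B = j := lift_fst _ _
  have hw2 : w ≫ snd X B = (𝟙 B)⁻¹ := lift_snd _ _
  have hw3 : w ≫ (fst X B * (snd X B ≫ j)) = 1 := by
    rw [MonObj.comp_mul, hw1, ← Category.assoc, hw2, GrpObj.inv_comp, Category.id_comp,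
      mul_inv_cancel]
  have h3 := Groth.Agent.Lib.Helper13.ThetaKL.pull_rel hL w c
    (Groth.Agent.Lib.Helper13.ClMon.isInvCl_pullCl _ hc) _ h
  rw [hw1, hw2, hw3, Groth.Agent.Lib.Helper13.ClMon.pullCl_one_hom ha, hcj,
    Groth.Agent.Lib.Helper13.ClMon.pullCl_comp_left] at h3
  have h4 : PicF.cl (CohB1.tensorMod ((Scheme.Modules.pullback j.left).obj L)
        ((Scheme.Modules.pullback ((𝟙 B)⁻¹ ≫ j).left).obj L)) =
      PicF.cl (Coh.structureModule B.left) := h3
  exact (Groth.Agent.Lib.Helper13.ClMon.cl_eq_iff _ _).1 h4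

end Groth.Agent.S19770
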