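import Groth.Statements.S19779
import Mathlib
import Groth.Agent.Lib.Helper26.LoopApprox2
import Groth.Agent.Lib.Helper26.PairHensConstr
import Groth.Agent.Lib.Helper26.PairHensNbhd

set_option autoImplicit false
universe u
open Polynomial TensorProduct
open CAlg

namespace Groth.Agent.S19779

open Groth.Agent.Lib.Helper26.LoopApprox in
/-- the instance `R{t}[1/t] → R((t))` of the abstract setting -/
theorem setup (R : Type u) [CommRing R]
    (B : Type u) [CommRing B] [Algebra R[X] B]
    (hB : Hens2.IsPairHenselization R[X] (Ideal.span {(X : R[X])}) B)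
    [Algebra B (PowerSeries R)]
    (hψ : ∀ p : R[X], algebraMap B (PowerSeries R) (algebraMap R[X] B p) = (p : PowerSeries R))
    (L' : Type u) [CommRing L'] [Algebra (Localization.Away (algebraMap R[X] B X)) L']
    [Algebra (PowerSeries R) L']
    (hloc : IsLocalization.Away (PowerSeries.X : PowerSeries R) L')
    (hcompat : ∀ b : B, algebraMap (Localization.Away (algebraMap R[X] B X)) L'
        (algebraMap B (Localization.Away (algebraMap R[X] B X)) b) =
      algebraMap (PowerSeries R) L' (algebraMap B (PowerSeries R) b)) :
    Setup B (PowerSeries R) (Localization.Away (algebraMap R[X] B X)) L' (algebraMap R[X] B X) := by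
  have hth : algebraMap B (PowerSeries R) (algebraMap R[X] B X) = PowerSeries.X := by
    rw [hψ, Polynomial.coe_X]
  have hH : HenselianRing B (Ideal.span {algebraMap R[X] B X}) := by
    have := hB.1
    rwa [Ideal.map_span, Set.image_singleton] at this
  refine ⟨inferInstance, by rw [hth]; exact hloc, hcompat, ?_, ?_, ?_, ?_⟩
  · exact hH.jac (Ideal.subset_span (Set.mem_singleton _))
  · intro x N
    obtain ⟨r, hr⟩ : (PowerSeries.X : PowerSeries R) ^ N ∣
        x - ((PowerSeries.trunc N x : R[X]) : PowerSeries R) := by
      rw [PowerSeries.X_pow_dvd_iff]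
      intro m hm
      rw [map_sub, Polynomial.coeff_coe, PowerSeries.coeff_trunc, if_pos hm, sub_self]
    refine ⟨algebraMap R[X] B (PowerSeries.trunc N x), r, ?_⟩
    rw [hψ, hth, ← hr]
    ring
  · rintro b N ⟨r, hr⟩
    rw [hth] at hr
    obtain ⟨h1, -⟩ := (Groth.Agent.Lib.Helper26.PairHensNbhd.quotBij_iff
      (Ideal.span {(X : R[X])} ^ N) B).1
      (Groth.Agent.Lib.Helper26.PairHensNbhd.quotBij_pow hB N)
    obtain ⟨p, hp⟩ := h1 b
    rw [Ideal.span_singleton_pow, Ideal.map_span, Set.image_singleton, map_pow,
      Ideal.mem_span_singleton'] at hp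
    obtain ⟨z, hz⟩ := hp
    have h3 : (PowerSeries.X : PowerSeries R) ^ N ∣ (p : PowerSeries R) := by
      refine ⟨r - algebraMap B (PowerSeries R) z, ?_⟩
      have := congrArg (algebraMap B (PowerSeries R)) hz
      rw [map_mul, map_pow, hth, map_sub, hψ, hr] at this
      linear_combination this
    rw [PowerSeries.X_pow_dvd_iff] at h3
    have h4 : (X : R[X]) ^ N ∣ p := by
      rw [Polynomial.X_pow_dvd_iff]
      intro d hd
      have := h3 d hd
      rwa [Polynomial.coeff_coe] at this
    obtain ⟨p', hp'⟩ := h4
    refine ⟨algebraMap R[X] B p' + z, ?_⟩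
    have h5 : algebraMap R[X] B p = (algebraMap R[X] B X) ^ N * algebraMap R[X] B p' := by
      rw [hp', map_mul, map_pow]
    linear_combination -hz + h5
  · rw [hth, Ideal.mem_jacobson_bot]
    intro y
    rw [PowerSeries.isUnit_iff_constantCoeff]
    simp

/-- For general linear groups, in the case R{t}[1/t] → R((t)), let R be a commutative ring, B = R{t} a
henselization of R[t] along (t), ψ : B → R[[t]] the R[t]-algebra map, L = B[1/t], and L' an
L-algebra identified with R((t)) compatibly with ψ. Then base change along L → L' is a bijection on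
isomorphism classes of finitely generated projective modules: two finitely generated projective
L-modules isomorphic over L' are isomorphic, and every finitely generated projective L'-module is
extended from one over L. (The published statement is the bijection H¹(R{t}[1/t], G) ≅ H¹(R((t)), G)
for every quasi-affine smooth group G; this row is the case of the general linear groups, stated for
finitely generated projective modules of arbitrary rank.) -/
theorem result (R : Type u) [CommRing R]
    (B : Type u) [CommRing B] [Algebra R[X] B] (hB : Hens2.IsPairHenselization R[X] (Ideal.span {(X : R[X])}) B)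
    (ψ : B →ₐ[R[X]] PowerSeries R)
    (L' : Type u) [CommRing L'] [Algebra (Localization.Away (algebraMap R[X] B X)) L'] (e : L' ≃+* LaurentSeries R)
    (he : ∀ b : B, e (algebraMap (Localization.Away (algebraMap R[X] B X)) L' (algebraMap B (Localization.Away (algebraMap R[X] B X)) b)) =
      HahnSeries.ofPowerSeries ℤ R (ψ b)) :
    (∀ (M N : Type u) [AddCommGroup M] [Module (Localization.Away (algebraMap R[X] B X)) M] [Module.Finite (Localization.Away (algebraMap R[X] B X)) M] [Module.Projective (Localization.Away (algebraMap R[X] B X)) M]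
        [AddCommGroup N] [Module (Localization.Away (algebraMap R[X] B X)) N] [Module.Finite (Localization.Away (algebraMap R[X] B X)) N] [Module.Projective (Localization.Away (algebraMap R[X] B X)) N],
        Nonempty (L' ⊗[Localization.Away (algebraMap R[X] B X)] M ≃ₗ[L'] L' ⊗[Localization.Away (algebraMap R[X] B X)] N) → Nonempty (M ≃ₗ[Localization.Away (algebraMap R[X] B X)] N)) ∧
    (∀ (M' : Type u) [AddCommGroup M'] [Module L' M'] [Module.Finite L' M'] [Module.Projective L' M'],
        ∃ (M : Type u) (_ : AddCommGroup M) (_ : Module (Localization.Away (algebraMap R[X] B X)) M),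
          Module.Finite (Localization.Away (algebraMap R[X] B X)) M ∧ Module.Projective (Localization.Away (algebraMap R[X] B X)) M ∧
          Nonempty (L' ⊗[Localization.Away (algebraMap R[X] B X)] M ≃ₗ[L'] M')) := by
  letI algBAh : Algebra B (PowerSeries R) := ψ.toRingHom.toAlgebra
  letI algAhLh : Algebra (PowerSeries R) L' :=
    (e.symm.toRingHom.comp (HahnSeries.ofPowerSeries ℤ R)).toAlgebra
  haveI : HenselianRing B (Ideal.span {algebraMap R[X] B X}) := by
    have := hB.1
    rwa [Ideal.map_span, Set.image_singleton] at this
  have hloc : IsLocalization.Away (PowerSeries.X : PowerSeries R) L' :=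
    IsLocalization.isLocalization_of_algEquiv (Submonoid.powers (PowerSeries.X : PowerSeries R))
      (AlgEquiv.ofRingEquiv (f := e.symm) (fun x => rfl) :
        LaurentSeries R ≃ₐ[PowerSeries R] L')
  have S := setup R B hB (fun p => by
      show ψ (algebraMap R[X] B p) = (p : PowerSeries R)
      rw [ψ.commutes]
      simp [PowerSeries.algebraMap_apply']) L' hloc (fun b => by
      show _ = e.symm (HahnSeries.ofPowerSeries ℤ R (ψ b))
      rw [← he b, e.symm_apply_apply])
  have hbd : ∃ N : ℕ, ∀ a : B, (∃ m : ℕ, (algebraMap R[X] B X) ^ m * a = 0) →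
      (algebraMap R[X] B X) ^ N * a = 0 := by
    refine ⟨0, ?_⟩
    rintro a ⟨m, hm⟩
    haveI := Groth.Agent.Lib.Helper26.PairHensConstr.flat_of_isPairHenselization hB
    have hreg : IsSMulRegular B (algebraMap R[X] B (X ^ m)) :=
      IsSMulRegular.of_flat (Polynomial.monic_X_pow m).isRegular.left.isSMulRegular
    have h0 : a = 0 := by
      apply hreg
      show algebraMap R[X] B (X ^ m) • a = algebraMap R[X] B (X ^ m) • (0 : B)
      rw [smul_zero, smul_eq_mul, map_pow, hm]
    rw [h0, mul_zero]
  exact ⟨fun M N _ _ _ _ _ _ _ _ h => S.part1 M N h, fun M' _ _ _ _ => S.part3 hbd M'⟩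

end Groth.Agent.S19779
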