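import Mathlib
import Groth.Statements.S19799
import Groth.Agent.Lib.Helper26.FinAlgSection

set_option autoImplicit false
universe u v w
open scoped TensorProduct
open CAlg

namespace Groth.Agent.S19799

/-- Let k be an algebraically closed field and A, B commutative k-algebras, each finite-dimensional as a
k-vector space. Then reduction commutes with tensor products: the kernel of the canonical surjection
A ⊗_k B ⟶ (A/nilradical A) ⊗_k (B/nilradical B) equals the nilradical of A ⊗_k B, so that this
surjection induces an isomorphism (A ⊗_k B)_red ≅ A_red ⊗_k B_red and in particular A_red ⊗_k B_red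
is reduced. -/
theorem result (k : Type u) [Field k]
    [IsAlgClosed k] (A : Type v) [CommRing A] [Algebra k A] [Module.Finite k A]
    (B : Type w) [CommRing B] [Algebra k B] [Module.Finite k B] :
    RingHom.ker (Algebra.TensorProduct.map (Ideal.Quotient.mkₐ k (nilradical A))
      (Ideal.Quotient.mkₐ k (nilradical B))).toRingHom = nilradical (A ⊗[k] B) := by
  classical
  have hred : IsReduced ((A ⧸ nilradical A) ⊗[k] (B ⧸ nilradical B)) := by
    haveI : Finite (A →ₐ[k] k) := inferInstance
    haveI : Finite (B →ₐ[k] k) := inferInstance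
    letI : Fintype (B →ₐ[k] k) := Fintype.ofFinite _
    let e := (Algebra.TensorProduct.congr (Groth.Agent.Lib.Helper26.FinAlg.evQuot k A)
      (Groth.Agent.Lib.Helper26.FinAlg.evQuot k B)).trans
      (Algebra.TensorProduct.piScalarRight k k ((A →ₐ[k] k) → k) (B →ₐ[k] k))
    exact isReduced_of_injective e.toAlgHom.toRingHom e.injective
  have hker : RingHom.ker (Algebra.TensorProduct.map (Ideal.Quotient.mkₐ k (nilradical A))
      (Ideal.Quotient.mkₐ k (nilradical B))).toRingHom =
      RingHom.ker (Algebra.TensorProduct.map (Ideal.Quotient.mkₐ k (nilradical A))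
      (Ideal.Quotient.mkₐ k (nilradical B))) := rfl
  apply le_antisymm
  · rw [hker, Algebra.TensorProduct.map_ker _ _ (Ideal.Quotient.mkₐ_surjective k _)
      (Ideal.Quotient.mkₐ_surjective k _), sup_le_iff]
    constructor
    · rw [Ideal.map_le_iff_le_comap]
      intro a ha
      rw [RingHom.mem_ker, Ideal.Quotient.mkₐ_eq_mk, Ideal.Quotient.eq_zero_iff_mem] at ha
      rw [Ideal.mem_comap, mem_nilradical]
      exact (mem_nilradical.mp ha).map _
    · rw [Ideal.map_le_iff_le_comap]
      intro b hb
      rw [RingHom.mem_ker, Ideal.Quotient.mkₐ_eq_mk, Ideal.Quotient.eq_zero_iff_mem] at hb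
      rw [Ideal.mem_comap, mem_nilradical]
      exact (mem_nilradical.mp hb).map _
  · intro z hz
    rw [RingHom.mem_ker]
    have h1 : IsNilpotent ((Algebra.TensorProduct.map (Ideal.Quotient.mkₐ k (nilradical A))
      (Ideal.Quotient.mkₐ k (nilradical B))).toRingHom z) := (mem_nilradical.mp hz).map _
    exact h1.eq_zero

end Groth.Agent.S19799
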