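import Mathlib
import Groth.Statements.S19804
-- import your own Groth.Agent.* helpers here

set_option autoImplicit false
open scoped TensorProduct
universe u v w
open Brauer

namespace Groth.Agent.S19804.Aux

theorem subsingleton_of_baseChange {R : Type u} [CommRing R] [PreconnectedSpace (PrimeSpectrum R)]
    (P : Type v) [AddCommGroup P] [Module R P] [Module.Finite R P] [Module.Projective R P]
    (R' : Type w) [CommRing R'] [Nontrivial R'] [Algebra R R'] [Subsingleton (R' ⊗[R] P)] :
    Subsingleton P := by
  haveI : Module.FinitePresentation R P := Module.finitePresentation_of_projective R P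
  obtain ⟨q⟩ : Nonempty (PrimeSpectrum R') := inferInstance
  have h0 : Module.rankAtStalk P (q.comap (algebraMap R R')) = 0 := by
    rw [← Module.rankAtStalk_baseChange, Module.rankAtStalk_eq_zero_of_subsingleton]
    rfl
  rw [← Module.rankAtStalk_eq_zero_iff_subsingleton (R := R)]
  ext p
  rw [Pi.zero_apply, ← h0]
  exact (Module.isLocallyConstant_rankAtStalk (R := R) (M := P)).apply_eq_of_preconnectedSpace _ _

theorem idem_eq_zero {R : Type u} [CommRing R] [PreconnectedSpace (PrimeSpectrum R)]
    {A : Type v} [Ring A] [Algebra R A] [Module.Finite R A] [Module.Projective R A]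
    (e : A) (he : IsIdempotentElem e) (R' : Type w) [CommRing R'] [Nontrivial R'] [Algebra R R']
    (h : (1 : R') ⊗ₜ[R] e = (0 : R' ⊗[R] A)) : e = 0 := by
  let ε : A →ₗ[R] A := LinearMap.mulRight R e
  let P : Submodule R A := LinearMap.range ε
  have hεP : ∀ y : P, ε (y : A) = y := by
    rintro ⟨y, x, rfl⟩
    show x * e * e = x * e
    rw [mul_assoc, he.eq]
  have hsplit : ε.rangeRestrict ∘ₗ P.subtype = LinearMap.id := by
    ext y
    exact hεP y
  haveI : Module.Projective R P := Module.Projective.of_split P.subtype ε.rangeRestrict hsplit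
  haveI : Module.Finite R P := Module.Finite.range ε
  haveI : Subsingleton (R' ⊗[R] P) := by
    have hinj : Function.Injective (P.subtype.lTensor R') := by
      apply Function.LeftInverse.injective (g := ε.rangeRestrict.lTensor R')
      intro z
      rw [← LinearMap.comp_apply, ← LinearMap.lTensor_comp, hsplit, LinearMap.lTensor_id,
        LinearMap.id_apply]
    have hzero : ∀ z : R' ⊗[R] P, P.subtype.lTensor R' z = 0 := by
      intro z
      induction z using TensorProduct.induction_on with
      | zero => rw [map_zero]
      | tmul r y =>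
        obtain ⟨y, x, rfl⟩ := y
        rw [LinearMap.lTensor_tmul]
        show r ⊗ₜ[R] (x * e) = 0
        have : r ⊗ₜ[R] (x * e) = (r ⊗ₜ[R] x) * ((1 : R') ⊗ₜ[R] e) := by
          rw [Algebra.TensorProduct.tmul_mul_tmul, mul_one]
        rw [this, h, mul_zero]
      | add a b ha hb => rw [map_add, ha, hb, add_zero]
    exact ⟨fun a b => hinj (by rw [hzero a, hzero b])⟩
  haveI := subsingleton_of_baseChange (R := R) P R'
  have he' : (⟨e, ⟨1, by show 1 * e = e; rw [one_mul]⟩⟩ : P) = 0 := Subsingleton.elim _ _
  exact congrArg Subtype.val he'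

end Groth.Agent.S19804.Aux

namespace Groth.Agent.S19804

/-- Let R be a commutative ring with Spec R connected, A an Azumaya R-algebra and e an idempotent
element of A. If for some nonzero commutative R-algebra R' the element 1 ⊗ e of R' ⊗_R A is 0, then
e = 0; and if 1 ⊗ e = 1 in R' ⊗_R A, then e = 1. (The published statement is for an Azumaya algebra
over a connected scheme S and base change to an arbitrary nonempty S-scheme T; this row takes S and
T affine.) -/
theorem result {R : Type u} [CommRing R]
    [ConnectedSpace (PrimeSpectrum R)] {A : Type v} [Ring A] [Algebra R A] [IsAzumaya R A]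
    (e : A) (he : IsIdempotentElem e) (R' : Type w) [CommRing R'] [Nontrivial R'] [Algebra R R'] :
    ((1 : R') ⊗ₜ[R] e = (0 : R' ⊗[R] A) → e = 0) ∧ ((1 : R') ⊗ₜ[R] e = (1 : R' ⊗[R] A) → e = 1) := by
  haveI : Module.Finite R A := IsAzumaya.toFinite
  haveI : Module.Projective R A := IsAzumaya.toProjective
  refine ⟨fun h => Aux.idem_eq_zero e he R' h, fun h => ?_⟩
  have h1 : (1 : R') ⊗ₜ[R] (1 - e) = (0 : R' ⊗[R] A) := by
    rw [TensorProduct.tmul_sub, h, ← Algebra.TensorProduct.one_def, sub_self]
  have := Aux.idem_eq_zero (1 - e) he.one_sub R' h1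
  exact (sub_eq_zero.mp this).symm

end Groth.Agent.S19804
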