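import Groth.Statements.S19806
import Groth.Agent.Lib.Helper7.GrowthD

set_option autoImplicit false
universe u
open CategoryTheory CategoryTheory.Limits AlgebraicGeometry
open scoped ENNReal
open Variety

namespace Groth.Agent.S19806

/-- Let X be a projective variety of dimension d over a field k (a geometrically integral scheme, proper
over k, admitting an ample invertible module, with dim X = d) and L an invertible O_X-module; write
vol(L) for the upper limit of dim_k H^0(X, L^m) / m^d as m → ∞, taken in the extended non-negative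
reals (the volume of L up to the factor d!). Call L big when the lower limit of dim_k H^0(X, L^m) /
m^d is positive. Then L is big if and only if vol(L) is positive. -/
theorem result (k : Type u) [Field k] (X : Scheme.{u})
    [X.Over (Spec (CommRingCat.of k))] [IsIntegral X] [GeometricallyIntegral (X ↘ Spec (CommRingCat.of k))]
    [IsProper (X ↘ Spec (CommRingCat.of k))]
    (hproj : ∃ A : X.Modules, CohB1.IsAmple A) (d : ℕ) (hd : topologicalKrullDim X = d)
    (L : X.Modules) (hL : PicF.IsInvertible L) :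
    0 < Filter.liminf (fun m : ℕ => (Module.finrank k (Coh.HH X (CohB1.tensorPow L m) 0) : ℝ≥0∞) /
        (m : ℝ≥0∞) ^ d) Filter.atTop ↔
      0 < Filter.limsup (fun m : ℕ => (Module.finrank k (Coh.HH X (CohB1.tensorPow L m) 0) : ℝ≥0∞) /
        (m : ℝ≥0∞) ^ d) Filter.atTop := by
  have e1 : ∀ n : ℕ, 1 ≤ n →
      (Module.finrank k (Coh.HH X (CohB1.tensorPow L n) 0) : ℝ≥0∞) / (n : ℝ≥0∞) ^ d =
        ENNReal.ofReal ((Module.finrank k (Coh.HH X (CohB1.tensorPow L n) 0) : ℝ) /
          (n : ℝ) ^ d) := by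
    intro n hn
    have hn' : (0 : ℝ) < (n : ℝ) := by exact_mod_cast hn
    have hnpos : (0 : ℝ) < (n : ℝ) ^ d := by positivity
    rw [ENNReal.ofReal_div_of_pos hnpos, ENNReal.ofReal_pow (Nat.cast_nonneg n),
      ENNReal.ofReal_natCast, ENNReal.ofReal_natCast]
  constructor
  · intro h
    exact lt_of_lt_of_le h Filter.liminf_le_limsup
  · intro h
    obtain ⟨A, hA⟩ := hproj
    obtain ⟨r, hr0, hr1, hr2⟩ := ENNReal.lt_iff_exists_real_btwn.mp h
    have hrpos : 0 < r := by
      by_contra hneg
      push_neg at hneg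
      rw [ENNReal.ofReal_of_nonpos hneg] at hr1
      exact lt_irrefl _ hr1
    have hfreq := Filter.frequently_lt_of_lt_limsup (by isBoundedDefault) hr2
    have hfreq' : ∃ᶠ n : ℕ in Filter.atTop,
        r * (n : ℝ) ^ d < (Module.finrank k (Coh.HH X (CohB1.tensorPow L n) 0) : ℝ) := by
      refine (hfreq.and_eventually (Filter.eventually_ge_atTop 1)).mono ?_
      rintro n ⟨h1, hn⟩
      have hn' : (0 : ℝ) < (n : ℝ) := by exact_mod_cast hn
      have hnpos : (0 : ℝ) < (n : ℝ) ^ d := by positivity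
      rw [e1 n hn, ENNReal.ofReal_lt_ofReal_iff_of_nonneg hr0] at h1
      rwa [lt_div_iff₀ hnpos] at h1
    have hbig := Groth.Agent.Lib.Helper7.GrowthD.hbig_of_frequently _ d r hrpos hfreq'
    obtain ⟨eA⟩ := Groth.Agent.Lib.Helper23.Inverse.tensor_dual_iso hA.1
    obtain ⟨m₀, hm₀, hnt⟩ := Groth.Agent.Lib.Helper7.GrowthC.kodaira k X d hd hA _
      (Groth.Agent.Lib.Helper3.InvMonoidal.braid _ _ ≪≫ eA) L hL hbig
    obtain ⟨c, hc, N, hN⟩ := Groth.Agent.Lib.Helper7.GrowthD.exists_lower_bound k X d hd hA _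
      (Groth.Agent.Lib.Helper3.InvMonoidal.braid _ _ ≪≫ eA) L hL m₀ hm₀ hnt
    have hc' : (0 : ℝ) < (c : ℝ) := by exact_mod_cast hc
    refine lt_of_lt_of_le (ENNReal.ofReal_pos.mpr hc')
      (Filter.le_liminf_of_le (by isBoundedDefault) ?_)
    filter_upwards [Filter.eventually_ge_atTop (max N 1)] with n hn
    have h1 := hN n (le_of_max_le_left hn)
    have hn1 : 1 ≤ n := le_of_max_le_right hn
    have hn' : (0 : ℝ) < (n : ℝ) := by exact_mod_cast hn1
    have hnpos : (0 : ℝ) < (n : ℝ) ^ d := by positivity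
    rw [e1 n hn1]
    apply ENNReal.ofReal_le_ofReal
    rw [le_div_iff₀ hnpos]
    have h2 : ((c * (n : ℚ) ^ d : ℚ) : ℝ) ≤
        ((Module.finrank k (Coh.HH X (CohB1.tensorPow L n) 0) : ℚ) : ℝ) := by exact_mod_cast h1
    push_cast at h2
    exact h2

end Groth.Agent.S19806
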