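import Groth.Statements.S19809
import Groth.Agent.S16515

set_option autoImplicit false
universe u
open RatCurv

namespace Groth.Agent.S19809

open MvPolynomial Groth.Agent.S16515


theorem cubic_form {K : Type*} [Field K] (g : MvPolynomial (Fin 2) K)
    (hg : g ∈ homogeneousSubmodule (Fin 2) K 3) :
    ∃ a b c d : K, g = C a * X 0 ^ 3 + C b * X 0 ^ 2 * X 1 + C c * X 0 * X 1 ^ 2 + C d * X 1 ^ 3 := by
  classical
  rw [mem_homogeneousSubmodule] at hg
  let f : Fin 4 → (Fin 2 →₀ ℕ) := fun i => Finsupp.single 0 (i : ℕ) + Finsupp.single 1 (3 - (i : ℕ))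
  have hf : Function.Injective f := by
    intro i j hij
    have := DFunLike.congr_fun hij 0
    simp [f] at this
    exact Fin.ext this
  have hsupp : g.support ⊆ Finset.univ.image f := by
    intro m hm
    have hdeg := hg.degree_eq_sum_deg_support hm
    rw [Finset.sum_subset (Finset.subset_univ _)
      (fun i _ hi => Finsupp.notMem_support_iff.mp hi), Fin.sum_univ_two] at hdeg
    refine Finset.mem_image.mpr ⟨⟨m 0, by omega⟩, Finset.mem_univ _, ?_⟩
    ext i
    fin_cases i
    · simp [f]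
    · simp [f]; omega
  have h1 := g.as_sum
  rw [Finset.sum_subset hsupp (fun m _ hm => by simp [notMem_support_iff.mp hm]),
    Finset.sum_image (fun i _ j _ h => hf h), Fin.sum_univ_four] at h1
  refine ⟨coeff (f 3) g, coeff (f 2) g, coeff (f 1) g, coeff (f 0) g, ?_⟩
  conv_lhs => rw [h1]
  simp only [f, monomial_eq]
  simp [Finsupp.prod_add_index, pow_add]
  ring

theorem quad_mem {K : Type*} [Field K] (a b c : K) :
    (C a * X 0 ^ 2 + C b * X 0 * X 1 + C c * X 1 ^ 2 : MvPolynomial (Fin 2) K) ∈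
      homogeneousSubmodule (Fin 2) K 2 := by
  rw [mem_homogeneousSubmodule]
  refine ((isHomogeneous_C_mul_X_pow a 0 2).add ?_).add (isHomogeneous_C_mul_X_pow c 1 2)
  exact (isHomogeneous_C_mul_X b 0).mul (isHomogeneous_X K 1)

theorem factor_cubic {K : Type*} [Field K] [IsAlgClosed K] (g : MvPolynomial (Fin 2) K)
    (hg : g ∈ homogeneousSubmodule (Fin 2) K 3) :
    ∃ l ∈ homogeneousSubmodule (Fin 2) K 1, ∃ e ∈ homogeneousSubmodule (Fin 2) K 2, g = l * e := by
  obtain ⟨a, b, c, d, rfl⟩ := cubic_form g hg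
  by_cases ha : a = 0
  · refine ⟨X 1, (mem_homogeneousSubmodule _ _).mpr (isHomogeneous_X K 1),
      C b * X 0 ^ 2 + C c * X 0 * X 1 + C d * X 1 ^ 2, quad_mem b c d, ?_⟩
    rw [ha, C_0]; ring
  · let q : Polynomial K := Polynomial.C a * Polynomial.X ^ 3 + Polynomial.C b * Polynomial.X ^ 2
      + Polynomial.C c * Polynomial.X + Polynomial.C d
    have hq : q.degree ≠ 0 := by
      have : q.degree = 3 := Polynomial.degree_cubic ha
      rw [this]; norm_num
    obtain ⟨r, hr⟩ := IsAlgClosed.exists_root q hq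
    have hr' : a * r ^ 3 + b * r ^ 2 + c * r + d = 0 := by
      simpa [q, Polynomial.IsRoot] using hr
    refine ⟨X 0 - C r * X 1, (mem_homogeneousSubmodule _ _).mpr
        ((isHomogeneous_X K 0).sub (isHomogeneous_C_mul_X r 1)),
      C a * X 0 ^ 2 + C (b + a * r) * X 0 * X 1 + C (c + b * r + a * r ^ 2) * X 1 ^ 2,
      quad_mem _ _ _, ?_⟩
    have hd : d = -(a * r ^ 3 + b * r ^ 2 + c * r) := by linear_combination hr'
    rw [hd]
    simp only [C_add, C_mul, C_pow, C_neg]
    ring

theorem finrank_mulLeft_map {K : Type*} [Field K] (g : MvPolynomial (Fin 2) K) (hg : g ≠ 0) (d : ℕ) :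
    Module.finrank K ((homogeneousSubmodule (Fin 2) K d).map (LinearMap.mulLeft K g)) = d + 1 := by
  have hinj : Function.Injective (LinearMap.mulLeft K g) := fun x y hxy =>
    mul_left_cancel₀ hg hxy
  rw [← finrank_homog K d]
  exact (Submodule.equivMapOfInjective _ hinj _).finrank_eq.symm

theorem fd_homog (K : Type*) [Field K] (d : ℕ) :
    FiniteDimensional K (homogeneousSubmodule (Fin 2) K d) :=
  Module.finite_of_finrank_pos (by rw [finrank_homog]; omega)

theorem no_cubic {K : Type*} [Field K] [IsAlgClosed K]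
    (V : Submodule K (MvPolynomial (Fin 2) K))
    (hdim : Module.finrank K ↥V = 4)
    (hsep : ∀ e ∈ MvPolynomial.homogeneousSubmodule (Fin 2) K 2, e ≠ 0 →
      ∀ F ∈ MvPolynomial.homogeneousSubmodule (Fin 2) K 5, ∃ v ∈ V,
        ∃ h ∈ MvPolynomial.homogeneousSubmodule (Fin 2) K 3, F = v + e * h)
    (g : MvPolynomial (Fin 2) K) (hg : g ∈ homogeneousSubmodule (Fin 2) K 3) (hg0 : g ≠ 0)
    (hgV : ∀ h ∈ homogeneousSubmodule (Fin 2) K 2, g * h ∈ V) : False := by
  classical
  obtain ⟨l, hl, e, he, rfl⟩ := factor_cubic g hg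
  have he0 : e ≠ 0 := fun h => hg0 (by rw [h, mul_zero])
  have fdV : FiniteDimensional K V := Module.finite_of_finrank_pos (by omega)
  have fd3 := fd_homog K 3
  have fd2 := fd_homog K 2
  have fd5 := fd_homog K 5
  set W1 := (homogeneousSubmodule (Fin 2) K 3).map (LinearMap.mulLeft K e) with hW1
  set W2 := (homogeneousSubmodule (Fin 2) K 2).map (LinearMap.mulLeft K (l * e)) with hW2
  have h1 : Module.finrank K W1 = 4 := finrank_mulLeft_map e he0 3
  have h2 : Module.finrank K W2 = 3 := finrank_mulLeft_map (l * e) hg0 2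
  have hle : W2 ≤ V ⊓ W1 := by
    rintro _ ⟨h, hh, rfl⟩
    refine ⟨hgV h hh, l * h, ?_, ?_⟩
    · have := IsHomogeneous.mul ((mem_homogeneousSubmodule _ _).mp hl)
        ((mem_homogeneousSubmodule _ _).mp hh)
      exact (mem_homogeneousSubmodule _ _).mpr this
    · simp only [LinearMap.mulLeft_apply]; ring
  have hsup : homogeneousSubmodule (Fin 2) K 5 ≤ V ⊔ W1 := by
    intro F hF
    obtain ⟨v, hv, h, hh, rfl⟩ := hsep e he he0 F hF
    exact Submodule.add_mem_sup hv ⟨h, hh, rfl⟩
  have h3 := Submodule.finrank_sup_add_finrank_inf_eq V W1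
  have h4 := Submodule.finrank_mono hsup
  have h5 := Submodule.finrank_mono hle
  rw [finrank_homog] at h4
  omega

/-- a pencil of hyperplanes through a codimension two subspace of the quintics -/
theorem pencil {K : Type*} [Field K]
    (V : Submodule K (MvPolynomial (Fin 2) K))
    (hV : V ≤ MvPolynomial.homogeneousSubmodule (Fin 2) K 5) (hdim : Module.finrank K ↥V = 4) :
    ∃ U : K → Submodule K (MvPolynomial (Fin 2) K),
      (∀ c, U c ≤ homogeneousSubmodule (Fin 2) K 5) ∧ (∀ c, Module.finrank K (U c) = 5) ∧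
      (∀ c, V ≤ U c) ∧ (∀ c c', c ≠ c' → U c ⊓ U c' ≤ V) := by
  classical
  have fd5 := fd_homog K 5
  let V' : Submodule K (homogeneousSubmodule (Fin 2) K 5) :=
    V.comap (homogeneousSubmodule (Fin 2) K 5).subtype
  have hV' : Module.finrank K V' = Module.finrank K V :=
    (Submodule.comapSubtypeEquivOfLe hV).finrank_eq
  have hQ : Module.finrank K (homogeneousSubmodule (Fin 2) K 5 ⧸ V') = 2 := by
    have := Submodule.finrank_quotient_add_finrank V'
    rw [finrank_homog, hV', hdim] at this; omega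
  let iso : (homogeneousSubmodule (Fin 2) K 5 ⧸ V') ≃ₗ[K] (Fin 2 → K) :=
    LinearEquiv.ofFinrankEq _ _ (by rw [hQ, Module.finrank_fin_fun])
  let π : homogeneousSubmodule (Fin 2) K 5 →ₗ[K] (Fin 2 → K) := iso.toLinearMap ∘ₗ V'.mkQ
  have hπ : ∀ x : homogeneousSubmodule (Fin 2) K 5, π x = 0 ↔ x.1 ∈ V := by
    intro x
    show iso (V'.mkQ x) = 0 ↔ _
    rw [LinearEquiv.map_eq_zero_iff, Submodule.mkQ_apply, Submodule.Quotient.mk_eq_zero]
    rfl
  have hπs : Function.Surjective π := iso.surjective.comp V'.mkQ_surjective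
  let lam : K → homogeneousSubmodule (Fin 2) K 5 →ₗ[K] K := fun c =>
    (LinearMap.proj 0 + c • LinearMap.proj 1) ∘ₗ π
  have hlam : ∀ c x, lam c x = π x 0 + c * π x 1 := fun c x => rfl
  have hlams : ∀ c, Function.Surjective (lam c) := by
    intro c t
    obtain ⟨x, hx⟩ := hπs ![t, 0]
    exact ⟨x, by rw [hlam, hx]; simp⟩
  refine ⟨fun c => (LinearMap.ker (lam c)).map (homogeneousSubmodule (Fin 2) K 5).subtype,
    fun c => Submodule.map_subtype_le _ _, ?_, ?_, ?_⟩
  · intro c
    rw [Submodule.finrank_map_subtype_eq]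
    have h1 := LinearMap.finrank_range_add_finrank_ker (lam c)
    rw [LinearMap.range_eq_top.mpr (hlams c), finrank_top, Module.finrank_self, finrank_homog] at h1
    omega
  · intro c v hv
    refine ⟨⟨v, hV hv⟩, ?_, rfl⟩
    have : π ⟨v, hV hv⟩ = 0 := (hπ _).mpr hv
    show lam c _ = 0
    rw [hlam, this]; simp
  · rintro c c' hcc _ ⟨⟨x, hx, rfl⟩, ⟨y, hy, hxy⟩⟩
    have hyx : y = x := Subtype.ext hxy
    subst hyx
    have e1 : π y 0 + c * π y 1 = 0 := hx
    have e2 : π y 0 + c' * π y 1 = 0 := hy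
    have e3 : (c - c') * π y 1 = 0 := by linear_combination e1 - e2
    have e4 : π y 1 = 0 := by
      rcases mul_eq_zero.mp e3 with h | h
      · exact absurd (sub_eq_zero.mp h) hcc
      · exact h
    have e5 : π y 0 = 0 := by rw [e4, mul_zero, add_zero] at e1; exact e1
    refine (hπ y).mp ?_
    ext i; fin_cases i
    · exact e5
    · exact e4

theorem result (K : Type u) [Field K] [IsAlgClosed K]
    [CharZero K] (V : Submodule K (MvPolynomial (Fin 2) K))
    (hV : V ≤ MvPolynomial.homogeneousSubmodule (Fin 2) K 5) (hdim : Module.finrank K ↥V = 4)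
    (hsep : ∀ e ∈ MvPolynomial.homogeneousSubmodule (Fin 2) K 2, e ≠ 0 →
      ∀ F ∈ MvPolynomial.homogeneousSubmodule (Fin 2) K 5, ∃ v ∈ V,
        ∃ h ∈ MvPolynomial.homogeneousSubmodule (Fin 2) K 3, F = v + e * h)
    (F : Finset (MvPolynomial (Fin 2) K)) :
    ∃ g ∈ MvPolynomial.homogeneousSubmodule (Fin 2) K 3, g ≠ 0 ∧
      2 ≤ Module.finrank K ↥(V ⊓ (MvPolynomial.homogeneousSubmodule (Fin 2) K 2).map (LinearMap.mulLeft K g)) ∧
      ∀ g' ∈ F, ∀ c : K, g ≠ c • g' := by
  classical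
  obtain ⟨U, hU5, hUdim, hVU, hUU⟩ := pencil V hV hdim
  have hex : ∀ c : K, ∃ g ∈ homogeneousSubmodule (Fin 2) K 3, g ≠ 0 ∧
      ∀ h ∈ homogeneousSubmodule (Fin 2) K 2, g * h ∈ U c := by
    intro c
    have := Groth.Agent.S16515.result K 5 0 3 (by norm_num) (by norm_num) (U c) (hU5 c)
      (by rw [hUdim])
    exact this
  choose gc hgc3 hgc0 hgcU using hex
  have fdV : FiniteDimensional K V := Module.finite_of_finrank_pos (by omega)
  have fd2 := fd_homog K 2
  have fdU : ∀ c, FiniteDimensional K (U c) := fun c =>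
    Module.finite_of_finrank_pos (by rw [hUdim]; omega)
  -- the dimension estimate
  have hest : ∀ c, 2 ≤ Module.finrank K
      ↥(V ⊓ (homogeneousSubmodule (Fin 2) K 2).map (LinearMap.mulLeft K (gc c))) := by
    intro c
    set W := (homogeneousSubmodule (Fin 2) K 2).map (LinearMap.mulLeft K (gc c)) with hW
    have h1 : Module.finrank K W = 3 := finrank_mulLeft_map (gc c) (hgc0 c) 2
    have hWU : W ≤ U c := by
      rintro _ ⟨h, hh, rfl⟩
      exact hgcU c h hh
    have h2 := Submodule.finrank_mono (sup_le (hVU c) hWU)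
    have h3 := Submodule.finrank_sup_add_finrank_inf_eq V W
    rw [hUdim] at h2
    omega
  by_contra hcon
  push Not at hcon
  have hbad : ∀ c : K, ∃ g' ∈ F, ∃ t : K, gc c = t • g' := fun c =>
    hcon (gc c) (hgc3 c) (hgc0 c) (hest c)
  choose g' hg'F t ht using hbad
  let φ : K → F := fun c => ⟨g' c, hg'F c⟩
  obtain ⟨c, c', hcc, hφ⟩ := Finite.exists_ne_map_eq_of_infinite φ
  have hg'eq : g' c = g' c' := congrArg Subtype.val hφ
  have ht0 : t c' ≠ 0 := by
    intro h0
    apply hgc0 c'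
    rw [ht c', h0, zero_smul]
  -- gc c = (t c / t c') • gc c'
  have hprop : gc c = (t c / t c') • gc c' := by
    rw [ht c, ht c', hg'eq, smul_smul, div_mul_cancel₀ _ ht0]
  refine no_cubic V hdim hsep (gc c) (hgc3 c) (hgc0 c) ?_
  intro h hh
  refine hUU c c' hcc ⟨hgcU c h hh, ?_⟩
  rw [hprop, smul_mul_assoc]
  exact (U c').smul_mem _ (hgcU c' h hh)

end Groth.Agent.S19809
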