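import Groth.Statements.S19849
import Groth.Agent.Lib.Helper5.LinSingle
import Groth.Agent.Lib.Helper5.DRProper
import Groth.Agent.S0002

set_option autoImplicit false
universe u
open DeRhamSh

namespace Groth.Agent.S19849

open CategoryTheory CategoryTheory.Limits AlgebraicGeometry TopologicalSpace Opposite in
/-- the action of `k` on the abelian sheaf of a module through `c`. -/
noncomputable def smulAct {X : Scheme.{u}} {k : Type u} [CommRing k] (c : k →+* Coh.Γtop X)
    (M : X.Modules) : k →+* End (Coh.toAb M) where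
  toFun a := Coh.smulAb M (c a)
  map_one' := by
    rw [map_one]
    exact Coh.smulAb_one M
  map_mul' a b := by
    rw [map_mul]
    exact Coh.smulAb_mul M _ _
  map_zero' := by
    rw [map_zero]
    exact Coh.smulAb_zero M
  map_add' a b := by
    rw [map_add]
    exact Coh.smulAb_add M _ _

open CategoryTheory CategoryTheory.Limits AlgebraicGeometry TopologicalSpace Opposite in
/-- the `Ext` groups computing coherent cohomology, with their module structure. -/
theorem ext_data (A : Type u) [CommRing A] [IsNoetherianRing A] (X : Scheme.{u})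
    (f : X ⟶ Spec (CommRingCat.of A)) [IsProper f] (M : X.Modules) (hM : Coh.IsCoh M) (n : ℕ) :
    ∃ (N : Type u) (_ : AddCommGroup N) (_ : Module A N) (_ : IsNoetherian A N)
      (ε : Abelian.Ext.{u} (CohCx.freeSheaf (Opens.grothendieckTopology X) ⊤) (Coh.toAb M) n ≃+ N),
      ∀ (a : A) (x : Abelian.Ext.{u} (CohCx.freeSheaf (Opens.grothendieckTopology X) ⊤)
          (Coh.toAb M) n),
        ε (x.comp (Abelian.Ext.mk₀ (Coh.smulAb M (Coh.toGlobal f a))) (add_zero n)) = a • ε x := by
  letI : X.Over (Spec (CommRingCat.of A)) := ⟨f⟩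
  haveI : IsProper (X ↘ Spec (CommRingCat.of A)) := inferInstanceAs (IsProper f)
  haveI hfin : Module.Finite A (Coh.HH X M n) := Groth.Agent.S0002.result A X M hM n
  haveI : IsNoetherian A (Coh.HH X M n) := isNoetherian_of_isNoetherianRing_of_finite A _
  let eC := E1Deg.freeSheafIsoConstant (Opens.grothendieckTopology X)
    (CategoryTheory.Limits.isTerminalTop : IsTerminal (⊤ : X.Opens))
  refine ⟨Coh.HH X M n, inferInstance, inferInstance, inferInstance,
    E1Deg.extCongrLeft eC (Coh.toAb M) n, ?_⟩
  intro a x
  change (Abelian.Ext.mk₀ eC.inv).comp (x.comp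
    (Abelian.Ext.mk₀ (Coh.smulAb M (Coh.toGlobal f a))) (add_zero n)) (zero_add n) =
      ((Abelian.Ext.mk₀ eC.inv).comp x (zero_add n)).comp (Abelian.Ext.mk₀ _) (add_zero n)
  rw [Abelian.Ext.comp_assoc_of_third_deg_zero]
  rfl

open CategoryTheory AlgebraicGeometry TopologicalSpace in
/-- Let A be a Noetherian ring and f : X → Spec A a proper morphism; let D be a de Rham complex of the
sheaf of differentials of f whose differentials are A-linear for the action of A through f. Then for
every integer i the algebraic de Rham cohomology H^i_dR(X/A) = H^i(X, D), as an A-module, is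
finitely generated. (The A-linearity of the differentials holds for the de Rham complex and is
carried as a hypothesis because the complex is given by its characterising data.) -/
theorem result (A : Type u) [CommRing A] [IsNoetherianRing A] (X : Scheme.{u})
    (f : X ⟶ Spec (CommRingCat.of A)) [IsProper f]
    (D : DeRhamSh.OmegaCx f)
    (h : KLinDR.TermwiseLinear (Coh.toGlobal f) D.K D.term D.iso)
    [HasDerivedCategory.{u} (Sheaf (Opens.grothendieckTopology X) AddCommGrpCat.{u})] (i : ℤ) :
    Module.Finite A (KLinDR.HdR (Coh.toGlobal f) D h i) := by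
  classical
  haveI : CompactSpace X := QuasiCompact.compactSpace_of_compactSpace f
  obtain ⟨N, hN⟩ := Groth.Agent.Lib.Helper5.DRProper.exists_bound f D
  have hneg : ∀ j : ℤ, j < 0 → Limits.IsZero (D.KZ.X j) := fun j hj =>
    D.K.isZero_extend_X ComplexShape.embeddingUpNat j (fun p hp => by
      have : (p : ℤ) = j := hp
      omega)
  have hz : ∀ j : ℤ, ((N + 1 : ℕ) : ℤ) ≤ j → Limits.IsZero (D.KZ.X j) := by
    intro j hj
    obtain ⟨p, rfl⟩ : ∃ p : ℕ, (p : ℤ) = j := ⟨j.toNat, by omega⟩
    exact Limits.IsZero.of_iso (hN p (by omega))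
      (D.K.extendXIso ComplexShape.embeddingUpNat (ComplexShape.embeddingUpNat_f p))
  have hcomm : ∀ (p : ℕ) (a : A),
      (KLinDR.scalar h a : D.KZ ⟶ D.KZ).f (p : ℤ) ≫
        (D.K.extendXIso ComplexShape.embeddingUpNat (ComplexShape.embeddingUpNat_f p) ≪≫
          D.iso p).hom =
      (D.K.extendXIso ComplexShape.embeddingUpNat (ComplexShape.embeddingUpNat_f p) ≪≫
          D.iso p).hom ≫ Coh.smulAb (D.term p) (Coh.toGlobal f a) := by
    intro p a
    rw [KLinDR.scalar_f]
    simp [KLinDR.scalarEnd]
  haveI := Groth.Agent.Lib.Helper5.LinSingle.isNoetherian_HTρ_of_terms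
    (CohCx.freeSheaf (Opens.grothendieckTopology X) ⊤) (N + 1) D.KZ (KLinDR.scalar h) hz hneg
    (fun j hj => by
      obtain ⟨p, rfl⟩ : ∃ p : ℕ, (p : ℤ) = j := ⟨j.toNat, by omega⟩
      exact ⟨Coh.toAb (D.term p), smulAct (Coh.toGlobal f) (D.term p),
        D.K.extendXIso ComplexShape.embeddingUpNat (ComplexShape.embeddingUpNat_f p) ≪≫ D.iso p,
        hcomm p, fun n => ext_data A X f (D.term p)
          (Groth.Agent.Lib.Helper5.DRProper.isCoh_term f D p) n⟩) i
  exact Module.IsNoetherian.finite A _

end Groth.Agent.S19849
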