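import Groth.Statements.S19856
import Mathlib

set_option autoImplicit false
universe u v
open CAlg

namespace Groth.Agent.S19856


open IsLocalRing

section

variable (O : Type u) [CommRing O] [IsDomain O] [IsDiscreteValuationRing O]
  (G : Type v) [Group G] [Finite G] [MulSemiringAction G O] [FaithfulSMul G O]

set_option maxHeartbeats 400000 in
theorem main (htriv : ∀ (g : G) (a : O), g • a - a ∈ maximalIdeal O)
    (hcard : ((Nat.card G : ℕ) : ResidueField O) ≠ 0) : IsCyclic G := by
  classical
  obtain ⟨π, hπ⟩ := IsDiscreteValuationRing.exists_irreducible O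
  have hm : maximalIdeal O = Ideal.span {π} := hπ.maximalIdeal_eq
  have hπ0 : π ≠ 0 := hπ.ne_zero
  have hπm : π ∈ maximalIdeal O := by rw [hm]; exact Ideal.mem_span_singleton_self π
  have hex : ∀ g : G, ∃ u : O, g • π = u * π := by
    intro g
    have h1 : g • π ∈ maximalIdeal O := by
      have := (maximalIdeal O).add_mem (htriv g π) hπm
      rwa [sub_add_cancel] at this
    rw [hm, Ideal.mem_span_singleton'] at h1
    obtain ⟨u, hu⟩ := h1
    exact ⟨u, hu.symm⟩
  choose u hu using hex
  have hu1 : u 1 = 1 := by
    have h1 := hu 1
    rw [one_smul] at h1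
    have h2 : (1 : O) * π = u 1 * π := by rw [one_mul]; exact h1
    exact (mul_right_cancel₀ hπ0 h2).symm
  have humul : ∀ g h : G, u (g * h) = (g • u h) * u g := by
    intro g h
    have h1 : (g * h) • π = ((g • u h) * u g) * π := by
      rw [mul_smul, hu h, smul_mul', hu g, mul_assoc]
    rw [hu (g * h)] at h1
    exact mul_right_cancel₀ hπ0 h1
  have hres : ∀ (g : G) (a : O), residue O (g • a) = residue O a := by
    intro g a
    have h1 := htriv g a
    rw [← residue_eq_zero_iff, map_sub, sub_eq_zero] at h1
    exact h1
  let χ : G →* ResidueField O :=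
    { toFun := fun g => residue O (u g)
      map_one' := by rw [hu1, map_one]
      map_mul' := fun g h => by
        rw [humul, map_mul, hres, mul_comm] }
  refine isCyclic_of_injective_ringHom χ ?_
  rw [injective_iff_map_eq_one]
  intro g hg
  have hug : u g - 1 ∈ maximalIdeal O := by
    have h1 : residue O (u g) = 1 := hg
    rw [← residue_eq_zero_iff, map_sub, h1, map_one, sub_self]
  have hgnat : ∀ j : ℕ, g • ((j : ℕ) : O) = ((j : ℕ) : O) := fun j =>
    map_natCast (MulSemiringAction.toRingHom G O g) j
  have L : ∀ (n : ℕ) (x : O), x ∈ maximalIdeal O ^ n → g • x - x ∈ maximalIdeal O ^ (n + 1) := by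
    intro n x hx
    rw [hm, Ideal.span_singleton_pow, Ideal.mem_span_singleton'] at hx
    obtain ⟨y, rfl⟩ := hx
    have e1 : g • (y * π ^ n) - y * π ^ n =
        π ^ n * ((g • y - y) * u g ^ n + y * (u g ^ n - 1)) := by
      rw [smul_mul', smul_pow', hu g, mul_pow]; ring
    rw [e1, pow_succ]
    refine Ideal.mul_mem_mul (Ideal.pow_mem_pow hπm n) ?_
    refine (maximalIdeal O).add_mem (Ideal.mul_mem_right _ _ (htriv g y))
      (Ideal.mul_mem_left _ _ ?_)
    obtain ⟨c, hc⟩ := sub_one_dvd_pow_sub_one (u g) n
    rw [hc]; exact Ideal.mul_mem_right _ _ hug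
  have Lpres : ∀ (n : ℕ) (x : O), x ∈ maximalIdeal O ^ n → g • x ∈ maximalIdeal O ^ n := by
    intro n x hx
    have h1 := L n x hx
    have h2 : g • x - x ∈ maximalIdeal O ^ n := Ideal.pow_le_pow_right (Nat.le_succ n) h1
    have := (maximalIdeal O ^ n).add_mem h2 hx
    rwa [sub_add_cancel] at this
  have hNunit : IsUnit ((orderOf g : ℕ) : O) := by
    rw [← IsLocalRing.notMem_maximalIdeal]
    intro hmem
    have h1 : residue O ((orderOf g : ℕ) : O) = 0 := (residue_eq_zero_iff _).mpr hmem
    rw [map_natCast] at h1
    obtain ⟨M, hM⟩ := orderOf_dvd_natCard g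
    apply hcard
    rw [hM, Nat.cast_mul, h1, zero_mul]
  have C : ∀ (n : ℕ) (a : O), g • a - a ∈ maximalIdeal O ^ n := by
    intro n
    induction n with
    | zero => intro a; simp
    | succ n ih =>
      intro a
      have hδn : g • a - a ∈ maximalIdeal O ^ n := ih a
      generalize hδ : g • a - a = δ at hδn
      have hga : g • a = a + δ := by rw [← hδ]; ring
      have hj : ∀ j : ℕ, g ^ j • a - a - ((j : ℕ) : O) * δ ∈ maximalIdeal O ^ (n + 1) := by
        intro j
        induction j with
        | zero => simp
        | succ j ihj =>
          have e : g ^ (j + 1) • a - a - ((j + 1 : ℕ) : O) * δ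
              = ((j : ℕ) : O) * (g • δ - δ) + g • (g ^ j • a - a - ((j : ℕ) : O) * δ) := by
            rw [pow_succ', mul_smul, smul_sub, smul_sub, smul_mul', hgnat, hga]
            push_cast
            ring
          rw [e]
          exact Ideal.add_mem _ (Ideal.mul_mem_left _ _ (L n δ hδn)) (Lpres (n + 1) _ ihj)
      have hN' := hj (orderOf g)
      rw [pow_orderOf_eq_one, one_smul, sub_self, zero_sub, neg_mem_iff] at hN'
      obtain ⟨v, hv⟩ := hNunit.exists_left_inv
      have e2 : δ = v * (((orderOf g : ℕ) : O) * δ) := by rw [← mul_assoc, hv, one_mul]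
      rw [e2]; exact Ideal.mul_mem_left _ _ hN'
  apply FaithfulSMul.eq_of_smul_eq_smul (α := O)
  intro a
  rw [one_smul]
  have h1 : g • a - a ∈ (⨅ n, maximalIdeal O ^ n) := by
    rw [Submodule.mem_iInf]
    exact fun n => C n a
  rw [Ideal.iInf_pow_eq_bot_of_isLocalRing _ Ideal.IsPrime.ne_top', Ideal.mem_bot] at h1
  exact sub_eq_zero.mp h1

end

/-- Ring-level form: let O be a discrete valuation ring and G a finite group acting faithfully on O by
ring automorphisms, such that every element of G acts trivially on the residue field of O (that is,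
g • a - a lies in the maximal ideal for all a) and such that the order of G is nonzero in the
residue field of O. Then G is cyclic. (The source states this for a finite group of order invertible
in an algebraically closed field k acting faithfully on a smooth connected k-variety and the
subgroup of elements fixing pointwise a codimension-one irreducible component of the ramification
locus, applied to the local ring at the generic point of that component; it is stated here for an
arbitrary discrete valuation ring with a faithful action. The source also shows that this subgroup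
is nontrivial; that geometric part is not stated.) -/
theorem result
    (O : Type u) [CommRing O] [IsDomain O] [IsDiscreteValuationRing O]
    (G : Type v) [Group G] [Finite G] [MulSemiringAction G O] [FaithfulSMul G O]
    (htriv : ∀ (g : G) (a : O), g • a - a ∈ IsLocalRing.maximalIdeal O)
    (hcard : ((Nat.card G : ℕ) : IsLocalRing.ResidueField O) ≠ 0) :
    IsCyclic G := by
  exact main O G htriv hcard

end Groth.Agent.S19856
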