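-- Statement S9729.
import Groth.Statements.S9729
import Mathlib
import Groth.Agent.Lib.Helper1.SecSch

set_option autoImplicit false
universe u
open FlatMor

namespace Groth.Agent.S9729

open AlgebraicGeometry CategoryTheory Limits in
/-- Let f : X ⟶ Y and g : Y ⟶ S be morphisms with g smooth. If f ≫ g is a local complete intersection
morphism (Koszul at every point of X) then f is a local complete intersection morphism. -/
theorem result {X Y S : Scheme.{u}} (f : X ⟶ Y) (g : Y ⟶ S) [Smooth g]
    (h : ∀ x : X, Synt.IsKoszulAt (f ≫ g) x) (x : X) : Synt.IsKoszulAt f x := by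
  -- the graph of `f`
  let γ : X ⟶ pullback (f ≫ g) g := pullback.lift (𝟙 X) f (Category.id_comp (f ≫ g))
  have hγ₁ : γ ≫ pullback.fst (f ≫ g) g = 𝟙 X := pullback.lift_fst _ _ _
  have hγ₂ : γ ≫ pullback.snd (f ≫ g) g = f := pullback.lift_snd _ _ _
  have hreg : RegImm.IsRegularImmersion .koszul γ :=
    Groth.Agent.Lib.Helper1.SecSch.isRegularImmersion_of_section (pullback.fst (f ≫ g) g) γ hγ₁
  haveI := hreg.1
  -- `γ` is Koszul at `x`
  have hKγ : Synt.IsKoszulAt γ x := by
    refine ⟨⊤, pullback (f ≫ g) g, (⊤ : X.Opens).ι ≫ γ, 𝟙 _, trivial, inferInstance, ?_,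
      inferInstance, Category.comp_id _⟩
    haveI : IsIso (⊤ : X.Opens).ι := inferInstanceAs (IsIso X.topIso.hom)
    exact Groth.Agent.Lib.Helper1.LciComp.isRegularImmersion_comp _ _ hreg
      (Groth.Agent.Lib.Helper1.RegMore.isRegularImmersion_of_isIso (⊤ : X.Opens).ι)
  -- the projection is Koszul everywhere by flat base change
  have hsq : IsPullback (pullback.fst (f ≫ g) g) (pullback.snd (f ≫ g) g) (f ≫ g) g :=
    IsPullback.of_hasPullback _ _
  have hKpr : Synt.IsKoszulAt (pullback.snd (f ≫ g) g) (γ x) :=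
    Groth.Agent.Lib.Helper1.RegBC.isKoszulAt_baseChange_flat hsq (γ x) (h _)
  have := Groth.Agent.Lib.Helper1.LciComp.isKoszulAt_comp γ (pullback.snd (f ≫ g) g) x hKγ hKpr
  rwa [hγ₂] at this

end Groth.Agent.S9729
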