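import Groth.Statements.S19863
import Groth.Agent.Lib.Helper26.RegularCompletion

set_option autoImplicit false
universe u
open EGA4

namespace Groth.Agent.S19863

open Groth.Agent.Lib.Helper26.RegularCompletion

/-- Let A be a Noetherian ring, J a proper ideal of A, Â the J-adic completion and A_T the localization
of A at T = 1 + J. If the canonical map A → Â is a regular homomorphism (flat, with Noetherian
geometrically regular fibres), then A_T is a regular ring if and only if Â is a regular ring
(Noetherian, with regular local rings at all primes). (The cases of the henselization of the pair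
and of the weak completion are not stated here.) -/
theorem result
    (A : Type u) [CommRing A] [IsNoetherianRing A] (J : Ideal A) (hJ : J ≠ ⊤)
    (hf : CAlg.IsRegularHom A (AdicCompletion J A))
    (T : Submonoid A) (hT : T = MonoidHom.mker (Ideal.Quotient.mk J)) :
    IsRegularRing (Localization T) ↔ IsRegularRing (AdicCompletion J A) := by
  have fg : J.FG := Ideal.fg_of_isNoetherianRing J
  haveI hN : IsNoetherianRing (AdicCompletion J A) := Groth.Agent.S0542.result A J fg
  have hTmem : ∀ x : A, x ∈ T ↔ x - 1 ∈ J := by
    intro x
    rw [hT, MonoidHom.mem_mker]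
    rw [← Ideal.Quotient.eq]
    simp
  -- maximal ideals containing `J` are disjoint from `T`
  have hdisj_of : ∀ (m : Ideal A), m ≠ ⊤ → J ≤ m → Disjoint (T : Set A) (m : Set A) := by
    intro m hm hJm
    rw [Set.disjoint_left]
    intro x hxT hxm
    apply hm
    rw [Ideal.eq_top_iff_one]
    have h1 : x - 1 ∈ m := hJm ((hTmem x).mp hxT)
    have : (1 : A) = x - (x - 1) := by ring
    rw [this]
    exact m.sub_mem hxm h1
  constructor
  · intro hreg
    apply isRegularRing_of_maximal
    intro n hn
    obtain ⟨hmmax, hJm, hmap⟩ := adicCompletion_maximal A J fg n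
    haveI := hmmax
    haveI : n.LiesOver (n.comap (algebraMap A (AdicCompletion J A))) := ⟨rfl⟩
    haveI : IsRegularLocalRing (Localization.AtPrime (n.comap (algebraMap A (AdicCompletion J A)))) :=
      Groth.Agent.Lib.Helper26.RegularSmooth.isRegularLocalRing_atPrime_of_isLocalization T
        (Localization T) _ (hdisj_of _ hmmax.ne_top hJm) (fun Q _ => inferInstance)
    exact isRegularLocalRing_atPrime_of_flat_of_map_eq A (AdicCompletion J A) _ n hmap
  · intro hreg
    haveI : IsNoetherianRing (Localization T) := IsLocalization.isNoetherianRing T _ inferInstance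
    apply isRegularRing_of_maximal
    intro N hN'
    set p := N.comap (algebraMap A (Localization T)) with hp
    have hpdisj : Disjoint (T : Set A) (p : Set A) :=
      ((IsLocalization.isPrime_iff_isPrime_disjoint T (Localization T) N).mp inferInstance).2
    have hpJ : p ⊔ J ≠ ⊤ := by
      intro htop
      obtain ⟨x, hx, j, hj, hxj⟩ := Submodule.mem_sup.mp ((Ideal.eq_top_iff_one _).mp htop)
      have hxT : x ∈ T := by
        rw [hTmem]
        have : x - 1 = -j := by rw [← hxj]; ring
        rw [this]
        exact J.neg_mem hj
      exact Set.disjoint_left.mp hpdisj hxT hx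
    obtain ⟨m, hm, hpm⟩ := Ideal.exists_le_maximal _ hpJ
    have hJm : J ≤ m := le_sup_right.trans hpm
    have hmdisj := hdisj_of m hm.ne_top hJm
    haveI : (m.map (algebraMap A (Localization T))).IsPrime :=
      IsLocalization.isPrime_of_isPrime_disjoint T _ m hm.isPrime hmdisj
    have hNm : N = m.map (algebraMap A (Localization T)) := by
      apply hN'.eq_of_le (Ideal.IsPrime.ne_top inferInstance)
      rw [← IsLocalization.map_comap T (Localization T) N]
      exact Ideal.map_mono (le_sup_left.trans hpm)
    have hpm' : p = m := by
      rw [hp, hNm]
      exact IsLocalization.comap_map_of_isPrime_disjoint T _ hm.isPrime hmdisj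
    haveI hpmax : p.IsMaximal := hpm' ▸ hm
    have hJp : J ≤ p := hpm' ▸ hJm
    haveI hqmax := AdicCompletion.isMaximal_map_of_le J p hJp fg
    haveI : (p.map (algebraMap A (AdicCompletion J A))).LiesOver p := by
      constructor
      exact (hpmax.eq_of_le (Ideal.comap_ne_top _ hqmax.ne_top) Ideal.le_comap_map)
    haveI : IsRegularLocalRing (Localization.AtPrime p) :=
      Groth.Agent.Lib.Helper26.RegularRing.isRegularLocalRing_atPrime_of_flat A
        (AdicCompletion J A) p (p.map (algebraMap A (AdicCompletion J A)))
    haveI h1 : IsLocalization.AtPrime (Localization.AtPrime N) p :=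
      IsLocalization.isLocalization_isLocalization_atPrime_isLocalization T _ N
    exact IsRegularLocalRing.of_ringEquiv (R := Localization.AtPrime p)
      (IsLocalization.algEquiv p.primeCompl (Localization.AtPrime p)
        (Localization.AtPrime N)).toRingEquiv

end Groth.Agent.S19863
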