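import Groth.Statements.S19864
import Mathlib
import Groth.Agent.Lib.Helper14.RegHomAdic
import Groth.Agent.S2038

set_option autoImplicit false
universe u
open CAlg

namespace Groth.Agent.S19864

/-- Let A and B be Noetherian rings and B an A-algebra. Then A → B is a regular homomorphism (flat with
Noetherian, geometrically regular fibres) if and only if for every prime q of B lying over the prime
p of A the induced local homomorphism A_p → B_q is formally smooth for the adic topologies of the
maximal ideals (equivalently, for the adic topology of the maximal ideal of B_q). -/
theorem result (A B : Type u)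
    [CommRing A] [CommRing B] [Algebra A B] [IsNoetherianRing A] [IsNoetherianRing B] :
    CAlg.IsRegularHom A B ↔
      ∀ (q : Ideal B) [q.IsPrime],
        letI := (Localization.localRingHom (Ideal.comap (algebraMap A B) q) q (algebraMap A B) rfl).toAlgebra
        CAlgX.IsAdicFormallySmooth (Localization.AtPrime (Ideal.comap (algebraMap A B) q))
          (Localization.AtPrime q) (IsLocalRing.maximalIdeal (Localization.AtPrime q)) := by
  constructor
  · intro h q hq
    have h1 := Groth.Agent.Lib.Helper14.RegularHomLocal.isRegularHom_local A B h q
    letI := (Localization.localRingHom (Ideal.comap (algebraMap A B) q) q (algebraMap A B) rfl).toAlgebra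
    haveI : IsLocalHom (algebraMap (Localization.AtPrime (Ideal.comap (algebraMap A B) q))
        (Localization.AtPrime q)) :=
      Localization.isLocalHom_localRingHom _ _ _ _
    exact (Groth.Agent.S2038.result).mp ⟨h1.1, (h1.2 (IsLocalRing.maximalIdeal _)).2⟩
  · intro h
    have key : ∀ (q : Ideal B) [q.IsPrime],
        letI := (Localization.localRingHom (Ideal.comap (algebraMap A B) q) q (algebraMap A B) rfl).toAlgebra
        Module.Flat (Localization.AtPrime (Ideal.comap (algebraMap A B) q)) (Localization.AtPrime q) ∧
        CAlg.IsGeometricallyRegular
          (IsLocalRing.maximalIdeal (Localization.AtPrime (Ideal.comap (algebraMap A B) q))).ResidueField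
          ((IsLocalRing.maximalIdeal (Localization.AtPrime (Ideal.comap (algebraMap A B) q))).Fiber
            (Localization.AtPrime q)) := by
      intro q hq
      letI := (Localization.localRingHom (Ideal.comap (algebraMap A B) q) q (algebraMap A B) rfl).toAlgebra
      haveI : IsLocalHom (algebraMap (Localization.AtPrime (Ideal.comap (algebraMap A B) q))
          (Localization.AtPrime q)) :=
        Localization.isLocalHom_localRingHom _ _ _ _
      exact (Groth.Agent.S2038.result).mpr (h q)
    have hflat : Module.Flat A B := by
      apply Module.flat_of_isLocalized_maximal B B (fun P _ => Localization.AtPrime P)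
        (fun P _ => Algebra.linearMap B (Localization.AtPrime P))
      intro P hP
      haveI : P.LiesOver (Ideal.comap (algebraMap A B) P) := ⟨rfl⟩
      letI := Localization.AtPrime.algebraOfLiesOver (Ideal.comap (algebraMap A B) P) P
      haveI : Module.Flat (Localization.AtPrime (Ideal.comap (algebraMap A B) P))
          (Localization.AtPrime P) := (key P).1
      exact Module.Flat.trans A (Localization.AtPrime (Ideal.comap (algebraMap A B) P))
        (Localization.AtPrime P)
    refine ⟨hflat, ?_⟩
    intro p hp
    haveI hN : IsNoetherianRing (p.Fiber B) :=
      Groth.Agent.Lib.Helper14.GeomReduced.isNoetherianRing_fiber A B p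
    refine ⟨hN, ?_⟩
    intro K _ _ hfin
    haveI : IsNoetherianRing (TensorProduct p.ResidueField K (p.Fiber B)) :=
      Groth.Agent.Lib.Helper14.GeomRegularSep.isNoetherianRing_tensor_finite p.ResidueField K _
    have key2 := Groth.Agent.Lib.Helper14.RegHomAdic.fibre_local_to_global_primes A B
      (fun X _ => IsRegularLocalRing X)
      (fun X Y _ _ e h => by
        haveI := h
        exact IsRegularLocalRing.of_ringEquiv e) p K
    rw [isRegularRing_iff]
    refine key2 ?_
    intro n hn hnp
    subst hnp
    haveI : n.LiesOver (Ideal.comap (algebraMap A B) n) := ⟨rfl⟩
    letI := Localization.AtPrime.algebraOfLiesOver (Ideal.comap (algebraMap A B) n) n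
    haveI := Groth.Agent.Lib.Helper14.RegHomAdic.isRegularRing_fiber_of_closedFibre A
      (Ideal.comap (algebraMap A B) n) (Localization.AtPrime n) K (key n).2
    intro 𝔮 h𝔮
    exact IsRegularRing.isRegularLocalRing_localization 𝔮

end Groth.Agent.S19864
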