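import Groth.Statements.S19866

set_option autoImplicit false
set_option backward.isDefEq.respectTransparency false
set_option backward.isDefEq.respectTransparency.types false
universe v₁ v₂ v₃ u₁ u₂ u₃
open CategoryTheory
open FibCat

namespace Groth.Agent.S19866

open Opposite

section eq

variable {C : Type*} [Category C] {D : Type*} [Category D]

/-- a morphism which is an `eqToHom` -/
def IsEq {X Y : C} (f : X ⟶ Y) : Prop := ∃ h : X = Y, f = eqToHom h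

theorem IsEq.eq {X Y : C} {f g : X ⟶ Y} (hf : IsEq f) (hg : IsEq g) : f = g := by
  obtain ⟨h, rfl⟩ := hf
  obtain ⟨h', rfl⟩ := hg
  rfl

theorem isEq_eqToHom {X Y : C} (h : X = Y) : IsEq (eqToHom h) := ⟨h, rfl⟩

theorem isEq_id (X : C) : IsEq (𝟙 X) := ⟨rfl, rfl⟩

theorem IsEq.comp {X Y Z : C} {f : X ⟶ Y} {g : Y ⟶ Z} (hf : IsEq f) (hg : IsEq g) :
    IsEq (f ≫ g) := by
  obtain ⟨h, rfl⟩ := hf
  obtain ⟨h', rfl⟩ := hg
  exact ⟨h.trans h', eqToHom_trans _ _⟩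

theorem IsEq.map (F : C ⥤ D) {X Y : C} {f : X ⟶ Y} (hf : IsEq f) : IsEq (F.map f) := by
  obtain ⟨h, rfl⟩ := hf
  exact ⟨congrArg F.obj h, eqToHom_map F h⟩

end eq

section transport

variable {𝒮 : Type u₁} [Category.{v₁} 𝒮] {𝒳 : Type u₂} [Category.{v₂} 𝒳]
  {𝒴 : Type u₃} [Category.{v₃} 𝒴]

theorem isHomLift_comp_iff (Φ : 𝒳 ⥤ 𝒴) (q : 𝒴 ⥤ 𝒮) {R S : 𝒮} {a b : 𝒳} (f : R ⟶ S)
    (φ : a ⟶ b) : (Φ ⋙ q).IsHomLift f φ ↔ q.IsHomLift f (Φ.map φ) := by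
  constructor
  · intro h
    exact IsHomLift.of_fac q f (Φ.map φ) (IsHomLift.domain_eq (Φ ⋙ q) f φ)
      (IsHomLift.codomain_eq (Φ ⋙ q) f φ) (IsHomLift.fac (Φ ⋙ q) f φ)
  · intro h
    exact IsHomLift.of_fac (Φ ⋙ q) f φ (IsHomLift.domain_eq q f (Φ.map φ))
      (IsHomLift.codomain_eq q f (Φ.map φ)) (IsHomLift.fac q f (Φ.map φ))

theorem isCartesian_comp_of_map (Φ : 𝒳 ⥤ 𝒴) [Φ.Full] [Φ.Faithful] (q : 𝒴 ⥤ 𝒮)
    {R S : 𝒮} {a b : 𝒳} (f : R ⟶ S) (φ : b ⟶ a) (h : q.IsCartesian f (Φ.map φ)) :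
    (Φ ⋙ q).IsCartesian f φ := by
  have := h
  have : (Φ ⋙ q).IsHomLift f φ := (isHomLift_comp_iff Φ q f φ).2 inferInstance
  refine { universal_property := ?_ }
  intro a' φ' hφ'
  have : q.IsHomLift f (Φ.map φ') := (isHomLift_comp_iff Φ q f φ').1 hφ'
  refine ⟨Φ.preimage (Functor.IsCartesian.map q f (Φ.map φ) (Φ.map φ')), ⟨?_, ?_⟩, ?_⟩
  · rw [isHomLift_comp_iff, Functor.map_preimage]
    infer_instance
  · apply Φ.map_injective
    rw [Functor.map_comp, Functor.map_preimage, Functor.IsCartesian.fac]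
  · rintro χ ⟨hχ₁, hχ₂⟩
    apply Φ.map_injective
    rw [Functor.map_preimage]
    have : q.IsHomLift (𝟙 R) (Φ.map χ) := (isHomLift_comp_iff Φ q _ χ).1 hχ₁
    exact Functor.IsCartesian.map_uniq q f (Φ.map φ) (Φ.map φ') (Φ.map χ)
      (by rw [← Functor.map_comp, hχ₂])

theorem isCartesian_eqToHom_comp {p : 𝒳 ⥤ 𝒮} {R S : 𝒮} {a b b' : 𝒳} (f : R ⟶ S) (φ : b ⟶ a)
    [hc : p.IsCartesian f φ] (h : b' = b) : p.IsCartesian f (eqToHom h ≫ φ) := by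
  subst h
  simpa using hc

/-- the cleavage transported along a strict isomorphism of categories -/
noncomputable def transportCleavage (q : 𝒴 ⥤ 𝒮) (L : Cleavage q) (Φ : 𝒳 ⥤ 𝒴) (Ψ : 𝒴 ⥤ 𝒳)
    (h₁ : Φ ⋙ Ψ = 𝟭 𝒳) (h₂ : Ψ ⋙ Φ = 𝟭 𝒴) : Cleavage (Φ ⋙ q) where
  obj {_ _ a} ha f := Ψ.obj (L.obj (a := Φ.obj a) ha f)
  lift {_ _ a} ha f := Ψ.map (L.lift (a := Φ.obj a) ha f) ≫ eqToHom (Functor.congr_obj h₁ a)
  isCartesian {R S a} ha f := by
    let e : 𝒳 ≌ 𝒴 := CategoryTheory.Equivalence.mk Φ Ψ (eqToIso h₁.symm) (eqToIso h₂)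
    have : Φ.IsEquivalence := e.isEquivalence_functor
    apply isCartesian_comp_of_map
    have hΦ : Φ.map (Ψ.map (L.lift (a := Φ.obj a) ha f) ≫ eqToHom (Functor.congr_obj h₁ a)) =
        eqToHom (Functor.congr_obj h₂ _) ≫ L.lift (a := Φ.obj a) ha f := by
      rw [Functor.map_comp, eqToHom_map]
      have := Functor.congr_hom h₂ (L.lift (a := Φ.obj a) ha f)
      simp only [Functor.comp_map, Functor.id_map] at this
      rw [this]
      simp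
    rw [hΦ]
    exact isCartesian_eqToHom_comp f _ _

theorem comp_aux {q : 𝒴 ⥤ 𝒮} (L : Cleavage q) (Ψ : 𝒴 ⥤ 𝒳) {S T U : 𝒮} (f : T ⟶ S) (g : U ⟶ T)
    {c : 𝒴} (hc : q.obj c = S)
    (hL : ∃ h : L.obj (L.obj_proj hc f) g = L.obj hc (g ≫ f),
      L.lift (L.obj_proj hc f) g ≫ L.lift hc f = eqToHom h ≫ L.lift hc (g ≫ f))
    {b' : 𝒴} (e : b' = L.obj hc f) (hb' : q.obj b' = T) {a : 𝒳} (ea : Ψ.obj c = a)
    (eb : Ψ.obj b' = Ψ.obj (L.obj hc f)) :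
    ∃ h : Ψ.obj (L.obj hb' g) = Ψ.obj (L.obj hc (g ≫ f)),
      (Ψ.map (L.lift hb' g) ≫ eqToHom eb) ≫ (Ψ.map (L.lift hc f) ≫ eqToHom ea) =
        eqToHom h ≫ (Ψ.map (L.lift hc (g ≫ f)) ≫ eqToHom ea) := by
  subst e
  obtain ⟨h, hl⟩ := hL
  refine ⟨congrArg Ψ.obj h, ?_⟩
  simp only [eqToHom_refl, Category.comp_id]
  rw [← Functor.map_comp_assoc, hl, Functor.map_comp, eqToHom_map, Category.assoc]

theorem transport_isSplitting (q : 𝒴 ⥤ 𝒮) (L : Cleavage q) (Φ : 𝒳 ⥤ 𝒴) (Ψ : 𝒴 ⥤ 𝒳)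
    (h₁ : Φ ⋙ Ψ = 𝟭 𝒳) (h₂ : Ψ ⋙ Φ = 𝟭 𝒴) (hL : L.IsSplitting) :
    (transportCleavage q L Φ Ψ h₁ h₂).IsSplitting := by
  refine ⟨?_, ?_⟩
  · intro S a ha
    obtain ⟨h₀, hl⟩ := hL.1 (show q.obj (Φ.obj a) = S from ha)
    refine ⟨(congrArg Ψ.obj h₀).trans (Functor.congr_obj h₁ a), ?_⟩
    show Ψ.map (L.lift (a := Φ.obj a) ha (𝟙 S)) ≫ eqToHom _ = _
    rw [hl, eqToHom_map, eqToHom_trans]
  · intro S T U f g a ha
    exact comp_aux L Ψ f g (c := Φ.obj a) ha (hL.2 f g (show q.obj (Φ.obj a) = S from ha))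
      (Functor.congr_obj h₂ _) _ (Functor.congr_obj h₁ a) (Functor.congr_obj h₁ _)

end transport

section strict

variable {𝒮 : Type u₁} [Category.{v₁} 𝒮] (F : 𝒮ᵒᵖ ⥤ Cat.{v₂, u₂})

/-- the category of pairs -/
abbrev CoG : Type _ := Pseudofunctor.CoGrothendieck F.toPseudofunctor'

theorem isEq_mapId_inv (X : LocallyDiscrete 𝒮ᵒᵖ) (x : F.toPseudofunctor'.obj X) :
    IsEq ((F.toPseudofunctor'.mapId X).inv.toNatTrans.app x) := by
  rw [Functor.toPseudofunctor'_mapId, eqToIso.inv, Cat.eqToHom_app]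
  exact isEq_eqToHom _

theorem isEq_mapComp_inv {X Y Z : LocallyDiscrete 𝒮ᵒᵖ} (f : X ⟶ Y) (g : Y ⟶ Z)
    (x : F.toPseudofunctor'.obj X) :
    IsEq ((F.toPseudofunctor'.mapComp f g).inv.toNatTrans.app x) := by
  rw [Functor.toPseudofunctor'_mapComp, eqToIso.inv, Cat.eqToHom_app]
  exact isEq_eqToHom _

theorem isEq_fiber_eqToHom {a b : CoG F} (h : a = b) : IsEq (eqToHom h).fiber := by
  subst h
  exact isEq_mapId_inv F ⟨op a.base⟩ a.fiber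

theorem base_eqToHom_mk {U : 𝒮} {x y : F.toPseudofunctor'.obj ⟨op U⟩} (e : x = y) :
    (eqToHom (congrArg (fun t => (⟨U, t⟩ : CoG F)) e)).base = 𝟙 U := by
  subst e
  rfl

theorem isEq_comp_fiber {a b c : CoG F} (φ : a ⟶ b) (ψ : b ⟶ c) (h1 : IsEq φ.fiber)
    (h2 : IsEq ψ.fiber) : IsEq (φ ≫ ψ).fiber := by
  show IsEq (φ.fiber ≫ (F.toPseudofunctor'.map φ.base.op.toLoc).toFunctor.map ψ.fiber ≫
    (F.toPseudofunctor'.mapComp ψ.base.op.toLoc φ.base.op.toLoc).inv.toNatTrans.app c.fiber)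
  exact h1.comp ((h2.map _).comp (isEq_mapComp_inv F _ _ _))

/-- the chosen inverse image -/
abbrev Lobj (a : CoG F) {R : 𝒮} (k : R ⟶ a.base) : CoG F :=
  ⟨R, (F.toPseudofunctor'.map k.op.toLoc).toFunctor.obj a.fiber⟩

/-- the chosen lift -/
abbrev Llift (a : CoG F) {R : 𝒮} (k : R ⟶ a.base) : Lobj F a k ⟶ a := ⟨k, 𝟙 _⟩

theorem isEq_Llift_fiber (a : CoG F) {R : 𝒮} (k : R ⟶ a.base) : IsEq (Llift F a k).fiber :=
  isEq_id _

theorem split_aux (a : CoG F) {T U : 𝒮} (k : T ⟶ a.base) (l : U ⟶ T) (m : U ⟶ a.base)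
    (hm : m = l ≫ k) :
    ∃ h : Lobj F (Lobj F a k) l = Lobj F a m,
      Llift F (Lobj F a k) l ≫ Llift F a k = eqToHom h ≫ Llift F a m := by
  subst hm
  have e : (F.toPseudofunctor'.map l.op.toLoc).toFunctor.obj
      ((F.toPseudofunctor'.map k.op.toLoc).toFunctor.obj a.fiber) =
      (F.toPseudofunctor'.map (l ≫ k).op.toLoc).toFunctor.obj a.fiber := by
    show (F.map l.op).toFunctor.obj ((F.map k.op).toFunctor.obj a.fiber) =
      (F.map (l ≫ k).op).toFunctor.obj a.fiber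
    rw [op_comp, F.map_comp]
    rfl
  have h : Lobj F (Lobj F a k) l = Lobj F a (l ≫ k) :=
    congrArg (fun t => (⟨U, t⟩ : CoG F)) e
  have hb : (eqToHom h).base = 𝟙 U := base_eqToHom_mk F e
  refine ⟨h, ?_⟩
  refine Pseudofunctor.CoGrothendieck.Hom.ext _ _ ?_ ?_
  · show l ≫ k = (eqToHom h).base ≫ (l ≫ k)
    rw [hb, Category.id_comp]
  · exact IsEq.eq (isEq_comp_fiber F _ _ (isEq_Llift_fiber F _ _) (isEq_Llift_fiber F _ _))
      ((isEq_comp_fiber F _ _ (isEq_fiber_eqToHom F h) (isEq_Llift_fiber F _ _)).comp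
        (isEq_eqToHom _))

theorem norm_aux (a : CoG F) (k : a.base ⟶ a.base) (hk : k = 𝟙 a.base) :
    ∃ h : Lobj F a k = a, Llift F a k = eqToHom h := by
  subst hk
  obtain ⟨b, x⟩ := a
  have e : (F.toPseudofunctor'.map (𝟙 b).op.toLoc).toFunctor.obj x = x := by
    show (F.map (𝟙 b).op).toFunctor.obj x = x
    rw [op_id, F.map_id]
    rfl
  have h : Lobj F ⟨b, x⟩ (𝟙 b) = ⟨b, x⟩ := congrArg (fun t => (⟨b, t⟩ : CoG F)) e
  have hb : (eqToHom h).base = 𝟙 b := base_eqToHom_mk F e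
  refine ⟨h, ?_⟩
  refine Pseudofunctor.CoGrothendieck.Hom.ext _ _ ?_ ?_
  · show 𝟙 b = (eqToHom h).base
    rw [hb]
  · exact IsEq.eq (isEq_Llift_fiber F _ _) ((isEq_fiber_eqToHom F h).comp (isEq_eqToHom _))

theorem aux_comp {T S S' U : 𝒮} (f : T ⟶ S) (g : U ⟶ T) (e₁ : S = S') (e₂ : T = T) :
    (g ≫ f) ≫ eqToHom e₁ = (g ≫ eqToHom e₂) ≫ (f ≫ eqToHom e₁) := by
  simp

theorem ofCoGrothendieck_isSplitting :
    (Cleavage.ofCoGrothendieck F.toPseudofunctor').IsSplitting := by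
  refine ⟨?_, ?_⟩
  · intro S a ha
    subst ha
    exact norm_aux F a _ (by simp; rfl)
  · intro S T U f g a ha
    exact split_aux F a (f ≫ eqToHom ha.symm)
      (g ≫ eqToHom ((Cleavage.ofCoGrothendieck F.toPseudofunctor').obj_proj ha f).symm)
      ((g ≫ f) ≫ eqToHom ha.symm) (aux_comp f g ha.symm _)

end strict

/-- Let p : 𝒳 → 𝒮 be a functor, F : 𝒮ᵒᵖ → Cat a strict functor, and suppose 𝒳 is isomorphic over 𝒮 to
the category of pairs (U, x), x an object of F(U), built from F: there are functors Φ : 𝒳 → ∫F and Ψ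
: ∫F → 𝒳 inverse to each other on the nose with Φ followed by the projection equal to p. Then 𝒳 has
a cleavage over 𝒮 which is a splitting: the chosen transport morphism over each identity is the
identity, and the chosen transport morphism of g at f^* a followed by that of f at a is the chosen
transport morphism of g ≫ f at a. In particular the inverse-image functors of that cleavage satisfy
(fg)^* = g^* f^* on the nose, which is the published conclusion; no fibredness hypothesis is needed,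
𝒳 being fibred as a consequence. -/
theorem result {𝒮 : Type u₁} [Category.{v₁} 𝒮] {𝒳 : Type u₂} [Category.{v₂} 𝒳]
    (p : 𝒳 ⥤ 𝒮) (F : 𝒮ᵒᵖ ⥤ Cat.{v₂, u₂})
    (Φ : 𝒳 ⥤ Pseudofunctor.CoGrothendieck F.toPseudofunctor')
    (Ψ : Pseudofunctor.CoGrothendieck F.toPseudofunctor' ⥤ 𝒳)
    (h₁ : Φ ⋙ Ψ = 𝟭 𝒳) (h₂ : Ψ ⋙ Φ = 𝟭 _)
    (h₃ : Φ ⋙ Pseudofunctor.CoGrothendieck.forget F.toPseudofunctor' = p) :
    ∃ K : FibCat.Cleavage p, K.IsSplitting := by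
  subst h₃
  exact ⟨transportCleavage _ (Cleavage.ofCoGrothendieck F.toPseudofunctor') Φ Ψ h₁ h₂,
    transport_isSplitting _ _ Φ Ψ h₁ h₂ (ofCoGrothendieck_isSplitting F)⟩

end Groth.Agent.S19866
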