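import Mathlib
import Groth.Statements.S19868
import Groth.Agent.Lib.Helper29.JacobsonThm
import Groth.Agent.Lib.Helper29.Lie3Mat

set_option autoImplicit false
universe u v
open PLie

namespace Aux19868

open DualNumber
open Groth.Agent.Lib.Helper29
open Groth.Agent.Lib.Helper29.Lie3Mat

macro "ds" : tactic => `(tactic| ((try simp) <;> (try ring)))
macro "dt" : tactic => `(tactic| (apply TrivSqZeroExt.ext <;> (try simp) <;> (try ring)))
macro "mt" : tactic => `(tactic| (simp only [Matrix.mul_fin_three, smul_mat3]; exact mat3_ext (by dt) (by dt) (by dt) (by dt) (by dt) (by dt) (by dt) (by dt) (by dt)))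

section Mat

variable {K : Type u} [Field K]

local notation "E" => (DualNumber.eps : DualNumber K)

lemma Mx_sq (a b c d e f : K) :
    !![0, a • E, d • E; 0, b • E, e • E; 0, c • E, f • E] *
      !![0, a • E, d • E; 0, b • E, e • E; 0, c • E, f • E] = !![0, 0, 0; 0, 0, 0; 0, 0, 0] := by mt

lemma My_sq (a b c g h i : K) :
    !![-(a • E), 0, 1 + g • E; -(b • E), 0, h • E; -(c • E), 0, i • E] *
      !![-(a • E), 0, 1 + g • E; -(b • E), 0, h • E; -(c • E), 0, i • E] =
    !![-(c • E), 0, (i - a) • E; 0, 0, -(b • E); 0, 0, -(c • E)] := by mt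

lemma Y2_My (a b c g h i : K) :
    !![-(c • E), 0, (i - a) • E; 0, 0, -(b • E); 0, 0, -(c • E)] *
      !![-(a • E), 0, 1 + g • E; -(b • E), 0, h • E; -(c • E), 0, i • E] =
    !![0, 0, -(c • E); 0, 0, 0; 0, 0, 0] := by mt

lemma Y2_sq (a b c i : K) :
    !![-(c • E), 0, (i - a) • E; 0, 0, -(b • E); 0, 0, -(c • E)] *
      !![-(c • E), 0, (i - a) • E; 0, 0, -(b • E); 0, 0, -(c • E)] =
    !![0, 0, 0; 0, 0, 0; 0, 0, 0] := by mt

lemma smul_My3 (a b c g h i : K) :
    (-(c • E)) • !![-(a • E), 0, 1 + g • E; -(b • E), 0, h • E; -(c • E), 0, i • E] =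
    !![0, 0, -(c • E); 0, 0, 0; 0, 0, 0] := by mt

lemma smul_My2 (a g h i : K) :
    !![-((0 : K) • E), 0, (i - a) • E; 0, 0, -((0 : K) • E); 0, 0, -((0 : K) • E)] =
    ((i - a) • E) • !![-(a • E), 0, 1 + g • E; -((0 : K) • E), 0, h • E; -((0 : K) • E), 0, i • E] := by mt

lemma Mz_sq (d e f g h i : K) :
    !![-(d • E), -(1 + g • E), 0; -(e • E), -(h • E), 0; -(f • E), -(i • E), 0] *
      !![-(d • E), -(1 + g • E), 0; -(e • E), -(h • E), 0; -(f • E), -(i • E), 0] =
    !![e • E, (d + h) • E, 0; 0, e • E, 0; 0, f • E, 0] := by mt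

lemma Z2_Mz (d e f g h i : K) :
    !![e • E, (d + h) • E, 0; 0, e • E, 0; 0, f • E, 0] *
      !![-(d • E), -(1 + g • E), 0; -(e • E), -(h • E), 0; -(f • E), -(i • E), 0] =
    !![0, -(e • E), 0; 0, 0, 0; 0, 0, 0] := by mt

lemma Z2_sq (d e f h : K) :
    !![e • E, (d + h) • E, 0; 0, e • E, 0; 0, f • E, 0] *
      !![e • E, (d + h) • E, 0; 0, e • E, 0; 0, f • E, 0] =
    !![0, 0, 0; 0, 0, 0; 0, 0, 0] := by mt

lemma smul_Mz3 (d e f g h i : K) :
    (e • E) • !![-(d • E), -(1 + g • E), 0; -(e • E), -(h • E), 0; -(f • E), -(i • E), 0] =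
    !![0, -(e • E), 0; 0, 0, 0; 0, 0, 0] := by mt

lemma smul_Mz2 (d g h i : K) :
    !![(0 : K) • E, (d + h) • E, 0; 0, (0 : K) • E, 0; 0, (0 : K) • E, 0] =
    (-((d + h) • E)) • !![-(d • E), -(1 + g • E), 0; -((0 : K) • E), -(h • E), 0;
      -((0 : K) • E), -(i • E), 0] := by mt

lemma pow_x (a b c d e f : K) (p : ℕ) (hp : 2 ≤ p) :
    !![0, a • E, d • E; 0, b • E, e • E; 0, c • E, f • E] ^ p =
      (0 : DualNumber K) • !![0, a • E, d • E; 0, b • E, e • E; 0, c • E, f • E] := by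
  obtain ⟨q, rfl⟩ : ∃ q, p = 2 + q := ⟨p - 2, by omega⟩
  rw [pow_add, pow_two, Mx_sq, zero3, zero_mul, zero_smul]

lemma pow_y (a b c g h i : K) (p : ℕ) (hp : p.Prime) (hcond : p = 2 → b = 0 ∧ c = 0) :
    ∃ s : DualNumber K,
      !![-(a • E), 0, 1 + g • E; -(b • E), 0, h • E; -(c • E), 0, i • E] ^ p =
        s • !![-(a • E), 0, 1 + g • E; -(b • E), 0, h • E; -(c • E), 0, i • E] := by
  rcases prime_cases hp with h2 | h3 | h5
  · obtain ⟨hb, hc⟩ := hcond h2
    refine ⟨(i - a) • E, ?_⟩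
    rw [h2, pow_two, My_sq, hb, hc]
    exact smul_My2 a g h i
  · refine ⟨-(c • E), ?_⟩
    rw [h3, pow_succ, pow_two, My_sq, Y2_My, smul_My3]
  · refine ⟨0, ?_⟩
    obtain ⟨q, rfl⟩ : ∃ q, p = 4 + q := ⟨p - 4, by omega⟩
    rw [pow_add, show (4 : ℕ) = 2 * 2 from rfl, pow_mul, pow_two, pow_two, My_sq, Y2_sq, zero3,
      zero_mul, zero_smul]

lemma pow_z (d e f g h i : K) (p : ℕ) (hp : p.Prime) (hcond : p = 2 → e = 0 ∧ f = 0) :
    ∃ s : DualNumber K,
      !![-(d • E), -(1 + g • E), 0; -(e • E), -(h • E), 0; -(f • E), -(i • E), 0] ^ p =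
        s • !![-(d • E), -(1 + g • E), 0; -(e • E), -(h • E), 0; -(f • E), -(i • E), 0] := by
  rcases prime_cases hp with h2 | h3 | h5
  · obtain ⟨he, hf⟩ := hcond h2
    refine ⟨-((d + h) • E), ?_⟩
    rw [h2, pow_two, Mz_sq, he, hf]
    exact smul_Mz2 d g h i
  · refine ⟨e • E, ?_⟩
    rw [h3, pow_succ, pow_two, Mz_sq, Z2_Mz, smul_Mz3]
  · refine ⟨0, ?_⟩
    obtain ⟨q, rfl⟩ : ∃ q, p = 4 + q := ⟨p - 4, by omega⟩
    rw [pow_add, show (4 : ℕ) = 2 * 2 from rfl, pow_mul, pow_two, pow_two, Mz_sq, Z2_sq, zero3,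
      zero_mul, zero_smul]

lemma necessary_y (a b c d e f g h i : K) (u0 u1 u2 : DualNumber K)
    (H : !![-(c • E), 0, (i - a) • E; 0, 0, -(b • E); 0, 0, -(c • E)] =
      combM (a • E) (b • E) (c • E) (d • E) (e • E) (f • E) (1 + g • E) (h • E) (i • E) u0 u1 u2) :
    c = 0 ∧ b = 0 := by
  have h00 : -(c • E) = -(u1 * (a • E)) - u2 * (d • E) := congrFun (congrFun H 0) 0
  have h01 : (0 : DualNumber K) = u0 * (a • E) - u2 * (1 + g • E) := congrFun (congrFun H 0) 1
  have h02 : (i - a) • E = u0 * (d • E) + u1 * (1 + g • E) := congrFun (congrFun H 0) 2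
  have h11 : (0 : DualNumber K) = u0 * (b • E) - u2 * (h • E) := congrFun (congrFun H 1) 1
  have h12 : -(b • E) = u0 * (e • E) + u1 * (h • E) := congrFun (congrFun H 1) 2
  have k01 : (0 : K) = -u2.fst := fst_eq h01 (by ds) (by ds)
  have k02 : (0 : K) = u1.fst := fst_eq h02 (by ds) (by ds)
  have k00 : -c = -(u1.fst * a) - u2.fst * d := snd_eq h00 (by ds) (by ds)
  have k11 : (0 : K) = u0.fst * b - u2.fst * h := snd_eq h11 (by ds) (by ds)
  have k12 : -b = u0.fst * e + u1.fst * h := snd_eq h12 (by ds) (by ds)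
  have hu1 : u1.fst = 0 := k02.symm
  have hu2 : u2.fst = 0 := by linear_combination k01
  have hc : c = 0 := by linear_combination (-1 : K) * k00 + a * hu1 + d * hu2
  have hb2 : b * b = 0 := by
    linear_combination (-b) * k12 + e * k11 + (-(b * h)) * hu1 + (-(e * h)) * hu2
  exact ⟨hc, mul_self_eq_zero.mp hb2⟩

lemma necessary_z (a b c d e f g h i : K) (u0 u1 u2 : DualNumber K)
    (H : !![e • E, (d + h) • E, 0; 0, e • E, 0; 0, f • E, 0] =
      combM (a • E) (b • E) (c • E) (d • E) (e • E) (f • E) (1 + g • E) (h • E) (i • E) u0 u1 u2) :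
    e = 0 := by
  have h00 : e • E = -(u1 * (a • E)) - u2 * (d • E) := congrFun (congrFun H 0) 0
  have h01 : (d + h) • E = u0 * (a • E) - u2 * (1 + g • E) := congrFun (congrFun H 0) 1
  have h02 : (0 : DualNumber K) = u0 * (d • E) + u1 * (1 + g • E) := congrFun (congrFun H 0) 2
  have k01 : (0 : K) = -u2.fst := fst_eq h01 (by ds) (by ds)
  have k02 : (0 : K) = u1.fst := fst_eq h02 (by ds) (by ds)
  have k00 : e = -(u1.fst * a) - u2.fst * d := snd_eq h00 (by ds) (by ds)
  have hu1 : u1.fst = 0 := k02.symm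
  have hu2 : u2.fst = 0 := by linear_combination k01
  linear_combination k00 - a * hu1 - d * hu2

end Mat

open DualNumber in
theorem main (K : Type u) [Field K] (p : ℕ) [hp : Fact p.Prime] [CharP K p]
    [CharP (DualNumber K) p] (a b c d e f g h i : K)
    (L : Type v) [LieRing L] [LieAlgebra (DualNumber K) L] (bs : Module.Basis (Fin 3) (DualNumber K) L)
    (hxy : ⁅bs 0, bs 1⁆ = (a • ε : DualNumber K) • bs 0 + (b • ε : DualNumber K) • bs 1 + (c • ε : DualNumber K) • bs 2)
    (hxz : ⁅bs 0, bs 2⁆ = (d • ε : DualNumber K) • bs 0 + (e • ε : DualNumber K) • bs 1 + (f • ε : DualNumber K) • bs 2)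
    (hyz : ⁅bs 1, bs 2⁆ = (1 + g • ε : DualNumber K) • bs 0 + (h • ε : DualNumber K) • bs 1 + (i • ε : DualNumber K) • bs 2) :
    Nonempty (PLie.PMap (DualNumber K) p L) ↔ (p = 2 → b = 0 ∧ c = 0 ∧ e = 0) := by
  have hMx := adM_bs0 bs hxy hxz
  have hMy := adM_bs1 bs hxy hyz
  have hMz := adM_bs2 bs hxz hyz
  have hfb : b = -f := snd_eq (jacobi_scalar bs hxy hxz hyz).1 (by ds) (by ds)
  constructor
  · rintro ⟨φ⟩ h2
    have hy := (adM_pow_eq_iff bs (bs 1) (φ.toFun (bs 1)) p).1 (φ.ad_map (bs 1)).symm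
    have hz := (adM_pow_eq_iff bs (bs 2) (φ.toFun (bs 2)) p).1 (φ.ad_map (bs 2)).symm
    have ey : adM bs (bs 1) ^ p =
        !![-(c • ε), 0, (i - a) • ε; 0, 0, -(b • ε); 0, 0, -(c • ε)] := by
      rw [h2, pow_two, hMy, My_sq]
    have ez : adM bs (bs 2) ^ p =
        !![e • ε, (d + h) • ε, 0; 0, e • ε, 0; 0, f • ε, 0] := by
      rw [h2, pow_two, hMz, Mz_sq]
    rw [ey, adM_eq_comb bs hxy hxz hyz] at hy
    rw [ez, adM_eq_comb bs hxy hxz hyz] at hz
    obtain ⟨hc, hb⟩ := necessary_y a b c d e f g h i _ _ _ hy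
    exact ⟨hb, hc, necessary_z a b c d e f g h i _ _ _ hz⟩
  · intro hcond
    have hp' : p.Prime := hp.out
    have H : ∀ j : Fin 3, ∃ w : L, LieAlgebra.ad (DualNumber K) L (bs j) ^ p =
        LieAlgebra.ad (DualNumber K) L w := by
      intro j
      fin_cases j
      · refine ⟨(0 : DualNumber K) • bs 0, ?_⟩
        show LieAlgebra.ad (DualNumber K) L (bs 0) ^ p = _
        rw [adM_pow_eq_iff bs, adM_smul, hMx]
        exact pow_x a b c d e f p hp'.two_le
      · obtain ⟨s, hs⟩ := pow_y a b c g h i p hp' (fun h2 => ⟨(hcond h2).1, (hcond h2).2.1⟩)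
        refine ⟨s • bs 1, ?_⟩
        show LieAlgebra.ad (DualNumber K) L (bs 1) ^ p = _
        rw [adM_pow_eq_iff bs, adM_smul, hMy]
        exact hs
      · obtain ⟨s, hs⟩ := pow_z d e f g h i p hp' (fun h2 => by
          obtain ⟨hb, -, he⟩ := hcond h2
          refine ⟨he, ?_⟩
          rw [hb] at hfb
          linear_combination hfb)
        refine ⟨s • bs 2, ?_⟩
        show LieAlgebra.ad (DualNumber K) L (bs 2) ^ p = _
        rw [adM_pow_eq_iff bs, adM_smul, hMz]
        exact hs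
    choose y hy using H
    obtain ⟨φ, -⟩ := (JacobsonThm.existsUnique_pmap (DualNumber K) p bs y hy).exists
    exact ⟨φ⟩

end Aux19868

namespace Groth.Agent.S19868

open DualNumber in
/-- Let K be a field of prime characteristic p, K[ε] the ring of dual numbers (taken with its
characteristic-p structure) and a, …, i ∈ K. Let L be a Lie algebra over K[ε], free as a module with
basis x = bs 0, y = bs 1, z = bs 2 and brackets [x,y] = aε x + bε y + cε z, [x,z] = dε x + eε y + fε
z, [y,z] = (1 + gε) x + hε y + iε z, a first-order deformation of the Heisenberg algebra (the Jacobi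
identity forces b + f = 0). Then L carries a p-mapping over K[ε] if and only if b = c = e = 0 when p
= 2; for odd p there is no condition. (The published statement is about the singularity of the point
h_3 in the restrictable locus of the rank-one-centre stratum of the moduli scheme of based
three-dimensional Lie algebras over the prime field; this row states the restrictability criterion
for the first-order deformations of h_3 asserted in its proof, over any field of characteristic p in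
place of the prime field.) -/
theorem result (K : Type u) [Field K] (p : ℕ) [Fact p.Prime] [CharP K p]
    [CharP (DualNumber K) p] (a b c d e f g h i : K)
    (L : Type v) [LieRing L] [LieAlgebra (DualNumber K) L] (bs : Module.Basis (Fin 3) (DualNumber K) L)
    (hxy : ⁅bs 0, bs 1⁆ = (a • ε : DualNumber K) • bs 0 + (b • ε : DualNumber K) • bs 1 + (c • ε : DualNumber K) • bs 2)
    (hxz : ⁅bs 0, bs 2⁆ = (d • ε : DualNumber K) • bs 0 + (e • ε : DualNumber K) • bs 1 + (f • ε : DualNumber K) • bs 2)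
    (hyz : ⁅bs 1, bs 2⁆ = (1 + g • ε : DualNumber K) • bs 0 + (h • ε : DualNumber K) • bs 1 + (i • ε : DualNumber K) • bs 2) :
    Nonempty (PLie.PMap (DualNumber K) p L) ↔ (p = 2 → b = 0 ∧ c = 0 ∧ e = 0) := by
  exact Aux19868.main K p a b c d e f g h i L bs hxy hxz hyz

end Groth.Agent.S19868
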