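import Groth.Statements.S1987
import Mathlib

set_option autoImplicit false
universe u
open Polynomial
open EtAlg

namespace Groth.Agent.S1987

section abstractPart

variable {A : Type*} [CommRing A] [IsLocalRing A] {B : Type*} [CommRing B] [Algebra A B]

lemma decomp (x : B) (hgen : ∀ b : B, ∃ p : A[X], b = aeval x p) (b : B) :
    ∃ (a : A) (c : B), b = algebraMap A B a + x * c := by
  obtain ⟨p, rfl⟩ := hgen b
  refine ⟨p.coeff 0, aeval x p.divX, ?_⟩
  conv_lhs => rw [← Polynomial.divX_mul_X_add p]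
  rw [map_add, map_mul, aeval_X, aeval_C]
  ring

lemma span_max (π : A) (hπ : IsLocalRing.maximalIdeal A = Ideal.span {π}) (x : B) (n : ℕ)
    (hn : n ≠ 0) (hx : x ^ n = algebraMap A B π) (hgen : ∀ b : B, ∃ p : A[X], b = aeval x p)
    (hnu : ¬ IsUnit x) : (Ideal.span {x} : Ideal B).IsMaximal := by
  rw [Ideal.isMaximal_iff]
  refine ⟨fun h1 => hnu ?_, fun J b hJ hb hbJ => ?_⟩
  · rw [Ideal.mem_span_singleton'] at h1
    obtain ⟨a, ha⟩ := h1
    exact IsUnit.of_mul_eq_one a (by rw [mul_comm]; exact ha)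
  · obtain ⟨a, c, rfl⟩ := decomp x hgen b
    have hxJ : x ∈ J := hJ (Ideal.mem_span_singleton_self x)
    have ha : IsUnit a := by
      by_contra hna
      have hmem : a ∈ IsLocalRing.maximalIdeal A := (IsLocalRing.mem_maximalIdeal a).2 hna
      rw [hπ, Ideal.mem_span_singleton'] at hmem
      obtain ⟨a', rfl⟩ := hmem
      apply hb
      rw [map_mul, ← hx]
      obtain ⟨k, rfl⟩ := Nat.exists_eq_succ_of_ne_zero hn
      rw [pow_succ]
      exact Ideal.add_mem _
        (Ideal.mul_mem_left _ _ (Ideal.mul_mem_left _ _ (Ideal.mem_span_singleton_self x)))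
        (Ideal.mul_mem_right _ _ (Ideal.mem_span_singleton_self x))
    have h2 : algebraMap A B a ∈ J := by
      have := J.sub_mem hbJ (J.mul_mem_right c hxJ)
      simpa using this
    have h3 : IsUnit (algebraMap A B a) := ha.map _
    exact (J.eq_top_iff_one).1 (Ideal.eq_top_of_isUnit_mem J h2 h3)

lemma unique_max [Algebra.IsIntegral A B] (π : A)
    (hπ : IsLocalRing.maximalIdeal A = Ideal.span {π}) (x : B) (n : ℕ)
    (hx : x ^ n = algebraMap A B π) (hmax : (Ideal.span {x} : Ideal B).IsMaximal)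
    (M : Ideal B) (hM : M.IsMaximal) : M = Ideal.span {x} := by
  have h1 : (M.comap (algebraMap A B)).IsMaximal :=
    Ideal.isMaximal_comap_of_isIntegral_of_isMaximal M
  have h2 : M.comap (algebraMap A B) = IsLocalRing.maximalIdeal A := IsLocalRing.eq_maximalIdeal h1
  have h3 : π ∈ M.comap (algebraMap A B) := by
    rw [h2, hπ]; exact Ideal.mem_span_singleton_self π
  have h4 : x ^ n ∈ M := by rw [hx]; exact h3
  have h5 : x ∈ M := hM.isPrime.mem_of_pow_mem n h4
  exact (hmax.eq_of_le hM.ne_top ((Ideal.span_singleton_le_iff_mem _).2 h5)).symm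

theorem dvr [IsDomain B] [IsNoetherianRing B] [Algebra.IsIntegral A B] (π : A)
    (hπ : IsLocalRing.maximalIdeal A = Ideal.span {π}) (x : B) (n : ℕ)
    (hn : n ≠ 0) (hx : x ^ n = algebraMap A B π) (hgen : ∀ b : B, ∃ p : A[X], b = aeval x p)
    (hnu : ¬ IsUnit x) (hx0 : x ≠ 0) : IsDiscreteValuationRing B := by
  have hmax := span_max π hπ x n hn hx hgen hnu
  haveI : IsLocalRing B := IsLocalRing.of_unique_max_ideal
    ⟨Ideal.span {x}, hmax, fun M hM => unique_max π hπ x n hx hmax M hM⟩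
  have hnf : ¬ IsField B := fun hF => hnu (by
    obtain ⟨b, hb⟩ := hF.mul_inv_cancel hx0
    exact IsUnit.of_mul_eq_one b hb)
  refine ((IsDiscreteValuationRing.TFAE B hnf).out 0 4).2 ?_
  rw [← IsLocalRing.eq_maximalIdeal hmax]
  exact ⟨⟨x, rfl⟩⟩

end abstractPart

lemma val_lt_one_iff {K : Type*} [Field K] (V : ValuationSubring K) {y : K} (hy : y ≠ 0) :
    V.valuation y < 1 ↔ y⁻¹ ∉ V := by
  rw [← V.valuation_le_one_iff, map_inv₀, not_le]
  have h0 : V.valuation y ≠ 0 := (V.valuation.ne_zero_iff).2 hy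
  exact (one_lt_inv₀ (zero_lt_iff.2 h0)).symm

/-- the valuation subring of the fraction field attached to a valuation ring. -/
def V0 (B K₁ : Type*) [CommRing B] [IsDomain B] [ValuationRing B] [Field K₁] [Algebra B K₁]
    [IsFractionRing B K₁] : ValuationSubring K₁ :=
  { (algebraMap B K₁).range with
    mem_or_inv_mem' := fun y => by
      rcases ValuationRing.isInteger_or_isInteger B y with h | h
      · left; obtain ⟨b, hb⟩ := h; exact ⟨b, hb⟩
      · right; obtain ⟨b, hb⟩ := h; exact ⟨b, hb⟩ }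

theorem totRam {A : Type u} [CommRing A] [IsLocalRing A] {B : Type u} [CommRing B] [IsDomain B]
    [IsDiscreteValuationRing B] [Algebra A B]
    (π : A) (hπ : IsLocalRing.maximalIdeal A = Ideal.span {π}) (x : B) (n : ℕ) (hn : n ≠ 0)
    (hx : x ^ n = algebraMap A B π) (hgen : ∀ b : B, ∃ p : A[X], b = aeval x p)
    (hmB : IsLocalRing.maximalIdeal B = Ideal.span {x})
    (K₁ : Type u) [Field K₁] [Algebra B K₁] [IsFractionRing B K₁] :
    EtRam.IsTotallyRamified A ((algebraMap B K₁).comp (algebraMap A B)) := by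
  have hinj : Function.Injective (algebraMap B K₁) := IsFractionRing.injective B K₁
  have hstar : ∀ b : B, b ∈ IsLocalRing.maximalIdeal B → algebraMap B K₁ b ≠ 0 →
      (algebraMap B K₁ b)⁻¹ ∉ V0 B K₁ := by
    rintro b hb hb0 ⟨c, hc⟩
    have h2 : algebraMap B K₁ (b * c) = algebraMap B K₁ 1 := by
      rw [map_mul, hc, map_one, mul_inv_cancel₀ hb0]
    have h1 : b * c = 1 := hinj h2
    exact (IsLocalRing.mem_maximalIdeal b).1 hb (IsUnit.of_mul_eq_one c h1)
  have hmA : ∀ a ∈ IsLocalRing.maximalIdeal A,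
      algebraMap A B a ∈ IsLocalRing.maximalIdeal B := by
    intro a ha
    rw [hπ, Ideal.mem_span_singleton'] at ha
    obtain ⟨a', rfl⟩ := ha
    rw [hmB, map_mul, ← hx]
    obtain ⟨k, rfl⟩ := Nat.exists_eq_succ_of_ne_zero hn
    rw [pow_succ]
    exact Ideal.mul_mem_left _ _ (Ideal.mul_mem_left _ _ (Ideal.mem_span_singleton_self x))
  have hdom0 : EtRam.Dominates A ((algebraMap B K₁).comp (algebraMap A B)) (V0 B K₁) := by
    refine ⟨fun a => ⟨algebraMap A B a, rfl⟩, fun a ha => ?_⟩
    by_cases h0 : ((algebraMap B K₁).comp (algebraMap A B)) a = 0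
    · rw [h0, map_zero]; exact zero_lt_one
    · exact (val_lt_one_iff _ h0).2 (hstar _ (hmA a ha) h0)
  have hxvAll : ∀ V : ValuationSubring K₁,
      EtRam.Dominates A ((algebraMap B K₁).comp (algebraMap A B)) V →
      V.valuation (algebraMap B K₁ x) < 1 := by
    intro V hV
    have h1 : V.valuation (((algebraMap B K₁).comp (algebraMap A B)) π) < 1 :=
      hV.2 π (by rw [hπ]; exact Ideal.mem_span_singleton_self π)
    have h2 : ((algebraMap B K₁).comp (algebraMap A B)) π = (algebraMap B K₁ x) ^ n := by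
      rw [← map_pow, hx]; rfl
    rw [h2, map_pow] at h1
    exact (pow_lt_one_iff hn).1 h1
  have hleAll : ∀ V : ValuationSubring K₁,
      EtRam.Dominates A ((algebraMap B K₁).comp (algebraMap A B)) V →
      ∀ b : B, algebraMap B K₁ b ∈ V := by
    intro V hV b
    have hxV : algebraMap B K₁ x ∈ V := (V.valuation_le_one_iff _).1 (hxvAll V hV).le
    obtain ⟨p, rfl⟩ := hgen b
    rw [aeval_def, hom_eval₂, eval₂_eq_sum_range]
    exact sum_mem fun i _ => mul_mem (hV.1 _) (pow_mem hxV i)
  have huniq : ∀ V : ValuationSubring K₁,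
      EtRam.Dominates A ((algebraMap B K₁).comp (algebraMap A B)) V → V = V0 B K₁ := by
    intro V hV
    have hxv := hxvAll V hV
    have hle := hleAll V hV
    apply le_antisymm
    · intro y hy
      by_contra hy0
      have hyinv : y⁻¹ ∈ V0 B K₁ := ((V0 B K₁).mem_or_inv_mem y).resolve_left hy0
      obtain ⟨b, hb⟩ := hyinv
      have hyne : y ≠ 0 := fun h => hy0 (h ▸ (V0 B K₁).zero_mem)
      have hbnu : b ∈ IsLocalRing.maximalIdeal B := by
        rw [IsLocalRing.mem_maximalIdeal]
        intro hbu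
        obtain ⟨u, rfl⟩ := hbu
        apply hy0
        refine ⟨((u⁻¹ : Bˣ) : B), ?_⟩
        have h3 : algebraMap B K₁ ((u⁻¹ : Bˣ) : B) * algebraMap B K₁ (u : B) = 1 := by
          rw [← map_mul, Units.inv_mul, map_one]
        rw [hb] at h3
        exact (mul_inv_eq_one₀ hyne).1 h3
      rw [hmB, Ideal.mem_span_singleton'] at hbnu
      obtain ⟨c, rfl⟩ := hbnu
      have hlt : V.valuation y⁻¹ < 1 := by
        rw [← hb, map_mul, map_mul, mul_comm]
        exact mul_lt_one_of_nonneg_of_lt_one_left zero_le' hxv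
          ((V.valuation_le_one_iff _).2 (hle c))
      have h4 := (val_lt_one_iff V (inv_ne_zero hyne)).1 hlt
      rw [inv_inv] at h4
      exact h4 hy
    · intro y hy
      obtain ⟨b, rfl⟩ := hy
      exact hle b
  refine ⟨⟨V0 B K₁, hdom0⟩, fun V V' h h' => (huniq V h).trans (huniq V' h').symm,
    fun V hV z => ?_⟩
  obtain ⟨⟨y, hyV⟩, rfl⟩ := IsLocalRing.residue_surjective z
  have hy0 : y ∈ V0 B K₁ := huniq V hV ▸ hyV
  obtain ⟨b, rfl⟩ := hy0
  obtain ⟨a, c, rfl⟩ := decomp x hgen b
  refine ⟨a, ?_⟩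
  symm
  show IsLocalRing.residue V ⟨_, hyV⟩ = IsLocalRing.residue V
    (RingHom.codRestrict ((algebraMap B K₁).comp (algebraMap A B)) V hV.1 a)
  rw [← sub_eq_zero, ← map_sub, IsLocalRing.residue_eq_zero_iff,
    ValuationSubring.valuation_lt_one_iff]
  have h5 : ((⟨algebraMap B K₁ (algebraMap A B a + x * c), hyV⟩ -
      RingHom.codRestrict ((algebraMap B K₁).comp (algebraMap A B)) V hV.1 a : V) : K₁)
      = algebraMap B K₁ x * algebraMap B K₁ c := by
    simp [map_add, map_mul]
  rw [h5, map_mul]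
  exact mul_lt_one_of_nonneg_of_lt_one_left zero_le' (hxvAll V hV)
    ((V.valuation_le_one_iff _).2 (hleAll V hV c))

theorem main (A : Type u) [CommRing A] [IsDomain A] [IsDiscreteValuationRing A] (π : A)
    (hπ : Irreducible π) (n : ℕ) (hn : 2 ≤ n) (f : A[X]) (hf : f = X ^ n - C π) :
    Irreducible f ∧
    ∃ (_ : IsDomain (AdjoinRoot f)) (_ : IsDiscreteValuationRing (AdjoinRoot f)),
      IsIntegrallyClosed (AdjoinRoot f) ∧
      (IsLocalRing.maximalIdeal A).map (algebraMap A (AdjoinRoot f)) =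
        IsLocalRing.maximalIdeal (AdjoinRoot f) ^ n ∧
      ∀ (K₁ : Type u) [Field K₁] [Algebra (AdjoinRoot f) K₁] [IsFractionRing (AdjoinRoot f) K₁],
        EtRam.IsTotallyRamified A
          ((algebraMap (AdjoinRoot f) K₁).comp (algebraMap A (AdjoinRoot f))) := by
  have hn0 : n ≠ 0 := by omega
  have hmonic : f.Monic := hf ▸ monic_X_pow_sub_C π hn0
  have hdeg : f.degree = n := hf ▸ degree_X_pow_sub_C (by omega) π
  have hπA : IsLocalRing.maximalIdeal A = Ideal.span {π} := hπ.maximalIdeal_eq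
  have hirr : Irreducible f := by
    have hP : (Ideal.span {π} : Ideal A).IsPrime :=
      (Ideal.span_singleton_prime hπ.ne_zero).2 hπ.prime
    refine Polynomial.irreducible_of_eisenstein_criterion hP ?_ ?_ ?_ ?_ hmonic.isPrimitive
    · rw [hmonic.leadingCoeff]; exact (Ideal.ne_top_iff_one _).1 hP.ne_top
    · intro k hk
      rw [hdeg] at hk
      have hk' : k < n := by exact_mod_cast hk
      rw [hf, coeff_sub, coeff_X_pow, coeff_C, if_neg hk'.ne]
      split_ifs
      · rw [zero_sub]; exact neg_mem (Ideal.mem_span_singleton_self π)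
      · rw [sub_zero]; exact zero_mem _
    · rw [hdeg]; exact_mod_cast Nat.pos_of_ne_zero hn0
    · rw [hf, coeff_sub, coeff_X_pow, coeff_C, if_neg (Ne.symm hn0), if_pos rfl, zero_sub,
        Ideal.span_singleton_pow, Ideal.mem_span_singleton, dvd_neg]
      intro hdvd
      obtain ⟨c, hc⟩ := hdvd
      have h1 : π * 1 = π * (π * c) := by rw [mul_one]; rw [← mul_assoc, ← pow_two]; exact hc
      have h2 := mul_left_cancel₀ hπ.ne_zero h1
      exact hπ.not_isUnit (IsUnit.of_mul_eq_one c h2.symm)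
  have hdom : IsDomain (AdjoinRoot f) := AdjoinRoot.isDomain_of_prime hirr.prime
  haveI := hdom
  haveI : Module.Finite A (AdjoinRoot f) := hmonic.finite_adjoinRoot
  haveI : Algebra.IsIntegral A (AdjoinRoot f) := Algebra.IsIntegral.of_finite A _
  have hx : (AdjoinRoot.root f) ^ n = algebraMap A (AdjoinRoot f) π := by
    have h1 : AdjoinRoot.mk f (X ^ n - C π) = 0 := by rw [← hf]; exact AdjoinRoot.mk_self
    rw [map_sub, map_pow, AdjoinRoot.mk_X, AdjoinRoot.mk_C, sub_eq_zero] at h1
    rw [AdjoinRoot.algebraMap_eq]; exact h1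
  have hgen : ∀ b : AdjoinRoot f, ∃ p : A[X], b = aeval (AdjoinRoot.root f) p := by
    intro b
    obtain ⟨p, rfl⟩ := AdjoinRoot.mk_surjective b
    exact ⟨p, (AdjoinRoot.aeval_eq p).symm⟩
  have hnu : ¬ IsUnit (AdjoinRoot.root f) := by
    intro hu
    have hne : (Ideal.span {π} : Ideal A) ≠ ⊤ := by
      rw [Ne, Ideal.span_singleton_eq_top]; exact hπ.not_isUnit
    haveI : Nontrivial (A ⧸ (Ideal.span {π} : Ideal A)) := Ideal.Quotient.nontrivial_iff.2 hne
    let ε : AdjoinRoot f →+* A ⧸ (Ideal.span {π} : Ideal A) :=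
      AdjoinRoot.lift (Ideal.Quotient.mk _) 0 (by
        rw [hf, eval₂_sub, eval₂_pow, eval₂_X, eval₂_C, zero_pow hn0, zero_sub, neg_eq_zero]
        exact Ideal.Quotient.eq_zero_iff_mem.2 (Ideal.mem_span_singleton_self π))
    have h1 : IsUnit (ε (AdjoinRoot.root f)) := hu.map ε
    rw [AdjoinRoot.lift_root] at h1
    exact not_isUnit_zero h1
  have hinjof : Function.Injective (algebraMap A (AdjoinRoot f)) := by
    rw [AdjoinRoot.algebraMap_eq]
    exact AdjoinRoot.of.injective_of_degree_ne_zero (by rw [hdeg]; exact_mod_cast hn0)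
  have hx0 : AdjoinRoot.root f ≠ 0 := by
    intro h0
    rw [h0, zero_pow hn0] at hx
    exact hπ.ne_zero (hinjof (by rw [← hx, map_zero]))
  have hdvr : IsDiscreteValuationRing (AdjoinRoot f) :=
    dvr π hπA _ n hn0 hx hgen hnu hx0
  haveI := hdvr
  have hmax := span_max π hπA (AdjoinRoot.root f) n hn0 hx hgen hnu
  have hmB : IsLocalRing.maximalIdeal (AdjoinRoot f) = Ideal.span {AdjoinRoot.root f} :=
    (IsLocalRing.eq_maximalIdeal hmax).symm
  refine ⟨hirr, hdom, hdvr, inferInstance, ?_,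
    fun K₁ _ _ _ => totRam π hπA _ n hn0 hx hgen hmB K₁⟩
  rw [hπA, hmB, Ideal.map_span, Set.image_singleton, Ideal.span_singleton_pow, hx]

/-- Let A be a discrete valuation ring with uniformizer π and n ≥ 2, and let A' = A[x]/(x^n - π). Then
x^n - π is irreducible over A, A' is an integrally closed discrete valuation ring (so it is the
integral closure of A in its fraction field K₁ = K(π^{1/n}), of degree n over K), the maximal ideal
of A generates the n-th power of the maximal ideal of A' (ramification index n), and K₁ is totally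
ramified with respect to A. -/
theorem result (A : Type u) [CommRing A] [IsDomain A] [IsDiscreteValuationRing A] (π : A)
    (hπ : Irreducible π) (n : ℕ) (hn : 2 ≤ n) :
    Irreducible (X ^ n - C π : A[X]) ∧
    ∃ (_ : IsDomain (AdjoinRoot (X ^ n - C π : A[X]))) (_ : IsDiscreteValuationRing (AdjoinRoot (X ^ n - C π : A[X]))),
      IsIntegrallyClosed (AdjoinRoot (X ^ n - C π : A[X])) ∧
      (IsLocalRing.maximalIdeal A).map (algebraMap A (AdjoinRoot (X ^ n - C π : A[X]))) = IsLocalRing.maximalIdeal (AdjoinRoot (X ^ n - C π : A[X])) ^ n ∧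
      ∀ (K₁ : Type u) [Field K₁] [Algebra (AdjoinRoot (X ^ n - C π : A[X])) K₁] [IsFractionRing (AdjoinRoot (X ^ n - C π : A[X])) K₁],
        EtRam.IsTotallyRamified A ((algebraMap (AdjoinRoot (X ^ n - C π : A[X])) K₁).comp (algebraMap A (AdjoinRoot (X ^ n - C π : A[X])))) :=
  main A π hπ n hn _ rfl

end Groth.Agent.S1987
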