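import Groth.Statements.S19880
-- import your own Groth.Agent.* helpers here
import Groth.Agent.Lib.Helper23.RatDiv
import Groth.Agent.Lib.Helper23.FBC5
import Groth.Agent.Lib.Helper15.IrrStalk
import Groth.Agent.Lib.Helper26.RegularSch
import Groth.Agent.Lib.Helper26.RegularNormal
import Groth.Agent.Lib.Helper11.KPts2

set_option autoImplicit false
universe u
open CategoryTheory CategoryTheory.Limits AlgebraicGeometry
open JacVar

namespace Groth.Agent.S19880

/-- Let k be a separably closed field, C a smooth proper geometrically connected curve of genus g > 0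
over k with a k-rational point, and r > 2g an integer. Then for every effective divisor D of degree
r on C there is an (r − g)-tuple γ = (P_1, …, P_{r−g}) of k-rational points of C with h⁰(D − P_1 − ⋯
− P_{r−g}) = 1; since every invertible module L of degree r > 2g − 2 is of the form O(D) with D
effective, this is stated as: for every invertible module L of degree r on C there are k-rational
points P_1, …, P_{r−g} with h⁰(C, L ⊗ I_{P_1} ⊗ ⋯ ⊗ I_{P_{r−g}}) = 1. (In the source this is the
statement that the symmetric power C^(r) is the union of the open pieces C^γ.) -/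
theorem result (k : Type u) [Field k] [IsSepClosed k]
    (C : Scheme.{u}) [C.Over (Spec (CommRingCat.of k))]
    [IsProper (C ↘ Spec (CommRingCat.of k))] [Smooth (C ↘ Spec (CommRingCat.of k))] [GeometricallyConnected (C ↘ Spec (CommRingCat.of k))]
    (hdim : topologicalKrullDim ↥C = 1)
    (g : ℕ) (hg : Curv2.genus k C = g) (hg0 : 0 < g)
    (σ₀ : Spec (CommRingCat.of k) ⟶ C) (hσ₀ : σ₀ ≫ (C ↘ Spec (CommRingCat.of k)) = 𝟙 _)
    (r : ℕ) (hr : 2 * g < r)
    (L : C.Modules) (hL : PicF.IsInvertible L) (hLdeg : Curv2.deg k C L 1 = (r : ℤ)) :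
    ∃ σ : Fin (r - g) → (Spec (CommRingCat.of k) ⟶ C), (∀ t, σ t ≫ (C ↘ Spec (CommRingCat.of k)) = 𝟙 _) ∧
      Module.finrank k (Coh.HH C (CohB1.tensorMod L (FGA.tensorList (List.ofFn fun t : Fin (r - g) =>
        ClSub.idealMod (σ t).ker))) 0) = 1 := by
  classical
  open Groth.Agent.Lib.Helper23.Curve Groth.Agent.Lib.Helper23.T2 Groth.Agent.Lib.Helper3
    Groth.Agent.Lib.Helper3.InvMonoidal Groth.Agent.Lib.Helper7.CurvePair in
  haveI := isNoetherian_of_isProper k (X := C)
  have hregloc : ∀ x : C, IsRegularLocalRing (C.presheaf.stalk x) := fun x =>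
    Groth.Agent.Lib.Helper26.RegularSch.isRegularLocalRing_stalk_of_smooth_field k
      (C ↘ Spec (CommRingCat.of k)) x
  have hnorm : ∀ x : C, IsIntegrallyClosed (C.presheaf.stalk x) := fun x => by
    haveI := hregloc x
    exact Groth.Agent.Lib.Helper26.RegularNormal.isIntegrallyClosed_of_isRegularLocalRing _
  haveI : ConnectedSpace C :=
    GeometricallyConnected.connectedSpace_of_subsingleton (C ↘ Spec (CommRingCat.of k))
  haveI : IsIntegral C :=
    (Groth.Agent.Lib.Helper15.NT.isIntegral_iff_connected_and_isDomain_stalk C).2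
      ⟨inferInstance, fun x => by
        haveI := hregloc x
        exact Groth.Agent.Lib.Helper9.RegLocal.isDomain_of_isRegularLocalRing _⟩
  have h0 : Module.finrank k (Coh.HH C (Coh.structureModule C) 0) = 1 :=
    Groth.Agent.Lib.Helper7.PtDiv.finrank_H0_eq_one_of_section k σ₀ hσ₀
  have hd1 : topologicalKrullDim C ≤ 1 := hdim.le
  -- the set of rational points
  let S : Set C := {P | ∃ σ : Spec (CommRingCat.of k) ⟶ C,
    σ ≫ (C ↘ Spec (CommRingCat.of k)) = 𝟙 _ ∧ ∀ t, σ t = P}
  have hid : Spec.map (CommRingCat.ofHom (algebraMap k k)) = 𝟙 (Spec (CommRingCat.of k)) := by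
    rw [Algebra.algebraMap_self]
    exact Spec.map_id _
  have hS : ∀ U : C.Opens, (U : Set C).Nonempty → ∃ x ∈ S, x ∈ U := by
    intro U hU
    have hd := Groth.Agent.Lib.Helper11.KPts.dense_pts_of_smooth k k
      (C ↘ Spec (CommRingCat.of k))
    obtain ⟨x, ⟨p, hp1, hp2⟩, hxU⟩ := hd.exists_mem_open U.isOpen hU
    exact ⟨x, ⟨p, hp1.trans hid, hp2⟩, hxU⟩
  have hSc : ∀ x ∈ S, ∃ hx : IsClosed ({x} : Set C), IsIntegrallyClosed (C.presheaf.stalk x) ∧
      Module.finrank k (Coh.HH C
        (ClSub.quotMod (Scheme.IdealSheafData.vanishingIdeal ⟨{x}, hx⟩)) 0) = 1 := by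
    rintro x ⟨σ, hσ, hσx⟩
    obtain ⟨P, hP, hker, hσP⟩ := Groth.Agent.Lib.Helper23.RatDiv.section_point k C σ hσ
    obtain rfl : P = x := (hσP default).symm.trans (hσx default)
    refine ⟨hP, hnorm P, ?_⟩
    rw [← hker]
    exact Groth.Agent.Lib.Helper7.PtDiv.finrank_h0_quotMod_ker_of_section k σ hσ
  -- the chain
  have key : ∀ n : ℕ, n ≤ r - g → ∃ σ : Fin n → (Spec (CommRingCat.of k) ⟶ C),
      (∀ t, σ t ≫ (C ↘ Spec (CommRingCat.of k)) = 𝟙 _) ∧
      PicF.IsInvertible (FGA.tensorList (List.ofFn fun t : Fin n => ClSub.idealMod (σ t).ker)) ∧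
      Curv2.deg k C (CohB1.tensorMod L (FGA.tensorList (List.ofFn fun t : Fin n =>
        ClSub.idealMod (σ t).ker))) 1 = (r : ℤ) - n ∧
      Subsingleton (Coh.HH C (CohB1.tensorMod L (FGA.tensorList (List.ofFn fun t : Fin n =>
        ClSub.idealMod (σ t).ker))) 1) := by
    intro n
    induction n with
    | zero =>
      intro _
      refine ⟨fun t => t.elim0, fun t => t.elim0, ?_, ?_, ?_⟩
      · rw [List.ofFn_zero]
        exact InvGen.isInvertible_structureModule C
      · rw [List.ofFn_zero]
        have hinv : PicF.IsInvertible (CohB1.tensorMod L (FGA.tensorList ([] : List C.Modules))) :=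
          InvTensor.isInvertible_tensorMod hL (InvGen.isInvertible_structureModule C)
        have hd' := Groth.Agent.Lib.Helper23.Sat.deg_eq_of_iso k hd1 (SecTwist.unitorR L)
          (isFinLocFreeOfRank_one_of_isInvertible hinv)
        change Curv2.deg k C (CohB1.tensorMod L (Coh.structureModule C)) 1 = _
        rw [hd', hLdeg]
        simp
      · rw [List.ofFn_zero]
        have hv : Subsingleton (Coh.HH C L 1) :=
          h1_vanish_of_deg_ge' k hd1 h0 hL (by rw [hLdeg, hg]; push_cast; omega)
        exact (Groth.Agent.Lib.Helper23.FBC.HmapEquivK k (SecTwist.unitorR L) 1).toEquiv.subsingleton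
    | succ n ih =>
      intro hn
      obtain ⟨σ, hσ, hT, hdeg, h1⟩ := ih (by omega)
      set T := FGA.tensorList (List.ofFn fun t : Fin n => ClSub.idealMod (σ t).ker) with hTdef
      have hM : PicF.IsInvertible (CohB1.tensorMod L T) := InvTensor.isInvertible_tensorMod hL hT
      obtain ⟨x, ⟨τ, hτ, hτx⟩, hx, hI, hdI, h1I⟩ :=
        Groth.Agent.Lib.Helper23.RatDiv.step_h1 k C hdim h0 S hS hSc hM h1
          (by rw [hdeg, hg]; push_cast; omega)
      obtain ⟨P, hP, hker, hτP⟩ := Groth.Agent.Lib.Helper23.RatDiv.section_point k C τ hτ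
      obtain rfl : P = x := (hτP default).symm.trans (hτx default)
      have hIτ : PicF.IsInvertible (ClSub.idealMod τ.ker) := by
        rw [hker]
        exact (Groth.Agent.Lib.Helper23.PtDiv.isInvertible_and_deg_idealMod_point k C hdim P hP
          (hnorm P)).1
      have hlist : (List.ofFn fun t : Fin (n + 1) =>
          ClSub.idealMod ((Fin.cons τ σ : Fin (n + 1) → (Spec (CommRingCat.of k) ⟶ C)) t).ker) =
          ClSub.idealMod τ.ker :: List.ofFn fun t : Fin n => ClSub.idealMod (σ t).ker := by
        rw [List.ofFn_succ]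
        simp only [Fin.cons_zero, Fin.cons_succ]
      have hT' : FGA.tensorList (List.ofFn fun t : Fin (n + 1) =>
          ClSub.idealMod ((Fin.cons τ σ : Fin (n + 1) → (Spec (CommRingCat.of k) ⟶ C)) t).ker) =
          CohB1.tensorMod (ClSub.idealMod τ.ker) T := by
        rw [hlist]
        rfl
      let e : CohB1.tensorMod L (CohB1.tensorMod (ClSub.idealMod τ.ker) T) ≅
          CohB1.tensorMod (ClSub.idealMod τ.ker) (CohB1.tensorMod L T) :=
        (assoc L (ClSub.idealMod τ.ker) T).symm ≪≫
          tensorMapIso (braid L (ClSub.idealMod τ.ker)) (Iso.refl T) ≪≫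
          assoc (ClSub.idealMod τ.ker) L T
      refine ⟨Fin.cons τ σ, ?_, ?_, ?_, ?_⟩
      · intro t
        refine Fin.cases ?_ (fun i => ?_) t
        · simpa using hτ
        · simpa using hσ i
      · rw [hT']
        exact InvTensor.isInvertible_tensorMod hIτ hT
      · rw [hT']
        have hinv : PicF.IsInvertible (CohB1.tensorMod L (CohB1.tensorMod (ClSub.idealMod τ.ker) T)) :=
          InvTensor.isInvertible_tensorMod hL (InvTensor.isInvertible_tensorMod hIτ hT)
        rw [Groth.Agent.Lib.Helper23.Sat.deg_eq_of_iso k hd1 e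
          (isFinLocFreeOfRank_one_of_isInvertible hinv)]
        have hdI' := hdI
        rw [← hker] at hdI'
        rw [hdI', hdeg]
        push_cast
        ring
      · rw [hT']
        have h1I' := h1I
        rw [← hker] at h1I'
        exact (Groth.Agent.Lib.Helper23.FBC.HmapEquivK k e 1).toEquiv.subsingleton
  obtain ⟨σ, hσ, hT, hdeg, h1⟩ := key (r - g) le_rfl
  refine ⟨σ, hσ, ?_⟩
  have hN := InvTensor.isInvertible_tensorMod hL hT
  have hrr := riemann_roch k hd1 h0 hN
  have e1 : Module.finrank k (Coh.HH C (CohB1.tensorMod L (FGA.tensorList (List.ofFn fun t : Fin (r - g) =>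
        ClSub.idealMod (σ t).ker))) 1) = 0 := Module.finrank_zero_of_subsingleton
  rw [e1, hdeg, hg] at hrr
  have hrg : ((r - g : ℕ) : ℤ) = (r : ℤ) - g := by
    rw [Nat.cast_sub (by omega)]
  rw [hrg] at hrr
  push_cast at hrr
  have : (Module.finrank k (Coh.HH C (CohB1.tensorMod L (FGA.tensorList (List.ofFn fun t : Fin (r - g) =>
        ClSub.idealMod (σ t).ker))) 0) : ℤ) = 1 := by linarith
  exact_mod_cast this

end Groth.Agent.S19880
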