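import Groth.Statements.S19886
import Groth.Agent.Lib.Helper5.ASProperSep
import Groth.Agent.S0469

set_option autoImplicit false
universe u
open CategoryTheory CategoryTheory.Limits AlgebraicGeometry
open EtCoh

namespace Groth.Agent.S19886

/-- Let k be a separably closed field of characteristic p > 0 and X a scheme proper over k of dimension
d. Then the étale cohomology groups H^q(X_et, Z/p) with constant coefficients vanish for all q > d.
(The same vanishing for X separated of finite type over an algebraically closed field is a separate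
statement; here the field is only separably closed and X is proper.) -/
theorem result (k : Type u) [Field k] [IsSepClosed k]
    (p : ℕ) [Fact p.Prime] [CharP k p]
    (X : Scheme.{u}) (f : X ⟶ Spec (CommRingCat.of k)) [IsProper f]
    (d : ℕ) (hd : topologicalKrullDim X = d) (q : ℕ) (hq : d + 1 ≤ q) :
    Subsingleton (EtCoh.H X (EtCoh.const X (ZMod p)) q) := by
  let _ : X.Over (Spec (CommRingCat.of k)) := ⟨f⟩
  have hprop : IsProper (X ↘ Spec (CommRingCat.of k)) := ‹IsProper f›
  have h0 : (p : Γ(X, ⊤)) = 0 := Groth.Agent.Lib.Helper5.ASProper.natCast_eq_zero (k := k) p (X := X) f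
  have hqc : CompactSpace X := QuasiCompact.compactSpace_of_compactSpace f
  have hqs : QuasiSeparatedSpace X := quasiSeparatedSpace_of_quasiSeparated f
  have hsp : SpectralSpace X := {}
  have hsp' : SpectralSpace ↑X.toTopCat := hsp
  have hvan : ∀ m, d < m → Subsingleton (EtCoh.H X (EtCoh.Ga X) m) := by
    intro m hm
    have h1 : Subsingleton (Coh.HH X (Coh.structureModule X) m) :=
      Groth.Agent.S0469.result (X := X.toTopCat) d hd.le (Coh.toAb (Coh.structureModule X)) m hm
    exact (Groth.Agent.Lib.Helper5.GaCompare.gaIso X m).toEquiv.subsingleton_congr.1 h1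
  have hsurj : ∀ m, m + 1 = q → Function.Surjective (Groth.Agent.Lib.Helper5.ASFinite.asH X p h0 m) := by
    intro m hm
    exact (Groth.Agent.Lib.Helper5.ASProperSep.asH_surjective_finite_card (k := k) (X := X) p h0 m).1
  have hinj := Groth.Agent.Lib.Helper5.ASFinite.ι_injective X p h0 q hsurj
  have := Groth.Agent.Lib.Helper5.ASKernel.isIso_κ X p h0
  have h2 : Subsingleton (EtCoh.H X (kernel (Groth.Agent.Lib.Helper5.ASKernel.φ X p h0)) q) := by
    have := hvan q (by omega)
    exact hinj.subsingleton
  exact (Groth.Agent.Lib.Helper13.ExtAdj.extIsoRight _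
    (asIso (Groth.Agent.Lib.Helper5.ASKernel.κ X p h0)) q).symm.toEquiv.subsingleton_congr.1 h2

end Groth.Agent.S19886
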