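import Mathlib
import Groth.Statements.S19890


set_option autoImplicit false
universe u
open CAlg

namespace Aux

open Ideal

/-- In a flat extension, the extension of a colon ideal `(a : b)` is `(φ a : φ b)`. -/
lemma map_colon_eq {R R' : Type*} [CommRing R] [CommRing R'] [Algebra R R'] [Module.Flat R R']
    (a b : R) (p : Ideal R) (hp : ∀ r, r ∈ p ↔ a ∣ r * b) (x' : R')
    (hx : algebraMap R R' a ∣ x' * algebraMap R R' b) : x' ∈ Ideal.map (algebraMap R R') p := by
  obtain ⟨y', hy'⟩ := hx
  have hrel : ∑ i : Fin 2, (![b, -a] i) • (![x', y'] i) = 0 := by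
    simp only [Fin.sum_univ_two, Matrix.cons_val_zero, Matrix.cons_val_one]
    rw [Algebra.smul_def, Algebra.smul_def, map_neg, mul_comm, hy']
    ring
  obtain ⟨k, α, z, hz1, hz2⟩ := Module.Flat.isTrivialRelation_of_sum_smul_eq_zero (R := R) (M := R') (f := ![b, -a]) (x := ![x', y']) hrel
  have h0 := hz1 0
  simp only [Matrix.cons_val_zero] at h0
  rw [h0]
  refine Ideal.sum_mem _ fun j _ => ?_
  rw [Algebra.smul_def]
  refine Ideal.mul_mem_right _ _ (Ideal.mem_map_of_mem _ ?_)
  rw [hp]
  have h2 := hz2 j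
  simp only [Fin.sum_univ_two, Matrix.cons_val_zero, Matrix.cons_val_one] at h2
  refine ⟨α 1 j, ?_⟩
  linear_combination h2

end Aux

namespace Groth.Agent.S19890

/-- Let R → R' be a faithfully flat ring map between Noetherian integrally closed local domains. Then
unique factorization descends along this map: when R' is a UFD, so is R. (The first assertion of the
lemma, descent of principality for an ideal whose extension to R' is principal, is a separate
statement.) -/
theorem result
    (R R' : Type u) [CommRing R] [CommRing R'] [IsDomain R] [IsDomain R']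
    [IsNoetherianRing R] [IsNoetherianRing R'] [IsLocalRing R] [IsLocalRing R']
    [IsIntegrallyClosed R] [IsIntegrallyClosed R']
    [Algebra R R'] [Module.FaithfullyFlat R R'] [UniqueFactorizationMonoid R'] :
    UniqueFactorizationMonoid R := by
  classical
  rw [UniqueFactorizationMonoid.iff_exists_prime_mem_of_isPrime]
  intro P hP hPprime
  set φ := algebraMap R R' with hφ
  have hinj : Function.Injective φ := by
    rw [injective_iff_map_eq_zero]
    intro x hx
    have h0 := Ideal.comap_map_eq_self_of_faithfullyFlat (B := R') (⊥ : Ideal R)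
    have hx' : x ∈ ((⊥ : Ideal R).map (algebraMap R R')).comap (algebraMap R R') := by
      rw [Ideal.mem_comap, Ideal.map_bot, Ideal.mem_bot]; exact hx
    rw [h0] at hx'; simpa using hx'
  obtain ⟨a, haP, ha0⟩ := Submodule.exists_mem_ne_zero_of_ne_bot hP
  obtain ⟨p, hpmin, hpP⟩ := Ideal.exists_minimalPrimes_le
    (show Ideal.span {a} ≤ P from (Ideal.span_singleton_le_iff_mem _).mpr haP)
  have hpprime : p.IsPrime := hpmin.1.1
  have hap : a ∈ p := hpmin.1.2 (Ideal.mem_span_singleton_self a)
  obtain ⟨b, hb⟩ : ∃ b : R, ∀ r, r ∈ p ↔ a ∣ r * b := by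
    have h1 : (Ideal.span {a} : Submodule R R).colon {(1 : R)} = Ideal.span {a} := by
      ext r; rw [Submodule.mem_colon_singleton]; simp
    have h2 : p ∈ ((Ideal.span {a} : Submodule R R).colon {(1 : R)}).minimalPrimes := by
      rw [h1]; exact hpmin
    obtain ⟨b, hb⟩ := Submodule.exists_eq_colon_of_mem_minimalPrimes h2
    refine ⟨b, fun r => ?_⟩
    rw [hb, Submodule.mem_colon_singleton, smul_eq_mul, Ideal.mem_span_singleton]
  let _ : GCDMonoid R' := UniqueFactorizationMonoid.toGCDMonoid R'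
  obtain ⟨g, a₁, b₁, ha₁, hb₁, hu⟩ :
      ∃ g a₁ b₁, φ a = g * a₁ ∧ φ b = g * b₁ ∧ IsUnit (gcd a₁ b₁) := by
    obtain ⟨a₁, b₁, h1, h2, h3⟩ := extract_gcd (φ a) (φ b)
    exact ⟨_, a₁, b₁, h1, h2, h3⟩
  have hφa : φ a ≠ 0 := fun h => ha0 (hinj (by rw [h, map_zero]))
  have hg0 : g ≠ 0 := fun h => hφa (by rw [ha₁, h, zero_mul])
  have ha₁0 : a₁ ≠ 0 := fun h => hφa (by rw [ha₁, h, mul_zero])
  have hrel : IsRelPrime a₁ b₁ := gcd_isUnit_iff_isRelPrime.mp hu
  have hmap : Ideal.map φ p = Ideal.span {a₁} := by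
    apply le_antisymm
    · rw [Ideal.map_le_iff_le_comap]
      intro r hr
      rw [Ideal.mem_comap, Ideal.mem_span_singleton]
      obtain ⟨y, hy⟩ := (hb r).mp hr
      have h1 : φ a ∣ φ r * φ b := ⟨φ y, by rw [← map_mul, ← map_mul, hy]⟩
      rw [ha₁, hb₁] at h1
      have h2 : a₁ ∣ φ r * b₁ := by
        have h' : g * a₁ ∣ g * (φ r * b₁) := by
          convert h1 using 1; ring
        exact (mul_dvd_mul_iff_left hg0).mp h'
      exact hrel.dvd_of_dvd_mul_right h2
    · rw [Ideal.span_singleton_le_iff_mem]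
      apply Aux.map_colon_eq a b p hb a₁
      show φ a ∣ a₁ * φ b
      rw [ha₁, hb₁]; exact ⟨b₁, by ring⟩
  obtain ⟨s, hsp, hs⟩ : ∃ s ∈ p, Ideal.span {φ s} = Ideal.span {a₁} := by
    by_contra hcon
    push Not at hcon
    have hall : ∀ s ∈ p, φ s ∈ Ideal.span {a₁} * IsLocalRing.maximalIdeal R' := by
      intro s hs
      have h1 : φ s ∈ Ideal.span {a₁} := by rw [← hmap]; exact Ideal.mem_map_of_mem _ hs
      obtain ⟨t, ht⟩ := Ideal.mem_span_singleton.mp h1
      rw [Ideal.mem_span_singleton_mul]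
      refine ⟨t, ?_, ht.symm⟩
      by_contra htm
      have htu : IsUnit t := by
        rwa [IsLocalRing.mem_maximalIdeal, mem_nonunits_iff, not_not] at htm
      apply hcon s hs
      rw [ht]; exact Ideal.span_singleton_mul_right_unit htu a₁
    have hle : Ideal.span {a₁} ≤ Ideal.span {a₁} * IsLocalRing.maximalIdeal R' := by
      have hle' : Ideal.map φ p ≤ Ideal.span {a₁} * IsLocalRing.maximalIdeal R' :=
        Ideal.map_le_iff_le_comap.mpr (fun s hs => hall s hs)
      rwa [hmap] at hle'
    have hmem : a₁ ∈ Ideal.span {a₁} * IsLocalRing.maximalIdeal R' :=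
      hle (Ideal.mem_span_singleton_self a₁)
    obtain ⟨m, hm, hm'⟩ := Ideal.mem_span_singleton_mul.mp hmem
    have hm1 : m = 1 := by
      have : a₁ * m = a₁ * 1 := by rw [hm', mul_one]
      exact mul_left_cancel₀ ha₁0 this
    rw [hm1] at hm
    exact (Ideal.ne_top_iff_one _).mp (IsLocalRing.maximalIdeal.isMaximal R').ne_top hm
  have hps : p = Ideal.span {s} := by
    have h1 := Ideal.comap_map_eq_self_of_faithfullyFlat (B := R') p
    have h2 := Ideal.comap_map_eq_self_of_faithfullyFlat (B := R') (Ideal.span {s})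
    rw [← h1, ← h2, Ideal.map_span, Set.image_singleton]
    show Ideal.comap φ (Ideal.map φ p) = Ideal.comap φ (Ideal.span {φ s})
    rw [hmap, ← hs]
  have hs0 : s ≠ 0 := by
    rintro rfl
    rw [hps] at hap
    simp at hap
    exact ha0 hap
  refine ⟨s, hpP hsp, ?_⟩
  rw [← Ideal.span_singleton_prime hs0, ← hps]; exact hpprime

end Groth.Agent.S19890
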