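import Groth.Statements.S19891
import Mathlib
import Groth.Agent.Lib.Helper17.ValDense

set_option autoImplicit false
universe u
open CategoryTheory AlgebraicGeometry
open ValCrit

namespace Groth.Agent.S19891

/-- Let h : Z → Y and f : Y → X be morphisms of quasi-compact quasi-separated schemes, with h dominant.
Then f is separated if and only if the following refined uniqueness criterion holds: for every point
z of Z, every valuation ring R of the residue field κ(z) and every morphism φ : Spec R → X whose
restriction to Spec κ(z) is the canonical morphism Spec κ(z) → Z → Y → X, any two morphisms Spec R →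
Y lying over φ and restricting to Spec κ(z) → Z → Y on the generic point coincide. (The published
statement does not require h to be dominant; its proof uses that every point of Y generalises to a
point of h(Z), and for Z empty the criterion holds whatever f is, so dominance of h is assumed
here.) -/
theorem result {X Y Z : Scheme.{u}} (h : Z ⟶ Y) (f : Y ⟶ X)
    [CompactSpace ↥Z] [QuasiSeparatedSpace ↥Z] [CompactSpace ↥Y] [QuasiSeparatedSpace ↥Y]
    [CompactSpace ↥X] [QuasiSeparatedSpace ↥X] (hd : DenseRange h.base) :
    IsSeparated f ↔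
      ∀ (z : ↥Z) (R : ValuationSubring ↑(Z.residueField z)) (φ : Spec (CommRingCat.of ↥R) ⟶ X),
        Spec.map (CommRingCat.ofHom R.subtype) ≫ φ = Z.fromSpecResidueField z ≫ h ≫ f →
        ∀ φ₁ φ₂ : Spec (CommRingCat.of ↥R) ⟶ Y,
          Spec.map (CommRingCat.ofHom R.subtype) ≫ φ₁ = Z.fromSpecResidueField z ≫ h → φ₁ ≫ f = φ →
          Spec.map (CommRingCat.ofHom R.subtype) ≫ φ₂ = Z.fromSpecResidueField z ≫ h → φ₂ ≫ f = φ →
          φ₁ = φ₂ := by
  constructor
  · intro hsep z R φ hφ φ₁ φ₂ h1 h1' h2 h2'
    have hU := IsSeparated.valuativeCriterion f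
    let Sq : ValuativeCommSq f :=
      { R := R, K := Z.residueField z, i₁ := Z.fromSpecResidueField z ≫ h
        i₂ := φ
        commSq := ⟨by rw [Category.assoc, ← hφ]; rfl⟩ }
    have hS : Subsingleton Sq.commSq.LiftStruct := hU Sq
    let m₁ : Sq.commSq.LiftStruct := ⟨φ₁, h1, h1'⟩
    let m₂ : Sq.commSq.LiftStruct := ⟨φ₂, h2, h2'⟩
    exact congrArg CommSq.LiftStruct.l (Subsingleton.elim m₁ m₂)
  · intro H
    have hqs : QuasiSeparated f := inferInstance
    have hqc : QuasiCompact h := inferInstance
    have hΔ : ValuativeCriterion.Existence (Limits.pullback.diagonal f) := by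
      apply Groth.Agent.Lib.Helper17.ValDense.existence_of_points
      intro x₀
      obtain ⟨z, hz⟩ := Groth.Agent.Lib.Helper16.exists_specializes_of_mem_closure_range h x₀
        (by rw [hd.closure_range]; trivial)
      obtain ⟨p, hp⟩ : ∃ p : Spec (.of (Z.residueField z)) ⟶ Y, p = Z.fromSpecResidueField z ≫ h :=
        ⟨_, rfl⟩
      refine ⟨Z.residueField z, inferInstance, p, ?_, ?_, ?_⟩
      · have : p (IsLocalRing.closedPoint (Z.residueField z)) = h z := by
          obtain ⟨w, hw⟩ : ∃ w : Spec (Z.residueField z),
            w = IsLocalRing.closedPoint (Z.residueField z) := ⟨_, rfl⟩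
          rw [← hw, hp, Scheme.Hom.comp_apply, Scheme.fromSpecResidueField_apply]
        rw [this]
        exact hz
      · intro W y hy
        obtain ⟨a, ha⟩ : ∃ a : Spec (.of W) ⟶ Y, a = y ≫ Limits.pullback.fst f f := ⟨_, rfl⟩
        obtain ⟨b, hb⟩ : ∃ b : Spec (.of W) ⟶ Y, b = y ≫ Limits.pullback.snd f f := ⟨_, rfl⟩
        have ha1 : Spec.map (CommRingCat.ofHom W.subtype) ≫ a = p := by
          rw [ha, ← Category.assoc, ← hy, Category.assoc, Limits.pullback.diagonal_fst, Category.comp_id]
        have hb1 : Spec.map (CommRingCat.ofHom W.subtype) ≫ b = p := by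
          rw [hb, ← Category.assoc, ← hy, Category.assoc, Limits.pullback.diagonal_snd, Category.comp_id]
        have hab : b ≫ f = a ≫ f := by
          rw [ha, hb, Category.assoc, Category.assoc, Limits.pullback.condition]
        have eab : a = b := H z W (a ≫ f)
          (by rw [← Category.assoc, ha1, hp, Category.assoc]) a b (by rw [ha1, hp]) rfl
          (by rw [hb1, hp]) hab
        refine ⟨a, ?_, ha1⟩
        apply Limits.pullback.hom_ext
        · rw [Category.assoc, Limits.pullback.diagonal_fst, Category.comp_id, ha]
        · rw [Category.assoc, Limits.pullback.diagonal_snd, Category.comp_id, eab, hb]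
      · intro W l₁ l₂ h12 _ _
        calc l₁ = (l₁ ≫ Limits.pullback.diagonal f) ≫ Limits.pullback.fst f f := by
              rw [Category.assoc, Limits.pullback.diagonal_fst, Category.comp_id]
          _ = l₂ := by rw [h12, Category.assoc, Limits.pullback.diagonal_fst, Category.comp_id]
    have : UniversallyClosed (Limits.pullback.diagonal f) :=
      UniversallyClosed.of_valuativeCriterion _ hΔ
    exact ⟨IsClosedImmersion.of_isPreimmersion _ (Limits.pullback.diagonal f).isClosedMap.isClosed_range⟩

end Groth.Agent.S19891
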