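import Groth.Statements.S19892
import Mathlib
import Groth.Agent.Lib.Helper17.ValDense
import Groth.Agent.S19891

set_option autoImplicit false
universe u
open CategoryTheory AlgebraicGeometry
open ValCrit

namespace Groth.Agent.S19892

/-- Let h : Z → Y and f : Y → X be morphisms of quasi-compact quasi-separated schemes, with h dominant
and f locally of finite type. Then f is proper if and only if the following refined valuative
criterion holds: for every point z of Z, every valuation ring R of the residue field κ(z) and every
morphism φ : Spec R → X whose restriction to Spec κ(z) is the canonical morphism Spec κ(z) → Z → Y →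
X, there is exactly one morphism Spec R → Y lying over φ and restricting to Spec κ(z) → Z → Y on the
generic point. (The published statement does not require h to be dominant; its proof uses that every
point of Y generalises to a point of h(Z), and for Z empty the criterion holds whatever f is, so
dominance of h is assumed here.) -/
theorem result {X Y Z : Scheme.{u}} (h : Z ⟶ Y) (f : Y ⟶ X)
    [CompactSpace ↥Z] [QuasiSeparatedSpace ↥Z] [CompactSpace ↥Y] [QuasiSeparatedSpace ↥Y]
    [CompactSpace ↥X] [QuasiSeparatedSpace ↥X] (hd : DenseRange h.base)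
    [LocallyOfFiniteType f] :
    IsProper f ↔
      ∀ (z : ↥Z) (R : ValuationSubring ↑(Z.residueField z)) (φ : Spec (CommRingCat.of ↥R) ⟶ X),
        Spec.map (CommRingCat.ofHom R.subtype) ≫ φ = Z.fromSpecResidueField z ≫ h ≫ f →
        ∃! φ' : Spec (CommRingCat.of ↥R) ⟶ Y,
          Spec.map (CommRingCat.ofHom R.subtype) ≫ φ' = Z.fromSpecResidueField z ≫ h ∧ φ' ≫ f = φ := by
  constructor
  · intro hprop z R φ hφ
    have hE : ValuativeCriterion.Existence f := by
      have h1 : UniversallyClosed f := inferInstance
      rw [UniversallyClosed.eq_valuativeCriterion] at h1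
      exact h1.1
    have hU := IsSeparated.valuativeCriterion f
    let Sq : ValuativeCommSq f :=
      { R := R, K := Z.residueField z, i₁ := Z.fromSpecResidueField z ≫ h
        i₂ := φ
        commSq := ⟨by rw [Category.assoc, ← hφ]; rfl⟩ }
    obtain ⟨⟨l, h1, h2⟩⟩ := hE Sq
    refine ⟨l, ⟨h1, h2⟩, ?_⟩
    rintro l' ⟨h1', h2'⟩
    have hS : Subsingleton Sq.commSq.LiftStruct := hU Sq
    let m₁ : Sq.commSq.LiftStruct := ⟨l', h1', h2'⟩
    let m₂ : Sq.commSq.LiftStruct := ⟨l, h1, h2⟩
    exact congrArg CommSq.LiftStruct.l (Subsingleton.elim m₁ m₂)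
  · intro H
    have hqc : QuasiCompact h := inferInstance
    have hqcf : QuasiCompact f := inferInstance
    have hsep : IsSeparated f := by
      rw [Groth.Agent.S19891.result h f hd]
      intro z R φ hφ φ₁ φ₂ h1 h1' h2 h2'
      obtain ⟨l, -, hl⟩ := H z R φ hφ
      exact (hl φ₁ ⟨h1, h1'⟩).trans (hl φ₂ ⟨h2, h2'⟩).symm
    have hE : ValuativeCriterion.Existence f := by
      apply Groth.Agent.Lib.Helper17.ValDense.existence_of_points
      intro x₀
      obtain ⟨z, hz⟩ := Groth.Agent.Lib.Helper16.exists_specializes_of_mem_closure_range h x₀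
        (by rw [hd.closure_range]; trivial)
      obtain ⟨p, hp⟩ : ∃ p : Spec (.of (Z.residueField z)) ⟶ Y, p = Z.fromSpecResidueField z ≫ h :=
        ⟨_, rfl⟩
      refine ⟨Z.residueField z, inferInstance, p, ?_, ?_, ?_⟩
      · have : p (IsLocalRing.closedPoint (Z.residueField z)) = h z := by
          obtain ⟨w, hw⟩ : ∃ w : Spec (Z.residueField z),
            w = IsLocalRing.closedPoint (Z.residueField z) := ⟨_, rfl⟩
          rw [← hw, hp, Scheme.Hom.comp_apply, Scheme.fromSpecResidueField_apply]
        rw [this]
        exact hz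
      · intro W y hy
        obtain ⟨l, ⟨hl1, hl2⟩, -⟩ := H z W y (by rw [← hy, hp, Category.assoc])
        exact ⟨l, hl2, by rw [hp]; exact hl1⟩
      · intro W l₁ l₂ h12 h1 h2
        have hU := IsSeparated.valuativeCriterion f
        let Sq : ValuativeCommSq f :=
          { R := W, K := Z.residueField z, i₁ := p, i₂ := l₁ ≫ f
            commSq := ⟨by rw [← h1, Category.assoc]; rfl⟩ }
        have hS : Subsingleton Sq.commSq.LiftStruct := hU Sq
        let m₁ : Sq.commSq.LiftStruct := ⟨l₁, h1, rfl⟩
        let m₂ : Sq.commSq.LiftStruct := ⟨l₂, h2, h12.symm⟩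
        exact congrArg CommSq.LiftStruct.l (Subsingleton.elim m₁ m₂)
    have : UniversallyClosed f := UniversallyClosed.of_valuativeCriterion f hE
    exact {}

end Groth.Agent.S19892
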