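import Groth.Statements.S19895
import Mathlib
import Groth.Agent.Lib.Helper27.VerlindeCore

set_option autoImplicit false
open Complex
open VerlindeComb
open Groth.Agent.Lib.Helper27.Verlinde

namespace Groth.Agent.S19895

/-- Fix integers r ≥ 2 and k ≥ 1, and two partitions λ, λ' with k ≥ λ_1 ≥ ⋯ ≥ λ_{r-1} ≥ λ_r = 0 and k ≥
λ'_1 ≥ ⋯ ≥ λ'_{r-1} ≥ λ'_r = 0 such that λ is not equivalent to the dual partition λ'* = (k − λ'_r,
…, k − λ'_1), two integer vectors being equivalent when their difference is a constant vector (a, …,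
a). For an integer vector v with r + k > v_1 > ⋯ > v_{r-1} > v_r = 0 put z(v)_j = exp(2πi v_j / (r +
k)), let S_μ(v) = det(z(v)_j^{μ_i + r − i}) / det(z(v)_j^{r − i}) be the Schur value and P(v) =
∏_{i<j} (2 sin(π (v_i − v_j)/(r + k)))². Then the sum over all such v of exp(−2πi (|λ| + |λ'|) (v_1
+ ⋯ + v_r) / (r (r + k))) · S_λ(v) · S_{λ'}(v) · P(v) vanishes; that is, the genus-zero Verlinde
number of rank r, degree 0 and level k with two parabolic points of types λ, λ' is zero. (Only the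
vanishing case is stated; the complementary case, where the number equals 1, is not part of this
statement. The source allows r = 1, where the non-equivalence hypothesis cannot hold.) Indices are
0-based below: lam i stands for λ_{i+1}. -/
theorem result (r k : ℕ) (hr : 2 ≤ r)
    (hk : 1 ≤ k) (lam lam' : Fin r → ℕ) (hlam : Antitone lam) (hlamk : ∀ i, lam i ≤ k)
    (hlam0 : ∀ i : Fin r, (i : ℕ) = r - 1 → lam i = 0)
    (hlam' : Antitone lam') (hlam'k : ∀ i, lam' i ≤ k) (hlam'0 : ∀ i : Fin r, (i : ℕ) = r - 1 → lam' i = 0)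
    (hne : ¬ ∃ a : ℤ, ∀ i, (lam i : ℤ) - ((k - lam' (Fin.rev i) : ℕ) : ℤ) = a)
    (z : (Fin r → ℕ) → Fin r → ℂ)
    (hz : ∀ v j, z v j = Complex.exp (2 * Real.pi * Complex.I * (v j : ℂ) / ((r : ℂ) + k)))
    (S : (Fin r → ℕ) → (Fin r → ℕ) → ℂ)
    (hS : ∀ μ v, S μ v = (Matrix.of fun i j : Fin r => z v j ^ (μ i + (r - 1 - (i : ℕ)))).det /
        (Matrix.of fun i j : Fin r => z v j ^ (r - 1 - (i : ℕ))).det)
    (P : (Fin r → ℕ) → ℝ)
    (hP : ∀ v, P v = ∏ p ∈ (Finset.univ : Finset (Fin r × Fin r)).filter (fun p => p.1 < p.2),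
        ((2 : ℝ) * Real.sin (Real.pi * ((v p.1 : ℝ) - (v p.2 : ℝ)) / ((r : ℝ) + k))) ^ 2) :
    (∑ v ∈ (Finset.univ : Finset (Fin r → Fin (r + k))).filter
        (fun v : Fin r → Fin (r + k) => StrictAnti v ∧ ∀ i : Fin r, (i : ℕ) = r - 1 → (v i : ℕ) = 0),
      Complex.exp (-(2 * Real.pi * Complex.I * (((∑ i, lam i) + (∑ i, lam' i) : ℕ) : ℂ) *
          ((∑ j, (v j : ℕ) : ℕ) : ℂ) / ((r : ℂ) * ((r : ℂ) + k)))) *
        S lam (fun j => (v j : ℕ)) * S lam' (fun j => (v j : ℕ)) * (P (fun j => (v j : ℕ)) : ℂ)) = 0 := by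
  classical
  have hr1 : 1 ≤ r := by omega
  have hN0 : r + k ≠ 0 := by omega
  have hcast : ((r : ℂ) + k) = ((r + k : ℕ) : ℂ) := by push_cast; ring
  have hrne : (r : ℂ) ≠ 0 := by
    have : r ≠ 0 := by omega
    exact_mod_cast this
  have hNne : ((r + k : ℕ) : ℂ) ≠ 0 := by exact_mod_cast hN0
  set ζ : ℂ := th (1 / ((r + k : ℕ) : ℂ)) with hζ
  have hζexp : Complex.exp (2 * Real.pi * Complex.I / ((r + k : ℕ) : ℂ)) = ζ := by
    rw [hζ]; unfold th; congr 1; ring
  have hζne : ζ ≠ 0 := th_ne_zero _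
  have hζN : ζ ^ (r + k) = 1 := by
    rw [hζ, th_pow, mul_one_div_cancel hNne]
    have := th_int 1
    simpa using this
  -- exponent vectors
  set a : Fin r → ℕ := fun i => lam i + (r - 1 - (i : ℕ)) with ha
  set a' : Fin r → ℕ := fun i => lam' i + (r - 1 - (i : ℕ)) with ha'
  set b : Fin r → ℕ := fun i => (r + k - 1) - a' (Fin.rev i) with hb
  have haS : StrictAnti a := by
    intro i j hij
    have h1 := hlam (le_of_lt hij)
    have h2 := Fin.lt_def.mp hij
    have h3 := j.2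
    simp only [ha]
    omega
  have ha'S : StrictAnti a' := by
    intro i j hij
    have h1 := hlam' (le_of_lt hij)
    have h2 := Fin.lt_def.mp hij
    have h3 := j.2
    simp only [ha']
    omega
  have ha'le : ∀ i, a' i ≤ r + k - 1 := by
    intro i
    have := hlam'k i
    have := i.2
    simp only [ha']
    omega
  have hbS : StrictAnti b := by
    intro i j hij
    have h1 : Fin.rev j < Fin.rev i := Fin.rev_lt_rev.mpr hij
    have h2 := ha'S h1
    have h3 := ha'le (Fin.rev j)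
    simp only [hb]
    omega
  have haN : ∀ i, a i < r + k := by
    intro i
    have := hlamk i
    have := i.2
    simp only [ha]
    omega
  have hbN : ∀ i, b i < r + k := by
    intro i
    simp only [hb]
    omega
  have hne' : ¬ ∃ c : ℤ, ∀ i, (a i : ℤ) - (b i : ℤ) = c := by
    rintro ⟨c, hc⟩
    apply hne
    refine ⟨c, fun i => ?_⟩
    have h0 := hc i
    have h1 := hlam'k (Fin.rev i)
    have h2 := i.2
    simp only [ha, hb, ha', Fin.val_rev] at h0
    omega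
  -- the sums of exponents
  set dl : ℕ := ∑ i : Fin r, (r - 1 - (i : ℕ)) with hdl
  have h2dl : (dl : ℂ) * 2 = (r : ℂ) * ((r : ℂ) - 1) := by
    have := sum_delta_mul_two r
    rw [← hdl] at this
    have h3 : ((dl * 2 : ℕ) : ℂ) = ((r * (r - 1) : ℕ) : ℂ) := by rw [this]
    rw [Nat.cast_mul, Nat.cast_mul, Nat.cast_sub hr1] at h3
    simpa using h3
  set Lam : ℂ := ((∑ i, lam i : ℕ) : ℂ) with hLam
  set Lam' : ℂ := ((∑ i, lam' i : ℕ) : ℂ) with hLam'
  have hA : ((∑ i, a i : ℕ) : ℂ) = Lam + dl := by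
    simp only [ha, hLam, hdl]
    rw [Finset.sum_add_distrib]
    push_cast
    rfl
  have hB : ((∑ i, b i : ℕ) : ℂ) = (r : ℂ) * (((r + k : ℕ) : ℂ) - 1) - (Lam' + dl) := by
    have h1 : ∀ i : Fin r, ((b i : ℕ) : ℂ) = (((r + k : ℕ) : ℂ) - 1) - ((a' (Fin.rev i) : ℕ) : ℂ) := by
      intro i
      simp only [hb]
      rw [Nat.cast_sub (ha'le _), Nat.cast_sub (by omega)]
      simp
    rw [Nat.cast_sum, Finset.sum_congr rfl (fun i _ => h1 i), Finset.sum_sub_distrib,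
      Finset.sum_const, Finset.card_univ, Fintype.card_fin, nsmul_eq_mul]
    congr 1
    have h2 : ∑ i : Fin r, ((a' (Fin.rev i) : ℕ) : ℂ) = ∑ i : Fin r, ((a' i : ℕ) : ℂ) :=
      Equiv.sum_comp (Fin.revPerm : Equiv.Perm (Fin r)) (fun i => ((a' i : ℕ) : ℂ))
    rw [h2]
    simp only [ha', hLam', hdl]
    push_cast
    rw [Finset.sum_add_distrib]
  -- the twist
  set E₁ : ℂ := th (-(Lam + Lam') / ((r : ℂ) * ((r + k : ℕ) : ℂ))) with hE₁
  set c : ℂ := th (-(((∑ i, a i : ℕ) : ℂ) - ((∑ i, b i : ℕ) : ℂ)) /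
      ((r : ℂ) * ((r + k : ℕ) : ℂ))) with hc
  have hdl' : (dl : ℂ) = (r : ℂ) * ((r : ℂ) - 1) / 2 := by
    rw [eq_div_iff (two_ne_zero)]; exact h2dl
  have hexp : -(((∑ i, a i : ℕ) : ℂ) - ((∑ i, b i : ℕ) : ℂ)) / ((r : ℂ) * ((r + k : ℕ) : ℂ)) =
      (-(Lam + Lam') / ((r : ℂ) * ((r + k : ℕ) : ℂ)) + -(1 / ((r + k : ℕ) : ℂ)) +
        ((r - 1 : ℕ) : ℂ) * -(1 / ((r + k : ℕ) : ℂ))) + 1 := by
    rw [hA, hB, hdl', Nat.cast_sub hr1]
    field_simp
    ring
  have hcE : c = E₁ * ζ⁻¹ * (ζ⁻¹) ^ (r - 1) := by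
    rw [hc, hexp, th_add_one, th_add, th_add, hE₁, hζ, ← th_neg, th_pow]
  set x : Fin r → ℂ := fun j => ζ ^ a j with hx
  set y : Fin r → ℂ := fun j => (ζ⁻¹) ^ b j with hy
  have hterm : ∀ v ∈ alcove r (r + k),
      Complex.exp (-(2 * Real.pi * Complex.I * (((∑ i, lam i) + (∑ i, lam' i) : ℕ) : ℂ) *
          ((∑ j, (v j : ℕ) : ℕ) : ℂ) / ((r : ℂ) * ((r : ℂ) + k)))) *
        S lam (fun j => (v j : ℕ)) * S lam' (fun j => (v j : ℕ)) *
          (P (fun j => (v j : ℕ)) : ℂ) =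
      c ^ (∑ i, (v i : ℕ)) * (alt x (fun i => (v i : ℕ)) * alt y (fun i => (v i : ℕ))) := by
    intro v hv
    rw [mem_alcove] at hv
    set vn : Fin r → ℕ := fun j => (v j : ℕ) with hvn
    have hvnS : StrictAnti vn := strictAnti_val v hv.1
    have hzv : ∀ j, z vn j = ζ ^ vn j := by
      intro j
      rw [hz, hcast, ← hζexp]
      exact z_eq_zeta_pow _ _
    have hzv' : ∀ j, z vn j =
        Complex.exp (2 * Real.pi * Complex.I / ((r + k : ℕ) : ℂ)) ^ vn j := by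
      intro j; rw [hzv, hζexp]
    obtain ⟨hzN, hinj, hconj, hzne⟩ :=
      z_facts hN0 vn hvnS.injective (fun i => (v i).2) (z vn) hzv'
    have hzfun : z vn = fun j => ζ ^ vn j := funext hzv
    set D := alt (z vn) (fun i => r - 1 - (i : ℕ)) with hD
    have hDne : D ≠ 0 := alt_delta_ne_zero _ hinj
    have hS1 : S lam vn = alt (z vn) a / D := hS lam vn
    have hS2 : S lam' vn = alt (z vn) a' / D := hS lam' vn
    have hPc : ((P vn : ℝ) : ℂ) = D * (starRingEnd ℂ) D := by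
      rw [hP]
      exact P_cast_eq ((r : ℝ) + k) vn (z vn) (by intro j; rw [hz]; push_cast; rfl)
    have hcD : (starRingEnd ℂ) D = alt (fun j => (z vn j)⁻¹) (fun i => r - 1 - (i : ℕ)) := by
      rw [hD, alt_conj]
      congr 1
      funext j
      exact hconj j
    have hcDne : (starRingEnd ℂ) D ≠ 0 := by
      intro h
      exact hDne ((map_eq_zero _).mp h)
    have hDeq : D = (∏ j, z vn j) ^ (r - 1) *
        (((Equiv.Perm.sign (Fin.revPerm : Equiv.Perm (Fin r)) : ℤˣ) : ℂ) *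
          (starRingEnd ℂ) D) := by
      rw [hcD]
      exact alt_delta_eq_inv (z vn) hzne
    have hprod : ∏ j, z vn j = ζ ^ (∑ j, vn j) := by
      rw [← Finset.prod_pow_eq_pow_sum]
      exact Finset.prod_congr rfl fun j _ => hzv j
    have h1 : alt (z vn) a = alt x vn := by
      rw [hzfun, alt_transpose]
    have h2 : alt (z vn) a' = (ζ⁻¹) ^ (∑ j, vn j) *
        (((Equiv.Perm.sign (Fin.revPerm : Equiv.Perm (Fin r)) : ℤˣ) : ℂ) * alt y vn) := by
      rw [hzfun, alt_transpose, ← alt_perm_points, ← alt_smul]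
      congr 1
      funext j
      simp only [hy, Function.comp_apply, Fin.revPerm_apply, hb, Fin.rev_rev]
      have h3 := ha'le j
      have h4 : ζ ^ a' j * (ζ * ζ ^ (r + k - 1 - a' j)) = 1 := by
        rw [← pow_succ', ← pow_add, ← hζN]
        congr 1
        omega
      rw [inv_pow, ← mul_inv]
      exact eq_inv_of_mul_eq_one_left h4
    have hE : Complex.exp (-(2 * Real.pi * Complex.I * (((∑ i, lam i) + (∑ i, lam' i) : ℕ) : ℂ) *
          ((∑ j, (v j : ℕ) : ℕ) : ℂ) / ((r : ℂ) * ((r : ℂ) + k)))) = E₁ ^ (∑ j, vn j) := by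
      rw [hE₁, th_pow, hcast]
      unfold th
      congr 1
      rw [hLam, hLam']
      push_cast
      ring
    rw [hE, hS1, hS2, hPc, h1, h2, hcE, mul_pow, mul_pow]
    have hs := sign_sq_eq_one (Fin.revPerm : Equiv.Perm (Fin r))
    have hsne := sign_ne_zero (Fin.revPerm : Equiv.Perm (Fin r))
    set sg := ((Equiv.Perm.sign (Fin.revPerm : Equiv.Perm (Fin r)) : ℤˣ) : ℂ) with hsg
    set cD := (starRingEnd ℂ) D with hcDdef
    set m := ∑ j, vn j with hm
    have hDeq' : D = (ζ ^ m) ^ (r - 1) * (sg * cD) := by rw [← hprod]; exact hDeq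
    have hζm : ζ ^ m ≠ 0 := pow_ne_zero _ hζne
    have hinv : ((ζ⁻¹) ^ (r - 1)) ^ m * (ζ ^ m) ^ (r - 1) = 1 := by
      rw [← pow_mul, ← pow_mul, mul_comm (r - 1) m, ← mul_pow, inv_mul_cancel₀ hζne, one_pow]
    -- final algebra
    have key : alt x vn / D * ((ζ⁻¹) ^ m * (sg * alt y vn) / D) * (D * cD) =
        (ζ⁻¹) ^ m * ((ζ⁻¹) ^ (r - 1)) ^ m * (alt x vn * alt y vn) := by
      have e1 : alt x vn / D * ((ζ⁻¹) ^ m * (sg * alt y vn) / D) * (D * cD) =
          alt x vn * ((ζ⁻¹) ^ m * (sg * alt y vn)) * cD / D := by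
        field_simp
      rw [e1, div_eq_iff hDne]
      conv_rhs => rw [hDeq']
      have e2 : (ζ⁻¹) ^ m * ((ζ⁻¹) ^ (r - 1)) ^ m * (alt x vn * alt y vn) *
          ((ζ ^ m) ^ (r - 1) * (sg * cD)) =
          (((ζ⁻¹) ^ (r - 1)) ^ m * (ζ ^ m) ^ (r - 1)) *
            ((ζ⁻¹) ^ m * (alt x vn * alt y vn) * (sg * cD)) := by ring
      rw [e2, hinv]
      ring
    calc E₁ ^ m * (alt x vn / D) * ((ζ⁻¹) ^ m * (sg * alt y vn) / D) * (D * cD)
        = E₁ ^ m * (alt x vn / D * ((ζ⁻¹) ^ m * (sg * alt y vn) / D) * (D * cD)) := by ring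
      _ = _ := by rw [key]; ring
  have hsum : (∑ v ∈ (Finset.univ : Finset (Fin r → Fin (r + k))).filter
        (fun v : Fin r → Fin (r + k) => StrictAnti v ∧ ∀ i : Fin r, (i : ℕ) = r - 1 → (v i : ℕ) = 0),
      Complex.exp (-(2 * Real.pi * Complex.I * (((∑ i, lam i) + (∑ i, lam' i) : ℕ) : ℂ) *
          ((∑ j, (v j : ℕ) : ℕ) : ℂ) / ((r : ℂ) * ((r : ℂ) + k)))) *
        S lam (fun j => (v j : ℕ)) * S lam' (fun j => (v j : ℕ)) * (P (fun j => (v j : ℕ)) : ℂ)) =
      ∑ v ∈ alcove r (r + k),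
        c ^ (∑ i, (v i : ℕ)) * (alt x (fun i => (v i : ℕ)) * alt y (fun i => (v i : ℕ))) :=
    Finset.sum_congr rfl hterm
  rw [hsum]
  exact core_orthogonality hr1 (by omega) a b haS hbS haN hbN hne'

end Groth.Agent.S19895
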