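import Groth.Statements.S19900
import Mathlib
import Groth.Agent.S12979
import Groth.Agent.S12943
import Groth.Agent.S12828
import Groth.Agent.S12831
import Groth.Agent.S12763
import Groth.Agent.Lib.Helper16.AlgSt.FppfLift
import Groth.Agent.Lib.Helper16.AlgSt.DiagToSelf
import Groth.Agent.Lib.Helper10.AlgStMagic
import Groth.Agent.Lib.Helper10.AlgStPtsTop
import Groth.Agent.Lib.Helper10.AlgStPtsFib
import Groth.Agent.Lib.Helper28.AlgSt.DiagComp

set_option autoImplicit false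
universe u
open CategoryTheory AlgebraicGeometry
open AlgSt

namespace Groth.Agent.S19900

set_option backward.isDefEq.respectTransparency false
set_option backward.isDefEq.respectTransparency.types false

open AlgebraicGeometry CategoryTheory.Limits Groth.Agent.Lib.Helper10.Fib
  Groth.Agent.Lib.Helper10.AlgStRep

section Pts

variable {S : Scheme.{u}}

/-- An equivalence over the base between algebraic stacks is closed on points. -/
theorem isClosedMap_points_of_isEquivOver {𝒜 ℬ : AlgSt.Cat S}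
    (h𝒜 : AlgSt.IsAlgStack Scheme.fppfPrecoverage 𝒜) (E : 𝒜 ⥤ᵇ ℬ) (hE : FibCat.IsEquivOver E) :
    IsClosedMap (AlgSt.Points.map E) := by
  obtain ⟨G, ⟨η⟩, ⟨ε⟩⟩ := hE
  have h1 : AlgSt.Points.map G ∘ AlgSt.Points.map E = id := by
    rw [← points_map_comp, points_map_eq_of_iso η, points_map_id]
  have h2 : AlgSt.Points.map E ∘ AlgSt.Points.map G = id := by
    rw [← points_map_comp, points_map_eq_of_iso ε, points_map_id]
  intro Z hZ
  have hZ' : AlgSt.Points.map E '' Z = AlgSt.Points.map G ⁻¹' Z := by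
    ext y
    constructor
    · rintro ⟨x, hx, rfl⟩
      show AlgSt.Points.map G (AlgSt.Points.map E x) ∈ Z
      rw [show AlgSt.Points.map G (AlgSt.Points.map E x) = x from congrFun h1 x]
      exact hx
    · intro hy
      exact ⟨AlgSt.Points.map G y, hy, congrFun h2 y⟩
  rw [hZ']
  exact hZ.preimage (H10PT.continuous_points_map h𝒜 G)

/-- In a 2-commutative triangle `p ⋙ q ≅ r` of algebraic stacks with `p` surjective, if `r` is
universally closed then so is `q`. -/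
theorem isUnivClosed_of_triangle {𝒜 ℬ 𝒞 : AlgSt.Cat S}
    (h𝒜 : AlgSt.IsAlgStack Scheme.fppfPrecoverage 𝒜)
    (hℬ : AlgSt.IsAlgStack Scheme.fppfPrecoverage ℬ)
    (h𝒞 : AlgSt.IsAlgStack Scheme.fppfPrecoverage 𝒞)
    (p : 𝒜 ⥤ᵇ ℬ) (q : ℬ ⥤ᵇ 𝒞) (r : 𝒜 ⥤ᵇ 𝒞) (e : BasedFunctor.comp p q ≅ r)
    (hp : AlgSt.IsSurjective p) (hr : AlgSt.IsUnivClosed Scheme.fppfPrecoverage r) :
    AlgSt.IsUnivClosed Scheme.fppfPrecoverage q := by
  intro 𝒲 h𝒲 g
  have := id_full 𝒞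
  have := id_faithful 𝒞
  have hE1 : FibCat.IsEquivOver (fpMap (γ := BasedFunctor.id 𝒞)
      (α := BasedFunctor.id 𝒲) (β := BasedFunctor.id 𝒜) (G' := g) (G := g)
      (f' := BasedFunctor.comp p q) (f := r) (Iso.refl _) e) :=
    isEquivOver_fpMap _ _ (isEquivOver_id _) (isEquivOver_id _)
  have hE2 := isEquivOver_paste2 g q p
  have a1 : AlgSt.IsAlgStack Scheme.fppfPrecoverage (FibCat.fp g q) :=
    Groth.Agent.S12763.result h𝒞.isStack h𝒞.diag h𝒲 hℬ g q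
  have a2 : AlgSt.IsAlgStack Scheme.fppfPrecoverage (FibCat.fp (FibCat.fpSnd g q) p) :=
    Groth.Agent.S12763.result hℬ.isStack hℬ.diag a1 h𝒜 (FibCat.fpSnd g q) p
  have hs : AlgSt.IsSurjective (FibCat.fpFst (FibCat.fpSnd g q) p) := by
    intro z
    obtain ⟨x, hx⟩ := hp (AlgSt.Points.map (FibCat.fpSnd g q) z)
    obtain ⟨w, hw1, -⟩ := H10PT.exists_fp_point h𝒜.isStack.1 hℬ.isStack.1 a1.isStack.1 p
      (FibCat.fpSnd g q) z x hx.symm
    exact ⟨w, hw1⟩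
  have hc := hr 𝒲 h𝒲 g
  have hE := isEquivOver_comp _ _ hE2 hE1
  have hEc := isClosedMap_points_of_isEquivOver a2 _ hE
  have key : ∀ z, AlgSt.Points.map (FibCat.fpFst g q)
      (AlgSt.Points.map (FibCat.fpFst (FibCat.fpSnd g q) p) z) =
      AlgSt.Points.map (FibCat.fpFst g r) (AlgSt.Points.map (BasedFunctor.comp (paste2 g q p)
        (fpMap (γ := BasedFunctor.id 𝒞)
      (α := BasedFunctor.id 𝒲) (β := BasedFunctor.id 𝒜) (G' := g) (G := g)
      (f' := BasedFunctor.comp p q) (f := r) (Iso.refl _) e)) z) := by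
    intro z
    obtain ⟨P, rfl⟩ := AlgSt.Points.mk_surjective z
    rfl
  have hcont : Continuous (AlgSt.Points.map (FibCat.fpFst (FibCat.fpSnd g q) p)) :=
    H10PT.continuous_points_map a1 _
  intro Z hZ
  have hZ' : AlgSt.Points.map (FibCat.fpFst g q) '' Z =
      AlgSt.Points.map (FibCat.fpFst g r) '' (AlgSt.Points.map (BasedFunctor.comp (paste2 g q p)
        (fpMap (γ := BasedFunctor.id 𝒞)
      (α := BasedFunctor.id 𝒲) (β := BasedFunctor.id 𝒜) (G' := g) (G := g)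
      (f' := BasedFunctor.comp p q) (f := r) (Iso.refl _) e)) ''
        (AlgSt.Points.map (FibCat.fpFst (FibCat.fpSnd g q) p) ⁻¹' Z)) := by
    ext w
    constructor
    · rintro ⟨b, hb, rfl⟩
      obtain ⟨z, rfl⟩ := hs b
      exact ⟨_, ⟨z, hb, rfl⟩, (key z).symm⟩
    · rintro ⟨_, ⟨z, hz, rfl⟩, rfl⟩
      exact ⟨_, hz, key z⟩
  rw [hZ']
  exact hc _ (hEc _ (hZ.preimage hcont))

end Pts

section TwoCells

variable {S : Scheme.{u}}

open Groth.Agent.Lib.Helper28.AlgSt.Whisker Groth.Agent.Lib.Helper10.LiftSqBC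

/-- `p ⋙ Δ_q ≅ Δ_{p ⋙ q} ⋙ (p × p)`. -/
def compDiagIso {𝒜 ℬ 𝒞 : AlgSt.Cat S} (p : 𝒜 ⥤ᵇ ℬ) (q : ℬ ⥤ᵇ 𝒞) :
    BasedFunctor.comp p (FibCat.diag q) ≅
      BasedFunctor.comp (FibCat.diag (BasedFunctor.comp p q)) (magN p p q) :=
  BasedNatIso.mkNatIso
    (NatIso.ofComponents (fun a =>
      (FibCat.fpProp q q).isoMk
        (X := (BasedFunctor.comp p (FibCat.diag q)).obj a)
        (Y := (BasedFunctor.comp (FibCat.diag (BasedFunctor.comp p q)) (magN p p q)).obj a)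
        (CategoricalPullback.mkIso (Iso.refl _) (Iso.refl _) (by
          show q.map (𝟙 (p.obj a)) ≫ 𝟙 (q.obj (p.obj a)) =
            𝟙 (q.obj (p.obj a)) ≫ q.map (𝟙 (p.obj a))
          simp)))
      (fun {a a'} k => by
        apply ObjectProperty.hom_ext
        apply CategoricalPullback.hom_ext
        · exact (Category.comp_id _).trans (Category.id_comp _).symm
        · exact (Category.comp_id _).trans (Category.id_comp _).symm))
    (fun a => by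
      rw [fp_isHomLift_iff]
      exact IsHomLift.id (p.w_obj a))

/-- Lifting a functor into `𝒴 ×_𝒵 𝒴` through `F × F`, given lifts of its two components. -/
theorem exists_lift_magN {𝒲 𝒳 𝒴 𝒵 : AlgSt.Cat S} (F : 𝒳 ⥤ᵇ 𝒴) (G : 𝒴 ⥤ᵇ 𝒵)
    (y' : 𝒲 ⥤ᵇ FibCat.fp G G) (x₁ x₂ : 𝒲 ⥤ᵇ 𝒳)
    (α₁ : BasedFunctor.comp x₁ F ≅ BasedFunctor.comp y' (FibCat.fpFst G G))
    (α₂ : BasedFunctor.comp x₂ F ≅ BasedFunctor.comp y' (FibCat.fpSnd G G)) :
    ∃ z : 𝒲 ⥤ᵇ FibCat.fp (BasedFunctor.comp F G) (BasedFunctor.comp F G),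
      Nonempty (BasedFunctor.comp z (magN F F G) ≅ y') := by
  let θ : BasedFunctor.comp x₁ (BasedFunctor.comp F G) ≅
      BasedFunctor.comp x₂ (BasedFunctor.comp F G) :=
    (show BasedFunctor.comp x₁ (BasedFunctor.comp F G) ≅
      BasedFunctor.comp (BasedFunctor.comp x₁ F) G from Iso.refl _) ≪≫ wr α₁ G ≪≫
    (show BasedFunctor.comp (BasedFunctor.comp y' (FibCat.fpFst G G)) G ≅
      BasedFunctor.comp y' (BasedFunctor.comp (FibCat.fpFst G G) G) from Iso.refl _) ≪≫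
    wl y' (FibCat.fpIso G G) ≪≫
    (show BasedFunctor.comp y' (BasedFunctor.comp (FibCat.fpSnd G G) G) ≅
      BasedFunctor.comp (BasedFunctor.comp y' (FibCat.fpSnd G G)) G from Iso.refl _) ≪≫
    (wr α₂ G).symm ≪≫
    (show BasedFunctor.comp (BasedFunctor.comp x₂ F) G ≅
      BasedFunctor.comp x₂ (BasedFunctor.comp F G) from Iso.refl _)
  have hθ : ∀ w : 𝒲.obj, cmp θ.hom w =
      G.map (cmp α₁.hom w) ≫ (y'.obj w).obj.iso.hom ≫ G.map (cmp α₂.inv w) := by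
    intro w
    show 𝟙 _ ≫ G.map (cmp α₁.hom w) ≫ 𝟙 _ ≫ (y'.obj w).obj.iso.hom ≫ 𝟙 _ ≫
      G.map (cmp α₂.inv w) ≫ 𝟙 _ = _
    simp
  refine ⟨FibCat.fpLift x₁ x₂ θ, ⟨?_⟩⟩
  refine fpTwoIso G G (A := BasedFunctor.comp (FibCat.fpLift x₁ x₂ θ) (magN F F G)) (B := y')
    α₁ α₂ (fun w => ?_)
  show G.map (cmp α₁.hom w) ≫ (y'.obj w).obj.iso.hom = cmp θ.hom w ≫ G.map (cmp α₂.hom w)
  rw [hθ w]
  simp only [Category.assoc]
  rw [← G.toFunctor.map_comp]
  have h0 : cmp α₂.inv w ≫ cmp α₂.hom w = 𝟙 _ := app_eq α₂.inv_hom_id w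
  rw [show G.toFunctor.map (cmp α₂.inv w ≫ cmp α₂.hom w) = 𝟙 _ from by
    rw [h0]; exact G.toFunctor.map_id _]
  first
    | exact (congrArg (fun t => G.map (cmp α₁.hom w) ≫ t) (Category.comp_id _)).symm
    | erw [Category.comp_id]
    | simp

end TwoCells

section Lift

variable {S : Scheme.{u}} {𝒳 𝒴 𝒵 : AlgSt.Cat S}

open Groth.Agent.Lib.Helper28.AlgSt.Whisker Groth.Agent.Lib.Helper16.AlgStDC
  Groth.Agent.Lib.Helper28.AlgSt.DiagComp Groth.Agent.Lib.Helper28.AlgSt.PropInst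

/-- Every chart of `𝒴 ×_𝒵 𝒴` lifts fppf locally to `𝒳 ×_𝒵 𝒳` when `f : 𝒳 ⟶ 𝒴` is an fppf cover. -/
theorem local_lift_magN (h𝒳 : AlgSt.IsAlgStack Scheme.fppfPrecoverage 𝒳)
    (h𝒴 : AlgSt.IsAlgStack Scheme.fppfPrecoverage 𝒴) (f : 𝒳 ⥤ᵇ 𝒴) (g : 𝒴 ⥤ᵇ 𝒵)
    (hf₁ : AlgSt.IsSurjective f) (hf₂ : AlgSt.LocQ (AlgSp.LocP @Flat) f)
    (hf₃ : AlgSt.LocQ (AlgSp.LocP @LocallyOfFinitePresentation) f)
    (U : Over S) (y : FibCat.overCat U ⥤ᵇ FibCat.fp g g) :
    ∃ R ∈ (QuotSh.J Scheme.fppfPrecoverage S) U,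
      ∀ ⦃V : Over S⦄ (h : V ⟶ U), R.arrows h →
        ∃ z : FibCat.overCat V ⥤ᵇ FibCat.fp (BasedFunctor.comp f g) (BasedFunctor.comp f g),
          Nonempty (BasedFunctor.comp z (magN f f g) ≅
            BasedFunctor.comp (AlgSt.overMap h) y) := by
  obtain ⟨T₁, t₁, ζ₁, h11, h12, h13, ⟨φ₁⟩⟩ := exists_fppf_lift h𝒴 h𝒳 f hf₂ hf₃ hf₁
    (BasedFunctor.comp y (FibCat.fpFst g g))
  obtain ⟨T₂, t₂, ζ₂, h21, h22, h23, ⟨φ₂⟩⟩ := exists_fppf_lift h𝒴 h𝒳 f hf₂ hf₃ hf₁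
    (BasedFunctor.comp (AlgSt.overMap t₁) (BasedFunctor.comp y (FibCat.fpSnd g g)))
  haveI := h11
  haveI := h12
  haveI := h13
  haveI := h21
  haveI := h22
  haveI := h23
  haveI : Flat (t₂ ≫ t₁).left := by rw [Over.comp_left]; infer_instance
  haveI : LocallyOfFinitePresentation (t₂ ≫ t₁).left := by rw [Over.comp_left]; infer_instance
  haveI : Surjective (t₂ ≫ t₁).left := by rw [Over.comp_left]; infer_instance
  refine ⟨Sieve.generate (Presieve.singleton (t₂ ≫ t₁)),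
    Groth.Agent.Lib.Helper16.sieve_mem_J_of_fppf (t₂ ≫ t₁) _
      ⟨T₂, 𝟙 _, t₂ ≫ t₁, Presieve.singleton.mk, Category.id_comp _⟩, ?_⟩
  rintro V h ⟨W, h₀, _, ⟨⟩, rfl⟩
  rw [← Category.assoc]
  refine exists_lift_magN f g (BasedFunctor.comp (AlgSt.overMap ((h₀ ≫ t₂) ≫ t₁)) y)
    (BasedFunctor.comp (AlgSt.overMap (h₀ ≫ t₂)) ζ₁) (BasedFunctor.comp (AlgSt.overMap h₀) ζ₂)
    ?_ ?_
  · exact (show BasedFunctor.comp (BasedFunctor.comp (AlgSt.overMap (h₀ ≫ t₂)) ζ₁) f ≅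
        BasedFunctor.comp (AlgSt.overMap (h₀ ≫ t₂)) (BasedFunctor.comp ζ₁ f) from Iso.refl _) ≪≫
      wl (AlgSt.overMap (h₀ ≫ t₂)) φ₁ ≪≫
      (show BasedFunctor.comp (AlgSt.overMap (h₀ ≫ t₂))
          (BasedFunctor.comp (AlgSt.overMap t₁) (BasedFunctor.comp y (FibCat.fpFst g g))) ≅
        BasedFunctor.comp (BasedFunctor.comp (AlgSt.overMap (h₀ ≫ t₂)) (AlgSt.overMap t₁))
          (BasedFunctor.comp y (FibCat.fpFst g g)) from Iso.refl _) ≪≫
      wr (overMapCompIso (h₀ ≫ t₂) t₁) (BasedFunctor.comp y (FibCat.fpFst g g)) ≪≫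
      (show BasedFunctor.comp (AlgSt.overMap ((h₀ ≫ t₂) ≫ t₁))
          (BasedFunctor.comp y (FibCat.fpFst g g)) ≅
        BasedFunctor.comp (BasedFunctor.comp (AlgSt.overMap ((h₀ ≫ t₂) ≫ t₁)) y)
          (FibCat.fpFst g g) from Iso.refl _)
  · exact (show BasedFunctor.comp (BasedFunctor.comp (AlgSt.overMap h₀) ζ₂) f ≅
        BasedFunctor.comp (AlgSt.overMap h₀) (BasedFunctor.comp ζ₂ f) from Iso.refl _) ≪≫
      wl (AlgSt.overMap h₀) φ₂ ≪≫
      (show BasedFunctor.comp (AlgSt.overMap h₀)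
          (BasedFunctor.comp (AlgSt.overMap t₂) (BasedFunctor.comp (AlgSt.overMap t₁)
            (BasedFunctor.comp y (FibCat.fpSnd g g)))) ≅
        BasedFunctor.comp (BasedFunctor.comp (AlgSt.overMap h₀) (AlgSt.overMap t₂))
          (BasedFunctor.comp (AlgSt.overMap t₁) (BasedFunctor.comp y (FibCat.fpSnd g g)))
        from Iso.refl _) ≪≫
      wr (overMapCompIso h₀ t₂)
        (BasedFunctor.comp (AlgSt.overMap t₁) (BasedFunctor.comp y (FibCat.fpSnd g g))) ≪≫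
      (show BasedFunctor.comp (AlgSt.overMap (h₀ ≫ t₂))
          (BasedFunctor.comp (AlgSt.overMap t₁) (BasedFunctor.comp y (FibCat.fpSnd g g))) ≅
        BasedFunctor.comp (BasedFunctor.comp (AlgSt.overMap (h₀ ≫ t₂)) (AlgSt.overMap t₁))
          (BasedFunctor.comp y (FibCat.fpSnd g g)) from Iso.refl _) ≪≫
      wr (overMapCompIso (h₀ ≫ t₂) t₁) (BasedFunctor.comp y (FibCat.fpSnd g g)) ≪≫
      (show BasedFunctor.comp (AlgSt.overMap ((h₀ ≫ t₂) ≫ t₁))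
          (BasedFunctor.comp y (FibCat.fpSnd g g)) ≅
        BasedFunctor.comp (BasedFunctor.comp (AlgSt.overMap ((h₀ ≫ t₂) ≫ t₁)) y)
          (FibCat.fpSnd g g) from Iso.refl _)

/-- Descent of a property of `𝒳 ×_𝒴 𝒳 ⟶ 𝒳 ×_𝒵 𝒳` to the diagonal of `g`, along an fppf cover
`f : 𝒳 ⟶ 𝒴`. -/
theorem repByAlgSpWith_diag_of_fpComp {P : MorphismProperty (AlgSp.Sp S)} (hP : Good P)
    (h𝒳 : AlgSt.IsAlgStack Scheme.fppfPrecoverage 𝒳)
    (h𝒴 : AlgSt.IsAlgStack Scheme.fppfPrecoverage 𝒴)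
    (h𝒵 : AlgSt.IsAlgStack Scheme.fppfPrecoverage 𝒵) (f : 𝒳 ⥤ᵇ 𝒴) (g : 𝒴 ⥤ᵇ 𝒵)
    (hf₁ : AlgSt.IsSurjective f) (hf₂ : AlgSt.LocQ (AlgSp.LocP @Flat) f)
    (hf₃ : AlgSt.LocQ (AlgSp.LocP @LocallyOfFinitePresentation) f)
    (hq : AlgSt.RepByAlgSpWith P (fpComp f g)) :
    AlgSt.RepByAlgSpWith P (FibCat.diag g) := by
  have g𝒳 := h𝒳.isStack.1
  have g𝒴 := h𝒴.isStack.1
  have g𝒵 := h𝒵.isStack.1
  have hΔ : AlgSt.RepByAlgSp1 (FibCat.diag g) :=
    Groth.Agent.Lib.Helper28.AlgSt.FpStack.repByAlgSp1_diag_of_diag_toSelf g𝒴 g𝒵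
      h𝒴.diag h𝒵.diag g
  have H2 : AlgSt.RepByAlgSpWith P (FibCat.fpFst (magN f f g) (FibCat.diag g)) :=
    repByAlgSpWith_of_square P _ (fpComp f g)
      (magLam f f g (compE f g) (fun _ => rfl)) (BasedFunctor.id _)
      (isEquivOver_magLam f f g (compE f g) (fun _ => rfl) g𝒳 g𝒳 g𝒴 g𝒵) (isEquivOver_id _)
      (Iso.refl _) hq
  exact repByAlgSpWith_of_local_lift g𝒴 (isFibGrpd_fp g g g𝒴 g𝒴 g𝒵)
    (isFibGrpd_fp _ _ g𝒳 g𝒳 g𝒵) P hP.bc hP.loc (FibCat.diag g) hΔ (magN f f g)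
    (local_lift_magN h𝒳 h𝒴 f g hf₁ hf₂ hf₃) H2

end Lift

open Groth.Agent.Lib.Helper28.AlgSt.Whisker Groth.Agent.Lib.Helper16.AlgStDC
  Groth.Agent.Lib.Helper28.AlgSt.DiagComp Groth.Agent.Lib.Helper28.AlgSt.PropInst
  Groth.Agent.Lib.Helper28.AlgSt.Key Groth.Agent.Lib.Helper28.AlgSt.FpStack

/-- Let f : 𝒳 → 𝒴 and g : 𝒴 → 𝒵 be morphisms of algebraic stacks with composite h : 𝒳 → 𝒵. If f is flat,
surjective, universally injective and locally of finite presentation, the diagonal of f is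
universally closed and h is separated, then g is separated. (The published statement does not ask
the diagonal of f to be universally closed, and without it the statement fails: over the affine line
T over a field let G be the constant group scheme with two elements, H the etale group scheme
obtained from G by gluing its two sections over the complement of the origin, and f the morphism
from the classifying stack of G to that of H induced by the quotient map; then f is flat,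
surjective, universally injective and locally of finite presentation, the classifying stack of G is
separated over T since G is finite, and that of H is not since H is not separated. The published
argument uses that the diagonal of f is universally closed.) -/
theorem result
    (S : Scheme.{u}) (𝒳 : AlgSt.Cat S) (𝒴 : AlgSt.Cat S) (𝒵 : AlgSt.Cat S)
    (h𝒳 : AlgSt.IsAlgStack Scheme.fppfPrecoverage 𝒳)
    (h𝒴 : AlgSt.IsAlgStack Scheme.fppfPrecoverage 𝒴)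
    (h𝒵 : AlgSt.IsAlgStack Scheme.fppfPrecoverage 𝒵)
    (f : 𝒳 ⥤ᵇ 𝒴) (g : 𝒴 ⥤ᵇ 𝒵)
    (hf₁ : AlgSt.IsSurjective f) (hf₂ : AlgSt.LocQ (AlgSp.LocP @Flat) f)
    (hf₃ : AlgSt.LocQ (AlgSp.LocP @LocallyOfFinitePresentation) f)
    (hf₄ : AlgSt.IsUnivInjective Scheme.fppfPrecoverage f)
    (hf₅ : AlgSt.RepByAlgSpWith AlgSp.IsUnivClosedMor (FibCat.diag f))
    (hh : AlgSt.IsSeparatedMor (BasedFunctor.comp f g)) :
    AlgSt.IsSeparatedMor g := by
  classical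
  have g𝒳 := h𝒳.isStack.1
  have g𝒴 := h𝒴.isStack.1
  have g𝒵 := h𝒵.isStack.1
  have gff := isFibGrpd_fp f f g𝒳 g𝒳 g𝒴
  have ghh := isFibGrpd_fp (BasedFunctor.comp f g) (BasedFunctor.comp f g) g𝒳 g𝒳 g𝒵
  have aff : AlgSt.IsAlgStack Scheme.fppfPrecoverage (FibCat.fp f f) :=
    Groth.Agent.S12763.result h𝒴.isStack h𝒴.diag h𝒳 h𝒳 f f
  have ahh : AlgSt.IsAlgStack Scheme.fppfPrecoverage
      (FibCat.fp (BasedFunctor.comp f g) (BasedFunctor.comp f g)) :=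
    Groth.Agent.S12763.result h𝒵.isStack h𝒵.diag h𝒳 h𝒳 _ _
  have agg : AlgSt.IsAlgStack Scheme.fppfPrecoverage (FibCat.fp g g) :=
    Groth.Agent.S12763.result h𝒵.isStack h𝒵.diag h𝒴 h𝒴 g g
  have aqq : AlgSt.IsAlgStack Scheme.fppfPrecoverage (FibCat.fp (fpComp f g) (fpComp f g)) :=
    Groth.Agent.S12763.result ahh.isStack ahh.diag aff aff _ _
  have hΔg1 : AlgSt.RepByAlgSp1 (FibCat.diag g) :=
    repByAlgSp1_diag_of_diag_toSelf g𝒴 g𝒵 h𝒴.diag h𝒵.diag g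
  have hq1 : AlgSt.RepByAlgSp1 (fpComp f g) :=
    repByAlgSp1_of_with _ _
      (repByAlgSpWith_fpComp ⊤ g𝒳 g𝒴 g𝒵 f g (repByAlgSpWith_top _ hΔg1))
  have hsurj : AlgSt.IsSurjective (FibCat.diag f) :=
    (Groth.Agent.S12831.result h𝒳 h𝒴 f).1 hf₄
  have hhUC : AlgSt.RepByAlgSpWith AlgSp.IsUnivClosedMor
      (FibCat.diag (BasedFunctor.comp f g)) :=
    repByAlgSpWith_mono _ (fun _ _ _ h => h.2.2) hh
  have hhSep : AlgSt.RepByAlgSpWith AlgSp.IsSeparatedMor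
      (FibCat.diag (BasedFunctor.comp f g)) :=
    repByAlgSpWith_mono _ (fun _ _ _ h => h.1) hh
  -- (a) the diagonal of `g` is universally closed
  have hhUC' : AlgSt.IsUnivClosed Scheme.fppfPrecoverage
      (FibCat.diag (BasedFunctor.comp f g)) :=
    (Groth.Agent.S12828.result h𝒳 ahh _ (repByAlgSp1_of_with _ _ hh)).1 hhUC
  have hqUC' : AlgSt.IsUnivClosed Scheme.fppfPrecoverage (fpComp f g) :=
    isUnivClosed_of_triangle h𝒳 aff ahh (FibCat.diag f) (fpComp f g) _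
      (diagCompIso f g).symm hsurj hhUC'
  have hqUC : AlgSt.RepByAlgSpWith AlgSp.IsUnivClosedMor (fpComp f g) :=
    (Groth.Agent.S12828.result aff ahh _ hq1).2 hqUC'
  have ha : AlgSt.RepByAlgSpWith AlgSp.IsUnivClosedMor (FibCat.diag g) :=
    repByAlgSpWith_diag_of_fpComp good_univClosed h𝒳 h𝒴 h𝒵 f g hf₁ hf₂ hf₃ hqUC
  -- (b) the double diagonal of `g` is universally closed
  have hcSep : AlgSt.RepByAlgSpWith AlgSp.IsSeparatedMor
      (BasedFunctor.comp (FibCat.diag f) (fpComp f g)) :=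
    repByAlgSpWith_iso _ (diagCompIso f g).symm hhSep
  have hc1 : AlgSt.RepByAlgSp1 (BasedFunctor.comp (FibCat.diag f) (fpComp f g)) :=
    repByAlgSp1_of_with _ _ hcSep
  have hcd : AlgSt.RepByAlgSpWith AlgSp.IsUnivClosedMor
      (FibCat.diag (BasedFunctor.comp (FibCat.diag f) (fpComp f g))) :=
    ((Groth.Agent.S12943.result S _ _ h𝒳 ahh _ hc1).out 0 3).1 hcSep
  have hmag : AlgSt.RepByAlgSpWith AlgSp.IsUnivClosedMor
      (magN (FibCat.diag f) (FibCat.diag f) (fpComp f g)) :=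
    repByAlgSpWith_magN good_univClosed g𝒳 g𝒳 gff ghh _ _ _ hf₅ hf₅
  have hcomp : AlgSt.RepByAlgSpWith AlgSp.IsUnivClosedMor
      (BasedFunctor.comp (FibCat.diag (BasedFunctor.comp (FibCat.diag f) (fpComp f g)))
        (magN (FibCat.diag f) (FibCat.diag f) (fpComp f g))) :=
    repByAlgSpWith_comp_good good_univClosed g𝒳 (isFibGrpd_fp _ _ g𝒳 g𝒳 ghh) _ _ hcd hmag
  have hpd : AlgSt.RepByAlgSpWith AlgSp.IsUnivClosedMor
      (BasedFunctor.comp (FibCat.diag f) (FibCat.diag (fpComp f g))) :=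
    repByAlgSpWith_iso _ (compDiagIso (FibCat.diag f) (fpComp f g)) hcomp
  have hpd' : AlgSt.IsUnivClosed Scheme.fppfPrecoverage
      (BasedFunctor.comp (FibCat.diag f) (FibCat.diag (fpComp f g))) :=
    (Groth.Agent.S12828.result h𝒳 aqq _ (repByAlgSp1_of_with _ _ hpd)).1 hpd
  have hdq' : AlgSt.IsUnivClosed Scheme.fppfPrecoverage (FibCat.diag (fpComp f g)) :=
    isUnivClosed_of_triangle h𝒳 aff aqq (FibCat.diag f) (FibCat.diag (fpComp f g)) _
      (Iso.refl _) hsurj hpd'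
  have hdq1 : AlgSt.RepByAlgSp1 (FibCat.diag (fpComp f g)) :=
    repByAlgSp1_diag_of_diag_toSelf gff ghh aff.diag ahh.diag _
  have hdq : AlgSt.RepByAlgSpWith AlgSp.IsUnivClosedMor (FibCat.diag (fpComp f g)) :=
    (Groth.Agent.S12828.result aff aqq _ hdq1).2 hdq'
  have hqSep : AlgSt.RepByAlgSpWith AlgSp.IsSeparatedMor (fpComp f g) :=
    ((Groth.Agent.S12943.result S _ _ aff ahh _ hq1).out 3 0).1 hdq
  have hgSep : AlgSt.RepByAlgSpWith AlgSp.IsSeparatedMor (FibCat.diag g) :=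
    repByAlgSpWith_diag_of_fpComp good_separated h𝒳 h𝒴 h𝒵 f g hf₁ hf₂ hf₃ hqSep
  have hb : AlgSt.RepByAlgSpWith AlgSp.IsUnivClosedMor (FibCat.diag (FibCat.diag g)) :=
    ((Groth.Agent.S12943.result S _ _ h𝒴 agg _ hΔg1).out 0 3).1 hgSep
  exact Groth.Agent.S12979.result S 𝒴 𝒵 h𝒴 h𝒵 g ha hb

end Groth.Agent.S19900
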