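import Groth.Statements.S19903
import Groth.Agent.Lib.Helper28.AlgSt.InertiaStack
import Groth.Agent.Lib.Helper28.AlgSt.DiagTFAE

set_option autoImplicit false
universe u
open CategoryTheory AlgebraicGeometry
open AlgSt

namespace Groth.Agent.S19903

/-- For a morphism f : 𝒳 → 𝒴 of algebraic stacks, if the relative inertia 𝓘_{𝒳/𝒴} → 𝒳 is locally
separated then the neutral section e : 𝒳 → 𝓘_{𝒳/𝒴} (the second diagonal of f) is an immersion, and
likewise if the diagonal of f is locally separated. The inertia and the diagonal are representable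
by algebraic spaces and local separatedness is the property of such morphisms. (The published
statement asserts the equivalence of the three conditions: inertia locally separated, diagonal
locally separated, neutral section an immersion; only the two implications towards the last
condition are stated here.) -/
theorem result
    (S : Scheme.{u}) (𝒳 : AlgSt.Cat S) (𝒴 : AlgSt.Cat S)
    (h𝒳 : AlgSt.IsAlgStack Scheme.fppfPrecoverage 𝒳)
    (h𝒴 : AlgSt.IsAlgStack Scheme.fppfPrecoverage 𝒴)
    (f : 𝒳 ⥤ᵇ 𝒴) :
    (AlgSt.RepByAlgSpWith AlgSp.IsLocallySeparatedMor (FibCat.inertiaToBase f) →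
        AlgSt.IsImm (FibCat.inertiaNeutral f)) ∧
      (AlgSt.RepByAlgSpWith AlgSp.IsLocallySeparatedMor (FibCat.diag f) →
        AlgSt.IsImm (FibCat.inertiaNeutral f)) := by
  have hbc : Groth.Agent.Lib.Helper28.AlgSt.PropInst.BC (S := S)
      (AlgSp.RepWith @AlgebraicGeometry.IsImmersion) :=
    fun _ _ _ _ _ _ _ _ _ _ _ _ sq h =>
      (AlgSp.RepWith (S := S) @AlgebraicGeometry.IsImmersion).of_isPullback sq h
  have key : AlgSt.RepByAlgSpWith AlgSp.IsLocallySeparatedMor (FibCat.inertiaToBase f) →
      AlgSt.IsImm (FibCat.inertiaNeutral f) := by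
    intro h
    refine Groth.Agent.Lib.Helper28.AlgSt.InertiaStack.repWith_inertiaNeutral_of_diag_toBase f _
      h𝒳.isStack.1 h𝒴.isStack.1 ?_
    exact Groth.Agent.Lib.Helper28.AlgSt.DiagTFAE.diag_of_rep
      (Groth.Agent.Lib.Helper28.AlgSt.InertiaStack.isFibGrpd_inertia f h𝒳.isStack.1 h𝒴.isStack.1)
      h𝒳.isStack.1 hbc (FibCat.inertiaToBase f) (fun A B m hm => hm) h
  refine ⟨key, fun h => key ?_⟩
  exact Groth.Agent.Lib.Helper28.AlgSt.InertiaStack.repWith_inertiaToBase_of_diag f _ h

end Groth.Agent.S19903
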