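import Mathlib
import Groth.Statements.S19904


set_option autoImplicit false
universe u v
open CategoryTheory
open ArtFun

namespace Groth.Agent.S19904

/-- For functors F, G, G' on Artinian local Λ-algebras with residue field k and morphisms φ : F → G, ψ :
G' → G: if φ is smooth then the base change F ×_G G' → G' (second projection of the fibre product of
functors) is smooth. -/
theorem result {Λ : Type u} {k : Type u} [CommRing Λ] [Field k] [Algebra Λ k]
    [IsNoetherianRing Λ] [Module.Finite Λ k]
    {F G G' : ArtFun.Art Λ k ⥤ Type v} (φ : F ⟶ G) (ψ : G' ⟶ G) (hφ : ArtFun.IsSmooth φ) :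
    ArtFun.IsSmooth (Limits.pullback.snd φ ψ) := by
  intro B A μ hμ
  rintro ⟨⟨z, y'⟩, hzy⟩
  have hP : ∀ X : ArtFun.Art Λ k, IsPullback ((Limits.pullback.fst φ ψ).app X)
      ((Limits.pullback.snd φ ψ).app X) (φ.app X) (ψ.app X) :=
    fun X => (IsPullback.of_hasPullback φ ψ).map ((evaluation _ _).obj X)
  have hx : φ.app A ((Limits.pullback.fst φ ψ).app A z) = G.map μ (ψ.app B y') := by
    have h1 := ConcreteCategory.congr_hom (hP A).w z
    have h2 := NatTrans.naturality_apply ψ μ y'
    simp only [types_comp_apply] at h1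
    rw [h1, ← h2]
    exact congrArg (ψ.app A) hzy
  obtain ⟨w, hw⟩ := hφ μ hμ ⟨((Limits.pullback.fst φ ψ).app A z, ψ.app B y'), hx⟩
  have hw1 : F.map μ w = (Limits.pullback.fst φ ψ).app A z := congrArg (fun t => t.1.1) hw
  have hw2 : φ.app B w = ψ.app B y' := congrArg (fun t => t.1.2) hw
  obtain ⟨t, ht1, ht2⟩ := Limits.Types.exists_of_isPullback (hP B) w y' hw2
  refine ⟨t, ?_⟩
  apply Subtype.ext
  apply Prod.ext
  · apply Limits.Types.ext_of_isPullback (hP A)
    · have := NatTrans.naturality_apply (Limits.pullback.fst φ ψ) μ t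
      show (Limits.pullback.fst φ ψ).app A ((Limits.pullback φ ψ).map μ t) = _
      rw [this, ht1, hw1]
    · have := NatTrans.naturality_apply (Limits.pullback.snd φ ψ) μ t
      show (Limits.pullback.snd φ ψ).app A ((Limits.pullback φ ψ).map μ t) = _
      rw [this, ht2]
      exact hzy.symm
  · exact ht2

end Groth.Agent.S19904
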