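import Mathlib
import Groth.Statements.S19912
import Groth.Agent.Lib.Helper9.RegLocal

set_option autoImplicit false
universe u
open CategoryTheory CategoryTheory.Limits AlgebraicGeometry
open Models

namespace Aux

open CategoryTheory CategoryTheory.Limits AlgebraicGeometry IsLocalRing

/-- Regular local `A`, local hom `ψ : A → V` to a DVR, `a ∈ A` mapping to a uniformizer of `V`:
then `A / (a)` is regular. -/
lemma regular_quotient_of_uniformizer (A : Type u) [CommRing A] [IsRegularLocalRing A]
    (V : Type u) [CommRing V] [IsDomain V] [IsDiscreteValuationRing V]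
    (ψ : A →+* V) [IsLocalHom ψ] (a : A) (ha : Ideal.span {ψ a} = maximalIdeal V) :
    IsRegularLocalRing (A ⧸ Ideal.span {a}) := by
  have hψa : ψ a ∈ maximalIdeal V := by rw [← ha]; exact Ideal.mem_span_singleton_self _
  have ham : a ∈ maximalIdeal A := by
    rw [mem_maximalIdeal, mem_nonunits_iff]
    intro hu
    exact (mem_nonunits_iff.mp ((mem_maximalIdeal _).mp hψa)) (hu.map ψ)
  have ha2 : a ∉ maximalIdeal A ^ 2 := by
    intro h2
    have h3 : ψ a ∈ (maximalIdeal A ^ 2).map ψ := Ideal.mem_map_of_mem _ h2
    rw [Ideal.map_pow] at h3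
    have hle : (maximalIdeal A).map ψ ≤ maximalIdeal V := by
      rw [Ideal.map_le_iff_le_comap]
      intro x hx
      rw [Ideal.mem_comap, mem_maximalIdeal, mem_nonunits_iff]
      intro hu
      exact (mem_nonunits_iff.mp ((mem_maximalIdeal _).mp hx)) (isUnit_of_map_unit ψ x hu)
    have h4 : ψ a ∈ maximalIdeal V ^ 2 := Ideal.pow_right_mono hle 2 h3
    rw [← ha, Ideal.span_singleton_pow, Ideal.mem_span_singleton] at h4
    obtain ⟨t, ht⟩ := h4
    have h5 : ψ a * (1 - ψ a * t) = 0 := by linear_combination ht
    have hunit : IsUnit (1 - ψ a * t) := by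
      have hm : ψ a * t ∈ maximalIdeal V := Ideal.mul_mem_right _ _ hψa
      by_contra hnu
      have h6 : (1 - ψ a * t) ∈ maximalIdeal V := (mem_maximalIdeal _).mpr hnu
      have h7 : (1 : V) ∈ maximalIdeal V := by
        have := Ideal.add_mem _ h6 hm
        simpa using this
      exact (Ideal.ne_top_iff_one _).mp (maximalIdeal.isMaximal V).ne_top h7
    have h8 : ψ a = 0 := by
      rcases mul_eq_zero.mp h5 with h | h
      · exact h
      · exact absurd (h ▸ hunit) not_isUnit_zero
    apply IsDiscreteValuationRing.not_a_field V
    rw [← ha, h8]; simp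
  let x : Fin 1 → maximalIdeal A := fun _ => ⟨a, ham⟩
  have hx : LinearIndependent (ResidueField A) (fun i => (maximalIdeal A).toCotangent (x i)) := by
    rw [linearIndependent_unique_iff]
    show (maximalIdeal A).toCotangent ⟨a, ham⟩ ≠ 0
    rw [Ne, Ideal.toCotangent_eq_zero]
    exact ha2
  have hreg := (Groth.Agent.Lib.Helper9.RegLocal.quotient_regular A 1 x hx).2
  have hI : Ideal.span (Set.range fun i => (x i : A)) = Ideal.span {a} := by
    congr 1
    ext z
    simp [x]
  exact IsRegularLocalRing.of_ringEquiv (Ideal.quotEquivOfEq hI)

end Aux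

namespace Groth.Agent.S19912

/-- Let R be a discrete valuation ring with fraction field K and YR a scheme over Spec R. Let V be a
discrete valuation ring which is an R-algebra in such a way that the maximal ideal of R generates
the maximal ideal of V (ramification index one), and let σ : Spec V -> YR be a morphism over Spec R
sending the closed point of Spec V to y. If the local ring of YR at y is regular, then the local
ring at y of the special fibre of YR, namely O_{YR,y}/𝔪_R O_{YR,y}, is regular. (The published
statement takes YR a normal projective flat model of a smooth projective geometrically connected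
curve Y over K and phrases the hypothesis through a point Q of Y rational over an extension L of K
unramified over K with y in the closure of Q: by the valuative criterion such a point yields a
morphism as above from the spectrum of the localization of the integral closure of R in L at a
maximal ideal over y, which is the form used here.) -/
theorem result
    (R : Type u) [CommRing R] [IsDomain R] [IsDiscreteValuationRing R]
    (YR : Over (Spec (CommRingCat.of R)))
    (V : Type u) [CommRing V] [IsDomain V] [IsDiscreteValuationRing V] [Algebra R V]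
    (hV : Ideal.map (algebraMap R V) (IsLocalRing.maximalIdeal R) = IsLocalRing.maximalIdeal V)
    (σ : Spec (CommRingCat.of V) ⟶ YR.left)
    (hσ : σ ≫ YR.hom = Spec.map (CommRingCat.ofHom (algebraMap R V)))
    (y : YR.left) (hy : σ.base (IsLocalRing.closedPoint V) = y)
    (hreg : IsRegularLocalRing (YR.left.presheaf.stalk y)) :
    IsRegularLocalRing (YR.left.presheaf.stalk y ⧸
      Ideal.map (Models.stalkHom R YR y) (IsLocalRing.maximalIdeal R)) := by
  subst hy
  haveI : IsRegularLocalRing (YR.left.presheaf.stalk (σ.base (IsLocalRing.closedPoint V))) := hreg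
  let ψ : YR.left.presheaf.stalk (σ.base (IsLocalRing.closedPoint V)) →+* V :=
    (Scheme.stalkClosedPointTo (R := CommRingCat.of V) σ).hom
  haveI : IsLocalHom ψ := Scheme.isLocalHom_stalkClosedPointTo' σ
  have hcat : (Scheme.ΓSpecIso (CommRingCat.of R)).inv ≫ YR.hom.appTop ≫
      YR.left.presheaf.germ ⊤ _ trivial ≫ Scheme.stalkClosedPointTo (R := CommRingCat.of V) σ =
      CommRingCat.ofHom (algebraMap R V) := by
    rw [Scheme.germ_stalkClosedPointTo (R := CommRingCat.of V) σ ⊤ trivial]
    have h2 : YR.hom.appTop ≫ σ.appTop = (Spec.map (CommRingCat.ofHom (algebraMap R V))).appTop := by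
      rw [← hσ]; rfl
    have h3 := Scheme.ΓSpecIso_inv_naturality (CommRingCat.ofHom (algebraMap R V))
    have h4 : Scheme.Hom.app σ ⊤ ≫
          (Functor.mapIso (Spec (CommRingCat.of V)).presheaf
            (eqToIso (Scheme.preimage_eq_top_of_closedPoint_mem (R := CommRingCat.of V) σ
              (U := ⊤) trivial).symm).op ≪≫ Scheme.ΓSpecIso (CommRingCat.of V)).hom =
        σ.appTop ≫ (Scheme.ΓSpecIso (CommRingCat.of V)).hom := by
      simp [Scheme.Hom.appTop]
    rw [h4, ← Category.assoc (Scheme.Hom.appTop YR.hom), h2, ← Category.assoc, ← h3, Category.assoc,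
      Iso.inv_hom_id, Category.comp_id]
  have hcomp : ψ.comp (Models.stalkHom R YR _) = algebraMap R V := by
    apply RingHom.ext
    intro r
    have := congrArg (fun f => f.hom r) hcat
    simpa [Models.stalkHom, Coh.toGlobal, ψ] using this
  obtain ⟨π, hπ⟩ := IsDiscreteValuationRing.exists_irreducible R
  have hmR : IsLocalRing.maximalIdeal R = Ideal.span {π} :=
    (IsDiscreteValuationRing.irreducible_iff_uniformizer π).mp hπ
  have hmap : Ideal.map (Models.stalkHom R YR (σ.base (IsLocalRing.closedPoint V)))
      (IsLocalRing.maximalIdeal R) =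
      Ideal.span {Models.stalkHom R YR (σ.base (IsLocalRing.closedPoint V)) π} := by
    rw [hmR, Ideal.map_span, Set.image_singleton]
  rw [hmap]
  apply Aux.regular_quotient_of_uniformizer _ V ψ
  rw [← RingHom.comp_apply, hcomp, ← hV, hmR, Ideal.map_span, Set.image_singleton]

end Groth.Agent.S19912
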