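import Groth.Statements.S19918
import Groth.Agent.Lib.Helper7.MTwD
import Groth.Agent.Lib.Helper25.ModelGamma
import Groth.Agent.S3317
import Groth.Agent.S3319

set_option autoImplicit false
universe u
open CategoryTheory CategoryTheory.Limits AlgebraicGeometry
open Models

namespace Groth.Agent.S19918

/-- Kernel of Pic(X)[n] → Pic(C)[n]: let R be a discrete valuation ring with fraction field K, C a
smooth proper curve over K with H^0(C, O_C) = K, X a regular proper model of C with generic-fibre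
inclusion g : C → X, Γ_1, …, Γ_n the irreducible components of the closed fibre with multiplicities
m_1, …, m_n, d = gcd(m_1, …, m_n), and L_i invertible O_X-modules with L_i ⊗ I(Γ_i) ≅ O_X (that is,
L_i = O_X(Γ_i)). Let h ≥ 1 and put e = gcd(h, d). If M is an invertible O_X-module with M^{⊗h} ≅ O_X
whose pullback to C is trivial, then there is exactly one natural number k < e with M ≅ L_1^{k
m_1/e} ⊗ ⋯ ⊗ L_n^{k m_n/e} = O_X(k·(1/e)·X_s). In other words the kernel of Pic(X)[h] → Pic(C)[h] is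
cyclic of order gcd(h, d), generated by the class of O_X((1/e)·X_s). -/
theorem result (R : Type u) [CommRing R] [IsDomain R] [IsDiscreteValuationRing R]
    (C X : Scheme.{u}) (f : C ⟶ Spec (CommRingCat.of (FractionRing R))) (p : X ⟶ Spec (CommRingCat.of R))
    (hC : Curve.IsSmoothProperCurve (FractionRing R) C f) (hH0 : IsIso f.appTop)
    (hX : Models.IsRegularProperModel R X p C f)
    {n : ℕ} (Γ : Fin n → ArSurf.VertComp R (Over.mk p)) (hΓ : Models.IsComponentList R (Over.mk p) Γ)
    (g : C ⟶ X) (hg : IsPullback g f p (Spec.map (CommRingCat.ofHom (algebraMap R (FractionRing R)))))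
    (L : Fin n → X.Modules) (hL : ∀ i, ClSub.IsInverseOf (L i) (ClSub.idealMod (Γ i).ι.ker))
    (h : ℕ) (hh : 0 < h)
    (M : X.Modules) (hM : PicF.IsInvertible M)
    (htors : Nonempty (CohB1.tensorPow M h ≅ Coh.structureModule X))
    (htriv : Nonempty ((Scheme.Modules.pullback g).obj M ≅ Coh.structureModule C)) :
    ∃! k : ℕ, k < Nat.gcd h (Models.multGcd R (Over.mk p) Γ) ∧
      Nonempty (M ≅ FGA.multiTwist L (fun i => k * (Models.mult R (Over.mk p) (Γ i) / Nat.gcd h (Models.multGcd R (Over.mk p) Γ)))) := by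
  obtain ⟨⟨hflat, hlft, hqc, g', hsq'⟩, hproper, hreg⟩ := hX
  haveI : Flat (Over.mk p).hom := hflat
  haveI : Flat p := hflat
  haveI : IsProper p := hproper
  have hX' : Models.IsRegularProperModel R X p C f :=
    ⟨⟨hflat, hlft, hqc, g', hsq'⟩, hproper, hreg⟩
  obtain ⟨ϖ, hϖ⟩ := IsDiscreteValuationRing.exists_irreducible R
  have hbij := Groth.Agent.Lib.Helper25.ModelGamma.toSec_top_bijective R f p g hg hH0
  have hsurj : ∀ h : Γ((Over.mk p).left, ⊤), ∃ r : R,
      Groth.Agent.Lib.Helper7.FibFacB.unif (Over.mk p) r = h := by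
    intro h
    obtain ⟨r, hr⟩ := hbij.2 h
    refine ⟨r, ?_⟩
    rw [← hr]
    unfold Groth.Agent.Lib.Helper7.FibFacB.unif Coh.toGlobal Groth.Agent.Lib.Helper17.SpecBC.toSec
    simp only [Scheme.Hom.appLE, CommRingCat.hom_comp, RingHom.coe_comp, Function.comp_apply]
    change _ = (X.presheaf.map (𝟙 (Opposite.op (⊤ : X.Opens)))).hom _
    rw [X.presheaf.map_id]
    rfl
  have hne : (Models.specialFibreSet R (Over.mk p)).Nonempty := by
    have hiso : IsIso (p.app ⊤) :=
      Groth.Agent.Lib.Helper25.ModelGamma.isIso_app_of_isAffineOpen R f p g hg hH0 ⊤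
        (isAffineOpen_top _)
    exact (Groth.Agent.Lib.Helper13.ZariskiConn.isConnected_preimage_singleton p
      (IsLocalRing.closedPoint R) (isAffineOpen_top _) trivial hiso).nonempty
  haveI : IsOpenImmersion (Spec.map (CommRingCat.ofHom (algebraMap R (FractionRing R)))) := by
    haveI : IsLocalization.Away ϖ (FractionRing R) :=
      Groth.Agent.Lib.Helper1.DVRFib.isLocalization_away_of_dvr R (FractionRing R) ϖ hϖ
    exact IsOpenImmersion.of_isLocalization ϖ
  haveI : IsOpenImmersion g :=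
    MorphismProperty.of_isPullback (P := @IsOpenImmersion) hg.flip inferInstance
  obtain ⟨m, hm⟩ := Groth.Agent.Lib.Helper7.MTwC.exists_isGen_of_pullback_iso g M htriv
  have hle := Groth.Agent.Lib.Helper7.MTwC.basicOpen_le_image R (Over.mk p) f g hg ϖ hϖ
  have hMT := Groth.Agent.Lib.Helper7.MTwC.exists_multiTwist_of_isGen R (Over.mk p)
    hproper hreg Γ hΓ L hL ϖ hϖ M hM _ (hm.mono hle)
  have htors' : PicF.cl M ^ h = 1 := by
    obtain ⟨e⟩ := htors
    rw [← Groth.Agent.Lib.Helper7.MTwA.cl_tensorPow]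
    exact (Groth.Agent.Lib.Helper7.MTwA.cl_eq_one_iff _).2 ⟨e.symm⟩
  obtain ⟨k, ⟨hk1, hk2⟩, huniq⟩ := Groth.Agent.Lib.Helper7.MTwD.main19918 R (Over.mk p)
    hproper hreg Γ hΓ L hL
    (fun i j hij => (Groth.Agent.S3317.result R C X f p hC hH0 hX' Γ hΓ L hL i j hij).1)
    (fun I hI hI' => Groth.Agent.S3319.result R C X f p hC hH0 hX' Γ hΓ L hL I hI hI')
    hsurj hne h hh M htors' hMT
  exact ⟨k, ⟨hk1, (Groth.Agent.Lib.Helper13.ClMon.cl_eq_iff _ _).1 hk2⟩, fun k' hk' =>
    huniq k' ⟨hk'.1, (Groth.Agent.Lib.Helper13.ClMon.cl_eq_iff _ _).2 hk'.2⟩⟩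

end Groth.Agent.S19918
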