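import Groth.Statements.S1992
import Mathlib.RingTheory.Localization.AtPrime.Basic
import Mathlib.Algebra.Polynomial.Splits
import Mathlib.RingTheory.Localization.Integral
import Mathlib.RingTheory.Polynomial.ScaleRoots
import Mathlib.FieldTheory.IsSepClosed

set_option autoImplicit false
universe u
open Polynomial
open EtAlg

namespace Groth.Agent.S1992

/-- every monic polynomial of positive degree over the localization has a root -/
theorem exists_root_loc (A : Type u) [CommRing A]
    (hA : ∀ f : A[X], f.Monic → ∃ s : Multiset A, f = (s.map fun a => X - C a).prod)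
    (p : Ideal A) [p.IsPrime] (f : (Localization.AtPrime p)[X]) (hf : f.Monic)
    (hdeg : 0 < f.natDegree) : ∃ x, f.IsRoot x := by
  have h1 := IsLocalization.scaleRoots_commonDenom_mem_lifts p.primeCompl f
    (by rw [hf.leadingCoeff]; exact one_mem _)
  set b := IsLocalization.commonDenom p.primeCompl f.support f.coeff with hb
  have hmon : (f.scaleRoots (algebraMap A (Localization.AtPrime p) b)).Monic := by
    rwa [Polynomial.monic_scaleRoots_iff]
  obtain ⟨G, hG1, hG2, hG3⟩ := lifts_and_natDegree_eq_and_monic h1 hmon
  obtain ⟨s, hs⟩ := hA G hG3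
  have hcard : s.card = f.natDegree := by
    have : G.natDegree = s.card := by
      rw [hs]
      haveI : Nontrivial A := ⟨⟨0, 1, fun h => p.ne_top_iff_one.mp ‹p.IsPrime›.ne_top (h ▸ p.zero_mem)⟩⟩
      exact natDegree_multiset_prod_X_sub_C_eq_card s
    rw [← this, hG2, natDegree_scaleRoots]
  have hne : s ≠ 0 := by
    intro h0
    rw [h0] at hcard
    simp at hcard
    omega
  obtain ⟨c, hc⟩ := Multiset.exists_mem_of_ne_zero hne
  have hGc : G.eval c = 0 := by
    rw [hs, eval_multiset_prod]
    apply Multiset.prod_eq_zero
    rw [Multiset.mem_map]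
    refine ⟨X - C c, Multiset.mem_map.mpr ⟨c, hc, rfl⟩, by simp⟩
  have hbu : IsUnit (algebraMap A (Localization.AtPrime p) b) :=
    IsLocalization.map_units (Localization.AtPrime p) b
  obtain ⟨w, hw⟩ := hbu.exists_right_inv
  refine ⟨w * algebraMap A (Localization.AtPrime p) c, ?_⟩
  have h2 : (f.scaleRoots (algebraMap A (Localization.AtPrime p) b)).eval
      (algebraMap A (Localization.AtPrime p) c) = 0 := by
    rw [← hG1, eval_map, eval₂_at_apply, hGc, map_zero]
  have h3 := scaleRoots_eval_mul f (w * algebraMap A (Localization.AtPrime p) c)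
    (algebraMap A (Localization.AtPrime p) b)
  rw [← mul_assoc, hw, one_mul, h2] at h3
  exact ((hbu.pow _).mul_right_eq_zero.mp h3.symm)

/-- Let A be an absolutely integrally closed ring, i.e. every monic polynomial over A is a product of
linear factors X - a. Then for every prime p of A the localization A_p is a strictly henselian local
ring (henselian with separably closed residue field). -/
theorem result (A : Type u) [CommRing A]
    (hA : ∀ f : A[X], f.Monic → ∃ s : Multiset A, f = (s.map fun a => X - C a).prod)
    (p : Ideal A) [p.IsPrime] :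
    EtCoh.IsStrictlyHenselianLocalRing (Localization.AtPrime p) := by
  have key : ∀ n : ℕ, ∀ f : (Localization.AtPrime p)[X], f.Monic → f.natDegree = n →
      ∀ a₀, f.eval a₀ ∈ IsLocalRing.maximalIdeal (Localization.AtPrime p) →
      ∃ a, f.IsRoot a ∧ a - a₀ ∈ IsLocalRing.maximalIdeal (Localization.AtPrime p) := by
    intro n
    induction n with
    | zero =>
      intro f hf hdeg a₀ h
      rw [Monic.natDegree_eq_zero hf] at hdeg
      rw [hdeg, eval_one] at h
      exact absurd h (by
        rw [IsLocalRing.mem_maximalIdeal, mem_nonunits_iff, not_not]; exact isUnit_one)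
    | succ n ih =>
      intro f hf hdeg a₀ h
      obtain ⟨c, hc⟩ := exists_root_loc A hA p f hf (by omega)
      have hfac := mul_divByMonic_eq_iff_isRoot.mpr hc
      set f₁ := f /ₘ (X - C c) with hf₁
      have hf₁mon : f₁.Monic := by
        have := hf
        rw [← hfac] at this
        exact (monic_X_sub_C c).of_mul_monic_left this
      have hf₁deg : f₁.natDegree = n := by
        have := congrArg natDegree hfac
        rw [(monic_X_sub_C c).natDegree_mul hf₁mon, natDegree_X_sub_C, hdeg] at this
        omega
      have heval : f.eval a₀ = (a₀ - c) * f₁.eval a₀ := by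
        rw [← hfac]; simp
      rw [heval] at h
      rcases (IsLocalRing.maximalIdeal.isMaximal _).isPrime.mem_or_mem h with h' | h'
      · refine ⟨c, hc, ?_⟩
        have : c - a₀ = -(a₀ - c) := by ring
        rw [this]
        exact neg_mem h'
      · obtain ⟨a, ha, ha'⟩ := ih f₁ hf₁mon hf₁deg a₀ h'
        refine ⟨a, ?_, ha'⟩
        rw [IsRoot.def, ← hfac, eval_mul, ha.eq_zero, mul_zero]
  have hH : HenselianLocalRing (Localization.AtPrime p) :=
    { is_henselian := fun f hf a₀ h _ => key _ f hf rfl a₀ h }
  refine ⟨hH, ?_⟩
  apply IsSepClosed.of_exists_root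
  intro q hq hirr _
  obtain ⟨Q, hQ1, hQ2, hQ3⟩ := lifts_and_natDegree_eq_and_monic
    (f := IsLocalRing.residue (Localization.AtPrime p))
    (p := q) (by
      rw [lifts_iff_coeff_lifts]
      intro n
      exact IsLocalRing.residue_surjective _) hq
  have hdeg : 0 < Q.natDegree := by
    rw [hQ2]
    exact hirr.natDegree_pos
  obtain ⟨x, hx⟩ := exists_root_loc A hA p Q hQ3 hdeg
  refine ⟨IsLocalRing.residue _ x, ?_⟩
  rw [← hQ1, eval_map, eval₂_at_apply, hx.eq_zero, map_zero]

end Groth.Agent.S1992
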