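import Groth.Statements.S19924
import Groth.Agent.Lib.Helper7.MTwE
import Groth.Agent.Lib.Helper25.ModelGamma
import Groth.Agent.S3317
import Groth.Agent.S3319

set_option autoImplicit false
universe u
open CategoryTheory CategoryTheory.Limits AlgebraicGeometry
open Models

namespace Groth.Agent.S19924

/-- Let R be a discrete valuation ring with fraction field K, C a smooth proper curve over K with H^0(C,
O_C) = K, X a regular proper model of C with generic-fibre inclusion g : C → X, Γ_1, …, Γ_n the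
irreducible components of the closed fibre with multiplicities m_1, …, m_n, and L_i invertible
O_X-modules with L_i ⊗ I(Γ_i) ≅ O_X. Let h ≥ 1, let N be an invertible O_C-module with N^{⊗h} ≅ O_C,
let M be an invertible O_X-module whose pullback to C is N, and let a, b be exponent vectors with
M^{⊗h} ⊗ L_1^{a_1} ⊗ ⋯ ⊗ L_n^{a_n} ≅ L_1^{b_1} ⊗ ⋯ ⊗ L_n^{b_n}, i.e. M^{⊗h} ≅ O_X(Σ (b_i − a_i)
Γ_i). Then N is the pullback of some invertible O_X-module M' with M'^{⊗h} ≅ O_X if and only if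
there are integers c_1, …, c_n and e with b_i − a_i = h c_i + e m_i for all i: the class of Σ (b_i −
a_i) Γ_i modulo h ℤ^n + ℤ·(m_1, …, m_n) is the obstruction to lifting the h-torsion class N to an
h-torsion class on X. -/
theorem result (R : Type u) [CommRing R] [IsDomain R] [IsDiscreteValuationRing R]
    (C X : Scheme.{u}) (f : C ⟶ Spec (CommRingCat.of (FractionRing R))) (p : X ⟶ Spec (CommRingCat.of R))
    (hC : Curve.IsSmoothProperCurve (FractionRing R) C f) (hH0 : IsIso f.appTop)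
    (hX : Models.IsRegularProperModel R X p C f)
    {n : ℕ} (Γ : Fin n → ArSurf.VertComp R (Over.mk p)) (hΓ : Models.IsComponentList R (Over.mk p) Γ)
    (g : C ⟶ X) (hg : IsPullback g f p (Spec.map (CommRingCat.ofHom (algebraMap R (FractionRing R)))))
    (L : Fin n → X.Modules) (hL : ∀ i, ClSub.IsInverseOf (L i) (ClSub.idealMod (Γ i).ι.ker))
    (h : ℕ) (hh : 0 < h)
    (N : C.Modules) (hN : PicF.IsInvertible N) (hNt : Nonempty (CohB1.tensorPow N h ≅ Coh.structureModule C))
    (M : X.Modules) (hM : PicF.IsInvertible M) (hMN : Nonempty ((Scheme.Modules.pullback g).obj M ≅ N))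
    (a b : Fin n → ℕ)
    (hab : Nonempty (CohB1.tensorMod (CohB1.tensorPow M h) (FGA.multiTwist L a) ≅ FGA.multiTwist L b)) :
    (∃ M' : X.Modules, PicF.IsInvertible M' ∧ Nonempty (CohB1.tensorPow M' h ≅ Coh.structureModule X) ∧
        Nonempty ((Scheme.Modules.pullback g).obj M' ≅ N)) ↔
      ∃ (c : Fin n → ℤ) (e : ℤ), ∀ i, ((b i : ℤ) - (a i : ℤ)) = (h : ℤ) * c i + e * (Models.mult R (Over.mk p) (Γ i) : ℤ) := by
  obtain ⟨⟨hflat, hlft, hqc, g', hsq'⟩, hproper, hreg⟩ := hX
  haveI : Flat (Over.mk p).hom := hflat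
  haveI : Flat p := hflat
  haveI : IsProper p := hproper
  have hX' : Models.IsRegularProperModel R X p C f :=
    ⟨⟨hflat, hlft, hqc, g', hsq'⟩, hproper, hreg⟩
  obtain ⟨ϖ, hϖ⟩ := IsDiscreteValuationRing.exists_irreducible R
  have hbij := Groth.Agent.Lib.Helper25.ModelGamma.toSec_top_bijective R f p g hg hH0
  have hsurj : ∀ h : Γ((Over.mk p).left, ⊤), ∃ r : R,
      Groth.Agent.Lib.Helper7.FibFacB.unif (Over.mk p) r = h := by
    intro h
    obtain ⟨r, hr⟩ := hbij.2 h
    refine ⟨r, ?_⟩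
    rw [← hr]
    unfold Groth.Agent.Lib.Helper7.FibFacB.unif Coh.toGlobal Groth.Agent.Lib.Helper17.SpecBC.toSec
    simp only [Scheme.Hom.appLE, CommRingCat.hom_comp, RingHom.coe_comp, Function.comp_apply]
    change _ = (X.presheaf.map (𝟙 (Opposite.op (⊤ : X.Opens)))).hom _
    rw [X.presheaf.map_id]
    rfl
  haveI : IsOpenImmersion (Spec.map (CommRingCat.ofHom (algebraMap R (FractionRing R)))) := by
    haveI : IsLocalization.Away ϖ (FractionRing R) :=
      Groth.Agent.Lib.Helper1.DVRFib.isLocalization_away_of_dvr R (FractionRing R) ϖ hϖ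
    exact IsOpenImmersion.of_isLocalization ϖ
  haveI : IsOpenImmersion g :=
    MorphismProperty.of_isPullback (P := @IsOpenImmersion) hg.flip inferInstance
  have hle := Groth.Agent.Lib.Helper7.MTwC.basicOpen_le_image R (Over.mk p) f g hg ϖ hϖ
  have hMN' : PicF.pullCl g (PicF.cl M) = PicF.cl N := by
    rw [Groth.Agent.Lib.Helper13.ClMon.pullCl_cl]
    exact (Groth.Agent.Lib.Helper13.ClMon.cl_eq_iff _ _).2 hMN
  have hab' : PicF.cl M ^ h * PicF.cl (FGA.multiTwist L a) = PicF.cl (FGA.multiTwist L b) := by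
    rw [← Groth.Agent.Lib.Helper7.MTwA.cl_tensorPow, Groth.Agent.Lib.Helper13.ClMon.cl_mul]
    exact (Groth.Agent.Lib.Helper13.ClMon.cl_eq_iff _ _).2 hab
  have key := Groth.Agent.Lib.Helper7.MTwE.main19924 R (Over.mk p) hproper hreg Γ hΓ L hL f g hg
    (fun i j hij => (Groth.Agent.S3317.result R C X f p hC hH0 hX' Γ hΓ L hL i j hij).1)
    (fun I hI hI' => Groth.Agent.S3319.result R C X f p hC hH0 hX' Γ hΓ L hL I hI hI')
    hsurj ϖ hϖ hle h N M hM hMN' a b hab'
  rw [← key]
  constructor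
  · rintro ⟨M', hM', ⟨e1⟩, h2⟩
    refine ⟨M', hM', ?_, ?_⟩
    · rw [← Groth.Agent.Lib.Helper7.MTwA.cl_tensorPow]
      exact (Groth.Agent.Lib.Helper7.MTwA.cl_eq_one_iff _).2 ⟨e1.symm⟩
    · rw [Groth.Agent.Lib.Helper13.ClMon.pullCl_cl]
      exact (Groth.Agent.Lib.Helper13.ClMon.cl_eq_iff _ _).2 h2
  · rintro ⟨M', hM', h1, h2⟩
    refine ⟨M', hM', ?_, ?_⟩
    · rw [← Groth.Agent.Lib.Helper7.MTwA.cl_tensorPow,
        Groth.Agent.Lib.Helper7.MTwA.cl_eq_one_iff] at h1
      obtain ⟨e1⟩ := h1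
      exact ⟨e1.symm⟩
    · rw [Groth.Agent.Lib.Helper13.ClMon.pullCl_cl] at h2
      exact (Groth.Agent.Lib.Helper13.ClMon.cl_eq_iff _ _).1 h2

end Groth.Agent.S19924
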