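import Groth.Statements.S1996
import Groth.Agent.Lib.Helper2.FlatCancel

set_option autoImplicit false
universe u
open EtAlg

namespace Groth.Agent.S1996

open Groth.Agent.Lib.Helper2 TensorProduct


/-- Let A -> B -> C be ring maps with B -> C faithfully flat. Weak etaleness of A -> C then implies weak
etaleness of A -> B. -/
theorem result (A B C : Type u) [CommRing A] [CommRing B] [CommRing C] [Algebra A B]
    [Algebra B C] [Algebra A C] [IsScalarTower A B C] [Module.FaithfullyFlat B C] [Algebra.WeaklyEtale A C] :
    Algebra.WeaklyEtale A B := by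
  have hAB : Module.Flat A B := flat_of_flat_of_faithfullyFlat A B C
  refine ⟨hAB, ?_⟩
  let ι : B →ₐ[A] C := IsScalarTower.toAlgHom A B C
  have hι : (algebraMap B C).FaithfullyFlat := RingHom.faithfullyFlat_algebraMap_iff.mpr inferInstance
  have hιf : ι.Flat := by
    have : (algebraMap B C).Flat := hι.flat
    exact this
  have hcomm : (algebraMap B C).comp (Algebra.TensorProduct.lmul' A (S := B)).toRingHom =
      ((Algebra.TensorProduct.lmul' A (S := C)).comp (Algebra.TensorProduct.map ι ι)).toRingHom := by
    have : (ι.comp (Algebra.TensorProduct.lmul' A (S := B))) =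
        ((Algebra.TensorProduct.lmul' A (S := C)).comp (Algebra.TensorProduct.map ι ι)) := by
      ext <;> simp
    exact congrArg AlgHom.toRingHom this
  apply RingHom.Flat.of_comp_of_faithfullyFlat _ (algebraMap B C) hι
  rw [hcomm]
  exact RingHom.Flat.comp (RingHom.Flat.tensorProductMap hιf hιf) (Algebra.WeaklyEtale.flat_lmul' A C)

end Groth.Agent.S1996
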