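import Groth.Statements.S19967
import Mathlib

set_option autoImplicit false
universe u
open CategoryTheory CategoryTheory.Limits AlgebraicGeometry
open FlatMor

namespace Groth.Agent.S19967

/-- Let f : S' → S be a flat morphism of locally Noetherian schemes, i : C → S and i' : C' → S' closed
immersions with C and C' integral, and g : C' → C with g ≫ i = i' ≫ f. Let φ : C' → C ×_S S' be the
induced morphism and η ∈ S the image of the generic point of C. If φ becomes an isomorphism after
base change along the canonical morphism Spec O_{S,η} → S (that is, after pulling back to (C ×_S S')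
×_S Spec O_{S,η}), then φ is an isomorphism. (In the source S and S' are excellent surfaces over an
algebraically closed field, C and C' regular curves not inside the singular loci, and the
isomorphism over Spec O_{S,η} is part of the definition of a morphism of surface-curve pairs; those
extra hypotheses play no part.) -/
theorem result
    {S S' C C' : Scheme.{u}} [IsLocallyNoetherian S] [IsLocallyNoetherian S']
    (f : S' ⟶ S) [Flat f] (i : C ⟶ S) [IsClosedImmersion i] [IsIntegral C]
    (i' : C' ⟶ S') [IsClosedImmersion i'] [IsIntegral C']
    (g : C' ⟶ C) (hsq : g ≫ i = i' ≫ f)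
    (hgen : IsIso (pullback.snd (pullback.lift g i' hsq)
      (pullback.fst (pullback.fst i f ≫ i) (S.fromSpecStalk (i.base (genericPoint C)))))) :
    IsIso (pullback.lift g i' hsq) := by
  set a := pullback.fst i f with ha
  set σ := S.fromSpecStalk (i.base (genericPoint C)) with hσ
  set φ := pullback.lift g i' hsq with hφ
  set pr := pullback.fst (a ≫ i) σ with hpr
  -- `φ` is a closed immersion
  haveI : IsClosedImmersion (φ ≫ pullback.snd i f) := by
    rw [hφ, pullback.lift_snd]; infer_instance
  haveI : IsClosedImmersion φ := IsClosedImmersion.of_comp φ (pullback.snd i f)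
  -- the generic-point inclusion on `C`
  let c := pullback.fst i σ
  haveI : QuasiCompact σ := inferInstance
  haveI : QuasiCompact c := inferInstance
  haveI : IsDominant c := by
    rw [isDominant_iff, DenseRange]
    refine Dense.mono ?_ (dense_iff_closure_eq.mpr (genericPoint_spec C))
    intro x hx
    rw [Set.mem_singleton_iff] at hx
    subst hx
    rw [Scheme.Pullback.range_fst, Set.mem_preimage, Scheme.range_fromSpecStalk]
    exact specializes_rfl
  haveI : IsSchemeTheoreticallyDominant c := IsSchemeTheoreticallyDominant.of_isDominant c
  haveI : Flat a := inferInstance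
  -- `pr` is a base change of `c` along the flat `a`
  let l : pullback (a ≫ i) σ ⟶ pullback i σ :=
    pullback.lift (pr ≫ a) (pullback.snd (a ≫ i) σ) (by
      rw [Category.assoc]; exact pullback.condition)
  have hsqL : IsPullback l pr c a := by
    refine IsPullback.of_right ?_ (pullback.lift_fst _ _ _) (IsPullback.of_hasPullback i σ).flip
    rw [pullback.lift_snd]
    exact (IsPullback.of_hasPullback (a ≫ i) σ).flip
  haveI : IsSchemeTheoreticallyDominant pr := IsSchemeTheoreticallyDominant.of_isPullback hsqL
  -- conclude
  haveI := hgen
  rw [IsClosedImmersion.isIso_iff_ker_eq_bot, ← le_bot_iff]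
  have h1 : pr = inv (pullback.snd φ pr) ≫ pullback.fst φ pr ≫ φ := by
    rw [pullback.condition (f := φ) (g := pr), IsIso.inv_hom_id_assoc]
  calc φ.ker ≤ (inv (pullback.snd φ pr) ≫ pullback.fst φ pr ≫ φ).ker := by
        rw [← Category.assoc]; exact Scheme.Hom.le_ker_comp _ _
    _ = pr.ker := by rw [← h1]
    _ = ⊥ := pr.ker_eq_bot

end Groth.Agent.S19967
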