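import Groth.Statements.S19968
import Mathlib
import Groth.Agent.Lib.Helper3.InvSum


set_option autoImplicit false
universe u
open CategoryTheory AlgebraicGeometry Opposite
open LinSer

namespace Groth.Agent.S19968

open TopologicalSpace
open Groth.Agent.Lib.Helper3 Groth.Agent.Lib.Helper3.QCSec Groth.Agent.Lib.Helper3.InvGen
  Groth.Agent.Lib.Helper3.InvAmple

theorem exists_ne_zero_kernel {k : Type*} [Field k] (n : ℕ) (A : Fin n → Fin (n+1) → k) :
    ∃ c : Fin (n+1) → k, c ≠ 0 ∧ ∀ i, ∑ j, c j * A i j = 0 := by
  let f : (Fin (n+1) → k) →ₗ[k] (Fin n → k) :=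
    { toFun := fun c i => ∑ j, c j * A i j
      map_add' := by
        intro c d; funext i
        simp [add_mul, Finset.sum_add_distrib]
      map_smul' := by
        intro r c; funext i
        simp [Finset.mul_sum, mul_assoc] }
  by_contra hcon
  push_neg at hcon
  have hinj : Function.Injective f := by
    rw [injective_iff_map_eq_zero]
    intro c hc
    by_contra hne
    obtain ⟨i, hi⟩ := hcon c hne
    exact hi (congrFun hc i)
  have := LinearMap.finrank_le_finrank_of_injective hinj
  simp at this

theorem exists_eval (k : Type u) [Field k] (X : Scheme.{u}) [X.Over (Spec (CommRingCat.of k))]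
    (p : Spec (CommRingCat.of k) ⟶ X) (hp : p ≫ (X ↘ Spec (CommRingCat.of k)) = 𝟙 _)
    (V : X.Opens) (hV : p (IsLocalRing.closedPoint k) ∈ V) :
    ∃ ev : Γ(X, V) →+* k,
      (∀ c : k, ev (rres X le_top (Coh.toGlobal (X ↘ Spec (CommRingCat.of k)) c)) = c) ∧
      ∀ a : Γ(X, V), ev a = 0 → p (IsLocalRing.closedPoint k) ∉ X.basicOpen a := by
  have htop : (⊤ : (Spec (CommRingCat.of k)).Opens) ≤ p ⁻¹ᵁ V := by
    intro y _
    have : y = IsLocalRing.closedPoint k :=
      (inferInstance : Subsingleton (PrimeSpectrum k)).elim _ _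
    rw [this]; exact hV
  refine ⟨(Scheme.ΓSpecIso (CommRingCat.of k)).hom.hom.comp (p.appLE V ⊤ htop).hom, ?_, ?_⟩
  · intro c
    have h1 : X.presheaf.map (homOfLE (le_top : V ≤ ⊤)).op ≫ p.appLE V ⊤ htop = p.appTop := by
      rw [Scheme.Hom.map_appLE]
      simp [Scheme.Hom.appLE, Scheme.Hom.appTop]
    have h2 : (X ↘ Spec (CommRingCat.of k)).appTop ≫ p.appTop = 𝟙 _ := by
      rw [← Scheme.Hom.comp_appTop, hp, Scheme.Hom.id_appTop]
    have h3 : (p.appLE V ⊤ htop).hom (rres X le_top
        (Coh.toGlobal (X ↘ Spec (CommRingCat.of k)) c)) =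
        (Scheme.ΓSpecIso (CommRingCat.of k)).inv.hom c := by
      have := congrArg (fun φ => φ.hom ((X ↘ Spec (CommRingCat.of k)).appTop.hom
        ((Scheme.ΓSpecIso (CommRingCat.of k)).inv.hom c))) h1
      refine this.trans ?_
      have := congrArg (fun φ => φ.hom ((Scheme.ΓSpecIso (CommRingCat.of k)).inv.hom c)) h2
      exact this
    change (Scheme.ΓSpecIso (CommRingCat.of k)).hom.hom ((p.appLE V ⊤ htop).hom _) = c
    rw [h3]
    exact congrArg (fun φ => φ.hom c) (Scheme.ΓSpecIso (CommRingCat.of k)).inv_hom_id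
  · intro a ha hmem
    have h0 : (p.appLE V ⊤ htop).hom a = 0 := by
      have hinj : Function.Injective (Scheme.ΓSpecIso (CommRingCat.of k)).hom.hom :=
        ((ConcreteCategory.isIso_iff_bijective
          (Scheme.ΓSpecIso (CommRingCat.of k)).hom).mp inferInstance).1
      apply hinj
      rw [map_zero]
      exact ha
    have hb := Scheme.basicOpen_appLE p ⊤ V htop a
    have hb' : (Spec (CommRingCat.of k)).basicOpen ((p.appLE V ⊤ htop).hom a) = ⊥ := by
      rw [h0]; exact Scheme.basicOpen_zero _ _
    have hmem' : (IsLocalRing.closedPoint k : Spec (CommRingCat.of k)) ∈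
        (⊤ : (Spec (CommRingCat.of k)).Opens) ⊓ p ⁻¹ᵁ (X.basicOpen a) := ⟨trivial, hmem⟩
    rw [← hb] at hmem'
    rw [show (p.appLE V ⊤ htop) a = (p.appLE V ⊤ htop).hom a from rfl, hb'] at hmem'
    exact hmem'

/-- the structure map `k → Γ(X, ⊤)` -/
noncomputable def gk (k : Type u) [Field k] (X : Scheme.{u}) [X.Over (Spec (CommRingCat.of k))]
    (c : k) : Γ(X, ⊤) := Coh.toGlobal (X ↘ Spec (CommRingCat.of k)) c

theorem linIndep_apply (k : Type u) [Field k] (X : Scheme.{u}) [X.Over (Spec (CommRingCat.of k))]
    (L : X.Modules) {n : ℕ} (t : Fin n → (Coh.structureModule X ⟶ L))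
    (ht : LinSer.LinIndep k X L (fun j => (L.unitHomEquiv (t j)).val (op ⊤)))
    (c : Fin n → k) (h : ∑ j, (gk k X (c j) • sec (t j) ⊤ : Γ(L, ⊤)) = 0) : c = 0 :=
  ht c h

/-- Rational points impose at most one condition each on a complete linear system. Let k be a field, X a
scheme over k, L an invertible O_X-module, and p_1, …, p_n morphisms Spec k → X over k (k-rational
points). Suppose there are n + 1 global sections of L, given as morphisms t_0, …, t_n : O_X → L,
whose values in Γ(X, L) are linearly independent over k. Then there is a nonzero morphism s : O_X →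
L such that no p_i lands in the open X_s where s generates L; that is, s vanishes at every p_i and
the p_i lie on a common member of the complete linear system of L. (The source has X an irreducible
projective variety over the complex numbers, L base-point-free and the points closed, and phrases
this as surjectivity of the incidence correspondence onto X^n for n at most the dimension of the
linear system; only rationality of the points and the dimension count are used, and
base-point-freeness plays no part in this item.) -/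
theorem result
    (k : Type u) [Field k] (X : Scheme.{u}) [X.Over (Spec (CommRingCat.of k))]
    (L : X.Modules) (hL : PicF.IsInvertible L)
    (n : ℕ) (p : Fin n → (Spec (CommRingCat.of k) ⟶ X))
    (hp : ∀ i, p i ≫ (X ↘ Spec (CommRingCat.of k)) = 𝟙 _)
    (t : Fin (n + 1) → (Coh.structureModule X ⟶ L))
    (ht : LinSer.LinIndep k X L (fun j => (L.unitHomEquiv (t j)).val (op ⊤))) :
    ∃ s : Coh.structureModule X ⟶ L, s ≠ 0 ∧
      ∀ i, (p i) (IsLocalRing.closedPoint k) ∉ CohB1.genLocus L s := by
  classical
  choose V e hxV hg using fun i => exists_isGen hL ((p i) (IsLocalRing.closedPoint k))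
  have hcoord : ∀ i j, ∃ a : Γ(X, V i), sec (t j) (V i) = a • e i := fun i j => by
    obtain ⟨a, ha⟩ := (hg i).self.exists_coord (sec (t j) (V i))
    exact ⟨a, ha.symm⟩
  choose a ha using hcoord
  choose ev hev1 hev2 using fun i => exists_eval k X (p i) (hp i) (V i) (hxV i)
  obtain ⟨c, hc0, hc⟩ := exists_ne_zero_kernel n (fun i j => ev i (a i j))
  let m : Γ(L, ⊤) := ∑ j, (gk k X (c j) • sec (t j) ⊤ : Γ(L, ⊤))
  refine ⟨globalHom L m, ?_, ?_⟩
  · intro h0
    have h1 : sec (globalHom L m) ⊤ = 0 := by rw [h0]; rfl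
    rw [sec_globalHom, res_self] at h1
    exact hc0 (linIndep_apply k X L t ht c h1)
  · intro i hi
    have hsec : sec (globalHom L m) (V i) =
        (∑ j, rres X le_top (gk k X (c j)) * a i j) • e i := by
      rw [sec_globalHom]
      have : res L (le_top : V i ≤ ⊤) m = ∑ j, res L (le_top : V i ≤ ⊤)
          ((gk k X (c j) • sec (t j) ⊤ : Γ(L, ⊤))) :=
        map_sum (L.presheaf.map (homOfLE (le_top : V i ≤ ⊤)).op).hom _ _
      rw [this, Finset.sum_smul]
      refine Finset.sum_congr rfl fun j _ => ?_
      rw [res_smul, res_sec, ha i j, mul_smul]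
    have hb := genLocus_inf_eq_basicOpen (globalHom L m) (hg i) _ hsec
    have hmem : (p i) (IsLocalRing.closedPoint k) ∈ X.basicOpen
        (∑ j, rres X le_top (gk k X (c j)) * a i j) := by
      rw [← hb]; exact ⟨hi, hxV i⟩
    refine hev2 i _ ?_ hmem
    rw [map_sum]
    simp only [map_mul, gk, hev1]
    exact hc i

end Groth.Agent.S19968
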