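import Groth.Statements.S19974
import Mathlib

set_option autoImplicit false
universe u v w x
open scoped BigOperators
open DefMod

namespace Groth.Agent.S19974

/-- Let K be a field of characteristic 0, O a commutative K-algebra with a K-linear derivation δ, and D
the ring of differential operators O[∂], presented abstractly as a K-algebra D with an algebra map ι
: O → D and an element ∂ of D such that ∂ ι(f) = ι(f) ∂ + ι(δ f) for every f in O and such that
every element of D is in a unique way a finite sum of terms ι(f_i) ∂^i. Let E be a left D-module,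
given as a K-vector space with a K-algebra map ρ : D → End_K(E), which is finite free as an
O-module. A K-derivation of D with values in the D-bimodule End_K(E) is a K-linear map s with s(PQ)
= s(P) ρ(Q) + ρ(P) s(Q); a K-derivation of O with values in End_K(E) is a K-linear map r with r(fg)
= r(f) ρ(ι g) + ρ(ι f) r(g). Then: (a) for every K-derivation s of D into End_K(E), the pair (r, v)
= (s ∘ ι, s(∂)) satisfies the identity [r(f), ρ(∂)] + [ρ(ι f), v] + r(δ f) = 0 for all f in O; (b)
conversely, for every K-derivation r of O into End_K(E) and every v in End_K(E) satisfying that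
identity for all f, there is exactly one K-derivation s of D into End_K(E) with s ∘ ι = r and s(∂) =
v. In other words s ↦ (s ∘ ι, s(∂)) maps the K-derivations of D injectively onto the pairs
satisfying the identity. -/
theorem result
    (K : Type u) [Field K] [CharZero K]
    (O : Type v) [CommRing O] [Algebra K O] (δ : Derivation K O O)
    (D : Type w) [Ring D] [Algebra K D] (ι : O →ₐ[K] D) (d : D)
    (hd : ∀ f : O, d * ι f = ι f * d + ι (δ f))
    (hbasis : Function.Bijective (fun c : ℕ →₀ O => c.sum (fun i f => ι f * d ^ i)))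
    (E : Type x) [AddCommGroup E] [Module K E] (ρ : D →ₐ[K] Module.End K E)
    (hE : ∃ (n : ℕ) (b : Fin n → E), Function.Bijective (fun c : Fin n → O => ∑ i, ρ (ι (c i)) (b i))) :
    (∀ s : D →ₗ[K] Module.End K E, (∀ P Q : D, s (P * Q) = s P * ρ Q + ρ P * s Q) →
      ∀ f : O, (s (ι f) * ρ d - ρ d * s (ι f)) + (ρ (ι f) * s d - s d * ρ (ι f)) + s (ι (δ f)) = 0) ∧
    ∀ (r : O →ₗ[K] Module.End K E) (v : Module.End K E),
      (∀ f g : O, r (f * g) = r f * ρ (ι g) + ρ (ι f) * r g) →
      (∀ f : O, (r f * ρ d - ρ d * r f) + (ρ (ι f) * v - v * ρ (ι f)) + r (δ f) = 0) →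
      ∃! s : D →ₗ[K] Module.End K E,
        (∀ P Q : D, s (P * Q) = s P * ρ Q + ρ P * s Q) ∧ s ∘ₗ ι.toLinearMap = r ∧ s d = v := by
  classical
  have hrel : ∀ f : O, ρ (ι (δ f)) = ρ d * ρ (ι f) - ρ (ι f) * ρ d := by
    intro f
    have := congrArg ρ (hd f)
    rw [map_mul, map_add, map_mul] at this
    rw [this]; abel
  refine ⟨?_, ?_⟩
  · intro s hs f
    have h1 := congrArg s (hd f)
    rw [hs, map_add, hs] at h1
    have : s (ι (δ f)) = s d * ρ (ι f) + ρ d * s (ι f) - s (ι f) * ρ d - ρ (ι f) * s d := by
      rw [h1]; abel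
    rw [this]; abel
  · intro r v hr hid
    -- the basis isomorphism
    let Ψ0 : (ℕ →₀ O) →ₗ[K] D :=
      Finsupp.lsum K (fun i => (LinearMap.mulRight K (d ^ i)).comp ι.toLinearMap)
    have hΨ0 : ∀ c, Ψ0 c = c.sum (fun i f => ι f * d ^ i) := by
      intro c
      show Finsupp.lsum K _ c = _
      rw [Finsupp.lsum_apply]; rfl
    have hΨbij : Function.Bijective Ψ0 := by
      have : (Ψ0 : (ℕ →₀ O) → D) = (fun c : ℕ →₀ O => c.sum (fun i f => ι f * d ^ i)) :=
        funext hΨ0
      rw [this]; exact hbasis
    have hΨsingle : ∀ i f, Ψ0 (Finsupp.single i f) = ι f * d ^ i := by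
      intro i f; simp [Ψ0]
    have ext_D : ∀ (s1 s2 : D →ₗ[K] Module.End K E),
        (∀ i f, s1 (ι f * d ^ i) = s2 (ι f * d ^ i)) → s1 = s2 := by
      intro s1 s2 h
      have h1 : s1.comp Ψ0 = s2.comp Ψ0 := by
        apply Finsupp.lhom_ext
        intro i f
        simp only [LinearMap.comp_apply, hΨsingle, h]
      refine LinearMap.ext (fun P => ?_)
      obtain ⟨c, rfl⟩ := hΨbij.2 P
      exact LinearMap.congr_fun h1 c
    let V : ℕ → Module.End K E := fun j => Nat.rec 0 (fun j Vj => v * ρ d ^ j + ρ d * Vj) j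
    have V0 : V 0 = 0 := rfl
    have Vs : ∀ j, V (j+1) = v * ρ d ^ j + ρ d * V j := fun j => rfl
    let σ : ℕ → O →ₗ[K] Module.End K E := fun i =>
      (LinearMap.mulRight K (ρ d ^ i)).comp r +
        (LinearMap.mulRight K (V i)).comp (ρ.toLinearMap.comp ι.toLinearMap)
    have hσ : ∀ i f, σ i f = r f * ρ d ^ i + ρ (ι f) * V i := by
      intro i f; rfl
    let s0 : (ℕ →₀ O) →ₗ[K] Module.End K E := Finsupp.lsum K σ
    let Ψ : (ℕ →₀ O) ≃ₗ[K] D := LinearEquiv.ofBijective Ψ0 hΨbij
    let s : D →ₗ[K] Module.End K E := s0.comp Ψ.symm.toLinearMap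
    have hs_basis : ∀ i f, s (ι f * d ^ i) = r f * ρ d ^ i + ρ (ι f) * V i := by
      intro i f
      have h1 : Ψ.symm (ι f * d ^ i) = Finsupp.single i f := by
        rw [← hΨsingle]; exact Ψ.symm_apply_apply _
      show s0 (Ψ.symm (ι f * d ^ i)) = _
      rw [h1]
      show Finsupp.lsum K σ (Finsupp.single i f) = _
      rw [Finsupp.lsum_single, hσ]
    have hr1 : r 1 = 0 := by
      have := hr 1 1
      rw [mul_one, map_one ι, map_one ρ, mul_one, one_mul] at this
      have h2 : r 1 + r 1 = r 1 + 0 := by rw [add_zero]; exact this.symm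
      exact add_left_cancel h2
    have hs_iota : ∀ f, s (ι f) = r f := by
      intro f
      have := hs_basis 0 f
      rw [pow_zero, mul_one, pow_zero, mul_one, V0, mul_zero, add_zero] at this
      exact this
    have hs_d : s d = v := by
      have := hs_basis 1 1
      have V1 : V 1 = v * ρ d ^ 0 + ρ d * V 0 := rfl
      rw [map_one ι, one_mul, pow_one, hr1, zero_mul, zero_add, map_one ρ, one_mul, V1, V0,
        pow_zero, mul_one, mul_zero, add_zero] at this
      exact this
    have hs_one : s 1 = 0 := by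
      have := hs_iota 1
      rw [map_one ι, hr1] at this; exact this
    -- Leibniz
    let S : AddSubmonoid D :=
      { carrier := {P | ∀ Q, s (P * Q) = s P * ρ Q + ρ P * s Q}
        zero_mem' := by intro Q; simp
        add_mem' := by
          intro P P' hP hP' Q
          rw [add_mul, map_add, hP Q, hP' Q, map_add, map_add, add_mul, add_mul]; abel }
    have memS : ∀ P, P ∈ S ↔ ∀ Q, s (P * Q) = s P * ρ Q + ρ P * s Q := fun P => Iff.rfl
    have S_of_basis : ∀ P, (∀ j g, s (P * (ι g * d ^ j)) = s P * ρ (ι g * d ^ j) + ρ P * s (ι g * d ^ j)) →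
        P ∈ S := by
      intro P h
      rw [memS]
      have : s.comp (LinearMap.mulLeft K P) =
          (LinearMap.mulLeft K (s P)).comp ρ.toLinearMap + (LinearMap.mulLeft K (ρ P)).comp s := by
        apply ext_D
        intro j g
        simpa using h j g
      intro Q
      have := LinearMap.congr_fun this Q
      simpa using this
    have S_iota : ∀ f, ι f ∈ S := by
      intro f
      apply S_of_basis
      intro j g
      rw [← mul_assoc, ← map_mul, hs_basis, hs_basis, hs_iota, hr, map_mul, map_mul, map_mul, map_pow]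
      noncomm_ring
    have S_d : d ∈ S := by
      apply S_of_basis
      intro j g
      have e1 : d * (ι g * d ^ j) = ι g * d ^ (j+1) + ι (δ g) * d ^ j := by
        rw [← mul_assoc, hd, add_mul, mul_assoc, ← pow_succ']
      rw [e1, map_add, hs_basis, hs_basis, hs_basis, hs_d, Vs, hrel, map_mul, map_pow, pow_succ']
      have h0 := hid g
      have key : (r g * (ρ d * ρ d ^ j) + ρ (ι g) * (v * ρ d ^ j + ρ d * V j) +
          (r (δ g) * ρ d ^ j + (ρ d * ρ (ι g) - ρ (ι g) * ρ d) * V j)) -
          (v * (ρ (ι g) * ρ d ^ j) + ρ d * (r g * ρ d ^ j + ρ (ι g) * V j)) =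
          ((r g * ρ d - ρ d * r g) + (ρ (ι g) * v - v * ρ (ι g)) + r (δ g)) * ρ d ^ j := by
        noncomm_ring
      rw [h0, zero_mul] at key
      exact sub_eq_zero.1 key
    have S_mul : ∀ P P', P ∈ S → P' ∈ S → P * P' ∈ S := by
      intro P P' hP hP'
      rw [memS] at hP hP' ⊢
      intro Q
      rw [mul_assoc, hP, hP', hP, map_mul, map_mul]
      noncomm_ring
    have S_one : (1 : D) ∈ S := by
      rw [memS]; intro Q
      rw [one_mul, hs_one, zero_mul, zero_add, map_one, one_mul]
    have S_pow : ∀ i, d ^ i ∈ S := by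
      intro i
      induction i with
      | zero => rw [pow_zero]; exact S_one
      | succ i ih => rw [pow_succ]; exact S_mul _ _ ih S_d
    have S_all : ∀ P, P ∈ S := by
      intro P
      obtain ⟨c, rfl⟩ := hΨbij.2 P
      rw [hΨ0, Finsupp.sum]
      exact sum_mem (fun i _ => S_mul _ _ (S_iota _) (S_pow i))
    have hLeib : ∀ P Q : D, s (P * Q) = s P * ρ Q + ρ P * s Q := fun P => (memS P).1 (S_all P)
    refine ⟨s, ⟨hLeib, LinearMap.ext (fun f => hs_iota f), hs_d⟩, ?_⟩
    rintro s' ⟨hs', hr', hv'⟩
    apply ext_D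
    intro i f
    have h1 : s' (ι f) = r f := LinearMap.congr_fun hr' f
    have hone : s' 1 = 0 := by
      have := hs' 1 1
      rw [mul_one, map_one ρ, mul_one, one_mul] at this
      have h2 : s' 1 + s' 1 = s' 1 + 0 := by rw [add_zero]; exact this.symm
      exact add_left_cancel h2
    have hpow : ∀ i, s' (d ^ i) = V i := by
      intro i
      induction i with
      | zero => rw [pow_zero, hone, V0]
      | succ i ih => rw [pow_succ', hs', hv', ih, Vs, map_pow]
    rw [hs', h1, hpow, hs_basis, map_pow]

end Groth.Agent.S19974
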