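import Groth.Statements.S1998


set_option autoImplicit false
universe u
open EtAlg

namespace Groth.Agent.S1998

open Polynomial

section
variable {ι : Type u} [Preorder ι] [IsDirected ι (· ≤ ·)] [Nonempty ι]
    (G : ι → Type u) [∀ i, CommRing (G i)] (f : ∀ i j, i ≤ j → G i →+* G j)
    [DirectedSystem G fun i j h => f i j h] (I : ∀ i, Ideal (G i))
    (hI : ∀ i j (h : i ≤ j), (I i).map (f i j h) ≤ I j)

local notation "L" => Ring.DirectLimit G fun i j h => f i j h
local notation "ofL" => Ring.DirectLimit.of G (fun i j h => f i j h)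

include hI in
theorem exists_mem_of_mem_iSup (x : L)
    (hx : x ∈ ⨆ i, (I i).map (ofL i)) : ∃ j, ∃ y ∈ I j, ofL j y = x := by
  refine Submodule.iSup_induction (fun i => (I i).map (ofL i)) (motive := fun x => ∃ j, ∃ y ∈ I j, ofL j y = x) hx ?_ ?_ ?_
  · intro i x hx
    refine Submodule.span_induction (p := fun x _ => ∃ j, ∃ y ∈ I j, ofL j y = x) ?_ ?_ ?_ ?_ hx
    · rintro _ ⟨y, hy, rfl⟩
      exact ⟨i, y, hy, rfl⟩
    · exact ⟨Classical.arbitrary ι, 0, Ideal.zero_mem _, map_zero _⟩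
    · rintro x y _ _ ⟨j₁, y₁, hy₁, rfl⟩ ⟨j₂, y₂, hy₂, rfl⟩
      obtain ⟨m, h1, h2⟩ := exists_ge_ge j₁ j₂
      refine ⟨m, f j₁ m h1 y₁ + f j₂ m h2 y₂, Ideal.add_mem _ (hI _ _ h1 (Ideal.mem_map_of_mem _ hy₁))
        (hI _ _ h2 (Ideal.mem_map_of_mem _ hy₂)), ?_⟩
      rw [map_add, Ring.DirectLimit.of_f, Ring.DirectLimit.of_f]
    · rintro l x _ ⟨j, y, hy, rfl⟩
      obtain ⟨k, z, rfl⟩ := Ring.DirectLimit.exists_of l
      obtain ⟨m, h1, h2⟩ := exists_ge_ge k j
      refine ⟨m, f k m h1 z * f j m h2 y, Ideal.mul_mem_left _ _ (hI _ _ h2 (Ideal.mem_map_of_mem _ hy)), ?_⟩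
      rw [map_mul, Ring.DirectLimit.of_f, Ring.DirectLimit.of_f, smul_eq_mul]
  · exact ⟨Classical.arbitrary ι, 0, Ideal.zero_mem _, map_zero _⟩
  · rintro x y ⟨j₁, y₁, hy₁, rfl⟩ ⟨j₂, y₂, hy₂, rfl⟩
    obtain ⟨m, h1, h2⟩ := exists_ge_ge j₁ j₂
    refine ⟨m, f j₁ m h1 y₁ + f j₂ m h2 y₂, Ideal.add_mem _ (hI _ _ h1 (Ideal.mem_map_of_mem _ hy₁))
      (hI _ _ h2 (Ideal.mem_map_of_mem _ hy₂)), ?_⟩
    rw [map_add, Ring.DirectLimit.of_f, Ring.DirectLimit.of_f]

include hI in
/-- Lemma A -/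
theorem exists_ge_mem_of_of_mem (i : ι) (z : G i)
    (hz : ofL i z ∈ ⨆ i, (I i).map (ofL i)) : ∃ j, ∃ h : i ≤ j, f i j h z ∈ I j := by
  obtain ⟨j, y, hy, hyz⟩ := exists_mem_of_mem_iSup G f I hI _ hz
  obtain ⟨m, h1, h2⟩ := exists_ge_ge i j
  have h0 : ofL m (f i m h1 z - f j m h2 y) = 0 := by
    rw [map_sub, Ring.DirectLimit.of_f, Ring.DirectLimit.of_f, hyz, sub_self]
  obtain ⟨n, hmn, hn⟩ := Ring.DirectLimit.of.zero_exact h0
  refine ⟨n, h1.trans hmn, ?_⟩
  rw [map_sub, sub_eq_zero, DirectedSystem.map_map' (f := f), DirectedSystem.map_map' (f := f)] at hn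
  rw [hn]
  exact hI _ _ _ (Ideal.mem_map_of_mem _ hy)

end



/-- Let (A_j, I_j) be a directed system of henselian pairs (ring maps A_j -> A_k for j ≤ k carrying I_j
into I_k). Then the direct limit A of the A_j together with the ideal generated by the images of the
I_j is a henselian pair. -/
theorem result {ι : Type u} [Preorder ι] [IsDirected ι (· ≤ ·)] [Nonempty ι]
    (G : ι → Type u) [∀ i, CommRing (G i)] (f : ∀ i j, i ≤ j → G i →+* G j)
    [DirectedSystem G fun i j h => f i j h] (I : ∀ i, Ideal (G i))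
    (hI : ∀ i j (h : i ≤ j), (I i).map (f i j h) ≤ I j) (hh : ∀ i, HenselianRing (G i) (I i)) :
    HenselianRing (Ring.DirectLimit G fun i j h => f i j h)
      (⨆ i, (I i).map (Ring.DirectLimit.of G (fun i j h => f i j h) i)) := by
  constructor
  · intro x hx
    rw [Ideal.mem_jacobson_bot]
    intro y
    obtain ⟨j, x', hx', rfl⟩ := exists_mem_of_mem_iSup G f I hI _ hx
    obtain ⟨k, z, rfl⟩ := Ring.DirectLimit.exists_of y
    obtain ⟨m, h1, h2⟩ := exists_ge_ge j k
    have hxm : f j m h1 x' ∈ I m := hI _ _ h1 (Ideal.mem_map_of_mem _ hx')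
    have hu : IsUnit (f j m h1 x' * f k m h2 z + 1) :=
      Ideal.mem_jacobson_bot.mp ((hh m).jac hxm) _
    have := hu.map (Ring.DirectLimit.of G (fun i j h => f i j h) m)
    rwa [map_add, map_mul, map_one, Ring.DirectLimit.of_f, Ring.DirectLimit.of_f] at this
  · intro p hp a₀ hpa hunit
    set ofL := Ring.DirectLimit.of G (fun i j h => f i j h) with hofL
    obtain ⟨i₁, q, hq⟩ := Ring.DirectLimit.Polynomial.exists_of p
    obtain ⟨i₂, b, hb⟩ := Ring.DirectLimit.exists_of a₀
    obtain ⟨c', hc'⟩ := isUnit_iff_exists_inv.mp hunit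
    obtain ⟨c, rfl⟩ := Ideal.Quotient.mk_surjective c'
    obtain ⟨i₃, cc, hcc⟩ := Ring.DirectLimit.exists_of c
    obtain ⟨i₄, h14, h24⟩ := exists_ge_ge i₁ i₂
    obtain ⟨i, h4, h3⟩ := exists_ge_ge i₄ i₃
    set n := p.natDegree with hn
    set q₀ : (G i)[X] := q.map (f i₁ i (h14.trans h4)) with hq₀
    have hq₀map : q₀.map (ofL i) = p := by
      rw [hq₀, Polynomial.map_map, ← hq]
      congr 1
      ext x
      simp [hofL]
    set low : (G i)[X] := ∑ k ∈ Finset.range n, monomial k (q₀.coeff k) with hlow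
    have hlowdeg : low.degree < n := by
      rw [Polynomial.degree_lt_iff_coeff_zero]
      intro m hm
      rw [hlow, Polynomial.finsetSum_coeff]
      refine Finset.sum_eq_zero fun k hk => ?_
      rw [Polynomial.coeff_monomial, if_neg]
      have := Finset.mem_range.mp hk
      omega
    set q₁ : (G i)[X] := X ^ n + low with hq₁
    have hq₁monic : q₁.Monic := Polynomial.monic_X_pow_add hlowdeg
    have hcoef : ∀ k, p.coeff k = ofL i (q₀.coeff k) := fun k => by
      rw [← hq₀map, Polynomial.coeff_map]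
    have hq₁map : q₁.map (ofL i) = p := by
      ext k
      rw [Polynomial.coeff_map, hq₁, Polynomial.coeff_add, Polynomial.coeff_X_pow, hlow,
        Polynomial.finsetSum_coeff]
      simp only [Polynomial.coeff_monomial]
      rcases lt_trichotomy k n with hk | hk | hk
      · rw [if_neg hk.ne, zero_add, Finset.sum_eq_single k]
        · rw [if_pos rfl, hcoef]
        · intro j _ hjk; rw [if_neg hjk]
        · intro hk'; exact absurd (Finset.mem_range.mpr hk) hk'
      · rw [if_pos hk, Finset.sum_eq_zero, add_zero, map_one, hk, hn, hp.coeff_natDegree]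
        intro j hj
        rw [if_neg]
        have := Finset.mem_range.mp hj
        omega
      · rw [if_neg hk.ne', zero_add, Finset.sum_eq_zero, map_zero,
          Polynomial.coeff_eq_zero_of_natDegree_lt (by omega)]
        intro j hj
        rw [if_neg]
        have := Finset.mem_range.mp hj
        omega
    set bi : G i := f i₂ i (h24.trans h4) b with hbi
    set ci : G i := f i₃ i h3 cc with hci
    have hbi' : ofL i bi = a₀ := by rw [hbi, hofL, Ring.DirectLimit.of_f, hb]
    have hci' : ofL i ci = c := by rw [hci, hofL, Ring.DirectLimit.of_f, hcc]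
    have hz₁ : ofL i (q₁.eval bi) ∈ ⨆ i, (I i).map (ofL i) := by
      rw [← Polynomial.eval_map_apply, hq₁map, hbi']; exact hpa
    have hz₂ : ofL i (q₁.derivative.eval bi * ci - 1) ∈ ⨆ i, (I i).map (ofL i) := by
      rw [map_sub, map_mul, map_one, ← Polynomial.eval_map_apply, ← Polynomial.derivative_map,
        hq₁map, hbi', hci']
      rw [← map_mul, ← map_one (Ideal.Quotient.mk _), Ideal.Quotient.eq] at hc'
      exact hc'
    obtain ⟨j₁, hj₁, hm₁⟩ := exists_ge_mem_of_of_mem G f I hI i _ hz₁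
    obtain ⟨j₂, hj₂, hm₂⟩ := exists_ge_mem_of_of_mem G f I hI i _ hz₂
    obtain ⟨j, h1j, h2j⟩ := exists_ge_ge j₁ j₂
    have hij : i ≤ j := hj₁.trans h1j
    have hm₁' : f i j hij (q₁.eval bi) ∈ I j := by
      rw [← DirectedSystem.map_map' (f := f) hj₁ h1j]
      exact hI _ _ h1j (Ideal.mem_map_of_mem _ hm₁)
    have hm₂' : f i j hij (q₁.derivative.eval bi * ci - 1) ∈ I j := by
      rw [← DirectedSystem.map_map' (f := f) hj₂ h2j]
      exact hI _ _ h2j (Ideal.mem_map_of_mem _ hm₂)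
    set qj : (G j)[X] := q₁.map (f i j hij) with hqj
    set bj : G j := f i j hij bi with hbj
    have hqjmonic : qj.Monic := hq₁monic.map _
    have hev : qj.eval bj ∈ I j := by
      rw [hqj, hbj, Polynomial.eval_map_apply]; exact hm₁'
    have hun : IsUnit (Ideal.Quotient.mk (I j) (qj.derivative.eval bj)) := by
      rw [isUnit_iff_exists_inv]
      refine ⟨Ideal.Quotient.mk (I j) (f i j hij ci), ?_⟩
      rw [← map_mul, ← map_one (Ideal.Quotient.mk (I j)), Ideal.Quotient.eq, hqj, hbj,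
        Polynomial.derivative_map, Polynomial.eval_map_apply]
      rw [map_sub, map_mul, map_one] at hm₂'
      exact hm₂'
    obtain ⟨a, ha, hab⟩ := (hh j).is_henselian qj hqjmonic bj hev hun
    have hqjmap : qj.map (ofL j) = p := by
      rw [hqj, Polynomial.map_map, ← hq₁map]
      congr 1
      ext x
      simp [hofL]
    refine ⟨ofL j a, ?_, ?_⟩
    · rw [Polynomial.IsRoot.def, ← hqjmap, Polynomial.eval_map_apply, ha.eq_zero, map_zero]
    · have : ofL j a - a₀ = ofL j (a - bj) := by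
        rw [map_sub, hbj, hofL, Ring.DirectLimit.of_f, ← hofL, hbi']
      rw [this]
      exact (le_iSup (fun i => (I i).map (ofL i)) j) (Ideal.mem_map_of_mem _ hab)

end Groth.Agent.S1998
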