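import Groth.Statements.S19996
import Mathlib

set_option autoImplicit false
universe u
open WildQuot

namespace Groth.Agent.S19996

open PowerSeries

section aux

variable {p : ℕ} [hp : Fact p.Prime] {k : Type u} [Field k] [CharP k p]

theorem sigma_C (σ : PowerSeries k ≃ₐ[k] PowerSeries k) (a : k) : σ (C a) = C a := by
  rw [C_eq_algebraMap]; exact σ.commutes a

theorem nf {f : PowerSeries k} {n : ℕ} (h : f.order = (n : ℕ∞)) :
    ∃ g, f = X ^ n * g ∧ constantCoeff g ≠ 0 := by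
  have hf : f ≠ 0 := by
    rintro rfl
    rw [order_zero] at h
    exact ENat.top_ne_natCast n h
  have hn : f.order.toNat = n := by rw [h]; exact ENat.toNat_natCast n
  refine ⟨divXPowOrder f, ?_, ?_⟩
  · rw [← hn]; exact X_pow_order_mul_divXPowOrder.symm
  · rw [constantCoeff_divXPowOrder]; exact coeff_order hf

theorem order_nf {g : PowerSeries k} (n : ℕ) (hg : constantCoeff g ≠ 0) :
    (X ^ n * g).order = (n : ℕ∞) := by
  rw [order_mul, order_X_pow,
    order_zero_of_unit (isUnit_iff_constantCoeff.mpr (IsUnit.mk0 _ hg)), add_zero]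

theorem lemA (σ : PowerSeries k ≃ₐ[k] PowerSeries k) (m : ℕ) (v : PowerSeries k)
    (hv : σ X = X + X ^ (m + 1) * v) :
    ∀ j, j ≤ m + 1 → ∀ g : PowerSeries k, X ^ j ∣ σ g - g := by
  intro j
  induction j with
  | zero => intro _ g; simp
  | succ j ih =>
    intro hj g
    obtain ⟨g1, a, rfl⟩ : ∃ g1 a, g = X * g1 + C a := ⟨_, _, eq_X_mul_shift_add_const g⟩
    obtain ⟨q, hq⟩ := ih (by omega) g1
    have hpow : (X : PowerSeries k) ^ (m + 1) = X ^ (j + 1) * X ^ (m - j) := by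
      rw [← pow_add]; congr 1; omega
    refine ⟨X ^ (m - j) * v * σ g1 + q, ?_⟩
    rw [map_add, map_mul, sigma_C, hv, hpow]
    linear_combination X * hq

theorem binom2 {R : Type*} [CommRing R] (y : R) (n : ℕ) :
    ∃ q, (1 + y) ^ n = 1 + n * y + y ^ 2 * q := by
  induction n with
  | zero => exact ⟨0, by simp⟩
  | succ n ih =>
    obtain ⟨q, hq⟩ := ih
    exact ⟨q + n + y * q, by rw [pow_succ, hq]; push_cast; ring⟩

theorem lemL (σ : PowerSeries k ≃ₐ[k] PowerSeries k) (m : ℕ) (hm1 : 1 ≤ m)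
    (v1 : PowerSeries k) (c : k)
    (hv : σ X = X + X ^ (m + 1) * (X * v1 + C c)) (n : ℕ) (g1 : PowerSeries k) (a : k) :
    ∃ h, σ (X ^ n * (X * g1 + C a)) - X ^ n * (X * g1 + C a)
      = X ^ (n + m) * (C ((n : k) * a * c) + X * h) := by
  obtain ⟨m', rfl⟩ : ∃ m', m = m' + 1 := ⟨m - 1, by omega⟩
  obtain ⟨r, hr⟩ := lemA σ (m' + 1) _ hv (m' + 1 + 1) le_rfl (X * g1 + C a)
  obtain ⟨q, hq⟩ := binom2 (X ^ (m' + 1) * (X * v1 + C c)) n
  have hσX : σ X = X * (1 + X ^ (m' + 1) * (X * v1 + C c)) := by rw [hv]; ring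
  refine ⟨(n : PowerSeries k) * (v1 * (X * g1 + C a) + C c * g1)
      + X ^ m' * (X * v1 + C c) ^ 2 * q * (X * g1 + C a)
      + (1 + X ^ (m' + 1) * (X * v1 + C c)) ^ n * r, ?_⟩
  have hσg : σ (X * g1 + C a) = (X * g1 + C a) + X ^ (m' + 1 + 1) * r := by
    rw [← hr]; ring
  rw [map_mul, map_pow, hσX, hσg, mul_pow, hq]
  simp only [map_mul, map_natCast]
  ring

/-- standing hypotheses -/
structure Setup (σ : PowerSeries k ≃ₐ[k] PowerSeries k) (m : ℕ) (v1 : PowerSeries k) (c : k) :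
    Prop where
  hm1 : 1 ≤ m
  hc : c ≠ 0
  hv : σ X = X + X ^ (m + 1) * (X * v1 + C c)

theorem cor0 {σ : PowerSeries k ≃ₐ[k] PowerSeries k} {m : ℕ} {v1 : PowerSeries k} {c : k}
    (H : Setup σ m v1 c) {f : PowerSeries k} {n : ℕ} (hf : f.order = (n : ℕ∞)) :
    ∃ (a : k) (h : PowerSeries k), a ≠ 0 ∧
      σ f - f = X ^ (n + m) * (C ((n : k) * a * c) + X * h) := by
  obtain ⟨g, rfl, hg0⟩ := nf hf
  obtain ⟨g1, a, rfl⟩ : ∃ g1 a, g = X * g1 + C a := ⟨_, _, eq_X_mul_shift_add_const g⟩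
  obtain ⟨h, hh⟩ := lemL σ m H.hm1 v1 c H.hv n g1 a
  have ha : a ≠ 0 := by simpa using hg0
  exact ⟨a, h, ha, hh⟩

theorem cor1 {σ : PowerSeries k ≃ₐ[k] PowerSeries k} {m : ℕ} {v1 : PowerSeries k} {c : k}
    (H : Setup σ m v1 c) {f : PowerSeries k} {n : ℕ} (hf : f.order = (n : ℕ∞))
    (hinv : σ f = f) : p ∣ n := by
  obtain ⟨a, h, ha, hh⟩ := cor0 H hf
  rw [hinv, sub_self] at hh
  have h1 : C ((n : k) * a * c) + X * h = 0 := by
    rcases mul_eq_zero.mp hh.symm with h0 | h0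
    · exact absurd h0 (pow_ne_zero _ X_ne_zero)
    · exact h0
  have h2 : constantCoeff (C ((n : k) * a * c) + X * h) = 0 := by rw [h1, map_zero]
  rw [map_add, constantCoeff_C, map_mul, constantCoeff_X, zero_mul, add_zero] at h2
  have h3 : (n : k) = 0 := by
    rcases mul_eq_zero.mp h2 with h4 | h4
    · rcases mul_eq_zero.mp h4 with h5 | h5
      · exact h5
      · exact absurd h5 ha
    · exact absurd h4 H.hc
  exact (CharP.cast_eq_zero_iff k p n).mp h3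

theorem cor2 {σ : PowerSeries k ≃ₐ[k] PowerSeries k} {m : ℕ} {v1 : PowerSeries k} {c : k}
    (H : Setup σ m v1 c) {f : PowerSeries k} {n : ℕ} (hf : f.order = (n : ℕ∞))
    (hn : (n : k) ≠ 0) : (σ f - f).order = ((n + m : ℕ) : ℕ∞) := by
  obtain ⟨a, h, ha, hh⟩ := cor0 H hf
  rw [hh]
  apply order_nf
  rw [map_add, constantCoeff_C, map_mul, constantCoeff_X, zero_mul, add_zero]
  exact mul_ne_zero (mul_ne_zero hn ha) H.hc

theorem cor3 {σ : PowerSeries k ≃ₐ[k] PowerSeries k} {m : ℕ} {v1 : PowerSeries k} {c : k}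
    (H : Setup σ m v1 c) {f : PowerSeries k} {n : ℕ} (hf : f.order = (n : ℕ∞)) :
    ((n + m : ℕ) : ℕ∞) ≤ (σ f - f).order := by
  obtain ⟨a, h, ha, hh⟩ := cor0 H hf
  rw [hh, order_mul, order_X_pow]
  exact le_self_add

theorem cc_sigma {σ : PowerSeries k ≃ₐ[k] PowerSeries k} {m : ℕ} {v1 : PowerSeries k} {c : k}
    (H : Setup σ m v1 c) (g : PowerSeries k) : constantCoeff (σ g) = constantCoeff g := by
  have h := lemA σ m _ H.hv 1 (by omega) g
  rw [pow_one, X_dvd_iff, map_sub, sub_eq_zero] at h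
  exact h

theorem ord_sigma {σ : PowerSeries k ≃ₐ[k] PowerSeries k} {m : ℕ} {v1 : PowerSeries k} {c : k}
    (H : Setup σ m v1 c) {f : PowerSeries k} {n : ℕ} (hf : f.order = (n : ℕ∞)) :
    (σ f).order = (n : ℕ∞) := by
  obtain ⟨g, rfl, hg0⟩ := nf hf
  have hm1 := H.hm1
  have hσX : σ X = X * (1 + X ^ m * (X * v1 + C c)) := by rw [H.hv]; ring
  rw [map_mul, map_pow, hσX, mul_pow, mul_assoc]
  apply order_nf
  rw [map_mul, map_pow, map_add, map_one, map_mul, map_pow, cc_sigma H, constantCoeff_X,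
    zero_pow (by omega), zero_mul, add_zero, one_pow, one_mul]
  exact hg0

theorem ord_pow_X {σ : PowerSeries k ≃ₐ[k] PowerSeries k} {m : ℕ} {v1 : PowerSeries k} {c : k}
    (H : Setup σ m v1 c) (i : ℕ) : ((σ ^ i) X).order = ((1 : ℕ) : ℕ∞) := by
  induction i with
  | zero => rw [pow_zero, AlgEquiv.one_apply, order_X, Nat.cast_one]
  | succ i ih => rw [pow_succ', AlgEquiv.mul_apply]; exact ord_sigma H ih

/-- the norm of `X` -/
noncomputable def tt (σ : PowerSeries k ≃ₐ[k] PowerSeries k) (p : ℕ) : PowerSeries k :=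
  ∏ i ∈ Finset.range p, (σ ^ i) X

theorem sigma_tt (σ : PowerSeries k ≃ₐ[k] PowerSeries k) (hσp : σ ^ p = 1) :
    σ (tt σ p) = tt σ p := by
  unfold tt
  rw [map_prod]
  have h1 : ∀ i, σ ((σ ^ i) X) = (σ ^ (i + 1)) X := fun i => by
    rw [pow_succ', AlgEquiv.mul_apply]
  simp_rw [h1]
  have key : (∏ i ∈ Finset.range p, (σ ^ (i + 1)) (X : PowerSeries k)) * X
      = (∏ i ∈ Finset.range p, (σ ^ i) (X : PowerSeries k)) * X := by
    have h2 := Finset.prod_range_succ' (fun i => (σ ^ i) (X : PowerSeries k)) p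
    have h3 := Finset.prod_range_succ (fun i => (σ ^ i) (X : PowerSeries k)) p
    simp only [pow_zero, AlgEquiv.one_apply, hσp] at h2 h3
    rw [← h2, ← h3]
  exact mul_right_cancel₀ X_ne_zero key

theorem order_tt {σ : PowerSeries k ≃ₐ[k] PowerSeries k} {m : ℕ} {v1 : PowerSeries k} {c : k}
    (H : Setup σ m v1 c) (p : ℕ) : (tt σ p).order = (p : ℕ∞) := by
  unfold tt
  rw [order_prod, Finset.sum_congr rfl (fun i _ => ord_pow_X H i)]
  simp

theorem exists_last {R M : Type*} [CommRing R] [AddCommGroup M] [Module R M]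
    (T : Module.End R M) (g : M) (N : ℕ) (hN : (T ^ N) g = 0) (hg : g ≠ 0) :
    ∃ j, (T ^ j) g ≠ 0 ∧ (T ^ (j + 1)) g = 0 := by
  induction N with
  | zero => exact absurd (by simpa using hN) hg
  | succ N ih =>
    by_cases h : (T ^ N) g = 0
    · exact ih h
    · exact ⟨N, h, hN⟩

theorem exists_z_b (σ : PowerSeries k ≃ₐ[k] PowerSeries k) (hσp : σ ^ p = 1) (hσ1 : σ ≠ 1) :
    ∃ z b : PowerSeries k, b ≠ 0 ∧ σ b = b ∧ σ z - z = b := by
  let S : Module.End k (PowerSeries k) := σ.toLinearMap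
  have hS : ∀ (i : ℕ) (g : PowerSeries k), (S ^ i) g = (σ ^ i) g := by
    intro i
    induction i with
    | zero => intro g; simp
    | succ i ih =>
      intro g
      rw [pow_succ', pow_succ', Module.End.mul_apply, AlgEquiv.mul_apply, ih]; rfl
  have hSp : S ^ p = 1 := by
    apply LinearMap.ext
    intro g
    rw [hS, hσp]; rfl
  have hΔ : (S - 1) ^ p = 0 := by
    have h1 : ((Polynomial.X : Polynomial k) - 1) ^ p = Polynomial.X ^ p - 1 := by
      rw [sub_pow_char, one_pow]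
    have h2 := congrArg (Polynomial.aeval S) h1
    simp only [map_pow, map_sub, Polynomial.aeval_X, map_one] at h2
    rw [h2, hSp, sub_self]
  have hΔapp : ∀ g, (S - 1) g = σ g - g := fun g => rfl
  obtain ⟨g, hg⟩ : ∃ g, σ g ≠ g := by
    by_contra hcon
    push_neg at hcon
    exact hσ1 (AlgEquiv.ext hcon)
  obtain ⟨j, hj1, hj2⟩ := exists_last (S - 1) ((S - 1) g) p (by rw [hΔ]; rfl)
    (by rw [hΔapp]; exact sub_ne_zero.mpr hg)
  have e1 : ((S - 1) ^ j) ((S - 1) g) = ((S - 1) ^ (j + 1)) g := by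
    rw [pow_succ, Module.End.mul_apply]
  have e2 : ((S - 1) ^ (j + 1)) ((S - 1) g) = (S - 1) (((S - 1) ^ (j + 1)) g) := by
    rw [← Module.End.mul_apply, ← Module.End.mul_apply, ← pow_succ, ← pow_succ']
  refine ⟨((S - 1) ^ j) g, ((S - 1) ^ (j + 1)) g, ?_, ?_, ?_⟩
  · rw [← e1]; exact hj1
  · rw [e2, hΔapp, sub_eq_zero] at hj2; exact hj2
  · rw [← hΔapp, ← Module.End.mul_apply, ← pow_succ']

theorem step {σ : PowerSeries k ≃ₐ[k] PowerSeries k} {m : ℕ} {v1 : PowerSeries k} {c : k}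
    (H : Setup σ m v1 c) (τ : PowerSeries k) (hτ0 : constantCoeff τ ≠ 0) (t : PowerSeries k)
    (ht : t = X ^ p * τ) (hσt : σ t = t)
    {b z : PowerSeries k} (hb0 : b ≠ 0) {n : ℕ} (hz : z.order = (n : ℕ∞)) (hzb : σ z - z = b)
    (hn : (n : k) = 0) :
    ∃ (z' : PowerSeries k) (n' : ℕ), n < n' ∧ z'.order = (n' : ℕ∞) ∧ σ z' - z' = b := by
  obtain ⟨e, rfl⟩ : p ∣ n := (CharP.cast_eq_zero_iff k p n).mp hn
  obtain ⟨g, hzg, hg0⟩ := nf hz
  set β : k := constantCoeff g / (constantCoeff τ) ^ e with hβ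
  have h0 : constantCoeff (g - C β * τ ^ e) = 0 := by
    rw [map_sub, map_mul, constantCoeff_C, map_pow, hβ,
      div_mul_cancel₀ _ (pow_ne_zero _ hτ0), sub_self]
  obtain ⟨g', hg'⟩ : X ∣ g - C β * τ ^ e := X_dvd_iff.mpr h0
  have hz'eq : z - C β * t ^ e = X ^ (p * e + 1) * g' := by
    rw [hzg, ht]
    linear_combination X ^ (p * e) * hg'
  have hz'b : σ (z - C β * t ^ e) - (z - C β * t ^ e) = b := by
    rw [map_sub, map_mul, sigma_C, map_pow, hσt]
    linear_combination hzb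
  have hz'0 : z - C β * t ^ e ≠ 0 := by
    intro h
    rw [h, map_zero, sub_zero] at hz'b
    exact hb0 hz'b.symm
  have hle : ((p * e + 1 : ℕ) : ℕ∞) ≤ (z - C β * t ^ e).order := by
    rw [hz'eq, order_mul, order_X_pow]; exact le_self_add
  have hord := coe_toNat_order hz'0
  rw [← hord] at hle
  refine ⟨z - C β * t ^ e, (z - C β * t ^ e).order.toNat, ?_, hord.symm, hz'b⟩
  have : p * e + 1 ≤ (z - C β * t ^ e).order.toNat := by exact_mod_cast hle
  omega

theorem reduce {σ : PowerSeries k ≃ₐ[k] PowerSeries k} {m : ℕ} {v1 : PowerSeries k} {c : k}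
    (H : Setup σ m v1 c) (τ : PowerSeries k) (hτ0 : constantCoeff τ ≠ 0) (t : PowerSeries k)
    (ht : t = X ^ p * τ) (hσt : σ t = t) {b : PowerSeries k} (hb0 : b ≠ 0) :
    ∀ (d : ℕ) (z : PowerSeries k) (n : ℕ), z.order = (n : ℕ∞) → σ z - z = b →
      b.order ≤ ((n + m + d : ℕ) : ℕ∞) →
      ∃ (z' : PowerSeries k) (n' : ℕ), z'.order = (n' : ℕ∞) ∧ σ z' - z' = b ∧ (n' : k) ≠ 0 := by
  intro d
  induction d with
  | zero =>
    intro z n hz hzb hle
    by_cases hn : (n : k) = 0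
    · obtain ⟨z', n', hlt, hz', hz'b⟩ := step H τ hτ0 t ht hσt hb0 hz hzb hn
      have h3 := cor3 H hz'
      rw [hz'b] at h3
      have h4 := h3.trans hle
      have h5 : n' + m ≤ n + m + 0 := by exact_mod_cast h4
      omega
    · exact ⟨z, n, hz, hzb, hn⟩
  | succ d ih =>
    intro z n hz hzb hle
    by_cases hn : (n : k) = 0
    · obtain ⟨z', n', hlt, hz', hz'b⟩ := step H τ hτ0 t ht hσt hb0 hz hzb hn
      refine ih z' n' hz' hz'b (hle.trans ?_)
      have : n + m + (d + 1) ≤ n' + m + d := by omega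
      exact_mod_cast this
    · exact ⟨z, n, hz, hzb, hn⟩

theorem setup_of (σ : PowerSeries k ≃ₐ[k] PowerSeries k) (m : ℕ) (hm1 : 1 ≤ m)
    (hm : (σ X - X).order = ((m + 1 : ℕ) : ℕ∞)) :
    ∃ (v1 : PowerSeries k) (c : k), Setup σ m v1 c := by
  obtain ⟨v, hv, hv0⟩ := nf hm
  obtain ⟨v1, c, rfl⟩ : ∃ v1 c, v = X * v1 + C c := ⟨_, _, eq_X_mul_shift_add_const v⟩
  have hc : c ≠ 0 := by simpa using hv0
  exact ⟨v1, c, hm1, hc, by rw [← hv]; ring⟩

theorem m_pos (σ : PowerSeries k ≃ₐ[k] PowerSeries k) (hσp : σ ^ p = 1) (m : ℕ)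
    (hm : (σ X - X).order = ((m + 1 : ℕ) : ℕ∞)) : 1 ≤ m := by
  by_contra hlt
  have hm0 : m = 0 := by omega
  subst hm0
  obtain ⟨v, hv, hv0⟩ := nf hm
  obtain ⟨v1, c, rfl⟩ : ∃ v1 c, v = X * v1 + C c := ⟨_, _, eq_X_mul_shift_add_const v⟩
  have hc : c ≠ 0 := by simpa using hv0
  have hσX : σ X = X * (C (1 + c) + X * v1) := by
    have h : σ X = X + X ^ (0 + 1) * (X * v1 + C c) := by rw [← hv]; ring
    rw [h, map_add, map_one]; ring
  have key : ∀ i : ℕ, ∃ h, (σ ^ i) X = X * (C (1 + c) ^ i + X * h) := by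
    intro i
    induction i with
    | zero => exact ⟨0, by simp⟩
    | succ i ih =>
      obtain ⟨h, hh⟩ := ih
      refine ⟨v1 * C (1 + c) ^ i + (C (1 + c) + X * v1) * ((C (1 + c) + X * v1) * σ h), ?_⟩
      rw [pow_succ', AlgEquiv.mul_apply, hh, map_mul, map_add, map_pow, sigma_C, map_mul, hσX]
      ring
  obtain ⟨h, hh⟩ := key p
  rw [hσp, AlgEquiv.one_apply] at hh
  have h1 : (1 : PowerSeries k) = C (1 + c) ^ p + X * h := by
    apply mul_left_cancel₀ (X_ne_zero (R := k))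
    rw [mul_one]; exact hh
  have h2 := congrArg constantCoeff h1
  rw [map_one, map_add, map_pow, constantCoeff_C, map_mul, constantCoeff_X, zero_mul,
    add_zero, add_pow_char, one_pow] at h2
  have h3 : c ^ p = 0 := by linear_combination -h2
  exact hc ((pow_eq_zero_iff hp.out.ne_zero).mp h3)

theorem backward (σ : PowerSeries k ≃ₐ[k] PowerSeries k) (m : ℕ) (hm1 : 1 ≤ m)
    (hm : (σ X - X).order = ((m + 1 : ℕ) : ℕ∞))
    (s a : PowerSeries k) (hs : s.order = 1) (ha : σ a = a) (hsa : σ s = s + a) :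
    p ∣ m + 1 := by
  obtain ⟨v1, c, H⟩ := setup_of σ m hm1 hm
  have hs' : s.order = ((1 : ℕ) : ℕ∞) := by rw [hs, Nat.cast_one]
  have h2 := cor2 H hs' (by simp)
  have h3 : σ s - s = a := by rw [hsa]; ring
  rw [h3] at h2
  have h4 : p ∣ 1 + m := cor1 H h2 ha
  rwa [add_comm] at h4

theorem forward (σ : PowerSeries k ≃ₐ[k] PowerSeries k) (hσp : σ ^ p = 1) (hσ1 : σ ≠ 1)
    (m : ℕ) (hm1 : 1 ≤ m) (hm : (σ X - X).order = ((m + 1 : ℕ) : ℕ∞)) (hdvd : p ∣ m + 1) :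
    ∃ s a : PowerSeries k, s.order = 1 ∧ σ a = a ∧ σ s = s + a := by
  obtain ⟨v1, c, H⟩ := setup_of σ m hm1 hm
  obtain ⟨r, hr⟩ := hdvd
  -- the invariant `t`
  have hσt := sigma_tt σ hσp
  have hot := order_tt H p
  obtain ⟨τ, ht, hτ0⟩ := nf hot
  set t := tt σ p with htdef
  have ht0 : t ≠ 0 := by
    rw [ht]; exact mul_ne_zero (pow_ne_zero _ X_ne_zero) (fun h => hτ0 (by rw [h, map_zero]))
  -- Artin–Schreier type element
  obtain ⟨z0, b, hb0, hσb, hz0b⟩ := exists_z_b σ hσp hσ1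
  have hz00 : z0 ≠ 0 := by
    rintro rfl
    rw [map_zero, sub_zero] at hz0b
    exact hb0 hz0b.symm
  have hz0 := (coe_toNat_order hz00).symm
  have hbN := (coe_toNat_order hb0).symm
  obtain ⟨z, n', hz, hzb, hn'⟩ := reduce H τ hτ0 t ht hσt hb0 b.order.toNat z0 _ hz0 hz0b
    (by
      rw [hbN]
      have : b.order.toNat ≤ z0.order.toNat + m + b.order.toNat := by omega
      exact_mod_cast this)
  have hb_ord : b.order = ((n' + m : ℕ) : ℕ∞) := by
    have := cor2 H hz hn'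
    rwa [hzb] at this
  obtain ⟨N', hN'⟩ : p ∣ n' + m := cor1 H hb_ord hσb
  have hexp : n' + p * r = p * N' + 1 := by omega
  obtain ⟨gz, hzg, hgz0⟩ := nf hz
  obtain ⟨gb, hbg, hgb0⟩ := nf hb_ord
  have hτi : τ * τ⁻¹ = 1 := PowerSeries.mul_inv_cancel τ hτ0
  have hτi0 : constantCoeff τ⁻¹ ≠ 0 := by
    intro h
    have := congrArg constantCoeff hτi
    rw [map_mul, h, mul_zero, map_one] at this
    exact zero_ne_one this
  have h1 : (τ * τ⁻¹) ^ N' = 1 := by rw [hτi, one_pow]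
  have htN0 : t ^ N' ≠ 0 := pow_ne_zero _ ht0
  -- the uniformizer
  have hs_eq : t ^ N' * (X * (gz * τ ^ r * τ⁻¹ ^ N')) = z * t ^ r := by
    calc t ^ N' * (X * (gz * τ ^ r * τ⁻¹ ^ N'))
        = X ^ (p * N' + 1) * (gz * τ ^ r) * (τ * τ⁻¹) ^ N' := by rw [ht]; ring
      _ = X ^ (n' + p * r) * (gz * τ ^ r) := by rw [h1, mul_one, hexp]
      _ = z * t ^ r := by rw [hzg, ht]; ring
  have hb_eq : t ^ N' * (gb * τ⁻¹ ^ N') = b := by
    calc t ^ N' * (gb * τ⁻¹ ^ N') = X ^ (p * N') * gb * (τ * τ⁻¹) ^ N' := by rw [ht]; ring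
      _ = b := by rw [h1, mul_one, ← hN', ← hbg]
  have hσb' : σ (gb * τ⁻¹ ^ N') = gb * τ⁻¹ ^ N' := by
    apply mul_left_cancel₀ htN0
    have : σ (t ^ N' * (gb * τ⁻¹ ^ N')) = t ^ N' * (gb * τ⁻¹ ^ N') := by rw [hb_eq, hσb]
    rw [map_mul, map_pow, hσt] at this
    exact this
  refine ⟨X * (gz * τ ^ r * τ⁻¹ ^ N'), t ^ r * (gb * τ⁻¹ ^ N'), ?_, ?_, ?_⟩
  · have hcc : constantCoeff (gz * τ ^ r * τ⁻¹ ^ N') ≠ 0 := by
      rw [map_mul, map_mul, map_pow, map_pow]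
      exact mul_ne_zero (mul_ne_zero hgz0 (pow_ne_zero _ hτ0)) (pow_ne_zero _ hτi0)
    have := order_nf 1 hcc
    rw [pow_one, Nat.cast_one] at this
    exact this
  · rw [map_mul, map_pow, hσt, hσb']
  · apply mul_left_cancel₀ htN0
    have h5 : σ (t ^ N' * (X * (gz * τ ^ r * τ⁻¹ ^ N'))) = σ (z * t ^ r) := by rw [hs_eq]
    rw [map_mul, map_pow, hσt, map_mul σ z, map_pow, hσt] at h5
    have h6 : σ z = z + b := by rw [← hzb]; ring
    rw [h5, h6, mul_add, hs_eq]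
    linear_combination (t ^ r) * hb_eq.symm

end aux

theorem result
    (p : ℕ) [Fact p.Prime] (k : Type u) [Field k] [CharP k p]
    (σ : PowerSeries k ≃ₐ[k] PowerSeries k) (hσp : σ ^ p = 1) (hσ1 : σ ≠ 1)
    (m : ℕ) (hm : (σ PowerSeries.X - PowerSeries.X).order = ((m + 1 : ℕ) : ℕ∞)) :
    p ∣ m + 1 ↔
      ∃ s a : PowerSeries k, s.order = 1 ∧ σ a = a ∧ σ s = s + a := by
  have hm1 := m_pos σ hσp m hm
  constructor
  · intro hdvd
    exact forward σ hσp hσ1 m hm1 hm hdvd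
  · rintro ⟨s, a, hs, ha, hsa⟩
    exact backward σ m hm1 hm s a hs ha hsa

end Groth.Agent.S19996
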