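import Groth.Statements.S2000
import Groth.Agent.Lib.Helper14.GlueBL

set_option autoImplicit false
universe u
open TensorProduct
open EtAlg

namespace Groth.Agent.S2000

/-- Beauville–Laszlo, essential surjectivity with glueability: take a glueing pair (R -> R', f). Fix an
R'-module M', an R-module M₁ on which multiplication by f is bijective (i.e. an R_f-module), and α
an R'-linear isomorphism from the localization of M' at f to R' ⊗_R M₁ (an isomorphism of
R'_f-modules). Then there is an R-module M, glueable for (R -> R', f), with an R'-isomorphism R' ⊗_R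
M ≅ M' and an R-isomorphism M_f ≅ M₁ under which α becomes the canonical identification (R' ⊗_R M)_f
= R' ⊗_R M_f. -/
theorem result (R R' : Type u) [CommRing R] [CommRing R'] [Algebra R R'] (f : R)
    (hRR : EtGlue.IsGlueingPair R R' f) (M' : Type u) [AddCommGroup M'] [Module R' M'] (M₁ : Type u) [AddCommGroup M₁]
    [Module R M₁] (hf : Function.Bijective fun x : M₁ => f • x)
    (α : LocalizedModule (Submonoid.powers (algebraMap R R' f)) M' ≃ₗ[R'] R' ⊗[R] M₁) :
    ∃ (M : Type u) (_ : AddCommGroup M) (_ : Module R M) (_ : EtGlue.IsGlueable R R' f M)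
      (e' : R' ⊗[R] M ≃ₗ[R'] M') (e₁ : LocalizedModule (Submonoid.powers f) M ≃ₗ[R] M₁),
      ∀ m : M, α (LocalizedModule.mkLinearMap (Submonoid.powers (algebraMap R R' f)) M' (e' ((1 : R') ⊗ₜ[R] m))) =
        (1 : R') ⊗ₜ[R] e₁ (LocalizedModule.mkLinearMap (Submonoid.powers f) M m) := by
  letI : Module R M' := Module.compHom M' (algebraMap R R')
  haveI : IsScalarTower R R' M' := IsScalarTower.of_algebraMap_smul fun r m => rfl
  let ℓ' := LocalizedModule.mkLinearMap (Submonoid.powers (algebraMap R R' f)) M'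
  let A : M' →ₗ[R'] R' ⊗[R] M₁ := α.toLinearMap ∘ₗ ℓ'
  have hA1 : ∀ m' : M', A m' = 0 → ∃ n : ℕ, f ^ n • m' = 0 := by
    intro m' h
    have h0 : ℓ' m' = 0 := α.injective (by rw [map_zero]; exact h)
    obtain ⟨⟨_, n, rfl⟩, hn⟩ :=
      (IsLocalizedModule.eq_zero_iff (Submonoid.powers (algebraMap R R' f)) ℓ').mp h0
    refine ⟨n, ?_⟩
    rw [← algebraMap_smul R' (f ^ n) m', map_pow]
    exact hn
  have hA2 : ∀ y : R' ⊗[R] M₁, ∃ (n : ℕ) (m' : M'), f ^ n • y = A m' := by
    intro y
    obtain ⟨⟨m', ⟨_, n, rfl⟩⟩, h⟩ :=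
      IsLocalizedModule.surj (Submonoid.powers (algebraMap R R' f)) ℓ' (α.symm y)
    refine ⟨n, m', ?_⟩
    change f ^ n • y = α (ℓ' m')
    rw [← h, Submonoid.smul_def, map_smul, α.apply_symm_apply]
    change f ^ n • y = (algebraMap R R' f ^ n) • y
    rw [← map_pow, algebraMap_smul]
  have hinj := Groth.Agent.Lib.Helper14.GlueBL.π_injective A hA1 hA2 hf hRR
  have hsurj := Groth.Agent.Lib.Helper14.GlueBL.π_surjective A hA1 hA2 hf hRR.1
  haveI hloc := Groth.Agent.Lib.Helper14.GlueBL.isLocalizedModule_pr₂ A hA1 hA2 hf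
  refine ⟨Groth.Agent.Lib.Helper14.GlueBL.fib A, inferInstance, inferInstance,
    Groth.Agent.Lib.Helper14.GlueBL.isGlueable_fib A hA1 hA2 hf hRR,
    LinearEquiv.ofBijective (Groth.Agent.Lib.Helper14.GlueBL.π A) ⟨hinj, hsurj⟩,
    IsLocalizedModule.iso (Submonoid.powers f) (Groth.Agent.Lib.Helper14.GlueBL.pr₂ A), ?_⟩
  intro m
  rw [LinearEquiv.ofBijective_apply, Groth.Agent.Lib.Helper14.GlueBL.π_tmul, one_smul]
  simp only [LocalizedModule.mkLinearMap_apply]
  rw [IsLocalizedModule.iso_mk_one]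
  exact Groth.Agent.Lib.Helper14.GlueBL.A_pr₁ A m

end Groth.Agent.S2000
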