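import Groth.Statements.S20010
-- import your own Groth.Agent.* helpers here
import Mathlib

set_option autoImplicit false
universe u
open CategoryTheory CategoryTheory.Limits AlgebraicGeometry TopologicalSpace
open ModPair

namespace Groth.Agent.S20010
theorem aux {J : Type u} [SmallCategory J] [IsCofiltered J] (D : J ⥤ Scheme.{u}) (c : Cone D)
    (hc : IsLimit c) [∀ {i j : J} (t : i ⟶ j), IsAffineHom (D.map t)]
    [∀ j, CompactSpace (D.obj j)] [∀ j, QuasiSeparatedSpace (D.obj j)]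
    {ι : Type u} (U : ι → Scheme.{u}) (u : ∀ a, U a ⟶ c.pt)
    [∀ a, IsOpenImmersion (u a)] [∀ a, QuasiCompact (u a)]
    (hcov : ∀ x : c.pt, ∃ (a : ι) (y : U a), (u a).base y = x) :
    ∃ (i : J) (n : ℕ) (V : Fin n → Scheme.{u}) (v : ∀ j, V j ⟶ D.obj i) (a : Fin n → ι)
      (e : ∀ j, U (a j) ⟶ V j),
      (∀ j, IsOpenImmersion (v j) ∧ QuasiCompact (v j)) ∧
      (∀ x : D.obj i, ∃ (j : Fin n) (y : V j), (v j).base y = x) ∧
      ∀ j, IsPullback (e j) (u (a j)) (v j) (c.π.app i) := by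
  classical
  haveI : CompactSpace c.pt := Scheme.compactSpace_of_isLimit D c hc
  -- finite subcover
  have hcov' : (Set.univ : Set c.pt) ⊆ ⋃ a, ((u a).opensRange : Set c.pt) := by
    intro x _
    obtain ⟨a, y, hy⟩ := hcov x
    exact Set.mem_iUnion.mpr ⟨a, y, hy⟩
  obtain ⟨s, hs⟩ := isCompact_univ.elim_finite_subcover
    (fun a => ((u a).opensRange : Set c.pt)) (fun a => (u a).opensRange.isOpen) hcov'
  have hW : ∀ a, IsCompact ((u a).opensRange : Set c.pt) := fun a => by
    haveI : CompactSpace (U a) := QuasiCompact.compactSpace_of_compactSpace (u a)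
    rw [Scheme.Hom.coe_opensRange]
    exact isCompact_range (u a).continuous
  choose j V hV hVU using fun a : s => exists_preimage_eq D c hc (u a.1).opensRange (hW a.1)
  obtain ⟨i, fi⟩ := IsCofiltered.inf_objs_exists (Finset.univ.image j)
  replace fi : ∀ a, i ⟶ j a := fun a => (fi (by simp)).some
  obtain ⟨k, fk, e⟩ := exists_map_eq_top D c hc (⨆ a, D.map (fi a) ⁻¹ᵁ V a) (by
      simp_rw [Scheme.Hom.preimage_iSup, ← Scheme.Hom.comp_preimage, c.w, hVU]
      refine top_le_iff.mp fun x _ => ?_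
      obtain ⟨a, ha, hx⟩ := Set.mem_iUnion₂.mp (hs (Set.mem_univ x))
      exact TopologicalSpace.Opens.mem_iSup.mpr ⟨⟨a, ha⟩, hx⟩)
  -- the opens at stage `k`
  have hpre : ∀ a : s, c.π.app k ⁻¹ᵁ (D.map (fk ≫ fi a) ⁻¹ᵁ V a) = (u a.1).opensRange := by
    intro a
    rw [← Scheme.Hom.comp_preimage, c.w]
    exact hVU a
  have hrange : ∀ a : s, Set.range (u a.1 ≫ c.π.app k) ⊆
      Set.range (D.map (fk ≫ fi a) ⁻¹ᵁ V a).ι := by
    rintro a _ ⟨y, rfl⟩
    rw [Scheme.Opens.range_ι]
    have h1 : u a.1 y ∈ (u a.1).opensRange := ⟨y, rfl⟩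
    rw [← hpre a] at h1
    exact h1
  refine ⟨k, s.card,
    fun m => ((D.map (fk ≫ fi (s.equivFin.symm m)) ⁻¹ᵁ V (s.equivFin.symm m) :
      (D.obj k).Opens) : Scheme.{u}),
    fun m => (D.map (fk ≫ fi (s.equivFin.symm m)) ⁻¹ᵁ V (s.equivFin.symm m)).ι,
    fun m => (s.equivFin.symm m).1,
    fun m => IsOpenImmersion.lift _ _ (hrange (s.equivFin.symm m)), ?_, ?_, ?_⟩
  · intro m
    refine ⟨inferInstance, ?_⟩
    haveI : CompactSpace (((D.map (fk ≫ fi (s.equivFin.symm m)) ⁻¹ᵁ V (s.equivFin.symm m) :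
        (D.obj k).Opens) : Scheme.{u})) :=
      isCompact_iff_compactSpace.mp
        (QuasiCompact.isCompact_preimage (f := D.map (fk ≫ fi (s.equivFin.symm m))) _
          (V _).2 (hV _))
    infer_instance
  · intro x
    have hx : x ∈ D.map fk ⁻¹ᵁ (⨆ a, D.map (fi a) ⁻¹ᵁ V a) := by rw [e]; trivial
    rw [Scheme.Hom.preimage_iSup] at hx
    obtain ⟨a, ha⟩ := TopologicalSpace.Opens.mem_iSup.mp hx
    refine ⟨s.equivFin a, ⟨x, ?_⟩, rfl⟩
    rw [Equiv.symm_apply_apply, Functor.map_comp, Scheme.Hom.comp_preimage]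
    exact ha
  · intro m
    refine IsOpenImmersion.isPullback _ _ _ _ (IsOpenImmersion.lift_fac _ _ _).symm ?_
    rw [Scheme.Opens.opensRange_ι]
    exact hpre _

/-- Let (X_i) be a cofiltered system of schemes with affine transition morphisms such that X_{i₀} is
quasi-compact and quasi-separated for some index i₀, let X be its limit, and let {U_a ⟶ X} be a
family of quasi-compact open immersions (open immersions of finite presentation) which is jointly
surjective (a covering family for the Zariski class). Then the covering descends: for some index i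
there is a finite jointly surjective family {V_j ⟶ X_i}_{j < n} of quasi-compact open immersions
such that every V_j ×_{X_i} X is one of the U_a, i.e. for each j some U_{a_j} ⟶ X is the base change
of V_j ⟶ X_i along X ⟶ X_i. -/
theorem result {I : Type u} [SmallCategory I] [IsCofiltered I]
    (D : I ⥤ Scheme.{u}) (c : Cone D) (hc : IsLimit c)
    [∀ (i j : I) (t : i ⟶ j), IsAffineHom (D.map t)] (i₀ : I) [CompactSpace (D.obj i₀)]
    [QuasiSeparatedSpace (D.obj i₀)] {ι : Type u} (U : ι → Scheme.{u}) (u : ∀ a, U a ⟶ c.pt)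
    [∀ a, IsOpenImmersion (u a)] [∀ a, QuasiCompact (u a)] (hcov : ∀ x : c.pt, ∃ (a : ι) (y : U a), (u a).base y = x) :
    ∃ (i : I) (n : ℕ) (V : Fin n → Scheme.{u}) (v : ∀ j, V j ⟶ D.obj i) (a : Fin n → ι)
      (e : ∀ j, U (a j) ⟶ V j),
      (∀ j, IsOpenImmersion (v j) ∧ QuasiCompact (v j)) ∧
      (∀ x : D.obj i, ∃ (j : Fin n) (y : V j), (v j).base y = x) ∧
      ∀ j, IsPullback (e j) (u (a j)) (v j) (c.π.app i) := by
  haveI hD : ∀ {i j : I} (f : i ⟶ j), IsAffineHom (D.map f) := fun f => inferInstance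
  have hc' : IsLimit (c.whisker (Over.forget i₀)) :=
    (Functor.Initial.isLimitWhiskerEquiv (Over.forget i₀) c).symm hc
  haveI haff' : ∀ {j k : Over i₀} (f : j ⟶ k), IsAffineHom ((Over.forget i₀ ⋙ D).map f) :=
    fun f => by dsimp; infer_instance
  haveI hcpt : ∀ j : Over i₀, CompactSpace ((Over.forget i₀ ⋙ D).obj j) := fun j =>
    QuasiCompact.compactSpace_of_compactSpace (D.map j.hom)
  haveI hqs : ∀ j : Over i₀, QuasiSeparatedSpace ((Over.forget i₀ ⋙ D).obj j) := fun j =>
    quasiSeparatedSpace_of_quasiSeparated (D.map j.hom)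
  obtain ⟨k, n, V, v, a, e, h1, h2, h3⟩ :=
    aux (Over.forget i₀ ⋙ D) (c.whisker (Over.forget i₀)) hc' U u hcov
  exact ⟨k.left, n, V, v, a, e, h1, h2, h3⟩

end Groth.Agent.S20010
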