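import Groth.Statements.S20011
-- import your own Groth.Agent.* helpers here
import Mathlib
import Groth.Agent.Lib.Helper12.CoverDesc
import Groth.Agent.S9192

set_option autoImplicit false
universe u
open CategoryTheory CategoryTheory.Limits AlgebraicGeometry TopologicalSpace
open ModPair

namespace Groth.Agent.S20011
open Groth.Agent.Lib.Helper12 Groth.Agent.Lib.Helper12.CoverDesc
set_option backward.isDefEq.respectTransparency false
set_option linter.style.haveILetI false

/-- Let (X_i) be a cofiltered system of schemes with affine transition morphisms such that X_{i₀} is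
quasi-compact and quasi-separated for some index i₀, let X be its limit, and let {U_a ⟶ X} be a
family of étale morphisms of finite presentation (étale, quasi-compact and quasi-separated) which is
jointly surjective (a covering family for the étale class). Then the covering descends: for some
index i there is a finite jointly surjective family {V_j ⟶ X_i}_{j < n} of étale morphisms of finite
presentation (étale, quasi-compact and quasi-separated) such that every V_j ×_{X_i} X is one of the
U_a, i.e. for each j some U_{a_j} ⟶ X is the base change of V_j ⟶ X_i along X ⟶ X_i. -/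
theorem result {I : Type u} [SmallCategory I] [IsCofiltered I]
    (D : I ⥤ Scheme.{u}) (c : Cone D) (hc : IsLimit c)
    [∀ (i j : I) (t : i ⟶ j), IsAffineHom (D.map t)] (i₀ : I) [CompactSpace (D.obj i₀)]
    [QuasiSeparatedSpace (D.obj i₀)] {ι : Type u} (U : ι → Scheme.{u}) (u : ∀ a, U a ⟶ c.pt)
    [∀ a, Etale (u a)] [∀ a, QuasiCompact (u a)] [∀ a, QuasiSeparated (u a)] (hcov : ∀ x : c.pt, ∃ (a : ι) (y : U a), (u a).base y = x) :
    ∃ (i : I) (n : ℕ) (V : Fin n → Scheme.{u}) (v : ∀ j, V j ⟶ D.obj i) (a : Fin n → ι)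
      (e : ∀ j, U (a j) ⟶ V j),
      (∀ j, Etale (v j) ∧ QuasiCompact (v j) ∧ QuasiSeparated (v j)) ∧
      (∀ x : D.obj i, ∃ (j : Fin n) (y : V j), (v j).base y = x) ∧
      ∀ j, IsPullback (e j) (u (a j)) (v j) (c.π.app i) := by
  classical
  haveI hD : ∀ {i j : I} (f : i ⟶ j), IsAffineHom (D.map f) := fun f => inferInstance
  let D' : Over i₀ ⥤ Scheme.{u} := Over.forget i₀ ⋙ D
  let c' : Cone D' := c.whisker (Over.forget i₀)
  have hc' : IsLimit c' := (Functor.Initial.isLimitWhiskerEquiv (Over.forget i₀) c).symm hc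
  haveI hD' : ∀ {i j : Over i₀} (f : i ⟶ j), IsAffineHom (D'.map f) :=
    fun f => inferInstanceAs (IsAffineHom (D.map f.left))
  haveI hD'' : ∀ (i j : Over i₀) (f : i ⟶ j), IsAffineHom (D'.map f) := fun _ _ f => hD' f
  haveI hcp : ∀ j : Over i₀, CompactSpace (D'.obj j) :=
    fun j => QuasiCompact.compactSpace_of_compactSpace (D.map j.hom)
  haveI hqs : ∀ j : Over i₀, QuasiSeparatedSpace (D'.obj j) :=
    fun j => quasiSeparatedSpace_of_quasiSeparated (D.map j.hom)
  have hst : ∀ a, ∃ j, Nonempty (Stage D' c' @Etale (u a) j) := fun a =>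
    exists_stage (D := D') (c := c') hc' @Etale
      (fun i₁ X₀ Y₀ f₀ g₀ _ _ _ _ _ X Y f g qY qX hY hX hf => by
        haveI : Etale f := hf
        exact Groth.Agent.S9192.result D' c' hc' i₁ f₀ g₀ f g qY qX hY hX)
      (u a) inferInstance
  obtain ⟨j, n, a, s, hsurj⟩ := exists_cover_stage (D := D') (c := c') hc' @Etale
    (fun f hf _ => by haveI : Etale f := hf; exact f.isOpenMap) U u hst
    (fun x => by obtain ⟨a, y, hy⟩ := hcov x; exact ⟨a, y, hy⟩)
  exact ⟨j.left, n, fun k => (s k).V, fun k => (s k).v, a, fun k => (s k).e,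
    fun k => ⟨(s k).hP, (s k).qc, (s k).qs⟩, hsurj, fun k => (s k).sq⟩

end Groth.Agent.S20011
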