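import Groth.Statements.S20018
import Mathlib

set_option autoImplicit false
open CAlg

namespace Groth.Agent.S20018

section aux
variable {R : Type*} [CommRing R]

theorem coeff_mul_one_sub_lt (Q : PowerSeries R) (a : R) {m k : ℕ} (hk : k < m) :
    PowerSeries.coeff k (Q * (1 - PowerSeries.C a * PowerSeries.X ^ m)) =
      PowerSeries.coeff k Q := by
  have h : Q * (1 - PowerSeries.C a * PowerSeries.X ^ m) =
      Q - PowerSeries.C a * (Q * PowerSeries.X ^ m) := by ring
  rw [h, map_sub, PowerSeries.coeff_C_mul, PowerSeries.coeff_mul_X_pow',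
    if_neg (not_le.mpr hk), mul_zero, sub_zero]

theorem coeff_mul_one_sub_eq (Q : PowerSeries R) (a : R) (m : ℕ) :
    PowerSeries.coeff m (Q * (1 - PowerSeries.C a * PowerSeries.X ^ m)) =
      PowerSeries.coeff m Q - a * PowerSeries.constantCoeff Q := by
  have h : Q * (1 - PowerSeries.C a * PowerSeries.X ^ m) =
      Q - PowerSeries.C a * (Q * PowerSeries.X ^ m) := by ring
  rw [h, map_sub, PowerSeries.coeff_C_mul, PowerSeries.coeff_mul_X_pow',
    if_pos le_rfl, Nat.sub_self, PowerSeries.coeff_zero_eq_constantCoeff_apply]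

theorem trunc_eq_iff (n : ℕ) (x y : PowerSeries R) :
    PowerSeries.trunc n x = PowerSeries.trunc n y ↔
      ∀ k < n, PowerSeries.coeff k x = PowerSeries.coeff k y := by
  constructor
  · intro h k hk
    have := congrArg (fun p => Polynomial.coeff p k) h
    simpa [PowerSeries.coeff_trunc, hk] using this
  · intro h
    ext k
    rw [PowerSeries.coeff_trunc, PowerSeries.coeff_trunc]
    split_ifs with hk
    · exact h k hk
    · rfl

/-- The partial products. -/
noncomputable def P (α : ℕ → R) (N : ℕ) : PowerSeries R :=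
  ∏ i ∈ Finset.range N, (1 - PowerSeries.C (α i) * PowerSeries.X ^ (i + 1) : PowerSeries R)

theorem P_succ (α : ℕ → R) (N : ℕ) :
    P α (N + 1) = P α N * (1 - PowerSeries.C (α N) * PowerSeries.X ^ (N + 1)) := by
  unfold P
  rw [Finset.prod_range_succ]

theorem constantCoeff_P (α : ℕ → R) (N : ℕ) : PowerSeries.constantCoeff (P α N) = 1 := by
  unfold P
  rw [map_prod]
  apply Finset.prod_eq_one
  intro i _
  simp

theorem P_congr {α β : ℕ → R} {N : ℕ} (h : ∀ i < N, β i = α i) : P β N = P α N := by
  unfold P
  apply Finset.prod_congr rfl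
  intro i hi
  rw [h i (Finset.mem_range.mp hi)]

theorem step (x : PowerSeries R) (α : ℕ → R) (N : ℕ)
    (h : ∀ k < N + 1, PowerSeries.coeff k x = PowerSeries.coeff k (P α N))
    (hα : α N = PowerSeries.coeff (N + 1) (P α N) - PowerSeries.coeff (N + 1) x) :
    ∀ k < N + 2, PowerSeries.coeff k x = PowerSeries.coeff k (P α (N + 1)) := by
  intro k hk
  rw [P_succ]
  rcases Nat.lt_or_ge k (N + 1) with hk' | hk'
  · rw [coeff_mul_one_sub_lt _ _ hk']
    exact h k hk'
  · have hkeq : k = N + 1 := by omega
    subst hkeq
    rw [coeff_mul_one_sub_eq, constantCoeff_P, mul_one, hα]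
    ring

theorem conv (x : PowerSeries R) (α : ℕ → R) (N : ℕ)
    (h : ∀ k < N + 2, PowerSeries.coeff k x = PowerSeries.coeff k (P α (N + 1))) :
    α N = PowerSeries.coeff (N + 1) (P α N) - PowerSeries.coeff (N + 1) x := by
  have h1 := h (N + 1) (by omega)
  rw [P_succ, coeff_mul_one_sub_eq, constantCoeff_P, mul_one] at h1
  rw [h1]
  ring

/-- The recursively defined partial products. -/
noncomputable def Qseq (x : PowerSeries R) : ℕ → PowerSeries R
  | 0 => 1
  | (N + 1) => Qseq x N * (1 - PowerSeries.C (PowerSeries.coeff (N + 1) (Qseq x N) -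
      PowerSeries.coeff (N + 1) x) * PowerSeries.X ^ (N + 1))

/-- The coefficients. -/
noncomputable def alpha (x : PowerSeries R) (N : ℕ) : R :=
  PowerSeries.coeff (N + 1) (Qseq x N) - PowerSeries.coeff (N + 1) x

theorem Qseq_eq (x : PowerSeries R) (N : ℕ) : Qseq x N = P (alpha x) N := by
  induction N with
  | zero => simp [Qseq, P]
  | succ N ih =>
    rw [P_succ, ← ih]
    rfl

end aux

open PowerSeries in
/-- Product expansion of big Witt vectors: let R be a commutative ring and x ∈ 1 + tR[[t]] a formal
power series with constant term 1. Then x can be written uniquely as an infinite product ∏_{i ≥ 1}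
(1 - α_i t^i) with α_i ∈ R. The infinite product is expressed through its truncations: there is a
unique sequence α : ℕ → R (α i standing for the coefficient attached to t^{i+1}) such that for every
N the series x and the finite product ∏_{i=0}^{N} (1 - α_i t^{i+1}) agree modulo t^{N+2}. -/
theorem result
    (R : Type*) [CommRing R] (x : PowerSeries R) (hx : PowerSeries.constantCoeff x = 1) :
    ∃! α : ℕ → R, ∀ N : ℕ,
      PowerSeries.trunc (N + 2) x =
        PowerSeries.trunc (N + 2) (∏ i ∈ Finset.range (N + 1),
          (1 - PowerSeries.C (α i) * PowerSeries.X ^ (i + 1) : PowerSeries R)) := by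
  have hα : ∀ N, alpha x N = PowerSeries.coeff (N + 1) (P (alpha x) N) -
      PowerSeries.coeff (N + 1) x := by
    intro N
    rw [← Qseq_eq]
    rfl
  have hH : ∀ N, ∀ k < N + 1, PowerSeries.coeff k x = PowerSeries.coeff k (P (alpha x) N) := by
    intro N
    induction N with
    | zero =>
      intro k hk
      have hk0 : k = 0 := by omega
      subst hk0
      rw [PowerSeries.coeff_zero_eq_constantCoeff_apply,
        PowerSeries.coeff_zero_eq_constantCoeff_apply, hx, constantCoeff_P]
    | succ N ih => exact step x (alpha x) N ih (hα N)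
  refine ⟨alpha x, ?_, ?_⟩
  · intro N
    rw [trunc_eq_iff]
    exact hH (N + 1)
  · intro β hβ
    have hβ' : ∀ N, ∀ k < N + 2, PowerSeries.coeff k x = PowerSeries.coeff k (P β (N + 1)) := by
      intro N
      exact (trunc_eq_iff _ _ _).mp (hβ N)
    funext N
    induction N using Nat.strong_induction_on with
    | _ N ih =>
      rw [conv x β N (hβ' N), hα N, P_congr ih]

end Groth.Agent.S20018
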