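import Groth.Statements.S20022
import Mathlib

set_option autoImplicit false
universe u
open GrLC

namespace Groth.Agent.S20022


section aux20022
open DirectSum

variable {R : Type u} [CommRing R] (𝒜 : ℤ → AddSubgroup R) [GradedRing 𝒜]
  {M : Type u} [AddCommGroup M] [Module R M] (ℳ : ℤ → AddSubgroup M)
  [DirectSum.Decomposition ℳ] [SetLike.GradedSMul 𝒜 ℳ]

lemma S20022_comp_smul (c : R) {x : M} {r : ℤ} (hx : x ∈ ℳ r) {j N : ℤ} (h : j + r = N) :
    ((DirectSum.decompose ℳ (c • x)) N : M) = ((DirectSum.decompose 𝒜 c) j : R) • x := by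
  refine DirectSum.Decomposition.inductionOn 𝒜 ?_ ?_ ?_ c
  · simp
  · intro i a
    have hax : (a : R) • x ∈ ℳ (i + r) := by
      have := SetLike.GradedSMul.smul_mem (A := 𝒜) (B := ℳ) a.2 hx
      rwa [vadd_eq_add] at this
    by_cases hij : i = j
    · subst hij
      subst h
      rw [DirectSum.decompose_of_mem_same ℳ hax, DirectSum.decompose_of_mem_same 𝒜 a.2]
    · have hne : i + r ≠ N := by
        intro h'
        apply hij
        omega
      rw [DirectSum.decompose_of_mem_ne ℳ hax hne, DirectSum.decompose_of_mem_ne 𝒜 a.2 hij,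
        zero_smul]
  · intro a b ha hb
    rw [add_smul, DirectSum.decompose_add, DirectSum.add_apply, AddSubgroup.coe_add, ha, hb,
      DirectSum.decompose_add, DirectSum.add_apply, AddSubgroup.coe_add, add_smul]

include 𝒜 in
lemma S20022_closure (G : Set M) (hG : ∀ x ∈ G, SetLike.IsHomogeneousElem ℳ x) (z : M)
    (hz : z ∈ Submodule.span R G) (N : ℤ) :
    ((DirectSum.decompose ℳ z) N : M) ∈ Submodule.span R G := by
  have key : ∀ z ∈ Submodule.span R G, ∀ (c : R) (N : ℤ),
      ((DirectSum.decompose ℳ (c • z)) N : M) ∈ Submodule.span R G := by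
    intro z hz
    induction hz using Submodule.span_induction with
    | mem x hx =>
      intro c N
      obtain ⟨r, hr⟩ := hG x hx
      rw [S20022_comp_smul 𝒜 ℳ c hr (j := N - r) (by ring)]
      exact Submodule.smul_mem _ _ (Submodule.subset_span hx)
    | zero =>
      intro c N
      simp
    | add x y _ _ hx hy =>
      intro c N
      rw [smul_add, DirectSum.decompose_add, DirectSum.add_apply, AddSubgroup.coe_add]
      exact Submodule.add_mem _ (hx c N) (hy c N)
    | smul a x _ hx =>
      intro c N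
      rw [smul_smul]
      exact hx (c * a) N
  have := key z hz 1 N
  rwa [one_smul] at this

end aux20022

/-- Let R be a commutative ℤ-graded ring whose degree-zero subring R_0 is a field k and which is the
Laurent polynomial ring k[T, T⁻¹] on a homogeneous invertible element T of positive degree d, in the
following intrinsic sense: T is a unit lying in R_d, and every nonzero homogeneous element of degree
n equals a·T^j for some a ∈ R_0 and some integer j with j·d = n (so R_n = 0 unless d divides n, and
R_{jd} = k·T^j). Then every graded R-module M is free in the graded sense: M has an R-basis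
consisting of homogeneous elements. (The other case of condition (2), R = k concentrated in degree
zero, is not included.) -/
theorem result (R : Type u) [CommRing R]
    (𝒜 : ℤ → AddSubgroup R) [GradedRing 𝒜] (h0 : IsField (GrLC.deg0 𝒜))
    (d : ℤ) (hd : 0 < d) (T : Rˣ) (hT : (T : R) ∈ 𝒜 d)
    (hA : ∀ (n : ℤ) (x : R), x ∈ 𝒜 n → x ≠ 0 →
      ∃ j : ℤ, ∃ a ∈ 𝒜 0, j * d = n ∧ x = a * ((T ^ j : Rˣ) : R))
    (M : Type u) [AddCommGroup M] [Module R M] (ℳ : ℤ → AddSubgroup M)
    [DirectSum.Decomposition ℳ] [SetLike.GradedSMul 𝒜 ℳ] :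
    ∃ (κ : Type u) (b : Module.Basis κ R M), ∀ i : κ, SetLike.IsHomogeneousElem ℳ (b i) := by
  classical
  -- nonzero homogeneous elements are units
  have hunit : ∀ (n : ℤ) (x : R), x ∈ 𝒜 n → x ≠ 0 → IsUnit x := by
    intro n x hx hx0
    obtain ⟨j, a, ha, -, rfl⟩ := hA n x hx hx0
    have ha0 : a ≠ 0 := by
      rintro rfl
      exact hx0 (zero_mul _)
    have hak : (⟨a, ha⟩ : GrLC.deg0 𝒜) ≠ 0 := fun h => ha0 (congrArg Subtype.val h)
    obtain ⟨b, hb⟩ := h0.mul_inv_cancel hak
    have hab : a * (b : R) = 1 := congrArg Subtype.val hb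
    exact (IsUnit.of_mul_eq_one _ hab).mul (Units.isUnit _)
  obtain ⟨s, hli, hmax⟩ := exists_maximal_linearIndepOn R
    (fun i : {m : M // SetLike.IsHomogeneousElem ℳ m} => (i : M))
  set G : Set M := (fun i : {m : M // SetLike.IsHomogeneousElem ℳ m} => (i : M)) '' s with hGdef
  have hG : ∀ x ∈ G, SetLike.IsHomogeneousElem ℳ x := by
    rintro x ⟨i, -, rfl⟩
    exact i.2
  have hhom : ∀ (m : M) (n : ℤ), m ∈ ℳ n → m ∈ Submodule.span R G := by
    intro m n hm
    by_cases his : (⟨m, n, hm⟩ : {m : M // SetLike.IsHomogeneousElem ℳ m}) ∈ s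
    · exact Submodule.subset_span ⟨_, his, rfl⟩
    · obtain ⟨a, ha0, ham⟩ := hmax _ his
      have hj : ∃ j, ((DirectSum.decompose 𝒜 a) j : R) ≠ 0 := by
        by_contra hcon
        push Not at hcon
        apply ha0
        rw [← DirectSum.sum_support_decompose 𝒜 a]
        exact Finset.sum_eq_zero (fun i _ => hcon i)
      obtain ⟨j, hj⟩ := hj
      have hu := hunit j _ (SetLike.coe_mem _) hj
      have h1 := S20022_closure 𝒜 ℳ G hG _ ham (j + n)
      rw [S20022_comp_smul 𝒜 ℳ a hm (j := j) rfl] at h1
      have h2 := Submodule.smul_mem (Submodule.span R G) (↑hu.unit⁻¹ : R) h1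
      rwa [smul_smul, IsUnit.val_inv_mul, one_smul] at h2
  have hspan : ⊤ ≤ Submodule.span R (Set.range
      (fun i : s => ((i : {m : M // SetLike.IsHomogeneousElem ℳ m}) : M))) := by
    have hrange : Set.range (fun i : s => ((i : {m : M // SetLike.IsHomogeneousElem ℳ m}) : M)) = G := by
      rw [hGdef, Set.image_eq_range]
    rw [hrange]
    intro m _
    rw [← DirectSum.sum_support_decompose ℳ m]
    exact Submodule.sum_mem _ (fun n _ => hhom _ n (SetLike.coe_mem _))
  refine ⟨s, Module.Basis.mk hli hspan, ?_⟩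
  intro i
  rw [Module.Basis.mk_apply]
  exact i.1.2

end Groth.Agent.S20022
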