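import Groth.Statements.S20024
import Mathlib
import Groth.Agent.Lib.Helper26.WittTeich

set_option autoImplicit false
universe u
open WittFil

namespace Groth.Agent.S20024

open Groth.Agent.Lib.Helper26.WittTeich

lemma vShift_coeff (p : ℕ) [Fact p.Prime] {B : Type u} [CommRing B] (s : ℕ) (v : B)
    (c' : WittVector p B) (j : ℕ) :
    ((WittVector.verschiebung)^[s] (c' * WittVector.teichmuller p v)).coeff j =
      if s ≤ j then c'.coeff (j - s) * v ^ p ^ (j - s) else 0 := by
  split_ifs with h
  · obtain ⟨k, rfl⟩ : ∃ k, j = k + s := ⟨j - s, by omega⟩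
    rw [WittVector.iterate_verschiebung_coeff, mul_teichmuller_coeff, Nat.add_sub_cancel]
  · exact WittVector.iterate_verschiebung_coeff_eq_zero _ (by omega)


/-- Case q = 0: let p be a prime, S a commutative ring of characteristic p and B a commutative S-algebra
(in the source B = S[[π]][1/π]), u a unit of B (the uniformizer π), m, s natural numbers, i, l
integers and c a p-typical Witt vector over S. Write Φ_v(c) for the length-m truncation of V^s(c ·
[v]), where c is mapped to the Witt vectors of B, [v] is the Teichmüller representative of v ∈ B and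
V is the Verschiebung; for n = p^(m−1−s) · i the degree-zero piece F_n^{m,0}(S) is the set of all
Φ_{u^i}(c). Then multiplication by the truncated Teichmüller representative [u^l] satisfies [u^l] ·
Φ_{u^i}(c) = Φ_{u^(i + p^s l)}(c); consequently [u^l] · F_n^{m,0}(S) = F_{n + p^(m−1) l}^{m,0}(S).
(Only the part of the lemma in differential degree q = 0 is stated; the source's S is a regular
local F-finite F_p-algebra, and the identity holds for any S-algebra B of characteristic p.) -/
theorem result (p : ℕ) [Fact p.Prime] {S B : Type u}
    [CommRing S] [CharP S p] [CommRing B] [Algebra S B] (m s : ℕ) (u : Bˣ) (i l : ℤ)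
    (c : WittVector p S) :
    WittVector.truncate m (WittVector.teichmuller p ((u ^ l : Bˣ) : B)) *
        WittFil.vShiftTeich p m s ((u ^ i : Bˣ) : B) c =
      WittFil.vShiftTeich p m s ((u ^ (i + (p : ℤ) ^ s * l) : Bˣ) : B) c := by
  ext j
  unfold WittFil.vShiftTeich
  rw [truncate_teichmuller_mul_coeff, WittVector.coeff_truncate, WittVector.coeff_truncate,
    vShift_coeff, vShift_coeff]
  split_ifs with h
  · have e : ((u ^ (i + (p : ℤ) ^ s * l) : Bˣ) : B) =
        ((u ^ i : Bˣ) : B) * ((u ^ l : Bˣ) : B) ^ p ^ s := by
      rw [← Units.val_pow_eq_pow_val, ← Units.val_mul]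
      congr 1
      rw [← zpow_natCast, ← zpow_mul, ← zpow_add]
      congr 1
      push_cast
      ring
    rw [e, mul_pow, ← pow_mul, ← pow_add]
    have hj : s + ((j : ℕ) - s) = (j : ℕ) := by omega
    rw [hj]
    ring
  · rw [mul_zero]

end Groth.Agent.S20024
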