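import Groth.Statements.S2007
import Groth.Agent.S12648
import Mathlib

set_option autoImplicit false
universe u
open TensorProduct
open EtAlg

namespace Groth.Agent.S2007

theorem mult_injective {R S : Type u} [CommRing R] [CommRing S] [Algebra R S] [Module.Flat R S]
    (I : Ideal R)
    (hq : Function.Bijective
      (Ideal.quotientMap (I.map (algebraMap R S)) (algebraMap R S) Ideal.le_comap_map))
    (P : Type u) [AddCommGroup P] [Module R P] [Module S P] [IsScalarTower R S P]
    (hP : ∀ p : P, ∃ n : ℕ, ∀ a ∈ I ^ n, a • p = 0) :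
    Function.Injective (LinearMap.liftBaseChange S (LinearMap.id : P →ₗ[R] P)) := by
  have hb := Groth.Agent.S12648.bijective_of_torsion I hq P hP
  rw [injective_iff_map_eq_zero]
  intro w hw
  obtain ⟨p, rfl⟩ := hb.2 w
  have h1 : (LinearMap.liftBaseChange S (LinearMap.id : P →ₗ[R] P))
      (TensorProduct.mk R S P 1 p) = p := by
    show (LinearMap.liftBaseChange S (LinearMap.id : P →ₗ[R] P)) ((1 : S) ⊗ₜ[R] p) = p
    rw [LinearMap.liftBaseChange_tmul, one_smul]
    rfl
  rw [h1] at hw
  rw [hw, map_zero]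

theorem aux (R S : Type u) [CommRing R] [CommRing S] [Algebra R S] [Module.Flat R S]
    (I : Ideal R)
    (hq : Function.Bijective
      (Ideal.quotientMap (I.map (algebraMap R S)) (algebraMap R S) Ideal.le_comap_map))
    (N : Type u) [AddCommGroup N] [Module R N] (M' : Type u) [AddCommGroup M'] [Module S M']
    [Module R M'] [IsScalarTower R S M'] (φ : M' →ₗ[S] S ⊗[R] N)
    (hker : ∀ x : M', φ x = 0 → ∃ n : ℕ, ∀ a ∈ I ^ n, algebraMap R S a • x = 0)
    (hcoker : ∀ y : S ⊗[R] N, ∃ n : ℕ, ∀ a ∈ I ^ n,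
      algebraMap R S a • y ∈ LinearMap.range φ) :
    ∃ (M : Type u) (_ : AddCommGroup M) (_ : Module R M) (ψ : M →ₗ[R] N)
      (e : S ⊗[R] M ≃ₗ[S] M'), φ ∘ₗ e.toLinearMap = ψ.baseChange S := by
  classical
  let f₁ : (M' × N) →ₗ[R] S ⊗[R] N := (φ.restrictScalars R).comp (LinearMap.fst R M' N)
  let f₂ : (M' × N) →ₗ[R] S ⊗[R] N := (TensorProduct.mk R S N 1).comp (LinearMap.snd R M' N)
  let M : Submodule R (M' × N) := LinearMap.eqLocus f₁ f₂
  have hM : ∀ x : M, φ x.1.1 = (1 : S) ⊗ₜ[R] x.1.2 := fun x => x.2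
  let ψ : M →ₗ[R] N := (LinearMap.snd R M' N).comp M.subtype
  let pr : M →ₗ[R] M' := (LinearMap.fst R M' N).comp M.subtype
  let μ : S ⊗[R] M →ₗ[S] M' := LinearMap.liftBaseChange S pr
  have hμ : ∀ (s : S) (x : M), μ (s ⊗ₜ[R] x) = s • x.1.1 := fun s x => rfl
  let K : Submodule S M' := LinearMap.ker φ
  let Q : Type u := (S ⊗[R] N) ⧸ LinearMap.range φ
  let ι : K →ₗ[R] M := LinearMap.codRestrict M
    ((LinearMap.inl R M' N).comp (K.subtype.restrictScalars R)) (fun k => by
      show φ k.1 = (1 : S) ⊗ₜ[R] (0 : N)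
      rw [TensorProduct.tmul_zero]
      exact k.2)
  have hι : ∀ k : K, (ι k).1 = (k.1, 0) := fun k => rfl
  let ν : N →ₗ[R] (S ⊗[R] N) ⧸ LinearMap.range φ :=
    ((LinearMap.range φ).mkQ.restrictScalars R).comp (TensorProduct.mk R S N 1)
  have hν : ∀ n : N, ν n = Submodule.Quotient.mk ((1 : S) ⊗ₜ[R] n) := fun n => rfl
  have hex1 : Function.Exact ι ψ := by
    intro x
    constructor
    · intro hx
      have h0 : x.1.2 = 0 := hx
      have h1 : φ x.1.1 = 0 := by rw [hM x, h0, TensorProduct.tmul_zero]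
      refine ⟨⟨x.1.1, h1⟩, ?_⟩
      apply Subtype.ext
      rw [hι]
      exact Prod.ext rfl h0.symm
    · rintro ⟨k, rfl⟩
      rfl
  have hex2 : Function.Exact ψ ν := by
    intro n
    constructor
    · intro hn
      rw [hν] at hn
      have h1 : (1 : S) ⊗ₜ[R] n ∈ LinearMap.range φ := (Submodule.Quotient.mk_eq_zero _).1 hn
      obtain ⟨m', hm'⟩ := h1
      exact ⟨⟨(m', n), hm'⟩, rfl⟩
    · rintro ⟨x, rfl⟩
      rw [hν]
      exact (Submodule.Quotient.mk_eq_zero _).2 ⟨x.1.1, hM x⟩
  have hex1' : Function.Exact (ι.lTensor S) (ψ.lTensor S) := Module.Flat.lTensor_exact S hex1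
  have hex2' : Function.Exact (ψ.lTensor S) (ν.lTensor S) := Module.Flat.lTensor_exact S hex2
  have hKt : ∀ k : K, ∃ n : ℕ, ∀ a ∈ I ^ n, a • k = 0 := by
    intro k
    obtain ⟨n, hn⟩ := hker k.1 k.2
    refine ⟨n, fun a ha => Subtype.ext ?_⟩
    show a • k.1 = 0
    rw [← hn a ha, algebraMap_smul]
  have hQt : ∀ y : (S ⊗[R] N) ⧸ LinearMap.range φ, ∃ n : ℕ, ∀ a ∈ I ^ n, a • y = 0 := by
    intro y
    obtain ⟨y, rfl⟩ := Submodule.Quotient.mk_surjective _ y
    obtain ⟨n, hn⟩ := hcoker y
    refine ⟨n, fun a ha => ?_⟩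
    rw [← Submodule.Quotient.mk_smul, Submodule.Quotient.mk_eq_zero, ← algebraMap_smul S a y]
    exact hn a ha
  have hmK := mult_injective I hq K hKt
  have hmQ := mult_injective I hq ((S ⊗[R] N) ⧸ LinearMap.range φ) hQt
  have C1 : ∀ z : S ⊗[R] M, φ (μ z) = ψ.lTensor S z := by
    intro z
    induction z using TensorProduct.induction_on with
    | zero => simp
    | tmul s x =>
      rw [hμ, map_smul, hM x, LinearMap.lTensor_tmul, TensorProduct.smul_tmul', smul_eq_mul,
        mul_one]
      rfl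
    | add a b ha hb => rw [map_add, map_add, map_add, ha, hb]
  have C2 : ∀ w : S ⊗[R] K, μ (ι.lTensor S w) =
      ((LinearMap.liftBaseChange S (LinearMap.id : K →ₗ[R] K)) w : M') := by
    intro w
    induction w using TensorProduct.induction_on with
    | zero => simp
    | tmul s k =>
      rw [LinearMap.lTensor_tmul, hμ, hι, LinearMap.liftBaseChange_tmul]
      rfl
    | add a b ha hb => rw [map_add, map_add, map_add, ha, hb, Submodule.coe_add]
  have C3 : ∀ y : S ⊗[R] N,
      (LinearMap.liftBaseChange S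
        (LinearMap.id : ((S ⊗[R] N) ⧸ LinearMap.range φ) →ₗ[R] _)) (ν.lTensor S y) =
      Submodule.Quotient.mk y := by
    intro y
    induction y using TensorProduct.induction_on with
    | zero => simp
    | tmul s n =>
      rw [LinearMap.lTensor_tmul, LinearMap.liftBaseChange_tmul, hν]
      show s • Submodule.Quotient.mk ((1 : S) ⊗ₜ[R] n) = _
      rw [← Submodule.Quotient.mk_smul, TensorProduct.smul_tmul', smul_eq_mul, mul_one]
    | add a b ha hb => rw [map_add, map_add, ha, hb, Submodule.Quotient.mk_add]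
  have hinj : Function.Injective μ := by
    rw [injective_iff_map_eq_zero]
    intro z hz
    have h1 : ψ.lTensor S z = 0 := by rw [← C1, hz, map_zero]
    obtain ⟨w, rfl⟩ := (hex1' z).1 h1
    have h2 : (LinearMap.liftBaseChange S (LinearMap.id : K →ₗ[R] K)) w = 0 := by
      apply Subtype.ext
      rw [← C2, hz]
      rfl
    have h3 : w = 0 := hmK (h2.trans (map_zero _).symm)
    rw [h3, map_zero]
  have hsurj : Function.Surjective μ := by
    intro m'
    have h1 : ν.lTensor S (φ m') = 0 := by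
      apply hmQ
      rw [C3, map_zero]
      exact (Submodule.Quotient.mk_eq_zero _).2 ⟨m', rfl⟩
    obtain ⟨z, hz⟩ := (hex2' (φ m')).1 h1
    have h2 : φ (m' - μ z) = 0 := by rw [map_sub, C1, hz, sub_self]
    let k : K := ⟨m' - μ z, h2⟩
    refine ⟨z + ι.lTensor S ((1 : S) ⊗ₜ[R] k), ?_⟩
    rw [map_add, C2, LinearMap.liftBaseChange_tmul, one_smul]
    show μ z + (m' - μ z) = m'
    abel
  refine ⟨M, inferInstance, inferInstance, ψ, LinearEquiv.ofBijective μ ⟨hinj, hsurj⟩, ?_⟩
  apply LinearMap.ext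
  intro z
  show φ (μ z) = ψ.baseChange S z
  rw [C1 z]
  rfl

/-- Let R -> S be a flat ring map and I a finitely generated ideal of R such that R/I -> S/IS is
bijective. Let N be an R-module, M' an S-module and φ : M' -> S ⊗_R N an S-linear map whose kernel
and cokernel are I-power torsion (every element of the kernel, resp. of the target modulo the image,
is killed by some power of I). Then there are an R-module M, an R-linear map ψ : M -> N and an
S-isomorphism S ⊗_R M ≅ M' identifying φ with the base change of ψ. -/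
theorem result (R S : Type u) [CommRing R] [CommRing S] [Algebra R S] [Module.Flat R S] (I : Ideal R)
    (hI : I.FG) (hq : Function.Bijective (Ideal.quotientMap (I.map (algebraMap R S)) (algebraMap R S) Ideal.le_comap_map))
    (N : Type u) [AddCommGroup N] [Module R N] (M' : Type u) [AddCommGroup M'] [Module S M'] (φ : M' →ₗ[S] S ⊗[R] N)
    (hker : ∀ x : M', φ x = 0 → ∃ n : ℕ, ∀ a ∈ I ^ n, algebraMap R S a • x = 0)
    (hcoker : ∀ y : S ⊗[R] N, ∃ n : ℕ, ∀ a ∈ I ^ n, algebraMap R S a • y ∈ LinearMap.range φ) :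
    ∃ (M : Type u) (_ : AddCommGroup M) (_ : Module R M) (ψ : M →ₗ[R] N) (e : S ⊗[R] M ≃ₗ[S] M'),
      φ ∘ₗ e.toLinearMap = ψ.baseChange S := by
  letI : Module R M' := Module.compHom M' (algebraMap R S)
  haveI : IsScalarTower R S M' := ⟨fun r s x => by
    show (r • s) • x = algebraMap R S r • (s • x)
    rw [Algebra.smul_def, mul_smul]⟩
  exact aux R S I hq N M' φ hker hcoker

end Groth.Agent.S2007
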