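import Groth.Statements.S2008
import Mathlib
import Groth.Agent.Lib.Helper9.NilpFlat

set_option autoImplicit false
universe u
open TensorProduct
open EtAlg

namespace Groth.Agent.S2008


section
open TensorProduct Groth.Agent.Lib.Helper9.NilpFlat

variable (R S : Type u) [CommRing R] [CommRing S] [Algebra R S] (I : Ideal R)

lemma flat_quot [Module.Flat R S] : Module.Flat (R ⧸ I) (S ⧸ I.map (algebraMap R S)) := by
  have hsurj : Function.Surjective (algebraMap R (R ⧸ I)) := Ideal.Quotient.mk_surjective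
  have heq : (I • (⊤ : Submodule R S)) = (I.map (algebraMap R S)).restrictScalars R :=
    Ideal.smul_top_eq_map I
  let e0 : ((R ⧸ I) ⊗[R] S) ≃ₗ[R] (S ⧸ I.map (algebraMap R S)) :=
    (TensorProduct.quotTensorEquivQuotSMul S I) ≪≫ₗ (Submodule.quotEquivOfEq _ _ heq) ≪≫ₗ
      (Submodule.Quotient.restrictScalarsEquiv R (I.map (algebraMap R S)))
  let e : ((R ⧸ I) ⊗[R] S) ≃ₗ[R ⧸ I] (S ⧸ I.map (algebraMap R S)) :=
    e0.extendScalarsOfSurjective hsurj
  exact Module.Flat.of_linearEquiv e.symm

lemma surj_iff : Function.Surjective (PrimeSpectrum.comap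
      (Ideal.quotientMap (I.map (algebraMap R S)) (algebraMap R S) Ideal.le_comap_map)) ↔
    ∀ p : Ideal R, p.IsPrime → I ≤ p →
      ∃ q : Ideal S, q.IsPrime ∧ q.comap (algebraMap R S) = p := by
  constructor
  · intro h p hp hIp
    haveI := hp
    have hker : RingHom.ker (Ideal.Quotient.mk I) ≤ p := by rw [Ideal.mk_ker]; exact hIp
    haveI : (p.map (Ideal.Quotient.mk I)).IsPrime :=
      Ideal.map_isPrime_of_surjective Ideal.Quotient.mk_surjective hker
    obtain ⟨qbar, hq⟩ := h ⟨p.map (Ideal.Quotient.mk I), inferInstance⟩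
    refine ⟨qbar.asIdeal.comap (Ideal.Quotient.mk _), inferInstance, ?_⟩
    have hq' : qbar.asIdeal.comap (Ideal.quotientMap (I.map (algebraMap R S)) (algebraMap R S)
        Ideal.le_comap_map) = p.map (Ideal.Quotient.mk I) :=
      congrArg PrimeSpectrum.asIdeal hq
    ext r
    rw [Ideal.mem_comap, Ideal.mem_comap]
    have : Ideal.Quotient.mk (I.map (algebraMap R S)) (algebraMap R S r) =
        Ideal.quotientMap (I.map (algebraMap R S)) (algebraMap R S) Ideal.le_comap_map
          (Ideal.Quotient.mk I r) := rfl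
    rw [this, ← Ideal.mem_comap, hq', Ideal.mem_quotient_iff_mem hIp]
  · intro h pbar
    have hIp : I ≤ pbar.asIdeal.comap (Ideal.Quotient.mk I) := by
      intro x hx
      rw [Ideal.mem_comap, Ideal.Quotient.eq_zero_iff_mem.mpr hx]
      exact zero_mem _
    obtain ⟨q, hq, hqp⟩ := h (pbar.asIdeal.comap (Ideal.Quotient.mk I)) inferInstance hIp
    haveI := hq
    have hIq : I.map (algebraMap R S) ≤ q := by
      rw [Ideal.map_le_iff_le_comap, hqp]
      exact hIp
    have hker : RingHom.ker (Ideal.Quotient.mk (I.map (algebraMap R S))) ≤ q := by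
      rw [Ideal.mk_ker]; exact hIq
    haveI : (q.map (Ideal.Quotient.mk (I.map (algebraMap R S)))).IsPrime :=
      Ideal.map_isPrime_of_surjective Ideal.Quotient.mk_surjective hker
    refine ⟨⟨q.map (Ideal.Quotient.mk _), inferInstance⟩, ?_⟩
    apply PrimeSpectrum.ext
    show (q.map (Ideal.Quotient.mk _)).comap (Ideal.quotientMap (I.map (algebraMap R S))
      (algebraMap R S) Ideal.le_comap_map) = pbar.asIdeal
    ext x
    obtain ⟨r, rfl⟩ := Ideal.Quotient.mk_surjective x
    rw [Ideal.mem_comap]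
    have : Ideal.quotientMap (I.map (algebraMap R S)) (algebraMap R S) Ideal.le_comap_map
          (Ideal.Quotient.mk I r) =
        Ideal.Quotient.mk (I.map (algebraMap R S)) (algebraMap R S r) := rfl
    rw [this, Ideal.mem_quotient_iff_mem hIq, ← Ideal.mem_comap, hqp, Ideal.mem_comap]

lemma step24 [Module.Flat R S]
    (h2 : ∀ p : Ideal R, p.IsPrime → I ≤ p →
      ∃ q : Ideal S, q.IsPrime ∧ q.comap (algebraMap R S) = p)
    (M : Type u) [AddCommGroup M] [Module R M]
    (htors : ∀ m : M, ∃ n : ℕ, ∀ a ∈ I ^ n, a • m = 0) [Nontrivial M] :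
    Nontrivial (S ⊗[R] M) := by
  obtain ⟨m, hm⟩ := exists_ne (0 : M)
  let g : R →ₗ[R] M := LinearMap.toSpanSingleton R M m
  have hg : ∀ r, g r = r • m := fun r => rfl
  let a : Ideal R := LinearMap.ker g
  have ha : a ≠ ⊤ := by
    intro h
    apply hm
    have h1 : (1 : R) ∈ a := h ▸ Submodule.mem_top
    have h2 : g 1 = 0 := h1
    rwa [hg, one_smul] at h2
  obtain ⟨p, hp, hap⟩ := Ideal.exists_le_maximal a ha
  obtain ⟨n, hn⟩ := htors m
  haveI := hp.isPrime
  have hIp : I ≤ p := by
    have : I ^ n ≤ p := fun x hx => hap (by show g x = 0; rw [hg]; exact hn x hx)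
    exact Ideal.IsPrime.le_of_pow_le this
  obtain ⟨q, hq, hqp⟩ := h2 p hp.isPrime hIp
  let gbar : (R ⧸ a) →ₗ[R] M := Submodule.liftQ a g le_rfl
  have hgbar : Function.Injective gbar := by
    rw [← LinearMap.ker_eq_bot]
    exact Submodule.ker_liftQ_eq_bot _ _ _ le_rfl
  have hinj : Function.Injective (gbar.lTensor S) :=
    Module.Flat.lTensor_preserves_injective_linearMap gbar hgbar
  by_contra hnt
  rw [not_nontrivial_iff_subsingleton] at hnt
  have h0 : (1 : S) ⊗ₜ[R] (1 : R ⧸ a) = 0 := hinj (Subsingleton.elim _ _)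
  have h1 : (1 : R ⧸ a) ⊗ₜ[R] (1 : S) = 0 := by
    have := congrArg (TensorProduct.comm R S (R ⧸ a)) h0
    simpa using this
  rw [one_tmul_eq_zero_iff, Ideal.smul_top_eq_map] at h1
  have h2 : (1 : S) ∈ a.map (algebraMap R S) := h1
  have h3 : a.map (algebraMap R S) ≤ q := by
    rw [Ideal.map_le_iff_le_comap, hqp]; exact hap
  exact hq.ne_top ((Ideal.eq_top_iff_one _).mpr (h3 h2))

lemma step32
    (h3 : ∀ (M : Type u) [AddCommGroup M] [Module R M], (∀ (a : R) (m : M), a ∈ I → a • m = 0) →
        Nontrivial M → Nontrivial (S ⊗[R] M)) :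
    ∀ p : Ideal R, p.IsPrime → I ≤ p →
      ∃ q : Ideal S, q.IsPrime ∧ q.comap (algebraMap R S) = p := by
  intro p hp hIp
  haveI := hp
  have hk : ∀ (a : R) (m : p.ResidueField), a ∈ I → a • m = 0 := by
    intro a m ha
    rw [Algebra.smul_def, Ideal.algebraMap_residueField_eq_zero.mpr (hIp ha), zero_mul]
  have hnt : Nontrivial (S ⊗[R] p.ResidueField) := h3 p.ResidueField hk inferInstance
  have hnt' : Nontrivial (p.ResidueField ⊗[R] S) :=
    (TensorProduct.comm R p.ResidueField S).toEquiv.nontrivial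
  obtain ⟨q, hq⟩ := ((⟨p, hp⟩ : PrimeSpectrum R).nontrivial_iff_mem_rangeComap (S := S)).mp hnt'
  exact ⟨q.asIdeal, q.isPrime, congrArg PrimeSpectrum.asIdeal hq⟩

end

/-- For a ring map R -> S and an ideal I of R the following are equivalent: (1) S is flat over R and
S/IS is faithfully flat over R/I; (2) S is flat over R and Spec(S/IS) -> Spec(R/I) is surjective;
(3) S is flat over R and S ⊗_R M is nonzero for every nonzero R-module M killed by I; (4) S is flat
over R and S ⊗_R M is nonzero for every nonzero I-power torsion R-module M. (Faithfulness of base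
change on these subcategories is stated as detection of nonzero objects, which is equivalent for an
exact functor.) -/
theorem result (R S : Type u) [CommRing R] [CommRing S] [Algebra R S] (I : Ideal R) :
    List.TFAE [
      Module.Flat R S ∧ Module.FaithfullyFlat (R ⧸ I) (S ⧸ I.map (algebraMap R S)),
      Module.Flat R S ∧ Function.Surjective (PrimeSpectrum.comap (Ideal.quotientMap (I.map (algebraMap R S)) (algebraMap R S) Ideal.le_comap_map)),
      Module.Flat R S ∧ ∀ (M : Type u) [AddCommGroup M] [Module R M], (∀ (a : R) (m : M), a ∈ I → a • m = 0) →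
        Nontrivial M → Nontrivial (S ⊗[R] M),
      Module.Flat R S ∧ ∀ (M : Type u) [AddCommGroup M] [Module R M], (∀ m : M, ∃ n : ℕ, ∀ a ∈ I ^ n, a • m = 0) →
        Nontrivial M → Nontrivial (S ⊗[R] M)] := by
  tfae_have 1 ↔ 2 := by
    constructor
    · rintro ⟨hfl, hff⟩
      exact ⟨hfl, PrimeSpectrum.comap_surjective_of_faithfullyFlat
        (A := R ⧸ I) (B := S ⧸ I.map (algebraMap R S))⟩
    · rintro ⟨hfl, hs⟩
      haveI := hfl
      haveI := flat_quot R S I
      exact ⟨hfl, Module.FaithfullyFlat.of_comap_surjective hs⟩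
  tfae_have 2 → 4 := by
    rintro ⟨hfl, hs⟩
    haveI := hfl
    refine ⟨hfl, fun M _ _ htors hnt => ?_⟩
    exact step24 R S I ((surj_iff R S I).mp hs) M htors
  tfae_have 4 → 3 := by
    rintro ⟨hfl, h4⟩
    refine ⟨hfl, fun M _ _ hk hnt => h4 M (fun m => ⟨1, fun a ha => ?_⟩) hnt⟩
    rw [pow_one] at ha
    exact hk a m ha
  tfae_have 3 → 2 := by
    rintro ⟨hfl, h3⟩
    exact ⟨hfl, (surj_iff R S I).mpr (step32 R S I h3)⟩
  tfae_finish

end Groth.Agent.S2008
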