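import Groth.Statements.S4712
import Mathlib

set_option autoImplicit false
universe u
open EGA4

namespace Groth.Agent.S4712

lemma height_gt_one {D : Type*} [CommRing D] [IsDomain D] {P₁ P₂ : Ideal D} [P₁.IsPrime]
    [P₂.IsPrime] (h0 : P₁ ≠ ⊥) (h : P₁ < P₂) : ¬ P₂.height ≤ 1 := by
  intro hle
  have h1 : 1 ≤ P₁.height :=
    ENat.one_le_iff_ne_zero.mpr (mt Ideal.height_eq_zero_iff_eq_bot.mp h0)
  have h2 : P₁.height + 1 ≤ P₂.height := Ideal.height_add_one_le_of_lt_of_isPrime h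
  have h3 : (1 : ℕ∞) + 1 ≤ 1 := (add_le_add h1 le_rfl).trans (h2.trans hle)
  exact lt_irrefl _ ((ENat.add_one_le_iff ENat.one_ne_top).mp h3)

lemma no_chain_of_forall_mem {D : Type*} [CommRing D] [IsDomain D] [IsNoetherianRing D] {f : D}
    (hf : f ≠ 0) (hall : ∀ P : Ideal D, P.IsPrime → P ≠ ⊥ → f ∈ P) {P Q : Ideal D}
    [hP : P.IsPrime] [hQ : Q.IsPrime] (hP0 : P ≠ ⊥) (hPQ : P < Q) : False := by
  classical
  have hfin : (Ideal.span {f}).minimalPrimes.Finite :=
    Ideal.finite_minimalPrimes_of_isNoetherianRing D _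
  have hQ0 : Q ≠ ⊥ := fun h => hP0 (le_bot_iff.mp (h ▸ hPQ.le))
  have hfQ : f ∈ Q := hall Q hQ hQ0
  have hminprop : ∀ P' ∈ (Ideal.span {f}).minimalPrimes,
      P'.IsPrime ∧ P' ≠ ⊥ ∧ P'.height ≤ 1 := by
    intro P' hP'
    refine ⟨hP'.1.1, ?_, Ideal.height_le_one_of_isPrincipal_of_mem_minimalPrimes _ P' hP'⟩
    intro h0
    have : f ∈ P' := hP'.1.2 (Ideal.mem_span_singleton_self f)
    rw [h0, Ideal.mem_bot] at this
    exact hf this
  have hQsub : ¬ ((Q : Set D) ⊆ ⋃ P' ∈ (hfin.toFinset : Set (Ideal D)), (P' : Set D)) := by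
    intro hsub
    obtain ⟨P', hP', hQP'⟩ := (Ideal.subset_union_prime (f := fun P' : Ideal D => P') ⊥ ⊥
      (fun P' hP' _ _ => (hminprop P' (hfin.mem_toFinset.mp hP')).1)).mp hsub
    have hP'm := hfin.mem_toFinset.mp hP'
    haveI := (hminprop P' hP'm).1
    exact height_gt_one hP0 (lt_of_lt_of_le hPQ hQP') (hminprop P' hP'm).2.2
  obtain ⟨a, haQ, haU⟩ := Set.not_subset.mp hQsub
  have haP' : ∀ P' ∈ (Ideal.span {f}).minimalPrimes, a ∉ P' := by
    intro P' hP' haP'
    apply haU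
    exact Set.mem_iUnion₂.mpr ⟨P', Finset.mem_coe.mpr (hfin.mem_toFinset.mpr hP'), haP'⟩
  obtain ⟨P₁, hP₁, hP₁Q⟩ := Ideal.exists_minimalPrimes_le
    (show Ideal.span {a} ≤ Q from Ideal.span_le.mpr (Set.singleton_subset_iff.mpr haQ))
  haveI hP₁prime : P₁.IsPrime := hP₁.1.1
  have haP₁ : a ∈ P₁ := hP₁.1.2 (Ideal.mem_span_singleton_self a)
  have hP₁h : P₁.height ≤ 1 :=
    Ideal.height_le_one_of_isPrincipal_of_mem_minimalPrimes _ P₁ hP₁
  obtain ⟨P₀, hP₀, hP₀Q⟩ := Ideal.exists_minimalPrimes_le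
    (show Ideal.span {f} ≤ Q from Ideal.span_le.mpr (Set.singleton_subset_iff.mpr hfQ))
  have ha0 : a ≠ 0 := fun h => haP' P₀ hP₀ (h ▸ zero_mem _)
  have hP₁0 : P₁ ≠ ⊥ := fun h => ha0 (by rw [h, Ideal.mem_bot] at haP₁; exact haP₁)
  have hfP₁ : f ∈ P₁ := hall P₁ hP₁prime hP₁0
  obtain ⟨P₂, hP₂, hP₂P₁⟩ := Ideal.exists_minimalPrimes_le
    (show Ideal.span {f} ≤ P₁ from Ideal.span_le.mpr (Set.singleton_subset_iff.mpr hfP₁))
  haveI := (hminprop P₂ hP₂).1
  rcases eq_or_lt_of_le hP₂P₁ with heq | hlt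
  · exact haP' P₂ hP₂ (heq ▸ haP₁)
  · exact height_gt_one (hminprop P₂ hP₂).2.1 hlt hP₁h

lemma no_chain_of_forall_mem' {A : Type*} [CommRing A] [IsNoetherianRing A] {p q q' : Ideal A}
    [hp : p.IsPrime] [hq : q.IsPrime] [hq' : q'.IsPrime] {f : A} (hfp : f ∉ p)
    (hall : ∀ r : Ideal A, r.IsPrime → p < r → f ∈ r) (hpq : p < q) (hqq' : q < q') : False := by
  have hπ : Function.Surjective (Ideal.Quotient.mk p) := Ideal.Quotient.mk_surjective
  haveI : IsDomain (A ⧸ p) := Ideal.Quotient.isDomain p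
  have hkq : RingHom.ker (Ideal.Quotient.mk p) ≤ q := by rw [Ideal.mk_ker]; exact hpq.le
  have hkq' : RingHom.ker (Ideal.Quotient.mk p) ≤ q' := by
    rw [Ideal.mk_ker]; exact hpq.le.trans hqq'.le
  haveI hP : (q.map (Ideal.Quotient.mk p)).IsPrime := Ideal.map_isPrime_of_surjective hπ hkq
  haveI hQ : (q'.map (Ideal.Quotient.mk p)).IsPrime := Ideal.map_isPrime_of_surjective hπ hkq'
  have hcm : ∀ r : Ideal A, p ≤ r →
      (r.map (Ideal.Quotient.mk p)).comap (Ideal.Quotient.mk p) = r := fun r hr => by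
    rw [Ideal.comap_map_of_surjective (Ideal.Quotient.mk p) hπ, ← RingHom.ker_eq_comap_bot,
      Ideal.mk_ker]
    exact sup_eq_left.mpr hr
  have hPQ : q.map (Ideal.Quotient.mk p) < q'.map (Ideal.Quotient.mk p) := by
    refine lt_of_le_of_ne (Ideal.map_mono hqq'.le) (fun h => hqq'.ne ?_)
    rw [← hcm q hpq.le, ← hcm q' (hpq.le.trans hqq'.le), h]
  have hP0 : q.map (Ideal.Quotient.mk p) ≠ ⊥ := by
    intro h
    have h1 := hcm q hpq.le
    rw [h, ← RingHom.ker_eq_comap_bot, Ideal.mk_ker] at h1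
    exact hpq.ne h1
  refine no_chain_of_forall_mem (D := A ⧸ p) (f := Ideal.Quotient.mk p f) ?_ ?_ hP0 hPQ
  · intro h; exact hfp (Ideal.Quotient.eq_zero_iff_mem.mp h)
  · intro P' hP' hP'0
    haveI := hP'
    have hcp : (P'.comap (Ideal.Quotient.mk p)).IsPrime := Ideal.comap_isPrime _ P'
    have hle : p ≤ P'.comap (Ideal.Quotient.mk p) := by
      have h1 : RingHom.ker (Ideal.Quotient.mk p) ≤ P'.comap (Ideal.Quotient.mk p) := by
        rw [RingHom.ker_eq_comap_bot]; exact Ideal.comap_mono bot_le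
      rwa [Ideal.mk_ker] at h1
    have hne : p ≠ P'.comap (Ideal.Quotient.mk p) := by
      intro h
      apply hP'0
      have h1 := Ideal.map_comap_of_surjective (Ideal.Quotient.mk p) hπ P'
      rw [← h, Ideal.map_quotient_self] at h1
      exact h1.symm
    exact hall _ hcp (lt_of_le_of_ne hle hne)

lemma primeSpectrum_no_chain {A : Type*} [CommRing A] [IsNoetherianRing A]
    {p q q' : PrimeSpectrum A} (hlc : IsLocallyClosed ({p} : Set (PrimeSpectrum A)))
    (hpq : p < q) (hqq' : q < q') : False := by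
  obtain ⟨U, Z, hU, hZ, hUZ⟩ := hlc
  have hpUZ : p ∈ U ∩ Z := by rw [← hUZ]; exact Set.mem_singleton p
  obtain ⟨_, ⟨f, rfl⟩, hpf, hfU⟩ :=
    PrimeSpectrum.isTopologicalBasis_basic_opens.exists_subset_of_mem_open hpUZ.1 hU
  have hfp : f ∉ p.asIdeal := (PrimeSpectrum.mem_basicOpen f p).mp hpf
  haveI := p.isPrime
  haveI := q.isPrime
  haveI := q'.isPrime
  refine no_chain_of_forall_mem' (p := p.asIdeal) (q := q.asIdeal) (q' := q'.asIdeal) hfp ?_
    hpq hqq'
  intro r hr hpr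
  by_contra hfr
  have h1 : (⟨r, hr⟩ : PrimeSpectrum A) ∈ U :=
    hfU ((PrimeSpectrum.mem_basicOpen f ⟨r, hr⟩).mpr hfr)
  have h2 : (⟨r, hr⟩ : PrimeSpectrum A) ∈ Z := by
    have hsp : p ⤳ (⟨r, hr⟩ : PrimeSpectrum A) :=
      (PrimeSpectrum.le_iff_specializes p ⟨r, hr⟩).mp hpr.le
    exact hsp.mem_closed hZ hpUZ.2
  have h3 : (⟨r, hr⟩ : PrimeSpectrum A) ∈ ({p} : Set _) := by rw [hUZ]; exact ⟨h1, h2⟩
  have h4 : (⟨r, hr⟩ : PrimeSpectrum A) = p := h3
  exact hpr.ne (congrArg PrimeSpectrum.asIdeal h4).symm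

section
open AlgebraicGeometry CategoryTheory

lemma no_chain {X : Scheme.{u}} [IsLocallyNoetherian X] {x y y' : X}
    (hx : IsLocallyClosed ({x} : Set X)) (hxy : x ⤳ y) (hne : x ≠ y) (hyy' : y ⤳ y')
    (hne' : y ≠ y') : False := by
  obtain ⟨_, ⟨W, hW, rfl⟩, hy'W, -⟩ :=
    X.isBasis_affineOpens.exists_subset_of_mem_open (Set.mem_univ y') isOpen_univ
  have hW : IsAffineOpen W := hW
  haveI : IsNoetherianRing Γ(X, W) := IsLocallyNoetherian.component_noetherian ⟨W, hW⟩
  have hyW : y ∈ (W : Set X) := hyy'.mem_open W.2 hy'W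
  have hxW : x ∈ (W : Set X) := hxy.mem_open W.2 hyW
  have hφo := hW.fromSpec.isOpenEmbedding
  have hrange := hW.range_fromSpec
  obtain ⟨p, hp⟩ : ∃ p : PrimeSpectrum Γ(X, W), hW.fromSpec p = x := by
    have : x ∈ Set.range hW.fromSpec := by rw [hrange]; exact hxW
    exact this
  obtain ⟨q, hq⟩ : ∃ p : PrimeSpectrum Γ(X, W), hW.fromSpec p = y := by
    have : y ∈ Set.range hW.fromSpec := by rw [hrange]; exact hyW
    exact this
  obtain ⟨q', hq'⟩ : ∃ p : PrimeSpectrum Γ(X, W), hW.fromSpec p = y' := by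
    have : y' ∈ Set.range hW.fromSpec := by rw [hrange]; exact hy'W
    exact this
  have hsp1 : p ⤳ q := hφo.isInducing.specializes_iff.mp (by rw [hp, hq]; exact hxy)
  have hsp2 : q ⤳ q' := hφo.isInducing.specializes_iff.mp (by rw [hq, hq']; exact hyy')
  have hpq : p < q := lt_of_le_of_ne ((PrimeSpectrum.le_iff_specializes p q).mpr hsp1)
    (fun h => hne (by rw [← hp, ← hq, h]))
  have hqq' : q < q' := lt_of_le_of_ne ((PrimeSpectrum.le_iff_specializes q q').mpr hsp2)
    (fun h => hne' (by rw [← hq, ← hq', h]))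
  have hlc : IsLocallyClosed ({p} : Set (PrimeSpectrum Γ(X, W))) := by
    have h1 : IsLocallyClosed (hW.fromSpec ⁻¹' ({x} : Set X)) :=
      hx.preimage hW.fromSpec.continuous
    have h2 : hW.fromSpec ⁻¹' ({x} : Set X) = {p} := by
      ext r
      simp only [Set.mem_preimage, Set.mem_singleton_iff]
      constructor
      · intro h; exact hφo.injective (h.trans hp.symm)
      · intro h; rw [h]; exact hp
    rw [h2] at h1; exact h1
  exact primeSpectrum_no_chain hlc hpq hqq'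

end



open AlgebraicGeometry in
/-- Let X be a locally Noetherian scheme and x a point such that {x} is locally closed in X. Then the
closure of {x} has dimension at most 1, and every point of that closure other than x is a closed
point of X. -/
theorem result (X : Scheme.{u}) [IsLocallyNoetherian X] (x : X)
    (hx : IsLocallyClosed ({x} : Set X)) :
    topologicalKrullDim (closure ({x} : Set X)) ≤ 1 ∧
      ∀ y ∈ closure ({x} : Set X), y ≠ x → IsClosed ({y} : Set X) := by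
  have hchain : ∀ y y' : X, x ⤳ y → x ≠ y → y ⤳ y' → y = y' := fun y y' h1 h2 h3 => by
    by_contra h4; exact no_chain hx h1 h2 h3 h4
  refine ⟨?_, ?_⟩
  · show Order.krullDim (TopologicalSpace.IrreducibleCloseds ↥(closure ({x} : Set X))) ≤ 1
    rw [Order.krullDim_le_one_iff]
    intro Z
    haveI : QuasiSober ↥(closure ({x} : Set X)) :=
      isClosed_closure.isClosedEmbedding_subtypeVal.quasiSober
    have hind : Topology.IsInducing (Subtype.val : ↥(closure ({x} : Set X)) → X) :=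
      Topology.IsInducing.subtypeVal
    obtain ⟨z, hz⟩ : ∃ z, IsGenericPoint z (Z : Set ↥(closure ({x} : Set X))) :=
      ⟨_, Z.isIrreducible.isGenericPoint_genericPoint Z.isClosed⟩
    have hzc : closure ({z} : Set ↥(closure ({x} : Set X))) = (Z : Set _) := hz.def
    by_cases hzx : z.val = x
    · right
      intro Z' _
      intro t _
      show t ∈ (Z : Set _)
      rw [← hzc, ← specializes_iff_mem_closure, ← hind.specializes_iff, hzx]
      exact specializes_iff_mem_closure.mpr t.2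
    · left
      intro Z' hZ'Z
      obtain ⟨z', hz'⟩ : ∃ z', IsGenericPoint z' (Z' : Set ↥(closure ({x} : Set X))) :=
        ⟨_, Z'.isIrreducible.isGenericPoint_genericPoint Z'.isClosed⟩
      have hz'c : closure ({z'} : Set ↥(closure ({x} : Set X))) = (Z' : Set _) := hz'.def
      have hmem' : z' ∈ Z' := by
        show z' ∈ (Z' : Set _)
        rw [← hz'c]; exact subset_closure (Set.mem_singleton z')
      have h1 : z ⤳ z' := by
        rw [specializes_iff_mem_closure, hzc]; exact hZ'Z hmem'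
      have h2 : z.val ⤳ z'.val := hind.specializes_iff.mpr h1
      have h3 : x ⤳ z.val := specializes_iff_mem_closure.mpr z.2
      have h4 : z.val = z'.val := hchain _ _ h3 (Ne.symm hzx) h2
      have h5 : z = z' := Subtype.ext h4
      intro t ht
      show t ∈ (Z' : Set _)
      rw [← hz'c, ← h5, hzc]; exact ht
  · intro y hy hyx
    rw [← closure_subset_iff_isClosed]
    intro y' hy'
    have h1 : x ⤳ y := specializes_iff_mem_closure.mpr hy
    have h2 : y ⤳ y' := specializes_iff_mem_closure.mpr hy'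
    exact Set.mem_singleton_iff.mpr (hchain y y' h1 (Ne.symm hyx) h2).symm

end Groth.Agent.S4712
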