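import Groth.Statements.S2011
import Mathlib
import Groth.Agent.S4712

set_option autoImplicit false
universe u
open EtAlg

namespace Groth.Agent.S2011

/-- Let A be a Noetherian ring and I an ideal contained in the Jacobson radical of A (a Zariski pair).
Then for every f in I the localization A_f is a Jacobson ring. -/
theorem result (A : Type u) [CommRing A] [IsNoetherianRing A] (I : Ideal A)
    (hI : I ≤ (⊥ : Ideal A).jacobson) (f : A) (hf : f ∈ I) : IsJacobsonRing (Localization.Away f) := by
  rw [isJacobsonRing_iff_prime_eq]
  intro P hP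
  refine le_antisymm ?_ Ideal.le_jacobson
  intro x hx
  by_contra hxP
  obtain ⟨g, s, rfl⟩ := IsLocalization.exists_mk'_eq (Submonoid.powers f) x
  have hgj : algebraMap A (Localization.Away f) g ∈ P.jacobson := by
    have h1 := Ideal.mul_mem_right (algebraMap A (Localization.Away f) (s : A)) _ hx
    rwa [IsLocalization.mk'_spec] at h1
  have hgP : algebraMap A (Localization.Away f) g ∉ P := fun h =>
    hxP ((IsLocalization.mk'_mem_iff).mpr h)
  have hfunit : IsUnit (algebraMap A (Localization.Away f) f) :=
    IsLocalization.map_units (Localization.Away f) (⟨f, Submonoid.mem_powers f⟩ : Submonoid.powers f)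
  have hp : (P.comap (algebraMap A (Localization.Away f))).IsPrime := Ideal.comap_isPrime _ P
  have hfp : f ∉ P.comap (algebraMap A (Localization.Away f)) := fun h =>
    hP.ne_top (Ideal.eq_top_of_isUnit_mem _ h hfunit)
  have hfgp : f * g ∉ P.comap (algebraMap A (Localization.Away f)) := fun h =>
    (hp.mem_or_mem h).elim hfp hgP
  have hexq : ∃ q : Ideal A,
      (q.IsPrime ∧ P.comap (algebraMap A (Localization.Away f)) ≤ q ∧ f * g ∉ q) ∧
      ∀ r : Ideal A, (r.IsPrime ∧ P.comap (algebraMap A (Localization.Away f)) ≤ r ∧ f * g ∉ r) →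
        ¬ q < r := set_has_maximal_iff_noetherian.mpr
    (inferInstance : IsNoetherian A A)
    {q : Ideal A | q.IsPrime ∧ P.comap (algebraMap A (Localization.Away f)) ≤ q ∧ f * g ∉ q}
    ⟨_, hp, le_rfl, hfgp⟩
  obtain ⟨q, ⟨hq, hpq, hfgq⟩, hqmax⟩ := hexq
  have hfq : f ∉ q := fun h => hfgq (Ideal.mul_mem_right g q h)
  have hgq : g ∉ q := fun h => hfgq (Ideal.mul_mem_left q f h)
  have hdisj : Disjoint (Submonoid.powers f : Set A) (q : Set A) := by
    rw [Set.disjoint_left]
    rintro _ ⟨n, rfl⟩ hmem
    exact hfq (hq.mem_of_pow_mem n hmem)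
  have hQprime : (q.map (algebraMap A (Localization.Away f))).IsPrime :=
    IsLocalization.isPrime_of_isPrime_disjoint (Submonoid.powers f) _ q hq hdisj
  have hQcomap : (q.map (algebraMap A (Localization.Away f))).comap
      (algebraMap A (Localization.Away f)) = q :=
    IsLocalization.comap_map_of_isPrime_disjoint (Submonoid.powers f) _ hq hdisj
  have hPQ : P ≤ q.map (algebraMap A (Localization.Away f)) := by
    rw [← IsLocalization.map_comap (Submonoid.powers f) (Localization.Away f) P]
    exact Ideal.map_mono hpq
  have hgQ : algebraMap A (Localization.Away f) g ∉ q.map (algebraMap A (Localization.Away f)) := by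
    intro h
    have : g ∈ (q.map (algebraMap A (Localization.Away f))).comap
        (algebraMap A (Localization.Away f)) := h
    rw [hQcomap] at this
    exact hgq this
  -- every prime strictly above `q` contains `f * g`
  have hall : ∀ r : Ideal A, r.IsPrime → q < r → f * g ∈ r := by
    intro r hr hqr
    by_contra hfgr
    exact hqmax r ⟨hr, hpq.trans hqr.le, hfgr⟩ hqr
  have hQmax : (q.map (algebraMap A (Localization.Away f))).IsMaximal := by
    rw [Ideal.isMaximal_def]
    refine ⟨hQprime.ne_top, fun J hQJ => ?_⟩
    by_contra hJtop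
    obtain ⟨M', hM', hJM'⟩ := Ideal.exists_le_maximal J hJtop
    have hM'prime : M'.IsPrime := hM'.isPrime
    have hq'prime : (M'.comap (algebraMap A (Localization.Away f))).IsPrime :=
      Ideal.comap_isPrime _ M'
    have hqq' : q ≤ M'.comap (algebraMap A (Localization.Away f)) := by
      rw [← hQcomap]
      exact Ideal.comap_mono (hQJ.le.trans hJM')
    have hne : q ≠ M'.comap (algebraMap A (Localization.Away f)) := by
      intro h
      have h1 : q.map (algebraMap A (Localization.Away f)) = M' := by
        rw [h, IsLocalization.map_comap (Submonoid.powers f) (Localization.Away f) M']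
      rw [h1] at hQJ
      exact absurd hJM' (not_le_of_gt hQJ)
    have hlt : q < M'.comap (algebraMap A (Localization.Away f)) := lt_of_le_of_ne hqq' hne
    have hfq' : f ∉ M'.comap (algebraMap A (Localization.Away f)) := fun h =>
      hM'prime.ne_top (Ideal.eq_top_of_isUnit_mem _ h hfunit)
    -- `q'` is not maximal in `A`
    have hnotmax : ¬ (M'.comap (algebraMap A (Localization.Away f))).IsMaximal := by
      intro hmax
      apply hfq'
      have h1 : (⊥ : Ideal A).jacobson ≤ M'.comap (algebraMap A (Localization.Away f)) :=
        sInf_le ⟨bot_le, hmax⟩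
      exact h1 (hI hf)
    obtain ⟨N, hN, hq'N⟩ := Ideal.exists_le_maximal _ hq'prime.ne_top
    have hq'N' : M'.comap (algebraMap A (Localization.Away f)) < N :=
      lt_of_le_of_ne hq'N (fun h => hnotmax (h ▸ hN))
    haveI := hq
    haveI := hq'prime
    haveI : N.IsPrime := hN.isPrime
    exact Groth.Agent.S4712.no_chain_of_forall_mem' (p := q) hfgq hall hlt hq'N'
  have hmem : algebraMap A (Localization.Away f) g ∈ q.map (algebraMap A (Localization.Away f)) := by
    have h1 : P.jacobson ≤ q.map (algebraMap A (Localization.Away f)) :=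
      sInf_le ⟨hPQ, hQmax⟩
    exact h1 hgj
  exact hgQ hmem

end Groth.Agent.S2011
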