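import Groth.Statements.S2012
import Mathlib.RingTheory.Finiteness.ModuleFinitePresentation
import Mathlib.RingTheory.Flat.EquationalCriterion
import Mathlib.RingTheory.Nakayama
import Mathlib.RingTheory.IntegralClosure.IsIntegralClosure.Basic

set_option autoImplicit false
universe u
open EtAlg

namespace Groth.Agent.S2012

/-- Let A be a ring and I an ideal contained in its Jacobson radical. Let B be an A-algebra which is
flat, integral and of finite presentation over A and such that A/I -> B/IB is bijective. Then A -> B
is bijective. -/
theorem result (A B : Type u) [CommRing A] [CommRing B] [Algebra A B]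
    (I : Ideal A) (hI : I ≤ (⊥ : Ideal A).jacobson) [Module.Flat A B] [Algebra.IsIntegral A B] [Algebra.FinitePresentation A B]
    (hq : Function.Bijective (Ideal.quotientMap (I.map (algebraMap A B)) (algebraMap A B) Ideal.le_comap_map)) :
    Function.Bijective (algebraMap A B) := by
  have hfin : Module.Finite A B := Algebra.IsIntegral.finite
  have hfp : Module.FinitePresentation A B := Module.FinitePresentation.of_finite_of_finitePresentation A B
  have hproj : Module.Projective A B := Module.Flat.projective_of_finitePresentation
  -- surjectivity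
  have hsurj : Function.Surjective (Algebra.linearMap A B) := by
    rw [← LinearMap.range_eq_top]
    have h1 : (⊤ : Submodule A B) ≤ LinearMap.range (Algebra.linearMap A B) ⊔ I • ⊤ := by
      intro b _
      obtain ⟨a, ha⟩ := hq.2 (Ideal.Quotient.mk _ b)
      obtain ⟨a, rfl⟩ := Ideal.Quotient.mk_surjective a
      rw [Ideal.quotientMap_mk, Ideal.Quotient.eq] at ha
      have h2 : b - algebraMap A B a ∈ I • (⊤ : Submodule A B) := by
        rw [Ideal.smul_top_eq_map]
        have := Ideal.neg_mem_iff _ |>.mpr ha
        simpa using this
      have : b = algebraMap A B a + (b - algebraMap A B a) := by ring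
      rw [this]
      exact Submodule.add_mem_sup ⟨a, rfl⟩ h2
    exact top_le_iff.mp (Submodule.le_of_le_smul_of_le_jacobson_bot Module.Finite.fg_top hI h1)
  refine ⟨?_, hsurj⟩
  -- injectivity
  obtain ⟨s, hs⟩ := Module.projective_lifting_property (Algebra.linearMap A B) LinearMap.id hsurj
  have hs' : ∀ b, algebraMap A B (s b) = b := fun b => LinearMap.congr_fun hs b
  set ε : A := 1 - s 1 with hε
  have hεker : algebraMap A B ε = 0 := by
    rw [hε, map_sub, map_one, hs', sub_self]
  have hkerI : ∀ k : A, algebraMap A B k = 0 → k ∈ I := by
    intro k hk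
    have : Ideal.quotientMap (I.map (algebraMap A B)) (algebraMap A B) Ideal.le_comap_map
        (Ideal.Quotient.mk I k) = 0 := by
      rw [Ideal.quotientMap_mk, hk, map_zero]
    have := hq.1 (this.trans (map_zero _).symm)
    exact Ideal.Quotient.eq_zero_iff_mem.mp this
  have hkε : ∀ k : A, algebraMap A B k = 0 → k = k * ε := by
    intro k hk
    have h1 : s (algebraMap A B k) = k * s 1 := by
      have : algebraMap A B k = k • (1 : B) := by rw [Algebra.smul_def, mul_one]
      rw [this, map_smul, smul_eq_mul]
    rw [hk, map_zero] at h1
    rw [hε, mul_sub, mul_one, ← h1, sub_zero]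
  have hεidem : ε = ε * ε := hkε ε hεker
  have hεI : ε ∈ (⊥ : Ideal A).jacobson := hI (hkerI ε hεker)
  have hunit : IsUnit (1 - ε) := by
    have := (Ideal.mem_jacobson_bot.mp hεI) (-1)
    simpa [sub_eq_add_neg, add_comm] using this
  have hε0 : ε = 0 := by
    have h2 : ε * (1 - ε) = 0 := by rw [mul_sub, mul_one, ← hεidem, sub_self]
    exact (hunit.mul_left_eq_zero).mp h2
  rw [injective_iff_map_eq_zero]
  intro k hk
  rw [hkε k hk, hε0, mul_zero]

end Groth.Agent.S2012
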