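import Groth.Statements.S2014
import Mathlib.RingTheory.KrullDimension.Basic
import Mathlib.RingTheory.Ideal.MinimalPrime.Basic
import Mathlib.RingTheory.Length
import Mathlib.RingTheory.Ideal.Quotient.Operations
import Mathlib.RingTheory.Noetherian.Defs
import Mathlib.SetTheory.Cardinal.Finite
import Mathlib.RingTheory.LocalRing.MaximalIdeal.Basic
import Mathlib.RingTheory.Ideal.MinimalPrime.Noetherian
import Mathlib.RingTheory.Nakayama
import Mathlib.RingTheory.Jacobson.Ideal

set_option autoImplicit false
universe u
open EtAlg

namespace Groth.Agent.S2014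

theorem length_quot_add_one_le {R : Type u} [CommRing R] {J J' : Ideal R} (h : J < J') :
    Module.length R (R ⧸ J') + 1 ≤ Module.length R (R ⧸ J) := by
  let f : (R ⧸ J) →ₗ[R] (R ⧸ J') := Submodule.mapQ J J' LinearMap.id (by simpa using h.le)
  have hf : Function.Surjective f := by
    intro y
    obtain ⟨a, rfl⟩ := Submodule.Quotient.mk_surjective _ y
    exact ⟨Submodule.Quotient.mk a, rfl⟩
  have hlen := Module.length_eq_add_of_exact (LinearMap.ker f).subtype f
    (Submodule.injective_subtype _) hf (LinearMap.exact_subtype_ker_map f)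
  rw [hlen, add_comm]
  gcongr
  obtain ⟨a, haJ', haJ⟩ := Set.exists_of_ssubset h
  have : Nontrivial (LinearMap.ker f) := by
    refine ⟨⟨⟨Submodule.Quotient.mk a, ?_⟩, 0, ?_⟩⟩
    · rw [LinearMap.mem_ker]
      change Submodule.Quotient.mk (LinearMap.id a) = 0
      rw [Submodule.Quotient.mk_eq_zero]
      exact haJ'
    · intro h0
      have := congrArg Subtype.val h0
      simp only [ZeroMemClass.coe_zero] at this
      rw [Submodule.Quotient.mk_eq_zero] at this
      exact haJ this
  exact Order.one_le_iff_pos.mpr Module.length_pos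

/-- Let R be a Noetherian local ring of Krull dimension 1 and x an element of the maximal ideal
contained in no minimal prime of R. Then the number of minimal prime ideals of R is at most the
length of R/xR as an R-module. -/
theorem result (R : Type u) [CommRing R] [IsNoetherianRing R] [IsLocalRing R]
    (hdim : ringKrullDim R = 1) (x : R) (hx : x ∈ IsLocalRing.maximalIdeal R) (hmin : ∀ p ∈ minimalPrimes R, x ∉ p) :
    (Set.ncard (minimalPrimes R) : ℕ∞) ≤ Module.length R (R ⧸ Ideal.span {x}) := by
  classical
  have key : ∀ S : Finset (Ideal R), (∀ q ∈ S, q ∈ minimalPrimes R) →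
      (S.card : ℕ∞) ≤ Module.length R (R ⧸ (S.inf id ⊔ Ideal.span {x})) := by
    intro S
    induction S using Finset.induction_on with
    | empty => intro _; simp
    | insert q S hqS ih =>
      intro hS
      have hS' : ∀ q' ∈ S, q' ∈ minimalPrimes R := fun q' hq' => hS q' (Finset.mem_insert_of_mem hq')
      have hq : q ∈ minimalPrimes R := hS q (Finset.mem_insert_self _ _)
      have hqprime : q.IsPrime := hq.1.1
      specialize ih hS'
      rw [Finset.card_insert_of_notMem hqS, Finset.inf_insert, id]
      push_cast
      refine le_trans ?_ (length_quot_add_one_le (J := q ⊓ S.inf id ⊔ Ideal.span {x})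
        (J' := S.inf id ⊔ Ideal.span {x}) ?_)
      · gcongr
      · refine lt_of_le_of_ne (sup_le_sup_right inf_le_right _) ?_
        intro heq
        -- Nakayama
        have h1 : S.inf id ≤ (q ⊓ S.inf id) ⊔ Ideal.span {x} • S.inf id := by
          intro a ha
          have ha' : a ∈ q ⊓ S.inf id ⊔ Ideal.span {x} := by
            rw [heq]; exact Ideal.mem_sup_left ha
          obtain ⟨b, hb, c, hc, rfl⟩ := Submodule.mem_sup.mp ha'
          obtain ⟨r, rfl⟩ := Ideal.mem_span_singleton'.mp hc
          refine Submodule.mem_sup.mpr ⟨b, hb, r * x, ?_, rfl⟩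
          have hr : r ∈ S.inf id := by
            rw [Submodule.mem_finsetInf]
            intro q' hq'
            have hq'prime : q'.IsPrime := (hS' q' hq').1.1
            have : r * x ∈ q' := by
              have h2 : b + r * x ∈ q' := (Finset.inf_le hq' : S.inf id ≤ id q') ha
              have h3 : b ∈ q' := (Finset.inf_le hq' : S.inf id ≤ id q') hb.2
              exact (Ideal.add_mem_iff_right _ h3).mp h2
            exact (hq'prime.mem_or_mem this).resolve_right (hmin q' (hS' q' hq'))
          rw [mul_comm]
          exact Ideal.mul_mem_mul (Ideal.mem_span_singleton_self x) hr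
        have h2 : S.inf id ≤ q ⊓ S.inf id := by
          refine Submodule.le_of_le_smul_of_le_jacobson_bot (IsNoetherian.noetherian _) ?_ h1
          rw [IsLocalRing.jacobson_eq_maximalIdeal ⊥ bot_ne_top]
          exact (Ideal.span_singleton_le_iff_mem _).mpr hx
        have h3 : S.inf id ≤ q := h2.trans inf_le_left
        obtain ⟨q', hq'S, hq'q⟩ := (Ideal.IsPrime.inf_le' hqprime).mp h3
        have : q' = q := by
          have hq'min := hS' q' hq'S
          exact le_antisymm hq'q (hq.2 hq'min.1 hq'q)
        exact hqS (this ▸ hq'S)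
  have hfin : (minimalPrimes R).Finite := minimalPrimes.finite_of_isNoetherianRing R
  have := key hfin.toFinset (fun q hq => by simpa using hq)
  rw [Set.ncard_eq_toFinset_card _ hfin]
  refine this.trans ?_
  let g : (R ⧸ Ideal.span {x}) →ₗ[R] (R ⧸ (hfin.toFinset.inf id ⊔ Ideal.span {x})) :=
    Submodule.mapQ _ _ LinearMap.id (by simp)
  apply Module.length_le_of_surjective g
  intro y
  obtain ⟨a, rfl⟩ := Submodule.Quotient.mk_surjective _ y
  exact ⟨Submodule.Quotient.mk a, rfl⟩

end Groth.Agent.S2014
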