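import Groth.Statements.S2015
import Mathlib
import Groth.Agent.Lib.Helper26.CyclicSummand

set_option autoImplicit false
universe u
open EtAlg

namespace Groth.Agent.S2015

/-- Let R be a nonzero ring such that for all a, b in R either a divides b or b divides a. Then each
finitely presented R-module decomposes as a direct sum of finitely many cyclic modules R/fR. -/
theorem result (R : Type u) [CommRing R] [Nontrivial R] (h : ∀ a b : R, a ∣ b ∨ b ∣ a)
    (M : Type u) [AddCommGroup M] [Module R M] [Module.FinitePresentation R M] :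
    ∃ (n : ℕ) (f : Fin n → R), Nonempty (M ≃ₗ[R] ((i : Fin n) → R ⧸ Ideal.span {f i})) := by
  obtain ⟨n, x, hx⟩ := Module.Finite.exists_fin (R := R) (M := M)
  obtain ⟨ι, hι, f, ⟨e⟩⟩ := Groth.Agent.Lib.Helper26.CyclicSummand.local_struct h n M x hx
  refine ⟨Fintype.card ι, fun j => f ((Fintype.equivFin ι).symm j), ⟨?_⟩⟩
  exact e.trans (LinearEquiv.piCongrLeft' R (fun i => R ⧸ Ideal.span {f i}) (Fintype.equivFin ι))

end Groth.Agent.S2015
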