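import Groth.Statements.S2017
import Mathlib.RingTheory.FiniteType
import Mathlib.RingTheory.Finiteness.Defs
import Mathlib.RingTheory.Noetherian.Defs
import Mathlib.Algebra.Algebra.Subalgebra.Prod
import Mathlib.RingTheory.Adjoin.Tower
import Mathlib.RingTheory.RingHom.Finite

set_option autoImplicit false
universe u
open EtAlg

namespace Groth.Agent.S2017

/-- Let R be a Noetherian ring, A, B, C R-algebras of finite type, f : A -> B a surjective R-algebra map
and g : C -> B an R-algebra map making B a finite C-module. Then the fibre product A ×_B C (the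
equalizer of f ∘ pr₁ and g ∘ pr₂ in A × C) is an R-algebra of finite type. -/
theorem result (R A B C : Type u) [CommRing R] [IsNoetherianRing R] [CommRing A] [CommRing B]
    [CommRing C] [Algebra R A] [Algebra R B] [Algebra R C] [Algebra.FiniteType R A] [Algebra.FiniteType R B]
    [Algebra.FiniteType R C] (f : A →ₐ[R] B) (hf : Function.Surjective f) (g : C →ₐ[R] B)
    (hg : (g.toRingHom).Finite) :
    Algebra.FiniteType R ↥(AlgHom.equalizer (f.comp (AlgHom.fst R A C)) (g.comp (AlgHom.snd R A C))) := by
  set E := AlgHom.equalizer (f.comp (AlgHom.fst R A C)) (g.comp (AlgHom.snd R A C)) with hE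
  have hmemE : ∀ x : A × C, x ∈ E ↔ f x.1 = g x.2 := fun x => Iff.rfl
  constructor
  apply fg_of_fg_of_fg R E (A × C)
  · exact Algebra.FiniteType.out
  · letI algCB : Algebra C B := g.toRingHom.toAlgebra
    have hfin : Module.Finite C B := hg
    obtain ⟨s, hs⟩ := hfin.fg_top
    have hsmul : ∀ (c : C) (b : B), c • b = g c * b := fun c b => rfl
    let lift : B → A := Function.surjInv hf
    have hlift : ∀ b, f (lift b) = b := Function.surjInv_eq hf
    let ec : C → E := fun c => ⟨(lift (g c), c), by rw [hmemE]; exact hlift _⟩
    let ek : ∀ k : A, f k = 0 → E := fun k hk => ⟨(k, 0), by rw [hmemE]; simp [hk]⟩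
    let S : Set (A × C) := (fun b => (lift b, (0 : C))) '' (s : Set B) ∪ {(1, 0), (0, 1)}
    have hSfin : S.Finite := (s.finite_toSet.image _).union (by simp)
    have h10 : ((1 : A), (0 : C)) ∈ Submodule.span E S :=
      Submodule.subset_span (Or.inr (by simp))
    have h01 : ((0 : A), (1 : C)) ∈ Submodule.span E S :=
      Submodule.subset_span (Or.inr (by simp))
    have hker : ∀ a a' : A, f a = f a' → (a', (0 : C)) ∈ Submodule.span E S →
        (a, (0 : C)) ∈ Submodule.span E S := by
      intro a a' h h'
      have hk : f (a - a') = 0 := by rw [map_sub, h, sub_self]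
      have : (a, (0 : C)) = (a', (0 : C)) + ek (a - a') hk • ((1 : A), (0 : C)) := by
        rw [Subalgebra.smul_def]
        ext <;> simp [ek]
      rw [this]
      exact Submodule.add_mem _ h' (Submodule.smul_mem _ _ h10)
    have key : ∀ b ∈ Submodule.span C (s : Set B), ∀ a, f a = b →
        (a, (0 : C)) ∈ Submodule.span E S := by
      intro b hb
      induction hb using Submodule.span_induction with
      | mem b hb =>
        intro a ha
        apply hker a (lift b) (by rw [ha, hlift])
        exact Submodule.subset_span (Or.inl ⟨b, hb, rfl⟩)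
      | zero =>
        intro a ha
        apply hker a 0 (by rw [ha, map_zero])
        have : ((0 : A), (0 : C)) = 0 := rfl
        rw [this]
        exact Submodule.zero_mem _
      | add b₁ b₂ _ _ h₁ h₂ =>
        intro a ha
        have e1 := h₁ (lift b₁) (hlift _)
        have e2 := h₂ (lift b₂) (hlift _)
        apply hker a (lift b₁ + lift b₂) (by rw [ha, map_add, hlift, hlift])
        have : (lift b₁ + lift b₂, (0 : C)) = (lift b₁, (0 : C)) + (lift b₂, (0 : C)) := by
          ext <;> simp
        rw [this]
        exact Submodule.add_mem _ e1 e2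
      | smul c b _ h =>
        intro a ha
        have e1 := h (lift b) (hlift _)
        apply hker a (lift (g c) * lift b) (by rw [ha, map_mul, hlift, hlift, hsmul])
        have : (lift (g c) * lift b, (0 : C)) = ec c • (lift b, (0 : C)) := by
          rw [Subalgebra.smul_def]
          ext <;> simp [ec]
        rw [this]
        exact Submodule.smul_mem _ _ e1
    refine ⟨hSfin.toFinset, ?_⟩
    rw [Set.Finite.coe_toFinset, eq_top_iff]
    rintro ⟨a, c⟩ -
    have h1 : (a, (0 : C)) ∈ Submodule.span E S := key (f a) (by rw [hs]; trivial) a rfl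
    have h2 : ((0 : A), c) ∈ Submodule.span E S := by
      have : ((0 : A), c) = ec c • ((0 : A), (1 : C)) := by
        rw [Subalgebra.smul_def]
        ext <;> simp [ec]
      rw [this]
      exact Submodule.smul_mem _ _ h01
    have : (a, c) = (a, (0 : C)) + ((0 : A), c) := by ext <;> simp
    rw [this]
    exact Submodule.add_mem _ h1 h2
  · exact Subtype.val_injective

end Groth.Agent.S2017
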