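import Groth.Statements.S2018
import Mathlib.RingTheory.IntegralClosure.IsIntegralClosure.Basic
import Mathlib.Algebra.Ring.Subring.Basic
import Mathlib.Algebra.Ring.Prod
import Mathlib.Algebra.Polynomial.Lifts

set_option autoImplicit false
universe u
open EtAlg

namespace Groth.Agent.S2018

/-- Let g : A' -> A be a surjective ring map and f : B -> A an integral ring map. Then the projection
from the fibre product B ×_A A' (the equalizer of f ∘ pr₁ and g ∘ pr₂ in B × A') to A' is integral. -/
theorem result (A A' B : Type u) [CommRing A] [CommRing A'] [CommRing B] (g : A' →+* A)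
    (hg : Function.Surjective g) (f : B →+* A) (hf : f.IsIntegral) :
    ((RingHom.snd B A').comp ((f.comp (RingHom.fst B A')).eqLocus (g.comp (RingHom.snd B A'))).subtype).IsIntegral := by
  set E := (f.comp (RingHom.fst B A')).eqLocus (g.comp (RingHom.snd B A')) with hE
  set π : E →+* A' := (RingHom.snd B A').comp E.subtype with hπ
  set π₁ : E →+* B := (RingHom.fst B A').comp E.subtype with hπ₁def
  have hcomm : g.comp π = f.comp π₁ := by
    ext ⟨x, hx⟩
    exact hx.symm
  have hπ₁ : Function.Surjective π₁ := by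
    intro b
    obtain ⟨a', ha'⟩ := hg (f b)
    exact ⟨⟨(b, a'), ha'.symm⟩, rfl⟩
  intro a'
  obtain ⟨P, hP, hPa⟩ := hf (g a')
  obtain ⟨Q, hQ1, hQ2, hQ3⟩ := Polynomial.lifts_and_natDegree_eq_and_monic (f := π₁) (p := P)
    (by
      rw [Polynomial.lifts_iff_coeff_lifts]
      intro n
      exact hπ₁ _) hP
  have hc : g (Q.eval₂ π a') = 0 := by
    rw [Polynomial.hom_eval₂, hcomm, ← Polynomial.eval₂_map, hQ1]
    exact hPa
  let e' : E := ⟨(0, a' * Q.eval₂ π a'), by
    change f 0 = g (a' * Q.eval₂ π a')
    rw [map_zero, map_mul, hc, mul_zero]⟩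
  have he' : π e' = a' * Q.eval₂ π a' := rfl
  refine ⟨Polynomial.X * Q - Polynomial.C e', ?_, ?_⟩
  · rcases subsingleton_or_nontrivial E with h | h
    · exact Subsingleton.elim _ _
    · apply Polynomial.Monic.sub_of_left (Polynomial.monic_X.mul hQ3)
      refine lt_of_le_of_lt Polynomial.degree_C_le ?_
      rw [hQ3.degree_mul, Polynomial.degree_X]
      have : (0 : WithBot ℕ) ≤ Q.degree := by
        rw [Polynomial.degree_eq_natDegree hQ3.ne_zero]
        exact_mod_cast Nat.zero_le _
      calc (0 : WithBot ℕ) < 1 + 0 := by simp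
        _ ≤ 1 + Q.degree := by gcongr
  · rw [Polynomial.eval₂_sub, Polynomial.eval₂_mul, Polynomial.eval₂_X, Polynomial.eval₂_C, he',
      sub_self]

end Groth.Agent.S2018
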