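import Groth.Statements.S2033
import Groth.Agent.S2032
import Groth.Agent.Lib.Helper27.PopE
import Groth.Agent.Lib.Helper27.PopF
import Groth.Agent.Lib.Helper27.PopG

set_option autoImplicit false
universe u
open Smoothing

namespace Groth.Agent.S2033

open TensorProduct in
/-- Let `R` be Noetherian, `A → Λ` an `R`-algebra map with `A` finitely presented, `𝔮 ⊆ Λ` a prime
minimal over the radical of the extended singular ideal of `A`, and `𝔭` its contraction to `R`. If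
the localized problem `R_𝔭 → R_𝔭 ⊗ A → Λ_𝔮` can be resolved at `𝔮Λ_𝔮`, then `A → Λ` factors through
a finitely presented `R`-algebra `C` whose singular ideal over `R` does not extend into `𝔮`. -/
theorem result {R A Λ Rₚ Λq : Type u} [CommRing R] [IsNoetherianRing R] [CommRing A]
    [Algebra R A] [Algebra.FinitePresentation R A] [CommRing Λ] [Algebra R Λ] (φ : A →ₐ[R] Λ)
    (𝔮 : Ideal Λ) [𝔮.IsPrime] (hmin : 𝔮 ∈ (Smoothing.singRad R φ).minimalPrimes)
    [CommRing Rₚ] [Algebra R Rₚ] [IsLocalization.AtPrime Rₚ (𝔮.comap (algebraMap R Λ))]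
    [CommRing Λq] [Algebra Λ Λq] [IsLocalization.AtPrime Λq 𝔮] [Algebra R Λq] [IsScalarTower R Λ Λq]
    [Algebra Rₚ Λq] [IsScalarTower R Rₚ Λq]
    (hres : Smoothing.Resolvable Rₚ
      (Algebra.TensorProduct.lift (Algebra.ofId Rₚ Λq) ((IsScalarTower.toAlgHom R Λ Λq).comp φ)
        (fun _ _ => Commute.all _ _) : Rₚ ⊗[R] A →ₐ[Rₚ] Λq) (𝔮.map (algebraMap Λ Λq))) :
    ∃ (C : Type u) (_ : CommRing C) (_ : Algebra R C), Algebra.FinitePresentation R C ∧
      ∃ (g : A →ₐ[R] C) (h : C →ₐ[R] Λ), h.comp g = φ ∧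
        ¬ (Smoothing.singularIdeal R C).map h ≤ 𝔮 := by
  classical
  obtain ⟨B₀, _, _, hfp₀, g₀, h₀, hcomp₀, -, hnot⟩ := hres
  haveI : IsLocalRing Λq := IsLocalization.AtPrime.isLocalRing Λq 𝔮
  have hmax : 𝔮.map (algebraMap Λ Λq) = IsLocalRing.maximalIdeal Λq :=
    IsLocalization.AtPrime.map_eq_maximalIdeal 𝔮 Λq
  have hx : ∃ x ∈ Smoothing.singularIdeal Rₚ B₀, h₀ x ∉ IsLocalRing.maximalIdeal Λq := by
    by_contra hcon
    push Not at hcon
    apply hnot
    rw [hmax]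
    unfold Smoothing.singRad
    rw [(IsLocalRing.maximalIdeal.isMaximal Λq).isPrime.radical_le_iff, Ideal.map_le_iff_le_comap]
    intro x hx
    exact hcon x hx
  obtain ⟨x, hxH, hxu⟩ := hx
  have hxunit : IsUnit (h₀ x) := IsLocalRing.notMem_maximalIdeal.mp hxu
  haveI := hfp₀
  haveI hsm : Algebra.Smooth Rₚ (Localization.Away x) :=
    (Groth.Agent.Lib.Helper27.PopG.mem_singularIdeal_iff x).mp hxH
  let g₁ : Rₚ ⊗[R] A →ₐ[Rₚ] Localization.Away x :=
    (IsScalarTower.toAlgHom Rₚ B₀ (Localization.Away x)).comp g₀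
  let h₁ : Localization.Away x →ₐ[Rₚ] Λq :=
    IsLocalization.liftAlgHom (M := Submonoid.powers x) (f := h₀)
      (by rintro ⟨_, m, rfl⟩; rw [map_pow]; exact hxunit.pow m)
  let φ' : A →ₐ[R] Λq := (IsScalarTower.toAlgHom R Λ Λq).comp φ
  have hgh : ∀ a : A, h₁ (g₁ (1 ⊗ₜ a)) = φ' a := by
    intro a
    show h₁ (algebraMap B₀ _ (g₀ (1 ⊗ₜ a))) = _
    rw [IsLocalization.liftAlgHom_apply, IsLocalization.lift_eq]
    have := DFunLike.congr_fun hcomp₀ (1 ⊗ₜ a)
    rw [AlgHom.comp_apply] at this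
    show h₀ (g₀ (1 ⊗ₜ a)) = _
    rw [this]
    simp [φ']
  obtain ⟨B₁, _, _, α₁, β₁, hβα₁, s, hs, hstd⟩ :=
    Groth.Agent.Lib.Helper27.PopE.main_smooth φ' (𝔮.comap (algebraMap R Λ)).primeCompl g₁ h₁ hgh
  haveI hfp₁ : Algebra.FinitePresentation R B₁ :=
    Groth.Agent.Lib.Helper27.PopG.finitePresentation_of_isElementaryStandard hstd
  haveI hss : Algebra.IsStandardSmooth R (Localization.Away (algebraMap R B₁ s)) :=
    Groth.Agent.S2032.result _ hstd
  have hsunit : IsUnit (β₁ (algebraMap R B₁ s)) := by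
    rw [AlgHom.commutes, IsScalarTower.algebraMap_apply R Rₚ Λq]
    exact (IsLocalization.map_units Rₚ (⟨s, hs⟩ : (𝔮.comap (algebraMap R Λ)).primeCompl)).map _
  let β₂ : Localization.Away (algebraMap R B₁ s) →ₐ[R] Λq :=
    IsLocalization.liftAlgHom (M := Submonoid.powers (algebraMap R B₁ s)) (f := β₁)
      (by rintro ⟨_, m, rfl⟩; rw [map_pow]; exact hsunit.pow m)
  let α₂ : A →ₐ[R] Localization.Away (algebraMap R B₁ s) :=
    (IsScalarTower.toAlgHom R B₁ _).comp α₁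
  have hβα₂ : ∀ a, β₂ (α₂ a) = algebraMap Λ Λq (φ a) := by
    intro a
    show β₂ (algebraMap B₁ _ (α₁ a)) = _
    rw [IsLocalization.liftAlgHom_apply, IsLocalization.lift_eq]
    have := DFunLike.congr_fun hβα₁ a
    rw [AlgHom.comp_apply] at this
    exact this
  haveI : IsNoetherianRing A := Algebra.FiniteType.isNoetherianRing R A
  obtain ⟨C, _, _, hfpC, gC, hC, hcomp, c, hc, hsmc⟩ :=
    Groth.Agent.Lib.Helper27.PopF.descend φ 𝔮 α₂ β₂ hβα₂
  refine ⟨C, _, _, hfpC, gC, hC, hcomp, ?_⟩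
  haveI := hfpC
  exact Groth.Agent.Lib.Helper27.PopG.not_map_le_of_mem hC 𝔮 c
    ((Groth.Agent.Lib.Helper27.PopG.mem_singularIdeal_iff c).mpr hsmc) hc

end Groth.Agent.S2033
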