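import Groth.Statements.S2040
import Mathlib
import Groth.Agent.Lib.Helper7.FlatFS2

set_option autoImplicit false
universe u
open CAlg

namespace Groth.Agent.S2040

open IsLocalRing Groth.Agent.Lib.Helper7 in
theorem aux {A B : Type u} [CommRing A] [IsLocalRing A]
    [IsNoetherianRing A] [CommRing B] [IsLocalRing B]
    [IsNoetherianRing B] [IsAdicComplete (IsLocalRing.maximalIdeal B) B]
    [Algebra (IsLocalRing.maximalIdeal A).ResidueField B]
    (hB : CAlgX.IsAdicFormallySmooth (IsLocalRing.maximalIdeal A).ResidueField B (IsLocalRing.maximalIdeal B)) :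
    ∃ (C : Type u) (_ : CommRing C) (_ : IsLocalRing C) (_ : Algebra A C),
      IsNoetherianRing C ∧ IsAdicComplete (IsLocalRing.maximalIdeal C) C ∧ IsLocalHom (algebraMap A C) ∧
        CAlgX.IsAdicFormallySmooth A C (IsLocalRing.maximalIdeal C) ∧
        Nonempty ((IsLocalRing.maximalIdeal A).Fiber C ≃ₐ[(IsLocalRing.maximalIdeal A).ResidueField] B) := by
  haveI hreg : IsRegularLocalRing B := ((Groth.Agent.S2471.result).mp hB).1
  have hκs : Function.Surjective (algebraMap A (maximalIdeal A).ResidueField) :=
    Ideal.algebraMap_residueField_surjective _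
  have hκk : RingHom.ker (algebraMap A (maximalIdeal A).ResidueField) = maximalIdeal A :=
    Ideal.ker_algebraMap_residueField _
  let g₀ : A →+* B := (algebraMap (maximalIdeal A).ResidueField B).comp
    (algebraMap A (maximalIdeal A).ResidueField)
  have hg₀ : ∀ a ∈ maximalIdeal A, g₀ a = 0 := by
    intro a ha
    show algebraMap _ B (algebraMap A _ a) = 0
    have h1 : algebraMap A (maximalIdeal A).ResidueField a = 0 := by
      rw [← RingHom.mem_ker, hκk]; exact ha
    rw [h1, map_zero]
  obtain ⟨C, hCring, hCloc, hCN, hCalg, hCloch, β, hCc, hCflat, hβs, hβg, hβk⟩ :=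
    FlatFS.exists_flat_lift' g₀ hg₀
  letI := hCring
  haveI := hCloc
  haveI := hCN
  letI := hCalg
  haveI := hCloch
  haveI := hCflat
  letI : Algebra A B := g₀.toAlgebra
  haveI : IsScalarTower A (maximalIdeal A).ResidueField B :=
    IsScalarTower.of_algebraMap_eq (fun _ => rfl)
  let βₐ : C →ₐ[A] B := { β with commutes' := fun a => hβg a }
  have hβₐs : Function.Surjective βₐ := hβs
  have hβₐk : RingHom.ker βₐ ≤
      (RingHom.ker (algebraMap A (maximalIdeal A).ResidueField)).map (algebraMap A C) := by
    rw [hκk, ← hβk]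
    intro x hx
    exact hx
  have hFL : FlatFS.FibreLift A C :=
    FlatFS.fibreLift_of_surjective hκs βₐ hβₐs hβₐk (FlatFS.fibreLift_field_iff.mpr hB)
  refine ⟨C, hCring, hCloc, hCalg, hCN, hCc, hCloch, FlatFS.adic_of_flat hFL, ?_⟩
  obtain ⟨e, -⟩ := FlatFS.tensor_equiv_of_surjective hκs βₐ hβₐs hβₐk
  exact ⟨e⟩

/-- For a complete Noetherian local ring `A` with residue field `k`, and a complete Noetherian local
`k`-algebra `B` which is formally smooth over `k` for the adic topology of its maximal ideal, there
is a Noetherian complete local ring `C` with a local homomorphism `A → C`, formally smooth for the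
adic topology of the maximal ideal of `C`, whose special fibre `C ⊗ k` is isomorphic to `B` over
`k`. -/
theorem result {A B : Type u} [CommRing A] [IsLocalRing A]
    [IsNoetherianRing A] [IsAdicComplete (IsLocalRing.maximalIdeal A) A] [CommRing B] [IsLocalRing B]
    [IsNoetherianRing B] [IsAdicComplete (IsLocalRing.maximalIdeal B) B]
    [Algebra (IsLocalRing.maximalIdeal A).ResidueField B]
    (hB : CAlgX.IsAdicFormallySmooth (IsLocalRing.maximalIdeal A).ResidueField B (IsLocalRing.maximalIdeal B)) :
    ∃ (C : Type u) (_ : CommRing C) (_ : IsLocalRing C) (_ : Algebra A C),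
      IsNoetherianRing C ∧ IsAdicComplete (IsLocalRing.maximalIdeal C) C ∧ IsLocalHom (algebraMap A C) ∧
        CAlgX.IsAdicFormallySmooth A C (IsLocalRing.maximalIdeal C) ∧
        Nonempty ((IsLocalRing.maximalIdeal A).Fiber C ≃ₐ[(IsLocalRing.maximalIdeal A).ResidueField] B) := by
  exact aux hB

end Groth.Agent.S2040
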