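import Groth.Statements.S2041
import Groth.Agent.Lib.Helper26.IdemNbhd

set_option autoImplicit false
universe u
open CAlg

namespace Groth.Agent.S2041

open TensorProduct in
/-- Let `I ⊆ A` be an ideal, `A → B` integral and `ē` an idempotent of `B/IB`. Then there is an étale
`A`-algebra `A'` with `A/I → A'/IA'` bijective and an idempotent of `A' ⊗ B` whose class modulo `I`
agrees with that of any lift of `ē`. -/
theorem result {A B : Type u} [CommRing A] [CommRing B] [Algebra A B]
    [Algebra.IsIntegral A B] (I : Ideal A) (e : B ⧸ I.map (algebraMap A B)) (he : IsIdempotentElem e) :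
    ∃ (A' : Type u) (_ : CommRing A') (_ : Algebra A A'), Algebra.Etale A A' ∧
      Function.Bijective (algebraMap (A ⧸ I) (A' ⧸ I.map (algebraMap A A'))) ∧
      ∃ e' : A' ⊗[A] B, IsIdempotentElem e' ∧
        ∀ b : B, Ideal.Quotient.mk (I.map (algebraMap A B)) b = e →
          e' - 1 ⊗ₜ b ∈ I.map (algebraMap A (A' ⊗[A] B)) := by
  obtain ⟨b, rfl⟩ := Ideal.Quotient.mk_surjective e
  have hb : b * b - b ∈ I.map (algebraMap A B) := by
    rw [← Ideal.Quotient.eq, map_mul]; exact he.eq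
  obtain ⟨A', _, _, hEt, hQB, e', he', hcong⟩ :=
    Groth.Agent.Lib.Helper26.IdemNbhd.exists_nbhd_idempotent I b hb
  refine ⟨A', inferInstance, inferInstance, hEt, hQB, e', he', fun b₂ hb₂ => ?_⟩
  have h1 : b - b₂ ∈ I.map (algebraMap A B) := Ideal.Quotient.eq.mp hb₂.symm
  have h2 := Groth.Agent.Lib.Helper26.PairHensConstr.algHom_map_mem I
    (Algebra.TensorProduct.includeRight : B →ₐ[A] A' ⊗[A] B) h1
  have h3 : e' - 1 ⊗ₜ b₂ = (e' - 1 ⊗ₜ b)
      + (Algebra.TensorProduct.includeRight : B →ₐ[A] A' ⊗[A] B) (b - b₂) := by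
    rw [map_sub]
    show _ = _ + (1 ⊗ₜ b - 1 ⊗ₜ b₂)
    ring
  rw [h3]; exact Ideal.add_mem _ hcong h2

end Groth.Agent.S2041
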