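import Groth.Statements.S2042
import Groth.Agent.Lib.Helper26.EtaleNbhd

set_option autoImplicit false
universe u
open CAlg

namespace Groth.Agent.S2042

open Polynomial.UniversalCoprimeFactorizationRing

open Polynomial in
/-- Let `I ⊆ A` be an ideal and `f ∈ A[X]` monic whose image in `(A/I)[X]` factors as a product of two
monic polynomials generating the unit ideal. Then over some étale `A`-algebra `A'` with `A/I →
A'/IA'` bijective, `f` factors as a product of two monic polynomials lifting the given factors. -/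
theorem result {A : Type u} [CommRing A] (I : Ideal A) (f : A[X])
    (hf : f.Monic) (g h : (A ⧸ I)[X]) (hg : g.Monic) (hh : h.Monic) (hcop : IsCoprime g h)
    (hfgh : f.map (Ideal.Quotient.mk I) = g * h) :
    ∃ (A' : Type u) (_ : CommRing A') (_ : Algebra A A'), Algebra.Etale A A' ∧
      Function.Bijective (algebraMap (A ⧸ I) (A' ⧸ I.map (algebraMap A A'))) ∧
      ∃ g' h' : A'[X], g'.Monic ∧ h'.Monic ∧ f.map (algebraMap A A') = g' * h' ∧
        g'.map (Ideal.Quotient.mk (I.map (algebraMap A A'))) =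
          g.map (algebraMap (A ⧸ I) (A' ⧸ I.map (algebraMap A A'))) ∧
        h'.map (Ideal.Quotient.mk (I.map (algebraMap A A'))) =
          h.map (algebraMap (A ⧸ I) (A' ⧸ I.map (algebraMap A A'))) := by
  classical
  rcases subsingleton_or_nontrivial (A ⧸ I) with hs | hnt
  · haveI : Subsingleton (Localization.Away (0 : A)) :=
      IsLocalization.subsingleton (M := Submonoid.powers (0 : A)) ⟨1, pow_one 0⟩
    refine ⟨Localization.Away (0 : A), inferInstance, inferInstance, inferInstance, ?_, ?_⟩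
    · exact ⟨fun _ _ _ => Subsingleton.elim _ _, fun y => ⟨0, Subsingleton.elim _ _⟩⟩
    · exact ⟨1, 1, monic_one, monic_one, Subsingleton.elim _ _, Subsingleton.elim _ _,
        Subsingleton.elim _ _⟩
  set m := g.natDegree with hm
  set k := h.natDegree with hk
  set n := f.natDegree with hn'
  have hn : n = m + k := by
    have e1 := congrArg Polynomial.natDegree hfgh
    rw [hf.natDegree_map, hg.natDegree_mul hh] at e1
    exact e1
  let p : Polynomial.MonicDegreeEq A n := .mk f hf rfl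
  let q₀ : Polynomial.MonicDegreeEq (A ⧸ I) m × Polynomial.MonicDegreeEq (A ⧸ I) k :=
    (.mk g hg rfl, .mk h hh rfl)
  let σ : Polynomial.UniversalCoprimeFactorizationRing m k hn p →ₐ[A] A ⧸ I :=
    (homEquiv (A ⧸ I) m k hn p).symm ⟨q₀, hfgh.symm, hcop⟩
  obtain ⟨A', _, _, hEt, hQB, τ, hτ⟩ :=
    Groth.Agent.Lib.Helper26.EtaleNbhd.exists_nbhd_of_pointed I σ
  refine ⟨A', inferInstance, inferInstance, hEt, hQB, ?_⟩
  let q := homEquiv A' m k hn p τ
  let φ₁ : A' →ₐ[A] A' ⧸ I.map (algebraMap A A') := Ideal.Quotient.mkₐ A _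
  let φ₂ : (A ⧸ I) →ₐ[A] A' ⧸ I.map (algebraMap A A') :=
    IsScalarTower.toAlgHom A (A ⧸ I) (A' ⧸ I.map (algebraMap A A'))
  have hcomp : φ₁.comp τ = φ₂.comp σ := AlgHom.ext hτ
  have hσ : homEquiv (A ⧸ I) m k hn p σ = ⟨q₀, hfgh.symm, hcop⟩ := by
    show homEquiv (A ⧸ I) m k hn p ((homEquiv (A ⧸ I) m k hn p).symm _) = _
    rw [Equiv.apply_symm_apply]
  refine ⟨q.1.1.1, q.1.2.1, q.1.1.monic, q.1.2.monic, q.2.1.symm, ?_, ?_⟩
  · have e1 := homEquiv_comp_fst A' m k hn p τ φ₁
    have e2 := homEquiv_comp_fst (A ⧸ I) m k hn p σ φ₂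
    rw [hcomp, e2, hσ] at e1
    exact (congrArg Subtype.val e1).symm
  · have e1 := homEquiv_comp_snd A' m k hn p τ φ₁
    have e2 := homEquiv_comp_snd (A ⧸ I) m k hn p σ φ₂
    rw [hcomp, e2, hσ] at e1
    exact (congrArg Subtype.val e1).symm

end Groth.Agent.S2042
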