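import Groth.Statements.S2054
import Mathlib
import Groth.Agent.Lib.Helper4.Reflexive2
import Groth.Agent.Lib.Helper4.SerreNormal
import Groth.Agent.Lib.Helper28.Reflexive


set_option autoImplicit false
universe u
open CAlg

namespace Groth.Agent.S2054

open Groth.Agent.Lib.Helper4 in
theorem hasS2_normal_q (R : Type u) [CommRing R] [IsDomain R] [IsNoetherianRing R]
    [IsIntegrallyClosed R] : LocCoh.HasSk 2 R R := by
  refine ((Groth.Agent.Lib.Helper4.SerreNormal.serre_criterion R).1 ?_).2
  intro p hp
  have hle : p.primeCompl ≤ nonZeroDivisors R := p.primeCompl_le_nonZeroDivisors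
  exact ⟨IsLocalization.isDomain_localization hle,
    isIntegrallyClosed_of_isLocalization _ p.primeCompl hle⟩

theorem pid_q (B : Type u) [CommRing B] [IsDomain B] [IsNoetherianRing B] [IsLocalRing B]
    [IsIntegrallyClosed B] (h : ringKrullDim B ≤ 1) : IsPrincipalIdealRing B := by
  have hprimes : ∀ P : Ideal B, P ≠ ⊥ → P.IsPrime → P = IsLocalRing.maximalIdeal B := by
    intro P hP0 hPp
    by_contra hne
    have hlt : P < IsLocalRing.maximalIdeal B :=
      lt_of_le_of_ne (IsLocalRing.le_maximalIdeal hPp.ne_top) hne
    have hbot : (⊥ : Ideal B) < P := bot_lt_iff_ne_bot.mpr hP0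
    haveI : (⊥ : Ideal B).IsPrime := Ideal.isPrime_bot
    have h1 : (⊥ : Ideal B).height < P.height := Ideal.height_strict_mono_of_isPrime hbot
    have h2 : P.height < (IsLocalRing.maximalIdeal B).height :=
      Ideal.height_strict_mono_of_isPrime hlt
    have h3 : (IsLocalRing.maximalIdeal B).height ≤ 1 := by
      have := IsLocalRing.maximalIdeal_height_eq_ringKrullDim (R := B)
      rw [← this] at h
      exact_mod_cast h
    have h4 : P.height < 1 := lt_of_lt_of_le h2 h3
    have h5 : P.height = 0 := Order.lt_one_iff.mp h4
    rw [h5] at h1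
    exact not_lt_zero h1
  have h30 : (IsIntegrallyClosed B ∧
      ∀ P : Ideal B, P ≠ ⊥ → P.IsPrime → P = IsLocalRing.maximalIdeal B) →
        IsPrincipalIdealRing B :=
    ((tfae_of_isNoetherianRing_of_isLocalRing_of_isDomain B).out 3 0).mp
  exact h30 ⟨inferInstance, hprimes⟩

theorem exists_mk_q {R : Type*} [CommRing R] (S : Submonoid R) {M : Type*} [AddCommGroup M] [Module R M]
    (μ : LocalizedModule S M) : ∃ m s, μ = LocalizedModule.mk m s :=
  LocalizedModule.induction_on (β := fun μ => ∃ m s, μ = LocalizedModule.mk m s)
    (fun m s => ⟨m, s, rfl⟩) μ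

theorem tf_loc_q {R : Type u} [CommRing R] [IsDomain R] {M : Type u} [AddCommGroup M] [Module R M]
    [NoZeroSMulDivisors R M] (p : Ideal R) [p.IsPrime] :
    Module.IsTorsionFree (Localization.AtPrime p) (LocalizedModule p.primeCompl M) := by
  haveI : IsDomain (Localization.AtPrime p) :=
    IsLocalization.isDomain_localization p.primeCompl_le_nonZeroDivisors
  rw [Module.isTorsionFree_iff_smul_eq_zero]
  intro x μ hx
  obtain ⟨a, s, rfl⟩ := IsLocalization.exists_mk'_eq p.primeCompl x
  obtain ⟨m, t, rfl⟩ := exists_mk_q p.primeCompl μ
  rw [← Localization.mk_eq_mk', LocalizedModule.mk_smul_mk, ← LocalizedModule.zero_mk (s * t),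
    LocalizedModule.mk_eq] at hx
  obtain ⟨v, hv⟩ := hx
  have h1 : ((v : R) * ((s : R) * (t : R)) * a) • m = 0 := by
    simpa [Submonoid.smul_def, mul_smul] using hv
  rcases NoZeroSMulDivisors.eq_zero_or_eq_zero_of_smul_eq_zero h1 with h | h
  · left
    have hne : (v : R) * ((s : R) * (t : R)) ≠ 0 := fun h0 =>
      (p.primeCompl.mul_mem v.2 (p.primeCompl.mul_mem s.2 t.2)) (by rw [h0]; exact p.zero_mem)
    have ha : a = 0 := (mul_eq_zero.1 h).resolve_left hne
    rw [ha, IsLocalization.mk'_zero]
  · right
    rw [h, LocalizedModule.zero_mk]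

/-- Let `R` be a Noetherian normal domain and `M` a finite `R`-module. Then `M` is reflexive (the map to
its double dual is bijective) if and only if `M` is torsion free and satisfies Serre's condition
`(S_2)`. -/
theorem result {R M : Type u} [CommRing R] [IsDomain R] [IsNoetherianRing R]
    [IsIntegrallyClosed R] [AddCommGroup M] [Module R M] [Module.Finite R M] :
    Module.IsReflexive R M ↔ NoZeroSMulDivisors R M ∧ LocCoh.HasSk 2 R M := by
  constructor
  · intro hrefl
    refine ⟨?_, Groth.Agent.Lib.Helper4.hasS2_of_isReflexive R M (hasS2_normal_q R)⟩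
    constructor
    intro r m hrm
    by_contra hcon
    push_neg at hcon
    obtain ⟨hr, hm⟩ := hcon
    have hinj : Function.Injective (Module.Dual.eval R M) := (Module.bijective_dual_eval R M).1
    have hne : Module.Dual.eval R M m ≠ 0 := fun h0 => hm (hinj (by rw [h0, map_zero]))
    apply hne
    ext f
    have h1 : r * f m = 0 := by rw [← smul_eq_mul, ← map_smul, hrm, map_zero]
    rcases mul_eq_zero.1 h1 with h | h
    · exact absurd h hr
    · simpa using h
  · rintro ⟨htf, hS2⟩
    rw [Groth.Agent.Lib.Helper4.isReflexive_iff_forall_localization_or_depth R M]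
    intro p hp
    haveI : IsDomain (Localization.AtPrime p) :=
      IsLocalization.isDomain_localization p.primeCompl_le_nonZeroDivisors
    haveI : Module.IsTorsionFree (Localization.AtPrime p) (LocalizedModule p.primeCompl M) :=
      tf_loc_q p
    by_cases hht : p.height ≤ 1
    · left
      haveI : IsIntegrallyClosed (Localization.AtPrime p) :=
        isIntegrallyClosed_of_isLocalization _ p.primeCompl p.primeCompl_le_nonZeroDivisors
      have hdim : ringKrullDim (Localization.AtPrime p) ≤ 1 := by
        rw [IsLocalization.AtPrime.ringKrullDim_eq_height p (Localization.AtPrime p)]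
        exact_mod_cast hht
      haveI : IsPrincipalIdealRing (Localization.AtPrime p) := pid_q _ hdim
      haveI : Module.Free (Localization.AtPrime p) (LocalizedModule p.primeCompl M) :=
        Module.free_of_finite_type_torsion_free'
      infer_instance
    · right
      have h2 : (2 : ℕ∞) ≤ p.height := by
        have := Order.add_one_le_of_lt (not_le.1 hht)
        rwa [one_add_one_eq_two] at this
      by_cases hsub : Subsingleton (LocalizedModule p.primeCompl M)
      · unfold LocCoh.depth
        rw [Groth.Agent.Lib.Helper28.idealDepth_eq_top_of_subsingleton]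
        exact le_top
      · have hnt : Nontrivial (LocalizedModule p.primeCompl M) :=
          not_subsingleton_iff_nontrivial.1 hsub
        have hsk := hS2 p
        have hann : Module.annihilator (Localization.AtPrime p) (LocalizedModule p.primeCompl M) = ⊥ := by
          rw [eq_bot_iff]
          intro r hr
          obtain ⟨μ, hμ⟩ := exists_ne (0 : LocalizedModule p.primeCompl M)
          have h0 : r • μ = 0 := (Module.mem_annihilator.1 hr) μ
          rcases (Module.isTorsionFree_iff_smul_eq_zero.1 inferInstance) r μ h0 with h | h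
          · rw [h]; exact Ideal.zero_mem _
          · exact absurd h hμ
        have hsd : Module.supportDim (Localization.AtPrime p) (LocalizedModule p.primeCompl M) =
            ((p.height : ℕ∞) : WithBot ℕ∞) := by
          rw [Module.supportDim_eq_ringKrullDim_quotient_annihilator, hann,
            RingEquiv.ringKrullDim (RingEquiv.quotientBot (Localization.AtPrime p)),
            IsLocalization.AtPrime.ringKrullDim_eq_height p (Localization.AtPrime p)]
        rw [hsd] at hsk
        have hk : ((2 : ℕ) : WithBot ℕ∞) = (((2 : ℕ∞)) : WithBot ℕ∞) := rfl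
        rw [hk, ← WithBot.coe_min, WithBot.coe_le_coe, min_eq_left h2] at hsk
        exact hsk

end Groth.Agent.S2054
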