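import Groth.Statements.S2055
import Mathlib
import Groth.Agent.S2009

set_option autoImplicit false
universe u
open CAlg

namespace Groth.Agent.S2055

open TensorProduct

section Aux

variable {R S : Type u} [CommRing R] [CommRing S] [Algebra R S] [Module.Flat R S] (I : Ideal R)

/-- the `I`-power torsion submodule -/
def tors (N : Type u) [AddCommGroup N] [Module R N] : Submodule R N where
  carrier := {y | ∃ n : ℕ, ∀ a ∈ I ^ n, a • y = 0}
  add_mem' := by
    rintro x y ⟨n, hn⟩ ⟨m, hm⟩
    refine ⟨n + m, fun a ha => ?_⟩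
    rw [smul_add, hn a (Ideal.pow_le_pow_right (Nat.le_add_right n m) ha),
      hm a (Ideal.pow_le_pow_right (Nat.le_add_left m n) ha), add_zero]
  zero_mem' := ⟨0, fun a _ => smul_zero a⟩
  smul_mem' := by
    rintro c x ⟨n, hn⟩
    exact ⟨n, fun a ha => by rw [smul_comm, hn a ha, smul_zero]⟩

theorem mem_tors (N : Type u) [AddCommGroup N] [Module R N] (y : N) :
    y ∈ tors I N ↔ ∃ n : ℕ, ∀ a ∈ I ^ n, a • y = 0 := Iff.rfl

theorem L0 (hq : Function.Bijective
      (Ideal.quotientMap (I.map (algebraMap R S)) (algebraMap R S) Ideal.le_comap_map))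
    (N : Type u) [AddCommGroup N] [Module R N] (m : N) (hm : m ∈ tors I N)
    (h0 : (1 : S) ⊗ₜ[R] m = 0) : m = 0 := by
  obtain ⟨n, hn⟩ := hm
  have hmP : m ∈ Groth.Agent.S2009.torsPow I N n := hn
  have hbij := Groth.Agent.S2009.bijective_of_pow_killed I hq n
    (Groth.Agent.S2009.torsPow I N n) (fun a ha p => Subtype.ext (p.2 a ha))
  have hinj : Function.Injective ((Groth.Agent.S2009.torsPow I N n).subtype.lTensor S) :=
    Module.Flat.lTensor_preserves_injective_linearMap _ (Submodule.injective_subtype _)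
  have h1 : ((Groth.Agent.S2009.torsPow I N n).subtype.lTensor S)
      ((1 : S) ⊗ₜ[R] (⟨m, hmP⟩ : Groth.Agent.S2009.torsPow I N n)) = 0 := by
    rw [LinearMap.lTensor_tmul]; exact h0
  have h2 : (1 : S) ⊗ₜ[R] (⟨m, hmP⟩ : Groth.Agent.S2009.torsPow I N n) = 0 :=
    hinj (by rw [h1, map_zero])
  have h3 : (⟨m, hmP⟩ : Groth.Agent.S2009.torsPow I N n) = 0 := hbij.1 (by
    show (1 : S) ⊗ₜ[R] (⟨m, hmP⟩ : Groth.Agent.S2009.torsPow I N n)
      = TensorProduct.mk R S _ 1 0
    rw [h2, map_zero])
  exact congrArg Subtype.val h3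

theorem L1 (hI : I.FG) (hq : Function.Bijective
      (Ideal.quotientMap (I.map (algebraMap R S)) (algebraMap R S) Ideal.le_comap_map))
    (n : ℕ) (N : Type u) [AddCommGroup N] [Module R N] (y : S ⊗[R] N)
    (hy : ∀ a ∈ I ^ n, a • y = 0) :
    ∃ τ : N, τ ∈ tors I N ∧ (1 : S) ⊗ₜ[R] τ = y := by
  classical
  obtain ⟨s, hs⟩ : (I ^ n).FG := hI.pow
  let φ : N →ₗ[R] (s → N) := LinearMap.pi (fun i => (i : R) • LinearMap.id)
  have hφ : ∀ (x : N) (i : s), φ x i = (i : R) • x := fun x i => rfl
  have hsmem : ∀ i : s, (i : R) ∈ I ^ n := fun i => by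
    rw [← hs]; exact Ideal.subset_span i.2
  have hex0 : Function.Exact (Groth.Agent.S2009.torsPow I N n).subtype φ := by
    intro x
    constructor
    · intro hx
      refine ⟨⟨x, ?_⟩, rfl⟩
      intro a ha
      rw [← hs] at ha
      refine Submodule.span_induction (p := fun a _ => a • x = 0) ?_ ?_ ?_ ?_ ha
      · intro b hb
        have := congrFun hx ⟨b, hb⟩
        rwa [hφ, Pi.zero_apply] at this
      · exact zero_smul _ _
      · intro a b _ _ ha hb
        rw [add_smul, ha, hb, add_zero]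
      · intro c a _ ha
        rw [smul_eq_mul, mul_smul, ha, smul_zero]
    · rintro ⟨p, rfl⟩
      funext i
      rw [hφ, Pi.zero_apply]
      exact p.2 _ (hsmem i)
  have hex : Function.Exact ((Groth.Agent.S2009.torsPow I N n).subtype.lTensor S)
      (φ.lTensor S) := Module.Flat.lTensor_exact S hex0
  have hcomp : ∀ (z : S ⊗[R] N) (i : s),
      TensorProduct.piRightHom R R S (fun _ : s => N) (φ.lTensor S z) i = (i : R) • z := by
    intro z i
    induction z using TensorProduct.induction_on with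
    | zero => simp
    | tmul t m =>
      rw [LinearMap.lTensor_tmul, TensorProduct.piRightHom_tmul]
      show t ⊗ₜ[R] (φ m i) = _
      rw [hφ, TensorProduct.tmul_smul]
    | add a b ha hb => rw [map_add, map_add, Pi.add_apply, ha, hb, smul_add]
  have hz : φ.lTensor S y = 0 := by
    apply (TensorProduct.piRight R R S (fun _ : s => N)).injective
    rw [map_zero]
    funext i
    rw [TensorProduct.piRight_apply, hcomp, hy _ (hsmem i)]; rfl
  obtain ⟨z, hz'⟩ := (hex y).1 hz
  have hbij := Groth.Agent.S2009.bijective_of_pow_killed I hq n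
    (Groth.Agent.S2009.torsPow I N n) (fun a ha p => Subtype.ext (p.2 a ha))
  obtain ⟨τ, hτ⟩ := hbij.2 z
  refine ⟨τ.1, ⟨n, τ.2⟩, ?_⟩
  rw [← hz', ← hτ]
  show _ = ((Groth.Agent.S2009.torsPow I N n).subtype.lTensor S) ((1 : S) ⊗ₜ[R] τ)
  rw [LinearMap.lTensor_tmul]; rfl

theorem ext_of_one_tmul {M N : Type u} [AddCommGroup M] [Module R M] [AddCommGroup N]
    [Module R N] (g g' : S ⊗[R] M →ₗ[S] S ⊗[R] N)
    (h : ∀ m, g ((1 : S) ⊗ₜ[R] m) = g' ((1 : S) ⊗ₜ[R] m)) : g = g' := by
  apply LinearMap.ext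
  intro x
  induction x using TensorProduct.induction_on with
  | zero => simp
  | tmul s m =>
    have : s ⊗ₜ[R] m = s • ((1 : S) ⊗ₜ[R] m) := by
      rw [TensorProduct.smul_tmul', smul_eq_mul, mul_one]
    rw [this, map_smul, map_smul, h]
  | add a b ha hb => rw [map_add, map_add, ha, hb]

/-- every element of `S ⊗ N` is power torsion when `N` is. -/
theorem tors_tensor (N : Type u) [AddCommGroup N] [Module R N]
    (hN : ∀ y : N, ∃ n : ℕ, ∀ a ∈ I ^ n, a • y = 0) (z : S ⊗[R] N) :
    ∃ n : ℕ, ∀ a ∈ I ^ n, a • z = 0 := by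
  induction z using TensorProduct.induction_on with
  | zero => exact ⟨0, fun a _ => smul_zero a⟩
  | tmul s y =>
    obtain ⟨n, hn⟩ := hN y
    exact ⟨n, fun a ha => by rw [← TensorProduct.tmul_smul, hn a ha, TensorProduct.tmul_zero]⟩
  | add x y hx hy =>
    obtain ⟨n, hn⟩ := hx
    obtain ⟨m, hm⟩ := hy
    refine ⟨n + m, fun a ha => ?_⟩
    rw [smul_add, hn a (Ideal.pow_le_pow_right (Nat.le_add_right n m) ha),
      hm a (Ideal.pow_le_pow_right (Nat.le_add_left m n) ha), add_zero]

end Aux


open TensorProduct in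
/-- Let `R → S` be flat and `I ⊆ R` a finitely generated ideal with `R/I → S/IS` bijective. If one of
the `R`-modules `M`, `N` has every element killed by a power of `I`, then base change of linear maps
`Hom_R(M, N) → Hom_S(S ⊗ M, S ⊗ N)` is bijective. -/
theorem result {R S M N : Type u} [CommRing R] [CommRing S]
    [Algebra R S] [Module.Flat R S] (I : Ideal R) (hI : I.FG)
    (hq : Function.Bijective (algebraMap (R ⧸ I) (S ⧸ I.map (algebraMap R S))))
    [AddCommGroup M] [Module R M] [AddCommGroup N] [Module R N]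
    (hMN : (∀ x : M, ∃ n : ℕ, ∀ a ∈ I ^ n, a • x = 0) ∨ (∀ y : N, ∃ n : ℕ, ∀ a ∈ I ^ n, a • y = 0)) :
    Function.Bijective (fun f : M →ₗ[R] N => LinearMap.baseChange S f) := by
  have hq' : Function.Bijective
      (Ideal.quotientMap (I.map (algebraMap R S)) (algebraMap R S) Ideal.le_comap_map) := hq
  constructor
  · intro f f' hff
    have hff' : f.baseChange S = f'.baseChange S := hff
    apply LinearMap.ext
    intro m
    rw [← sub_eq_zero]
    apply L0 I hq' N
    · rcases hMN with hM | hN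
      · obtain ⟨n, hn⟩ := hM m
        exact ⟨n, fun a ha => by
          rw [smul_sub, ← map_smul, ← map_smul, hn a ha, map_zero, map_zero, sub_zero]⟩
      · exact hN _
    · have := LinearMap.congr_fun hff' ((1 : S) ⊗ₜ[R] m)
      rw [LinearMap.baseChange_tmul, LinearMap.baseChange_tmul] at this
      rw [TensorProduct.tmul_sub, this, sub_self]
  · intro g
    have claim : ∀ m : M, ∃ y : N, y ∈ tors I N ∧ (1 : S) ⊗ₜ[R] y = g ((1 : S) ⊗ₜ[R] m) := by
      intro m
      have hk : ∃ n : ℕ, ∀ a ∈ I ^ n, a • g ((1 : S) ⊗ₜ[R] m) = 0 := by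
        rcases hMN with hM | hN
        · obtain ⟨n, hn⟩ := hM m
          refine ⟨n, fun a ha => ?_⟩
          rw [← LinearMap.map_smul_of_tower, ← TensorProduct.tmul_smul, hn a ha,
            TensorProduct.tmul_zero, map_zero]
        · exact tors_tensor I N hN _
      obtain ⟨n, hn⟩ := hk
      exact L1 I hI hq' n N _ hn
    choose F hFt hF using claim
    have hadd : ∀ m m', F (m + m') = F m + F m' := by
      intro m m'
      rw [← sub_eq_zero]
      apply L0 I hq' N
      · exact (tors I N).sub_mem (hFt _) ((tors I N).add_mem (hFt _) (hFt _))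
      · rw [TensorProduct.tmul_sub, TensorProduct.tmul_add, hF, hF, hF, TensorProduct.tmul_add,
          map_add, sub_self]
    have hsmul : ∀ (r : R) m, F (r • m) = r • F m := by
      intro r m
      rw [← sub_eq_zero]
      apply L0 I hq' N
      · exact (tors I N).sub_mem (hFt _) ((tors I N).smul_mem r (hFt _))
      · rw [TensorProduct.tmul_sub, TensorProduct.tmul_smul, hF, hF, TensorProduct.tmul_smul,
          LinearMap.map_smul_of_tower, sub_self]
    refine ⟨{ toFun := F, map_add' := hadd, map_smul' := hsmul }, ?_⟩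
    apply ext_of_one_tmul
    intro m
    rw [LinearMap.baseChange_tmul]
    exact hF m

end Groth.Agent.S2055
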