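import Groth.Statements.S2057
import Mathlib.LinearAlgebra.TensorProduct.Basic
import Mathlib.Algebra.BigOperators.Fin
import Groth.Agent.Lib.Helper3.UnivInj

set_option autoImplicit false
universe u
open CAlg

namespace Groth.Agent.S2057

open Groth.Agent.Lib.Helper3

/-- An injective linear map `f : M₁ → M₂` is universally injective if and only if: whenever elements
`x_i` of `M₁` satisfy `f(x_i) = Σ_j a_{ij} y_j` for some `y_j ∈ M₂` and scalars `a_{ij}`, there are
`z_j ∈ M₁` with `x_i = Σ_j a_{ij} z_j`. -/
theorem result {R M₁ M₂ : Type u} [CommRing R] [AddCommGroup M₁]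
    [Module R M₁] [AddCommGroup M₂] [Module R M₂] (f : M₁ →ₗ[R] M₂) (hf : Function.Injective f) :
    CAlgX.UniversallyInjective R f ↔
      ∀ (n m : ℕ) (x : Fin n → M₁) (y : Fin m → M₂) (a : Fin n → Fin m → R),
        (∀ i, f (x i) = ∑ j, a i j • y j) → ∃ z : Fin m → M₁, ∀ i, x i = ∑ j, a i j • z j := by
  constructor
  · intro h
    apply equational_of_fp
    intro Q _ _ _
    rw [LinearMap.lTensor_inj_iff_rTensor_inj]
    exact h Q
  · intro h Q _ _
    rw [← LinearMap.lTensor_inj_iff_rTensor_inj]
    exact lTensor_injective_of_equational f h Q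

end Groth.Agent.S2057
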