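import Groth.Statements.S2058
import Mathlib
import Groth.Agent.Lib.Helper4.Depth


set_option autoImplicit false
universe u
open CAlg

namespace Groth.Agent.S2058

open Groth.Agent.Lib.Helper4

/-- the ideal of elements killed by a power of the maximal ideal -/
def torq (R : Type u) [CommRing R] [IsLocalRing R] : Ideal R where
  carrier := {r | ∃ n : ℕ, ∀ a ∈ IsLocalRing.maximalIdeal R ^ n, a * r = 0}
  zero_mem' := ⟨0, fun a _ => mul_zero a⟩
  add_mem' := by
    rintro r s ⟨n, hn⟩ ⟨m, hm⟩
    show ∃ k : ℕ, ∀ a ∈ IsLocalRing.maximalIdeal R ^ k, a * (r + s) = 0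
    refine ⟨n + m, fun a ha => ?_⟩
    rw [mul_add, hn a (Ideal.pow_le_pow_right (Nat.le_add_right n m) ha),
      hm a (Ideal.pow_le_pow_right (Nat.le_add_left m n) ha), add_zero]
  smul_mem' := by
    rintro c r ⟨n, hn⟩
    show ∃ k : ℕ, ∀ a ∈ IsLocalRing.maximalIdeal R ^ k, a * (c • r) = 0
    refine ⟨n, fun a ha => ?_⟩
    rw [smul_eq_mul, mul_left_comm, hn a ha, mul_zero]

lemma mem_torq {R : Type u} [CommRing R] [IsLocalRing R] (r : R) :
    r ∈ torq R ↔ ∃ n : ℕ, ∀ a ∈ IsLocalRing.maximalIdeal R ^ n, a * r = 0 := Iff.rfl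

lemma torq_unif (R : Type u) [CommRing R] [IsLocalRing R] [IsNoetherianRing R] :
    ∃ N : ℕ, ∀ r ∈ torq R, ∀ a ∈ IsLocalRing.maximalIdeal R ^ N, a * r = 0 := by
  classical
  obtain ⟨s, hs⟩ := IsNoetherian.noetherian (torq R)
  have hmem : ∀ g ∈ s, ∃ n : ℕ, ∀ a ∈ IsLocalRing.maximalIdeal R ^ n, a * g = 0 := by
    intro g hg
    have hgT : g ∈ torq R := by
      rw [← hs]
      exact Submodule.subset_span (Finset.mem_coe.mpr hg)
    exact (mem_torq g).mp hgT
  choose! nf hnf using hmem
  refine ⟨s.sup nf, fun r hr a ha => ?_⟩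
  rw [← hs] at hr
  induction hr using Submodule.span_induction with
  | mem g hg =>
    exact hnf g (Finset.mem_coe.mp hg) a
      (Ideal.pow_le_pow_right (Finset.le_sup (Finset.mem_coe.mp hg)) ha)
  | zero => exact mul_zero a
  | add u v _ _ hu hv => rw [mul_add, hu, hv, add_zero]
  | smul c u _ hu => rw [smul_eq_mul, mul_left_comm, hu, mul_zero]

lemma one_not_mem_q {R : Type u} [CommRing R] [IsLocalRing R] :
    (1 : R) ∉ IsLocalRing.maximalIdeal R := fun h =>
  (IsLocalRing.maximalIdeal.isMaximal R).ne_top ((Ideal.eq_top_iff_one _).mpr h)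

lemma case_zero_q {R : Type u} [CommRing R] [IsLocalRing R] [IsNoetherianRing R]
    (h1 : ¬ IsArtinianRing R)
    (hAss : IsLocalRing.maximalIdeal R ∈ associatedPrimes R R) :
    ∃ (R' : Type u) (_ : CommRing R') (_ : Algebra R R'), Nontrivial R' ∧ Module.Finite R R' ∧
      ¬ Function.Bijective (algebraMap R R') ∧
      (∃ n : ℕ, (∀ x : R, algebraMap R R' x = 0 → ∀ a ∈ IsLocalRing.maximalIdeal R ^ n, a * x = 0) ∧
        (∀ y : R', ∀ a ∈ IsLocalRing.maximalIdeal R ^ n, a • y ∈ Set.range (algebraMap R R'))) ∧
      IsLocalRing.maximalIdeal R ∉ associatedPrimes R R' := by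
  obtain ⟨N, hN⟩ := torq_unif R
  have hTne : torq R ≠ ⊤ := by
    intro htop
    have h1T : (1 : R) ∈ torq R := by rw [htop]; exact Submodule.mem_top
    obtain ⟨n, hn⟩ := (mem_torq 1).mp h1T
    apply h1
    rw [isArtinianRing_iff_isNilpotent_maximalIdeal R]
    refine ⟨n, ?_⟩
    rw [Ideal.zero_eq_bot, Submodule.eq_bot_iff]
    intro a ha
    simpa using hn a ha
  haveI : Nontrivial (R ⧸ torq R) := Ideal.Quotient.nontrivial_iff.mpr hTne
  refine ⟨R ⧸ torq R, inferInstance, inferInstance, inferInstance, inferInstance, ?_,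
    ⟨N, ?_, ?_⟩, ?_⟩
  · intro hbij
    obtain ⟨-, z, hz⟩ := (isAssociatedPrime_iff (R := R) (M := R)).mp hAss
    have hz0 : z ≠ 0 := by
      rintro rfl
      apply one_not_mem_q (R := R)
      rw [hz, Submodule.mem_colon_singleton]
      simp
    have hzT : z ∈ torq R := by
      refine (mem_torq z).mpr ⟨1, fun a ha => ?_⟩
      rw [pow_one, hz, Submodule.mem_colon_singleton, Submodule.mem_bot] at ha
      exact ha
    apply hz0
    apply hbij.1
    rw [map_zero]
    show Ideal.Quotient.mk (torq R) z = 0
    exact Ideal.Quotient.eq_zero_iff_mem.mpr hzT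
  · intro x hx a ha
    have hxT : x ∈ torq R := Ideal.Quotient.eq_zero_iff_mem.mp hx
    exact hN x hxT a ha
  · intro y a _
    obtain ⟨r, rfl⟩ := Ideal.Quotient.mk_surjective y
    exact ⟨a * r, by rw [map_mul, Algebra.smul_def]; rfl⟩
  · intro hA
    obtain ⟨-, w, hw⟩ := (isAssociatedPrime_iff (R := R) (M := R ⧸ torq R)).mp hA
    obtain ⟨r, rfl⟩ := Ideal.Quotient.mk_surjective w
    have hmr : ∀ a ∈ IsLocalRing.maximalIdeal R, a * r ∈ torq R := by
      intro a ha
      rw [hw, Submodule.mem_colon_singleton, Submodule.mem_bot, Algebra.smul_def] at ha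
      have : Ideal.Quotient.mk (torq R) (a * r) = 0 := by
        rw [map_mul]; exact ha
      exact Ideal.Quotient.eq_zero_iff_mem.mp this
    have hrT : r ∈ torq R := by
      refine (mem_torq r).mpr ⟨N + 1, fun b hb => ?_⟩
      rw [pow_succ] at hb
      refine Submodule.mul_induction_on hb (fun c hc a ha => ?_) (fun u v hu hv => ?_)
      · rw [mul_assoc]; exact hN (a * r) (hmr a ha) c hc
      · rw [add_mul, hu, hv, add_zero]
    apply one_not_mem_q (R := R)
    rw [hw, Submodule.mem_colon_singleton, Submodule.mem_bot, one_smul]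
    exact Ideal.Quotient.eq_zero_iff_mem.mpr hrT

/-- the subalgebra of elements stabilising the image of an ideal -/
def stabq {R : Type u} [CommRing R] (S : Type u) [CommRing S] [Algebra R S] (I : Ideal R) :
    Subalgebra R S where
  carrier := {s | ∀ a ∈ I, ∃ r ∈ I, s * algebraMap R S a = algebraMap R S r}
  mul_mem' := fun {s t} hs ht a ha => by
    obtain ⟨r, hr, e⟩ := ht a ha
    obtain ⟨r', hr', e'⟩ := hs r hr
    exact ⟨r', hr', by rw [mul_assoc, e, e']⟩
  one_mem' := fun a ha => ⟨a, ha, one_mul _⟩
  add_mem' := fun {s t} hs ht a ha => by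
    obtain ⟨r, hr, e⟩ := hs a ha
    obtain ⟨r', hr', e'⟩ := ht a ha
    exact ⟨r + r', I.add_mem hr hr', by rw [add_mul, e, e', map_add]⟩
  zero_mem' := fun a _ => ⟨0, I.zero_mem, by rw [zero_mul, map_zero]⟩
  algebraMap_mem' := fun c a ha => ⟨c * a, I.mul_mem_left c ha, by rw [map_mul]⟩

lemma mem_stabq {R : Type u} [CommRing R] (S : Type u) [CommRing S] [Algebra R S] (I : Ideal R)
    (s : S) : s ∈ stabq S I ↔ ∀ a ∈ I, ∃ r ∈ I, s * algebraMap R S a = algebraMap R S r :=
  Iff.rfl

lemma case_pos_q {R : Type u} [CommRing R] [IsLocalRing R] [IsNoetherianRing R]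
    (h1 : ¬ IsArtinianRing R) (h2 : ¬ (IsRegularLocalRing R ∧ ringKrullDim R = 1))
    (x : R) (hx : x ∈ IsLocalRing.maximalIdeal R) (hreg : IsSMulRegular R x)
    (hAss : IsLocalRing.maximalIdeal R ∈ associatedPrimes R (QuotSMulTop x R)) :
    ∃ (R' : Type u) (_ : CommRing R') (_ : Algebra R R'), Nontrivial R' ∧ Module.Finite R R' ∧
      ¬ Function.Bijective (algebraMap R R') ∧
      (∃ n : ℕ, (∀ x : R, algebraMap R R' x = 0 → ∀ a ∈ IsLocalRing.maximalIdeal R ^ n, a * x = 0) ∧
        (∀ y : R', ∀ a ∈ IsLocalRing.maximalIdeal R ^ n, a • y ∈ Set.range (algebraMap R R'))) ∧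
      IsLocalRing.maximalIdeal R ∉ associatedPrimes R R' := by
  obtain ⟨-, w, hw⟩ := (isAssociatedPrime_iff (R := R) (M := QuotSMulTop x R)).mp hAss
  obtain ⟨y, rfl⟩ := Submodule.Quotient.mk_surjective _ w
  have hy1 : ∀ c : R, x * c ≠ y := by
    intro c hc
    have h0 : (Submodule.Quotient.mk y : QuotSMulTop x R) = 0 := by
      rw [Submodule.Quotient.mk_eq_zero, Submodule.mem_smul_pointwise_iff_exists]
      exact ⟨c, Submodule.mem_top, hc⟩
    apply one_not_mem_q (R := R)
    rw [hw, Submodule.mem_colon_singleton, Submodule.mem_bot, one_smul]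
    exact h0
  have hy2 : ∀ a ∈ IsLocalRing.maximalIdeal R, ∃ c : R, c * x = a * y := by
    intro a ha
    rw [hw, Submodule.mem_colon_singleton, Submodule.mem_bot, ← Submodule.Quotient.mk_smul,
      Submodule.Quotient.mk_eq_zero, Submodule.mem_smul_pointwise_iff_exists] at ha
    obtain ⟨c, -, hc⟩ := ha
    exact ⟨c, by rw [mul_comm]; exact hc⟩
  choose! cf hcf using hy2
  by_cases hB : ∀ a ∈ IsLocalRing.maximalIdeal R, cf a ∈ IsLocalRing.maximalIdeal R
  swap
  · exfalso
    push_neg at hB
    obtain ⟨a, ha, hua⟩ := hB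
    have hu : IsUnit (cf a) := by
      by_contra hnu
      exact hua ((IsLocalRing.mem_maximalIdeal _).mpr hnu)
    have hm : IsLocalRing.maximalIdeal R = Ideal.span {a} := by
      apply le_antisymm
      · intro b hb
        have e : b * cf a = a * cf b := by
          apply hreg
          show x • (b * cf a) = x • (a * cf b)
          rw [smul_eq_mul, smul_eq_mul]
          calc x * (b * cf a) = b * (cf a * x) := by ring
            _ = b * (a * y) := by rw [hcf a ha]
            _ = a * (b * y) := by ring
            _ = a * (cf b * x) := by rw [hcf b hb]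
            _ = x * (a * cf b) := by ring
        obtain ⟨v, hv⟩ := hu.exists_right_inv
        rw [Ideal.mem_span_singleton']
        refine ⟨cf b * v, ?_⟩
        calc cf b * v * a = (a * cf b) * v := by ring
          _ = (b * cf a) * v := by rw [e]
          _ = b * (cf a * v) := by ring
          _ = b := by rw [hv, mul_one]
      · exact Ideal.span_le.mpr (Set.singleton_subset_iff.mpr ha)
    haveI : (Ideal.span {a} : Ideal R).IsPrincipal := ⟨⟨a, rfl⟩⟩
    have hht : (IsLocalRing.maximalIdeal R).height ≤ 1 := by
      apply Ideal.height_le_one_of_isPrincipal_of_mem_minimalPrimes (Ideal.span {a})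
      rw [← hm, Ideal.minimalPrimes_eq_subsingleton_self]
      exact Set.mem_singleton _
    have hdim0 : ¬ ringKrullDim R ≤ 0 := by
      intro hle
      apply h1
      rw [isArtinianRing_iff_krullDimLE_zero, Ring.krullDimLE_iff]
      exact_mod_cast hle
    have hht1 : (IsLocalRing.maximalIdeal R).height = 1 := by
      refine le_antisymm hht (ENat.one_le_iff_ne_zero.mpr fun h0 => hdim0 ?_)
      rw [← IsLocalRing.maximalIdeal_height_eq_ringKrullDim, h0]
      simp
    have hdim : ringKrullDim R = 1 := by
      rw [← IsLocalRing.maximalIdeal_height_eq_ringKrullDim, hht1]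
      rfl
    refine h2 ⟨IsRegularLocalRing.of_spanFinrank_maximalIdeal_le R ?_, hdim⟩
    rw [hdim]
    have hsf : (IsLocalRing.maximalIdeal R).spanFinrank ≤ 1 := by
      rw [hm]
      simpa using Submodule.spanFinrank_span_le_ncard_of_finite (R := R) (Set.finite_singleton a)
    exact_mod_cast hsf
  · have hxnzd : x ∈ nonZeroDivisors R := by
      rw [mem_nonZeroDivisors_iff_right]
      intro r hr
      apply hreg
      show x • r = x • 0
      rw [smul_zero, smul_eq_mul, mul_comm, hr]
    have hinj : Function.Injective (algebraMap R (Localization.Away x)) :=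
      IsLocalization.injective (Localization.Away x) (M := Submonoid.powers x)
        (Submonoid.powers_le.mpr hxnzd)
    have hxu : IsUnit (algebraMap R (Localization.Away x) x) :=
      IsLocalization.map_units (Localization.Away x)
        (⟨x, Submonoid.mem_powers x⟩ : Submonoid.powers x)
    obtain ⟨z, hzx⟩ : ∃ z : Localization.Away x,
        z * algebraMap R (Localization.Away x) x = algebraMap R (Localization.Away x) y :=
      ⟨IsLocalization.mk' (Localization.Away x) y (⟨x, Submonoid.mem_powers x⟩ : Submonoid.powers x),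
        IsLocalization.mk'_spec (Localization.Away x) y
          (⟨x, Submonoid.mem_powers x⟩ : Submonoid.powers x)⟩
    have hkey : ∀ a ∈ IsLocalRing.maximalIdeal R,
        z * algebraMap R (Localization.Away x) a = algebraMap R (Localization.Away x) (cf a) := by
      intro a ha
      apply hxu.mul_left_injective
      show z * algebraMap R (Localization.Away x) a * algebraMap R (Localization.Away x) x =
        algebraMap R (Localization.Away x) (cf a) * algebraMap R (Localization.Away x) x
      rw [mul_right_comm, hzx, ← map_mul, ← map_mul, hcf a ha, mul_comm]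
    have hzmem : z ∈ stabq (Localization.Away x) (IsLocalRing.maximalIdeal R) :=
      (mem_stabq _ _ z).mpr fun a ha => ⟨cf a, hB a ha, hkey a ha⟩
    have hinj' : Function.Injective
        (algebraMap R (stabq (Localization.Away x) (IsLocalRing.maximalIdeal R))) := by
      intro r r' h
      apply hinj
      exact congrArg Subtype.val h
    haveI : Module.Finite R (Submodule.map (Algebra.linearMap R (Localization.Away x))
        (IsLocalRing.maximalIdeal R)) :=
      Module.Finite.iff_fg.mpr ((IsNoetherian.noetherian (IsLocalRing.maximalIdeal R)).map _)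
    let g : stabq (Localization.Away x) (IsLocalRing.maximalIdeal R) →ₗ[R]
        Submodule.map (Algebra.linearMap R (Localization.Away x)) (IsLocalRing.maximalIdeal R) :=
      { toFun := fun s => ⟨s.1 * algebraMap R (Localization.Away x) x, by
          obtain ⟨r, hr, e⟩ := s.2 x hx
          exact ⟨r, hr, e.symm⟩⟩
        map_add' := fun s t => Subtype.ext (add_mul _ _ _)
        map_smul' := fun c s => Subtype.ext
          (smul_mul_assoc c s.1 (algebraMap R (Localization.Away x) x)) }
    have hginj : Function.Injective g := by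
      intro s t hst
      have h := congrArg Subtype.val hst
      exact Subtype.ext (hxu.mul_left_injective h)
    haveI : Module.Finite R (stabq (Localization.Away x) (IsLocalRing.maximalIdeal R)) :=
      Module.Finite.of_injective g hginj
    refine ⟨stabq (Localization.Away x) (IsLocalRing.maximalIdeal R), inferInstance, inferInstance,
      hinj'.nontrivial, inferInstance, ?_, ⟨1, ?_, ?_⟩, ?_⟩
    · intro hbij
      obtain ⟨r, hr⟩ := hbij.2 ⟨z, hzmem⟩
      have hr' : algebraMap R (Localization.Away x) r = z := congrArg Subtype.val hr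
      apply hy1 r
      apply hinj
      rw [map_mul, hr', mul_comm, hzx]
    · intro r hr a _
      have : r = 0 := hinj' (by rw [hr, map_zero])
      rw [this, mul_zero]
    · intro w a ha
      rw [pow_one] at ha
      obtain ⟨r, hr, e⟩ := w.2 a ha
      refine ⟨r, Subtype.ext ?_⟩
      show algebraMap R (Localization.Away x) r = a • (w : Localization.Away x)
      rw [Algebra.smul_def, mul_comm]
      exact e.symm
    · intro hA
      obtain ⟨-, w, hw⟩ := (isAssociatedPrime_iff (R := R)
        (M := stabq (Localization.Away x) (IsLocalRing.maximalIdeal R))).mp hA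
      have hxw : x • w = 0 := by
        have hx' := hx
        rw [hw, Submodule.mem_colon_singleton, Submodule.mem_bot] at hx'
        exact hx'
      have hw0 : w = 0 := by
        apply Subtype.ext
        have h' : algebraMap R (Localization.Away x) x * (w : Localization.Away x) = 0 := by
          have h'' := congrArg Subtype.val hxw
          rw [← Algebra.smul_def]
          exact h''
        exact hxu.mul_right_eq_zero.mp h'
      apply one_not_mem_q (R := R)
      rw [hw, Submodule.mem_colon_singleton, Submodule.mem_bot, hw0, smul_zero]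

/-- Let R be a Noetherian local ring which is not Artinian, is not a regular local ring of dimension
one, and has depth at most one. Then there is a finite ring map R → R' with R' ≠ 0, not bijective,
whose kernel and cokernel are killed by a power of the maximal ideal of R, such that the maximal
ideal of R is not an associated prime of the R-module R'. (This says that the four cases for a
Noetherian local ring — Artinian, regular of dimension one, depth at least two, or admitting such a
map — cover everything; that they are mutually exclusive is not asserted.) -/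
theorem result {R : Type u} [CommRing R] [IsLocalRing R] [IsNoetherianRing R]
    (h1 : ¬ IsArtinianRing R) (h2 : ¬ (IsRegularLocalRing R ∧ ringKrullDim R = 1))
    (h3 : LocCoh.depth R R ≤ 1) :
    ∃ (R' : Type u) (_ : CommRing R') (_ : Algebra R R'), Nontrivial R' ∧ Module.Finite R R' ∧
      ¬ Function.Bijective (algebraMap R R') ∧
      (∃ n : ℕ, (∀ x : R, algebraMap R R' x = 0 → ∀ a ∈ IsLocalRing.maximalIdeal R ^ n, a * x = 0) ∧
        (∀ y : R', ∀ a ∈ IsLocalRing.maximalIdeal R ^ n, a • y ∈ Set.range (algebraMap R R'))) ∧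
      IsLocalRing.maximalIdeal R ∉ associatedPrimes R R' := by
  by_cases h0 : LocCoh.depth R R = 0
  · exact case_zero_q h1 (depth_eq_zero_iff_maximalIdeal_mem_associatedPrimes.mp h0)
  · have hIM : IsLocalRing.maximalIdeal R • (⊤ : Submodule R R) ≠ ⊤ :=
      maximalIdeal_smul_top_ne_top
    have h0' : LocCoh.idealDepth (IsLocalRing.maximalIdeal R) R ≠ 0 := h0
    have h1le : 1 ≤ LocCoh.idealDepth (IsLocalRing.maximalIdeal R) R :=
      ENat.one_le_iff_ne_zero.mpr h0'
    obtain ⟨x, hx, hreg⟩ :=
      (one_le_idealDepth_iff (M := R) (IsLocalRing.maximalIdeal R) hIM).mp h1le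
    have hd0 : LocCoh.depth R (QuotSMulTop x R) = 0 := by
      have e := idealDepth_quotSMulTop_add_one (M := R) (IsLocalRing.maximalIdeal R) x hx hreg
      have h3' : LocCoh.idealDepth (IsLocalRing.maximalIdeal R) R ≤ 1 := h3
      rw [← e] at h3'
      have h4 : LocCoh.idealDepth (IsLocalRing.maximalIdeal R) (QuotSMulTop x R) + 1 ≤ 0 + 1 := by
        rw [zero_add]; exact h3'
      exact le_antisymm ((ENat.add_le_add_iff_right (by simp)).mp h4) zero_le
    exact case_pos_q h1 h2 x hx hreg
      (depth_eq_zero_iff_maximalIdeal_mem_associatedPrimes.mp hd0)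

end Groth.Agent.S2058
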