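import Groth.Statements.S2059
import Mathlib

set_option autoImplicit false
universe u
open CAlg

namespace Groth.Agent.S2059

open Cardinal Polynomial in
theorem alg_of_rank_lt {k T : Type u} [Field k] [CommRing T] [Algebra k T]
    (hr : Module.rank k T < #k) (m : Ideal T) [m.IsMaximal] :
    Algebra.IsAlgebraic k (T ⧸ m) := by
  letI : Field (T ⧸ m) := Ideal.Quotient.field m
  by_contra hna
  rw [← Algebra.transcendental_iff_not_isAlgebraic] at hna
  have h1 : Module.rank k (T ⧸ m) = #(T ⧸ m) :=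
    Algebra.Transcendental.rank_eq_cardinalMk k (T ⧸ m)
  have h2 : #k ≤ #(T ⧸ m) := Cardinal.mk_le_of_injective (algebraMap k (T ⧸ m)).injective
  have h3 : Module.rank k (T ⧸ m) ≤ Module.rank k T :=
    LinearMap.rank_le_of_surjective (Ideal.Quotient.mkₐ k m).toLinearMap
      (Ideal.Quotient.mkₐ_surjective k m)
  exact absurd (h2.trans (h1 ▸ h3)) (not_le.mpr hr)

open Cardinal Polynomial in
theorem rank_le_of_adjoin_range {k T ι : Type u} [Field k] [CommRing T] [Algebra k T]
    [Infinite ι] (gen : ι → T) (h : Algebra.adjoin k (Set.range gen) = ⊤) :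
    Module.rank k T ≤ #ι := by
  have hsurj : Function.Surjective (MvPolynomial.aeval (R := k) gen) := by
    rw [← AlgHom.range_eq_top, ← Algebra.adjoin_range_eq_range_aeval, h]
  calc Module.rank k T ≤ Module.rank k (MvPolynomial ι k) :=
        LinearMap.rank_le_of_surjective (MvPolynomial.aeval (R := k) gen).toLinearMap hsurj
    _ = #(ι →₀ ℕ) := MvPolynomial.rank_eq
    _ = #ι := by rw [Cardinal.mk_finsupp_nat, max_eq_left (Cardinal.aleph0_le_mk ι)]

/-- Let `k` be a field and `S` a `k`-algebra generated by a set of cardinality smaller than that of `k`.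
Then for every maximal ideal `𝔪` of `S` the residue field `S/𝔪` is algebraic over `k`, and `S` is a
Jacobson ring. -/
theorem result {k S : Type u} [Field k] [CommRing S] [Algebra k S]
    (s : Set S) (hs : Algebra.adjoin k s = ⊤) (hcard : Cardinal.mk s < Cardinal.mk k) :
    (∀ (m : Ideal S) [m.IsMaximal], Algebra.IsAlgebraic k (S ⧸ m)) ∧ IsJacobsonRing S := by
  classical
  by_cases hfin : s.Finite
  · haveI : Algebra.FiniteType k S :=
      ⟨⟨hfin.toFinset, by rw [Set.Finite.coe_toFinset]; exact hs⟩⟩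
    refine ⟨fun m _ => ?_, isJacobsonRing_of_finiteType (A := k)⟩
    letI : Field (S ⧸ m) := Ideal.Quotient.field m
    haveI : Algebra.FiniteType k (S ⧸ m) :=
      Algebra.FiniteType.of_surjective (Ideal.Quotient.mkₐ k m)
        (Ideal.Quotient.mkₐ_surjective k m)
    haveI : Module.Finite k (S ⧸ m) := finite_of_finite_type_of_isJacobsonRing k (S ⧸ m)
    exact Algebra.IsAlgebraic.of_finite k (S ⧸ m)
  · haveI : Infinite s := Set.infinite_coe_iff.mpr hfin
    have hrank : Module.rank k S < Cardinal.mk k :=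
      (rank_le_of_adjoin_range (Subtype.val : s → S)
        (by rw [Subtype.range_coe]; exact hs)).trans_lt hcard
    refine ⟨fun m _ => alg_of_rank_lt hrank m, ?_⟩
    rw [isJacobsonRing_iff_prime_eq]
    intro P hP
    refine le_antisymm ?_ Ideal.le_jacobson
    intro f hf
    by_contra hfP
    haveI := hP
    haveI : IsDomain (S ⧸ P) := Ideal.Quotient.isDomain P
    have hf0 : Ideal.Quotient.mk P f ≠ 0 := fun h0 =>
      hfP (Ideal.Quotient.eq_zero_iff_mem.mp h0)
    obtain ⟨g, hg⟩ : ∃ g : Polynomial (S ⧸ P),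
        g = Polynomial.C (Ideal.Quotient.mk P f) * Polynomial.X - 1 := ⟨_, rfl⟩
    have hdeg : g.degree ≠ 0 := by
      rw [hg, Polynomial.degree_sub_eq_left_of_degree_lt]
      · rw [Polynomial.degree_C_mul_X hf0]; exact one_ne_zero
      · rw [Polynomial.degree_C_mul_X hf0, Polynomial.degree_one]; exact zero_lt_one
    haveI : Nontrivial (AdjoinRoot g) := AdjoinRoot.nontrivial g hdeg
    obtain ⟨φ, hφ⟩ : ∃ φ : S →ₐ[k] AdjoinRoot g,
        ∀ x, φ x = algebraMap (S ⧸ P) (AdjoinRoot g) (Ideal.Quotient.mk P x) :=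
      ⟨(IsScalarTower.toAlgHom k (S ⧸ P) (AdjoinRoot g)).comp (Ideal.Quotient.mkₐ k P),
        fun x => rfl⟩
    have hroot : algebraMap (S ⧸ P) (AdjoinRoot g) (Ideal.Quotient.mk P f) *
        AdjoinRoot.root g = 1 := by
      have h0 : AdjoinRoot.mk g
          (Polynomial.C (Ideal.Quotient.mk P f) * Polynomial.X - 1) = 0 := by
        rw [← hg]; exact AdjoinRoot.mk_self
      rw [map_sub, map_mul, map_one, AdjoinRoot.mk_X, AdjoinRoot.mk_C, sub_eq_zero] at h0
      exact h0
    obtain ⟨gen, hgen0, hgen1⟩ : ∃ gen : Option s → AdjoinRoot g,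
        gen none = AdjoinRoot.root g ∧ ∀ x : s, gen (some x) = φ x :=
      ⟨fun o => o.elim (AdjoinRoot.root g) (fun x => φ x), rfl, fun x => rfl⟩
    have hgen : Algebra.adjoin k (Set.range gen) = ⊤ := by
      rw [eq_top_iff]
      have hφB : ∀ x : S, φ x ∈ Algebra.adjoin k (Set.range gen) := by
        have h1 : (⊤ : Subalgebra k S) ≤ (Algebra.adjoin k (Set.range gen)).comap φ := by
          rw [← hs]
          refine Algebra.adjoin_le fun x hx => ?_
          show φ x ∈ Algebra.adjoin k (Set.range gen)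
          exact Algebra.subset_adjoin ⟨some ⟨x, hx⟩, hgen1 ⟨x, hx⟩⟩
        intro x
        exact h1 Algebra.mem_top
      have hrootB : AdjoinRoot.root g ∈ Algebra.adjoin k (Set.range gen) :=
        Algebra.subset_adjoin ⟨none, hgen0⟩
      intro y _
      obtain ⟨q, rfl⟩ := AdjoinRoot.mk_surjective y
      rw [← AdjoinRoot.aeval_eq, Polynomial.aeval_eq_sum_range]
      refine Subalgebra.sum_mem _ fun i _ => ?_
      rw [Algebra.smul_def]
      refine Subalgebra.mul_mem _ ?_ (Subalgebra.pow_mem _ hrootB i)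
      obtain ⟨x, hx⟩ := Ideal.Quotient.mk_surjective (q.coeff i)
      rw [← hx, ← hφ x]
      exact hφB x
    have hrankT : Module.rank k (AdjoinRoot g) < Cardinal.mk k := by
      refine (rank_le_of_adjoin_range gen hgen).trans_lt ?_
      rw [Cardinal.mk_option, Cardinal.add_one_eq (Cardinal.aleph0_le_mk s)]
      exact hcard
    obtain ⟨n, hn⟩ := Ideal.exists_maximal (AdjoinRoot g)
    haveI := hn
    haveI halg : Algebra.IsAlgebraic k (AdjoinRoot g ⧸ n) := alg_of_rank_lt hrankT n
    letI : Field (AdjoinRoot g ⧸ n) := Ideal.Quotient.field n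
    obtain ⟨ψ, hψ⟩ : ∃ ψ : S →ₐ[k] (AdjoinRoot g ⧸ n),
        ∀ x, ψ x = Ideal.Quotient.mk n (φ x) :=
      ⟨(Ideal.Quotient.mkₐ k n).comp φ, fun x => rfl⟩
    letI : Field ψ.range := (Subalgebra.isField_of_algebraic ψ.range).toField
    have hmax : (RingHom.ker ψ.rangeRestrict).IsMaximal :=
      RingHom.ker_isMaximal_of_surjective ψ.rangeRestrict ψ.rangeRestrict_surjective
    have hPm : P ≤ RingHom.ker ψ.rangeRestrict := by
      intro x hx
      rw [RingHom.mem_ker]
      apply Subtype.ext
      show ψ x = 0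
      rw [hψ, hφ, Ideal.Quotient.eq_zero_iff_mem.mpr hx, map_zero, map_zero]
    have hfm : f ∉ RingHom.ker ψ.rangeRestrict := by
      intro hfm
      rw [RingHom.mem_ker] at hfm
      have h1 : ψ f = 0 := congrArg Subtype.val hfm
      rw [hψ, hφ] at h1
      have h2 := congrArg (Ideal.Quotient.mk n) hroot
      rw [map_mul, h1, zero_mul, map_one] at h2
      exact zero_ne_one h2
    have hfmem : f ∈ RingHom.ker ψ.rangeRestrict := by
      rw [Ideal.jacobson, Ideal.mem_sInf] at hf
      exact hf ⟨hPm, hmax⟩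
    exact hfm hfmem

end Groth.Agent.S2059
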