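import Groth.Statements.S2060
import Mathlib
import Groth.Agent.Lib.Helper8.LiftCrit2

set_option autoImplicit false
universe u
open CAlg

namespace Groth.Agent.S2060

/-- Let `R` be Noetherian, `S` of finite type over `R` and `𝔮` a prime of `S`. Then `R → S` is smooth at
`𝔮` if and only if for every surjection `B' → B` of Artinian local `R`-algebras whose kernel is
principal and killed by the maximal ideal of `B'`, every `R`-algebra map `S → B` under which the
maximal ideal pulls back to `𝔮` lifts to `B'`. -/
theorem result {R S : Type u} [CommRing R] [IsNoetherianRing R]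
    [CommRing S] [Algebra R S] [Algebra.FiniteType R S] (q : Ideal S) [q.IsPrime] :
    Algebra.IsSmoothAt R q ↔
      ∀ (B' B : Type u) [CommRing B'] [CommRing B] [IsLocalRing B'] [IsLocalRing B]
        [IsArtinianRing B'] [IsArtinianRing B] [Algebra R B'] [Algebra R B] (π : B' →ₐ[R] B),
        Function.Surjective π →
        (∃ t : B', RingHom.ker π.toRingHom = Ideal.span {t} ∧
          ∀ a ∈ IsLocalRing.maximalIdeal B', a * t = 0) →
        ∀ g : S →ₐ[R] B, (IsLocalRing.maximalIdeal B).comap g = q →
          ∃ g' : S →ₐ[R] B', π.comp g' = g := by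
  constructor
  · intro hsm B' B _ _ _ _ _ _ _ _ π hπ ht g hg
    haveI : Algebra.FormallySmooth R (Localization.AtPrime q) := hsm
    obtain ⟨t, hker, hkill⟩ := ht
    have htm : t ∈ IsLocalRing.maximalIdeal B' := by
      rw [IsLocalRing.mem_maximalIdeal, mem_nonunits_iff]
      intro hu
      have h1 : (1 : B') ∈ RingHom.ker π.toRingHom := by
        rw [hker]
        obtain ⟨t', ht'⟩ := hu.exists_left_inv
        rw [← ht']
        exact Ideal.mul_mem_left _ _ (Ideal.subset_span rfl)
      rw [RingHom.mem_ker, map_one] at h1
      exact one_ne_zero h1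
    have hnil : IsNilpotent (RingHom.ker (π : B' →+* B)) := by
      refine ⟨2, ?_⟩
      show RingHom.ker π.toRingHom ^ 2 = ⊥
      rw [hker, Ideal.span_singleton_pow, pow_two, hkill t htm, Ideal.span_singleton_eq_bot]
    have hunits : ∀ y : q.primeCompl, IsUnit (g y) := by
      intro y
      by_contra hy
      have : (y : S) ∈ (IsLocalRing.maximalIdeal B).comap g := by
        rw [Ideal.mem_comap, IsLocalRing.mem_maximalIdeal, mem_nonunits_iff]
        exact hy
      rw [hg] at this
      exact y.2 this
    let gq : Localization.AtPrime q →ₐ[R] B := IsLocalization.liftAlgHom (M := q.primeCompl)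
      (f := g) hunits
    let g'q : Localization.AtPrime q →ₐ[R] B' :=
      Algebra.FormallySmooth.liftOfSurjective gq π hπ hnil
    refine ⟨g'q.comp (IsScalarTower.toAlgHom R S (Localization.AtPrime q)), ?_⟩
    rw [← AlgHom.comp_assoc, Algebra.FormallySmooth.comp_liftOfSurjective]
    ext x
    show gq (algebraMap S (Localization.AtPrime q) x) = g x
    rw [IsLocalization.liftAlgHom_apply, IsLocalization.lift_eq]
    rfl
  · intro Hs
    show Algebra.FormallySmooth R (Localization.AtPrime q)
    refine Groth.Agent.Lib.Helper8.LiftCrit.formallySmooth_of_lift_artinian (A := R) (C := S)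
      (B := Localization.AtPrime q) q.primeCompl ?_
    intro C' _ _ _ _ J hJm hJtop u hu
    haveI : IsLocalRing (C' ⧸ J) := Groth.Agent.Lib.Helper8.LiftCrit.isLocalRing_quotient J hJtop
    haveI hloc_u : IsLocalHom u.toRingHom := IsLocalHom.of_surjective _ hu
    haveI hloc_mk : IsLocalHom (Ideal.Quotient.mk J) :=
      IsLocalHom.of_surjective _ Ideal.Quotient.mk_surjective
    let g : S →ₐ[R] C' ⧸ J := u.comp (IsScalarTower.toAlgHom R S (Localization.AtPrime q))
    have hg : ∀ x : S, ¬ IsUnit (g x) ↔ x ∈ q := by
      intro x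
      show ¬ IsUnit (u.toRingHom (algebraMap S (Localization.AtPrime q) x)) ↔ x ∈ q
      rw [isUnit_map_iff u.toRingHom, ← IsLocalization.AtPrime.to_map_mem_maximal_iff
        (Localization.AtPrime q) q x, IsLocalRing.mem_maximalIdeal, mem_nonunits_iff]
    obtain ⟨g', hg'⟩ := Groth.Agent.Lib.Helper8.LiftCrit.lift_of_small_extensions q Hs C' J hJm
      hJtop g hg
    have hunits : ∀ y : q.primeCompl, IsUnit (g' y) := by
      intro y
      have h1 : ¬ ¬ IsUnit (g (y : S)) := fun h => y.2 ((hg y).mp h)
      rw [not_not, ← hg'] at h1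
      exact (isUnit_map_iff (Ideal.Quotient.mk J) _).mp h1
    let v : Localization.AtPrime q →ₐ[R] C' := IsLocalization.liftAlgHom (M := q.primeCompl)
      (f := g') hunits
    refine ⟨v, ?_⟩
    apply AlgHom.coe_ringHom_injective
    apply IsLocalization.ringHom_ext q.primeCompl
    ext x
    show Ideal.Quotient.mk J (v (algebraMap S (Localization.AtPrime q) x)) =
      u (algebraMap S (Localization.AtPrime q) x)
    rw [IsLocalization.liftAlgHom_apply, IsLocalization.lift_eq]
    exact congrArg (fun φ => φ x) hg'


end Groth.Agent.S2060
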