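import Groth.Statements.S2061
import Mathlib
import Groth.Agent.Lib.Helper26.SerreReg
import Groth.Agent.Lib.Helper26.RegularAB

set_option autoImplicit false
universe u
open CategoryTheory
open CAlg

namespace Groth.Agent.S2061

/-- For a Noetherian local ring `R` write `𝔪` for its maximal ideal and `κ` for its residue field. The
projective dimension of `κ` as an `R`-module is at least the `κ`-dimension of `𝔪/𝔪²`: if `κ` has
projective dimension less than `d` then `dim_κ 𝔪/𝔪² < d`. -/
theorem result {R : Type u} [CommRing R] [IsLocalRing R]
    [IsNoetherianRing R] (d : ℕ)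
    (hd : HasProjectiveDimensionLT (ModuleCat.of R (IsLocalRing.ResidueField R)) d) :
    Module.finrank (IsLocalRing.ResidueField R) (IsLocalRing.CotangentSpace R) < d := by
  haveI hreg : IsRegularLocalRing R :=
    Groth.Agent.Lib.Helper26.SerreReg.isRegularLocalRing_of_hasProjectiveDimensionLT_residueField R d hd
  obtain ⟨n, hn⟩ := Groth.Agent.Lib.Helper26.SerreReg.exists_nat_ringKrullDim R
  have hpd := Groth.Agent.Lib.Helper26.RegularAB.projectiveDimension_residueField R hn
  have hfr : (Module.finrank (IsLocalRing.ResidueField R) (IsLocalRing.CotangentSpace R) : WithBot ℕ∞) =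
      ringKrullDim R := (IsRegularLocalRing.iff_finrank_cotangentSpace R).1 hreg
  have hlt : projectiveDimension (ModuleCat.of R (IsLocalRing.ResidueField R)) < d :=
    projectiveDimension_lt_iff.2 hd
  rw [hpd] at hlt
  have h1 : n < d := by exact_mod_cast hlt
  rw [hn] at hfr
  have h2 : Module.finrank (IsLocalRing.ResidueField R) (IsLocalRing.CotangentSpace R) = n := by
    exact_mod_cast hfr
  omega

end Groth.Agent.S2061
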