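import Groth.Statements.S2064
import Mathlib.Algebra.Homology.HomologicalComplex
import Mathlib.Algebra.Homology.ShortComplex.HomologicalComplex
import Mathlib.Algebra.Category.ModuleCat.Abelian
import Mathlib.RingTheory.Noetherian.Basic
import Mathlib.Algebra.Homology.ShortComplex.ModuleCat
import Groth.Agent.Lib.Helper4.Depth

set_option autoImplicit false
universe u
open CategoryTheory
open CAlg

namespace Groth.Agent.S2064

open Groth.Agent.Lib.Helper4

section aux
variable {R : Type u} [CommRing R] [IsLocalRing R] [IsNoetherianRing R]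
  {X Y : Type u} [AddCommGroup X] [Module R X] [Module.Finite R X]
  [AddCommGroup Y] [Module R Y] [Module.Finite R Y]

theorem depth_range_ge (φ : X →ₗ[R] Y) :
    min (LocCoh.depth R X) (LocCoh.depth R (LinearMap.ker φ) - 1) ≤
      LocCoh.depth R (LinearMap.range φ) :=
  (idealDepth_shortExact (IsLocalRing.maximalIdeal R) (LinearMap.ker φ).subtype φ.rangeRestrict
    (Submodule.injective_subtype _) φ.surjective_rangeRestrict
    (by
      intro x
      constructor
      · intro hx
        have hx' : φ x = 0 := by
          have := congrArg Subtype.val hx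
          simpa using this
        exact ⟨⟨x, hx'⟩, rfl⟩
      · rintro ⟨y, rfl⟩
        ext
        simp)).2.1

theorem depth_ker_ge (φ : X →ₗ[R] Y) :
    min (LocCoh.depth R X) (LocCoh.depth R (LinearMap.range φ) + 1) ≤
      LocCoh.depth R (LinearMap.ker φ) :=
  (idealDepth_shortExact (IsLocalRing.maximalIdeal R) (LinearMap.ker φ).subtype φ.rangeRestrict
    (Submodule.injective_subtype _) φ.surjective_rangeRestrict
    (by
      intro x
      constructor
      · intro hx
        have hx' : φ x = 0 := by
          have := congrArg Subtype.val hx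
          simpa using this
        exact ⟨⟨x, hx'⟩, rfl⟩
      · rintro ⟨y, rfl⟩
        ext
        simp)).2.2

theorem depth_quotient_ge (N : Submodule R X) :
    min (LocCoh.depth R X) (LocCoh.depth R N - 1) ≤ LocCoh.depth R (X ⧸ N) :=
  (idealDepth_shortExact (IsLocalRing.maximalIdeal R) N.subtype N.mkQ
    (Submodule.injective_subtype _) (Submodule.mkQ_surjective N)
    (LinearMap.exact_subtype_mkQ N)).2.1

end aux

/-- Let `R` be a Noetherian local ring and `0 → M_e → M_{e-1} → … → M_0` a complex of finite `R`-modules
with `depth(M_j) ≥ j`. If `i > 0` is the largest index at which the complex is not exact, then the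
homology at `M_i` has depth at least one. -/
theorem result {R : Type u} [CommRing R] [IsLocalRing R] [IsNoetherianRing R]
    (C : ChainComplex (ModuleCat.{u} R) ℕ) (e : ℕ) (hzero : ∀ j, e < j → Limits.IsZero (C.X j))
    (hfin : ∀ j, Module.Finite R (C.X j)) (hdepth : ∀ j, j ≤ e → (j : ℕ∞) ≤ LocCoh.depth R (C.X j))
    (i : ℕ) (hi : 0 < i) (hnot : ¬ C.ExactAt i) (habove : ∀ j, i < j → C.ExactAt j) :
    1 ≤ LocCoh.depth R (C.homology i) := by
  obtain ⟨i', rfl⟩ : ∃ i', i = i' + 1 := ⟨i - 1, by omega⟩
  have hsub : ∀ j, e < j → Subsingleton (C.X j) := fun j hj =>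
    ModuleCat.subsingleton_of_isZero (hzero j hj)
  -- depth of X j is at least j in all cases
  have hdepth' : ∀ j : ℕ, ((j : ℕ) : ℕ∞) ≤ LocCoh.depth R (C.X j) := by
    intro j
    by_cases hj : j ≤ e
    · exact hdepth j hj
    · have := hsub j (by omega)
      rw [depth_eq_top_of_subsingleton]
      exact le_top
  have hexact : ∀ j, i' + 1 < j + 1 →
      LinearMap.range (C.d (j + 2) (j + 1)).hom = LinearMap.ker (C.d (j + 1) j).hom := by
    intro j hj
    have := habove (j + 1) hj
    rw [C.exactAt_iff' (j + 2) (j + 1) j (by simp) (by simp)] at this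
    exact (ShortComplex.moduleCat_exact_iff_range_eq_ker _).mp this
  -- Claim A
  have claimA : ∀ k j, i' + 1 ≤ j → e ≤ j + k →
      ((j + 1 : ℕ) : ℕ∞) ≤ LocCoh.depth R (LinearMap.range (C.d (j + 1) j).hom) := by
    intro k
    induction k with
    | zero =>
      intro j _ hej
      have := hsub (j + 1) (by omega)
      have : Subsingleton (LinearMap.range (C.d (j + 1) j).hom) :=
        (C.d (j + 1) j).hom.surjective_rangeRestrict.subsingleton
      rw [depth_eq_top_of_subsingleton]
      exact le_top
    | succ k ih =>
      intro j hij hej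
      have ih' := ih (j + 1) (by omega) (by omega)
      have hker : ((j + 1 + 1 : ℕ) : ℕ∞) ≤ LocCoh.depth R (LinearMap.ker (C.d (j + 1) j).hom) := by
        have heq := hexact j (by omega)
        have := idealDepth_congr (IsLocalRing.maximalIdeal R) (LinearEquiv.ofEq _ _ heq)
        unfold LocCoh.depth at ih' ⊢
        rw [← this]
        exact ih'
      refine le_trans ?_ (depth_range_ge (C.d (j + 1) j).hom)
      refine le_min (hdepth' (j + 1)) ?_
      apply ENat.le_sub_of_add_le_right ENat.one_ne_top
      exact_mod_cast hker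
  -- unfold homology at i'+1
  have hprev : (ComplexShape.down ℕ).prev (i' + 1) = i' + 2 := by simp
  have hnext : (ComplexShape.down ℕ).next (i' + 1) = i' := by simp
  let S := C.sc' (i' + 2) (i' + 1) i'
  have e1 : C.homology (i' + 1) ≅ S.homology :=
    ShortComplex.homologyMapIso (C.isoSc' (i' + 2) (i' + 1) i' hprev hnext)
  have e2 : C.homology (i' + 1) ≅ S.moduleCatLeftHomologyData.H := e1 ≪≫ S.moduleCatHomologyIso
  have hcongr := idealDepth_congr (IsLocalRing.maximalIdeal R) e2.toLinearEquiv
  unfold LocCoh.depth
  rw [hcongr]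
  change 1 ≤ LocCoh.depth R (LinearMap.ker S.g.hom ⧸ LinearMap.range S.moduleCatToCycles)
  have hfinX₂ : Module.Finite R S.X₂ := hfin _
  have hfinX₁ : Module.Finite R S.X₁ := hfin _
  have hfinX₃ : Module.Finite R S.X₃ := hfin _
  refine le_trans ?_ (depth_quotient_ge (LinearMap.range S.moduleCatToCycles))
  refine le_min ?_ ?_
  · -- depth of cycles ≥ 1
    refine le_trans ?_ (depth_ker_ge S.g.hom)
    refine le_min ?_ (by simp)
    have := hdepth' (i' + 1)
    refine le_trans ?_ this
    exact_mod_cast Nat.succ_pos i'
  · -- depth of boundaries ≥ i'+2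
    apply ENat.le_sub_of_add_le_right ENat.one_ne_top
    refine le_trans ?_ (depth_range_ge S.moduleCatToCycles)
    refine le_min ?_ ?_
    · have := hdepth' (i' + 2)
      refine le_trans ?_ this
      calc (1 : ℕ∞) + 1 = ((2 : ℕ) : ℕ∞) := by norm_num
        _ ≤ ((i' + 2 : ℕ) : ℕ∞) := by exact_mod_cast (by omega)
    · apply ENat.le_sub_of_add_le_right ENat.one_ne_top
      have hk : LinearMap.ker S.moduleCatToCycles = LinearMap.ker S.f.hom := by
        ext x
        simp only [LinearMap.mem_ker]
        constructor
        · intro hx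
          have := congrArg Subtype.val hx
          simpa using this
        · intro hx
          ext
          simpa using hx
      have hA := claimA (e + 1) (i' + 2) (by omega) (by omega)
      have heq := hexact (i' + 1) (by omega)
      have h1 := idealDepth_congr (IsLocalRing.maximalIdeal R) (LinearEquiv.ofEq _ _ heq)
      have h2 := idealDepth_congr (IsLocalRing.maximalIdeal R) (LinearEquiv.ofEq _ _ hk)
      unfold LocCoh.depth at hA ⊢
      refine le_trans ?_ (le_of_eq (h2.trans h1.symm).symm)
      refine le_trans ?_ hA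
      calc (1 : ℕ∞) + 1 + 1 = ((3 : ℕ) : ℕ∞) := by norm_num
        _ ≤ ((i' + 2 + 1 : ℕ) : ℕ∞) := by exact_mod_cast (by omega)

end Groth.Agent.S2064
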