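import Groth.Statements.S2071
import Mathlib

set_option autoImplicit false
universe u
open CAlg

namespace Groth.Agent.S2071


namespace H2071

variable {k k' : Type u} [Field k] [Field k'] [Algebra k k']

/-! ### (⇐) -/

lemma pow_eq_one_of_algebraic_bot (p : ℕ) [hp : Fact p.Prime] [CharP k' p] (x : k')
    (hx : IsAlgebraic (⊥ : Subfield k') x) (hx0 : x ≠ 0) : ∃ n : ℕ, 0 < n ∧ x ^ n = 1 := by
  haveI : Finite (⊥ : Subfield k') := by
    letI := ZMod.algebra k' p
    have h1 : ((algebraMap (ZMod p) k').fieldRange : Set k').Finite := by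
      rw [RingHom.coe_fieldRange]; exact Set.finite_range _
    rw [Subfield.bot_eq_of_zMod_algebra p]
    exact h1.to_subtype
  haveI : FiniteDimensional (⊥ : Subfield k')
      (IntermediateField.adjoin (⊥ : Subfield k') {x}) :=
    IntermediateField.adjoin.finiteDimensional hx.isIntegral
  haveI : Finite (IntermediateField.adjoin (⊥ : Subfield k') {x}) :=
    Module.finite_of_finite (↥(⊥ : Subfield k'))
  haveI : Fintype (IntermediateField.adjoin (⊥ : Subfield k') {x}) := Fintype.ofFinite _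
  obtain ⟨x', hx'⟩ : ∃ x' : IntermediateField.adjoin (⊥ : Subfield k') {x}, (x' : k') = x :=
    ⟨⟨x, IntermediateField.mem_adjoin_simple_self _ x⟩, rfl⟩
  have hx'0 : x' ≠ 0 := by rintro rfl; exact hx0 (by rw [← hx']; rfl)
  have h1 := FiniteField.pow_card_sub_one_eq_one x' hx'0
  refine ⟨Fintype.card (IntermediateField.adjoin (⊥ : Subfield k') {x}) - 1, ?_, ?_⟩
  · have := Fintype.one_lt_card (α := IntermediateField.adjoin (⊥ : Subfield k') {x})
    omega
  · have h2 := congrArg (Subtype.val) h1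
    simpa [hx'] using h2

theorem backward (h : Function.Surjective (algebraMap k k') ∨ ∃ p : ℕ, p.Prime ∧ CharP k' p ∧
    (IsPurelyInseparable k k' ∨ Algebra.IsAlgebraic (⊥ : Subfield k') k')) :
    ∀ x : k', ∃ n : ℕ, 0 < n ∧ x ^ n ∈ Set.range (algebraMap k k') := by
  intro x
  rcases h with hs | ⟨p, hp, hchar, hpi | halg⟩
  · obtain ⟨y, rfl⟩ := hs x; exact ⟨1, one_pos, y, (pow_one _).symm⟩
  · haveI := hchar
    haveI : CharP k p :=
      (RingHom.charP_iff (algebraMap k k') (algebraMap k k').injective p).2 hchar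
    haveI : ExpChar k p := ExpChar.prime hp
    haveI := hpi
    obtain ⟨n, y, hy⟩ := IsPurelyInseparable.pow_mem k p x
    exact ⟨p ^ n, pow_pos hp.pos n, y, hy⟩
  · haveI := hchar
    haveI : Fact p.Prime := ⟨hp⟩
    by_cases hx0 : x = 0
    · exact ⟨1, one_pos, 0, by rw [hx0, map_zero, pow_one]⟩
    · obtain ⟨n, hn, h1⟩ := pow_eq_one_of_algebraic_bot p x (halg.isAlgebraic x) hx0
      exact ⟨n, hn, 1, by rw [h1, map_one]⟩

/-! ### (⇒) -/

section fwd

variable (hP : ∀ x : k', ∃ n : ℕ, 0 < n ∧ x ^ n ∈ Set.range (algebraMap k k'))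
include hP

lemma isIntegral_of_hP (x : k') : IsIntegral k x := by
  obtain ⟨n, hn, a, ha⟩ := hP x
  exact IsIntegral.of_pow hn (ha ▸ isIntegral_algebraMap)

variable {Ω : Type u} [Field Ω] [Algebra k Ω] [Algebra k' Ω] [IsScalarTower k k' Ω]

lemma ru_of (σ : k' →ₐ[k] Ω) (y : k') (hy : y ≠ 0) :
    ∃ n : ℕ, 0 < n ∧ (σ y / algebraMap k' Ω y) ^ n = 1 := by
  obtain ⟨n, hn, a, ha⟩ := hP y
  refine ⟨n, hn, ?_⟩
  have h1 : σ y ^ n = algebraMap k' Ω y ^ n := by
    rw [← map_pow, ← map_pow, ← ha, AlgHom.commutes, ← IsScalarTower.algebraMap_apply]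
  have h2 : algebraMap k' Ω y ≠ 0 := (map_ne_zero_iff _ (algebraMap k' Ω).injective).2 hy
  rw [div_pow, h1, div_self (pow_ne_zero n h2)]

lemma zeta_props (σ : k' →ₐ[k] Ω) (x : k') (hx : x ∉ (algebraMap k k').range)
    (hσ : σ x ≠ algebraMap k' Ω x) (c : k) :
    ∃ ζ : Ω, (∃ n : ℕ, 0 < n ∧ ζ ^ n = 1) ∧ ζ ≠ 1 ∧
      σ x + algebraMap k Ω c = ζ * (algebraMap k' Ω x + algebraMap k Ω c) ∧
      algebraMap k' Ω x + algebraMap k Ω c ≠ 0 := by
  have hy0 : x + algebraMap k k' c ≠ 0 := by
    intro h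
    apply hx
    refine ⟨-c, ?_⟩
    rw [map_neg]
    exact (eq_neg_of_add_eq_zero_left h).symm
  have h1 : σ (x + algebraMap k k' c) = σ x + algebraMap k Ω c := by
    rw [map_add, AlgHom.commutes]
  have h2 : algebraMap k' Ω (x + algebraMap k k' c) = algebraMap k' Ω x + algebraMap k Ω c := by
    rw [map_add, ← IsScalarTower.algebraMap_apply]
  have h3 : algebraMap k' Ω (x + algebraMap k k' c) ≠ 0 :=
    (map_ne_zero_iff _ (algebraMap k' Ω).injective).2 hy0
  obtain ⟨n, hn, hru⟩ := ru_of hP σ _ hy0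
  refine ⟨σ (x + algebraMap k k' c) / algebraMap k' Ω (x + algebraMap k k' c), ⟨n, hn, hru⟩,
    ?_, ?_, ?_⟩
  · intro h
    rw [div_eq_one_iff_eq h3, h1, h2] at h
    exact hσ (add_right_cancel h)
  · rw [div_mul_eq_mul_div, ← h2, mul_div_assoc, div_self h3, mul_one, h1]
  · rw [← h2]; exact h3

lemma isAlgebraic_of_ru (P : Type*) [Field P] [Algebra P Ω] {ζ : Ω}
    (h : ∃ n : ℕ, 0 < n ∧ ζ ^ n = 1) : IsAlgebraic P ζ := by
  obtain ⟨n, hn, h1⟩ := h
  exact IsAlgebraic.of_pow hn (h1 ▸ isAlgebraic_one)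

lemma alpha_algebraic (P : Type*) [Field P] [Algebra P Ω] (σ : k' →ₐ[k] Ω) (x : k')
    (hx : x ∉ (algebraMap k k').range) (hσ : σ x ≠ algebraMap k' Ω x) :
    IsAlgebraic P (algebraMap k' Ω x) := by
  obtain ⟨ζ0, hru0, hne0, hrel0, -⟩ := zeta_props hP σ x hx hσ 0
  obtain ⟨ζ1, hru1, hne1, hrel1, -⟩ := zeta_props hP σ x hx hσ 1
  rw [map_zero, add_zero, add_zero] at hrel0
  rw [map_one] at hrel1
  have hne : ζ0 - ζ1 ≠ 0 := by
    intro h
    have h01 : ζ0 = ζ1 := sub_eq_zero.1 h
    apply hne0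
    rw [← h01, hrel0] at hrel1
    have h2 : ζ0 * algebraMap k' Ω x + 1 = ζ0 * algebraMap k' Ω x + ζ0 := by
      rw [hrel1]; ring
    exact (add_left_cancel h2).symm
  have h3 : (ζ0 - ζ1) * algebraMap k' Ω x = ζ1 - 1 := by
    rw [hrel0] at hrel1
    linear_combination hrel1
  have h4 : algebraMap k' Ω x = (ζ1 - 1) * (ζ0 - ζ1)⁻¹ := by
    rw [← h3]; field_simp
  rw [h4]
  exact ((isAlgebraic_of_ru hP P hru1).sub isAlgebraic_one).mul
    ((isAlgebraic_of_ru hP P hru0).sub (isAlgebraic_of_ru hP P hru1)).inv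

variable [IsAlgClosed Ω]

lemma exists_sigma (x : k') (hsep : IsSeparable k x) (hx : x ∉ (algebraMap k k').range) :
    ∃ σ : k' →ₐ[k] Ω, σ x ≠ algebraMap k' Ω x := by
  classical
  have hint := isIntegral_of_hP hP
  obtain ⟨f, hf⟩ : ∃ f, f = minpoly k x := ⟨_, rfl⟩
  have hf0 : f ≠ 0 := hf ▸ minpoly.ne_zero (hint x)
  have hdeg : 2 ≤ f.natDegree := by
    have h1 : 0 < f.natDegree := hf ▸ minpoly.natDegree_pos (hint x)
    have h2 : f.natDegree ≠ 1 := by
      rw [hf]; intro h; exact hx (minpoly.natDegree_eq_one_iff.1 h)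
    omega
  have hsplit : (f.map (algebraMap k Ω)).Splits := IsAlgClosed.splits _
  have hcard : (f.map (algebraMap k Ω)).roots.card = f.natDegree := by
    rw [← Polynomial.natDegree_map (algebraMap k Ω)]
    exact Polynomial.splits_iff_card_roots.1 hsplit
  have hfsep : f.Separable := hf ▸ hsep
  have hnodup : (f.map (algebraMap k Ω)).roots.Nodup :=
    Polynomial.nodup_roots (Polynomial.Separable.map hfsep)
  have hex : ∃ y ∈ (f.map (algebraMap k Ω)).roots, y ≠ algebraMap k' Ω x := by
    by_contra hcon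
    push Not at hcon
    have h1 : (f.map (algebraMap k Ω)).roots.toFinset ⊆ {algebraMap k' Ω x} := by
      intro y hy
      rw [Multiset.mem_toFinset] at hy
      rw [Finset.mem_singleton]; exact hcon y hy
    have h2 := Finset.card_le_card h1
    rw [Multiset.toFinset_card_of_nodup hnodup, hcard, Finset.card_singleton] at h2
    omega
  obtain ⟨y, hy, hyne⟩ := hex
  have hy0 : Polynomial.aeval y (minpoly k x) = 0 := by
    rw [Polynomial.aeval_def, ← hf]
    exact (Polynomial.mem_roots_map hf0).1 hy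
  obtain ⟨σ, hσ⟩ := IntermediateField.exists_algHom_of_splits_of_aeval
    (fun s : k' => ⟨hint s, IsAlgClosed.splits _⟩) hy0
  exact ⟨σ, hσ ▸ hyne⟩

lemma false_of_charZero [CharZero k'] (x : k') (hsep : IsSeparable k x)
    (hx : x ∉ (algebraMap k k').range) (Ω : Type u) [Field Ω] [Algebra k Ω] [Algebra k' Ω]
    [IsScalarTower k k' Ω] [IsAlgClosed Ω] : False := by
  haveI : CharZero Ω := charZero_of_injective_algebraMap (algebraMap k' Ω).injective
  obtain ⟨σ, hσ⟩ := exists_sigma hP (Ω := Ω) x hsep hx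
  have hαalg : IsAlgebraic ℚ (algebraMap k' Ω x) := alpha_algebraic hP ℚ σ x hx hσ
  obtain ⟨ζ0, hru0, -, hrel0, -⟩ := zeta_props hP σ x hx hσ 0
  rw [map_zero, add_zero, add_zero] at hrel0
  have hβalg : IsAlgebraic ℚ (σ x) := by
    rw [hrel0]; exact (isAlgebraic_of_ru hP ℚ hru0).mul hαalg
  obtain ⟨L, hL⟩ : ∃ L : IntermediateField ℚ Ω,
      L = IntermediateField.adjoin ℚ ({algebraMap k' Ω x, σ x} : Set Ω) := ⟨_, rfl⟩
  have hαL : algebraMap k' Ω x ∈ L := hL ▸ IntermediateField.subset_adjoin _ _ (by simp)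
  have hβL : σ x ∈ L := hL ▸ IntermediateField.subset_adjoin _ _ (by simp)
  haveI : FiniteDimensional ℚ L := by
    rw [hL]
    apply IntermediateField.finiteDimensional_adjoin
    intro z hz
    simp only [Set.mem_insert_iff, Set.mem_singleton_iff] at hz
    rcases hz with rfl | rfl
    · exact hαalg.isIntegral
    · exact hβalg.isIntegral
  haveI : NumberField L := NumberField.of_module_finite ℚ L
  have hfin := NumberField.Embeddings.finite_of_norm_le L ℂ 1
  choose ζ hζru hζne hζrel hζden using fun j : ℕ => zeta_props hP σ x hx hσ (j : k)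
  have hζL : ∀ j, ζ j ∈ L := by
    intro j
    have h1 := hζrel j
    have h2 := hζden j
    rw [map_natCast] at h1 h2
    have h3 : ζ j = (σ x + (j : Ω)) / (algebraMap k' Ω x + (j : Ω)) := by
      rw [eq_div_iff h2]; exact h1.symm
    rw [h3]
    exact div_mem (add_mem hβL (natCast_mem L j)) (add_mem hαL (natCast_mem L j))
  have hinj : Function.Injective (fun j : ℕ => (⟨ζ j, hζL j⟩ : L)) := by
    intro i j hij
    have h0 : ζ i = ζ j := congrArg Subtype.val hij
    have h1 := hζrel i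
    have h2 := hζrel j
    rw [map_natCast] at h1 h2
    rw [h0] at h1
    have h3 : (ζ j - 1) * ((i : Ω) - (j : Ω)) = 0 := by linear_combination h2 - h1
    rcases mul_eq_zero.1 h3 with h | h
    · exact absurd (sub_eq_zero.1 h) (hζne j)
    · exact Nat.cast_injective (sub_eq_zero.1 h)
  have hmem : ∀ j : ℕ, (⟨ζ j, hζL j⟩ : L) ∈
      {z : L | IsIntegral ℤ z ∧ ∀ φ : L →+* ℂ, ‖φ z‖ ≤ 1} := by
    intro j
    obtain ⟨n, hn, h1⟩ := hζru j
    have hz : (⟨ζ j, hζL j⟩ : L) ^ n = 1 := Subtype.ext (by simpa using h1)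
    refine ⟨IsIntegral.of_pow hn (hz ▸ isIntegral_one), fun φ => ?_⟩
    have h2 : (φ ⟨ζ j, hζL j⟩) ^ n = 1 := by rw [← map_pow, hz, map_one]
    exact (Complex.norm_eq_one_of_pow_eq_one h2 hn.ne').le
  exact (Set.infinite_of_injective_forall_mem hinj hmem).not_finite hfin

end fwd

theorem forward (hP : ∀ x : k', ∃ n : ℕ, 0 < n ∧ x ^ n ∈ Set.range (algebraMap k k'))
    (hns : ¬ Function.Surjective (algebraMap k k')) :
    ∃ p : ℕ, p.Prime ∧ CharP k' p ∧
      (IsPurelyInseparable k k' ∨ Algebra.IsAlgebraic (⊥ : Subfield k') k') := by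
  have hint := isIntegral_of_hP hP
  rcases CharP.exists' k' with h0 | ⟨p, hp, hchar⟩
  · exfalso
    haveI := h0
    haveI : CharZero k := (algebraMap k k').charZero
    obtain ⟨x, hx⟩ : ∃ x : k', x ∉ (algebraMap k k').range := by
      by_contra hcon
      push Not at hcon
      exact hns (fun x => hcon x)
    have hsep : IsSeparable k x := (minpoly.irreducible (hint x)).separable
    exact false_of_charZero hP x hsep hx (AlgebraicClosure k')
  · refine ⟨p, hp.out, hchar, ?_⟩
    by_cases hpi : IsPurelyInseparable k k'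
    · exact Or.inl hpi
    · right
      rw [isPurelyInseparable_iff] at hpi
      push Not at hpi
      obtain ⟨x₀, hx₀⟩ := hpi
      obtain ⟨hsep₀, hx₀r⟩ := hx₀ (hint x₀)
      -- the prime field acting on the algebraic closure
      have key : ∀ x : k', IsSeparable k x → x ∉ (algebraMap k k').range →
          IsAlgebraic (⊥ : Subfield k') x := by
        intro x hsep hx
        obtain ⟨σ, hσ⟩ := exists_sigma hP (Ω := AlgebraicClosure k') x hsep hx
        have h1 := alpha_algebraic hP (⊥ : Subfield k') σ x hx hσ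
        exact (isAlgebraic_algebraMap_iff (algebraMap k' (AlgebraicClosure k')).injective).1 h1
      have hbase : ∀ c : k, IsAlgebraic (⊥ : Subfield k') (algebraMap k k' c) := by
        intro c
        have h1 : IsSeparable k (x₀ + algebraMap k k' c) :=
          Field.isSeparable_add hsep₀ (isSeparable_algebraMap c)
        have h2 : x₀ + algebraMap k k' c ∉ (algebraMap k k').range := by
          rintro ⟨d, hd⟩
          apply hx₀r
          refine ⟨d - c, ?_⟩
          rw [map_sub, hd]; ring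
        have h3 := key _ h1 h2
        have h4 := key x₀ hsep₀ hx₀r
        have h5 : algebraMap k k' c = (x₀ + algebraMap k k' c) - x₀ := by ring
        rw [h5]
        exact h3.sub h4
      refine ⟨fun z => ?_⟩
      obtain ⟨n, hn, a, ha⟩ := hP z
      exact IsAlgebraic.of_pow hn (ha ▸ hbase a)

theorem main :
    (∀ x : k', ∃ n : ℕ, 0 < n ∧ x ^ n ∈ Set.range (algebraMap k k')) ↔
      Function.Surjective (algebraMap k k') ∨
        ∃ p : ℕ, p.Prime ∧ CharP k' p ∧
          (IsPurelyInseparable k k' ∨ Algebra.IsAlgebraic (⊥ : Subfield k') k') := by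
  constructor
  · intro hP
    by_cases hs : Function.Surjective (algebraMap k k')
    · exact Or.inl hs
    · exact Or.inr (forward hP hs)
  · exact backward

end H2071

/-- For a field extension `k'/k`, every element of `k'` has a positive power in `k` if and only if
either `k' = k`, or the characteristic is a prime `p` and either `k'/k` is purely inseparable or
`k'` is algebraic over its prime field. -/
theorem result {k k' : Type u} [Field k] [Field k'] [Algebra k k'] :
    (∀ x : k', ∃ n : ℕ, 0 < n ∧ x ^ n ∈ Set.range (algebraMap k k')) ↔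
      Function.Surjective (algebraMap k k') ∨
        ∃ p : ℕ, p.Prime ∧ CharP k' p ∧
          (IsPurelyInseparable k k' ∨ Algebra.IsAlgebraic (⊥ : Subfield k') k') := by
  exact H2071.main

end Groth.Agent.S2071
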