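import Groth.Statements.S2073
import Mathlib.RingTheory.NoetherNormalization
import Mathlib.RingTheory.MvPolynomial.Localization
import Mathlib.RingTheory.Localization.Integral
import Mathlib.RingTheory.IsTensorProduct
import Mathlib.RingTheory.FiniteStability
import Mathlib.RingTheory.Localization.BaseChange
import Mathlib.RingTheory.AlgebraicIndependent.Basic

set_option autoImplicit false
universe u

namespace Groth.Agent.S2073

open TensorProduct MvPolynomial

section aux
variable {R S : Type u} [CommRing R] [IsDomain R] [CommRing S] [Algebra R S]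

instance locMod : IsLocalizedModule (nonZeroDivisors R) (TensorProduct.mk R (FractionRing R) S 1) :=
  (isLocalizedModule_iff_isBaseChange (nonZeroDivisors R) (FractionRing R) _).mpr
    (TensorProduct.isBaseChange R S (FractionRing R))

lemma phi_eq_zero {s : S} (h : (1 : FractionRing R) ⊗ₜ[R] s = 0) :
    ∃ r : R, r ≠ 0 ∧ r • s = 0 := by
  have := (IsLocalizedModule.eq_zero_iff (nonZeroDivisors R)
    (TensorProduct.mk R (FractionRing R) S 1) (m := s)).1 h
  obtain ⟨r, hr⟩ := this
  exact ⟨r, nonZeroDivisors.ne_zero r.2, hr⟩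

lemma phi_surj (t : FractionRing R ⊗[R] S) :
    ∃ (r : R) (s : S), r ≠ 0 ∧ r • t = (1 : FractionRing R) ⊗ₜ[R] s := by
  obtain ⟨⟨s, r⟩, h⟩ := IsLocalizedModule.surj (nonZeroDivisors R)
    (TensorProduct.mk R (FractionRing R) S 1) t
  exact ⟨r, s, nonZeroDivisors.ne_zero r.2, h⟩

attribute [local instance] MvPolynomial.algebraMvPolynomial in
lemma exists_smul_integral {d : ℕ} (y : Fin d → S)
    (g' : MvPolynomial (Fin d) (FractionRing R) →ₐ[FractionRing R] FractionRing R ⊗[R] S)
    (hg' : ∀ i, g' (X i) = (1 : FractionRing R) ⊗ₜ[R] y i) (gint : g'.IsIntegral) (s : S) :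
    ∃ c : R, c ≠ 0 ∧ IsIntegral (Algebra.adjoin R (Set.range y)) (c • s) := by
  classical
  set K := FractionRing R
  set T := K ⊗[R] S
  let P := MvPolynomial (Fin d) R
  let PK := MvPolynomial (Fin d) K
  let φ : S →ₐ[R] T := Algebra.TensorProduct.includeRight
  have hφ : ∀ s, φ s = (1 : K) ⊗ₜ[R] s := fun s => rfl
  letI : Algebra PK T := g'.toRingHom.toAlgebra
  letI : Algebra P T := (g'.toRingHom.comp (algebraMap P PK)).toAlgebra
  haveI : IsScalarTower P PK T := IsScalarTower.of_algebraMap_eq (fun _ => rfl)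
  have hx : IsIntegral PK (φ s) := gint (φ s)
  obtain ⟨⟨m, r0, hr0, rfl⟩, hm⟩ := IsIntegral.exists_multiple_integral_of_isLocalization
    ((nonZeroDivisors R).map (C (σ := Fin d))) (φ s) hx
  -- the algebra map P → T is φ ∘ aeval y
  have hPT : (algebraMap P T) = (φ.toRingHom.comp (aeval y : P →ₐ[R] S).toRingHom) := by
    change g'.toRingHom.comp (MvPolynomial.map (algebraMap R K)) = _
    refine MvPolynomial.ringHom_ext (fun r => ?_) (fun i => ?_)
    · simp only [RingHom.comp_apply, map_C, AlgHom.toRingHom_eq_coe, RingHom.coe_coe,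
        MvPolynomial.aeval_C]
      rw [← MvPolynomial.algebraMap_eq, AlgHom.commutes, AlgHom.commutes,
        ← IsScalarTower.algebraMap_apply]
    · simp only [RingHom.comp_apply, map_X, AlgHom.toRingHom_eq_coe, RingHom.coe_coe,
        MvPolynomial.aeval_X, hg']
      rfl
  obtain ⟨Q, hQm, hQ⟩ := hm
  have hsm : (⟨C r0, r0, hr0, rfl⟩ : (nonZeroDivisors R).map (C (σ := Fin d))) • φ s
      = φ (r0 • s) := by
    rw [Submonoid.smul_def, Algebra.smul_def, hPT]
    simp only [RingHom.comp_apply, AlgHom.toRingHom_eq_coe, RingHom.coe_coe, MvPolynomial.aeval_C]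
    rw [← map_mul, Algebra.smul_def]
  rw [hsm, hPT] at hQ
  set f : P →+* S := (aeval y : P →ₐ[R] S).toRingHom with hf
  have hE : φ (Polynomial.eval₂ f (r0 • s) Q) = 0 := by
    have := Polynomial.hom_eval₂ Q f φ.toRingHom (r0 • s)
    exact this.trans hQ
  obtain ⟨r', hr'0, hr'⟩ := phi_eq_zero ((hφ _).symm.trans hE)
  have hfC : ∀ r : R, f (C r) = algebraMap R S r := fun r => MvPolynomial.aeval_C y r
  refine ⟨r' * r0, mul_ne_zero hr'0 (nonZeroDivisors.ne_zero hr0), ?_⟩
  -- the monic polynomial
  set Q2 : Polynomial P := Q * Polynomial.X with hQ2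
  have hQ2m : Q2.Monic := hQm.mul Polynomial.monic_X
  have hQ2d : Q2.natDegree = Q.natDegree + 1 := by
    rw [hQ2, hQm.natDegree_mul Polynomial.monic_X, Polynomial.natDegree_X]
  have hroot : Polynomial.eval₂ f ((r' * r0) • s) (Polynomial.scaleRoots Q2 (C r')) = 0 := by
    have h1 : (r' * r0) • s = f (C r') * (r0 • s) := by
      rw [hfC, mul_smul, Algebra.smul_def]
    rw [h1, Polynomial.scaleRoots_eval₂_mul, hQ2d, hQ2, Polynomial.eval₂_mul, Polynomial.eval₂_X,
      pow_succ]
    have h2 : f (C r') * Polynomial.eval₂ f (r0 • s) Q = 0 := by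
      rw [hfC, ← Algebra.smul_def]; exact hr'
    calc f (C r') ^ Q.natDegree * f (C r') * (Polynomial.eval₂ f (r0 • s) Q * (r0 • s))
        = f (C r') ^ Q.natDegree * (r0 • s) * (f (C r') * Polynomial.eval₂ f (r0 • s) Q) := by ring
      _ = 0 := by rw [h2, mul_zero]
  -- factor f through the adjoin
  have hrange : ∀ p : P, f p ∈ Algebra.adjoin R (Set.range y) := by
    intro p
    rw [Algebra.adjoin_range_eq_range_aeval]
    exact ⟨p, rfl⟩
  let f₀ : P →+* Algebra.adjoin R (Set.range y) := f.codRestrict _ hrange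
  refine ⟨(Polynomial.scaleRoots Q2 (C r')).map f₀, ((Polynomial.monic_scaleRoots_iff _).2 hQ2m).map _, ?_⟩
  rw [Polynomial.eval₂_map]
  exact hroot

end aux

/-- Let `R` be a domain and `R → S` an injective ring map of finite type. Then there are elements `y_1,
…, y_d` of `S` algebraically independent over `R`, a finitely generated `R`-subalgebra `S'` of `S`
containing them and integral over `R[y_1, …, y_d]`, and a nonzero `f ∈ R` such that every element of
`S` lands in `S'` after multiplication by a power of `f`. -/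
theorem result {R S : Type u} [CommRing R] [IsDomain R] [CommRing S] [Algebra R S]
    [Algebra.FiniteType R S] (hinj : Function.Injective (algebraMap R S)) :
    ∃ (d : ℕ) (y : Fin d → S) (S' : Subalgebra R S), AlgebraicIndependent R y ∧ (∀ i, y i ∈ S') ∧ S'.FG ∧
      (∀ s ∈ S', IsIntegral (Algebra.adjoin R (Set.range y)) s) ∧
      ∃ f : R, f ≠ 0 ∧ ∀ s : S, ∃ n : ℕ, (f ^ n) • s ∈ S' := by
  classical
  set K := FractionRing R
  set T := K ⊗[R] S
  let φ : S →ₐ[R] T := Algebra.TensorProduct.includeRight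
  have hφ : ∀ s, φ s = (1 : K) ⊗ₜ[R] s := fun s => rfl
  haveI : Nontrivial T := by
    refine ⟨⟨φ 1, 0, fun h => ?_⟩⟩
    obtain ⟨r, hr0, hr⟩ := phi_eq_zero ((hφ 1).symm.trans h)
    apply hr0; apply hinj; rw [map_zero, Algebra.algebraMap_eq_smul_one]; exact hr
  obtain ⟨d, g, ginj, gint⟩ := exists_integral_inj_algHom_of_fg K T
  have hch : ∀ i, ∃ (r : R) (s : S), r ≠ 0 ∧ r • g (X i) = (1 : K) ⊗ₜ[R] s := fun i => phi_surj _
  choose r y hr0 hy using hch
  have hrK : ∀ i, algebraMap R K (r i) ≠ 0 := fun i =>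
    (map_ne_zero_iff _ (IsFractionRing.injective R K)).2 (hr0 i)
  let σ : MvPolynomial (Fin d) K →ₐ[K] MvPolynomial (Fin d) K :=
    aeval fun i => C (algebraMap R K (r i)) * X i
  let τ : MvPolynomial (Fin d) K →ₐ[K] MvPolynomial (Fin d) K :=
    aeval fun i => C (algebraMap R K (r i))⁻¹ * X i
  have hστ : σ.comp τ = AlgHom.id _ _ := by
    refine MvPolynomial.algHom_ext fun i => ?_
    simp only [σ, τ, AlgHom.comp_apply, aeval_X, map_mul, MvPolynomial.aeval_C, AlgHom.id_apply]
    rw [MvPolynomial.algebraMap_eq, ← mul_assoc, ← C_mul, inv_mul_cancel₀ (hrK i), C_1, one_mul]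
  have hτσ : τ.comp σ = AlgHom.id _ _ := by
    refine MvPolynomial.algHom_ext fun i => ?_
    simp only [σ, τ, AlgHom.comp_apply, aeval_X, map_mul, MvPolynomial.aeval_C, AlgHom.id_apply]
    rw [MvPolynomial.algebraMap_eq, ← mul_assoc, ← C_mul, mul_inv_cancel₀ (hrK i), C_1, one_mul]
  have hσinj : Function.Injective σ := by
    intro a b hab
    have := congrArg τ hab
    rwa [← AlgHom.comp_apply, ← AlgHom.comp_apply, hτσ] at this
  have hσsurj : Function.Surjective σ := fun a => ⟨τ a, by
    rw [← AlgHom.comp_apply, hστ]; rfl⟩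
  let g' := g.comp σ
  have hg'X : ∀ i, g' (X i) = (1 : K) ⊗ₜ[R] y i := by
    intro i
    rw [← hy i]
    simp only [g', σ, AlgHom.comp_apply, aeval_X, map_mul]
    rw [← MvPolynomial.algebraMap_eq, AlgHom.commutes, ← IsScalarTower.algebraMap_apply,
      ← Algebra.smul_def]
  have hg'inj : Function.Injective g' := ginj.comp hσinj
  have hg'int : g'.IsIntegral :=
    RingHom.IsIntegral.trans _ _ (RingHom.isIntegral_of_surjective _ hσsurj) gint
  -- algebraic independence
  have hai : AlgebraicIndependent R y := by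
    have h1 : AlgebraicIndependent K (φ ∘ y) := by
      rw [algebraicIndependent_iff_injective_aeval]
      have : (aeval (φ ∘ y) : MvPolynomial (Fin d) K →ₐ[K] T) = g' := by
        refine MvPolynomial.algHom_ext fun i => ?_
        rw [aeval_X, hg'X]; rfl
      rw [this]; exact hg'inj
    have h2 : AlgebraicIndependent R (φ ∘ y) :=
      h1.restrictScalars (IsFractionRing.injective R K)
    exact AlgebraicIndependent.of_comp φ h2
  -- integrality
  have hint : ∀ s : S, ∃ c : R, c ≠ 0 ∧ IsIntegral (Algebra.adjoin R (Set.range y)) (c • s) :=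
    fun s => exists_smul_integral y g' hg'X hg'int s
  choose c hc0 hc using hint
  obtain ⟨t, ht⟩ := (Algebra.FiniteType.out : (⊤ : Subalgebra R S).FG)
  set f : R := ∏ s ∈ t, c s with hf
  have hf0 : f ≠ 0 := Finset.prod_ne_zero_iff.2 fun s _ => hc0 s
  have hfint : ∀ s ∈ t, IsIntegral (Algebra.adjoin R (Set.range y)) (f • s) := by
    intro s hs
    have : f • s = (∏ s' ∈ t.erase s, c s') • (c s • s) := by
      rw [hf, ← Finset.prod_erase_mul t c hs, mul_smul]
    rw [this]
    exact (hc s).smul _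
  refine ⟨d, y, Algebra.adjoin R (Set.range y ∪ (fun s => f • s) '' (t : Set S)), hai,
    fun i => Algebra.subset_adjoin (Or.inl ⟨i, rfl⟩), ?_, ?_, f, hf0, ?_⟩
  · refine ⟨Finset.univ.image y ∪ t.image (fun s => f • s), ?_⟩
    congr 1
    simp
  · intro s hs
    have hle : Algebra.adjoin R (Set.range y ∪ (fun s => f • s) '' (t : Set S)) ≤
        (integralClosure (Algebra.adjoin R (Set.range y)) S).restrictScalars R := by
      refine Algebra.adjoin_le ?_
      rintro x (⟨i, rfl⟩ | ⟨s, hs, rfl⟩)
      · exact (isIntegral_algebraMap (R := Algebra.adjoin R (Set.range y))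
          (x := ⟨y i, Algebra.subset_adjoin ⟨i, rfl⟩⟩))
      · exact hfint s hs
    exact hle hs
  · intro s
    have hs : s ∈ Algebra.adjoin R (t : Set S) := by rw [ht]; trivial
    induction hs using Algebra.adjoin_induction with
    | mem x hx =>
      exact ⟨1, by rw [pow_one]; exact Algebra.subset_adjoin (Or.inr ⟨x, hx, rfl⟩)⟩
    | algebraMap a =>
      exact ⟨0, by rw [pow_zero, one_smul]; exact Subalgebra.algebraMap_mem _ a⟩
    | add a b _ _ ha hb =>
      obtain ⟨n, hn⟩ := ha
      obtain ⟨m, hm⟩ := hb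
      refine ⟨n + m, ?_⟩
      rw [smul_add]
      refine add_mem ?_ ?_
      · rw [pow_add, mul_comm, mul_smul]; exact Subalgebra.smul_mem _ hn _
      · rw [pow_add, mul_smul]; exact Subalgebra.smul_mem _ hm _
    | mul a b _ _ ha hb =>
      obtain ⟨n, hn⟩ := ha
      obtain ⟨m, hm⟩ := hb
      refine ⟨n + m, ?_⟩
      have : f ^ (n + m) • (a * b) = (f ^ n • a) * (f ^ m • b) := by
        rw [pow_add, mul_smul, smul_mul_smul_comm, mul_smul]
      rw [this]
      exact mul_mem hn hm

end Groth.Agent.S2073
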