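import Groth.Statements.S2077
-- import your own Groth.Agent.* helpers here
import Mathlib
import Groth.Agent.Lib.Helper12.ApproxHom
import Groth.Agent.Lib.Helper12.ApproxOver
import Groth.Agent.Lib.Helper12.FpLimit
import Groth.Agent.Lib.Helper12.OpensSys
import Groth.Agent.Lib.Helper12.UpSet
import Groth.Agent.Lib.Helper12.LimCIStage
import Groth.Agent.S0590

set_option autoImplicit false
universe u
open CategoryTheory AlgebraicGeometry
open Lim

namespace Groth.Agent.S2077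
open Limits TopologicalSpace Opposite Groth.Agent.Lib.Helper12.FpLimit
  Groth.Agent.Lib.Helper12.OpensSys Groth.Agent.Lib.Helper12.UpSet
  Groth.Agent.Lib.Helper12.LimCIStage Groth.Agent.Lib.Helper12.ApproxHom
  Groth.Agent.Lib.Helper12.ApproxOver

set_option backward.isDefEq.respectTransparency false
set_option linter.style.haveILetI false

/-- A compact subset of an open of a scheme is contained in a compact open contained in the
given open. -/
lemma exists_compact_open_between {P : Scheme.{u}} (K : Set P) (hK : IsCompact K) (O : P.Opens)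
    (hKO : K ⊆ O) : ∃ W : P.Opens, IsCompact (W : Set P) ∧ K ⊆ W ∧ W ≤ O := by
  obtain ⟨t, ht⟩ := hK.elim_finite_subcover
    (fun U : {U : P.affineOpens // U.1 ≤ O} => (U.1.1 : Set P))
    (fun U => U.1.1.2) (fun x hx => by
      obtain ⟨U, hU, hxU, hUO⟩ := Opens.isBasis_iff_nbhd.mp P.isBasis_affineOpens
        (show x ∈ O from hKO hx)
      exact Set.mem_iUnion.mpr ⟨⟨⟨U, hU⟩, hUO⟩, hxU⟩)
  refine ⟨⨆ U ∈ t, U.1.1, ?_, ?_, ?_⟩
  · have : ((⨆ U ∈ t, U.1.1 : P.Opens) : Set P) = ⋃ U ∈ t, (U.1.1 : Set P) := by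
      simp
    rw [this]
    exact t.isCompact_biUnion (fun U _ => U.1.2.isCompact)
  · intro x hx
    have := ht hx
    simpa using this
  · exact iSup₂_le fun U _ => U.2

/-- Let `f : X → S` be locally of finite type with `X` quasi-compact and quasi-separated. Then there are
a morphism `f' : X' → S` of finite presentation (locally of finite presentation, quasi-compact,
quasi-separated) and an immersion `X → X'` over `S`. -/
theorem result {X S : Scheme.{u}} (f : X ⟶ S) [LocallyOfFiniteType f]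
    [CompactSpace X] [QuasiSeparatedSpace X] :
    ∃ (X' : Scheme.{u}) (f' : X' ⟶ S) (j : X ⟶ X'), LocallyOfFinitePresentation f' ∧ QuasiCompact f' ∧
      QuasiSeparated f' ∧ IsImmersion j ∧ j ≫ f' = f := by
  classical
  obtain ⟨A, iA1, iA2, iA3, D, c₀, hc₀, haff, hft, ⟨eX⟩⟩ := Groth.Agent.S0590.result X
  let c : Cone D := c₀.extend eX.inv
  have hc : IsLimit c := IsLimit.extendIso eX.inv hc₀
  haveI : ∀ {i j : Aᵒᵖ} (a : i ⟶ j), IsAffineHom (D.map a) := fun a => haff _ _ a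
  -- the system `S ×_ℤ X_a`
  let Z : Scheme.{u} := Spec (.of (ULift.{u} ℤ))
  let fS : S ⟶ Z := specULiftZIsTerminal.from S
  let τ : D ⟶ (Functor.const Aᵒᵖ).obj Z := toZ D
  let σ : c.pt ⟶ Z := specULiftZIsTerminal.from X
  have hσ : ∀ a, c.π.app a ≫ τ.app a = σ := fun a => specULiftZIsTerminal.hom_ext _ _
  have hlimP : IsLimit (fbCone fS c σ hσ) := isLimitFbCone fS c hc σ hσ
  -- the graph of `f`
  let g : X ⟶ pullback fS σ := pullback.lift f (𝟙 X) (specULiftZIsTerminal.hom_ext _ _)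
  have hg1 : g ≫ pullback.fst fS σ = f := pullback.lift_fst _ _ _
  have hg2 : g ≫ pullback.snd fS σ = 𝟙 X := pullback.lift_snd _ _ _
  haveI : IsImmersion (g ≫ pullback.snd fS σ) := by rw [hg2]; infer_instance
  haveI : IsImmersion g := IsImmersion.of_comp g (pullback.snd fS σ)
  -- a quasi-compact open in which the graph is closed
  obtain ⟨W, hWc, hgW, hWC⟩ := exists_compact_open_between (Set.range g)
    (isCompact_range g.continuous) g.coborderRange (by
      rintro _ ⟨x, rfl⟩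
      have : g x = g.coborderRange.ι (g.liftCoborder x) := by
        rw [← Scheme.Hom.comp_apply, Scheme.Hom.liftCoborder_ι]
      rw [this]
      exact (g.liftCoborder x).2)
  let h : X ⟶ (W : Scheme.{u}) := IsOpenImmersion.lift W.ι g (by
    rw [Scheme.Opens.range_ι]; exact hgW)
  have hhι : h ≫ W.ι = g := IsOpenImmersion.lift_fac _ _ _
  haveI : IsClosedImmersion h := by
    have e : h ≫ (pullback fS σ).homOfLE hWC = g.liftCoborder := by
      rw [← cancel_mono g.coborderRange.ι, Category.assoc, Scheme.homOfLE_ι, hhι,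
        Scheme.Hom.liftCoborder_ι]
    haveI : IsClosedImmersion (h ≫ (pullback fS σ).homOfLE hWC) := by rw [e]; infer_instance
    exact IsClosedImmersion.of_comp h ((pullback fS σ).homOfLE hWC)
  -- descend `W` to a stage
  obtain ⟨a₀, W₀, hW₀c, hW₀⟩ := exists_preimage_eq (fbDiagram D τ fS) (fbCone fS c σ hσ) hlimP W hWc
  let F : (Up a₀.unop)ᵒᵖ ⥤ Aᵒᵖ := upFunctor a₀.unop
  let 𝔇₁ : (Up a₀.unop)ᵒᵖ ⥤ Scheme.{u} := F ⋙ fbDiagram D τ fS
  let c₁ : Cone 𝔇₁ := (fbCone fS c σ hσ).whisker F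
  have hc₁ : IsLimit c₁ := (Functor.Initial.isLimitWhiskerEquiv F (fbCone fS c σ hσ)).symm hlimP
  haveI : ∀ {k k' : (Up a₀.unop)ᵒᵖ} (m : k ⟶ k'), IsAffineHom (𝔇₁.map m) := fun m =>
    inferInstanceAs (IsAffineHom ((fbDiagram D τ fS).map _))
  let Wf : ∀ k : (Up a₀.unop)ᵒᵖ, (𝔇₁.obj k).Opens := fun k =>
    ((fbDiagram D τ fS).map (homOfLE k.unop.2).op) ⁻¹ᵁ W₀
  have hWf : ∀ {k k' : (Up a₀.unop)ᵒᵖ} (m : k ⟶ k'), (𝔇₁.map m) ⁻¹ᵁ (Wf k') = Wf k := by
    intro k k' m
    show ((fbDiagram D τ fS).map (F.map m)) ⁻¹ᵁ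
      (((fbDiagram D τ fS).map (homOfLE k'.unop.2).op) ⁻¹ᵁ W₀) =
      ((fbDiagram D τ fS).map (homOfLE k.unop.2).op) ⁻¹ᵁ W₀
    rw [← Scheme.Hom.comp_preimage, ← (fbDiagram D τ fS).map_comp]
    rfl
  have hWU : ∀ k, (c₁.π.app k) ⁻¹ᵁ (Wf k) = W := by
    intro k
    show ((fbCone fS c σ hσ).π.app (F.obj k)) ⁻¹ᵁ
      (((fbDiagram D τ fS).map (homOfLE k.unop.2).op) ⁻¹ᵁ W₀) = W
    rw [← Scheme.Hom.comp_preimage, (fbCone fS c σ hσ).w]
    exact hW₀
  haveI : IsConnected (Up a₀.unop)ᵒᵖ := IsCofiltered.isConnected _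
  have hlimW : IsLimit (opensC 𝔇₁ Wf hWf c₁ W hWU) := isLimitOpensC 𝔇₁ Wf hWf c₁ W hWU hc₁
  haveI : ∀ k, CompactSpace ((opensD 𝔇₁ Wf hWf).obj k) := fun k => by
    show CompactSpace ↥(Wf k : Scheme.{u})
    exact isCompact_iff_compactSpace.mp
      (QuasiCompact.isCompact_preimage (f := (fbDiagram D τ fS).map (homOfLE k.unop.2).op) _
        W₀.2 hW₀c)
  -- closed immersion into a stage
  let k₀ : (Up a₀.unop)ᵒᵖ := op ⟨a₀.unop, le_rfl⟩
  let t : ∀ k, (opensD 𝔇₁ Wf hWf).obj k ⟶ S := fun k =>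
    (Wf k).ι ≫ pullback.fst fS (τ.app (F.obj k))
  have ht : ∀ {k k' : (Up a₀.unop)ᵒᵖ} (m : k ⟶ k'), (opensD 𝔇₁ Wf hWf).map m ≫ t k' = t k := by
    intro k k' m
    show (𝔇₁.map m).resLE (Wf k') (Wf k) _ ≫ (Wf k').ι ≫ pullback.fst fS (τ.app (F.obj k')) =
      (Wf k).ι ≫ pullback.fst fS (τ.app (F.obj k))
    rw [Scheme.Hom.resLE_comp_ι_assoc]
    congr 1
    exact fbDiagram_map_fst D τ fS (F.map m)
  have hcomp : ∀ k, h ≫ (opensC 𝔇₁ Wf hWf c₁ W hWU).π.app k ≫ t k = f := by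
    intro k
    show h ≫ (c₁.π.app k).resLE (Wf k) W _ ≫ (Wf k).ι ≫ pullback.fst fS (τ.app (F.obj k)) = f
    rw [Scheme.Hom.resLE_comp_ι_assoc, reassoc_of% hhι]
    show g ≫ (fbCone fS c σ hσ).π.app (F.obj k) ≫ pullback.fst fS (τ.app (F.obj k)) = f
    rw [fbCone_π_fst, hg1]
  haveI : LocallyOfFiniteType (h ≫ (opensC 𝔇₁ Wf hWf c₁ W hWU).π.app k₀ ≫ t k₀) := by
    rw [hcomp]; infer_instance
  obtain ⟨k, hk⟩ := exists_isClosedImmersion_stage (opensD 𝔇₁ Wf hWf)
    (opensC 𝔇₁ Wf hWf c₁ W hWU) hlimW S t ht h k₀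
  -- conclusion
  haveI := (hft (F.obj k)).1
  haveI := (hft (F.obj k)).2
  haveI : QuasiSeparatedSpace (D.obj (F.obj k)) :=
    Groth.Agent.Lib.Helper12.ApproxWrap.quasiSeparatedSpace_of_lft
  let q : D.obj (F.obj k) ⟶ Z := specULiftZIsTerminal.from (D.obj (F.obj k))
  haveI : LocallyOfFinitePresentation q := by
    haveI : LocallyOfFiniteType (specULiftZIsTerminal.from Z) := by
      rw [show specULiftZIsTerminal.from Z = 𝟙 Z from specULiftZIsTerminal.hom_ext _ _]
      infer_instance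
    exact lfp_of_lft_int _
  haveI : QuasiCompact q := inferInstance
  haveI : QuasiSeparated q := inferInstance
  have i1 : LocallyOfFinitePresentation (pullback.fst fS q) := inferInstance
  have i2 : QuasiCompact (pullback.fst fS q) := inferInstance
  have i3 : QuasiSeparated (pullback.fst fS q) := inferInstance
  refine ⟨pullback fS (τ.app (F.obj k)), pullback.fst fS (τ.app (F.obj k)),
    (h ≫ (opensC 𝔇₁ Wf hWf c₁ W hWU).π.app k) ≫ (Wf k).ι, i1, i2, i3, inferInstance, ?_⟩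
  rw [Category.assoc, Category.assoc]
  exact hcomp k

end Groth.Agent.S2077
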