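import Groth.Statements.S2078
-- import your own Groth.Agent.* helpers here
import Mathlib
import Groth.Agent.Lib.Helper12.ApproxOver
import Groth.Agent.S2076

set_option autoImplicit false
universe u
open CategoryTheory AlgebraicGeometry
open Lim

namespace Groth.Agent.S2078
open Limits TopologicalSpace Opposite Groth.Agent.Lib.Helper12.ApproxOver

set_option backward.isDefEq.respectTransparency false
set_option linter.style.haveILetI false

/-- Let `f : X → S` be locally of finite type with `X` quasi-compact and quasi-separated and `S`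
quasi-separated. Then there are a morphism `f' : X' → S` of finite presentation and a closed
immersion `X → X'` over `S`. -/
theorem result {X S : Scheme.{u}} (f : X ⟶ S) [LocallyOfFiniteType f]
    [CompactSpace X] [QuasiSeparatedSpace X] [QuasiSeparatedSpace S] :
    ∃ (X' : Scheme.{u}) (f' : X' ⟶ S) (j : X ⟶ X'), LocallyOfFinitePresentation f' ∧ QuasiCompact f' ∧
      QuasiSeparated f' ∧ IsClosedImmersion j ∧ j ≫ f' = f := by
  classical
  obtain ⟨I, iI1, iI2, iI3, D, π, hlim, hlim', hD, haff⟩ := exists_approx_over f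
  haveI : ∀ (i j : Iᵒᵖ) (a : i ⟶ j), IsAffineHom (D.map a).left := haff
  haveI : ∀ i, CompactSpace (D.obj i).left := fun i => (hD i).2.2.2.1
  let c : Cone D := { pt := Over.mk f, π := π }
  haveI : IsClosedImmersion (𝟙 X) := inferInstance
  haveI : LocallyOfFiniteType ((𝟙 X : X ⟶ c.pt.left) ≫ c.pt.hom) := by
    show LocallyOfFiniteType (𝟙 X ≫ f)
    rw [Category.id_comp]; infer_instance
  obtain ⟨i, hi⟩ := Groth.Agent.S2076.result S D c hlim (𝟙 X : X ⟶ c.pt.left)
  refine ⟨(D.obj i).left, (D.obj i).hom, (𝟙 X : X ⟶ c.pt.left) ≫ (c.π.app i).left, (hD i).1,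
    (hD i).2.1, (hD i).2.2.1, hi, ?_⟩
  rw [Category.assoc, Over.w]
  exact Category.id_comp f

end Groth.Agent.S2078
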