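import Groth.Statements.S2088
import Mathlib
import Groth.Agent.Lib.Helper7.ResExtTower

set_option autoImplicit false
universe u
open CAlg

namespace Groth.Agent.S2088

/-- Let `(R, 𝔪, k)` be a local ring and `K/k` a field extension. Then there is a flat local homomorphism
of local rings `R → R'` with `𝔪R' = 𝔪_{R'}` whose residue field is isomorphic to `K` over `k`. -/
theorem result {R K : Type u} [CommRing R] [IsLocalRing R] [Field K]
    [Algebra (IsLocalRing.ResidueField R) K] :
    ∃ (R' : Type u) (_ : CommRing R') (_ : IsLocalRing R') (_ : Algebra R R') (_ : IsLocalHom (algebraMap R R')),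
      Module.Flat R R' ∧ (IsLocalRing.maximalIdeal R).map (algebraMap R R') = IsLocalRing.maximalIdeal R' ∧
      Nonempty (IsLocalRing.ResidueField R' ≃ₐ[IsLocalRing.ResidueField R] K) := by
  classical
  let φ₀ : R →+* K := (algebraMap (IsLocalRing.ResidueField R) K).comp (IsLocalRing.residue R)
  haveI : IsLocalHom φ₀ := by
    refine ⟨fun a ha => ?_⟩
    have h1 : IsLocalRing.residue R a ≠ 0 := by
      intro h0
      have h2 : φ₀ a = 0 := by
        show algebraMap _ K (IsLocalRing.residue R a) = 0
        rw [h0, map_zero]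
      rw [h2] at ha
      exact not_isUnit_zero ha
    by_contra hnu
    exact h1 ((IsLocalRing.residue_eq_zero_iff a).mpr ((IsLocalRing.mem_maximalIdeal a).mpr hnu))
  obtain ⟨B, hBring, hBloc, ψ, φ, hφ, hcomp, hflat, hmax, hsurj, hN⟩ :=
    Groth.Agent.Lib.Helper7.ResExt.exists_ext φ₀
  letI := hBring
  haveI := hBloc
  haveI := hφ
  have hψφ : ∀ a : R, φ (ψ a) = φ₀ a := fun a => congrArg (fun g : R →+* K => g a) hcomp
  letI : Algebra R B := ψ.toAlgebra
  have hlh : IsLocalHom (algebraMap R B) := by
    refine ⟨fun a ha => ?_⟩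
    have h1 : IsUnit (φ (ψ a)) := IsUnit.map φ ha
    rw [hψφ] at h1
    exact isUnit_of_map_unit φ₀ a h1
  haveI := hlh
  refine ⟨B, hBring, hBloc, ψ.toAlgebra, hlh, hflat, hmax, ⟨?_⟩⟩
  let g : IsLocalRing.ResidueField B →+* K := IsLocalRing.ResidueField.lift φ
  have hg : ∀ b : B, g (IsLocalRing.residue B b) = φ b :=
    fun b => IsLocalRing.ResidueField.lift_residue_apply φ b
  let gA : IsLocalRing.ResidueField B →ₐ[IsLocalRing.ResidueField R] K :=
    { g with
      commutes' := by
        intro r
        obtain ⟨r, rfl⟩ := IsLocalRing.residue_surjective r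
        show g (algebraMap (IsLocalRing.ResidueField R) (IsLocalRing.ResidueField B)
          (IsLocalRing.residue R r)) = _
        rw [IsLocalRing.ResidueField.algebraMap_residue, hg]
        exact hψφ r }
  refine AlgEquiv.ofBijective gA ⟨g.injective, fun k => ?_⟩
  obtain ⟨b, rfl⟩ := hsurj k
  exact ⟨IsLocalRing.residue B b, hg b⟩

end Groth.Agent.S2088
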