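import Groth.Statements.S2090
import Mathlib


set_option autoImplicit false
universe u
open CAlg

namespace Groth.Agent.S2090

theorem depth_two_q {A : Type*} [CommRing A] [IsLocalRing A] {L : Type*} [AddCommGroup L] [Module A L]
    (h2 : 2 ≤ LocCoh.depth A L) :
    (IsLocalRing.maximalIdeal A • (⊤ : Submodule A L) = ⊤) ∨
    ∃ x ∈ IsLocalRing.maximalIdeal A, ∃ y ∈ IsLocalRing.maximalIdeal A,
      IsSMulRegular L x ∧ IsSMulRegular (QuotSMulTop x L) y := by
  classical
  by_cases htop : IsLocalRing.maximalIdeal A • (⊤ : Submodule A L) = ⊤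
  · exact Or.inl htop
  · right
    unfold LocCoh.depth LocCoh.idealDepth at h2
    rw [if_neg htop] at h2
    have h1 : (1 : ℕ∞) < ⨆ (rs : List A) (_ : RingTheory.Sequence.IsWeaklyRegular L rs ∧
        ∀ r ∈ rs, r ∈ IsLocalRing.maximalIdeal A), (rs.length : ℕ∞) :=
      lt_of_lt_of_le (by exact_mod_cast Nat.one_lt_two) h2
    rw [lt_iSup_iff] at h1
    obtain ⟨rs, h1⟩ := h1
    rw [lt_iSup_iff] at h1
    obtain ⟨⟨hreg, hmem⟩, h1⟩ := h1
    have hlen : 1 < rs.length := by exact_mod_cast h1
    rcases rs with _ | ⟨x, _ | ⟨y, l⟩⟩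
    · simp at hlen
    · simp at hlen
    · rw [RingTheory.Sequence.isWeaklyRegular_cons_iff] at hreg
      obtain ⟨hx, hreg2⟩ := hreg
      rw [RingTheory.Sequence.isWeaklyRegular_cons_iff] at hreg2
      exact ⟨x, hmem x (by simp), y, hmem y (by simp), hx, hreg2.1⟩

theorem key_q {A : Type*} [CommRing A] [IsLocalRing A] {L L' : Type*} [AddCommGroup L] [Module A L]
    [AddCommGroup L'] [Module A L'] (f : L →ₗ[A] L') (hf : Function.Injective f)
    (x y : A) (hx : x ∈ IsLocalRing.maximalIdeal A) (hy : y ∈ IsLocalRing.maximalIdeal A)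
    (hxr : IsSMulRegular L x) (hyr : IsSMulRegular (QuotSMulTop x L) y)
    (ν : L') (hν : ∀ z ∈ IsLocalRing.maximalIdeal A, z • ν ∈ LinearMap.range f) :
    ∃ μ : L, ∀ z ∈ IsLocalRing.maximalIdeal A, z • (ν - f μ) = 0 := by
  obtain ⟨μ1, h1⟩ := hν x hx
  obtain ⟨μ2, h2⟩ := hν y hy
  have e1 : y • μ1 = x • μ2 := by
    apply hf
    rw [map_smul, map_smul, h1, h2, smul_comm]
  have e2 : (Submodule.Quotient.mk μ1 : QuotSMulTop x L) = 0 := by
    apply hyr
    show y • (Submodule.Quotient.mk μ1 : QuotSMulTop x L) = y • 0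
    rw [smul_zero, ← Submodule.Quotient.mk_smul, e1, Submodule.Quotient.mk_eq_zero]
    exact Submodule.smul_mem_pointwise_smul μ2 x ⊤ Submodule.mem_top
  rw [Submodule.Quotient.mk_eq_zero] at e2
  obtain ⟨μ', -, e3⟩ := (Submodule.mem_smul_pointwise_iff_exists _ _ _).1 e2
  refine ⟨μ', fun z hz => ?_⟩
  obtain ⟨μz, hz1⟩ := hν z hz
  have e4 : z • (ν - f μ') = f (μz - z • μ') := by
    rw [smul_sub, map_sub, hz1, map_smul]
  have e5 : f (x • (μz - z • μ')) = 0 := by
    calc f (x • (μz - z • μ')) = x • f (μz - z • μ') := map_smul _ _ _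
      _ = x • (z • (ν - f μ')) := by rw [e4]
      _ = z • (x • ν - f (x • μ')) := by rw [smul_comm, smul_sub x, map_smul]
      _ = 0 := by rw [e3, h1, sub_self, smul_zero]
  have e6 : x • (μz - z • μ') = 0 := hf (by rw [e5, map_zero])
  have e7 : μz - z • μ' = 0 := hxr (show x • (μz - z • μ') = x • 0 by rw [smul_zero]; exact e6)
  rw [e4, e7, map_zero]

theorem exists_mk_q {R : Type*} [CommRing R] (S : Submonoid R) {M : Type*} [AddCommGroup M] [Module R M]
    (μ : LocalizedModule S M) : ∃ m s, μ = LocalizedModule.mk m s :=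
  LocalizedModule.induction_on (β := fun μ => ∃ m s, μ = LocalizedModule.mk m s)
    (fun m s => ⟨m, s, rfl⟩) μ

theorem descend_q {R : Type*} [CommRing R] [IsNoetherianRing R] {N : Type*} [AddCommGroup N] [Module R N]
    (p : Ideal R) [p.IsPrime] (n' : N) (s : p.primeCompl)
    (hne : LocalizedModule.mk n' s ≠ 0)
    (hkill : ∀ c ∈ p, ∃ u : p.primeCompl, (u : R) • c • n' = 0) :
    p ∈ associatedPrimes R N := by
  classical
  obtain ⟨T, hT⟩ := (IsNoetherian.noetherian p : p.FG)
  choose! uf huf using hkill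
  let u : p.primeCompl := ∏ c ∈ T, uf c
  have hT' : ∀ c ∈ T, c ∈ p := fun c hc => hT ▸ Ideal.subset_span hc
  have hu : (u : R) = ∏ d ∈ T, (uf d : R) := by simp [u]
  have h1 : ∀ c ∈ T, (u : R) • c • n' = 0 := by
    intro c hc
    have : (u : R) = (∏ d ∈ T.erase c, (uf d : R)) * (uf c : R) := by
      rw [hu, Finset.prod_erase_mul T _ hc]
    rw [this, mul_smul, huf c (hT' c hc), smul_zero]
  have hnz : ∀ r : R, r ∉ p → r • (u : R) • n' ≠ 0 := by
    intro r hr h0
    apply hne
    rw [← LocalizedModule.zero_mk s, LocalizedModule.mk_eq]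
    refine ⟨⟨r, hr⟩ * u, ?_⟩
    simp only [Submonoid.smul_def, smul_zero, Submonoid.coe_mul]
    rw [smul_comm, mul_smul, h0, smul_zero]
  show IsAssociatedPrime p N
  rw [isAssociatedPrime_iff]
  refine ⟨inferInstance, (u : R) • n', ?_⟩
  ext r
  rw [Submodule.mem_colon_singleton, Submodule.mem_bot]
  constructor
  · intro hr
    rw [← hT] at hr
    refine Submodule.span_induction (p := fun r _ => r • (u : R) • n' = 0) ?_ ?_ ?_ ?_ hr
    · intro c hc
      rw [smul_comm]; exact h1 c hc
    · exact zero_smul _ _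
    · intro a b _ _ ha hb; rw [add_smul, ha, hb, add_zero]
    · intro a b _ hb; rw [smul_eq_mul, mul_smul, hb, smul_zero]
  · intro h0
    by_contra hr
    exact hnz r hr h0

/-- Let `R` be Noetherian and `φ : M → N` a map of `R`-modules with `M` finite. Suppose that for every
prime `𝔭` either `φ_𝔭` is bijective, or `M_𝔭` has depth at least two and `𝔭` is not an associated
prime of `N`. Then `φ` is bijective. -/
theorem result {R M N : Type u} [CommRing R] [IsNoetherianRing R] [AddCommGroup M]
    [Module R M] [Module.Finite R M] [AddCommGroup N] [Module R N] (φ : M →ₗ[R] N)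
    (h : ∀ (p : Ideal R) [p.IsPrime],
      Function.Bijective (LocalizedModule.map p.primeCompl φ) ∨
        (2 ≤ LocCoh.depth (Localization.AtPrime p) (LocalizedModule p.primeCompl M) ∧
          p ∉ associatedPrimes R N)) :
    Function.Bijective φ := by
  classical
  have hinj : Function.Injective φ := by
    rw [← LinearMap.ker_eq_bot]
    by_contra hne
    have : Nontrivial (LinearMap.ker φ) := Submodule.nontrivial_iff_ne_bot.2 hne
    obtain ⟨p, hp⟩ := associatedPrimes.nonempty R (LinearMap.ker φ)
    obtain ⟨hpp, k, hpm⟩ := (isAssociatedPrime_iff).1 hp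
    haveI := hpp
    have hann : ∀ r : R, r ∈ p ↔ r • (k : M) = 0 := by
      intro r
      rw [hpm, Submodule.mem_colon_singleton, Submodule.mem_bot, ← Submodule.coe_eq_zero,
        Submodule.coe_smul]
    have hcontra : (LocalizedModule.mk (k : M) (1 : p.primeCompl) : LocalizedModule p.primeCompl M) ≠ 0 := by
      intro h0
      rw [← LocalizedModule.zero_mk (1 : p.primeCompl), LocalizedModule.mk_eq] at h0
      obtain ⟨u, hu⟩ := h0
      have : (u : R) • (k : M) = 0 := by simpa [Submonoid.smul_def] using hu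
      exact u.2 ((hann _).2 this)
    rcases h p with hb | ⟨hd, -⟩
    · apply hcontra
      apply hb.1
      rw [map_zero, LocalizedModule.map_mk]
      have : φ (k : M) = 0 := k.2
      rw [this, LocalizedModule.zero_mk]
    · rcases depth_two_q hd with htop | ⟨x, hx, y, hy, hxr, hyr⟩
      · have hbot : (⊤ : Submodule (Localization.AtPrime p) (LocalizedModule p.primeCompl M)) = ⊥ :=
          Submodule.eq_bot_of_le_smul_of_le_jacobson_bot _ _ Module.Finite.fg_top
            (le_of_eq htop.symm) (IsLocalRing.maximalIdeal_le_jacobson _)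
        apply hcontra
        have : (LocalizedModule.mk (k : M) (1 : p.primeCompl) : LocalizedModule p.primeCompl M) ∈
            (⊤ : Submodule (Localization.AtPrime p) (LocalizedModule p.primeCompl M)) := Submodule.mem_top
        rw [hbot] at this
        exact (Submodule.mem_bot _).1 this
      · apply hcontra
        apply hxr
        show x • (LocalizedModule.mk (k : M) (1 : p.primeCompl) : LocalizedModule p.primeCompl M) = x • 0
        rw [smul_zero]
        obtain ⟨a, s, rfl⟩ := IsLocalization.exists_mk'_eq p.primeCompl x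
        have ha : a ∈ p :=
          (IsLocalization.AtPrime.mk'_mem_maximal_iff (Localization.AtPrime p) p a s).1 hx
        rw [← Localization.mk_eq_mk', LocalizedModule.mk_smul_mk, (hann a).1 ha,
          LocalizedModule.zero_mk]
  refine ⟨hinj, ?_⟩
  rw [← LinearMap.range_eq_top]
  by_contra hne
  have : Nontrivial (N ⧸ LinearMap.range φ) :=
    Submodule.Quotient.nontrivial_iff.2 hne
  obtain ⟨p, hp⟩ := associatedPrimes.nonempty R (N ⧸ LinearMap.range φ)
  obtain ⟨hpp, q, hpq⟩ := (isAssociatedPrime_iff).1 hp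
  obtain ⟨n, rfl⟩ := Submodule.Quotient.mk_surjective _ q
  haveI := hpp
  have hann : ∀ r : R, r ∈ p ↔ r • n ∈ LinearMap.range φ := by
    intro r
    rw [hpq, Submodule.mem_colon_singleton, Submodule.mem_bot, ← Submodule.Quotient.mk_smul,
      Submodule.Quotient.mk_eq_zero]
  have F1 : ∀ u : R, u ∉ p → u • n ∉ LinearMap.range φ := fun u hu h' => hu ((hann u).2 h')
  have F2 : ∀ μ : LocalizedModule p.primeCompl M,
      LocalizedModule.map p.primeCompl φ μ ≠ LocalizedModule.mk n (1 : p.primeCompl) := by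
    intro μ he
    obtain ⟨m, s, rfl⟩ := exists_mk_q p.primeCompl μ
    rw [LocalizedModule.map_mk, LocalizedModule.mk_eq] at he
    obtain ⟨u, hu⟩ := he
    apply F1 ((u : R) * (s : R)) (p.primeCompl.mul_mem u.2 s.2)
    rw [mul_smul]
    refine ⟨(u : R) • m, ?_⟩
    rw [map_smul]
    simpa [Submonoid.smul_def] using hu
  have F3 : ∀ z ∈ IsLocalRing.maximalIdeal (Localization.AtPrime p),
      z • (LocalizedModule.mk n (1 : p.primeCompl) : LocalizedModule p.primeCompl N) ∈
        LinearMap.range (LocalizedModule.map p.primeCompl φ) := by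
    intro z hz
    obtain ⟨a, s, rfl⟩ := IsLocalization.exists_mk'_eq p.primeCompl z
    have ha : a ∈ p :=
      (IsLocalization.AtPrime.mk'_mem_maximal_iff (Localization.AtPrime p) p a s).1 hz
    obtain ⟨ma, hma⟩ := (hann a).1 ha
    refine ⟨LocalizedModule.mk ma (s * 1), ?_⟩
    rw [LocalizedModule.map_mk, hma, ← Localization.mk_eq_mk', LocalizedModule.mk_smul_mk]
  rcases h p with hb | ⟨hd, hnotass⟩
  · obtain ⟨μ, hμ⟩ := hb.2 (LocalizedModule.mk n (1 : p.primeCompl))
    exact F2 μ hμ
  · apply hnotass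
    have hμ : ∃ μ : LocalizedModule p.primeCompl M,
        ∀ z ∈ IsLocalRing.maximalIdeal (Localization.AtPrime p),
          z • ((LocalizedModule.mk n (1 : p.primeCompl) : LocalizedModule p.primeCompl N) -
            LocalizedModule.map p.primeCompl φ μ) = 0 := by
      rcases depth_two_q hd with htop | ⟨x, hx, y, hy, hxr, hyr⟩
      · have hbot : (⊤ : Submodule (Localization.AtPrime p) (LocalizedModule p.primeCompl M)) = ⊥ :=
          Submodule.eq_bot_of_le_smul_of_le_jacobson_bot _ _ Module.Finite.fg_top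
            (le_of_eq htop.symm) (IsLocalRing.maximalIdeal_le_jacobson _)
        refine ⟨0, fun z hz => ?_⟩
        obtain ⟨μ', hμ'⟩ := F3 z hz
        have h0 : μ' = 0 := by
          have : μ' ∈ (⊤ : Submodule (Localization.AtPrime p) (LocalizedModule p.primeCompl M)) :=
            Submodule.mem_top
          rw [hbot] at this
          exact (Submodule.mem_bot _).1 this
        rw [map_zero, sub_zero, ← hμ', h0, map_zero]
      · exact key_q (LocalizedModule.map p.primeCompl φ)
          (LocalizedModule.map_injective _ φ hinj) x y hx hy hxr hyr _ F3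
    obtain ⟨μ, hμ⟩ := hμ
    obtain ⟨n', s, hn's⟩ := exists_mk_q p.primeCompl
      ((LocalizedModule.mk n (1 : p.primeCompl) : LocalizedModule p.primeCompl N) -
        LocalizedModule.map p.primeCompl φ μ)
    rw [hn's] at hμ
    refine descend_q p n' s ?_ ?_
    · intro h0
      rw [h0, sub_eq_zero] at hn's
      exact F2 μ hn's.symm
    · intro c hc
      have hz := hμ (IsLocalization.mk' (Localization.AtPrime p) c (1 : p.primeCompl))
        ((IsLocalization.AtPrime.mk'_mem_maximal_iff (Localization.AtPrime p) p c 1).2 hc)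
      rw [← Localization.mk_eq_mk', LocalizedModule.mk_smul_mk,
        ← LocalizedModule.zero_mk (1 * s), LocalizedModule.mk_eq] at hz
      obtain ⟨u, hu⟩ := hz
      refine ⟨u * (1 * s), ?_⟩
      simpa [Submonoid.smul_def, mul_smul] using hu

end Groth.Agent.S2090
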