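import Groth.Statements.S2091
import Mathlib
import Groth.Agent.Lib.Helper21.KDiffSmoothB
import Groth.Agent.Lib.Helper21.PthRootS
import Groth.Agent.Lib.Helper21.JacAdicB
import Groth.Agent.Lib.Helper21.CohenStructF

set_option autoImplicit false
universe u
open CAlg

namespace Groth.Agent.S2091

/-- Let `k` be a field of characteristic zero, `S` of finite type over `k` and `𝔮` a prime of `S`.
Smoothness of `S` over `k` at `𝔮` is equivalent to regularity of the local ring `S_𝔮`. -/
theorem result {k S : Type u} [Field k] [CharZero k] [CommRing S] [Algebra k S]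
    [Algebra.FiniteType k S] (q : Ideal S) [q.IsPrime] :
    Algebra.IsSmoothAt k q ↔ IsRegularLocalRing (Localization.AtPrime q) := by
  haveI : IsNoetherianRing S := Algebra.FiniteType.isNoetherianRing k S
  haveI : IsNoetherianRing (Localization.AtPrime q) :=
    IsLocalization.isNoetherianRing q.primeCompl _ inferInstance
  constructor
  · intro h
    haveI : Algebra.FormallySmooth k (Localization.AtPrime q) := h
    have h1 : CAlgX.IsAdicFormallySmooth k (Localization.AtPrime q)
        (IsLocalRing.maximalIdeal (Localization.AtPrime q)) :=
      Groth.Agent.Lib.Helper21.CohenStruct.isAdicFormallySmooth_of_formallySmooth _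
    exact (Groth.Agent.Lib.Helper21.CohenStruct.regular_of_isAdicFormallySmooth k _ h1).1
  · intro hreg
    have hinj := Groth.Agent.Lib.Helper21.PthRoot.injective_of_formallySmooth_residueField k
      (Localization.AtPrime q)
      (fun K _ _ => Groth.Agent.Lib.Helper21.PthRoot.formallySmooth_charZero k K)
    have h1 : CAlgX.IsAdicFormallySmooth k (Localization.AtPrime q)
        (IsLocalRing.maximalIdeal (Localization.AtPrime q)) :=
      Groth.Agent.Lib.Helper21.KDiffSmooth.S2471_aux.mpr ⟨hreg, hinj⟩
    haveI : Algebra.EssFiniteType k (Localization.AtPrime q) := inferInstance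
    exact Groth.Agent.Lib.Helper21.JacAdic.formallySmooth_of_isAdicFormallySmooth_of_essFiniteType h1

end Groth.Agent.S2091
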