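import Groth.Statements.S2093
import Groth.Agent.Lib.Helper14.CplReducedCrit

set_option autoImplicit false
universe u
open CAlg

namespace Groth.Agent.S2093

/-- Let `(R, 𝔪)` be a Noetherian local domain and `x ∈ 𝔪` nonzero such that `R/xR` has no embedded
associated primes, and for every associated prime `𝔭` of `R/xR` the local ring `R_𝔭` is regular and
the completion of `R/𝔭` is reduced. Then the completion of `R` is reduced. -/
theorem result {R : Type u} [CommRing R] [IsDomain R] [IsLocalRing R]
    [IsNoetherianRing R] (x : R) (hx : x ≠ 0) (hxm : x ∈ IsLocalRing.maximalIdeal R)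
    (hemb : ∀ p ∈ associatedPrimes R (R ⧸ Ideal.span {x}), p ∈ (Ideal.span {x}).minimalPrimes)
    (hreg : ∀ p ∈ associatedPrimes R (R ⧸ Ideal.span {x}), ∀ (_ : p.IsPrime),
      IsRegularLocalRing (Localization.AtPrime p) ∧
        IsReduced (AdicCompletion ((IsLocalRing.maximalIdeal R).map (Ideal.Quotient.mk p)) (R ⧸ p))) :
    IsReduced (AdicCompletion (IsLocalRing.maximalIdeal R) R) := by
  have : IsNoetherianRing (EGA4.Cpl R) := Groth.Agent.Lib.Helper14.ComplEtale.isNoetherianRing_completion R
  refine Groth.Agent.Lib.Helper14.CplReducedCrit.isReduced_of_ass (EGA4.Cpl R) x (mem_nonZeroDivisors_of_ne_zero hx) ?_ ?_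
  · rw [AdicCompletion.maximalIdeal_eq_map (R := R)]
    exact Ideal.mem_map_of_mem _ hxm
  · intro p hp hpp
    obtain ⟨hrl, hred⟩ := hreg p hp hpp
    have hmin := hemb p hp
    have : Nontrivial (R ⧸ p) := Ideal.Quotient.nontrivial_iff.mpr hpp.ne_top
    have hdom : IsDomain (Localization.AtPrime p) :=
      IsLocalization.isDomain_localization (le_nonZeroDivisors_of_noZeroDivisors
        (fun h0 => h0 p.zero_mem))
    refine ⟨⟨hdom, ?_⟩, ?_⟩
    · apply Groth.Agent.Lib.Helper14.CplReducedCrit.isDiscreteValuationRing_of_isRegularLocalRing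
      rw [IsLocalization.AtPrime.ringKrullDim_eq_height p]
      have h1 : p.height ≤ 1 := Ideal.height_le_one_of_isPrincipal_of_mem_minimalPrimes _ p hmin
      have h2 : p.height ≠ 0 := by
        intro h0
        have hx' : x ∈ p := hmin.1.2 (Ideal.mem_span_singleton_self x)
        rw [Ideal.height_eq_zero_iff_eq_bot] at h0
        rw [h0] at hx'
        exact hx (by simpa using hx')
      have h3 : p.height = 1 := le_antisymm h1 (Order.one_le_iff_pos.mpr (pos_iff_ne_zero.mpr h2))
      rw [h3]
      rfl
    · have e : (IsLocalRing.maximalIdeal R).map (Ideal.Quotient.mk p) =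
          IsLocalRing.maximalIdeal (R ⧸ p) := Groth.Agent.Lib.Helper14.ComplQuot.map_maximalIdeal_quotient R p
      rw [e] at hred
      have : IsReduced (EGA4.Cpl (R ⧸ p)) := hred
      exact Groth.Agent.Lib.Helper14.CplReducedCrit.isReduced_quotient_map R p

end Groth.Agent.S2093
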