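import Groth.Statements.S2094
import Mathlib


set_option autoImplicit false
universe u
open CAlg

namespace Groth.Agent.S2094

section aux
variable {A : Type u} [CommRing A]

theorem fs_of_proj {M : Type u} [AddCommGroup M] [Module A M] [Module.Projective A M] :
    Algebra.FormallySmooth A (SymmetricAlgebra A M) := by
  apply Algebra.FormallySmooth.of_comp_surjective
  intro B _ _ I hI f
  obtain ⟨ψ, hψ⟩ := Module.projective_lifting_property (Ideal.Quotient.mkₐ A I).toLinearMap
    (f.toLinearMap ∘ₗ SymmetricAlgebra.ι A M) (Ideal.Quotient.mkₐ_surjective A I)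
  refine ⟨SymmetricAlgebra.lift ψ, ?_⟩
  apply SymmetricAlgebra.algHom_ext
  apply LinearMap.ext; intro m
  have := LinearMap.congr_fun hψ m
  simpa using this

theorem fp_of_finite_proj {M : Type u} [AddCommGroup M] [Module A M] [Module.Finite A M]
    [Module.Projective A M] : Algebra.FinitePresentation A (SymmetricAlgebra A M) := by
  classical
  obtain ⟨n, r, i, -, -, hri⟩ := Module.Finite.exists_comp_eq_id_of_projective A M
  let p : MvPolynomial (Fin n) A →ₐ[A] SymmetricAlgebra A M :=
    MvPolynomial.aeval (fun j => SymmetricAlgebra.ι A M (r (fun k => if j = k then 1 else 0)))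
  let σ : M →ₗ[A] MvPolynomial (Fin n) A :=
    ∑ j, (LinearMap.proj j ∘ₗ i).smulRight (MvPolynomial.X j : MvPolynomial (Fin n) A)
  let s : SymmetricAlgebra A M →ₐ[A] MvPolynomial (Fin n) A := SymmetricAlgebra.lift σ
  have hσ : ∀ m, σ m = ∑ j, (i m j) • (MvPolynomial.X j : MvPolynomial (Fin n) A) := by
    intro m
    simp [σ, LinearMap.sum_apply, LinearMap.smulRight_apply]
  have hps : ∀ x, p (s x) = x := by
    have hcomp : p.comp s = AlgHom.id A _ := by
      apply SymmetricAlgebra.algHom_ext
      apply LinearMap.ext; intro m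
      change p (s (SymmetricAlgebra.ι A M m)) = SymmetricAlgebra.ι A M m
      rw [SymmetricAlgebra.lift_ι_apply, hσ, map_sum]
      simp only [map_smul, p, MvPolynomial.aeval_X]
      have h1 := LinearMap.pi_apply_eq_sum_univ (SymmetricAlgebra.ι A M ∘ₗ r) (i m)
      simp only [LinearMap.comp_apply] at h1
      rw [← h1]
      have h2 := LinearMap.congr_fun hri m
      simp only [LinearMap.comp_apply, LinearMap.id_apply] at h2
      rw [h2]
    intro x
    exact AlgHom.congr_fun hcomp x
  have hsurj : Function.Surjective p := fun x => ⟨s x, hps x⟩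
  refine Algebra.FinitePresentation.of_surjective hsurj ?_
  have hJ : RingHom.ker p.toRingHom =
      Ideal.span (Set.range fun j : Fin n =>
        (MvPolynomial.X j - s (p (MvPolynomial.X j)) : MvPolynomial (Fin n) A)) := by
    apply le_antisymm
    · intro x hx
      have hx0 : p x = 0 := RingHom.mem_ker.mp hx
      have key : ∀ y : MvPolynomial (Fin n) A, y - s (p y) ∈
          Ideal.span (Set.range fun j : Fin n =>
            (MvPolynomial.X j - s (p (MvPolynomial.X j)) : MvPolynomial (Fin n) A)) := by
        intro y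
        induction y using MvPolynomial.induction_on with
        | C a =>
          have : s (p (MvPolynomial.C a)) = MvPolynomial.C a := by
            rw [← MvPolynomial.algebraMap_eq, AlgHom.commutes, AlgHom.commutes]
          rw [this, sub_self]; exact Submodule.zero_mem _
        | add y z hy hz =>
          have : y + z - s (p (y + z)) = (y - s (p y)) + (z - s (p z)) := by
            rw [map_add, map_add]; ring
          rw [this]; exact Submodule.add_mem _ hy hz
        | mul_X y j hy =>
          have : y * MvPolynomial.X j - s (p (y * MvPolynomial.X j)) =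
              (y - s (p y)) * MvPolynomial.X j +
                s (p y) * (MvPolynomial.X j - s (p (MvPolynomial.X j))) := by
            rw [map_mul, map_mul]; ring
          rw [this]
          exact Submodule.add_mem _ (Ideal.mul_mem_right _ _ hy)
            (Ideal.mul_mem_left _ _ (Ideal.subset_span ⟨j, rfl⟩))
      have := key x
      rwa [hx0, map_zero, sub_zero] at this
    · rw [Ideal.span_le]
      rintro _ ⟨j, rfl⟩
      rw [SetLike.mem_coe, RingHom.mem_ker]
      change p _ = 0
      rw [map_sub, hps, sub_self]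
  rw [hJ]
  exact Submodule.fg_span (Set.finite_range _)

section tsze
variable {M : Type u} [AddCommGroup M] [Module A M]

/-- The algebra map `Sym(M) → A ⊕ N` induced by a linear map `g : M → N`. -/
noncomputable def toT {N : Type u} [AddCommGroup N] [Module A N] [Module Aᵐᵒᵖ N]
    [IsCentralScalar A N] (g : M →ₗ[A] N) : SymmetricAlgebra A M →ₐ[A] TrivSqZeroExt A N :=
  SymmetricAlgebra.lift ((TrivSqZeroExt.inrHom A N) ∘ₗ g)

theorem toT_ι {N : Type u} [AddCommGroup N] [Module A N] [Module Aᵐᵒᵖ N]
    [IsCentralScalar A N] (g : M →ₗ[A] N) (m : M) :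
    toT g (SymmetricAlgebra.ι A M m) = TrivSqZeroExt.inr (g m) := by
  simp [toT]

theorem exists_section [Algebra.FormallySmooth A (SymmetricAlgebra A M)]
    {N : Type u} [AddCommGroup N] [Module A N] [Module Aᵐᵒᵖ N] [IsCentralScalar A N]
    [Module Aᵐᵒᵖ M] [IsCentralScalar A M]
    (f : N →ₗ[A] M) (hf : Function.Surjective f) : ∃ h : M →ₗ[A] N, ∀ m, f (h m) = m := by
  let F : TrivSqZeroExt A N →ₐ[A] TrivSqZeroExt A M := TrivSqZeroExt.map f
  have hFsurj : Function.Surjective F := by
    intro y
    obtain ⟨n, hn⟩ := hf y.snd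
    refine ⟨TrivSqZeroExt.inl y.fst + TrivSqZeroExt.inr n, ?_⟩
    ext <;> simp [F, hn]
  have hnil : IsNilpotent (RingHom.ker (F : TrivSqZeroExt A N →+* TrivSqZeroExt A M)) := by
    refine ⟨2, ?_⟩
    rw [Ideal.zero_eq_bot, eq_bot_iff, pow_two, Ideal.mul_le]
    intro x hx y hy
    have hx1 : x.fst = 0 := by
      have := congrArg TrivSqZeroExt.fst (RingHom.mem_ker.mp hx)
      simpa [F] using this
    have hy1 : y.fst = 0 := by
      have := congrArg TrivSqZeroExt.fst (RingHom.mem_ker.mp hy)
      simpa [F] using this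
    rw [Ideal.mem_bot]
    ext <;> simp [hx1, hy1]
  let α : SymmetricAlgebra A M →ₐ[A] TrivSqZeroExt A M := toT LinearMap.id
  let β := Algebra.FormallySmooth.liftOfSurjective α F hFsurj hnil
  refine ⟨(TrivSqZeroExt.sndHom A N) ∘ₗ β.toLinearMap ∘ₗ SymmetricAlgebra.ι A M, fun m => ?_⟩
  have h1 : F (β (SymmetricAlgebra.ι A M m)) = α (SymmetricAlgebra.ι A M m) :=
    Algebra.FormallySmooth.liftOfSurjective_apply α F hFsurj hnil _
  have h2 := congrArg TrivSqZeroExt.snd h1
  simpa [F, α, toT_ι] using h2

theorem proj_of_fs [Algebra.FormallySmooth A (SymmetricAlgebra A M)] : Module.Projective A M := by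
  letI : Module Aᵐᵒᵖ M := Module.compHom M ((RingHom.id A).fromOpposite fun _ _ => mul_comm _ _)
  haveI : IsCentralScalar A M := ⟨fun r m => rfl⟩
  obtain ⟨h, hh⟩ := exists_section (Finsupp.linearCombination A (id : M → M))
    (Finsupp.linearCombination_id_surjective A M)
  exact Module.projective_def.mpr ⟨h, hh⟩

theorem finite_of_ft [Algebra.FiniteType A (SymmetricAlgebra A M)] : Module.Finite A M := by
  classical
  letI : Module Aᵐᵒᵖ M := Module.compHom M ((RingHom.id A).fromOpposite fun _ _ => mul_comm _ _)
  haveI : IsCentralScalar A M := ⟨fun r m => rfl⟩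
  obtain ⟨t, ht⟩ := (Algebra.FiniteType.out : (⊤ : Subalgebra A (SymmetricAlgebra A M)).FG)
  let π : SymmetricAlgebra A M →ₐ[A] TrivSqZeroExt A M := toT LinearMap.id
  let M' : Submodule A M :=
    Submodule.span A ((fun s => (π s).snd) '' (t : Set (SymmetricAlgebra A M)))
  suffices hM' : M' = ⊤ by
    refine ⟨?_⟩
    rw [← hM']
    exact Submodule.fg_span ((Finset.finite_toSet t).image _)
  letI : Module Aᵐᵒᵖ (M ⧸ M') :=
    Module.compHom (M ⧸ M') ((RingHom.id A).fromOpposite fun _ _ => mul_comm _ _)
  haveI : IsCentralScalar A (M ⧸ M') := ⟨fun r m => rfl⟩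
  let q : M →ₗ[A] M ⧸ M' := M'.mkQ
  let πQ : SymmetricAlgebra A M →ₐ[A] TrivSqZeroExt A (M ⧸ M') := toT q
  have hcomp : πQ = (TrivSqZeroExt.map q).comp π := by
    apply SymmetricAlgebra.algHom_ext
    apply LinearMap.ext; intro m
    simp [πQ, π, toT_ι]
  have hall : ∀ x : SymmetricAlgebra A M, (πQ x).snd = 0 := by
    intro x
    have hx : x ∈ Algebra.adjoin A (t : Set (SymmetricAlgebra A M)) := by rw [ht]; trivial
    induction hx using Algebra.adjoin_induction with
    | mem s hs =>
      rw [hcomp, AlgHom.comp_apply, TrivSqZeroExt.snd_map]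
      exact (Submodule.Quotient.mk_eq_zero M').mpr (Submodule.subset_span ⟨s, hs, rfl⟩)
    | algebraMap a => rw [AlgHom.commutes]; simp [TrivSqZeroExt.algebraMap_eq_inl]
    | add x y _ _ hx hy => rw [map_add, TrivSqZeroExt.snd_add, hx, hy, add_zero]
    | mul x y _ _ hx hy =>
      rw [map_mul, TrivSqZeroExt.snd_mul, hx, hy, smul_zero, smul_zero, add_zero]
  rw [eq_top_iff]
  intro m _
  have := hall (SymmetricAlgebra.ι A M m)
  simp only [πQ, toT_ι, TrivSqZeroExt.snd_inr] at this
  exact (Submodule.Quotient.mk_eq_zero M').mp this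

end tsze
end aux

/-- The symmetric algebra of an `A`-module is a smooth `A`-algebra exactly when the module is finite
projective. -/
theorem result {A M : Type u} [CommRing A] [AddCommGroup M] [Module A M] :
    Algebra.Smooth A (SymmetricAlgebra A M) ↔ Module.Finite A M ∧ Module.Projective A M := by
  constructor
  · intro h
    haveI := h
    exact ⟨finite_of_ft, proj_of_fs⟩
  · rintro ⟨h1, h2⟩
    haveI := h1
    haveI := h2
    exact ⟨fs_of_proj, fp_of_finite_proj⟩

end Groth.Agent.S2094
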