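import Groth.Statements.S2095
import Mathlib

set_option autoImplicit false
universe u
open CAlg

namespace Groth.Agent.S2095

open TensorProduct in
/-- Let `R → S` be a ring map, `𝔫 ⊆ S` an ideal and `R → R'` a ring map admitting an `R`-linear
retraction. If `R' → R' ⊗ S` is formally smooth for the adic topology of the extension of `𝔫`, then
`R → S` is formally smooth for the `𝔫`-adic topology. -/
theorem result {R S R' : Type u} [CommRing R] [CommRing S] [Algebra R S]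
    (𝔫 : Ideal S) [CommRing R'] [Algebra R R'] (ρ : R' →ₗ[R] R) (hρ : ∀ r : R, ρ (algebraMap R R' r) = r)
    (h : CAlgX.IsAdicFormallySmooth R' (R' ⊗[R] S)
      (𝔫.map (Algebra.TensorProduct.includeRight : S →ₐ[R] R' ⊗[R] S))) :
    CAlgX.IsAdicFormallySmooth R S 𝔫 := by
  intro A _ _ J hJ ψ hkψ
  obtain ⟨k, hk⟩ := hkψ
  let incA : A →ₐ[R] R' ⊗[R] A := Algebra.TensorProduct.includeRight
  let J' : Ideal (R' ⊗[R] A) := J.map incA
  have hJ' : J' ^ 2 = ⊥ := by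
    rw [← Ideal.map_pow, hJ, Ideal.map_bot]
  let ι : A ⧸ J →ₐ[R] (R' ⊗[R] A) ⧸ J' := Ideal.quotientMapₐ J' incA Ideal.le_comap_map
  let ψ' : R' ⊗[R] S →ₐ[R'] (R' ⊗[R] A) ⧸ J' :=
    Algebra.TensorProduct.lift (Algebra.ofId R' _) (ι.comp ψ) (fun _ _ => Commute.all _ _)
  have hψ' : ∀ s : S, ψ' ((1 : R') ⊗ₜ s) = ι (ψ s) := by
    intro s
    simp [ψ']
  have hkill : ∃ k : ℕ, ∀ x ∈ (𝔫.map (Algebra.TensorProduct.includeRight : S →ₐ[R] R' ⊗[R] S)) ^ k,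
      ψ' x = 0 := by
    refine ⟨k, fun x hx => ?_⟩
    rw [← Ideal.map_pow] at hx
    have hle : (𝔫 ^ k).map (Algebra.TensorProduct.includeRight : S →ₐ[R] R' ⊗[R] S) ≤
        RingHom.ker ψ' := by
      rw [Ideal.map_le_iff_le_comap]
      intro n hn
      rw [Ideal.mem_comap, RingHom.mem_ker]
      show ψ' ((1 : R') ⊗ₜ n) = 0
      rw [hψ', hk n hn, map_zero]
    exact (RingHom.mem_ker).mp (hle hx)
  obtain ⟨χ', hχ'⟩ := h (R' ⊗[R] A) J' hJ' ψ' hkill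
  have hχ'mk : ∀ z, Ideal.Quotient.mk J' (χ' z) = ψ' z := fun z => by
    have := AlgHom.congr_fun hχ' z
    simpa using this
  let r : R' ⊗[R] A →ₗ[R] A := TensorProduct.lift ((LinearMap.lsmul R A).comp ρ)
  have hr : ∀ (c : R') (a : A), r (c ⊗ₜ a) = ρ c • a := fun c a => by simp [r]
  have hρ1 : ρ 1 = 1 := by simpa using hρ 1
  have hr1 : ∀ a : A, r ((1 : R') ⊗ₜ a) = a := fun a => by rw [hr, hρ1, one_smul]
  have hrmul : ∀ (a : A) (y : R' ⊗[R] A), r (((1 : R') ⊗ₜ a) * y) = a * r y := by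
    intro a y
    induction y using TensorProduct.induction_on with
    | zero => simp
    | tmul c b =>
      rw [Algebra.TensorProduct.tmul_mul_tmul, one_mul, hr, hr, mul_smul_comm]
    | add y1 y2 h1 h2 => rw [mul_add, map_add, map_add, h1, h2, mul_add]
  have hrJ : ∀ x ∈ J', r x ∈ J := by
    have hP : ∀ x ∈ J', ∀ y : R' ⊗[R] A, r (y * x) ∈ J := by
      intro x hx
      refine Submodule.span_induction (p := fun x _ => ∀ y : R' ⊗[R] A, r (y * x) ∈ J)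
        ?_ ?_ ?_ ?_ hx
      · rintro _ ⟨j, hj, rfl⟩ y
        show r (y * ((1 : R') ⊗ₜ j)) ∈ J
        rw [mul_comm, hrmul]
        exact J.mul_mem_right _ hj
      · intro y; simp
      · intro x1 x2 _ _ h1 h2 y
        rw [mul_add, map_add]; exact J.add_mem (h1 y) (h2 y)
      · intro z x _ hx y
        rw [smul_eq_mul, ← mul_assoc]; exact hx (y * z)
    intro x hx
    have := hP x hx 1
    rwa [one_mul] at this
  let incS : S →ₐ[R] R' ⊗[R] S := Algebra.TensorProduct.includeRight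
  let f : S →ₗ[R] A := r.comp ((χ'.toLinearMap.restrictScalars R).comp incS.toLinearMap)
  have hf : ∀ s, f s = r (χ' ((1 : R') ⊗ₜ s)) := fun s => rfl
  have hdecomp : ∀ (s : S) (a : A), Ideal.Quotient.mk J a = ψ s →
      χ' ((1 : R') ⊗ₜ s) - (1 : R') ⊗ₜ a ∈ J' := by
    intro s a ha
    rw [← Ideal.Quotient.eq, hχ'mk, hψ', ← ha]
    rfl
  have hmul : ∀ s t : S, f (s * t) = f s * f t := by
    intro s t
    obtain ⟨a, ha⟩ := Ideal.Quotient.mk_surjective (ψ s)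
    obtain ⟨b, hb⟩ := Ideal.Quotient.mk_surjective (ψ t)
    have hx := hdecomp s a ha
    have hy := hdecomp t b hb
    obtain ⟨x, hxdef⟩ : ∃ x, x = χ' ((1 : R') ⊗ₜ s) - (1 : R') ⊗ₜ a := ⟨_, rfl⟩
    obtain ⟨y, hydef⟩ : ∃ y, y = χ' ((1 : R') ⊗ₜ t) - (1 : R') ⊗ₜ b := ⟨_, rfl⟩
    rw [← hxdef] at hx
    rw [← hydef] at hy
    have hX : χ' ((1 : R') ⊗ₜ s) = (1 : R') ⊗ₜ a + x := by rw [hxdef]; ring
    have hY : χ' ((1 : R') ⊗ₜ t) = (1 : R') ⊗ₜ b + y := by rw [hydef]; ring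
    have hxy : x * y = 0 := by
      have : x * y ∈ J' ^ 2 := by rw [pow_two]; exact Ideal.mul_mem_mul hx hy
      rwa [hJ', Ideal.mem_bot] at this
    have hrxy : r x * r y = 0 := by
      have : r x * r y ∈ J ^ 2 := by
        rw [pow_two]; exact Ideal.mul_mem_mul (hrJ x hx) (hrJ y hy)
      rwa [hJ, Ideal.mem_bot] at this
    have hst : ((1 : R') ⊗ₜ[R] (s * t) : R' ⊗[R] S) = ((1 : R') ⊗ₜ s) * ((1 : R') ⊗ₜ t) := by
      rw [Algebra.TensorProduct.tmul_mul_tmul, one_mul]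
    rw [hf, hf, hf, hst, map_mul, hX, hY]
    have e1 : ((1 : R') ⊗ₜ[R] a + x) * ((1 : R') ⊗ₜ[R] b + y) =
        (1 : R') ⊗ₜ[R] (a * b) + ((1 : R') ⊗ₜ[R] a) * y + ((1 : R') ⊗ₜ[R] b) * x := by
      have e0 : ((1 : R') ⊗ₜ[R] a) * ((1 : R') ⊗ₜ[R] b) = (1 : R') ⊗ₜ[R] (a * b) := by
        rw [Algebra.TensorProduct.tmul_mul_tmul, one_mul]
      rw [← e0]
      linear_combination hxy
    rw [e1]
    simp only [map_add, hr1, hrmul]
    linear_combination (-1 : A) * hrxy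
  have hone : f 1 = 1 := by
    rw [hf]
    have e0 : ((1 : R') ⊗ₜ[R] (1 : S) : R' ⊗[R] S) = 1 := rfl
    rw [e0, map_one]
    exact hr1 1
  refine ⟨AlgHom.ofLinearMap f hone hmul, ?_⟩
  ext s
  obtain ⟨a, ha⟩ := Ideal.Quotient.mk_surjective (ψ s)
  have hx := hdecomp s a ha
  show Ideal.Quotient.mk J (f s) = ψ s
  rw [hf, ← ha, Ideal.Quotient.eq]
  have e2 : r (χ' ((1 : R') ⊗ₜ s)) - a = r (χ' ((1 : R') ⊗ₜ s) - (1 : R') ⊗ₜ a) := by
    rw [map_sub, hr1]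
  rw [e2]
  exact hrJ _ hx

end Groth.Agent.S2095
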