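import Groth.Statements.S2098
import Mathlib

set_option autoImplicit false
universe u
open CAlg

namespace Groth.Agent.S2098


open Submodule in
theorem map_mem_smul_top' {R M N : Type*} [CommRing R] [AddCommGroup M] [Module R M]
    [AddCommGroup N] [Module R N]
    (K : Ideal R) (φ : M →ₗ[R] N) {x : M} (hx : x ∈ (K • ⊤ : Submodule R M)) :
    φ x ∈ (K • ⊤ : Submodule R N) := by
  have h1 : φ x ∈ Submodule.map φ (K • ⊤ : Submodule R M) := Submodule.mem_map_of_mem hx
  rw [Submodule.map_smul''] at h1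
  exact Submodule.smul_mono le_rfl le_top h1

/-- Artin–Rees lifting lemma: homomorphisms `M → N/IⁿN` lift to `M → N` modulo `I^n₀`
once `n ≥ n₀ + c`. -/
theorem exists_lift_mod {R : Type u} [CommRing R] [IsNoetherianRing R] (I : Ideal R)
    (M N : Type u) [AddCommGroup M] [Module R M] [Module.Finite R M]
    [AddCommGroup N] [Module R N] [Module.Finite R N] (n₀ : ℕ) :
    ∃ c : ℕ, ∀ n, n₀ + c ≤ n → ∀ ψ : M →ₗ[R] (N ⧸ (I ^ n • ⊤ : Submodule R N)),
      ∃ φ : M →ₗ[R] N, ∀ (x : M) (y : N), ψ x = Submodule.Quotient.mk y →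
        φ x - y ∈ (I ^ n₀ • ⊤ : Submodule R N) := by
  classical
  obtain ⟨b, π, hπ⟩ := Module.Finite.exists_fin' R M
  obtain ⟨s, hs⟩ := (IsNoetherian.noetherian (LinearMap.ker π) : (LinearMap.ker π).FG)
  let ρ : ((Fin b → R) →ₗ[R] N) →ₗ[R] (s → N) :=
    LinearMap.pi (fun j => LinearMap.applyₗ ((j : (Fin b → R))))
  have hρ : ∀ t j, ρ t j = t (j : Fin b → R) := fun t j => rfl
  obtain ⟨k, hk⟩ := Ideal.exists_pow_inf_eq_pow_smul I (LinearMap.range ρ)
  refine ⟨k, fun n hn ψ => ?_⟩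
  obtain ⟨t, ht⟩ := Module.projective_lifting_property
    (Submodule.mkQ (I ^ n • ⊤ : Submodule R N)) (ψ ∘ₗ π) (Submodule.mkQ_surjective _)
  have ht' : ∀ f, (Submodule.Quotient.mk (t f) : N ⧸ (I ^ n • ⊤ : Submodule R N)) = ψ (π f) :=
    fun f => LinearMap.congr_fun ht f
  have hcoord : ∀ j : s, t (j : Fin b → R) ∈ (I ^ n • ⊤ : Submodule R N) := by
    intro j
    have hjK : (j : Fin b → R) ∈ LinearMap.ker π := by
      rw [← hs]; exact Submodule.subset_span j.2
    have h0 : (Submodule.Quotient.mk (t (j : Fin b → R)) : N ⧸ (I ^ n • ⊤ : Submodule R N)) = 0 := by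
      rw [ht', LinearMap.mem_ker.mp hjK, map_zero]
    exact (Submodule.Quotient.mk_eq_zero _).mp h0
  have hmem1 : ρ t ∈ (I ^ n • ⊤ : Submodule R (s → N)) := by
    rw [← Finset.univ_sum_single (ρ t)]
    refine Submodule.sum_mem _ (fun j _ => ?_)
    exact map_mem_smul_top' (I ^ n) (LinearMap.single R (fun _ : s => N) j) (hcoord j)
  have hmem2 : ρ t ∈ (I ^ n • ⊤ : Submodule R (s → N)) ⊓ LinearMap.range ρ :=
    ⟨hmem1, LinearMap.mem_range_self ρ t⟩
  rw [hk n (by omega)] at hmem2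
  have hle : (I ^ (n - k) • ((I ^ k • ⊤ : Submodule R (s → N)) ⊓ LinearMap.range ρ)) ≤
      Submodule.map ρ (I ^ n₀ • (⊤ : Submodule R ((Fin b → R) →ₗ[R] N))) := by
    rw [Submodule.map_smul'', Submodule.map_top]
    exact Submodule.smul_mono (Ideal.pow_le_pow_right (by omega)) inf_le_right
  obtain ⟨t', ht'mem, ht'eq⟩ := hle hmem2
  have hker : LinearMap.ker π ≤ LinearMap.ker (t - t') := by
    rw [← hs, Submodule.span_le]
    intro j hj
    have h1 : ρ t' ⟨j, Finset.mem_coe.mp hj⟩ = ρ t ⟨j, Finset.mem_coe.mp hj⟩ :=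
      congrFun ht'eq ⟨j, Finset.mem_coe.mp hj⟩
    rw [hρ, hρ] at h1
    simp only [SetLike.mem_coe, LinearMap.mem_ker, LinearMap.sub_apply]
    exact sub_eq_zero.mpr h1.symm
  let e := π.quotKerEquivOfSurjective hπ
  let φ : M →ₗ[R] N := ((LinearMap.ker π).liftQ (t - t') hker) ∘ₗ e.symm.toLinearMap
  have hφ : ∀ f, φ (π f) = t f - t' f := by
    intro f
    have h1 : e.symm (π f) = Submodule.Quotient.mk f := by
      rw [LinearEquiv.symm_apply_eq]
      exact (LinearMap.quotKerEquivOfSurjective_apply_mk π hπ f).symm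
    simp only [φ, LinearMap.comp_apply, LinearEquiv.coe_coe, h1, Submodule.liftQ_apply,
      LinearMap.sub_apply]
  refine ⟨φ, fun x y hxy => ?_⟩
  obtain ⟨f, rfl⟩ := hπ x
  rw [hφ]
  have h1 : t f - y ∈ (I ^ n • ⊤ : Submodule R N) := by
    rw [← Submodule.Quotient.eq, ht', hxy]
  have h2 : t f - y ∈ (I ^ n₀ • ⊤ : Submodule R N) :=
    Submodule.smul_mono (Ideal.pow_le_pow_right (by omega)) le_rfl h1
  have h3 : t' f ∈ (I ^ n₀ • ⊤ : Submodule R N) :=
    map_mem_smul_top' (I ^ n₀) (LinearMap.applyₗ f) ht'mem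
  have h4 : t f - t' f - y = (t f - y) - t' f := by abel
  rw [h4]
  exact Submodule.sub_mem _ h2 h3

/-- Let `R` be Noetherian, `I` an ideal inside the Jacobson radical and `u : N → M` a map of finite
`R`-modules. If for arbitrarily large `n` the induced map `N/IⁿN → M/IⁿM` has a left inverse, then
`u` has a left inverse. -/
theorem result {R M N : Type u} [CommRing R] [IsNoetherianRing R] (I : Ideal R)
    (hI : I ≤ (⊥ : Ideal R).jacobson) [AddCommGroup M] [Module R M] [Module.Finite R M] [AddCommGroup N] [Module R N]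
    [Module.Finite R N] (u : N →ₗ[R] M)
    (h : ∀ n₀ : ℕ, ∃ n, n₀ ≤ n ∧ ∃ s : (M ⧸ (I ^ n) • (⊤ : Submodule R M)) →ₗ[R] (N ⧸ (I ^ n) • (⊤ : Submodule R N)),
      ∀ x : N, s (Submodule.Quotient.mk (u x)) = Submodule.Quotient.mk x) :
    ∃ s : M →ₗ[R] N, s.comp u = LinearMap.id := by
  classical
  obtain ⟨c, hc⟩ := exists_lift_mod I M N 1
  obtain ⟨n, hn, s, hs⟩ := h (1 + c)
  obtain ⟨φ, hφ⟩ := hc n hn (s ∘ₗ Submodule.mkQ _)
  have hg : ∀ x : N, φ (u x) - x ∈ (I • ⊤ : Submodule R N) := by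
    intro x
    have h1 := hφ (u x) x (by simpa using hs x)
    rwa [pow_one] at h1
  have hsurj : Function.Surjective (φ ∘ₗ u) := by
    rw [← LinearMap.range_eq_top, ← top_le_iff]
    apply Submodule.le_of_le_smul_of_le_jacobson_bot Module.Finite.fg_top hI
    intro x _
    have h1 : x = (φ ∘ₗ u) x - (φ (u x) - x) := by simp
    rw [h1]
    exact Submodule.sub_mem _ (Submodule.mem_sup_left ⟨x, rfl⟩) (Submodule.mem_sup_right (hg x))
  have hinj : Function.Injective (φ ∘ₗ u) :=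
    OrzechProperty.injective_of_surjective_endomorphism _ hsurj
  let e := LinearEquiv.ofBijective (φ ∘ₗ u) ⟨hinj, hsurj⟩
  refine ⟨e.symm.toLinearMap ∘ₗ φ, ?_⟩
  ext x
  simp only [LinearMap.comp_apply, LinearEquiv.coe_coe, LinearMap.id_apply]
  rw [LinearEquiv.symm_apply_eq]
  rfl

end Groth.Agent.S2098
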