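import Groth.Statements.S2105
import Mathlib.Algebra.BigOperators.Fin
import Mathlib.RingTheory.Ideal.Span
import Mathlib.LinearAlgebra.Pi
import Mathlib.RingTheory.Ideal.Quotient.Basic
import Mathlib.LinearAlgebra.Span.Basic
import Mathlib.Tactic

set_option autoImplicit false
universe u
open CAlg

namespace Groth.Agent.S2105

section aux

variable {A : Type u} [CommRing A]

/-- the module of trivial (Koszul) relations -/
def rel {c : ℕ} (h : Fin c → A) : Submodule A (Fin c → A) :=
  Submodule.span A {v : Fin c → A | ∃ i j : Fin c, v = Pi.single i (h j) - Pi.single j (h i)}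

/-- the linear form `v ↦ ∑ v i * h i` -/
def dotL {c : ℕ} (h : Fin c → A) : (Fin c → A) →ₗ[A] A where
  toFun v := ∑ i, v i * h i
  map_add' v w := by simp [add_mul, Finset.sum_add_distrib]
  map_smul' r v := by simp [Finset.mul_sum, mul_assoc]

lemma dotL_apply {c : ℕ} (h : Fin c → A) (v : Fin c → A) : dotL h v = ∑ i, v i * h i := rfl

lemma rel_le_ker {c : ℕ} (h : Fin c → A) : rel h ≤ LinearMap.ker (dotL h) := by
  refine Submodule.span_le.mpr ?_
  rintro v ⟨i, j, rfl⟩
  simp only [SetLike.mem_coe, LinearMap.mem_ker, dotL_apply]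
  simp only [Pi.sub_apply, Pi.single_apply, sub_mul, Finset.sum_sub_distrib, ite_mul, zero_mul,
    Finset.sum_ite_eq', Finset.mem_univ, if_true]
  ring

/-- left inclusion -/
def inl (n m : ℕ) : (Fin n → A) →ₗ[A] (Fin (n + m) → A) where
  toFun v := Fin.append v 0
  map_add' v w := by
    funext k
    refine Fin.addCases (fun i => ?_) (fun j => ?_) k <;> simp
  map_smul' r v := by
    funext k
    refine Fin.addCases (fun i => ?_) (fun j => ?_) k <;> simp

/-- right inclusion -/
def inr (n m : ℕ) : (Fin m → A) →ₗ[A] (Fin (n + m) → A) where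
  toFun v := Fin.append 0 v
  map_add' v w := by
    funext k
    refine Fin.addCases (fun i => ?_) (fun j => ?_) k <;> simp
  map_smul' r v := by
    funext k
    refine Fin.addCases (fun i => ?_) (fun j => ?_) k <;> simp

lemma inl_apply (n m : ℕ) (v : Fin n → A) : inl n m v = Fin.append v 0 := rfl
lemma inr_apply (n m : ℕ) (v : Fin m → A) : inr n m v = Fin.append 0 v := rfl

lemma inl_single (n m : ℕ) (i : Fin n) (x : A) :
    inl n m (Pi.single i x) = Pi.single (Fin.castAdd m i) x := by
  funext k
  rw [inl_apply]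
  refine Fin.addCases (fun i' => ?_) (fun j => ?_) k
  · simp [Pi.single_apply, Fin.ext_iff]
  · simp [Pi.single_apply, Fin.ext_iff]
    intro h
    omega

lemma inr_single (n m : ℕ) (j : Fin m) (x : A) :
    inr n m (Pi.single j x) = Pi.single (Fin.natAdd n j) x := by
  funext k
  rw [inr_apply]
  refine Fin.addCases (fun i' => ?_) (fun j' => ?_) k
  · simp [Pi.single_apply, Fin.ext_iff]
    intro h
    omega
  · simp [Pi.single_apply, Fin.ext_iff]

lemma decomp (n m : ℕ) (a : Fin (n + m) → A) :
    a = inl n m (fun i => a (Fin.castAdd m i)) + inr n m (fun j => a (Fin.natAdd n j)) := by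
  funext k
  rw [inl_apply, inr_apply]
  refine Fin.addCases (fun i' => ?_) (fun j' => ?_) k <;> simp

lemma map_inl_rel {n m : ℕ} (f : Fin n → A) (g : Fin m → A) :
    (rel f).map (inl n m) ≤ rel (Fin.append f g) := by
  rw [rel, Submodule.map_span, Submodule.span_le]
  rintro _ ⟨v, ⟨i, j, rfl⟩, rfl⟩
  apply Submodule.subset_span
  refine ⟨Fin.castAdd m i, Fin.castAdd m j, ?_⟩
  rw [map_sub, inl_single, inl_single, Fin.append_left, Fin.append_left]

lemma map_inr_rel {n m : ℕ} (f : Fin n → A) (g : Fin m → A) :
    (rel g).map (inr n m) ≤ rel (Fin.append f g) := by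
  rw [rel, Submodule.map_span, Submodule.span_le]
  rintro _ ⟨v, ⟨i, j, rfl⟩, rfl⟩
  apply Submodule.subset_span
  refine ⟨Fin.natAdd n i, Fin.natAdd n j, ?_⟩
  rw [map_sub, inr_single, inr_single, Fin.append_right, Fin.append_right]

lemma dotL_inl {n m : ℕ} (f : Fin n → A) (g : Fin m → A) (v : Fin n → A) :
    dotL (Fin.append f g) (inl n m v) = dotL f v := by
  simp [dotL_apply, inl_apply, Fin.sum_univ_add]

lemma dotL_inr {n m : ℕ} (f : Fin n → A) (g : Fin m → A) (v : Fin m → A) :
    dotL (Fin.append f g) (inr n m v) = dotL g v := by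
  simp [dotL_apply, inr_apply, Fin.sum_univ_add]

/-- a vector with entries in the ideal `(f)`, put in the `g` slots, is congruent modulo trivial
relations to something in the `f` slots -/
lemma inr_mem_of_mem_span {n m : ℕ} (f : Fin n → A) (g : Fin m → A) (b : Fin m → A)
    (hb : ∀ j, b j ∈ Ideal.span (Set.range f)) :
    ∃ c : Fin n → A, inr n m b - inl n m c ∈ rel (Fin.append f g) := by
  choose d hd using fun j => (Ideal.mem_span_range_iff_exists_fun).mp (hb j)
  refine ⟨fun i => ∑ j, d j i * g j, ?_⟩
  have key : inr n m b - inl n m (fun i => ∑ j, d j i * g j) =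
      ∑ j, ∑ i, d j i • ((Pi.single (Fin.natAdd n j) (Fin.append f g (Fin.castAdd m i)) -
        Pi.single (Fin.castAdd m i) (Fin.append f g (Fin.natAdd n j)) : Fin (n + m) → A)) := by
    have hb' : b = ∑ j, ∑ i, (d j i * f i) • (Pi.single j (1 : A) : Fin m → A) := by
      funext j
      simp only [Finset.sum_apply, Pi.smul_apply, Pi.single_apply, smul_eq_mul, mul_ite, mul_one,
        mul_zero]
      rw [Finset.sum_eq_single j]
      · simp [hd j]
      · intro j' _ hj'
        simp [hj'.symm]
      · simp
    have hc' : (fun i => ∑ j, d j i * g j) =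
        ∑ j, ∑ i, (d j i * g j) • (Pi.single i (1 : A) : Fin n → A) := by
      funext i
      simp only [Finset.sum_apply, Pi.smul_apply, Pi.single_apply, smul_eq_mul, mul_ite, mul_one,
        mul_zero]
      apply Finset.sum_congr rfl
      intro j _
      rw [Finset.sum_eq_single i]
      · simp
      · intro i' _ hi'
        simp [hi'.symm]
      · simp
    rw [hc']
    conv_lhs => rw [hb']
    simp only [map_sum, map_smul, inl_single, inr_single, Fin.append_left, Fin.append_right]
    rw [← Finset.sum_sub_distrib]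
    apply Finset.sum_congr rfl
    intro j _
    rw [← Finset.sum_sub_distrib]
    apply Finset.sum_congr rfl
    intro i _
    funext k
    simp only [Pi.sub_apply, Pi.smul_apply, Pi.single_apply, smul_eq_mul]
    split_ifs <;> ring
  rw [key]
  refine Submodule.sum_mem _ fun j _ => Submodule.sum_mem _ fun i _ => Submodule.smul_mem _ _ ?_
  exact Submodule.subset_span ⟨Fin.natAdd n j, Fin.castAdd m i, rfl⟩

end aux

/-- Appending to an `H_1`-regular sequence `f` a sequence `g` whose image modulo the ideal `(f)` is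
`H_1`-regular yields an `H_1`-regular sequence. -/
theorem result {A : Type u} [CommRing A] {n m : ℕ} (f : Fin n → A)
    (g : Fin m → A) (hf : CAlgX.IsH1Regular f)
    (hg : CAlgX.IsH1Regular (fun j => Ideal.Quotient.mk (Ideal.span (Set.range f)) (g j))) :
    CAlgX.IsH1Regular (Fin.append f g) := by
  intro a ha
  change a ∈ rel (Fin.append f g)
  set I := Ideal.span (Set.range f) with hI
  set a₁ : Fin n → A := fun i => a (Fin.castAdd m i) with ha₁
  set b : Fin m → A := fun j => a (Fin.natAdd n j) with hb
  have hdec : a = inl n m a₁ + inr n m b := decomp n m a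
  have hsum : dotL f a₁ + dotL g b = 0 := by
    rw [dotL_apply, dotL_apply, ← ha, Fin.sum_univ_add]
    simp [ha₁, hb]
  -- the image of `b` in `A ⧸ I` is a relation for `ḡ`
  have hbI : dotL g b ∈ I := by
    have : dotL g b = - dotL f a₁ := eq_neg_of_add_eq_zero_right hsum
    rw [this, dotL_apply]
    refine I.neg_mem (I.sum_mem fun i _ => I.mul_mem_left _ (Ideal.subset_span ⟨i, rfl⟩))
  -- componentwise quotient map
  let π : (Fin m → A) →ₗ[A] (Fin m → A ⧸ I) :=
    LinearMap.pi fun j => (Ideal.Quotient.mkₐ A I).toLinearMap.comp (LinearMap.proj j)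
  have hπ : ∀ v j, π v j = Ideal.Quotient.mk I (v j) := fun v j => rfl
  have hrel : ∑ j, (π b) j * (Ideal.Quotient.mk I (g j)) = 0 := by
    simp only [hπ, ← map_mul, ← map_sum]
    exact Ideal.Quotient.eq_zero_iff_mem.mpr hbI
  have hmem := hg (π b) hrel
  -- transfer the span over `A ⧸ I` to a span over `A`
  have hmem' : π b ∈ (rel g).map π := by
    rw [rel, Submodule.map_span]
    have hsurj : Function.Surjective (algebraMap A (A ⧸ I)) := Ideal.Quotient.mk_surjective
    have := (Submodule.restrictScalars_span A (A ⧸ I) hsurj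
      {v : Fin m → A ⧸ I | ∃ i j : Fin m, v = Pi.single i (Ideal.Quotient.mk I (g j)) -
        Pi.single j (Ideal.Quotient.mk I (g i))})
    have h2 : π b ∈ (Submodule.span (A ⧸ I) {v : Fin m → A ⧸ I | ∃ i j : Fin m,
        v = Pi.single i (Ideal.Quotient.mk I (g j)) -
        Pi.single j (Ideal.Quotient.mk I (g i))}).restrictScalars A := hmem
    rw [this] at h2
    refine Submodule.span_mono ?_ h2
    rintro _ ⟨i, j, rfl⟩
    refine ⟨Pi.single i (g j) - Pi.single j (g i), ⟨i, j, rfl⟩, ?_⟩
    funext k
    simp only [map_sub, Pi.sub_apply, hπ, Pi.single_apply]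
    split_ifs <;> simp
  obtain ⟨t, ht, htb⟩ := hmem'
  -- `b - t` has entries in `I`
  have hbt : ∀ j, (b - t) j ∈ I := by
    intro j
    have := congrFun htb j
    rw [hπ, hπ] at this
    rw [Pi.sub_apply]
    exact Ideal.Quotient.eq.mp this.symm
  obtain ⟨c, hc⟩ := inr_mem_of_mem_span f g (b - t) hbt
  -- now `a = inl (a₁ + c) + (element of rel)`
  have ht' : inr n m t ∈ rel (Fin.append f g) := map_inr_rel f g ⟨t, ht, rfl⟩
  have hrest : a - inl n m (a₁ + c) ∈ rel (Fin.append f g) := by
    have : a - inl n m (a₁ + c) = (inr n m (b - t) - inl n m c) + inr n m t := by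
      rw [hdec, map_add, map_sub]
      abel
    rw [this]
    exact Submodule.add_mem _ hc ht'
  have hzero : dotL f (a₁ + c) = 0 := by
    have h1 := rel_le_ker _ hrest
    rw [LinearMap.mem_ker, map_sub, dotL_inl] at h1
    have h2 : dotL (Fin.append f g) a = 0 := ha
    rw [h2, zero_sub, neg_eq_zero] at h1
    exact h1
  have hfin : a₁ + c ∈ rel f := hf (a₁ + c) hzero
  have : a = (a - inl n m (a₁ + c)) + inl n m (a₁ + c) := by abel
  rw [this]
  exact Submodule.add_mem _ hrest (map_inl_rel f g ⟨_, hfin, rfl⟩)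

end Groth.Agent.S2105
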