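import Groth.Statements.S2111
import Mathlib

set_option autoImplicit false
universe u
open CAlg

namespace Groth.Agent.S2111


/-- In a Noetherian integrally closed domain, a prime of the form `(b : y)` with `b ≠ 0` has
height one. -/
theorem height_eq_one_of_colon {R : Type u} [CommRing R] [IsDomain R] [IsNoetherianRing R]
    [IsIntegrallyClosed R] (b y : R) (hb : b ≠ 0) (p : Ideal R) [hp : p.IsPrime]
    (hmem : ∀ c, c ∈ p ↔ b ∣ c * y) : p.height = 1 := by
  have hbp : b ∈ p := (hmem b).mpr (dvd_mul_right b y)
  have hne : p ≠ ⊥ := fun h => hb (by rw [h] at hbp; exact (Submodule.mem_bot R).mp hbp)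
  have h0 : p.height ≠ 0 := fun h => hne (Ideal.height_eq_zero_iff_eq_bot.mp h)
  refine le_antisymm ?_ (Order.one_le_iff_ne_zero.mpr h0)
  by_cases hcase : ∃ c ∈ p, ∃ u, c * y = b * u ∧ u ∉ p
  · obtain ⟨c, hc, u, hcu, hu⟩ := hcase
    haveI : (Ideal.span {c}).IsPrincipal := ⟨⟨c, rfl⟩⟩
    refine Ideal.height_le_one_of_isPrincipal_of_mem_minimalPrimes (Ideal.span {c}) p ?_
    refine ⟨⟨hp, (Ideal.span_singleton_le_iff_mem _).mpr hc⟩, ?_⟩
    rintro q ⟨hq, hcq⟩ hqp c' hc'
    obtain ⟨r', hr'⟩ := (hmem c').mp hc'
    have hcq' : c ∈ q := (Ideal.span_singleton_le_iff_mem _).mp hcq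
    have h1 : c' * u = c * r' := by
      apply mul_left_cancel₀ hb
      calc b * (c' * u) = c' * (b * u) := by ring
        _ = c' * (c * y) := by rw [hcu]
        _ = c * (c' * y) := by ring
        _ = c * (b * r') := by rw [hr']
        _ = b * (c * r') := by ring
    have h2 : c' * u ∈ q := by rw [h1]; exact q.mul_mem_right _ hcq'
    rcases hq.mem_or_mem h2 with h3 | h3
    · exact h3
    · exact absurd (hqp h3) hu
  · push Not at hcase
    exfalso
    have hφb : algebraMap R (FractionRing R) b ≠ 0 := by
      intro h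
      exact hb ((IsFractionRing.injective R (FractionRing R)) (by rw [h, map_zero]))
    have hz : IsIntegral R (algebraMap R (FractionRing R) y / algebraMap R (FractionRing R) b) := by
      refine isIntegral_of_smul_mem_submodule (M := FractionRing R)
        (Submodule.map (Algebra.linearMap R (FractionRing R)) p) ?_ ?_ _ ?_
      · intro h
        have h1 : algebraMap R (FractionRing R) b ∈
            Submodule.map (Algebra.linearMap R (FractionRing R)) p := ⟨b, hbp, rfl⟩
        rw [h, Submodule.mem_bot] at h1
        exact hφb h1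
      · exact Submodule.FG.map _ (IsNoetherian.noetherian p)
      · rintro n ⟨c, hc, rfl⟩
        obtain ⟨u, hu⟩ := (hmem c).mp hc
        refine ⟨u, hcase c hc u hu, ?_⟩
        show algebraMap R (FractionRing R) u =
          (algebraMap R (FractionRing R) y / algebraMap R (FractionRing R) b) *
            algebraMap R (FractionRing R) c
        rw [div_mul_eq_mul_div, eq_div_iff hφb, ← map_mul, ← map_mul, mul_comm u b, ← hu,
          mul_comm]
    obtain ⟨r, hr⟩ := IsIntegrallyClosed.isIntegral_iff.mp hz
    have hyr : y = b * r := by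
      apply IsFractionRing.injective R (FractionRing R)
      rw [map_mul, hr]
      field_simp
    have h1 : (1 : R) ∈ p := (hmem 1).mpr ⟨r, by rw [one_mul, hyr]⟩
    exact hp.ne_top ((Ideal.eq_top_iff_one p).mpr h1)

/-- Let `R` be a Noetherian normal domain with fraction field `K`. An element of `K` which lies in `R_𝔭`
for every prime `𝔭` of height one lies in `R`. -/
theorem result {R : Type u} [CommRing R] [IsDomain R] [IsNoetherianRing R]
    [IsIntegrallyClosed R] (x : FractionRing R)
    (hx : ∀ (p : Ideal R) [p.IsPrime], p.height = 1 →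
      x ∈ Set.range (algebraMap (Localization.AtPrime p) (FractionRing R))) :
    x ∈ Set.range (algebraMap R (FractionRing R)) := by
  obtain ⟨a, b, hb, rfl⟩ := IsFractionRing.div_surjective R x
  have hb0 : b ≠ 0 := nonZeroDivisors.ne_zero hb
  have hφb : algebraMap R (FractionRing R) b ≠ 0 := by
    intro h
    exact hb0 ((IsFractionRing.injective R (FractionRing R)) (by rw [h, map_zero]))
  by_contra hnot
  have hā : (Ideal.Quotient.mk (Ideal.span {b}) a) ≠ 0 := by
    intro h
    rw [Ideal.Quotient.eq_zero_iff_mem, Ideal.mem_span_singleton] at h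
    obtain ⟨r, rfl⟩ := h
    apply hnot
    refine ⟨r, ?_⟩
    rw [map_mul]
    field_simp
  obtain ⟨P, hP, hle⟩ := exists_le_isAssociatedPrime_of_isNoetherianRing R
    (Ideal.Quotient.mk (Ideal.span {b}) a) hā
  rw [isAssociatedPrime_iff] at hP
  obtain ⟨hPprime, ybar, hPeq⟩ := hP
  obtain ⟨y, rfl⟩ := Ideal.Quotient.mk_surjective ybar
  have hPmem : ∀ c, c ∈ P ↔ b ∣ c * y := by
    intro c
    rw [hPeq, Submodule.mem_colon_singleton, Submodule.mem_bot,
      ← Ideal.mem_span_singleton, ← Ideal.Quotient.eq_zero_iff_mem, map_mul]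
    rfl
  haveI := hPprime
  have hht : P.height = 1 := height_eq_one_of_colon b y hb0 P hPmem
  obtain ⟨t, ht⟩ := hx P hht
  obtain ⟨r, s, rfl⟩ := IsLocalization.exists_mk'_eq P.primeCompl t
  have h1 : algebraMap (Localization.AtPrime P) (FractionRing R)
      (IsLocalization.mk' (Localization.AtPrime P) r s) * algebraMap R (FractionRing R) s =
        algebraMap R (FractionRing R) r := by
    rw [IsScalarTower.algebraMap_apply R (Localization.AtPrime P) (FractionRing R) s,
      IsScalarTower.algebraMap_apply R (Localization.AtPrime P) (FractionRing R) r, ← map_mul,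
      IsLocalization.mk'_spec]
  rw [ht, div_mul_eq_mul_div, div_eq_iff hφb] at h1
  have h2 : (s : R) * a = b * r := by
    apply IsFractionRing.injective R (FractionRing R)
    rw [map_mul, map_mul]
    linear_combination h1
  have h3 : (s : R) ∈ P := by
    apply hle
    rw [Submodule.mem_colon_singleton, Submodule.mem_bot]
    have h4 : (s : R) • (Ideal.Quotient.mk (Ideal.span {b}) a) =
        Ideal.Quotient.mk (Ideal.span {b}) ((s : R) * a) := rfl
    rw [h4, h2, Ideal.Quotient.eq_zero_iff_mem]
    exact Ideal.mul_mem_right _ _ (Ideal.mem_span_singleton_self b)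
  exact s.2 h3

end Groth.Agent.S2111
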