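import Groth.Statements.S2112
import Groth.Agent.Lib.Helper14.UniqueMinPrime

set_option autoImplicit false
universe u
open CAlg

namespace Groth.Agent.S2112

open TensorProduct in
/-- Let `k` be a separably closed field and `R`, `S` two `k`-algebras each having exactly one minimal
prime ideal. Then `R ⊗_k S` has exactly one minimal prime ideal. -/
theorem result {k R S : Type u} [Field k] [IsSepClosed k] [CommRing R] [CommRing S]
    [Algebra k R] [Algebra k S] (hR : CAlgX.HasUniqueMinimalPrime R) (hS : CAlgX.HasUniqueMinimalPrime S) :
    CAlgX.HasUniqueMinimalPrime (R ⊗[k] S) := by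
  rw [Groth.Agent.Lib.Helper14.UniqueMinPrime.hasUniqueMinimalPrime_iff] at hR hS ⊢
  exact Groth.Agent.Lib.Helper14.UniqueMinPrime.nilradical_isPrime_tensor_of_isSepClosed hR hS

end Groth.Agent.S2112
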