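import Groth.Statements.S2113
import Mathlib

set_option autoImplicit false
universe u
open CAlg

namespace Groth.Agent.S2113

/-- A Noetherian ring in which each prime is maximal or else lies below infinitely many primes is a
Jacobson ring. -/
theorem result {R : Type u} [CommRing R] [IsNoetherianRing R]
    (h : ∀ (p : Ideal R) [p.IsPrime], p.IsMaximal ∨ {q : PrimeSpectrum R | p ≤ q.asIdeal}.Infinite) :
    IsJacobsonRing R := by
  classical
  rw [isJacobsonRing_iff_prime_eq]
  by_contra hcon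
  push Not at hcon
  have hne : {P : Ideal R | P.IsPrime ∧ P.jacobson ≠ P}.Nonempty := by
    obtain ⟨P, hP, hPj⟩ := hcon
    exact ⟨P, hP, hPj⟩
  obtain ⟨(p : Ideal R), ⟨hp, hpj⟩, hmax⟩ := (set_has_maximal_iff_noetherian.mpr
    (inferInstance : IsNoetherian R R)) _ hne
  haveI := hp
  have hup : ∀ q : Ideal R, q.IsPrime → p < q → q.jacobson = q := by
    intro q hq hpq
    by_contra hqj
    exact hmax q ⟨hq, hqj⟩ hpq
  have hnm : ¬ p.IsMaximal := fun hm => hpj Ideal.jacobson_eq_self_of_isMaximal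
  obtain ⟨f, hfj, hfp⟩ : ∃ f ∈ p.jacobson, f ∉ p := by
    by_contra hno
    push Not at hno
    exact hpj (le_antisymm hno Ideal.le_jacobson)
  have hf : ∀ q : Ideal R, q.IsPrime → p < q → f ∈ q := by
    intro q hq hpq
    rw [← hup q hq hpq]
    exact Ideal.jacobson_mono hpq.le hfj
  rcases h p with hm | hinf
  · exact hnm hm
  apply hinf
  have hfin := Ideal.finite_minimalPrimes_of_isNoetherianRing R (p ⊔ Ideal.span {f})
  have key : ∀ q : Ideal R, q.IsPrime → p < q → q ∈ (p ⊔ Ideal.span {f}).minimalPrimes := by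
    intro q hq hpq
    have hq_le : p ⊔ Ideal.span {f} ≤ q :=
      sup_le hpq.le ((Ideal.span_singleton_le_iff_mem q).mpr (hf q hq hpq))
    by_contra hq_min
    have hnsub : ¬ ((q : Set R) ⊆ ⋃ i ∈ (p ⊔ Ideal.span {f}).minimalPrimes, ((i : Ideal R) : Set R)) := by
      intro hsub
      obtain ⟨i, hi, hqi⟩ := (Ideal.subset_union_prime_finite hfin (f := fun i : Ideal R => i) p p
        (fun i hi _ _ => hi.1.1)).mp hsub
      have : i ≤ q := hi.2 ⟨hq, hq_le⟩ hqi
      exact hq_min ((le_antisymm hqi this) ▸ hi)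
    obtain ⟨g, hgq, hgT⟩ := Set.not_subset.mp hnsub
    have hgT' : ∀ i ∈ (p ⊔ Ideal.span {f}).minimalPrimes, g ∉ i := by
      intro i hi hgi
      exact hgT (Set.mem_iUnion₂.mpr ⟨i, hi, hgi⟩)
    obtain ⟨q₀, hq₀, -⟩ := Ideal.exists_minimalPrimes_le hq_le
    have hgp : g ∉ p := fun hgp => hgT' q₀ hq₀ ((le_sup_left.trans hq₀.1.2) hgp)
    have hgq' : p ⊔ Ideal.span {g} ≤ q :=
      sup_le hpq.le ((Ideal.span_singleton_le_iff_mem q).mpr hgq)
    obtain ⟨q', hq'min, hq'q⟩ := Ideal.exists_minimalPrimes_le hgq'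
    haveI hq'p : q'.IsPrime := hq'min.1.1
    have hpq' : p ≤ q' := le_sup_left.trans hq'min.1.2
    have hgq'' : g ∈ q' := hq'min.1.2 (Ideal.mem_sup_right (Ideal.subset_span rfl))
    have hpltq' : p < q' := lt_of_le_of_ne hpq' (fun h => hgp (h ▸ hgq''))
    have hfq' : f ∈ q' := hf q' hq'p hpltq'
    have hle' : p ⊔ Ideal.span {f} ≤ q' :=
      sup_le hpq' ((Ideal.span_singleton_le_iff_mem q').mpr hfq')
    obtain ⟨q₁, hq₁, hq₁q'⟩ := Ideal.exists_minimalPrimes_le hle'
    haveI hq₁p : q₁.IsPrime := hq₁.1.1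
    have hpq₁ : p ≤ q₁ := le_sup_left.trans hq₁.1.2
    have hfq₁ : f ∈ q₁ := hq₁.1.2 (Ideal.mem_sup_right (Ideal.subset_span rfl))
    have hq₁ne : q₁ ≠ q' := fun h => hgT' q₁ hq₁ (h ▸ hgq'')
    -- pass to the quotient
    have hsurj : Function.Surjective (Ideal.Quotient.mk p) := Ideal.Quotient.mk_surjective
    have hker : Ideal.comap (Ideal.Quotient.mk p) ⊥ = p := by
      rw [← RingHom.ker_eq_comap_bot, Ideal.mk_ker]
    have hcomap : Ideal.comap (Ideal.Quotient.mk p) (Ideal.span {Ideal.Quotient.mk p g}) =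
        p ⊔ Ideal.span {g} := by
      have : Ideal.span {Ideal.Quotient.mk p g} = Ideal.map (Ideal.Quotient.mk p) (Ideal.span {g}) := by
        rw [Ideal.map_span, Set.image_singleton]
      rw [this, Ideal.comap_map_of_surjective _ hsurj, hker, sup_comm]
    rw [← hcomap, Ideal.comap_minimalPrimes_eq_of_surjective hsurj] at hq'min
    obtain ⟨Q', hQ'min, hQ'⟩ := hq'min
    haveI : Q'.IsPrime := hQ'min.1.1
    have hQ'ht := Ideal.height_le_one_of_isPrincipal_of_mem_minimalPrimes _ Q' hQ'min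
    have hkerle : RingHom.ker (Ideal.Quotient.mk p) ≤ q₁ := by rw [Ideal.mk_ker]; exact hpq₁
    haveI hQ₁p : (Ideal.map (Ideal.Quotient.mk p) q₁).IsPrime :=
      Ideal.map_isPrime_of_surjective hsurj hkerle
    have hcm : Ideal.comap (Ideal.Quotient.mk p) (Ideal.map (Ideal.Quotient.mk p) q₁) = q₁ := by
      rw [Ideal.comap_map_of_surjective _ hsurj, hker]
      exact sup_eq_left.mpr hpq₁
    have hQ₁le : Ideal.map (Ideal.Quotient.mk p) q₁ ≤ Q' := by
      have := Ideal.map_mono (f := Ideal.Quotient.mk p) hq₁q'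
      rw [← hQ', Ideal.map_comap_of_surjective _ hsurj] at this
      exact this
    have hQ₁lt : Ideal.map (Ideal.Quotient.mk p) q₁ < Q' := by
      refine lt_of_le_of_ne hQ₁le (fun h => hq₁ne ?_)
      rw [← hcm, h, hQ']
    have hbot : (⊥ : Ideal (R ⧸ p)) < Ideal.map (Ideal.Quotient.mk p) q₁ := by
      refine lt_of_le_of_ne bot_le (fun h => hfp ?_)
      have h1 : Ideal.Quotient.mk p f ∈ Ideal.map (Ideal.Quotient.mk p) q₁ :=
        Ideal.mem_map_of_mem _ hfq₁
      rw [← h, Ideal.mem_bot] at h1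
      exact Ideal.Quotient.eq_zero_iff_mem.mp h1
    haveI : (⊥ : Ideal (R ⧸ p)).IsPrime := Ideal.isPrime_bot
    have h1 := Ideal.height_add_one_le_of_lt_of_isPrime hbot
    have h2 := Ideal.height_add_one_le_of_lt_of_isPrime hQ₁lt
    have h3 : (1 : ℕ∞) ≤ (Ideal.map (Ideal.Quotient.mk p) q₁).height :=
      le_trans le_add_self h1
    have h4 : (1 : ℕ∞) + 1 ≤ 1 := (add_le_add h3 le_rfl).trans (h2.trans hQ'ht)
    norm_num at h4
  have hsub : {q : PrimeSpectrum R | p ≤ q.asIdeal} ⊆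
      PrimeSpectrum.asIdeal ⁻¹' (insert p (p ⊔ Ideal.span {f}).minimalPrimes) := by
    intro q hq
    have hq' : p ≤ q.asIdeal := hq
    rcases eq_or_lt_of_le hq' with h1 | h1
    · left
      exact h1.symm
    · right
      exact key q.asIdeal q.isPrime h1
  refine Set.Finite.subset ?_ hsub
  exact Set.Finite.preimage (fun a _ b _ hab => PrimeSpectrum.ext hab) (hfin.insert p)

end Groth.Agent.S2113
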