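import Groth.Statements.S9835
-- import your own Groth.Agent.* helpers here
import Mathlib
import Groth.Agent.Lib.Helper12.NagataLoc
import Groth.Agent.Lib.Helper12.NormChar

set_option autoImplicit false
universe u
open CategoryTheory AlgebraicGeometry TopologicalSpace
open Props

namespace Groth.Agent.S9835

open Groth.Agent.Lib.Helper12.N2 Groth.Agent.Lib.Helper12.NagataLoc in
theorem aux_loc (X : Scheme.{u}) [IsIntegral X] (W : X.affineOpens) (f : Γ(X, W))
    (h : N2' Γ(X, W)) : N2' (Localization.Away f) := by
  by_cases hdom : IsDomain (Localization.Away f)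
  · have hne : ((W : X.Opens) : Set X).Nonempty := by
      by_contra hemp
      haveI : Subsingleton Γ(X, W) :=
        Groth.Agent.Lib.Helper12.NormChar.subsingleton_sections (W : X.Opens) hemp
      haveI : Subsingleton (Localization.Away f) :=
        (algebraMap Γ(X, W) (Localization.Away f)).codomain_trivial
      exact not_subsingleton (Localization.Away f) ‹_›
    haveI : Nonempty (W : X.Opens) := hne.to_subtype
    rw [← isN2_iff_N2'] at h ⊢
    exact Groth.Agent.S9392.result Γ(X, W) (Submonoid.powers f) (Localization.Away f) h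
  · exact N2'_of_not_isDomain _ hdom

open Groth.Agent.Lib.Helper12.N2 Groth.Agent.Lib.Helper12.NagataLoc in
theorem aux_glue (R : Type u) [CommRing R] (s : Finset R)
    (hs : Ideal.span (s : Set R) = ⊤) (h : ∀ f ∈ s, N2' (Localization.Away f)) : N2' R := by
  classical
  by_cases hdom : IsDomain R
  · let ι : Type u := {x : R // x ∈ s ∧ x ≠ 0}
    haveI : Finite ι := by
      have : Finite {x : R // x ∈ s} := inferInstance
      exact Finite.of_injective (fun i : ι => (⟨i.1, i.2.1⟩ : {x : R // x ∈ s}))
        (fun a b hab => Subtype.ext (by simpa using congrArg Subtype.val hab))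
    have hspan : Ideal.span (Set.range (fun i : ι => i.1)) = ⊤ := by
      rw [eq_top_iff, ← hs, Ideal.span_le]
      intro x hx
      by_cases hx0 : x = 0
      · rw [hx0]; exact Ideal.zero_mem _
      · exact Ideal.subset_span ⟨⟨x, hx, hx0⟩, rfl⟩
    haveI : ∀ i : ι, IsDomain (Localization.Away i.1) := fun i =>
      IsLocalization.isDomain_localization
        (powers_le_nonZeroDivisors_of_noZeroDivisors i.2.2)
    rw [← isN2_iff_N2']
    refine Groth.Agent.S9394.result R (fun i : ι => i.1) hspan
      (fun i => Localization.Away i.1) (fun i => ?_)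
    rw [isN2_iff_N2']
    exact h i.1 i.2.1
  · exact N2'_of_not_isDomain _ hdom


/-- If an integral scheme has an affine open covering by spectra of Japanese (N-2) domains, then the
coordinate ring of every nonempty affine open is a Japanese domain. -/
theorem result (X : Scheme.{u}) [IsIntegral X] {ι : Type u}
    (U : ι → X.Opens) [∀ i, Nonempty (U i)] (hU : iSup U = ⊤) (haff : ∀ i, IsAffineOpen (U i))
    (hJ : ∀ i, CAlg.IsN2 Γ(X, U i)) (V : X.Opens) [Nonempty V] (hV : IsAffineOpen V) :
    CAlg.IsN2 Γ(X, V) := by
  classical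
  rw [Groth.Agent.Lib.Helper12.NagataLoc.isN2_iff_N2']
  refine Groth.Agent.Lib.Helper12.AffLocal.affine_local X
    (fun R _ => Groth.Agent.Lib.Helper12.N2.N2' R)
    (fun R R' _ _ e h => Groth.Agent.Lib.Helper12.N2.N2'_of_ringEquiv e h)
    (fun W f h => aux_loc X W f h)
    (fun W s hs h => aux_glue _ s hs h) U hU haff
    (fun i => (Groth.Agent.Lib.Helper12.NagataLoc.isN2_iff_N2' _).1 (hJ i)) V hV

end Groth.Agent.S9835
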