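import Groth.Statements.S2114
-- import your own Groth.Agent.* helpers here
import Mathlib
import Groth.Agent.Lib.Helper12.NagataLoc
import Groth.Agent.S9835

set_option autoImplicit false
universe u
open CAlg

namespace Groth.Agent.S2114

/-- Let `R ⊆ S` be an extension of domains which is of finite type and quasi-finite, with `R` Noetherian
and N-2 (integral closures in finite extensions of the fraction field are finite). Then `S` is N-2. -/
theorem result {R S : Type u} [CommRing R] [IsDomain R] [IsNoetherianRing R] [CommRing S]
    [IsDomain S] [Algebra R S] (hinj : Function.Injective (algebraMap R S)) [Algebra.FiniteType R S]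
    [Algebra.QuasiFinite R S] (hR : CAlg.IsN2 R) : CAlg.IsN2 S := by
  classical
  rw [Groth.Agent.Lib.Helper12.NagataLoc.isN2_iff_N2'] at hR ⊢
  let G : Set S := {g | Groth.Agent.Lib.Helper12.N2.N2' (Localization.Away g)}
  have hG : Ideal.span G = ⊤ := by
    by_contra hne
    obtain ⟨m, hm, hle⟩ := Ideal.exists_le_maximal _ hne
    haveI := hm.isPrime
    obtain ⟨S', hfg, r, hrm, hbij⟩ :=
      Algebra.QuasiFiniteAt.exists_fg_and_exists_notMem_and_awayMap_bijective (R := R) m
    apply hrm
    apply hle
    apply Ideal.subset_span
    show Groth.Agent.Lib.Helper12.N2.N2' (Localization.Away (r.1 : S))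
    haveI : Module.Finite R S' := Module.Finite.iff_fg.2 hfg
    have hinj' : Function.Injective (algebraMap R S') := by
      intro a b hab
      apply hinj
      have := congrArg (algebraMap S' S) hab
      simpa [← IsScalarTower.algebraMap_apply] using this
    have hS' : Groth.Agent.Lib.Helper12.N2.N2' S' :=
      Groth.Agent.Lib.Helper12.N2.N2'_of_finite_injective R S' hinj' hR
    have hr0 : r ≠ 0 := by
      rintro rfl
      exact hrm (by simp)
    haveI : IsDomain (Localization.Away r) :=
      IsLocalization.isDomain_localization (powers_le_nonZeroDivisors_of_noZeroDivisors hr0)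
    have h1 : Groth.Agent.Lib.Helper12.N2.N2' (Localization.Away r) := by
      rw [← Groth.Agent.Lib.Helper12.NagataLoc.isN2_iff_N2'] at hS' ⊢
      exact Groth.Agent.S9392.result S' (Submonoid.powers r) (Localization.Away r) hS'
    exact Groth.Agent.Lib.Helper12.N2.N2'_of_ringEquiv (RingEquiv.ofBijective _ hbij) h1
  obtain ⟨s, hsG, hs⟩ := (Ideal.span_eq_top_iff_finite _).1 hG
  exact Groth.Agent.S9835.aux_glue S s hs (fun f hf => hsG hf)

end Groth.Agent.S2114
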