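import Groth.Statements.S2116
import Mathlib
import Groth.Agent.Lib.Helper21.KDiffSmoothB
import Groth.Agent.Lib.Helper21.PthRootS
import Groth.Agent.Lib.Helper21.JacAdicB
import Groth.Agent.Lib.Helper21.CohenStructF
import Groth.Agent.Lib.Helper21.SepSmoothB
import Groth.Agent.Lib.Helper14.PerfectGeomRed

set_option autoImplicit false
universe u
open CAlg

namespace Groth.Agent.S2116

/-- Let `k` be algebraically closed, `S` of finite type over `k` and `𝔪` a maximal ideal of `S`. Then
the local ring `S_𝔪` is regular if and only if `S` is smooth over `k` at `𝔪`. -/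
theorem result {k S : Type u} [Field k] [IsAlgClosed k] [CommRing S] [Algebra k S]
    [Algebra.FiniteType k S] (m : Ideal S) [m.IsMaximal] :
    IsRegularLocalRing (Localization.AtPrime m) ↔ Algebra.IsSmoothAt k m := by
  haveI : IsNoetherianRing S := Algebra.FiniteType.isNoetherianRing k S
  haveI : IsNoetherianRing (Localization.AtPrime m) :=
    IsLocalization.isNoetherianRing m.primeCompl _ inferInstance
  haveI : PerfectField k := inferInstance
  constructor
  · intro hreg
    have hinj := Groth.Agent.Lib.Helper21.PthRoot.injective_of_formallySmooth_residueField k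
      (Localization.AtPrime m)
      (fun K _ _ => by
        haveI : Algebra.IsGeometricallyReduced k K :=
          Groth.Agent.Lib.Helper14.PerfectGeomRed.isGeometricallyReduced_of_perfectField
        exact Groth.Agent.Lib.Helper21.SepSmooth.formallySmooth_of_geomReduced)
    have h1 : CAlgX.IsAdicFormallySmooth k (Localization.AtPrime m)
        (IsLocalRing.maximalIdeal (Localization.AtPrime m)) :=
      Groth.Agent.Lib.Helper21.KDiffSmooth.S2471_aux.mpr ⟨hreg, hinj⟩
    haveI : Algebra.EssFiniteType k (Localization.AtPrime m) := inferInstance
    exact Groth.Agent.Lib.Helper21.JacAdic.formallySmooth_of_isAdicFormallySmooth_of_essFiniteType h1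
  · intro h
    haveI : Algebra.FormallySmooth k (Localization.AtPrime m) := h
    have h1 : CAlgX.IsAdicFormallySmooth k (Localization.AtPrime m)
        (IsLocalRing.maximalIdeal (Localization.AtPrime m)) :=
      Groth.Agent.Lib.Helper21.CohenStruct.isAdicFormallySmooth_of_formallySmooth _
    exact (Groth.Agent.Lib.Helper21.CohenStruct.regular_of_isAdicFormallySmooth k _ h1).1

end Groth.Agent.S2116
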