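import Groth.Statements.S2119
import Mathlib.RingTheory.UniqueFactorizationDomain.Basic
import Mathlib.RingTheory.Localization.Basic

set_option autoImplicit false
universe u
open CAlg

namespace Groth.Agent.S2119

/-- Nagata's criterion for factoriality, final assertion: let `A` be a domain in which every nonzero
nonunit factors into irreducibles, and `S` the multiplicative subset generated by a set of prime
elements. If the localization `S⁻¹A` is a unique factorization domain, then so is `A`. -/
theorem result {A : Type u} [CommRing A] [IsDomain A]
    (hfac : ∀ a : A, a ≠ 0 → ¬ IsUnit a → ∃ f : Multiset A, (∀ b ∈ f, Irreducible b) ∧ Associated f.prod a) (P : Set A)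
    (hP : ∀ p ∈ P, Prime p) [IsDomain (Localization (Submonoid.closure P))]
    (hS : UniqueFactorizationMonoid (Localization (Submonoid.closure P))) : UniqueFactorizationMonoid A := by
  set S := Submonoid.closure P with hSdef
  have hSnz : S ≤ nonZeroDivisors A := by
    rw [hSdef, Submonoid.closure_le]
    intro p hp
    exact mem_nonZeroDivisors_of_ne_zero (hP p hp).ne_zero
  have hinj : Function.Injective (algebraMap A (Localization S)) :=
    IsLocalization.injective (Localization S) hSnz
  have hSunit : ∀ s : S, IsUnit (algebraMap A (Localization S) s) :=
    fun s => IsLocalization.map_units (Localization S) s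
  have key : ∀ b : A, Irreducible b → Prime b := by
    intro b hb
    by_cases hcase : ∃ p ∈ P, p ∣ b
    · obtain ⟨p, hpP, c, rfl⟩ := hcase
      have hp := hP p hpP
      have hc : IsUnit c := (hb.isUnit_or_isUnit rfl).resolve_left hp.not_isUnit
      exact (associated_mul_unit_right p c hc).prime hp
    · push Not at hcase
      -- (K): cancellation of elements of S
      have hK : ∀ l : List A, (∀ p ∈ l, p ∈ P) → ∀ x y, l.prod * y = b * x → b ∣ y := by
        intro l
        induction l with
        | nil => intro _ x y h; exact ⟨x, by simpa using h⟩
        | cons p l ih =>
          intro hl x y h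
          have hp := hP p (hl p (List.mem_cons_self))
          rw [List.prod_cons, mul_assoc] at h
          have hdvd : p ∣ b * x := ⟨_, h.symm⟩
          have hpx : p ∣ x := (hp.dvd_or_dvd hdvd).resolve_left (hcase p (hl p (List.mem_cons_self)))
          obtain ⟨x', rfl⟩ := hpx
          have h' : l.prod * y = b * x' := by
            apply mul_left_cancel₀ hp.ne_zero
            rw [h]; ring
          exact ih (fun q hq => hl q (List.mem_cons_of_mem _ hq)) x' y h'
      have hK' : ∀ s ∈ S, ∀ x y, s * y = b * x → b ∣ y := by
        intro s hs x y h
        obtain ⟨l, hl, rfl⟩ := Submonoid.exists_list_of_mem_closure hs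
        exact hK l hl x y h
      -- (C'): factorizations
      have hC : ∀ l : List A, (∀ p ∈ l, p ∈ P) → ∀ x y, l.prod * b = x * y →
          IsUnit (algebraMap A (Localization S) x) ∨ IsUnit (algebraMap A (Localization S) y) := by
        intro l
        induction l with
        | nil =>
          intro _ x y h
          rw [List.prod_nil, one_mul] at h
          rcases hb.isUnit_or_isUnit h with hx | hy
          · exact Or.inl (hx.map _)
          · exact Or.inr (hy.map _)
        | cons p l ih =>
          intro hl x y h
          have hpP := hl p (List.mem_cons_self)
          have hp := hP p hpP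
          have hpu : IsUnit (algebraMap A (Localization S) p) :=
            hSunit ⟨p, Submonoid.subset_closure hpP⟩
          rw [List.prod_cons, mul_assoc] at h
          have hdvd : p ∣ x * y := ⟨_, h.symm⟩
          rcases hp.dvd_or_dvd hdvd with ⟨x', rfl⟩ | ⟨y', rfl⟩
          · have h' : l.prod * b = x' * y := by
              apply mul_left_cancel₀ hp.ne_zero
              rw [h]; ring
            rcases ih (fun q hq => hl q (List.mem_cons_of_mem _ hq)) x' y h' with hx | hy
            · left; rw [map_mul]; exact hpu.mul hx
            · exact Or.inr hy
          · have h' : l.prod * b = x * y' := by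
              apply mul_left_cancel₀ hp.ne_zero
              rw [h]; ring
            rcases ih (fun q hq => hl q (List.mem_cons_of_mem _ hq)) x y' h' with hx | hy
            · exact Or.inl hx
            · right; rw [map_mul]; exact hpu.mul hy
      -- b is irreducible in the localization
      have hirr : Irreducible (algebraMap A (Localization S) b) := by
        rw [irreducible_iff]
        constructor
        · intro hu
          obtain ⟨w, hw⟩ := hu.exists_right_inv
          obtain ⟨⟨x, s⟩, rfl⟩ := IsLocalization.mk'_surjective S w
          simp only at hw
          have h1 : algebraMap A (Localization S) (b * x) = algebraMap A (Localization S) (s * 1) := by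
            rw [map_mul, map_mul, map_one, mul_one, ← IsLocalization.mk'_spec (Localization S) x s,
              ← mul_assoc, hw, one_mul]
          have h2 := hinj h1
          have := hK' s s.2 x 1 h2.symm
          exact hb.not_isUnit (isUnit_of_dvd_one this)
        · intro u v huv
          obtain ⟨⟨x, s⟩, rfl⟩ := IsLocalization.mk'_surjective S u
          obtain ⟨⟨y, t⟩, rfl⟩ := IsLocalization.mk'_surjective S v
          simp only at huv
          rw [← IsLocalization.mk'_mul, IsLocalization.eq_mk'_iff_mul_eq, ← map_mul] at huv
          have h2 := hinj huv
          obtain ⟨l, hl, hlprod⟩ := Submonoid.exists_list_of_mem_closure (s * t).2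
          have h3 : l.prod * b = x * y := by rw [hlprod, mul_comm]; exact h2
          rcases hC l hl x y h3 with hx | hy
          · left
            have := IsLocalization.mk'_spec (Localization S) x s
            rw [← this] at hx
            exact isUnit_of_mul_isUnit_left hx
          · right
            have := IsLocalization.mk'_spec (Localization S) y t
            rw [← this] at hy
            exact isUnit_of_mul_isUnit_left hy
      have hprime : Prime (algebraMap A (Localization S) b) :=
        UniqueFactorizationMonoid.irreducible_iff_prime.mp hirr
      refine ⟨hb.ne_zero, hb.not_isUnit, ?_⟩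
      intro x y hxy
      have hdvd : algebraMap A (Localization S) b ∣ algebraMap A (Localization S) x *
          algebraMap A (Localization S) y := by
        rw [← map_mul]; exact map_dvd _ hxy
      have aux : ∀ z : A, algebraMap A (Localization S) b ∣ algebraMap A (Localization S) z → b ∣ z := by
        intro z ⟨w, hw⟩
        obtain ⟨⟨c, s⟩, rfl⟩ := IsLocalization.mk'_surjective S w
        simp only at hw
        have h1 : algebraMap A (Localization S) (s * z) = algebraMap A (Localization S) (b * c) := by
          rw [map_mul, map_mul, hw, ← IsLocalization.mk'_spec (Localization S) c s]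
          ring
        exact hK' s s.2 c z (hinj h1)
      rcases hprime.dvd_or_dvd hdvd with h | h
      · exact Or.inl (aux x h)
      · exact Or.inr (aux y h)
  apply UniqueFactorizationMonoid.of_exists_prime_factors
  intro a ha
  by_cases hu : IsUnit a
  · exact ⟨0, by simp, by simpa using (associated_one_iff_isUnit.mpr hu).symm⟩
  · obtain ⟨f, hf, hfa⟩ := hfac a ha hu
    exact ⟨f, fun b hb => key b (hf b hb), hfa⟩

end Groth.Agent.S2119
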