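import Groth.Statements.S2120
import Mathlib.AlgebraicGeometry.Morphisms.UniversallyClosed
import Mathlib.AlgebraicGeometry.Morphisms.Separated
import Mathlib.AlgebraicGeometry.Morphisms.QuasiSeparated
import Mathlib.AlgebraicGeometry.Morphisms.Immersion

set_option autoImplicit false
universe u
open CategoryTheory AlgebraicGeometry
open Mor

namespace Groth.Agent.S2120

open CategoryTheory.Limits

/-- Let `f : X → Y` be surjective and universally closed. If `X` is quasi-separated then so is `Y`; if
`X` is separated then so is `Y`. -/
theorem result {X Y : Scheme.{u}} (f : X ⟶ Y) [Surjective f] [UniversallyClosed f] :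
    (QuasiSeparatedSpace X → QuasiSeparatedSpace Y) ∧ (X.IsSeparated → Y.IsSeparated) := by
  let F : pullback (terminal.from X) (terminal.from X) ⟶ pullback (terminal.from Y) (terminal.from Y) :=
    pullback.map (terminal.from X) (terminal.from X) (terminal.from Y) (terminal.from Y) f f (𝟙 _)
      (by simp) (by simp)
  have hUC : UniversallyClosed F :=
    MorphismProperty.pullbackMap (P := @UniversallyClosed) ‹UniversallyClosed f› ‹UniversallyClosed f›
      (by simp) (by simp)
  have hcomm : pullback.diagonal (terminal.from X) ≫ F = f ≫ pullback.diagonal (terminal.from Y) := by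
    apply pullback.hom_ext
    · simp only [F, Category.assoc]
      rw [pullback.lift_fst, pullback.diagonal_fst_assoc, pullback.diagonal_fst, Category.comp_id]
    · simp only [F, Category.assoc]
      rw [pullback.lift_snd, pullback.diagonal_snd_assoc, pullback.diagonal_snd, Category.comp_id]
  have hrange : Set.range (pullback.diagonal (terminal.from Y)) =
      F '' Set.range (pullback.diagonal (terminal.from X)) := by
    rw [← Set.range_comp]
    have h1 : (⇑F ∘ ⇑(pullback.diagonal (terminal.from X))) =
        ⇑(pullback.diagonal (terminal.from X) ≫ F) := by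
      ext x; simp
    rw [h1, hcomm]
    have h2 : ⇑(f ≫ pullback.diagonal (terminal.from Y)) =
        ⇑(pullback.diagonal (terminal.from Y)) ∘ ⇑f := by
      ext x; simp
    rw [h2, Set.range_comp, Set.range_eq_univ.mpr f.surjective, Set.image_univ]
  constructor
  · intro hX
    rw [quasiSeparatedSpace_iff_quasiSeparated] at hX ⊢
    constructor
    have h1 : QuasiCompact (f ≫ pullback.diagonal (terminal.from Y)) := by
      rw [← hcomm]; infer_instance
    rw [quasiCompact_iff] at h1 ⊢
    intro U hU hUc
    have := h1 U hU hUc
    have h3 : pullback.diagonal (terminal.from Y) ⁻¹' U =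
        f '' ((f ≫ pullback.diagonal (terminal.from Y)) ⁻¹' U) := by
      ext y
      constructor
      · intro hy
        obtain ⟨x, rfl⟩ := f.surjective y
        exact ⟨x, by simpa using hy, rfl⟩
      · rintro ⟨x, hx, rfl⟩
        simpa using hx
    rw [h3]
    exact this.image f.continuous
  · intro hX
    rw [Scheme.isSeparated_iff, isSeparated_iff] at hX ⊢
    apply IsClosedImmersion.of_isPreimmersion
    rw [hrange]
    exact F.isClosedMap _ (pullback.diagonal (terminal.from X)).isClosedEmbedding.isClosed_range

end Groth.Agent.S2120
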