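import Groth.Statements.S2121
import Mathlib
import Groth.Agent.Lib.Helper16.SchemeTop

set_option autoImplicit false
universe u
open CategoryTheory AlgebraicGeometry
open Mor

namespace Groth.Agent.S2121

/-- Let `f : X → Y` be quasi-compact and `z` a point in the closure of `f(X)` (the underlying set of the
scheme theoretic image). Then there are a valuation ring `A` with fraction field `K` and morphisms
`Spec K → X`, `Spec A → Y` forming a commutative square with `f` and `Spec K → Spec A`, such that
the closed point of `Spec A` maps to `z`. -/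
theorem result {X Y : Scheme.{u}} (f : X ⟶ Y) [QuasiCompact f] (z : Y)
    (hz : z ∈ closure (Set.range f.base)) :
    ∃ (A : Type u) (_ : CommRing A) (_ : IsDomain A) (_ : ValuationRing A)
      (x : Spec (CommRingCat.of (FractionRing A)) ⟶ X) (y : Spec (CommRingCat.of A) ⟶ Y),
      x ≫ f = Spec.map (CommRingCat.ofHom (algebraMap A (FractionRing A))) ≫ y ∧
      y.base (IsLocalRing.closedPoint A) = z := by
  classical
  obtain ⟨x₀, hx₀⟩ := Groth.Agent.Lib.Helper16.exists_specializes_of_mem_closure_range f z hz
  let φ : Y.presheaf.stalk z →+* X.residueField x₀ :=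
    (Y.presheaf.stalkSpecializes hx₀ ≫ Y.residue (f x₀) ≫ f.residueFieldMap x₀).hom
  obtain ⟨V, hV, hVloc⟩ := IsLocalRing.exists_factor_valuationRing φ
  let β : Y.presheaf.stalk z →+* V := φ.codRestrict V.toSubring hV
  have hβloc : IsLocalHom β := hVloc
  let e : FractionRing V ≃ₐ[V] X.residueField x₀ := FractionRing.algEquiv V (X.residueField x₀)
  refine ⟨V, inferInstance, inferInstance, inferInstance,
    Spec.map (CommRingCat.ofHom (e.symm : X.residueField x₀ →+* FractionRing V)) ≫
      X.fromSpecResidueField x₀,
    Spec.map (CommRingCat.ofHom β) ≫ Y.fromSpecStalk z, ?_, ?_⟩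
  · have e1 : CommRingCat.ofHom β ≫ CommRingCat.ofHom (algebraMap V (FractionRing V)) =
        (Y.presheaf.stalkSpecializes hx₀ ≫ Y.residue (f x₀) ≫ f.residueFieldMap x₀) ≫
          CommRingCat.ofHom (e.symm : X.residueField x₀ →+* FractionRing V) := by
      ext b
      change algebraMap V (FractionRing V) (β b) = e.symm (φ b)
      have : φ b = algebraMap V (X.residueField x₀) (β b) := rfl
      rw [this, AlgEquiv.commutes]
    rw [Category.assoc, ← Scheme.Hom.SpecMap_residueFieldMap_fromSpecResidueField,
      ← Category.assoc (Spec.map _) (Spec.map _) (Y.fromSpecStalk z), ← Spec.map_comp, e1]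
    simp only [Spec.map_comp, Category.assoc]
    rw [Scheme.SpecMap_stalkSpecializes_fromSpecStalk]
    rfl
  · change (Y.fromSpecStalk z) ((Spec.map (CommRingCat.ofHom β)) (IsLocalRing.closedPoint V)) = z
    have : (Spec.map (CommRingCat.ofHom β)) (IsLocalRing.closedPoint V) =
        IsLocalRing.closedPoint (Y.presheaf.stalk z) := IsLocalRing.comap_closedPoint β
    rw [this, Scheme.fromSpecStalk_closedPoint]

end Groth.Agent.S2121
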