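import Groth.Statements.S2122
import Groth.Agent.Lib.Helper3.InvMonoidal

set_option autoImplicit false
universe u
open CategoryTheory AlgebraicGeometry
open Mor

namespace Groth.Agent.S2122

open TopologicalSpace Opposite Scheme.Modules TensorProduct
open Groth.Agent.Lib.Helper3 Groth.Agent.Lib.Helper3.QCSec Groth.Agent.Lib.Helper3.InvGen
  Groth.Agent.Lib.Helper3.InvTensor Groth.Agent.Lib.Helper3.InvMonoidal
  Groth.Agent.Lib.Helper3.QCExact

section Algebra

variable {R M N A : Type*} [CommRing R] [AddCommGroup M] [Module R M] [AddCommGroup N]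
  [Module R N]

theorem eq_zero_of_tmul_of_coord (cl : N →ₗ[R] R) (n : N) (hn : cl n = 1) (k : M)
    (h : k ⊗ₜ[R] n = 0) : k = 0 := by
  let φ : M ⊗[R] N →ₗ[R] M :=
    (TensorProduct.rid R M).toLinearMap ∘ₗ LinearMap.lTensor M cl
  have h1 : φ (k ⊗ₜ[R] n) = k := by
    simp [φ, hn]
  rw [h, map_zero] at h1
  exact h1.symm

theorem exists_pure_of_isUnit [CommRing A] [IsLocalRing A] (Φ : M ⊗[R] N → A) (h0 : Φ 0 = 0)
    (hadd : ∀ a b, Φ (a + b) = Φ a + Φ b) (y : M ⊗[R] N) (hy : IsUnit (Φ y)) :
    ∃ m n, IsUnit (Φ (m ⊗ₜ[R] n)) := by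
  induction y using TensorProduct.induction_on with
  | zero =>
    rw [h0] at hy
    exact absurd hy not_isUnit_zero
  | tmul m n => exact ⟨m, n, hy⟩
  | add a b ha hb =>
    rw [hadd] at hy
    rcases IsLocalRing.isUnit_or_isUnit_of_isUnit_add hy with h | h
    · exact ha h
    · exact hb h

end Algebra

variable {X : Scheme.{u}}

theorem app_smul' {M N : X.Modules} (φ : M ⟶ N) (W : X.Opens) (r : Γ(X, W)) (a : Γ(M, W)) :
    φ.app W (r • a) = r • φ.app W a := Scheme.Modules.Hom.app_smul φ r a

/-- the coordinate function attached to `e : L ⊗ N ≅ O` -/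
noncomputable def coord {L N : X.Modules} (e : CohB1.tensorMod L N ≅ Coh.structureModule X)
    (W : X.Opens) (k : Γ(L, W)) (ν : Γ(N, W)) : Γ(X, W) :=
  toFun W (e.hom.app W (tm L N W k ν))

section coord

variable {L N : X.Modules} (e : CohB1.tensorMod L N ≅ Coh.structureModule X)

theorem coord_add_right (W : X.Opens) (k : Γ(L, W)) (ν ν' : Γ(N, W)) :
    coord e W k (ν + ν') = coord e W k ν + coord e W k ν' := by
  unfold coord
  rw [tm_add_right, app_add]
  rfl

theorem coord_sub_left (W : X.Opens) (k k' : Γ(L, W)) (ν : Γ(N, W)) :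
    coord e W (k - k') ν = coord e W k ν - coord e W k' ν := by
  unfold coord
  rw [tm_sub_left, app_sub]
  rfl

theorem coord_smul_left (W : X.Opens) (r : Γ(X, W)) (k : Γ(L, W)) (ν : Γ(N, W)) :
    coord e W (r • k) ν = r * coord e W k ν := by
  unfold coord
  rw [tm_smul_left, app_smul']
  rfl

theorem coord_smul_right (W : X.Opens) (r : Γ(X, W)) (k : Γ(L, W)) (ν : Γ(N, W)) :
    coord e W k (r • ν) = r * coord e W k ν := by
  unfold coord
  rw [tm_smul_right, app_smul']
  rfl

theorem coord_res {W W' : X.Opens} (h : W' ≤ W) (k : Γ(L, W)) (ν : Γ(N, W)) :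
    rres X h (coord e W k ν) = coord e W' (res L h k) (res N h ν) := by
  unfold coord
  rw [← tm_res, app_res']
  rfl

theorem eq_zero_of_coord_eq_zero {W : X.Opens} (l : Γ(L, W)) (n : Γ(N, W))
    (h1 : coord e W l n = 1) (k : Γ(L, W)) (hk : coord e W k n = 0) : k = 0 := by
  have htm : tm L N W k n = 0 := by
    have h2 : e.hom.app W (tm L N W k n) = 0 := hk
    have h3 := congrArg (e.inv.app W) h2
    rw [iso_inv_hom_app, app_zero] at h3
    exact h3
  have key : ∀ x : {x : X // x ∈ W}, ∃ (W' : X.Opens) (hW' : W' ≤ W),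
      x.1 ∈ W' ∧ res L hW' k = 0 := by
    intro x
    obtain ⟨W', hW', hxW', h0⟩ := local_inj L N W _ htm x.1 x.2
    refine ⟨W', hW', hxW', ?_⟩
    rw [pre_map_tmul] at h0
    have hadd : ∀ a b : Γ(N, W'), coord e W' (res L hW' l) (a + b) =
        coord e W' (res L hW' l) a + coord e W' (res L hW' l) b :=
      fun a b => coord_add_right e W' _ a b
    have hsmul : ∀ (r : Γ(X, W')) (a : Γ(N, W')), coord e W' (res L hW' l) (r • a) =
        r * coord e W' (res L hW' l) a :=
      fun r a => coord_smul_right e W' r _ a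
    have hn : coord e W' (res L hW' l) (res N hW' n) = 1 := by
      rw [← coord_res, h1, rres_one]
    let cl : ((CohB1.toPMod N).obj (op W')) →ₗ[Rg X W'] (Rg X W') :=
      { toFun := fun ν => coord e W' (res L hW' l) ν
        map_add' := hadd
        map_smul' := hsmul }
    exact eq_zero_of_tmul_of_coord (R := Rg X W') (M := (CohB1.toPMod L).obj (op W'))
      (N := (CohB1.toPMod N).obj (op W')) cl (res N hW' n) hn _ h0
  choose W' hW' hxW' h0 using key
  apply sec_eq_of_locally_eq L W' W hW'
    (fun x hx => Opens.mem_iSup.mpr ⟨⟨x, hx⟩, hxW' ⟨x, hx⟩⟩)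
  intro i
  rw [h0 i, res_zero]

theorem isGen_of_coord_one {V : X.Opens} (l : Γ(L, V)) (n : Γ(N, V))
    (h1 : coord e V l n = 1) : IsGen L V l := by
  intro W hW
  have h1W : coord e W (res L hW l) (res N hW n) = 1 := by
    rw [← coord_res, h1, rres_one]
  constructor
  · intro a b hab
    dsimp only at hab
    have h2 := congrArg (fun k => coord e W k (res N hW n)) hab
    simp only [coord_smul_left, h1W, mul_one] at h2
    exact h2
  · intro k
    refine ⟨coord e W k (res N hW n), ?_⟩
    dsimp only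
    have hk : coord e W (k - coord e W k (res N hW n) • res L hW l) (res N hW n) = 0 := by
      rw [coord_sub_left, coord_smul_left, h1W, mul_one, sub_self]
    have h3 := eq_zero_of_coord_eq_zero e (res L hW l) (res N hW n) h1W _ hk
    exact (sub_eq_zero.mp h3).symm

theorem exists_coord_one (x : X) :
    ∃ (V : X.Opens) (_ : x ∈ V) (l : Γ(L, V)) (n : Γ(N, V)), coord e V l n = 1 := by
  obtain ⟨V, hVU, hxV, y, hy⟩ := exists_local_rep L N ⊤ (e.inv.app ⊤ (ofFun ⊤ 1)) x trivial
  have hΦy : toFun V (e.hom.app V (((SecTwist.toTensor L N).app (op V)).hom y)) = 1 := by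
    rw [hy, app_res', iso_hom_inv_app, res_ofFun, rres_one]
    rfl
  let T := ((SecTwist.toTensor L N).app (op V)).hom
  let Ψ : Γ(CohB1.tensorMod L N, V) → X.presheaf.stalk x := fun z =>
    (X.presheaf.germ V x hxV).hom (toFun V (e.hom.app V z))
  have Ψadd : ∀ z z', Ψ (z + z') = Ψ z + Ψ z' := by
    intro z z'
    show (X.presheaf.germ V x hxV).hom (toFun V (e.hom.app V (z + z'))) = _
    rw [app_add]
    exact map_add _ _ _
  have Ψzero : Ψ 0 = 0 := by
    show (X.presheaf.germ V x hxV).hom (toFun V (e.hom.app V 0)) = _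
    rw [app_zero]
    exact map_zero _
  obtain ⟨l, n, hln⟩ := exists_pure_of_isUnit (R := Rg X V)
    (M := (CohB1.toPMod L).obj (op V)) (N := (CohB1.toPMod N).obj (op V))
    (A := X.presheaf.stalk x)
    (fun y => Ψ (T y))
    ((congrArg Ψ (map_zero T)).trans Ψzero)
    (fun a b => (congrArg Ψ (map_add T a b)).trans (Ψadd _ _))
    y (by
      show IsUnit ((X.presheaf.germ V x hxV).hom
        (toFun V (e.hom.app V (((SecTwist.toTensor L N).app (op V)).hom y))))
      rw [hΦy, map_one]
      exact isUnit_one)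
  -- `l`, `n` with `coord e V l n` a unit at `x`
  have hx' : x ∈ X.basicOpen (coord e V l n) := (X.mem_basicOpen _ x hxV).mpr hln
  have hle : X.basicOpen (coord e V l n) ≤ V := X.basicOpen_le _
  have hu : IsUnit (rres X hle (coord e V l n)) :=
    X.toRingedSpace.isUnit_res_basicOpen (coord e V l n)
  obtain ⟨v, hv⟩ := hu.exists_left_inv
  refine ⟨X.basicOpen (coord e V l n), hx', res L hle l, v • res N hle n, ?_⟩
  rw [coord_smul_right, ← coord_res, hv]

end coord

/-- On a scheme X, if an O_X-module L admits an O_X-module N with L ⊗ N ≅ O_X, then L is invertible: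
locally on X it is isomorphic to O_X (locally free of rank one). -/
theorem result {X : Scheme.{u}} (L N : X.Modules)
    (e : CohB1.tensorMod L N ≅ Coh.structureModule X) : PicF.IsInvertible L := by
  exact isInvertible_of_isGen fun x => by
    obtain ⟨V, hxV, l, n, h⟩ := exists_coord_one e x
    exact ⟨V, l, hxV, isGen_of_coord_one e l n h⟩

end Groth.Agent.S2122
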