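import Groth.Statements.S2123
import Mathlib.AlgebraicGeometry.FunctionField
import Mathlib.AlgebraicGeometry.Morphisms.Separated
import Mathlib.AlgebraicGeometry.Stalk

set_option autoImplicit false
universe u
open CategoryTheory AlgebraicGeometry
open Mor

namespace Groth.Agent.S2123

/-- Let `X` be an integral separated scheme and `x, y` points such that the closure of `x` is not
contained in the closure of `y`. Then, inside the function field of `X`, the local ring at `x` is
not contained in the local ring at `y`. -/
theorem result (X : Scheme.{u}) [IsIntegral X] [X.IsSeparated] (x y : X)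
    (h : ¬ closure ({x} : Set X) ⊆ closure {y}) :
    ¬ Set.range (X.presheaf.stalkSpecializes (genericPoint_specializes x)) ⊆
        Set.range (X.presheaf.stalkSpecializes (genericPoint_specializes y)) := by
  intro hsub
  apply h
  rw [← specializes_iff_closure_subset]
  set ιx : X.presheaf.stalk x →+* X.functionField :=
    (X.presheaf.stalkSpecializes (genericPoint_specializes x)).hom with hιx
  set ιy : X.presheaf.stalk y →+* X.functionField :=
    (X.presheaf.stalkSpecializes (genericPoint_specializes y)).hom with hιy
  have hinjy : Function.Injective ιy :=
    IsFractionRing.injective (X.presheaf.stalk y) X.functionField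
  have hex : ∀ a : X.presheaf.stalk x, ∃ b : X.presheaf.stalk y, ιy b = ιx a :=
    fun a => hsub ⟨a, rfl⟩
  choose φf hφf using hex
  let φ : X.presheaf.stalk x →+* X.presheaf.stalk y :=
    { toFun := φf
      map_one' := hinjy (by rw [hφf, map_one, map_one])
      map_mul' := fun a b => hinjy (by rw [hφf, map_mul, map_mul, hφf, hφf])
      map_zero' := hinjy (by rw [hφf, map_zero, map_zero])
      map_add' := fun a b => hinjy (by rw [hφf, map_add, map_add, hφf, hφf]) }
  have hφ : CommRingCat.ofHom φ ≫ X.presheaf.stalkSpecializes (genericPoint_specializes y) =
      X.presheaf.stalkSpecializes (genericPoint_specializes x) := by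
    ext a
    exact hφf a
  have hdom : IsDominant (Spec.map (X.presheaf.stalkSpecializes (genericPoint_specializes y))) := by
    constructor
    change DenseRange (PrimeSpectrum.comap ιy)
    rw [PrimeSpectrum.denseRange_comap_iff_ker_le_nilRadical]
    rw [(RingHom.injective_iff_ker_eq_bot ιy).mp hinjy]
    exact bot_le
  have key : Spec.map (CommRingCat.ofHom φ) ≫ X.fromSpecStalk x = X.fromSpecStalk y := by
    apply ext_of_isDominant (ι := Spec.map (X.presheaf.stalkSpecializes (genericPoint_specializes y)))
    rw [← Category.assoc, ← Spec.map_comp, hφ, Scheme.SpecMap_stalkSpecializes_fromSpecStalk,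
      Scheme.SpecMap_stalkSpecializes_fromSpecStalk]
  have := Scheme.fromSpecStalk_closedPoint (x := y)
  rw [← key] at this
  have hy : y ∈ Set.range (X.fromSpecStalk x) := ⟨_, this⟩
  rw [Scheme.range_fromSpecStalk] at hy
  exact hy

end Groth.Agent.S2123
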