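import Groth.Statements.S2126
import Groth.Agent.Lib.Helper3.InvAmple

set_option autoImplicit false
universe u
open CategoryTheory AlgebraicGeometry
open Mor

namespace Groth.Agent.S2126

/-- Let `X` be a quasi-compact scheme and `L` an invertible `O_X`-module. Then `L` is ample if and only
if the opens `X_s`, for `s` a global section of some positive tensor power of `L`, form a basis for
the topology of `X`. -/
theorem result {X : Scheme.{u}} [CompactSpace X] (L : X.Modules) (hL : PicF.IsInvertible L) :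
    CohB1.IsAmple L ↔
      TopologicalSpace.Opens.IsBasis
        {U : X.Opens | ∃ (n : ℕ) (s : Coh.structureModule X ⟶ CohB1.tensorPow L (n + 1)), U = CohB1.genLocus _ s} := by
  constructor
  · intro hA
    haveI : X.IsSeparated :=
      Groth.Agent.Lib.Helper3.InvAmple.isSeparated_of_secLocus_cover hL
        (Groth.Agent.Lib.Helper3.InvAmple.exists_secLocus_of_isAmple hA)
    refine TopologicalSpace.Opens.isBasis_iff_nbhd.mpr ?_
    intro U x hx
    obtain ⟨W, hW, hxW, hWU, -⟩ :=
      Groth.Agent.Lib.Helper3.InvAmple.exists_secLocus_nbhd hA x U hx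
    exact ⟨W, hW, hxW, hWU⟩
  · intro hB
    refine ⟨hL, inferInstance, fun x => ?_⟩
    obtain ⟨U, hU, hxU⟩ : ∃ U : X.Opens, IsAffineOpen U ∧ x ∈ U := by
      obtain ⟨_, ⟨U, hU, rfl⟩, hxU, -⟩ := (X.isBasis_affineOpens).exists_subset_of_mem_open
        (Set.mem_univ x) isOpen_univ
      exact ⟨U, hU, hxU⟩
    obtain ⟨W, ⟨n, s, rfl⟩, hxW, hWU⟩ := TopologicalSpace.Opens.isBasis_iff_nbhd.mp hB hxU
    refine ⟨n, s, hxW, ?_⟩
    have h := Groth.Agent.Lib.Helper3.InvAmple.isAffineOpen_genLocus_inf
      (Groth.Agent.Lib.Helper3.InvTensor.isInvertible_tensorPow hL (n + 1)) s hU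
    rwa [inf_eq_left.mpr hWU] at h

end Groth.Agent.S2126
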