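import Groth.Statements.S2130
import Mathlib
import Groth.Agent.S9237
import Groth.Agent.Lib.Helper8.SmoothBranchesHens

set_option autoImplicit false
universe u
open CAlg

namespace Groth.Agent.S2130

/-- Let `R → S` be smooth, `𝔮` a prime of `S` over `𝔭` with `κ(𝔮)/κ(𝔭)` purely inseparable, and `A = R_𝔭
→ B = S_𝔮`. Then henselizations of `A` and `B` have the same number of minimal prime ideals (the
same number of branches). -/
theorem result {R S Ah Bh : Type u} [CommRing R] [CommRing S]
    [Algebra R S] [Algebra.Smooth R S] (q : Ideal S) [q.IsPrime] (p : Ideal R) [p.IsPrime] [q.LiesOver p]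
    (hpi : @IsPurelyInseparable p.ResidueField q.ResidueField _ _
      (Ideal.ResidueField.mapₐ p q (Algebra.ofId R S) (q.over_def p)).toRingHom.toAlgebra)
    [CommRing Ah] [IsLocalRing Ah] [Algebra (Localization.AtPrime p) Ah]
    [IsLocalHom (algebraMap (Localization.AtPrime p) Ah)] [Hensel.IsHenselization (Localization.AtPrime p) Ah]
    [CommRing Bh] [IsLocalRing Bh] [Algebra (Localization.AtPrime q) Bh]
    [IsLocalHom (algebraMap (Localization.AtPrime q) Bh)] [Hensel.IsHenselization (Localization.AtPrime q) Bh] :
    (minimalPrimes Ah).encard = (minimalPrimes Bh).encard := by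
  letI algκ : Algebra p.ResidueField q.ResidueField :=
    (Ideal.ResidueField.mapₐ p q (Algebra.ofId R S) (q.over_def p)).toRingHom.toAlgebra
  haveI : IsPurelyInseparable p.ResidueField q.ResidueField := hpi
  have hexp : ringExpChar q.ResidueField = ringExpChar p.ResidueField := by
    haveI : ExpChar p.ResidueField (ringExpChar p.ResidueField) := ringExpChar.expChar _
    haveI : ExpChar q.ResidueField (ringExpChar p.ResidueField) :=
      expChar_of_injective_algebraMap (algebraMap p.ResidueField q.ResidueField).injective _
    exact ringExpChar.eq _ _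
  have hpiB : ∀ b : Localization.AtPrime q, ∃ (n : ℕ) (a : Localization.AtPrime p),
      b ^ (ringExpChar (IsLocalRing.ResidueField (Localization.AtPrime q))) ^ n -
        Localization.localRingHom p q (algebraMap R S) (q.over_def p) a ∈
          IsLocalRing.maximalIdeal (Localization.AtPrime q) := by
    intro b
    haveI : ExpChar p.ResidueField (ringExpChar p.ResidueField) := ringExpChar.expChar _
    obtain ⟨n, y, hy⟩ := IsPurelyInseparable.pow_mem p.ResidueField
      (ringExpChar p.ResidueField) (IsLocalRing.residue (Localization.AtPrime q) b)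
    obtain ⟨a, rfl⟩ := IsLocalRing.residue_surjective y
    refine ⟨n, a, ?_⟩
    rw [hexp, ← IsLocalRing.residue_eq_zero_iff, map_sub, map_pow, ← hy]
    exact sub_self _
  rw [← ENat.card_coe_set_eq, ← ENat.card_coe_set_eq,
    Groth.Agent.S9237.result (Localization.AtPrime p) Ah,
    Groth.Agent.S9237.result (Localization.AtPrime q) Bh]
  exact Groth.Agent.Lib.Helper8.SmoothBranchesHens.numBranches_eq_of_smooth R S p q hpiB

end Groth.Agent.S2130
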