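import Groth.Statements.S2131
import Mathlib.Algebra.Module.FinitePresentation
import Mathlib.Algebra.Module.LocalizedModule.Basic
import Mathlib.RingTheory.Spectrum.Prime.Topology
import Mathlib.RingTheory.Localization.Module

set_option autoImplicit false
universe u
open CAlg

namespace Groth.Agent.S2131

theorem bijective_map_of_powers {R M N : Type u} [CommRing R] [AddCommGroup M] [Module R M]
    [AddCommGroup N] [Module R N] (φ : M →ₗ[R] N) (r : R) (T : Submonoid R) (hr : r ∈ T)
    (h : Function.Bijective (LocalizedModule.map (Submonoid.powers r) φ)) :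
    Function.Bijective (LocalizedModule.map T φ) := by
  constructor
  · rw [injective_iff_map_eq_zero]
    intro x hx
    induction x using LocalizedModule.induction_on with
    | h m s =>
      rw [LocalizedModule.map_mk, ← LocalizedModule.zero_mk s, LocalizedModule.mk_eq] at hx
      obtain ⟨c, hc⟩ := hx
      simp only [smul_zero] at hc
      -- c • s • φ m = 0
      have h1 : LocalizedModule.map (Submonoid.powers r) φ
          (LocalizedModule.mk ((c : R) • (s : R) • m) 1) = 0 := by
        rw [LocalizedModule.map_mk, map_smul, map_smul]
        have : (c : R) • (s : R) • φ m = 0 := hc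
        rw [this, LocalizedModule.zero_mk]
      have h2 := h.1 (h1.trans (map_zero _).symm)
      rw [← LocalizedModule.zero_mk (1 : Submonoid.powers r), LocalizedModule.mk_eq] at h2
      obtain ⟨⟨_, a, rfl⟩, ha⟩ := h2
      simp only [smul_zero, one_smul] at ha
      rw [← LocalizedModule.zero_mk s, LocalizedModule.mk_eq]
      refine ⟨⟨r ^ a, pow_mem hr a⟩ * c * s, ?_⟩
      simp only [smul_zero]
      have ha' : (r ^ a) • (c : R) • (s : R) • m = 0 := ha
      change ((r ^ a * (c : R) * (s : R)) • (s : R) • m) = 0
      rw [smul_comm, mul_smul, mul_smul, ha', smul_zero]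
  · intro y
    induction y using LocalizedModule.induction_on with
    | h n s =>
      obtain ⟨x, hx⟩ := h.2 (LocalizedModule.mk n 1)
      induction x using LocalizedModule.induction_on with
      | h m t =>
        obtain ⟨_, k, rfl⟩ := t
        rw [LocalizedModule.map_mk, LocalizedModule.mk_eq] at hx
        obtain ⟨⟨_, a, rfl⟩, ha⟩ := hx
        simp only [one_smul] at ha
        have ha' : (r ^ a) • φ m = (r ^ a) • (r ^ k) • n := ha
        refine ⟨LocalizedModule.mk m (⟨r ^ k, pow_mem hr k⟩ * s), ?_⟩
        rw [LocalizedModule.map_mk, LocalizedModule.mk_eq]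
        refine ⟨⟨r ^ a, pow_mem hr a⟩, ?_⟩
        change (r ^ a) • (s : R) • φ m = (r ^ a) • ((r ^ k) * (s : R)) • n
        rw [smul_comm, ha', mul_comm, mul_smul, smul_comm (r ^ a) (s : R)]

/-- For an `R`-linear map from a finite module to a finitely presented module, the primes at which its
localization is bijective form an open subset of `Spec R`. -/
theorem result {R M N : Type u} [CommRing R] [AddCommGroup M] [Module R M] [Module.Finite R M]
    [AddCommGroup N] [Module R N] [Module.FinitePresentation R N] (φ : M →ₗ[R] N) :
    IsOpen {p : PrimeSpectrum R | Function.Bijective (LocalizedModule.map p.asIdeal.primeCompl φ)} := by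
  rw [isOpen_iff_forall_mem_open]
  intro p hp
  have hf : Function.Bijective (IsLocalizedModule.map p.asIdeal.primeCompl
      (LocalizedModule.mkLinearMap p.asIdeal.primeCompl M)
      (LocalizedModule.mkLinearMap p.asIdeal.primeCompl N) φ) := hp
  obtain ⟨r, hr, hrt⟩ := exists_bijective_map_powers
    p.asIdeal.primeCompl _ _ φ hf
  refine ⟨PrimeSpectrum.basicOpen r, ?_, (PrimeSpectrum.basicOpen r).2, hr⟩
  intro q hq
  exact bijective_map_of_powers φ r q.asIdeal.primeCompl hq (hrt r dvd_rfl)

end Groth.Agent.S2131
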