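import Groth.Statements.S2132
import Mathlib.RingTheory.Henselian
import Mathlib.Algebra.Category.Ring.Colimits
import Mathlib.CategoryTheory.Filtered.Basic
import Mathlib.RingTheory.LocalRing.RingHom.Basic
import Mathlib.Algebra.Category.Ring.FilteredColimits
import Mathlib.CategoryTheory.Limits.ConcreteCategory.Basic
import Groth.Agent.Lib.Helper3.HenselColimit

set_option autoImplicit false
universe u
open CategoryTheory
open CAlg

namespace Groth.Agent.S2132

open Groth.Agent.Lib.Helper3

/-- Let `F : J ⥤ CommRingCat` be a filtered diagram of henselian local rings with local transition maps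
and `c` a colimit cocone. Then the colimit is a henselian local ring. -/
theorem result {J : Type u} [SmallCategory J] [IsFiltered J] (F : J ⥤ CommRingCat.{u})
    (hF : ∀ j, HenselianLocalRing (F.obj j)) (hloc : ∀ (i j : J) (a : i ⟶ j), IsLocalHom (F.map a).hom)
    (c : Limits.Cocone F) (hc : Limits.IsColimit c) : HenselianLocalRing c.pt := by
  haveI : Nonempty J := IsFiltered.nonempty
  apply henselianLocalRing_of_directed (fun j => F.obj j) (fun j => (c.ι.app j).hom)
  · intro x
    exact Limits.Concrete.isColimit_exists_rep F hc x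
  · intro j₁ j₂
    refine ⟨IsFiltered.max j₁ j₂, (F.map (IsFiltered.leftToMax j₁ j₂)).hom,
      (F.map (IsFiltered.rightToMax j₁ j₂)).hom, hloc _ _ _, hloc _ _ _, ?_, ?_⟩
    · rw [← CommRingCat.hom_comp, c.w]
    · rw [← CommRingCat.hom_comp, c.w]
  · intro j y hy
    obtain ⟨k, f, g, hfg⟩ := Limits.Concrete.isColimit_exists_of_rep_eq F hc y (0 : F.obj j)
      (by rw [map_zero]; exact hy)
    refine ⟨k, (F.map f).hom, hloc _ _ _, by rw [← CommRingCat.hom_comp, c.w], ?_⟩
    have : (F.map g) (0 : F.obj j) = 0 := map_zero _
    rw [this] at hfg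
    exact hfg

end Groth.Agent.S2132
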