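import Groth.Statements.S2133
import Mathlib

set_option autoImplicit false
universe u
open CAlg

namespace Groth.Agent.S2133


open TrivSqZeroExt

theorem aux {R R' K : Type u} [CommRing R] [CommRing R'] [CommRing K] [Algebra R R'] [Algebra R' K]
    [Algebra R K] [IsScalarTower R R' K] [Algebra.FiniteType R R']
    (hinj : Function.Injective (algebraMap R R')) (g : R) (g₁ : R') (hg' : g₁ = algebraMap R R' g)
    [IsLocalization.Away g₁ K]
    (hg : IsSMulRegular R' (algebraMap R R' g))
    (hloc : ∀ x : R', ∃ n : ℕ, (algebraMap R R' g) ^ n * x ∈ Set.range (algebraMap R R'))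
    (D : Derivation ℤ R R) :
    ∃ (N : ℕ) (D' : Derivation ℤ R' R'),
      ∀ r : R, D' (algebraMap R R' r) = algebraMap R R' (g ^ N * D r) := by
  classical
  subst hg'
  set g' : R' := algebraMap R R' g with hg'
  let j : R' →+* K := algebraMap R' K
  have hjR : ∀ r : R, algebraMap R K r = j (algebraMap R R' r) :=
    fun r => IsScalarTower.algebraMap_apply R R' K r
  have hjinj : Function.Injective j := by
    rw [injective_iff_map_eq_zero]
    intro x hx
    obtain ⟨⟨_, n, rfl⟩, hm⟩ := (IsLocalization.map_eq_zero_iff (Submonoid.powers g') K x).mp hx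
    have hm' : g' ^ n * x = 0 := hm
    have h1 : g' ^ n • x = g' ^ n • (0 : R') := by rw [smul_zero, smul_eq_mul]; exact hm'
    exact (hg.pow n) h1
  have hunit : ∀ n : ℕ, IsUnit (j (g' ^ n)) :=
    fun n => IsLocalization.map_units K (⟨g' ^ n, n, rfl⟩ : Submonoid.powers g')
  haveI hloc' : IsLocalization (Submonoid.powers g) K := by
    rw [isLocalization_iff]
    refine ⟨?_, ?_, ?_⟩
    · rintro ⟨_, n, rfl⟩
      show IsUnit (algebraMap R K (g ^ n))
      rw [hjR, map_pow]; exact hunit n
    · intro z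
      obtain ⟨⟨x, ⟨_, m, rfl⟩⟩, hz⟩ := IsLocalization.surj (Submonoid.powers g') z
      have hz' : z * j (g' ^ m) = j x := hz
      obtain ⟨n, a, ha⟩ := hloc x
      refine ⟨(a, ⟨g ^ (m + n), m + n, rfl⟩), ?_⟩
      show z * algebraMap R K (g ^ (m + n)) = algebraMap R K a
      calc z * algebraMap R K (g ^ (m + n)) = z * j (g' ^ (m + n)) := by rw [hjR, map_pow]
        _ = (z * j (g' ^ m)) * j (g' ^ n) := by rw [pow_add, map_mul, mul_assoc]
        _ = j (g' ^ n * x) := by rw [hz', map_mul, mul_comm]
        _ = algebraMap R K a := by rw [← ha, hjR]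
    · intro a b hab
      refine ⟨1, ?_⟩
      rw [hjR, hjR] at hab
      rw [hinj (hjinj hab)]
  let φ : R →+* TrivSqZeroExt K K :=
    { toFun := fun r => inl (algebraMap R K r) + inr (algebraMap R K (D r))
      map_one' := by simp
      map_mul' := fun a b => by
        apply TrivSqZeroExt.ext
        · simp
        · simp only [snd_add, snd_inl, snd_inr, zero_add, snd_mul, fst_add, fst_inl, fst_inr,
            add_zero, Derivation.leibniz, smul_eq_mul, map_add, map_mul,
            MulOpposite.smul_eq_mul_unop, MulOpposite.unop_op]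
          ring
      map_zero' := by simp
      map_add' := fun a b => by
        apply TrivSqZeroExt.ext
        · simp
        · simp [Algebra.smul_def] }
  have hφ : ∀ r, φ r = inl (algebraMap R K r) + inr (algebraMap R K (D r)) := fun r => rfl
  have hφunit : ∀ y : Submonoid.powers g, IsUnit (φ y) := by
    rintro ⟨_, n, rfl⟩
    rw [isUnit_iff_isUnit_fst, hφ, fst_add, fst_inl, fst_inr, add_zero, hjR, map_pow]
    exact hunit n
  let ψ : K →+* TrivSqZeroExt K K := IsLocalization.lift hφunit
  have hψ : ∀ r : R, ψ (algebraMap R K r) = φ r := fun r => IsLocalization.lift_eq hφunit r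
  let fstR : TrivSqZeroExt K K →+* K :=
    { toFun := fst, map_one' := fst_one, map_mul' := fst_mul, map_zero' := fst_zero,
      map_add' := fst_add }
  have hfst : ∀ z : K, (ψ z).fst = z := by
    have h1 : (fstR.comp ψ) = RingHom.id K := by
      apply IsLocalization.ringHom_ext (Submonoid.powers g)
      ext r
      show fst (ψ (algebraMap R K r)) = algebraMap R K r
      rw [hψ, hφ, fst_add, fst_inl, fst_inr, add_zero]
    intro z
    exact RingHom.congr_fun h1 z
  let Dg : K → K := fun z => (ψ z).snd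
  have hDg_add : ∀ z w, Dg (z + w) = Dg z + Dg w := fun z w => by
    show (ψ (z + w)).snd = (ψ z).snd + (ψ w).snd
    rw [map_add, snd_add]
  have hDg_mul : ∀ z w, Dg (z * w) = z * Dg w + w * Dg z := fun z w => by
    show (ψ (z * w)).snd = z * (ψ w).snd + w * (ψ z).snd
    rw [map_mul, snd_mul, hfst, hfst]
    simp [mul_comm]
  have hDg_alg : ∀ r : R, Dg (algebraMap R K r) = algebraMap R K (D r) := fun r => by
    show (ψ (algebraMap R K r)).snd = _
    rw [hψ, hφ, snd_add, snd_inl, snd_inr, zero_add]
  obtain ⟨s, hs⟩ := (Algebra.FiniteType.out : (⊤ : Subalgebra R R').FG)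
  have hex : ∀ x : R', ∃ n : ℕ, ∀ m, n ≤ m → ∃ y : R', j y = j (g' ^ m) * Dg (j x) := by
    intro x
    obtain ⟨⟨y, ⟨_, n, rfl⟩⟩, hz⟩ := IsLocalization.surj (Submonoid.powers g') (Dg (j x))
    have hz' : Dg (j x) * j (g' ^ n) = j y := hz
    refine ⟨n, fun m hm => ⟨g' ^ (m - n) * y, ?_⟩⟩
    calc j (g' ^ (m - n) * y) = j (g' ^ (m - n)) * j y := map_mul _ _ _
      _ = j (g' ^ (m - n)) * (Dg (j x) * j (g' ^ n)) := by rw [hz']
      _ = j (g' ^ (m - n) * g' ^ n) * Dg (j x) := by rw [map_mul]; ring
      _ = j (g' ^ m) * Dg (j x) := by rw [← pow_add, Nat.sub_add_cancel hm]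
  choose nx hnx using hex
  have hmain : ∀ x : R', ∃ y : R', j y = j (g' ^ (s.sup nx)) * Dg (j x) := by
    intro x
    have hx : x ∈ Algebra.adjoin R (s : Set R') := by rw [hs]; trivial
    induction hx using Algebra.adjoin_induction with
    | mem x hx => exact hnx x _ (Finset.le_sup hx)
    | algebraMap r =>
      refine ⟨g' ^ (s.sup nx) * algebraMap R R' (D r), ?_⟩
      rw [map_mul, ← hjR, ← hjR, hDg_alg]
    | add x y _ _ hx hy =>
      obtain ⟨a, ha⟩ := hx
      obtain ⟨b, hb⟩ := hy
      exact ⟨a + b, by rw [map_add, map_add, hDg_add, ha, hb, mul_add]⟩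
    | mul x y _ _ hx hy =>
      obtain ⟨a, ha⟩ := hx
      obtain ⟨b, hb⟩ := hy
      refine ⟨x * b + y * a, ?_⟩
      rw [map_add, map_mul, map_mul, map_mul, hDg_mul, ha, hb]
      ring
  choose D'f hD'f using hmain
  have hadd : ∀ x y, D'f (x + y) = D'f x + D'f y := fun x y => hjinj (by
    rw [hD'f, map_add, map_add, hDg_add, mul_add, hD'f, hD'f])
  have hmul : ∀ x y, D'f (x * y) = x • D'f y + y • D'f x := fun x y => hjinj (by
    rw [hD'f, smul_eq_mul, smul_eq_mul, map_add, map_mul, map_mul, map_mul, hDg_mul, hD'f, hD'f]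
    ring)
  let D' : Derivation ℤ R' R' :=
    Derivation.mk' (AddMonoidHom.mk' D'f hadd).toIntLinearMap hmul
  refine ⟨s.sup nx, D', fun r => hjinj ?_⟩
  show j (D'f (algebraMap R R' r)) = j (algebraMap R R' (g ^ (s.sup nx) * D r))
  calc j (D'f (algebraMap R R' r)) = j (g' ^ (s.sup nx)) * Dg (j (algebraMap R R' r)) := hD'f _
    _ = j (g' ^ (s.sup nx)) * Dg (algebraMap R K r) := by rw [hjR]
    _ = j (g' ^ (s.sup nx)) * algebraMap R K (D r) := by rw [hDg_alg]
    _ = j (g' ^ (s.sup nx)) * j (algebraMap R R' (D r)) := by rw [hjR]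
    _ = j (algebraMap R R' (g ^ (s.sup nx) * D r)) := by
      rw [map_mul (algebraMap R R'), map_pow (algebraMap R R'), map_mul j]

/-- Let `R → R'` be an injective ring map of finite type and `g ∈ R` a nonzerodivisor on `R'` such that
every element of `R'` lands in `R` after multiplication by a power of `g` (so `R_g = R'_g`). Then
for every derivation `D` of `R` there is `N` such that `g^N D` extends to a derivation of `R'`. -/
theorem result {R R' : Type u} [CommRing R] [CommRing R'] [Algebra R R'] [Algebra.FiniteType R R']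
    (hinj : Function.Injective (algebraMap R R')) (g : R) (hg : IsSMulRegular R' (algebraMap R R' g))
    (hloc : ∀ x : R', ∃ n : ℕ, (algebraMap R R' g) ^ n * x ∈ Set.range (algebraMap R R')) (D : Derivation ℤ R R) :
    ∃ (N : ℕ) (D' : Derivation ℤ R' R'), ∀ r : R, D' (algebraMap R R' r) = algebraMap R R' (g ^ N * D r) := by
  exact aux (K := Localization.Away (algebraMap R R' g)) hinj g (algebraMap R R' g) rfl hg hloc D

end Groth.Agent.S2133
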