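import Groth.Statements.S2134
import Mathlib

set_option autoImplicit false
universe u
open CAlg

namespace Groth.Agent.S2134

/-- Let `K/k` be a field extension and `(K_α)` a nonempty family of intermediate fields, directed
downwards, with intersection `k`. For a `K`-subspace `V` of `K^n` (`n ≥ 1`), `V` contains a nonzero
vector with all coordinates in `k` if and only if for every `α` it contains a nonzero vector with
all coordinates in `K_α`. -/
theorem result {k K : Type u} [Field k] [Field K] [Algebra k K] {ι : Type u} [Nonempty ι]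
    (F : ι → IntermediateField k K) (hdir : ∀ a b : ι, ∃ c, F c ≤ F a ⊓ F b) (hinf : ⨅ a, F a = ⊥) (n : ℕ) (hn : 1 ≤ n)
    (V : Submodule K (Fin n → K)) :
    (∃ v ∈ V, v ≠ 0 ∧ ∀ i, v i ∈ Set.range (algebraMap k K)) ↔
      ∀ a, ∃ v ∈ V, v ≠ 0 ∧ ∀ i, v i ∈ F a := by
  classical
  constructor
  · rintro ⟨v, hvV, hv0, hvk⟩ a
    refine ⟨v, hvV, hv0, fun i => ?_⟩
    obtain ⟨c, hc⟩ := hvk i
    rw [← hc]
    exact (F a).algebraMap_mem c
  · intro hall
    let supp : (Fin n → K) → Finset (Fin n) := fun v => Finset.univ.filter (fun i => v i ≠ 0)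
    let 𝒮 : ι → Finset (Finset (Fin n)) := fun a =>
      Finset.univ.filter (fun T => ∃ v ∈ V, v ≠ 0 ∧ (∀ i, v i ∈ F a) ∧ supp v = T)
    have h𝒮mono : ∀ a c, F c ≤ F a → 𝒮 c ⊆ 𝒮 a := by
      intro a c hca T hT
      rw [Finset.mem_filter] at hT ⊢
      obtain ⟨-, v, hvV, hv0, hvc, hT⟩ := hT
      exact ⟨Finset.mem_univ _, v, hvV, hv0, fun i => hca (hvc i), hT⟩
    have h𝒮ne : ∀ a, (𝒮 a).Nonempty := by
      intro a
      obtain ⟨v, hvV, hv0, hva⟩ := hall a
      exact ⟨supp v, Finset.mem_filter.mpr ⟨Finset.mem_univ _, v, hvV, hv0, hva, rfl⟩⟩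
    obtain ⟨a₀⟩ := ‹Nonempty ι›
    obtain ⟨_, ⟨a₁, rfl⟩, hmin⟩ :=
      Nat.lt_wfRel.wf.has_min (Set.range (fun a => (𝒮 a).card)) ⟨_, ⟨a₀, rfl⟩⟩
    have h𝒮eq : ∀ c, F c ≤ F a₁ → 𝒮 c = 𝒮 a₁ := by
      intro c hc
      apply Finset.eq_of_subset_of_card_le (h𝒮mono a₁ c hc)
      exact not_lt.mp (hmin _ ⟨c, rfl⟩)
    obtain ⟨T, hT𝒮, hTmin⟩ := Finset.exists_min_image (𝒮 a₁) Finset.card (h𝒮ne a₁)
    obtain ⟨-, v, hvV, hv0, hva, hvT⟩ := Finset.mem_filter.mp hT𝒮
    obtain ⟨i₀, hi₀⟩ : ∃ i, v i ≠ 0 := by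
      by_contra hcon
      push Not at hcon
      exact hv0 (funext hcon)
    have hi₀T : i₀ ∈ T := by
      rw [← hvT]; exact Finset.mem_filter.mpr ⟨Finset.mem_univ _, hi₀⟩
    have hkey : ∀ u ∈ V, (∀ i, u i ∈ F a₁) → supp u ⊆ T → u i₀ = 0 → u = 0 := by
      intro u huV hua hsub hu0
      by_contra hne
      have hmem : supp u ∈ 𝒮 a₁ :=
        Finset.mem_filter.mpr ⟨Finset.mem_univ _, u, huV, hne, hua, rfl⟩
      have h1 := hTmin _ hmem
      have h2 : supp u ⊂ T := by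
        refine Finset.ssubset_iff_subset_ne.mpr ⟨hsub, fun heq => ?_⟩
        have h3 : i₀ ∈ supp u := by rw [heq]; exact hi₀T
        exact (Finset.mem_filter.mp h3).2 hu0
      exact absurd (Finset.card_lt_card h2) (not_lt.mpr h1)
    have hnotT : ∀ (w : Fin n → K), supp w = T → ∀ i, i ∉ T → w i = 0 := by
      intro w hw i hi
      by_contra h
      exact hi (hw ▸ Finset.mem_filter.mpr ⟨Finset.mem_univ _, h⟩)
    let v' : Fin n → K := (v i₀)⁻¹ • v
    have hv'V : v' ∈ V := V.smul_mem _ hvV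
    have hv'i₀ : v' i₀ = 1 := inv_mul_cancel₀ hi₀
    have hv'a : ∀ i, v' i ∈ F a₁ := fun i =>
      (F a₁).mul_mem ((F a₁).inv_mem (hva i₀)) (hva i)
    have hmain : ∀ c, F c ≤ F a₁ → ∀ i, v' i ∈ F c := by
      intro c hc
      have hT𝒮c : T ∈ 𝒮 c := by rw [h𝒮eq c hc]; exact hT𝒮
      obtain ⟨-, w, hwV, hw0, hwc, hwT⟩ := Finset.mem_filter.mp hT𝒮c
      have hwi₀ : w i₀ ≠ 0 := by
        have h3 : i₀ ∈ supp w := by rw [hwT]; exact hi₀T
        exact (Finset.mem_filter.mp h3).2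
      let w' : Fin n → K := (w i₀)⁻¹ • w
      have hw'c : ∀ i, w' i ∈ F c := fun i =>
        (F c).mul_mem ((F c).inv_mem (hwc i₀)) (hwc i)
      have hdiff : v' - w' = 0 := by
        apply hkey
        · exact V.sub_mem hv'V (V.smul_mem _ hwV)
        · intro i
          exact (F a₁).sub_mem (hv'a i) (hc (hw'c i))
        · intro i hi
          rw [Finset.mem_filter] at hi
          by_contra hiT
          apply hi.2
          show (v i₀)⁻¹ * v i - (w i₀)⁻¹ * w i = 0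
          rw [hnotT v hvT i hiT, hnotT w hwT i hiT, mul_zero, mul_zero, sub_zero]
        · show (v i₀)⁻¹ * v i₀ - (w i₀)⁻¹ * w i₀ = 0
          rw [inv_mul_cancel₀ hi₀, inv_mul_cancel₀ hwi₀, sub_self]
      intro i
      have h4 : v' = w' := sub_eq_zero.mp hdiff
      rw [h4]
      exact hw'c i
    refine ⟨v', hv'V, ?_, ?_⟩
    · intro h0
      have h5 := congrFun h0 i₀
      rw [hv'i₀] at h5
      exact one_ne_zero h5
    · intro i
      rw [← IntermediateField.mem_bot, ← hinf]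
      have h6 : v' i ∈ ((⨅ a, F a : IntermediateField k K) : Set K) := by
        rw [IntermediateField.coe_iInf, Set.mem_iInter]
        intro b
        obtain ⟨c, hc⟩ := hdir a₁ b
        exact (le_inf_iff.mp hc).2 (hmain c (le_inf_iff.mp hc).1 i)
      exact h6

end Groth.Agent.S2134
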