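import Groth.Statements.S2136
import Mathlib
import Groth.Agent.Lib.Helper8.UnramDichotomy

set_option autoImplicit false
universe u
open CAlg

namespace Groth.Agent.S2136

/-- Let `A` be a domain, `A → B` a ring map of finite type, and `𝔮` a prime of `B` lying over `𝔭 ⊆ A`,
with `A_𝔭` geometrically unibranch, `A → B` unramified at `𝔮` and `A_𝔭 → B_𝔮` injective. Then `B_g`
is étale over `A` for some `g ∉ 𝔮`. (`B` is assumed of finite type over `A` throughout; the
published statement needs this only after inverting an element outside `𝔮`.) -/
theorem result {A B : Type u} [CommRing A] [IsDomain A] [CommRing B]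
    [Algebra A B] (q : Ideal B) [q.IsPrime] (p : Ideal A) [p.IsPrime] [q.LiesOver p]
    (hA : CAlg2.IsGeomUnibranch (Localization.AtPrime p)) [Algebra.FiniteType A B] [Algebra.IsUnramifiedAt A q]
    (hinj : Function.Injective (Localization.localRingHom p q (algebraMap A B) (q.over_def p))) :
    ∃ g : B, g ∉ q ∧ Algebra.Etale A (Localization.Away g) := by
  rcases Groth.Agent.Lib.Helper8.UnramDichotomy.etale_or_no_generic_of_unramified p q
    (Localization.AtPrime p) hA with ⟨g, hg, h⟩ | ⟨g, hg, h⟩
  · exact ⟨g, hg, h⟩
  · exfalso
    set ψ := Localization.localRingHom p q (algebraMap A B) (q.over_def p) with hψ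
    have hmin : (⊥ : Ideal (Localization.AtPrime p)) ∈ minimalPrimes (Localization.AtPrime p) := by
      rw [IsDomain.minimalPrimes_eq_singleton_bot]
      exact Set.mem_singleton _
    obtain ⟨Pbar, hPbar, h0⟩ :=
      Ideal.exists_comap_eq_of_mem_minimalPrimes_of_injective hinj ⊥ hmin
    haveI := hPbar
    let P : Ideal B := Pbar.comap (algebraMap B (Localization.AtPrime q))
    haveI hP : P.IsPrime := Ideal.comap_isPrime _ _
    have hPq : P ≤ q := by
      have h1 : Pbar ≤ IsLocalRing.maximalIdeal (Localization.AtPrime q) :=
        IsLocalRing.le_maximalIdeal hPbar.ne_top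
      have h2 := Ideal.comap_mono (f := algebraMap B (Localization.AtPrime q)) h1
      have h3 := IsLocalization.AtPrime.comap_maximalIdeal (Localization.AtPrime q) q
      exact h2.trans h3.le
    have hgP : g ∉ P := fun hgP => hg (hPq hgP)
    apply h P hP hgP
    show (Pbar.comap (algebraMap B (Localization.AtPrime q))).comap (algebraMap A B) = ⊥
    rw [Ideal.comap_comap]
    have hcomm : (algebraMap B (Localization.AtPrime q)).comp (algebraMap A B) =
        ψ.comp (algebraMap A (Localization.AtPrime p)) := by
      ext a
      simp [hψ, Localization.localRingHom_to_map]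
    rw [hcomm, ← Ideal.comap_comap, h0, ← RingHom.ker_eq_comap_bot]
    exact (RingHom.injective_iff_ker_eq_bot _).mp
      (IsLocalization.injective (Localization.AtPrime p) p.primeCompl_le_nonZeroDivisors)


end Groth.Agent.S2136
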