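import Groth.Statements.S2138
import Groth.Agent.Lib.Helper9.NilpFlat
import Groth.Agent.Lib.Helper9.FiberAss

set_option autoImplicit false
universe u
open CAlg

namespace Groth.Agent.S2138


open TensorProduct
open Groth.Agent.Lib.Helper9

lemma mem_symbolic_iff {T : Type u} [CommRing T] (q : Ideal T) [q.IsPrime] (n : ℕ) (x : T) :
    x ∈ ((q ^ n).map (algebraMap T (Localization.AtPrime q))).comap
        (algebraMap T (Localization.AtPrime q)) ↔ ∃ m ∈ q.primeCompl, m * x ∈ q ^ n := by
  rw [Ideal.mem_comap]
  exact IsLocalization.algebraMap_mem_map_algebraMap_iff q.primeCompl (Localization.AtPrime q)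
    (q ^ n) x

section helpers

variable {R S : Type u} [CommRing R] [CommRing S] [Algebra R S] [Module.Flat R S]
  (p : Ideal R) [p.IsPrime]

lemma algebraMap_not_mem [hq : (p.map (algebraMap R S)).IsPrime] {a : R} (ha : a ∉ p) :
    algebraMap R S a ∉ p.map (algebraMap R S) := by
  intro h
  have h1 : a • (1 : S) ∈ (p.map (algebraMap R S)) • (⊤ : Submodule S S) := by
    rw [Ideal.smul_eq_mul, Ideal.mul_top, Algebra.smul_def, mul_one]
    exact h
  have h2 := AssTensor.mem_of_smul_mem_of_flat S p ha h1
  rw [Ideal.smul_eq_mul, Ideal.mul_top] at h2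
  exact hq.ne_top ((Ideal.eq_top_iff_one _).mpr h2)

lemma lTensor_mulLeft_injective [hq : (p.map (algebraMap R S)).IsPrime] {t : S}
    (ht : t ∉ p.map (algebraMap R S)) :
    Function.Injective ((LinearMap.mulLeft R t).lTensor p.ResidueField) := by
  rw [injective_iff_map_eq_zero]
  intro z hz
  obtain ⟨r, hr, s, hs⟩ := Ideal.Fiber.exists_smul_eq_one_tmul p z
  have h1 : (1 : p.ResidueField) ⊗ₜ[R] (t * s) = 0 := by
    have := congrArg ((LinearMap.mulLeft R t).lTensor p.ResidueField) hs
    rw [map_smul, hz, smul_zero, LinearMap.lTensor_tmul, LinearMap.mulLeft_apply] at this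
    exact this.symm
  obtain ⟨r', hr', hmem⟩ := FiberAss.exists_smul_mem_of_one_tmul_eq_zero p S h1
  rw [Ideal.smul_top_eq_map, Submodule.restrictScalars_mem, Algebra.smul_def] at hmem
  have hs' : s ∈ p.map (algebraMap R S) := by
    rcases hq.mem_or_mem hmem with h | h
    · exact absurd h (algebraMap_not_mem p hr')
    · rcases hq.mem_or_mem h with h | h
      · exact absurd h ht
      · exact h
  have h2 : (1 : p.ResidueField) ⊗ₜ[R] s = 0 := by
    have hs'' : s ∈ p • (⊤ : Submodule R S) := by
      rw [Ideal.smul_top_eq_map]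
      exact hs'
    refine Submodule.smul_induction_on hs'' ?_ ?_
    · intro a ha s₀ _
      rw [TensorProduct.tmul_smul, TensorProduct.smul_tmul', ← Algebra.algebraMap_eq_smul_one,
        (Ideal.algebraMap_residueField_eq_zero).mpr ha, TensorProduct.zero_tmul]
    · intro x y hx hy
      rw [TensorProduct.tmul_add, hx, hy, add_zero]
  rw [h2] at hs
  have hne : algebraMap R p.ResidueField r ≠ 0 := fun h0 =>
    hr ((Ideal.algebraMap_residueField_eq_zero).mp h0)
  have h3 : algebraMap R p.ResidueField r • z = 0 := by
    rw [algebraMap_smul]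
    exact hs
  calc z = (algebraMap R p.ResidueField r)⁻¹ • (algebraMap R p.ResidueField r • z) := by
        rw [smul_smul, inv_mul_cancel₀ hne, one_smul]
    _ = 0 := by rw [h3, smul_zero]

end helpers

/-- Let `R → S` be flat and `𝔭` a prime of `R` whose extension `𝔮 = 𝔭S` is prime. Then for every `n` the
extension to `S` of the symbolic power `𝔭^{(n)}` (the contraction of `𝔭ⁿR_𝔭`) equals the symbolic
power `𝔮^{(n)}`. -/
theorem result {R S : Type u} [CommRing R] [CommRing S] [Algebra R S] [Module.Flat R S]
    (p : Ideal R) [p.IsPrime] [(p.map (algebraMap R S)).IsPrime] (n : ℕ) :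
    (((p ^ n).map (algebraMap R (Localization.AtPrime p))).comap (algebraMap R (Localization.AtPrime p))).map
        (algebraMap R S) =
      (((p.map (algebraMap R S)) ^ n).map (algebraMap S (Localization.AtPrime (p.map (algebraMap R S))))).comap
        (algebraMap S (Localization.AtPrime (p.map (algebraMap R S)))) := by
  have hqn : (p.map (algebraMap R S)) ^ n = (p ^ n).map (algebraMap R S) :=
    (Ideal.map_pow _ _ _).symm
  apply le_antisymm
  · rw [Ideal.map_le_iff_le_comap]
    intro x hx
    rw [Ideal.mem_comap, mem_symbolic_iff]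
    obtain ⟨m, hm, hmx⟩ := (mem_symbolic_iff p n x).mp hx
    refine ⟨algebraMap R S m, algebraMap_not_mem p hm, ?_⟩
    rw [← map_mul, hqn]
    exact Ideal.mem_map_of_mem _ hmx
  · intro y hy
    obtain ⟨t, ht, hty⟩ := (mem_symbolic_iff _ n y).mp hy
    rcases Nat.eq_zero_or_pos n with hn0 | hnpos
    · subst hn0
      rw [pow_zero, Ideal.one_eq_top, Ideal.map_top, Ideal.comap_top, Ideal.map_top]
      trivial
    have hmn : (IsLocalRing.maximalIdeal (Localization.AtPrime p)) ^ n ≤
        IsLocalRing.maximalIdeal (Localization.AtPrime p) :=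
      Ideal.pow_le_self (Nat.pos_iff_ne_zero.mp hnpos)
    letI : Field (Localization.AtPrime p ⧸ IsLocalRing.maximalIdeal (Localization.AtPrime p)) :=
      Ideal.Quotient.field _
    haveI hIAmax : (RingHom.ker (Ideal.Quotient.factor hmn)).IsMaximal :=
      RingHom.ker_isMaximal_of_surjective _ (Ideal.Quotient.factor_surjective hmn)
    have hIAle : RingHom.ker (Ideal.Quotient.factor hmn) ≤
        (IsLocalRing.maximalIdeal (Localization.AtPrime p)).map
          (Ideal.Quotient.mk ((IsLocalRing.maximalIdeal (Localization.AtPrime p)) ^ n)) := by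
      intro a ha
      obtain ⟨x, rfl⟩ := Ideal.Quotient.mk_surjective a
      rw [RingHom.mem_ker, Ideal.Quotient.factor_mk, Ideal.Quotient.eq_zero_iff_mem] at ha
      exact Ideal.mem_map_of_mem _ ha
    have hIAnil : IsNilpotent (RingHom.ker (Ideal.Quotient.factor hmn)) := by
      refine ⟨n, ?_⟩
      rw [Ideal.zero_eq_bot, eq_bot_iff]
      calc (RingHom.ker (Ideal.Quotient.factor hmn)) ^ n
          ≤ ((IsLocalRing.maximalIdeal (Localization.AtPrime p)).map
            (Ideal.Quotient.mk ((IsLocalRing.maximalIdeal (Localization.AtPrime p)) ^ n))) ^ n :=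
            Ideal.pow_right_mono hIAle n
        _ = ((IsLocalRing.maximalIdeal (Localization.AtPrime p)) ^ n).map
            (Ideal.Quotient.mk ((IsLocalRing.maximalIdeal (Localization.AtPrime p)) ^ n)) :=
            (Ideal.map_pow _ _ _).symm
        _ = ⊥ := Ideal.map_quotient_self _
    let g : (Localization.AtPrime p ⧸ (IsLocalRing.maximalIdeal (Localization.AtPrime p)) ^ n)
        →ₗ[R] p.ResidueField := (Ideal.Quotient.factorₐ R hmn).toLinearMap
    have hgs : Function.Surjective g := Ideal.Quotient.factor_surjective hmn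
    have hg : ∀ a, g a = 0 ↔ a ∈ RingHom.ker (Ideal.Quotient.factor hmn) := by
      intro a
      rw [RingHom.mem_ker]
      exact Iff.rfl
    have hker : RingHom.ker (algebraMap R
        (Localization.AtPrime p ⧸ (IsLocalRing.maximalIdeal (Localization.AtPrime p)) ^ n)) =
        ((p ^ n).map (algebraMap R (Localization.AtPrime p))).comap
          (algebraMap R (Localization.AtPrime p)) := by
      rw [Ideal.map_pow, Localization.AtPrime.map_eq_maximalIdeal,
        IsScalarTower.algebraMap_eq R (Localization.AtPrime p)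
          (Localization.AtPrime p ⧸ (IsLocalRing.maximalIdeal (Localization.AtPrime p)) ^ n),
        ← RingHom.comap_ker, Ideal.Quotient.algebraMap_eq, Ideal.mk_ker]
    rw [← hker]
    have hty' : t * y ∈ (RingHom.ker (algebraMap R
        (Localization.AtPrime p ⧸ (IsLocalRing.maximalIdeal (Localization.AtPrime p)) ^ n))).map
        (algebraMap R S) := by
      rw [hker]
      rw [hqn] at hty
      exact Ideal.map_mono Ideal.le_comap_map hty
    exact NilpFlat.mem_map_ker_of_mul_mem (RingHom.ker (Ideal.Quotient.factor hmn)) hIAnil g hgs hg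
      t (lTensor_mulLeft_injective p ht) hty'

end Groth.Agent.S2138
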