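import Groth.Statements.S2139
import Mathlib
import Groth.Agent.Lib.Helper19.TotalFrac

set_option autoImplicit false
universe u
open CAlg

namespace Groth.Agent.S2139

/-- Let `R` be a reduced ring with finitely many minimal primes. Then every localization of `R` at a
prime is an integrally closed domain if and only if `R` is integrally closed in its total ring of
fractions. -/
theorem result {R : Type u} [CommRing R] [IsReduced R] (hfin : (minimalPrimes R).Finite) :
    (∀ (p : Ideal R) [p.IsPrime], IsDomain (Localization.AtPrime p) ∧ IsIntegrallyClosed (Localization.AtPrime p)) ↔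
      IsIntegrallyClosedIn R (FractionRing R) := by
  constructor
  · intro h
    rw [isIntegrallyClosedIn_iff]
    refine ⟨IsFractionRing.injective R (FractionRing R), fun {x} hx => ?_⟩
    obtain ⟨a, s, rfl⟩ := IsLocalization.exists_mk'_eq (nonZeroDivisors R) x
    exact Groth.Agent.Lib.Helper19.TotalFrac.exists_of_normal h
      (IsFractionRing.injective R (FractionRing R)) _ hx a s s.2
      (fun y hy => (IsLocalization.map_units (FractionRing R) s).mul_right_eq_zero.mp hy)
      (IsLocalization.mk'_spec' (FractionRing R) a s)
  · intro hic p hp
    obtain ⟨P, hP, hPp⟩ := Ideal.exists_minimalPrimes_le (I := (⊥ : Ideal R)) (J := p) bot_le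
    obtain ⟨e, he0, he1, he2⟩ := Groth.Agent.Lib.Helper19.TotalFrac.exists_idem hfin hic P hP
    haveI := Groth.Agent.Lib.Helper19.TotalFrac.isDomain_localization p P hP hPp e he0 he1
    exact ⟨inferInstance,
      Groth.Agent.Lib.Helper19.TotalFrac.isIntegrallyClosed_localization hic p P hP hPp e
        he0 he1 he2⟩

end Groth.Agent.S2139
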