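import Groth.Statements.S2140
import Mathlib

set_option autoImplicit false
universe u
open CAlg

namespace Groth.Agent.S2140

open Polynomial in
theorem fp_away {A : Type u} [CommRing A] (r : A) :
    (algebraMap A (Localization.Away r)).FinitePresentation :=
  RingHom.finitePresentation_algebraMap.mpr (IsLocalization.Away.finitePresentation r)

open Polynomial in
theorem single_gen {R R' : Type u} [CommRing R] [IsDomain R] [CommRing R'] [IsDomain R']
    [Algebra R R'] (hinj : Function.Injective (algebraMap R R')) (x : R')
    (hx : Algebra.adjoin R ({x} : Set R') = ⊤) :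
    ∃ a : R, a ≠ 0 ∧ ((algebraMap R' (Localization.Away (algebraMap R R' a))).comp
      (algebraMap R R')).FinitePresentation := by
  classical
  have hφs : Function.Surjective (aeval (R := R) x) := by
    rw [← AlgHom.range_eq_top, ← Algebra.adjoin_singleton_eq_range_aeval, hx]
  have hpoly : (algebraMap R R[X]).FinitePresentation :=
    RingHom.finitePresentation_algebraMap.mpr inferInstance
  by_cases hq : RingHom.ker (aeval (R := R) x : R[X] →ₐ[R] R') = ⊥
  · refine ⟨1, one_ne_zero, ?_⟩
    have hbij : Function.Bijective ((aeval (R := R) x : R[X] →ₐ[R] R') : R[X] →+* R') :=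
      ⟨(RingHom.injective_iff_ker_eq_bot _).mpr hq, hφs⟩
    have h1 : (algebraMap R R').FinitePresentation := by
      have : (algebraMap R R') =
          ((aeval (R := R) x : R[X] →ₐ[R] R') : R[X] →+* R').comp (algebraMap R R[X]) := by
        ext r; simp
      rw [this]
      exact (RingHom.FinitePresentation.of_bijective hbij).comp hpoly
    exact (fp_away _).comp h1
  · set φ : R[X] →ₐ[R] R' := aeval x with hφ
    have hex : ∃ n, ∃ p ∈ RingHom.ker φ, p ≠ 0 ∧ p.natDegree = n := by
      obtain ⟨p, hp, hp0⟩ := Submodule.exists_mem_ne_zero_of_ne_bot hq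
      exact ⟨_, p, hp, hp0, rfl⟩
    obtain ⟨h, hhq, hh0, hhd⟩ := Nat.find_spec hex
    have hmin : ∀ p ∈ RingHom.ker φ, p ≠ 0 → h.natDegree ≤ p.natDegree := fun p hp hp0 => by
      rw [hhd]; exact Nat.find_min' hex ⟨p, hp, hp0, rfl⟩
    set a := h.leadingCoeff with ha
    have ha0 : a ≠ 0 := leadingCoeff_ne_zero.mpr hh0
    have hιa : algebraMap R R' a ≠ 0 := fun h0 => ha0 (hinj (by rw [h0, map_zero]))
    have hdiv : ∀ (n : ℕ) (p : R[X]), p.natDegree = n → p ∈ RingHom.ker φ →
        ∃ N, C a ^ N * p ∈ Ideal.span {h} := by
      intro n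
      induction n using Nat.strong_induction_on with
      | _ n ih =>
        intro p hpn hpq
        by_cases hp0 : p = 0
        · exact ⟨0, by rw [hp0, mul_zero]; exact Ideal.zero_mem _⟩
        have hle : h.natDegree ≤ p.natDegree := hmin p hpq hp0
        set p₂ : R[X] := C p.leadingCoeff * X ^ (p.natDegree - h.natDegree) * h with hp₂
        have hp₂span : p₂ ∈ Ideal.span {h} := Ideal.mul_mem_left _ _ (Ideal.subset_span rfl)
        have hp₂q : p₂ ∈ RingHom.ker φ := Ideal.mul_mem_left _ _ hhq
        have hlc0 : p.leadingCoeff ≠ 0 := leadingCoeff_ne_zero.mpr hp0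
        have hdeg₂ : p₂.degree = (C a * p).degree := by
          rw [hp₂, degree_mul, degree_mul, degree_mul, degree_C hlc0, degree_C ha0, degree_X_pow,
            degree_eq_natDegree hh0, degree_eq_natDegree hp0, zero_add, zero_add, ← Nat.cast_add,
            Nat.sub_add_cancel hle]
        have hlc₂ : p₂.leadingCoeff = (C a * p).leadingCoeff := by
          rw [hp₂, leadingCoeff_mul, leadingCoeff_mul, leadingCoeff_mul, leadingCoeff_C,
            leadingCoeff_C, leadingCoeff_X_pow, mul_one, mul_comm]
        have hCap0 : C a * p ≠ 0 := mul_ne_zero (C_ne_zero.mpr ha0) hp0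
        have hlt : (C a * p - p₂).degree < (C a * p).degree :=
          degree_sub_lt hdeg₂.symm hCap0 hlc₂.symm
        set p₁ := C a * p - p₂ with hp₁
        have hp₁q : p₁ ∈ RingHom.ker φ := sub_mem (Ideal.mul_mem_left _ _ hpq) hp₂q
        by_cases hp₁0 : p₁ = 0
        · refine ⟨1, ?_⟩
          rw [pow_one, sub_eq_zero.mp hp₁0]
          exact hp₂span
        have hnd : p₁.natDegree < n := by
          rw [← hpn]
          have := natDegree_lt_natDegree hp₁0 hlt
          rwa [natDegree_C_mul ha0] at this
        obtain ⟨N, hN⟩ := ih _ hnd p₁ rfl hp₁q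
        refine ⟨N + 1, ?_⟩
        have : C a ^ (N + 1) * p = C a ^ N * p₁ + C a ^ N * p₂ := by rw [hp₁]; ring
        rw [this]
        exact add_mem hN (Ideal.mul_mem_left _ _ hp₂span)
    refine ⟨a, ha0, ?_⟩
    have hφC : φ (C a) = algebraMap R R' a := by simp [φ]
    have hle : Submonoid.powers (C a) ≤
        (Submonoid.powers (algebraMap R R' a)).comap (φ : R[X] →+* R') := by
      rintro _ ⟨n, rfl⟩
      exact ⟨n, by simp [hφC]⟩
    let Φ : Localization.Away (C a) →+* Localization.Away (algebraMap R R' a) :=
      IsLocalization.map _ (φ : R[X] →+* R') hle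
    have hΦc : ∀ p : R[X], Φ (algebraMap R[X] _ p) = algebraMap R' _ (φ p) := fun p =>
      IsLocalization.map_eq hle p
    have hΦs : Function.Surjective Φ := by
      intro y
      obtain ⟨r', ⟨_, n, rfl⟩, rfl⟩ :=
        IsLocalization.exists_mk'_eq (Submonoid.powers (algebraMap R R' a)) y
      obtain ⟨p, rfl⟩ := hφs r'
      refine ⟨IsLocalization.mk' _ p (⟨C a ^ n, n, rfl⟩ : Submonoid.powers (C a)), ?_⟩
      rw [IsLocalization.eq_mk'_iff_mul_eq]
      have h1 : algebraMap R' (Localization.Away (algebraMap R R' a)) (algebraMap R R' a ^ n) =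
          Φ (algebraMap R[X] _ (C a ^ n)) := by
        rw [hΦc, map_pow φ (C a) n, hφC]
      change _ * algebraMap R' (Localization.Away (algebraMap R R' a)) (algebraMap R R' a ^ n) = _
      rw [h1, ← map_mul, ← hΦc]
      congr 1
      exact IsLocalization.mk'_spec _ _ _
    have hker : RingHom.ker Φ = Ideal.span {algebraMap R[X] (Localization.Away (C a)) h} := by
      apply le_antisymm
      · intro z hz
        obtain ⟨p, ⟨_, n, rfl⟩, rfl⟩ := IsLocalization.exists_mk'_eq (Submonoid.powers (C a)) z
        have hspec := IsLocalization.mk'_spec (Localization.Away (C a)) p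
          (⟨C a ^ n, n, rfl⟩ : Submonoid.powers (C a))
        have h1 : algebraMap R' (Localization.Away (algebraMap R R' a)) (φ p) = 0 := by
          rw [← hΦc, ← hspec, map_mul, (RingHom.mem_ker).mp hz, zero_mul]
        obtain ⟨⟨_, m, rfl⟩, hm⟩ :=
          (IsLocalization.map_eq_zero_iff (Submonoid.powers (algebraMap R R' a)) _ _).mp h1
        have hp : φ p = 0 := by
          rcases mul_eq_zero.mp hm with h2 | h2
          · exact absurd h2 (pow_ne_zero m hιa)
          · exact h2
        obtain ⟨N, hN⟩ := hdiv _ p rfl (RingHom.mem_ker.mpr hp)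
        have h2 : algebraMap R[X] (Localization.Away (C a)) (C a ^ N * p) ∈
            Ideal.span {algebraMap R[X] (Localization.Away (C a)) h} := by
          have := Ideal.mem_map_of_mem (algebraMap R[X] (Localization.Away (C a))) hN
          rwa [Ideal.map_span, Set.image_singleton] at this
        rw [map_mul] at h2
        have hu : IsUnit (algebraMap R[X] (Localization.Away (C a)) (C a ^ N)) := by
          rw [map_pow]; exact (IsLocalization.Away.algebraMap_isUnit (C a)).pow N
        have h3 := (Ideal.unit_mul_mem_iff_mem _ hu).mp h2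
        rw [IsLocalization.mk'_eq_mul_mk'_one]
        exact Ideal.mul_mem_right _ _ h3
      · rw [Ideal.span_le, Set.singleton_subset_iff, SetLike.mem_coe, RingHom.mem_ker, hΦc,
          RingHom.mem_ker.mp hhq, map_zero]
    have hΦfp : Φ.FinitePresentation :=
      RingHom.FinitePresentation.of_surjective Φ hΦs (by
        rw [hker]
        exact ⟨{algebraMap R[X] (Localization.Away (C a)) h}, by simp⟩)
    have h2 : ((algebraMap R[X] (Localization.Away (C a))).comp
        (algebraMap R R[X])).FinitePresentation := (fp_away (C a)).comp hpoly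
    have h3 := hΦfp.comp h2
    convert h3 using 1
    ext r
    simp [hΦc, φ]

theorem combine {R R' S : Type u} [CommRing R] [CommRing R'] [CommRing S]
    [Algebra R R'] [Algebra R' S] [Algebra R S] [IsScalarTower R R' S]
    (g : S) (a : R)
    (hg : ((algebraMap S (Localization.Away g)).comp (algebraMap R' S)).FinitePresentation)
    (ha : ((algebraMap R' (Localization.Away (algebraMap R R' a))).comp
      (algebraMap R R')).FinitePresentation) :
    ((algebraMap S (Localization.Away (g * algebraMap R S a))).comp
      (algebraMap R S)).FinitePresentation := by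
  have hgu : IsUnit (algebraMap S (Localization.Away (g * algebraMap R S a)) g) :=
    isUnit_of_dvd_unit (map_dvd _ (Dvd.intro _ rfl))
      (IsLocalization.Away.algebraMap_isUnit (g * algebraMap R S a))
  have hau : IsUnit (algebraMap S (Localization.Away (g * algebraMap R S a))
      (algebraMap R S a)) :=
    isUnit_of_dvd_unit (map_dvd _ (Dvd.intro_left _ rfl))
      (IsLocalization.Away.algebraMap_isUnit (g * algebraMap R S a))
  let d : Localization.Away g →+* Localization.Away (g * algebraMap R S a) :=
    IsLocalization.Away.lift g hgu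
  have hd : d.comp (algebraMap S (Localization.Away g)) =
      algebraMap S (Localization.Away (g * algebraMap R S a)) := IsLocalization.Away.lift_comp g hgu
  have hdfp : d.FinitePresentation :=
    RingHom.FinitePresentation.of_comp_finiteType (algebraMap S (Localization.Away g))
      (by rw [hd]; exact fp_away _) (RingHom.FiniteType.of_finitePresentation (fp_away g))
  have h1 : ((algebraMap S (Localization.Away (g * algebraMap R S a))).comp
      (algebraMap R' S)).FinitePresentation := by
    have := hdfp.comp hg
    rwa [← RingHom.comp_assoc, hd] at this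
  have hau' : IsUnit (((algebraMap S (Localization.Away (g * algebraMap R S a))).comp
      (algebraMap R' S)) (algebraMap R R' a)) := by
    rw [RingHom.comp_apply, ← IsScalarTower.algebraMap_apply R R' S]; exact hau
  let l : Localization.Away (algebraMap R R' a) →+* Localization.Away (g * algebraMap R S a) :=
    IsLocalization.Away.lift (algebraMap R R' a) hau'
  have hl : l.comp (algebraMap R' (Localization.Away (algebraMap R R' a))) =
      (algebraMap S (Localization.Away (g * algebraMap R S a))).comp (algebraMap R' S) :=
    IsLocalization.Away.lift_comp _ hau'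
  have hlfp : l.FinitePresentation :=
    RingHom.FinitePresentation.of_comp_finiteType _ (by rw [hl]; exact h1)
      (RingHom.FiniteType.of_finitePresentation (fp_away _))
  have h2 := hlfp.comp ha
  rw [← RingHom.comp_assoc, hl, RingHom.comp_assoc, ← IsScalarTower.algebraMap_eq] at h2
  exact h2

theorem aux (S : Type u) [CommRing S] [IsDomain S] (t : Finset S) :
    ∀ (R : Type u) [CommRing R] [IsDomain R] [Algebra R S],
      Function.Injective (algebraMap R S) → Algebra.adjoin R (t : Set S) = ⊤ →
      ∃ g : S, g ≠ 0 ∧ ((algebraMap S (Localization.Away g)).comp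
        (algebraMap R S)).FinitePresentation := by
  classical
  induction t using Finset.induction_on with
  | empty =>
    intro R _ _ _ hinj hgen
    refine ⟨1, one_ne_zero, ?_⟩
    have hsurj : Function.Surjective (algebraMap R S) := by
      rw [Algebra.surjective_algebraMap_iff, ← hgen]; simp
    exact (fp_away (1 : S)).comp (RingHom.FinitePresentation.of_bijective ⟨hinj, hsurj⟩)
  | insert x t hx ih =>
    intro R _ _ _ hinj hgen
    have hinj' : Function.Injective (algebraMap R (Algebra.adjoin R ({x} : Set S))) := by
      have h1 : Function.Injective ((algebraMap (Algebra.adjoin R ({x} : Set S)) S) ∘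
          (algebraMap R (Algebra.adjoin R ({x} : Set S)))) := by
        rw [← RingHom.coe_comp, ← IsScalarTower.algebraMap_eq]; exact hinj
      exact h1.of_comp
    have hgen' : Algebra.adjoin (Algebra.adjoin R ({x} : Set S)) (t : Set S) = ⊤ := by
      have h1 : (Algebra.adjoin (Algebra.adjoin R ({x} : Set S)) (t : Set S)).restrictScalars R =
          Algebra.adjoin R ({x} ∪ (t : Set S)) :=
        (Algebra.adjoin_union_eq_adjoin_adjoin R {x} (t : Set S)).symm
      rw [eq_top_iff]
      intro y _
      have : y ∈ (Algebra.adjoin (Algebra.adjoin R ({x} : Set S)) (t : Set S)).restrictScalars R := by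
        rw [h1, ← Set.insert_eq, ← Finset.coe_insert, hgen]; exact Algebra.mem_top
      exact this
    obtain ⟨g, hg0, hg⟩ := ih (Algebra.adjoin R ({x} : Set S)) Subtype.val_injective hgen'
    have hx' : Algebra.adjoin R ({(⟨x, Algebra.subset_adjoin rfl⟩ :
        Algebra.adjoin R ({x} : Set S))} : Set (Algebra.adjoin R ({x} : Set S))) = ⊤ := by
      have h1 := Algebra.adjoin_adjoin_coe_preimage (R := R) (s := ({x} : Set S))
      convert h1 using 2
      ext ⟨y, hy⟩
      simp [Subtype.ext_iff]
    obtain ⟨a, ha0, ha⟩ := single_gen (R := R) (R' := Algebra.adjoin R ({x} : Set S)) hinj'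
      ⟨x, Algebra.subset_adjoin rfl⟩ hx'
    exact ⟨g * algebraMap R S a, mul_ne_zero hg0 (fun h => ha0 (hinj (by rw [h, map_zero]))),
      combine (R := R) (R' := Algebra.adjoin R ({x} : Set S)) (S := S) g a hg ha⟩

/-- Let `R → S` be an injective ring map of finite type between domains. Then there are nonzero `f ∈ R`
and `g ∈ S` such that `S_{fg}` is a finitely presented `R_f`-algebra. -/
theorem result {R S : Type u} [CommRing R] [IsDomain R] [CommRing S] [IsDomain S]
    [Algebra R S] [Algebra.FiniteType R S] (hinj : Function.Injective (algebraMap R S)) :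
    ∃ (f : R) (g : S), f ≠ 0 ∧ g ≠ 0 ∧
      ∀ (Rf Sfg : Type u) [CommRing Rf] [CommRing Sfg] [Algebra R Rf] [IsLocalization.Away f Rf]
        [Algebra S Sfg] [IsLocalization.Away (algebraMap R S f * g) Sfg] [Algebra Rf Sfg] [Algebra R Sfg]
        [IsScalarTower R S Sfg] [IsScalarTower R Rf Sfg], Algebra.FinitePresentation Rf Sfg := by
  classical
  obtain ⟨t, ht⟩ := (Algebra.FiniteType.out : (⊤ : Subalgebra R S).FG)
  obtain ⟨g, hg0, hg⟩ := aux S t R hinj ht
  refine ⟨1, g, one_ne_zero, hg0, ?_⟩
  intro Rf Sfg _ _ _ _ _ _ _ _ _ _
  rw [← IsScalarTower.algebraMap_eq, RingHom.finitePresentation_algebraMap] at hg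
  haveI : IsLocalization.Away g Sfg := by
    have h := (inferInstance : IsLocalization.Away (algebraMap R S 1 * g) Sfg)
    rwa [map_one, one_mul] at h
  let e : Localization.Away g ≃ₐ[S] Sfg :=
    IsLocalization.algEquiv (Submonoid.powers g) (Localization.Away g) Sfg
  haveI : Algebra.FinitePresentation R Sfg := Algebra.FinitePresentation.equiv (e.restrictScalars R)
  haveI : Algebra.FinitePresentation R Rf := IsLocalization.Away.finitePresentation (1 : R)
  exact Algebra.FinitePresentation.of_restrict_scalars_finitePresentation R Rf Sfg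

end Groth.Agent.S2140
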