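import Groth.Statements.S2141
-- import your own Groth.Agent.* helpers here
import Mathlib
import Groth.Agent.Lib.Helper12.DimFT2

set_option autoImplicit false
universe u
open CAlg

namespace Groth.Agent.S2141

/-- Let `S` be of finite type over a field `k` and `𝔭` a prime of `S` whose residue field has
transcendence degree `r` over `k`. Then the local dimension of `Spec S` at `𝔭` equals `dim S_𝔭 + r`. -/
theorem result {k S : Type u} [Field k] [CommRing S] [Algebra k S] [Algebra.FiniteType k S]
    (p : Ideal S) [p.IsPrime] (r : ℕ) (hr : Algebra.trdeg k p.ResidueField = r) :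
    FlatMor.localDim (PrimeSpectrum S) ⟨p, inferInstance⟩ = ringKrullDim (Localization.AtPrime p) + (r : WithBot ℕ∞) := by
  have h1 := Groth.Agent.Lib.Helper12.DimFT2.localDim_primeSpectrum k S ⟨p, inferInstance⟩
  obtain ⟨n, hn1, -, hn3⟩ := Groth.Agent.Lib.Helper12.DimFT2.exists_trdeg_residueField k S p
  have hnr : n = r := by
    have : (n : Cardinal.{u}) = (r : Cardinal.{u}) := hn1.symm.trans hr
    exact_mod_cast this
  subst hnr
  rw [h1, hn3, IsLocalization.AtPrime.ringKrullDim_eq_height p (Localization.AtPrime p),
    ← PrimeSpectrum.height_eq_orderHeight]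
  push_cast
  rfl

end Groth.Agent.S2141
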