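import Groth.Statements.S2142
-- import your own Groth.Agent.* helpers here
import Mathlib
import Groth.Agent.Lib.Helper12.DimFT2

set_option autoImplicit false
universe u
open CAlg

namespace Groth.Agent.S2142

open TensorProduct in
/-- Let `S` be of finite type over a field `k`, `K/k` a field extension, `𝔮` a prime of `S` and `𝔮_K` a
prime of `K ⊗_k S` lying over `𝔮`. Then the local dimension of `Spec (K ⊗_k S)` at `𝔮_K` equals the
local dimension of `Spec S` at `𝔮`. -/
theorem result {k S K : Type u} [Field k] [CommRing S] [Algebra k S] [Algebra.FiniteType k S] [Field K]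
    [Algebra k K] (q : Ideal S) [q.IsPrime] (qK : Ideal (K ⊗[k] S)) [qK.IsPrime]
    (hq : qK.comap (Algebra.TensorProduct.includeRight.toRingHom : S →+* K ⊗[k] S) = q) :
    FlatMor.localDim (PrimeSpectrum (K ⊗[k] S)) ⟨qK, inferInstance⟩ = FlatMor.localDim (PrimeSpectrum S) ⟨q, inferInstance⟩ := by
  rw [Groth.Agent.Lib.Helper12.DimFT2.localDim_primeSpectrum K (K ⊗[k] S) ⟨qK, inferInstance⟩,
    Groth.Agent.Lib.Helper12.DimFT2.localDim_primeSpectrum k S ⟨q, inferInstance⟩]
  congr 1
  let c : S ⊗[k] K ≃+* K ⊗[k] S := (Algebra.TensorProduct.comm k S K).toRingEquiv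
  let oe : PrimeSpectrum (K ⊗[k] S) ≃o PrimeSpectrum (S ⊗[k] K) := PrimeSpectrum.comapEquiv c.symm
  let Q : Ideal (S ⊗[k] K) := (oe ⟨qK, inferInstance⟩).asIdeal
  haveI hQp : Q.IsPrime := (oe ⟨qK, inferInstance⟩).2
  have hQdef : Q = qK.comap c.toRingHom := rfl
  haveI : Q.LiesOver q := by
    refine ⟨?_⟩
    rw [Ideal.under_def, hQdef, Ideal.comap_comap, ← hq]
    congr 1
  have h1 := Groth.Agent.Lib.Helper12.DimFT2.height_add_coheight_tensor k S K q Q
  have h2 : (⟨Q, inferInstance⟩ : PrimeSpectrum (S ⊗[k] K)) = oe ⟨qK, inferInstance⟩ := rfl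
  rw [h2, Order.height_orderIso, Order.coheight_orderIso] at h1
  exact h1

end Groth.Agent.S2142
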