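import Groth.Statements.S2146
import Groth.Agent.Lib.Helper26.SpreadOut

set_option autoImplicit false
universe u
open CAlg
open Groth.Agent.Lib.Helper26

namespace Groth.Agent.S2146

/-- Let `S` be a finitely presented `R`-algebra and `𝔮` a prime of `S` over `𝔭` such that the induced
map `R_𝔭 → S_𝔮` is bijective. Then for some `f ∉ 𝔭` there is an `R_f`-algebra `C` with `S_f ≅ R_f ×
C` as `R_f`-algebras. -/
theorem result {R S : Type u} [CommRing R] [CommRing S] [Algebra R S]
    [Algebra.FinitePresentation R S] (q : Ideal S) [q.IsPrime] (p : Ideal R) [p.IsPrime] [q.LiesOver p]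
    (h : Function.Bijective (Localization.localRingHom p q (algebraMap R S) (q.over_def p))) :
    ∃ f : R, f ∉ p ∧ ∀ (Rf Sf : Type u) [CommRing Rf] [CommRing Sf] [Algebra R Rf] [IsLocalization.Away f Rf]
      [Algebra S Sf] [IsLocalization.Away (algebraMap R S f) Sf] [Algebra Rf Sf] [Algebra R Sf] [IsScalarTower R S Sf]
      [IsScalarTower R Rf Sf],
      ∃ (C : Type u) (_ : CommRing C) (_ : Algebra Rf C), Nonempty (Sf ≃ₐ[Rf] (Rf × C)) := by
  classical
  let Λ : Localization.AtPrime p ≃+* Localization.AtPrime q := RingEquiv.ofBijective _ h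
  have hΛ : ∀ r : R, Λ (algebraMap R (Localization.AtPrime p) r) =
      algebraMap S (Localization.AtPrime q) (algebraMap R S r) := fun r =>
    Localization.localRingHom_to_map p q (algebraMap R S) (q.over_def p) r
  let φ : S →ₐ[R] Localization.AtPrime p :=
    { toRingHom := (Λ.symm : Localization.AtPrime q →+* Localization.AtPrime p).comp
        (algebraMap S (Localization.AtPrime q))
      commutes' := fun r => by
        change Λ.symm (algebraMap S (Localization.AtPrime q) (algebraMap R S r)) =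
          algebraMap R (Localization.AtPrime p) r
        rw [RingEquiv.symm_apply_eq, hΛ] }
  have hφ : ∀ s, Λ (φ s) = algebraMap S (Localization.AtPrime q) s := fun s =>
    Λ.apply_symm_apply _
  obtain ⟨f₁, hf₁, σ, ρ, hρ⟩ := SpreadOut.exists_algHom_away (R := R) (S := S) (T := R)
    (L := Localization.AtPrime p) p.primeCompl φ
  obtain ⟨X, hX⟩ := (Algebra.FiniteType.out : (⊤ : Subalgebra R S).FG)
  have key : ∀ s : S, ∃ g ∈ q.primeCompl, ∃ (a : R) (b : Submonoid.powers f₁),
      σ s = IsLocalization.mk' (Localization.Away f₁) a b ∧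
      g * (s * algebraMap R S b - algebraMap R S a) = 0 := by
    intro s
    obtain ⟨a, b, hab⟩ := IsLocalization.exists_mk'_eq (Submonoid.powers f₁) (σ s)
    have h1 := SpreadOut.algHom_mk'_mul (Submonoid.powers f₁) ρ a b
    rw [hab, hρ] at h1
    have h2 := congrArg Λ h1
    rw [map_mul, hφ, hΛ, hΛ, ← map_mul, ← sub_eq_zero, ← map_sub] at h2
    obtain ⟨⟨g, hg⟩, hg0⟩ :=
      (IsLocalization.map_eq_zero_iff q.primeCompl (Localization.AtPrime q) _).mp h2
    exact ⟨g, hg, a, b, hab.symm, hg0⟩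
  have keyX : ∀ Y : Finset S, ∃ g ∈ q.primeCompl, ∀ x ∈ Y, ∃ (a : R) (b : Submonoid.powers f₁),
      σ x = IsLocalization.mk' (Localization.Away f₁) a b ∧
      g * (x * algebraMap R S b - algebraMap R S a) = 0 := by
    intro Y
    induction Y using Finset.induction_on with
    | empty => exact ⟨1, Submonoid.one_mem _, by simp⟩
    | insert x Y hx ih =>
      obtain ⟨g₁, hg₁, h₁⟩ := ih
      obtain ⟨g₂, hg₂, a, b, hab, h₂⟩ := key x
      refine ⟨g₁ * g₂, mul_mem hg₁ hg₂, fun y hy => ?_⟩
      rcases Finset.mem_insert.mp hy with rfl | hy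
      · exact ⟨a, b, hab, by rw [mul_assoc, h₂, mul_zero]⟩
      · obtain ⟨a', b', hab', h'⟩ := h₁ y hy
        exact ⟨a', b', hab', by rw [mul_comm g₁, mul_assoc, h', mul_zero]⟩
  obtain ⟨g, hg, hgX⟩ := keyX X
  obtain ⟨a_g, b_g, habg⟩ := IsLocalization.exists_mk'_eq (Submonoid.powers f₁) (σ g)
  have hag : a_g ∈ p.primeCompl := by
    have h1 := SpreadOut.algHom_mk'_mul (Submonoid.powers f₁) ρ a_g b_g
    rw [habg, hρ] at h1
    have hu1 : IsUnit (φ g) := by
      have : IsUnit (Λ (φ g)) := by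
        rw [hφ]; exact IsLocalization.map_units _ (⟨g, hg⟩ : q.primeCompl)
      have h3 := this.map Λ.symm
      simpa using h3
    have hu2 : IsUnit (algebraMap R (Localization.AtPrime p) (b_g : R)) :=
      IsLocalization.map_units _ (⟨(b_g : R), (Submonoid.powers_le.mpr hf₁) b_g.2⟩ : p.primeCompl)
    have hu3 : IsUnit (algebraMap R (Localization.AtPrime p) a_g) := by
      rw [← h1]; exact hu1.mul hu2
    exact (IsLocalization.AtPrime.isUnit_to_map_iff (Localization.AtPrime p) p a_g).mp hu3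
  refine ⟨f₁ * a_g, p.primeCompl.mul_mem hf₁ hag, ?_⟩
  intro Rf Sf _ _ _ _ _ _ _ _ _ _
  have hfu : IsUnit (algebraMap R Rf (f₁ * a_g)) := IsLocalization.Away.algebraMap_isUnit _
  have hf₁u : IsUnit (algebraMap R Rf f₁) :=
    isUnit_of_dvd_unit (map_dvd _ (Dvd.intro _ rfl)) hfu
  have hagu : IsUnit (algebraMap R Rf a_g) :=
    isUnit_of_dvd_unit (map_dvd _ (Dvd.intro_left _ rfl)) hfu
  let τ : Localization.Away f₁ →ₐ[R] Rf := SpreadOut.awayHom f₁ Rf hf₁u
  let σ₀ : S →ₐ[R] Rf := τ.comp σ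
  have hσ₀f : IsUnit ((σ₀ : S →+* Rf) (algebraMap R S (f₁ * a_g))) := by
    change IsUnit (σ₀ (algebraMap R S (f₁ * a_g)))
    rw [σ₀.commutes]; exact hfu
  let σ'r : Sf →+* Rf := IsLocalization.Away.lift (algebraMap R S (f₁ * a_g)) hσ₀f
  have hσ'r : ∀ s : S, σ'r (algebraMap S Sf s) = σ₀ s := fun s =>
    IsLocalization.Away.lift_eq _ _ s
  have hcomm : ∀ y : Rf, σ'r (algebraMap Rf Sf y) = y := by
    have : (σ'r.comp (algebraMap Rf Sf)) = RingHom.id Rf := by
      apply IsLocalization.ringHom_ext (Submonoid.powers (f₁ * a_g))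
      ext r
      simp only [RingHom.comp_apply, RingHom.id_apply]
      rw [← IsScalarTower.algebraMap_apply R Rf Sf, IsScalarTower.algebraMap_apply R S Sf, hσ'r,
        σ₀.commutes]
    exact fun y => RingHom.congr_fun this y
  let σ' : Sf →ₐ[Rf] Rf := { σ'r with commutes' := fun y => hcomm y }
  have hrel : ∀ s : S, algebraMap S Sf g * algebraMap S Sf s =
      algebraMap S Sf g * algebraMap Rf Sf (σ₀ s) := by
    intro s
    refine SpreadOut.mul_eq_of_adjoin (IsScalarTower.toAlgHom R S Sf)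
      ((IsScalarTower.toAlgHom R Rf Sf).comp σ₀) (algebraMap S Sf g) (X : Set S) hX ?_ s
    intro x hx
    obtain ⟨a, b, hab, h0⟩ := hgX x hx
    change algebraMap S Sf g * algebraMap S Sf x = algebraMap S Sf g * algebraMap Rf Sf (τ (σ x))
    rw [hab]
    have h1 := SpreadOut.algHom_mk'_mul (Submonoid.powers f₁) τ a b
    have hBu : IsUnit (algebraMap R Rf (b : R)) := by
      obtain ⟨k, hk⟩ := b.2
      rw [← hk, map_pow]; exact hf₁u.pow k
    have h2 := congrArg (algebraMap S Sf) h0
    rw [map_mul, map_sub, map_mul, map_zero, mul_sub, sub_eq_zero] at h2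
    have e1 : algebraMap Rf Sf (algebraMap R Rf (b : R)) =
        algebraMap S Sf (algebraMap R S (b : R)) := by
      rw [← IsScalarTower.algebraMap_apply R Rf Sf, ← IsScalarTower.algebraMap_apply R S Sf]
    have e2 : algebraMap Rf Sf (algebraMap R Rf a) = algebraMap S Sf (algebraMap R S a) := by
      rw [← IsScalarTower.algebraMap_apply R Rf Sf, ← IsScalarTower.algebraMap_apply R S Sf]
    apply (hBu.map (algebraMap Rf Sf)).mul_right_cancel
    rw [mul_assoc, mul_assoc, ← map_mul (algebraMap Rf Sf), h1, e1, e2]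
    exact h2
  have hrel' : ∀ z : Sf, algebraMap S Sf g * z =
      algebraMap S Sf g * algebraMap Rf Sf (σ'r z) := by
    intro z
    obtain ⟨s, ⟨_, n, rfl⟩, hz⟩ :=
      IsLocalization.exists_mk'_eq (Submonoid.powers (algebraMap R S (f₁ * a_g))) z
    have hF : z * algebraMap S Sf ((algebraMap R S (f₁ * a_g)) ^ n) = algebraMap S Sf s := by
      rw [← hz]; exact IsLocalization.mk'_spec _ _ _
    have hFu : IsUnit (algebraMap S Sf ((algebraMap R S (f₁ * a_g)) ^ n)) := by
      rw [map_pow]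
      exact (IsLocalization.Away.algebraMap_isUnit (algebraMap R S (f₁ * a_g))).pow n
    have hFfix : algebraMap Rf Sf (σ'r (algebraMap S Sf ((algebraMap R S (f₁ * a_g)) ^ n))) =
        algebraMap S Sf ((algebraMap R S (f₁ * a_g)) ^ n) := by
      rw [hσ'r, ← map_pow, σ₀.commutes, ← IsScalarTower.algebraMap_apply R Rf Sf,
        IsScalarTower.algebraMap_apply R S Sf]
    apply hFu.mul_right_cancel
    rw [mul_assoc, hF, mul_assoc]
    conv_rhs => rw [← hFfix, ← map_mul, ← map_mul, hF, hσ'r]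
    exact hrel s
  have hGu : IsUnit (σ'r (algebraMap S Sf g)) := by
    rw [hσ'r]
    change IsUnit (τ (σ g))
    rw [← habg]
    have h1 := SpreadOut.algHom_mk'_mul (Submonoid.powers f₁) τ a_g b_g
    have : IsUnit (τ (IsLocalization.mk' (Localization.Away f₁) a_g b_g) *
        algebraMap R Rf (b_g : R)) := by rw [h1]; exact hagu
    exact isUnit_of_mul_isUnit_left this
  obtain ⟨u, hu⟩ := hGu
  have he1 : σ' (algebraMap S Sf g * algebraMap Rf Sf (↑u⁻¹ : Rf)) = 1 := by
    change σ'r (algebraMap S Sf g * algebraMap Rf Sf (↑u⁻¹ : Rf)) = 1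
    rw [map_mul, hcomm, ← hu, Units.mul_inv]
  have he : ∀ j, σ' j = 0 → (algebraMap S Sf g * algebraMap Rf Sf (↑u⁻¹ : Rf)) * j = 0 := by
    intro j hj
    have hj' : σ'r j = 0 := hj
    have h1 := hrel' j
    rw [hj', map_zero, mul_zero] at h1
    rw [mul_right_comm, h1, zero_mul]
  exact ⟨Sf ⧸ Ideal.span {algebraMap S Sf g * algebraMap Rf Sf (↑u⁻¹ : Rf)}, inferInstance,
    inferInstance, SpreadOut.nonempty_algEquiv_prod σ' _ he1 he⟩

end Groth.Agent.S2146
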