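import Groth.Statements.S2147
-- import your own Groth.Agent.* helpers here
import Mathlib
import Groth.Agent.Lib.Helper12.ProperLim
import Groth.Agent.Lib.Helper12.FpDesc
import Groth.Agent.Lib.Helper12.ApproxWrap
import Groth.Agent.Lib.Helper12.UpSet
import Groth.Agent.S0590

set_option autoImplicit false
universe u
open CategoryTheory AlgebraicGeometry
open Lim

namespace Groth.Agent.S2147
open Limits Opposite Groth.Agent.Lib.Helper12 Groth.Agent.Lib.Helper12.UpSet
  Groth.Agent.Lib.Helper12.ProperLim Groth.Agent.Lib.Helper12.ImageSys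
  Groth.Agent.Lib.Helper12.FpLimit
set_option backward.isDefEq.respectTransparency false
set_option linter.style.haveILetI false
set_option maxHeartbeats 1600000

/-- Let `f : X → S` be proper with `S` quasi-compact and quasi-separated. Then `f` is a limit of proper
morphisms `f_i : X_i → S_i` with `S_i` of finite type over `ℤ`: there are cofiltered diagrams of
schemes `X_i`, `S_i` with affine transition morphisms, a natural transformation with proper
components, and limit cones identified with `X` and `S` compatibly with `f`. -/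
theorem result {X S : Scheme.{u}} (f : X ⟶ S) [IsProper f] [CompactSpace S]
    [QuasiSeparatedSpace S] :
    ∃ (I : Type u) (_ : SmallCategory I) (_ : IsCofiltered I) (DX DS : I ⥤ Scheme.{u}) (φ : DX ⟶ DS)
      (cX : Limits.Cone DX) (cS : Limits.Cone DS) (_ : Limits.IsLimit cX) (_ : Limits.IsLimit cS)
      (eX : cX.pt ≅ X) (eS : cS.pt ≅ S),
      (∀ (i j : I) (a : i ⟶ j), IsAffineHom (DX.map a) ∧ IsAffineHom (DS.map a)) ∧
      (∀ i, IsProper (φ.app i) ∧ CompactSpace (DS.obj i) ∧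
        LocallyOfFiniteType (Limits.IsTerminal.from specULiftZIsTerminal (DS.obj i))) ∧
      (∀ i, cX.π.app i ≫ φ.app i = eX.hom ≫ f ≫ eS.inv ≫ cS.π.app i) := by
  classical
  obtain ⟨A, iA1, iA2, iA3, DS₀, cS₀, hcS₀, haff₀, hft₀, ⟨e₀⟩⟩ := Groth.Agent.S0590.result S
  haveI : ∀ {a b : Aᵒᵖ} (m : a ⟶ b), IsAffineHom (DS₀.map m) := fun {a b} m => haff₀ a b m
  haveI : ∀ a, CompactSpace (DS₀.obj a) := fun a => (hft₀ a).1
  haveI : ∀ a, QuasiSeparatedSpace (DS₀.obj a) := fun a => by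
    haveI := (hft₀ a).2
    exact ApproxWrap.quasiSeparatedSpace_of_lft
  obtain ⟨f', hf'⟩ : ∃ f' : X ⟶ cS₀.pt, f' = f ≫ e₀.inv := ⟨_, rfl⟩
  haveI : IsProper f' := by rw [hf']; infer_instance
  haveI : CompactSpace cS₀.pt := Scheme.compactSpace_of_isLimit DS₀ cS₀ hcS₀
  haveI : QuasiSeparatedSpace cS₀.pt := by
    obtain ⟨a⟩ := (inferInstance : Nonempty Aᵒᵖ)
    haveI := isAffineHom_π_app DS₀ cS₀ hcS₀ a
    exact quasiSeparatedSpace_of_quasiSeparated (cS₀.π.app a)
  haveI : CompactSpace X := QuasiCompact.compactSpace_of_compactSpace f'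
  haveI : QuasiSeparatedSpace X := quasiSeparatedSpace_of_quasiSeparated f'
  obtain ⟨X', p, j, hp1, hp2, hp3, hX'1, hX'2, hj, hjp, hsep⟩ :=
    ProperApprox.exists_closedImmersion_fp f'
  haveI : IsSeparated p := hsep inferInstance
  obtain ⟨i, W, w, g, hw1, hw2, hw3, hpb⟩ := FpDesc.descends_of_fp hcS₀ p
  obtain ⟨a0, rfl⟩ : ∃ a0 : A, i = op a0 := ⟨i.unop, rfl⟩
  -- restrict to the indices above `a0`
  let DS : (Up a0)ᵒᵖ ⥤ Scheme.{u} := upFunctor a0 ⋙ DS₀
  let cS : Cone DS := cS₀.whisker (upFunctor a0)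
  have hcS : IsLimit cS := (Functor.Initial.isLimitWhiskerEquiv (upFunctor a0) cS₀).symm hcS₀
  haveI : ∀ {a b : (Up a0)ᵒᵖ} (m : a ⟶ b), IsAffineHom (DS.map m) := fun {a b} m =>
    inferInstanceAs (IsAffineHom (DS₀.map ((upFunctor a0).map m)))
  haveI : ∀ a, CompactSpace (DS.obj a) := fun a =>
    inferInstanceAs (CompactSpace (DS₀.obj ((upFunctor a0).obj a)))
  haveI : ∀ a, QuasiSeparatedSpace (DS.obj a) := fun a =>
    inferInstanceAs (QuasiSeparatedSpace (DS₀.obj ((upFunctor a0).obj a)))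
  let τ : DS ⟶ (Functor.const (Up a0)ᵒᵖ).obj (DS₀.obj (op a0)) :=
    { app := fun k => DS₀.map (homOfLE k.unop.2).op
      naturality := fun k l m => by
        dsimp [DS]
        rw [Category.comp_id, ← DS₀.map_comp]
        rfl }
  obtain ⟨σ, hσ'⟩ : ∃ σ : cS.pt ⟶ DS₀.obj (op a0), σ = cS₀.π.app (op a0) := ⟨_, rfl⟩
  have hσ : ∀ a, cS.π.app a ≫ τ.app a = σ := fun a => by
    rw [hσ']
    exact cS₀.w _
  have hpb' : IsPullback g p w σ := by rw [hσ']; exact hpb
  obtain ⟨ι, hι⟩ : ∃ ι : X ⟶ pullback w σ, ι = j ≫ hpb'.isoPullback.hom := ⟨_, rfl⟩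
  haveI : IsClosedImmersion ι := by rw [hι]; infer_instance
  have hιp : ι ≫ pullback.snd w σ = f' := by
    rw [hι, Category.assoc, IsPullback.isoPullback_hom_snd, hjp]
  haveI : IsProper (ι ≫ pullback.snd w σ) := by rw [hιp]; infer_instance
  haveI : IsSeparated (pullback.snd w σ) := by
    have : pullback.snd w σ = hpb'.isoPullback.inv ≫ p := by
      rw [IsPullback.isoPullback_inv_snd]
    rw [this]; infer_instance
  obtain ⟨a₂, ha₂⟩ := exists_proper_stage DS cS hcS τ w σ hσ ι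
  obtain ⟨hlimZ⟩ := nonempty_isLimit_imgCone (fbDiagram DS τ w) (fbCone w cS σ hσ) ι
    (isLimitFbCone w cS hcS σ hσ)
  -- restrict to the indices above `a₂`
  let F₂ : (Up a₂)ᵒᵖ ⥤ (Up a0)ᵒᵖ := upFunctor a₂
  refine ⟨(Up a₂)ᵒᵖ, inferInstance, inferInstance, F₂ ⋙ ZS DS cS τ w σ hσ ι, F₂ ⋙ DS,
    Functor.whiskerLeft F₂ (stageMap DS cS τ w σ hσ ι),
    (imgCone (fbDiagram DS τ w) (fbCone w cS σ hσ) ι).whisker F₂, cS.whisker F₂,
    (Functor.Initial.isLimitWhiskerEquiv F₂ _).symm hlimZ,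
    (Functor.Initial.isLimitWhiskerEquiv F₂ _).symm hcS, Iso.refl X, e₀, ?_, ?_, ?_⟩
  · intro k l m
    refine ⟨?_, inferInstanceAs (IsAffineHom (DS.map (F₂.map m)))⟩
    show IsAffineHom ((ZS DS cS τ w σ hσ ι).map (F₂.map m))
    have hnat := (imgι (fbDiagram DS τ w) (fbCone w cS σ hσ) ι).naturality (F₂.map m)
    haveI : IsAffineHom ((ZS DS cS τ w σ hσ ι).map (F₂.map m) ≫
        (imgι (fbDiagram DS τ w) (fbCone w cS σ hσ) ι).app (F₂.obj l)) := by
      rw [hnat]; infer_instance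
    exact IsAffineHom.of_comp _ ((imgι (fbDiagram DS τ w) (fbCone w cS σ hσ) ι).app (F₂.obj l))
  · intro k
    refine ⟨ha₂ k.unop.1 k.unop.2, inferInstanceAs (CompactSpace (DS.obj (F₂.obj k))), ?_⟩
    exact (hft₀ _).2
  · intro k
    show (imgCone (fbDiagram DS τ w) (fbCone w cS σ hσ) ι).π.app (F₂.obj k) ≫
      (stageMap DS cS τ w σ hσ ι).app (F₂.obj k) = 𝟙 X ≫ f ≫ e₀.inv ≫ cS.π.app (F₂.obj k)
    rw [imgCone_π_stageMap, hιp, hf', Category.id_comp, Category.assoc]

end Groth.Agent.S2147
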