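import Groth.Statements.S2148
import Groth.Agent.Lib.Helper21.PBasisG

set_option autoImplicit false
universe u
open CAlg

namespace Groth.Agent.S2148

open Groth.Agent.Lib.Helper21.PBasis in
theorem result {k K : Type u} [Field k] [Field K] [Algebra k K] (p : ℕ) [Fact p.Prime]
    [CharP k p] [PerfectRing k p] (a : K) :
    KaehlerDifferential.D k K a = 0 ↔ ∃ b : K, b ^ p = a := by
  haveI : CharP K p := charP_of_injective_algebraMap (algebraMap k K).injective p
  rw [D_eq_zero_iff p k a]
  constructor
  · intro h
    have h3 : ∀ y ∈ EGA41.pPowerSubalgebra p k K, y ∈ (frobenius K p).range := by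
      intro y hy
      induction hy using Algebra.adjoin_induction with
      | mem z hz =>
        obtain ⟨b, rfl⟩ := hz
        exact ⟨b, rfl⟩
      | algebraMap r =>
        obtain ⟨c, hc⟩ := surjective_frobenius k p r
        refine ⟨algebraMap k K c, ?_⟩
        rw [← hc, frobenius_def, frobenius_def, map_pow]
      | add y z _ _ hy hz => exact add_mem hy hz
      | mul y z _ _ hy hz => exact mul_mem hy hz
    obtain ⟨g, hg⟩ := h3 a h
    exact ⟨g, hg⟩
  · rintro ⟨b, rfl⟩
    exact Algebra.subset_adjoin ⟨b, rfl⟩

end Groth.Agent.S2148
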