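import Groth.Statements.S2152
-- import your own Groth.Agent.* helpers here
import Mathlib
import Groth.Agent.Lib.Helper12.LimTop

set_option autoImplicit false
universe u
open CategoryTheory AlgebraicGeometry
open Lim

namespace Groth.Agent.S2152
open Limits Groth.Agent.Lib.Helper12.LimTop
set_option backward.isDefEq.respectTransparency false

/-- Let `c` be a limit cone of a diagram of schemes indexed by a small cofiltered category with affine
transition morphisms. Then the image of `c` under the forgetful functor to topological spaces is a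
limit cone: the underlying space of the limit scheme is the limit of the underlying spaces. -/
theorem result {I : Type u} [SmallCategory I] [IsCofiltered I] (D : I ⥤ Scheme.{u})
    [∀ (i j : I) (f : i ⟶ j), IsAffineHom (D.map f)] (c : Limits.Cone D) (hc : Limits.IsLimit c) :
    Nonempty (Limits.IsLimit (Scheme.forgetToTop.mapCone c)) := by
  let F : I ⥤ TopCat.{u} := D ⋙ Scheme.forgetToTop
  let t : Cone F := Scheme.forgetToTop.mapCone c
  let hL := TopCat.limitConeIsLimit F
  let θ : t.pt ⟶ (TopCat.limitCone F).pt := hL.lift t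
  have hθ : ∀ (s : c.pt) (i : I), (θ s).1 i = c.π.app i s := fun s i => rfl
  suffices IsIso θ from ⟨IsLimit.ofPointIso hL⟩
  rw [TopCat.isIso_iff_isHomeomorph]
  have hinj : Function.Injective θ := by
    intro s s' h
    refine eq_of_forall_π_eq D c hc (fun i => ?_)
    rw [← hθ s i, ← hθ s' i, h]
  have hsurj : Function.Surjective θ := by
    intro x
    obtain ⟨s, hs⟩ := exists_point_of_compatible D c hc x.1 (fun f => x.2 f)
    refine ⟨s, Subtype.ext (funext fun i => ?_)⟩
    rw [hθ, hs]
  refine ⟨θ.hom.continuous, ?_, hinj, hsurj⟩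
  intro U hU
  rw [isOpen_iff_forall_mem_open]
  rintro _ ⟨s, hsU, rfl⟩
  obtain ⟨i, O, hsO, hsub⟩ := exists_preimage_subset_of_isOpen D c hc hU hsU
  refine ⟨⇑((TopCat.limitCone F).π.app i) ⁻¹' (O : Set (D.obj i)), ?_,
    O.2.preimage ((TopCat.limitCone F).π.app i).hom.continuous, hsO⟩
  intro y hy
  obtain ⟨s', rfl⟩ := hsurj y
  exact ⟨s', hsub hy, rfl⟩

end Groth.Agent.S2152
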