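import Groth.Statements.S2154
-- import your own Groth.Agent.* helpers here
import Mathlib
import Groth.Agent.Lib.Helper12.LimFinTrans

set_option autoImplicit false
universe u
open CategoryTheory AlgebraicGeometry
open Lim

namespace Groth.Agent.S2154
open CategoryTheory.Limits Groth.Agent.Lib.Helper12.LimFinTrans

set_option backward.isDefEq.respectTransparency false

/-- Let `S` be quasi-compact and quasi-separated and `X = lim X_i` a cofiltered limit of quasi-compact
quasi-separated `S`-schemes locally of finite type over `S`, with finite transition morphisms. If `X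
→ S` is integral then `X_i → S` is finite for all `i` beyond some index. -/
theorem result {I : Type u} [SmallCategory I] [IsCofiltered I] (S : Scheme.{u}) [CompactSpace S]
    [QuasiSeparatedSpace S] (D : I ⥤ Over S) (c : Limits.Cone D) (hc : Limits.IsLimit c)
    [∀ (i j : I) (f : i ⟶ j), IsFinite (D.map f).left] [∀ i, CompactSpace (D.obj i).left]
    [∀ i, QuasiSeparatedSpace (D.obj i).left] [∀ i, LocallyOfFiniteType (D.obj i).hom] [IsIntegralHom c.pt.hom] :
    ∃ i₀ : I, ∀ (i : I) (_ : i ⟶ i₀), IsFinite (D.obj i).hom := by
  classical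
  haveI : IsConnected I := IsCofiltered.isConnected I
  have hc' : IsLimit ((Over.forget S).mapCone c) := isLimitOfPreserves (Over.forget S) hc
  obtain ⟨j₀⟩ := IsCofiltered.nonempty (C := I)
  haveI : ∀ {i j : I} (f : i ⟶ j), IsFinite ((D ⋙ Over.forget S).map f) := by
    intro i j f; dsimp; infer_instance
  haveI : ∀ i, CompactSpace ((D ⋙ Over.forget S).obj i) := by
    intro i; dsimp; infer_instance
  haveI : ∀ i, QuasiSeparatedSpace ((D ⋙ Over.forget S).obj i) := by
    intro i; dsimp; infer_instance
  haveI : IsIntegralHom (((Over.forget S).mapCone c).π.app j₀ ≫ (D.obj j₀).hom) := by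
    have e : ((Over.forget S).mapCone c).π.app j₀ ≫ (D.obj j₀).hom = c.pt.hom :=
      Over.w (c.π.app j₀)
    rw [e]; infer_instance
  obtain ⟨j, -, hj⟩ := exists_isFinite (D ⋙ Over.forget S) _ hc' S (fun j => (D.obj j).hom)
    (fun a => Over.w (D.map a)) j₀
  exact ⟨j, hj⟩

end Groth.Agent.S2154
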