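-- Statement S2158.
import Groth.Statements.S2158
import Mathlib
import Groth.Agent.S5005
import Groth.Agent.Lib.Helper1.DerSmooth
import Groth.Agent.Lib.Helper1.DerUnram
import Groth.Agent.Lib.Helper3.AssPoints
set_option linter.style.haveILetI false

set_option autoImplicit false
universe u
open CategoryTheory AlgebraicGeometry
open Mor

namespace Groth.Agent.S2158

open Opposite TensorProduct
open Groth.Agent.Lib.Helper1 Groth.Agent.Lib.Helper3

theorem subsingleton_kaehler_localization (R S T : Type u) [CommRing R] [CommRing S] [CommRing T]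
    [Algebra R S] [Algebra R T] [Algebra S T] [IsScalarTower R S T] (M : Submonoid S)
    [IsLocalization M T] :
    Subsingleton Ω[T⁄R] ↔ ∀ ω : Ω[S⁄R], ∃ c ∈ M, c • ω = 0 := by
  have hloc : IsLocalizedModule M (KaehlerDifferential.map R R S T) :=
    KaehlerDifferential.isLocalizedModule_map R S T M
  constructor
  · intro h ω
    have h0 : KaehlerDifferential.map R R S T ω = 0 := Subsingleton.elim _ _
    obtain ⟨c, hc⟩ := (IsLocalizedModule.eq_zero_iff M (KaehlerDifferential.map R R S T)).mp h0
    exact ⟨c.1, c.2, hc⟩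
  · intro h
    refine ⟨fun a b => ?_⟩
    suffices h0 : ∀ z : Ω[T⁄R], z = 0 by rw [h0 a, h0 b]
    intro z
    obtain ⟨⟨ω, c⟩, hωc⟩ := hloc.surj z
    obtain ⟨c', hc', hc'ω⟩ := h ω
    have h1 : KaehlerDifferential.map R R S T ω = 0 :=
      (IsLocalizedModule.eq_zero_iff M (KaehlerDifferential.map R R S T)).mpr ⟨⟨c', hc'⟩, hc'ω⟩
    rw [h1] at hωc
    have hu : IsUnit (algebraMap S T c.1) := IsLocalization.map_units T c
    have h2 : algebraMap S T c.1 • z = 0 := by
      rw [algebraMap_smul]; exact hωc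
    exact hu.smul_eq_zero.mp h2

/-- the stalk of the differentials vanishes iff the stalk map is formally unramified -/
theorem stalk_subsingleton_iff {X S : Scheme.{u}} (f : X ⟶ S) [QuasiSeparated f] (x : X) :
    Subsingleton ((Omega.sheaf f).presheaf.stalk x) ↔ (f.stalkMap x).hom.FormallyUnramified := by
  have hd := Groth.Agent.S5005.result f
  haveI : (Omega.sheaf f).IsQuasicoherent := DerSmooth.isQuasicoherent f _ hd
  obtain ⟨U, V, hU, hV, hxU, -, hUV⟩ := DerUnram.exists_small_affine f x ⊤ trivial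
  have hfxV : f x ∈ V := hUV hxU
  letI algAB : Algebra Γ(S, V) Γ(X, U) := (f.appLE V U hUV).hom.toAlgebra
  letI algBOx : Algebra Γ(X, U) (X.presheaf.stalk x) :=
    TopCat.Presheaf.algebra_section_stalk X.presheaf (U := U) ⟨x, hxU⟩
  letI algAOs : Algebra Γ(S, V) (S.presheaf.stalk (f x)) :=
    TopCat.Presheaf.algebra_section_stalk S.presheaf (U := V) ⟨f x, hfxV⟩
  letI algOsOx : Algebra (S.presheaf.stalk (f x)) (X.presheaf.stalk x) :=
    (f.stalkMap x).hom.toAlgebra
  letI algAOx : Algebra Γ(S, V) (X.presheaf.stalk x) :=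
    ((algebraMap Γ(X, U) (X.presheaf.stalk x)).comp (algebraMap Γ(S, V) Γ(X, U))).toAlgebra
  haveI t₁ : IsScalarTower Γ(S, V) Γ(X, U) (X.presheaf.stalk x) :=
    IsScalarTower.of_algebraMap_eq fun _ => rfl
  haveI t₂ : IsScalarTower Γ(S, V) (S.presheaf.stalk (f x)) (X.presheaf.stalk x) := by
    refine IsScalarTower.of_algebraMap_eq fun a => ?_
    change X.presheaf.germ U x hxU (f.appLE V U hUV a) =
      f.stalkMap x (S.presheaf.germ V (f x) hfxV a)
    rw [Scheme.Hom.germ_stalkMap_apply, Scheme.Hom.appLE]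
    exact (TopCat.Presheaf.germ_res_apply X.presheaf (homOfLE hUV) x hxU (f.app V a))
  haveI locX : IsLocalization.AtPrime (X.presheaf.stalk x) (hU.primeIdealOf ⟨x, hxU⟩).asIdeal :=
    hU.isLocalization_stalk ⟨x, hxU⟩
  haveI locS : IsLocalization.AtPrime (S.presheaf.stalk (f x))
      (hV.primeIdealOf ⟨f x, hfxV⟩).asIdeal := hV.isLocalization_stalk ⟨f x, hfxV⟩
  -- step 1: the stalk in terms of sections
  rw [QS.subsingleton_stalk_iff hU (Omega.sheaf f) x hxU]
  -- step 2: sections are Kähler differentials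
  have b₁ := DerStruct.toSect_bijective f (OmegaSh.dOmega f) hU hV hUV hd
  let T₁ : Ω[Γ(X, U)⁄Γ(S, V)] ≃ₗ[Γ(X, U)] Γ(Omega.sheaf f, U) :=
    LinearEquiv.ofBijective (DerStruct.toSect f (OmegaSh.dOmega f) V U hUV).hom b₁
  have step2 : (∀ m : Γ(Omega.sheaf f, U), ∃ c : Γ(X, U),
      c ∉ (hU.primeIdealOf ⟨x, hxU⟩).asIdeal ∧ c • m = 0) ↔
      ∀ ω : Ω[Γ(X, U)⁄Γ(S, V)], ∃ c ∈ (hU.primeIdealOf ⟨x, hxU⟩).asIdeal.primeCompl, c • ω = 0 := by
    constructor
    · intro h ω
      obtain ⟨c, hc, hcω⟩ := h (T₁ ω)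
      refine ⟨c, hc, T₁.injective ?_⟩
      rw [map_smul, hcω, map_zero]
    · intro h m
      obtain ⟨c, hc, hcω⟩ := h (T₁.symm m)
      refine ⟨c, hc, ?_⟩
      have := congrArg T₁ hcω
      rwa [map_smul, LinearEquiv.apply_symm_apply, map_zero] at this
  rw [step2, ← subsingleton_kaehler_localization Γ(S, V) Γ(X, U) (X.presheaf.stalk x),
    ← Algebra.formallyUnramified_iff]
  -- step 4: change of base ring
  change _ ↔ Algebra.FormallyUnramified (S.presheaf.stalk (f x)) (X.presheaf.stalk x)
  constructor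
  · intro h
    exact Algebra.FormallyUnramified.of_restrictScalars Γ(S, V) _ _
  · intro h
    haveI : Algebra.FormallyUnramified Γ(S, V) (S.presheaf.stalk (f x)) :=
      Algebra.FormallyUnramified.of_isLocalization
        (hV.primeIdealOf ⟨f x, hfxV⟩).asIdeal.primeCompl
    exact Algebra.FormallyUnramified.comp Γ(S, V) (S.presheaf.stalk (f x)) _

/-- Let `f : X → S` be locally of finite type and quasi-separated (so that the diagonal is quasi-compact
and the prelude's sheaf of differentials is the conormal sheaf of the diagonal near every point), `x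
∈ X`, `s = f(x)`. Then the stalk `Ω_{X/S,x}` vanishes if and only if `𝔪_s O_{X,x} = 𝔪_x` and
`κ(x)/κ(s)` is a finite separable extension. -/
theorem result {X S : Scheme.{u}} (f : X ⟶ S) [LocallyOfFiniteType f] [QuasiSeparated f] (x : X) :
    Subsingleton ((Omega.sheaf f).presheaf.stalk x) ↔
      ((IsLocalRing.maximalIdeal (S.presheaf.stalk (f.base x))).map (f.stalkMap x).hom =
          IsLocalRing.maximalIdeal (X.presheaf.stalk x) ∧
        (f.residueFieldMap x).hom.Finite ∧
        @Algebra.IsSeparable (S.residueField (f.base x)) (X.residueField x) _ _ (f.residueFieldMap x).hom.toAlgebra) := by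
  rw [stalk_subsingleton_iff]
  letI algOsOx : Algebra (S.presheaf.stalk (f x)) (X.presheaf.stalk x) :=
    (f.stalkMap x).hom.toAlgebra
  haveI : IsLocalHom (algebraMap (S.presheaf.stalk (f x)) (X.presheaf.stalk x)) :=
    inferInstanceAs <| IsLocalHom (f.stalkMap x).hom
  haveI : Algebra.EssFiniteType (S.presheaf.stalk (f x)) (X.presheaf.stalk x) := by
    rw [← RingHom.essFiniteType_algebraMap, RingHom.algebraMap_toAlgebra]
    exact LocallyOfFiniteType.stalkMap f x
  change Algebra.FormallyUnramified (S.presheaf.stalk (f x)) (X.presheaf.stalk x) ↔ _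
  have halg : (f.residueFieldMap x).hom.toAlgebra =
      (inferInstance : Algebra (IsLocalRing.ResidueField (S.presheaf.stalk (f x)))
        (IsLocalRing.ResidueField (X.presheaf.stalk x))) := by
    refine Algebra.algebra_ext _ _ fun y => ?_
    obtain ⟨y, rfl⟩ := IsLocalRing.residue_surjective y
    rfl
  constructor
  · intro h
    haveI := h
    have hfin : Module.Finite (IsLocalRing.ResidueField (S.presheaf.stalk (f x)))
      (IsLocalRing.ResidueField (X.presheaf.stalk x)) := inferInstance
    have hsep : Algebra.IsSeparable (IsLocalRing.ResidueField (S.presheaf.stalk (f x)))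
      (IsLocalRing.ResidueField (X.presheaf.stalk x)) := inferInstance
    refine ⟨Algebra.FormallyUnramified.map_maximalIdeal, ?_, ?_⟩
    · change @Module.Finite _ _ _ _ (f.residueFieldMap x).hom.toAlgebra.toModule
      rw [halg]
      exact hfin
    · rw [halg]
      exact hsep
  · rintro ⟨h1, -, h3⟩
    rw [halg] at h3
    haveI : Algebra.IsSeparable (IsLocalRing.ResidueField (S.presheaf.stalk (f x)))
      (IsLocalRing.ResidueField (X.presheaf.stalk x)) := h3
    exact Algebra.FormallyUnramified.of_map_maximalIdeal h1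

end Groth.Agent.S2158
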