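import Groth.Statements.S2159
import Mathlib.Algebra.Module.Projective
import Mathlib.LinearAlgebra.Prod

set_option autoImplicit false
universe u
open CAlg

namespace Groth.Agent.S2159

/-- Given surjections `p₁ : P₁ → M` and `p₂ : P₂ → M` from projective modules, with kernels `K` and `L`,
there is an isomorphism `K ⊕ P₂ ≅ L ⊕ P₁`. -/
theorem result {R M P₁ P₂ : Type u} [CommRing R] [AddCommGroup M] [Module R M] [AddCommGroup P₁] [Module R P₁]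
    [Module.Projective R P₁] [AddCommGroup P₂] [Module R P₂] [Module.Projective R P₂] (p₁ : P₁ →ₗ[R] M) (p₂ : P₂ →ₗ[R] M)
    (h₁ : Function.Surjective p₁) (h₂ : Function.Surjective p₂) :
    Nonempty ((LinearMap.ker p₁ × P₂) ≃ₗ[R] (LinearMap.ker p₂ × P₁)) := by
  obtain ⟨f, hf⟩ := Module.projective_lifting_property p₂ p₁ h₂
  obtain ⟨g, hg⟩ := Module.projective_lifting_property p₁ p₂ h₁
  have hf' : ∀ x, p₂ (f x) = p₁ x := fun x => LinearMap.congr_fun hf x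
  have hg' : ∀ y, p₁ (g y) = p₂ y := fun y => LinearMap.congr_fun hg y
  -- φ(k, y) = (y - f (k + g y), k + g y)
  let φ₁ : (LinearMap.ker p₁ × P₂) →ₗ[R] P₂ :=
    LinearMap.snd R _ _ - f ∘ₗ ((LinearMap.ker p₁).subtype ∘ₗ LinearMap.fst R _ _ + g ∘ₗ LinearMap.snd R _ _)
  let φ₂ : (LinearMap.ker p₁ × P₂) →ₗ[R] P₁ :=
    (LinearMap.ker p₁).subtype ∘ₗ LinearMap.fst R _ _ + g ∘ₗ LinearMap.snd R _ _
  have hφ₁ : ∀ z, φ₁ z ∈ LinearMap.ker p₂ := by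
    rintro ⟨⟨k, hk⟩, y⟩
    rw [LinearMap.mem_ker] at hk ⊢
    simp [φ₁, hf', hg', hk]
  let ψ₁ : (LinearMap.ker p₂ × P₁) →ₗ[R] P₁ :=
    LinearMap.snd R _ _ - g ∘ₗ ((LinearMap.ker p₂).subtype ∘ₗ LinearMap.fst R _ _ + f ∘ₗ LinearMap.snd R _ _)
  let ψ₂ : (LinearMap.ker p₂ × P₁) →ₗ[R] P₂ :=
    (LinearMap.ker p₂).subtype ∘ₗ LinearMap.fst R _ _ + f ∘ₗ LinearMap.snd R _ _
  have hψ₁ : ∀ z, ψ₁ z ∈ LinearMap.ker p₁ := by
    rintro ⟨⟨l, hl⟩, x⟩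
    rw [LinearMap.mem_ker] at hl ⊢
    simp [ψ₁, hf', hg', hl]
  let φ : (LinearMap.ker p₁ × P₂) →ₗ[R] (LinearMap.ker p₂ × P₁) :=
    (φ₁.codRestrict _ hφ₁).prod φ₂
  let ψ : (LinearMap.ker p₂ × P₁) →ₗ[R] (LinearMap.ker p₁ × P₂) :=
    (ψ₁.codRestrict _ hψ₁).prod ψ₂
  refine ⟨LinearEquiv.ofLinearMap φ ψ ?_ ?_⟩
  · refine LinearMap.ext fun z => ?_
    obtain ⟨⟨l, hl⟩, x⟩ := z
    refine Prod.ext (Subtype.ext ?_) ?_ <;> simp [φ, ψ, φ₁, φ₂, ψ₁, ψ₂]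
  · refine LinearMap.ext fun z => ?_
    obtain ⟨⟨k, hk⟩, y⟩ := z
    refine Prod.ext (Subtype.ext ?_) ?_ <;> simp [φ, ψ, φ₁, φ₂, ψ₁, ψ₂]

end Groth.Agent.S2159
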