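import Groth.Statements.S2160
import Mathlib.RingTheory.KrullDimension.Basic
import Mathlib.RingTheory.Spectrum.Prime.Topology
import Mathlib.RingTheory.Noetherian.Basic
import Mathlib.RingTheory.Ideal.KrullsHeightTheorem
import Mathlib.RingTheory.Ideal.Height
import Mathlib.RingTheory.Ideal.MinimalPrime.Noetherian

set_option autoImplicit false
universe u
open CAlg

namespace Groth.Agent.S2160

/-- Let `R` be a Noetherian local domain of Krull dimension at least `2`. Then every nonempty open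
subset of `Spec R` is infinite. -/
theorem result {R : Type u} [CommRing R] [IsDomain R] [IsLocalRing R] [IsNoetherianRing R]
    (hdim : 2 ≤ ringKrullDim R) (U : Set (PrimeSpectrum R)) (hU : IsOpen U) (hne : U.Nonempty) : U.Infinite := by
  classical
  set m := IsLocalRing.maximalIdeal R with hm
  have hmh : (2 : ℕ∞) ≤ m.height := by
    have : (2 : WithBot ℕ∞) ≤ (m.height : WithBot ℕ∞) := by
      rw [IsLocalRing.maximalIdeal_height_eq_ringKrullDim]; exact hdim
    exact WithBot.coe_le_coe.mp (by simpa using this)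
  have hmbot : m ≠ ⊥ := by
    intro h
    rw [h, Ideal.height_bot] at hmh
    simp at hmh
  obtain ⟨g, hgm, hg0⟩ : ∃ g ∈ m, g ≠ 0 := Submodule.exists_mem_ne_zero_of_ne_bot hmbot
  obtain ⟨x, hxU⟩ := hne
  obtain ⟨_, ⟨f, rfl⟩, hxf, hfU⟩ :=
    PrimeSpectrum.isTopologicalBasis_basic_opens.isOpen_iff.mp hU x hxU
  have hf0 : f ≠ 0 := by
    rintro rfl
    simp at hxf
  have hf'0 : f * g ≠ 0 := mul_ne_zero hf0 hg0
  have hf'm : f * g ∈ m := Ideal.mul_mem_left _ _ hgm
  have hsub : (PrimeSpectrum.basicOpen (f * g) : Set (PrimeSpectrum R)) ⊆ U := by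
    intro q hq
    apply hfU
    intro hfq
    exact hq (Ideal.mul_mem_right _ _ hfq)
  apply Set.Infinite.mono hsub
  intro hfin
  have hminfin := Ideal.finite_minimalPrimes_of_isNoetherianRing R (Ideal.span {f * g})
  let F : Finset (Ideal R) :=
    (hfin.toFinset.image PrimeSpectrum.asIdeal).erase ⊥ ∪ hminfin.toFinset
  have hFmem : ∀ q, q ∈ F ↔ (q ≠ ⊥ ∧ ∃ q' : PrimeSpectrum R, f * g ∉ q'.asIdeal ∧ q'.asIdeal = q) ∨
      q ∈ (Ideal.span {f * g}).minimalPrimes := by
    intro q
    simp only [F, Finset.mem_union, Finset.mem_erase, Finset.mem_image, Set.Finite.mem_toFinset]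
    rfl
  have hFprime : ∀ q ∈ F, q.IsPrime := by
    intro q hq
    rcases (hFmem q).mp hq with ⟨_, q', _, rfl⟩ | h
    · exact q'.2
    · exact h.1.1
  have hspan_le : Ideal.span {f * g} ≤ m := (Ideal.span_singleton_le_iff_mem _).mpr hf'm
  have hFm : ∀ q ∈ F, ¬ m ≤ q := by
    intro q hq hmq
    rcases (hFmem q).mp hq with ⟨_, q', hq', rfl⟩ | h
    · exact hq' (hmq hf'm)
    · have h1 := Ideal.height_le_one_of_isPrincipal_of_mem_minimalPrimes _ q h
      have h2 := Ideal.height_mono hmq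
      have : (2 : ℕ∞) ≤ 1 := hmh.trans (h2.trans h1)
      simp at this
  have hnot : ¬ ((m : Set R) ⊆ ⋃ q ∈ (F : Set (Ideal R)), ((id q : Ideal R) : Set R)) := by
    rw [Ideal.subset_union_prime (f := id) ⊥ ⊥ (fun q hq _ _ => hFprime q hq)]
    push Not
    exact hFm
  obtain ⟨x, hxm, hxF⟩ := Set.not_subset.mp hnot
  have hxF' : ∀ q ∈ F, x ∉ q := by
    intro q hq hxq
    exact hxF (Set.mem_biUnion (Finset.mem_coe.mpr hq) hxq)
  have hne_top : Ideal.span {f * g} ≠ ⊤ := fun h => (IsLocalRing.maximalIdeal.isMaximal R).ne_top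
    (top_le_iff.mp (h ▸ hspan_le))
  obtain ⟨p₀, hp₀⟩ := (Ideal.span {f * g}).nonempty_minimalPrimes hne_top
  have hx0 : x ≠ 0 := by
    rintro rfl
    exact hxF' p₀ ((hFmem p₀).mpr (Or.inr hp₀)) (zero_mem _)
  have hxspan_le : Ideal.span {x} ≤ m := (Ideal.span_singleton_le_iff_mem _).mpr hxm
  have hne_top' : Ideal.span {x} ≠ ⊤ := fun h => (IsLocalRing.maximalIdeal.isMaximal R).ne_top
    (top_le_iff.mp (h ▸ hxspan_le))
  obtain ⟨p, hp⟩ := (Ideal.span {x}).nonempty_minimalPrimes hne_top'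
  have hpprime : p.IsPrime := hp.1.1
  have hxp : x ∈ p := hp.1.2 (Ideal.mem_span_singleton_self x)
  have hph : p.height ≤ 1 := Ideal.height_le_one_of_isPrincipal_of_mem_minimalPrimes _ p hp
  have hpbot : p ≠ ⊥ := by
    rintro rfl
    exact hx0 (by simpa using hxp)
  by_cases hfp : f * g ∈ p
  · obtain ⟨p', hp', hp'p⟩ := Ideal.exists_minimalPrimes_le (I := Ideal.span {f * g}) (J := p)
      ((Ideal.span_singleton_le_iff_mem _).mpr hfp)
    have hp'prime : p'.IsPrime := hp'.1.1
    have hp'bot : p' ≠ ⊥ := by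
      rintro rfl
      exact hf'0 (by simpa using hp'.1.2 (Ideal.mem_span_singleton_self (f * g)))
    have hpp : p' = p := by
      by_contra hne
      have hlt : p' < p := lt_of_le_of_ne hp'p hne
      have h1 := Ideal.height_add_one_le_of_lt_of_isPrime hlt
      have h2 : p'.height + 1 ≤ 0 + 1 := by simpa using h1.trans hph
      have h3 : p'.height = 0 := by
        have := (ENat.add_le_add_iff_right ENat.one_ne_top).mp h2
        exact le_antisymm this bot_le
      exact hp'bot (Ideal.height_eq_zero_iff_eq_bot.mp h3)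
    exact hxF' p ((hFmem p).mpr (Or.inr (hpp ▸ hp'))) hxp
  · exact hxF' p ((hFmem p).mpr (Or.inl ⟨hpbot, ⟨p, hpprime⟩, hfp, rfl⟩)) hxp

end Groth.Agent.S2160
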