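import Groth.Statements.S2161
import Groth.Agent.Lib.Helper11.SymSN

set_option autoImplicit false
universe u
open CAlg

namespace Groth.Agent.S2161

open Groth.Agent.Lib.Helper11 in
theorem uh_of_hyp {R S : Type u} [CommRing R] [CommRing S] [Algebra R S]
    (hker : ∀ r : R, algebraMap R S r = 0 → IsNilpotent r) (G : Set S) (hG : Algebra.adjoin R G = ⊤)
    (hpow : ∀ x ∈ G, ∃ (n : ℕ) (P : Polynomial R), 0 < n ∧
      Polynomial.map (algebraMap R S) P = (Polynomial.X - Polynomial.C x) ^ n) :
    UHRing.UH (algebraMap R S) := by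
  have hint : ∀ x ∈ G, IsIntegral R x := by
    intro x hx
    obtain ⟨n, P, hn, hP⟩ := hpow x hx
    rcases subsingleton_or_nontrivial S with hS | hS
    · have : x = 0 := Subsingleton.elim _ _
      rw [this]; exact isIntegral_zero
    have hmem : (Polynomial.X - Polynomial.C x) ^ n ∈ Polynomial.lifts (algebraMap R S) :=
      (Polynomial.mem_lifts _).mpr ⟨P, hP⟩
    obtain ⟨Q, hQ, -, hQm⟩ := Polynomial.lifts_and_degree_eq_and_monic hmem
      ((Polynomial.monic_X_sub_C x).pow n)
    refine ⟨Q, hQm, ?_⟩
    rw [Polynomial.eval₂_eq_eval_map, hQ]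
    simp [hn.ne']
  refine ⟨?_, ?_, ?_⟩
  · intro s
    have h : Algebra.adjoin R G ≤ integralClosure R S := Algebra.adjoin_le (fun x hx => hint x hx)
    have hs : s ∈ Algebra.adjoin R G := by rw [hG]; exact Algebra.mem_top
    exact h hs
  · intro r hr
    exact mem_nilradical.mpr (hker r (RingHom.mem_ker.mp hr))
  · intro K _ g₁ g₂ hg
    have hGeq : ∀ x ∈ G, g₁ x = g₂ x := by
      intro x hx
      obtain ⟨n, P, hn, hP⟩ := hpow x hx
      have h1 : Polynomial.map (g₁.comp (algebraMap R S)) P =
          (Polynomial.X - Polynomial.C (g₁ x)) ^ n := by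
        rw [← Polynomial.map_map, hP]
        simp
      have h2 : Polynomial.map (g₂.comp (algebraMap R S)) P =
          (Polynomial.X - Polynomial.C (g₂ x)) ^ n := by
        rw [← Polynomial.map_map, hP]
        simp
      rw [hg, h2] at h1
      have h3 := congrArg (Polynomial.eval (g₁ x)) h1
      simp only [Polynomial.eval_pow, Polynomial.eval_sub, Polynomial.eval_X, Polynomial.eval_C,
        sub_self, zero_pow hn.ne'] at h3
      have h4 : g₁ x - g₂ x = 0 := pow_eq_zero_iff hn.ne' |>.mp h3
      exact sub_eq_zero.mp h4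
    ext s
    have hs : s ∈ Algebra.adjoin R G := by rw [hG]; exact Algebra.mem_top
    induction hs using Algebra.adjoin_induction with
    | mem x hx => exact hGeq x hx
    | algebraMap r => exact RingHom.congr_fun hg r
    | add x y _ _ hx hy => rw [map_add, map_add, hx, hy]
    | mul x y _ _ hx hy => rw [map_mul, map_mul, hx, hy]

/-- Let R → S be a ring map whose kernel consists of nilpotent elements, and suppose S is generated as
an R-algebra by elements x for which some power (T − x)ⁿ, n > 0, is the image of a polynomial over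
R. Then Spec S → Spec R is a homeomorphism, and for every prime 𝔮 of S over 𝔭 the extension
κ(𝔮)/κ(𝔭) is purely inseparable. -/
theorem result {R S : Type u} [CommRing R] [CommRing S] [Algebra R S]
    (hker : ∀ r : R, algebraMap R S r = 0 → IsNilpotent r) (G : Set S) (hG : Algebra.adjoin R G = ⊤)
    (hpow : ∀ x ∈ G, ∃ (n : ℕ) (P : Polynomial R), 0 < n ∧
      Polynomial.map (algebraMap R S) P = (Polynomial.X - Polynomial.C x) ^ n) :
    IsHomeomorph (PrimeSpectrum.comap (algebraMap R S)) ∧
      ∀ (q : Ideal S) [q.IsPrime] (p : Ideal R) [p.IsPrime] [q.LiesOver p],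
        @IsPurelyInseparable p.ResidueField q.ResidueField _ _
          (Ideal.ResidueField.mapₐ p q (Algebra.ofId R S) (q.over_def p)).toRingHom.toAlgebra := by

  have hUH := uh_of_hyp hker G hG hpow
  refine ⟨?_, ?_⟩
  · have hU : FlatMor.IsUnivHomeo (AlgebraicGeometry.Spec.map (CommRingCat.ofHom (algebraMap R S))) :=
      (Groth.Agent.Lib.Helper11.UHRing.isUnivHomeo_SpecMap_iff _).mpr hUH
    have hh : IsHomeomorph (AlgebraicGeometry.Spec.map (CommRingCat.ofHom (algebraMap R S))) :=
      CategoryTheory.MorphismProperty.universally_le _ _ hU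
    exact hh
  · intro q _ p _ _
    have hp : p = Ideal.comap (algebraMap R S) q := q.over_def p
    subst hp
    exact Groth.Agent.Lib.Helper11.SymSN.isPurelyInseparable_residueField (algebraMap R S) hUH
      ⟨q, inferInstance⟩

end Groth.Agent.S2161
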