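import Groth.Statements.S2163
import Mathlib

set_option autoImplicit false
universe u
open CAlg

namespace Groth.Agent.S2163

/-- `v ↦ Σ v_i f_i` as a map onto the ideal generated by `f`. -/
noncomputable def phi {R : Type u} [CommRing R] {l : ℕ} (f : Fin l → R) :
    (Fin l → R) →ₗ[R] (Ideal.span (Set.range f)) :=
  LinearMap.codRestrict _ (Fintype.linearCombination R f) (fun v => by
    show _ ∈ Submodule.span R (Set.range f)
    rw [← Fintype.range_linearCombination]
    exact LinearMap.mem_range_self _ v)

theorem phi_coe {R : Type u} [CommRing R] {l : ℕ} (f : Fin l → R) (v : Fin l → R) :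
    ((phi f v : Ideal.span (Set.range f)) : R) = ∑ i, v i * f i := rfl

theorem phi_surjective {R : Type u} [CommRing R] {l : ℕ} (f : Fin l → R) :
    Function.Surjective (phi f) := by
  rintro ⟨z, hz⟩
  have hz' : z ∈ Submodule.span R (Set.range f) := hz
  rw [← Fintype.range_linearCombination] at hz'
  obtain ⟨v, hv⟩ := hz'
  exact ⟨v, Subtype.ext hv⟩

theorem mem_ker_phi {R : Type u} [CommRing R] {l : ℕ} (f : Fin l → R) (v : Fin l → R) :
    v ∈ LinearMap.ker (phi f) ↔ ∑ i, v i * f i = 0 := by
  rw [LinearMap.mem_ker, ← phi_coe, ← Submodule.coe_eq_zero]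

/-- A ring `R` is coherent — every finitely generated ideal is a finitely presented module — if and only
if for every index set `A` (in the same universe) the product module `R^A` is flat. -/
theorem result {R : Type u} [CommRing R] :
    (∀ I : Ideal R, I.FG → Module.FinitePresentation R I) ↔ ∀ (A : Type u), Module.Flat R (A → R) := by
  constructor
  · intro hcoh A
    refine Module.Flat.of_forall_isTrivialRelation ?_
    intro l f x hx
    have hIfg : (Ideal.span (Set.range f)).FG := Submodule.fg_span (Set.finite_range f)
    haveI : Module.FinitePresentation R (Ideal.span (Set.range f)) := hcoh _ hIfg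
    have hK : (LinearMap.ker (phi f)).FG :=
      Module.FinitePresentation.fg_ker (phi f) (phi_surjective f)
    obtain ⟨k, y, hy⟩ := Submodule.fg_iff_exists_fin_generating_family.mp hK
    have hxa : ∀ a : A, (fun i => x i a) ∈ LinearMap.ker (phi f) := by
      intro a
      rw [mem_ker_phi]
      have h1 := congrFun hx a
      simp only [Finset.sum_apply, Pi.smul_apply, smul_eq_mul, Pi.zero_apply] at h1
      rw [← h1]
      exact Finset.sum_congr rfl (fun i _ => mul_comm _ _)
    have hc : ∀ a : A, ∃ c : Fin k → R, ∑ j, c j • y j = (fun i => x i a) := by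
      intro a
      have := hxa a
      rw [← hy] at this
      exact (Submodule.mem_span_range_iff_exists_fun R).mp this
    choose c hc using hc
    have hyk : ∀ j, ∑ i, f i * y j i = 0 := by
      intro j
      have hj : y j ∈ LinearMap.ker (phi f) := by
        rw [← hy]; exact Submodule.subset_span ⟨j, rfl⟩
      rw [mem_ker_phi] at hj
      rw [← hj]
      exact Finset.sum_congr rfl (fun i _ => mul_comm _ _)
    refine ⟨k, fun i j => y j i, fun j a => c a j, ?_, hyk⟩
    intro i
    funext a
    have h2 := congrFun (hc a) i
    simp only [Finset.sum_apply, Pi.smul_apply, smul_eq_mul] at h2 ⊢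
    rw [← h2]
    exact Finset.sum_congr rfl (fun j _ => mul_comm _ _)
  · intro hflat I hI
    obtain ⟨l, f, hf⟩ := Submodule.fg_iff_exists_fin_generating_family.mp hI
    have hf' : Ideal.span (Set.range f) = I := hf
    subst hf'
    refine (Module.FinitePresentation.fg_ker_iff (phi f) (phi_surjective f)).mp ?_
    haveI : Module.Flat R ((LinearMap.ker (phi f)) → R) := hflat _
    have hx : ∑ i, f i • (fun κ : LinearMap.ker (phi f) => (κ : Fin l → R) i) = 0 := by
      funext κ
      simp only [Finset.sum_apply, Pi.smul_apply, smul_eq_mul, Pi.zero_apply]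
      have := (mem_ker_phi f κ).mp κ.2
      rw [← this]
      exact Finset.sum_congr rfl (fun i _ => mul_comm _ _)
    obtain ⟨k, a, y, h1, h2⟩ := Module.Flat.isTrivialRelation_of_sum_smul_eq_zero hx
    have hcol : ∀ j, (fun i => a i j) ∈ LinearMap.ker (phi f) := by
      intro j
      rw [mem_ker_phi, ← h2 j]
      exact Finset.sum_congr rfl (fun i _ => mul_comm _ _)
    have hspan : LinearMap.ker (phi f) = Submodule.span R (Set.range (fun j i => a i j)) := by
      apply le_antisymm
      · intro κ hκ
        rw [Submodule.mem_span_range_iff_exists_fun]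
        refine ⟨fun j => y j ⟨κ, hκ⟩, ?_⟩
        funext i
        have h3 := congrFun (h1 i) ⟨κ, hκ⟩
        simp only [Finset.sum_apply, Pi.smul_apply, smul_eq_mul] at h3 ⊢
        rw [h3]
        exact Finset.sum_congr rfl (fun j _ => mul_comm _ _)
      · rw [Submodule.span_le]
        rintro _ ⟨j, rfl⟩
        exact hcol j
    rw [hspan]
    exact Submodule.fg_span (Set.finite_range _)

end Groth.Agent.S2163
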