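import Groth.Statements.S2165
import Groth.Agent.Lib.Helper14.ComplQuot
import Groth.Agent.Lib.Helper8.ComplDim

set_option autoImplicit false
universe u
open LCI

namespace Groth.Agent.S2165

/-- Let R be a regular ring, p a prime ideal of R and f_1, ..., f_r a regular sequence of R contained in
p. Then the local ring R_p/(f_1, ..., f_r) is a complete intersection: its completion is a regular
local ring modulo a regular sequence. The instance hypothesis that the quotient is local always
holds. -/
theorem result {R : Type u} [CommRing R] [IsRegularRing R]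
    (p : Ideal R) [p.IsPrime] (rs : List R) (hmem : ∀ r ∈ rs, r ∈ p)
    (hreg : RingTheory.Sequence.IsRegular R rs)
    [IsLocalRing (Localization.AtPrime p ⧸
      Ideal.map (algebraMap R (Localization.AtPrime p)) (Ideal.ofList rs))] :
    Pi1.IsCompleteIntersection (Localization.AtPrime p ⧸
      Ideal.map (algebraMap R (Localization.AtPrime p)) (Ideal.ofList rs)) := by
  classical
  haveI : Nontrivial (Localization.AtPrime p ⧸
      Ideal.map (algebraMap R (Localization.AtPrime p)) (Ideal.ofList rs)) := inferInstance
  haveI : IsRegularLocalRing (EGA4.Cpl (Localization.AtPrime p)) :=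
    (Groth.Agent.Lib.Helper8.isRegularLocalRing_adicCompletion_iff (Localization.AtPrime p)).1
      inferInstance
  let f : R →+* EGA4.Cpl (Localization.AtPrime p) :=
    (algebraMap (Localization.AtPrime p) (EGA4.Cpl (Localization.AtPrime p))).comp
      (algebraMap R (Localization.AtPrime p))
  have hmemB : ∀ r ∈ rs.map f, r ∈ IsLocalRing.maximalIdeal (EGA4.Cpl (Localization.AtPrime p)) := by
    intro r hr
    obtain ⟨a, ha, rfl⟩ := List.mem_map.1 hr
    rw [AdicCompletion.maximalIdeal_eq_map]
    apply Ideal.mem_map_of_mem
    exact (IsLocalization.AtPrime.to_map_mem_maximal_iff (Localization.AtPrime p) p a).2 (hmem a ha)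
  refine ⟨EGA4.Cpl (Localization.AtPrime p), inferInstance, inferInstance, rs.map f, hmemB, ?_, ?_⟩
  · have h1 : RingTheory.Sequence.IsWeaklyRegular (Localization.AtPrime p)
        (rs.map (algebraMap R (Localization.AtPrime p))) :=
      RingTheory.Sequence.IsWeaklyRegular.of_isLocalization (Localization.AtPrime p) p.primeCompl
        hreg.toIsWeaklyRegular
    have h2 := RingTheory.Sequence.IsWeaklyRegular.of_flat
      (S := EGA4.Cpl (Localization.AtPrime p)) h1
    rw [List.map_map] at h2
    refine ⟨h2, ?_⟩
    intro htop
    have hle : Ideal.ofList (rs.map f) ≤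
        IsLocalRing.maximalIdeal (EGA4.Cpl (Localization.AtPrime p)) := by
      refine Ideal.span_le.2 ?_
      intro r hr
      exact hmemB r hr
    have h1mem : (1 : EGA4.Cpl (Localization.AtPrime p)) ∈
        Ideal.ofList (rs.map f) • (⊤ : Submodule (EGA4.Cpl (Localization.AtPrime p)) (EGA4.Cpl (Localization.AtPrime p))) := by
      rw [← htop]; trivial
    have h3 : Ideal.ofList (rs.map f) • (⊤ : Submodule (EGA4.Cpl (Localization.AtPrime p)) (EGA4.Cpl (Localization.AtPrime p))) ≤
        Ideal.ofList (rs.map f) := by
      rw [Submodule.smul_le]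
      intro a ha b _
      exact Ideal.mul_mem_right _ _ ha
    exact (Ideal.ne_top_iff_one _).1 (IsLocalRing.maximalIdeal.isMaximal _).ne_top (hle (h3 h1mem))
  · set J := Ideal.map (algebraMap R (Localization.AtPrime p)) (Ideal.ofList rs) with hJ
    have hker := Groth.Agent.Lib.Helper14.ComplQuot.ker_cplMap (Localization.AtPrime p) J
    have hsurj := Groth.Agent.Lib.Helper14.ComplQuot.cplMap_surjective (Localization.AtPrime p) J
    have hspan : Ideal.span {r | r ∈ rs.map f} =
        RingHom.ker (Groth.Agent.Lib.Helper14.ComplFlat.cplMap (Localization.AtPrime p)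
          (Localization.AtPrime p ⧸ J)) := by
      rw [hker, hJ, Ideal.map_map, Ideal.ofList, Ideal.map_span]
      congr 1
      ext r
      simp only [Set.mem_setOf_eq, List.mem_map, Set.mem_image]
      rfl
    exact ⟨((Ideal.quotEquivOfEq hspan).trans
      (RingHom.quotientKerEquivOfSurjective hsurj)).symm⟩

end Groth.Agent.S2165
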