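import Groth.Statements.S2169
import Groth.Agent.Lib.Helper27.KosH1CI

set_option autoImplicit false
universe u
open LCI

namespace Groth.Agent.S2169

/-- Let A be a complete Noetherian local ring whose completion is a regular local ring modulo a regular
sequence. Then for every surjection R -> A from a regular local ring R, the kernel is generated by a
regular sequence of R. -/
theorem result {A R : Type u} [CommRing A] [CommRing R]
    [IsNoetherianRing A] [IsLocalRing A] [IsAdicComplete (IsLocalRing.maximalIdeal A) A]
    [IsRegularLocalRing R] (f : R →+* A) (hf : Function.Surjective f)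
    (hA : Pi1.IsCompleteIntersection A) :
    ∃ rs : List R, Ideal.ofList rs = RingHom.ker f ∧ RingTheory.Sequence.IsRegular R rs := by
  obtain ⟨B', _, _, rs', hmem', hreg', ⟨e⟩⟩ := hA
  let φ : AdicCompletion (IsLocalRing.maximalIdeal A) A ≃+* A :=
    (AdicCompletion.ofAlgEquiv (IsLocalRing.maximalIdeal A)).symm.toRingEquiv
  let g : B' →+* A :=
    (φ.toRingHom.comp e.symm.toRingHom).comp (Ideal.Quotient.mk (Ideal.span {r | r ∈ rs'}))
  have hg : Function.Surjective g :=
    (φ.surjective.comp e.symm.surjective).comp Ideal.Quotient.mk_surjective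
  have hker : RingHom.ker g = Ideal.ofList rs' := by
    ext b
    rw [RingHom.mem_ker]
    show φ (e.symm (Ideal.Quotient.mk _ b)) = 0 ↔ b ∈ Ideal.span {r | r ∈ rs'}
    rw [EmbeddingLike.map_eq_zero_iff, EmbeddingLike.map_eq_zero_iff,
      Ideal.Quotient.eq_zero_iff_mem]
  exact Groth.Agent.Lib.Helper27.KosH1.exists_regular_ker_of_presentation A R B' f hf g hg rs'
    hreg' hker

end Groth.Agent.S2169
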