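import Groth.Statements.S2170
import Mathlib.LinearAlgebra.Matrix.ToLin
import Mathlib.Data.Real.Basic
import Mathlib.Algebra.Module.Submodule.Ker
import Mathlib.LinearAlgebra.Matrix.Symmetric
import Mathlib.Tactic

set_option autoImplicit false
open Finset
open Models

namespace Groth.Agent.S2170

open Matrix

/-- Let A be a symmetric real n × n matrix with non-negative off-diagonal entries and m a vector with
positive entries such that for every i, ∑_{j ≠ i} A_{ij} m_j ≤ −A_{ii} m_i. Then the kernel of A is
the span of the vectors equal to m on an index set I and zero off I, for those I such that A_{ij} =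
0 whenever i ∈ I and j ∉ I and such that equality holds in the above inequality for every i ∈ I. The
published statement omits the symmetry of A (without which it fails) and applies it only to
symmetric matrices; stated here with A symmetric. -/
theorem result {n : ℕ} (A : Matrix (Fin n) (Fin n) ℝ) (m : Fin n → ℝ)
    (hsymm : A.IsSymm) (hA : ∀ i j, i ≠ j → 0 ≤ A i j) (hm : ∀ i, 0 < m i)
    (hle : ∀ i, ∑ j ∈ univ.erase i, A i j * m j ≤ -(A i i * m i)) :
    LinearMap.ker (Matrix.mulVecLin A) = Submodule.span ℝ
      {x : Fin n → ℝ | ∃ I : Finset (Fin n), (∀ i ∈ I, ∀ j ∉ I, A i j = 0) ∧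
        (∀ i ∈ I, ∑ j ∈ univ.erase i, A i j * m j = -(A i i * m i)) ∧
        x = fun i => if i ∈ I then m i else 0} := by
  classical
  set r : Fin n → ℝ := fun i => ∑ j, A i j * m j with hr
  have hrsplit : ∀ i, r i = ∑ j ∈ univ.erase i, A i j * m j + A i i * m i := fun i => by
    simp only [hr]
    rw [Finset.sum_erase_add _ _ (Finset.mem_univ i)]
  have hr_le : ∀ i, r i ≤ 0 := fun i => by
    rw [hrsplit]; linarith [hle i]
  have hr_eq : ∀ i, (∑ j ∈ univ.erase i, A i j * m j = -(A i i * m i)) ↔ r i = 0 := fun i => by
    rw [hrsplit]; constructor <;> intro h <;> linarith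
  apply le_antisymm
  · intro x hx
    have hAx : A.mulVec x = 0 := by
      have := LinearMap.mem_ker.mp hx
      rwa [Matrix.mulVecLin_apply] at this
    set y : Fin n → ℝ := fun i => x i / m i with hy
    have hxy : ∀ i, x i = m i * y i := fun i => by
      simp only [hy]; field_simp [(hm i).ne']
    have hcol : ∀ j, ∑ i, A i j * m i = r j := fun j => by
      simp only [hr]
      refine Finset.sum_congr rfl fun i _ => ?_
      rw [hsymm.apply j i]
    have hP : dotProduct x (A.mulVec x) = ∑ i, ∑ j, A i j * x i * x j := by
      simp only [dotProduct, Matrix.mulVec, Finset.mul_sum]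
      refine Finset.sum_congr rfl fun i _ => Finset.sum_congr rfl fun j _ => ?_
      ring
    have h1 : ∑ i, ∑ j, (m i * y i ^ 2) * (A i j * m j) = ∑ i, m i * y i ^ 2 * r i := by
      refine Finset.sum_congr rfl fun i _ => ?_
      rw [← Finset.mul_sum]
    have h2 : ∑ i, ∑ j, (m j * y j ^ 2) * (A i j * m i) = ∑ j, m j * y j ^ 2 * r j := by
      rw [Finset.sum_comm]
      refine Finset.sum_congr rfl fun j _ => ?_
      rw [← Finset.mul_sum, hcol]
    have hexp : ∑ i, ∑ j, A i j * m i * m j * (y i - y j) ^ 2 =
        2 * (∑ i, m i * y i ^ 2 * r i) - 2 * dotProduct x (A.mulVec x) := by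
      have : ∑ i, ∑ j, A i j * m i * m j * (y i - y j) ^ 2 =
          (∑ i, ∑ j, (m i * y i ^ 2) * (A i j * m j)) + (∑ i, ∑ j, (m j * y j ^ 2) * (A i j * m i))
            - 2 * ∑ i, ∑ j, A i j * x i * x j := by
        simp only [Finset.mul_sum, ← Finset.sum_add_distrib, ← Finset.sum_sub_distrib]
        refine Finset.sum_congr rfl fun i _ => Finset.sum_congr rfl fun j _ => ?_
        rw [hxy i, hxy j]
        ring
      rw [this, h1, h2, hP]
      ring
    have hterm : ∀ i j, 0 ≤ A i j * m i * m j * (y i - y j) ^ 2 := by
      intro i j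
      by_cases hij : i = j
      · subst hij; simp
      · have := hA i j hij
        have := hm i
        have := hm j
        positivity
    have hterm2 : ∀ i, m i * y i ^ 2 * r i ≤ 0 := fun i => by
      have := hm i
      have h0 : 0 ≤ m i * y i ^ 2 := by positivity
      exact mul_nonpos_of_nonneg_of_nonpos h0 (hr_le i)
    have hS_nonneg : 0 ≤ ∑ i, ∑ j, A i j * m i * m j * (y i - y j) ^ 2 :=
      Finset.sum_nonneg fun i _ => Finset.sum_nonneg fun j _ => hterm i j
    have hT_nonpos : ∑ i, m i * y i ^ 2 * r i ≤ 0 := Finset.sum_nonpos fun i _ => hterm2 i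
    rw [hAx, dotProduct_zero, mul_zero, sub_zero] at hexp
    have hS0 : ∑ i, ∑ j, A i j * m i * m j * (y i - y j) ^ 2 = 0 := by linarith
    have hT0 : ∑ i, m i * y i ^ 2 * r i = 0 := by linarith
    have hall : ∀ i j, A i j * m i * m j * (y i - y j) ^ 2 = 0 := by
      intro i j
      have h3 := (Finset.sum_eq_zero_iff_of_nonneg
        (fun i _ => Finset.sum_nonneg fun j _ => hterm i j)).mp hS0 i (Finset.mem_univ i)
      exact (Finset.sum_eq_zero_iff_of_nonneg (fun j _ => hterm i j)).mp h3 j (Finset.mem_univ j)
    have hall2 : ∀ i, m i * y i ^ 2 * r i = 0 := by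
      intro i
      exact (Finset.sum_eq_zero_iff_of_nonpos (fun i _ => hterm2 i)).mp hT0 i (Finset.mem_univ i)
    have hA0 : ∀ i j, y i ≠ y j → A i j = 0 := by
      intro i j hne
      have h4 := hall i j
      have hmi := (hm i).ne'
      have hmj := (hm j).ne'
      have h5 : (y i - y j) ^ 2 ≠ 0 := pow_ne_zero 2 (sub_ne_zero.mpr hne)
      rcases mul_eq_zero.mp h4 with h | h
      · rcases mul_eq_zero.mp h with h | h
        · rcases mul_eq_zero.mp h with h | h
          · exact h
          · exact absurd h hmi
        · exact absurd h hmj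
      · exact absurd h h5
    have hr0 : ∀ i, y i ≠ 0 → r i = 0 := by
      intro i hne
      have h4 := hall2 i
      rcases mul_eq_zero.mp h4 with h | h
      · rcases mul_eq_zero.mp h with h | h
        · exact absurd h (hm i).ne'
        · exact absurd h (pow_ne_zero 2 hne)
      · exact h
    have hdecomp : x = ∑ c ∈ univ.image y,
        c • (fun i => if i ∈ univ.filter (fun k => y k = c) then m i else 0) := by
      funext i
      rw [Finset.sum_apply]
      rw [Finset.sum_eq_single (y i)]
      · simp [hxy i, mul_comm]
      · intro c _ hc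
        simp [Ne.symm hc]
      · intro h; exact absurd (Finset.mem_image_of_mem y (Finset.mem_univ i)) h
    rw [hdecomp]
    refine Submodule.sum_mem _ fun c _ => ?_
    by_cases hc : c = 0
    · rw [hc, zero_smul]; exact Submodule.zero_mem _
    · refine Submodule.smul_mem _ _
        (Submodule.subset_span ⟨univ.filter (fun k => y k = c), ?_, ?_, rfl⟩)
      · intro i hi j hj
        have hi' : y i = c := by simpa using hi
        have hj' : y j ≠ c := by simpa using hj
        exact hA0 i j (by rw [hi']; exact fun h => hj' h.symm)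
      · intro i hi
        have hi' : y i = c := by simpa using hi
        exact (hr_eq i).mpr (hr0 i (by rw [hi']; exact hc))
  · rw [Submodule.span_le]
    rintro x ⟨I, hI1, hI2, rfl⟩
    simp only [SetLike.mem_coe, LinearMap.mem_ker, Matrix.mulVecLin_apply]
    funext i
    simp only [Matrix.mulVec, dotProduct, Pi.zero_apply]
    by_cases hi : i ∈ I
    · have : ∑ j, A i j * (if j ∈ I then m j else 0) = ∑ j, A i j * m j := by
        refine Finset.sum_congr rfl fun j _ => ?_
        by_cases hj : j ∈ I
        · simp [hj]
        · simp [hj, hI1 i hi j hj]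
      rw [this]
      exact (hr_eq i).mp (hI2 i hi)
    · apply Finset.sum_eq_zero
      intro j _
      by_cases hj : j ∈ I
      · rw [hsymm.apply j i, hI1 j hj i hi, zero_mul]
      · simp [hj]

end Groth.Agent.S2170
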