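import Groth.Statements.S2171
import Mathlib.LinearAlgebra.Matrix.ToLin
import Mathlib.Data.Real.Basic
import Mathlib.Algebra.Module.Submodule.Ker
import Mathlib.LinearAlgebra.Matrix.Symmetric
import Mathlib.Tactic

set_option autoImplicit false
open Finset
open Models

namespace Groth.Agent.S2171

open Matrix

/-- Let A be a symmetric real n by n matrix with non-negative off-diagonal entries, m a vector with
positive entries such that A m = 0, and assume no proper non-empty index set I has A i j = 0 for all
i in I and j outside I. Then x^t A x is at most 0 for every real vector x, with equality exactly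
when x is a real multiple of m. -/
theorem result {n : ℕ} (A : Matrix (Fin n) (Fin n) ℝ)
    (m : Fin n → ℝ) (hsymm : A.IsSymm) (hA : ∀ i j, i ≠ j → 0 ≤ A i j) (hm : ∀ i, 0 < m i)
    (hAm : A.mulVec m = 0)
    (hconn : ∀ I : Finset (Fin n), I.Nonempty → I ≠ univ → ∃ i ∈ I, ∃ j ∉ I, A i j ≠ 0)
    (x : Fin n → ℝ) :
    dotProduct x (A.mulVec x) ≤ 0 ∧ (dotProduct x (A.mulVec x) = 0 ↔ ∃ q : ℝ, x = q • m) := by
  classical
  set y : Fin n → ℝ := fun i => x i / m i with hy
  have hxy : ∀ i, x i = m i * y i := fun i => by
    simp only [hy]; field_simp [(hm i).ne']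
  have hrow : ∀ i, ∑ j, A i j * m j = 0 := fun i => by
    have := congrFun hAm i
    simpa [Matrix.mulVec, dotProduct] using this
  have hcol : ∀ j, ∑ i, A i j * m i = 0 := fun j => by
    rw [← hrow j]
    refine Finset.sum_congr rfl fun i _ => ?_
    rw [hsymm.apply j i]
  have hP : dotProduct x (A.mulVec x) = ∑ i, ∑ j, A i j * x i * x j := by
    simp only [dotProduct, Matrix.mulVec, Finset.mul_sum]
    refine Finset.sum_congr rfl fun i _ => Finset.sum_congr rfl fun j _ => ?_
    ring
  have h1 : ∑ i, ∑ j, (m i * y i ^ 2) * (A i j * m j) = 0 := by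
    apply Finset.sum_eq_zero
    intro i _
    rw [← Finset.mul_sum, hrow, mul_zero]
  have h2 : ∑ i, ∑ j, (m j * y j ^ 2) * (A i j * m i) = 0 := by
    rw [Finset.sum_comm]
    apply Finset.sum_eq_zero
    intro j _
    rw [← Finset.mul_sum, hcol, mul_zero]
  have hexp : ∑ i, ∑ j, A i j * m i * m j * (y i - y j) ^ 2 =
      -2 * dotProduct x (A.mulVec x) := by
    have : ∑ i, ∑ j, A i j * m i * m j * (y i - y j) ^ 2 =
        (∑ i, ∑ j, (m i * y i ^ 2) * (A i j * m j)) + (∑ i, ∑ j, (m j * y j ^ 2) * (A i j * m i))
          - 2 * ∑ i, ∑ j, A i j * x i * x j := by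
      simp only [Finset.mul_sum, ← Finset.sum_add_distrib, ← Finset.sum_sub_distrib]
      refine Finset.sum_congr rfl fun i _ => Finset.sum_congr rfl fun j _ => ?_
      rw [hxy i, hxy j]
      ring
    rw [this, h1, h2, hP]
    ring
  have hterm : ∀ i j, 0 ≤ A i j * m i * m j * (y i - y j) ^ 2 := by
    intro i j
    by_cases hij : i = j
    · subst hij; simp
    · have := hA i j hij
      have := hm i
      have := hm j
      positivity
  have hsum_nonneg : 0 ≤ ∑ i, ∑ j, A i j * m i * m j * (y i - y j) ^ 2 :=
    Finset.sum_nonneg fun i _ => Finset.sum_nonneg fun j _ => hterm i j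
  refine ⟨by linarith, ?_⟩
  constructor
  · intro h0
    have hsum0 : ∑ i, ∑ j, A i j * m i * m j * (y i - y j) ^ 2 = 0 := by rw [hexp, h0, mul_zero]
    have hall : ∀ i j, A i j * m i * m j * (y i - y j) ^ 2 = 0 := by
      intro i j
      have h3 := (Finset.sum_eq_zero_iff_of_nonneg
        (fun i _ => Finset.sum_nonneg fun j _ => hterm i j)).mp hsum0 i (Finset.mem_univ i)
      exact (Finset.sum_eq_zero_iff_of_nonneg (fun j _ => hterm i j)).mp h3 j (Finset.mem_univ j)
    rcases Nat.eq_zero_or_pos n with hn | hn
    · subst hn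
      exact ⟨0, funext fun i => i.elim0⟩
    · let i₀ : Fin n := ⟨0, hn⟩
      refine ⟨y i₀, ?_⟩
      let I : Finset (Fin n) := univ.filter fun i => y i = y i₀
      have hI : I = univ := by
        by_contra hne
        obtain ⟨i, hi, j, hj, hij⟩ := hconn I ⟨i₀, by simp [I]⟩ hne
        have hyi : y i = y i₀ := by simpa [I] using hi
        have h4 := hall i j
        have hmi := (hm i).ne'
        have hmj := (hm j).ne'
        have h5 : (y i - y j) ^ 2 = 0 := by
          rcases mul_eq_zero.mp h4 with h | h
          · exfalso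
            rcases mul_eq_zero.mp h with h | h
            · rcases mul_eq_zero.mp h with h | h
              · exact hij h
              · exact hmi h
            · exact hmj h
          · exact h
        have h6 : y j = y i₀ := by
          have := pow_eq_zero_iff (two_ne_zero) |>.mp h5
          linarith
        exact hj (by simp [I, h6])
      funext i
      have : i ∈ I := hI ▸ Finset.mem_univ i
      have hyi : y i = y i₀ := by simpa [I] using this
      rw [hxy i, hyi]
      simp [mul_comm]
  · rintro ⟨q, rfl⟩
    rw [Matrix.mulVec_smul, hAm, smul_zero, dotProduct_zero]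

end Groth.Agent.S2171
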