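import Groth.Statements.S2173
import Mathlib
import Groth.Agent.Lib.Helper11.NumType
import Groth.Agent.Lib.Helper11.NumTypeGen
import Groth.Agent.Lib.Helper11.NumTypeBasic

set_option autoImplicit false
open Finset
open Models Models.NumericalType

namespace Groth.Agent.S2173

/-- For a numerical type the sum over i of m i * a i i is even; equivalently the rational number 1 + sum
m_i (w_i (g_i - 1) - a_ii / 2) defining the genus is an integer. -/
theorem result {n : ℕ} (T : Models.NumericalType n) : (2 : ℤ) ∣ ∑ i, T.m i * T.a i i := by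
  classical
  have h2 : ((2 : ℕ) : ℤ) = 2 := by norm_num
  rw [← h2, ← ZMod.intCast_zmod_eq_zero_iff_dvd]
  push_cast
  have hsq : ∀ x : ZMod 2, x * x = x := by decide
  have hrow : ∀ i, ∑ j, (T.a i j : ZMod 2) * (T.m j : ZMod 2) = 0 := by
    intro i
    have h := Lib.Helper11.NumType.sum_a_mul_m T i
    have := congrArg (Int.cast : ℤ → ZMod 2) h
    push_cast at this
    exact this
  have htotal : ∑ p ∈ (Finset.univ : Finset (Fin n)) ×ˢ (Finset.univ : Finset (Fin n)),
      (T.m p.1 : ZMod 2) * (T.a p.1 p.2 : ZMod 2) * (T.m p.2 : ZMod 2) = 0 := by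
    rw [Finset.sum_product]
    refine Finset.sum_eq_zero (fun i _ => ?_)
    have : ∑ j, (T.m i : ZMod 2) * (T.a i j : ZMod 2) * (T.m j : ZMod 2)
        = (T.m i : ZMod 2) * ∑ j, (T.a i j : ZMod 2) * (T.m j : ZMod 2) := by
      rw [Finset.mul_sum]
      exact Finset.sum_congr rfl (fun j _ => by ring)
    rw [this, hrow i, mul_zero]
  have hoff : ∑ p ∈ (Finset.univ : Finset (Fin n)).offDiag,
      (T.m p.1 : ZMod 2) * (T.a p.1 p.2 : ZMod 2) * (T.m p.2 : ZMod 2) = 0 := by
    refine Finset.sum_involution (fun p _ => p.swap) ?_ ?_ ?_ ?_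
    · intro p _
      have hs : T.a p.2 p.1 = T.a p.1 p.2 := Lib.Helper11.NumType.a_symm T p.2 p.1
      simp only [Prod.fst_swap, Prod.snd_swap, hs]
      have : (T.m p.2 : ZMod 2) * (T.a p.1 p.2 : ZMod 2) * (T.m p.1 : ZMod 2)
          = (T.m p.1 : ZMod 2) * (T.a p.1 p.2 : ZMod 2) * (T.m p.2 : ZMod 2) := by ring
      rw [this]
      exact CharTwo.add_self_eq_zero _
    · intro p hp _ h
      have hne := (Finset.mem_offDiag.mp hp).2.2
      apply hne
      have := congrArg Prod.fst h
      simpa using this.symm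
    · intro p hp
      have hne := (Finset.mem_offDiag.mp hp).2.2
      exact Finset.mem_offDiag.mpr ⟨Finset.mem_univ _, Finset.mem_univ _, fun h => hne h.symm⟩
    · intro p _
      exact Prod.swap_swap p
  have hsplit := Finset.sum_union (Finset.disjoint_diag_offDiag (s := (Finset.univ : Finset (Fin n))))
    (f := fun p => (T.m p.1 : ZMod 2) * (T.a p.1 p.2 : ZMod 2) * (T.m p.2 : ZMod 2))
  rw [Finset.diag_union_offDiag, htotal, hoff, add_zero, Finset.sum_diag] at hsplit
  calc ∑ i, (T.m i : ZMod 2) * (T.a i i : ZMod 2)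
      = ∑ i, (T.m i : ZMod 2) * (T.a i i : ZMod 2) * (T.m i : ZMod 2) :=
        Finset.sum_congr rfl (fun i _ => by rw [mul_right_comm, hsq])
    _ = 0 := hsplit.symm

end Groth.Agent.S2173
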