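import Groth.Statements.S2174
import Mathlib
import Groth.Agent.Lib.Helper11.NumType
import Groth.Agent.Lib.Helper11.NumTypeGen
import Groth.Agent.Lib.Helper11.NumTypeBasic

set_option autoImplicit false
open Finset
open Models Models.NumericalType

namespace Groth.Agent.S2174

/-- If a numerical type has n > 1 indices then every diagonal entry a i i of its matrix is negative. -/
theorem result {n : ℕ} (T : Models.NumericalType n) (hn : 1 < n) (i : Fin n) : T.a i i < 0 := by
  have hc := Lib.Helper11.NumType.c_diag_neg T hn i
  rw [Lib.Helper11.NumType.a_eq]
  have := T.w_pos i
  nlinarith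

end Groth.Agent.S2174
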