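import Groth.Statements.S2178
import Mathlib.LinearAlgebra.Dimension.Finrank
import Mathlib.LinearAlgebra.Dimension.RankNullity
import Mathlib.LinearAlgebra.Dimension.Finite
import Mathlib.LinearAlgebra.Dimension.StrongRankCondition
import Mathlib.LinearAlgebra.Dimension.Free
import Mathlib.Tactic
import Groth.Agent.S2171

set_option autoImplicit false
open Finset
open Models Models.NumericalType

namespace Groth.Agent.S2178

/-- elements of the kernel of the intersection matrix are rational multiples of `m` -/
theorem ker_a_eq_smul {n : ℕ} (T : Models.NumericalType n) (x : Fin n → ℤ)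
    (hx : T.a.mulVec x = 0) : ∃ q : ℝ, ∀ i, (x i : ℝ) = q * (T.m i : ℝ) := by
  let A : Matrix (Fin n) (Fin n) ℝ := fun i j => (T.a i j : ℝ)
  let mR : Fin n → ℝ := fun i => (T.m i : ℝ)
  let xR : Fin n → ℝ := fun i => (x i : ℝ)
  have hcast : ∀ (v : Fin n → ℤ), A.mulVec (fun i => (v i : ℝ)) = fun i => ((T.a.mulVec v i : ℤ) : ℝ) := by
    intro v
    ext i
    simp only [Matrix.mulVec, dotProduct, A]
    push_cast
    rfl
  have h := Groth.Agent.S2171.result A mR
    (by
      ext i j
      simp only [Matrix.transpose_apply, A]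
      rw [T.symm.apply j i])
    (fun i j hij => by simp only [A]; exact_mod_cast T.offDiag_nonneg i j hij)
    (fun i => by simp only [mR]; exact_mod_cast T.m_pos i)
    (by
      rw [hcast T.m, T.mulVec_m]
      ext i; simp)
    (fun I hI hI' => by
      obtain ⟨i, hi, j, hj, hij⟩ := T.connected I hI hI'
      exact ⟨i, hi, j, hj, by simp only [A]; exact_mod_cast hij⟩)
    xR
  have hAx : A.mulVec xR = 0 := by
    rw [hcast x, hx]
    ext i; simp
  have h0 : dotProduct xR (A.mulVec xR) = 0 := by rw [hAx, dotProduct_zero]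
  obtain ⟨q, hq⟩ := h.2.mp h0
  exact ⟨q, fun i => by have := congrFun hq i; simpa [xR, mR] using this⟩

/-- The Picard group of a numerical type (the cokernel of the matrix (a i j / w i) acting on Z^n) has
free rank one: its rank as a Z-module is 1. -/
theorem result {n : ℕ} (T : Models.NumericalType n) : Module.finrank ℤ T.Pic = 1 := by
  set B := Matrix.mulVecLin T.picMatrix with hB
  have h1 := Submodule.finrank_quotient_add_finrank (LinearMap.range B)
  have h2 := Submodule.finrank_quotient_add_finrank (LinearMap.ker B)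
  rw [B.quotKerEquivRange.finrank_eq] at h2
  -- kernel has rank one
  have hker_a : ∀ x ∈ LinearMap.ker B, T.a.mulVec x = 0 := by
    intro x hx
    rw [LinearMap.mem_ker, Matrix.mulVecLin_apply] at hx
    ext i
    have := congrFun hx i
    simp only [Matrix.mulVec, dotProduct, Pi.zero_apply] at this ⊢
    have h3 : ∑ j, T.a i j * x j = T.w i * ∑ j, T.picMatrix i j * x j := by
      rw [Finset.mul_sum]
      refine Finset.sum_congr rfl fun j _ => ?_
      change _ = T.w i * (T.a i j / T.w i * x j)
      rw [← mul_assoc, Int.mul_ediv_cancel' (T.w_dvd i j)]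
    rw [h3, this, mul_zero]
  have hm_mem : T.m ∈ LinearMap.ker B := by
    rw [LinearMap.mem_ker, Matrix.mulVecLin_apply]
    ext i
    have := congrFun T.mulVec_m i
    simp only [Matrix.mulVec, dotProduct, Pi.zero_apply] at this ⊢
    have h3 : ∑ j, T.a i j * T.m j = T.w i * ∑ j, T.picMatrix i j * T.m j := by
      rw [Finset.mul_sum]
      refine Finset.sum_congr rfl fun j _ => ?_
      change _ = T.w i * (T.a i j / T.w i * T.m j)
      rw [← mul_assoc, Int.mul_ediv_cancel' (T.w_dvd i j)]
    rw [h3] at this
    exact (mul_eq_zero.mp this).resolve_left (T.w_pos i).ne'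
  let i₀ : Fin n := ⟨0, T.pos⟩
  have hk1 : Module.finrank ℤ (LinearMap.ker B) ≤ 1 := by
    let φ : LinearMap.ker B →ₗ[ℤ] ℤ := (LinearMap.proj i₀) ∘ₗ (LinearMap.ker B).subtype
    have hφ : Function.Injective φ := by
      rw [injective_iff_map_eq_zero]
      intro x hx
      obtain ⟨q, hq⟩ := ker_a_eq_smul T x.1 (hker_a x.1 x.2)
      have hx0 : x.1 i₀ = 0 := hx
      have hq0 : q = 0 := by
        have := hq i₀
        rw [hx0] at this
        have hm : (T.m i₀ : ℝ) ≠ 0 := by exact_mod_cast (T.m_pos i₀).ne'
        simp only [Int.cast_zero] at this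
        exact (mul_eq_zero.mp this.symm).resolve_right hm
      ext i
      have := hq i
      rw [hq0, zero_mul] at this
      exact_mod_cast this
    have := LinearMap.finrank_le_finrank_of_injective hφ
    simpa using this
  have hk2 : 0 < Module.finrank ℤ (LinearMap.ker B) := by
    rw [Module.finrank_pos_iff_exists_ne_zero]
    refine ⟨⟨T.m, hm_mem⟩, fun h => ?_⟩
    have := congrArg Subtype.val h
    have h4 := congrFun this i₀
    exact (T.m_pos i₀).ne' h4
  change Module.finrank ℤ ((Fin n → ℤ) ⧸ LinearMap.range B) = 1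
  omega

end Groth.Agent.S2178
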