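import Groth.Statements.S2182
import Mathlib
import Groth.Agent.Lib.Helper11.NumType
import Groth.Agent.Lib.Helper11.NumTypeGen
import Groth.Agent.Lib.Helper11.NumTypeBasic

set_option autoImplicit false
open Finset
open Models Models.NumericalType

namespace Groth.Agent.S2182

/-- In a numerical type, whenever a i j > 0 one has m i * a i j at most m j * |a j j| and m i * w i at
most m j * |a j j|. -/
theorem result {n : ℕ} (T : Models.NumericalType n) (i j : Fin n) (hij : 0 < T.a i j) :
    T.m i * T.a i j ≤ T.m j * |T.a j j| ∧ T.m i * T.w i ≤ T.m j * |T.a j j| := by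
  classical
  have hne : i ≠ j := by
    rintro rfl
    have h := Lib.Helper11.NumType.sum_a_mul_m T i
    rw [← Finset.add_sum_erase _ _ (Finset.mem_univ i)] at h
    have h2 : 0 ≤ ∑ l ∈ Finset.univ.erase i, T.a i l * T.m l :=
      Finset.sum_nonneg (fun l hl => mul_nonneg
        (T.offDiag_nonneg i l (Finset.ne_of_mem_erase hl).symm) (T.m_pos l).le)
    have := mul_pos hij (T.m_pos i)
    linarith
  have h := Lib.Helper11.NumType.sum_a_mul_m T j
  rw [← Finset.add_sum_erase _ _ (Finset.mem_univ j)] at h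
  have hnn : ∀ l ∈ Finset.univ.erase j, 0 ≤ T.a j l * T.m l := fun l hl => mul_nonneg
    (T.offDiag_nonneg j l (Finset.ne_of_mem_erase hl).symm) (T.m_pos l).le
  have h2 : T.a j i * T.m i ≤ ∑ l ∈ Finset.univ.erase j, T.a j l * T.m l :=
    Finset.single_le_sum (f := fun l => T.a j l * T.m l) hnn
      (Finset.mem_erase.mpr ⟨hne, Finset.mem_univ i⟩)
  have hsymm : T.a j i = T.a i j := Lib.Helper11.NumType.a_symm T j i
  rw [hsymm] at h2
  have hpos := mul_pos hij (T.m_pos i)
  have hjj : T.a j j ≤ 0 := by
    by_contra hc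
    push_neg at hc
    have := mul_pos hc (T.m_pos j)
    linarith
  rw [abs_of_nonpos hjj]
  have key : T.m i * T.a i j ≤ T.m j * -T.a j j := by linarith
  refine ⟨key, le_trans ?_ key⟩
  have hw : T.w i ≤ T.a i j := Int.le_of_dvd hij (T.w_dvd i j)
  exact mul_le_mul_of_nonneg_left hw (T.m_pos i).le

end Groth.Agent.S2182
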