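import Groth.Statements.S2187
import Mathlib
import Groth.Agent.Lib.Helper7.FFRRank

set_option autoImplicit false
universe u
open CategoryTheory
open LCI

namespace Groth.Agent.S2187

/-- Let R be a Noetherian local ring and I an ideal of finite projective dimension as an R-module. If F
is a direct summand of the conormal module I/I^2 which is isomorphic to R/I, then there is a
nonzerodivisor x in I whose class in I/I^2 generates F. -/
theorem result {R : Type u} [CommRing R]
    [IsNoetherianRing R] [IsLocalRing R] (I : Ideal R) (n : ℕ)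
    (hpd : HasProjectiveDimensionLT (ModuleCat.of R I) n)
    (F G : Submodule (R ⧸ I) I.Cotangent) (hFG : IsCompl F G) (e : F ≃ₗ[R ⧸ I] (R ⧸ I)) :
    ∃ (x : R) (hx : x ∈ I), x ∈ nonZeroDivisors R ∧
      Submodule.span (R ⧸ I) {I.toCotangent ⟨x, hx⟩} = F := by
  open Groth.Agent.Lib.Helper7.FFRRank in
  classical
  have hI0 : I ≠ ⊥ := by
    rintro rfl
    haveI : Subsingleton (⊥ : Ideal R).Cotangent := by
      refine ⟨fun a b => ?_⟩
      obtain ⟨a', rfl⟩ := Ideal.toCotangent_surjective _ a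
      obtain ⟨b', rfl⟩ := Ideal.toCotangent_surjective _ b
      have : a' = b' := Subsingleton.elim _ _
      rw [this]
    have h1 : e.symm 1 = e.symm 0 := Subsingleton.elim _ _
    have h2 : (1 : R ⧸ (⊥ : Ideal R)) = 0 := e.symm.injective h1
    haveI : Nontrivial (R ⧸ (⊥ : Ideal R)) := Ideal.Quotient.nontrivial_iff.2 bot_ne_top
    exact one_ne_zero h2
  have hgood : Groth.Agent.Lib.Helper7.FFRRank.Good R ↥I :=
    Groth.Agent.Lib.Helper7.FFRRank.good_of_local n ↥I hpd
  obtain ⟨⟨y, hy⟩, hy'⟩ := Ideal.toCotangent_surjective I ((e.symm 1 : F) : I.Cotangent)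
  obtain ⟨z, hz, hreg⟩ :=
    Groth.Agent.Lib.Helper7.FFRRank.exists_isSMulRegular_add_sq I hI0 hgood y
  have hzI : z ∈ I := Ideal.pow_le_self (by norm_num) hz
  have hxI : y + z ∈ I := I.add_mem hy hzI
  refine ⟨y + z, hxI,
    Groth.Agent.Lib.Helper7.FFRRank.mem_nonZeroDivisors_of_isSMulRegular hreg, ?_⟩
  have hcl : I.toCotangent ⟨y + z, hxI⟩ = ((e.symm 1 : F) : I.Cotangent) := by
    rw [← hy', Ideal.toCotangent_eq]
    simpa using hz
  rw [hcl]
  apply le_antisymm
  · rw [Submodule.span_le, Set.singleton_subset_iff]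
    exact (e.symm 1).2
  · intro m hm
    rw [Submodule.mem_span_singleton]
    refine ⟨e ⟨m, hm⟩, ?_⟩
    have h3 : e.symm (e ⟨m, hm⟩ • (1 : R ⧸ I)) = e ⟨m, hm⟩ • e.symm 1 := map_smul _ _ _
    rw [smul_eq_mul, mul_one, e.symm_apply_apply] at h3
    have h4 := congrArg Subtype.val h3
    simpa using h4.symm

end Groth.Agent.S2187
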