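import Groth.Statements.S2188
import Mathlib
import Groth.Agent.Lib.Helper7.Vasc

set_option autoImplicit false
universe u
open CategoryTheory
open LCI

namespace Groth.Agent.S2188

/-- Let R be a Noetherian local ring and I an ideal of finite projective dimension as an R-module. If F
is a direct summand of I/I^2 which is free of rank r over R/I, then there is a regular sequence x_1,
..., x_r of R inside I whose classes in I/I^2 generate F. -/
theorem result {R : Type u} [CommRing R]
    [IsNoetherianRing R] [IsLocalRing R] (I : Ideal R) (hI : I ≠ ⊤) (n : ℕ)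
    (hpd : HasProjectiveDimensionLT (ModuleCat.of R I) n)
    (F G : Submodule (R ⧸ I) I.Cotangent) (hFG : IsCompl F G) (r : ℕ)
    (e : F ≃ₗ[R ⧸ I] (Fin r → R ⧸ I)) :
    ∃ (x : Fin r → R) (hx : ∀ i, x i ∈ I), RingTheory.Sequence.IsRegular R (List.ofFn x) ∧
      Submodule.span (R ⧸ I) (Set.range fun i => I.toCotangent ⟨x i, hx i⟩) = F := by
  classical
  have hyex : ∀ j : Fin r, ∃ y : R, ∃ hy : y ∈ I,
      I.toCotangent ⟨y, hy⟩ = ((e.symm (Pi.single j 1) : F) : I.Cotangent) := by
    intro j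
    obtain ⟨⟨y, hy⟩, h⟩ :=
      Ideal.toCotangent_surjective I ((e.symm (Pi.single j 1) : F) : I.Cotangent)
    exact ⟨y, hy, h⟩
  choose y hy hy' using hyex
  let ψ : Fin r → (↥I →ₗ[R] R ⧸ I) := fun i =>
    (((LinearMap.proj i : (Fin r → R ⧸ I) →ₗ[R ⧸ I] R ⧸ I) ∘ₗ e.toLinearMap ∘ₗ
      (Submodule.projectionOnto F G hFG)).restrictScalars R) ∘ₗ I.toCotangent
  have hψ : ∀ i j, ψ i ⟨y j, hy j⟩ = if i = j then 1 else 0 := by
    intro i j
    show (e (Submodule.projectionOnto F G hFG (I.toCotangent ⟨y j, hy j⟩))) i = _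
    rw [hy' j]
    have h5 := Submodule.projectionOnto_apply_left hFG (e.symm (Pi.single j 1))
    rw [h5, e.apply_symm_apply, Pi.single_apply]
  obtain ⟨x, hx1, hx2⟩ :=
    Groth.Agent.Lib.Helper7.Vasc.exists_regular_lift r R I hI n hpd y hy ψ hψ
  have hxI : ∀ i, x i ∈ I := fun i => by
    have h1 := I.add_mem (Ideal.pow_le_self (by norm_num) (hx1 i)) (hy i)
    simpa using h1
  refine ⟨x, hxI, ?_, ?_⟩
  · apply Groth.Agent.Lib.Helper7.Vasc.isRegular_of_mem I hI _ _ hx2
    intro a ha
    rw [List.mem_ofFn] at ha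
    obtain ⟨i, rfl⟩ := ha
    exact hxI i
  · have hcl : ∀ i, I.toCotangent ⟨x i, hxI i⟩ =
        ((e.symm (Pi.single i 1) : F) : I.Cotangent) := by
      intro i
      rw [← hy' i, Ideal.toCotangent_eq]
      exact hx1 i
    have h1 : (fun i => I.toCotangent ⟨x i, hxI i⟩) =
        F.subtype ∘ (e.symm.toLinearMap ∘ (Pi.basisFun (R ⧸ I) (Fin r))) := by
      funext i
      rw [hcl i]
      simp
    rw [h1, Set.range_comp, Submodule.span_image, Set.range_comp, Submodule.span_image,
      (Pi.basisFun (R ⧸ I) (Fin r)).span_eq, Submodule.map_top, LinearEquiv.range,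
      Submodule.map_subtype_top]

end Groth.Agent.S2188
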