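import Groth.Statements.S2190
import Mathlib
import Groth.Agent.Lib.Helper11.NumType
import Groth.Agent.Lib.Helper11.NumTypeGen
import Groth.Agent.Lib.Helper11.NumTypeBasic

set_option autoImplicit false
open Finset
open Models Models.NumericalType

namespace Groth.Agent.S2190

/-- A minimal numerical type of genus zero has a single index, with m = 1, a = 0, w = 1 and g = 0. -/
theorem result {n : ℕ} (T : Models.NumericalType n) (hmin : T.IsMinimal) (hg : T.genus = 0) :
    n = 1 ∧ ∀ i, T.m i = 1 ∧ T.a i i = 0 ∧ T.w i = 1 ∧ T.g i = 0 := by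
  have hn1 : n = 1 := by
    by_contra hne
    have hpos := T.pos
    have := Lib.Helper11.NumType.one_le_genus T (by omega) hmin
    omega
  subst hn1
  refine ⟨rfl, fun i => ?_⟩
  have hi : i = 0 := Subsingleton.elim _ _
  subst hi
  have ha := Lib.Helper11.NumType.single_a_zero T
  have hgen := Lib.Helper11.NumType.single_genus T
  rw [hg] at hgen
  have hm := T.m_pos 0
  have hw := T.w_pos 0
  have hg0 := T.g_nonneg 0
  have hgz : T.g 0 = 0 := by
    by_contra h
    have h1 : 0 ≤ T.g 0 - 1 := by omega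
    have : 0 ≤ T.m 0 * T.w 0 * (T.g 0 - 1) := mul_nonneg (mul_nonneg hm.le hw.le) h1
    linarith
  rw [hgz] at hgen
  have hmw : T.m 0 * T.w 0 = 1 := by linarith
  have h1 : T.m 0 ≤ T.m 0 * T.w 0 := le_mul_of_one_le_right hm.le hw
  have hm1 : T.m 0 = 1 := by omega
  rw [hm1, one_mul] at hmw
  exact ⟨hm1, ha, hmw, hgz⟩

end Groth.Agent.S2190
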