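import Groth.Statements.S2196
import Mathlib.RingTheory.Unramified.Locus
import Mathlib.LinearAlgebra.Matrix.Charpoly.LinearMap
import Mathlib.RingTheory.Kaehler.Basic
import Mathlib.Tactic

set_option autoImplicit false
universe u v
open Disc

namespace Groth.Agent.S2196

open TensorProduct

/-- Let A -> B be a ring map of finite type and D its Noether different (the image in B of the
annihilator of the kernel of B tensor_A B -> B). Then a prime q of B contains D exactly when A -> B
is not unramified at q. -/
theorem result {A : Type u} {B : Type v}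
    [CommRing A] [CommRing B] [Algebra A B] [Algebra.FiniteType A B] :
    {q : PrimeSpectrum B | Disc.noetherDifferent A B ≤ q.asIdeal} =
      (Algebra.unramifiedLocus A B)ᶜ := by
  classical
  rw [Algebra.unramifiedLocus_eq_compl_support, compl_compl, Module.support_eq_zeroLocus]
  set μ : B ⊗[A] B →ₐ[A] B := Algebra.TensorProduct.lmul' (S := B) A with hμ
  set I : Ideal (B ⊗[A] B) := KaehlerDifferential.ideal A B with hI
  have hμsurj : Function.Surjective μ := fun b => ⟨b ⊗ₜ 1, by simp [hμ]⟩
  have hD : Disc.noetherDifferent A B = Ideal.map μ (Submodule.annihilator I) := rfl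
  have hmemI : ∀ t, t ∈ I ↔ μ t = 0 := fun t => Iff.rfl
  have hμalg : ∀ g : B, μ (algebraMap B (B ⊗[A] B) g) = g := fun g => by
    simp [hμ, Algebra.TensorProduct.algebraMap_apply]
  set F : I →ₗ[B ⊗[A] B] Ω[B⁄A] := KaehlerDifferential.fromIdeal A B with hF
  have hFsurj : Function.Surjective F := KaehlerDifferential.fromIdeal_surjective A B
  have hFzero : ∀ x : I, F x = 0 ↔ (x : B ⊗[A] B) ∈ I ^ 2 := fun x =>
    Ideal.toCotangent_eq_zero I x
  have hsm : ∀ (g : B) (x : I), g • F x =
      F ((algebraMap B (B ⊗[A] B) g) • x) := fun g x => by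
    rw [map_smul, algebraMap_smul]
  -- key 1: D ≤ Ann Ω
  have h1 : Disc.noetherDifferent A B ≤ Module.annihilator B (Ω[B⁄A]) := by
    intro y hy
    rw [hD, Ideal.mem_map_iff_of_surjective μ hμsurj] at hy
    obtain ⟨e, he, rfl⟩ := hy
    rw [Module.mem_annihilator]
    intro ω
    obtain ⟨x, rfl⟩ := hFsurj ω
    rw [hsm, hFzero]
    have hsub : algebraMap B (B ⊗[A] B) (μ e) - e ∈ I := by
      rw [hmemI, map_sub, hμalg, sub_self]
    have hex : e * (x : B ⊗[A] B) = 0 := by
      have := (Submodule.mem_annihilator.mp he) x x.2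
      simpa using this
    have h3 : ((algebraMap B (B ⊗[A] B) (μ e) • x : I) : B ⊗[A] B) =
        (algebraMap B (B ⊗[A] B) (μ e) - e) * x := by
      rw [sub_mul, hex, sub_zero]; rfl
    rw [h3, pow_two]
    exact Ideal.mul_mem_mul hsub x.2
  have h2 : ∀ g ∈ Module.annihilator B (Ω[B⁄A]), ∃ n : ℕ, g ^ n ∈ Disc.noetherDifferent A B := by
    intro g hg
    set t : B ⊗[A] B := algebraMap B (B ⊗[A] B) g with ht
    have hμt : μ t = g := hμalg g
    have hsq : ∀ x : I, t * (x : B ⊗[A] B) ∈ I ^ 2 := by
      intro x
      have h0 : g • F x = 0 := Module.mem_annihilator.mp hg _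
      rw [hsm, hFzero] at h0
      exact h0
    have : Module.Finite (B ⊗[A] B) I := Module.Finite.iff_fg.mpr (KaehlerDifferential.ideal_fg A B)
    let φ : Module.End (B ⊗[A] B) I := algebraMap (B ⊗[A] B) (Module.End (B ⊗[A] B) I) t
    have hφ : LinearMap.range φ ≤ I • (⊤ : Submodule (B ⊗[A] B) I) := by
      rintro _ ⟨x, rfl⟩
      rw [Submodule.mem_smul_top_iff]
      have := hsq x
      rw [pow_two] at this
      exact this
    obtain ⟨p, hpm, -, hpc, hp0⟩ :=
      LinearMap.exists_monic_and_natDegree_eq_and_coeff_mem_pow_and_aeval_eq_zero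
        (B ⊗[A] B) φ I hφ
    refine ⟨p.natDegree, ?_⟩
    set e := p.eval t with he
    have he_ann : e ∈ Submodule.annihilator I := by
      rw [Submodule.mem_annihilator]
      intro x hx
      have h3 : (Polynomial.aeval φ p) ⟨x, hx⟩ = 0 := by rw [hp0]; rfl
      rw [Polynomial.aeval_algebraMap_apply, Polynomial.coe_aeval_eq_eval,
        Module.algebraMap_end_apply] at h3
      have := congrArg Subtype.val h3
      simpa using this
    have hμe : μ e = g ^ p.natDegree := by
      rw [he, Polynomial.eval_eq_sum_range, map_sum, Finset.sum_range_succ, hpm.coeff_natDegree,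
        one_mul, map_pow, hμt]
      rw [Finset.sum_eq_zero, zero_add]
      intro i hi
      have hi' : i < p.natDegree := Finset.mem_range.mp hi
      have : p.coeff i ∈ I := Ideal.pow_le_self (by omega) (hpc i)
      rw [map_mul, (hmemI _).mp this, zero_mul]
    rw [hD, Ideal.mem_map_iff_of_surjective μ hμsurj]
    exact ⟨e, he_ann, hμe⟩
  ext q
  simp only [Set.mem_ofPred_eq, PrimeSpectrum.mem_zeroLocus, SetLike.coe_subset_coe]
  constructor
  · intro h g hg
    obtain ⟨n, hn⟩ := h2 g hg
    exact q.2.mem_of_pow_mem n (h hn)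
  · intro h
    exact h1.trans h

end Groth.Agent.S2196
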