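import Groth.Statements.S2203
import Mathlib.CategoryTheory.Center.Localization
import Mathlib.CategoryTheory.Center.Linear
import Mathlib.Algebra.Category.ModuleCat.Basic
import Mathlib.Algebra.Category.ModuleCat.Products
import Mathlib.Algebra.Category.ModuleCat.Limits
import Mathlib.Tactic

set_option autoImplicit false
universe u
open CategoryTheory
open QCohCat

namespace Groth.Agent.S2203

theorem toCatCenter_bijective (R : Type u) [CommRing R] :
    Function.Bijective (Linear.toCatCenter R (ModuleCat.{u} R)) := by
  constructor
  · intro a a' h
    have h1 := congrArg
      (fun z : CatCenter (ModuleCat.{u} R) => (z.app (ModuleCat.of R R)).hom (1 : R)) h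
    simpa using h1
  · intro z
    refine ⟨(z.app (ModuleCat.of R R)).hom (1 : R), ?_⟩
    apply CatCenter.ext
    intro X
    apply ModuleCat.hom_ext
    apply LinearMap.ext
    intro m
    have hn := z.naturality (ModuleCat.ofHom (LinearMap.toSpanSingleton R X m))
    have hn1 := congrArg (fun g => g.hom (1 : R)) hn
    simp only [ModuleCat.hom_comp, LinearMap.comp_apply, ModuleCat.hom_ofHom,
      LinearMap.toSpanSingleton_apply, one_smul] at hn1
    rw [hn1]
    change (ModuleCat.Hom.hom ((ModuleCat.Hom.hom (z.app (ModuleCat.of R R))) 1 • 𝟙 X)) m = _
    simp

/-- Ring-isomorphism part of the statement: let A and B be commutative rings whose categories of modules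
are equivalent. Then A and B are isomorphic as rings. (The source moreover describes the equivalence
as base change followed by tensoring with an invertible module.) -/
theorem result (A B : Type u) [CommRing A] [CommRing B]
    (F : ModuleCat.{u} A ≌ ModuleCat.{u} B) : Nonempty (A ≃+* B) := by
  have : F.functor.Additive := Functor.additive_of_preserves_binary_products _
  let W := MorphismProperty.isomorphisms (ModuleCat.{u} A)
  have : F.functor.IsLocalization W := Functor.IsLocalization.of_isEquivalence F.functor W le_rfl
  let ψ : CatCenter (ModuleCat.{u} A) →+* CatCenter (ModuleCat.{u} B) :=
    CatCenter.localizationRingHom F.functor W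
  have hψ : Function.Bijective ψ := by
    constructor
    · rw [injective_iff_map_eq_zero]
      intro z hz
      apply CatCenter.ext
      intro X
      apply F.functor.map_injective
      have h1 := CatCenter.localization_app z F.functor W X
      have hz' : z.localization F.functor W = 0 := hz
      rw [hz'] at h1
      rw [← h1]
      simp
    · intro w
      let z : CatCenter (ModuleCat.{u} A) :=
        { app := fun X => F.functor.preimage (w.app (F.functor.obj X))
          naturality := fun X Y f => by
            apply F.functor.map_injective
            simpa using w.naturality (F.functor.map f) }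
      refine ⟨z, ?_⟩
      apply CatCenter.ext_of_localization F.functor W
      intro X
      change (z.localization F.functor W).app (F.functor.obj X) = _
      rw [CatCenter.localization_app]
      change F.functor.map (F.functor.preimage (w.app (F.functor.obj X))) = _
      simp
  let eA := RingEquiv.ofBijective _ (toCatCenter_bijective A)
  let eB := RingEquiv.ofBijective _ (toCatCenter_bijective B)
  exact ⟨eA.trans ((RingEquiv.ofBijective ψ hψ).trans eB.symm)⟩

end Groth.Agent.S2203
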