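import Groth.Statements.S2204
import Mathlib

set_option autoImplicit false
universe u
open CategoryTheory CategoryTheory.Limits TensorProduct
open QCohCat

namespace Groth.Agent.S2204

open CategoryTheory CategoryTheory.Limits TensorProduct

section EW

variable {A B : Type u} [CommRing A] [CommRing B]

/-- the map `A → M`, `a ↦ a • m`. -/
noncomputable def rho {M : ModuleCat.{u} A} (m : M) : ModuleCat.of A A ⟶ M :=
  ModuleCat.ofHom (LinearMap.toSpanSingleton A M m)

theorem rho_apply {M : ModuleCat.{u} A} (m : M) (a : A) : (rho m).hom a = a • m := rfl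

theorem rho_add {M : ModuleCat.{u} A} (m m' : M) : rho (m + m') = rho m + rho m' := by
  ext
  simp [rho]

theorem rho_zero {M : ModuleCat.{u} A} : rho (0 : M) = 0 := by
  ext
  simp [rho]

theorem rho_smul {M : ModuleCat.{u} A} (a : A) (m : M) :
    rho (a • m) = (a • 𝟙 (ModuleCat.of A A)) ≫ rho m := by
  ext
  simp [rho]

theorem rho_comp {M N : ModuleCat.{u} A} (f : M ⟶ N) (m : M) : rho m ≫ f = rho (f.hom m) := by
  ext
  simp [rho]

theorem rho_self (a : A) : rho (M := ModuleCat.of A A) a = a • 𝟙 (ModuleCat.of A A) := by
  ext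
  simp [rho]

variable (F : ModuleCat.{u} A ⥤ ModuleCat.{u} B) [F.Additive]

def KK : Type u := F.obj (ModuleCat.of A A)

noncomputable instance instACGKK : AddCommGroup (KK F) :=
  inferInstanceAs (AddCommGroup (F.obj (ModuleCat.of A A)))

noncomputable instance instModBKK : Module B (KK F) :=
  inferInstanceAs (Module B (F.obj (ModuleCat.of A A)))

noncomputable def actHom : A →+* Module.End B (KK F) where
  toFun a := (F.map (a • 𝟙 (ModuleCat.of A A))).hom
  map_one' := by
    rw [one_smul, F.map_id]
    rfl
  map_mul' a b := by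
    have h : (a * b) • 𝟙 (ModuleCat.of A A) = (b • 𝟙 _) ≫ (a • 𝟙 _) := by
      rw [Linear.smul_comp, Linear.comp_smul, Category.comp_id, smul_smul, mul_comm]
    rw [h, F.map_comp]
    rfl
  map_zero' := by
    rw [zero_smul, F.map_zero]
    rfl
  map_add' a b := by
    rw [add_smul, F.map_add]
    rfl

noncomputable instance instModAKK : Module A (KK F) := Module.compHom (KK F) (actHom F)

theorem KK_smul_def (a : A) (k : KK F) :
    a • k = (F.map (a • 𝟙 (ModuleCat.of A A))).hom k := rfl

instance instSMulCommKK : SMulCommClass A B (KK F) :=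
  ⟨fun a b k => by
    show (actHom F a) (b • k) = b • (actHom F a) k
    exact map_smul _ _ _⟩

noncomputable def etaAdd (M : ModuleCat.{u} A) : KK F ⊗[A] M →+ F.obj M :=
  TensorProduct.liftAddHom
    (AddMonoidHom.mk' (fun k : KK F => AddMonoidHom.mk' (fun m : M => (F.map (rho m)).hom k)
      (by
        intro m m'
        rw [rho_add, F.map_add]
        rfl))
      (by
        intro k k'
        ext m
        show (F.map (rho m)).hom (k + k') = (F.map (rho m)).hom k + (F.map (rho m)).hom k'
        exact map_add (F.map (rho m)).hom k k'))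
    (by
      intro a k m
      show (F.map (rho m)).hom (a • k) = (F.map (rho (a • m))).hom k
      rw [rho_smul, F.map_comp, KK_smul_def]
      rfl)

theorem etaAdd_tmul (M : ModuleCat.{u} A) (k : KK F) (m : M) :
    etaAdd F M (k ⊗ₜ m) = (F.map (rho m)).hom k := rfl

noncomputable def etaLin (M : ModuleCat.{u} A) : KK F ⊗[A] M →ₗ[B] F.obj M :=
  { etaAdd F M with
    map_smul' := fun b x => by
      show etaAdd F M (b • x) = b • etaAdd F M x
      induction x using TensorProduct.induction_on with
      | zero => simp
      | tmul k m =>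
        rw [TensorProduct.smul_tmul', etaAdd_tmul, etaAdd_tmul]
        exact map_smul _ _ _
      | add x y hx hy => rw [smul_add, map_add, hx, hy, map_add, smul_add] }

theorem etaLin_tmul (M : ModuleCat.{u} A) (k : KK F) (m : M) :
    etaLin F M (k ⊗ₜ m) = (F.map (rho m)).hom k := rfl

theorem eta_natural {M N : ModuleCat.{u} A} (f : M ⟶ N) (x : KK F ⊗[A] M) :
    etaLin F N (LinearMap.lTensor (KK F) f.hom x) = (F.map f).hom (etaLin F M x) := by
  induction x using TensorProduct.induction_on with
  | zero => simp
  | tmul k m =>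
    rw [LinearMap.lTensor_tmul, etaLin_tmul, etaLin_tmul, ← rho_comp, F.map_comp]
    rfl
  | add x y hx hy => simp only [map_add, hx, hy]

theorem eta_self (x : KK F ⊗[A] (ModuleCat.of A A)) :
    etaLin F (ModuleCat.of A A) x = TensorProduct.rid A (KK F) x := by
  induction x using TensorProduct.induction_on with
  | zero =>
    rw [map_zero, map_zero]
    rfl
  | tmul k a =>
    rw [etaLin_tmul, rho_self]
    show a • k = TensorProduct.rid A (KK F) (k ⊗ₜ a)
    rw [TensorProduct.rid_tmul]
  | add x y hx hy =>
    rw [map_add, map_add, hx, hy]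
    rfl

/-- the free module as a coproduct of copies of `A`. -/
noncomputable def freeCofan (I : Type u) : Cofan (fun _ : I => ModuleCat.of A A) :=
  Cofan.mk (ModuleCat.of A (I →₀ A))
    (fun i => ModuleCat.ofHom (Finsupp.lsingle (R := A) (M := A) i))

noncomputable def isColimitFree (I : Type u) : IsColimit (freeCofan (A := A) I) :=
  Cofan.IsColimit.mk _
    (fun s => ModuleCat.ofHom (Finsupp.lsum ℕ (fun i => (s.inj i).hom)))
    (fun s i => by
      ext x
      simp [freeCofan, Cofan.inj])
    (fun s m h => by
      ext : 1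
      apply Finsupp.lhom_ext'
      intro i
      have := congrArg ModuleCat.Hom.hom (h i)
      ext
      simpa [freeCofan, Cofan.inj] using LinearMap.congr_fun this 1)

theorem eta_free_surjective (hsum : ∀ J : Type u, PreservesColimitsOfShape (Discrete J) F)
    (I : Type u) : Function.Surjective (etaLin F (ModuleCat.of A (I →₀ A))) := by
  haveI := hsum I
  have hcol := isColimitOfPreserves F (isColimitFree (A := A) I)
  let N : Submodule B (F.obj (ModuleCat.of A (I →₀ A))) :=
    LinearMap.range (etaLin F (ModuleCat.of A (I →₀ A)))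
  have hN : ∀ i (k : KK F), (F.map ((freeCofan (A := A) I).inj i)).hom k ∈ N := by
    intro i k
    refine ⟨k ⊗ₜ (Finsupp.single i (1 : A)), ?_⟩
    rw [etaLin_tmul]
    congr 3
    ext
    simp [rho, freeCofan, Cofan.inj]
  have hq : ModuleCat.ofHom N.mkQ = 0 := by
    apply hcol.hom_ext
    rintro ⟨i⟩
    ext k
    show N.mkQ ((F.map ((freeCofan (A := A) I).inj i)).hom k) = 0
    rw [Submodule.mkQ_apply, Submodule.Quotient.mk_eq_zero]
    exact hN i k
  rw [← LinearMap.range_eq_top]
  show N = ⊤
  rw [eq_top_iff]
  intro y _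
  have := congrArg (fun φ => φ.hom y) hq
  simpa [Submodule.Quotient.mk_eq_zero] using this

theorem eta_free_injective (I : Type u) :
    Function.Injective (etaLin F (ModuleCat.of A (I →₀ A))) := by
  classical
  rw [injective_iff_map_eq_zero]
  intro x hx
  have hj : ∀ j, LinearMap.lTensor (KK F) (Finsupp.lapply (R := A) (M := A) j) x = 0 := by
    intro j
    have h1 := eta_natural F (ModuleCat.ofHom (Finsupp.lapply (R := A) (M := A) j)) x
    rw [hx, map_zero, eta_self] at h1
    exact (TensorProduct.rid A (KK F)).injective (by rw [map_zero]; exact h1)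
  apply (TensorProduct.finsuppScalarRight A A (KK F) I).injective
  rw [map_zero]
  ext j
  rw [TensorProduct.finsuppScalarRight_apply, hj, map_zero]
  rfl

theorem eta_bijective [PreservesFiniteColimits F]
    (hsum : ∀ J : Type u, PreservesColimitsOfShape (Discrete J) F) (M : ModuleCat.{u} A) :
    Function.Bijective (etaLin F M) := by
  -- presentation
  let p : (M →₀ A) →ₗ[A] M := Finsupp.linearCombination A (id : M → M)
  have hp : Function.Surjective p := Finsupp.linearCombination_id_surjective A M
  let q : (LinearMap.ker p →₀ A) →ₗ[A] (M →₀ A) :=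
    Finsupp.linearCombination A (Subtype.val : LinearMap.ker p → (M →₀ A))
  have hqp : Function.Exact q p := by
    rw [LinearMap.exact_iff, Finsupp.range_linearCombination, Subtype.range_coe_subtype]
    exact (Submodule.span_eq _).symm
  let Sc : ShortComplex (ModuleCat.{u} A) :=
    ShortComplex.mk (ModuleCat.ofHom q) (ModuleCat.ofHom p)
      (ModuleCat.hom_ext (LinearMap.ext fun x => hqp.apply_apply_eq_zero x))
  have hSc : Sc.Exact ∧ Epi Sc.g :=
    ⟨(ShortComplex.ShortExact.moduleCat_exact_iff_function_exact Sc).2 hqp,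
      (ModuleCat.epi_iff_surjective _).2 hp⟩
  have t31 := (Functor.preservesFiniteColimits_tfae F).out 3 1
  obtain ⟨hex, hepi⟩ := t31.1 inferInstance Sc hSc
  have hFex : Function.Exact (F.map (ModuleCat.ofHom q)).hom (F.map (ModuleCat.ofHom p)).hom :=
    (ShortComplex.ShortExact.moduleCat_exact_iff_function_exact _).1 hex
  have hFp : Function.Surjective (F.map (ModuleCat.ofHom p)).hom :=
    (ModuleCat.epi_iff_surjective _).1 hepi
  have hTex : Function.Exact (LinearMap.lTensor (KK F) q) (LinearMap.lTensor (KK F) p) :=
    lTensor_exact (KK F) hqp hp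
  have hTp : Function.Surjective (LinearMap.lTensor (KK F) p) :=
    LinearMap.lTensor_surjective (KK F) hp
  have n0 : ∀ x, etaLin F (ModuleCat.of A M) (LinearMap.lTensor (KK F) p x) =
      (F.map (ModuleCat.ofHom p)).hom (etaLin F _ x) := eta_natural F (ModuleCat.ofHom p)
  have n1 : ∀ x, etaLin F (ModuleCat.of A (M →₀ A)) (LinearMap.lTensor (KK F) q x) =
      (F.map (ModuleCat.ofHom q)).hom (etaLin F _ x) := eta_natural F (ModuleCat.ofHom q)
  have s0 := eta_free_surjective F hsum M
  have i0 := eta_free_injective F (A := A) M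
  have s1 := eta_free_surjective F hsum (LinearMap.ker p)
  constructor
  · rw [injective_iff_map_eq_zero]
    intro x hx
    obtain ⟨x₀, rfl⟩ := hTp x
    have h1 : (F.map (ModuleCat.ofHom p)).hom (etaLin F _ x₀) = 0 := by
      rw [← n0]; exact hx
    obtain ⟨y₁, hy₁⟩ := (hFex _).1 h1
    obtain ⟨x₁, rfl⟩ := s1 y₁
    have h2 : x₀ = LinearMap.lTensor (KK F) q x₁ := by
      apply i0
      rw [← hy₁, n1]
    rw [h2]
    exact hTex.apply_apply_eq_zero x₁
  · intro y
    obtain ⟨y₀, rfl⟩ := hFp y
    obtain ⟨x₀, rfl⟩ := s0 y₀
    exact ⟨LinearMap.lTensor (KK F) p x₀, n0 x₀⟩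

end EW


/-- The implication (2) to (1): for commutative rings A and B, any functor from A-modules to B-modules
preserving finite colimits and arbitrary direct sums is given by tensoring: there is a module K over
both A and B with commuting actions and B-linear isomorphisms K tensor_A M = F(M), natural in the
A-module M. -/
theorem result (A B : Type u) [CommRing A]
    [CommRing B] (F : ModuleCat.{u} A ⥤ ModuleCat.{u} B) [PreservesFiniteColimits F]
    (hsum : ∀ J : Type u, PreservesColimitsOfShape (Discrete J) F) :
    ∃ (K : Type u) (_ : AddCommGroup K) (_ : Module A K) (_ : Module B K) (_ : SMulCommClass A B K)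
      (η : ∀ M : ModuleCat.{u} A, (K ⊗[A] M) ≃ₗ[B] F.obj M),
      ∀ (M N : ModuleCat.{u} A) (f : M ⟶ N) (x : K ⊗[A] M),
        η N (LinearMap.lTensor K f.hom x) = F.map f (η M x) := by
  haveI : F.Additive := by
    haveI := preservesBinaryBiproducts_of_preservesBinaryCoproducts F
    exact Functor.additive_of_preservesBinaryBiproducts F
  exact ⟨KK F, inferInstance, inferInstance, inferInstance, inferInstance,
    fun M => LinearEquiv.ofBijective (etaLin F M) (eta_bijective F hsum M),
    fun M N f x => eta_natural F f x⟩

end Groth.Agent.S2204
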