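import Groth.Statements.S2205
import Mathlib
import Groth.Agent.S2195
import Groth.Agent.S2196

set_option autoImplicit false
universe u v
open Disc
open TensorProduct

namespace Groth.Agent.S2205

/-- Special case: affine, with B finite free over the Noetherian ring A (the source allows flat
quasi-finite morphisms of Noetherian schemes); then the relative dualizing module is Hom_A(B, A) and
the trace element is the usual trace. A prime q of B contains the different (the set of b with b
Hom_A(B, A) inside B Trace) if and only if A -> B is not unramified at q; for such maps unramified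
and etale at q agree. -/
theorem result {A : Type u} {B : Type v} [CommRing A]
    [CommRing B] [Algebra A B] [IsNoetherianRing A] [Module.Finite A B] [Module.Free A B]
    (q : Ideal B) [q.IsPrime] :
    Disc.differentSet A B ⊆ q ↔ ¬Algebra.IsUnramifiedAt A q := by
  classical
  rcases subsingleton_or_nontrivial A with hA | hA
  · exfalso
    haveI : Subsingleton B := Module.subsingleton A B
    exact (Ideal.IsPrime.ne_top (inferInstance : q.IsPrime)) (Subsingleton.elim q ⊤)
  obtain ⟨n, ⟨b⟩⟩ : ∃ n, Nonempty (Module.Basis (Fin n) A B) := ⟨_, ⟨Module.finBasis A B⟩⟩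
  have hμsurj : Function.Surjective (Algebra.TensorProduct.lmul' (S := B) A) :=
    fun y => ⟨y ⊗ₜ 1, by simp⟩
  -- (1) N ⊆ D
  have h1 : ∀ y ∈ Disc.noetherDifferent A B, y ∈ Disc.differentSet A B := by
    intro y hy
    unfold Disc.noetherDifferent at hy
    rw [Ideal.mem_map_iff_of_surjective _ hμsurj] at hy
    obtain ⟨u, hu, rfl⟩ := hy
    rw [Submodule.mem_annihilator] at hu
    have hu' : ∀ s : B, ((1 : B) ⊗ₜ[A] s - s ⊗ₜ[A] (1 : B)) * u = 0 := by
      intro s
      have := hu _ (KaehlerDifferential.one_smul_sub_smul_one_mem_ideal A s)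
      rw [smul_eq_mul, mul_comm] at this
      exact this
    change ∀ φ : B →ₗ[A] A, ∃ c : B, ∀ x : B,
      φ (Algebra.TensorProduct.lmul' (S := B) A u * x) = Algebra.trace A B (c * x)
    intro φ
    refine ⟨Groth.Agent.S2195.Lam φ u, fun x => ?_⟩
    rw [Groth.Agent.S2195.key b φ x u hu', mul_comm]
  -- (2) d ∈ D ⇒ d² ∈ N
  have h2 : ∀ d ∈ Disc.differentSet A B, d * d ∈ Disc.noetherDifferent A B := by
    intro d hd
    have hd' : ∀ φ : B →ₗ[A] A, ∃ c : B, ∀ x : B, φ (d * x) = Algebra.trace A B (c * x) := hd
    choose C0 hC0 using hd'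
    obtain ⟨c, hc⟩ : ∃ c : Fin n → B, ∀ k x, b.repr (d * x) k = Algebra.trace A B (c k * x) :=
      ⟨fun k => C0 (b.coord k), fun k x => by rw [← hC0]; rfl⟩
    have hR : ∀ r : B, (∀ x, Algebra.trace A B (r * x) = 0) → d * r = 0 := by
      intro r hr
      apply b.repr.injective
      ext k
      rw [hc k r, mul_comm, hr, map_zero]
      rfl
    have hTC : ∀ (ψ : B →ₗ[A] A) (z : B),
        Algebra.trace A B ((∑ k, ψ (b k) • c k) * z) = ψ (d * z) := by
      intro ψ z
      rw [Finset.sum_mul, map_sum]
      conv_rhs => rw [← b.sum_repr (d * z), map_sum]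
      refine Finset.sum_congr rfl fun k _ => ?_
      rw [smul_mul_assoc, map_smul, map_smul, ← hc k z, smul_eq_mul, smul_eq_mul, mul_comm]
    obtain ⟨u, hu⟩ : ∃ u : B ⊗[A] B, u = ∑ k, b k ⊗ₜ[A] (d * c k) := ⟨_, rfl⟩
    have hE : ∀ w : B ⊗[A] B, w = ∑ k, b k ⊗ₜ[A] Groth.Agent.S2195.Lam (b.coord k) w := by
      intro w
      induction w using TensorProduct.induction_on with
      | zero => simp
      | tmul x y =>
        conv_lhs => rw [← b.sum_repr x, TensorProduct.sum_tmul]
        refine Finset.sum_congr rfl fun k _ => ?_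
        rw [Groth.Agent.S2195.Lam_tmul, TensorProduct.smul_tmul, Module.Basis.coord_apply]
      | add w v hw hv =>
        simp only [map_add, TensorProduct.tmul_add, Finset.sum_add_distrib]
        rw [← hw, ← hv]
    have hLam : ∀ (φ : B →ₗ[A] A) (s : B),
        Groth.Agent.S2195.Lam φ (u * ((1 : B) ⊗ₜ[A] s - s ⊗ₜ[A] (1 : B))) = 0 := by
      intro φ s
      have hL : Groth.Agent.S2195.Lam φ (u * ((1 : B) ⊗ₜ[A] s - s ⊗ₜ[A] (1 : B))) =
          ∑ k, (φ (b k) • (d * c k * s) - φ (b k * s) • (d * c k)) := by
        rw [hu, Finset.sum_mul, map_sum]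
        refine Finset.sum_congr rfl fun k _ => ?_
        rw [mul_sub, Algebra.TensorProduct.tmul_mul_tmul, Algebra.TensorProduct.tmul_mul_tmul,
          map_sub, Groth.Agent.S2195.Lam_tmul, Groth.Agent.S2195.Lam_tmul, mul_one, mul_one]
      have hRr : d * (s * (∑ k, φ (b k) • c k) - ∑ k, φ (s * b k) • c k) =
          ∑ k, (φ (b k) • (d * c k * s) - φ (b k * s) • (d * c k)) := by
        rw [Finset.mul_sum, ← Finset.sum_sub_distrib, Finset.mul_sum]
        refine Finset.sum_congr rfl fun k _ => ?_
        rw [mul_comm (b k) s]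
        simp only [Algebra.smul_def]
        ring
      rw [hL, ← hRr]
      apply hR
      intro x
      rw [sub_mul, map_sub, sub_eq_zero]
      have e1 : s * (∑ k, φ (b k) • c k) * x = (∑ k, φ (b k) • c k) * (s * x) := by ring
      have e2 := hTC (φ ∘ₗ LinearMap.mulLeft A s) x
      simp only [LinearMap.comp_apply, LinearMap.mulLeft_apply] at e2
      rw [e1, hTC φ (s * x), e2]
      congr 1
      ring
    have hAnn : u ∈ Submodule.annihilator
        (RingHom.ker (Algebra.TensorProduct.lmul' (S := B) A)) := by
      rw [Submodule.mem_annihilator]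
      intro y hy
      have hy' : y ∈ KaehlerDifferential.ideal A B := hy
      rw [← KaehlerDifferential.span_range_eq_ideal A B] at hy'
      refine Submodule.span_induction ?_ ?_ ?_ ?_ hy'
      · rintro _ ⟨s, rfl⟩
        rw [smul_eq_mul, hE (u * ((1 : B) ⊗ₜ[A] s - s ⊗ₜ[A] (1 : B)))]
        apply Finset.sum_eq_zero
        intro k _
        rw [hLam (b.coord k) s, TensorProduct.tmul_zero]
      · rw [smul_zero]
      · intro x y _ _ hx hy; rw [smul_add, hx, hy, add_zero]
      · intro a x _ hx; rw [smul_comm, hx, smul_zero]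
    have hμu : Algebra.TensorProduct.lmul' (S := B) A u = d * d := by
      have h3 : Algebra.TensorProduct.lmul' (S := B) A u = d * ∑ k, b k * c k := by
        rw [hu, map_sum, Finset.mul_sum]
        refine Finset.sum_congr rfl fun k _ => ?_
        rw [Algebra.TensorProduct.lmul'_apply_tmul]
        ring
      have h4 : d * ((∑ k, b k * c k) - d) = 0 := by
        apply hR
        intro x
        rw [sub_mul, map_sub, sub_eq_zero, Finset.sum_mul, map_sum,
          Groth.Agent.S2195.trace_eq_sum b (d * x)]
        refine Finset.sum_congr rfl fun k _ => ?_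
        have e3 : b k * c k * x = c k * (b k * x) := by ring
        have e4 : d * x * b k = d * (b k * x) := by ring
        rw [e3, ← hc k (b k * x), e4]
      rw [h3]
      rw [mul_sub, sub_eq_zero] at h4
      exact h4
    unfold Disc.noetherDifferent
    rw [← hμu]
    exact Ideal.mem_map_of_mem _ hAnn
  have hS := Groth.Agent.S2196.result (A := A) (B := B)
  have hmem : (Disc.noetherDifferent A B ≤ q) ↔ ¬ Algebra.IsUnramifiedAt A q :=
    Set.ext_iff.1 hS ⟨q, inferInstance⟩
  rw [← hmem]
  constructor
  · intro h y hy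
    exact h (h1 y hy)
  · intro h d hd
    have := h (h2 d hd)
    exact (Ideal.IsPrime.mem_or_mem inferInstance this).elim id id

end Groth.Agent.S2205
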