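import Groth.Statements.S2206
import Mathlib
import Groth.Agent.Lib.Helper21.RHu
import Groth.Agent.Lib.Helper21.GeomRegE

set_option autoImplicit false
universe u
open TensorProduct
open LCI

namespace Groth.Agent.S2206

/-- Let A be a Noetherian ring and B a flat A-algebra of finite type, viewed as an algebra over B
tensor_A B through the multiplication map. If B, as a module over B tensor_A B, has finite
Tor-dimension (the diagonal is a perfect ring map), then B is smooth over A. -/
theorem result {A B : Type u} [CommRing A] [CommRing B]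
    [Algebra A B] [IsNoetherianRing A] [Algebra.FiniteType A B] [Module.Flat A B]
    [Algebra (B ⊗[A] B) B]
    (hmul : ∀ x y : B, algebraMap (B ⊗[A] B) B (x ⊗ₜ[A] y) = x * y)
    (h : DRing.HasFiniteTorDim (B ⊗[A] B) B) : Algebra.Smooth A B := by
  obtain ⟨d, hd⟩ := h
  haveI : Algebra.FinitePresentation A B := Algebra.FinitePresentation.of_finiteType.mp inferInstance
  rw [Groth.Agent.Lib.Helper21.GeomReg.S4996_aux A B]
  refine ⟨inferInstance, fun p _ => ?_⟩
  intro k' _ _ hfin
  letI : Algebra A k' :=
    ((algebraMap p.ResidueField k').comp (algebraMap A p.ResidueField)).toAlgebra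
  haveI : IsScalarTower A p.ResidueField k' := IsScalarTower.of_algebraMap_eq (fun _ => rfl)
  haveI : IsNoetherianRing (k' ⊗[A] B) := Algebra.FiniteType.isNoetherianRing k' (k' ⊗[A] B)
  haveI : IsRegularRing (k' ⊗[A] B) :=
    Groth.Agent.Lib.Helper21.RHu.isRegularRing_fibre (K := k') hmul d hd
  exact IsRegularRing.of_ringEquiv
    (Algebra.TensorProduct.cancelBaseChange A p.ResidueField p.ResidueField k' B).symm.toRingEquiv

end Groth.Agent.S2206
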