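import Groth.Statements.S2207
import Mathlib.Data.Nat.Choose.Sum
import Mathlib.Tactic

set_option autoImplicit false
universe u v
open DPow

namespace Groth.Agent.S2207

theorem pow_mul_eq_of_mul_eq {B : Type v} [CommRing B] {u w t : B} (h : u * t = w * t) (n : ℕ) :
    u ^ n * t = w ^ n * t := by
  induction n with
  | zero => simp
  | succ n ih =>
    calc u ^ (n + 1) * t = u ^ n * (u * t) := by ring
      _ = w * (u ^ n * t) := by rw [h]; ring
      _ = w ^ (n + 1) * t := by rw [ih]; ring

/-- Existence in case (2): let I = (x) be a principal ideal of A with a divided power structure and B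
any A-algebra. Then there is a divided power structure on I B for which A -> B is a homomorphism of
divided power rings. -/
theorem result {A : Type u} {B : Type v} [CommRing A] [CommRing B] [Algebra A B]
    (x : A) (γ : DividedPowers (Ideal.span {x})) :
    ∃ δ : DividedPowers ((Ideal.span {x}).map (algebraMap A B)), γ.IsDPMorphism δ (algebraMap A B) := by
  classical
  set f := algebraMap A B with hf
  set J : Ideal B := (Ideal.span {x}).map f with hJdef
  have hJ : J = Ideal.span {f x} := by
    rw [hJdef, Ideal.map_span, Set.image_singleton]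
  have hx : x ∈ Ideal.span ({x} : Set A) := Ideal.subset_span (Set.mem_singleton x)
  have hmemJ : ∀ y, y ∈ J ↔ ∃ b, b * f x = y := fun y => by
    rw [hJ, Ideal.mem_span_singleton']
  have hbJ : ∀ b, b * f x ∈ J := fun b => (hmemJ _).mpr ⟨b, rfl⟩
  -- chosen coefficient
  let c : B → B := fun y => if h : y ∈ J then Classical.choose ((hmemJ y).mp h) else 0
  have hc : ∀ y, y ∈ J → c y * f x = y := fun y h => by
    simp only [c, dif_pos h]
    exact Classical.choose_spec ((hmemJ y).mp h)
  let d : ℕ → B → B := fun n y => if y ∈ J then (c y) ^ n * f (γ.dpow n x) else 0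
  -- γ_n x = a_n * x for n ≠ 0
  have ha : ∀ n, n ≠ 0 → ∃ a, a * x = γ.dpow n x := fun n hn =>
    Ideal.mem_span_singleton'.mp (γ.dpow_mem hn hx)
  have hd : ∀ b n, d n (b * f x) = b ^ n * f (γ.dpow n x) := by
    intro b n
    simp only [d, if_pos (hbJ b)]
    rcases Nat.eq_zero_or_pos n with hn | hn
    · subst hn; simp
    · obtain ⟨a, ha⟩ := ha n hn.ne'
      rw [← ha, map_mul]
      have := pow_mul_eq_of_mul_eq (hc _ (hbJ b)) n
      calc c (b * f x) ^ n * (f a * f x) = f a * (c (b * f x) ^ n * f x) := by ring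
        _ = f a * (b ^ n * f x) := by rw [this]
        _ = b ^ n * (f a * f x) := by ring
  refine ⟨{
    dpow := d
    dpow_null := fun {n y} hy => by simp only [d, if_neg hy]
    dpow_zero := fun {y} hy => by
      obtain ⟨b, rfl⟩ := (hmemJ y).mp hy
      rw [hd, γ.dpow_zero hx, map_one, pow_zero, one_mul]
    dpow_one := fun {y} hy => by
      obtain ⟨b, rfl⟩ := (hmemJ y).mp hy
      rw [hd, γ.dpow_one hx, pow_one]
    dpow_mem := fun {n y} hn hy => by
      obtain ⟨b, rfl⟩ := (hmemJ y).mp hy
      rw [hd]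
      exact Ideal.mul_mem_left _ _ (Ideal.mem_map_of_mem f (γ.dpow_mem hn hx))
    dpow_add := fun {n y y'} hy hy' => by
      obtain ⟨b, rfl⟩ := (hmemJ y).mp hy
      obtain ⟨b', rfl⟩ := (hmemJ y').mp hy'
      rw [← add_mul, hd, (Commute.all b b').add_pow' n, Finset.sum_mul]
      refine Finset.sum_congr rfl fun k hk => ?_
      rw [hd, hd]
      have hk' : k.1 + k.2 = n := Finset.mem_antidiagonal.mp hk
      have e := γ.mul_dpow (m := k.1) (n := k.2) hx
      rw [hk'] at e
      have e' : f (γ.dpow k.1 x) * f (γ.dpow k.2 x) = (n.choose k.1 : B) * f (γ.dpow n x) := by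
        rw [← map_mul, e, map_mul, map_natCast]
      rw [nsmul_eq_mul]
      calc (n.choose k.1 : B) * (b ^ k.1 * b' ^ k.2) * f (γ.dpow n x)
          = b ^ k.1 * b' ^ k.2 * ((n.choose k.1 : B) * f (γ.dpow n x)) := by ring
        _ = b ^ k.1 * b' ^ k.2 * (f (γ.dpow k.1 x) * f (γ.dpow k.2 x)) := by rw [e']
        _ = b ^ k.1 * f (γ.dpow k.1 x) * (b' ^ k.2 * f (γ.dpow k.2 x)) := by ring
    dpow_mul := fun {n a y} hy => by
      obtain ⟨b, rfl⟩ := (hmemJ y).mp hy
      rw [← mul_assoc, hd, hd, mul_pow, mul_assoc]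
    mul_dpow := fun {m n y} hy => by
      obtain ⟨b, rfl⟩ := (hmemJ y).mp hy
      rw [hd, hd, hd]
      have e := γ.mul_dpow (m := m) (n := n) hx
      have e' : f (γ.dpow m x) * f (γ.dpow n x) = ((m + n).choose m : B) * f (γ.dpow (m + n) x) := by
        rw [← map_mul, e, map_mul, map_natCast]
      calc b ^ m * f (γ.dpow m x) * (b ^ n * f (γ.dpow n x))
          = b ^ (m + n) * (f (γ.dpow m x) * f (γ.dpow n x)) := by ring
        _ = ((m + n).choose m : B) * (b ^ (m + n) * f (γ.dpow (m + n) x)) := by rw [e']; ring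
    dpow_comp := fun {m n y} hn hy => by
      obtain ⟨b, rfl⟩ := (hmemJ y).mp hy
      rw [hd, hd]
      obtain ⟨a, ha⟩ := ha n hn
      have e1 : b ^ n * f (γ.dpow n x) = (b ^ n * f a) * f x := by
        rw [← ha, map_mul]; ring
      rw [e1, hd]
      have e2 : f a ^ m * f (γ.dpow m x) = (Nat.uniformBell m n : B) * f (γ.dpow (m * n) x) := by
        rw [← map_pow, ← map_mul, ← γ.dpow_mul hx, ha, γ.dpow_comp hn hx, map_mul, map_natCast]
      calc (b ^ n * f a) ^ m * f (γ.dpow m x) = b ^ (m * n) * (f a ^ m * f (γ.dpow m x)) := by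
            rw [mul_pow, ← pow_mul, mul_comm n m]; ring
        _ = (Nat.uniformBell m n : B) * (b ^ (m * n) * f (γ.dpow (m * n) x)) := by rw [e2]; ring }, ?_⟩
  refine ⟨le_refl _, ?_⟩
  intro n a ha'
  obtain ⟨r, rfl⟩ := Ideal.mem_span_singleton'.mp ha'
  change d n (f (r * x)) = f (γ.dpow n (r * x))
  rw [map_mul, hd, γ.dpow_mul hx, map_mul, map_pow]

end Groth.Agent.S2207
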