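import Groth.Statements.S2210
import Mathlib
import Groth.Agent.Lib.Helper18.NdD
import Groth.Agent.S9147

set_option autoImplicit false
universe u
open Disc

namespace Groth.Agent.S2210

/-- Parts (1) (flatness) and (3), in the case h = 1: let A be a ring, n at least 1, f_1, ..., f_n
polynomials in A[x_1, ..., x_n] and B = A[x_1, ..., x_n]/(f_1, ..., f_n). When B is quasi-finite
over A, it is A-flat, and its Noether different over A is the principal ideal generated by the image
of the Jacobian determinant det(d f_i / d x_j). -/
theorem result {A : Type u} [CommRing A] {n : ℕ}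
    (hn : 1 ≤ n) (f : Fin n → MvPolynomial (Fin n) A)
    [Algebra.QuasiFinite A (MvPolynomial (Fin n) A ⧸ Ideal.span (Set.range f))] :
    Module.Flat A (MvPolynomial (Fin n) A ⧸ Ideal.span (Set.range f)) ∧
      Disc.noetherDifferent A (MvPolynomial (Fin n) A ⧸ Ideal.span (Set.range f)) =
        Ideal.span {Ideal.Quotient.mk (Ideal.span (Set.range f))
          (Matrix.det (Matrix.of fun i j => MvPolynomial.pderiv j (f i)))} := by
  have hGCI := Groth.Agent.Lib.Helper18.DR.Nd.isRelGCI_of_quasiFinite f
  have hflat : Module.Flat A (MvPolynomial (Fin n) A ⧸ Ideal.span (Set.range f)) :=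
    (Groth.Agent.S9147.result A n n f hGCI).1
  have hf := Groth.Agent.S9254.result A n n f hGCI
  refine ⟨hflat, ?_⟩
  haveI := hflat
  refine Groth.Agent.Lib.Helper18.DR.Nd.noetherDifferent_eq (AlgEquiv.refl)
    (fun j => MvPolynomial.pderiv j) ?_ f hf
  intro j k
  change MvPolynomial.pderiv j (MvPolynomial.X k) = _
  by_cases h : j = k
  · subst h
    rw [MvPolynomial.pderiv_X_self, if_pos rfl]
  · rw [MvPolynomial.pderiv_X_of_ne (Ne.symm h), if_neg h]

end Groth.Agent.S2210
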