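import Groth.Statements.S2211
import Mathlib.Data.Nat.Choose.Lucas
import Mathlib.Tactic

set_option autoImplicit false
universe u
open DPow

namespace Groth.Agent.S2211

theorem uniformBell_modEq_one {p : ℕ} (hp : p.Prime) (q : ℕ) :
    Nat.uniformBell q p ≡ 1 [MOD p] := by
  haveI := Fact.mk hp
  induction q with
  | zero => rw [Nat.uniformBell_zero_left]
  | succ q ih =>
    rw [Nat.uniformBell_succ_left]
    have h1 : Nat.choose (q * p + p - 1) (p - 1) ≡ 1 [MOD p] := by
      have hL := Choose.choose_modEq_choose_mod_mul_choose_div_nat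
        (n := q * p + p - 1) (k := p - 1) (p := p)
      have hp1 : 1 ≤ p := hp.one_le
      have e0 : q * p + p - 1 = (p - 1) + q * p := by omega
      have e1 : (q * p + p - 1) % p = p - 1 := by
        rw [e0, Nat.add_mul_mod_self_right, Nat.mod_eq_of_lt (by omega)]
      have e2 : (p - 1) % p = p - 1 := Nat.mod_eq_of_lt (by omega)
      have e3 : (q * p + p - 1) / p = q := by
        rw [e0, Nat.add_mul_div_right _ _ hp.pos, Nat.div_eq_of_lt (by omega), zero_add]
      have e4 : (p - 1) / p = 0 := Nat.div_eq_of_lt (by omega)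
      rw [e1, e2, e3, e4, Nat.choose_self, Nat.choose_zero_right, mul_one] at hL
      exact hL
    simpa using h1.mul ih

theorem not_dvd_uniformBell {p : ℕ} (hp : p.Prime) (q : ℕ) : ¬ p ∣ Nat.uniformBell q p := by
  intro hd
  have h := uniformBell_modEq_one hp q
  unfold Nat.ModEq at h
  rw [Nat.mod_eq_zero_of_dvd hd, Nat.mod_eq_of_lt hp.one_lt] at h
  exact zero_ne_one h

/-- First part: let p be a prime and A a ring in which every integer prime to p is invertible, I an
ideal of A. Two divided power structures on I coincide exactly when their p-th divided power maps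
agree on I. -/
theorem result {A : Type u} [CommRing A] (p : ℕ) (hp : p.Prime)
    (hA : ∀ n : ℕ, ¬ p ∣ n → IsUnit (n : A)) {I : Ideal A} (γ γ' : DividedPowers I) :
    γ = γ' ↔ ∀ x ∈ I, γ.dpow p x = γ'.dpow p x := by
  constructor
  · rintro rfl x _; rfl
  · intro h
    apply DividedPowers.ext
    intro n
    induction n using Nat.strong_induction_on with
    | _ n ih =>
      intro x hx
      by_cases hpn : p ∣ n
      · obtain ⟨q, rfl⟩ := hpn
        rcases Nat.eq_zero_or_pos q with hq | hq
        · subst hq
          rw [mul_zero, γ.dpow_zero hx, γ'.dpow_zero hx]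
        · have hlt : q < p * q := by nlinarith [hp.two_le]
          have hu : IsUnit ((Nat.uniformBell q p : ℕ) : A) := hA _ (not_dvd_uniformBell hp q)
          have e1 := γ.dpow_comp (m := q) hp.ne_zero hx
          have e2 := γ'.dpow_comp (m := q) hp.ne_zero hx
          have e3 : γ.dpow q (γ.dpow p x) = γ'.dpow q (γ'.dpow p x) := by
            rw [← h x hx]; exact ih q hlt (γ.dpow_mem hp.ne_zero hx)
          rw [mul_comm p q]
          apply hu.mul_left_cancel
          rw [← e1, ← e2, e3]
      · have hn0 : n ≠ 0 := fun h0 => hpn (h0 ▸ dvd_zero p)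
        obtain ⟨k, rfl⟩ := Nat.exists_eq_succ_of_ne_zero hn0
        have hu : IsUnit (((k + 1 : ℕ)) : A) := hA _ hpn
        have e1 := γ.mul_dpow (m := 1) (n := k) hx
        have e2 := γ'.mul_dpow (m := 1) (n := k) hx
        rw [Nat.choose_one_right, add_comm 1 k] at e1 e2
        apply hu.mul_left_cancel
        rw [← e1, ← e2, γ.dpow_one hx, γ'.dpow_one hx, ih k (Nat.lt_succ_self k) hx]

end Groth.Agent.S2211
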