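import Groth.Statements.S2212
import Groth.Agent.Lib.Helper19.DPPrime2

set_option autoImplicit false
universe u
open DPow

namespace Groth.Agent.S2212

open Groth.Agent.Lib.Helper19.DPPrime

section Assemble

variable {A : Type u} [CommRing A] {p : ℕ} [hp : Fact p.Prime] (S : PD A p)

/-- The divided power structure built from `d`. -/
noncomputable def dpS : DividedPowers S.I := by
  classical
  exact
  { dpow := fun n x => if x ∈ S.I then g S n x else 0
    dpow_null := fun hx => if_neg hx
    dpow_zero := fun hx => by rw [if_pos hx, g_zero]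
    dpow_one := fun hx => by rw [if_pos hx, g_one]
    dpow_mem := fun hn hx => by rw [if_pos hx]; exact g_mem S hn hx
    dpow_add := fun {n x y} hx hy => by
      rw [if_pos (S.I.add_mem hx hy), g_add S n hx hy]
      refine Finset.sum_congr rfl (fun k _ => ?_)
      rw [if_pos hx, if_pos hy]
    dpow_mul := fun {n a x} hx => by
      rw [if_pos (S.I.mul_mem_left a hx), if_pos hx, g_smul S n a hx]
    mul_dpow := fun {m n x} hx => by
      simp only [if_pos hx]
      exact g_mul S m n hx
    dpow_comp := fun {m n x} hn hx => by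
      simp only [if_pos hx, if_pos (g_mem S hn hx)]
      exact g_comp S m hn hx }

theorem dpS_apply (n : ℕ) {x : A} (hx : x ∈ S.I) : (dpS S).dpow n x = g S n x := by
  classical
  show (if x ∈ S.I then g S n x else 0) = _
  rw [if_pos hx]

theorem dp_unique (γ : DividedPowers S.I) (hγ : ∀ x ∈ S.I, γ.dpow p x = S.d x) :
    ∀ n, ∀ x ∈ S.I, γ.dpow n x = g S n x := by
  intro n
  induction n using Nat.strong_induction_on with
  | _ n ih =>
    intro x hx
    by_cases hn : n < p
    · apply (fact_unit S hn).mul_left_cancel
      rw [γ.factorial_mul_dpow_eq_pow hx, fact_g S n hx]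
    · obtain ⟨q, r, hr, rfl⟩ := exists_qr p n
      have hp0 : p ≠ 0 := hp.out.ne_zero
      have hq0 : q ≠ 0 := by
        rintro rfl
        omega
      have hqlt : q < p * q + r := q_lt p (by omega)
      have hrlt : r < p * q + r := by omega
      have e0 : r + q * p = p * q + r := by ring
      have h1 : (((p * q + r).choose r * Nat.uniformBell q p : ℕ) : A) * γ.dpow (p * q + r) x =
          γ.dpow r x * γ.dpow q (γ.dpow p x) := by
        rw [γ.dpow_comp hp0 hx]
        calc (((p * q + r).choose r * Nat.uniformBell q p : ℕ) : A) * γ.dpow (p * q + r) x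
            = (Nat.uniformBell q p : A) * (((r + q * p).choose r : A) * γ.dpow (r + q * p) x) := by
              rw [e0]; push_cast; ring
          _ = (Nat.uniformBell q p : A) * (γ.dpow r x * γ.dpow (q * p) x) := by
              rw [γ.mul_dpow hx]
          _ = _ := by ring
      rw [hγ x hx, ih r hrlt x hx, ih q hqlt _ (S.hdI x hx), ← g_rec S q hr hx] at h1
      exact (S.hA _ (not_dvd_choose_mul_bell p q hr)).mul_left_cancel h1

end Assemble


/-- Second part: let p be a prime, A a ring in which every integer prime to p is invertible and I an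
ideal. Let d : A -> A send I into I and satisfy p! d(x) = x^p, d(a x) = a^p d(x), and d(x + y) =
d(x) + d(y) + sum over i + j = p with i, j > 0 of x^i y^j / (i! j!), for x, y in I and a in A. Then
there is exactly one divided power structure on I whose p-th divided power is d on I. -/
theorem result {A : Type u} [CommRing A] (p : ℕ) (hp : p.Prime)
    (hA : ∀ n : ℕ, ¬ p ∣ n → IsUnit (n : A)) {I : Ideal A} (d : A → A)
    (hdI : ∀ x ∈ I, d x ∈ I) (h1 : ∀ x ∈ I, (p.factorial : A) * d x = x ^ p)
    (h2 : ∀ (a x : A), x ∈ I → d (a * x) = a ^ p * d x)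
    (h3 : ∀ x ∈ I, ∀ y ∈ I, d (x + y) = d x + d y +
      ((Finset.antidiagonal p).filter fun k => 0 < k.1 ∧ 0 < k.2).sum
        fun k => Ring.inverse ((k.1.factorial * k.2.factorial : ℕ) : A) * x ^ k.1 * y ^ k.2) :
    ∃! γ : DividedPowers I, ∀ x ∈ I, γ.dpow p x = d x := by
  haveI : Fact p.Prime := ⟨hp⟩
  let S : PD A p := ⟨hA, I, d, hdI, h1, h2, h3⟩
  refine ⟨dpS S, ?_, ?_⟩
  · intro x hx
    show (dpS S).dpow p x = S.d x
    rw [dpS_apply S p hx, g_p]
  · intro γ hγ
    refine DividedPowers.ext _ _ (fun n x hx => ?_)
    have hx' : x ∈ S.I := hx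
    rw [dpS_apply S n hx']
    exact dp_unique S γ hγ n x hx

end Groth.Agent.S2212
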