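import Groth.Statements.S2218
import Mathlib

set_option autoImplicit false
universe u v
open Disc
open TensorProduct

namespace Groth.Agent.S2218

section Helpers

/-- A finite algebra over a domain into which the domain injects has a nonzero functional. -/
theorem exists_functional (R : Type*) (S : Type*) [CommRing R] [IsDomain R] [CommRing S]
    [Algebra R S] [Module.Finite R S] (hinj : Function.Injective (algebraMap R S)) :
    ∃ θ : S →ₗ[R] R, θ 1 ≠ 0 := by
  classical
  let K := FractionRing R
  have hv : ((1 : K) ⊗ₜ[R] (1 : S)) ≠ 0 := by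
    intro h
    have hflat : Function.Injective ((Algebra.linearMap R S).lTensor K) :=
      Module.Flat.lTensor_preserves_injective_linearMap (M := K) (Algebra.linearMap R S) hinj
    have h1 : (Algebra.linearMap R S).lTensor K ((1 : K) ⊗ₜ[R] (1 : R)) = 0 := by
      rw [LinearMap.lTensor_tmul, Algebra.linearMap_apply, map_one]; exact h
    have h2 : ((1 : K) ⊗ₜ[R] (1 : R)) = 0 := hflat (h1.trans (map_zero _).symm)
    have h3 := congrArg (TensorProduct.rid R K) h2
    rw [TensorProduct.rid_tmul, map_zero, one_smul] at h3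
    exact one_ne_zero h3
  obtain ⟨f, hf⟩ := Module.Projective.exists_dual_eq_one K hv
  let F : S →ₗ[R] K := (f.restrictScalars R) ∘ₗ (TensorProduct.mk R K S 1)
  have hF1 : F 1 = 1 := hf
  obtain ⟨T, hT⟩ := (Module.Finite.fg_top : (⊤ : Submodule R S).FG)
  obtain ⟨c, hc⟩ := IsLocalization.exist_integer_multiples (nonZeroDivisors R) T (fun t => F t)
  let G : S →ₗ[R] K := (c : R) • F
  have hG : ∀ s : S, G s ∈ LinearMap.range (Algebra.linearMap R K) := by
    intro s
    have hs : s ∈ Submodule.span R (T : Set S) := hT ▸ Submodule.mem_top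
    induction hs using Submodule.span_induction with
    | mem t ht =>
      obtain ⟨r, hr⟩ := (hc t ht : ∃ r, algebraMap R K r = (c : R) • F t)
      exact ⟨r, hr⟩
    | zero => rw [map_zero]; exact Submodule.zero_mem _
    | add x y _ _ hx hy => rw [map_add]; exact Submodule.add_mem _ hx hy
    | smul a x _ hx => rw [map_smul]; exact Submodule.smul_mem _ a hx
  let e := LinearEquiv.ofInjective (Algebra.linearMap R K) (IsFractionRing.injective R K)
  let θ : S →ₗ[R] R :=
    e.symm.toLinearMap ∘ₗ (G.codRestrict (LinearMap.range (Algebra.linearMap R K)) hG)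
  refine ⟨θ, fun h0 => ?_⟩
  have h1 : e (θ 1) = ⟨G 1, hG 1⟩ := e.apply_symm_apply _
  rw [h0, map_zero] at h1
  have h2 : G 1 = 0 := by
    have := congrArg Subtype.val h1
    simpa using this.symm
  have h3 : (algebraMap R K (c : R)) = 0 := by
    have h4 : G 1 = (c : R) • F 1 := rfl
    rw [h4, hF1, Algebra.smul_def, mul_one] at h2
    exact h2
  have h5 : (c : R) = 0 := (IsFractionRing.injective R K) (h3.trans (map_zero _).symm)
  exact nonZeroDivisors.coe_ne_zero c h5

variable {A : Type u} {B : Type v} [CommRing A] [CommRing B] [Algebra A B]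
  [IsNoetherianRing A] [IsNoetherianRing B] [Module.Finite A B]

theorem mem_of_comap_mem (q : Ideal B) [hq : q.IsPrime]
    (hp : q.under A ∈ associatedPrimes A A) :
    q ∈ associatedPrimes B (Omega A B) := by
  classical
  obtain ⟨hpp, y, hy⟩ := isAssociatedPrime_iff.mp hp
  have hyk : ∀ a : A, a ∈ q.under A ↔ a * y = 0 := by
    intro a
    rw [hy, Submodule.mem_colon_singleton, Submodule.mem_bot, smul_eq_mul]
  obtain ⟨θ', hθ'⟩ := exists_functional (A ⧸ q.under A) (B ⧸ q)
    (FaithfulSMul.algebraMap_injective (A ⧸ q.under A) (B ⧸ q))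
  have hker : q.under A ≤ LinearMap.ker (LinearMap.toSpanSingleton A A y) := by
    intro a ha
    rw [LinearMap.mem_ker, LinearMap.toSpanSingleton_apply, smul_eq_mul]
    exact (hyk a).mp ha
  let ιy : (A ⧸ q.under A) →ₗ[A] A :=
    Submodule.liftQ (q.under A) (LinearMap.toSpanSingleton A A y) hker
  have hιy : Function.Injective ιy := by
    rw [← LinearMap.ker_eq_bot]
    apply Submodule.ker_liftQ_eq_bot
    intro a ha
    rw [LinearMap.mem_ker, LinearMap.toSpanSingleton_apply, smul_eq_mul] at ha
    exact (hyk a).mpr ha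
  let θ : (B ⧸ q) →ₗ[A] (A ⧸ q.under A) := θ'.restrictScalars A
  let π : B →ₗ[A] (B ⧸ q) := (Ideal.Quotient.mkₐ A q).toLinearMap
  let η : Omega A B := ⟨ιy ∘ₗ θ ∘ₗ π⟩
  have hη : ∀ z x : B,
      (z • η).toLinearMap x = ιy (θ' (Ideal.Quotient.mk q (z * x))) := fun z x => rfl
  rw [AssociatedPrimes.mem_iff, isAssociatedPrime_iff]
  refine ⟨hq, η, ?_⟩
  ext z
  rw [Submodule.mem_colon_singleton, Submodule.mem_bot]
  constructor
  · intro hz
    apply Omega.ext
    apply LinearMap.ext
    intro x
    rw [hη]
    have h0 : Ideal.Quotient.mk q (z * x) = 0 :=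
      Ideal.Quotient.eq_zero_iff_mem.mpr (q.mul_mem_right _ hz)
    rw [h0, map_zero, map_zero]
    rfl
  · intro hz
    by_contra hzq
    apply hθ'
    have hz0 : Ideal.Quotient.mk q z ≠ 0 :=
      fun h => hzq (Ideal.Quotient.eq_zero_iff_mem.mp h)
    have hvan : ∀ e : B ⧸ q, θ' (Ideal.Quotient.mk q z * e) = 0 := by
      intro e
      obtain ⟨x, rfl⟩ := Ideal.Quotient.mk_surjective e
      have h1 : (z • η).toLinearMap x = 0 := by rw [hz]; rfl
      rw [hη] at h1
      have h2 : θ' (Ideal.Quotient.mk q (z * x)) = 0 := hιy (h1.trans (map_zero ιy).symm)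
      rwa [map_mul] at h2
    have hI : (Ideal.span {Ideal.Quotient.mk q z}).comap
        (algebraMap (A ⧸ q.under A) (B ⧸ q)) ≠ ⊥ := by
      intro h
      have h' := Ideal.eq_bot_of_comap_eq_bot h
      rw [Ideal.span_singleton_eq_bot] at h'
      exact hz0 h'
    obtain ⟨a, ha_mem, ha_ne⟩ := Submodule.exists_mem_ne_zero_of_ne_bot hI
    rw [Ideal.mem_comap, Ideal.mem_span_singleton'] at ha_mem
    obtain ⟨t, ht⟩ := ha_mem
    have h3 : a * θ' 1 = 0 := by
      have h4 : a • θ' 1 = θ' (a • (1 : B ⧸ q)) := (map_smul θ' a 1).symm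
      rw [smul_eq_mul] at h4
      rw [h4, Algebra.smul_def, mul_one, ← ht, mul_comm]
      exact hvan t
    exact (mul_eq_zero.mp h3).resolve_left ha_ne

theorem comap_mem_of_mem (q : Ideal B) (hq : q ∈ associatedPrimes B (Omega A B)) :
    q.IsPrime ∧ q.comap (algebraMap A B) ∈ associatedPrimes A A := by
  classical
  obtain ⟨hqp, η, hη⟩ := isAssociatedPrime_iff.mp hq
  refine ⟨hqp, ?_⟩
  haveI := hqp
  rw [AssociatedPrimes.mem_iff, isAssociatedPrime_iff]
  refine ⟨inferInstance, ?_⟩
  obtain ⟨T, hT⟩ := (Module.Finite.fg_top : (⊤ : Submodule A B).FG)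
  have key : ∀ a : A, a ∈ q.comap (algebraMap A B) ↔ ∀ t ∈ T, a * η.toLinearMap t = 0 := by
    intro a
    rw [Ideal.mem_comap, hη, Submodule.mem_colon_singleton, Submodule.mem_bot]
    have hsm : (algebraMap A B a • η).toLinearMap = a • η.toLinearMap := by
      apply LinearMap.ext
      intro x
      rw [Omega.smul_toLinearMap_apply, LinearMap.smul_apply, ← Algebra.smul_def, map_smul]
    constructor
    · intro h t _
      have h1 := LinearMap.congr_fun hsm t
      rw [h] at h1
      have h2 : (a • η.toLinearMap) t = 0 := h1.symm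
      simpa using h2
    · intro h
      apply Omega.ext
      rw [hsm]
      apply LinearMap.ext_on hT
      intro t ht
      show (a • η.toLinearMap) t = (0 : Omega A B).toLinearMap t
      rw [LinearMap.smul_apply, smul_eq_mul, h t ht]
      rfl
  have hle : ∀ t ∈ T, q.comap (algebraMap A B)
      ≤ (⊥ : Submodule A A).colon {η.toLinearMap t} := by
    intro t ht a ha
    rw [Submodule.mem_colon_singleton, Submodule.mem_bot, smul_eq_mul]
    exact (key a).mp ha t ht
  have hinf : T.inf (fun t => (⊥ : Submodule A A).colon {η.toLinearMap t})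
      ≤ q.comap (algebraMap A B) := by
    intro a ha
    rw [Submodule.mem_finsetInf] at ha
    apply (key a).mpr
    intro t ht
    have h1 := ha t ht
    rwa [Submodule.mem_colon_singleton, Submodule.mem_bot, smul_eq_mul] at h1
  obtain ⟨t, ht, htle⟩ :=
    (Ideal.IsPrime.inf_le' (inferInstance : (q.comap (algebraMap A B)).IsPrime)).mp hinf
  exact ⟨η.toLinearMap t, le_antisymm (hle t ht) htle⟩

end Helpers

/-- Special case: A -> B finite (the source allows quasi-finite maps). For a finite map of Noetherian
rings and omega = Hom_A(B, A) with its B-module structure through the argument, the associated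
primes of the B-module omega are exactly the primes of B whose contraction to A is an associated
prime of A. -/
theorem result {A : Type u} {B : Type v} [CommRing A] [CommRing B]
    [Algebra A B] [IsNoetherianRing A] [IsNoetherianRing B] [Module.Finite A B] :
    associatedPrimes B (Disc.Omega A B) =
      {q : Ideal B | q.IsPrime ∧ q.comap (algebraMap A B) ∈ associatedPrimes A A} := by
  ext q
  constructor
  · intro hq
    exact comap_mem_of_mem q hq
  · rintro ⟨hqp, hq⟩
    haveI := hqp
    exact mem_of_comap_mem q hq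

end Groth.Agent.S2218
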