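import Groth.Statements.S2219
import Mathlib

set_option autoImplicit false
universe u
open Disc

namespace Groth.Agent.S2219


namespace H2219
open Module

section tradd
variable {k M : Type*} [Field k] [AddCommGroup M] [Module k M] [FiniteDimensional k M]

theorem trace_eq_restrict_add_mapQ (W : Submodule k M) (f : M →ₗ[k] M)
    (hW : ∀ x ∈ W, f x ∈ W) :
    LinearMap.trace k M f = LinearMap.trace k W (f.restrict hW)
      + LinearMap.trace k (M ⧸ W) (W.mapQ W f (fun x hx => hW x hx)) := by
  classical
  obtain ⟨bW⟩ : Nonempty (Basis (Fin (finrank k W)) k W) := ⟨Module.finBasis k W⟩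
  obtain ⟨bQ⟩ : Nonempty (Basis (Fin (finrank k (M ⧸ W))) k (M ⧸ W)) :=
    ⟨Module.finBasis k (M ⧸ W)⟩
  rw [LinearMap.trace_eq_matrix_trace k (Module.Basis.sumQuot bW bQ) f,
    LinearMap.trace_eq_matrix_trace k bW, LinearMap.trace_eq_matrix_trace k bQ]
  simp only [Matrix.trace, Matrix.diag_apply, LinearMap.toMatrix_apply]
  rw [Fintype.sum_sum_type]
  congr 1
  · refine Finset.sum_congr rfl fun i _ => ?_
    rw [Module.Basis.sumQuot_inl,
      Module.Basis.sumQuot_repr_inl_of_mem bW bQ _ (hW _ (bW i).2)]
    rfl
  · refine Finset.sum_congr rfl fun j _ => ?_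
    rw [Module.Basis.sumQuot_repr_inr]
    have : W.mapQ W f (fun x hx => hW x hx) (bQ j)
        = W.mkQ (f (Module.Basis.sumQuot bW bQ (Sum.inr j))) := by
      rw [← Module.Basis.sumQuot_inr bW bQ j]
      rfl
    rw [this]

end tradd

section main
variable (k : Type*) {A : Type*} [Field k] [CommRing A] [Algebra k A]

/-- the k-linear endomorphism `a • ·` -/
noncomputable def sm (M : Type*) [AddCommGroup M] [Module A M] [Module k M]
    [IsScalarTower k A M] (a : A) : M →ₗ[k] M :=
  { toFun := fun x => a • x
    map_add' := smul_add a
    map_smul' := fun c x => by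
      simp only [RingHom.id_apply]
      exact smul_comm a c x }

omit [Algebra k A] in
theorem sm_apply (M : Type*) [AddCommGroup M] [Module A M] [Module k M] [Algebra k A]
    [IsScalarTower k A M] (a : A) (x : M) : sm k M a x = a • x := rfl

/-- identity equivalence between the two incarnations of a submodule -/
def eSub {M : Type*} [AddCommGroup M] [Module A M] [Module k M] [IsScalarTower k A M]
    (S : Submodule A M) : ↥(S.restrictScalars k) ≃ₗ[k] ↥S :=
  { toFun := fun x => ⟨x.1, x.2⟩
    map_add' := fun _ _ => rfl
    map_smul' := fun _ _ => rfl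
    invFun := fun x => ⟨x.1, x.2⟩
    left_inv := fun _ => rfl
    right_inv := fun _ => rfl }

variable [IsLocalRing A]

theorem trace_simple (M : Type*) [AddCommGroup M] [Module A M] [Module k M]
    [IsScalarTower k A M] [IsSimpleModule A M] (a : A) :
    LinearMap.trace k M (sm k M a)
      = Algebra.trace k (IsLocalRing.ResidueField A) (IsLocalRing.residue A a) := by
  obtain ⟨I, hI, ⟨e⟩⟩ := isSimpleModule_iff_quot_maximal.1 (inferInstance : IsSimpleModule A M)
  have hIm : I = IsLocalRing.maximalIdeal A := IsLocalRing.eq_maximalIdeal hI
  subst hIm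
  rw [← LinearMap.trace_conj' (sm k M a)
    (show M ≃ₗ[k] IsLocalRing.ResidueField A from e.restrictScalars k), Algebra.trace_apply]
  congr 1
  ext x
  rw [LinearEquiv.conj_apply_apply]
  show e (a • e.symm x) = _
  rw [map_smul, LinearEquiv.apply_symm_apply, Algebra.smul_def]
  rfl

theorem trace_formula [FiniteDimensional k A] :
    ∀ n : ℕ, ∀ (M : Type*) [AddCommGroup M] [Module A M] [Module k M] [IsScalarTower k A M]
      [FiniteDimensional k M], finrank k M = n →
      ∃ l : ℕ, (l : ℕ∞) = Module.length A M ∧ ∀ a : A, LinearMap.trace k M (sm k M a)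
        = l • Algebra.trace k (IsLocalRing.ResidueField A) (IsLocalRing.residue A a) := by
  intro n
  induction n using Nat.strong_induction_on with
  | _ n ih =>
    intro M _ _ _ _ _ hn
    by_cases hM : Subsingleton M
    · refine ⟨0, ?_, fun a => ?_⟩
      · rw [Module.length_eq_zero]; rfl
      · rw [zero_smul]
        have : sm k M a = 0 := by ext x; exact Subsingleton.elim _ _
        rw [this, map_zero]
    · rw [not_subsingleton_iff_nontrivial] at hM
      haveI : IsArtinian A M := isArtinian_of_tower k (inferInstance : IsArtinian k M)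
      obtain ⟨S, hS⟩ := IsAtomic.exists_atom (Submodule A M)
      haveI : IsSimpleModule A S := isSimpleModule_iff_isAtom.2 hS
      haveI : Nontrivial S := IsSimpleModule.nontrivial A S
      haveI : Module.Finite k S := Module.Finite.equiv (eSub k S)
      have hfr1 : finrank k (M ⧸ S.restrictScalars k) + finrank k (S.restrictScalars k)
          = finrank k M := Submodule.finrank_quotient_add_finrank (S.restrictScalars k)
      have hfr2 : finrank k (S.restrictScalars k) = finrank k S :=
        LinearEquiv.finrank_eq (eSub k S)
      have hfr3 : finrank k (M ⧸ S.restrictScalars k) = finrank k (M ⧸ S) :=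
        LinearEquiv.finrank_eq (Submodule.Quotient.restrictScalarsEquiv k S)
      have hpos : 0 < finrank k S := Module.finrank_pos
      have hlt : finrank k (M ⧸ S) < n := by omega
      obtain ⟨l, hl, hform⟩ := ih (finrank k (M ⧸ S)) hlt (M ⧸ S) rfl
      refine ⟨l + 1, ?_, fun a => ?_⟩
      · rw [Module.length_eq_add_of_exact S.subtype S.mkQ S.injective_subtype
          S.mkQ_surjective (LinearMap.exact_subtype_mkQ S), Module.length_eq_one, ← hl]
        push_cast
        rw [add_comm]
      · have hW : ∀ x ∈ S.restrictScalars k, sm k M a x ∈ S.restrictScalars k := by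
          intro x hx
          exact S.smul_mem a hx
        rw [trace_eq_restrict_add_mapQ (S.restrictScalars k) (sm k M a) hW]
        have h1 : LinearMap.trace k (S.restrictScalars k) ((sm k M a).restrict hW)
            = LinearMap.trace k S (sm k S a) := by
          rw [← LinearMap.trace_conj' _ (eSub k S)]
          congr 1
        have h2 : LinearMap.trace k (M ⧸ S.restrictScalars k)
              ((S.restrictScalars k).mapQ (S.restrictScalars k) (sm k M a)
                (fun x hx => hW x hx))
            = LinearMap.trace k (M ⧸ S) (sm k (M ⧸ S) a) := by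
          rw [← LinearMap.trace_conj' _ (Submodule.Quotient.restrictScalarsEquiv k S)]
          congr 1
          refine LinearMap.ext fun x => ?_
          obtain ⟨y, rfl⟩ := S.mkQ_surjective x
          rfl
        rw [h1, h2, trace_simple k S a, hform a, add_smul, one_smul, add_comm]

theorem main (k A : Type*) [Field k] [CommRing A] [Algebra k A] [FiniteDimensional k A]
    [IsLocalRing A] :
    Algebra.trace k A ≠ 0 ↔
      (Algebra.IsSeparable k (IsLocalRing.ResidueField A) ∧
        ∀ p : ℕ, p.Prime → CharP k p → ¬ p ∣ (Module.length A A).toNat) := by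
  obtain ⟨l, hl, hform⟩ := trace_formula k (A := A) (finrank k A) A rfl
  have hl' : (Module.length A A).toNat = l := by rw [← hl]; exact ENat.toNat_natCast l
  have hl0 : l ≠ 0 := by
    intro h
    rw [h] at hl
    have h0 : Module.length A A = 0 := hl.symm
    rw [Module.length_eq_zero_iff] at h0
    exact not_subsingleton A h0
  have hform' : ∀ a, Algebra.trace k A a
      = (l : k) * Algebra.trace k (IsLocalRing.ResidueField A) (IsLocalRing.residue A a) := by
    intro a
    rw [Algebra.trace_apply, ← nsmul_eq_mul, ← hform a]
    congr 1
  rw [hl']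
  constructor
  · intro h
    obtain ⟨a, ha⟩ : ∃ a, Algebra.trace k A a ≠ 0 := by
      by_contra hcon
      push Not at hcon
      exact h (LinearMap.ext hcon)
    rw [hform'] at ha
    have h1 : (l : k) ≠ 0 := left_ne_zero_of_mul ha
    have h2 : Algebra.trace k (IsLocalRing.ResidueField A) (IsLocalRing.residue A a) ≠ 0 :=
      right_ne_zero_of_mul ha
    refine ⟨?_, fun p hp hchar hdvd => ?_⟩
    · by_contra hsep
      apply h2
      rw [Algebra.trace_eq_zero_of_not_isSeparable hsep]
      rfl
    · exact h1 ((CharP.cast_eq_zero_iff k p l).2 hdvd)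
  · rintro ⟨hsep, hchar⟩
    have hne := Algebra.trace_ne_zero k (IsLocalRing.ResidueField A)
    obtain ⟨x, hx⟩ : ∃ x, Algebra.trace k (IsLocalRing.ResidueField A) x ≠ 0 := by
      by_contra hcon
      push Not at hcon
      exact hne (LinearMap.ext hcon)
    obtain ⟨a, rfl⟩ := Ideal.Quotient.mk_surjective x
    have h1 : (l : k) ≠ 0 := by
      obtain ⟨p, hp⟩ := CharP.exists k
      rcases CharP.char_is_prime_or_zero k p with hpp | hp0
      · intro h0
        exact hchar p hpp hp ((CharP.cast_eq_zero_iff k p l).1 h0)
      · subst hp0
        haveI := CharP.charP_to_charZero k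
        exact Nat.cast_ne_zero.2 hl0
    intro h
    have := hform' a
    rw [h] at this
    exact mul_ne_zero h1 hx this.symm

end main

end H2219

/-- Equivalence of (1) and (3): let k be a field and A a finite-dimensional local k-algebra with residue
field k'. Then the trace map Tr_{A/k} is not identically zero if and only if k' is separable over k
and the length of A as a module over itself is not divisible by the characteristic of k (no
condition in characteristic zero). -/
theorem result (k A : Type u) [Field k] [CommRing A]
    [Algebra k A] [FiniteDimensional k A] [IsLocalRing A] :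
    Algebra.trace k A ≠ 0 ↔
      (Algebra.IsSeparable k (IsLocalRing.ResidueField A) ∧
        ∀ p : ℕ, p.Prime → CharP k p → ¬ p ∣ (Module.length A A).toNat) := by
  exact H2219.main k A

end Groth.Agent.S2219
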