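import Groth.Statements.S2225
import Mathlib
import Groth.Agent.Lib.Helper14.StalkTensor
import Groth.Agent.Lib.Helper4.GorRing
import Groth.Agent.Lib.Helper3.Reduced
import Groth.Agent.S0342
set_option linter.style.haveILetI false

set_option autoImplicit false
universe u
open CategoryTheory AlgebraicGeometry
open Models

namespace Groth.Agent.S2225

/-- Part (1), for the closed fibre: let R be a discrete valuation ring with fraction field K, C a smooth
proper curve over K and X a regular model of C over R (flat, of finite type, all local rings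
regular). Then every local ring of the special fibre X_k is a Gorenstein local ring; together with
flatness and regularity of the generic fibre this says X -> Spec R is a Gorenstein morphism. -/
theorem result (R : Type u) [CommRing R] [IsDomain R]
    [IsDiscreteValuationRing R] (C X : Scheme.{u})
    (f : C ⟶ Spec (CommRingCat.of (FractionRing R))) (p : X ⟶ Spec (CommRingCat.of R))
    (hC : Curve.IsSmoothProperCurve (FractionRing R) C f) (hX : Models.IsModel R X p C f)
    (hreg : Models.IsRegularScheme X) (x : ↥(Models.specialFibre R X p)) :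
    LocCoh.IsGorensteinLocalRing ((Models.specialFibre R X p).presheaf.stalk x) := by
  obtain ⟨hflat, -, -, -⟩ := hX
  set qk := Spec.map (CommRingCat.ofHom (algebraMap R (IsLocalRing.ResidueField R))) with hqk
  change LocCoh.IsGorensteinLocalRing ((Limits.pullback p qk).presheaf.stalk x)
  have hxx : ∃ x' : X, (Limits.pullback.fst p qk) x = x' := ⟨_, rfl⟩
  obtain ⟨x', hx'⟩ := hxx
  letI := Groth.Agent.Lib.Helper14.StalkTensor.stalkAlgA p x'
  have hc := Groth.Agent.Lib.Helper14.StalkTensor.stalkAlgA_compat p x'
  obtain ⟨Q, hQ, -, ⟨e⟩⟩ := Groth.Agent.Lib.Helper14.StalkTensor.exists_prime_stalk_equiv p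
    (IsLocalRing.ResidueField R) x' hc x hx'
  haveI hregO : IsRegularLocalRing (X.presheaf.stalk x') := hreg x'
  haveI : Module.Flat R (X.presheaf.stalk x') := by
    have h1 : Flat (X.fromSpecStalk x') := Groth.Agent.Lib.Helper3.flat_fromSpecStalk X x'
    have h2 : Flat (X.fromSpecStalk x' ≫ p) := MorphismProperty.comp_mem _ _ _ h1 hflat
    rw [hc, Flat.SpecMap_iff] at h2
    exact RingHom.flat_algebraMap_iff.mp h2
  have hG : LocCoh.IsGorensteinRing (X.presheaf.stalk x') :=
    Groth.Agent.Lib.Helper4.GorRing.gorRing_of_gor _ (Groth.Agent.S0342.result _)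
  have hF : LocCoh.IsGorensteinRing
      ((IsLocalRing.maximalIdeal R).Fiber (X.presheaf.stalk x')) :=
    Groth.Agent.Lib.Helper4.GorRing.gorRing_fiber_of_flat R _ hG (IsLocalRing.maximalIdeal R)
  let e0 : (R ⧸ IsLocalRing.maximalIdeal R) ≃ₐ[R] (IsLocalRing.maximalIdeal R).ResidueField :=
    AlgEquiv.ofBijective (IsScalarTower.toAlgHom R (R ⧸ IsLocalRing.maximalIdeal R)
      (IsLocalRing.maximalIdeal R).ResidueField)
      (Ideal.bijective_algebraMap_quotient_residueField _)
  let e2 : (TensorProduct R (IsLocalRing.maximalIdeal R).ResidueField (X.presheaf.stalk x')) ≃+*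
      (TensorProduct R (X.presheaf.stalk x') (R ⧸ IsLocalRing.maximalIdeal R)) :=
    (Algebra.TensorProduct.comm R _ _).toRingEquiv.trans
      (Algebra.TensorProduct.congr (AlgEquiv.refl : (X.presheaf.stalk x') ≃ₐ[R] _)
        e0.symm).toRingEquiv
  have hT : LocCoh.IsGorensteinRing
      (TensorProduct R (X.presheaf.stalk x') (IsLocalRing.ResidueField R)) :=
    Groth.Agent.Lib.Helper4.GorRing.gorRing_of_ringEquiv e2 hF
  have hL := hT.isGorensteinLocalRing_localization Q
  exact Groth.Agent.Lib.Helper4.GorFlat.gor_of_ringEquiv e.symm hL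

end Groth.Agent.S2225
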