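import Groth.Statements.S2229
import Mathlib

set_option autoImplicit false
universe u
open Disc
open TensorProduct

namespace Groth.Agent.S2229

section Helpers

variable {A B : Type u} [CommRing A] [CommRing B] [Algebra A B]

/-- Gram matrix of a functional with respect to a basis. -/
noncomputable def gram {ι : Type} (b : Module.Basis ι A B) (φ : B →ₗ[A] A) : Matrix ι ι A :=
  Matrix.of fun i j => φ (b i * b j)

theorem gram_mul {ι : Type} [Fintype ι] [DecidableEq ι] (b : Module.Basis ι A B)
    (φ : B →ₗ[A] A) (x : B) :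
    gram b φ * Algebra.leftMulMatrix b x = Matrix.of fun i j => φ (b i * (x * b j)) := by
  ext i j
  simp only [Matrix.mul_apply, gram, Matrix.of_apply, Algebra.leftMulMatrix_eq_repr_mul]
  conv_rhs => rw [← b.sum_repr (x * b j)]
  rw [Finset.mul_sum, map_sum]
  refine Finset.sum_congr rfl fun k _ => ?_
  rw [mul_smul_comm, map_smul, smul_eq_mul]
  exact mul_comm _ _

theorem lam_comm {M : Type*} [AddCommGroup M] [Module B M] [Module.Invertible B M]
    (lam : M →ₗ[B] B) (x y : M) : lam x • y = lam y • x := by
  have h := congrArg ((TensorProduct.lid B M).toLinearMap ∘ₗ lam.rTensor M)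
    (Module.Invertible.tmul_comm (R := B) (m₁ := x) (m₂ := y))
  simpa using h

theorem repr_mem {ι : Type} (b : Module.Basis ι A B) (m : Ideal A) {y : B}
    (hy : y ∈ m.map (algebraMap A B)) (i : ι) : b.repr y i ∈ m := by
  have hy' : y ∈ (m • (⊤ : Submodule A B)) := by
    rw [Ideal.smul_top_eq_map]; exact hy
  refine Submodule.smul_induction_on hy' (fun r hr n _ => ?_) (fun x z hx hz => ?_)
  · rw [map_smul, Finsupp.smul_apply, smul_eq_mul]; exact m.mul_mem_right _ hr
  · rw [map_add, Finsupp.add_apply]; exact m.add_mem hx hz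

theorem norm_sub_one_mem {ι : Type} [Fintype ι] [DecidableEq ι] (b : Module.Basis ι A B)
    (m : Ideal A) {u : B} (hu : u - 1 ∈ m.map (algebraMap A B)) :
    Algebra.norm A u - 1 ∈ m := by
  have hmat : (Ideal.Quotient.mk m).mapMatrix (Algebra.leftMulMatrix b u) = 1 := by
    ext i j
    rw [RingHom.mapMatrix_apply, Matrix.map_apply, Algebra.leftMulMatrix_eq_repr_mul]
    have h1 : u * b j = b j + (u - 1) * b j := by ring
    have h2 : b.repr ((u - 1) * b j) i ∈ m := repr_mem b m (Ideal.mul_mem_right _ _ hu) i
    have h3 : Ideal.Quotient.mk m (b.repr (u * b j) i)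
        = Ideal.Quotient.mk m (b.repr (b j) i) := by
      rw [h1, map_add, Finsupp.add_apply, map_add, Ideal.Quotient.eq_zero_iff_mem.mpr h2,
        add_zero]
    rw [h3, Module.Basis.repr_self, Finsupp.single_apply, Matrix.one_apply]
    by_cases h : i = j
    · subst h; simp
    · rw [if_neg h, if_neg (Ne.symm h), map_zero]
  rw [← Ideal.Quotient.eq_zero_iff_mem, map_sub, map_one, sub_eq_zero,
    Algebra.norm_eq_matrix_det b, RingHom.map_det, hmat, Matrix.det_one]

theorem exists_unit_mod {ι : Type} [Fintype ι] [DecidableEq ι] [IsNoetherianRing A]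
    (b : Module.Basis ι A B) [Module.Invertible B (Omega A B)] (m : Ideal A) [m.IsMaximal] :
    ∃ (lam : Omega A B →ₗ[B] B) (w : Omega A B),
      lam w - 1 ∈ m.map (algebraMap A B) := by
  classical
  haveI : Module.Finite A B := Module.Finite.of_basis b
  letI : Field (A ⧸ m) := Ideal.Quotient.field m
  haveI : IsNoetherian A B := isNoetherian_of_isNoetherianRing_of_finite A B
  haveI : IsNoetherian (A ⧸ m) (B ⧸ m.map (algebraMap A B)) := inferInstance
  haveI : Module.Finite (A ⧸ m) (B ⧸ m.map (algebraMap A B)) := inferInstance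
  haveI : IsArtinianRing (B ⧸ m.map (algebraMap A B)) :=
    IsArtinianRing.of_finite (A ⧸ m) (B ⧸ m.map (algebraMap A B))
  haveI hfree : Module.Free (B ⧸ m.map (algebraMap A B))
      ((B ⧸ m.map (algebraMap A B)) ⊗[B] Omega A B) := inferInstance
  obtain ⟨e⟩ := Module.Invertible.free_iff_linearEquiv.mp hfree
  have hsurj : ∀ z : (B ⧸ m.map (algebraMap A B)) ⊗[B] Omega A B,
      ∃ η : Omega A B, z = (1 : B ⧸ m.map (algebraMap A B)) ⊗ₜ[B] η := by
    intro z
    induction z using TensorProduct.induction_on with
    | zero => exact ⟨0, by simp⟩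
    | tmul c η =>
      obtain ⟨c', rfl⟩ := Ideal.Quotient.mk_surjective c
      refine ⟨c' • η, ?_⟩
      rw [← TensorProduct.smul_tmul, Algebra.smul_def, mul_one]
      rfl
    | add x y hx hy =>
      obtain ⟨η₁, rfl⟩ := hx
      obtain ⟨η₂, rfl⟩ := hy
      exact ⟨η₁ + η₂, (TensorProduct.tmul_add _ _ _).symm⟩
  obtain ⟨w, hw⟩ := hsurj (e.symm 1)
  let g : Omega A B →ₗ[B] B ⧸ m.map (algebraMap A B) :=
    (e.toLinearMap.restrictScalars B) ∘ₗ
      (TensorProduct.mk B (B ⧸ m.map (algebraMap A B)) (Omega A B) 1)
  obtain ⟨lam, hlam⟩ := Module.projective_lifting_property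
    ((Ideal.Quotient.mkₐ B (m.map (algebraMap A B))).toLinearMap) g
    (Ideal.Quotient.mkₐ_surjective B (m.map (algebraMap A B)))
  refine ⟨lam, w, ?_⟩
  rw [← Ideal.Quotient.eq_zero_iff_mem, map_sub, map_one, sub_eq_zero]
  have h1 := LinearMap.congr_fun hlam w
  have h2 : Ideal.Quotient.mk (m.map (algebraMap A B)) (lam w)
      = e ((1 : B ⧸ m.map (algebraMap A B)) ⊗ₜ[B] w) := h1
  rw [h2, ← hw, LinearEquiv.apply_symm_apply]

theorem norm_mem {ι : Type} [Fintype ι] [DecidableEq ι] (b : Module.Basis ι A B) (x : B)
    (hx : x ∈ Disc.differentSet A B) :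
    Algebra.norm A x ∈ Ideal.span {Algebra.discr A b} := by
  classical
  have hx' : ∀ φ : B →ₗ[A] A, ∃ c : B, ∀ y : B,
      φ (x * y) = Algebra.trace A B (c * y) := hx
  choose c hc using fun i => hx' (b.coord i)
  let C : Matrix ι ι A := Matrix.of fun i k => b.repr (c i) k
  have hmat : Algebra.leftMulMatrix b x = C * Algebra.traceMatrix A b := by
    ext i j
    rw [Algebra.leftMulMatrix_eq_repr_mul, Matrix.mul_apply]
    have h1 : b.repr (x * b j) i = Algebra.trace A B (c i * b j) := by
      have := hc i (b j)
      simpa [Module.Basis.coord_apply] using this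
    rw [h1]
    conv_lhs => rw [← b.sum_repr (c i)]
    rw [Finset.sum_mul, map_sum]
    refine Finset.sum_congr rfl fun k _ => ?_
    simp only [C, Matrix.of_apply, Algebra.traceMatrix_apply, Algebra.traceForm_apply]
    rw [smul_mul_assoc, map_smul, smul_eq_mul]
  rw [Algebra.norm_eq_matrix_det b, hmat, Matrix.det_mul, ← Algebra.discr_def]
  exact Ideal.mul_mem_left _ _ (Ideal.mem_span_singleton_self _)

theorem discr_mem {ι : Type} [Fintype ι] [DecidableEq ι] [IsNoetherianRing A]
    (b : Module.Basis ι A B) [Module.Invertible B (Omega A B)] :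
    Algebra.discr A b ∈ Ideal.span (Algebra.norm A '' Disc.differentSet A B) := by
  classical
  haveI : Module.Finite A B := Module.Finite.of_basis b
  haveI : Module.Free A B := Module.Free.of_basis b
  by_contra hnot
  let K : Ideal A := Submodule.comap (LinearMap.mulRight A (Algebra.discr A b))
    (Ideal.span (Algebra.norm A '' Disc.differentSet A B))
  have hK : K ≠ ⊤ := by
    intro h
    apply hnot
    have h1 : (1 : A) ∈ K := h ▸ Submodule.mem_top
    have h2 : (1 : A) * Algebra.discr A b
        ∈ Ideal.span (Algebra.norm A '' Disc.differentSet A B) := h1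
    rwa [one_mul] at h2
  obtain ⟨m, hm, hKm⟩ := Ideal.exists_le_maximal K hK
  haveI := hm
  obtain ⟨lam, w, hu⟩ := exists_unit_mod b m
  have hdD : lam (Omega.trace A B) ∈ Disc.differentSet A B := by
    show ∀ φ : B →ₗ[A] A, ∃ c : B, ∀ x : B,
      φ (lam (Omega.trace A B) * x) = Algebra.trace A B (c * x)
    intro φ
    refine ⟨lam ⟨φ⟩, fun x => ?_⟩
    have h := lam_comm lam (Omega.trace A B) (⟨φ⟩ : Omega A B)
    have h' : (lam (Omega.trace A B) • (⟨φ⟩ : Omega A B)).toLinearMap x
        = (lam ⟨φ⟩ • Omega.trace A B).toLinearMap x := by rw [h]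
    exact h'
  have hkey : ∀ x : B, Algebra.trace A B (lam w * x)
      = w.toLinearMap (lam (Omega.trace A B) * x) := by
    intro x
    have h := lam_comm lam w (Omega.trace A B)
    have h' : (lam w • Omega.trace A B).toLinearMap x
        = (lam (Omega.trace A B) • w).toLinearMap x := by rw [h]
    exact h'
  have hmat : gram b (Algebra.trace A B) * Algebra.leftMulMatrix b (lam w)
      = gram b w.toLinearMap * Algebra.leftMulMatrix b (lam (Omega.trace A B)) := by
    rw [gram_mul, gram_mul]
    ext i j
    simp only [Matrix.of_apply]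
    rw [show b i * (lam w * b j) = lam w * (b i * b j) by ring,
      show b i * (lam (Omega.trace A B) * b j)
        = lam (Omega.trace A B) * (b i * b j) by ring]
    exact hkey _
  have hdet := congrArg Matrix.det hmat
  rw [Matrix.det_mul, Matrix.det_mul, ← Algebra.norm_eq_matrix_det b,
    ← Algebra.norm_eq_matrix_det b] at hdet
  have hgram : gram b (Algebra.trace A B) = Algebra.traceMatrix A b := by
    ext i j
    simp [gram, Algebra.traceMatrix_apply, Algebra.traceForm_apply]
  rw [hgram, ← Algebra.discr_def] at hdet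
  have hNu : Algebra.norm A (lam w) ∈ K := by
    show Algebra.norm A (lam w) * Algebra.discr A b
      ∈ Ideal.span (Algebra.norm A '' Disc.differentSet A B)
    rw [mul_comm, hdet]
    exact Ideal.mul_mem_left _ _ (Ideal.subset_span ⟨_, hdD, rfl⟩)
  have h1 : Algebra.norm A (lam w) - 1 ∈ m := norm_sub_one_mem b m hu
  have h2 : Algebra.norm A (lam w) ∈ m := hKm hNu
  have h3 : (1 : A) ∈ m := by
    have := m.sub_mem h2 h1
    simpa using this
  exact hm.ne_top ((Ideal.eq_top_iff_one m).mpr h3)

end Helpers

/-- Part (2), special case: affine with B finite free over the Noetherian ring A (basis b) and omega =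
Hom_A(B, A) an invertible B-module. Then the ideal of A generated by the norms of all elements of
the different of B over A equals the ideal generated by the discriminant of the basis b (the norm of
the ramification locus is the discriminant). -/
theorem result {A B : Type u} [CommRing A] [CommRing B]
    [Algebra A B] [IsNoetherianRing A] {ι : Type} [Fintype ι] [DecidableEq ι]
    (b : Module.Basis ι A B) [Module.Invertible B (Disc.Omega A B)] :
    Ideal.span (Algebra.norm A '' Disc.differentSet A B) = Ideal.span {Algebra.discr A b} := by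
  apply le_antisymm
  · rw [Ideal.span_le]
    rintro _ ⟨x, hx, rfl⟩
    exact norm_mem b x hx
  · rw [Ideal.span_le, Set.singleton_subset_iff]
    exact discr_mem b

end Groth.Agent.S2229
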