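import Groth.Statements.S7072
import Groth.Agent.Lib.Helper19.NLHtpy
import Groth.Agent.Lib.Helper19.KRegCot

set_option autoImplicit false
universe u
attribute [local instance] HasDerivedCategory.standard
open LCI

namespace Groth.Agent.S7072

/-- For a local complete intersection homomorphism of commutative rings A → B, the naive cotangent
complex NL_{B/A} is a perfect object of D(B) and has tor amplitude in [-1, 0]. -/
theorem result {A B : Type u} [CommRing A] [CommRing B] [Algebra A B]
    (h : LCI.IsLCI A B) :
    DRing.IsPerfect B (LCI.NL A B) ∧ DRing.HasTorAmplitudeIn B (-1) 0 (LCI.NL A B) := by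
  obtain ⟨-, n, α, hα, hKα⟩ := h
  let G : Algebra.Generators A B (Fin n) := Algebra.Generators.ofAlgHom α hα
  have hGα : (MvPolynomial.aeval (R := A) G.val : MvPolynomial (Fin n) A →ₐ[A] B) = α := by
    apply MvPolynomial.algHom_ext
    intro i
    rw [MvPolynomial.aeval_X]; rfl
  have hkG : LCI.IsKoszulRegularIdeal G.toExtension.ker := by
    have h0 : G.toExtension.ker = RingHom.ker α.toRingHom := by
      ext x
      show algebraMap G.Ring B x = 0 ↔ α x = 0
      rw [Algebra.Generators.algebraMap_apply, hGα]
    rw [h0]; exact hKα
  obtain ⟨hfin, hproj⟩ :=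
    Groth.Agent.Lib.Helper19.KRegCot.extension_cotangent_finite_projective G.toExtension hkG
  let E : DRing.Cx B := NLCx.cx G.toExtension
  have hvan : DRing.VanishesOutside E (-1) 0 := by
    intro i hi
    exact HomologicalComplex.isZero_double_X _ _ i (by omega) (by omega)
  have hterm : DRing.TermwiseFiniteProjective E := by
    intro i
    by_cases hi : i = -1
    · subst hi
      let e := (HomologicalComplex.doubleXIso₀ (ModuleCat.ofHom G.toExtension.cotangentComplex)
        Groth.Agent.Lib.Helper19.DoubleHtpy.rel).toLinearEquiv
      exact ⟨Module.Finite.equiv e.symm, Module.Projective.of_equiv e.symm⟩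
    · by_cases hi0 : i = 0
      · subst hi0
        let e := (HomologicalComplex.doubleXIso₁
          (ModuleCat.ofHom G.toExtension.cotangentComplex)
          Groth.Agent.Lib.Helper19.DoubleHtpy.rel
          Groth.Agent.Lib.Helper19.DoubleHtpy.ne).toLinearEquiv
        haveI : Module.Free B G.toExtension.CotangentSpace :=
          Module.Free.of_basis G.cotangentSpaceBasis
        haveI : Module.Finite B G.toExtension.CotangentSpace :=
          Module.Finite.of_basis G.cotangentSpaceBasis
        exact ⟨Module.Finite.equiv e.symm, Module.Projective.of_equiv e.symm⟩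
      · have hz := HomologicalComplex.isZero_double_X
          (ModuleCat.ofHom G.toExtension.cotangentComplex)
          Groth.Agent.Lib.Helper19.DoubleHtpy.rel i hi hi0
        haveI : Subsingleton (E.X i) := ModuleCat.subsingleton_of_isZero hz
        exact ⟨inferInstance, inferInstance⟩
  have hiso : Nonempty (DRing.toD E ≅ LCI.NL A B) := by
    let u := (G.defaultHom (Algebra.Generators.self A B)).toExtensionHom
    let u' := ((Algebra.Generators.self A B).defaultHom G).toExtensionHom
    let he := Groth.Agent.Lib.Helper19.NLHtpy.homotopyEquiv u u'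
    haveI : QuasiIso he.hom := he.quasiIso_hom
    haveI : CategoryTheory.IsIso (DerivedCategory.Q.map he.hom) := inferInstance
    let i := CategoryTheory.asIso (DerivedCategory.Q.map he.hom)
    exact ⟨i⟩
  refine ⟨⟨E, -1, 0, hvan, hterm, hiso⟩, ⟨E, hvan, fun i => ?_, hiso⟩⟩
  haveI := (hterm i).2
  infer_instance

end Groth.Agent.S7072
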