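import Groth.Statements.S2326
import Groth.Agent.Lib.Helper3.SubIdeal

set_option autoImplicit false
universe u
open CategoryTheory CategoryTheory.Limits AlgebraicGeometry
open EGA2

namespace Groth.Agent.S2326

open Groth.Agent.Lib.Helper3 QAffCrit CounitGG IdealMod IdealAmple SubIdeal in

/-- Let X be a quasi-compact separated scheme (the source also allows a prescheme with Noetherian
underlying space) and L an invertible module. Suppose that for every quasi-coherent ideal sheaf I of
finite type there are n > 0 and k > 0 with I ⊗ L^{⊗n} a quotient of O_X^k. Then L is ample. -/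
theorem result (X : Scheme.{u}) [CompactSpace X] [X.IsSeparated] (L : X.Modules) (hL : PicF.IsInvertible L)
    (h : ∀ I : X.IdealSheafData, BlowUp.IsFiniteTypeIdeal I →
      ∃ (n k : ℕ) (p : FlatMod.freeMod X k ⟶ CohB1.tensorMod (ClSub.idealMod I) (CohB1.tensorPow L (n + 1))), 0 < k ∧ Epi p) :
    CohB1.IsAmple L := by
  apply isAmple_of_ideal_twists hL
  intro U hU
  obtain ⟨J, j, hmono, hqc, hft, ⟨e, he⟩, hdisj⟩ := exists_finiteType_ideal hU
  haveI : J.IsQuasicoherent := hqc
  haveI : J.IsFiniteType := hft
  obtain ⟨n, k, p, hk, hp⟩ := h (idealOfSub j) (isFiniteTypeIdeal_idealOfSub j)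
  have hsuppU : Disjoint (U : Set X) ((idealOfSub j).support : Set X) :=
    Set.disjoint_left.mpr (fun x hx => notMem_support_idealOfSub j hU e he hx)
  obtain ⟨e', he'⟩ := exists_val_eq_one (idealOfSub j) hsuppU
  refine ⟨ClSub.idealMod (idealOfSub j), ClSub.idealModι (idealOfSub j), inferInstance,
    ⟨e', he'⟩, ?_, n, ?_⟩
  · intro W' σ
    exact (disjoint_basicOpen_val (idealOfSub j) σ).mono_right
      (fun y hy => mem_support_idealOfSub j hdisj hy)
  · haveI := hp
    exact isGloballyGenerated_of_epi_sigma p

end Groth.Agent.S2326
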