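import Groth.Statements.S2332
import Groth.Agent.Lib.Helper3.PbAmple

set_option autoImplicit false
universe u
open CategoryTheory CategoryTheory.Limits AlgebraicGeometry
open EGA2

namespace Groth.Agent.S2332

theorem isAffineOpen_pullback_inf2332 {X Y Z : Scheme.{u}} {f : X ⟶ Z} {g : Y ⟶ Z}
    {U : X.Opens} (hU : IsAffineOpen U) {V : Y.Opens} (hV : IsAffineOpen V)
    {W : Z.Opens} (hW : IsAffineOpen W) (hUW : U ≤ f ⁻¹ᵁ W) (hVW : V ≤ g ⁻¹ᵁ W) :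
    IsAffineOpen (pullback.fst f g ⁻¹ᵁ U ⊓ pullback.snd f g ⁻¹ᵁ V) := by
  have : IsAffine U.toScheme := hU
  have : IsAffine W.toScheme := hW
  have : IsAffine V.toScheme := hV
  let f' : U.toScheme ⟶ W := f.resLE _ _ hUW
  let q : V.toScheme ⟶ W := g.resLE _ _ hVW
  let p : pullback f' q ⟶ pullback f g :=
    pullback.map _ _ _ _ U.ι V.ι W.ι (by simp [f']) (by simp [q])
  have h1 : IsAffineOpen p.opensRange := isAffineOpen_opensRange p
  have h2 : p.opensRange = pullback.fst f g ⁻¹ᵁ U ⊓ pullback.snd f g ⁻¹ᵁ V := by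
    apply TopologicalSpace.Opens.ext
    simp [p, Scheme.Pullback.range_map]
  rwa [h2] at h1

open Scheme.Modules in
/-- pullback along a commutative square with open immersions as vertical maps -/
noncomputable def pbSquare2332 {X' X W' U' : Scheme.{u}} (F : X' ⟶ X) (a : W' ⟶ X') (b : U' ⟶ X)
    [IsOpenImmersion a] [IsOpenImmersion b] (q : W' ⟶ U') (h : a ≫ F = q ≫ b) (M : X.Modules) :
    ((Scheme.Modules.pullback F).obj M).restrict a ≅
      (Scheme.Modules.pullback q).obj (M.restrict b) :=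
  (restrictFunctorIsoPullback a).app _ ≪≫ (pullbackComp a F).app M ≪≫
    (pullbackCongr h).app M ≪≫ ((pullbackComp q b).app M).symm ≪≫
    (Scheme.Modules.pullback q).mapIso ((restrictFunctorIsoPullback b).app M).symm

open Groth.Agent.Lib.Helper3 PbBasic PbAmple RelAmpleLib InvAmple in
theorem claim2332 {X Y Y' : Scheme.{u}} (f : X ⟶ Y) [QuasiCompact f] (g : Y' ⟶ Y) (L : X.Modules)
    (hL : RelAmple.IsRelAmple f L) (V : Y.Opens) (hV : IsAffineOpen V) (V'' : Y'.Opens)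
    (hV'' : IsAffineOpen V'') (hle : V'' ≤ g ⁻¹ᵁ V) :
    CohB1.IsAmple (((Scheme.Modules.pullback (pullback.fst f g)).obj L).restrict
      ((pullback.snd f g) ⁻¹ᵁ V'').ι) := by
  have hWU : (pullback.snd f g) ⁻¹ᵁ V'' ≤ (pullback.fst f g) ⁻¹ᵁ (f ⁻¹ᵁ V) := by
    intro w hw
    change f (pullback.fst f g w) ∈ V
    rw [← Scheme.Hom.comp_apply, pullback.condition, Scheme.Hom.comp_apply]
    exact hle hw
  obtain ⟨q, hq⟩ : ∃ q : ((pullback.snd f g) ⁻¹ᵁ V'' : (pullback f g).Opens).toScheme ⟶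
      (f ⁻¹ᵁ V : X.Opens).toScheme,
      q = (pullback.fst f g).resLE (f ⁻¹ᵁ V) ((pullback.snd f g) ⁻¹ᵁ V'') hWU := ⟨_, rfl⟩
  have hqι : ((pullback.snd f g) ⁻¹ᵁ V'').ι ≫ pullback.fst f g = q ≫ (f ⁻¹ᵁ V).ι := by
    rw [hq, Scheme.Hom.resLE_comp_ι]
  apply isAmple_of_iso (pbSquare2332 (pullback.fst f g) ((pullback.snd f g) ⁻¹ᵁ V'').ι
    (f ⁻¹ᵁ V).ι q hqι L).symm
  haveI := compactSpace_preimage (pullback.snd f g) V'' hV''
  have hA := hL.2 ⟨V, hV⟩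
  have hinv := isInvertible_pullback q hA.1
  apply isAmple_of_secLocus hinv
  intro w
  obtain ⟨A, hAsec, hxA, hAaff⟩ := exists_secLocus_of_isAmple hA (q w)
  refine ⟨q ⁻¹ᵁ A, secLocus_pullback q hA.1 hAsec, hxA, ?_⟩
  rw [← ((pullback.snd f g) ⁻¹ᵁ V'').ι.isAffineOpen_iff_of_isOpenImmersion]
  have hpt : ∀ w' : ((pullback.snd f g) ⁻¹ᵁ V'' : (pullback f g).Opens).toScheme,
      (f ⁻¹ᵁ V).ι (q w') = pullback.fst f g (((pullback.snd f g) ⁻¹ᵁ V'').ι w') := by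
    intro w'
    rw [← Scheme.Hom.comp_apply, ← hqι, Scheme.Hom.comp_apply]
  have heq : ((pullback.snd f g) ⁻¹ᵁ V'').ι ''ᵁ (q ⁻¹ᵁ A) =
      pullback.fst f g ⁻¹ᵁ ((f ⁻¹ᵁ V).ι ''ᵁ A) ⊓ pullback.snd f g ⁻¹ᵁ V'' := by
    ext z
    constructor
    · rintro ⟨w', hw', rfl⟩
      exact ⟨⟨q w', hw', hpt w'⟩, w'.2⟩
    · rintro ⟨⟨a, ha, haz⟩, hz⟩
      refine ⟨⟨z, hz⟩, ?_, rfl⟩
      have h1 : (f ⁻¹ᵁ V).ι (q ⟨z, hz⟩) = (f ⁻¹ᵁ V).ι a := (hpt ⟨z, hz⟩).trans haz.symm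
      have h2 : q ⟨z, hz⟩ = a := (f ⁻¹ᵁ V).ι.isOpenEmbedding.injective h1
      change q ⟨z, hz⟩ ∈ A
      rw [h2]
      exact ha
  rw [heq]
  exact isAffineOpen_pullback_inf2332 (hAaff.image_of_isOpenImmersion (f ⁻¹ᵁ V).ι) hV'' hV
    ((f ⁻¹ᵁ V).ι_image_le A) hle

open Groth.Agent.Lib.Helper3 PbBasic PbAmple RelAmpleLib InvAmple in

/-- Let f : X → Y be quasi-compact, g : Y' → Y any morphism, and L an O_X-module ample relative to f.
Then the pullback of L to X ×_Y Y' is ample relative to the base-changed morphism X ×_Y Y' → Y'. -/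
theorem result {X Y Y' : Scheme.{u}} (f : X ⟶ Y) [QuasiCompact f] (g : Y' ⟶ Y) (L : X.Modules)
    (hL : RelAmple.IsRelAmple f L) :
    RelAmple.IsRelAmple (pullback.snd f g) ((Scheme.Modules.pullback (pullback.fst f g)).obj L) := by
  refine ⟨inferInstance, fun V' => ?_⟩
  apply isAmple_restrict_preimage_of_basicOpen_cover (pullback.snd f g) _ V'.1 V'.2
  intro y' hy'
  obtain ⟨V, hV, hyV⟩ := QCProps.exists_affine_nbhd (g y')
  obtain ⟨h, hhle, hyh⟩ := V'.2.exists_basicOpen_le (V := g ⁻¹ᵁ V ⊓ V'.1) ⟨y', ⟨hyV, hy'⟩⟩ hy'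
  exact ⟨h, hyh, claim2332 f g L hL V hV _ (V'.2.basicOpen h) (hhle.trans inf_le_left)⟩

end Groth.Agent.S2332
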