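import Groth.Statements.S2334
import Groth.Agent.S4450
import Mathlib

set_option autoImplicit false
universe u
open CategoryTheory CategoryTheory.Limits AlgebraicGeometry
open EGA2

namespace Groth.Agent.S2334

/-- Locally Noetherian case of the valuative criterion of separatedness: let Y be a locally Noetherian
scheme and f : X → Y locally of finite type. Then f is separated if and only if for every discrete
valuation ring A with fraction field K, any two morphisms Spec A → X with the same composite to Y
which agree on Spec K are equal. (In the general criterion the diagonal must be assumed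
quasi-compact; that is automatic here.) -/
theorem result {X Y : Scheme.{u}} [IsLocallyNoetherian Y] (f : X ⟶ Y) [LocallyOfFiniteType f] :
    IsSeparated f ↔ ∀ (A : Type u) [CommRing A] [IsDomain A] [IsDiscreteValuationRing A] (g₁ g₂ : (Spec (CommRingCat.of A)) ⟶ X),
      g₁ ≫ f = g₂ ≫ f → (Spec.map (CommRingCat.ofHom (algebraMap A (FractionRing A)))) ≫ g₁ = (Spec.map (CommRingCat.ofHom (algebraMap A (FractionRing A)))) ≫ g₂ → g₁ = g₂ := by
  constructor
  · intro hsep A _ _ _ g₁ g₂ h1 h2
    have hU := IsSeparated.valuativeCriterion f
    let S : ValuativeCommSq f :=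
      { R := A, K := FractionRing A
        i₁ := Spec.map (CommRingCat.ofHom (algebraMap A (FractionRing A))) ≫ g₁
        i₂ := g₁ ≫ f
        commSq := ⟨Category.assoc _ _ _⟩ }
    have hS : Subsingleton S.commSq.LiftStruct := hU S
    let l₁ : S.commSq.LiftStruct := ⟨g₁, rfl, rfl⟩
    let l₂ : S.commSq.LiftStruct := ⟨g₂, h2.symm, h1.symm⟩
    exact congrArg CommSq.LiftStruct.l (Subsingleton.elim l₁ l₂)
  · intro H
    have : IsLocallyNoetherian X := LocallyOfFiniteType.isLocallyNoetherian f
    have : IsLocallyNoetherian (pullback f f) :=
      LocallyOfFiniteType.isLocallyNoetherian (pullback.fst f f)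
    have : QuasiSeparated f := inferInstance
    have hspec : SpecializingMap (pullback.diagonal f) := by
      intro x z' hz
      by_cases hne : z' = (pullback.diagonal f) x
      · exact ⟨x, specializes_rfl, hne.symm⟩
      · obtain ⟨A, h, hA, hcl, hcomm⟩ :=
          Groth.Agent.S4450.result (pullback.diagonal f) x z' hz hne
        let ι := Spec.map (CommRingCat.ofHom (algebraMap A (FractionRing A)))
        obtain ⟨g₁, hg₁⟩ : ∃ g : Spec (CommRingCat.of A) ⟶ X, g = h ≫ pullback.fst f f := ⟨_, rfl⟩
        obtain ⟨g₂, hg₂⟩ : ∃ g : Spec (CommRingCat.of A) ⟶ X, g = h ≫ pullback.snd f f := ⟨_, rfl⟩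
        have e1 : g₁ ≫ f = g₂ ≫ f := by
          simp only [hg₁, hg₂, Category.assoc, pullback.condition]
        have hl₁ : Spec.map (CommRingCat.ofHom A.subtype) ≫ g₁ = X.fromSpecResidueField x := by
          rw [hg₁, ← Category.assoc, hcomm, Category.assoc, pullback.diagonal_fst, Category.comp_id]
        have hl₂ : Spec.map (CommRingCat.ofHom A.subtype) ≫ g₂ = X.fromSpecResidueField x := by
          rw [hg₂, ← Category.assoc, hcomm, Category.assoc, pullback.diagonal_snd, Category.comp_id]
        let e : FractionRing A ≃ₐ[A] X.residueField x := FractionRing.algEquiv A (X.residueField x)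
        let eI : CommRingCat.of (FractionRing A) ≅ CommRingCat.of (X.residueField x) :=
          e.toRingEquiv.toCommRingCatIso
        have hfac : CommRingCat.ofHom A.subtype =
            CommRingCat.ofHom (algebraMap A (FractionRing A)) ≫ eI.hom := by
          ext a
          simp [eI, e]
        have hSpec : Spec.map (CommRingCat.ofHom A.subtype) = Spec.map eI.hom ≫ ι := by
          rw [hfac, Spec.map_comp]
        have e2 : ι ≫ g₁ = ι ≫ g₂ := by
          have h3 : Spec.map eI.hom ≫ (ι ≫ g₁) = Spec.map eI.hom ≫ (ι ≫ g₂) := by
            rw [← Category.assoc _ ι g₁, ← Category.assoc _ ι g₂, ← hSpec, hl₁, hl₂]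
          exact (cancel_epi _).mp h3
        have hg : g₁ = g₂ := H A g₁ g₂ e1 e2
        have hh : h = g₁ ≫ pullback.diagonal f := by
          apply pullback.hom_ext
          · simp [hg₁]
          · simp only [Category.assoc, pullback.diagonal_snd, Category.comp_id]
            rw [hg, hg₂]
        refine ⟨g₁ (IsLocalRing.closedPoint A), ?_, ?_⟩
        · simp_rw [← Scheme.fromSpecResidueField_apply x (IsLocalRing.closedPoint (X.residueField x)),
            ← hl₁]
          exact (IsLocalRing.specializes_closedPoint _).map g₁.continuous
        · rw [← Scheme.Hom.comp_apply, ← hh]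
          exact hcl
    have hcm : IsClosedMap (pullback.diagonal f) :=
      (isClosedMap_iff_specializingMap _).mpr hspec
    exact ⟨IsClosedImmersion.of_isPreimmersion _ hcm.isClosed_range⟩

end Groth.Agent.S2334
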