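import Groth.Statements.S2341
import Mathlib

set_option autoImplicit false
universe u
open CategoryTheory CategoryTheory.Limits AlgebraicGeometry
open EGA2

namespace Groth.Agent.S2341

theorem qa_of_embedding {W S : Scheme.{u}} [IsAffine S] [CompactSpace W] (g : W ⟶ S)
    (hg : Topology.IsEmbedding g.base) : W.IsQuasiAffine := by
  refine Scheme.IsQuasiAffine.of_forall_exists_mem_basicOpen W fun x => ?_
  obtain ⟨U, hU, hxU, -⟩ := exists_isAffineOpen_mem_and_subset (x := x) (U := ⊤) trivial
  obtain ⟨t, ht, htU⟩ := hg.isInducing.isOpen_iff.mp U.isOpen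
  have hxt : g.base x ∈ t := by
    have : x ∈ g.base ⁻¹' t := by rw [htU]; exact hxU
    exact this
  obtain ⟨_, ⟨s, rfl⟩, hxs, hst⟩ :=
    TopologicalSpace.Opens.isBasis_iff_nbhd.mp (isBasis_basicOpen S) (U := ⟨t, ht⟩) hxt
  refine ⟨g.appTop s, ?_, ?_⟩
  · have hle : W.basicOpen (g.appTop s) ≤ U := by
      rw [← Scheme.preimage_basicOpen_top]
      intro z hz
      have : z ∈ g.base ⁻¹' t := hst hz
      rw [htU] at this
      exact this
    have : W.basicOpen (W.presheaf.map (homOfLE (le_top : U ≤ ⊤)).op (g.appTop s)) =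
        W.basicOpen (g.appTop s) := by
      rw [Scheme.basicOpen_res]
      exact inf_eq_right.mpr hle
    rw [← this]
    exact hU.basicOpen _
  · rw [← Scheme.preimage_basicOpen_top]
    exact hxs

/-- A quasi-compact morphism X → Y whose underlying map is a homeomorphism onto its image (for instance
a closed immersion) is quasi-affine. -/
theorem result {X Y : Scheme.{u}} (f : X ⟶ Y) [QuasiCompact f]
    (hf : Topology.IsEmbedding f.base) : Mor2.IsQuasiAffine f := by

  refine ⟨inferInstance, fun V hV => ?_⟩
  haveI : IsAffine (V : Scheme.{u}) := hV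
  haveI : CompactSpace ((f ⁻¹ᵁ V : X.Opens) : Scheme.{u}) :=
    isCompact_iff_compactSpace.mp (QuasiCompact.isCompact_preimage (f := f) _ V.isOpen hV.isCompact)
  have hemb : Topology.IsEmbedding (f ∣_ V).base := by
    rw [morphismRestrict_base]
    exact hf.restrictPreimage _
  exact qa_of_embedding (f ∣_ V) hemb

end Groth.Agent.S2341
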