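import Groth.Statements.S2344
import Groth.Agent.Lib.Helper11.Birat11

set_option autoImplicit false
universe u
open CategoryTheory CategoryTheory.Limits AlgebraicGeometry
open EGA2

namespace Groth.Agent.S2344

open Groth.Agent.Lib.Helper11 in
theorem exists_unique_extension {S X Y : Scheme.{u}} (fX : X ⟶ S) (fY : Y ⟶ S) [IsProper fY]
    [IsReduced X] [IsLocallyNoetherian X]
    (hval : ∀ x : X, ∃ _ : IsDomain (X.presheaf.stalk x), ValuationRing (X.presheaf.stalk x))
    (U : X.Opens) (hU : Dense (U : Set X)) (g : U.toScheme ⟶ Y) (hg : g ≫ fY = U.ι ≫ fX) :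
    ∃! g' : X ⟶ Y, U.ι ≫ g' = g ∧ g' ≫ fY = fX := by
  haveI hdomU : IsDominant U.ι := ⟨by rw [DenseRange, Scheme.Opens.range_ι]; exact hU⟩
  obtain ⟨p, hp⟩ : ∃ p : pullback fX fY ⟶ X, p = pullback.fst fX fY := ⟨_, rfl⟩
  haveI : IsProper p := by rw [hp]; infer_instance
  obtain ⟨γ, hγ⟩ : ∃ γ : U.toScheme ⟶ pullback fX fY, γ = pullback.lift U.ι g hg.symm :=
    ⟨_, rfl⟩
  have hγp : γ ≫ p = U.ι := by rw [hγ, hp, pullback.lift_fst]
  have hγq : γ ≫ pullback.snd fX fY = g := by rw [hγ, pullback.lift_snd]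
  have hloc : ∀ x : X, ∃ (V : X.Opens) (s : V.toScheme ⟶ pullback fX fY), x ∈ V ∧
      s ≫ p = V.ι ∧
      X.homOfLE (inf_le_right : U ⊓ V ≤ V) ≫ s = X.homOfLE (inf_le_left : U ⊓ V ≤ U) ≫ γ := by
    intro x
    obtain ⟨hd, hv⟩ := hval x
    haveI := hd
    haveI := hv
    exact Birat10.exists_extension_of_valuationRing p U γ hγp x (hU x)
      (Birat8.exists_integral_nbhd_of_isDomain_stalk x)
  choose V s hxV hsp hsγ using hloc
  have hT : (⊤ : X.Opens) = U ⊔ ⨆ i, V i := by
    symm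
    rw [eq_top_iff]
    intro x _
    exact (le_sup_right : (⨆ i, V i) ≤ U ⊔ ⨆ i, V i)
      (TopologicalSpace.Opens.mem_iSup.mpr ⟨x, hxV x⟩)
  obtain ⟨s', hs'p, hs'U, -⟩ := Birat11.exists_glue_sections' p U hU γ hγp V s hsp hsγ ⊤ hT
  refine ⟨X.topIso.inv ≫ s' ≫ pullback.snd fX fY, ⟨?_, ?_⟩, ?_⟩
  · rw [← X.homOfLE_ι (le_top : U ≤ ⊤), Category.assoc, Scheme.ι_toIso_inv_assoc,
      ← Category.assoc, hs'U le_top, hγq]
  · rw [Category.assoc, Category.assoc, ← pullback.condition, ← hp, ← Category.assoc s', hs'p,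
      Scheme.toIso_inv_ι_assoc]
  · rintro g'' ⟨h1, h2⟩
    refine ext_of_isDominant_of_isSeparated fY ?_ U.ι ?_
    · rw [h2, Category.assoc, Category.assoc, ← pullback.condition, ← hp, ← Category.assoc s',
        hs'p, Scheme.toIso_inv_ι_assoc]
    · rw [h1, ← X.homOfLE_ι (le_top : U ≤ ⊤), Category.assoc, Scheme.ι_toIso_inv_assoc,
        ← Category.assoc, hs'U le_top, hγq]

/-- Let X be a normal algebraic curve over k (separated, of finite type, nonempty, local rings at closed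
points of dimension one, all local rings integrally closed domains), Y proper over k, U a dense open
of X and g : U → Y a k-morphism. Then g extends uniquely to a k-morphism X → Y. -/
theorem result (k : Type u) [Field k] (X Y : Scheme.{u}) [X.Over (Spec (CommRingCat.of k))] [Y.Over (Spec (CommRingCat.of k))]
    [LocallyOfFiniteType (X ↘ (Spec (CommRingCat.of k)))] [QuasiCompact (X ↘ (Spec (CommRingCat.of k)))] [IsSeparated (X ↘ (Spec (CommRingCat.of k)))] [Nonempty X] (hcurve : (∀ x : X, IsClosed ({x} : Set X) → ringKrullDim (X.presheaf.stalk x) = 1)) (hnorm : Pi1.IsNormalScheme X)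
    [IsProper (Y ↘ (Spec (CommRingCat.of k)))] (U : X.Opens) (hU : Dense (U : Set X)) (g : (U : Scheme.{u}) ⟶ Y)
    (hg : g ≫ (Y ↘ (Spec (CommRingCat.of k))) = U.ι ≫ (X ↘ (Spec (CommRingCat.of k)))) :
    ∃! g' : X ⟶ Y, U.ι ≫ g' = g ∧ g' ≫ (Y ↘ (Spec (CommRingCat.of k))) = X ↘ (Spec (CommRingCat.of k)) := by

  haveI : IsLocallyNoetherian X :=
    LocallyOfFiniteType.isLocallyNoetherian (X ↘ (Spec (CommRingCat.of k)))
  haveI : CompactSpace X :=
    QuasiCompact.compactSpace_of_compactSpace (X ↘ (Spec (CommRingCat.of k)))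
  haveI : ∀ x : X, _root_.IsReduced (X.presheaf.stalk x) := fun x => by
    haveI := (hnorm x).1
    infer_instance
  haveI : IsReduced X := isReduced_of_isReduced_stalk X
  have hval : ∀ x : X, ∃ _ : IsDomain (X.presheaf.stalk x),
      ValuationRing (X.presheaf.stalk x) := by
    intro x
    haveI := (hnorm x).1
    haveI := (hnorm x).2
    exact ⟨inferInstance, Groth.Agent.Lib.Helper11.Birat6.valuationRing_of_dim_le_one _
      (Groth.Agent.Lib.Helper11.Birat11.ringKrullDim_stalk_le_one hcurve x)⟩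
  exact exists_unique_extension _ _ hval U hU g hg

end Groth.Agent.S2344
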