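import Groth.Statements.S2346
import Mathlib

set_option autoImplicit false
universe u
open CategoryTheory CategoryTheory.Limits AlgebraicGeometry
open EGA2

namespace Groth.Agent.S2346

open TopologicalSpace Topology

section curve

variable {C : Scheme.{u}} [IrreducibleSpace C] [CompactSpace C]
  (hC : ∀ x : C, IsClosed ({x} : Set C) → ringKrullDim (C.presheaf.stalk x) = 1)

include hC in
theorem eq_genericPoint_of_not_isClosed (x : C) (hx : ¬ IsClosed ({x} : Set C)) :
    x = genericPoint C := by
  obtain ⟨c, hc, hcc⟩ := IsClosed.exists_closed_singleton (isClosed_closure (s := ({x} : Set C)))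
    ⟨x, subset_closure rfl⟩
  have hxc : x ⤳ c := specializes_iff_mem_closure.mpr hc
  have hne : c ≠ x := fun h => hx (h ▸ hcc)
  have hlt : c < x := by
    rw [lt_iff_le_not_ge]
    refine ⟨Scheme.le_iff_specializes.2 hxc, fun h => hne ?_⟩
    exact ((Scheme.le_iff_specializes.1 h).antisymm hxc).eq
  have h1 := hC c hcc
  rw [ringKrullDim_stalk_eq_coheight] at h1
  have h2 : Order.coheight c = 1 := by exact_mod_cast h1
  have h3 := Order.coheight_add_one_le hlt
  rw [h2] at h3
  have h4 : Order.coheight x = 0 := by
    by_contra hne0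
    have h5 : (1 : ℕ∞) ≤ Order.coheight x := Order.one_le_iff_ne_zero.mpr hne0
    have h6 : (1 : ℕ∞) + 1 ≤ Order.coheight x + 1 := add_le_add_left h5 1
    have h7 : (1 : ℕ∞) + 1 ≤ 1 := h6.trans h3
    norm_num at h7
  have hmax : IsMax x := Order.coheight_eq_zero.mp h4
  have hξx : genericPoint C ⤳ x := (genericPoint_spec C).specializes trivial
  have hle : x ≤ genericPoint C := Scheme.le_iff_specializes.2 hξx
  have hge : genericPoint C ≤ x := hmax hle
  exact ((Scheme.le_iff_specializes.1 hge).antisymm hξx).eq

include hC in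
theorem finite_of_isClosed_of_ne_univ [NoetherianSpace C] (Z : Set C) (hZ : IsClosed Z)
    (hne : Z ≠ Set.univ) : Z.Finite := by
  have hξ : genericPoint C ∉ Z := by
    intro h
    apply hne
    apply Set.eq_univ_of_univ_subset
    intro z _
    have hz : z ∈ closure ({genericPoint C} : Set C) := by
      rw [(genericPoint_spec C).def]; trivial
    exact hZ.closure_subset_iff.mpr (Set.singleton_subset_iff.mpr h) hz
  have hcl : ∀ z ∈ Z, IsClosed ({z} : Set C) := by
    intro z hz
    by_contra h
    exact hξ (eq_genericPoint_of_not_isClosed hC z h ▸ hz)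
  obtain ⟨S, hSfin, hScl, hSirr, hSU⟩ :=
    NoetherianSpace.exists_finite_set_isClosed_irreducible hZ
  have hsing : ∀ t ∈ S, ∃ g : C, t = {g} := by
    intro t ht
    obtain ⟨g, hg⟩ := QuasiSober.sober (hSirr t ht) (hScl t ht)
    have hgt : g ∈ t := hg.mem
    have hgZ : g ∈ Z := by rw [hSU]; exact ⟨t, ht, hgt⟩
    refine ⟨g, ?_⟩
    rw [← hg.def]
    exact (hcl g hgZ).closure_eq
  rw [hSU]
  refine Set.Finite.sUnion hSfin ?_
  intro t ht
  obtain ⟨g, rfl⟩ := hsing t ht
  exact Set.finite_singleton g

include hC in
theorem infinite_curve [JacobsonSpace C] : ¬ (Set.univ : Set C).Finite := by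
  intro hfin
  have hcpfin : (closedPoints C).Finite := hfin.subset (Set.subset_univ _)
  have hclosed : IsClosed (closedPoints C) := by
    have h0 : closedPoints C = ⋃ x ∈ closedPoints C, ({x} : Set C) :=
      (Set.biUnion_of_singleton _).symm
    rw [h0]
    exact hcpfin.isClosed_biUnion (fun x hx => hx)
  have h1 : closedPoints C = Set.univ := by
    rw [← hclosed.closure_eq]; exact closure_closedPoints
  have hξ : IsClosed ({genericPoint C} : Set C) := by
    have h0 : genericPoint C ∈ closedPoints C := by rw [h1]; trivial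
    exact h0
  have h2 := hC _ hξ
  rw [ringKrullDim_stalk_eq_coheight] at h2
  have hmax : IsMax (genericPoint C) := by
    intro b _
    exact Scheme.le_iff_specializes.2 ((genericPoint_spec C).specializes trivial)
  rw [Order.coheight_eq_zero.mpr hmax] at h2
  have h3 : (0 : ℕ∞) = 1 := by exact_mod_cast h2
  exact zero_ne_one h3

end curve

theorem dominant_iff_finite_fibres {X Y : Scheme.{u}} [IrreducibleSpace X] [IrreducibleSpace Y]
    [CompactSpace X] [CompactSpace Y] [NoetherianSpace X] [JacobsonSpace X] [JacobsonSpace Y]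
    (hX : ∀ x : X, IsClosed ({x} : Set X) → ringKrullDim (X.presheaf.stalk x) = 1)
    (hY : ∀ x : Y, IsClosed ({x} : Set Y) → ringKrullDim (Y.presheaf.stalk x) = 1)
    (f : X ⟶ Y) [LocallyOfFiniteType f] :
    IsDominant f ↔ ∀ y : Y, (f.base ⁻¹' {y}).Finite := by
  constructor
  · intro hdom y
    by_cases hy : IsClosed ({y} : Set Y)
    · apply finite_of_isClosed_of_ne_univ hX _ (hy.preimage f.continuous)
      intro huniv
      have hr : Set.range f.base ⊆ {y} := by
        rintro _ ⟨x, rfl⟩
        have h0 : x ∈ f.base ⁻¹' {y} := by rw [huniv]; trivial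
        exact h0
      have hd : Dense (Set.range f.base) := hdom.denseRange
      have h1 : closure (Set.range f.base) ⊆ {y} := hy.closure_subset_iff.mpr hr
      have h2 : (Set.univ : Set Y) ⊆ {y} := by rw [← hd.closure_eq]; exact h1
      exact infinite_curve hY ((Set.finite_singleton y).subset h2)
    · apply (Set.finite_singleton (genericPoint X)).subset
      intro x hx
      by_contra hne
      have hxcl : IsClosed ({x} : Set X) := by
        by_contra h
        exact hne (eq_genericPoint_of_not_isClosed hX x h)
      have h0 := f.closePoints_subset_preimage_closedPoints hxcl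
      apply hy
      have hfx : f.base x = y := hx
      rw [← hfx]; exact h0
  · intro hfin
    constructor
    by_contra hnd
    obtain ⟨y₀, hy₀⟩ : ∃ y₀ : Y, y₀ = f.base (genericPoint X) := ⟨_, rfl⟩
    have hr : Set.range f.base ⊆ closure {y₀} := by
      rintro _ ⟨x, rfl⟩
      have hξx : genericPoint X ⤳ x := (genericPoint_spec X).specializes trivial
      rw [hy₀]
      exact specializes_iff_mem_closure.mp (hξx.map f.continuous)
    have hTne : closure ({y₀} : Set Y) ≠ Set.univ := by
      intro h
      apply hnd
      have h0 : y₀ ∈ Set.range f.base := ⟨_, hy₀.symm⟩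
      intro z
      have hz : z ∈ closure ({y₀} : Set Y) := by rw [h]; trivial
      exact closure_mono (Set.singleton_subset_iff.mpr h0) hz
    have hη : genericPoint Y ∉ closure ({y₀} : Set Y) := by
      intro h
      apply hTne
      apply Set.eq_univ_of_univ_subset
      intro z _
      have hz : z ∈ closure ({genericPoint Y} : Set Y) := by
        rw [(genericPoint_spec Y).def]; trivial
      exact (isClosed_closure.closure_subset_iff.mpr (Set.singleton_subset_iff.mpr h)) hz
    have hy₀cl : IsClosed ({y₀} : Set Y) := by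
      by_contra h
      apply hη
      rw [← eq_genericPoint_of_not_isClosed hY y₀ h]
      exact subset_closure rfl
    have huniv : f.base ⁻¹' {y₀} = Set.univ := by
      apply Set.eq_univ_of_univ_subset
      intro x _
      have h0 := hr ⟨x, rfl⟩
      rw [hy₀cl.closure_eq] at h0
      exact h0
    have h1 := hfin y₀
    rw [huniv] at h1
    exact infinite_curve hX h1

/-- Let X and Y be irreducible algebraic curves over k (separated, of finite type, local rings at closed
points one-dimensional) and f : X → Y a k-morphism. Then f is dominant if and only if every fibre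
f⁻¹(y) is a finite set. -/
theorem result (k : Type u) [Field k] (X Y : Scheme.{u}) [X.Over (Spec (CommRingCat.of k))] [Y.Over (Spec (CommRingCat.of k))]
    [LocallyOfFiniteType (X ↘ (Spec (CommRingCat.of k)))] [QuasiCompact (X ↘ (Spec (CommRingCat.of k)))] [IsSeparated (X ↘ (Spec (CommRingCat.of k)))] [LocallyOfFiniteType (Y ↘ (Spec (CommRingCat.of k)))] [QuasiCompact (Y ↘ (Spec (CommRingCat.of k)))] [IsSeparated (Y ↘ (Spec (CommRingCat.of k)))] [IrreducibleSpace X] [IrreducibleSpace Y]
    (hX : (∀ x : X, IsClosed ({x} : Set X) → ringKrullDim (X.presheaf.stalk x) = 1)) (hY : (∀ x : Y, IsClosed ({x} : Set Y) → ringKrullDim (Y.presheaf.stalk x) = 1))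
    (f : X ⟶ Y) (hf : f ≫ (Y ↘ (Spec (CommRingCat.of k))) = X ↘ (Spec (CommRingCat.of k))) :
    IsDominant f ↔ ∀ y : Y, (f.base ⁻¹' {y}).Finite := by

  haveI : IsLocallyNoetherian X :=
    LocallyOfFiniteType.isLocallyNoetherian (X ↘ (Spec (CommRingCat.of k)))
  haveI : CompactSpace X :=
    QuasiCompact.compactSpace_of_compactSpace (X ↘ (Spec (CommRingCat.of k)))
  haveI : CompactSpace Y :=
    QuasiCompact.compactSpace_of_compactSpace (Y ↘ (Spec (CommRingCat.of k)))
  haveI : IsNoetherian X := { }
  haveI : JacobsonSpace X := LocallyOfFiniteType.jacobsonSpace (X ↘ (Spec (CommRingCat.of k)))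
  haveI : JacobsonSpace Y := LocallyOfFiniteType.jacobsonSpace (Y ↘ (Spec (CommRingCat.of k)))
  haveI : LocallyOfFiniteType (f ≫ (Y ↘ (Spec (CommRingCat.of k)))) := by
    rw [hf]; infer_instance
  haveI : LocallyOfFiniteType f :=
    locallyOfFiniteType_of_comp f (Y ↘ (Spec (CommRingCat.of k)))
  exact dominant_iff_finite_fibres hX hY f

end Groth.Agent.S2346
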