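import Groth.Statements.S2349
import Mathlib

set_option autoImplicit false
universe u
open CategoryTheory CategoryTheory.Limits AlgebraicGeometry
open EGA2

namespace Groth.Agent.S2349

/-- Let f : X → Y be separated and of finite type, and let j_i : X_i → X and h_i : Y_i → Y (i in a
finite index type) be closed immersions with morphisms f_i : X_i → Y_i satisfying j_i ≫ f = f_i ≫
h_i, such that the images of the j_i cover X. Then f is proper if and only if every f_i is proper. -/
theorem result {X Y : Scheme.{u}} (f : X ⟶ Y) [IsSeparated f] [LocallyOfFiniteType f] [QuasiCompact f]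
    (ι : Type u) [Finite ι] (Xi Yi : ι → Scheme.{u}) (j : ∀ i, Xi i ⟶ X) (h : ∀ i, Yi i ⟶ Y) (fi : ∀ i, Xi i ⟶ Yi i)
    [∀ i, IsClosedImmersion (j i)] [∀ i, IsClosedImmersion (h i)] (hcomm : ∀ i, j i ≫ f = fi i ≫ h i)
    (hcov : ∀ x : X, ∃ i, x ∈ Set.range (j i).base) : IsProper f ↔ ∀ i, IsProper (fi i) := by
  constructor
  · intro hf i
    have : IsProper (fi i ≫ h i) := by rw [← hcomm i]; infer_instance
    exact IsProper.of_comp (fi i) (h i)
  · intro hfi
    have hp : ∀ i, IsProper (j i ≫ f) := fun i => by rw [hcomm i]; infer_instance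
    have huc : UniversallyClosed f := by
      constructor
      intro X' Y' i₁ i₂ f' hpb
      have hclosed : ∀ i, IsClosedMap (pullback.snd (j i) i₁ ≫ f') := by
        intro i
        have hpaste : IsPullback (pullback.snd (j i) i₁ ≫ f') (pullback.fst (j i) i₁) i₂ (j i ≫ f) :=
          (IsPullback.of_hasPullback (j i) i₁).flip.paste_horiz hpb
        have : UniversallyClosed (j i ≫ f) := inferInstance
        exact this.universally_isClosedMap _ _ _ hpaste
      intro Z hZ
      have hset : f' '' Z =
          ⋃ i, (pullback.snd (j i) i₁ ≫ f') '' ((pullback.snd (j i) i₁) ⁻¹' Z) := by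
        ext y
        simp only [Set.mem_image, Set.mem_iUnion, Set.mem_preimage]
        constructor
        · rintro ⟨z, hz, rfl⟩
          obtain ⟨i, xi, hxi⟩ := hcov (i₁ z)
          obtain ⟨p, hp1, hp2⟩ :=
            Scheme.Pullback.exists_preimage_pullback (f := j i) (g := i₁) xi z hxi
          exact ⟨i, p, by rw [hp2]; exact hz, by rw [Scheme.Hom.comp_apply, hp2]⟩
        · rintro ⟨i, p, hp, rfl⟩
          exact ⟨_, hp, by rw [Scheme.Hom.comp_apply]⟩
      rw [hset]
      exact isClosed_iUnion_of_finite fun i =>
        hclosed i _ (hZ.preimage (pullback.snd (j i) i₁).continuous)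
    exact { }

end Groth.Agent.S2349
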