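import Groth.Statements.S2353
import Mathlib
import Groth.Agent.Lib.Helper17.ValDense
import Groth.Agent.Lib.Helper17.FunFldVal

set_option autoImplicit false
universe u
open CategoryTheory CategoryTheory.Limits AlgebraicGeometry
open EGA2

namespace Groth.Agent.S2353

/-- Let Y be an integral separated locally Noetherian scheme, X an integral separated scheme and f : X →
Y dominant and of finite type, with generic point ξ of X. Suppose that for every discrete valuation
subring R of the function field K(X) and every point y of Y such that R dominates the local ring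
O_{Y,y} (through O_{Y,y} → O_{Y,f(ξ)} → K(X): the image lies in R and the maximal ideal maps into
the maximal ideal of R), there is a point x of X whose local ring is dominated by R (through O_{X,x}
→ K(X)). Then f is proper. -/
theorem result {X Y : Scheme.{u}} [IsIntegral X] [IsIntegral Y] [X.IsSeparated] [Y.IsSeparated]
    [IsLocallyNoetherian Y] (f : X ⟶ Y) [IsDominant f] [LocallyOfFiniteType f] [QuasiCompact f]
    (h : ∀ (R : ValuationSubring X.functionField), IsDiscreteValuationRing R →
      ∀ (y : Y) (hy : f.base (genericPoint X) ⤳ y), ((∀ a : (Y.presheaf.stalk y), (Y.presheaf.stalkSpecializes hy ≫ f.stalkMap (genericPoint X)).hom a ∈ R) ∧ ∀ a ∈ IsLocalRing.maximalIdeal (Y.presheaf.stalk y), R.valuation ((Y.presheaf.stalkSpecializes hy ≫ f.stalkMap (genericPoint X)).hom a) < 1) →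
        ∃ x : X, ((∀ a : (X.presheaf.stalk x), algebraMap (X.presheaf.stalk x) X.functionField a ∈ R) ∧ ∀ a ∈ IsLocalRing.maximalIdeal (X.presheaf.stalk x), R.valuation (algebraMap (X.presheaf.stalk x) X.functionField a) < 1)) :
    IsProper f := by
  have hsepf : IsSeparated f := by
    have : IsSeparated (f ≫ terminal.from Y) := by
      have e : f ≫ terminal.from Y = terminal.from X := terminal.hom_ext _ _
      rw [e]; infer_instance
    exact IsSeparated.of_comp f (terminal.from Y)
  have hE : ValuativeCriterion.Existence f := by
    apply Groth.Agent.Lib.Helper17.ValDense.existence_of_points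
    intro x₀
    refine ⟨X.functionField, inferInstance, Groth.Agent.Lib.Helper17.FunFldVal.genPt X, ?_, ?_, ?_⟩
    · rw [Groth.Agent.Lib.Helper17.FunFldVal.genPt_closedPoint]
      exact genericPoint_specializes x₀
    · intro W y hy
      refine Groth.Agent.Lib.Helper17.DvrCrit.exists_lift_of_dvr f
        (Groth.Agent.Lib.Helper17.FunFldVal.genPt X) ?_ ?_ W y hy
      · intro W' hW' θ hθ
        exact Groth.Agent.Lib.Helper17.FunFldVal.essFiniteType_of_fromSpecStalk f (genericPoint X)
          hW' θ hθ
      · intro A hA y' hy'
        obtain ⟨hsp, d1, d2⟩ :=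
          Groth.Agent.Lib.Helper17.FunFldVal.dominates_of_morphism f A y' hy'
        obtain ⟨x, hx1, -⟩ := h A hA _ hsp ⟨d1, d2⟩
        obtain ⟨l, hl⟩ := Groth.Agent.Lib.Helper17.FunFldVal.lift_of_dominates A x hx1
        refine ⟨l, ?_, hl⟩
        apply Groth.Agent.Lib.Helper17.FunFldVal.eq_of_separated A
        rw [← Category.assoc, hl, hy']
    · intro W l₁ l₂ h12 h1 h2
      have hU := IsSeparated.valuativeCriterion f
      let Sq : ValuativeCommSq f :=
        { R := W, K := X.functionField, i₁ := Groth.Agent.Lib.Helper17.FunFldVal.genPt X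
          i₂ := l₁ ≫ f
          commSq := ⟨by rw [← h1, Category.assoc]; rfl⟩ }
      have hS : Subsingleton Sq.commSq.LiftStruct := hU Sq
      let m₁ : Sq.commSq.LiftStruct := ⟨l₁, h1, rfl⟩
      let m₂ : Sq.commSq.LiftStruct := ⟨l₂, h2, h12.symm⟩
      exact congrArg CommSq.LiftStruct.l (Subsingleton.elim m₁ m₂)
  have : UniversallyClosed f := UniversallyClosed.of_valuativeCriterion f hE
  exact {}

end Groth.Agent.S2353
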