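import Groth.Statements.S2355
import Groth.Agent.Lib.Helper3.AmpleQA

set_option autoImplicit false
universe u
open CategoryTheory CategoryTheory.Limits AlgebraicGeometry
open EGA2

namespace Groth.Agent.S2355

open Groth.Agent.Lib.Helper3 PbBasic PbAmple RelAmpleLib InvAmple AmpleQA in

/-- Let f : X → Y be quasi-compact, g : X' → X quasi-affine and L an O_X-module ample relative to f.
Then g^* L is ample relative to g ≫ f. -/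
theorem result {X X' Y : Scheme.{u}} (f : X ⟶ Y) [QuasiCompact f] (g : X' ⟶ X) (hg : Mor2.IsQuasiAffine g)
    (L : X.Modules) (hL : RelAmple.IsRelAmple f L) :
    RelAmple.IsRelAmple (g ≫ f) ((Scheme.Modules.pullback g).obj L) := by
  haveI := hg.1
  refine ⟨inferInstance, fun V => ?_⟩
  haveI : CompactSpace ((g ⁻¹ᵁ (f ⁻¹ᵁ V.1) : X'.Opens) : Scheme.{u}) :=
    compactSpace_preimage (g ≫ f) V.1 V.2
  have h1 := isAmple_pullback_of_quasiAffine (g ∣_ (f ⁻¹ᵁ V.1)) (hL.2 V) (fun A hA => by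
    haveI hq := hg.2 ((f ⁻¹ᵁ V.1).ι ''ᵁ A) (hA.image_of_isOpenImmersion _)
    have hr : Set.range (((g ∣_ (f ⁻¹ᵁ V.1)) ⁻¹ᵁ A).ι ≫ (g ⁻¹ᵁ (f ⁻¹ᵁ V.1)).ι) =
        Set.range (g ⁻¹ᵁ ((f ⁻¹ᵁ V.1).ι ''ᵁ A)).ι := by
      have h2 := congrArg (fun O : X'.Opens => (O : Set X'))
        (image_morphismRestrict_preimage g (f ⁻¹ᵁ V.1) A)
      have h3 : ((((g ∣_ (f ⁻¹ᵁ V.1)) ⁻¹ᵁ A).ι ≫ (g ⁻¹ᵁ (f ⁻¹ᵁ V.1)).ι).opensRange : Set X') =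
          ((g ⁻¹ᵁ (f ⁻¹ᵁ V.1)).ι ''ᵁ ((g ∣_ (f ⁻¹ᵁ V.1)) ⁻¹ᵁ A) : X'.Opens) := by
        rw [Scheme.Hom.opensRange_comp, Scheme.Opens.opensRange_ι]
      have h4 : ((g ⁻¹ᵁ ((f ⁻¹ᵁ V.1).ι ''ᵁ A)).ι.opensRange : Set X') =
          (g ⁻¹ᵁ ((f ⁻¹ᵁ V.1).ι ''ᵁ A) : X'.Opens) := by
        rw [Scheme.Opens.opensRange_ι]
      exact h3.trans (h2.trans h4.symm)
    exact Scheme.IsQuasiAffine.of_isAffineHom (IsOpenImmersion.isoOfRangeEq _ _ hr).hom)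
  exact isAmple_of_iso ((pbRestrict g (f ⁻¹ᵁ V.1)).app L).symm h1

end Groth.Agent.S2355
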