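import Groth.Statements.S2359
import Groth.Agent.Lib.Helper3.PbAmple

set_option autoImplicit false
universe u
open CategoryTheory CategoryTheory.Limits AlgebraicGeometry
open EGA2

namespace Groth.Agent.S2359

open Groth.Agent.Lib.Helper3 PbBasic PbAmple RelAmpleLib InvAmple in
theorem isRelAmple_pullback_of_isEmbedding2359 {X X' Y : Scheme.{u}} (f : X ⟶ Y) [QuasiCompact f]
    (j : X' ⟶ X) [QuasiCompact j]
    (hj : Topology.IsEmbedding j) (L : X.Modules) (hL : RelAmple.IsRelAmple f L) :
    RelAmple.IsRelAmple (j ≫ f) ((Scheme.Modules.pullback j).obj L) := by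
  refine ⟨inferInstance, fun V => ?_⟩
  haveI : CompactSpace ((j ⁻¹ᵁ (f ⁻¹ᵁ V.1) : X'.Opens) : Scheme.{u}) :=
    compactSpace_preimage (j ≫ f) V.1 V.2
  have hemb : Topology.IsEmbedding (j ∣_ (f ⁻¹ᵁ V.1)) := by
    rw [morphismRestrict_base]
    exact hj.restrictPreimage _
  have h1 := isAmple_pullback_of_isEmbedding (j ∣_ (f ⁻¹ᵁ V.1)) hemb (hL.2 V)
  exact isAmple_of_iso ((pbRestrict j (f ⁻¹ᵁ V.1)).app L).symm h1

/-- Let f : X → Y be quasi-compact, j : X' → X a quasi-compact morphism whose underlying map is a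
homeomorphism onto a subspace of X, and L an O_X-module ample relative to f. Then j^* L is ample
relative to j ≫ f. -/
theorem result {X X' Y : Scheme.{u}} (f : X ⟶ Y) [QuasiCompact f] (j : X' ⟶ X) [QuasiCompact j]
    (hj : Topology.IsEmbedding j.base) (L : X.Modules) (hL : RelAmple.IsRelAmple f L) :
    RelAmple.IsRelAmple (j ≫ f) ((Scheme.Modules.pullback j).obj L) := by
  exact isRelAmple_pullback_of_isEmbedding2359 f j hj L hL

end Groth.Agent.S2359
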