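import Groth.Statements.S2451
import Mathlib
import Groth.Agent.Lib.Helper21.SepSmoothD
import Groth.Agent.Lib.Helper21.SepSmoothB

set_option autoImplicit false
universe u
open EGA41

namespace Groth.Agent.S2451

/-- Let k ⊆ K be fields with the discrete topologies. Then K is a formally smooth k-algebra if and only
if K is separable over k (K ⊗_k k' reduced for every extension k', i.e. geometrically reduced). -/
theorem result {k K : Type u} [Field k] [Field K] [Algebra k K] :
    Algebra.FormallySmooth k K ↔ Algebra.IsGeometricallyReduced k K := by
  constructor
  · intro h
    obtain ⟨p, hp⟩ := CharP.exists k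
    rcases CharP.char_is_prime_or_zero k p with hpp | rfl
    · haveI : Fact p.Prime := ⟨hpp⟩
      haveI : CharP K p := charP_of_injective_algebraMap (algebraMap k K).injective p
      exact Groth.Agent.Lib.Helper21.SepSmooth.isGeometricallyReduced_of_formallySmooth_charP p
    · haveI : CharZero k := CharP.charP_to_charZero k
      exact Groth.Agent.Lib.Helper21.SepSmooth.isGeometricallyReduced_of_charZero
  · intro h
    exact Groth.Agent.Lib.Helper21.SepSmooth.formallySmooth_of_geomReduced

end Groth.Agent.S2451
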