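import Groth.Statements.S2455
import Mathlib
import Groth.Agent.Lib.Helper7.ResExtTower
import Groth.Agent.Lib.Helper7.CohenAlg7
import Groth.Agent.S0542
import Groth.Agent.S2454
import Groth.Agent.S2462

set_option autoImplicit false
universe u
open EGA41

namespace Groth.Agent.S2455

open IsLocalRing in
/-- Let A be a Noetherian local ring with residue field k and K a separable extension field of k. Then
there is a Cohen A-algebra B whose residue field is k-isomorphic to K; and two Cohen A-algebras
whose residue fields are k-isomorphic to K are isomorphic as A-algebras. -/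
theorem result {A : Type u} [CommRing A] [IsLocalRing A] [IsNoetherianRing A]
    (K : Type u) [Field K] [Algebra (ResidueField A) K] [Algebra.IsGeometricallyReduced (ResidueField A) K] :
    (∃ (B : Type u) (_ : CommRing B) (_ : IsLocalRing B) (_ : Algebra A B) (_ : IsLocalHom (algebraMap A B)),
      EGA41.IsCohenAlgebra A B ∧ Nonempty (ResidueField B ≃ₐ[ResidueField A] K)) ∧
    ∀ (B B' : Type u) [CommRing B] [IsLocalRing B] [Algebra A B] [IsLocalHom (algebraMap A B)]
      [CommRing B'] [IsLocalRing B'] [Algebra A B'] [IsLocalHom (algebraMap A B')],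
      EGA41.IsCohenAlgebra A B → EGA41.IsCohenAlgebra A B' →
      Nonempty (ResidueField B ≃ₐ[ResidueField A] K) → Nonempty (ResidueField B' ≃ₐ[ResidueField A] K) →
      Nonempty (B ≃ₐ[A] B') := by
  classical
  constructor
  · -- existence
    let φ₀ : A →+* K := (algebraMap (IsLocalRing.ResidueField A) K).comp (IsLocalRing.residue A)
    haveI : IsLocalHom φ₀ := by
      refine ⟨fun a ha => ?_⟩
      have h1 : IsLocalRing.residue A a ≠ 0 := by
        intro h0
        have h2 : φ₀ a = 0 := by
          show algebraMap _ K (IsLocalRing.residue A a) = 0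
          rw [h0, map_zero]
        rw [h2] at ha
        exact not_isUnit_zero ha
      by_contra hnu
      exact h1 ((IsLocalRing.residue_eq_zero_iff a).mpr ((IsLocalRing.mem_maximalIdeal a).mpr hnu))
    obtain ⟨B₀, hBring, hBloc, ψ, φ, hφ, hcomp, hflat, hmax, hsurj, hN⟩ :=
      Groth.Agent.Lib.Helper7.ResExt.exists_ext φ₀
    letI := hBring
    haveI := hBloc
    haveI := hφ
    haveI hB₀N : IsNoetherianRing B₀ := hN inferInstance
    have hψφ : ∀ a : A, φ (ψ a) = φ₀ a := fun a => congrArg (fun g : A →+* K => g a) hcomp
    haveI hψloc : IsLocalHom ψ := by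
      refine ⟨fun a ha => ?_⟩
      have h1 : IsUnit (φ (ψ a)) := IsUnit.map φ ha
      rw [hψφ] at h1
      exact isUnit_of_map_unit φ₀ a h1
    haveI hBcN : IsNoetherianRing (AdicCompletion (IsLocalRing.maximalIdeal B₀) B₀) :=
      Groth.Agent.S0542.result B₀ (IsLocalRing.maximalIdeal B₀)
        (IsLocalRing.maximalIdeal B₀).fg_of_isNoetherianRing
    let θ : A →+* AdicCompletion (IsLocalRing.maximalIdeal B₀) B₀ :=
      (algebraMap B₀ (AdicCompletion (IsLocalRing.maximalIdeal B₀) B₀)).comp ψ
    haveI hθloc : IsLocalHom θ := RingHom.isLocalHom_comp _ _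
    letI algA : Algebra A (AdicCompletion (IsLocalRing.maximalIdeal B₀) B₀) := θ.toAlgebra
    haveI hlh : IsLocalHom (algebraMap A (AdicCompletion (IsLocalRing.maximalIdeal B₀) B₀)) := hθloc
    have hθflat : θ.Flat :=
      hflat.comp (RingHom.flat_algebraMap_iff.mpr inferInstance)
    have hθmax : (IsLocalRing.maximalIdeal A).map θ =
        IsLocalRing.maximalIdeal (AdicCompletion (IsLocalRing.maximalIdeal B₀) B₀) := by
      rw [← Ideal.map_map, hmax]
      exact (AdicCompletion.maximalIdeal_eq_map).symm
    -- residue fields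
    let em : IsLocalRing.ResidueField B₀ ≃+*
        IsLocalRing.ResidueField (AdicCompletion (IsLocalRing.maximalIdeal B₀) B₀) :=
      RingEquiv.ofBijective _ (AdicCompletion.residueField_map_bijective B₀)
    let g : IsLocalRing.ResidueField (AdicCompletion (IsLocalRing.maximalIdeal B₀) B₀) →+* K :=
      (IsLocalRing.ResidueField.lift φ).comp em.symm.toRingHom
    have hgm : ∀ b : B₀, g (IsLocalRing.residue _
        (algebraMap B₀ (AdicCompletion (IsLocalRing.maximalIdeal B₀) B₀) b)) = φ b := by
      intro b
      have h1 : em (IsLocalRing.residue B₀ b) = IsLocalRing.residue _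
          (algebraMap B₀ (AdicCompletion (IsLocalRing.maximalIdeal B₀) B₀) b) :=
        IsLocalRing.ResidueField.map_residue _ b
      show IsLocalRing.ResidueField.lift φ (em.symm (IsLocalRing.residue _
        (algebraMap B₀ (AdicCompletion (IsLocalRing.maximalIdeal B₀) B₀) b))) = φ b
      rw [← h1, RingEquiv.symm_apply_apply, IsLocalRing.ResidueField.lift_residue_apply]
    let gA : IsLocalRing.ResidueField (AdicCompletion (IsLocalRing.maximalIdeal B₀) B₀)
        →ₐ[IsLocalRing.ResidueField A] K :=
      { g with
        commutes' := by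
          intro r
          obtain ⟨r, rfl⟩ := IsLocalRing.residue_surjective r
          show g (algebraMap (IsLocalRing.ResidueField A)
            (IsLocalRing.ResidueField (AdicCompletion (IsLocalRing.maximalIdeal B₀) B₀))
            (IsLocalRing.residue A r)) = _
          rw [IsLocalRing.ResidueField.algebraMap_residue]
          show g (IsLocalRing.residue _
            (algebraMap B₀ (AdicCompletion (IsLocalRing.maximalIdeal B₀) B₀) (ψ r))) = _
          rw [hgm]
          exact hψφ r }
    have hginj : Function.Injective gA := g.injective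
    have hgsurj : Function.Surjective gA := by
      intro k
      obtain ⟨b, rfl⟩ := hsurj k
      exact ⟨IsLocalRing.residue _ (algebraMap B₀ _ b), hgm b⟩
    haveI hgeom : Algebra.IsGeometricallyReduced (IsLocalRing.ResidueField A)
        (IsLocalRing.ResidueField (AdicCompletion (IsLocalRing.maximalIdeal B₀) B₀)) :=
      Algebra.IsGeometricallyReduced.of_injective gA hginj
    exact ⟨AdicCompletion (IsLocalRing.maximalIdeal B₀) B₀, inferInstance, inferInstance, algA, hlh,
      ⟨inferInstance, hBcN, inferInstance, hθflat, hθmax, hgeom⟩,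
      ⟨AlgEquiv.ofBijective gA ⟨hginj, hgsurj⟩⟩⟩
  · -- uniqueness
    intro B B' _ _ _ _ _ _ _ _ hB hB' ⟨e⟩ ⟨e'⟩
    have hfs := Groth.Agent.S2454.result hB
    obtain ⟨hAN, hBN, hBc, hBfl, hBm, -⟩ := hB
    obtain ⟨-, hB'N, hB'c, hB'fl, hB'm, -⟩ := hB'
    haveI := hAN
    haveI := hBN
    haveI := hBc
    haveI := hB'N
    haveI := hB'c
    haveI := hB'fl
    let ρ : IsLocalRing.ResidueField B →ₐ[IsLocalRing.ResidueField A] IsLocalRing.ResidueField B' :=
      (e'.symm : K →ₐ[IsLocalRing.ResidueField A] IsLocalRing.ResidueField B').comp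
        (e : IsLocalRing.ResidueField B →ₐ[IsLocalRing.ResidueField A] K)
    have hρinj : Function.Injective ρ := ρ.toRingHom.injective
    have hρsurj : Function.Surjective ρ := e'.symm.surjective.comp e.surjective
    let u : B →ₐ[A] B' ⧸ IsLocalRing.maximalIdeal B' :=
      { (ρ.toRingHom.comp (IsLocalRing.residue B) : B →+* B' ⧸ IsLocalRing.maximalIdeal B') with
        commutes' := by
          intro a
          show ρ (IsLocalRing.residue B (algebraMap A B a)) = _
          rw [← IsLocalRing.ResidueField.algebraMap_residue, AlgHom.commutes,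
            IsLocalRing.ResidueField.algebraMap_residue]
          rfl }
    have hu_apply : ∀ b : B, u b = ρ (IsLocalRing.residue B b) := fun b => rfl
    have hA : (IsLocalRing.maximalIdeal A).map (algebraMap A B') ≤ IsLocalRing.maximalIdeal B' :=
      le_of_eq hB'm
    have hu : (IsLocalRing.maximalIdeal B).map u.toRingHom ≤
        (IsLocalRing.maximalIdeal B').map (Ideal.Quotient.mk (IsLocalRing.maximalIdeal B')) := by
      rw [Ideal.map_le_iff_le_comap]
      intro b hb
      rw [Ideal.mem_comap]
      have h0 : u.toRingHom b = 0 := by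
        show u b = 0
        rw [hu_apply, (IsLocalRing.residue_eq_zero_iff b).mpr hb, map_zero]
        rfl
      rw [h0]
      exact Ideal.zero_mem _
    obtain ⟨v, -, hvu⟩ := Groth.Agent.S2462.result (IsLocalRing.maximalIdeal A)
      (IsLocalRing.maximalIdeal B) hfs hA (IsLocalRing.maximalIdeal B') Ideal.IsPrime.ne_top' u hu
    have hvu' : ∀ b : B, Ideal.Quotient.mk (IsLocalRing.maximalIdeal B') (v b) = u b :=
      fun b => AlgHom.congr_fun hvu b
    have hIm : (IsLocalRing.maximalIdeal B).map v.toRingHom = IsLocalRing.maximalIdeal B' := by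
      rw [← hBm, Ideal.map_map]
      have h1 : v.toRingHom.comp (algebraMap A B) = algebraMap A B' := v.comp_algebraMap
      rw [h1, hB'm]
    have hmem : ∀ b : B, v b ∈ IsLocalRing.maximalIdeal B' ↔ b ∈ IsLocalRing.maximalIdeal B := by
      intro b
      rw [← Ideal.Quotient.eq_zero_iff_mem, hvu', hu_apply, ← IsLocalRing.residue_eq_zero_iff]
      constructor
      · intro h
        exact hρinj (h.trans (map_zero ρ).symm)
      · intro h
        rw [h, map_zero]
        rfl
    have hsurj : Function.Surjective v := by
      haveI : IsHausdorff ((IsLocalRing.maximalIdeal B).map v.toRingHom) B' := by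
        rw [hIm]; infer_instance
      have := surjective_of_mk_map_comp_surjective v.toRingHom (I := IsLocalRing.maximalIdeal B) ?_
      · exact this
      intro y
      obtain ⟨r, rfl⟩ := Ideal.Quotient.mk_surjective y
      obtain ⟨t, ht⟩ := hρsurj (IsLocalRing.residue B' r)
      obtain ⟨b, rfl⟩ := IsLocalRing.residue_surjective t
      refine ⟨b, ?_⟩
      rw [RingHom.comp_apply, Ideal.Quotient.eq, hIm, ← Ideal.Quotient.eq]
      show Ideal.Quotient.mk (IsLocalRing.maximalIdeal B') (v b) = _
      rw [hvu', hu_apply, ht]
      rfl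
    have hinj : Function.Injective v := by
      apply Groth.Agent.Lib.Helper7.CohenAlg7.injective_of_flat (IsLocalRing.maximalIdeal A)
        (IsLocalRing.maximalIdeal A).fg_of_isNoetherianRing ?_ v hsurj ?_
      · rw [hBm, IsLocalRing.jacobson_eq_maximalIdeal ⊥ bot_ne_top]
      · intro b hb
        rw [hB'm] at hb
        rw [hBm]
        exact (hmem b).mp hb
    exact ⟨AlgEquiv.ofBijective v ⟨hinj, hsurj⟩⟩

end Groth.Agent.S2455
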