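import Groth.Statements.S2458
import Mathlib
import Groth.Agent.Lib.Helper7.CohenExist
import Groth.Agent.Lib.Helper7.SqZeroReg
import Groth.Agent.S0579
import Groth.Agent.S2456

set_option autoImplicit false
universe u
open EGA41

namespace Groth.Agent.S2458

open IsLocalRing in
/-- Let A be an Artinian local ring whose maximal ideal 𝔪 satisfies 𝔪² = 0. Then there is a regular
local ring B with maximal ideal 𝔫 such that A ≅ B/𝔫². -/
theorem result {A : Type u} [CommRing A] [IsLocalRing A] [IsArtinianRing A]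
    (h : maximalIdeal A ^ 2 = ⊥) :
    ∃ (B : Type u) (_ : CommRing B) (_ : IsRegularLocalRing B), Nonempty (A ≃+* B ⧸ IsLocalRing.maximalIdeal B ^ 2) := by
  classical
  by_cases h0 : CharZero (IsLocalRing.ResidueField A)
  · obtain ⟨s, hs⟩ := Groth.Agent.S0579.result A
    refine Groth.Agent.Lib.Helper7.SqZeroReg.exists_regular_of_coeff h s ?_ 0 ?_ (Or.inl rfl)
    · intro y
      exact ⟨y, congrArg (fun g : IsLocalRing.ResidueField A →+* IsLocalRing.ResidueField A => g y) hs⟩
    · rw [IsLocalRing.maximalIdeal_eq_bot, Ideal.span_singleton_eq_bot.mpr rfl]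
  · obtain ⟨p, hp⟩ := CharP.exists (IsLocalRing.ResidueField A)
    have hp0 : p ≠ 0 := by
      intro hh
      subst hh
      exact h0 (CharP.charP_to_charZero _)
    haveI : Fact p.Prime :=
      ⟨(CharP.char_is_prime_or_zero (IsLocalRing.ResidueField A) p).resolve_right hp0⟩
    obtain ⟨Λ, hring, hloc, hdom, hdvr, hN, hcompl, hmax, ⟨e⟩⟩ :=
      Groth.Agent.Lib.Helper7.CohenExist.exists_cohen p (IsLocalRing.ResidueField A)
    letI := hring
    haveI := hloc
    haveI := hN
    haveI := hcompl
    haveI := hdom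
    haveI := hdvr
    have hcohen : CAlg.IsCohenRing Λ := ⟨hdom, hdvr, hcompl, p, (Fact.out : p.Prime), hmax⟩
    haveI : IsLocalRing (A ⧸ IsLocalRing.maximalIdeal A) :=
      inferInstanceAs (IsLocalRing (IsLocalRing.ResidueField A))
    let u : Λ →+* A ⧸ IsLocalRing.maximalIdeal A := e.toRingHom.comp (IsLocalRing.residue Λ)
    haveI : IsLocalHom u := by
      refine ⟨fun a ha => ?_⟩
      by_contra hnu
      have h1 : IsLocalRing.residue Λ a = 0 :=
        (IsLocalRing.residue_eq_zero_iff a).mpr ((IsLocalRing.mem_maximalIdeal a).mpr hnu)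
      have h2 : u a = 0 := by
        show e (IsLocalRing.residue Λ a) = 0
        rw [h1, map_zero]
      rw [h2] at ha
      exact not_isUnit_zero ha
    obtain ⟨v, hv, hvu⟩ := Groth.Agent.S2456.result (W := Λ) (C := A) (Or.inr hcohen)
      (IsLocalRing.maximalIdeal A) Ideal.IsPrime.ne_top' u
    have hvu' : ∀ a : Λ, IsLocalRing.residue A (v a) = e (IsLocalRing.residue Λ a) :=
      fun a => congrArg (fun g : Λ →+* A ⧸ IsLocalRing.maximalIdeal A => g a) hvu
    have hvsurj : Function.Surjective ((IsLocalRing.residue A).comp v) := by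
      intro y
      obtain ⟨a, ha⟩ := IsLocalRing.residue_surjective (e.symm y)
      refine ⟨a, ?_⟩
      rw [RingHom.comp_apply, hvu', ha, RingEquiv.apply_symm_apply]
    by_cases hvp : v (p : Λ) = 0
    · -- equal characteristic: build a coefficient field
      have hkill : ∀ a ∈ IsLocalRing.maximalIdeal Λ, v a = 0 := by
        intro a ha
        rw [hmax, Ideal.mem_span_singleton'] at ha
        obtain ⟨b, rfl⟩ := ha
        rw [map_mul, hvp, mul_zero]
      let σ₀ : IsLocalRing.ResidueField Λ →+* A :=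
        Ideal.Quotient.lift (IsLocalRing.maximalIdeal Λ) v hkill
      have hσ₀ : ∀ a : Λ, σ₀ (IsLocalRing.residue Λ a) = v a := fun a =>
        Ideal.Quotient.lift_mk _ _ _
      let σ : IsLocalRing.ResidueField A →+* A := σ₀.comp e.symm.toRingHom
      refine Groth.Agent.Lib.Helper7.SqZeroReg.exists_regular_of_coeff h σ ?_ 0 ?_ (Or.inl rfl)
      · intro y
        refine ⟨y, ?_⟩
        obtain ⟨a, ha⟩ := IsLocalRing.residue_surjective (e.symm y)
        show IsLocalRing.residue A (σ₀ (e.symm y)) = y
        rw [← ha, hσ₀, hvu', ha, RingEquiv.apply_symm_apply]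
      · rw [IsLocalRing.maximalIdeal_eq_bot, Ideal.span_singleton_eq_bot.mpr rfl]
    · exact Groth.Agent.Lib.Helper7.SqZeroReg.exists_regular_of_coeff h v hvsurj (p : Λ) hmax
        (Or.inr hvp)

end Groth.Agent.S2458
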