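import Groth.Statements.S2459
import Mathlib
import Groth.Agent.Lib.Helper7.CohenExist
import Groth.Agent.S2456

set_option autoImplicit false
universe u
open EGA41

namespace Groth.Agent.S2459

theorem map_maximalIdeal_of_surjective {W A : Type*} [CommRing W] [IsLocalRing W] [CommRing A]
    [IsLocalRing A] (f : W →+* A) (hf : Function.Surjective f) :
    IsLocalRing.maximalIdeal A = (IsLocalRing.maximalIdeal W).map f := by
  have hloc : ∀ w : W, IsUnit (f w) → IsUnit w := by
    intro w hw
    obtain ⟨a', ha'⟩ := hw.exists_right_inv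
    obtain ⟨w', rfl⟩ := hf a'
    by_contra hnu
    have h1 : w * w' - 1 ∈ RingHom.ker f := by
      rw [RingHom.mem_ker, map_sub, map_mul, ha', map_one, sub_self]
    have hker : RingHom.ker f ≤ IsLocalRing.maximalIdeal W :=
      IsLocalRing.le_maximalIdeal (RingHom.ker_ne_top f)
    have h2 : w * w' ∈ IsLocalRing.maximalIdeal W :=
      Ideal.mul_mem_right _ _ ((IsLocalRing.mem_maximalIdeal w).mpr hnu)
    have h3 : (1 : W) ∈ IsLocalRing.maximalIdeal W := by
      have h4 := Ideal.sub_mem _ h2 (hker h1)
      rwa [sub_sub_cancel] at h4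
    exact (Ideal.ne_top_iff_one _).mp Ideal.IsPrime.ne_top' h3
  apply le_antisymm
  · intro a ha
    obtain ⟨w, rfl⟩ := hf a
    refine Ideal.mem_map_of_mem f ((IsLocalRing.mem_maximalIdeal w).mpr fun hu => ?_)
    exact (IsLocalRing.mem_maximalIdeal _).mp ha (hu.map f)
  · rw [Ideal.map_le_iff_le_comap]
    intro w hw
    rw [Ideal.mem_comap, IsLocalRing.mem_maximalIdeal, mem_nonunits_iff]
    intro hu
    exact (IsLocalRing.mem_maximalIdeal w).mp hw (hloc w hu)

open IsLocalRing in
/-- Let A be an Artinian local ring with maximal ideal 𝔪 and residue field of characteristic p (p = 0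
allowed). Then A is isomorphic to a quotient of a Cohen ring if and only if 𝔪 is generated by p·1. -/
theorem result {A : Type u} [CommRing A] [IsLocalRing A] [IsArtinianRing A]
    (p : ℕ) [CharP (ResidueField A) p] :
    (∃ (W : Type u) (_ : CommRing W) (I : Ideal W), EGA41.IsCohenRingEGA W ∧ Nonempty (A ≃+* W ⧸ I)) ↔
      maximalIdeal A = Ideal.span {(p : A)} := by
  classical
  constructor
  · rintro ⟨W, hWring, I, hW, ⟨e⟩⟩
    letI := hWring
    let f : W →+* A := e.symm.toRingHom.comp (Ideal.Quotient.mk I)
    have hf : Function.Surjective f := e.symm.surjective.comp Ideal.Quotient.mk_surjective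
    rcases hW with ⟨hfield, hchar⟩ | ⟨hdom, hdvr, hcompl, q, hq, hmax⟩
    · letI := hfield.toField
      have hinj : Function.Injective f := f.injective
      have hm : maximalIdeal A = ⊥ := by
        rw [eq_bot_iff]
        intro a ha
        obtain ⟨w, rfl⟩ := hf a
        rw [Ideal.mem_bot]
        by_contra hne
        have hw : w ≠ 0 := fun h => hne (by rw [h, map_zero])
        exact (IsLocalRing.mem_maximalIdeal _).mp ha ((isUnit_iff_ne_zero.mpr hw).map f)
      have hpA : (p : A) ∈ maximalIdeal A := by
        rw [← IsLocalRing.residue_eq_zero_iff, map_natCast]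
        exact CharP.cast_eq_zero _ p
      rw [hm, Ideal.mem_bot] at hpA
      have hpW : (p : W) = 0 := by
        apply hinj
        rw [map_natCast, map_zero]; exact hpA
      have hp0 : p = 0 := Nat.cast_eq_zero.mp hpW
      rw [hm, hp0, Nat.cast_zero, Ideal.span_singleton_eq_bot.mpr rfl]
    · have hmap : maximalIdeal A = (maximalIdeal W).map f := map_maximalIdeal_of_surjective f hf
      have hqA : maximalIdeal A = Ideal.span {(q : A)} := by
        rw [hmap, hmax, Ideal.map_span, Set.image_singleton, map_natCast]
      have hqmem : (q : A) ∈ maximalIdeal A := by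
        rw [hqA]; exact Ideal.mem_span_singleton_self _
      have hq0 : (q : IsLocalRing.ResidueField A) = 0 := by
        rw [← map_natCast (IsLocalRing.residue A)]
        exact (IsLocalRing.residue_eq_zero_iff _).mpr hqmem
      have hpq : p ∣ q := (CharP.cast_eq_zero_iff (IsLocalRing.ResidueField A) p q).mp hq0
      have hpq' : p = q := by
        rcases CharP.char_is_prime_or_zero (IsLocalRing.ResidueField A) p with hp | hp
        · exact (Nat.prime_dvd_prime_iff_eq hp hq).mp hpq
        · subst hp
          exact absurd (zero_dvd_iff.mp hpq) hq.ne_zero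
      rw [hpq']; exact hqA
  · intro hm
    rcases CharP.char_is_prime_or_zero (IsLocalRing.ResidueField A) p with hp | hp
    · haveI : Fact p.Prime := ⟨hp⟩
      obtain ⟨Λ, hring, hloc, hdom, hdvr, hN, hcompl, hmax, ⟨e⟩⟩ :=
        Groth.Agent.Lib.Helper7.CohenExist.exists_cohen p (IsLocalRing.ResidueField A)
      letI := hring
      haveI := hloc
      haveI := hN
      haveI := hcompl
      have hcohen : CAlg.IsCohenRing Λ := ⟨hdom, hdvr, hcompl, p, hp, hmax⟩
      haveI : IsLocalRing (A ⧸ IsLocalRing.maximalIdeal A) :=
        inferInstanceAs (IsLocalRing (IsLocalRing.ResidueField A))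
      let u : Λ →+* A ⧸ IsLocalRing.maximalIdeal A := e.toRingHom.comp (IsLocalRing.residue Λ)
      haveI : IsLocalHom u := by
        refine ⟨fun a ha => ?_⟩
        by_contra hnu
        have h1 : IsLocalRing.residue Λ a = 0 :=
          (IsLocalRing.residue_eq_zero_iff a).mpr ((IsLocalRing.mem_maximalIdeal a).mpr hnu)
        have h2 : u a = 0 := by
          show e (IsLocalRing.residue Λ a) = 0
          rw [h1, map_zero]
        rw [h2] at ha
        exact not_isUnit_zero ha
      obtain ⟨v, hv, hvu⟩ := Groth.Agent.S2456.result (W := Λ) (C := A) (Or.inr hcohen)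
        (IsLocalRing.maximalIdeal A) Ideal.IsPrime.ne_top' u
      have hIm : (IsLocalRing.maximalIdeal Λ).map v = IsLocalRing.maximalIdeal A := by
        rw [hmax, Ideal.map_span, Set.image_singleton, map_natCast, ← hm]
      have hsurj : Function.Surjective v := by
        haveI : IsHausdorff ((IsLocalRing.maximalIdeal Λ).map v) A := by
          rw [hIm]; infer_instance
        apply surjective_of_mk_map_comp_surjective v (I := IsLocalRing.maximalIdeal Λ)
        intro y
        obtain ⟨r, rfl⟩ := Ideal.Quotient.mk_surjective y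
        obtain ⟨a, ha⟩ := IsLocalRing.residue_surjective (e.symm (IsLocalRing.residue A r))
        refine ⟨a, ?_⟩
        rw [RingHom.comp_apply, Ideal.Quotient.eq, hIm, ← Ideal.Quotient.eq]
        have h3 : (Ideal.Quotient.mk (IsLocalRing.maximalIdeal A)) (v a) = u a :=
          congrArg (fun g : Λ →+* A ⧸ IsLocalRing.maximalIdeal A => g a) hvu
        rw [h3]
        show e (IsLocalRing.residue Λ a) = _
        rw [ha, RingEquiv.apply_symm_apply]
        rfl
      exact ⟨Λ, hring, RingHom.ker v, Or.inr hcohen,
        ⟨(RingHom.quotientKerEquivOfSurjective hsurj).symm⟩⟩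
    · subst hp
      have hm0 : maximalIdeal A = ⊥ := by
        rw [hm, Nat.cast_zero, Ideal.span_singleton_eq_bot.mpr rfl]
      have hfield : IsField A := IsLocalRing.isField_iff_maximalIdeal_eq.mpr hm0
      haveI : CharZero (IsLocalRing.ResidueField A) := CharP.charP_to_charZero _
      have hchar : CharZero A := (IsLocalRing.residue A).charZero
      exact ⟨A, inferInstance, ⊥, Or.inl ⟨hfield, hchar⟩, ⟨(RingEquiv.quotientBot A).symm⟩⟩

end Groth.Agent.S2459
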