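import Groth.Statements.S2466
import Mathlib
import Groth.Agent.Lib.Helper21.PBasisC

set_option autoImplicit false
universe u
open EGA41

namespace Groth.Agent.S2466

/-- Let p be a prime, B an A-algebra of characteristic p and (x_α) a p-basis of B over A. Then the
family of differentials (d_{B/A} x_α) is a basis of the B-module Ω_{B/A}. -/
theorem result (p : ℕ) [Fact p.Prime] {A B : Type u} [CommRing A] [CommRing B] [Algebra A B] [CharP B p]
    {ι : Type u} (x : ι → B) (hx : EGA41.IsPBasis p A x) :
    ∃ b : Module.Basis ι B (Ω[B⁄A]), ∀ i, b i = KaehlerDifferential.D A B (x i) := by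
  classical
  have hp : 0 < p := (Fact.out : p.Prime).pos
  have h := Groth.Agent.Lib.Helper21.PBasis.isQBasis_of_isPBasis p A x hx
  -- the derivation into `ι →₀ B`
  obtain ⟨D', ⟨hD1, hD2⟩, -⟩ := Groth.Agent.Lib.Helper21.PBasis.existsUnique_derivation
    (M := ι →₀ B) h hp
    (Groth.Agent.Lib.Helper21.PBasis.cpow p A x)
    (Groth.Agent.Lib.Helper21.PBasis.algebraMap_cpow p A x)
    (fun _ => 0) (fun _ _ => (add_zero _).symm) (fun _ _ => by simp)
    (fun i => Finsupp.single i 1)
    (fun i => Groth.Agent.Lib.Helper21.PBasis.nsmul_eq_zero_of_charP p B _)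
  -- upgrade to an `A`-derivation
  let DA : Derivation A B (ι →₀ B) := Derivation.mk'
    { toFun := D'
      map_add' := map_add D'
      map_smul' := fun a b => by
        have ha : D' (algebraMap A B a) = 0 :=
          hD1 (algebraMap A (↥(EGA41.pPowerSubalgebra p A B)) a)
        rw [RingHom.id_apply, Algebra.smul_def, Derivation.leibniz, ha, smul_zero, add_zero,
          algebraMap_smul] }
    (fun a b => Derivation.leibniz D' a b)
  have hDA : ∀ b, DA b = D' b := fun b => rfl
  let ℓ : Ω[B⁄A] →ₗ[B] (ι →₀ B) := DA.liftKaehlerDifferential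
  have hℓ : ∀ b, ℓ (KaehlerDifferential.D A B b) = D' b := fun b => by
    rw [← hDA]; exact Derivation.liftKaehlerDifferential_comp_D DA b
  have hli : LinearIndependent B (fun i => KaehlerDifferential.D A B (x i)) := by
    apply LinearIndependent.of_comp ℓ
    have : (ℓ ∘ fun i => KaehlerDifferential.D A B (x i)) = fun i => Finsupp.single i (1 : B) := by
      funext i
      simp only [Function.comp_apply, hℓ, hD2]
    rw [this]
    exact Finsupp.linearIndependent_single_one B ι
  have hsp : ⊤ ≤ Submodule.span B (Set.range fun i => KaehlerDifferential.D A B (x i)) := by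
    rw [← KaehlerDifferential.span_range_derivation A B, Submodule.span_le]
    rintro _ ⟨b, rfl⟩
    obtain ⟨f, rfl⟩ := Groth.Agent.Lib.Helper21.PBasis.aeval_surjective h b
    induction f using MvPolynomial.induction_on with
    | C c =>
      rw [MvPolynomial.aeval_C]
      have : KaehlerDifferential.D A B (algebraMap (↥(EGA41.pPowerSubalgebra p A B)) B c) = 0 :=
        Groth.Agent.Lib.Helper21.PBasis.derivation_eq_zero_of_mem p _ _ c.2
      rw [SetLike.mem_coe, this]
      exact zero_mem _
    | add f g hf hg =>
      rw [map_add, map_add]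
      exact add_mem hf hg
    | mul_X f i hf =>
      rw [map_mul, MvPolynomial.aeval_X, Derivation.leibniz]
      exact add_mem (Submodule.smul_mem _ _ (Submodule.subset_span ⟨i, rfl⟩))
        (Submodule.smul_mem _ _ hf)
  exact ⟨Module.Basis.mk hli hsp, fun i => by rw [Module.Basis.mk_apply]⟩

end Groth.Agent.S2466
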