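import Groth.Statements.S2467
import Mathlib
import Groth.Agent.Lib.Helper21.PBasisF

set_option autoImplicit false
universe u
open EGA41

namespace Groth.Agent.S2467

/-- Let k ⊆ K be fields of characteristic p > 0, S ⊆ K a system of p-generators of K over k and L ⊆ S a
subset which is p-free over k. Then there is a p-basis B of K over k with L ⊆ B ⊆ S. In particular
every extension of k has a p-basis over k. -/
theorem result (p : ℕ) [Fact p.Prime] {k K : Type u} [Field k] [Field K] [Algebra k K] [CharP K p]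
    (S L : Set K) (hLS : L ⊆ S) (hS : EGA41.IsPGenerating p k (Subtype.val : S → K)) (hL : EGA41.IsPIndependent p k (Subtype.val : L → K)) :
    ∃ B : Set K, L ⊆ B ∧ B ⊆ S ∧ EGA41.IsPBasis p k (Subtype.val : B → K) := by
  have hp : 0 < p := (Fact.out : p.Prime).pos
  have hL' : Groth.Agent.Lib.Helper21.PBasis.PIndSet p k L :=
    (Groth.Agent.Lib.Helper21.PBasis.pInd_val_iff p k L).mp
      ((Groth.Agent.Lib.Helper21.PBasis.isPIndependent_iff_poly p k _).mp hL)
  have hS' : Algebra.adjoin ↥(EGA41.pPowerSubalgebra p k K) S = ⊤ := by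
    have h1 := (Groth.Agent.Lib.Helper21.PBasis.isPGenerating_iff_surj p k _ hp).mp hS
    rw [← AlgHom.range_eq_top, ← Algebra.adjoin_range_eq_range_aeval, Subtype.range_coe] at h1
    exact h1
  obtain ⟨B, hLB, hBS, hB, hBtop⟩ :=
    Groth.Agent.Lib.Helper21.PBasis.exists_between p k S L hLS hS' hL'
  refine ⟨B, hLB, hBS, ?_, ?_⟩
  · exact (Groth.Agent.Lib.Helper21.PBasis.isPIndependent_iff_poly p k _).mpr
      ((Groth.Agent.Lib.Helper21.PBasis.pInd_val_iff p k B).mpr hB)
  · rw [Groth.Agent.Lib.Helper21.PBasis.isPGenerating_iff_surj p k _ hp, ← AlgHom.range_eq_top,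
      ← Algebra.adjoin_range_eq_range_aeval, Subtype.range_coe]
    exact hBtop

end Groth.Agent.S2467
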