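import Groth.Statements.S2470
import Groth.Agent.Lib.Helper27.RegHom
import Groth.Agent.Lib.Helper26.RegularRing
import Groth.Agent.Lib.Helper4.FlatRing
import Groth.Agent.Lib.Helper4.RegCM
import Groth.Agent.S2082

set_option autoImplicit false
universe u
open EGA41

namespace Groth.Agent.S2470

open IsLocalRing in
/-- Let A → B be a local homomorphism of Noetherian local rings with maximal ideals 𝔪, 𝔫 and residue
fields k, k', and let B₀ = B/𝔪B be the closed fibre. The following are equivalent: (a) B is regular
and the canonical map (𝔪/𝔪²) ⊗_k k' → 𝔫/𝔫² is injective — stated here through dimensions, as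
rank_{k'} 𝔫/𝔫² = rank_k 𝔪/𝔪² + rank_{k'} of the cotangent space of B₀, which is equivalent since the
cokernel of that map is the cotangent space of B₀; (c) B and B₀ are regular and B is flat over A;
(d) A and B₀ are regular and B is flat over A; (e) A and B₀ are regular and dim B = dim A + dim B₀.
(Condition (b) of the source, on regular systems of parameters, is not stated.) -/
theorem result {A B : Type u} [CommRing A] [IsLocalRing A] [IsNoetherianRing A] [CommRing B] [IsLocalRing B] [IsNoetherianRing B]
    [Algebra A B] [IsLocalHom (algebraMap A B)] [IsLocalRing (B ⧸ (maximalIdeal A).map (algebraMap A B))] :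
    [IsRegularLocalRing B ∧
       Module.finrank (ResidueField B) (CotangentSpace B) =
         Module.finrank (ResidueField A) (CotangentSpace A) +
           Module.finrank (ResidueField (B ⧸ (maximalIdeal A).map (algebraMap A B))) (CotangentSpace (B ⧸ (maximalIdeal A).map (algebraMap A B))),
     IsRegularLocalRing B ∧ IsRegularLocalRing (B ⧸ (maximalIdeal A).map (algebraMap A B)) ∧ Module.Flat A B,
     IsRegularLocalRing A ∧ IsRegularLocalRing (B ⧸ (maximalIdeal A).map (algebraMap A B)) ∧ Module.Flat A B,
     IsRegularLocalRing A ∧ IsRegularLocalRing (B ⧸ (maximalIdeal A).map (algebraMap A B)) ∧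
       ringKrullDim B = ringKrullDim A + ringKrullDim (B ⧸ (maximalIdeal A).map (algebraMap A B))].TFAE := by
  classical
  have hrA := IsLocalRing.spanFinrank_maximalIdeal_eq_finrank_cotangentSpace (R := A)
  have hrB := IsLocalRing.spanFinrank_maximalIdeal_eq_finrank_cotangentSpace (R := B)
  have hr0 := IsLocalRing.spanFinrank_maximalIdeal_eq_finrank_cotangentSpace
    (R := B ⧸ (maximalIdeal A).map (algebraMap A B))
  have hdimle := Groth.Agent.Lib.Helper27.RegHom.dim_le (A := A) (B := B)
  have hdA := ringKrullDim_le_spanFinrank_maximalIdeal A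
  have hdB := ringKrullDim_le_spanFinrank_maximalIdeal B
  tfae_have 1 → 2 := by
    rintro ⟨hB, heq⟩
    rw [← hrA, ← hrB, ← hr0] at heq
    obtain ⟨y, hy, hli⟩ := Groth.Agent.Lib.Helper27.RegHom.linearIndependent_of_eq heq
    haveI := hB
    obtain ⟨hdim, hreg⟩ := Groth.Agent.Lib.Helper9.RegLocal.quotient_regular B _ y hli
    haveI := hreg
    have hreg0 : IsRegularLocalRing (B ⧸ (maximalIdeal A).map (algebraMap A B)) :=
      IsRegularLocalRing.of_ringEquiv (Ideal.quotEquivOfEq hy)
    have hdim0 : ringKrullDim (B ⧸ (maximalIdeal A).map (algebraMap A B)) +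
        ((maximalIdeal A).spanFinrank : ℕ) = ringKrullDim B := by
      rw [← ringKrullDim_eq_of_ringEquiv (Ideal.quotEquivOfEq hy)]; exact hdim
    have hs0 : ((maximalIdeal (B ⧸ (maximalIdeal A).map (algebraMap A B))).spanFinrank :
        WithBot ℕ∞) = ringKrullDim (B ⧸ (maximalIdeal A).map (algebraMap A B)) :=
      hreg0.spanFinrank_maximalIdeal
    have e1 : (((maximalIdeal A).spanFinrank +
        (maximalIdeal (B ⧸ (maximalIdeal A).map (algebraMap A B))).spanFinrank : ℕ) :
        WithBot ℕ∞) = ringKrullDim B := by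
      rw [Nat.cast_add, add_comm, hs0]; exact hdim0
    have hA : ringKrullDim A = ((maximalIdeal A).spanFinrank : ℕ) := by
      apply Groth.Agent.Lib.Helper9.RegLocal.withBot_eq_of_le_of_add_le
        (r := (maximalIdeal (B ⧸ (maximalIdeal A).map (algebraMap A B))).spanFinrank) hdA
      rw [e1, hs0]; exact hdimle
    haveI hAreg : IsRegularLocalRing A := (isRegularLocalRing_iff A).mpr hA.symm
    have hdimeq : ringKrullDim B = ringKrullDim A +
        ringKrullDim (B ⧸ (maximalIdeal A).map (algebraMap A B)) := by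
      rw [← hdim0, hA]; exact add_comm _ _
    haveI : LocCoh.IsCohenMacaulayLocalRing B :=
      Groth.Agent.Lib.Helper4.RegCM.isCohenMacaulayLocalRing B
    exact ⟨hB, hreg0, Groth.Agent.S2082.result hdimeq⟩
  tfae_have 2 → 3 := by
    rintro ⟨hB, h0, hfl⟩
    haveI := hB
    haveI := hfl
    exact ⟨Groth.Agent.Lib.Helper26.RegularRing.isRegularLocalRing_of_flat A B, h0, hfl⟩
  tfae_have 3 → 4 := by
    rintro ⟨hA, h0, hfl⟩
    haveI := hfl
    exact ⟨hA, h0, Groth.Agent.Lib.Helper4.FlatRing.dim_eq_add_fibRing A B⟩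
  tfae_have 4 → 1 := by
    rintro ⟨hA, h0, hdim⟩
    have hle := Groth.Agent.Lib.Helper27.RegHom.spanFinrank_le (A := A) (B := B)
    have hsA : ((maximalIdeal A).spanFinrank : WithBot ℕ∞) = ringKrullDim A :=
      hA.spanFinrank_maximalIdeal
    have hs0 : ((maximalIdeal (B ⧸ (maximalIdeal A).map (algebraMap A B))).spanFinrank :
        WithBot ℕ∞) = ringKrullDim (B ⧸ (maximalIdeal A).map (algebraMap A B)) :=
      h0.spanFinrank_maximalIdeal
    have e1 : (((maximalIdeal A).spanFinrank +
        (maximalIdeal (B ⧸ (maximalIdeal A).map (algebraMap A B))).spanFinrank : ℕ) :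
        WithBot ℕ∞) = ringKrullDim B := by
      rw [Nat.cast_add, hsA, hs0, hdim]
    have h1 : ((maximalIdeal B).spanFinrank : WithBot ℕ∞) ≤ ringKrullDim B := by
      rw [← e1]; exact_mod_cast hle
    have hBreg : IsRegularLocalRing B := IsRegularLocalRing.of_spanFinrank_maximalIdeal_le B h1
    refine ⟨hBreg, ?_⟩
    rw [← hrA, ← hrB, ← hr0]
    have h2 : (((maximalIdeal A).spanFinrank +
        (maximalIdeal (B ⧸ (maximalIdeal A).map (algebraMap A B))).spanFinrank : ℕ) :
        WithBot ℕ∞) ≤ ((maximalIdeal B).spanFinrank : WithBot ℕ∞) := by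
      rw [e1]; exact hdB
    have h3 : (maximalIdeal A).spanFinrank +
        (maximalIdeal (B ⧸ (maximalIdeal A).map (algebraMap A B))).spanFinrank ≤
        (maximalIdeal B).spanFinrank := by exact_mod_cast h2
    omega
  tfae_finish

end Groth.Agent.S2470
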