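import Groth.Statements.S2474
import Groth.Agent.S4615

set_option autoImplicit false
set_option linter.style.haveILetI false
universe u
open EGA41

namespace Groth.Agent.S2474

open TensorProduct

/-- The extension of the maximal ideal of a local ring to an algebra. -/
abbrev mC (A C : Type u) [CommRing A] [IsLocalRing A] [CommRing C] [Algebra A C] : Ideal C :=
  (IsLocalRing.maximalIdeal A).map (algebraMap A C)

/-- A module-finite algebra over a local ring has finitely many maximal ideals. -/
theorem finite_isMaximal_of_finite_local (A C : Type u) [CommRing A] [IsLocalRing A] [CommRing C]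
    [Algebra A C] [Module.Finite A C] : {m : Ideal C | m.IsMaximal}.Finite := by
  classical
  letI : Field (A ⧸ IsLocalRing.maximalIdeal A) := Ideal.Quotient.field _
  haveI : Module.Finite A (C ⧸ mC A C) :=
    Module.Finite.of_surjective (Ideal.Quotient.mkₐ A (mC A C)).toLinearMap
      Ideal.Quotient.mk_surjective
  haveI : Module.Finite (A ⧸ IsLocalRing.maximalIdeal A) (C ⧸ mC A C) :=
    Module.Finite.of_restrictScalars_finite A _ _
  haveI : IsArtinianRing (C ⧸ mC A C) :=
    IsArtinianRing.of_finite (A ⧸ IsLocalRing.maximalIdeal A) _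
  have hfin := IsArtinianRing.setOfPred_isMaximal_finite (C ⧸ mC A C)
  refine (hfin.image (Ideal.comap (Ideal.Quotient.mk (mC A C)))).subset ?_
  intro m hm
  have hm' : m.IsMaximal := hm
  haveI := hm'
  haveI : Algebra.IsIntegral A C := Algebra.IsIntegral.of_finite A C
  have hcomap : (m.comap (algebraMap A C)).IsMaximal :=
    Ideal.isMaximal_comap_of_isIntegral_of_isMaximal (R := A) m
  have heq : m.comap (algebraMap A C) = IsLocalRing.maximalIdeal A :=
    IsLocalRing.eq_maximalIdeal hcomap
  have hle : mC A C ≤ m := by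
    show Ideal.map _ _ ≤ m
    rw [Ideal.map_le_iff_le_comap, heq]
  have hcm : (m.map (Ideal.Quotient.mk (mC A C))).comap (Ideal.Quotient.mk (mC A C)) = m := by
    rw [Ideal.comap_map_of_surjective _ Ideal.Quotient.mk_surjective, ← RingHom.ker_eq_comap_bot,
      Ideal.mk_ker]
    exact sup_eq_left.2 hle
  have hmax : (m.map (Ideal.Quotient.mk (mC A C))).IsMaximal := by
    rcases Ideal.map_eq_top_or_isMaximal_of_surjective (Ideal.Quotient.mk (mC A C))
      Ideal.Quotient.mk_surjective hm' with h | h
    · exfalso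
      rw [h, Ideal.comap_top] at hcm
      exact hm'.ne_top hcm.symm
    · exact h
  exact ⟨_, hmax, hcm⟩

/-- Key consequence of the stabilisation statement `S4615`: modulo any reduced quotient-like
target killing the maximal ideal of `A`, every element of the integral closure is congruent to an
element of `C_α`. -/
theorem key {A K' : Type u} [CommRing A] [IsLocalRing A]
    [Field K'] [Algebra A K'] (Cα : Subalgebra A K') (hfin : Module.Finite A Cα)
    (hfrac : ∀ x : K', ∃ a b : Cα, (b : K') ≠ 0 ∧ x * b = a)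
    (hint : Cα ≤ integralClosure A K')
    (h2 : ∀ C : Subalgebra A K',
      (Module.Finite A C ∧ ∀ x : K', ∃ a b : C, (b : K') ≠ 0 ∧ x * b = a) → ∀ hle : Cα ≤ C,
      ∀ y : ↥C ⊗[A] AdicCompletion (IsLocalRing.maximalIdeal A) A,
      ∃ x : ↥Cα ⊗[A] AdicCompletion (IsLocalRing.maximalIdeal A) A, IsNilpotent
        (Algebra.TensorProduct.map (Subalgebra.inclusion hle)
          (AlgHom.id A (AdicCompletion (IsLocalRing.maximalIdeal A) A)) x - y))
    (R : Type u) [CommRing R] [IsReduced R] (g : integralClosure A K' →+* R)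
    (hg : ∀ r ∈ IsLocalRing.maximalIdeal A, g (algebraMap A (integralClosure A K') r) = 0)
    (x : integralClosure A K') : ∃ a : Cα, g x = g (Subalgebra.inclusion hint a) := by
  classical
  have hx : IsIntegral A (x : K') := x.2
  haveI := hfin
  haveI : Module.Finite A (Algebra.adjoin A {(x : K')}) :=
    Algebra.finite_adjoin_simple_of_isIntegral hx
  haveI hCfin : Module.Finite A ↥(Cα ⊔ Algebra.adjoin A {(x : K')}) := Subalgebra.finite_sup _ _
  have hle : Cα ≤ Cα ⊔ Algebra.adjoin A {(x : K')} := le_sup_left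
  have hCint : Cα ⊔ Algebra.adjoin A {(x : K')} ≤ integralClosure A K' :=
    sup_le hint (Algebra.adjoin_le (by
      intro z hz
      rw [Set.mem_singleton_iff] at hz
      rw [hz]
      exact hx))
  have hxC : (x : K') ∈ Cα ⊔ Algebra.adjoin A {(x : K')} :=
    (le_sup_right : Algebra.adjoin A {(x : K')} ≤ Cα ⊔ Algebra.adjoin A {(x : K')})
      (Algebra.subset_adjoin rfl)
  have hCfrac : ∀ z : K', ∃ a b : ↥(Cα ⊔ Algebra.adjoin A {(x : K')}),
      (b : K') ≠ 0 ∧ z * b = a := by
    intro z
    obtain ⟨a, b, hb, hab⟩ := hfrac z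
    exact ⟨Subalgebra.inclusion hle a, Subalgebra.inclusion hle b, hb, hab⟩
  letI algR : Algebra A R := (g.comp (algebraMap A (integralClosure A K'))).toAlgebra
  let γ : ↥(Cα ⊔ Algebra.adjoin A {(x : K')}) →ₐ[A] R :=
    { toRingHom := g.comp (Subalgebra.inclusion hCint).toRingHom
      commutes' := fun a => by
        show g ((Subalgebra.inclusion hCint) (algebraMap A _ a)) =
          g (algebraMap A (integralClosure A K') a)
        rw [AlgHom.commutes] }
  have hker : ∀ a : A, a ∈ (IsLocalRing.maximalIdeal A) ^ 1 → (Algebra.ofId A R) a = 0 := by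
    intro a ha
    rw [pow_one] at ha
    exact hg a ha
  let ε₀ : (A ⧸ (IsLocalRing.maximalIdeal A) ^ 1) →ₐ[A] R :=
    Ideal.Quotient.liftₐ ((IsLocalRing.maximalIdeal A) ^ 1) (Algebra.ofId A R) hker
  have hε₀ : ∀ r : A, ε₀ (Ideal.Quotient.mk _ r) = g (algebraMap A (integralClosure A K') r) :=
    fun r => rfl
  let ε : AdicCompletion (IsLocalRing.maximalIdeal A) A →ₐ[A] R :=
    ε₀.comp (AdicCompletion.evalₐ (IsLocalRing.maximalIdeal A) 1)
  let ψ : ↥(Cα ⊔ Algebra.adjoin A {(x : K')}) ⊗[A]
      AdicCompletion (IsLocalRing.maximalIdeal A) A →ₐ[A] R :=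
    Algebra.TensorProduct.lift γ ε (fun _ _ => Commute.all _ _)
  have hψ : ∀ (c : ↥(Cα ⊔ Algebra.adjoin A {(x : K')}))
      (b : AdicCompletion (IsLocalRing.maximalIdeal A) A), ψ (c ⊗ₜ[A] b) = γ c * ε b :=
    fun c b => Algebra.TensorProduct.lift_tmul _ _ _ c b
  have hG : ∀ t : ↥Cα ⊗[A] AdicCompletion (IsLocalRing.maximalIdeal A) A, ∃ a : Cα,
      ψ (Algebra.TensorProduct.map (Subalgebra.inclusion hle)
        (AlgHom.id A (AdicCompletion (IsLocalRing.maximalIdeal A) A)) t) =
        g (Subalgebra.inclusion hint a) := by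
    intro t
    induction t using TensorProduct.induction_on with
    | zero => exact ⟨0, by simp⟩
    | tmul c b =>
      obtain ⟨r, hr⟩ := Ideal.Quotient.mk_surjective
        (AdicCompletion.evalₐ (IsLocalRing.maximalIdeal A) 1 b)
      refine ⟨c * algebraMap A Cα r, ?_⟩
      rw [Algebra.TensorProduct.map_tmul, hψ]
      have e1 : γ (Subalgebra.inclusion hle c) = g (Subalgebra.inclusion hint c) := rfl
      have e2 : ε (AlgHom.id A _ b) = g (Subalgebra.inclusion hint (algebraMap A Cα r)) := by
        show ε₀ (AdicCompletion.evalₐ (IsLocalRing.maximalIdeal A) 1 b) = _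
        rw [← hr, hε₀, AlgHom.commutes]
      rw [e1, e2, ← map_mul, ← map_mul]
    | add x y hx hy =>
      obtain ⟨a₁, h₁⟩ := hx
      obtain ⟨a₂, h₂⟩ := hy
      exact ⟨a₁ + a₂, by rw [map_add, map_add, h₁, h₂, map_add, map_add]⟩
  obtain ⟨t, ht⟩ := h2 _ ⟨hCfin, hCfrac⟩ hle
    ((⟨(x : K'), hxC⟩ : ↥(Cα ⊔ Algebra.adjoin A {(x : K')})) ⊗ₜ[A]
      (1 : AdicCompletion (IsLocalRing.maximalIdeal A) A))
  have hn := ht.map ψ
  rw [map_sub] at hn
  have hz := hn.eq_zero
  obtain ⟨a, ha⟩ := hG t
  refine ⟨a, ?_⟩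
  rw [← ha]
  have e : ψ ((⟨(x : K'), hxC⟩ : ↥(Cα ⊔ Algebra.adjoin A {(x : K')})) ⊗ₜ[A]
      (1 : AdicCompletion (IsLocalRing.maximalIdeal A) A)) = g x := by
    rw [hψ, map_one, mul_one]
    rfl
  rw [← e]
  exact (sub_eq_zero.mp hz).symm

open IsLocalRing in
/-- Let A be a Noetherian local domain with fraction field K, K' a finite extension of K and A' the
integral closure of A in K'. Then A' has only finitely many maximal ideals, and for every maximal
ideal 𝔪' of A' the field A'/𝔪' is a finite extension of the residue field of A (equivalently a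
finite A-module). -/
theorem result {A K' : Type u} [CommRing A] [IsDomain A] [IsLocalRing A] [IsNoetherianRing A]
    [Field K'] [Algebra A K'] [Algebra (FractionRing A) K'] [IsScalarTower A (FractionRing A) K'] [FiniteDimensional (FractionRing A) K'] :
    {m : Ideal (integralClosure A K') | m.IsMaximal}.Finite ∧
      ∀ (m : Ideal (integralClosure A K')), m.IsMaximal → Module.Finite A (integralClosure A K' ⧸ m) := by
  classical
  have h := Groth.Agent.S4615.result (A := A) (K' := K')
  dsimp only at h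
  obtain ⟨Cα, ⟨hCαfin, hCαfrac⟩, hstab, -⟩ := h
  haveI := hCαfin
  have hint : Cα ≤ integralClosure A K' := by
    intro x hx
    have h1 : IsIntegral A (⟨x, hx⟩ : Cα) := Algebra.IsIntegral.isIntegral _
    exact h1.map Cα.val
  have hkey := key Cα hCαfin hCαfrac hint (fun C hC hle => (hstab C hC hle).2)
  have hmax : ∀ m : Ideal (integralClosure A K'), m.IsMaximal →
      ∀ r ∈ IsLocalRing.maximalIdeal A, algebraMap A (integralClosure A K') r ∈ m := by
    intro m hm r hr
    haveI := hm
    have hcomap : (m.comap (algebraMap A (integralClosure A K'))).IsMaximal :=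
      Ideal.isMaximal_comap_of_isIntegral_of_isMaximal (R := A) m
    have heq := IsLocalRing.eq_maximalIdeal hcomap
    have : r ∈ m.comap (algebraMap A (integralClosure A K')) := by rw [heq]; exact hr
    exact this
  have hsurj : ∀ m : Ideal (integralClosure A K'), m.IsMaximal →
      Function.Surjective
        ((Ideal.Quotient.mk m).comp (Subalgebra.inclusion hint).toRingHom) := by
    intro m hm y
    obtain ⟨x, rfl⟩ := Ideal.Quotient.mk_surjective y
    haveI := hm.isPrime
    obtain ⟨a, ha⟩ := hkey (integralClosure A K' ⧸ m) (Ideal.Quotient.mk m)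
      (fun r hr => Ideal.Quotient.eq_zero_iff_mem.mpr (hmax m hm r hr)) x
    exact ⟨a, ha.symm⟩
  have hinj : Set.InjOn (fun m : Ideal (integralClosure A K') =>
      m.comap (Subalgebra.inclusion hint).toRingHom) {m | m.IsMaximal} := by
    intro m₁ hm₁ m₂ hm₂ h12
    have hm₁' : m₁.IsMaximal := hm₁
    have hm₂' : m₂.IsMaximal := hm₂
    have h12' : m₁.comap (Subalgebra.inclusion hint).toRingHom =
      m₂.comap (Subalgebra.inclusion hint).toRingHom := h12
    by_contra hne
    have hnle : ¬ m₁ ≤ m₂ := fun hle => hne (hm₁'.eq_of_le hm₂'.ne_top hle)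
    obtain ⟨x, hx1, hx2⟩ := SetLike.not_le_iff_exists.mp hnle
    haveI := hm₁'.isPrime
    haveI := hm₂'.isPrime
    obtain ⟨a, ha⟩ := hkey ((integralClosure A K' ⧸ m₁) × (integralClosure A K' ⧸ m₂))
      ((Ideal.Quotient.mk m₁).prod (Ideal.Quotient.mk m₂))
      (fun r hr => Prod.ext (Ideal.Quotient.eq_zero_iff_mem.mpr (hmax m₁ hm₁' r hr))
          (Ideal.Quotient.eq_zero_iff_mem.mpr (hmax m₂ hm₂' r hr))) x
    have ha1 : Ideal.Quotient.mk m₁ x = Ideal.Quotient.mk m₁ (Subalgebra.inclusion hint a) :=
      congrArg Prod.fst ha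
    have ha2 : Ideal.Quotient.mk m₂ x = Ideal.Quotient.mk m₂ (Subalgebra.inclusion hint a) :=
      congrArg Prod.snd ha
    have h3 : Subalgebra.inclusion hint a ∈ m₁ := by
      rw [← Ideal.Quotient.eq_zero_iff_mem, ← ha1, Ideal.Quotient.eq_zero_iff_mem]
      exact hx1
    have h4 : a ∈ m₂.comap (Subalgebra.inclusion hint).toRingHom := by
      rw [← h12']
      exact h3
    apply hx2
    rw [← Ideal.Quotient.eq_zero_iff_mem, ha2, Ideal.Quotient.eq_zero_iff_mem]
    exact h4
  refine ⟨?_, ?_⟩
  · refine Set.Finite.of_finite_image ?_ hinj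
    refine (finite_isMaximal_of_finite_local A Cα).subset ?_
    rintro n ⟨m, hm, rfl⟩
    have hm' : m.IsMaximal := hm
    haveI := hm'
    show (m.comap (Subalgebra.inclusion hint).toRingHom).IsMaximal
    letI := Ideal.Quotient.field m
    have h := Ideal.comap_isMaximal_of_surjective _ (hsurj m hm') (K := ⊥)
    have e : Ideal.comap ((Ideal.Quotient.mk m).comp (Subalgebra.inclusion hint).toRingHom) ⊥ =
        m.comap (Subalgebra.inclusion hint).toRingHom := by
      rw [← Ideal.comap_comap, ← RingHom.ker_eq_comap_bot, Ideal.mk_ker]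
    rw [← e]
    exact h
  · intro m hm
    let f : Cα →ₗ[A] (integralClosure A K' ⧸ m) :=
      ((Ideal.Quotient.mkₐ A m).comp (Subalgebra.inclusion hint)).toLinearMap
    refine Module.Finite.of_surjective f ?_
    intro y
    obtain ⟨a, ha⟩ := hsurj m hm y
    exact ⟨a, ha⟩

end Groth.Agent.S2474
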