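import Groth.Statements.S2476
import Mathlib
import Groth.Agent.Lib.Helper21.RHw
import Groth.Agent.Lib.Helper21.RHx
import Groth.Agent.Lib.Helper21.RHy

set_option autoImplicit false
universe u
open EGA41

namespace Groth.Agent.S2476

open IsLocalRing in
/-- Let k₀ be a field and A a complete Noetherian local k₀-algebra, formally smooth over k₀ for the adic
topology, whose residue field K is a finitely generated extension of k₀. Then the 𝔪-adic completion
Ω̂_{A/k₀} of Ω_{A/k₀} is a free A-module of rank dim A + trdeg_{k₀} K. -/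
theorem result {k₀ A : Type u} [Field k₀] [CommRing A] [IsLocalRing A] [IsNoetherianRing A] [Algebra k₀ A]
    [IsAdicComplete (maximalIdeal A) A] (hfs : CAlgX.IsAdicFormallySmooth k₀ A (maximalIdeal A))
    [Algebra.EssFiniteType k₀ (ResidueField A)] :
    Module.Finite A (AdicCompletion (maximalIdeal A) (Ω[A⁄k₀])) ∧ Module.Free A (AdicCompletion (maximalIdeal A) (Ω[A⁄k₀])) ∧
      (Module.finrank A (AdicCompletion (maximalIdeal A) (Ω[A⁄k₀])) : WithBot ℕ∞) =
        ringKrullDim A + (Cardinal.toNat (Algebra.trdeg k₀ (ResidueField A)) : WithBot ℕ∞) := by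
  classical
  obtain ⟨hfin, hrank⟩ :=
    Groth.Agent.Lib.Helper21.RHy.finrank_residue_tensor_kaehler k₀ A hfs
  let b := Module.finBasis (ResidueField A) (TensorProduct A (ResidueField A) (Ω[A⁄k₀]))
  have hpure : ∀ v : TensorProduct A (ResidueField A) (Ω[A⁄k₀]),
      ∃ ω : Ω[A⁄k₀], (1 : ResidueField A) ⊗ₜ[A] ω = v := by
    intro v
    induction v using TensorProduct.induction_on with
    | zero => exact ⟨0, TensorProduct.tmul_zero _ _⟩
    | tmul κ ω =>
      obtain ⟨a, rfl⟩ := IsLocalRing.residue_surjective κ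
      refine ⟨a • ω, ?_⟩
      rw [TensorProduct.tmul_smul, TensorProduct.smul_tmul', Algebra.smul_def, mul_one]
      rfl
    | add x y hx hy =>
      obtain ⟨ω₁, h₁⟩ := hx
      obtain ⟨ω₂, h₂⟩ := hy
      exact ⟨ω₁ + ω₂, by rw [TensorProduct.tmul_add, h₁, h₂]⟩
  choose ω hω using fun i => hpure (b i)
  let g : Fin (Module.finrank (ResidueField A) (TensorProduct A (ResidueField A) (Ω[A⁄k₀]))) →
      (Ω[A⁄k₀] →ₗ[A] A ⧸ maximalIdeal A) := fun j =>
    ((b.coord j).restrictScalars A) ∘ₗ (TensorProduct.mk A (ResidueField A) (Ω[A⁄k₀]) 1)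
  have hg : ∀ i j, g j (ω i) = if i = j then 1 else 0 := by
    intro i j
    show b.coord j ((1 : ResidueField A) ⊗ₜ[A] ω i) = _
    rw [hω i, Module.Basis.coord_apply, Module.Basis.repr_self, Finsupp.single_apply]
    rfl
  have hS1 : Submodule.span A (Set.range ω) ⊔
      maximalIdeal A • (⊤ : Submodule A (Ω[A⁄k₀])) = ⊤ := by
    rw [eq_top_iff]
    intro x _
    choose a ha using fun i =>
      IsLocalRing.residue_surjective (b.repr ((1 : ResidueField A) ⊗ₜ[A] x) i)
    have h0 : (1 : ResidueField A) ⊗ₜ[A] (x - ∑ i, a i • ω i) = 0 := by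
      rw [TensorProduct.tmul_sub, TensorProduct.tmul_sum, sub_eq_zero]
      conv_lhs => rw [← b.sum_repr ((1 : ResidueField A) ⊗ₜ[A] x)]
      refine Finset.sum_congr rfl (fun i _ => ?_)
      rw [← ha i, ← hω i, TensorProduct.tmul_smul]
      exact algebraMap_smul (ResidueField A) (a i) _
    have h1 : x - ∑ i, a i • ω i ∈ maximalIdeal A • (⊤ : Submodule A (Ω[A⁄k₀])) := by
      have h2 : TensorProduct.quotTensorEquivQuotSMul (Ω[A⁄k₀]) (maximalIdeal A)
          ((1 : A ⧸ maximalIdeal A) ⊗ₜ[A] (x - ∑ i, a i • ω i)) = 0 := by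
        have h4 := congrArg
          (TensorProduct.quotTensorEquivQuotSMul (Ω[A⁄k₀]) (maximalIdeal A)) h0
        exact h4.trans (map_zero _)
      rw [TensorProduct.quotTensorEquivQuotSMul_mk_one_tmul] at h2
      exact (Submodule.Quotient.mk_eq_zero _).mp h2
    have h3 : x = ∑ i, a i • ω i + (x - ∑ i, a i • ω i) := by abel
    rw [h3]
    exact Submodule.add_mem_sup (Submodule.sum_mem _ (fun i _ =>
      Submodule.smul_mem _ _ (Submodule.subset_span ⟨i, rfl⟩))) h1
  have hS := Groth.Agent.Lib.Helper21.RHx.sup_pow_smul_eq_top _ (maximalIdeal A) hS1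
  have hI := Groth.Agent.Lib.Helper21.RHw.mem_pow_of_sum_smul_mem (maximalIdeal A) hfs ω g hg
  obtain ⟨h1, h2, h3⟩ :=
    Groth.Agent.Lib.Helper21.RHx.finite_free_finrank (maximalIdeal A) ω hS hI
  refine ⟨h1, h2, ?_⟩
  rw [h3]
  exact hrank

end Groth.Agent.S2476
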