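import Groth.Statements.S2478
import Mathlib

set_option autoImplicit false
universe u
open EGA41

namespace Groth.Agent.S2478

section aux
open Topology

variable {A : Type u} [CommRing A]

/-- The product of the residue fields at the points of `E`. -/
abbrev Bof (E : Set (PrimeSpectrum A)) : Type u := ∀ p : E, p.1.asIdeal.ResidueField

/-- The canonical map to the product of residue fields. -/
noncomputable def fof (E : Set (PrimeSpectrum A)) : A →+* Bof E :=
  Pi.ringHom (fun p => algebraMap A p.1.asIdeal.ResidueField)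

theorem isConstructible_zeroLocus_of_finite {T : Set A} (hT : T.Finite) :
    IsConstructible (PrimeSpectrum.zeroLocus T) := by
  have := ((PrimeSpectrum.isRetrocompact_zeroLocus_compl hT).isConstructible
    (PrimeSpectrum.isClosed_zeroLocus _).isOpen_compl).compl
  rwa [compl_compl] at this

theorem range_fof (E : Set (PrimeSpectrum A)) (S : Set (Set (PrimeSpectrum A)))
    (hS : ∀ s ∈ S, IsConstructible s) (hE : E = ⋂₀ S) :
    Set.range (PrimeSpectrum.comap (fof E)) = E := by
  classical
  apply Set.Subset.antisymm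
  · rintro _ ⟨Q, rfl⟩
    have hEq : ∀ x, (∀ s ∈ S, x ∈ s) → x ∈ E := fun x hx => by rw [hE]; exact hx
    apply hEq
    intro s hs
    by_contra hqs
    obtain ⟨D, hD⟩ := PrimeSpectrum.exists_constructibleSetData_iff.mpr (hS s hs).compl
    have hq : PrimeSpectrum.comap (fof E) Q ∈ ⋃ C ∈ D, C.toSet := by
      have : PrimeSpectrum.comap (fof E) Q ∈ D.toSet := by rw [hD]; exact hqs
      exact this
    obtain ⟨C, hCD, hqC⟩ := Set.mem_iUnion₂.mp hq
    obtain ⟨hqg, hqf⟩ := hqC
    have hQf : fof E C.f ∉ Q.asIdeal := fun h => hqf (by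
      intro x hx
      rw [Set.mem_singleton_iff] at hx
      rw [hx]
      exact h)
    have hQg : ∀ j, fof E (C.g j) ∈ Q.asIdeal := fun j => hqg (Set.mem_range_self j)
    obtain ⟨inv', hinv'⟩ : ∃ inv' : Bof E → Bof E, ∀ x p, inv' x p = (x p)⁻¹ :=
      ⟨fun x p => (x p)⁻¹, fun _ _ => rfl⟩
    have hfac : ∀ j, 1 - fof E (C.g j) * inv' (fof E (C.g j)) ∉ Q.asIdeal := by
      intro j h
      have := Q.asIdeal.add_mem h (Q.asIdeal.mul_mem_right (inv' (fof E (C.g j))) (hQg j))
      rw [sub_add_cancel] at this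
      exact Q.2.ne_top ((Ideal.eq_top_iff_one _).mpr this)
    have hy : fof E C.f * ∏ j, (1 - fof E (C.g j) * inv' (fof E (C.g j))) ∉ Q.asIdeal := by
      intro h
      rcases Q.2.mem_or_mem h with h | h
      · exact hQf h
      · rw [Ideal.IsPrime.prod_mem_iff] at h
        obtain ⟨j, _, hj⟩ := h
        exact hfac j hj
    have hne : fof E C.f * ∏ j, (1 - fof E (C.g j) * inv' (fof E (C.g j))) ≠ 0 :=
      fun h0 => hy (h0 ▸ zero_mem _)
    obtain ⟨p, hp⟩ := Function.ne_iff.mp hne
    rw [Pi.mul_apply, Finset.prod_apply, Pi.zero_apply] at hp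
    obtain ⟨h1, h2⟩ := mul_ne_zero_iff.mp hp
    rw [Finset.prod_ne_zero_iff] at h2
    have hpC : p.1 ∈ C.toSet := by
      refine ⟨?_, ?_⟩
      · rintro _ ⟨j, rfl⟩
        have h3 := h2 j (Finset.mem_univ j)
        by_contra hj
        apply h3
        have hx : algebraMap A p.1.asIdeal.ResidueField (C.g j) ≠ 0 :=
          fun h0 => hj (Ideal.algebraMap_residueField_eq_zero.mp h0)
        show (1 : p.1.asIdeal.ResidueField) - algebraMap A p.1.asIdeal.ResidueField (C.g j) *
          inv' (fof E (C.g j)) p = 0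
        rw [hinv']
        show (1 : p.1.asIdeal.ResidueField) - algebraMap A p.1.asIdeal.ResidueField (C.g j) *
          (algebraMap A p.1.asIdeal.ResidueField (C.g j))⁻¹ = 0
        rw [mul_inv_cancel₀ hx, sub_self]
      · intro h
        apply h1
        show algebraMap A p.1.asIdeal.ResidueField C.f = 0
        exact Ideal.algebraMap_residueField_eq_zero.mpr (h (Set.mem_singleton _))
    have hps : p.1 ∈ sᶜ := by
      rw [← hD]
      exact Set.mem_iUnion₂.mpr ⟨C, hCD, hpC⟩
    have hsub : E ⊆ s := by rw [hE]; exact Set.sInter_subset_of_mem hs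
    exact hps (hsub p.2)
  · intro p hp
    refine ⟨PrimeSpectrum.comap (Pi.evalRingHom _ ⟨p, hp⟩) ⟨⊥, Ideal.bot_prime⟩, ?_⟩
    apply PrimeSpectrum.ext
    ext x
    show (fof E x) ⟨p, hp⟩ ∈ (⊥ : Ideal p.asIdeal.ResidueField) ↔ x ∈ p.asIdeal
    rw [Ideal.mem_bot]
    exact Ideal.algebraMap_residueField_eq_zero

theorem range_comap_eq_sInter {B : Type u} [CommRing B] (f : A →+* B) :
    Set.range (PrimeSpectrum.comap f) =
      ⋂₀ {s | IsConstructible s ∧ Set.range (PrimeSpectrum.comap f) ⊆ s} := by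
  classical
  apply Set.Subset.antisymm
  · intro p hp s hs
    exact hs.2 hp
  · intro p hp
    by_contra hpr
    have h1 : (p.asIdeal.map f).comap f ≠ p.asIdeal := by
      intro h
      obtain ⟨q, hq, hqp⟩ := (Ideal.comap_map_eq_self_iff_of_isPrime p.asIdeal).mp h
      exact hpr ⟨⟨q, hq⟩, PrimeSpectrum.ext hqp⟩
    have h2 : ¬ ((p.asIdeal.map f).comap f : Set A) ⊆ p.asIdeal :=
      fun h => h1 (le_antisymm h Ideal.le_comap_map)
    obtain ⟨a, ha1, ha2⟩ := Set.not_subset.mp h2
    have ha3 : f a ∈ Submodule.span B (f '' (p.asIdeal : Set A)) := ha1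
    obtain ⟨T, hT1, hT2⟩ := Submodule.mem_span_finite_of_mem_span ha3
    obtain ⟨T', hT'1, hT'2⟩ := Finset.subset_set_image_iff.mp hT1
    have hc1 : IsConstructible (PrimeSpectrum.zeroLocus (↑T' : Set A)) :=
      isConstructible_zeroLocus_of_finite T'.finite_toSet
    have hc2 : IsConstructible (PrimeSpectrum.zeroLocus ({a} : Set A)) :=
      isConstructible_zeroLocus_of_finite (Set.finite_singleton a)
    have hs := hp ((PrimeSpectrum.zeroLocus (↑T' : Set A) \ PrimeSpectrum.zeroLocus {a})ᶜ)
      ⟨(hc1.sdiff hc2).compl, ?_⟩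
    · exact hs ⟨fun x hx => hT'1 hx, fun h => ha2 (h (Set.mem_singleton a))⟩
    · rintro _ ⟨Q, rfl⟩ ⟨hq1, hq2⟩
      apply hq2
      intro x hx
      rw [Set.mem_singleton_iff] at hx
      rw [hx]
      show f a ∈ Q.asIdeal
      have hle : Submodule.span B (↑T : Set B) ≤ Q.asIdeal := by
        rw [Submodule.span_le, ← hT'2]
        intro y hy
        rw [Finset.coe_image] at hy
        obtain ⟨z, hz, rfl⟩ := hy
        exact hq1 hz
      exact hle hT2

end aux

open Topology in
/-- Equivalence of (a'') and (b) for X = Spec A affine: a subset E of Spec A is the image of the map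
Spec B → Spec A induced by some ring homomorphism A → B if and only if E is an intersection of a
family of constructible subsets of Spec A. -/
theorem result {A : Type u} [CommRing A] (E : Set (PrimeSpectrum A)) :
    (∃ (B : Type u) (_ : CommRing B) (f : A →+* B), Set.range (PrimeSpectrum.comap f) = E) ↔
      ∃ S : Set (Set (PrimeSpectrum A)), (∀ s ∈ S, IsConstructible s) ∧ E = ⋂₀ S := by
  constructor
  · rintro ⟨B, _, f, rfl⟩
    exact ⟨{s | IsConstructible s ∧ Set.range (PrimeSpectrum.comap f) ⊆ s}, fun s hs => hs.1,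
      range_comap_eq_sInter f⟩
  · rintro ⟨S, hS, hE⟩
    exact ⟨Bof E, inferInstance, fof E, range_fof E S hS hE⟩

end Groth.Agent.S2478
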