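import Groth.Statements.S2479
import Groth.Agent.S2478
-- import your own Groth.Agent.* helpers here

set_option autoImplicit false
set_option linter.style.haveILetI false
universe u
open EGA41

namespace Groth.Agent.S2479

open AlgebraicGeometry CategoryTheory Topology

section Top

variable {X Y : Type*} [TopologicalSpace X] [TopologicalSpace Y]

/-- pro-constructible subsets: intersections of constructible subsets. -/
def PC (E : Set X) : Prop := ∃ S : Set (Set X), (∀ s ∈ S, IsConstructible s) ∧ E = ⋂₀ S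

theorem PC.empty : PC (∅ : Set X) :=
  ⟨{∅}, fun s hs => by rw [Set.mem_singleton_iff.mp hs]; exact IsConstructible.empty, by simp⟩

theorem PC.union {E₁ E₂ : Set X} (h₁ : PC E₁) (h₂ : PC E₂) : PC (E₁ ∪ E₂) := by
  obtain ⟨S₁, hS₁, rfl⟩ := h₁
  obtain ⟨S₂, hS₂, rfl⟩ := h₂
  refine ⟨Set.image2 (· ∪ ·) S₁ S₂, ?_, ?_⟩
  · rintro _ ⟨s, hs, t, ht, rfl⟩
    exact (hS₁ s hs).union (hS₂ t ht)
  · ext x
    simp only [Set.mem_union, Set.mem_sInter, Set.mem_image2, forall_exists_index, and_imp]
    constructor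
    · rintro (h | h) _ s hs t ht rfl
      · exact Or.inl (h s hs)
      · exact Or.inr (h t ht)
    · intro h
      by_contra hcon
      rw [not_or] at hcon
      obtain ⟨h1, h2⟩ := hcon
      push Not at h1 h2
      obtain ⟨s, hs, hxs⟩ := h1
      obtain ⟨t, ht, hxt⟩ := h2
      rcases h _ s hs t ht rfl with h | h
      · exact hxs h
      · exact hxt h

theorem PC.iUnion {ι : Type*} [Finite ι] {E : ι → Set X} (h : ∀ i, PC (E i)) : PC (⋃ i, E i) := by
  classical
  cases nonempty_fintype ι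
  have : ∀ s : Finset ι, PC (⋃ i ∈ s, E i) := by
    intro s
    induction s using Finset.induction_on with
    | empty => simpa using PC.empty
    | insert a s _ ih =>
      rw [Finset.set_biUnion_insert]
      exact (h a).union ih
  simpa using this Finset.univ

theorem PC.image_of_isOpenEmbedding {f : Y → X} (hf : IsOpenEmbedding f)
    (hfc : IsRetrocompact (Set.range f)) {E : Set Y} (h : PC E) : PC (f '' E) := by
  obtain ⟨S, hS, rfl⟩ := h
  refine ⟨insert (Set.range f) ((fun s => f '' s) '' S), ?_, ?_⟩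
  · rintro s (rfl | ⟨t, ht, rfl⟩)
    · exact hfc.isConstructible hf.isOpen_range
    · exact (hS t ht).image_of_isOpenEmbedding hf hfc
  · ext x
    simp only [Set.mem_image, Set.mem_sInter, Set.mem_insert_iff, forall_eq_or_imp,
      forall_exists_index, and_imp, forall_apply_eq_imp_iff₂, Set.mem_range]
    constructor
    · rintro ⟨y, hy, rfl⟩
      exact ⟨⟨y, rfl⟩, fun t ht => ⟨y, hy t ht, rfl⟩⟩
    · rintro ⟨⟨y, rfl⟩, h⟩
      refine ⟨y, fun t ht => ?_, rfl⟩
      obtain ⟨y', hy', he⟩ := h t ht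
      rwa [← hf.injective he]

theorem PC.preimage_of_isOpenEmbedding {f : Y → X} (hf : IsOpenEmbedding f)
    {E : Set X} (h : PC E) : PC (f ⁻¹' E) := by
  obtain ⟨S, hS, rfl⟩ := h
  refine ⟨(fun s => f ⁻¹' s) '' S, ?_, ?_⟩
  · rintro _ ⟨t, ht, rfl⟩
    exact (hS t ht).preimage_of_isOpenEmbedding hf
  · ext x
    simp

theorem isRetrocompact_of_isCompact_isOpen [QuasiSeparatedSpace X] {U : Set X} (hc : IsCompact U)
    (ho : IsOpen U) : IsRetrocompact U :=
  fun _ hVc hVo => QuasiSeparatedSpace.inter_isCompact _ _ ho hc hVo hVc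

end Top

/-- the image of a morphism of affine schemes is pro-constructible. -/
theorem pc_range_of_affine {R B : CommRingCat.{u}} (g : Spec B ⟶ Spec R) :
    PC (Set.range g.base) := by
  have key : @PC (PrimeSpectrum R) _ (Set.range (PrimeSpectrum.comap (Spec.preimage g).hom)) :=
    (Groth.Agent.S2478.result (A := R)
      (Set.range (PrimeSpectrum.comap (Spec.preimage g).hom))).mp ⟨B, inferInstance, _, rfl⟩
  have h2 : Set.range g.base = Set.range (Spec.map (Spec.preimage g)).base := by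
    rw [Spec.map_preimage]
  rw [h2]
  exact key

theorem exists_sigmaι_eq {σ : Type u} (g : σ → Scheme.{u}) (z : ↥(∐ g)) :
    ∃ (i : σ) (y : g i), (Limits.Sigma.ι g i).base y = z :=
  (sigmaOpenCover g).exists_eq z

/-- a pro-constructible subset of an affine scheme is the image of a morphism from an affine
scheme. -/
theorem exists_range_eq_of_pc {Z : Scheme.{u}} [IsAffine Z] {E : Set Z} (hE : PC E) :
    ∃ (B : CommRingCat.{u}) (h : Spec B ⟶ Z), Set.range h.base = E := by
  have h1 : PC (Z.isoSpec.inv.base ⁻¹' E) :=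
    hE.preimage_of_isOpenEmbedding Z.isoSpec.inv.isOpenEmbedding
  have h2 : @PC (PrimeSpectrum Γ(Z, ⊤)) _ (Z.isoSpec.inv.base ⁻¹' E) := h1
  obtain ⟨B, _, φ, hφ⟩ := (Groth.Agent.S2478.result (A := Γ(Z, ⊤)) _).mpr h2
  refine ⟨CommRingCat.of B, Spec.map (CommRingCat.ofHom φ) ≫ Z.isoSpec.inv, ?_⟩
  have h3 : Set.range (Spec.map (CommRingCat.ofHom φ)).base = Z.isoSpec.inv.base ⁻¹' E := hφ
  have h4 : Set.range (Spec.map (CommRingCat.ofHom φ) ≫ Z.isoSpec.inv).base =
      Z.isoSpec.inv.base '' Set.range (Spec.map (CommRingCat.ofHom φ)).base := by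
    rw [← Set.range_comp]
    rfl
  rw [h4, h3, Set.image_preimage_eq_of_subset]
  intro x _
  exact ⟨Z.isoSpec.hom.base x, by
    change (Z.isoSpec.hom ≫ Z.isoSpec.inv).base x = x
    rw [Iso.hom_inv_id]; rfl⟩

/-- Let X be a quasi-compact and quasi-separated scheme and E ⊆ X. Then E = f(X') for some
quasi-compact morphism f : X' → X if and only if E is an intersection of a family of constructible
subsets of X. -/
theorem result {X : Scheme.{u}} [CompactSpace X] [QuasiSeparatedSpace X] (E : Set X) :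
    (∃ (X' : Scheme.{u}) (f : X' ⟶ X), QuasiCompact f ∧ Set.range f.base = E) ↔
      ∃ S : Set (Set X), (∀ s ∈ S, IsConstructible s) ∧ E = ⋂₀ S := by
  let 𝒰 := X.affineCover.finiteSubcover
  have hret : ∀ i, IsRetrocompact (Set.range (𝒰.f i).base) := fun i =>
    isRetrocompact_of_isCompact_isOpen (isCompact_range (𝒰.f i).continuous)
      (𝒰.f i).isOpenEmbedding.isOpen_range
  constructor
  · rintro ⟨X', f, hf, rfl⟩
    change PC (Set.range f.base)
    -- the pullbacks of the cover are compact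
    haveI : ∀ i, CompactSpace ↥(Limits.pullback f (𝒰.f i)) := fun i =>
      QuasiCompact.compactSpace_of_compactSpace (Limits.pullback.snd f (𝒰.f i))
    let 𝒱 := fun i => (Limits.pullback f (𝒰.f i)).affineCover.finiteSubcover
    let g : ∀ (i : 𝒰.I₀) (j : (𝒱 i).I₀), (𝒱 i).X j ⟶ 𝒰.X i :=
      fun i j => (𝒱 i).f j ≫ Limits.pullback.snd f (𝒰.f i)
    have hrange : Set.range f.base =
        ⋃ i : 𝒰.I₀, ⋃ j : (𝒱 i).I₀, (𝒰.f i).base '' Set.range (g i j).base := by
      apply Set.Subset.antisymm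
      · rintro _ ⟨x', rfl⟩
        obtain ⟨i, y, hy⟩ := 𝒰.exists_eq (f.base x')
        obtain ⟨z, hz1, hz2⟩ := Scheme.Pullback.exists_preimage_pullback x' y hy.symm
        obtain ⟨j, w, hw⟩ := (𝒱 i).exists_eq z
        refine Set.mem_iUnion.mpr ⟨i, Set.mem_iUnion.mpr ⟨j, (g i j).base w, ⟨w, rfl⟩, ?_⟩⟩
        change (𝒰.f i).base ((Limits.pullback.snd f (𝒰.f i)).base (((𝒱 i).f j).base w)) = _
        rw [hw, hz2, hy]
      · intro x hx
        obtain ⟨i, hx⟩ := Set.mem_iUnion.mp hx
        obtain ⟨j, _, ⟨w, rfl⟩, rfl⟩ := Set.mem_iUnion.mp hx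
        refine ⟨(Limits.pullback.fst f (𝒰.f i)).base (((𝒱 i).f j).base w), ?_⟩
        have h1 : (Limits.pullback.fst f (𝒰.f i) ≫ f).base (((𝒱 i).f j).base w) =
            (Limits.pullback.snd f (𝒰.f i) ≫ 𝒰.f i).base (((𝒱 i).f j).base w) := by
          rw [Limits.pullback.condition]
        exact h1
    rw [hrange]
    refine PC.iUnion fun i => PC.iUnion fun j => ?_
    exact PC.image_of_isOpenEmbedding (𝒰.f i).isOpenEmbedding (hret i) (pc_range_of_affine (g i j))
  · intro hE
    change PC E at hE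
    have hEi : ∀ i, PC ((𝒰.f i).base ⁻¹' E) := fun i =>
      hE.preimage_of_isOpenEmbedding (𝒰.f i).isOpenEmbedding
    haveI : ∀ i, IsAffine (𝒰.X i) := fun i => by
      change IsAffine (X.affineCover.X _)
      infer_instance
    choose B h hh using fun i => exists_range_eq_of_pc (hEi i)
    refine ⟨∐ fun i => Spec (B i), Limits.Sigma.desc (fun i => h i ≫ 𝒰.f i), inferInstance, ?_⟩
    apply Set.Subset.antisymm
    · rintro _ ⟨z, rfl⟩
      obtain ⟨i, y, rfl⟩ := exists_sigmaι_eq (fun i => Spec (B i)) z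
      have h1 : (Limits.Sigma.desc (fun i => h i ≫ 𝒰.f i)).base
          ((Limits.Sigma.ι (fun i => Spec (B i)) i).base y) = (𝒰.f i).base ((h i).base y) := by
        change (Limits.Sigma.ι (fun i => Spec (B i)) i ≫
          Limits.Sigma.desc (fun i => h i ≫ 𝒰.f i)).base y = _
        rw [Limits.Sigma.ι_desc]
        rfl
      change (Limits.Sigma.desc (fun i => h i ≫ 𝒰.f i)).base
          ((Limits.Sigma.ι (fun i => Spec (B i)) i).base y) ∈ E
      rw [h1]
      have : (h i).base y ∈ (𝒰.f i).base ⁻¹' E := by rw [← hh i]; exact ⟨y, rfl⟩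
      exact this
    · intro x hx
      obtain ⟨i, y, rfl⟩ := 𝒰.exists_eq x
      have : y ∈ Set.range (h i).base := by rw [hh i]; exact hx
      obtain ⟨w, rfl⟩ := this
      refine ⟨(Limits.Sigma.ι (fun i => Spec (B i)) i).base w, ?_⟩
      change (Limits.Sigma.ι (fun i => Spec (B i)) i ≫
          Limits.Sigma.desc (fun i => h i ≫ 𝒰.f i)).base w = _
      rw [Limits.Sigma.ι_desc]
      rfl

end Groth.Agent.S2479
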