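import Groth.Statements.S2481
import Groth.Agent.Lib.Helper15.SmallExt
import Groth.Agent.Lib.Helper6.FSAdic

set_option autoImplicit false
universe u
open EGA41

namespace Groth.Agent.S2481

open IsLocalRing in
/-- Let A → B be a local homomorphism of Noetherian local rings with the adic topologies, K the residue
field of B. Then B is formally smooth over A if and only if: for every Artinian local ring C with a
local homomorphism A → C, every nilpotent ideal J of C and every local A-algebra homomorphism u : B
→ C/J inducing a bijection of residue fields (so that C has residue field K and u induces the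
identity on it), u is induced by a local A-algebra homomorphism B → C. -/
theorem result {A B : Type u} [CommRing A] [IsLocalRing A] [IsNoetherianRing A] [CommRing B] [IsLocalRing B] [IsNoetherianRing B]
    [Algebra A B] [IsLocalHom (algebraMap A B)] :
    EGA41.IsFormallySmoothAdic A (maximalIdeal A) B (maximalIdeal B) ↔
      ∀ (C : Type u) [CommRing C] [IsLocalRing C] [IsArtinianRing C] [Algebra A C] [IsLocalHom (algebraMap A C)]
        (J : Ideal C), IsNilpotent J → ∀ [IsLocalRing (C ⧸ J)] (u : B →ₐ[A] C ⧸ J) [IsLocalHom u.toRingHom],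
        Function.Bijective (ResidueField.map u.toRingHom) →
        ∃ f : B →ₐ[A] C, IsLocalHom f.toRingHom ∧ (Ideal.Quotient.mkₐ A J).comp f = u := by
  constructor
  · intro h C _ _ _ _ _ J hJ _ u _ _
    obtain ⟨n, hn⟩ := Groth.Agent.Lib.Helper15.SmallExt.exists_pow_maximalIdeal_eq_bot C
    have hC : ∃ k : ℕ, (maximalIdeal A ^ k).map (algebraMap A C) = ⊥ := by
      refine ⟨n, ?_⟩
      rw [eq_bot_iff, Ideal.map_pow, ← hn]
      have hle : (maximalIdeal A).map (algebraMap A C) ≤ maximalIdeal C :=
        Ideal.map_le_iff_le_comap.mpr (fun a ha => map_nonunit (algebraMap A C) a ha)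
      exact Ideal.pow_right_mono hle n
    obtain ⟨v, hv⟩ := h C J hJ hC u
      ⟨n, Groth.Agent.Lib.Helper15.SmallExt.kills_pow_of_local J n hn u⟩
    refine ⟨v, ⟨fun b hb => ?_⟩, hv⟩
    have h1 : IsUnit (Ideal.Quotient.mk J (v b)) := hb.map (Ideal.Quotient.mk J)
    have h2 : Ideal.Quotient.mk J (v b) = u b := AlgHom.congr_fun hv b
    rw [h2] at h1
    exact (isUnit_map_iff u.toRingHom b).mp h1
  · intro H
    have H3 : Groth.Agent.Lib.Helper15.SmallExt.SmallLift A B := by
      intro C _ _ _ _ _ J hJ _ _ ψ _ hbij
      obtain ⟨f, _, hf⟩ := H C J ⟨2, hJ⟩ ψ hbij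
      exact ⟨f, hf⟩
    have h := Groth.Agent.Lib.Helper15.SmallExt.adic_of_smallLift H3
    intro C _ _ J hJ _ u hu
    obtain ⟨n, hn⟩ := hJ
    exact Groth.Agent.Lib.Helper6.FSAdic.nilp_exists_lift_of_surjective h n
      (Ideal.Quotient.mkₐ A J) (Ideal.Quotient.mkₐ_surjective A J) (by
        have : RingHom.ker (Ideal.Quotient.mkₐ A J) = J := by
          ext x; simp [RingHom.mem_ker, Ideal.Quotient.eq_zero_iff_mem]
        rw [this]; exact hn) u hu

end Groth.Agent.S2481
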