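import Groth.Statements.S2483
import Mathlib
import Groth.Agent.Lib.Helper21.FSmoothFieldB

set_option autoImplicit false
universe u
open EGA41

namespace Groth.Agent.S2483

open IsLocalRing in
/-- Let C be a complete Noetherian local ring with maximal ideal 𝔍 ≠ 0 and residue field K, and u : K →
C a ring homomorphism which is a section of the residue map. Then u is the only such section if and
only if Ω_{K/ℤ} = 0. -/
theorem result {C : Type u} [CommRing C] [IsLocalRing C] [IsNoetherianRing C] [IsAdicComplete (maximalIdeal C) C]
    (hm : maximalIdeal C ≠ ⊥) (u : ResidueField C →+* C) (hu : ∀ x, residue C (u x) = x) :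
    (∀ v : ResidueField C →+* C, (∀ x, residue C (v x) = x) → v = u) ↔ Subsingleton (Ω[ResidueField C⁄ℤ]) := by
  constructor
  · intro huniq
    by_contra hΩ
    obtain ⟨v, hv, hne⟩ := Groth.Agent.Lib.Helper21.FSmoothField.exists_section_ne hm u hu hΩ
    exact hne (huniq v hv)
  · intro hΩ v hv
    exact Groth.Agent.Lib.Helper21.FSmoothField.section_unique_of_subsingleton u v hu hv

end Groth.Agent.S2483
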