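-- Statement S2485.
import Groth.Statements.S2485
import Mathlib

set_option autoImplicit false
universe u
open EGA41

namespace Groth.Agent.S2485

/-- Let p be a prime and A → B a ring homomorphism making B an A-algebra of finite type, with B of
characteristic p, such that for some s ≥ 0 every p^s-th power of an element of B lies in the image
of A. If Ω_{B/A} = 0 then A → B is surjective. -/
theorem result (p : ℕ) [Fact p.Prime] {A B : Type u} [CommRing A] [CommRing B] [Algebra A B] [CharP B p]
    [Algebra.FiniteType A B] (s : ℕ) (hpow : ∀ b : B, b ^ p ^ s ∈ Set.range (algebraMap A B)) [Subsingleton (Ω[B⁄A])] :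
    Function.Surjective (algebraMap A B) := by
  classical
  open TensorProduct in
  have hprime : p.Prime := Fact.out
  -- integrality & finiteness
  have hint : Algebra.IsIntegral A B := ⟨fun b => by
    obtain ⟨a, ha⟩ := hpow b
    refine ⟨Polynomial.X ^ (p ^ s) - Polynomial.C a,
      Polynomial.monic_X_pow_sub_C a (pow_ne_zero _ hprime.ne_zero), ?_⟩
    simp [ha]⟩
  have hfin : Module.Finite A B := Algebra.IsIntegral.finite
  rw [← Algebra.isEpi_iff_surjective_algebraMap_of_finite, Algebra.isEpi_iff_forall_one_tmul_eq]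
  rcases subsingleton_or_nontrivial (B ⊗[A] B) with hss | hnt
  · intro b; exact Subsingleton.elim _ _
  -- characteristic of the tensor product
  have hp0 : ((p : ℕ) : B ⊗[A] B) = 0 := by
    have h1 := map_natCast (Algebra.TensorProduct.includeLeft : B →ₐ[A] B ⊗[A] B) p
    rw [← h1, CharP.cast_eq_zero, map_zero]
  have hchar : CharP (B ⊗[A] B) p := (CharP.charP_iff_prime_eq_zero hprime).mpr hp0
  -- the ideal of the diagonal is generated by an idempotent
  obtain ⟨e, he, hsp⟩ : ∃ e, IsIdempotentElem e ∧ KaehlerDifferential.ideal A B = Ideal.span {e} :=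
    (Ideal.isIdempotentElem_iff_of_fg _ (KaehlerDifferential.ideal_fg A B)).mp <|
      (Ideal.cotangent_subsingleton_iff _).mp <| inferInstanceAs <| Subsingleton Ω[B⁄A]
  -- generators are nilpotent
  have hnil : ∀ x : B, IsNilpotent ((1 : B) ⊗ₜ[A] x - x ⊗ₜ[A] (1 : B)) := by
    intro x
    refine ⟨p ^ s, ?_⟩
    rw [sub_pow_char_pow, Algebra.TensorProduct.tmul_pow, Algebra.TensorProduct.tmul_pow, one_pow]
    obtain ⟨a, ha⟩ := hpow x
    rw [← ha, Algebra.algebraMap_eq_smul_one, TensorProduct.smul_tmul, sub_self]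
  have hle : KaehlerDifferential.ideal A B ≤ nilradical (B ⊗[A] B) := by
    rw [← KaehlerDifferential.span_range_eq_ideal, Ideal.span_le]
    rintro _ ⟨x, rfl⟩
    exact hnil x
  have he0 : e = 0 := by
    apply he.eq_zero_of_isNilpotent
    apply hle
    rw [hsp]
    exact Ideal.subset_span rfl
  intro b
  have hmem : (1 : B) ⊗ₜ[A] b - b ⊗ₜ[A] (1 : B) ∈ KaehlerDifferential.ideal A B :=
    KaehlerDifferential.one_smul_sub_smul_one_mem_ideal A b
  rw [hsp, he0, Ideal.span_singleton_eq_bot.mpr rfl] at hmem
  exact sub_eq_zero.mp hmem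

end Groth.Agent.S2485
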