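-- Statement S2486.
import Groth.Statements.S2486
import Mathlib
import Groth.Agent.S2485

set_option autoImplicit false
universe u
open EGA41

namespace Groth.Agent.S2486


section Aux

variable (p : ℕ) [Fact p.Prime] {A B : Type u} [CommRing A] [CommRing B] [Algebra A B]
  {ι : Type u} (x : ι → B)

/-- the span of the reduced monomials -/
noncomputable abbrev redSpan : Submodule (EGA41.pPowerSubalgebra p A B) B :=
  Submodule.span (EGA41.pPowerSubalgebra p A B)
    (Set.range fun e : {e : ι →₀ ℕ // ∀ i, e i < p} => EGA41.pMonomial x e.1)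

lemma pMonomial_add (e e' : ι →₀ ℕ) :
    EGA41.pMonomial x (e + e') = EGA41.pMonomial x e * EGA41.pMonomial x e' := by
  unfold EGA41.pMonomial
  exact Finsupp.prod_add_index' (fun _ => pow_zero _) (fun _ _ _ => pow_add _ _ _)

lemma pMonomial_mem_redSpan (e : ι →₀ ℕ) :
    EGA41.pMonomial x e ∈ redSpan (A := A) p x := by
  classical
  have hprime : p.Prime := Fact.out
  let r : ι →₀ ℕ := e.mapRange (· % p) (Nat.zero_mod p)
  have hr : ∀ i, r i < p := fun i => by
    simp only [r, Finsupp.mapRange_apply]; exact Nat.mod_lt _ hprime.pos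
  have hrsupp : r.support ⊆ e.support := Finsupp.support_mapRange
  have h1 : EGA41.pMonomial x r = ∏ i ∈ e.support, x i ^ (e i % p) := by
    unfold EGA41.pMonomial
    rw [Finsupp.prod_of_support_subset r hrsupp _ (fun i _ => pow_zero _)]
    refine Finset.prod_congr rfl fun i _ => ?_
    simp only [r, Finsupp.mapRange_apply]
  have h2 : EGA41.pMonomial x e =
      (∏ i ∈ e.support, x i ^ (e i / p)) ^ p * EGA41.pMonomial x r := by
    rw [h1, ← Finset.prod_pow, ← Finset.prod_mul_distrib]
    unfold EGA41.pMonomial Finsupp.prod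
    refine Finset.prod_congr rfl fun i _ => ?_
    rw [← pow_mul, ← pow_add, mul_comm, Nat.div_add_mod]
  let c : EGA41.pPowerSubalgebra p A B :=
    ⟨(∏ i ∈ e.support, x i ^ (e i / p)) ^ p, Algebra.subset_adjoin ⟨_, rfl⟩⟩
  have h3 : EGA41.pMonomial x e = c • EGA41.pMonomial x r := by
    rw [h2]; rfl
  rw [h3]
  exact Submodule.smul_mem _ _ (Submodule.subset_span ⟨⟨r, hr⟩, rfl⟩)

lemma closure_subset (b : B) (hb : b ∈ Submonoid.closure (Set.range x)) :
    ∃ e : ι →₀ ℕ, b = EGA41.pMonomial x e := by
  classical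
  induction hb using Submonoid.closure_induction with
  | mem y hy =>
    obtain ⟨i, rfl⟩ := hy
    refine ⟨Finsupp.single i 1, ?_⟩
    unfold EGA41.pMonomial
    exact ((Finsupp.prod_single_index (h := fun j n => x j ^ n) (pow_zero _)).trans
      (pow_one _)).symm
  | one => exact ⟨0, by unfold EGA41.pMonomial; rw [Finsupp.prod_zero_index]⟩
  | mul a b _ _ ha hb =>
    obtain ⟨e, rfl⟩ := ha
    obtain ⟨e', rfl⟩ := hb
    exact ⟨e + e', (pMonomial_add x e e').symm⟩

lemma adjoin_eq_top_iff :
    Algebra.adjoin (EGA41.pPowerSubalgebra p A B) (Set.range x) = ⊤ ↔ EGA41.IsPGenerating p A x := by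
  classical
  unfold EGA41.IsPGenerating
  constructor
  · intro h
    have h1 := Algebra.adjoin_eq_span (R := EGA41.pPowerSubalgebra p A B) (s := Set.range x)
    rw [h, Algebra.top_toSubmodule] at h1
    rw [eq_top_iff, h1, Submodule.span_le]
    intro b hb
    obtain ⟨e, rfl⟩ := closure_subset x b hb
    exact pMonomial_mem_redSpan p x e
  · intro h
    rw [eq_top_iff]
    intro b _
    have hb : b ∈ redSpan (A := A) p x := by
      change b ∈ Submodule.span _ _
      rw [h]; exact Submodule.mem_top
    have hle : redSpan (A := A) p x ≤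
        Subalgebra.toSubmodule (Algebra.adjoin (EGA41.pPowerSubalgebra p A B) (Set.range x)) := by
      rw [Submodule.span_le]
      rintro _ ⟨e, rfl⟩
      unfold EGA41.pMonomial Finsupp.prod
      exact Subalgebra.prod_mem _ fun i _ =>
        Subalgebra.pow_mem _ (Algebra.subset_adjoin (Set.mem_range_self i)) _
    exact hle hb

variable [CharP B p]

omit [Fact p.Prime] in
lemma D_pPower_eq_zero (c : B) (hc : c ∈ EGA41.pPowerSubalgebra p A B) :
    KaehlerDifferential.D A B c = 0 := by
  unfold EGA41.pPowerSubalgebra at hc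
  induction hc using Algebra.adjoin_induction with
  | mem y hy =>
    obtain ⟨b, rfl⟩ := hy
    rw [Derivation.leibniz_pow, ← Nat.cast_smul_eq_nsmul B, CharP.cast_eq_zero, zero_smul]
  | algebraMap a => exact Derivation.map_algebraMap _ a
  | add a b _ _ ha hb => rw [map_add, ha, hb, add_zero]
  | mul a b _ _ ha hb => rw [Derivation.leibniz, ha, hb, smul_zero, smul_zero, add_zero]

lemma span_D_eq_top (h : EGA41.IsPGenerating p A x) :
    Submodule.span B (Set.range fun i => KaehlerDifferential.D A B (x i)) = ⊤ := by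
  rw [← adjoin_eq_top_iff] at h
  rw [eq_top_iff, ← KaehlerDifferential.span_range_derivation A B, Submodule.span_le]
  rintro _ ⟨b, rfl⟩
  have hb : b ∈ Algebra.adjoin (EGA41.pPowerSubalgebra p A B) (Set.range x) := by
    rw [h]; exact Algebra.mem_top
  induction hb using Algebra.adjoin_induction with
  | mem y hy =>
    obtain ⟨i, rfl⟩ := hy
    exact Submodule.subset_span ⟨i, rfl⟩
  | algebraMap c =>
    have : KaehlerDifferential.D A B (algebraMap (EGA41.pPowerSubalgebra p A B) B c) = 0 :=
      D_pPower_eq_zero p c.1 c.2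
    simp only [SetLike.mem_coe]
    rw [this]; exact Submodule.zero_mem _
  | add a b _ _ ha hb =>
    simp only [SetLike.mem_coe] at ha hb ⊢
    rw [map_add]; exact Submodule.add_mem _ ha hb
  | mul a b _ _ ha hb =>
    simp only [SetLike.mem_coe] at ha hb ⊢
    rw [Derivation.leibniz]
    exact Submodule.add_mem _ (Submodule.smul_mem _ _ hb) (Submodule.smul_mem _ _ ha)

omit [Fact p.Prime] [CharP B p] in
lemma subsingleton_kaehler_of_span {R S T : Type u} [CommRing R] [CommRing S] [CommRing T]
    [Algebra R S] [Algebra S T] [Algebra R T] [IsScalarTower R S T] {ι : Type u} (x : ι → T)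
    (hx : ∀ i, x i ∈ Set.range (algebraMap S T))
    (hspan : Submodule.span T (Set.range fun i => KaehlerDifferential.D R T (x i)) = ⊤) :
    Subsingleton (Ω[T⁄S]) := by
  have hsurj : Function.Surjective (KaehlerDifferential.map R S T T) :=
    KaehlerDifferential.map_surjective R S T
  have hzero : ∀ ω : Ω[T⁄R], KaehlerDifferential.map R S T T ω = 0 := by
    intro ω
    have hω : ω ∈ Submodule.span T (Set.range fun i => KaehlerDifferential.D R T (x i)) :=
      hspan ▸ Submodule.mem_top
    induction hω using Submodule.span_induction with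
    | mem y hy =>
      obtain ⟨i, rfl⟩ := hy
      obtain ⟨s, hs⟩ := hx i
      rw [KaehlerDifferential.map_D, ← hs]
      simp
    | zero => simp
    | add a b _ _ ha hb => rw [map_add, ha, hb, add_zero]
    | smul t a _ ha => rw [map_smul, ha, smul_zero]
  refine ⟨fun a b => ?_⟩
  obtain ⟨a', rfl⟩ := hsurj a
  obtain ⟨b', rfl⟩ := hsurj b
  rw [hzero, hzero]

lemma isPGenerating_of_span (hft : Algebra.FiniteType (EGA41.pPowerSubalgebra p A B) B)
    (hspan : Submodule.span B (Set.range fun i => KaehlerDifferential.D A B (x i)) = ⊤) :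
    EGA41.IsPGenerating p A x := by
  rw [← adjoin_eq_top_iff]
  set B' := Algebra.adjoin (EGA41.pPowerSubalgebra p A B) (Set.range x) with hB'
  have hss : Subsingleton (Ω[B⁄B']) := by
    refine subsingleton_kaehler_of_span (R := A) (S := B') (T := B) x (fun i => ?_) hspan
    exact ⟨⟨x i, Algebra.subset_adjoin ⟨i, rfl⟩⟩, rfl⟩
  have hft' : Algebra.FiniteType B' B :=
    Algebra.FiniteType.of_restrictScalars_finiteType (EGA41.pPowerSubalgebra p A B) B' B
  have hpow : ∀ b : B, b ^ p ^ 1 ∈ Set.range (algebraMap B' B) := by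
    intro b
    rw [pow_one]
    have hC : b ^ p ∈ EGA41.pPowerSubalgebra p A B := Algebra.subset_adjoin ⟨b, rfl⟩
    exact ⟨⟨b ^ p, B'.algebraMap_mem ⟨b ^ p, hC⟩⟩, rfl⟩
  have hsurj := Groth.Agent.S2485.result p (A := B') (B := B) 1 hpow
  rw [eq_top_iff]
  intro b _
  obtain ⟨b', rfl⟩ := hsurj b
  exact b'.2

end Aux

/-- Let p be a prime, B an A-algebra of characteristic p and (x_α) a family of elements of B. Then (a) B
is generated as an A[B^p]-algebra by the x_α if and only if (b) (x_α) is a system of p-generators of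
B over A; these imply (c) Ω_{B/A} is generated by the d x_α; and if B is an A[B^p]-algebra of finite
type, (c) implies (a). -/
theorem result (p : ℕ) [Fact p.Prime] {A B : Type u} [CommRing A] [CommRing B] [Algebra A B] [CharP B p]
    {ι : Type u} (x : ι → B) :
    (Algebra.adjoin (EGA41.pPowerSubalgebra p A B) (Set.range x) = ⊤ ↔ EGA41.IsPGenerating p A x) ∧
    (EGA41.IsPGenerating p A x → Submodule.span B (Set.range fun i => KaehlerDifferential.D A B (x i)) = ⊤) ∧
    (Algebra.FiniteType (EGA41.pPowerSubalgebra p A B) B →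
      Submodule.span B (Set.range fun i => KaehlerDifferential.D A B (x i)) = ⊤ → EGA41.IsPGenerating p A x) := by
  exact ⟨adjoin_eq_top_iff p x, span_D_eq_top p x, isPGenerating_of_span p x⟩

end Groth.Agent.S2486
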