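import Groth.Statements.S2487
import Mathlib
import Groth.Agent.Lib.Helper7.FlatFS2

set_option autoImplicit false
universe u
open EGA41

namespace Groth.Agent.S2487

open IsLocalRing TensorProduct Groth.Agent.Lib.Helper7 Groth.Agent.Lib.Helper15

theorem map_le' {A B : Type u} [CommRing A] [CommRing B] [IsLocalRing A] [IsLocalRing B]
    [Algebra A B] [IsLocalHom (algebraMap A B)] :
    (maximalIdeal A).map (algebraMap A B) ≤ maximalIdeal B :=
  ((IsLocalRing.local_hom_TFAE (algebraMap A B)).out 0 2).mp ‹IsLocalHom (algebraMap A B)›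

theorem adic_of_ega {A B : Type u} [CommRing A] [CommRing B] [IsLocalRing A] [IsLocalRing B]
    [Algebra A B] [IsLocalHom (algebraMap A B)]
    (h : EGA41.IsFormallySmoothAdic A (maximalIdeal A) B (maximalIdeal B)) :
    CAlgX.IsAdicFormallySmooth A B (maximalIdeal B) := by
  intro C _ _ J hJ ψ hk
  obtain ⟨k, hk⟩ := hk
  refine h C J ⟨2, hJ⟩ ⟨k * 2, ?_⟩ ψ ⟨k, hk⟩
  have h1 : (maximalIdeal A ^ k).map (algebraMap A C) ≤ J := by
    rw [Ideal.map_le_iff_le_comap]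
    intro a ha
    rw [Ideal.mem_comap, ← Ideal.Quotient.eq_zero_iff_mem]
    have h2 : algebraMap A B a ∈ maximalIdeal B ^ k := by
      have h3 := Ideal.mem_map_of_mem (algebraMap A B) ha
      rw [Ideal.map_pow] at h3
      exact Ideal.pow_right_mono map_le' k h3
    have h3 := hk _ h2
    rw [AlgHom.commutes] at h3
    exact h3
  rw [eq_bot_iff]
  calc (maximalIdeal A ^ (k * 2)).map (algebraMap A C)
      = ((maximalIdeal A ^ k).map (algebraMap A C)) ^ 2 := by rw [← Ideal.map_pow, ← pow_mul]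
    _ ≤ J ^ 2 := Ideal.pow_right_mono h1 2
    _ = ⊥ := hJ

section main

variable {A : Type u} [CommRing A] [IsLocalRing A] [IsNoetherianRing A]
    (J : Ideal A) (hJ : J ≤ maximalIdeal A) [IsLocalRing (A ⧸ J)]
    (B₀ : Type u) [CommRing B₀] [IsLocalRing B₀] [IsNoetherianRing B₀]
    [IsAdicComplete (maximalIdeal B₀) B₀]
    [Algebra (A ⧸ J) B₀] [IsLocalHom (algebraMap (A ⧸ J) B₀)]

omit [IsLocalRing A] [IsNoetherianRing A] [IsLocalRing (A ⧸ J)] in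
theorem hA : Function.Surjective (algebraMap A (A ⧸ J)) := Ideal.Quotient.mk_surjective

omit [IsLocalRing A] [IsNoetherianRing A] [IsLocalRing (A ⧸ J)] in
theorem hkerA : RingHom.ker (algebraMap A (A ⧸ J)) = J := Ideal.mk_ker

include hJ in
theorem uniq [Algebra A B₀] [IsScalarTower A (A ⧸ J) B₀]
    (hfs : EGA41.IsFormallySmoothAdic (A ⧸ J) (maximalIdeal (A ⧸ J)) B₀ (maximalIdeal B₀))
    (B B' : Type u) [CommRing B] [IsLocalRing B] [IsNoetherianRing B] [Algebra A B]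
    [IsLocalHom (algebraMap A B)]
    [CommRing B'] [IsLocalRing B'] [IsNoetherianRing B'] [Algebra A B']
    [IsLocalHom (algebraMap A B')]
    [IsAdicComplete (maximalIdeal B) B] [Module.Flat A B] [IsAdicComplete (maximalIdeal B') B']
    [Module.Flat A B']
    (u : (A ⧸ J) ⊗[A] B ≃ₐ[A ⧸ J] B₀) (u' : (A ⧸ J) ⊗[A] B' ≃ₐ[A ⧸ J] B₀) :
    ∃ v : B ≃ₐ[A] B', (u' : (A ⧸ J) ⊗[A] B' →ₐ[A ⧸ J] B₀).comp
        (Algebra.TensorProduct.map (AlgHom.id (A ⧸ J) (A ⧸ J)) (v : B →ₐ[A] B')) =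
          (u : (A ⧸ J) ⊗[A] B →ₐ[A ⧸ J] B₀) := by
  have hFL₀ : FlatFS.FibreLift (A ⧸ J) B₀ := FlatFS.fibreLift_of_ega hfs
  -- the two reductions
  have key : ∀ (B : Type u) [CommRing B] [IsLocalRing B] [IsNoetherianRing B] [Algebra A B]
      [IsLocalHom (algebraMap A B)] (u : (A ⧸ J) ⊗[A] B ≃ₐ[A ⧸ J] B₀),
      ∃ β : B →ₐ[A] B₀, (∀ b, β b = u ((1 : A ⧸ J) ⊗ₜ[A] b)) ∧ Function.Surjective β ∧
        RingHom.ker β ≤ (RingHom.ker (algebraMap A (A ⧸ J))).map (algebraMap A B) := by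
    intro B _ _ _ _ _ u
    refine ⟨((u : (A ⧸ J) ⊗[A] B →ₐ[A ⧸ J] B₀).restrictScalars A).comp
      Algebra.TensorProduct.includeRight, fun b => rfl, ?_, ?_⟩
    · intro y
      obtain ⟨b, hb⟩ := CohenPres2.exists_one_tmul (hA J) (u.symm y)
      refine ⟨b, ?_⟩
      show u ((1 : A ⧸ J) ⊗ₜ[A] b) = y
      rw [← hb, AlgEquiv.apply_symm_apply]
    · intro b hb
      have h1 : u ((1 : A ⧸ J) ⊗ₜ[A] b) = 0 := hb
      have h2 : (1 : A ⧸ J) ⊗ₜ[A] b = 0 := by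
        apply u.injective
        rw [h1, map_zero]
      exact FlatFS.mem_map_of_one_tmul_eq_zero (hA J) b h2
  obtain ⟨β₁, hβ₁, hβ₁s, hβ₁k⟩ := key B u
  obtain ⟨β₁', hβ₁', hβ₁s', hβ₁k'⟩ := key B' u'
  have hfsB : CAlgX.IsAdicFormallySmooth A B (maximalIdeal B) :=
    FlatFS.adic_of_flat (FlatFS.fibreLift_of_surjective (hA J) β₁ hβ₁s hβ₁k hFL₀)
  have hJB : J.map (algebraMap A B) ≤ maximalIdeal B := (Ideal.map_mono hJ).trans map_le'
  have hJB' : J.map (algebraMap A B') ≤ maximalIdeal B' := (Ideal.map_mono hJ).trans map_le'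
  rw [hkerA] at hβ₁k hβ₁k'
  obtain ⟨v, hv⟩ := FlatFS.exists_algEquiv_of_fs_of_flat J hJB hJB' hfsB β₁ β₁' hβ₁s hβ₁s'
    hβ₁k hβ₁k'
  refine ⟨v, AlgHom.ext fun z => ?_⟩
  obtain ⟨b, rfl⟩ := CohenPres2.exists_one_tmul (hA J) z
  show u' (Algebra.TensorProduct.map (AlgHom.id (A ⧸ J) (A ⧸ J)) (v : B →ₐ[A] B')
    ((1 : A ⧸ J) ⊗ₜ[A] b)) = u ((1 : A ⧸ J) ⊗ₜ[A] b)
  rw [Algebra.TensorProduct.map_tmul, ← hβ₁, ← hv b, hβ₁']
  rfl

include hJ in
theorem exist [Algebra A B₀] [IsScalarTower A (A ⧸ J) B₀]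
    (hfs : EGA41.IsFormallySmoothAdic (A ⧸ J) (maximalIdeal (A ⧸ J)) B₀ (maximalIdeal B₀)) :
    ∃ (B : Type u) (_ : CommRing B) (_ : IsLocalRing B) (_ : IsNoetherianRing B)
      (_ : Algebra A B) (_ : IsLocalHom (algebraMap A B)),
      IsAdicComplete (maximalIdeal B) B ∧ Module.Flat A B ∧
        Nonempty ((A ⧸ J) ⊗[A] B ≃ₐ[A ⧸ J] B₀) := by
  have hFL₀ : FlatFS.FibreLift (A ⧸ J) B₀ := FlatFS.fibreLift_of_ega hfs
  obtain ⟨𝔣, h𝔣def⟩ : ∃ 𝔣 : Ideal B₀,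
      𝔣 = (maximalIdeal (A ⧸ J)).map (algebraMap (A ⧸ J) B₀) := ⟨_, rfl⟩
  have h𝔣 : 𝔣 ≤ maximalIdeal B₀ := h𝔣def ▸ map_le'
  haveI : IsLocalRing (B₀ ⧸ 𝔣) := SmallExt.isLocalRing_quot 𝔣 h𝔣
  haveI : IsAdicComplete (maximalIdeal (B₀ ⧸ 𝔣)) (B₀ ⧸ 𝔣) := FlatFS.isAdicComplete_quot 𝔣
  have hF0₀ : ∀ a ∈ maximalIdeal (A ⧸ J), algebraMap (A ⧸ J) (B₀ ⧸ 𝔣) a = 0 := by
    intro a ha
    show Ideal.Quotient.mk 𝔣 (algebraMap (A ⧸ J) B₀ a) = 0
    rw [Ideal.Quotient.eq_zero_iff_mem, h𝔣def]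
    exact Ideal.mem_map_of_mem _ ha
  have hkN : RingHom.ker (Ideal.Quotient.mkₐ (A ⧸ J) 𝔣) ≤
      (maximalIdeal (A ⧸ J)).map (algebraMap (A ⧸ J) B₀) := by
    intro x hx
    rw [← h𝔣def]
    exact Ideal.Quotient.eq_zero_iff_mem.mp (RingHom.mem_ker.mp hx)
  haveI : IsRegularLocalRing (B₀ ⧸ 𝔣) :=
    FlatFS.isRegularLocalRing_of_fibreLift hFL₀ (Ideal.Quotient.mkₐ (A ⧸ J) 𝔣)
      (Ideal.Quotient.mkₐ_surjective (A ⧸ J) 𝔣) hkN hF0₀
  have hmA : ∀ a ∈ maximalIdeal A, algebraMap A (A ⧸ J) a ∈ maximalIdeal (A ⧸ J) := by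
    intro a ha
    rw [← IsLocalRing.map_maximalIdeal_of_surjective (algebraMap A (A ⧸ J)) (hA J)]
    exact Ideal.mem_map_of_mem _ ha
  have hF0 : ∀ a ∈ maximalIdeal A, algebraMap A (B₀ ⧸ 𝔣) a = 0 := by
    intro a ha
    rw [IsScalarTower.algebraMap_apply A (A ⧸ J) (B₀ ⧸ 𝔣)]
    exact hF0₀ _ (hmA a ha)
  obtain ⟨B, hBring, hBloc, hBN, hBalg, hBloch, β, hBc, hBflat, hβs, hβg, hβk⟩ :=
    FlatFS.exists_flat_lift' (algebraMap A (B₀ ⧸ 𝔣)) hF0
  letI := hBring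
  haveI := hBloc
  haveI := hBN
  letI := hBalg
  haveI := hBloch
  haveI := hBflat
  haveI := hBc
  refine ⟨B, hBring, hBloc, hBN, hBalg, hBloch, hBc, hBflat, ?_⟩
  have hJB : J.map (algebraMap A B) ≤ maximalIdeal B := (Ideal.map_mono hJ).trans map_le'
  haveI : IsLocalRing (B ⧸ J.map (algebraMap A B)) := SmallExt.isLocalRing_quot _ hJB
  haveI : IsAdicComplete (maximalIdeal (B ⧸ J.map (algebraMap A B)))
      (B ⧸ J.map (algebraMap A B)) := FlatFS.isAdicComplete_quot _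
  obtain ⟨e, he⟩ := FlatFS.tensor_equiv_of_surjective (A' := A ⧸ J) (hA J)
    (Ideal.Quotient.mkₐ A (J.map (algebraMap A B)))
    (Ideal.Quotient.mkₐ_surjective A _) (by
      intro x hx
      rw [hkerA]
      exact Ideal.Quotient.eq_zero_iff_mem.mp (RingHom.mem_ker.mp hx))
  haveI : Module.Flat (A ⧸ J) (B ⧸ J.map (algebraMap A B)) :=
    Module.Flat.of_linearEquiv e.symm.toLinearEquiv
  let βₐ : B →ₐ[A] (B₀ ⧸ 𝔣) := { β with commutes' := fun a => hβg a }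
  have hβₐJ : ∀ x ∈ J.map (algebraMap A B), βₐ x = 0 := by
    intro x hx
    have h1 : x ∈ (maximalIdeal A).map (algebraMap A B) := Ideal.map_mono hJ hx
    rw [← hβk] at h1
    exact h1
  obtain ⟨βM, hβM⟩ : ∃ βM : (B ⧸ J.map (algebraMap A B)) →ₐ[A ⧸ J] (B₀ ⧸ 𝔣),
      ∀ b, βM (Ideal.Quotient.mk _ b) = β b :=
    ⟨AlgHom.extendScalarsOfSurjective (hA J) (Ideal.Quotient.liftₐ _ βₐ hβₐJ), fun b => rfl⟩
  have hβMs : Function.Surjective βM := by
    intro y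
    obtain ⟨b, rfl⟩ := hβs y
    exact ⟨Ideal.Quotient.mk _ b, hβM b⟩
  have hmapm : (maximalIdeal A).map (algebraMap A B) ≤
      ((maximalIdeal (A ⧸ J)).map (algebraMap (A ⧸ J) (B ⧸ J.map (algebraMap A B)))).comap
        (Ideal.Quotient.mk (J.map (algebraMap A B))) := by
    rw [Ideal.map_le_iff_le_comap]
    intro a ha
    rw [Ideal.mem_comap, Ideal.mem_comap]
    have h1 : Ideal.Quotient.mk (J.map (algebraMap A B)) (algebraMap A B a) =
        algebraMap (A ⧸ J) (B ⧸ J.map (algebraMap A B)) (algebraMap A (A ⧸ J) a) := rfl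
    rw [h1]
    exact Ideal.mem_map_of_mem _ (hmA a ha)
  have hkM : RingHom.ker βM ≤
      (maximalIdeal (A ⧸ J)).map (algebraMap (A ⧸ J) (B ⧸ J.map (algebraMap A B))) := by
    intro x hx
    obtain ⟨b, rfl⟩ := Ideal.Quotient.mk_surjective x
    have h1 : β b = 0 := by rw [← hβM]; exact hx
    have h2 : b ∈ (maximalIdeal A).map (algebraMap A B) := by rw [← hβk]; exact h1
    exact hmapm h2
  have hJM : (maximalIdeal (A ⧸ J)).map (algebraMap (A ⧸ J) (B ⧸ J.map (algebraMap A B))) ≤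
      maximalIdeal (B ⧸ J.map (algebraMap A B)) := by
    rw [Ideal.map_le_iff_le_comap]
    intro a₀ ha₀
    obtain ⟨a, rfl⟩ := hA J a₀
    have ha : a ∈ maximalIdeal A := by
      by_contra hn
      rw [mem_maximalIdeal, mem_nonunits_iff, not_not] at hn
      exact ha₀ (hn.map _)
    rw [Ideal.mem_comap]
    have h1 : algebraMap (A ⧸ J) (B ⧸ J.map (algebraMap A B)) (algebraMap A (A ⧸ J) a) =
        Ideal.Quotient.mk (J.map (algebraMap A B)) (algebraMap A B a) := rfl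
    rw [h1, ← IsLocalRing.map_maximalIdeal_of_surjective
      (Ideal.Quotient.mk (J.map (algebraMap A B))) Ideal.Quotient.mk_surjective]
    exact Ideal.mem_map_of_mem _ (map_le' (Ideal.mem_map_of_mem _ ha))
  obtain ⟨v, -⟩ := FlatFS.exists_algEquiv_of_fs_of_flat (maximalIdeal (A ⧸ J))
    (h𝔣def ▸ h𝔣) hJM (adic_of_ega hfs) (Ideal.Quotient.mkₐ (A ⧸ J) 𝔣) βM
    (Ideal.Quotient.mkₐ_surjective (A ⧸ J) 𝔣) hβMs hkN hkM
  exact ⟨e.trans v.symm⟩

end main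

open IsLocalRing TensorProduct in
/-- Let A be a Noetherian local ring, J an ideal contained in the maximal ideal, A₀ = A/J, and B₀ a
complete Noetherian local ring with a local homomorphism A₀ → B₀ making B₀ formally smooth over A₀
(adic topologies). Then (existence) there are a complete Noetherian local ring B, a local
homomorphism A → B making B a flat A-module, and an A₀-algebra isomorphism u : A₀ ⊗_A B ≅ B₀;
(uniqueness) if (B', u') is another such pair, there is an A-algebra isomorphism v : B ≅ B' with u'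
∘ (1 ⊗ v) = u. -/
theorem result {A : Type u} [CommRing A] [IsLocalRing A] [IsNoetherianRing A]
    (J : Ideal A) (hJ : J ≤ maximalIdeal A) [IsLocalRing (A ⧸ J)]
    (B₀ : Type u) [CommRing B₀] [IsLocalRing B₀] [IsNoetherianRing B₀] [IsAdicComplete (maximalIdeal B₀) B₀]
    [Algebra (A ⧸ J) B₀] [IsLocalHom (algebraMap (A ⧸ J) B₀)]
    (hfs : EGA41.IsFormallySmoothAdic (A ⧸ J) (maximalIdeal (A ⧸ J)) B₀ (maximalIdeal B₀)) :
    (∃ (B : Type u) (_ : CommRing B) (_ : IsLocalRing B) (_ : IsNoetherianRing B) (_ : Algebra A B) (_ : IsLocalHom (algebraMap A B)),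
      IsAdicComplete (maximalIdeal B) B ∧ Module.Flat A B ∧ Nonempty ((A ⧸ J) ⊗[A] B ≃ₐ[A ⧸ J] B₀)) ∧
    ∀ (B B' : Type u) [CommRing B] [IsLocalRing B] [IsNoetherianRing B] [Algebra A B] [IsLocalHom (algebraMap A B)]
      [CommRing B'] [IsLocalRing B'] [IsNoetherianRing B'] [Algebra A B'] [IsLocalHom (algebraMap A B')],
      IsAdicComplete (maximalIdeal B) B → Module.Flat A B → IsAdicComplete (maximalIdeal B') B' → Module.Flat A B' →
      ∀ (u : (A ⧸ J) ⊗[A] B ≃ₐ[A ⧸ J] B₀) (u' : (A ⧸ J) ⊗[A] B' ≃ₐ[A ⧸ J] B₀),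
      ∃ v : B ≃ₐ[A] B', (u' : (A ⧸ J) ⊗[A] B' →ₐ[A ⧸ J] B₀).comp
          (Algebra.TensorProduct.map (AlgHom.id (A ⧸ J) (A ⧸ J)) (v : B →ₐ[A] B')) = (u : (A ⧸ J) ⊗[A] B →ₐ[A ⧸ J] B₀) := by
  letI : Algebra A B₀ := ((algebraMap (A ⧸ J) B₀).comp (algebraMap A (A ⧸ J))).toAlgebra
  haveI : IsScalarTower A (A ⧸ J) B₀ := IsScalarTower.of_algebraMap_eq (fun _ => rfl)
  refine ⟨exist J hJ B₀ hfs, ?_⟩
  intro B B' _ _ _ _ _ _ _ _ _ _ hBc hBf hBc' hBf' u u'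
  haveI := hBc
  haveI := hBf
  haveI := hBc'
  haveI := hBf'
  exact uniq J hJ B₀ hfs B B' u u'

end Groth.Agent.S2487
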