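import Groth.Statements.S4645
import Mathlib
import Groth.Agent.Lib.Helper11.GalConn

set_option autoImplicit false
open CategoryTheory AlgebraicGeometry
universe u
open FBase

namespace Groth.Agent.S4645

open Groth.Agent.Lib.Helper11.FBaseLib Groth.Agent.Lib.Helper11.FBaseLib2
  Groth.Agent.Lib.Helper11.BcLevels Groth.Agent.Lib.Helper11.GeomSep
  Groth.Agent.Lib.Helper11.SepFibre Groth.Agent.Lib.Helper11.GalComp
  Groth.Agent.Lib.Helper11.GalDescent Groth.Agent.Lib.Helper11.SepFibre2
  Groth.Agent.Lib.Helper11.GalOrbit Groth.Agent.Lib.Helper11.GalConn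

/-- core: finitely many components, each with a point whose residue field has finite separable part -/
theorem core {k : Type u} [Field k] {X : Scheme.{u}}
    (f : X ⟶ Spec (CommRingCat.of k)) [Finite (_root_.ConnectedComponents ↥X)]
    (hx : ∀ c : _root_.ConnectedComponents ↥X, ∃ x : X, _root_.ConnectedComponents.mk x = c ∧
      FBase.ResidueFieldProp f x (fun K _ _ => FiniteDimensional k (separableClosure k K))) :
    ∃ L : IntermediateField k (SeparableClosure k), FiniteDimensional k ↥L ∧
      ∀ (K : Type u) [Field K] [Algebra ↥L K] (x' : ↥(FBase.bc f ↥L)),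
        _root_.IsConnected (⇑(FBase.bcπ (FBase.bcStr f ↥L) K) ⁻¹' connectedComponent x') := by
  classical
  let K := SeparableClosure k
  let p := FBase.bcπ f K
  choose xc hxc hprop using hx
  have hfib : ∀ c, (p ⁻¹' {xc c}).Finite := by
    intro c
    obtain ⟨φ, hφ, hfd⟩ := hprop c
    exact Set.finite_of_encard_le_coe (fibre_encard_le_finrank f _ φ hφ hfd K)
  let F : Set ↥(FBase.bc f K) := ⋃ c, p ⁻¹' {xc c}
  have hF : F.Finite := Set.finite_iUnion hfib
  haveI : IsIntegralHom p := isIntegralHom_bcπ f K
  have hmeet : ∀ B : Set ↥(FBase.bc f K), IsClopen B → B.Nonempty → (B ∩ F).Nonempty := by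
    rintro B hB ⟨z, hz⟩
    have hclopen : IsClopen (p '' B) := ⟨p.isClosedMap _ hB.1, p.isOpenMap _ hB.2⟩
    have hsub : connectedComponent (p z) ⊆ p '' B :=
      hclopen.connectedComponent_subset ⟨z, hz, rfl⟩
    have hmem : xc (ConnectedComponents.mk (p z)) ∈ connectedComponent (p z) :=
      ConnectedComponents.coe_eq_coe'.mp (hxc _)
    obtain ⟨w, hwB, hw⟩ := hsub hmem
    exact ⟨w, hwB, Set.mem_iUnion.mpr ⟨_, hw⟩⟩
  obtain ⟨hfin, -⟩ := card_connectedComponents_le_of_finite_meets F hF hmeet
  haveI := hfin
  have hFinv : ∀ (z : ↥F) (σ : K ≃ₐ[k] K), (bcHom f (σ : K →ₐ[k] K)) z.1 ∈ F := by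
    intro z σ
    obtain ⟨c, hc⟩ := Set.mem_iUnion.mp z.2
    refine Set.mem_iUnion.mpr ⟨c, ?_⟩
    show p ((bcHom f _) z.1) = xc c
    rw [bcHom_π_apply]
    exact hc
  haveI : Finite ↥F := hF.to_subtype
  choose Lf hLf hfix using fun z : ↥F => exists_level_fixing f K F hF z.1 (hFinv z)
  haveI : ∀ z, FiniteDimensional k (Lf z) := hLf
  let L : IntermediateField k K := ⨆ z, Lf z
  have hLfix : ∀ σ : K ≃ₐ[k] K, (∀ x ∈ L, σ x = x) → ∀ y : ↥(FBase.bc f K),
      (bcHom f (σ : K →ₐ[k] K)) '' connectedComponent y = connectedComponent y := by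
    intro σ hσ y
    obtain ⟨z, hzF, hz⟩ := exists_mem_connectedComponent_of_finite_meets F hF hmeet y
    exact image_connectedComponent_of_fixed f σ y z hz
      (hfix ⟨z, hzF⟩ σ (fun x hx => hσ x (le_iSup Lf ⟨z, hzF⟩ hx)))
  refine ⟨L, inferInstance, ?_⟩
  intro K' _ _ x'
  have h1 := isConnected_preimage_of_fixed f K L hLfix x'
  haveI := finite_connectedComponents_level f K L
  have hopen : IsOpen (connectedComponent x') := isOpen_connectedComponent_of_finite x'
  exact isConnected_preimage_of_isSepClosed (FBase.bcStr f ↥L) x' hopen K h1 K'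

/-- Let X be a scheme over a field k with finitely many connected components, each of which contains a
point x such that the separable algebraic closure of k in κ(x) has finite degree over k. Then there
is a finite separable extension k'' of k such that all connected components of X ⊗_k k'' are
geometrically connected over k'': for every extension field K of k'' and every point x' of X ⊗_k
k'', the inverse image in (X ⊗_k k'') ⊗_{k''} K of the connected component of x' is connected. -/
theorem result {k : Type u} [Field k] {X : Scheme.{u}}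
    (f : X ⟶ Spec (CommRingCat.of k)) [Finite (_root_.ConnectedComponents ↥X)]
    (hx : ∀ c : _root_.ConnectedComponents ↥X, ∃ x : X, _root_.ConnectedComponents.mk x = c ∧
      FBase.ResidueFieldProp f x (fun K _ _ => FiniteDimensional k (separableClosure k K))) :
    ∃ (k'' : Type u) (_ : Field k'') (_ : Algebra k k''), FiniteDimensional k k'' ∧ Algebra.IsSeparable k k'' ∧
      ∀ (K : Type u) [Field K] [Algebra k'' K] (x' : ↥(FBase.bc f k'')),
        _root_.IsConnected (⇑(FBase.bcπ (FBase.bcStr f k'') K) ⁻¹' connectedComponent x') := by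

  obtain ⟨L, hL, h⟩ := core f hx
  exact ⟨↥L, inferInstance, inferInstance, hL, inferInstance, h⟩

end Groth.Agent.S4645
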