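import Groth.Statements.S4631
import Groth.Agent.Lib.Helper14.GeomRedAt

set_option autoImplicit false
open CategoryTheory AlgebraicGeometry
universe u
open FBase

namespace Groth.Agent.S4631

/-- Let X be a scheme over an algebraically closed field k and x a point of X. Then X is geometrically
pointwise integral at x over k if and only if the local ring of X at x is a domain. -/
theorem result {k : Type u} [Field k] [IsAlgClosed k] {X : Scheme.{u}}
    (f : X ⟶ Spec (CommRingCat.of k)) (x : X) :
    FBase.IsGeomPtIntegralAt f x ↔ IsDomain ↑(X.presheaf.stalk x) := by
  exact Groth.Agent.Lib.Helper14.GeomRedAt.isGeomPtIntegralAt_iff_isDomain_stalk f x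

end Groth.Agent.S4631
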