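import Groth.Statements.S4938
import Mathlib
import Groth.Agent.Lib.Helper8.ChevalleyFibre

set_option autoImplicit false
open CategoryTheory AlgebraicGeometry
universe u v w
open EGA43

namespace Groth.Agent.S4938

/-- Let Y be a locally Noetherian scheme, f : X ⟶ Y a morphism locally of finite type, and y a
geometrically unibranch point of Y, lying on the unique irreducible component Y₀ of Y with generic
point η. The following are equivalent: a) f is universally open at every point of X_y; b) every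
point x of X_y lies on an irreducible component Z of X dominating Y₀ with dim_x(Z ∩ X_y) = dim(Z ∩
X_η); b'') for every open subset U of X, dim(U ∩ X_η) ≥ dim(U ∩ X_y); c) f is open at every point of
X_y. (The published statement assumes Y locally Noetherian only for c) and also lists b′), the
pointwise form of b″) (for every x in X_y and every open U ∋ x, dim(U ∩ X_η) ≥ dim_x(U ∩ X_y)); over
the spectrum of an infinite product of copies of a field, the inclusion of a non-open closed point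
satisfies b) and b″) but not a), so this row takes Y locally Noetherian throughout, and b′) is not
listed.) -/
theorem result {X Y : Scheme.{u}} [IsLocallyNoetherian Y] (f : X ⟶ Y)
    [LocallyOfFiniteType f] (y : Y) (hy : CAlg2.IsGeomUnibranch (Y.presheaf.stalk y)) :
    List.TFAE [∀ x : X, f.base x = y → EGA43.IsUnivOpenAt f x,
      ∀ x : X, f.base x = y → ∀ Y₀ ∈ irreducibleComponents (Y : Type u), y ∈ Y₀ →
        ∃ Z ∈ irreducibleComponents (X : Type u), ∃ hx : x ∈ Z, closure (f.base '' Z) = Y₀ ∧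
          ∀ η : Y, closure ({η} : Set Y) = Y₀ →
            FlatMor.localDim ↥(Z ∩ f.base ⁻¹' {f.base x}) ⟨x, ⟨hx, rfl⟩⟩ = topologicalKrullDim ↥(Z ∩ f.base ⁻¹' {η}),
      ∀ U : X.Opens, ∀ Y₀ ∈ irreducibleComponents (Y : Type u), y ∈ Y₀ → ∀ η : Y, closure ({η} : Set Y) = Y₀ →
        topologicalKrullDim ↥((U : Set X) ∩ f.base ⁻¹' {y}) ≤ topologicalKrullDim ↥((U : Set X) ∩ f.base ⁻¹' {η}),
      ∀ x : X, f.base x = y → EGA43.IsOpenAt f.base x] := by
  have hgen : ∀ (x : X), f.base x = y → ∀ Y₀ : Set Y, y ∈ Y₀ → ∀ η : Y,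
      closure ({η} : Set Y) = Y₀ → η ⤳ f.base x := by
    intro x hx Y₀ hyY₀ η hη
    rw [hx, specializes_iff_mem_closure, hη]
    exact hyY₀
  tfae_have 1 → 4 := fun h x hx =>
    Groth.Agent.Lib.Helper8.ChevalleyPt.isOpenAt_of_isUnivOpenAt f x (h x hx)
  tfae_have 4 → 2 := fun h x hx Y₀ hY₀ hyY₀ => by
    refine Groth.Agent.Lib.Helper8.ChevalleyFibre.exists_component_fibre f x Y₀ hY₀
      (by rw [hx]; exact hyY₀) ?_
    intro z hz hzmax U hzU η hη
    exact Groth.Agent.Lib.Helper8.ChevalleyPt.le_dim_of_isOpenAt f z hzmax (h z (hz.trans hx)) U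
      hzU η (hgen z (hz.trans hx) Y₀ hyY₀ η hη)
  tfae_have 2 → 1 := fun h x hx => by
    obtain ⟨Y₀, hY₀, hxY₀⟩ := exists_mem_irreducibleComponents_subset_of_isIrreducible
      ({y} : Set Y) isIrreducible_singleton
    obtain ⟨Z, hZ, hxZ, hcl, hη⟩ := h x hx Y₀ hY₀ (hxY₀ rfl)
    exact Groth.Agent.Lib.Helper8.ChevalleyPt.isUnivOpenAt_of_component f x (by rw [hx]; exact hy)
      Z hZ hxZ Y₀ hY₀ hcl hη
  tfae_have 1 → 3 := fun h U Y₀ hY₀ hyY₀ η hη => by
    apply Groth.Agent.Lib.Helper12.UnivOpenDim.dim_inter_fibre_le_of_isLocallyClosed f (U : Set X)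
      U.2.isLocallyClosed y
    rintro z ⟨hzU, hzy⟩
    have hzy' : f.base z = y := hzy
    obtain ⟨z₁, hz₁1, hz₁2, hz₁3⟩ :=
      Groth.Agent.Lib.Helper12.EquidimOpen.exists_max_generization_in_fibre f z
    have hz₁U : z₁ ∈ U := hz₁2.mem_open U.2 hzU
    have hz₁y : f.base z₁ = y := hz₁1.trans hzy'
    have hmax₁ : ∀ x' : X, f.base x' = f.base z₁ → z₁ ∈ closure {x'} → x' = z₁ :=
      fun x' h1 h2 => hz₁3 x' h1 (specializes_iff_mem_closure.mpr h2)
    have h1 := Groth.Agent.Lib.Helper12.UnivOpenDim.le_dim_of_isUnivOpenAt f z₁ hmax₁ (h z₁ hz₁y) U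
      hz₁U η (hgen z₁ hz₁y Y₀ hyY₀ η hη)
    rw [Groth.Agent.Lib.Helper12.UnivOpenDim.fibreDimAt_eq_trn_of_max f z₁ hmax₁] at h1
    have h2 := Groth.Agent.Lib.Helper12.EquidimOpen.trn_le_of_specializes_fibre f z z₁ hz₁1 hz₁2
    exact (WithBot.coe_le_coe.mpr h2).trans h1
  tfae_have 3 → 2 := fun h x hx Y₀ hY₀ hyY₀ => by
    refine Groth.Agent.Lib.Helper8.ChevalleyFibre.exists_component_fibre f x Y₀ hY₀
      (by rw [hx]; exact hyY₀) ?_
    intro z hz hzmax U hzU η hη
    rw [Groth.Agent.Lib.Helper12.UnivOpenDim.fibreDimAt_eq_trn_of_max f z hzmax]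
    have h1 := Groth.Agent.Lib.Helper12.UnivOpenDim.trn_le_dim_inter_fibre_of_isLocallyClosed f
      (U : Set X) U.2.isLocallyClosed z hzU
    rw [hz.trans hx] at h1
    exact h1.trans (h U Y₀ hY₀ hyY₀ η hη)
  tfae_finish


end Groth.Agent.S4938
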