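import Groth.Statements.S2556
import Mathlib
import Groth.Agent.Lib.Helper8.ChevalleyFibre
import Groth.Agent.S4938

set_option autoImplicit false
open CategoryTheory AlgebraicGeometry
universe u
open EGA43

namespace Groth.Agent.S2556

/-- Suppose Y is a locally Noetherian scheme whose local rings are all geometrically unibranch, and f :
X ⟶ Y is locally of finite type. Then f is universally open exactly when its underlying map of
spaces is open. -/
theorem result {X Y : Scheme.{u}} [IsLocallyNoetherian Y]
    (hY : ∀ y : Y, CAlg2.IsGeomUnibranch (Y.presheaf.stalk y)) (f : X ⟶ Y) [LocallyOfFiniteType f] :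
    UniversallyOpen f ↔ IsOpenMap f.base := by
  constructor
  · intro h
    exact f.isOpenMap
  · intro h
    apply Groth.Agent.Lib.Helper8.ChevalleyFibre.universallyOpen_of_forall_isUnivOpenAt
    intro x
    have hc : ∀ x' : X, f.base x' = f.base x → EGA43.IsOpenAt f.base x' :=
      fun x' _ => Groth.Agent.Lib.Helper8.isOpenAt_of_isOpenMap h x'
    have htfae := Groth.Agent.S4938.result f (f.base x) (hY (f.base x))
    have h30 : (∀ x' : X, f.base x' = f.base x → EGA43.IsOpenAt f.base x') →
        (∀ x' : X, f.base x' = f.base x → EGA43.IsUnivOpenAt f x') := (htfae.out 3 0).mp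
    exact h30 hc x rfl


end Groth.Agent.S2556
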