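import Groth.Statements.S2559
import Mathlib
import Groth.Agent.Lib.Helper6.OpenDimSch

set_option autoImplicit false
open CategoryTheory AlgebraicGeometry
universe u
open EGA43

namespace Groth.Agent.S2559

/-- Let f : X ⟶ Y be a morphism of locally Noetherian schemes, x a point of X and y = f x. Suppose f is
open at the generic point of every irreducible component of the fibre over y passing through x. Then
dim O_{X,x} = dim O_{Y,y} + dim O_{X_y,x}. -/
theorem result {X Y : Scheme.{u}} [IsLocallyNoetherian X] [IsLocallyNoetherian Y]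
    (f : X ⟶ Y) (x : X)
    (h : ∀ z : ↥(f.fiber (f.base x)), f.asFiber x ∈ closure {z} →
      (∀ z' : ↥(f.fiber (f.base x)), z ∈ closure {z'} → z' = z) →
      EGA43.IsOpenAt f.base ((f.fiberι (f.base x)).base z)) :
    ringKrullDim (X.presheaf.stalk x) =
      ringKrullDim (Y.presheaf.stalk (f.base x)) +
        ringKrullDim ((f.fiber (f.base x)).presheaf.stalk (f.asFiber x)) := by
  classical
  apply le_antisymm (Groth.Agent.Lib.Helper6.OpenDim.ringKrullDim_stalk_le_add_fiber f x)
  have hι : (f.fiberι (f.base x)) (f.asFiber x) = x := f.fiberι_asFiber x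
  have hind : Topology.IsInducing (f.fiberι (f.base x)) :=
    (f.fiberι (f.base x)).isEmbedding.isInducing
  have hmono : StrictMono (f.fiberι (f.base x)) := by
    intro a b hab
    rw [lt_iff_le_not_ge] at hab ⊢
    simp only [Scheme.le_iff_specializes] at hab ⊢
    rwa [hind.specializes_iff, hind.specializes_iff]
  have hfinX : Order.coheight x ≠ ⊤ := by
    have h1 := ringKrullDim_stalk_eq_coheight x
    have h2 : ringKrullDim (X.presheaf.stalk x) ≠ ⊤ := ringKrullDim_ne_top
    intro h3
    rw [h1, h3] at h2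
    exact h2 rfl
  have hle : Order.coheight (f.asFiber x) ≤ Order.coheight x := by
    have h1 := Order.coheight_le_coheight_apply_of_strictMono _ hmono (f.asFiber x)
    rwa [hι] at h1
  have hfinF : Order.coheight (f.asFiber x) ≠ ⊤ := ne_top_of_le_ne_top hfinX hle
  obtain ⟨nF, hnF⟩ := ENat.ne_top_iff_exists.mp hfinF
  obtain ⟨p, hp, hl⟩ := Order.exists_series_of_coheight_eq_coe (f.asFiber x) hnF.symm
  have hwmax : IsMax p.last := by
    have h1 := Order.coheight_eq_index_of_length_eq_head_coheight (p := p)
      (by rw [hp, hl, hnF]) (Fin.last _)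
    have h2 : IsMax (p.toFun (Fin.last p.length)) := by simpa using h1
    exact h2
  have hxw : f.asFiber x ∈ closure {p.last} := by
    rw [← specializes_iff_mem_closure, ← Scheme.le_iff_specializes, ← hp]
    exact LTSeries.head_le_last p
  have hwmax' : ∀ w' : ↥(f.fiber (f.base x)), p.last ∈ closure {w'} → w' = p.last := by
    intro w' hw'
    rw [← specializes_iff_mem_closure] at hw'
    exact (hw'.antisymm (Scheme.le_iff_specializes.mp (hwmax (Scheme.le_iff_specializes.mpr hw')))).eq
  have hopen := h p.last hxw hwmax'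
  have hfz : f.base ((f.fiberι (f.base x)) p.last) = f.base x := by
    have h1 : (f.fiberι (f.base x)) p.last ∈ Set.range (f.fiberι (f.base x)) := ⟨_, rfl⟩
    rw [Scheme.Hom.range_fiberι] at h1
    exact h1
  have hzmax : ∀ z' : X, z' ⤳ (f.fiberι (f.base x)) p.last →
      f.base z' = f.base ((f.fiberι (f.base x)) p.last) → z' = (f.fiberι (f.base x)) p.last := by
    intro z' hz' hfz'
    have h1 : z' ∈ Set.range (f.fiberι (f.base x)) := by
      rw [Scheme.Hom.range_fiberι]; exact hfz'.trans hfz
    obtain ⟨w', rfl⟩ := h1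
    have h2 : w' ⤳ p.last := hind.specializes_iff.mp hz'
    rw [hwmax' w' (specializes_iff_mem_closure.mp h2)]
  have hdim := Groth.Agent.Lib.Helper6.OpenDim.ringKrullDim_stalk_le_of_isOpenAt f _ hopen hzmax
  rw [hfz, ringKrullDim_stalk_eq_coheight ((f.fiberι (f.base x)) p.last)] at hdim
  have hq := Groth.Agent.Lib.Helper6.OpenDim.length_add_coheight_last_le (p.map _ hmono)
  rw [LTSeries.last_map, LTSeries.head_map, hp, hι] at hq
  rw [ringKrullDim_stalk_eq_coheight x, ringKrullDim_stalk_eq_coheight (f.asFiber x)]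
  have hlen : (p.map _ hmono).length = nF := hl
  rw [hlen] at hq
  calc ringKrullDim (Y.presheaf.stalk (f.base x)) + ((Order.coheight (f.asFiber x) : ℕ∞) : WithBot ℕ∞)
      ≤ ((Order.coheight ((f.fiberι (f.base x)) p.last) : ℕ∞) : WithBot ℕ∞) +
          ((Order.coheight (f.asFiber x) : ℕ∞) : WithBot ℕ∞) := by gcongr
    _ = (((nF : ℕ∞) + Order.coheight ((f.fiberι (f.base x)) p.last) : ℕ∞) : WithBot ℕ∞) := by
        rw [← hnF, add_comm]; push_cast; rfl
    _ ≤ ((Order.coheight x : ℕ∞) : WithBot ℕ∞) := by exact_mod_cast hq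

end Groth.Agent.S2559
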