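import Groth.Statements.S2572
-- import your own Groth.Agent.* helpers here
import Mathlib
import Groth.Agent.Lib.Helper12.DedekindUO2

set_option autoImplicit false
open CategoryTheory AlgebraicGeometry
universe u
open EGA43

namespace Groth.Agent.S2572

/-- Let Y be an irreducible locally Noetherian scheme whose local rings are regular of dimension at most
one, f : X ⟶ Y locally of finite type, and y a point of Y. If every irreducible component of X
meeting the fibre over y has dense image in Y, then there is an open subset U of X containing that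
fibre such that the restriction of f to U is universally open. -/
theorem result {X Y : Scheme.{u}} [IsLocallyNoetherian Y]
    [IrreducibleSpace Y]
    (hY : ∀ y : Y, IsRegularLocalRing (Y.presheaf.stalk y) ∧ ringKrullDim (Y.presheaf.stalk y) ≤ 1)
    (f : X ⟶ Y) [LocallyOfFiniteType f] (y : Y)
    (h : ∀ Z ∈ irreducibleComponents (X : Type u), (Z ∩ f.base ⁻¹' {y}).Nonempty → Dense (f.base '' Z)) :
    ∃ U : X.Opens, f.base ⁻¹' {y} ⊆ (U : Set X) ∧ UniversallyOpen (U.ι ≫ f) := by
  haveI : IsLocallyNoetherian X := LocallyOfFiniteType.isLocallyNoetherian f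
  have hopen := Groth.Agent.Lib.Helper12.DedekindUO.isOpen_setOf_forall_irreducibleComponents
    (X := X) (fun Z => Dense (f.base '' Z))
  refine ⟨⟨_, hopen⟩, ?_, ?_⟩
  · intro x hx Z hZ hxZ
    exact h Z hZ ⟨x, hxZ, hx⟩
  · rw [Groth.Agent.S4931.universallyOpen_iff_forall_isUnivOpenAt]
    intro u
    apply Groth.Agent.Lib.Helper12.DedekindUO.isUnivOpenAt_comp_of_isOpenImmersion
    obtain ⟨Z, hZ, hxZ⟩ : ∃ Z ∈ irreducibleComponents (X : Type u),
        (Scheme.Opens.ι (⟨_, hopen⟩ : X.Opens)).base u ∈ Z :=
      ⟨irreducibleComponent _, irreducibleComponent_mem_irreducibleComponents _,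
        mem_irreducibleComponent⟩
    exact Groth.Agent.Lib.Helper12.DedekindUO.isUnivOpenAt_of_dominating_component f _ (hY _).1
      (hY _).2 Z hZ hxZ (u.2 Z hZ hxZ)

end Groth.Agent.S2572
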