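import Groth.Statements.S2574
import Mathlib
import Groth.Agent.Lib.Helper9.FlatFamily

set_option autoImplicit false
open TensorProduct
universe u
open EGA43

namespace Groth.Agent.S2574


open TensorProduct
open Groth.Agent.Lib.Helper9.FlatFamily

/-- Let A be a Noetherian ring, J a nilpotent ideal of A and M an A-module. Then M is flat over A if and
only if (A/J) ⊗_A M is flat over A/J and, for every associated prime p of A, the localization M_p is
flat over A_p. -/
theorem result {A : Type u} [CommRing A] [IsNoetherianRing A]
    (J : Ideal A) (hJ : IsNilpotent J) (M : Type u) [AddCommGroup M] [Module A M] :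
    Module.Flat A M ↔
      Module.Flat (A ⧸ J) ((A ⧸ J) ⊗[A] M) ∧
        ∀ p : associatedPrimes A A,
          haveI : p.1.IsPrime := IsAssociatedPrime.isPrime p.2
          Module.Flat (Localization.AtPrime p.1) (LocalizedModule p.1.primeCompl M) := by
  constructor
  · intro hM
    refine ⟨inferInstance, ?_⟩
    intro p
    infer_instance
  · rintro ⟨h1, h2⟩
    haveI := h1
    haveI : Fintype ↥(associatedPrimes A A) := (associatedPrimes.finite A A).fintype
    refine flat_of_family (A := A) (ι := ↥(associatedPrimes A A))
      (fun p => Localization.AtPrime p.1) ?_ J hJ M ?_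
    · intro a ha
      by_contra hne
      obtain ⟨P, hP, hle⟩ := exists_le_isAssociatedPrime_of_isNoetherianRing A a hne
      have h3 := ha ⟨P, hP⟩
      haveI : P.IsPrime := hP.isPrime
      rw [IsLocalization.map_eq_zero_iff P.primeCompl] at h3
      obtain ⟨s, hs⟩ := h3
      have hsP : (s : A) ∈ P := by
        apply hle
        rw [Submodule.mem_colon_singleton, Submodule.mem_bot, smul_eq_mul]
        exact hs
      exact s.2 hsP
    · intro p
      haveI := h2 p
      exact Module.Flat.of_linearEquiv (LocalizedModule.equivTensorProduct p.1.primeCompl M).symm

end Groth.Agent.S2574
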