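import Groth.Statements.S2575
import Mathlib
import Groth.Agent.Lib.Helper25.ConsFlat
import Groth.Agent.S5880
import Groth.Agent.S3426
import Groth.Agent.S3443
import Groth.Agent.S12442

set_option autoImplicit false
set_option linter.style.haveILetI false
open CategoryTheory AlgebraicGeometry
universe u
open EGA43

namespace Groth.Agent.S2575

open CategoryTheory.Limits in
/-- Let g : Y ⟶ S and f : X ⟶ Y be such that X and Y are of finite presentation over S (locally of
finite presentation, quasi-compact and quasi-separated). For each point s of S let f_s be the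
induced morphism from the fibre of f ≫ g over s to the fibre of g over s. Then the set of s for
which f_s is an isomorphism is locally constructible in S. -/
theorem result {X Y S : Scheme.{u}} (f : X ⟶ Y) (g : Y ⟶ S)
    [LocallyOfFinitePresentation g] [QuasiCompact g] [QuasiSeparated g]
    [LocallyOfFinitePresentation (f ≫ g)] [QuasiCompact (f ≫ g)] [QuasiSeparated (f ≫ g)] :
    Topology.IsLocallyConstructible {s : S |
      IsIso (pullback.lift (pullback.fst (f ≫ g) (S.fromSpecResidueField s) ≫ f) (pullback.snd (f ≫ g) (S.fromSpecResidueField s))
          ((Category.assoc _ _ _).trans pullback.condition) :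
        pullback (f ≫ g) (S.fromSpecResidueField s) ⟶ pullback g (S.fromSpecResidueField s))} := by
  have h1 := Groth.Agent.S5880.result Groth.Agent.Lib.Helper25.ConsFlat.isConsMor_flat f g
  have h2 := Groth.Agent.S3426.result f g
  have h3 := Groth.Agent.S3443.result f g
  convert (h1.inter h2).inter h3 using 1
  ext s
  have hsnd : Groth.Agent.S3443.fibMap f g s ≫ pullback.snd g (S.fromSpecResidueField s) =
      pullback.snd (f ≫ g) (S.fromSpecResidueField s) := pullback.lift_snd _ _ _
  haveI : QuasiCompact (Groth.Agent.S3443.fibMap f g s) :=
    MorphismProperty.HasOfPostcompProperty.of_postcomp (W := @QuasiCompact) (W' := @QuasiSeparated)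
      (Groth.Agent.S3443.fibMap f g s) (pullback.snd g (S.fromSpecResidueField s)) inferInstance
      (by rw [hsnd]; infer_instance)
  have key : IsIso (Groth.Agent.S3443.fibMap f g s) ↔
      (Flat (Groth.Agent.S3443.fibMap f g s) ∧ Mono (Groth.Agent.S3443.fibMap f g s)) ∧
        Function.Surjective (Groth.Agent.S3443.fibMap f g s).base := by
    constructor
    · intro h
      exact ⟨⟨inferInstance, inferInstance⟩,
        (inferInstance : Surjective (Groth.Agent.S3443.fibMap f g s)).surj⟩
    · rintro ⟨⟨h1, h2⟩, h3⟩
      haveI : Surjective (Groth.Agent.S3443.fibMap f g s) := ⟨h3⟩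
      exact Flat.isIso_of_surjective_of_mono _
  exact key

end Groth.Agent.S2575
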