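import Groth.Statements.S2579
-- import your own Groth.Agent.* helpers here
import Mathlib
import Groth.Agent.Lib.Helper12.LimConstr
import Groth.Agent.Lib.Helper12.ConstrNhds
import Groth.Agent.Lib.Helper12.FibMono
import Groth.Agent.S12442

set_option autoImplicit false
universe u
open CategoryTheory AlgebraicGeometry
open EGA43

namespace Groth.Agent.S2579
open Groth.Agent.Lib.Helper12.ConstrNhds Groth.Agent.Lib.Helper12.LimConstr Topology CategoryTheory.Limits
open Groth.Agent.Lib.Helper12.FibRad Groth.Agent.Lib.Helper12.UnramLocus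

/-- Let S = lim S_i be a cofiltered limit of schemes with affine transition morphisms, S_{i₀} a
quasi-compact quasi-separated stage (the source needs S_{i₀} only quasi-compact; quasi-separatedness
is assumed here), f₀ : X₀ ⟶ Y₀ an S_{i₀}-morphism between schemes of finite presentation over
S_{i₀}, and f : X ⟶ Y its base change to S (base changes expressed by pullback squares). If f is a
monomorphism, then the base change f_i : X_i ⟶ Y_i of f₀ to some stage S_i is a monomorphism. -/
theorem result {I : Type u} [SmallCategory I] [IsCofiltered I]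
    (D : I ⥤ Scheme.{u}) (c : Limits.Cone D) (hc : Limits.IsLimit c)
    [∀ (i j : I) (f : i ⟶ j), IsAffineHom (D.map f)] (i₀ : I) [CompactSpace (D.obj i₀)]
    [QuasiSeparatedSpace (D.obj i₀)] {X₀ Y₀ : Scheme.{u}} (f₀ : X₀ ⟶ Y₀) (g₀ : Y₀ ⟶ D.obj i₀)
    [LocallyOfFinitePresentation g₀] [QuasiCompact g₀] [QuasiSeparated g₀]
    [LocallyOfFinitePresentation (f₀ ≫ g₀)] [QuasiCompact (f₀ ≫ g₀)] [QuasiSeparated (f₀ ≫ g₀)]
    {X Y : Scheme.{u}} (f : X ⟶ Y) (g : Y ⟶ c.pt) (qY : Y ⟶ Y₀) (qX : X ⟶ X₀)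
    (hY : IsPullback qY g g₀ (c.π.app i₀)) (hX : IsPullback qX f f₀ qY) [Mono f] :
    ∃ (i : I) (φ : i ⟶ i₀) (Xi Yi : Scheme.{u}) (fi : Xi ⟶ Yi) (gi : Yi ⟶ D.obj i) (pY : Yi ⟶ Y₀)
      (pX : Xi ⟶ X₀), IsPullback pY gi g₀ (D.map φ) ∧ IsPullback pX fi f₀ pY ∧ Mono fi := by
  haveI hD : ∀ {i j : I} (f : i ⟶ j), IsAffineHom (D.map f) := fun f => inferInstance
  haveI : LocallyOfFinitePresentation f₀ := Groth.Agent.S12442.result f₀ g₀
  haveI : QuasiCompact f₀ :=
    MorphismProperty.HasOfPostcompProperty.of_postcomp (W := @QuasiCompact) (W' := @QuasiSeparated)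
      f₀ g₀ inferInstance inferInstance
  haveI : QuasiSeparated f₀ := QuasiSeparated.of_comp f₀ g₀
  haveI : QuasiCompact (pullback.diagonal f₀) := inferInstance
  haveI : LocallyOfFinitePresentation (pullback.diagonal f₀) :=
    Groth.Agent.S12442.aux (pullback.diagonal f₀) (pullback.fst f₀ f₀)
      (by rw [pullback.diagonal_fst]; infer_instance) inferInstance
  haveI : LocallyOfFinitePresentation (pullback.fst f₀ f₀ ≫ f₀ ≫ g₀) := inferInstance
  haveI : QuasiCompact (pullback.fst f₀ f₀ ≫ f₀ ≫ g₀) := inferInstance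
  haveI : LocallyOfFiniteType f :=
    MorphismProperty.of_isPullback (P := @LocallyOfFiniteType) hX inferInstance
  have hlc1 : IsLocallyConstructible
      ((pullback.fst f₀ f₀ ≫ f₀ ≫ g₀).base '' (Set.range (pullback.diagonal f₀).base)ᶜ) := by
    have h1 : IsLocallyConstructible (Set.range (pullback.diagonal f₀).base) := by
      rw [← Set.image_univ]
      exact (pullback.diagonal f₀).isLocallyConstructible_image IsLocallyConstructible.univ
    exact (pullback.fst f₀ f₀ ≫ f₀ ≫ g₀).isLocallyConstructible_image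
      (isLocallyConstructible_compl h1)
  have hlc2 : IsLocallyConstructible ((f₀ ≫ g₀).base '' (unramLocus f₀)ᶜ) :=
    (f₀ ≫ g₀).isLocallyConstructible_image
      (isLocallyConstructible_compl (isLocallyConstructible_unramLocus f₀))
  have hC := (hlc1.union hlc2).isConstructible
  have hbig : IsPullback qX (f ≫ g) (f₀ ≫ g₀) (c.π.app i₀) := hX.paste_vert hY
  obtain ⟨hUI, hFU⟩ := (mono_iff_universallyInjective_and_formallyUnramified f).mp inferInstance
  have hempty : (c.π.app i₀).base ⁻¹'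
      ((pullback.fst f₀ f₀ ≫ f₀ ≫ g₀).base '' (Set.range (pullback.diagonal f₀).base)ᶜ ∪
        (f₀ ≫ g₀).base '' (unramLocus f₀)ᶜ) = ∅ := by
    rw [Set.eq_empty_iff_forall_notMem]
    rintro s (⟨w₀, hw₀, hws⟩ | ⟨x₀, hx₀, hxs⟩)
    · exact hw₀ (mem_range_diagonal_of_universallyInjective f₀ g₀ f g qY qX (c.π.app i₀) hY hX
        w₀ s hws)
    · obtain ⟨x, hx1, hx2⟩ := Scheme.exists_preimage_of_isPullback hbig x₀ s hxs
      apply hx₀
      rw [← hx1, ← mem_unramLocus_iff_of_isPullback f₀ qY qX f hX x]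
      exact FormallyUnramified.stalkMap f x
  obtain ⟨i, φ, hi⟩ := exists_preimage_eq_empty D c hc i₀ _ hC hempty
  refine ⟨i, φ, pullback f₀ (pullback.fst g₀ (D.map φ)), pullback g₀ (D.map φ),
    pullback.snd _ _, pullback.snd _ _, pullback.fst _ _, pullback.fst _ _,
    IsPullback.of_hasPullback _ _, IsPullback.of_hasPullback _ _, ?_⟩
  rw [mono_iff_universallyInjective_and_formallyUnramified]
  constructor
  · apply universallyInjective_of_isPullback_of_forall_mem_range f₀ (pullback.fst g₀ (D.map φ))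
      (pullback.fst _ _) (pullback.snd _ _) (IsPullback.of_hasPullback _ _)
    rintro w₀ ⟨yi, hyi⟩
    by_contra h
    have : (pullback.snd g₀ (D.map φ)).base yi ∈ (D.map φ).base ⁻¹'
        ((pullback.fst f₀ f₀ ≫ f₀ ≫ g₀).base '' (Set.range (pullback.diagonal f₀).base)ᶜ ∪
          (f₀ ≫ g₀).base '' (unramLocus f₀)ᶜ) := by
      refine Or.inl ⟨w₀, h, ?_⟩
      have e : (pullback.fst f₀ f₀ ≫ f₀ ≫ g₀).base w₀ =
          g₀.base ((pullback.fst f₀ f₀ ≫ f₀).base w₀) := rfl
      rw [e, ← hyi, ← Scheme.Hom.comp_apply, pullback.condition]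
      rfl
    rw [hi] at this
    exact this
  · rw [formallyUnramified_iff_unramLocus_eq_univ, Set.eq_univ_iff_forall]
    intro xi
    rw [mem_unramLocus_iff_of_isPullback f₀ (pullback.fst g₀ (D.map φ)) (pullback.fst _ _)
      (pullback.snd _ _) (IsPullback.of_hasPullback _ _) xi]
    by_contra h
    have : (pullback.snd g₀ (D.map φ)).base
        ((pullback.snd f₀ (pullback.fst g₀ (D.map φ))).base xi) ∈ (D.map φ).base ⁻¹'
        ((pullback.fst f₀ f₀ ≫ f₀ ≫ g₀).base '' (Set.range (pullback.diagonal f₀).base)ᶜ ∪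
          (f₀ ≫ g₀).base '' (unramLocus f₀)ᶜ) := by
      refine Or.inr ⟨_, h, ?_⟩
      rw [Scheme.Hom.comp_apply, ← Scheme.Hom.comp_apply (pullback.fst f₀ _) f₀,
        pullback.condition, Scheme.Hom.comp_apply,
        ← Scheme.Hom.comp_apply (pullback.fst g₀ _) g₀, pullback.condition]
      rfl
    rw [hi] at this
    exact this

end Groth.Agent.S2579
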