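import Groth.Statements.S2583
-- import your own Groth.Agent.* helpers here
import Mathlib
import Groth.Agent.Lib.Helper12.LimConstr
import Groth.Agent.Lib.Helper12.ConstrNhds
import Groth.Agent.Lib.Helper12.FibQF2
import Groth.Agent.S12442

set_option autoImplicit false
universe u
open CategoryTheory AlgebraicGeometry
open EGA43

namespace Groth.Agent.S2583
open Groth.Agent.Lib.Helper12.ConstrNhds Groth.Agent.Lib.Helper12.LimConstr Topology CategoryTheory.Limits
open Groth.Agent.Lib.Helper12.FibQF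

/-- Let S = lim S_i be a cofiltered limit of schemes with affine transition morphisms, S_{i₀} a
quasi-compact quasi-separated stage (the source needs S_{i₀} only quasi-compact; quasi-separatedness
is assumed here), f₀ : X₀ ⟶ Y₀ an S_{i₀}-morphism between schemes of finite presentation over
S_{i₀}, and f : X ⟶ Y its base change to S (base changes expressed by pullback squares). If f is
quasi-finite, then the base change f_i : X_i ⟶ Y_i of f₀ to some stage S_i is quasi-finite. -/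
theorem result {I : Type u} [SmallCategory I] [IsCofiltered I]
    (D : I ⥤ Scheme.{u}) (c : Limits.Cone D) (hc : Limits.IsLimit c)
    [∀ (i j : I) (f : i ⟶ j), IsAffineHom (D.map f)] (i₀ : I) [CompactSpace (D.obj i₀)]
    [QuasiSeparatedSpace (D.obj i₀)] {X₀ Y₀ : Scheme.{u}} (f₀ : X₀ ⟶ Y₀) (g₀ : Y₀ ⟶ D.obj i₀)
    [LocallyOfFinitePresentation g₀] [QuasiCompact g₀] [QuasiSeparated g₀]
    [LocallyOfFinitePresentation (f₀ ≫ g₀)] [QuasiCompact (f₀ ≫ g₀)] [QuasiSeparated (f₀ ≫ g₀)]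
    {X Y : Scheme.{u}} (f : X ⟶ Y) (g : Y ⟶ c.pt) (qY : Y ⟶ Y₀) (qX : X ⟶ X₀)
    (hY : IsPullback qY g g₀ (c.π.app i₀)) (hX : IsPullback qX f f₀ qY) [LocallyQuasiFinite f] :
    ∃ (i : I) (φ : i ⟶ i₀) (Xi Yi : Scheme.{u}) (fi : Xi ⟶ Yi) (gi : Yi ⟶ D.obj i) (pY : Yi ⟶ Y₀)
      (pX : Xi ⟶ X₀), IsPullback pY gi g₀ (D.map φ) ∧ IsPullback pX fi f₀ pY ∧ LocallyQuasiFinite fi := by
  haveI hD : ∀ {i j : I} (f : i ⟶ j), IsAffineHom (D.map f) := fun f => inferInstance
  haveI : LocallyOfFinitePresentation f₀ := Groth.Agent.S12442.result f₀ g₀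
  have hlc : IsLocallyConstructible ((f₀ ≫ g₀).base '' {x : X₀ | f₀.QuasiFiniteAt x}ᶜ) :=
    (f₀ ≫ g₀).isLocallyConstructible_image
      (isLocallyConstructible_compl (isLocallyConstructible_setOf_quasiFiniteAt f₀))
  have hC : IsConstructible ((f₀ ≫ g₀).base '' {x : X₀ | f₀.QuasiFiniteAt x}ᶜ) :=
    hlc.isConstructible
  have hbig : IsPullback qX (f ≫ g) (f₀ ≫ g₀) (c.π.app i₀) := hX.paste_vert hY
  have hempty : (c.π.app i₀).base ⁻¹' ((f₀ ≫ g₀).base '' {x : X₀ | f₀.QuasiFiniteAt x}ᶜ) = ∅ := by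
    rw [Set.eq_empty_iff_forall_notMem]
    rintro s ⟨x₀, hx₀, hxs⟩
    obtain ⟨x, hx1, hx2⟩ := Scheme.exists_preimage_of_isPullback hbig x₀ s hxs
    apply hx₀
    show f₀.QuasiFiniteAt x₀
    rw [← hx1, ← quasiFiniteAt_iff_of_isPullback f₀ qY qX f hX x]
    exact f.quasiFiniteAt x
  obtain ⟨i, φ, hi⟩ := exists_preimage_eq_empty D c hc i₀ _ hC hempty
  refine ⟨i, φ, pullback f₀ (pullback.fst g₀ (D.map φ)), pullback g₀ (D.map φ),
    pullback.snd _ _, pullback.snd _ _, pullback.fst _ _, pullback.fst _ _,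
    IsPullback.of_hasPullback _ _, IsPullback.of_hasPullback _ _, ?_⟩
  rw [← Scheme.Hom.quasiFiniteLocus_eq_top_iff, eq_top_iff]
  intro xi _
  show (pullback.snd f₀ (pullback.fst g₀ (D.map φ))).QuasiFiniteAt xi
  rw [quasiFiniteAt_iff_of_isPullback f₀ (pullback.fst g₀ (D.map φ)) (pullback.fst _ _)
    (pullback.snd _ _) (IsPullback.of_hasPullback _ _) xi]
  by_contra h
  have : (pullback.snd g₀ (D.map φ)).base
      ((pullback.snd f₀ (pullback.fst g₀ (D.map φ))).base xi) ∈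
      (D.map φ).base ⁻¹' ((f₀ ≫ g₀).base '' {x : X₀ | f₀.QuasiFiniteAt x}ᶜ) := by
    refine ⟨_, h, ?_⟩
    rw [Scheme.Hom.comp_apply, ← Scheme.Hom.comp_apply (pullback.fst f₀ _) f₀,
      pullback.condition, Scheme.Hom.comp_apply,
      ← Scheme.Hom.comp_apply (pullback.fst g₀ _) g₀, pullback.condition]
    rfl
  rw [hi] at this
  exact this

end Groth.Agent.S2583
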