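import Groth.Statements.S3445
-- import your own Groth.Agent.* helpers here
import Mathlib
import Groth.Agent.Lib.Helper12.FibQF
import Groth.Agent.S12442

set_option autoImplicit false
open CategoryTheory AlgebraicGeometry
universe u
open EGA43

namespace Groth.Agent.S3445
open Groth.Agent.Lib.Helper12.ConstrNhds Groth.Agent.Lib.Helper12.FibQF

open CategoryTheory.Limits in
/-- Let g : Y ⟶ S and f : X ⟶ Y be such that X and Y are of finite presentation over S (locally of
finite presentation, quasi-compact and quasi-separated). For each point s of S let f_s be the
induced morphism from the fibre of f ≫ g over s to the fibre of g over s. Then the set of s for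
which f_s is quasi-finite is locally constructible in S. -/
theorem result {X Y S : Scheme.{u}} (f : X ⟶ Y) (g : Y ⟶ S)
    [LocallyOfFinitePresentation g] [QuasiCompact g] [QuasiSeparated g]
    [LocallyOfFinitePresentation (f ≫ g)] [QuasiCompact (f ≫ g)] [QuasiSeparated (f ≫ g)] :
    Topology.IsLocallyConstructible {s : S |
      LocallyQuasiFinite (pullback.lift (pullback.fst (f ≫ g) (S.fromSpecResidueField s) ≫ f) (pullback.snd (f ≫ g) (S.fromSpecResidueField s))
          ((Category.assoc _ _ _).trans pullback.condition) :
        pullback (f ≫ g) (S.fromSpecResidueField s) ⟶ pullback g (S.fromSpecResidueField s))} := by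
  haveI : LocallyOfFinitePresentation f := Groth.Agent.S12442.result f g
  have hconstr : Topology.IsLocallyConstructible
      (((f ≫ g).base '' {x : X | f.QuasiFiniteAt x}ᶜ)ᶜ) :=
    isLocallyConstructible_compl ((f ≫ g).isLocallyConstructible_image
      (isLocallyConstructible_compl (isLocallyConstructible_setOf_quasiFiniteAt f)))
  convert hconstr using 1
  ext s
  rw [Set.mem_setOf_eq]
  refine (locallyQuasiFinite_fibMap_iff f g s).trans ?_
  simp only [Set.mem_compl_iff, Set.mem_image, Set.mem_setOf_eq, not_exists, not_and]
  constructor
  · intro h x hx hs
    exact hx (h x hs)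
  · intro h x hs
    by_contra hne
    exact h x hne hs

end Groth.Agent.S3445
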