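import Groth.Statements.S2592
-- import your own Groth.Agent.* helpers here
import Mathlib
import Groth.Agent.Lib.Helper12.PbDiag
import Groth.Agent.Lib.Helper12.LimQA

set_option autoImplicit false
universe u
open CategoryTheory AlgebraicGeometry
open EGA43

namespace Groth.Agent.S2592
open Groth.Agent.Lib.Helper12.PbDiag Groth.Agent.Lib.Helper12.LimQA Groth.Agent.Lib.Helper11.QALib CategoryTheory.Limits

/-- Let S = lim S_i be a cofiltered limit of schemes with affine transition morphisms, S_{i₀} a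
quasi-compact quasi-separated stage (the source needs S_{i₀} only quasi-compact; quasi-separatedness
is assumed here), f₀ : X₀ ⟶ Y₀ an S_{i₀}-morphism between schemes of finite presentation over
S_{i₀}, and f : X ⟶ Y its base change to S (base changes expressed by pullback squares). If f is
quasi-affine, then the base change f_i : X_i ⟶ Y_i of f₀ to some stage S_i is quasi-affine. -/
theorem result {I : Type u} [SmallCategory I] [IsCofiltered I]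
    (D : I ⥤ Scheme.{u}) (c : Limits.Cone D) (hc : Limits.IsLimit c)
    [∀ (i j : I) (f : i ⟶ j), IsAffineHom (D.map f)] (i₀ : I) [CompactSpace (D.obj i₀)]
    [QuasiSeparatedSpace (D.obj i₀)] {X₀ Y₀ : Scheme.{u}} (f₀ : X₀ ⟶ Y₀) (g₀ : Y₀ ⟶ D.obj i₀)
    [LocallyOfFinitePresentation g₀] [QuasiCompact g₀] [QuasiSeparated g₀]
    [LocallyOfFinitePresentation (f₀ ≫ g₀)] [QuasiCompact (f₀ ≫ g₀)] [QuasiSeparated (f₀ ≫ g₀)]
    {X Y : Scheme.{u}} (f : X ⟶ Y) (g : Y ⟶ c.pt) (qY : Y ⟶ Y₀) (qX : X ⟶ X₀)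
    (hY : IsPullback qY g g₀ (c.π.app i₀)) (hX : IsPullback qX f f₀ qY) (hf : Mor2.IsQuasiAffine f) :
    ∃ (i : I) (φ : i ⟶ i₀) (Xi Yi : Scheme.{u}) (fi : Xi ⟶ Yi) (gi : Yi ⟶ D.obj i) (pY : Yi ⟶ Y₀)
      (pX : Xi ⟶ X₀), IsPullback pY gi g₀ (D.map φ) ∧ IsPullback pX fi f₀ pY ∧ Mor2.IsQuasiAffine fi := by
  haveI hD : ∀ {i j : I} (f : i ⟶ j), IsAffineHom (D.map f) := fun f => inferInstance
  haveI : CompactSpace Y₀ := QuasiCompact.compactSpace_of_compactSpace g₀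
  haveI : QuasiSeparatedSpace Y₀ := quasiSeparatedSpace_of_quasiSeparated g₀
  have hXS : IsPullback qX (f ≫ g) (f₀ ≫ g₀) (c.π.app i₀) := hX.paste_vert hY
  haveI : ∀ {i j : Over i₀} (a : i ⟶ j), IsAffineHom ((pbDiagram D i₀ (f₀ ≫ g₀)).map a) :=
    fun a => inferInstance
  haveI : ∀ j, CompactSpace ((pbDiagram D i₀ (f₀ ≫ g₀)).obj j) :=
    fun j => compactSpace_pbDiagram_obj D i₀ (f₀ ≫ g₀) j
  haveI : ∀ j, QuasiSeparatedSpace ((pbDiagram D i₀ (f₀ ≫ g₀)).obj j) :=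
    fun j => quasiSeparatedSpace_pbDiagram_obj D i₀ (f₀ ≫ g₀) j
  haveI : IsAffineHom (c.π.app i₀) := isAffineHom_π_app D c hc i₀
  haveI : IsAffineHom qY := MorphismProperty.of_isPullback (P := @IsAffineHom) hY.flip inferInstance
  let t : pbDiagram D i₀ (f₀ ≫ g₀) ⟶ (Functor.const (Over i₀)).obj Y₀ :=
    pbDiagramFst D i₀ (f₀ ≫ g₀) ≫ (Functor.const (Over i₀)).map f₀
  have ht : ∀ j, t.app j = pullback.fst (f₀ ≫ g₀) (D.map j.hom) ≫ f₀ := fun j => rfl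
  have hcomp : (pbCone c qX (f ≫ g) hXS).π.app (Over.mk (𝟙 i₀)) ≫ t.app (Over.mk (𝟙 i₀)) =
      f ≫ qY := by
    rw [ht]
    exact (pbCone_π_fst_assoc c qX (f ≫ g) hXS (Over.mk (𝟙 i₀)) f₀).trans hX.w
  have hqa : Mor2.IsQuasiAffine
      ((pbCone c qX (f ≫ g) hXS).π.app (Over.mk (𝟙 i₀)) ≫ t.app (Over.mk (𝟙 i₀))) := by
    rw [hcomp]
    exact qa_comp f qY hf (isQuasiAffine_of_isAffineHom qY)
  obtain ⟨j₁, hj₁⟩ := exists_isQuasiAffine_stage Y₀ (pbDiagram D i₀ (f₀ ≫ g₀)) t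
    (pbCone c qX (f ≫ g) hXS) (isLimitPbCone c hc qX (f ≫ g) hXS) (Over.mk (𝟙 i₀)) hqa
  have h1 : Mor2.IsQuasiAffine (t.app j₁) := hj₁ j₁ (𝟙 _)
  let fi : pullback (f₀ ≫ g₀) (D.map j₁.hom) ⟶ pullback g₀ (D.map j₁.hom) :=
    (pbMap D i₀ g₀ f₀).app j₁
  have hfi : fi ≫ pullback.fst g₀ (D.map j₁.hom) = pullback.fst (f₀ ≫ g₀) (D.map j₁.hom) ≫ f₀ :=
    pbMap_app_fst D i₀ g₀ f₀ j₁
  refine ⟨j₁.left, j₁.hom, pullback (f₀ ≫ g₀) (D.map j₁.hom), pullback g₀ (D.map j₁.hom),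
    fi, pullback.snd _ _, pullback.fst _ _, pullback.fst _ _,
    IsPullback.of_hasPullback _ _, isPullback_pbMap_app D i₀ g₀ f₀ j₁, ?_⟩
  haveI : IsAffineHom (pullback.fst g₀ (D.map j₁.hom)) :=
    MorphismProperty.pullback_fst (P := @IsAffineHom) _ _ inferInstance
  haveI : QuasiSeparated (pullback.fst g₀ (D.map j₁.hom)) := inferInstance
  have h2 : Mor2.IsQuasiAffine (fi ≫ pullback.fst g₀ (D.map j₁.hom)) := by
    rw [hfi]
    exact h1
  exact qa_of_comp fi (pullback.fst g₀ (D.map j₁.hom)) h2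

end Groth.Agent.S2592
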