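import Groth.Statements.S2594
-- import your own Groth.Agent.* helpers here
import Mathlib
import Groth.Agent.Lib.Helper12.EquidimBC
import Groth.Agent.Lib.Helper12.EquidimOpen

set_option autoImplicit false
open CategoryTheory AlgebraicGeometry
universe u
open EGA43

namespace Groth.Agent.S2594

open CategoryTheory.Limits in
/-- Let f : X ⟶ Y be locally of finite type and equidimensional at a point x, and g : Y' ⟶ Y a flat
morphism with Y' locally Noetherian (the source states this for arbitrary Y', but its proof reduces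
to the case where every irreducible component passes through the point, which needs the irreducible
components to be locally finite). Then the base change X ×_Y Y' ⟶ Y' is equidimensional at every
point lying over x. -/
theorem result {X Y Y' : Scheme.{u}} (f : X ⟶ Y) [LocallyOfFiniteType f] (g : Y' ⟶ Y) [Flat g] [IsLocallyNoetherian Y']
    (x : X) (h : EGA43.IsEquidimAt f x) (x' : ↥(pullback f g)) (hx' : (pullback.fst f g).base x' = x) :
    EGA43.IsEquidimAt (pullback.snd f g) x' := by
  classical
  haveI lft' : LocallyOfFiniteType (pullback.snd f g) :=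
    MorphismProperty.pullback_snd (P := @LocallyOfFiniteType) f g inferInstance
  haveI : IsLocallyNoetherian (pullback f g) :=
    LocallyOfFiniteType.isLocallyNoetherian (pullback.snd f g)
  obtain ⟨e, U, hxU, hA, hB⟩ :=
    (Groth.Agent.Lib.Helper12.EquidimOpen.isEquidimAt_iff_pointwise' f x).mp h
  obtain ⟨W, hW, hx'W, hWmax⟩ := Groth.Agent.S6460.exists_open_maxPts_specialize (pullback f g) x'
  rw [Groth.Agent.Lib.Helper12.EquidimOpen.isEquidimAt_iff_pointwise']
  refine ⟨e, (pullback.fst f g ⁻¹ᵁ U) ⊓ ⟨W, hW⟩, ⟨?_, hx'W⟩, ?_, ?_⟩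
  · show (pullback.fst f g) x' ∈ U
    rw [hx']; exact hxU
  · rintro ξ' ⟨hξ'U, hξ'W⟩ hξ'max
    have h1 : (pullback.fst f g) ξ' ∈ U := hξ'U
    have h2 := Groth.Agent.Lib.Helper12.BaseChange.isMaxPt_fst_of_flat f g ξ' hξ'max
    have h3 := (hA _ h1 h2).1
    refine ⟨Groth.Agent.Lib.Helper12.BaseChange.isMaxPt_snd f g ξ' hξ'max h3, ?_⟩
    exact (hWmax ξ' hξ'W hξ'max).map (pullback.snd f g).continuous
  · rintro z' ⟨hz'U, hz'W⟩ hmax'
    obtain ⟨hm, htr⟩ := Groth.Agent.Lib.Helper12.BaseChange.max_fibre_pullback f g z' hmax'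
    rw [htr]
    exact hB _ hz'U hm

end Groth.Agent.S2594
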