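import Groth.Statements.S2596
import Mathlib
import Groth.Agent.Lib.Helper8.ProperAtDvr

set_option autoImplicit false
open CategoryTheory AlgebraicGeometry
universe u
open EGA43

namespace Groth.Agent.S2596

open CategoryTheory.Limits in
/-- Let Y be locally Noetherian, f : X ⟶ Y separated and of finite type, and y a point of Y. Suppose
that for every discrete valuation ring A with fraction field K and every morphism g : Spec A ⟶ Y
sending the closed point to y, every K-point σ of X ×_Y Spec A lying over the generic point Spec K ⟶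
Spec A extends to a section of X ×_Y Spec A ⟶ Spec A. Then f is proper over some open neighbourhood
of y. -/
theorem result {X Y : Scheme.{u}} [IsLocallyNoetherian Y]
    (f : X ⟶ Y) [IsSeparated f] [LocallyOfFiniteType f] [QuasiCompact f] (y : Y)
    (h : ∀ (A : Type u) [CommRing A] [IsDomain A] [IsDiscreteValuationRing A]
      (g : Spec (CommRingCat.of A) ⟶ Y), g.base (IsLocalRing.closedPoint A) = y →
      ∀ σ : Spec (CommRingCat.of (FractionRing A)) ⟶ pullback f g,
        σ ≫ pullback.snd f g = Spec.map (CommRingCat.ofHom (algebraMap A (FractionRing A))) →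
        ∃ s : Spec (CommRingCat.of A) ⟶ pullback f g, s ≫ pullback.snd f g = 𝟙 _ ∧
          Spec.map (CommRingCat.ofHom (algebraMap A (FractionRing A))) ≫ s = σ) :
    ∃ U : Y.Opens, y ∈ U ∧ IsProper (f ∣_ U) := by
  classical
  obtain ⟨V, hV, hyV⟩ : ∃ V : Y.Opens, IsAffineOpen V ∧ y ∈ V := by
    obtain ⟨_, ⟨V, hV, rfl⟩, hy', -⟩ :=
      Y.isBasis_affineOpens.exists_subset_of_mem_open (Set.mem_univ y) isOpen_univ
    exact ⟨V, hV, hy'⟩
  have H : Groth.Agent.Lib.Helper8.ProperAtDvr.DvrLiftsAt f y Set.univ := by
    intro L _ A hA x g hg hc _ _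
    haveI := hA
    let e : FractionRing A ≃ₐ[A] L := FractionRing.algEquiv A L
    have h1 : CommRingCat.ofHom (algebraMap A (FractionRing A)) ≫
        CommRingCat.ofHom (e : FractionRing A →+* L) = CommRingCat.ofHom A.subtype := by
      ext a
      exact e.commutes a
    have h2 : CommRingCat.ofHom A.subtype ≫ CommRingCat.ofHom (e.symm : L →+* FractionRing A) =
        CommRingCat.ofHom (algebraMap A (FractionRing A)) := by
      ext a
      exact e.symm.commutes a
    have h3 : CommRingCat.ofHom (e.symm : L →+* FractionRing A) ≫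
        CommRingCat.ofHom (e : FractionRing A →+* L) = 𝟙 _ := by
      ext a
      exact e.apply_symm_apply a
    have hw : (Spec.map (CommRingCat.ofHom (e.symm : L →+* FractionRing A)) ≫ x) ≫ f =
        Spec.map (CommRingCat.ofHom (algebraMap A (FractionRing A))) ≫ g := by
      rw [Category.assoc, hc, ← Category.assoc, ← Spec.map_comp, h2]
    obtain ⟨s, hs1, hs2⟩ := h A g hg (Limits.pullback.lift _ _ hw) (Limits.pullback.lift_snd _ _ _)
    refine ⟨s ≫ Limits.pullback.fst f g, ?_, ?_⟩
    · rw [Category.assoc, Limits.pullback.condition, ← Category.assoc, hs1, Category.id_comp]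
    · rw [← h1, Spec.map_comp, Category.assoc, ← Category.assoc (Spec.map _) s, hs2,
        Limits.pullback.lift_fst, ← Category.assoc, ← Spec.map_comp, h3, Spec.map_id,
        Category.id_comp]
  exact Groth.Agent.Lib.Helper8.ProperAtDvr.exists_isProper_restrict f y V hV hyV
    ((H.restrict V hyV).mono (fun _ _ => trivial))

end Groth.Agent.S2596
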