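import Groth.Statements.S9437
import Groth.Agent.Lib.Helper4.FlatLocal3

set_option autoImplicit false
universe u
open CAlg

namespace Groth.Agent.S9437

/-- Serre's condition (S_k) descends along faithfully flat ring maps: if S is faithfully flat over R,
Noetherian and (S_k), then R is Noetherian and (S_k). -/
theorem result (k : ℕ) (R : Type u) [CommRing R] (S : Type u) [CommRing S]
    [Algebra R S] [Module.FaithfullyFlat R S] [IsNoetherianRing S] (hS : LocCoh.HasSk k S S) :
    IsNoetherianRing R ∧ LocCoh.HasSk k R R := by
  have hNoe : IsNoetherianRing R := by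
    rw [isNoetherianRing_iff, isNoetherian_iff']
    have hm : Monotone (Ideal.map (algebraMap R S)) := fun _ _ h => Ideal.map_mono h
    have hmono : StrictMono (Ideal.map (algebraMap R S)) :=
      hm.strictMono_of_injective Ideal.map_injective_of_faithfullyFlat
    exact hmono.wellFoundedGT
  refine ⟨hNoe, ?_⟩
  rw [Groth.Agent.Lib.Helper4.hasSk_self_iff'] at hS ⊢
  intro p _
  obtain ⟨Q, hQ, hQp⟩ := Ideal.exists_isPrime_liesOver_of_faithfullyFlat (B := S) p
  have hle : p.map (algebraMap R S) ≤ Q := by
    rw [Ideal.map_le_iff_le_comap]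
    exact le_of_eq hQp.over
  obtain ⟨q, hqmin, hqQ⟩ := Ideal.exists_minimalPrimes_le hle
  have hqprime : q.IsPrime := hqmin.1.1
  have hqp : q.LiesOver p := ⟨by
    apply le_antisymm
    · exact Ideal.map_le_iff_le_comap.mp hqmin.1.2
    · rw [hQp.over]
      exact Ideal.comap_mono hqQ⟩
  have hht : q.height = p.height := by
    rw [Ideal.height_eq_height_add_of_liesOver_of_hasGoingDown p q]
    have h0 : (q.map (Ideal.Quotient.mk (p.map (algebraMap R S)))).height = 0 := by
      rw [Ideal.minimalPrimes_eq_comap] at hqmin
      obtain ⟨q', hq', rfl⟩ := hqmin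
      rw [Ideal.map_comap_of_surjective _ Ideal.Quotient.mk_surjective]
      have : q'.IsPrime := hq'.1.1
      exact Ideal.height_eq_zero_iff.mpr hq'
    rw [h0, add_zero]
  have hdepth := Groth.Agent.Lib.Helper4.depth_localization_eq_of_minimal p q hqmin
  have := hS q
  rw [hht, hdepth] at this
  exact this

end Groth.Agent.S9437
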