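import Groth.Statements.S9235
import Mathlib

set_option autoImplicit false
universe u
open Brnch

namespace Groth.Agent.S9235

section Helpers

theorem local_of_card (N : Type*) [CommRing N] (h : ENat.card (MaximalSpectrum N) = 1) :
    IsLocalRing N := by
  haveI : Finite (MaximalSpectrum N) := by
    by_contra hinf
    haveI : Infinite (MaximalSpectrum N) := not_finite_iff_infinite.mp hinf
    rw [ENat.card_eq_top_of_infinite] at h
    exact absurd h (by simp)
  rw [ENat.card_eq_coe_natCard] at h
  have h1 : Nat.card (MaximalSpectrum N) = 1 := by exact_mod_cast h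
  obtain ⟨hsub, hne⟩ := Nat.card_eq_one_iff_unique.mp h1
  exact IsLocalRing.of_singleton_maximalSpectrum

theorem card_of_local (N : Type*) [CommRing N] [IsLocalRing N] :
    ENat.card (MaximalSpectrum N) = 1 := by
  rw [ENat.card_eq_coe_natCard, Nat.card_unique]
  simp

theorem idem_trivial_of_local {N : Type*} [CommRing N] [IsLocalRing N] {e : N}
    (he : IsIdempotentElem e) : e = 0 ∨ e = 1 := by
  rcases IsLocalRing.isUnit_or_isUnit_one_sub_self e with hu | hu
  · right
    exact (IsUnit.mul_right_inj hu).mp (he.eq.trans (mul_one e).symm)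
  · left
    have h0 : (1 - e) * e = 0 := by rw [sub_mul, one_mul, he.eq, sub_self]
    exact (hu.mul_right_eq_zero).mp h0

variable (A : Type u) [CommRing A]

local notation "mkN" => Ideal.Quotient.mk (nilradical A)

theorem mem_nilradical_of_forall {x : A} (h : ∀ P ∈ minimalPrimes A, x ∈ P) :
    x ∈ nilradical A := by
  have h1 : sInf (minimalPrimes A) = nilradical A :=
    Ideal.sInf_minimalPrimes (I := (⊥ : Ideal A))
  rw [← h1, Submodule.mem_sInf]
  exact h

theorem exists_idempotent (hfin : (minimalPrimes A).Finite)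
    (P₁ P₂ : Ideal A) (h₁ : P₁ ∈ minimalPrimes A) (h₂ : P₂ ∈ minimalPrimes A)
    (hne : P₁ ≠ P₂) :
    ∃ e : CAlg2.normRed A, IsIdempotentElem e ∧ e ≠ 0 ∧ e ≠ 1 := by
  classical
  obtain ⟨S, hS⟩ : ∃ S : Finset (Ideal A), ∀ P, P ∈ S ↔ P ∈ minimalPrimes A :=
    ⟨hfin.toFinset, fun P => by simp⟩
  let J : Ideal A := (S.erase P₁).inf (fun P => P)
  have hJ : ∀ x, x ∈ J ↔ ∀ P ∈ S.erase P₁, x ∈ P := fun x => Submodule.mem_finsetInf
  have hav : ∃ s ∈ P₁ ⊔ J, ∀ P ∈ minimalPrimes A, s ∉ P := by
    by_contra hcon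
    push_neg at hcon
    have hsub : ((P₁ ⊔ J : Ideal A) : Set A)
        ⊆ ⋃ i ∈ (↑S : Set (Ideal A)), ((i : Ideal A) : Set A) := by
      intro s hs
      obtain ⟨P, hP, hsP⟩ := hcon s hs
      exact Set.mem_biUnion (Finset.mem_coe.mpr ((hS P).mpr hP)) hsP
    obtain ⟨P, hPS, hP⟩ := (Ideal.subset_union_prime (s := S) (f := fun P => P) P₁ P₁
      (fun i hi _ _ => ((hS i).mp hi).1.1)).mp hsub
    have hPmin := (hS P).mp hPS
    have h1P : P₁ ≤ P := le_sup_left.trans hP
    have hPP₁ : P = P₁ := le_antisymm (hPmin.2 ⟨h₁.1.1, bot_le⟩ h1P) h1P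
    have hJP : J ≤ P₁ := by rw [← hPP₁]; exact le_sup_right.trans hP
    obtain ⟨P', hP'S, hP'le⟩ := (Ideal.IsPrime.inf_le' h₁.1.1).mp hJP
    rw [Finset.mem_erase] at hP'S
    have hP'min := (hS P').mp hP'S.2
    exact hP'S.1 (le_antisymm hP'le (h₁.2 ⟨hP'min.1.1, bot_le⟩ hP'le))
  obtain ⟨s, hs, hsmin⟩ := hav
  obtain ⟨a, ha, b, hb, hab⟩ := Submodule.mem_sup.mp hs
  have hbJ := (hJ b).mp hb
  have hab0 : mkN a * mkN b = 0 := by
    rw [← map_mul, Ideal.Quotient.eq_zero_iff_mem]
    apply mem_nilradical_of_forall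
    intro P hP
    by_cases hPP : P = P₁
    · rw [hPP]; exact P₁.mul_mem_right _ ha
    · exact P.mul_mem_left _ (hbJ P (Finset.mem_erase.mpr ⟨hPP, (hS P).mpr hP⟩))
  have hsnzd : mkN s ∈ nonZeroDivisors (CAlg2.red A) := by
    rw [mem_nonZeroDivisors_iff_right]
    intro x hx
    obtain ⟨x', rfl⟩ := Ideal.Quotient.mk_surjective x
    rw [← map_mul, Ideal.Quotient.eq_zero_iff_mem] at hx
    rw [Ideal.Quotient.eq_zero_iff_mem]
    apply mem_nilradical_of_forall
    intro P hP
    haveI := hP.1.1
    have h1 : x' * s ∈ P := nilradical_le_prime P hx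
    exact (hP.1.1.mem_or_mem h1).resolve_right (hsmin P hP)
  have ha0 : mkN a ≠ 0 := by
    intro h
    rw [Ideal.Quotient.eq_zero_iff_mem] at h
    haveI := h₂.1.1
    have h1 : a ∈ P₂ := nilradical_le_prime P₂ h
    have h2 : b ∈ P₂ := hbJ P₂ (Finset.mem_erase.mpr ⟨hne.symm, (hS P₂).mpr h₂⟩)
    exact hsmin P₂ h₂ (hab ▸ P₂.add_mem h1 h2)
  have hb0 : mkN b ≠ 0 := by
    intro h
    rw [Ideal.Quotient.eq_zero_iff_mem] at h
    haveI := h₁.1.1
    have h1 : b ∈ P₁ := nilradical_le_prime P₁ h
    exact hsmin P₁ h₁ (hab ▸ P₁.add_mem ha h1)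
  haveI : Nontrivial (CAlg2.red A) := ⟨⟨mkN a, 0, ha0⟩⟩
  let Q := FractionRing (CAlg2.red A)
  let sd : nonZeroDivisors (CAlg2.red A) := ⟨mkN s, hsnzd⟩
  let e : Q := IsLocalization.mk' Q (mkN a) sd
  have hspec : e * algebraMap (CAlg2.red A) Q (mkN s) = algebraMap (CAlg2.red A) Q (mkN a) :=
    IsLocalization.mk'_spec Q (mkN a) sd
  have hinj : Function.Injective (algebraMap (CAlg2.red A) Q) := IsFractionRing.injective _ _
  have hsunit : IsUnit (algebraMap (CAlg2.red A) Q (mkN s)) := IsLocalization.map_units Q sd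
  have hsum : mkN s = mkN a + mkN b := by rw [← map_add, hab]
  have hidem : IsIdempotentElem e := by
    have h1 : (e * e - e) * (algebraMap (CAlg2.red A) Q (mkN s)
        * algebraMap (CAlg2.red A) Q (mkN s)) = 0 := by
      have h2 : (e * e - e) * (algebraMap (CAlg2.red A) Q (mkN s)
            * algebraMap (CAlg2.red A) Q (mkN s))
          = (e * algebraMap (CAlg2.red A) Q (mkN s)) * (e * algebraMap (CAlg2.red A) Q (mkN s))
            - (e * algebraMap (CAlg2.red A) Q (mkN s)) * algebraMap (CAlg2.red A) Q (mkN s) := by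
        ring
      rw [h2, hspec, hsum, map_add]
      have h3 : algebraMap (CAlg2.red A) Q (mkN a) * algebraMap (CAlg2.red A) Q (mkN b) = 0 := by
        rw [← map_mul, hab0, map_zero]
      linear_combination (-1 : Q) * h3
    have h4 := (hsunit.mul hsunit).mul_left_eq_zero.mp h1
    exact sub_eq_zero.mp h4
  have he0 : e ≠ 0 := by
    intro h
    rw [h, zero_mul] at hspec
    exact ha0 (hinj (hspec.symm.trans (map_zero _).symm))
  have he1 : e ≠ 1 := by
    intro h
    rw [h, one_mul] at hspec
    have h1 := hinj hspec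
    rw [hsum] at h1
    exact hb0 (add_eq_left.mp h1)
  have he_int : IsIntegral (CAlg2.red A) e := by
    refine ⟨Polynomial.X ^ 2 - Polynomial.X, ?_, ?_⟩
    · exact (Polynomial.monic_X_pow 2).sub_of_left (by
        rw [Polynomial.degree_X_pow, Polynomial.degree_X]
        exact_mod_cast (by norm_num : (1 : ℕ) < 2))
    · rw [Polynomial.eval₂_sub, Polynomial.eval₂_X_pow, Polynomial.eval₂_X, pow_two, hidem.eq,
        sub_self]
  refine ⟨⟨e, he_int⟩, ?_, ?_, ?_⟩
  · exact Subtype.ext hidem
  · intro h; exact he0 (congrArg Subtype.val h)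
  · intro h; exact he1 (congrArg Subtype.val h)

end Helpers

/-- A local ring A has exactly one branch if and only if it is unibranch. Here the number of branches is
computed as the number of maximal ideals of the integral closure of A_red in its total ring of
fractions (infinity when A has infinitely many minimal primes). -/
theorem result (A : Type u) [CommRing A] [IsLocalRing A] :
    Brnch.numBranches A = 1 ↔ CAlg2.IsUnibranch A := by
  classical
  constructor
  · intro h
    unfold Brnch.numBranches at h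
    split_ifs at h with hfin
    · have hloc : IsLocalRing (CAlg2.normRed A) := local_of_card _ h
      refine ⟨?_, hloc⟩
      obtain ⟨P₁, hP₁, -⟩ := Ideal.exists_minimalPrimes_le (I := (⊥ : Ideal A))
        (J := IsLocalRing.maximalIdeal A) bot_le
      have hall : ∀ P ∈ minimalPrimes A, P = P₁ := by
        intro P hP
        by_contra hne
        obtain ⟨e, he, he0, he1⟩ := exists_idempotent A hfin P₁ P hP₁ hP (Ne.symm hne)
        rcases idem_trivial_of_local he with h0 | h1
        · exact he0 h0
        · exact he1 h1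
      have hnil : nilradical A = P₁ := by
        apply le_antisymm
        · haveI := hP₁.1.1
          exact nilradical_le_prime P₁
        · intro x hx
          apply mem_nilradical_of_forall
          intro P hP
          rw [hall P hP]; exact hx
      haveI : (nilradical A).IsPrime := hnil ▸ hP₁.1.1
      exact Ideal.Quotient.isDomain (nilradical A)
    · exact absurd h (by simp)
  · rintro ⟨hdom, hloc⟩
    haveI := hloc
    have hprime : (nilradical A).IsPrime :=
      (Ideal.Quotient.isDomain_iff_prime (nilradical A)).mp hdom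
    have hmin : minimalPrimes A = {nilradical A} :=
      (Ideal.radical_minimalPrimes (I := (⊥ : Ideal A))).symm.trans
        (Ideal.minimalPrimes_eq_subsingleton_self (I := nilradical A))
    have hfin : (minimalPrimes A).Finite := by
      rw [hmin]; exact Set.finite_singleton _
    unfold Brnch.numBranches
    rw [if_pos hfin]
    exact card_of_local _

end Groth.Agent.S9235
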