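import Groth.Statements.S9236
import Mathlib
import Groth.Agent.S9235

set_option autoImplicit false
universe u
open Brnch

namespace Groth.Agent.S9236

section Helpers

theorem unique_of_card {α : Type*} (h : ENat.card α = 1) : Subsingleton α ∧ Nonempty α := by
  haveI : Finite α := by
    by_contra hinf
    haveI : Infinite α := not_finite_iff_infinite.mp hinf
    rw [ENat.card_eq_top_of_infinite] at h
    exact absurd h (by simp)
  rw [ENat.card_eq_coe_natCard] at h
  have h1 : Nat.card α = 1 := by exact_mod_cast h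
  exact Nat.card_eq_one_iff_unique.mp h1

theorem card_of_unique {α : Type*} [Subsingleton α] [Nonempty α] : ENat.card α = 1 := by
  haveI : Finite α := Finite.of_subsingleton
  rw [ENat.card_eq_coe_natCard, Nat.card_unique]
  simp

variable (A : Type u) [CommRing A] [IsLocalRing A]

theorem core (m' : MaximalSpectrum (CAlg2.normRed A)) (q : ℕ)
    (hq0 : ringExpChar (CAlg2.normRed A ⧸ m'.asIdeal) = q) :
    Nonempty (Brnch.Emb A m') ∧
    (Subsingleton (Brnch.Emb A m') ↔
      ∀ x : CAlg2.normRed A ⧸ m'.asIdeal, ∃ n : ℕ,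
        x ^ q ^ n ∈ (Brnch.toResidue A m').range) := by
  classical
  haveI := m'.isMaximal
  letI : Field (CAlg2.normRed A ⧸ m'.asIdeal) := Ideal.Quotient.field m'.asIdeal
  have hmax : ((m'.asIdeal.comap (algebraMap (CAlg2.red A) (CAlg2.normRed A))).comap
      (Ideal.Quotient.mk (nilradical A))) = IsLocalRing.maximalIdeal A := by
    haveI : (m'.asIdeal.comap (algebraMap (CAlg2.red A) (CAlg2.normRed A))).IsMaximal :=
      Ideal.isMaximal_comap_of_isIntegral_of_isMaximal m'.asIdeal
    exact IsLocalRing.eq_maximalIdeal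
      (Ideal.comap_isMaximal_of_surjective _ Ideal.Quotient.mk_surjective)
  have hker : ∀ a ∈ IsLocalRing.maximalIdeal A, Brnch.toResidue A m' a = 0 := by
    intro a ha
    rw [← hmax] at ha
    show Ideal.Quotient.mk m'.asIdeal (algebraMap (CAlg2.red A) (CAlg2.normRed A)
      (Ideal.Quotient.mk (nilradical A) a)) = 0
    exact Ideal.Quotient.eq_zero_iff_mem.mpr ha
  let g : IsLocalRing.ResidueField A →+* (CAlg2.normRed A ⧸ m'.asIdeal) :=
    Ideal.Quotient.lift (IsLocalRing.maximalIdeal A) (Brnch.toResidue A m') hker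
  have hgf : g.comp (IsLocalRing.residue A) = Brnch.toResidue A m' :=
    RingHom.ext fun a => rfl
  have hres_int : (Brnch.toResidue A m').IsIntegral := by
    unfold Brnch.toResidue
    exact RingHom.IsIntegral.trans _ _
      (RingHom.IsIntegral.trans _ _
        (RingHom.isIntegral_of_surjective _ Ideal.Quotient.mk_surjective)
        (algebraMap_isIntegral_iff.mpr inferInstance))
      (RingHom.isIntegral_of_surjective _ Ideal.Quotient.mk_surjective)
  have hgint : g.IsIntegral :=
    RingHom.IsIntegral.tower_top (IsLocalRing.residue A) g (by rw [hgf]; exact hres_int)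
  letI : Algebra (IsLocalRing.ResidueField A) (CAlg2.normRed A ⧸ m'.asIdeal) := g.toAlgebra
  haveI : Algebra.IsIntegral (IsLocalRing.ResidueField A) (CAlg2.normRed A ⧸ m'.asIdeal) :=
    algebraMap_isIntegral_iff.mp hgint
  haveI : Algebra.IsAlgebraic (IsLocalRing.ResidueField A) (CAlg2.normRed A ⧸ m'.asIdeal) :=
    inferInstance
  have hφ : ∀ φ : (CAlg2.normRed A ⧸ m'.asIdeal) →ₐ[IsLocalRing.ResidueField A]
      AlgebraicClosure (IsLocalRing.ResidueField A),
      φ.toRingHom.comp (Brnch.toResidue A m') = Brnch.toClosure A := by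
    intro φ
    ext a
    have h1 : Brnch.toResidue A m' a = algebraMap (IsLocalRing.ResidueField A)
        (CAlg2.normRed A ⧸ m'.asIdeal) (IsLocalRing.residue A a) :=
      (RingHom.congr_fun hgf a).symm
    show φ (Brnch.toResidue A m' a) = _
    rw [h1, φ.commutes]
    rfl
  let mkEmb : ∀ σ : (CAlg2.normRed A ⧸ m'.asIdeal) →+*
      AlgebraicClosure (IsLocalRing.ResidueField A),
      σ.comp (Brnch.toResidue A m') = Brnch.toClosure A → Brnch.Emb A m' :=
    fun σ h => Subtype.mk σ h
  have hmkEmb : ∀ σ h, Subtype.val (mkEmb σ h) = σ := fun σ h => rfl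
  have hexp : ExpChar (CAlg2.normRed A ⧸ m'.asIdeal) (ringExpChar (IsLocalRing.ResidueField A)) :=
    expChar_of_injective_algebraMap
      (algebraMap (IsLocalRing.ResidueField A) (CAlg2.normRed A ⧸ m'.asIdeal)).injective
      (ringExpChar (IsLocalRing.ResidueField A))
  have hq : q = ringExpChar (IsLocalRing.ResidueField A) :=
    hq0.symm.trans (ringExpChar.eq _ _)
  subst hq
  refine ⟨⟨mkEmb (IsAlgClosed.lift : (CAlg2.normRed A ⧸ m'.asIdeal)
    →ₐ[IsLocalRing.ResidueField A] AlgebraicClosure (IsLocalRing.ResidueField A)).toRingHom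
    (hφ _)⟩, ?_, ?_⟩
  · intro hsub
    haveI : Subsingleton ((CAlg2.normRed A ⧸ m'.asIdeal) →ₐ[IsLocalRing.ResidueField A]
        AlgebraicClosure (IsLocalRing.ResidueField A)) := ⟨fun φ₁ φ₂ => by
      have h := Subsingleton.elim (mkEmb φ₁.toRingHom (hφ φ₁)) (mkEmb φ₂.toRingHom (hφ φ₂))
      have h' : φ₁.toRingHom = φ₂.toRingHom := by
        have := congrArg Subtype.val h
        rwa [hmkEmb, hmkEmb] at this
      exact AlgHom.ext fun x => RingHom.congr_fun h' x⟩
    haveI : Nonempty ((CAlg2.normRed A ⧸ m'.asIdeal) →ₐ[IsLocalRing.ResidueField A]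
        AlgebraicClosure (IsLocalRing.ResidueField A)) := ⟨IsAlgClosed.lift⟩
    have hcard : Nat.card ((CAlg2.normRed A ⧸ m'.asIdeal) →ₐ[IsLocalRing.ResidueField A]
        AlgebraicClosure (IsLocalRing.ResidueField A)) = 1 := Nat.card_unique
    have hsep : Field.finSepDegree (IsLocalRing.ResidueField A)
        (CAlg2.normRed A ⧸ m'.asIdeal) = 1 :=
      (Field.finSepDegree_eq_of_isAlgClosed (IsLocalRing.ResidueField A) _
        (AlgebraicClosure (IsLocalRing.ResidueField A))).trans hcard
    have hpi : IsPurelyInseparable (IsLocalRing.ResidueField A)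
        (CAlg2.normRed A ⧸ m'.asIdeal) :=
      (isPurelyInseparable_iff_finSepDegree_eq_one (IsLocalRing.ResidueField A) _).mpr hsep
    intro x
    obtain ⟨n, hn⟩ := (isPurelyInseparable_iff_pow_mem (IsLocalRing.ResidueField A)
      (ringExpChar (IsLocalRing.ResidueField A))).mp hpi x
    obtain ⟨k, hk⟩ := RingHom.mem_range.mp hn
    obtain ⟨a, rfl⟩ := (Ideal.Quotient.mk_surjective :
      Function.Surjective (IsLocalRing.residue A)) k
    exact ⟨n, RingHom.mem_range.mpr ⟨a, (RingHom.congr_fun hgf a).symm.trans hk⟩⟩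
  · intro hpow
    have hpi : IsPurelyInseparable (IsLocalRing.ResidueField A)
        (CAlg2.normRed A ⧸ m'.asIdeal) :=
      (isPurelyInseparable_iff_pow_mem (IsLocalRing.ResidueField A)
        (ringExpChar (IsLocalRing.ResidueField A))).mpr (fun x => by
          obtain ⟨n, hn⟩ := hpow x
          obtain ⟨a, ha⟩ := RingHom.mem_range.mp hn
          exact ⟨n, RingHom.mem_range.mpr
            ⟨IsLocalRing.residue A a, (RingHom.congr_fun hgf a).trans ha⟩⟩)
    refine ⟨fun e₁ e₂ => ?_⟩
    obtain ⟨σ₁, h1⟩ := e₁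
    obtain ⟨σ₂, h2⟩ := e₂
    have h3 : (σ₁.comp g).comp (IsLocalRing.residue A)
        = (σ₂.comp g).comp (IsLocalRing.residue A) :=
      RingHom.ext fun a => (RingHom.congr_fun h1 a).trans (RingHom.congr_fun h2 a).symm
    have h4 : σ₁.comp g = σ₂.comp g :=
      (RingHom.cancel_right (Ideal.Quotient.mk_surjective :
        Function.Surjective (IsLocalRing.residue A))).mp h3
    have h5 : σ₁ = σ₂ := IsPurelyInseparable.injective_comp_algebraMap
      (IsLocalRing.ResidueField A) (CAlg2.normRed A ⧸ m'.asIdeal)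
      (AlgebraicClosure (IsLocalRing.ResidueField A)) h4
    exact Subtype.ext h5

end Helpers

/-- A local ring A has exactly one geometric branch if and only if it is geometrically unibranch
(unibranch with purely inseparable residue field extension of the integral closure). The number of
geometric branches counts the maximal ideals of the integral closure of A_red in its total ring of
fractions with multiplicity the separable degree of the residue field extension. -/
theorem result (A : Type u) [CommRing A] [IsLocalRing A] :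
    Brnch.numGeomBranches A = 1 ↔ CAlg2.IsGeomUnibranch A := by
  classical
  constructor
  · intro h
    unfold Brnch.numGeomBranches at h
    split_ifs at h with hfin
    · obtain ⟨hsub, hne⟩ := unique_of_card h
      have hsubM : Subsingleton (MaximalSpectrum (CAlg2.normRed A)) := ⟨fun m₁ m₂ => by
        obtain ⟨e₁⟩ := (core A m₁ _ rfl).1
        obtain ⟨e₂⟩ := (core A m₂ _ rfl).1
        have h12 := Subsingleton.elim
          (⟨m₁, e₁⟩ : Σ m' : MaximalSpectrum (CAlg2.normRed A), Brnch.Emb A m') ⟨m₂, e₂⟩
        exact congrArg Sigma.fst h12⟩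
      have hneM : Nonempty (MaximalSpectrum (CAlg2.normRed A)) := hne.map Sigma.fst
      have hcardM : ENat.card (MaximalSpectrum (CAlg2.normRed A)) = 1 := card_of_unique
      have hnb : Brnch.numBranches A = 1 := by
        unfold Brnch.numBranches
        rw [if_pos hfin]
        exact hcardM
      have huni : CAlg2.IsUnibranch A := (Groth.Agent.S9235.result A).mp hnb
      refine ⟨huni, ?_⟩
      intro m' hm'
      show ∀ x : CAlg2.normRed A ⧸ m', ∃ n : ℕ,
        x ^ (ringExpChar (CAlg2.normRed A ⧸ m')) ^ n ∈ (Brnch.toResidue A ⟨m', hm'⟩).range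
      have hsubE : Subsingleton (Brnch.Emb A ⟨m', hm'⟩) := ⟨fun e₁ e₂ => by
        have h12 := Subsingleton.elim
          (⟨⟨m', hm'⟩, e₁⟩ : Σ m' : MaximalSpectrum (CAlg2.normRed A), Brnch.Emb A m')
          ⟨⟨m', hm'⟩, e₂⟩
        exact sigma_mk_injective h12⟩
      exact (core A ⟨m', hm'⟩ _ rfl).2.mp hsubE
    · exact absurd h (by simp)
  · rintro ⟨huni, hpi⟩
    have hnb : Brnch.numBranches A = 1 := (Groth.Agent.S9235.result A).mpr huni
    unfold Brnch.numBranches at hnb
    split_ifs at hnb with hfin
    · unfold Brnch.numGeomBranches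
      rw [if_pos hfin]
      haveI hloc : IsLocalRing (CAlg2.normRed A) := Groth.Agent.S9235.local_of_card _ hnb
      haveI hsubS : Subsingleton
          (Σ m' : MaximalSpectrum (CAlg2.normRed A), Brnch.Emb A m') :=
        ⟨fun ⟨m₁, e₁⟩ ⟨m₂, e₂⟩ => by
          obtain rfl : m₁ = m₂ := Subsingleton.elim _ _
          haveI : Subsingleton (Brnch.Emb A m₁) :=
            (core A m₁ _ rfl).2.mpr (@hpi m₁.asIdeal m₁.isMaximal)
          rw [Subsingleton.elim e₁ e₂]⟩
      haveI hneS : Nonempty (Σ m' : MaximalSpectrum (CAlg2.normRed A), Brnch.Emb A m') := by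
        obtain ⟨e⟩ := (core A default _ rfl).1
        exact ⟨⟨default, e⟩⟩
      exact card_of_unique
    · exact absurd hnb (by simp)

end Groth.Agent.S9236
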