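import Groth.Statements.S2913
import Mathlib

set_option autoImplicit false
open CategoryTheory CategoryTheory.Limits AlgebraicGeometry Opposite
universe u
open SGA1

namespace Groth.Agent.S2913

theorem comp_map_comp_map_eq {C : Type*} [Category C] {A : C} {J : Type*} [Category J]
    [Quiver.IsThin J] (F : J ⥤ C) {X Y : J} (f : A ⟶ F.obj X) (e1 : X ⟶ Y) (e2 : Y ⟶ X) :
    (f ≫ F.map e1) ≫ F.map e2 = f := by
  rw [Category.assoc, ← F.map_comp, Subsingleton.elim (e1 ≫ e2) (𝟙 _), F.map_id,
    Category.comp_id]

/-- Let g : S' ⟶ S be a surjective morphism of schemes such that for every open U of S the map O_S(U) →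
O_{S'}(g⁻¹U) is injective. Then g is an epimorphism in the category of schemes. -/
theorem result {S' S : Scheme.{u}} (g : S' ⟶ S) [Surjective g]
    (hinj : ∀ U : S.Opens, Function.Injective (g.app U).hom) : Epi g := by
  constructor
  intro T a b hab
  have hbase : a.base = b.base := by
    ext s
    obtain ⟨s', rfl⟩ := g.surjective s
    have := congr($(hab) s')
    simpa using this
  refine Scheme.Hom.ext hbase (fun U => ?_)
  have hmono : Mono (g.app (b ⁻¹ᵁ U)) :=
    ConcreteCategory.mono_of_injective _ (hinj (b ⁻¹ᵁ U))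
  rw [← cancel_mono (g.app (b ⁻¹ᵁ U))]
  have h1 := Scheme.Hom.congr_app hab U
  simp only [Scheme.Hom.comp_app] at h1
  rw [Category.assoc, Scheme.Hom.naturality, ← Category.assoc, h1]
  exact comp_map_comp_map_eq S'.presheaf _ _ _

end Groth.Agent.S2913
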