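import Groth.Statements.S2916
import Groth.Agent.Lib.Helper11.UD3

set_option autoImplicit false
open CategoryTheory CategoryTheory.Limits AlgebraicGeometry Opposite
universe u
open SGA1

namespace Groth.Agent.S2916

open Groth.Agent.Lib.Helper11

/-- Let g : S' ⟶ S be universally submersive with geometrically connected fibres (the base change of S'
to any algebraically closed field valued point of S is connected). Then S' is connected whenever S
is, and for schemes X, Y etale over S every S'-morphism between their base changes comes from
exactly one S-morphism X ⟶ Y. -/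
theorem result {S' S : Scheme.{u}} (g : S' ⟶ S)
    (hg : SGA1.UnivSubmersive g)
    (hconn : ∀ (K : Type u) [Field K] [IsAlgClosed K] (ξ : Spec (CommRingCat.of K) ⟶ S), ConnectedSpace ↑(pullback g ξ)) :
    (ConnectedSpace S → ConnectedSpace S') ∧
    ∀ (X Y : Over S) [Etale X.hom] [Etale Y.hom], Function.Bijective ((Over.pullback g).map : (X ⟶ Y) → _) := by
  refine ⟨fun hS => ?_, ?_⟩
  · haveI := hS
    exact UD3.connectedSpace_of_connected g hconn
      (hg (𝟙 S') (𝟙 S) g (IsPullback.id_vert g))
  · intro X Y _ _
    have hh : Function.Surjective (pullback.fst X.hom g) :=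
      (hg (pullback.snd X.hom g) X.hom (pullback.fst X.hom g)
        (IsPullback.of_hasPullback X.hom g)).surjective
    haveI : Surjective (pullback.fst X.hom g) := ⟨hh⟩
    have hquot : Topology.IsQuotientMap
        (pullback.fst (pullback.snd Y.hom X.hom) (pullback.fst X.hom g)) :=
      hg _ _ _ ((IsPullback.of_hasPullback (pullback.snd Y.hom X.hom) (pullback.fst X.hom g)).paste_vert
        (IsPullback.of_hasPullback X.hom g))
    constructor
    · intro u₁ u₂ h12
      apply Over.OverMorphism.ext
      have h12' := congrArg (fun k => k.left ≫ pullback.fst Y.hom g) h12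
      have e₁ : ((Over.pullback g).map u₁).left ≫ pullback.fst Y.hom g =
          pullback.fst X.hom g ≫ u₁.left := pullback.lift_fst _ _ _
      have e₂ : ((Over.pullback g).map u₂).left ≫ pullback.fst Y.hom g =
          pullback.fst X.hom g ≫ u₂.left := pullback.lift_fst _ _ _
      refine UD1.hom_ext_of_surjective Y.hom (pullback.fst X.hom g) _ _ ?_ ?_
      · rw [Over.w u₁, Over.w u₂]
      · rw [← e₁, ← e₂]
        exact h12'
    · intro f'
      let k : pullback X.hom g ⟶ pullback Y.hom g := f'.left
      have hk : k ≫ pullback.snd Y.hom g = pullback.snd X.hom g := Over.w f'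
      have htau : (k ≫ pullback.fst Y.hom g) ≫ Y.hom = pullback.fst X.hom g ≫ X.hom := by
        rw [Category.assoc, pullback.condition, reassoc_of% hk, pullback.condition]
      obtain ⟨u, ⟨hu1, hu2⟩, -⟩ := UD2.existsUnique_hom g X.hom Y.hom hh hquot
        (k ≫ pullback.fst Y.hom g) htau
        (UD3.cocycle_of_connected g hconn X.hom Y.hom _ htau)
      refine ⟨Over.homMk u hu1, ?_⟩
      apply Over.OverMorphism.ext
      apply pullback.hom_ext
      · refine (pullback.lift_fst _ _ _).trans ?_
        exact hu2.symm
      · refine (pullback.lift_snd _ _ _).trans ?_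
        exact hk.symm

end Groth.Agent.S2916
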