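import Groth.Statements.S2917
import Groth.Agent.Lib.Helper5.UnivSubmersive

set_option autoImplicit false
open CategoryTheory CategoryTheory.Limits AlgebraicGeometry Opposite
universe u
open SGA1

namespace Groth.Agent.S2917

/-- Let g : S' ⟶ S be universally submersive, f : X ⟶ Y a morphism of S-schemes (Y ⟶ S the structure
map) and f' its base change along S' ⟶ S, realised as X ×_S S' ⟶ Y ×_S S'. If f' is open (resp.
closed) then so is f; if f' is universally open (resp. universally closed, resp. separated) then so
is f; and if moreover g is quasi-compact and f locally of finite type, then f is proper as soon as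
f' is. -/
theorem result {S' S X Y : Scheme.{u}} (g : S' ⟶ S) (hg : SGA1.UnivSubmersive g)
    (f : X ⟶ Y) (q : Y ⟶ S) :
    (IsOpenMap (pullback.map (f ≫ q) g q g f (𝟙 S') (𝟙 S) (Category.comp_id _) ((Category.comp_id _).trans (Category.id_comp _).symm)).base → IsOpenMap f.base) ∧
    (IsClosedMap (pullback.map (f ≫ q) g q g f (𝟙 S') (𝟙 S) (Category.comp_id _) ((Category.comp_id _).trans (Category.id_comp _).symm)).base → IsClosedMap f.base) ∧
    (UniversallyOpen (pullback.map (f ≫ q) g q g f (𝟙 S') (𝟙 S) (Category.comp_id _) ((Category.comp_id _).trans (Category.id_comp _).symm)) → UniversallyOpen f) ∧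
    (UniversallyClosed (pullback.map (f ≫ q) g q g f (𝟙 S') (𝟙 S) (Category.comp_id _) ((Category.comp_id _).trans (Category.id_comp _).symm)) → UniversallyClosed f) ∧
    (IsSeparated (pullback.map (f ≫ q) g q g f (𝟙 S') (𝟙 S) (Category.comp_id _) ((Category.comp_id _).trans (Category.id_comp _).symm)) → IsSeparated f) ∧
    (QuasiCompact g → LocallyOfFiniteType f →
      IsProper (pullback.map (f ≫ q) g q g f (𝟙 S') (𝟙 S) (Category.comp_id _) ((Category.comp_id _).trans (Category.id_comp _).symm)) → IsProper f) := by
  have hw : (f ≫ q) ≫ 𝟙 S = f ≫ q := Category.comp_id _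
  have hw' : g ≫ 𝟙 S = 𝟙 S' ≫ g := (Category.comp_id _).trans (Category.id_comp _).symm
  -- the base change square
  have hright : IsPullback (pullback.snd q g) (pullback.fst q g) g q :=
    (IsPullback.of_hasPullback q g).flip
  have houter : IsPullback (pullback.snd (f ≫ q) g) (pullback.fst (f ≫ q) g) g (f ≫ q) :=
    (IsPullback.of_hasPullback (f ≫ q) g).flip
  have h1 : pullback.map (f ≫ q) g q g f (𝟙 S') (𝟙 S) hw hw' ≫ pullback.snd q g =
      pullback.snd (f ≫ q) g :=
    (pullback.lift_snd _ _ _).trans (Category.comp_id _)
  have h2 : pullback.map (f ≫ q) g q g f (𝟙 S') (𝟙 S) hw hw' ≫ pullback.fst q g =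
      pullback.fst (f ≫ q) g ≫ f :=
    pullback.lift_fst _ _ _
  rw [← h1] at houter
  have hsq : IsPullback (pullback.map (f ≫ q) g q g f (𝟙 S') (𝟙 S) hw hw')
      (pullback.fst (f ≫ q) g) (pullback.fst q g) f :=
    IsPullback.of_right houter h2 hright
  have hQ : SGA1.UnivSubmersive (pullback.fst q g) :=
    MorphismProperty.of_isPullback (IsPullback.of_hasPullback q g).flip hg
  refine ⟨fun h => ?_, fun h => ?_, fun h => ?_, fun h => ?_, fun h => ?_, fun _ _ h => ?_⟩
  · exact MorphismProperty.of_isPullback_of_descendsAlong
      (P := topologically @IsOpenMap) (Q := SGA1.UnivSubmersive) hsq hQ h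
  · exact MorphismProperty.of_isPullback_of_descendsAlong
      (P := topologically @IsClosedMap) (Q := SGA1.UnivSubmersive) hsq hQ h
  · exact MorphismProperty.of_isPullback_of_descendsAlong
      (P := @UniversallyOpen) (Q := SGA1.UnivSubmersive) hsq hQ h
  · exact MorphismProperty.of_isPullback_of_descendsAlong
      (P := @UniversallyClosed) (Q := SGA1.UnivSubmersive) hsq hQ h
  · exact MorphismProperty.of_isPullback_of_descendsAlong
      (P := @IsSeparated) (Q := SGA1.UnivSubmersive) hsq hQ h
  · have hsep : IsSeparated f := MorphismProperty.of_isPullback_of_descendsAlong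
      (P := @IsSeparated) (Q := SGA1.UnivSubmersive) hsq hQ inferInstance
    have hcl : UniversallyClosed f := MorphismProperty.of_isPullback_of_descendsAlong
      (P := @UniversallyClosed) (Q := SGA1.UnivSubmersive) hsq hQ inferInstance
    exact { }

end Groth.Agent.S2917
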