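import Groth.Statements.S2925
import Groth.Agent.Lib.Helper5.EffEpi
import Groth.Agent.Lib.Helper5.GroupQuot

set_option autoImplicit false
open CategoryTheory CategoryTheory.Limits AlgebraicGeometry
universe u
open SGA1

namespace Groth.Agent.S2925

/-- Let a finite group G act on a scheme X and let p : X ⟶ Y be a quotient of X by G. Then every
G-invariant morphism X ⟶ Z factors uniquely through p. -/
theorem result {X Y : Scheme.{u}} {G : Type u} [Group G] [Finite G] (ρ : G →* Aut X)
    (p : X ⟶ Y) (hp : SGA1.IsQuot ρ p) (Z : Scheme.{u}) (h : X ⟶ Z) (hh : ∀ g : G, (ρ g).hom ≫ h = h) :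
    ∃! h' : Y ⟶ Z, p ≫ h' = h := by
  have hq : Topology.IsQuotientMap p.base := Groth.Agent.Lib.Helper5.GroupQuot.isQuotientMap hp
  have hs : Function.Surjective p := hq.surjective
  have hconst : ∀ a a' : X, p.base a = p.base a' → h.base a = h.base a' := by
    intro a a' haa
    obtain ⟨g, rfl⟩ := (Groth.Agent.Lib.Helper5.GroupQuot.map_eq_iff hp a a').mp haa
    have := congr($(hh g) a)
    rw [Scheme.Hom.comp_apply] at this
    exact this.symm
  let b : Y.carrier ⟶ Z.carrier := TopCat.ofHom (hq.lift h.base.hom hconst)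
  have hfac : p.base ≫ b = h.base := by
    apply TopCat.hom_ext
    exact hq.lift_comp _ _
  have hrange : ∀ (V : Z.Opens) (t : Γ(Z, V)),
      (h.appLE V (p ⁻¹ᵁ ((TopologicalSpace.Opens.map b).obj V))
        (Groth.Agent.Lib.Helper5.EffEpi.preimage_map p h b hfac V).le).hom t ∈
        Set.range (p.app ((TopologicalSpace.Opens.map b).obj V)).hom := by
    intro V t
    rw [hp.range_iff]
    intro g
    rw [← CommRingCat.comp_apply, Scheme.Hom.appLE_comp_appLE,
      Groth.Agent.Lib.Helper5.EffEpi.appLE_congr_hom (hh g)]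
  have hepi : Epi p :=
    Groth.Agent.Lib.Helper5.EffEpi.epi_of_surjective_of_app_injective p hs hp.injective
  refine ⟨Groth.Agent.Lib.Helper5.EffEpi.desc p h b hfac hp.injective hrange hs,
    Groth.Agent.Lib.Helper5.EffEpi.comp_desc p h b hfac hp.injective hrange hs, ?_⟩
  intro h'' hh''
  rw [← cancel_epi p, hh'']
  exact (Groth.Agent.Lib.Helper5.EffEpi.comp_desc p h b hfac hp.injective hrange hs).symm

end Groth.Agent.S2925
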