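import Groth.Statements.S2931
import Mathlib
import Groth.Agent.Lib.Helper4.FaltCat

set_option autoImplicit false
universe u
open LocCoh

namespace Groth.Agent.S2931

/-- Affine form (coherence of R^p i_*(F) for p < n being finiteness of H^i_I for i ≤ n). Let A be a
Noetherian ring which is a quotient of a regular ring, I an ideal and M a finite A-module such that
M_p is zero or Cohen–Macaulay for every prime p not containing I. Then H^i_I(M) is a finite A-module
for every i ≤ n if and only if for every prime p not containing I which is minimal in the support of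
M, the codimension of V(p) ∩ V(I) in V(p) is greater than n. -/
theorem result (R : Type u) [CommRing R] [IsRegularRing R] (A : Type u) [CommRing A] [IsNoetherianRing A] (π : R →+* A) (hπ : Function.Surjective π) (I : Ideal A) (M : Type u) [AddCommGroup M] [Module A M] [Module.Finite A M] (hCM : ∀ p : PrimeSpectrum A, ¬ I ≤ p.asIdeal → Subsingleton (LocalizedModule p.asIdeal.primeCompl M) ∨ LocCoh.IsCohenMacaulayModule (Localization.AtPrime p.asIdeal) (LocalizedModule p.asIdeal.primeCompl M)) (n : ℕ) : (∀ i : ℕ, i ≤ n → Module.Finite A (LocCoh.H I i M)) ↔ ∀ p : PrimeSpectrum A, ¬ I ≤ p.asIdeal → p.asIdeal ∈ (Module.annihilator A M).minimalPrimes → (n : ℕ∞) < SGA2.relCodim I p := by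
  rw [Groth.Agent.Lib.Helper4.Falt.finite_iff_lt_minAdjDepth R A π hπ I M n,
    Groth.Agent.Lib.Helper4.Falt.lt_minAdjDepth_iff]
  constructor
  · intro h p hp hmin
    haveI := p.2
    have h1 := h p hp
    rw [Groth.Agent.Lib.Helper4.Falt.adjDepth_eq_depth_add_relCodim] at h1
    have hsuppM : p ∈ Module.support A M := by
      rw [Module.mem_support_iff_of_finite]
      exact hmin.1.2
    haveI : Nontrivial (LocalizedModule p.asIdeal.primeCompl M) := Module.mem_support_iff.1 hsuppM
    have h2 := Groth.Agent.Lib.Helper4.depth_le_supportDim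
      (R := Localization.AtPrime p.asIdeal) (M := LocalizedModule p.asIdeal.primeCompl M)
    have h3 := Groth.Agent.Lib.Helper4.supportDim_localizedModule_le_zero_of_mem_minimalPrimes
      (M := M) p.asIdeal hmin
    have h4 : LocCoh.depth (Localization.AtPrime p.asIdeal)
        (LocalizedModule p.asIdeal.primeCompl M) = 0 := by
      have h5 : ((LocCoh.depth (Localization.AtPrime p.asIdeal)
          (LocalizedModule p.asIdeal.primeCompl M) : ℕ∞) : WithBot ℕ∞) ≤ 0 := h2.trans h3
      exact le_antisymm (by exact_mod_cast h5) zero_le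
    rwa [h4, zero_add] at h1
  · intro h p hp
    haveI := p.2
    rw [Groth.Agent.Lib.Helper4.Falt.adjDepth_eq_depth_add_relCodim]
    rcases hCM p hp with hsub | hcm
    · rw [Groth.Agent.Lib.Helper4.depth_eq_top_of_subsingleton
        (R := Localization.AtPrime p.asIdeal) (M := LocalizedModule p.asIdeal.primeCompl M), top_add]
      exact ENat.natCast_lt_top _
    · haveI hnt : Nontrivial (LocalizedModule p.asIdeal.primeCompl M) :=
        Groth.Agent.Lib.Helper4.cm_nontrivial hcm
      have hsuppM : p ∈ Module.support A M := Module.mem_support_iff.2 hnt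
      have hann : Module.annihilator A M ≤ p.asIdeal := Module.mem_support_iff_of_finite.1 hsuppM
      obtain ⟨p₀, hp₀min, hp₀le⟩ := Ideal.exists_minimalPrimes_le hann
      haveI hp₀P : p₀.IsPrime := hp₀min.1.1
      have hIp₀ : ¬ I ≤ p₀ := fun hle => hp (hle.trans hp₀le)
      have h1 := h ⟨p₀, hp₀P⟩ hIp₀ hp₀min
      by_cases htop : SGA2.relCodim I p = ⊤
      · rw [htop, add_top]
        exact ENat.natCast_lt_top _
      obtain ⟨c, hc⟩ : ∃ c : ℕ, SGA2.relCodim I p = (c : ℕ∞) :=
        ⟨_, (ENat.natCast_toNat htop).symm⟩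
      have hc' := hc
      rw [Groth.Agent.Lib.Helper4.Falt.relCodim_eq_height] at hc'
      obtain ⟨q, hqP, hle, hqh⟩ :=
        Groth.Agent.Lib.Helper4.Falt.exists_prime_relHeight_eq I p.asIdeal c hc'
      haveI := hqP
      have hpq : p.asIdeal ≤ q := le_sup_right.trans hle
      have hIq : I ≤ q := le_sup_left.trans hle
      have h2 : SGA2.relCodim I ⟨p₀, hp₀P⟩ ≤ (q.map (Ideal.Quotient.mk p₀)).height := by
        rw [Groth.Agent.Lib.Helper4.Falt.relCodim_eq_height]
        exact Ideal.height_mono (Ideal.map_mono (sup_le hIq (hp₀le.trans hpq)))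
      have h3 := Groth.Agent.Lib.Helper4.Falt.relHeight_add_eq_of_surjective R A π hπ p₀ p.asIdeal q
        hp₀le hpq
      have hsupp₀ : (⟨p₀, hp₀P⟩ : PrimeSpectrum A) ∈ Module.support A M := by
        rw [Module.mem_support_iff_of_finite]
        exact hp₀min.1.2
      have h4 := Groth.Agent.Lib.Helper4.Falt.relHeight_le_depth_of_cm p₀ p.asIdeal hp₀le hsupp₀ hcm
      rw [hc, ← hqh]
      calc (n : ℕ∞) < SGA2.relCodim I ⟨p₀, hp₀P⟩ := h1
        _ ≤ (q.map (Ideal.Quotient.mk p₀)).height := h2
        _ = (p.asIdeal.map (Ideal.Quotient.mk p₀)).height +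
            (q.map (Ideal.Quotient.mk p.asIdeal)).height := h3
        _ ≤ _ := add_le_add h4 le_rfl

end Groth.Agent.S2931
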