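import Groth.Statements.S2933
import Groth.Agent.Lib.Helper4.Hartshorne2
import Mathlib.Data.List.ChainOfFn

set_option autoImplicit false
universe u
open LocCoh

namespace Groth.Agent.S2933

/-- Let A be a Noetherian ring with connected spectrum and d ≥ 1 an integer such that every prime p with
dim A_p ≥ d has depth A_p ≥ 2. Then for any two minimal primes p', p'' of A there is a finite
sequence of minimal primes starting at p' and ending at p'' such that any two consecutive members
are both contained in some prime of height at most d − 1 (Spec A is connected in codimension d − 1). -/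
theorem result (A : Type u) [CommRing A] [IsNoetherianRing A] [ConnectedSpace (PrimeSpectrum A)] (d : ℕ) (hd : 1 ≤ d) (h : ∀ p : PrimeSpectrum A, (d : ℕ∞) ≤ p.asIdeal.height → (2 : ℕ∞) ≤ LocCoh.depth (Localization.AtPrime p.asIdeal) (Localization.AtPrime p.asIdeal)) (p' p'' : PrimeSpectrum A) (hp' : p'.asIdeal ∈ minimalPrimes A) (hp'' : p''.asIdeal ∈ minimalPrimes A) : ∃ l : List (PrimeSpectrum A), l.head? = some p' ∧ l.getLast? = some p'' ∧ (∀ p ∈ l, p.asIdeal ∈ minimalPrimes A) ∧ List.IsChain (fun p q => ∃ r : PrimeSpectrum A, p ≤ r ∧ q ≤ r ∧ r.asIdeal.height ≤ (d - 1 : ℕ)) l := by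
  obtain ⟨n, c, h0, hl, hmin, hstep⟩ := Groth.Agent.Lib.Helper4.exists_chain_of_connected
    (fun q => q.height ≤ ((d - 1 : ℕ) : ℕ∞)) (fun Q _ hg => h ⟨Q, inferInstance⟩ (by
      push Not at hg
      have h1 : ((d - 1 : ℕ) : ℕ∞) + 1 ≤ Q.height := Order.add_one_le_of_lt hg
      have e : ((d - 1 : ℕ) : ℕ∞) + 1 = d := by
        have : d - 1 + 1 = d := by omega
        exact_mod_cast this
      rwa [e] at h1)) p'.asIdeal p''.asIdeal hp' hp''
  refine ⟨List.ofFn (fun i => (⟨c i, (hmin i).1.1⟩ : PrimeSpectrum A)), ?_, ?_, ?_, ?_⟩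
  · rw [List.ofFn_succ, List.head?_cons]
    congr 1
    exact PrimeSpectrum.ext h0
  · have hne : List.ofFn (fun i => (⟨c i, (hmin i).1.1⟩ : PrimeSpectrum A)) ≠ [] := by simp
    rw [List.getLast?_eq_getLast hne, List.getLast_ofFn]
    congr 1
    apply PrimeSpectrum.ext
    exact hl
  · intro p hp
    rw [List.mem_ofFn] at hp
    obtain ⟨i, rfl⟩ := hp
    exact hmin i
  · rw [List.isChain_ofFn]
    intro i hi
    obtain ⟨q, hq, h1, h2, hg⟩ := hstep ⟨i, by omega⟩
    exact ⟨⟨q, hq⟩, h1, h2, hg⟩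

end Groth.Agent.S2933
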