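import Groth.Statements.S2934
import Groth.Agent.Lib.Helper4.StalkDual3

set_option autoImplicit false
universe u
open LocCoh

namespace Groth.Agent.S2934

/-- Let A be a Noetherian local ring which is a quotient of a regular local ring, m its maximal ideal, M
a finite A-module and i ≥ 0. Then H^i_m(M) is an A-module of finite length if and only if for every
prime p ≠ m, writing e = dim A/p, the local cohomology H^{i−e} of M_p with support in the maximal
ideal of A_p vanishes (no condition when e > i). -/
theorem result (R : Type u) [CommRing R] [IsRegularLocalRing R] (A : Type u) [CommRing A] [IsLocalRing A] [IsNoetherianRing A] (π : R →+* A) (hπ : Function.Surjective π) (M : Type u) [AddCommGroup M] [Module A M] [Module.Finite A M] (i : ℕ) : IsFiniteLength A (LocCoh.H (IsLocalRing.maximalIdeal A) i M) ↔ ∀ p : PrimeSpectrum A, p.asIdeal ≠ IsLocalRing.maximalIdeal A → ∀ (e j : ℕ), ringKrullDim (A ⧸ p.asIdeal) = e → j + e = i → Subsingleton (LocCoh.H (IsLocalRing.maximalIdeal (Localization.AtPrime p.asIdeal)) j (LocalizedModule p.asIdeal.primeCompl M)) := by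
  classical
  letI : Algebra R A := π.toAlgebra
  have hsurj : Function.Surjective (algebraMap R A) := hπ
  letI : Module R M := Module.compHom M π
  haveI : IsScalarTower R A M := IsScalarTower.of_algebraMap_smul (fun _ _ => rfl)
  haveI : Module.Finite R A := Module.Finite.of_surjective (Algebra.linearMap R A) hsurj
  haveI : Module.Finite R M := Module.Finite.trans A M
  have hmap := Groth.Agent.Lib.Helper4.StalkDual.map_maximalIdeal_eq hsurj
  have hcomap := Groth.Agent.Lib.Helper4.StalkDual.comap_maximalIdeal_eq hsurj
  obtain ⟨φ, hφ⟩ : ∃ φ : Groth.Agent.Lib.Helper4.LC.HH (IsLocalRing.maximalIdeal A)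
      (ModuleCat.of A M) i ≃+
      Groth.Agent.Lib.Helper4.LC.HH (IsLocalRing.maximalIdeal R) (ModuleCat.of R M) i,
      ∀ (r : R) (x : Groth.Agent.Lib.Helper4.LC.HH (IsLocalRing.maximalIdeal A)
        (ModuleCat.of A M) i), φ (algebraMap R A r • x) = r • φ x := by
    have := Groth.Agent.Lib.Helper20.LCIndep2.exists_addEquiv (R := R) A
      (IsLocalRing.maximalIdeal R) M i
    rw [hmap] at this
    exact this
  have h12 : IsFiniteLength A (LocCoh.H (IsLocalRing.maximalIdeal A) i M) ↔
      IsFiniteLength R (Groth.Agent.Lib.Helper4.LC.HH (IsLocalRing.maximalIdeal R)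
        (ModuleCat.of R M) i) := by
    rw [← Groth.Agent.Lib.Helper4.StalkDual.isFiniteLength_iff_of_addEquiv hsurj φ hφ]
    exact ⟨(Groth.Agent.Lib.Helper4.LC.lcEquiv (IsLocalRing.maximalIdeal A)
        (ModuleCat.of A M) i).isFiniteLength,
      (Groth.Agent.Lib.Helper4.LC.lcEquiv (IsLocalRing.maximalIdeal A)
        (ModuleCat.of A M) i).symm.isFiniteLength⟩
  rw [h12, Groth.Agent.Lib.Helper4.StalkDual.isFiniteLength_HH_iff R M i]
  constructor
  · intro h p hp e j he hje
    haveI := p.2
    have hPne : p.asIdeal.comap (algebraMap R A) ≠ IsLocalRing.maximalIdeal R := by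
      intro heq
      apply hp
      rw [← hcomap] at heq
      exact Ideal.comap_injective_of_surjective _ hsurj heq
    have hrel : ((IsLocalRing.maximalIdeal R).map
        (Ideal.Quotient.mk (p.asIdeal.comap (algebraMap R A)))).height = e := by
      have h2 := Groth.Agent.Lib.Helper4.StalkDual.relHeight_maximalIdeal_comap hsurj p.asIdeal
      rw [he] at h2
      exact_mod_cast h2
    have h3 := h (p.asIdeal.comap (algebraMap R A)) hPne e j hrel hje
    rw [Groth.Agent.Lib.Helper4.StalkDual.HH_localization_comap_iff hsurj M p.asIdeal j] at h3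
    rw [Groth.Agent.Lib.Helper4.LC.subsingleton_H_iff]
    exact h3
  · intro h P _ hPne e j hrel hje
    by_cases hker : RingHom.ker (algebraMap R A) ≤ P
    · have hPprime : (P.map (algebraMap R A)).IsPrime :=
        Ideal.map_isPrime_of_surjective hsurj hker
      have hcm : (P.map (algebraMap R A)).comap (algebraMap R A) = P := by
        rw [Ideal.comap_map_of_surjective _ hsurj]
        exact sup_eq_left.mpr (by rwa [← RingHom.ker_eq_comap_bot])
      obtain ⟨p, hpprime, rfl⟩ : ∃ p : Ideal A, p.IsPrime ∧ p.comap (algebraMap R A) = P :=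
        ⟨P.map _, hPprime, hcm⟩
      haveI := hpprime
      have hp_ne : p ≠ IsLocalRing.maximalIdeal A := by
        rintro rfl
        exact hPne hcomap
      have he : ringKrullDim (A ⧸ p) = e := by
        rw [← Groth.Agent.Lib.Helper4.StalkDual.relHeight_maximalIdeal_comap hsurj p, hrel]
        rfl
      have h3 := h ⟨p, hpprime⟩ hp_ne e j he hje
      rw [Groth.Agent.Lib.Helper4.LC.subsingleton_H_iff] at h3
      rw [Groth.Agent.Lib.Helper4.StalkDual.HH_localization_comap_iff hsurj M p j]
      exact h3
    · obtain ⟨s, hsker, hsP⟩ := SetLike.not_le_iff_exists.1 hker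
      haveI : Subsingleton (LocalizedModule P.primeCompl M) := by
        rw [LocalizedModule.subsingleton_iff]
        intro m
        refine ⟨s, hsP, ?_⟩
        change algebraMap R A s • m = 0
        rw [(RingHom.mem_ker).1 hsker, zero_smul]
      exact Groth.Agent.Lib.Helper4.LC.HH.subsingleton_of_subsingleton _ _ j

end Groth.Agent.S2934
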