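import Groth.Statements.S2936
import Groth.Agent.Lib.Helper4.MatlisLC

set_option autoImplicit false
universe u
open LocCoh

namespace Groth.Agent.S2936

/-- (iii), for a complete local ring. Let A be a complete Noetherian local ring with maximal ideal m, κ
→ E an injective hull of the residue field, and M a nonzero finite A-module whose support has
dimension n. Then for every i the A-module Hom_A(H^i_m(M), E) is finite with support of dimension at
most i; for i = n its support has dimension exactly n and its associated primes are exactly the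
associated primes p of M with dim A/p = n. -/
theorem result (A : Type u) [CommRing A] [IsLocalRing A] [IsNoetherianRing A] [IsAdicComplete (IsLocalRing.maximalIdeal A) A] (E : Type u) [AddCommGroup E] [Module A E] (f : IsLocalRing.ResidueField A →ₗ[A] E) (hf : InjHull.IsInjectiveHull f) (M : Type u) [AddCommGroup M] [Module A M] [Module.Finite A M] [Nontrivial M] (n : ℕ) (hn : Module.supportDim A M = n) : (∀ i : ℕ, Module.Finite A (LocCoh.H (IsLocalRing.maximalIdeal A) i M →ₗ[A] E) ∧ Module.supportDim A (LocCoh.H (IsLocalRing.maximalIdeal A) i M →ₗ[A] E) ≤ (i : WithBot ℕ∞)) ∧ Module.supportDim A (LocCoh.H (IsLocalRing.maximalIdeal A) n M →ₗ[A] E) = n ∧ associatedPrimes A (LocCoh.H (IsLocalRing.maximalIdeal A) n M →ₗ[A] E) = {p | p ∈ associatedPrimes A M ∧ ringKrullDim (A ⧸ p) = n} := by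
  have e : ∀ i : ℕ, (LocCoh.H (IsLocalRing.maximalIdeal A) i M →ₗ[A] E) ≃ₗ[A]
      (Groth.Agent.Lib.Helper4.LC.HH (IsLocalRing.maximalIdeal A) (ModuleCat.of A M) i →ₗ[A] E) :=
    fun i => LinearEquiv.arrowCongr
      (Groth.Agent.Lib.Helper4.LC.lcEquiv (IsLocalRing.maximalIdeal A) (ModuleCat.of A M) i)
      (LinearEquiv.refl A E)
  obtain ⟨h1, h2⟩ := Groth.Agent.Lib.Helper4.MatlisLC.top_dual f hf M n hn
  refine ⟨fun i => ⟨?_, ?_⟩, ?_, ?_⟩
  · haveI := Groth.Agent.Lib.Helper4.MatlisLC.finite_dual f hf i M
    exact Module.Finite.equiv (e i).symm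
  · rw [Module.supportDim_eq_of_equiv (e i)]
    exact Groth.Agent.Lib.Helper4.MatlisLC.supportDim_dual_le f hf i M
  · rw [Module.supportDim_eq_of_equiv (e n)]
    exact h1
  · rw [LinearEquiv.AssociatedPrimes.eq (e n)]
    exact h2

end Groth.Agent.S2936
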