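import Groth.Statements.S2952
import Mathlib

set_option autoImplicit false
open RootPairing
open scoped Pointwise
universe u
open RootD

namespace Groth.Agent.S2952

/-- For a finite crystallographic reduced root pairing over a characteristic-zero domain with a base b:
(1) the Weyl group is generated by the reflections in the simple roots; (2) every root is the image
of a simple root under an element of the Weyl group (acting on the indexing type). (The published
statement also covers the non-reduced case.) -/
theorem result {ι R M N : Type*} [CommRing R] [CharZero R] [IsDomain R] [AddCommGroup M] [Module R M]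
    [AddCommGroup N] [Module R N] (P : RootPairing ι R M N) [Finite ι] [P.IsCrystallographic] [P.IsReduced]
    (b : P.Base) :
    Subgroup.closure ((fun i : ι => Equiv.reflection P i) '' (b.support : Set ι)) = P.weylGroup ∧
    ∀ i : ι, ∃ g : P.Aut, g ∈ P.weylGroup ∧ ∃ j ∈ b.support, g • j = i := by
  set W₀ : Subgroup P.Aut :=
    Subgroup.closure ((fun i : ι => Equiv.reflection P i) '' (b.support : Set ι)) with hW₀
  have hle : W₀ ≤ P.weylGroup := by
    apply Subgroup.closure_mono
    rintro _ ⟨i, -, rfl⟩
    exact Set.mem_range_self i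
  -- equality of automorphisms can be tested on the weight space
  have hext : ∀ g g' : P.Aut, Equiv.weightHom P g = Equiv.weightHom P g' → g = g' :=
    fun g g' h => Equiv.weightHom_injective P h
  have hwr : ∀ i, Equiv.weightHom P (Equiv.reflection P i) = P.reflection i := fun i =>
    Equiv.reflection_weightEquiv P i
  have hneg : ∀ i, Equiv.reflection P (P.reflectionPerm i i) = Equiv.reflection P i := by
    intro i
    apply hext
    rw [hwr, hwr]
    ext x
    simp [RootPairing.reflection_apply, two_smul]
  have hconj : ∀ i j, Equiv.reflection P (P.reflectionPerm j i) =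
      Equiv.reflection P j * Equiv.reflection P i * Equiv.reflection P j := by
    intro i j
    apply hext
    rw [map_mul, map_mul, hwr, hwr, hwr, RootPairing.reflection_reflectionPerm]
  have key : ∀ i : ι, Equiv.reflection P i ∈ W₀ ∧ ∃ g ∈ W₀, ∃ j ∈ b.support, g • j = i := by
    intro i
    refine b.induction_reflect i
      (p := fun i => Equiv.reflection P i ∈ W₀ ∧ ∃ g ∈ W₀, ∃ j ∈ b.support, g • j = i) ?_ ?_ ?_
    · rintro i ⟨hi, g, hg, j, hj, rfl⟩
      refine ⟨by rw [hneg]; exact hi, Equiv.reflection P (g • j) * g, mul_mem hi hg, j, hj, ?_⟩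
      rw [mul_smul]
      rfl
    · intro i hi
      exact ⟨Subgroup.subset_closure ⟨i, hi, rfl⟩, 1, one_mem _, i, hi, one_smul _ _⟩
    · rintro i j ⟨hi, g, hg, j', hj', rfl⟩ hj
      have hsj : Equiv.reflection P j ∈ W₀ := Subgroup.subset_closure ⟨j, hj, rfl⟩
      refine ⟨by rw [hconj]; exact mul_mem (mul_mem hsj hi) hsj,
        Equiv.reflection P j * g, mul_mem hsj hg, j', hj', ?_⟩
      rw [mul_smul]
      rfl
  refine ⟨le_antisymm hle ?_, fun i => ?_⟩
  · rw [RootPairing.weylGroup, Subgroup.closure_le]
    rintro _ ⟨i, rfl⟩
    exact (key i).1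
  · obtain ⟨-, g, hg, j, hj, hgj⟩ := key i
    exact ⟨g, hle hg, j, hj, hgj⟩

end Groth.Agent.S2952
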