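import Groth.Statements.S2955
import Mathlib

set_option autoImplicit false
open RootPairing
open scoped Pointwise Classical
universe u
open RootD

namespace Groth.Agent.S2955

/-- Let P be a finite crystallographic reduced root pairing over a domain of characteristic zero, with a
base b, and write 2ρ for the sum of the positive roots with respect to b. Then for every simple root
β (an index in the support of b) the reflection in β sends 2ρ to 2ρ − 2β (equivalently, the coroot
of β pairs to 1 with ρ; only the reflection identity is asserted). -/
theorem result {ι R M N : Type*} [CommRing R] [CharZero R] [IsDomain R] [AddCommGroup M] [Module R M]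
    [AddCommGroup N] [Module R N] (P : RootPairing ι R M N) [Finite ι] [P.IsCrystallographic] [P.IsReduced]
    [Fintype ι] (b : P.Base) (j : ι) (hj : j ∈ b.support) :
    P.reflection j (∑ i, if b.IsPos i then P.root i else 0) =
      (∑ i, if b.IsPos i then P.root i else 0) - (2 : R) • P.root j := by
  -- basic facts about `σ = reflectionPerm j`
  have hσσ : ∀ i, P.reflectionPerm j (P.reflectionPerm j i) = i := fun i => by simp
  have hnegpos : ¬ b.IsPos (P.reflectionPerm j j) := by
    have h1 := RootPairing.Base.IsPos.neg_iff_not b j
    have h2 : b.IsPos j := RootPairing.Base.isPos_of_mem_support hj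
    intro h3
    exact (h1.mp h3) h2
  have hjpos : b.IsPos j := RootPairing.Base.isPos_of_mem_support hj
  have hjne : j ≠ P.reflectionPerm j j := fun h => hnegpos (h ▸ hjpos)
  have hiff : ∀ i, i ≠ j → i ≠ P.reflectionPerm j j →
      (b.IsPos (P.reflectionPerm j i) ↔ b.IsPos i) := by
    intro i hij hij'
    constructor
    · intro h
      have hne : P.reflectionPerm j i ≠ j := by
        intro h'
        have h'' := congrArg (P.reflectionPerm j) h'
        rw [hσσ] at h''
        exact hij' h''
      have := h.reflectionPerm hj hne
      rwa [hσσ] at this
    · intro h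
      exact h.reflectionPerm hj hij
  have hrootneg : P.root (P.reflectionPerm j j) = -P.root j := by
    rw [RootPairing.root_reflectionPerm, RootPairing.reflection_apply_self]
  -- compute
  have h1 : P.reflection j (∑ i, if b.IsPos i then P.root i else 0) =
      ∑ i, if b.IsPos (P.reflectionPerm j i) then P.root i else 0 := by
    rw [map_sum, ← Equiv.sum_comp (P.reflectionPerm j)]
    refine Finset.sum_congr rfl fun i _ => ?_
    split_ifs with h
    · rw [← RootPairing.root_reflectionPerm, hσσ]
    · rw [map_zero]
  have h2 : ∀ c ∈ (Finset.univ : Finset ι), c ≠ j ∧ c ≠ P.reflectionPerm j j →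
      ((if b.IsPos c then P.root c else 0) -
        (if b.IsPos (P.reflectionPerm j c) then P.root c else 0)) = 0 := by
    intro c _ hc
    rw [sub_eq_zero]
    by_cases h : b.IsPos c
    · rw [if_pos h, if_pos ((hiff c hc.1 hc.2).mpr h)]
    · rw [if_neg h, if_neg (fun h' => h ((hiff c hc.1 hc.2).mp h'))]
  have hdiff : (∑ i, if b.IsPos i then P.root i else 0) -
      (∑ i, if b.IsPos (P.reflectionPerm j i) then P.root i else 0) = (2 : R) • P.root j := by
    rw [← Finset.sum_sub_distrib,
      Finset.sum_eq_add j (P.reflectionPerm j j) hjne h2 (by simp) (by simp)]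
    rw [if_pos hjpos, if_neg hnegpos, hσσ, if_neg hnegpos, if_pos hjpos, hrootneg, two_smul]
    abel
  rw [h1, ← hdiff]
  abel

end Groth.Agent.S2955
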