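import Groth.Statements.S2965
import Mathlib

set_option autoImplicit false
universe u
open SGA3t2b

namespace Groth.Agent.S2965

open Polynomial in
/-- Implication (iv) ⇒ (i) (global form, finite free module): let u be an endomorphism of a finite free
module M over a commutative ring A whose characteristic polynomial is X^r · Q with Q(0) invertible.
Then M is the direct sum of two u-stable submodules M', M'' such that u is nilpotent on M' and
bijective on M''. -/
theorem result {A : Type u} [CommRing A] {M : Type u} [AddCommGroup M] [Module A M]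
    [Module.Free A M] [Module.Finite A M] (u : M →ₗ[A] M) (r : ℕ) (Q : A[X]) (hQ : IsUnit (Q.coeff 0))
    (h : u.charpoly = X ^ r * Q) :
    ∃ M' M'' : Submodule A M, IsCompl M' M'' ∧ (∀ x ∈ M', u x ∈ M') ∧ (∀ x ∈ M'', u x ∈ M'') ∧
      (∃ n : ℕ, ∀ x ∈ M', (u ^ n) x = 0) ∧ Set.BijOn u M'' M'' := by
  obtain ⟨c, hc⟩ := hQ
  have hQeq : Q.divX * X + C (c : A) = Q := by rw [hc]; exact divX_mul_X_add Q
  have hcop1 : IsCoprime (X : A[X]) Q := by
    refine ⟨-(C ((c⁻¹ : Aˣ) : A) * Q.divX), C ((c⁻¹ : Aˣ) : A), ?_⟩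
    have h1 : C ((c⁻¹ : Aˣ) : A) * C (c : A) = (1 : A[X]) := by
      rw [← C_mul, Units.inv_mul, C_1]
    calc -(C ((c⁻¹ : Aˣ) : A) * Q.divX) * X + C ((c⁻¹ : Aˣ) : A) * Q
        = -(C ((c⁻¹ : Aˣ) : A) * Q.divX) * X + C ((c⁻¹ : Aˣ) : A) * (Q.divX * X + C (c : A)) := by
          rw [hQeq]
      _ = C ((c⁻¹ : Aˣ) : A) * C (c : A) := by ring
      _ = 1 := h1
  have hcop : IsCoprime (X ^ r : A[X]) Q := hcop1.pow_left
  have hsup := sup_ker_aeval_eq_ker_aeval_mul_of_coprime u hcop
  have hdisj := disjoint_ker_aeval_of_isCoprime u hcop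
  rw [← h, LinearMap.aeval_self_charpoly, LinearMap.ker_zero] at hsup
  -- polynomials in `u` commute with `u`
  have hcomm : ∀ (P : A[X]) (x : M), aeval u P (u x) = u (aeval u P x) := by
    intro P x
    have h1 : aeval u P * u = u * aeval u P := by
      have h2 : aeval u (P * X) = aeval u (X * P) := by rw [mul_comm]
      rwa [map_mul, map_mul, aeval_X] at h2
    exact congrArg (fun φ : Module.End A M => φ x) h1
  have hcomm2 : ∀ (P P' : A[X]) (x : M), aeval u P (aeval u P' x) = aeval u P' (aeval u P x) := by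
    intro P P' x
    have h1 : aeval u P * aeval u P' = aeval u P' * aeval u P := by
      rw [← map_mul, ← map_mul, mul_comm]
    exact congrArg (fun φ : Module.End A M => φ x) h1
  have hstab : ∀ (P : A[X]) (x : M), x ∈ LinearMap.ker (aeval u P) →
      u x ∈ LinearMap.ker (aeval u P) := by
    intro P x hx
    rw [LinearMap.mem_ker] at hx ⊢
    rw [hcomm, hx, map_zero]
  -- the key identity `c • z + Q₁(u) (u z) = Q(u) z`
  have hkey : ∀ z : M, (c : A) • z + aeval u Q.divX (u z) = aeval u Q z := by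
    intro z
    conv_rhs => rw [← hQeq]
    rw [map_add, map_mul, aeval_X, aeval_C]
    simp only [Module.End.mul_apply, LinearMap.add_apply, Module.algebraMap_end_apply]
    rw [add_comm]
  refine ⟨LinearMap.ker (aeval u (X ^ r)), LinearMap.ker (aeval u Q), ⟨hdisj, codisjoint_iff.mpr hsup⟩,
    hstab _, hstab _, ⟨r, fun x hx => ?_⟩, ?_, ?_, ?_⟩
  · rw [LinearMap.mem_ker, map_pow, aeval_X] at hx
    exact hx
  · intro x hx
    exact hstab Q x hx
  · intro x hx y hy hxy
    have hz : aeval u Q (x - y) = 0 := by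
      rw [map_sub, LinearMap.mem_ker.mp hx, LinearMap.mem_ker.mp hy, sub_self]
    have h1 := hkey (x - y)
    rw [hz, map_sub, hxy, sub_self, map_zero, add_zero] at h1
    have h2 : x - y = 0 := by
      have := congrArg (fun w => ((c⁻¹ : Aˣ) : A) • w) h1
      simpa [smul_smul] using this
    exact sub_eq_zero.mp h2
  · intro y hy
    have hy' : aeval u Q y = 0 := hy
    refine ⟨-(((c⁻¹ : Aˣ) : A) • aeval u Q.divX y), ?_, ?_⟩
    · show aeval u Q (-(((c⁻¹ : Aˣ) : A) • aeval u Q.divX y)) = 0
      rw [map_neg, map_smul, hcomm2, hy', map_zero, smul_zero, neg_zero]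
    · have h1 := hkey y
      rw [hy', hcomm] at h1
      rw [map_neg, map_smul]
      have h2 : u (aeval u Q.divX y) = -((c : A) • y) := by
        rw [eq_neg_iff_add_eq_zero, add_comm]; exact h1
      rw [h2, smul_neg, neg_neg, smul_smul, Units.inv_mul, one_smul]

end Groth.Agent.S2965
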