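import Groth.Statements.S2967
import Mathlib

set_option autoImplicit false
universe u
open SGA3t2b

namespace Groth.Agent.S2967

/-- A commutative p-Lie algebra over a field k of characteristic p is recorded as a k-vector space g
together with its p-th power map φ, which is additive and Frobenius-semilinear. Let g be
finite-dimensional and non-zero, and assume every element of g is killed by some iterate of φ (g is
unipotent). Then the k-subspace of g spanned by the image φ(g) is a proper subspace. -/
theorem result {k : Type u} [Field k] (p : ℕ) [Fact p.Prime] [CharP k p]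
    {V : Type u} [AddCommGroup V] [Module k V] [FiniteDimensional k V] [Nontrivial V]
    (φ : V →ₛₗ[frobenius k p] V) (hφ : ∀ x : V, ∃ n : ℕ, φ^[n] x = 0) :
    Submodule.span k (Set.range φ) ≠ ⊤ := by
  intro htop
  -- Claim 1
  have claim1 : ∀ S : Set V, Submodule.span k S = ⊤ → Submodule.span k (φ '' S) = ⊤ := by
    intro S hS
    rw [eq_top_iff, ← htop, Submodule.span_le]
    rintro _ ⟨x, rfl⟩
    have hx : x ∈ Submodule.span k S := by rw [hS]; trivial
    induction hx using Submodule.span_induction with
    | mem x hx => exact Submodule.subset_span ⟨x, hx, rfl⟩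
    | zero => rw [map_zero]; exact zero_mem _
    | add x y _ _ hx hy => rw [map_add]; exact add_mem hx hy
    | smul c x _ hx => rw [map_smulₛₗ]; exact Submodule.smul_mem _ _ hx
  -- Claim 2
  have claim2 : ∀ n : ℕ, Submodule.span k (Set.range (φ^[n])) = ⊤ := by
    intro n
    induction n with
    | zero => simp
    | succ n ih =>
      have : Set.range (φ^[n + 1]) = φ '' Set.range (φ^[n]) := by
        rw [Function.iterate_succ', Set.range_comp]
      rw [this]
      exact claim1 _ ih
  -- kernels of iterates
  obtain ⟨K, hK0, hKs⟩ : ∃ K : ℕ → Submodule k V, K 0 = ⊥ ∧ ∀ n, K (n + 1) = (K n).comap φ :=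
    ⟨fun n => Nat.rec ⊥ (fun _ K => K.comap φ) n, rfl, fun _ => rfl⟩
  have hK : ∀ (n : ℕ) (x : V), x ∈ K n ↔ φ^[n] x = 0 := by
    intro n
    induction n with
    | zero => intro x; simp [hK0]
    | succ n ih =>
      intro x
      rw [hKs, Submodule.mem_comap, ih, Function.iterate_succ_apply]
  have hKmono' : Monotone K := by
    apply monotone_nat_of_le_succ
    intro n x hx
    rw [hK] at hx
    refine (hK (n + 1) x).mpr ?_
    rw [Function.iterate_succ_apply', hx, map_zero]
  have hKmono : ∀ n m : ℕ, n ≤ m → K n ≤ K m := fun n m h => hKmono' h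
  -- a uniform bound
  let b := Module.finBasis k V
  choose n hn using hφ
  let N := Finset.univ.sup fun i => n (b i)
  have hN : K N = ⊤ := by
    rw [eq_top_iff, ← b.span_eq, Submodule.span_le]
    rintro _ ⟨i, rfl⟩
    exact hKmono _ _ (Finset.le_sup (f := fun i => n (b i)) (Finset.mem_univ i))
      ((hK _ _).mpr (hn (b i)))
  have hzero : Set.range (φ^[N]) = {0} := by
    ext y
    constructor
    · rintro ⟨x, rfl⟩
      exact (hK N x).mp (by rw [hN]; trivial)
    · rintro rfl
      exact ⟨0, (hK N 0).mp (zero_mem _)⟩
  have h2 := claim2 N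
  rw [hzero, Submodule.span_singleton_eq_bot.mpr rfl] at h2
  exact bot_ne_top h2

end Groth.Agent.S2967
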