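import Groth.Statements.S2978
import Mathlib

set_option autoImplicit false
universe u
open SGA3b

namespace Groth.Agent.S2978

/-- Let A be a Noetherian ring, M a set and a : M × M → A a family vanishing off the diagonal which is a
finite sum of decomposable families: a(m, m') = Σ_i b_i(m) c_i(m') for finitely many b_i, c_i : M →
A. Then a has finite support. -/
theorem result (A : Type u) [CommRing A] [IsNoetherianRing A] (M : Type u)
    (a : M × M → A) (hdiag : ∀ m m', m ≠ m' → a (m, m') = 0)
    (ι : Type u) [Fintype ι] (b c : ι → M → A) (hdec : ∀ m m', a (m, m') = ∑ i, b i m * c i m') :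
    Set.Finite {p : M × M | a p ≠ 0} := by
  classical
  rcases isEmpty_or_nonempty M with hM | hM
  · exact Set.toFinite _
  -- the submodule of `ι → A` spanned by the vectors `b · m`
  let v : M → (ι → A) := fun m i => b i m
  have hfg : (Submodule.span A (Set.range v)).FG := IsNoetherian.noetherian _
  obtain ⟨T, hTsub, hT⟩ := Submodule.fg_span_iff_fg_span_finset_subset (Set.range v) |>.mp hfg
  -- choose preimages of the finite generating set
  have hTr : ∀ t ∈ T, ∃ m : M, v m = t := fun t ht => hTsub ht
  choose! pre hpre using hTr
  let F : Finset M := T.image pre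
  have hkey : ∀ m : M, m ∉ F → a (m, m) = 0 := by
    intro m hm
    have hvm : v m ∈ Submodule.span A (T : Set (ι → A)) := by
      rw [← hT]; exact Submodule.subset_span ⟨m, rfl⟩
    -- the linear functional `w ↦ ∑ i, w i * c i m` vanishes on the generators
    let L : (ι → A) →ₗ[A] A :=
      { toFun := fun w => ∑ i, w i * c i m
        map_add' := fun w w' => by simp [add_mul, Finset.sum_add_distrib]
        map_smul' := fun r w => by simp [Finset.mul_sum, mul_assoc] }
    have hL : ∀ t ∈ T, L t = 0 := by
      intro t ht
      have h1 : L t = a (pre t, m) := by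
        have e := hpre t ht
        show ∑ i, t i * c i m = a (pre t, m)
        rw [hdec]
        refine Finset.sum_congr rfl fun i _ => ?_
        have e' : t i = b i (pre t) := (congrFun e i).symm
        rw [e']
      rw [h1]
      apply hdiag
      intro h
      apply hm
      rw [← h]
      exact Finset.mem_image_of_mem pre ht
    have hLv : L (v m) = 0 := by
      have : Submodule.span A (T : Set (ι → A)) ≤ LinearMap.ker L := by
        rw [Submodule.span_le]
        intro t ht
        exact hL t ht
      exact this hvm
    rw [hdec]
    exact hLv
  apply Set.Finite.subset (F.image fun m => (m, m)).finite_toSet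
  rintro ⟨m, m'⟩ hp
  have hp' : a (m, m') ≠ 0 := hp
  have hmm : m = m' := by
    by_contra hne
    exact hp' (hdiag m m' hne)
  subst hmm
  have hmF : m ∈ F := by
    by_contra hmF
    exact hp' (hkey m hmF)
  simp only [Finset.coe_image, Set.mem_image, Finset.mem_coe]
  exact ⟨m, hmF, rfl⟩

end Groth.Agent.S2978
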