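import Groth.Statements.S2981
import Groth.Agent.Lib.Helper19.TorsDense2

set_option autoImplicit false
universe u
open TensorProduct SGA3b
open SGA3b

namespace Groth.Agent.S2981

/-- Let G = Spec A be an R-group of multiplicative type and of finite type. Then the kernels ₙG of the
n-th power maps, n > 0, form a schematically dense family: over every basic open D(a) of G, the
intersection of the (extended) ideals of the ₙG is zero. (Affine group schemes over an affine base
are taken in Hopf-algebra form; base change is the tensor product.) -/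
theorem result (R : Type u) [CommRing R] (A : Type u) [CommRing A] [HopfAlgebra R A] (hft : Algebra.FiniteType R A) (h : IsMultType R A) :
    ∀ a : A, ⨅ n : {n : ℕ // 0 < n}, Ideal.map (algebraMap A (Localization.Away a)) (torsionIdeal R A n.1) = ⊥ := by
  intro a
  rw [eq_bot_iff]
  intro y hy
  rw [Submodule.mem_iInf] at hy
  rw [Submodule.mem_bot]
  obtain ⟨⟨x, ⟨_, k, rfl⟩⟩, hx⟩ := IsLocalization.surj (Submonoid.powers a) y
  -- `hx : y * algebraMap (a ^ k) = algebraMap x`
  have hunit : IsUnit (algebraMap A (Localization.Away a) (a ^ k)) :=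
    IsLocalization.map_units (Localization.Away a) (⟨a ^ k, k, rfl⟩ : Submonoid.powers a)
  have H : ∀ n : ℕ, 0 < n → ∃ e : ℕ, a ^ e * x ∈ torsionIdeal R A n := by
    intro n hn
    have h1 : algebraMap A (Localization.Away a) x ∈
        Ideal.map (algebraMap A (Localization.Away a)) (torsionIdeal R A n) := by
      rw [← hx]
      exact Ideal.mul_mem_right _ _ (hy ⟨n, hn⟩)
    rw [IsLocalization.mem_map_algebraMap_iff (Submonoid.powers a)] at h1
    obtain ⟨⟨⟨i, hi⟩, ⟨_, e, rfl⟩⟩, h2⟩ := h1
    rw [← map_mul] at h2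
    obtain ⟨⟨_, e', rfl⟩, h3⟩ := (IsLocalization.eq_iff_exists (Submonoid.powers a) _).1 h2
    refine ⟨e' + e, ?_⟩
    have h4 : a ^ (e' + e) * x = a ^ e' * i := by
      rw [pow_add, mul_assoc, mul_comm (a ^ e) x]
      exact h3
    rw [h4]
    exact Ideal.mul_mem_left _ _ hi
  obtain ⟨e, he⟩ := Groth.Agent.Lib.Helper19.TorsDense.exists_pow_mul_eq_zero hft h a x H
  have h5 : algebraMap A (Localization.Away a) x = 0 := by
    rw [IsLocalization.map_eq_zero_iff (Submonoid.powers a)]
    exact ⟨⟨a ^ e, e, rfl⟩, he⟩
  rw [h5] at hx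
  exact (hunit.mul_left_eq_zero).1 hx

end Groth.Agent.S2981
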