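import Groth.Statements.S2983
import Groth.Agent.Lib.Helper19.MultLI

set_option autoImplicit false
universe u
open TensorProduct SGA3b
open SGA3b

namespace Groth.Agent.S2983

/-- Let R be a ring with connected spectrum (no idempotents other than 0 and 1), G = Spec A a
diagonalisable R-group of finite type, and H = Spec (A/J) a closed subgroup (J a Hopf ideal) which
is of multiplicative type. Then H is diagonalisable. (Affine group schemes over an affine base are
taken in Hopf-algebra form; base change is the tensor product.) -/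
theorem result (R : Type u) [CommRing R] (A : Type u) [CommRing A] [HopfAlgebra R A] [Nontrivial R] (hconn : ∀ e : R, IsIdempotentElem e → e = 0 ∨ e = 1)
    (hG : IsDiagFT R A) (J : Ideal A) [J.IsHopfIdeal R] (hH : IsMultType R (A ⧸ J)) : IsDiag R (A ⧸ J) := by
  obtain ⟨M, _, _, ⟨e₀⟩⟩ := hG
  refine Groth.Agent.Lib.Helper19.MultLI.isDiag_of_surjective hconn hH
    ((Bialgebra.Quotient.mkBialgHom (R := R) J).comp
      (e₀.symm : MonoidAlgebra R M →ₐc[R] A)) ?_
  intro b
  obtain ⟨a, rfl⟩ := Ideal.Quotient.mk_surjective b
  refine ⟨e₀ a, ?_⟩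
  show Ideal.Quotient.mk J (e₀.symm (e₀ a)) = _
  rw [BialgEquiv.symm_apply_apply]

end Groth.Agent.S2983
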