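import Groth.Statements.S3015
import Mathlib
import Groth.Agent.Lib.Helper11.GrpA

set_option autoImplicit false
universe u
open CategoryTheory MonoidalCategory CartesianMonoidalCategory MonObj GrpObj AlgebraicGeometry TensorProduct
open SGA3

namespace Groth.Agent.S3015

open CategoryTheory.Limits in
/-- a surjective closed immersion is universally open -/
theorem universallyOpen_of_isClosedImmersion_of_surjective {X Y : Scheme.{u}} (f : X ⟶ Y)
    [IsClosedImmersion f] [Surjective f] : UniversallyOpen f := by
  rw [UniversallyOpen.eq]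
  intro X' Y' i₁ i₂ f' hf
  haveI : IsClosedImmersion f' :=
    MorphismProperty.of_isPullback (P := @IsClosedImmersion) hf.flip inferInstance
  haveI : Surjective f' := MorphismProperty.of_isPullback (P := @Surjective) hf.flip inferInstance
  exact (f'.isClosedEmbedding.isEmbedding.toHomeomorphOfSurjective f'.surjective).isOpenMap

theorem subsingleton_spec_artinian_local (A : Type u) [CommRing A] [IsArtinianRing A]
    [IsLocalRing A] : Subsingleton ↥(Spec (CommRingCat.of A)) := by
  refine ⟨fun p q => ?_⟩
  have hp : (p : PrimeSpectrum A).asIdeal = IsLocalRing.maximalIdeal A :=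
    IsLocalRing.eq_maximalIdeal (IsArtinianRing.isMaximal_of_isPrime p.asIdeal)
  have hq : (q : PrimeSpectrum A).asIdeal = IsLocalRing.maximalIdeal A :=
    IsLocalRing.eq_maximalIdeal (IsArtinianRing.isMaximal_of_isPrime q.asIdeal)
  exact PrimeSpectrum.ext (hp.trans hq.symm)

/-- a morphism from the spectrum of a field to the spectrum of a local artinian ring is
universally open -/
theorem universallyOpen_of_field_to_artinian (A : Type u) [CommRing A] [IsArtinianRing A]
    [IsLocalRing A] (K : Type u) [Field K]
    (t : Spec (CommRingCat.of K) ⟶ Spec (CommRingCat.of A)) : UniversallyOpen t := by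
  haveI := subsingleton_spec_artinian_local A
  obtain ⟨φ, rfl⟩ := Spec.map_surjective t
  let I := RingHom.ker φ.hom
  haveI : I.IsPrime := RingHom.ker_isPrime φ.hom
  let q : CommRingCat.of A ⟶ CommRingCat.of (A ⧸ I) := CommRingCat.ofHom (Ideal.Quotient.mk I)
  let ψ : CommRingCat.of (A ⧸ I) ⟶ CommRingCat.of K := CommRingCat.ofHom (RingHom.kerLift φ.hom)
  have hfac : φ = q ≫ ψ := by
    ext x
    rfl
  haveI : IsClosedImmersion (Spec.map q) :=
    IsClosedImmersion.spec_of_surjective q Ideal.Quotient.mk_surjective
  haveI : Nonempty ↥(Spec (CommRingCat.of (A ⧸ I))) :=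
    inferInstanceAs (Nonempty (PrimeSpectrum (A ⧸ I)))
  haveI : Surjective (Spec.map q) :=
    ⟨fun y => ⟨Classical.arbitrary _, Subsingleton.elim _ _⟩⟩
  haveI : Subsingleton ↥(Spec (CommRingCat.of (A ⧸ I))) :=
    (Spec.map q).isClosedEmbedding.injective.subsingleton
  haveI h1 : UniversallyOpen (Spec.map q) := universallyOpen_of_isClosedImmersion_of_surjective _
  haveI h2 : UniversallyOpen (Spec.map ψ) := inferInstance
  rw [hfac, Spec.map_comp]
  exact MorphismProperty.comp_mem _ _ _ h2 h1

/-- Let A be a local artinian ring, G a group scheme over A, and U, V dense open subsets of G. Then U ·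
V, the image of U ×_A V under the multiplication, is the whole underlying space of G: every point of
G is the product of a point of G ×_A G whose two projections lie in U and V. -/
theorem result (A : Type u) [CommRing A] [IsArtinianRing A] [IsLocalRing A]
    (G : Over (Spec (CommRingCat.of A))) [GrpObj G] (U V : G.left.Opens)
    (hU : Dense (U : Set G.left)) (hV : Dense (V : Set G.left)) (g : G.left) :
    ∃ z : ↥(G ⊗ G).left, (fst G G).left.base z ∈ U ∧ (snd G G).left.base z ∈ V ∧ μ[G].left.base z = g := by

  haveI hsub := subsingleton_spec_artinian_local A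
  obtain ⟨T, hT⟩ : ∃ T : Over (Spec (CommRingCat.of A)),
      T = Over.mk (G.left.fromSpecResidueField g ≫ G.hom) := ⟨_, rfl⟩
  obtain ⟨c, hc⟩ : ∃ c : T ⟶ G, ∀ s : ↥T.left, c.left s = g := by
    subst hT
    exact ⟨Over.homMk (G.left.fromSpecResidueField g) rfl,
      fun s => Scheme.fromSpecResidueField_apply g s⟩
  haveI : Nonempty ↥T.left := by
    subst hT
    exact inferInstanceAs (Nonempty (PrimeSpectrum (G.left.residueField g)))
  haveI : UniversallyOpen T.hom := by
    subst hT
    exact universallyOpen_of_field_to_artinian A (G.left.residueField g) _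
  haveI : Surjective T.hom := ⟨fun y => ⟨Classical.arbitrary _, Subsingleton.elim _ _⟩⟩
  have hopen : IsOpenMap (fst G T).left := (Limits.pullback.fst G.hom T.hom).isOpenMap
  have hsurj : Function.Surjective (fst G T).left := by
    haveI : Surjective (Limits.pullback.fst G.hom T.hom) :=
      MorphismProperty.pullback_fst (P := @Surjective) G.hom T.hom inferInstance
    exact (Limits.pullback.fst G.hom T.hom).surjective
  let σh : ↥(G ⊗ T).left ≃ₜ ↥(G ⊗ T).left :=
    Scheme.homeoOfIso ((Over.forget _).mapIso (Groth.Agent.Lib.Helper11.GrpA.sigmaIso T c))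
  have hD₁ : Dense ((fst G T).left ⁻¹' (U : Set ↥G.left)) := hU.preimage hopen
  have hD₂ : Dense (σh ⁻¹' ((fst G T).left ⁻¹' (V : Set ↥G.left))) :=
    (hV.preimage hopen).preimage σh.isOpenMap
  have hO₁ : IsOpen ((fst G T).left ⁻¹' (U : Set ↥G.left)) :=
    U.isOpen.preimage (fst G T).left.continuous
  haveI : Nonempty ↥(G ⊗ T).left := by
    obtain ⟨w, -⟩ := hsurj g
    exact ⟨w⟩
  obtain ⟨z, hz1, hz2⟩ := (hD₁.inter_of_isOpen_left hD₂ hO₁).nonempty
  refine ⟨(Groth.Agent.Lib.Helper11.GrpA.theta T c).left z, ?_, ?_, ?_⟩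
  · have h := congrArg (fun f : G ⊗ T ⟶ G => f.left z) (Groth.Agent.Lib.Helper11.GrpA.theta_fst T c)
    show (fst G G).left ((Groth.Agent.Lib.Helper11.GrpA.theta T c).left z) ∈ U
    rw [show (fst G G).left ((Groth.Agent.Lib.Helper11.GrpA.theta T c).left z) =
      (fst G T).left z from h]
    exact hz1
  · have h := congrArg (fun f : G ⊗ T ⟶ G => f.left z) (Groth.Agent.Lib.Helper11.GrpA.theta_snd T c)
    show (snd G G).left ((Groth.Agent.Lib.Helper11.GrpA.theta T c).left z) ∈ V
    rw [show (snd G G).left ((Groth.Agent.Lib.Helper11.GrpA.theta T c).left z) =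
      (fst G T).left (σh z) from h]
    exact hz2
  · have h := congrArg (fun f : G ⊗ T ⟶ G => f.left z) (Groth.Agent.Lib.Helper11.GrpA.theta_mul T c)
    show μ[G].left ((Groth.Agent.Lib.Helper11.GrpA.theta T c).left z) = g
    rw [show μ[G].left ((Groth.Agent.Lib.Helper11.GrpA.theta T c).left z) =
      c.left ((snd G T).left z) from h]
    exact hc _

end Groth.Agent.S3015
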