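import Groth.Statements.S3024
import Groth.Agent.Lib.Helper11.IM2

set_option autoImplicit false
universe u
open CategoryTheory MonoidalCategory CartesianMonoidalCategory MonObj GrpObj AlgebraicGeometry TensorProduct
open SGA3

namespace Groth.Agent.S3024

theorem ker_toImage {X Y : Scheme.{u}} (f : X ⟶ Y) [QuasiCompact f] : f.toImage.ker = ⊥ := by
  refine Scheme.IdealSheafData.ext_of_iSup_eq_top
    (fun U : Y.affineOpens => ⟨f.imageι ⁻¹ᵁ (U : Y.Opens), U.2.preimage f.imageι⟩) ?_ ?_
  · show (⨆ U : Y.affineOpens, f.imageι ⁻¹ᵁ (U : Y.Opens)) = ⊤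
    rw [← Scheme.Hom.preimage_iSup, AlgebraicGeometry.iSup_affineOpens_eq_top]
    rfl
  · intro U
    rw [Scheme.Hom.ker_apply, Scheme.IdealSheafData.ideal_bot, Pi.bot_apply]
    exact (RingHom.injective_iff_ker_eq_bot _).mp (f.toImage_app_injective U)

/-- Let f : H → G be a quasi-compact homomorphism of group schemes over a field k. Then f factors as a
homomorphism f' : H → H' followed by a homomorphism i : H' → G which is a closed immersion (H' is
the schematic image of f, a closed subgroup scheme of G), with f' schematically dominant,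
quasi-compact and surjective. -/
theorem result (k : Type u) [Field k] (H G : Over (Spec (CommRingCat.of k))) [GrpObj H] [GrpObj G]
    (f : H ⟶ G) [IsMonHom f] [QuasiCompact f.left] :
    ∃ (H' : Over (Spec (CommRingCat.of k))) (_ : GrpObj H') (i : H' ⟶ G) (f' : H ⟶ H'),
      IsMonHom i ∧ IsMonHom f' ∧ f' ≫ i = f ∧ IsClosedImmersion i.left ∧
      f'.left.ker = ⊥ ∧ QuasiCompact f'.left ∧ Surjective f'.left := by
  let H' : Over (Spec (CommRingCat.of k)) := Over.mk (f.left.imageι ≫ G.hom)
  let i : H' ⟶ G := Over.homMk f.left.imageι rfl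
  let f' : H ⟶ H' := Over.homMk f.left.toImage (by
    show f.left.toImage ≫ f.left.imageι ≫ G.hom = H.hom
    rw [Scheme.Hom.toImage_imageι_assoc, Over.w f])
  have hfi : f' ≫ i = f := by
    apply Over.OverMorphism.ext
    exact f.left.toImage_imageι
  haveI : IsClosedImmersion i.left := by
    show IsClosedImmersion f.left.imageι; infer_instance
  haveI : QuasiCompact f'.left := by
    show QuasiCompact f.left.toImage; infer_instance
  have hker : f'.left.ker = ⊥ := ker_toImage f.left
  haveI : IsSchemeTheoreticallyDominant f'.left := ⟨hker⟩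
  obtain ⟨Gr, hi, hf'⟩ := Groth.Agent.Lib.Helper11.IM2.image_grpObj H G H' f i f' hfi
  letI := Gr
  haveI := hi
  haveI := hf'
  exact ⟨H', Gr, i, f', hi, hf', hfi, inferInstance, hker, inferInstance,
    Groth.Agent.Lib.Helper11.IM2.surjective_of_dominant_hom H H' f'⟩

end Groth.Agent.S3024
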