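import Groth.Statements.S3025
import Groth.Agent.Lib.Helper11.SEP2

set_option autoImplicit false
universe u
open CategoryTheory MonoidalCategory CartesianMonoidalCategory MonObj GrpObj AlgebraicGeometry TensorProduct
open SGA3

namespace Groth.Agent.S3025

/-- Let S be a scheme and G a group scheme over S which is locally of finite presentation and
universally open over S and whose fibres are connected. Then G is separated and quasi-compact (hence
of finite presentation) over S. -/
theorem result (S : Scheme.{u}) (G : Over S) [GrpObj G]
    [LocallyOfFinitePresentation G.hom] [UniversallyOpen G.hom]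
    (hconn : ∀ s : S, _root_.IsConnected (G.hom.base ⁻¹' {s})) :
    IsSeparated G.hom ∧ QuasiCompact G.hom := by
  exact ⟨Groth.Agent.Lib.Helper11.SEP2.isSeparated_grp G hconn,
    Groth.Agent.Lib.Helper11.NC1.quasiCompact_of_connected G hconn⟩

end Groth.Agent.S3025
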