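import Groth.Statements.S3043
import Mathlib.AlgebraicGeometry.Morphisms.Integral

set_option autoImplicit false
universe u
open CategoryTheory MonoidalCategory CartesianMonoidalCategory MonObj GrpObj AlgebraicGeometry TensorProduct
open SGA3

namespace Groth.Agent.S3043


theorem eps_pi {X S : Scheme.{u}} (π : X ⟶ S) (ε : S ⟶ X) (hε : ε ≫ π = 𝟙 S)
    (hinj : Function.Injective π.base) (y : X) : ε.base (π.base y) = y := by
  apply hinj
  have h := Scheme.Hom.comp_apply ε π (π.base y)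
  rw [hε] at h
  rw [← h]
  rfl

theorem pi_eps {X S : Scheme.{u}} (π : X ⟶ S) (ε : S ⟶ X) (hε : ε ≫ π = 𝟙 S)
    (x : S) : π.base (ε.base x) = x := by
  have h := Scheme.Hom.comp_apply ε π x
  rw [hε] at h
  rw [← h]
  rfl

theorem affine_preimage {X S : Scheme.{u}} (π : X ⟶ S) (ε : S ⟶ X) (hε : ε ≫ π = 𝟙 S)
    (hinj : Function.Injective π.base) (U : S.Opens) (hU : IsAffineOpen U) :
    IsAffineOpen (π ⁻¹ᵁ U) := by
  let s₀ : Set Γ(S, U) := {f | IsAffineOpen (X.basicOpen (π.app U f))}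
  have hs₀ : Ideal.span s₀ = ⊤ := by
    rw [← hU.self_le_iSup_basicOpen_iff]
    intro x hx
    rw [TopologicalSpace.Opens.mem_iSup]
    -- an affine open around ε x inside π⁻¹ U
    have hx' : ε.base x ∈ π ⁻¹ᵁ U := by
      change π.base (ε.base x) ∈ U
      rw [pi_eps π ε hε]
      exact hx
    obtain ⟨_, ⟨W, hW, rfl⟩, hxW, hWU⟩ := X.isBasis_affineOpens.exists_subset_of_mem_open hx'
      (π ⁻¹ᵁ U).isOpen
    have hxW' : x ∈ ε ⁻¹ᵁ W := hxW
    obtain ⟨f, hfV, hxf⟩ := hU.exists_basicOpen_le (V := ε ⁻¹ᵁ W) ⟨x, hxW'⟩ hx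
    have hle : X.basicOpen (π.app U f) ≤ W := by
      rw [← Scheme.preimage_basicOpen]
      intro y hy
      have h1 : π.base y ∈ S.basicOpen f := hy
      have h2 : ε.base (π.base y) ∈ W := hfV h1
      rwa [eps_pi π ε hε hinj] at h2
    have hWU' : W ≤ π ⁻¹ᵁ U := hWU
    have hf : f ∈ s₀ := by
      change IsAffineOpen (X.basicOpen (π.app U f))
      have h3 := hW.basicOpen (X.presheaf.map (homOfLE hWU').op (π.app U f))
      rw [Scheme.basicOpen_res] at h3
      rwa [inf_eq_right.mpr hle] at h3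
    exact ⟨⟨f, hf⟩, hxf⟩
  apply isAffineOpen_of_isAffineOpen_basicOpen (π ⁻¹ᵁ U) ((π.app U).hom '' s₀)
  · rw [← Ideal.map_span, hs₀, Ideal.map_top]
  · rintro _ ⟨f, hf, rfl⟩
    exact hf

/-- Let π : X → S be a morphism of schemes admitting a section ε (ε followed by π is the identity). If π
is injective on underlying points, then π is an integral morphism. -/
theorem result (X S : Scheme.{u}) (π : X ⟶ S) (ε : S ⟶ X) (hε : ε ≫ π = 𝟙 S)
    (hinj : Function.Injective π.base) : IsIntegralHom π := by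
  haveI : IsAffineHom π := ⟨fun U hU => affine_preimage π ε hε hinj U hU⟩
  refine ⟨fun U hU => ?_⟩
  intro x
  have hV : IsAffineOpen (π ⁻¹ᵁ U) := affine_preimage π ε hε hinj U hU
  have e : U = ε ⁻¹ᵁ (π ⁻¹ᵁ U) := by
    ext z
    change z ∈ U ↔ π.base (ε.base z) ∈ U
    rw [pi_eps π ε hε]
  have key : ∀ w : Γ(S, U), ε.app (π ⁻¹ᵁ U) (π.app U w) = S.presheaf.map (eqToHom e.symm).op w := by
    intro w
    have h : π.app U ≫ ε.app (π ⁻¹ᵁ U) = S.presheaf.map (eqToHom e.symm).op := by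
      have h0 := Scheme.Hom.congr_app hε U
      exact h0.trans (Category.id_comp _)
    exact congrArg (fun φ => φ.hom w) h
  set z : Γ(S, U) := S.presheaf.map (eqToHom e).op (ε.app (π ⁻¹ᵁ U) x) with hz
  have hzz : ε.app (π ⁻¹ᵁ U) (π.app U z) = ε.app (π ⁻¹ᵁ U) x := by
    rw [key, hz, ← CategoryTheory.comp_apply, ← Functor.map_comp, ← op_comp, eqToHom_trans,
      eqToHom_refl, op_id, CategoryTheory.Functor.map_id, CategoryTheory.id_apply]
  have hy : X.basicOpen (x - π.app U z) = ⊥ := by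
    rw [eq_bot_iff]
    intro p hp
    have hpV : p ∈ π ⁻¹ᵁ U := X.basicOpen_le _ hp
    have hq : π.base p ∈ ε ⁻¹ᵁ X.basicOpen (x - π.app U z) := by
      change ε.base (π.base p) ∈ X.basicOpen (x - π.app U z)
      rw [eps_pi π ε hε hinj]
      exact hp
    rw [Scheme.preimage_basicOpen, map_sub, hzz, sub_self, Scheme.basicOpen_zero] at hq
    exact hq
  have hnil : IsNilpotent (x - π.app U z) :=
    (Scheme.isNilpotent_iff_basicOpen_eq_bot_of_isCompact hV.isCompact _).mpr hy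
  have h1 : (π.app U).hom.IsIntegralElem (x - π.app U z) := by
    obtain ⟨n, hn⟩ := hnil
    exact ⟨Polynomial.X ^ n, Polynomial.monic_X_pow n, by rw [Polynomial.eval₂_X_pow, hn]⟩
  have h2 : (π.app U).hom.IsIntegralElem (π.app U z) := (π.app U).hom.isIntegralElem_map
  have := RingHom.IsIntegralElem.add _ h1 h2
  rwa [sub_add_cancel] at this

end Groth.Agent.S3043
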