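import Mathlib
import Groth.Statements.S3045


set_option autoImplicit false
universe u
open TensorProduct
open SGA3

namespace Aux3045

variable (k : Type u) [CommRing k] (A : Type u) [CommRing A] [HopfAlgebra k A]

/-- first reduction: the third factor is the unit point. -/
theorem step1 {C : Type u} [CommRing C] [Algebra k C] (F : A ⊗[k] A →ₐ[k] C) (t : A ⊗[k] A) :
    (Algebra.TensorProduct.lmul' (S := C) k)
      ((Algebra.TensorProduct.map F ((Algebra.ofId k C).comp (Bialgebra.counitAlgHom k A)))
        ((Algebra.TensorProduct.map (Bialgebra.comulAlgHom k A) (AlgHom.id k A)) t)) =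
    F (CoalgebraStruct.comul (R := k)
      (TensorProduct.rid k A ((Coalgebra.counit (R := k) (A := A)).lTensor A t))) := by
  induction t using TensorProduct.induction_on with
  | zero => simp
  | tmul x y =>
    simp only [Algebra.TensorProduct.map_tmul, Algebra.TensorProduct.lmul'_apply_tmul,
      LinearMap.lTensor_tmul, TensorProduct.rid_tmul, AlgHom.coe_comp, Function.comp_apply,
      AlgHom.coe_id, id_eq, Bialgebra.comulAlgHom_apply, Bialgebra.counitAlgHom_apply, map_smul]
    rw [Algebra.ofId_apply, Algebra.smul_def, mul_comm]
  | add x y hx hy => simp only [map_add, hx, hy]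

theorem step2 (φ ψ : LieHopf.LiePts k A) (t : A ⊗[k] A) :
    TrivSqZeroExt.snd ((Algebra.TensorProduct.lmul' (S := DualNumber k) k)
        ((Algebra.TensorProduct.map φ.1 ψ.1) t)) =
      TrivSqZeroExt.snd (ψ.1 (TensorProduct.lid k A
        ((Coalgebra.counit (R := k) (A := A)).rTensor A t))) +
      TrivSqZeroExt.snd (φ.1 (TensorProduct.rid k A
        ((Coalgebra.counit (R := k) (A := A)).lTensor A t))) := by
  induction t using TensorProduct.induction_on with
  | zero => simp
  | tmul x y =>
    simp only [Algebra.TensorProduct.map_tmul, Algebra.TensorProduct.lmul'_apply_tmul,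
      LinearMap.lTensor_tmul, LinearMap.rTensor_tmul, TensorProduct.rid_tmul,
      TensorProduct.lid_tmul, map_smul, TrivSqZeroExt.snd_mul, TrivSqZeroExt.snd_smul]
    have h1 := φ.2 x
    have h2 := ψ.2 y
    rw [h1, h2]
    simp [Bialgebra.counitAlgHom_apply, mul_comm]
  | add x y hx hy =>
    simp only [map_add, TrivSqZeroExt.snd_add, hx, hy]
    abel

theorem main (φ ψ : LieHopf.LiePts k A) (a : A) :
    TrivSqZeroExt.snd (Dyn.conv3 k A φ.1 ψ.1 ((Algebra.ofId k (DualNumber k)).comp (Bialgebra.counitAlgHom k A)) a) =
      LieHopf.LiePts.tangent k A φ a + LieHopf.LiePts.tangent k A ψ a := by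
  have e1 : Dyn.conv3 k A φ.1 ψ.1 ((Algebra.ofId k (DualNumber k)).comp (Bialgebra.counitAlgHom k A)) a
      = (Algebra.TensorProduct.lmul' (S := DualNumber k) k)
      ((Algebra.TensorProduct.map ((Algebra.TensorProduct.lmul' (S := DualNumber k) k).comp
        (Algebra.TensorProduct.map φ.1 ψ.1)) ((Algebra.ofId k (DualNumber k)).comp (Bialgebra.counitAlgHom k A)))
        ((Algebra.TensorProduct.map (Bialgebra.comulAlgHom k A) (AlgHom.id k A))
          (CoalgebraStruct.comul (R := k) a))) := rfl
  rw [e1, step1, Coalgebra.lTensor_counit_comul, TensorProduct.rid_tmul, one_smul,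
    AlgHom.comp_apply, step2, Coalgebra.lTensor_counit_comul, Coalgebra.rTensor_counit_comul,
    TensorProduct.rid_tmul, TensorProduct.lid_tmul, one_smul, add_comm]
  rfl

end Aux3045

namespace Groth.Agent.S3045

/-- Let A be a commutative Hopf algebra over a commutative ring k (the coordinate ring of an affine
group G = Spec A) and φ, ψ two k[ε]-valued points of G reducing to the unit point modulo ε (tangent
vectors at the identity). Then for every a ∈ A the ε-component of the product point φ · ψ at a — the
product of points being convolution, formed here as the triple convolution of φ, ψ and the unit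
point — is the sum of the ε-components of φ(a) and ψ(a): on tangent vectors at the identity the
group law of G induces addition. -/
theorem result (k : Type u) [CommRing k] (A : Type u) [CommRing A] [HopfAlgebra k A]
    (φ ψ : LieHopf.LiePts k A) (a : A) :
    TrivSqZeroExt.snd (Dyn.conv3 k A φ.1 ψ.1 ((Algebra.ofId k (DualNumber k)).comp (Bialgebra.counitAlgHom k A)) a) =
      LieHopf.LiePts.tangent k A φ a + LieHopf.LiePts.tangent k A ψ a := by
  exact Aux3045.main k A φ ψ a

end Groth.Agent.S3045
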