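import Mathlib
import Groth.Statements.S3046


set_option autoImplicit false
universe u
open TensorProduct
open SGA3

namespace Aux3046
open TensorProduct WithConv

variable {k : Type u} [CommRing k] {A : Type u} [CommRing A] [HopfAlgebra k A]
variable {R : Type u} [CommRing R] [Algebra k R]

theorem conv3_apply (f g h : A →ₐ[k] R) (a : A) :
    Dyn.conv3 k A f g h a = (toConv f * toConv g * toConv h).ofConv a := by
  have key : ∀ s : A ⊗[k] A,
      (Algebra.TensorProduct.map ((Algebra.TensorProduct.lmul' (S := R) k).comp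
        (Algebra.TensorProduct.map f g)) h)
        ((Algebra.TensorProduct.map (Bialgebra.comulAlgHom k A) (AlgHom.id k A)) s) =
      (Algebra.TensorProduct.map (toConv f * toConv g).ofConv h) s := by
    intro s
    induction s using TensorProduct.induction_on with
    | zero => simp
    | tmul x y =>
      simp only [Algebra.TensorProduct.map_tmul, AlgHom.convMul_def, ofConv_toConv,
        AlgHom.coe_comp, Function.comp_apply, AlgHom.coe_id, id_eq]
    | add x y hx hy => simp only [map_add, hx, hy]
  have e1 : Dyn.conv3 k A f g h a = (Algebra.TensorProduct.lmul' (S := R) k)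
      ((Algebra.TensorProduct.map ((Algebra.TensorProduct.lmul' (S := R) k).comp
        (Algebra.TensorProduct.map f g)) h)
        ((Algebra.TensorProduct.map (Bialgebra.comulAlgHom k A) (AlgHom.id k A))
          (Bialgebra.comulAlgHom k A a))) := rfl
  have e2 : (toConv f * toConv g * toConv h).ofConv a = (Algebra.TensorProduct.lmul' (S := R) k)
      ((Algebra.TensorProduct.map (toConv f * toConv g).ofConv h)
        (Bialgebra.comulAlgHom k A a)) := rfl
  rw [e1, e2, key]

theorem conv3_eq (f g h : A →ₐ[k] R) :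
    Dyn.conv3 k A f g h = (toConv f * toConv g * toConv h).ofConv :=
  AlgHom.ext (conv3_apply f g h)

/-- linearisation -/
noncomputable def lin (f : WithConv (A →ₐ[k] R)) : WithConv (A →ₗ[k] R) :=
  toConv f.ofConv.toLinearMap

theorem lin_mul (f g : WithConv (A →ₐ[k] R)) : lin (f * g) = lin f * lin g := rfl
theorem lin_one : lin (1 : WithConv (A →ₐ[k] R)) = 1 := rfl
theorem lin_apply (f : WithConv (A →ₐ[k] R)) (a : A) : (lin f).ofConv a = f.ofConv a := rfl

noncomputable def dW (D : LieHopf.Lie k A) : WithConv (A →ₗ[k] R) :=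
  toConv ((Algebra.linearMap k R) ∘ₗ LieHopf.dlin D)

theorem lin_pt (D : LieHopf.Lie k A) (t : R) (ht : t * t = 0) :
    lin (toConv (LieHopf.ptOfLie D R t ht)) = 1 + t • (dW D : WithConv (A →ₗ[k] R)) := by
  apply WithConv.ext
  apply LinearMap.ext
  intro a
  rw [lin_apply]
  simp only [ofConv_toConv, ofConv_add, ofConv_smul, LinearMap.add_apply, LinearMap.smul_apply,
    smul_eq_mul]
  rw [show ((1 : WithConv (A →ₗ[k] R)).ofConv a) = algebraMap k R (Coalgebra.counit a) from rfl]
  show algebraMap k R (Bialgebra.counitAlgHom k A a) + algebraMap k R (LieHopf.dlin D a) * t = _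
  rw [Bialgebra.counitAlgHom_apply]
  simp only [dW, ofConv_toConv, LinearMap.comp_apply, Algebra.linearMap_apply]
  ring

theorem lin_mul_inv (x : A →ₐ[k] R) :
    lin (toConv x) * lin (toConv (x.comp (HopfAlgebra.antipodeAlgHom k A))) = 1 := by
  have h := LinearMap.algHom_comp_convMul_distrib (R := k) x
    (toConv (LinearMap.id : A →ₗ[k] A)) (toConv (HopfAlgebra.antipode k (A := A)))
  rw [LinearMap.id_mul_antipode] at h
  apply WithConv.ext
  have e : (lin (toConv x) * lin (toConv (x.comp (HopfAlgebra.antipodeAlgHom k A)))).ofConv =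
      (toConv (x.toLinearMap.comp (toConv (LinearMap.id : A →ₗ[k] A)).ofConv) *
        toConv (x.toLinearMap.comp (toConv (HopfAlgebra.antipode k (A := A))).ofConv)).ofConv := rfl
  rw [e, ← h]
  apply LinearMap.ext
  intro a
  show x (algebraMap k A (Coalgebra.counit a)) = algebraMap k R (Coalgebra.counit a)
  exact x.commutes _

theorem lin_inv (x : A →ₐ[k] R) (u : WithConv (A →ₗ[k] R)) (hX : lin (toConv x) = 1 + u)
    (hu : u * u = 0) : lin (toConv (x.comp (HopfAlgebra.antipodeAlgHom k A))) = 1 - u := by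
  have h1 := lin_mul_inv x
  have h2 : (1 - u) * (1 + u) = 1 := by
    have : (1 - u) * (1 + u) = 1 - u * u := by noncomm_ring
    rw [this, hu, sub_zero]
  calc lin (toConv (x.comp (HopfAlgebra.antipodeAlgHom k A)))
      = ((1 - u) * (1 + u)) * lin (toConv (x.comp (HopfAlgebra.antipodeAlgHom k A))) := by
        rw [h2, one_mul]
    _ = (1 - u) * (lin (toConv x) * lin (toConv (x.comp (HopfAlgebra.antipodeAlgHom k A)))) := by
        rw [hX, mul_assoc]
    _ = 1 - u := by rw [h1, mul_one]

theorem comm_identity {W : Type*} [Ring W] (u v : W) (hu : u * u = 0) (hv : v * v = 0)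
    (huvu : u * v * u = 0) (hvuv : v * u * v = 0) :
    (1 + u) * (1 + v) * (1 - u) * (1 - v) = 1 + u * v - v * u := by
  have key : (1+u)*(1+v)*(1-u)*(1-v) = 1 + u*v - v*u - u*u - u*v*u - v*v - u*(v*v) + (u*u)*v
      + v*u*v + (u*v*u)*v := by noncomm_ring
  rw [key, hu, hv, huvu, hvuv]; simp

theorem dW_mul (f g : A →ₗ[k] k) (a : A) :
    (toConv ((Algebra.linearMap k R) ∘ₗ f) * toConv ((Algebra.linearMap k R) ∘ₗ g) :
      WithConv (A →ₗ[k] R)).ofConv a = algebraMap k R (LieHopf.conv f g a) := by
  have key : ∀ s : A ⊗[k] A, LinearMap.mul' k R (TensorProduct.map ((Algebra.linearMap k R) ∘ₗ f)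
      ((Algebra.linearMap k R) ∘ₗ g) s) =
      algebraMap k R (LinearMap.mul' k k (TensorProduct.map f g s)) := by
    intro s
    induction s using TensorProduct.induction_on with
    | zero => simp
    | tmul x y => simp
    | add x y hx hy => simp only [map_add, hx, hy]
  exact key _

theorem main (D E : LieHopf.Lie k A) (t t' : R) (ht : t * t = 0) (ht' : t' * t' = 0) (a : A) :
    Dyn.conv3 k A
        (Dyn.conv3 k A (LieHopf.ptOfLie D R t ht) (LieHopf.ptOfLie E R t' ht')
          ((LieHopf.ptOfLie D R t ht).comp (HopfAlgebra.antipodeAlgHom k A)))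
        ((LieHopf.ptOfLie E R t' ht').comp (HopfAlgebra.antipodeAlgHom k A))
        ((Algebra.ofId k R).comp (Bialgebra.counitAlgHom k A)) a =
      algebraMap k R (Bialgebra.counitAlgHom k A a) +
        algebraMap k R (LieHopf.bracketLin D E a) * (t * t') := by
  have hX := lin_pt (R := R) D t ht
  have hY := lin_pt (R := R) E t' ht'
  have hu : (t • (dW D : WithConv (A →ₗ[k] R))) * (t • dW D) = 0 := by
    rw [smul_mul_smul_comm, ht, zero_smul]
  have hv : (t' • (dW E : WithConv (A →ₗ[k] R))) * (t' • dW E) = 0 := by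
    rw [smul_mul_smul_comm, ht', zero_smul]
  have huvu : (t • (dW D : WithConv (A →ₗ[k] R))) * (t' • dW E) * (t • dW D) = 0 := by
    rw [smul_mul_smul_comm, smul_mul_smul_comm, mul_right_comm t t' t, ht, zero_mul, zero_smul]
  have hvuv : (t' • (dW E : WithConv (A →ₗ[k] R))) * (t • dW D) * (t' • dW E) = 0 := by
    rw [smul_mul_smul_comm, smul_mul_smul_comm, mul_right_comm t' t t', ht', zero_mul, zero_smul]
  have hXi := lin_inv _ _ hX hu
  have hYi := lin_inv _ _ hY hv
  rw [conv3_eq (LieHopf.ptOfLie D R t ht) (LieHopf.ptOfLie E R t' ht') _, conv3_apply]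
  have e3 : (toConv ((toConv (LieHopf.ptOfLie D R t ht) * toConv (LieHopf.ptOfLie E R t' ht') *
        toConv ((LieHopf.ptOfLie D R t ht).comp (HopfAlgebra.antipodeAlgHom k A))).ofConv) *
        toConv ((LieHopf.ptOfLie E R t' ht').comp (HopfAlgebra.antipodeAlgHom k A)) *
        toConv ((Algebra.ofId k R).comp (Bialgebra.counitAlgHom k A)) : WithConv (A →ₐ[k] R)) =
      toConv (LieHopf.ptOfLie D R t ht) * toConv (LieHopf.ptOfLie E R t' ht') *
        toConv ((LieHopf.ptOfLie D R t ht).comp (HopfAlgebra.antipodeAlgHom k A)) *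
        toConv ((LieHopf.ptOfLie E R t' ht').comp (HopfAlgebra.antipodeAlgHom k A)) * 1 := rfl
  rw [e3, ← lin_apply, lin_mul, lin_mul, lin_mul, lin_mul, lin_one, hX, hY, hXi, hYi, mul_one,
    comm_identity _ _ hu hv huvu hvuv]
  have huv : (t • (dW D : WithConv (A →ₗ[k] R))) * (t' • dW E) = (t * t') • (dW D * dW E) :=
    smul_mul_smul_comm _ _ _ _
  have hvu : (t' • (dW E : WithConv (A →ₗ[k] R))) * (t • dW D) = (t' * t) • (dW E * dW D) :=
    smul_mul_smul_comm _ _ _ _
  rw [huv, hvu]
  simp only [ofConv_add, ofConv_sub, ofConv_smul, LinearMap.add_apply, LinearMap.sub_apply,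
    LinearMap.smul_apply, smul_eq_mul]
  rw [show ((1 : WithConv (A →ₗ[k] R)).ofConv a) = algebraMap k R (Coalgebra.counit a) from rfl]
  rw [show (dW D * dW E : WithConv (A →ₗ[k] R)).ofConv a = _ from dW_mul _ _ a,
    show (dW E * dW D : WithConv (A →ₗ[k] R)).ofConv a = _ from dW_mul _ _ a]
  have hb : LieHopf.bracketLin D E a = LieHopf.conv (LieHopf.dlin D) (LieHopf.dlin E) a -
      LieHopf.conv (LieHopf.dlin E) (LieHopf.dlin D) a := rfl
  rw [hb, map_sub, Bialgebra.counitAlgHom_apply]
  ring

end Aux3046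

namespace Groth.Agent.S3046

/-- Let A be a commutative Hopf algebra over a commutative ring k, D and E two ε-derivations A → k
(tangent vectors at the identity of G = Spec A), R a commutative k-algebra and t, t' ∈ R with t² = 0
= t'². Let x = e + tD and y = e + t'E be the corresponding R-points of G. Then the commutator x y
x⁻¹ y⁻¹ (product of points; the inverse of a point is its composite with the antipode) is the point
a ↦ ε(a) + [D, E](a) · t t', where [D, E] = D ⋆ E − E ⋆ D is the convolution commutator. -/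
theorem result (k : Type u) [CommRing k] (A : Type u) [CommRing A] [HopfAlgebra k A]
    (D E : LieHopf.Lie k A) (R : Type u) [CommRing R] [Algebra k R] (t t' : R) (ht : t * t = 0) (ht' : t' * t' = 0)
    (a : A) :
    Dyn.conv3 k A
        (Dyn.conv3 k A (LieHopf.ptOfLie D R t ht) (LieHopf.ptOfLie E R t' ht')
          ((LieHopf.ptOfLie D R t ht).comp (HopfAlgebra.antipodeAlgHom k A)))
        ((LieHopf.ptOfLie E R t' ht').comp (HopfAlgebra.antipodeAlgHom k A))
        ((Algebra.ofId k R).comp (Bialgebra.counitAlgHom k A)) a =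
      algebraMap k R (Bialgebra.counitAlgHom k A a) + algebraMap k R (LieHopf.bracketLin D E a) * (t * t') := by
  exact Aux3046.main D E t t' ht ht' a

end Groth.Agent.S3046
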