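import Groth.Statements.S3055
import Mathlib
import Groth.Agent.Lib.Helper15.EtGlue

set_option autoImplicit false
open CategoryTheory CategoryTheory.Limits AlgebraicGeometry Opposite
universe u
open EtDesc

namespace Groth.Agent.S3055

open Groth.Agent.Lib.Helper15

lemma pure_unique {S Y : Scheme.{u}} (a b : S ⟶ Y) (f : Y ⟶ S) (ha : a ≫ f = 𝟙 S)
    (hb : b ≫ f = 𝟙 S) (l : S ⟶ pullback a b) (hl : l ≫ pullback.fst a b = 𝟙 S) : a = b := by
  have hc : pullback.fst a b ≫ a = pullback.snd a b ≫ b := pullback.condition
  have h1 : l ≫ pullback.snd a b = 𝟙 S := by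
    calc l ≫ pullback.snd a b
        = l ≫ pullback.snd a b ≫ (b ≫ f) := by rw [hb, Category.comp_id]
      _ = l ≫ (pullback.snd a b ≫ b) ≫ f := by rw [Category.assoc]
      _ = l ≫ (pullback.fst a b ≫ a) ≫ f := by rw [hc]
      _ = (l ≫ pullback.fst a b) ≫ a ≫ f := by
          rw [Category.assoc, Category.assoc]
      _ = 𝟙 S := by rw [hl, ha, Category.comp_id]
  calc a = (l ≫ pullback.fst a b) ≫ a := by rw [hl, Category.id_comp]
    _ = l ≫ pullback.snd a b ≫ b := by rw [Category.assoc, hc]
    _ = b := by rw [← Category.assoc, h1, Category.id_comp]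

lemma pure_mono {S Y : Scheme.{u}} (a : S ⟶ Y) (f : Y ⟶ S) (h : a ≫ f = 𝟙 S) : Mono a := by
  haveI : Mono (a ≫ f) := by rw [h]; infer_instance
  exact mono_of_mono a f

section

variable (k : Type u) [Field k] [IsSepClosed k]

lemma pt_eq (p q : (Spec (CommRingCat.of k) : Scheme.{u})) : p = q :=
  @Subsingleton.elim (PrimeSpectrum k) _ p q

lemma sec_left {U : (Spec (CommRingCat.of k)).Etale}
    (a : EtCoh.top (Spec (CommRingCat.of k)) ⟶ U) :
    a.left ≫ U.hom = 𝟙 (Spec (CommRingCat.of k)) :=
  MorphismProperty.Over.w a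

set_option backward.isDefEq.respectTransparency.types false in
lemma sec_unique {U : (Spec (CommRingCat.of k)).Etale}
    (a b : EtCoh.top (Spec (CommRingCat.of k)) ⟶ U)
    (h : a.left.base (default : Spec (CommRingCat.of k)) =
      b.left.base (default : Spec (CommRingCat.of k))) : a = b := by
  apply MorphismProperty.Over.Hom.ext
  haveI : Etale a.left := inferInstance
  haveI : Etale b.left := inferInstance
  have ha := sec_left k a
  have hb := sec_left k b
  obtain ⟨z, -, -⟩ := Scheme.Pullback.exists_preimage_pullback (f := a.left) (g := b.left)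
    (default : Spec (CommRingCat.of k)) (default : Spec (CommRingCat.of k)) h
  haveI : Etale (pullback.fst a.left b.left) := inferInstance
  obtain ⟨l, hl, -⟩ := Scheme.exists_fac_of_etale_of_isSepClosed (pullback.fst a.left b.left)
    (𝟙 (Spec (CommRingCat.of k))) z (pt_eq k _ _)
  exact pure_unique a.left b.left U.hom ha hb l hl

end

/-- For a separably closed field k and X = Spec k, the global sections functor from sheaves of sets on
X_et (valued one universe up) to sets is an equivalence of categories. -/
theorem result (k : Type u) [Field k] [IsSepClosed k] :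
    ((sheafSections (Spec (CommRingCat.of k)).smallEtaleTopology (Type (u + 1))).obj
      (op (EtCoh.top (Spec (CommRingCat.of k))))).IsEquivalence := by
  have hcov : ∀ (U : (Spec (CommRingCat.of k)).Etale) (x : U.left),
      ∃ (a : EtCoh.top (Spec (CommRingCat.of k)) ⟶ U)
        (p : (EtCoh.top (Spec (CommRingCat.of k))).left), a.left.base p = x := by
    intro U x
    obtain ⟨l, hl, hx⟩ := Scheme.exists_fac_of_etale_of_isSepClosed U.hom
      (𝟙 (Spec (CommRingCat.of k))) x (pt_eq k _ _)
    exact ⟨MorphismProperty.Over.homMk l hl trivial, (default : Spec (CommRingCat.of k)), hx⟩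
  have hmono : ∀ (U : (Spec (CommRingCat.of k)).Etale)
      (a : EtCoh.top (Spec (CommRingCat.of k)) ⟶ U), Mono a.left := by
    intro U a
    exact pure_mono a.left U.hom (sec_left k a)
  have hdisj : ∀ (U : (Spec (CommRingCat.of k)).Etale)
      (a b : EtCoh.top (Spec (CommRingCat.of k)) ⟶ U), a ≠ b →
      ∀ (p q : (EtCoh.top (Spec (CommRingCat.of k))).left), a.left.base p ≠ b.left.base q := by
    intro U a b hab p q hpq
    apply hab
    apply sec_unique k a b
    have hp : p = (default : Spec (CommRingCat.of k)) := pt_eq k _ _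
    have hq : q = (default : Spec (CommRingCat.of k)) := pt_eq k _ _
    rw [← hp]
    refine hpq.trans ?_
    rw [hq, hp]
  refine { faithful := ⟨?_⟩, full := ⟨?_⟩, essSurj := ⟨?_⟩ }
  · intro F G φ ψ h
    apply Sheaf.hom_ext
    apply NatTrans.ext
    funext U
    obtain ⟨U⟩ := U
    refine ConcreteCategory.hom_ext _ _ (fun s => ?_)
    refine EtGlue.eq_of_ofArrows G
      (fun _ : EtCoh.top (Spec (CommRingCat.of k)) ⟶ U => EtCoh.top (Spec (CommRingCat.of k)))
      (fun a => a) (hcov U) _ _ ?_
    intro a
    have n1 := NatTrans.naturality_apply φ.hom a.op s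
    have n2 := NatTrans.naturality_apply ψ.hom a.op s
    refine n1.symm.trans (Eq.trans ?_ n2)
    exact ConcreteCategory.congr_hom h _
  · intro F G f
    have key : ∀ (U : (Spec (CommRingCat.of k)).Etale) (s : F.obj.obj (op U)),
        ∃ t : G.obj.obj (op U),
          (∀ a : EtCoh.top (Spec (CommRingCat.of k)) ⟶ U,
            G.obj.map a.op t = f (F.obj.map a.op s)) ∧
          ∀ t' : G.obj.obj (op U), (∀ a : EtCoh.top (Spec (CommRingCat.of k)) ⟶ U,
            G.obj.map a.op t' = f (F.obj.map a.op s)) → t' = t :=
      fun U s => EtGlue.glue G (fun _ => EtCoh.top (Spec (CommRingCat.of k))) (fun a => a)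
        (hmono U) (hdisj U) (hcov U) (fun a => f (F.obj.map a.op s))
    choose c hc huniq using key
    let η : F.obj ⟶ G.obj :=
      { app := fun U => ↾(fun s => c U.unop s)
        naturality := by
          intro U V g
          refine ConcreteCategory.hom_ext _ _ (fun s => ?_)
          show c V.unop (F.obj.map g s) = G.obj.map g (c U.unop s)
          refine (huniq V.unop (F.obj.map g s) (G.obj.map g (c U.unop s)) ?_).symm
          intro b
          have h1 := hc U.unop s (b ≫ g.unop)
          have e1 : G.obj.map b.op (G.obj.map g (c U.unop s)) =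
              G.obj.map (b ≫ g.unop).op (c U.unop s) := by
            rw [op_comp, Functor.map_comp_apply]; rfl
          have e2 : F.obj.map b.op (F.obj.map g s) = F.obj.map (b ≫ g.unop).op s := by
            rw [op_comp, Functor.map_comp_apply]; rfl
          rw [e1, e2, h1] }
    refine ⟨⟨η⟩, ?_⟩
    refine ConcreteCategory.hom_ext _ _ (fun s => ?_)
    have h1 := hc (EtCoh.top (Spec (CommRingCat.of k))) s (𝟙 _)
    show c (EtCoh.top (Spec (CommRingCat.of k))) s = f s
    simpa using h1
  · intro A
    letI : Unique ((Scheme.pointSmallEtale (𝟙 (Spec (CommRingCat.of k)))).fiber.obj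
        (EtCoh.top (Spec (CommRingCat.of k)))) :=
      { default := Over.homMk (𝟙 (Spec (CommRingCat.of k))) (Category.comp_id _)
        uniq := by
          intro l
          apply Over.OverMorphism.ext
          have hl : l.left ≫ 𝟙 (Spec (CommRingCat.of k)) = 𝟙 (Spec (CommRingCat.of k)) := Over.w l
          exact (Category.comp_id _).symm.trans hl }
    exact ⟨(Scheme.pointSmallEtale (𝟙 (Spec (CommRingCat.of k)))).skyscraperSheaf A,
      ⟨Limits.productUniqueIso
        (β := (Scheme.pointSmallEtale (𝟙 (Spec (CommRingCat.of k)))).fiber.obj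
          (EtCoh.top (Spec (CommRingCat.of k)))) (fun _ => A)⟩⟩

end Groth.Agent.S3055
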