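import Groth.Statements.S3058
import Groth.Agent.Lib.Helper5.ToposCoprod

set_option autoImplicit false
open CategoryTheory CategoryTheory.Limits Opposite
universe u
open ToposFin

namespace Groth.Agent.S3058

/-- For a topos of sheaves of sets on a small site: the coproduct of a small family of objects is
quasi-compact if and only if every member is quasi-compact and all but finitely many members are
initial (empty) objects. -/
theorem result {C : Type u} [SmallCategory C] {J : GrothendieckTopology C} {ι : Type u}
    (F : ι → ToposFin.Sh J) :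
    ToposFin.IsQC (∐ F) ↔ (∀ i, ToposFin.IsQC (F i)) ∧ {i | IsEmpty (F i ≅ ⊥_ (ToposFin.Sh J))}.Finite := by
  classical
  have hP := Groth.Agent.Lib.Helper5.ToposCoprod.isPartition_inj (Cofan.mk (∐ F) (Sigma.ι F))
    (coproductIsCoproduct F)
  constructor
  · intro hY
    refine ⟨fun i => hP.isQC hY i, ?_⟩
    obtain ⟨s, -, hs⟩ := hP.exists_finset hY
    refine (Finset.finite_toSet s).subset (fun i hi => ?_)
    by_contra hni
    have hi' : IsEmpty (F i ≅ ⊥_ (ToposFin.Sh J)) := hi
    exact hi'.false (hs i hni).nonempty_iso_initial.some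
  · rintro ⟨hqc, hfin⟩
    refine Groth.Agent.Lib.Helper5.ToposEpi.isQC_of_finite_jepi
      (fun i : hfin.toFinset => Sigma.ι F i) ?_ (fun i => hqc i)
    intro Z a b hab
    apply Sigma.hom_ext
    intro i
    by_cases hi : i ∈ hfin.toFinset
    · exact hab ⟨i, hi⟩
    · have h1 : ¬ IsEmpty (F i ≅ ⊥_ (ToposFin.Sh J)) := fun h => hi (hfin.mem_toFinset.2 h)
      rw [not_isEmpty_iff] at h1
      exact Groth.Agent.Lib.Helper5.ToposCoprod.hom_ext_of_iso_initial h1 _ _

end Groth.Agent.S3058
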