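import Groth.Statements.S3075
import Groth.Agent.Lib.Helper5.ToposQC

set_option autoImplicit false
open CategoryTheory CategoryTheory.Limits Opposite
universe u
open ToposFin

namespace Groth.Agent.S3075

open Groth.Agent.Lib.Helper9 Groth.Agent.Lib.Helper5.ToposEpi Groth.Agent.Lib.Helper5.ToposQC

/-- For a topos of sheaves of sets on a small site admitting a generating family of quasi-compact
objects: if (g_i : Y_i -> Y) is a jointly epimorphic family with every Y_i quasi-separated and every
g_i quasi-compact, then Y is quasi-separated. -/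
theorem result {C : Type u} [SmallCategory C] {J : GrothendieckTopology C} (hE : ToposFin.HasQCGenerators J) {Y : ToposFin.Sh J}
    {ι : Type u} (Yi : ι → ToposFin.Sh J) (g : ∀ i, Yi i ⟶ Y) (hg : Epi (Sigma.desc g))
    (hqs : ∀ i, ToposFin.IsQS (Yi i)) (hqc : ∀ i, ToposFin.IsQCHom (g i)) : ToposFin.IsQS Y := by
  intro A B a b hA hB
  have hg' := (epi_desc_iff g).1 hg
  apply isQC_pullback_of_cover_left a b hA (fun i => pullback.snd (g i) a) (hg'.pullback_snd a)
  intro i
  have hAi : ToposFin.IsQC (pullback (g i) a) := hqc i A a hA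
  have hBi : ToposFin.IsQC (pullback (g i) b) := hqc i B b hB
  have h1 : ToposFin.IsQC (pullback (pullback.fst (g i) a) (pullback.fst (g i) b)) :=
    hqs i _ _ _ _ hAi hBi
  have h2 : ToposFin.IsQC (pullback (pullback.fst (g i) a ≫ g i) b) :=
    isQC_of_iso (pullbackRightPullbackFstIso (g i) b (pullback.fst (g i) a)) h1
  exact isQC_congr pullback.condition rfl h2

end Groth.Agent.S3075
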