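import Groth.Statements.S3081
import Groth.Agent.Lib.Helper5.GiraudCoprod
import Groth.Agent.Lib.Helper5.SheafGrpQuot

set_option autoImplicit false
universe u
open CategoryTheory
open SGA4

namespace Groth.Agent.S3081


open CategoryTheory.Limits in
lemma equivalenceRelation_of_isEquivRel {E : Type*} [Category E] [HasPullbacks E] {R A : E}
    {p₁ p₂ : R ⟶ A} (h : SGA4.IsEquivRel p₁ p₂) : Nonempty (EquivalenceRelation p₁ p₂) := by
  have hm : JointlyMono₂ p₁ p₂ := ⟨fun Y f g h₁ h₂ => (h Y).1 (Prod.ext h₁ h₂)⟩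
  obtain ⟨r, hr₁, hr₂⟩ := (h A).2.refl (𝟙 A)
  obtain ⟨s, hs₁, hs₂⟩ := (h R).2.symm ⟨𝟙 R, Category.id_comp p₁, Category.id_comp p₂⟩
  obtain ⟨t, ht₁, ht₂⟩ := (h (pullback p₂ p₁)).2.trans
    (x := pullback.fst p₂ p₁ ≫ p₁) (y := pullback.fst p₂ p₁ ≫ p₂) (z := pullback.snd p₂ p₁ ≫ p₂)
    ⟨pullback.fst p₂ p₁, rfl, rfl⟩ ⟨pullback.snd p₂ p₁, pullback.condition.symm, rfl⟩
  exact ⟨{ toJointlyMono₂ := hm
           r := r
           reflexivity₁ := hr₁
           reflexivity₂ := hr₂
           s := s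
           symmetry₁ := hs₁
           symmetry₂ := hs₂
           c := pullback.cone p₂ p₁
           isLimit := pullback.isLimit p₂ p₁
           t := t
           transitivity₁ := ht₁
           transitivity₂ := ht₂ }⟩

open CategoryTheory.Limits in
/-- c): in the category of sheaves of u-small sets on a u-small site, every u-small family has a
coproduct which is disjoint and stable under base change, and every equivalence relation is
effective with universally effective-epimorphic quotient map. -/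
theorem result {C : Type u} [SmallCategory C] (J : GrothendieckTopology C) :
    SGA4.HasDisjointUniversalCoproducts.{u + 1, u} (Sheaf J (Type u)) ∧
    ∀ (R A : Sheaf J (Type u)) (p₁ p₂ : R ⟶ A), SGA4.IsEquivRel p₁ p₂ → SGA4.IsEffectiveUniversalEquivRel p₁ p₂ := by
  refine ⟨fun ι X => Groth.Agent.Lib.Helper5.GiraudCoprod.sheaf_coproducts.{u} J X, ?_⟩
  intro R A p₁ p₂ h
  obtain ⟨e⟩ := equivalenceRelation_of_isEquivRel h
  obtain ⟨B, π, hk, hp⟩ := Groth.Agent.Lib.Helper5.SheafEqRel.sheaf_exists_effective.{u} J e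
  refine ⟨B, π, hk, hp, fun B' g => ?_⟩
  haveI : Epi π := by
    have hc : Limits.IsColimit (Limits.Cofork.ofπ π hp.w) := hp.isLimitFork
    exact Limits.Cofork.IsColimit.epi hc
  haveI : Epi (Limits.pullback.snd π g) :=
    Groth.Agent.Lib.Helper5.SheafGrpQuot.epi_of_isPullback.{u} J
      (IsPullback.of_hasPullback π g).flip
  exact Groth.Agent.Lib.Helper5.SheafGrpQuot.effectiveEpi_of_epi.{u} J _

end Groth.Agent.S3081
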