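import Groth.Statements.S3082
import Mathlib

set_option autoImplicit false
universe u
open CategoryTheory
open SGA4

namespace Groth.Agent.S3082

/-- Let (C, J) be a small site and G a set of objects of C such that each object of C has a covering
family whose members all lie in G. Then the sheafifications of the presheaves represented by the
members of G form a detecting family in the category Sh(C, J) of set-valued sheaves on (C, J): any
morphism of sheaves that is bijective on sections over each member of G is an isomorphism. -/
theorem result {C : Type u} [SmallCategory C] (J : GrothendieckTopology C) (G : Set C)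
    (hG : ∀ X : C, ∃ (ι : Type u) (Y : ι → C) (f : ∀ i, Y i ⟶ X), Sieve.ofArrows Y f ∈ J X ∧ ∀ i, Y i ∈ G) :
    (ObjectProperty.ofObj fun X : G => (presheafToSheaf J (Type u)).obj (yoneda.obj (X : C))).IsDetecting := by
  intro X Y f hf
  have key : ∀ Z : C, Z ∈ G → Function.Bijective (f.hom.app (Opposite.op Z)) := by
    intro Z hZ
    have hGZ : (ObjectProperty.ofObj fun X : G =>
        (presheafToSheaf J (Type u)).obj (yoneda.obj (X : C)))
        ((presheafToSheaf J (Type u)).obj (yoneda.obj Z)) :=
      ObjectProperty.ofObj_apply (fun X : G => (presheafToSheaf J (Type u)).obj (yoneda.obj (X : C)))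
        ⟨Z, hZ⟩
    let e : ∀ W : Sheaf J (Type u),
        ((presheafToSheaf J (Type u)).obj (yoneda.obj Z) ⟶ W) ≃ W.obj.obj (Opposite.op Z) :=
      fun W => ((sheafificationAdjunction J (Type u)).homEquiv (yoneda.obj Z) W).trans yonedaEquiv
    have enat : ∀ (h' : (presheafToSheaf J (Type u)).obj (yoneda.obj Z) ⟶ X),
        e Y (h' ≫ f) = f.hom.app (Opposite.op Z) (e X h') := by
      intro h'
      simp only [e, Equiv.trans_apply, Adjunction.homEquiv_naturality_right]
      exact yonedaEquiv_comp _ _
    constructor
    · intro a b hab
      obtain ⟨h', -, huniq⟩ := hf _ hGZ ((e X).symm a ≫ f)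
      have h1 := huniq ((e X).symm a) rfl
      have h2 := huniq ((e X).symm b) (by
        apply (e Y).injective
        rw [enat, enat, Equiv.apply_symm_apply, Equiv.apply_symm_apply]
        exact hab.symm)
      have h3 := congrArg (e X) (h1.trans h2.symm)
      simpa using h3
    · intro y
      obtain ⟨h', hh', -⟩ := hf _ hGZ ((e Y).symm y)
      refine ⟨e X h', ?_⟩
      rw [← enat, hh', Equiv.apply_symm_apply]
  have hcomp : J.HasSheafCompose (forget (Type u)) := ⟨fun _ hP => hP⟩
  refine (Sheaf.isLocallyBijective_iff_isIso f).1 ⟨?_, ?_⟩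
  · constructor
    intro Z₀ x x' hxx'
    obtain ⟨ι, Yi, g, hcov, hYG⟩ := hG Z₀.unop
    refine J.superset_covering ?_ hcov
    rw [Sieve.generate_le_iff, Presieve.ofArrows_le_iff]
    intro i
    apply (key (Yi i) (hYG i)).1
    change f.hom.app _ (X.obj.map (g i).op x) = f.hom.app _ (X.obj.map (g i).op x')
    rw [NatTrans.naturality_apply, NatTrans.naturality_apply, hxx']
  · constructor
    intro Z₀ y
    obtain ⟨ι, Yi, g, hcov, hYG⟩ := hG Z₀
    refine J.superset_covering ?_ hcov
    rw [Sieve.generate_le_iff, Presieve.ofArrows_le_iff]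
    intro i
    exact (key (Yi i) (hYG i)).2 _

end Groth.Agent.S3082
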