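import Groth.Statements.S3093
-- import your own Groth.Agent.* helpers here

set_option autoImplicit false
universe u
open CohTop

namespace Groth.Agent.S3093

/-- Let X be a topological space and K ⊆ X a compact subset such that any two distinct points of K have
disjoint open neighbourhoods in X. If A and B are subsets of K that are closed in K and W is an open
subset of X containing A ∩ B, then there are open subsets U ⊇ A and V ⊇ B of X with U ∩ V ⊆ W. -/
theorem result {X : Type u} [TopologicalSpace X] {K : Set X} (hK : IsCompact K)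
    (hsep : ∀ x ∈ K, ∀ y ∈ K, x ≠ y → ∃ U V : Set X, IsOpen U ∧ IsOpen V ∧ x ∈ U ∧ y ∈ V ∧ Disjoint U V)
    {A B W : Set X} (hA : A ⊆ K) (hB : B ⊆ K) (hAc : IsClosed (Subtype.val ⁻¹' A : Set K))
    (hBc : IsClosed (Subtype.val ⁻¹' B : Set K)) (hW : IsOpen W) (hABW : A ∩ B ⊆ W) :
    ∃ U V : Set X, IsOpen U ∧ IsOpen V ∧ A ⊆ U ∧ B ⊆ V ∧ U ∩ V ⊆ W := by
  open Topology in
  have hcpt : ∀ {S : Set X}, S ⊆ K → IsClosed (Subtype.val ⁻¹' S : Set K) → IsCompact S := by
    intro S hS hSc
    have : CompactSpace K := isCompact_iff_compactSpace.1 hK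
    have h1 : IsCompact (Subtype.val ⁻¹' S : Set K) := hSc.isCompact
    have h2 : S = Subtype.val '' (Subtype.val ⁻¹' S : Set K) := by
      rw [Subtype.image_preimage_coe]
      exact (Set.inter_eq_right.2 hS).symm
    rw [h2]
    exact h1.image continuous_subtype_val
  have hA' : IsCompact (A \ W) := (hcpt hA hAc).diff hW
  have hB' : IsCompact (B \ W) := (hcpt hB hBc).diff hW
  have hdis : Disjoint (nhdsSet (A \ W)) (nhdsSet (B \ W)) := by
    rw [hA'.disjoint_nhdsSet_left]
    intro a ha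
    rw [hB'.disjoint_nhdsSet_right]
    intro b hb
    have hne : a ≠ b := by
      rintro rfl
      exact ha.2 (hABW ⟨ha.1, hb.1⟩)
    obtain ⟨U, V, hU, hV, haU, hbV, hUV⟩ := hsep a (hA ha.1) b (hB hb.1) hne
    exact Filter.disjoint_of_disjoint_of_mem hUV (hU.mem_nhds haU) (hV.mem_nhds hbV)
  obtain ⟨U', V', hU', hV', hAU, hBV, hUV⟩ := separatedNhds_iff_disjoint.2 hdis
  refine ⟨U' ∪ W, V' ∪ W, hU'.union hW, hV'.union hW, ?_, ?_, ?_⟩
  · intro x hx
    by_cases hxW : x ∈ W
    · exact Or.inr hxW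
    · exact Or.inl (hAU ⟨hx, hxW⟩)
  · intro x hx
    by_cases hxW : x ∈ W
    · exact Or.inr hxW
    · exact Or.inl (hBV ⟨hx, hxW⟩)
  · rintro x ⟨hx1 | hx1, hx2 | hx2⟩
    · exact (Set.disjoint_left.1 hUV hx1 hx2).elim
    · exact hx2
    · exact hx1
    · exact hx1

end Groth.Agent.S3093
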