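import Groth.Statements.S3129
-- import your own Groth.Agent.* helpers here

set_option autoImplicit false
set_option linter.style.haveILetI false
open BigOperators
open SGA4h

namespace Groth.Agent.S3129

section aux
variable {F : Type} [Field F] [Fintype F] [DecidableEq F] {R : Type} [CommRing R] [IsDomain R]

theorem sum_eq_add_sum_units (g : F → R) : ∑ y : F, g y = g 0 + ∑ u : Fˣ, g (u : F) := by
  classical
  rw [← Finset.add_sum_erase Finset.univ g (Finset.mem_univ (0:F))]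
  congr 1
  symm
  refine Finset.sum_bij (fun u _ => (u : F)) ?_ ?_ ?_ ?_
  · intro u _; simp
  · intro a _ b _ h; exact Units.ext h
  · intro b hb
    have hb0 : b ≠ 0 := by simpa using hb
    exact ⟨Units.mk0 b hb0, Finset.mem_univ _, rfl⟩
  · intro u _; rfl

theorem addChar_sum {ι : Type} (s : Finset ι) (Ψ : AddChar F R) (f : ι → F) :
    Ψ (∑ i ∈ s, f i) = ∏ i ∈ s, Ψ (f i) := by
  classical
  induction s using Finset.induction_on with
  | empty => simp
  | insert i s hi ih =>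
    rw [Finset.sum_insert hi, Finset.prod_insert hi, AddChar.map_add_eq_mul, ih]

theorem prod_apply_unit {ι : Type} (s : Finset ι) (φ : ι → MulChar F R) (a : Fˣ) :
    (∏ i ∈ s, φ i) (a : F) = ∏ i ∈ s, φ i (a : F) := by
  classical
  induction s using Finset.induction_on with
  | empty => simp [MulChar.one_apply_coe]
  | insert i s hi ih =>
    rw [Finset.prod_insert hi, Finset.prod_insert hi, MulChar.mul_apply, ih]

theorem sum_units_addChar (Ψ : AddChar F R) (hΨ : Ψ ≠ 1) (w : F) :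
    ∑ t : Fˣ, Ψ ((t : F) * w) = if w = 0 then (Fintype.card F : R) - 1 else -1 := by
  classical
  split_ifs with hw
  · subst hw
    simp only [mul_zero, AddChar.map_zero_eq_one, Finset.sum_const, Finset.card_univ,
      Fintype.card_units, nsmul_eq_mul, mul_one]
    rw [Nat.cast_sub Fintype.card_pos, Nat.cast_one]
  · have h1 : ∑ t : Fˣ, Ψ ((t : F) * w) = ∑ u : Fˣ, Ψ (u : F) := by
      refine Fintype.sum_equiv (Equiv.mulRight (Units.mk0 w hw)) _ _ ?_
      intro t; simp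
    rw [h1]
    have h2 := AddChar.sum_eq_zero_of_ne_one hΨ
    rw [sum_eq_add_sum_units, AddChar.map_zero_eq_one] at h2
    linear_combination h2

theorem prod_gauss {N : ℕ} (φ : Fin (N + 1) → MulChar F R) (hφprod : ∏ i, φ i = 1)
    (hφnt : ∃ i, φ i ≠ 1) (Ψ : AddChar F R) (hΨ : Ψ ≠ 1) :
    ∏ i : Fin (N + 1), (∑ y : F, Ψ y * φ i y) =
      (Fintype.card F : R) *
        ∑ x ∈ (Finset.univ : Finset (Fin N → Fˣ)).filter (fun x => ∑ i, ((x i : Fˣ) : F) = -1),
          ∏ i : Fin N, φ i.succ ((x i : Fˣ) : F) := by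
  classical
  set P : (Fin N → Fˣ) → R := fun x => ∏ i : Fin N, φ i.succ ((x i : Fˣ) : F) with hP
  have hG : ∀ i, (∑ y : F, Ψ y * φ i y) = ∑ u : Fˣ, Ψ (u : F) * φ i (u : F) := fun i => by
    rw [sum_eq_add_sum_units, MulChar.map_zero, mul_zero, zero_add]
  simp only [hG]
  rw [Fin.prod_univ_succ, Fintype.prod_sum, Finset.sum_mul_sum]
  have hsub : ∀ t : Fˣ, ∑ z : Fin N → Fˣ, (Ψ (t : F) * φ 0 (t : F)) *
        ∏ i, (Ψ ((z i : Fˣ) : F) * φ i.succ ((z i : Fˣ) : F))
      = ∑ x : Fin N → Fˣ, Ψ ((t : F) * (1 + ∑ i, ((x i : Fˣ) : F))) * P x := by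
    intro t
    refine (Fintype.sum_equiv (Equiv.piCongrRight fun _ : Fin N => Equiv.mulLeft t) _ _ ?_).symm
    intro x
    show _ = Ψ (t : F) * φ 0 (t : F) *
      ∏ i, (Ψ ((t * x i : Fˣ) : F) * φ i.succ ((t * x i : Fˣ) : F))
    have e1 : ∏ i : Fin N, Ψ (((t * x i : Fˣ)) : F) = Ψ ((t : F) * ∑ i, ((x i : Fˣ) : F)) := by
      rw [Finset.mul_sum, addChar_sum]
      simp [Units.val_mul]
    have e2 : ∏ i : Fin N, φ i.succ (((t * x i : Fˣ)) : F) =
        (∏ i : Fin N, φ i.succ (t : F)) * P x := by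
      rw [hP, ← Finset.prod_mul_distrib]
      refine Finset.prod_congr rfl fun i _ => ?_
      rw [Units.val_mul, map_mul]
    have e3 : φ 0 (t : F) * ∏ i : Fin N, φ i.succ (t : F) = 1 := by
      rw [← Fin.prod_univ_succ (fun i => φ i (t : F)), ← prod_apply_unit, hφprod,
        MulChar.one_apply_coe]
    have e4 : Ψ ((t : F) * (1 + ∑ i, ((x i : Fˣ) : F))) =
        Ψ (t : F) * Ψ ((t : F) * ∑ i, ((x i : Fˣ) : F)) := by
      rw [mul_add, mul_one, AddChar.map_add_eq_mul]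
    rw [Finset.prod_mul_distrib, e1, e2, e4]
    linear_combination (-(Ψ (t : F) * Ψ ((t : F) * ∑ i, ((x i : Fˣ) : F)) * P x)) * e3
  rw [Finset.sum_congr rfl fun t _ => hsub t, Finset.sum_comm]
  have hx : ∀ x : Fin N → Fˣ, ∑ t : Fˣ, Ψ ((t : F) * (1 + ∑ i, ((x i : Fˣ) : F))) * P x =
      (Fintype.card F : R) * (if ∑ i, ((x i : Fˣ) : F) = -1 then P x else 0) - P x := by
    intro x
    rw [← Finset.sum_mul, sum_units_addChar Ψ hΨ]
    by_cases h : ∑ i, ((x i : Fˣ) : F) = -1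
    · have h' : (1 : F) + ∑ i, ((x i : Fˣ) : F) = 0 := by rw [h]; ring
      rw [if_pos h', if_pos h]; ring
    · have h' : (1 : F) + ∑ i, ((x i : Fˣ) : F) ≠ 0 := fun h'' => h (by linear_combination h'')
      rw [if_neg h', if_neg h]; ring
  rw [Finset.sum_congr rfl fun x _ => hx x, Finset.sum_sub_distrib, ← Finset.mul_sum,
    ← Finset.sum_filter]
  have hall : ∑ x : Fin N → Fˣ, P x = 0 := by
    rw [hP, ← Fintype.prod_sum (fun (i : Fin N) (u : Fˣ) => φ i.succ (u : F))]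
    have : ∃ i : Fin N, φ i.succ ≠ 1 := by
      by_contra hcon
      push_neg at hcon
      have h0 : φ 0 = 1 := by
        rw [Fin.prod_univ_succ, Finset.prod_congr rfl fun i _ => hcon i, Finset.prod_const_one,
          mul_one] at hφprod
        exact hφprod
      obtain ⟨i, hi⟩ := hφnt
      refine hi ?_
      induction i using Fin.cases with
      | zero => exact h0
      | succ j => exact hcon j
    obtain ⟨i, hi⟩ := this
    refine Finset.prod_eq_zero (Finset.mem_univ i) ?_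
    have h2 := MulChar.sum_eq_zero_of_ne_one hi
    rw [sum_eq_add_sum_units, MulChar.map_zero, zero_add] at h2
    exact h2
  rw [hall, sub_zero]

end aux

/-- Let F be a finite field with q elements, N ≥ 1, χ₀, …, χ_N multiplicative characters of F with
values in a domain, not all trivial and with product 1, and Ψ a nontrivial additive character of F.
Put τ(χ, Ψ) = −Σ_{x ∈ F} Ψ(x) χ⁻¹(x) and J(χ) = (−1)^{N−1} Σ χ₁⁻¹(x₁) ⋯ χ_N⁻¹(x_N), the sum over x₁,
…, x_N ∈ F^* with x₁ + ⋯ + x_N = −1. Then q · J(χ) = τ(χ₀, Ψ) ⋯ τ(χ_N, Ψ). -/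
theorem result (F : Type) [Field F] [Fintype F] [DecidableEq F] (R : Type) [CommRing R] [IsDomain R]
    (N : ℕ) (hN : 1 ≤ N) (χ : Fin (N + 1) → MulChar F R) (hprod : ∏ i, χ i = 1) (hnt : ∃ i, χ i ≠ 1)
    (Ψ : AddChar F R) (hΨ : Ψ ≠ 1) :
    (Fintype.card F : R) * ((-1) ^ (N - 1) *
        ∑ x ∈ (Finset.univ : Finset (Fin N → Fˣ)).filter (fun x => ∑ i, ((x i : Fˣ) : F) = -1),
          ∏ i : Fin N, (χ i.succ)⁻¹ ((x i : Fˣ) : F)) =
      ∏ i : Fin (N + 1), (-(∑ y : F, Ψ y * (χ i)⁻¹ y)) := by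
  classical
  have hφprod : ∏ i, (fun i => (χ i)⁻¹) i = 1 := by
    rw [Finset.prod_inv_distrib, hprod, inv_one]
  have hφnt : ∃ i, (fun i => (χ i)⁻¹) i ≠ 1 := by
    obtain ⟨i, hi⟩ := hnt
    exact ⟨i, fun h => hi (inv_eq_one.mp h)⟩
  have key := prod_gauss (fun i => (χ i)⁻¹) hφprod hφnt Ψ hΨ
  rw [Finset.prod_neg, key, Finset.card_univ, Fintype.card_fin]
  have hpow : ((-1 : R)) ^ (N + 1) = (-1) ^ (N - 1) := by
    obtain ⟨k, rfl⟩ : ∃ k, N = k + 1 := ⟨N - 1, by omega⟩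
    simp [pow_succ]
  rw [hpow]
  ring

end Groth.Agent.S3129
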