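import Groth.Statements.S3133
import Mathlib

set_option autoImplicit false
open Polynomial
open SGA4h

namespace Groth.Agent.S3133


namespace S3133aux
open Polynomial Matrix

variable {R : Type*} [CommRing R] {m : Type*} [Fintype m] [DecidableEq m]

variable (R m) in
/-- the shift matrix -/
noncomputable def Sh (k : ℕ) : Matrix (Fin (k+1) × m) (Fin (k+1) × m) R[X] :=
  Matrix.of fun p q => if p.1.val = q.1.val + 1 ∧ p.2 = q.2 then 1 else 0

theorem mul_Sh (k : ℕ) (L : Matrix (Fin (k+1) × m) (Fin (k+1) × m) R[X])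
    (p q : Fin (k+1) × m) :
    (L * Sh R m k) p q = if h : q.1.val + 1 < k + 1 then L p (⟨q.1.val + 1, h⟩, q.2) else 0 := by
  rw [Matrix.mul_apply]
  split_ifs with h
  · rw [Finset.sum_eq_single (⟨q.1.val + 1, h⟩, q.2)]
    · simp [Sh]
    · intro r _ hr
      have : ¬ (r.1.val = q.1.val + 1 ∧ r.2 = q.2) := by
        rintro ⟨h1, h2⟩
        apply hr
        exact Prod.ext (Fin.ext h1) h2
      simp [Sh, this]
    · intro h'; exact absurd (Finset.mem_univ _) h'
  · apply Finset.sum_eq_zero
    intro r _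
    have : ¬ (r.1.val = q.1.val + 1 ∧ r.2 = q.2) := by
      rintro ⟨h1, -⟩
      have := r.1.2
      omega
    simp [Sh, this]

/-- first block row -/
noncomputable def E (k : ℕ) (A : Matrix m m R) : Matrix (Fin (k+1) × m) (Fin (k+1) × m) R[X] :=
  Matrix.of fun p q => if p.1.val = 0 then X^(k + 1 - q.1.val) * C (A p.2 q.2) else 0

/-- the block cyclic matrix -/
def Bm (k : ℕ) (A : Matrix m m R) : Matrix (Fin (k+1) × m) (Fin (k+1) × m) R :=
  Matrix.of fun p q => if p.1.val = 0 then (if q.1.val = k + 1 - 1 then A p.2 q.2 else 0)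
        else (if q.1.val + 1 = p.1.val ∧ p.2 = q.2 then 1 else 0)

theorem factor (k : ℕ) (A : Matrix m m R) :
    (1 - (X : R[X]) • (Bm k A).map C) = (1 - E k A) * (1 - (X : R[X]) • Sh R m k) := by
  have key : (X : R[X]) • (Bm k A).map C
      = E k A + (X : R[X]) • Sh R m k - (X : R[X]) • (E k A * Sh R m k) := by
    refine Matrix.ext fun p q => ?_
    simp only [Matrix.smul_apply, Matrix.map_apply, Matrix.add_apply, Matrix.sub_apply,
      smul_eq_mul, mul_Sh]
    by_cases hp : p.1.val = 0
    · have hp' : p.1 = 0 := Fin.ext hp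
      have hpq : ¬ (p.1.val = q.1.val + 1 ∧ p.2 = q.2) := by rintro ⟨h, -⟩; omega
      by_cases hq : q.1.val = k
      · have h : ¬ (q.1.val + 1 < k + 1) := by omega
        simp [Bm, E, Sh, hp, hp', hq, h]
        try ring
      · have h : q.1.val + 1 < k + 1 := by have := q.1.2; omega
        have e1 : k + 1 - q.1.val = (k + 1 - (q.1.val + 1)) + 1 := by omega
        have hq' : ¬ k = q.1.val := fun h => hq h.symm
        simp [Bm, E, Sh, hp, hp', hq, hq', h, hpq]
        have e2 : 1 + k - (1 + q.1.val) = k - q.1.val := by omega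
        have e3 : k + 1 - q.1.val = (k - q.1.val) + 1 := by omega
        first | (rw [e3, pow_succ]; ring) | (rw [e2]; ring)
    · have hp' : ¬ p.1 = 0 := fun h => hp (by rw [h]; rfl)
      simp [Bm, E, Sh, hp, hp', eq_comm]
  rw [key, sub_mul, one_mul, mul_sub, mul_one, Matrix.mul_smul]
  abel

theorem det_W (k : ℕ) :
    (1 - (X : R[X]) • Sh R m k).det = 1 := by
  rw [← Matrix.det_transpose]
  have hT : ((1 - (X : R[X]) • Sh R m k)ᵀ).BlockTriangular
      (fun p : Fin (k+1) × m => p.1) := by
    intro p q hpq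
    have h1 : q ≠ p := by rintro rfl; exact lt_irrefl _ hpq
    have h2 : ¬ (q.1.val = p.1.val + 1 ∧ q.2 = p.2) := by
      rintro ⟨h, -⟩
      have : q.1.val < p.1.val := hpq
      omega
    simp [Matrix.one_apply, Sh, h1, h2]
  rw [hT.det_fintype]
  apply Finset.prod_eq_one
  intro j _
  have : ((1 - (X : R[X]) • Sh R m k)ᵀ).toSquareBlock
      (fun p : Fin (k+1) × m => p.1) j = 1 := by
    refine Matrix.ext fun r s => ?_
    obtain ⟨r, hr⟩ := r
    obtain ⟨s, hs⟩ := s
    have h2 : ¬ (s.1.val = r.1.val + 1 ∧ s.2 = r.2) := by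
      rintro ⟨h, -⟩
      rw [hr, hs] at h
      omega
    have h3 : ¬ (s.1.val = r.1.val + 1 ∧ r.2 = s.2) := fun h => h2 ⟨h.1, h.2.symm⟩
    simp [Matrix.toSquareBlock_def, Matrix.one_apply, Sh, h2, h3, Subtype.ext_iff, eq_comm]
  rw [this, Matrix.det_one]

theorem det_L (k : ℕ) (A : Matrix m m R) :
    (1 - E k A).det = (1 - (X : R[X])^(k+1) • A.map C).det := by
  have hT : (1 - E k A).BlockTriangular (fun p : Fin (k+1) × m => p.1) := by
    intro p q hpq
    have h1 : p ≠ q := by rintro rfl; exact lt_irrefl _ hpq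
    have h2 : p.1.val ≠ 0 := by
      have : q.1.val < p.1.val := hpq
      omega
    have h2' : ¬ p.1 = 0 := fun h => h2 (by rw [h]; rfl)
    simp [E, Matrix.one_apply, h1, h2, h2']
  rw [hT.det_fintype, Fintype.prod_eq_single (0 : Fin (k+1))]
  · let e : m ≃ {p : Fin (k+1) × m // p.1 = 0} :=
      ⟨fun a => ⟨(0, a), rfl⟩, fun p => p.1.2, fun a => rfl, fun p => by
        obtain ⟨⟨i, a⟩, h⟩ := p
        simp only at h
        subst h
        rfl⟩
    rw [← Matrix.det_submatrix_equiv_self e]
    congr 1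
    refine Matrix.ext fun a b => ?_
    simp [Matrix.toSquareBlock_def, E, e, Matrix.one_apply]
  · intro j hj
    have : (1 - E k A).toSquareBlock (fun p : Fin (k+1) × m => p.1) j = 1 := by
      refine Matrix.ext fun r s => ?_
      obtain ⟨r, hr⟩ := r
      obtain ⟨s, hs⟩ := s
      have h2 : r.1.val ≠ 0 := by
        rw [hr]
        intro h
        apply hj
        exact Fin.ext h
      have h2' : ¬ r.1 = 0 := fun h => h2 (by rw [h]; rfl)
      simp [Matrix.toSquareBlock_def, E, Matrix.one_apply, h2, h2', Subtype.ext_iff]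
    rw [this, Matrix.det_one]

theorem main (A : Matrix m m R) (n : ℕ) (hn : 1 ≤ n) :
    (Matrix.of fun (p q : Fin n × m) =>
        if p.1.val = 0 then (if q.1.val = n - 1 then A p.2 q.2 else 0)
        else (if q.1.val + 1 = p.1.val ∧ p.2 = q.2 then 1 else 0)).charpolyRev =
      Polynomial.expand R n A.charpolyRev := by
  obtain ⟨k, rfl⟩ : ∃ k, n = k + 1 := ⟨n - 1, by omega⟩
  have hB : (Matrix.of fun (p q : Fin (k+1) × m) =>
        if p.1.val = 0 then (if q.1.val = k + 1 - 1 then A p.2 q.2 else 0)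
        else (if q.1.val + 1 = p.1.val ∧ p.2 = q.2 then 1 else 0)) = Bm k A := rfl
  rw [hB, Matrix.charpolyRev, factor, Matrix.det_mul, det_W, mul_one, det_L, Matrix.charpolyRev,
    AlgHom.map_det]
  congr 1
  refine Matrix.ext fun a b => ?_
  simp only [AlgHom.mapMatrix_apply, Matrix.map_apply, Matrix.sub_apply, Matrix.one_apply,
    Matrix.smul_apply, smul_eq_mul, map_sub, map_mul, expand_X, expand_C]
  split_ifs <;> simp

end S3133aux

/-- Let A be a square matrix over a commutative ring and n ≥ 1, and let B be the matrix on n blocks of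
the endomorphism (x_1, …, x_n) ↦ (A x_n, x_1, …, x_{n-1}). Then det(1 − B·T) = det(1 − A·Tⁿ), i.e.
the reverse characteristic polynomial of B is that of A expanded by n. -/
theorem result (R : Type) [CommRing R] (m : Type) [Fintype m] [DecidableEq m]
    (A : Matrix m m R) (n : ℕ) (hn : 1 ≤ n) :
    (Matrix.of fun (p q : Fin n × m) =>
        if p.1.val = 0 then (if q.1.val = n - 1 then A p.2 q.2 else 0)
        else (if q.1.val + 1 = p.1.val ∧ p.2 = q.2 then 1 else 0)).charpolyRev =
      Polynomial.expand R n A.charpolyRev := by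
  exact S3133aux.main A n hn

end Groth.Agent.S3133
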