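import Groth.Statements.S3134
import Mathlib

set_option autoImplicit false
open Polynomial
open SGA4h

namespace Groth.Agent.S3134


namespace S3134aux
open Polynomial Matrix

variable {R : Type*} [CommRing R] {m : Type*} [Fintype m] [DecidableEq m]

theorem derivative_det (N : Matrix m m R[X]) :
    derivative N.det = ∑ j, (N.updateCol j (fun i => derivative (N i j))).det := by
  rw [Matrix.det_apply', derivative_sum]
  simp_rw [Matrix.det_apply']
  rw [Finset.sum_comm]
  refine Finset.sum_congr rfl fun σ _ => ?_
  rw [derivative_intCast_mul, derivative_prod_finset, Finset.mul_sum]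
  refine Finset.sum_congr rfl fun j _ => ?_
  congr 1
  rw [← Finset.prod_erase_mul _ _ (Finset.mem_univ j)]
  congr 1
  · refine Finset.prod_congr rfl fun i hi => ?_
    rw [Matrix.updateCol_ne (Finset.ne_of_mem_erase hi)]
  · rw [Matrix.updateCol_self]

theorem derivative_det' (N : Matrix m m R[X]) :
    derivative N.det = ∑ j, ∑ i, N.adjugate j i * derivative (N i j) := by
  rw [derivative_det]
  refine Finset.sum_congr rfl fun j _ => ?_
  rw [← Matrix.cramer_apply, Matrix.cramer_eq_adjugate_mulVec, Matrix.mulVec, dotProduct]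

/-- the matrix of geometric series -/
noncomputable def G (A : Matrix m m R) : Matrix m m (PowerSeries R) :=
  Matrix.of fun i j => PowerSeries.mk fun n => (A ^ n) i j

theorem N_mul_G (A : Matrix m m R) :
    (1 - (PowerSeries.X : PowerSeries R) • A.map (PowerSeries.C)) * G A = 1 := by
  rw [sub_mul, one_mul, Matrix.smul_mul]
  ext i j n
  rw [Matrix.sub_apply, Matrix.smul_apply, smul_eq_mul, map_sub]
  have hAG : ∀ k, PowerSeries.coeff k ((A.map (PowerSeries.C) * G A) i j) = (A ^ (k+1)) i j := by
    intro k
    rw [Matrix.mul_apply, map_sum, pow_succ', Matrix.mul_apply]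
    refine Finset.sum_congr rfl fun l _ => ?_
    simp [G, PowerSeries.coeff_C_mul]
  cases n with
  | zero =>
    simp [G, Matrix.one_apply]
    try (split_ifs <;> simp)
  | succ k =>
    rw [PowerSeries.coeff_succ_X_mul, hAG k]
    simp [G, Matrix.one_apply]
    try (split_ifs <;> simp)

theorem main (A : Matrix m m R) :
    ((-(X * Polynomial.derivative A.charpolyRev) : R[X]) : PowerSeries R) =
      (A.charpolyRev : PowerSeries R) *
        PowerSeries.mk (fun n => if n = 0 then 0 else (A ^ n).trace) := by
  classical
  set N : Matrix m m R[X] := 1 - (X : R[X]) • A.map C with hN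
  have hP : A.charpolyRev = N.det := rfl
  set φ : R[X] →+* PowerSeries R := Polynomial.coeToPowerSeries.ringHom with hφ
  have hφa : ∀ p : R[X], (p : PowerSeries R) = φ p := fun p => rfl
  -- derivative of entries
  have hN' : ∀ i j, derivative (N i j) = - C (A i j) := by
    intro i j
    simp only [hN, Matrix.sub_apply, Matrix.smul_apply, Matrix.map_apply, smul_eq_mul,
      Matrix.one_apply]
    split_ifs <;> simp
  have hder : derivative N.det = - ∑ j, ∑ i, N.adjugate j i * C (A i j) := by
    rw [derivative_det']
    simp_rw [hN', mul_neg, Finset.sum_neg_distrib]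
  -- the mapped matrix
  have hNhat : φ.mapMatrix N = 1 - (PowerSeries.X : PowerSeries R) • A.map (PowerSeries.C) := by
    ext i j
    simp only [RingHom.mapMatrix_apply, Matrix.map_apply, hN, Matrix.sub_apply, Matrix.smul_apply,
      smul_eq_mul, Matrix.one_apply, map_sub, map_mul]
    congr 1
    · split_ifs <;> simp
    · simp [hφ]
  have hadj : φ.mapMatrix N.adjugate = φ N.det • G A := by
    rw [RingHom.map_adjugate, RingHom.map_det]
    calc (φ.mapMatrix N).adjugate
        = (φ.mapMatrix N).adjugate * (φ.mapMatrix N * G A) := by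
          rw [hNhat, N_mul_G, mul_one]
      _ = ((φ.mapMatrix N).adjugate * φ.mapMatrix N) * G A := by rw [mul_assoc]
      _ = (φ.mapMatrix N).det • G A := by
          rw [Matrix.adjugate_mul, Matrix.smul_mul, one_mul]
  have hadj' : ∀ i j, φ (N.adjugate i j) = φ N.det * G A i j := by
    intro i j
    have := congrFun (congrFun hadj i) j
    simpa [RingHom.mapMatrix_apply, Matrix.map_apply, Matrix.smul_apply] using this
  rw [hφa, hφa, hP, map_neg, map_mul, hder, map_neg, map_sum]
  simp_rw [map_sum, map_mul, hadj', mul_assoc, ← Finset.mul_sum]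
  rw [mul_neg, neg_neg, mul_left_comm]
  congr 1
  ext n
  cases n with
  | zero =>
    simp [hφ]
  | succ k =>
    have hX : φ X = PowerSeries.X := by simp [hφ]
    have hC : ∀ a : R, φ (C a) = PowerSeries.C a := fun a => by simp [hφ]
    rw [hX, PowerSeries.coeff_succ_X_mul, map_sum]
    simp only [map_sum, hC, PowerSeries.coeff_mk, Nat.succ_ne_zero, if_false]
    rw [pow_succ, Matrix.trace]
    simp only [Matrix.diag_apply, Matrix.mul_apply]
    refine Finset.sum_congr rfl fun j _ => Finset.sum_congr rfl fun i _ => ?_
    simp [G, PowerSeries.coeff_mul_C]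

end S3134aux

/-- For a square matrix A over a commutative ring, with P(T) = det(1 − A·T), one has −T·P′(T) = P(T) ·
Σ_{n ≥ 1} Tr(Aⁿ) Tⁿ as formal power series (equivalently T d/dT log P(T)⁻¹ = Σ_{n≥1} Tr(Aⁿ) Tⁿ). -/
theorem result (R : Type) [CommRing R] (m : Type) [Fintype m] [DecidableEq m]
    (A : Matrix m m R) :
    ((-(X * Polynomial.derivative A.charpolyRev) : R[X]) : PowerSeries R) =
      (A.charpolyRev : PowerSeries R) * PowerSeries.mk (fun n => if n = 0 then 0 else (A ^ n).trace) := by
  exact S3134aux.main A

end Groth.Agent.S3134
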