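import Groth.Statements.S5189
import Groth.Agent.Lib.Helper15.DerivedLES
import Groth.Agent.Lib.Helper15.ClosedStalk
import Groth.Agent.Lib.Helper13.FlatPullback
import Groth.Agent.Lib.Helper13.EdgeOutIso
import Groth.Agent.Lib.Helper2.RDBridge

set_option autoImplicit false
universe u
open CategoryTheory CategoryTheory.Limits AlgebraicGeometry Opposite
open EtDepth

namespace Groth.Agent.S5189


open Groth.Agent.Lib.Helper15 Groth.Agent.Lib.Helper13 Groth.Agent.Lib.Helper13.StalkConservative
open Groth.Agent.Lib.Helper2.RDBridge Groth.Agent.Lib.Helper13.EdgeOutIso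

set_option backward.isDefEq.respectTransparency.types false

section aux

/-- For an etale monomorphism `j`, the counit `j_! j^{-1} F ⟶ F` is a monomorphism. -/
lemma mono_counit_extZero {U X : Scheme.{u}} (j : U ⟶ X) [Etale j] [Mono j] (F : EtCoh.Ab X) :
    Mono ((EtShriek.extZeroAdj j).counit.app F) := by
  rw [StalkConservative.mono_iff_stalks]
  intro p
  by_cases h : ∃ v : Spec (CommRingCat.of p.Ω) ⟶ U, v ≫ j = p.ξ
  · obtain ⟨v, hv⟩ := h
    haveI := ClosedStalk.isIso_stalk_counit j F p.ξ v hv
    exact (ConcreteCategory.bijective_of_isIso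
      ((EtCoh.stalk p.ξ).map ((EtShriek.extZeroAdj j).counit.app F))).1
  · have hz := StalkPull.isZero_stalk_extZero j p.ξ ⟨fun ⟨v, hv⟩ => h ⟨v, hv⟩⟩
      ((EtShriek.restrAlong j).obj F)
    exact fun a b _ => (AddCommGrpCat.subsingleton_of_isZero hz).elim a b

/-- For an open immersion `j` and an injective sheaf `I`, the unit `I ⟶ j_* j^{-1} I` is a split
epimorphism. -/
lemma exists_section_unit_of_injective {U X : Scheme.{u}} (j : U ⟶ X) [IsOpenImmersion j]
    (I : EtCoh.Ab X) [Injective I] :
    ∃ s : (EtCoh.push j).obj ((EtCoh.pull j).obj I) ⟶ I,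
      s ≫ (EtCoh.pullPushAdj j).unit.app I = 𝟙 _ := by
  have key : ∀ (F : EtCoh.Ab X) (g : F ⟶ (EtCoh.push j).obj ((EtCoh.pull j).obj I)),
      ∃ f : F ⟶ I, f ≫ (EtCoh.pullPushAdj j).unit.app I = g := by
    intro F g
    haveI := mono_counit_extZero j F
    obtain ⟨f, hf⟩ : ∃ f : F ⟶ I, (EtShriek.extZeroAdj j).counit.app F ≫ f =
        ((EtShriek.extZeroAdj j).homEquiv _ _).symm
          ((EtaleRestr.pullIsoRestr j).inv.app F ≫
            ((EtCoh.pullPushAdj j).homEquiv _ _).symm g ≫
              (EtaleRestr.pullIsoRestr j).hom.app I) :=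
      Injective.factors _ ((EtShriek.extZeroAdj j).counit.app F)
    refine ⟨f, ?_⟩
    apply ((EtCoh.pullPushAdj j).homEquiv _ _).symm.injective
    have h1 : ((EtCoh.pullPushAdj j).homEquiv _ _).symm (f ≫ (EtCoh.pullPushAdj j).unit.app I) =
        (EtCoh.pull j).map f := by
      rw [Adjunction.homEquiv_counit, Functor.map_comp, Category.assoc,
        Adjunction.left_triangle_components, Category.comp_id]
    rw [h1]
    have h2 := congrArg ((EtShriek.extZeroAdj j).homEquiv _ _) hf
    rw [Equiv.apply_symm_apply] at h2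
    have h3 : (EtShriek.extZeroAdj j).homEquiv _ _ ((EtShriek.extZeroAdj j).counit.app F ≫ f) =
        (EtShriek.restrAlong j).map f := by
      rw [Adjunction.homEquiv_unit, Functor.map_comp, ← Category.assoc,
        Adjunction.right_triangle_components, Category.id_comp]
    rw [h3] at h2
    have h4 := (EtaleRestr.pullIsoRestr j).hom.naturality f
    rw [h2, Iso.hom_inv_id_app_assoc] at h4
    exact (cancel_mono ((EtaleRestr.pullIsoRestr j).hom.app I)).1 h4
  exact key _ (𝟙 _)

/-- `Γ_Y` of an injective sheaf is injective (open immersion `j`). -/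
lemma injective_secSupp {U X : Scheme.{u}} (j : U ⟶ X) [IsOpenImmersion j]
    (I : EtCoh.Ab X) [Injective I] : Injective ((EtDual.secSupp j).obj I) := by
  obtain ⟨s, hs⟩ := exists_section_unit_of_injective j I
  let ι : kernel (EtDual.unitApp j I) ⟶ I := kernel.ι _
  let e : I ⟶ I := 𝟙 I - EtDual.unitApp j I ≫ s
  have he : e ≫ EtDual.unitApp j I = 0 := by
    change (𝟙 I - EtDual.unitApp j I ≫ s) ≫ EtDual.unitApp j I = 0
    rw [Preadditive.sub_comp, Category.id_comp, Category.assoc]
    erw [hs]
    rw [Category.comp_id, sub_self]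
  let r : I ⟶ kernel (EtDual.unitApp j I) := kernel.lift _ e he
  have hr : ι ≫ r = 𝟙 _ := by
    rw [← cancel_mono ι, Category.assoc]
    change ι ≫ kernel.lift _ e he ≫ kernel.ι _ = _
    rw [kernel.lift_ι, Category.id_comp]
    change ι ≫ (𝟙 I - EtDual.unitApp j I ≫ s) = ι
    rw [Preadditive.comp_sub, Category.comp_id, ← Category.assoc]
    change ι - (kernel.ι (EtDual.unitApp j I) ≫ EtDual.unitApp j I) ≫ s = ι
    rw [kernel.condition, zero_comp, sub_zero]
  constructor
  intro A B f m hm
  refine ⟨Injective.factorThru (f ≫ ι) m ≫ r, ?_⟩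
  rw [← Category.assoc, Injective.comp_factorThru, Category.assoc, hr, Category.comp_id]

end aux

section Nat

variable {B : Type*} [Category B] [Abelian B] (K : CochainComplex B ℕ)
  [EnoughInjectives B] {C : Type*} [Category C] [Abelian C] (Ψ : B ⥤ C) [Ψ.Additive]

theorem racyc_cycles_bd_lt (N : ℕ) (hK : ∀ n, RAcyc Ψ (K.X n))
    (hH : ∀ n, n < N → RAcyc Ψ (K.homology n)) :
    ∀ n, n ≤ N → RAcyc Ψ (kernel (K.homologyπ n)) ∧ (n < N → RAcyc Ψ (K.cycles n)) := by
  intro n
  induction n with
  | zero =>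
    intro _
    constructor
    · apply racyc_of_isZero
      haveI : IsIso (K.homologyπ 0) := K.isIso_homologyπ _ 0 rfl (by simp)
      exact isZero_kernel_of_mono _
    · intro h0
      exact racyc_of_iso Ψ K.isoHomologyπ₀.symm (hH 0 h0)
  | succ n ih =>
    intro hn
    have ih' := ih (by omega)
    have hb : RAcyc Ψ (kernel (K.homologyπ (n + 1))) :=
      racyc_X₃ Ψ (sa K n) (sa_shortExact K n) (ih'.2 (by omega)) (hK n)
    exact ⟨hb, fun h1 =>
      racyc_X₂ Ψ (sb K (n + 1)) (sb_shortExact K (n + 1)) hb (hH (n + 1) h1)⟩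

variable [PreservesFiniteLimits Ψ]

theorem isIso_homologyComparison_of_racyc_lt (n : ℕ) (hK : ∀ n, RAcyc Ψ (K.X n))
    (hH : ∀ p, p < n → RAcyc Ψ (K.homology p)) : IsIso (RDer.homologyComparison Ψ K n) := by
  have hcb := racyc_cycles_bd_lt K Ψ n hK hH
  have h1 : ((sb K n).map Ψ).ShortExact :=
    shortExact_map_of_isZero Ψ (sb K n) (sb_shortExact K n) ((hcb n le_rfl).1 1 Nat.one_pos)
  have hepi : Epi (Ψ.map (K.homologyπ n)) := h1.epi_g
  cases n with
  | zero =>
    have hz : K.toCycles 0 0 = 0 := K.toCycles_eq_zero (by simp)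
    have w : Ψ.map (K.toCycles 0 0) ≫ Ψ.map (K.homologyπ 0) = 0 := by
      rw [hz, Ψ.map_zero, zero_comp]
    refine isIso_homologyComparison Ψ K 0 0 CochainComplex.prev_nat_zero w ?_ hepi
    haveI : IsIso (K.homologyπ 0) := K.isIso_homologyπ _ 0 rfl (by simp)
    rw [ShortComplex.exact_iff_mono _ (by change Ψ.map (K.toCycles 0 0) = 0; rw [hz, Ψ.map_zero])]
    exact (inferInstance : Mono (Ψ.map (K.homologyπ 0)))
  | succ m =>
    have w : Ψ.map (K.toCycles m (m + 1)) ≫ Ψ.map (K.homologyπ (m + 1)) = 0 := by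
      rw [← Ψ.map_comp, K.toCycles_comp_homologyπ, Ψ.map_zero]
    refine isIso_homologyComparison Ψ K (m + 1) m (CochainComplex.prev_nat_succ m) w ?_ hepi
    have h2 : ((sa K m).map Ψ).ShortExact :=
      shortExact_map_of_isZero Ψ (sa K m) (sa_shortExact K m)
        (((hcb m (by omega)).2 (by omega)) 1 Nat.one_pos)
    let φ : ShortComplex.mk (Ψ.map (K.toCycles m (m + 1))) (Ψ.map (K.homologyπ (m + 1))) w ⟶
        (sb K (m + 1)).map Ψ :=
      { τ₁ := Ψ.map (e K m)
        τ₂ := 𝟙 _
        τ₃ := 𝟙 _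
        comm₁₂ := by
          change Ψ.map (e K m) ≫ Ψ.map (kernel.ι (K.homologyπ (m + 1))) =
            Ψ.map (K.toCycles m (m + 1)) ≫ 𝟙 _
          rw [Category.comp_id, ← Ψ.map_comp, e_ι]
        comm₂₃ := by
          change 𝟙 _ ≫ Ψ.map (K.homologyπ (m + 1)) = Ψ.map (K.homologyπ (m + 1)) ≫ 𝟙 _
          rw [Category.comp_id, Category.id_comp] }
    haveI : Epi φ.τ₁ := h2.epi_g
    haveI : IsIso φ.τ₂ := (inferInstance : IsIso (𝟙 _))
    haveI : Mono φ.τ₃ := (inferInstance : Mono (𝟙 _))
    exact (ShortComplex.exact_iff_of_epi_of_isIso_of_mono φ).2 h1.exact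

end Nat

/-- For an abelian sheaf. Let X be a scheme, j : U → X an open immersion with closed complement Y, F an
abelian sheaf on the small étale site of X and n ≥ 0, and suppose the Y-étale depth of F is ≥ n (the
local cohomology sheaves H^p_Y(F) vanish for p < n). Then the edge homomorphism H^n_Y(X, F) → H^0(X,
H^n_Y(F)) of the spectral sequence of the composite functor Γ(X, −) ∘ Γ_Y, from the n-th local
cohomology group to the group of global sections of the n-th local cohomology sheaf, is an
isomorphism. -/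
theorem result {X U : Scheme.{u}} (j : U ⟶ X) [IsOpenImmersion j] [EtCoh.BCCont j] (F : EtCoh.Ab X) (n : ℕ) (h : EtDepth.DepthGE j F n) : IsIso (RDer.edgeOut (EtDual.secSupp j) (sheafToPresheaf X.smallEtaleTopology AddCommGrpCat.{u+1} ⋙ (evaluation X.Etaleᵒᵖ AddCommGrpCat.{u+1}).obj (op (EtCoh.top X))) n F) := by
  unfold RDer.edgeOut
  have key : IsIso (RDer.homologyComparison
      (sheafToPresheaf X.smallEtaleTopology AddCommGrpCat.{u+1} ⋙
        (evaluation X.Etaleᵒᵖ AddCommGrpCat.{u+1}).obj (op (EtCoh.top X)))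
      (((EtDual.secSupp j).mapHomologicalComplex _).obj (injectiveResolution F).cocomplex) n) := by
    apply isIso_homologyComparison_of_racyc_lt
    · intro p
      haveI : Injective ((injectiveResolution F).cocomplex.X p) := (injectiveResolution F).injective p
      haveI : Injective ((((EtDual.secSupp j).mapHomologicalComplex _).obj
          (injectiveResolution F).cocomplex).X p) :=
        injective_secSupp j ((injectiveResolution F).cocomplex.X p)
      exact racyc_of_injective _ _
    · intro p hp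
      apply racyc_of_isZero
      exact IsZero.of_iso (h p hp) ((injectiveResolution F).isoRightDerivedObj (EtDual.secSupp j) p).symm
  haveI := key
  refine IsIso.comp_isIso' inferInstance (IsIso.comp_isIso' key ?_)
  exact Functor.map_isIso _ _

end Groth.Agent.S5189
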