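import Groth.Statements.S3364
import Groth.Agent.Lib.Helper5.HomQGamma
import Groth.Agent.Lib.Helper5.EtaleLocSupp
import Groth.Agent.Lib.Helper5.FilteredUnion
import Groth.Agent.S5189

set_option autoImplicit false
universe u
open CategoryTheory CategoryTheory.Limits AlgebraicGeometry Opposite
open EtDepth

namespace Groth.Agent.S3364


open Groth.Agent.Lib.Helper5.HomQGamma Groth.Agent.Lib.Helper5.DepthHpull
open Groth.Agent.Lib.Helper5.EtaleLocSupp Groth.Agent.Lib.Helper13

set_option backward.isDefEq.respectTransparency.types false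

section aux

variable {X U : Scheme.{u}} (j : U ⟶ X) [IsOpenImmersion j] (F : EtCoh.Ab X)

/-- the global sections functor. -/
noncomputable abbrev Γ₀ (X : Scheme.{u}) : EtCoh.Ab X ⥤ AddCommGrpCat.{u + 1} :=
  sheafToPresheaf X.smallEtaleTopology AddCommGrpCat.{u+1} ⋙
    (evaluation X.Etaleᵒᵖ AddCommGrpCat.{u+1}).obj (op (EtCoh.top X))

lemma isZero_HY_iff (p : ℕ) (h : EtDepth.DepthGE j F p) :
    IsZero ((EtDual.HY j p).obj F) ↔
      IsZero (((EtDual.locCoh j p).obj F).obj.obj (op (EtCoh.top X))) := by
  haveI := Groth.Agent.S5189.result j F p h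
  let e := asIso (RDer.edgeOut (EtDual.secSupp j) (Γ₀ X) p F)
  exact ⟨fun hz => IsZero.of_iso hz e.symm, fun hz => IsZero.of_iso hz e⟩

lemma isZero_HY_of_depthGE (n : ℕ) (h : EtDepth.DepthGE j F n) (p : ℕ) (hp : p < n) :
    IsZero ((EtDual.HY j p).obj F) := by
  rw [isZero_HY_iff j F p (fun b hb => h b (lt_trans hb hp))]
  exact (Γ₀ X).map_isZero (h p hp)

variable {X' : Scheme.{u}} (g : X' ⟶ X) [Etale g]

lemma range_snd : Set.range (pullback.snd j g).base = g.base ⁻¹' Set.range j.base :=
  Scheme.Pullback.range_snd j g

lemma depthGE_pull (n : ℕ) (h : EtDepth.DepthGE j F n) :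
    EtDepth.DepthGE (pullback.snd j g) ((EtCoh.pull g).obj F) n := by
  intro p hp
  exact IsZero.of_iso ((EtCoh.pull g).map_isZero (h p hp))
    (locCohPullIso j g (pullback.snd j g) (range_snd j g) p F).symm

/-- the conditions on the restriction maps on `X'` amount to vanishing of `H^p_{Y'}(X', F)`. -/
lemma cond_iff (n : ℕ) [PreservesFiniteLimits (EtCoh.pull (pullback.snd j g))] :
    ((∀ p : ℕ, p + 1 < n → Function.Bijective
        (EtCore.Hpull (pullback.snd j g) ((EtCoh.pull g).obj F) p)) ∧
      (∀ p : ℕ, p + 1 = n → Function.Injective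
        (EtCore.Hpull (pullback.snd j g) ((EtCoh.pull g).obj F) p))) ↔
      ∀ p : ℕ, p < n → IsZero ((EtDual.HY (pullback.snd j g) p).obj ((EtCoh.pull g).obj F)) := by
  rw [← forall_subsingleton_ext_Q_iff (pullback.snd j g) ((EtCoh.pull g).obj F) n]
  simp only [subsingleton_ext_Q_iff]

end aux

section sections

variable {X : Scheme.{u}} (V : X.Etale)

/-- `(V = V → X) ≅ V` in the small étale site. -/
noncomputable def topIso : (EtShriek.compEtale V.hom).obj (EtCoh.top V.left) ≅ V :=
  MorphismProperty.Over.isoMk (Iso.refl _) (by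
    show 𝟙 _ ≫ V.hom = 𝟙 _ ≫ V.hom
    rfl)

/-- sections of `L` over `V` are the global sections of the pullback of `L` to `V`. -/
lemma isZero_sections_of_pull (L : EtCoh.Ab X)
    (h : IsZero (((EtCoh.pull V.hom).obj L).obj.obj (op (EtCoh.top V.left)))) :
    IsZero (L.obj.obj (op V)) := by
  haveI : Etale V.hom := V.prop
  have h1 : IsZero (((EtShriek.restrAlong V.hom).obj L).obj.obj (op (EtCoh.top V.left))) :=
    IsZero.of_iso h (((sheafToPresheaf _ _).mapIso ((EtaleRestr.pullIsoRestr V.hom).app L).symm).app
      (op (EtCoh.top V.left)))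
  exact IsZero.of_iso h1 (L.obj.mapIso (topIso V).op)

end sections

/-- Let X be a scheme, j : U → X an open immersion with closed complement Y, F an abelian sheaf on the
small étale site of X and n ≥ 0. Then the local cohomology sheaves H^p_Y(X, F) vanish for p < n if
and only if for every scheme X' étale over X, with U' = X' ×_X U, the restriction maps H^p(X', F) →
H^p(U', F) are bijective for p < n − 1 and injective for p = n − 1. (The restriction maps are the
prelude's pull-back maps on étale cohomology, whose exactness instance is carried as a binder. The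
published statement has further equivalent conditions and is not limited to a single sheaf; only
this equivalence, for one abelian sheaf, is stated here.) -/
theorem result {X U : Scheme.{u}} (j : U ⟶ X) [IsOpenImmersion j] [EtCoh.BCCont j] (F : EtCoh.Ab X) (n : ℕ) : EtDepth.DepthGE j F n ↔ ∀ (X' : Scheme.{u}) (g : X' ⟶ X) [Etale g] [PreservesFiniteLimits (EtCoh.pull (pullback.snd j g))], (∀ p : ℕ, p + 1 < n → Function.Bijective (EtCore.Hpull (pullback.snd j g) ((EtCoh.pull g).obj F) p)) ∧ (∀ p : ℕ, p + 1 = n → Function.Injective (EtCore.Hpull (pullback.snd j g) ((EtCoh.pull g).obj F) p)) := by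
  constructor
  · intro h X' g _ _
    rw [cond_iff j F g n]
    intro p hp
    exact isZero_HY_of_depthGE (pullback.snd j g) ((EtCoh.pull g).obj F) n
      (depthGE_pull j F g n h) p hp
  · intro H
    have key : ∀ p : ℕ, p < n → IsZero ((EtDual.locCoh j p).obj F) := by
      intro p
      induction p using Nat.strong_induction_on with
      | _ p ih =>
        intro hp
        have hdp : EtDepth.DepthGE j F p := fun b hb => ih b hb (lt_trans hb hp)
        apply Groth.Agent.Lib.Helper5.FilteredUnion.isZero_of_sections
        intro V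
        haveI : Etale V.hom := V.prop
        haveI : PreservesFiniteLimits (EtCoh.pull (pullback.snd j V.hom)) :=
          Groth.Agent.Lib.Helper2.EtMV.pull_preservesFiniteLimits _
        have h1 := (cond_iff j F V.hom n).1 (H V.left V.hom) p hp
        have h2 := depthGE_pull j F V.hom p hdp
        have h3 := (isZero_HY_iff (pullback.snd j V.hom) ((EtCoh.pull V.hom).obj F) p h2).1 h1
        apply isZero_sections_of_pull V
        exact IsZero.of_iso h3 (((sheafToPresheaf _ _).mapIso
          (locCohPullIso j V.hom (pullback.snd j V.hom) (range_snd j V.hom) p F)).app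
            (op (EtCoh.top V.left)))
    exact key

end Groth.Agent.S3364
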