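import Groth.Statements.S3194
import Mathlib

set_option autoImplicit false
universe u
open CategoryTheory
open SGA6

namespace Groth.Agent.S3194

namespace S3194aux
open CategoryTheory

universe uu
variable {A : Type uu} [CommRing A] [IsDomain A] [IsPrincipalIdealRing A]

abbrev P (A : Type uu) [CommRing A] : ObjectProperty (ModuleCat.{uu} A) :=
  fun M => Module.Finite A M

/-- class of a type-level module -/
noncomputable def clT (A : Type uu) [CommRing A] (M : Type uu) [AddCommGroup M] [Module A M] :
    KZero.K0sub (P A) :=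
  KZero.clSub (P A) (ModuleCat.of A M)

omit [IsDomain A] [IsPrincipalIdealRing A] in
lemma rel (M₁ M₂ M₃ : Type uu) [AddCommGroup M₁] [Module A M₁] [AddCommGroup M₂] [Module A M₂]
    [AddCommGroup M₃] [Module A M₃] [Module.Finite A M₁] [Module.Finite A M₂]
    [Module.Finite A M₃]
    (f : M₁ →ₗ[A] M₂) (g : M₂ →ₗ[A] M₃) (hf : Function.Injective f) (hg : Function.Surjective g)
    (hfg : Function.Exact f g) : clT A M₂ = clT A M₁ + clT A M₃ := by
  have h₁ : P A (ModuleCat.of A M₁) := ‹Module.Finite A M₁›
  have h₂ : P A (ModuleCat.of A M₂) := ‹Module.Finite A M₂›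
  have h₃ : P A (ModuleCat.of A M₃) := ‹Module.Finite A M₃›
  unfold clT KZero.clSub
  rw [dif_pos h₁, dif_pos h₂, dif_pos h₃]
  have hS : (ModuleCat.shortComplexOfCompEqZero f g hfg.linearMap_comp_eq_zero).ShortExact :=
    ModuleCat.shortComplex_shortExact _ hfg hf hg
  have hmem : FreeAbelianGroup.of (⟨ModuleCat.of A M₂, h₂⟩ : Subtype (P A)) -
      FreeAbelianGroup.of ⟨ModuleCat.of A M₁, h₁⟩ - FreeAbelianGroup.of ⟨ModuleCat.of A M₃, h₃⟩ ∈
      KZero.relSub (P A) :=
    AddSubgroup.subset_closure
      ⟨ModuleCat.shortComplexOfCompEqZero f g hfg.linearMap_comp_eq_zero, h₁, h₂, h₃, hS, rfl⟩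
  have h0 := (QuotientAddGroup.eq_zero_iff _).mpr hmem
  rw [QuotientAddGroup.mk_sub, QuotientAddGroup.mk_sub, sub_sub, sub_eq_zero] at h0
  exact h0

omit [IsPrincipalIdealRing A] in
lemma finrank_add (S : ShortComplex (ModuleCat.{uu} A)) (hS : S.ShortExact)
    [Module.Finite A S.X₂] :
    Module.finrank A S.X₂ = Module.finrank A S.X₁ + Module.finrank A S.X₃ := by
  have hinj := hS.moduleCat_injective_f
  have hsurj := hS.moduleCat_surjective_g
  have hex := hS.exact.moduleCat_range_eq_ker
  have h1 := Submodule.finrank_quotient_add_finrank (R := A) (LinearMap.ker S.g.hom)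
  have h2 : Module.finrank A (S.X₂ ⧸ LinearMap.ker S.g.hom) = Module.finrank A S.X₃ :=
    (LinearMap.quotKerEquivOfSurjective S.g.hom hsurj).finrank_eq
  have h3 : Module.finrank A (LinearMap.ker S.g.hom) = Module.finrank A S.X₁ := by
    rw [← hex]; exact (LinearEquiv.ofInjective S.f.hom hinj).finrank_eq.symm
  omega

noncomputable def rk₀ (A : Type uu) [CommRing A] : FreeAbelianGroup (Subtype (P A)) →+ ℤ :=
  FreeAbelianGroup.lift (fun M => (Module.finrank A M.1 : ℤ))

omit [IsPrincipalIdealRing A] in
lemma rk₀_rel : KZero.relSub (P A) ≤ (rk₀ A).ker := by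
  unfold KZero.relSub
  rw [AddSubgroup.closure_le]
  rintro _ ⟨S, h₁, h₂, h₃, hS, rfl⟩
  rw [SetLike.mem_coe, AddMonoidHom.mem_ker, map_sub, map_sub]
  simp only [rk₀, FreeAbelianGroup.lift_apply_of]
  haveI : Module.Finite A S.X₂ := h₂
  have := finrank_add S hS
  rw [this]; push_cast; ring

noncomputable def rk (A : Type uu) [CommRing A] [IsDomain A] : KZero.K0sub (P A) →+ ℤ :=
  QuotientAddGroup.lift (KZero.relSub (P A)) (rk₀ A) rk₀_rel

omit [IsPrincipalIdealRing A] in
lemma rk_clT_self : rk A (clT A A) = 1 := by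
  have h : P A (ModuleCat.of A A) := (inferInstance : Module.Finite A A)
  unfold clT KZero.clSub
  rw [dif_pos h]
  show rk₀ A (FreeAbelianGroup.of _) = 1
  simp only [rk₀, FreeAbelianGroup.lift_apply_of]
  show ((Module.finrank A A : ℕ) : ℤ) = 1
  rw [Module.finrank_self]; rfl

omit [IsDomain A] [IsPrincipalIdealRing A] in
lemma clT_subsingleton (M : Type uu) [AddCommGroup M] [Module A M] [Subsingleton M] :
    clT A M = 0 := by
  have h := rel (A := A) M M M LinearMap.id 0 Function.injective_id
    (fun y => ⟨0, Subsingleton.elim _ _⟩)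
    (fun y => ⟨fun _ => ⟨y, rfl⟩, fun _ => Subsingleton.elim _ _⟩)
  have h2 : clT A M + clT A M = clT A M + 0 := by rw [add_zero]; exact h.symm
  exact add_left_cancel h2

lemma cyclic (M : Type uu) [AddCommGroup M] [Module A M] (x : M) :
    clT A ↥(Submodule.span A {x}) ∈ AddSubgroup.zmultiples (clT A A) := by
  obtain ⟨g, hg⟩ : ∃ g : A →ₗ[A] ↥(Submodule.span A {x}),
      g = (LinearMap.toSpanSingleton A M x).codRestrict (Submodule.span A {x})
        (fun a => Submodule.mem_span_singleton.mpr ⟨a, rfl⟩) := ⟨_, rfl⟩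
  have hga : ∀ a, (g a : M) = a • x := fun a => by rw [hg]; rfl
  have hgsurj : Function.Surjective g := by
    rintro ⟨y, hy⟩
    obtain ⟨a, rfl⟩ := Submodule.mem_span_singleton.mp hy
    exact ⟨a, Subtype.ext (hga a)⟩
  haveI : Module.Finite A ↥(Submodule.span A {x}) :=
    Module.Finite.iff_fg.mpr (Submodule.fg_span_singleton x)
  obtain ⟨a₀, ha₀⟩ : ∃ a₀ : A, LinearMap.ker g = Ideal.span {a₀} :=
    ⟨_, (Submodule.IsPrincipal.span_singleton_generator (LinearMap.ker g)).symm⟩
  by_cases h0 : a₀ = 0
  · -- g injective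
    have hginj : Function.Injective g := by
      rw [← LinearMap.ker_eq_bot, ha₀, h0]
      exact Ideal.span_singleton_eq_bot.mpr rfl
    have h := rel (A := A) PUnit.{uu + 1} A ↥(Submodule.span A {x}) 0 g
      (fun a b _ => Subsingleton.elim a b) hgsurj
      (fun a => ⟨fun ha => ⟨PUnit.unit, (hginj (ha.trans (map_zero g).symm)).symm⟩,
        fun ⟨_, ha⟩ => by rw [← ha]; exact map_zero g⟩)
    rw [clT_subsingleton (A := A) PUnit, zero_add] at h
    rw [← h]
    exact AddSubgroup.mem_zmultiples _
  · -- multiplication by a₀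
    obtain ⟨f, hf⟩ : ∃ f : A →ₗ[A] A, f = LinearMap.toSpanSingleton A A a₀ := ⟨_, rfl⟩
    have hfa : ∀ a, f a = a * a₀ := fun a => by rw [hf]; rfl
    have hfinj : Function.Injective f := by
      intro a b hab
      rw [hfa, hfa] at hab
      exact mul_right_cancel₀ h0 hab
    have hex : Function.Exact f g := by
      rw [LinearMap.exact_iff, ha₀, hf, LinearMap.range_toSpanSingleton]
    have h := rel (A := A) A A ↥(Submodule.span A {x}) f g hfinj hgsurj hex
    have h2 : clT A A + clT A ↥(Submodule.span A {x}) = clT A A + 0 := by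
      rw [add_zero]; exact h.symm
    rw [add_left_cancel h2]
    exact AddSubgroup.zero_mem _

lemma gen : ∀ (n : ℕ) (M : Type uu) [AddCommGroup M] [Module A M] (s : Fin n → M),
    Submodule.span A (Set.range s) = ⊤ →
      clT A M ∈ AddSubgroup.zmultiples (clT A A) := by
  intro n
  induction n with
  | zero =>
    intro M _ _ s hs
    have : Set.range s = ∅ := Set.range_eq_empty s
    rw [this, Submodule.span_empty] at hs
    haveI : Subsingleton M := Submodule.subsingleton_iff A |>.mp (subsingleton_of_bot_eq_top hs)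
    rw [clT_subsingleton (A := A) M]
    exact AddSubgroup.zero_mem _
  | succ n ih =>
    intro M _ _ s hs
    haveI : Module.Finite A M := by
      rw [Module.finite_def, ← hs]
      exact Submodule.fg_span (Set.finite_range s)
    obtain ⟨N, hN⟩ : ∃ N : Submodule A M, N = Submodule.span A {s 0} := ⟨_, rfl⟩
    haveI : Module.Finite A ↥N := by
      rw [hN]; exact Module.Finite.iff_fg.mpr (Submodule.fg_span_singleton _)
    have h := rel (A := A) ↥N M (M ⧸ N) N.subtype N.mkQ N.injective_subtype
      N.mkQ_surjective (LinearMap.exact_subtype_mkQ N)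
    rw [h]
    refine AddSubgroup.add_mem _ ?_ ?_
    · rw [hN]; exact cyclic M (s 0)
    · refine ih (M ⧸ N) (fun i => N.mkQ (s i.succ)) ?_
      rw [eq_top_iff, ← Submodule.range_mkQ N, LinearMap.range_eq_map, ← hs, Submodule.map_span,
        Submodule.span_le]
      rintro _ ⟨_, ⟨i, rfl⟩, rfl⟩
      refine Fin.cases ?_ (fun j => ?_) i
      · have : N.mkQ (s 0) = 0 := by
          rw [Submodule.mkQ_apply, Submodule.Quotient.mk_eq_zero, hN]
          exact Submodule.mem_span_singleton_self _
        rw [this]; exact Submodule.zero_mem _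
      · exact Submodule.subset_span ⟨j, rfl⟩

lemma all_mem (y : KZero.K0sub (P A)) : y ∈ AddSubgroup.zmultiples (clT A A) := by
  induction y using QuotientAddGroup.induction_on with
  | H z =>
    induction z using FreeAbelianGroup.induction_on with
    | zero => exact AddSubgroup.zero_mem _
    | of M =>
      obtain ⟨M, hM⟩ := M
      have hM' : Module.Finite A M := hM
      obtain ⟨n, s, hs⟩ := Module.Finite.exists_fin (R := A) (M := M)
      have h := gen (A := A) n M s hs
      have e : clT A M = (QuotientAddGroup.mk (FreeAbelianGroup.of ⟨M, hM⟩) :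
          KZero.K0sub (P A)) := by
        unfold clT KZero.clSub
        rw [dif_pos (show P A (ModuleCat.of A M) from hM)]
      rw [← e]; exact h
    | neg M h =>
      rw [QuotientAddGroup.mk_neg]; exact AddSubgroup.neg_mem _ h
    | add x y hx hy =>
      rw [QuotientAddGroup.mk_add]; exact AddSubgroup.add_mem _ hx hy

theorem main : Function.Bijective (fun k : ℤ => k • clT A A) := by
  constructor
  · intro k k' h
    have := congrArg (rk A) h
    simp only [map_zsmul, rk_clT_self, smul_eq_mul, mul_one] at this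
    exact this
  · intro y
    obtain ⟨k, hk⟩ := AddSubgroup.mem_zmultiples_iff.mp (all_mem y)
    exact ⟨k, hk⟩

end S3194aux

/-- Let A be a principal ideal domain and K_•(Spec A) = K₀ of the category of finitely generated
A-modules (free abelian group on finitely generated modules modulo short exact sequences). The
homomorphism ℤ ⟶ K_•(Spec A) sending k to k·[A] is bijective. -/
theorem result (A : Type u) [CommRing A] [IsDomain A] [IsPrincipalIdealRing A] :
    Function.Bijective (fun k : ℤ => k • KZero.clSub (fun M : ModuleCat.{u} A => Module.Finite A M) (ModuleCat.of A A)) := by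
  exact S3194aux.main

end Groth.Agent.S3194
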