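import Groth.Statements.S3206
import Groth.Agent.Lib.Helper14.FormalMorse

set_option autoImplicit false
open SGA7

namespace Groth.Agent.S3206

/-- Let k be a field and f a formal power series in n variables over k without constant term whose
partial derivatives ∂f/∂x_1, …, ∂f/∂x_n generate the maximal ideal of k[[x_1, …, x_n]]. Then there
are power series ε_1, …, ε_n with no terms of degree < 2 and a quadratic form q such that f = q(x_1
+ ε_1, …, x_n + ε_n). -/
theorem result (k : Type) [Field k] (n : ℕ) (f : MvPowerSeries (Fin n) k)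
    (hf0 : MvPowerSeries.constantCoeff f = 0)
    (hJ : Ideal.span (Set.range fun i : Fin n => MvPowerSeries.pderiv k i f) = IsLocalRing.maximalIdeal (MvPowerSeries (Fin n) k)) :
    ∃ (ε : Fin n → MvPowerSeries (Fin n) k) (_ : ∀ i (m : Fin n →₀ ℕ), m.degree < 2 → MvPowerSeries.coeff m (ε i) = 0)
      (q : MvPolynomial (Fin n) k) (_ : q.IsHomogeneous 2)
      (_ : MvPowerSeries.HasSubst (fun i : Fin n => MvPowerSeries.X i + ε i)),
      f = MvPowerSeries.subst (fun i : Fin n => MvPowerSeries.X i + ε i) (q : MvPowerSeries (Fin n) k) := by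
  classical
  open Groth.Agent.Lib.Helper14.FormalIFT Groth.Agent.Lib.Helper14.FormalMorse in
  have hmem : ∀ g : MvPowerSeries (Fin n) k,
      g ∈ IsLocalRing.maximalIdeal (MvPowerSeries (Fin n) k) ↔
        MvPowerSeries.constantCoeff g = 0 := by
    intro g
    rw [IsLocalRing.mem_maximalIdeal, mem_nonunits_iff, MvPowerSeries.isUnit_iff_constantCoeff,
      isUnit_iff_ne_zero, not_not]
  have h0y : ∀ i, MvPowerSeries.constantCoeff (MvPowerSeries.pderiv k i f) = 0 := by
    intro i
    rw [← hmem, ← hJ]
    exact Ideal.subset_span ⟨i, rfl⟩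
  have hlin : ∀ i, MvPowerSeries.coeff (Finsupp.single i 1) f = 0 := by
    intro i
    have := h0y i
    rw [← MvPowerSeries.coeff_zero_eq_constantCoeff_apply, MvPowerSeries.coeff_pderiv] at this
    simpa using this
  have hfil2 : Groth.Agent.Lib.Helper14.FormalIFT.Fil 2 f :=
    Groth.Agent.Lib.Helper14.FormalMorse.fil_two_of f hf0 hlin
  have hX : ∀ l, (MvPowerSeries.X l : MvPowerSeries (Fin n) k) ∈
      Ideal.span (Set.range fun i : Fin n => MvPowerSeries.pderiv k i f) := by
    intro l
    rw [hJ, hmem]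
    exact MvPowerSeries.constantCoeff_X l
  have hdet := Groth.Agent.Lib.Helper14.FormalIFT.isUnit_det_jacobian_of_X_mem
    (fun i => MvPowerSeries.pderiv k i f) h0y hX
  have hmat : (Matrix.of fun i j : Fin n =>
      MvPowerSeries.coeff (Finsupp.single j 1) (MvPowerSeries.pderiv k i f)) =
      Groth.Agent.Lib.Helper14.FormalMorse.quadTable f +
        (Groth.Agent.Lib.Helper14.FormalMorse.quadTable f).transpose := by
    ext i j
    rw [Matrix.of_apply, Groth.Agent.Lib.Helper14.FormalMorse.polar_quadTable]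
  rw [hmat] at hdet
  obtain ⟨ε, hε, heq⟩ := Groth.Agent.Lib.Helper14.FormalMorse.exists_eps
    (Groth.Agent.Lib.Helper14.FormalMorse.quadTable f) hdet 2 le_rfl
    (f - Groth.Agent.Lib.Helper14.FormalMorse.qf (Groth.Agent.Lib.Helper14.FormalMorse.quadTable f)
      Groth.Agent.Lib.Helper14.FormalMorse.Xv)
    (Groth.Agent.Lib.Helper14.FormalMorse.fil_three_sub_qf f hfil2)
  have hsubst : MvPowerSeries.HasSubst (fun i : Fin n => MvPowerSeries.X i + ε i) := by
    apply MvPowerSeries.hasSubst_of_constantCoeff_zero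
    intro i
    rw [map_add, MvPowerSeries.constantCoeff_X, zero_add,
      ← MvPowerSeries.coeff_zero_eq_constantCoeff_apply]
    exact hε i 0 (by simp)
  refine ⟨ε, fun i m hm => hε i m hm,
    ∑ i, ∑ j, MvPolynomial.C (Groth.Agent.Lib.Helper14.FormalMorse.quadTable f i j) *
      MvPolynomial.X i * MvPolynomial.X j, ?_, hsubst, ?_⟩
  · apply MvPolynomial.IsHomogeneous.sum
    intro i _
    apply MvPolynomial.IsHomogeneous.sum
    intro j _
    exact (MvPolynomial.isHomogeneous_C_mul_X _ i).mul (MvPolynomial.isHomogeneous_X _ j)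
  · rw [MvPowerSeries.subst_coe]
    have : Groth.Agent.Lib.Helper14.FormalMorse.qf (Groth.Agent.Lib.Helper14.FormalMorse.quadTable f)
        (Groth.Agent.Lib.Helper14.FormalMorse.Xv + ε) = f := by
      rw [heq]; ring
    conv_lhs => rw [← this]
    simp only [Groth.Agent.Lib.Helper14.FormalMorse.qf, map_sum, map_mul, MvPolynomial.aeval_C,
      MvPolynomial.aeval_X, Pi.add_apply, Groth.Agent.Lib.Helper14.FormalMorse.Xv]
    rfl


end Groth.Agent.S3206
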