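import Groth.Statements.S3208
import Mathlib

set_option autoImplicit false
open SGA7

namespace Groth.Agent.S3208


section aux
variable {E : Type} [CommRing E] [NoZeroSMulDivisors ℤ E] [Module.Finite ℤ E]

lemma int_eq_zero_of_pow_dvd (q : ℕ) (hq : 2 ≤ q) (a : ℤ)
    (h : ∀ k : ℕ, ((q ^ k : ℕ) : ℤ) ∣ a) : a = 0 := by
  by_contra ha
  have h1 := h a.natAbs
  have h2 : q ^ a.natAbs ∣ a.natAbs := by
    have := Int.natAbs_dvd_natAbs.mpr h1
    simpa using this
  have h3 := Nat.le_of_dvd (Int.natAbs_pos.mpr ha) h2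
  have h4 : a.natAbs < q ^ a.natAbs := Nat.lt_pow_self (by omega)
  omega

omit [NoZeroSMulDivisors ℤ E] [Module.Finite ℤ E] in
lemma expand (x : E) (ℓ : ℕ) : ∃ Z, (1 + x) ^ ℓ = 1 + ℓ * x + x ^ 2 * Z := by
  induction ℓ with
  | zero => exact ⟨0, by simp⟩
  | succ ℓ ih =>
    obtain ⟨Z, hZ⟩ := ih
    exact ⟨ℓ + Z + x * Z, by rw [pow_succ, hZ]; push_cast; ring⟩

omit [NoZeroSMulDivisors ℤ E] [Module.Finite ℤ E] in
lemma expand3 (x : E) (ℓ : ℕ) :
    ∃ Z, (1 + x) ^ ℓ = 1 + ℓ * x + ((ℓ.choose 2 : ℕ) : E) * x ^ 2 + x ^ 3 * Z := by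
  induction ℓ with
  | zero => exact ⟨0, by simp⟩
  | succ ℓ ih =>
    obtain ⟨Z, hZ⟩ := ih
    refine ⟨((ℓ.choose 2 : ℕ) : E) + Z + x * Z, ?_⟩
    have hc : (ℓ + 1).choose 2 = ℓ + ℓ.choose 2 := by
      have := Nat.choose_succ_succ' ℓ 1
      simpa using this
    rw [pow_succ, hZ, hc]
    push_cast
    ring

omit [Module.Finite ℤ E] in
lemma cancel (q : ℕ) (hq : q ≠ 0) (A : E) (h : (q : E) * A = 0) : A = 0 := by
  have h1 : ((q : ℕ) : ℤ) • A = 0 := by
    rw [zsmul_eq_mul, Int.cast_natCast]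
    exact h
  rcases eq_zero_or_eq_zero_of_smul_eq_zero h1 with h2 | h2
  · exact absurd (by exact_mod_cast h2) hq
  · exact h2

lemma inter (q : ℕ) (hq : 2 ≤ q) (w y : E) (h : w = (q : E) * w * y) : w = 0 := by
  have hk : ∀ k : ℕ, w = ((q ^ k : ℕ) : ℤ) • (w * y ^ k) := by
    intro k
    induction k with
    | zero => simp
    | succ k ih =>
      calc w = ((q ^ k : ℕ) : ℤ) • (w * y ^ k) := ih
        _ = ((q ^ k : ℕ) : ℤ) • (((q : E) * w * y) * y ^ k) := by rw [← h]
        _ = ((q ^ (k + 1) : ℕ) : ℤ) • (w * y ^ (k + 1)) := by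
          simp only [zsmul_eq_mul]
          push_cast
          ring
  haveI : Module.Free ℤ E := Module.free_of_finite_type_torsion_free'
  let b := Module.Free.chooseBasis ℤ E
  apply b.repr.injective
  ext i
  rw [map_zero, Finsupp.zero_apply]
  apply int_eq_zero_of_pow_dvd q hq
  intro k
  refine ⟨b.repr (w * y ^ k) i, ?_⟩
  calc b.repr w i = b.repr (((q ^ k : ℕ) : ℤ) • (w * y ^ k)) i := by rw [← hk k]
    _ = _ := by rw [map_zsmul, Finsupp.smul_apply, smul_eq_mul]

lemma coprime_case (q ℓ : ℕ) (hq : 2 ≤ q) (hc : Nat.Coprime ℓ q) (w : E)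
    (h : (1 + (q : E) * w) ^ ℓ = 1) : w = 0 := by
  obtain ⟨Z, hZ⟩ := expand ((q : E) * w) ℓ
  rw [hZ] at h
  have h1 : (q : E) * ((ℓ : E) * w + q * w ^ 2 * Z) = 0 := by linear_combination h
  have h2 := cancel q (by omega) _ h1
  obtain ⟨a, b, hab⟩ := Nat.isCoprime_iff_coprime.mpr hc
  have hab' : (a : E) * ℓ + (b : E) * q = 1 := by
    have := congrArg (Int.cast : ℤ → E) hab
    push_cast at this
    exact this
  apply inter q hq w (b - a * w * Z)
  linear_combination (-w) * hab' + (a : E) * h2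

lemma prime_step (q : ℕ) (hq : q = 4 ∨ (q.Prime ∧ q ≠ 2)) (w : E) (ℓ : ℕ) (hℓ : ℓ.Prime)
    (h : (1 + (q : E) * w) ^ ℓ = 1) : w = 0 := by
  rcases hq with rfl | ⟨hqp, hq2⟩
  · by_cases h2 : ℓ = 2
    · subst h2
      have h8 : ((8 : ℕ) : E) * (w + 2 * w ^ 2) = 0 := by
        push_cast at h ⊢
        linear_combination h
      have h' := cancel 8 (by norm_num) _ h8
      apply inter 2 le_rfl w (-w)
      push_cast
      linear_combination h'
    · apply coprime_case 4 ℓ (by norm_num) ?_ w h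
      have : Nat.Coprime ℓ 2 := (Nat.coprime_primes hℓ Nat.prime_two).mpr h2
      have h4 : (4 : ℕ) = 2 ^ 2 := by norm_num
      rw [h4]
      exact Nat.Coprime.pow_right 2 this
  · by_cases hlq : ℓ = q
    · subst hlq
      obtain ⟨s, hs⟩ : ∃ s, ℓ = 2 * s + 1 := by
        rcases hℓ.eq_two_or_odd with h2 | h2
        · exact absurd h2 hq2
        · exact ⟨ℓ / 2, by omega⟩
      obtain ⟨Z, hZ⟩ := expand3 ((ℓ : E) * w) ℓ
      have hch : ℓ.choose 2 = ℓ * s := by
        rw [Nat.choose_two_right, hs]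
        have : (2 * s + 1) * (2 * s + 1 - 1) = ((2 * s + 1) * s) * 2 := by
          simp only [Nat.add_sub_cancel]
          ring
        rw [this, Nat.mul_div_cancel _ (by norm_num : 0 < 2)]
      rw [hZ, hch] at h
      have h1 : ((ℓ ^ 2 : ℕ) : E) * (w + (ℓ : E) * w * (s * w + w ^ 2 * Z)) = 0 := by
        push_cast at h ⊢
        linear_combination h
      have h2 := cancel (ℓ ^ 2) (pow_ne_zero 2 hℓ.ne_zero) _ h1
      apply inter ℓ hℓ.two_le w (-(s * w + w ^ 2 * Z))
      linear_combination h2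
    · exact coprime_case q ℓ hqp.two_le ((Nat.coprime_primes hℓ hqp).mpr hlq) w h

lemma main_step (q : ℕ) (hq : q = 4 ∨ (q.Prime ∧ q ≠ 2)) :
    ∀ m : ℕ, 0 < m → ∀ u : E, (∃ w, u = 1 + (q : E) * w) → u ^ m = 1 → u = 1 := by
  intro m
  induction m using Nat.strong_induction_on with
  | _ m ih =>
    intro hm u hu hum
    rcases Nat.lt_or_ge m 2 with h | h
    · have : m = 1 := by omega
      subst this
      simpa using hum
    · have hℓ := Nat.minFac_prime (by omega : m ≠ 1)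
      obtain ⟨m', hm'⟩ := Nat.minFac_dvd m
      have hm'pos : 0 < m' := by
        rcases Nat.eq_zero_or_pos m' with h0 | h0
        · rw [h0, mul_zero] at hm'
          omega
        · exact h0
      have hlt : m' < m := by
        have := hℓ.two_le
        nlinarith
      obtain ⟨w, rfl⟩ := hu
      obtain ⟨Z, hZ⟩ := expand ((q : E) * w) m'
      have h2 : (1 + (q : E) * w) ^ m' = 1 + (q : E) * (m' * w + q * w ^ 2 * Z) := by
        rw [hZ]
        ring
      have h1 : ((1 + (q : E) * w) ^ m') ^ (Nat.minFac m) = 1 := by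
        rw [← pow_mul, Nat.mul_comm m' m.minFac, ← hm']
        exact hum
      rw [h2] at h1
      have h3 := prime_step q hq _ _ hℓ h1
      exact ih m' hlt hm'pos _ ⟨w, rfl⟩ (by rw [h2, h3, mul_zero, add_zero])

lemma exists_good_divisor (n : ℕ) (hn : 3 ≤ n) :
    ∃ q, (q = 4 ∨ (q.Prime ∧ q ≠ 2)) ∧ q ∣ n := by
  obtain ⟨k, m, hm, hnk⟩ := Nat.exists_eq_two_pow_mul_odd (by omega : n ≠ 0)
  by_cases h1 : m = 1
  · subst h1
    rw [mul_one] at hnk
    have hk : 2 ≤ k := by
      by_contra hk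
      push Not at hk
      interval_cases k <;> omega
    refine ⟨4, Or.inl rfl, ?_⟩
    rw [hnk]
    have : (4 : ℕ) = 2 ^ 2 := by norm_num
    rw [this]
    exact pow_dvd_pow 2 hk
  · refine ⟨m.minFac, Or.inr ⟨Nat.minFac_prime h1, ?_⟩, ?_⟩
    · intro h2
      have := Nat.minFac_dvd m
      rw [h2] at this
      exact (Nat.not_even_iff_odd.mpr hm) (even_iff_two_dvd.mpr this)
    · rw [hnk]
      exact Dvd.dvd.mul_left (Nat.minFac_dvd m) _

end aux

/-- Let E be a commutative ring which is finitely generated and torsion-free as an additive group, u an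
element of E of finite multiplicative order (u^m = 1 for some m > 0), and n ≥ 2 an integer with u ≡
1 modulo nE (i.e. 1 - u = n·v for some v ∈ E). Then u² = 1, and if n ≥ 3 then u = 1. -/
theorem result (E : Type) [CommRing E] [NoZeroSMulDivisors ℤ E] [Module.Finite ℤ E] (u : E) (m : ℕ) (hm : 0 < m)
    (hu : u ^ m = 1) (n : ℕ) (hn : 2 ≤ n) (hcong : ∃ v : E, 1 - u = (n : E) * v) :
    u ^ 2 = 1 ∧ (3 ≤ n → u = 1) := by
  obtain ⟨v, hv⟩ := hcong
  have hu' : u = 1 + (n : E) * (-v) := by linear_combination -hv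
  have part2 : 3 ≤ n → u = 1 := by
    intro h3
    obtain ⟨q, hq, c, hc⟩ := exists_good_divisor n h3
    apply main_step q hq m hm u ⟨(c : E) * (-v), ?_⟩ hu
    rw [hu', hc]
    push_cast
    ring
  refine ⟨?_, part2⟩
  rcases Nat.lt_or_ge n 3 with h | h
  · have hn2 : n = 2 := by omega
    subst hn2
    have h4 : u ^ 2 = 1 + ((4 : ℕ) : E) * (-v + v ^ 2) := by
      rw [hu']
      push_cast
      ring
    apply main_step 4 (Or.inl rfl) m hm (u ^ 2) ⟨_, h4⟩
    rw [← pow_mul, mul_comm, pow_mul, hu, one_pow]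
  · rw [part2 h, one_pow]

end Groth.Agent.S3208
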