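import Mathlib
import Groth.Statements.S3209


set_option autoImplicit false
universe u
open TensorProduct
open SGA7

open TensorProduct
namespace Aux3209

variable {R B' B C S : Type u} [CommRing R] [CommRing B'] [CommRing B] [CommRing C]
    [CommRing S] [Algebra R B'] [Algebra R B] [Algebra R C] [Algebra R S]

theorem map_eq_lTensor {M N : Type u} [CommRing M] [CommRing N] [Algebra R M] [Algebra R N]
    (h : M →ₐ[R] N) (z : S ⊗[R] M) :
    Algebra.TensorProduct.map (AlgHom.id R S) h z = LinearMap.lTensor S h.toLinearMap z := rfl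

variable (f : B' →ₐ[R] B) (g : C →ₐ[R] B)

abbrev P : Subalgebra R (B' × C) :=
  AlgHom.equalizer (f.comp (AlgHom.fst R B' C)) (g.comp (AlgHom.snd R B' C))

/-- inclusion of the kernel of f into the fibre product -/
def incl : (LinearMap.ker f.toLinearMap) →ₗ[R] ↥(P f g) where
  toFun j := ⟨(j.1, 0), by
    rw [AlgHom.mem_equalizer]
    have hj : f j.1 = 0 := j.2
    simp [hj]⟩
  map_add' x y := by ext <;> simp
  map_smul' r x := by ext <;> simp

abbrev p1 : ↥(P f g) →ₐ[R] B' := (AlgHom.fst R B' C).comp (P f g).val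
abbrev p2 : ↥(P f g) →ₐ[R] C := (AlgHom.snd R B' C).comp (P f g).val

theorem p1_incl : (p1 f g).toLinearMap.comp (incl f g) = (LinearMap.ker f.toLinearMap).subtype := by
  ext j; rfl

theorem p2_incl : (p2 f g).toLinearMap.comp (incl f g) = 0 := by
  ext j; rfl

theorem exact_incl_p2 : Function.Exact (incl f g) (p2 f g).toLinearMap := by
  intro z
  constructor
  · intro hz
    have h1 : z.1.2 = 0 := hz
    have h2 : f z.1.1 = g z.1.2 := (AlgHom.mem_equalizer _ _ _).mp z.2
    rw [h1, map_zero] at h2
    refine ⟨⟨z.1.1, h2⟩, ?_⟩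
    ext
    · rfl
    · exact h1.symm
  · rintro ⟨j, rfl⟩
    rfl

theorem surj_p2 (hf : Function.Surjective f) : Function.Surjective (p2 f g).toLinearMap := by
  intro c
  obtain ⟨b', hb'⟩ := hf (g c)
  exact ⟨⟨(b', c), (AlgHom.mem_equalizer _ _ _).mpr hb'⟩, rfl⟩

theorem f_p1 : f.comp (p1 f g) = g.comp (p2 f g) := by
  ext z
  exact (AlgHom.mem_equalizer _ _ _).mp z.2

theorem main (hf : Function.Surjective f)
    (hJ : Function.Injective (LinearMap.lTensor S (LinearMap.ker f.toLinearMap).subtype)) :
    Function.Injective (fun z : S ⊗[R] ↥(P f g) =>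
      (Algebra.TensorProduct.map (AlgHom.id R S) (p1 f g) z,
       Algebra.TensorProduct.map (AlgHom.id R S) (p2 f g) z)) ∧
    ∀ (x : S ⊗[R] B') (y : S ⊗[R] C),
      Algebra.TensorProduct.map (AlgHom.id R S) f x = Algebra.TensorProduct.map (AlgHom.id R S) g y →
        ∃ z : S ⊗[R] ↥(P f g), Algebra.TensorProduct.map (AlgHom.id R S) (p1 f g) z = x ∧
          Algebra.TensorProduct.map (AlgHom.id R S) (p2 f g) z = y := by
  have hex2 : Function.Exact (LinearMap.lTensor S (incl f g)) (LinearMap.lTensor S (p2 f g).toLinearMap) :=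
    lTensor_exact S (exact_incl_p2 f g) (surj_p2 f g hf)
  have hsurj2 : Function.Surjective (LinearMap.lTensor S (p2 f g).toLinearMap) :=
    LinearMap.lTensor_surjective S (surj_p2 f g hf)
  have hexf : Function.Exact (LinearMap.lTensor S (LinearMap.ker f.toLinearMap).subtype)
      (LinearMap.lTensor S f.toLinearMap) :=
    lTensor_exact S (LinearMap.exact_subtype_ker_map f.toLinearMap) hf
  have hc1 : ∀ w, LinearMap.lTensor S (p1 f g).toLinearMap (LinearMap.lTensor S (incl f g) w) =
      LinearMap.lTensor S (LinearMap.ker f.toLinearMap).subtype w := by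
    intro w
    rw [← LinearMap.comp_apply, ← LinearMap.lTensor_comp, p1_incl]
  have hc2 : ∀ w, LinearMap.lTensor S (p2 f g).toLinearMap (LinearMap.lTensor S (incl f g) w) = 0 := by
    intro w
    rw [← LinearMap.comp_apply, ← LinearMap.lTensor_comp, p2_incl, LinearMap.lTensor_zero,
      LinearMap.zero_apply]
  constructor
  · intro z z' h
    have h1 : LinearMap.lTensor S (p1 f g).toLinearMap z = LinearMap.lTensor S (p1 f g).toLinearMap z' :=
      congrArg Prod.fst h
    have h2 : LinearMap.lTensor S (p2 f g).toLinearMap z = LinearMap.lTensor S (p2 f g).toLinearMap z' :=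
      congrArg Prod.snd h
    have h2' : LinearMap.lTensor S (p2 f g).toLinearMap (z - z') = 0 := by rw [map_sub, h2, sub_self]
    obtain ⟨w, hw⟩ := (hex2 _).mp h2'
    have h1' : LinearMap.lTensor S (LinearMap.ker f.toLinearMap).subtype w = 0 := by
      rw [← hc1, hw, map_sub, h1, sub_self]
    have hw0 : w = 0 := hJ (by rw [h1', map_zero])
    rw [hw0, map_zero] at hw
    exact sub_eq_zero.mp hw.symm
  · intro x y hxy
    simp only [map_eq_lTensor] at hxy ⊢
    obtain ⟨z₀, hz₀⟩ := hsurj2 y
    have h1 : LinearMap.lTensor S f.toLinearMap (x - LinearMap.lTensor S (p1 f g).toLinearMap z₀) = 0 := by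
      rw [map_sub, hxy, ← hz₀, ← LinearMap.comp_apply, ← LinearMap.comp_apply,
        ← LinearMap.lTensor_comp, ← LinearMap.lTensor_comp, sub_eq_zero]
      have : g.toLinearMap ∘ₗ (p2 f g).toLinearMap = f.toLinearMap ∘ₗ (p1 f g).toLinearMap := by
        have := f_p1 f g
        ext z
        exact (DFunLike.congr_fun this z).symm
      rw [this]
    obtain ⟨w, hw⟩ := (hexf _).mp h1
    refine ⟨z₀ + LinearMap.lTensor S (incl f g) w, ?_, ?_⟩
    · rw [map_add, hc1, hw]; abel
    · rw [map_add, hc2, hz₀, add_zero]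

end Aux3209

namespace Groth.Agent.S3209

/-- Let f : B' → B be a surjective map of R-algebras with kernel J, g : C → B a map of R-algebras, P =
B' ×_B C their fibre product (the equalizer of f ∘ pr₁ and g ∘ pr₂ in B' × C) and S an R-algebra
such that S ⊗_R J → S ⊗_R B' is injective (this holds when Tor_1^R(B, S) = 0, the published
hypothesis, and in particular when S is flat). Then the canonical map S ⊗_R P → (S ⊗_R B') ×_{S ⊗_R
B} (S ⊗_R C) is bijective: it is injective, and every pair with the same image in S ⊗_R B comes from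
S ⊗_R P. -/
theorem result (R B' B C S : Type u) [CommRing R] [CommRing B'] [CommRing B] [CommRing C]
    [CommRing S] [Algebra R B'] [Algebra R B] [Algebra R C] [Algebra R S]
    (f : B' →ₐ[R] B) (hf : Function.Surjective f) (g : C →ₐ[R] B)
    (hJ : Function.Injective (LinearMap.lTensor S (LinearMap.ker f.toLinearMap).subtype)) :
    letI P := AlgHom.equalizer (f.comp (AlgHom.fst R B' C)) (g.comp (AlgHom.snd R B' C))
    letI φ₁ := Algebra.TensorProduct.map (AlgHom.id R S) ((AlgHom.fst R B' C).comp P.val)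
    letI φ₂ := Algebra.TensorProduct.map (AlgHom.id R S) ((AlgHom.snd R B' C).comp P.val)
    Function.Injective (fun z : S ⊗[R] ↥P => (φ₁ z, φ₂ z)) ∧
    ∀ (x : S ⊗[R] B') (y : S ⊗[R] C),
      Algebra.TensorProduct.map (AlgHom.id R S) f x = Algebra.TensorProduct.map (AlgHom.id R S) g y →
        ∃ z : S ⊗[R] ↥P, φ₁ z = x ∧ φ₂ z = y := by
  exact Aux3209.main f g hf hJ

end Groth.Agent.S3209
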