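import Groth.Statements.S3210
import Groth.Agent.Lib.Helper27.InertiaD

set_option autoImplicit false
universe u
open CategoryTheory CategoryTheory.Limits AlgebraicGeometry MonObj
open SGA7

namespace Groth.Agent.S3210

/-- Direction (i) ⇒ (v bis) of the Néron–Ogg–Chafarévitch criterion (only this direction of the
criterion is stated): let R be a discrete valuation ring with fraction field K and residue
characteristic different from the prime ℓ, Ω a separable closure of K, W a valuation subring of Ω
lying over R, and A an abelian variety over K (a proper, geometrically integral group scheme). If A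
extends to an abelian scheme over R (a proper smooth group scheme over Spec R with connected
geometric fibres whose generic fibre is K-isomorphic to A), then for every ν every element of the
inertia group at W fixes all the ℓ^ν-torsion Ω-points of A. -/
theorem result (R K Ω : Type u) [CommRing R] [IsDomain R] [IsDiscreteValuationRing R] [Field K]
    [Algebra R K] [IsFractionRing R K] [Field Ω] [Algebra K Ω] [IsSepClosure K Ω]
    (W : ValuationSubring Ω) (hW : SGA7.LiesOver K R W) (ℓ : ℕ) (hℓ : ℓ.Prime) (hℓp : (ℓ : IsLocalRing.ResidueField R) ≠ 0)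
    (A : Over (Spec (CommRingCat.of K))) [GrpObj A] [IsProper A.hom] [GeometricallyIntegral A.hom]
    (hgood : (∃ (B : Over (Spec (CommRingCat.of R))) (_ : GrpObj B), IsProper B.hom ∧ Smooth B.hom ∧
        (∀ (k' : Type u) [Field k'] (t : Spec (CommRingCat.of k') ⟶ Spec (CommRingCat.of R)), ConnectedSpace ↑(pullback B.hom t)) ∧
        Nonempty ((Over.pullback (Spec.map (CommRingCat.ofHom (algebraMap R K)))).obj B ≅ A))) :
    ∀ (ν : ℕ) (σ : Ω ≃ₐ[K] Ω), SGA7.IsInertia W σ → ∀ x : SGA7.Pts Ω A, x ^ (ℓ ^ ν) = 1 → SGA7.galAct σ x = x := by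
  obtain ⟨B, hBgrp, hBproper, hBsmooth, hBconn, ⟨e⟩⟩ := hgood
  intro ν σ hσ x hx
  letI := hBgrp
  haveI := hBproper
  haveI := hBsmooth
  haveI : GeometricallyConnected B.hom := ⟨fun K' _ t Z fst snd h => by
    haveI := hBconn K' t
    exact (ConcreteCategory.bijective_of_isIso h.isoPullback.inv.base).2.connectedSpace
      h.isoPullback.inv.continuous⟩
  have hℓ : IsUnit ((ℓ ^ ν : ℕ) : R) := by
    have h1 : IsUnit (ℓ : R) := by
      rw [← IsLocalRing.residue_ne_zero_iff_isUnit, map_natCast]
      exact hℓp
    rw [Nat.cast_pow]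
    exact h1.pow ν
  exact Groth.Agent.Lib.Helper27.InertiaD.galAct_eq R K Ω W hW (ℓ ^ ν) hℓ A B e σ hσ x hx

end Groth.Agent.S3210
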