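import Groth.Statements.S3214
import Mathlib

set_option autoImplicit false
open Polynomial
universe u
open SGA7II

namespace Groth.Agent.S3214

/-- In the recursive form established in its proof: let A = Z[X_1, ..., X_a] (a >= 1), P = prod_i (T -
X_i) in A[T] and S_i the i-th elementary symmetric function. Writing a_j for the coefficient of
T^{a-1} in the remainder of T^{a-1+j} modulo P, one has a_0 = 1 and sum_{i=0}^{a} (-1)^i S_i a_{j-i}
= 0 for every j > 0 (with a_m = 0 for m < 0); equivalently sum_j (-1)^j a_j is the inverse of sum_i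
S_i. (The source works in formal power series; the identity involves only polynomials.) -/
theorem result (a : ℕ) (ha : 0 < a) :
    let P : (MvPolynomial (Fin a) ℤ)[X] := ∏ i : Fin a, (X - C (MvPolynomial.X i))
    let coef : ℤ → MvPolynomial (Fin a) ℤ := fun j =>
      if j < 0 then 0 else ((X : (MvPolynomial (Fin a) ℤ)[X]) ^ (a - 1 + j.toNat) %ₘ P).coeff (a - 1)
    coef 0 = 1 ∧ ∀ j : ℕ, 0 < j →
      (∑ i ∈ Finset.range (a + 1), (-1 : MvPolynomial (Fin a) ℤ) ^ i * MvPolynomial.esymm (Fin a) ℤ i *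
        coef ((j : ℤ) - i)) = 0 := by
  intro P coef
  have hPmonic : P.Monic := monic_prod_of_monic _ _ fun i _ => monic_X_sub_C _
  have hPdeg : P.natDegree = a := by
    show (∏ i : Fin a, (X - C (MvPolynomial.X i) : (MvPolynomial (Fin a) ℤ)[X])).natDegree = a
    rw [natDegree_prod_of_monic _ _ (fun i _ => monic_X_sub_C _)]
    simp
  have hPexp : P = ∑ i ∈ Finset.range (a + 1),
      (-1) ^ i * (C (MvPolynomial.esymm (Fin a) ℤ i) * X ^ (a - i)) := by
    have h := Multiset.prod_X_sub_X_eq_sum_esymm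
      ((Finset.univ : Finset (Fin a)).val.map (MvPolynomial.X (R := ℤ)))
    rw [Multiset.map_map, Multiset.card_map, Finset.card_val, Finset.card_univ, Fintype.card_fin,
      ← MvPolynomial.esymm_eq_multiset_esymm] at h
    rw [← h]; rfl
  have hlt : ∀ e : ℕ, e < a → (X : (MvPolynomial (Fin a) ℤ)[X]) ^ e %ₘ P = X ^ e := by
    intro e he
    apply (modByMonic_eq_self_iff hPmonic).mpr
    rw [degree_X_pow, degree_eq_natDegree hPmonic.ne_zero, hPdeg]
    exact_mod_cast he
  constructor
  · show (if (0:ℤ) < 0 then 0 else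
      ((X : (MvPolynomial (Fin a) ℤ)[X]) ^ (a - 1 + (0:ℤ).toNat) %ₘ P).coeff (a - 1)) = 1
    rw [if_neg (lt_irrefl _)]
    simp only [Int.toNat_zero, add_zero]
    rw [hlt _ (by omega), coeff_X_pow, if_pos rfl]
  · intro j hj
    let L : (MvPolynomial (Fin a) ℤ)[X] →ₗ[MvPolynomial (Fin a) ℤ] MvPolynomial (Fin a) ℤ :=
      (lcoeff (MvPolynomial (Fin a) ℤ) (a - 1)) ∘ₗ (modByMonicHom P)
    have hLdef : ∀ q, L q = (q %ₘ P).coeff (a - 1) := fun q => rfl
    have hL0 : L (X ^ (j - 1) * P) = 0 := by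
      rw [hLdef, (modByMonic_eq_zero_iff_dvd hPmonic).mpr (dvd_mul_left _ _), coeff_zero]
    have hterm : ∀ i ∈ Finset.range (a + 1),
        L (X ^ (j - 1) * ((-1) ^ i * (C (MvPolynomial.esymm (Fin a) ℤ i) * X ^ (a - i)))) =
          (-1 : MvPolynomial (Fin a) ℤ) ^ i * MvPolynomial.esymm (Fin a) ℤ i * coef ((j : ℤ) - i) := by
      intro i hi
      have hi' : i ≤ a := by have := Finset.mem_range.mp hi; omega
      have e1 : (X : (MvPolynomial (Fin a) ℤ)[X]) ^ (j - 1) *
          ((-1) ^ i * (C (MvPolynomial.esymm (Fin a) ℤ i) * X ^ (a - i))) =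
          ((-1 : MvPolynomial (Fin a) ℤ) ^ i * MvPolynomial.esymm (Fin a) ℤ i) •
            (X : (MvPolynomial (Fin a) ℤ)[X]) ^ (a - i + (j - 1)) := by
        rw [smul_eq_C_mul, C_mul, C_pow, C_neg, C_1, pow_add]; ring
      rw [e1, map_smul, smul_eq_mul]
      congr 1
      rw [hLdef]
      by_cases hij : i ≤ j
      · have hnn : ¬ ((j : ℤ) - i < 0) := by omega
        show _ = (if ((j:ℤ) - i) < 0 then 0 else
          ((X : (MvPolynomial (Fin a) ℤ)[X]) ^ (a - 1 + ((j:ℤ) - i).toNat) %ₘ P).coeff (a - 1))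
        rw [if_neg hnn]
        have : a - i + (j - 1) = a - 1 + ((j:ℤ) - i).toNat := by omega
        rw [this]
      · have hneg : ((j : ℤ) - i < 0) := by omega
        show _ = (if ((j:ℤ) - i) < 0 then 0 else
          ((X : (MvPolynomial (Fin a) ℤ)[X]) ^ (a - 1 + ((j:ℤ) - i).toNat) %ₘ P).coeff (a - 1))
        rw [if_pos hneg, hlt _ (by omega), coeff_X_pow, if_neg (by omega)]
    rw [← Finset.sum_congr rfl hterm, ← map_sum, ← Finset.mul_sum, ← hPexp]
    exact hL0

end Groth.Agent.S3214
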