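import Groth.Statements.S3240
import Groth.Agent.Lib.Helper5.DixTorsion
import Groth.Agent.Lib.Helper5.SerreShift

set_option autoImplicit false
universe u
open CategoryTheory AlgebraicGeometry
open Dix

namespace Groth.Agent.S3240


open CategoryTheory.Limits Opposite


open Groth.Agent.Lib.Helper5.LTorsion Groth.Agent.Lib.Helper5.EtSectDerived
  Groth.Agent.Lib.Helper5.LTorsionPush Groth.Agent.Lib.Helper5.DixTorsion
open Groth.Agent.Lib.Helper13.DerivedCommute Groth.Agent.Lib.Helper13.EdgeInIso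
open Groth.Agent.Lib.Helper13.FlatPullback

/-- subsheaves of torsion sheaves are torsion. -/
lemma isTorsion_of_mono {X : Scheme.{u}} {A B : EtCoh.Ab X} (f : A ⟶ B) [Mono f]
    (hB : EtCoh.IsTorsion B) : EtCoh.IsTorsion A := by
  intro U s x
  obtain ⟨V, g, hv, hfin⟩ := hB U ((f.hom.app (op U)).hom s) x
  refine ⟨V, g, hv, ?_⟩
  obtain ⟨m, hm, hs⟩ := isOfFinAddOrder_iff_nsmul_eq_zero.1 hfin
  refine isOfFinAddOrder_iff_nsmul_eq_zero.2 ⟨m, hm, ?_⟩
  have : Mono ((Γ V).map f) := inferInstance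
  apply (AddCommGrpCat.mono_iff_injective ((Γ V).map f)).1 inferInstance
  rw [map_zero, map_nsmul]
  refine Eq.trans ?_ hs
  exact congrArg (m • ·) (ConcreteCategory.congr_hom (f.hom.naturality g.op) s)

theorem part2 (X : Scheme.{u}) [CompactSpace X] [QuasiSeparatedSpace X] (k : Type u) [Field k]
    (i : Spec (CommRingCat.of k) ⟶ X)
    (hqc : ∀ V : X.Etale, IsAffine V.left → QuasiCompact ((EtCoh.bc i).obj V).hom)
    (F : EtCoh.Ab (Spec (CommRingCat.of k))) (q : ℕ) :
    Groth.Agent.Lib.Helper5.SerreShift.Tor (AddCommGrpCat.of (EtCoh.H X ((EtCoh.push i).obj F) (q + 1))) := by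
  have : (EtCoh.pull i).PreservesMonomorphisms := inferInstance
  have : (EtCoh.push i).PreservesInjectiveObjects :=
    Functor.preservesInjectiveObjects_of_adjunction_of_preservesMonomorphisms (EtCoh.pullPushAdj i)
  have : PreservesFiniteLimits (EtCoh.push i) := by
    haveI := (EtCoh.pullPushAdj i).rightAdjoint_preservesLimits
    infer_instance
  have : PreservesFiniteLimits (EtCore.gsec X) := by
    haveI := (EtCore.constAdj X).rightAdjoint_preservesLimits
    infer_instance
  have h := Groth.Agent.Lib.Helper5.SerreShift.tor_shift (EtCoh.push i) (EtCore.gsec X)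
    (fun T => EtCoh.IsTorsion T) (fun f _ hB => isTorsion_of_mono f hB)
    (fun F => isTorsion_Rpush_of_field k i hqc F 0)
    (fun T hT n => ?_) (fun F => ?_) q F
  · exact Groth.Agent.Lib.Helper5.SerreShift.Tor.of_iso (gsecDerivedIso X _ (q + 1)) h
  · intro c
    obtain ⟨m, hm, hc⟩ := Groth.Agent.Lib.Helper5.LTorsion.exists_nsmul_eq_zero Set.univ T
      (isLTorsion_univ_of_isTorsion T hT) n ((gsecDerivedIso X T n).hom.hom c)
    refine ⟨m, hm.1, ?_⟩
    apply (AddCommGrpCat.mono_iff_injective (gsecDerivedIso X T n).hom).1 inferInstance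
    rw [map_nsmul, map_zero]
    exact hc
  · let e : ((EtCoh.push i ⋙ EtCore.gsec X).rightDerived 1).obj F ≅
        AddCommGrpCat.of (EtCoh.H (Spec (CommRingCat.of k)) F (0 + 1)) :=
      rightDerivedObjIsoOfNatIso (EtCore.pushGsecIso i) 1 F ≪≫ gsecDerivedIso _ F 1
    refine Groth.Agent.Lib.Helper5.SerreShift.Tor.of_iso e.symm ?_
    intro c
    exact Groth.Agent.Lib.Helper15.TransferEfface.exists_nsmul_eq_zero k F 0 c

lemma hqc_of_qs (X : Scheme.{u}) [QuasiSeparatedSpace X] {S : Scheme.{u}} (i : S ⟶ X)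
    (V : X.Etale) (hV : IsAffine V.left) : QuasiCompact ((EtCoh.bc i).obj V).hom := by
  let Vl : Scheme.{u} := V.left
  let pV : Vl ⟶ X := V.hom
  have hVl : IsAffine Vl := hV
  have h1 : QuasiCompact pV := inferInstance
  have h2 : QuasiCompact (pullback.snd pV i) := inferInstance
  exact h2


/-- Let X be quasi-compact and quasi-separated, x a point of X with i_x : Spec κ(x) → X, and F an
abelian étale sheaf on Spec κ(x). Then for every q ≥ 1 the sheaf R^q i_{x*} F is a torsion sheaf on
X_ét and the group H^q(X_ét, i_{x*} F) is a torsion group. -/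
theorem result (X : Scheme.{u}) [CompactSpace X] [QuasiSeparatedSpace X] (x : X) (F : EtCoh.Ab (Spec (X.residueField x))) (q : ℕ) (hq : 1 ≤ q) : EtCoh.IsTorsion ((EtCoh.Rpush (X.fromSpecResidueField x) q).obj F) ∧ IsAddTorsion (EtCoh.H X ((Dix.skyPush X x).obj F) q) := by
  obtain ⟨q, rfl⟩ : ∃ r, q = r + 1 := ⟨q - 1, by omega⟩
  constructor
  · exact isTorsion_Rpush_of_field (X.residueField x) (X.fromSpecResidueField x)
      (fun V hV => hqc_of_qs X _ V hV) F q
  · have h := part2 X (X.residueField x) (X.fromSpecResidueField x)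
      (fun V hV => hqc_of_qs X _ V hV) F q
    intro c
    obtain ⟨n, hn, hc⟩ := h c
    exact isOfFinAddOrder_iff_nsmul_eq_zero.2 ⟨n, hn, hc⟩

end Groth.Agent.S3240
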