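-- S3245 (lead)
import Groth.Statements.S3245
import Mathlib
import Groth.Agent.Lib.Lead.AzumayaLocal

set_option autoImplicit false
set_option linter.style.haveILetI false
universe u
open TensorProduct
open Dix

namespace Groth.Agent.S3245

/-- (i) ⇔ (ii) over a local base: let R be a local ring with residue field k and A an R-algebra which is
finite and free as an R-module and nonzero. Then A is an Azumaya R-algebra (A ⊗_R A° → End_R(A)
bijective) if and only if k ⊗_R A is a central simple k-algebra. -/
theorem result (R : Type u) [CommRing R] [IsLocalRing R] (A : Type u) [Ring A] [Algebra R A] [Module.Finite R A] [Module.Free R A] [Nontrivial A] : IsAzumaya R A ↔ (Algebra.IsCentral (IsLocalRing.ResidueField R) ((IsLocalRing.ResidueField R) ⊗[R] A) ∧ IsSimpleRing ((IsLocalRing.ResidueField R) ⊗[R] A)) := by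
  classical
  let b : Module.Basis (Module.Free.ChooseBasisIndex R A) R A := Module.Free.chooseBasis R A
  let bk : Module.Basis (Module.Free.ChooseBasisIndex R A) (IsLocalRing.ResidueField R)
      ((IsLocalRing.ResidueField R) ⊗[R] A) :=
    Algebra.TensorProduct.basis (IsLocalRing.ResidueField R) b
  haveI : Nonempty (Module.Free.ChooseBasisIndex R A) := b.index_nonempty
  haveI : Nontrivial ((IsLocalRing.ResidueField R) ⊗[R] A) :=
    ⟨⟨bk (Classical.arbitrary _), 0, bk.ne_zero _⟩⟩
  haveI : FiniteDimensional (IsLocalRing.ResidueField R) ((IsLocalRing.ResidueField R) ⊗[R] A) :=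
    Module.Finite.of_basis bk
  have hMk : Groth.Agent.Lib.Lead.AzumayaLocal.M bk =
      (Groth.Agent.Lib.Lead.AzumayaLocal.M b).map (IsLocalRing.residue R) := by
    ext p q
    simp only [Groth.Agent.Lib.Lead.AzumayaLocal.M, Matrix.of_apply, Matrix.map_apply, bk,
      Algebra.TensorProduct.basis_apply, Algebra.TensorProduct.tmul_mul_tmul, mul_one,
      Algebra.TensorProduct.basis_repr_tmul, Finsupp.smul_apply, Finsupp.mapRange_apply,
      smul_eq_mul, one_mul]
    rfl
  have key : Function.Bijective (AlgHom.mulLeftRight R A) ↔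
      Function.Bijective (AlgHom.mulLeftRight (IsLocalRing.ResidueField R)
        ((IsLocalRing.ResidueField R) ⊗[R] A)) := by
    rw [Groth.Agent.Lib.Lead.AzumayaLocal.bijective_iff b,
      Groth.Agent.Lib.Lead.AzumayaLocal.bijective_iff bk, hMk, ← RingHom.mapMatrix_apply,
      ← RingHom.map_det]
    exact (isUnit_map_iff (IsLocalRing.residue R) _).symm
  constructor
  · intro hAz
    exact Groth.Agent.Lib.Lead.AzumayaLocal.csa_of_bijective (key.1 hAz.bij)
  · rintro ⟨hc, hs⟩
    haveI := hc
    haveI := hs
    have hb := key.2 Groth.Agent.Lib.Lead.AzumayaLocal.bijective_of_csa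
    exact { bij := hb }

end Groth.Agent.S3245
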