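-- S3248 (lead)
import Groth.Statements.S3248
import Mathlib
import Groth.Agent.Lib.Lead.CSA

set_option autoImplicit false
set_option linter.style.haveILetI false
universe u
open TensorProduct
open Dix

namespace Groth.Agent.S3248

/-- Stated for a commutative subalgebra: let A be a central simple algebra of dimension r² over a field
k and L a commutative k-algebra embedded in A by an injective k-algebra homomorphism ι, such that A
is free of rank r for the right L-module structure a · l = a ι(l) (given here as a module structure
together with that compatibility). Then L ⊗_k A is isomorphic as an L-algebra to the matrix algebra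
M_r(L). (Only the existence of an isomorphism is stated; the text names the map a ⊗ l ↦ (y ↦ a y
l).) -/
theorem result (k : Type u) [Field k] (A : Type u) [Ring A] [Algebra k A] [Algebra.IsCentral k A] [IsSimpleRing A] [FiniteDimensional k A] (L : Type u) [CommRing L] [Algebra k L] (ι : L →ₐ[k] A) (hι : Function.Injective ι) [Module L A] (hmod : ∀ (l : L) (a : A), l • a = a * ι l) [Module.Free L A] (r : ℕ) (hr : 0 < r) (hA : Module.finrank k A = r ^ 2) (hrank : Module.finrank L A = r) : Nonempty ((L ⊗[k] A) ≃ₐ[L] Matrix (Fin r) (Fin r) L) := by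
  classical
  haveI : IsScalarTower k L A := ⟨fun c l a => by rw [hmod, hmod, map_smul, mul_smul_comm]⟩
  haveI : SMulCommClass L k A := ⟨fun l c a => by rw [hmod, hmod, smul_mul_assoc]⟩
  haveI : Nontrivial L := by
    refine ⟨⟨0, 1, fun h => ?_⟩⟩
    have h01 : (0 : A) = 1 := by rw [← map_zero ι, ← map_one ι, h]
    exact zero_ne_one h01
  haveI : Module.Finite L A := Module.Finite.of_restrictScalars_finite k L A
  haveI : FiniteDimensional k L := FiniteDimensional.of_injective ι.toLinearMap hι
  let b : Module.Basis (Fin r) L A := Module.finBasisOfFinrankEq L A hrank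
  let g : A →ₐ[k] Module.End L A :=
    { toFun := fun a =>
        { toFun := fun y => a * y
          map_add' := mul_add a
          map_smul' := fun l y => by simp only [hmod, RingHom.id_apply, mul_assoc] }
      map_one' := by ext y; simp
      map_mul' := fun a a' => by ext y; simp [mul_assoc]
      map_zero' := by ext y; simp
      map_add' := fun a a' => by ext y; simp [add_mul]
      commutes' := fun c => by ext y; simp [Algebra.smul_def] }
  have hg : ∀ (a y : A), g a y = a * y := fun a y => rfl
  let f : L →ₐ[L] Module.End L A := Algebra.ofId L (Module.End L A)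
  have hf : ∀ (l : L) (y : A), f l y = l • y := fun l y => by
    simp [f, Algebra.ofId_apply]
  let φ : L ⊗[k] A →ₐ[L] Module.End L A := Algebra.TensorProduct.lift f g (fun l a => by
    rw [commute_iff_eq]
    ext y
    rw [Module.End.mul_apply, Module.End.mul_apply, hf, hf, hg, hg, hmod, hmod, mul_assoc])
  have hφ : ∀ (l : L) (a y : A), φ (l ⊗ₜ[k] a) y = l • (a * y) := fun l a y => by
    simp only [φ, Algebra.TensorProduct.lift_tmul, Module.End.mul_apply, hf, hg]
  have hφinj : Function.Injective φ := by
    rw [← TwoSidedIdeal.ker_eq_bot]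
    by_contra hne
    obtain ⟨l, hl, hlI⟩ := Groth.Agent.Lib.Lead.CSA.exists_tmul_one_mem_ideal
      (TwoSidedIdeal.ker φ) hne
    rw [TwoSidedIdeal.mem_ker] at hlI
    apply hl
    have h1 : φ (l ⊗ₜ[k] (1 : A)) (1 : A) = ι l := by
      rw [hφ, hmod, mul_one, one_mul]
    rw [hlI, LinearMap.zero_apply] at h1
    exact hι (by rw [← h1, map_zero])
  let ψ : L ⊗[k] A →ₐ[L] Matrix (Fin r) (Fin r) L := (algEquivMatrix b : _ →ₐ[L] _).comp φ
  have hψinj : Function.Injective ψ := (algEquivMatrix b).injective.comp hφinj
  have hfr : Module.finrank k (L ⊗[k] A) = Module.finrank k (Matrix (Fin r) (Fin r) L) := by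
    rw [Module.finrank_tensorProduct, Module.finrank_matrix, hA]
    simp only [Fintype.card_fin]
    ring
  have hψsurj : Function.Surjective ψ :=
    (LinearMap.injective_iff_surjective_of_finrank_eq_finrank hfr
      (f := ψ.toLinearMap.restrictScalars k)).1 hψinj
  exact ⟨AlgEquiv.ofBijective ψ ⟨hψinj, hψsurj⟩⟩

end Groth.Agent.S3248
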