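import Groth.Statements.S3288
import Groth.Agent.Lib.Helper3.LambdaAdams

set_option autoImplicit false
universe u
open Finset
open LambdaRing

namespace Groth.Agent.S3288

open PowerSeries LambdaRing Groth.Agent.Lib.Helper3.LambdaAdams Groth.Agent.Lib.Helper6.LambdaBasic

/-- In a λ-ring with positive structure having the splitting property, for a positive element e the
augmentation of λ^i(e) is the binomial coefficient C(ε(e), i). -/
theorem result (K : Type u) [CommRing K] [LambdaRing.LambdaOps K] (P : LambdaRing.PosStructure K) (hK : LambdaRing.HasSplitting K P) (e : K) (he : e ∈ P.pos)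
    (i : ℕ) : P.aug (LambdaRing.LambdaOps.lam i e) = ((P.aug e).toNat.choose i : ℤ) := by
  obtain ⟨L, f, hf, -, s, hs, hsum⟩ := exists_split hK e he
  have haug : P.aug e = (Multiset.card s : ℤ) := by
    rw [← hf.aug_comp, ← hsum, aug_sum_lines L.posStr s hs]
  have h1 : P.aug (LambdaOps.lam i e) =
      coeff i (PowerSeries.map L.posStr.aug (lamSeries (f e))) := by
    rw [coeff_map, lamSeries, coeff_mk, ← hf.isLambdaHom, hf.aug_comp]
  have h2 : PowerSeries.map L.posStr.aug (lamSeries (f e)) =
      ((1 + Polynomial.X : Polynomial ℤ) ^ (Multiset.card s) : Polynomial ℤ) := by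
    rw [← hsum, lamSeries_sum_lines L.posStr s hs, map_multiset_prod, Multiset.map_map]
    have hcongr : Multiset.map ((PowerSeries.map L.posStr.aug) ∘ fun u => (1 + C u * X : PowerSeries L.carrier)) s =
        Multiset.map (fun _ => (1 + X : PowerSeries ℤ)) s := by
      apply Multiset.map_congr rfl
      intro u hu
      simp only [Function.comp_apply]
      rw [map_add, map_one, map_mul, map_C, map_X, (hs u hu).2, map_one, one_mul]
    rw [hcongr, Multiset.map_const', Multiset.prod_replicate]
    push_cast
    rfl
  rw [h1, h2, Polynomial.coeff_coe, Polynomial.coeff_one_add_X_pow, haug]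
  simp

end Groth.Agent.S3288
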