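import Groth.Statements.S3291
import Mathlib.Tactic

set_option autoImplicit false
universe u
open Finset
open LambdaRing

namespace Groth.Agent.S3291

/-- The γ-filtration F^n K of a λ-ring with positive structure (F^0 = K, F^n for n ≥ 1 generated
additively by products γ^(r₁)(x₁)⋯γ^(r_k)(x_k) with ε(x_i) = 0 and Σ r_i ≥ n) consists of ideals,
and F^m · F^n ⊆ F^(m+n). -/
theorem result (K : Type u) [CommRing K] [LambdaRing.LambdaOps K] (P : LambdaRing.PosStructure K) :
    (∀ (n : ℕ) (a x : K), x ∈ LambdaRing.gammaFiltration P n → a * x ∈ LambdaRing.gammaFiltration P n) ∧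
    ∀ (m n : ℕ) (x y : K), x ∈ LambdaRing.gammaFiltration P m → y ∈ LambdaRing.gammaFiltration P n →
      x * y ∈ LambdaRing.gammaFiltration P (m + n) := by
  classical
  set S : ℕ → Set K := fun n => {y | ∃ (l : List (ℕ × K)), (∀ p ∈ l, P.aug p.2 = 0) ∧
        n ≤ (l.map Prod.fst).sum ∧
        y = (l.map fun p => LambdaRing.gamma p.1 p.2).prod} with hS
  have hF : ∀ n, n ≠ 0 → LambdaRing.gammaFiltration P n = AddSubgroup.closure (S n) := by
    intro n hn
    unfold LambdaRing.gammaFiltration
    rw [if_neg hn]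
  have hF0 : LambdaRing.gammaFiltration P 0 = ⊤ := by
    unfold LambdaRing.gammaFiltration; rw [if_pos rfl]
  have hg1 : ∀ x : K, LambdaRing.gamma 1 x = x := by
    intro x
    simp [LambdaRing.gamma, Finset.sum_range_succ, LambdaRing.LambdaOps.lam_one]
  have h1 : ∀ (n : ℕ) (a x : K), x ∈ LambdaRing.gammaFiltration P n →
      a * x ∈ LambdaRing.gammaFiltration P n := by
    intro n a x hx
    rcases Nat.eq_zero_or_pos n with hn | hn
    · subst hn; rw [hF0]; exact AddSubgroup.mem_top _
    · rw [hF n hn.ne'] at hx ⊢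
      refine AddSubgroup.closure_induction
        (p := fun x _ => a * x ∈ AddSubgroup.closure (S n)) ?_ ?_ ?_ ?_ hx
      · rintro y ⟨l, hl, hsum, rfl⟩
        have hsplit : a * (l.map fun p => LambdaRing.gamma p.1 p.2).prod =
            (((1, a - (P.aug a : K)) :: l).map fun p => LambdaRing.gamma p.1 p.2).prod +
              (P.aug a) • (l.map fun p => LambdaRing.gamma p.1 p.2).prod := by
          rw [List.map_cons, List.prod_cons, hg1, zsmul_eq_mul]; ring
        rw [hsplit]
        have hy₀ : (l.map fun p => LambdaRing.gamma p.1 p.2).prod ∈ AddSubgroup.closure (S n) :=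
          AddSubgroup.subset_closure ⟨l, hl, hsum, rfl⟩
        refine add_mem (AddSubgroup.subset_closure ⟨(1, a - (P.aug a : K)) :: l, ?_, ?_, rfl⟩)
          (AddSubgroup.zsmul_mem _ hy₀ _)
        · intro p hp
          rcases List.mem_cons.mp hp with rfl | hp
          · simp
          · exact hl p hp
        · rw [List.map_cons, List.sum_cons]; omega
      · rw [mul_zero]; exact zero_mem _
      · intro x y _ _ hx hy; rw [mul_add]; exact add_mem hx hy
      · intro x _ hx; rw [mul_neg]; exact neg_mem hx
  refine ⟨h1, ?_⟩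
  intro m n x y hx hy
  rcases Nat.eq_zero_or_pos m with hm | hm
  · subst hm; rw [zero_add]; exact h1 n x y hy
  rcases Nat.eq_zero_or_pos n with hn | hn
  · subst hn; rw [add_zero, mul_comm]; exact h1 m y x hx
  rw [hF m hm.ne'] at hx
  rw [hF n hn.ne'] at hy
  rw [hF (m + n) (by omega)]
  refine AddSubgroup.closure_induction
    (p := fun y _ => x * y ∈ AddSubgroup.closure (S (m + n))) ?_ ?_ ?_ ?_ hy
  · rintro y₀ ⟨l₂, hl₂, hsum₂, rfl⟩
    refine AddSubgroup.closure_induction
      (p := fun x _ => x * (l₂.map fun p => LambdaRing.gamma p.1 p.2).prod ∈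
        AddSubgroup.closure (S (m + n))) ?_ ?_ ?_ ?_ hx
    · rintro x₀ ⟨l₁, hl₁, hsum₁, rfl⟩
      refine AddSubgroup.subset_closure ⟨l₁ ++ l₂, ?_, ?_, ?_⟩
      · intro p hp
        rcases List.mem_append.mp hp with hp | hp
        · exact hl₁ p hp
        · exact hl₂ p hp
      · rw [List.map_append, List.sum_append]; omega
      · rw [List.map_append, List.prod_append]
    · rw [zero_mul]; exact zero_mem _
    · intro x y _ _ hx hy; rw [add_mul]; exact add_mem hx hy
    · intro x _ hx; rw [neg_mul]; exact neg_mem hx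
  · rw [mul_zero]; exact zero_mem _
  · intro y z _ _ hy hz; rw [mul_add]; exact add_mem hy hz
  · intro y _ hy; rw [mul_neg]; exact neg_mem hy

end Groth.Agent.S3291
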