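import Groth.Statements.S3314
import Groth.Agent.Lib.Helper7.MTwB
import Groth.Agent.Lib.Helper25.ModelGamma
import Groth.Agent.S3317
import Groth.Agent.S3319

set_option autoImplicit false
universe u
open CategoryTheory CategoryTheory.Limits AlgebraicGeometry
open Models

namespace Groth.Agent.S3314

/-- Let R be a discrete valuation ring with fraction field K, C a smooth proper curve over K with H⁰(C,
O_C) = K, X a regular proper model of C over R, Γ_1, …, Γ_n the irreducible components of the closed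
fibre with multiplicities m_i, and L_i invertible O_X-modules with L_i ⊗ I(Γ_i) ≅ O_X (that is, L_i
= O_X(Γ_i)). For exponent vectors a, b with natural-number entries, the modules L_1^{a_1} ⊗ ⋯ ⊗
L_n^{a_n} and L_1^{b_1} ⊗ ⋯ ⊗ L_n^{b_n} are isomorphic if and only if a − b is an integer multiple
of (m_1, …, m_n). (Equivalently: the kernel of ℤⁿ → Pic(X), e_i ↦ [O_X(Γ_i)], is generated by (m_1,
…, m_n).) -/
theorem result (R : Type u) [CommRing R] [IsDomain R] [IsDiscreteValuationRing R]
    (C X : Scheme.{u}) (f : C ⟶ Spec (CommRingCat.of (FractionRing R))) (p : X ⟶ Spec (CommRingCat.of R))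
    (hC : Curve.IsSmoothProperCurve (FractionRing R) C f) (hH0 : IsIso f.appTop)
    (hX : Models.IsRegularProperModel R X p C f)
    {n : ℕ} (Γ : Fin n → ArSurf.VertComp R (Over.mk p)) (hΓ : Models.IsComponentList R (Over.mk p) Γ)
    (L : Fin n → X.Modules) (hL : ∀ i, ClSub.IsInverseOf (L i) (ClSub.idealMod (Γ i).ι.ker)) (a b : Fin n → ℕ) :
    Nonempty (FGA.multiTwist L a ≅ FGA.multiTwist L b) ↔
      ∃ c : ℤ, ∀ i, (a i : ℤ) - (b i : ℤ) = c * (Models.mult R (Over.mk p) (Γ i) : ℤ) := by
  obtain ⟨⟨hflat, hlft, hqc, g, hsq⟩, hproper, hreg⟩ := hX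
  haveI : Flat (Over.mk p).hom := hflat
  haveI : Flat p := hflat
  haveI : IsProper p := hproper
  have hX' : Models.IsRegularProperModel R X p C f := ⟨⟨hflat, hlft, hqc, g, hsq⟩, hproper, hreg⟩
  have hbij := Groth.Agent.Lib.Helper25.ModelGamma.toSec_top_bijective R f p g hsq hH0
  have hsurj : ∀ h : Γ((Over.mk p).left, ⊤), ∃ r : R,
      Groth.Agent.Lib.Helper7.FibFacB.unif (Over.mk p) r = h := by
    intro h
    obtain ⟨r, hr⟩ := hbij.2 h
    refine ⟨r, ?_⟩
    rw [← hr]
    unfold Groth.Agent.Lib.Helper7.FibFacB.unif Coh.toGlobal Groth.Agent.Lib.Helper17.SpecBC.toSec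
    simp only [Scheme.Hom.appLE, CommRingCat.hom_comp, RingHom.coe_comp, Function.comp_apply]
    change _ = (X.presheaf.map (𝟙 (Opposite.op (⊤ : X.Opens)))).hom _
    rw [X.presheaf.map_id]
    rfl
  exact Groth.Agent.Lib.Helper7.MTwB.main3314 R (Over.mk p) hproper hreg Γ hΓ L hL
    (fun i j hij => (Groth.Agent.S3317.result R C X f p hC hH0 hX' Γ hΓ L hL i j hij).1)
    (fun I hI hI' => Groth.Agent.S3319.result R C X f p hC hH0 hX' Γ hΓ L hL I hI hI')
    hsurj a b

end Groth.Agent.S3314
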