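import Groth.Statements.S3322
import Groth.Agent.Lib.Helper7.NumType
import Groth.Agent.Lib.Helper7.FibFacG
import Groth.Agent.Lib.Helper7.MTwD
import Groth.Agent.Lib.Helper25.ModelGamma
import Groth.Agent.S3316
import Groth.Agent.S3317
import Groth.Agent.S3319
import Groth.Agent.S3321

set_option autoImplicit false
universe u
open CategoryTheory CategoryTheory.Limits AlgebraicGeometry
open Models

namespace Groth.Agent.S3322

/-- In the following situation (R a discrete valuation ring with residue field k, C a smooth proper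
curve over its fraction field K with H^0(C, O_C) = K, X a regular proper model, Γ_1, …, Γ_n the
irreducible components of the closed fibre with multiplicities m_i, L_i ⊗ I(Γ_i) ≅ O_X) the data n,
m_i, a_ij = (Γ_i · Γ_j) = deg_k(L_j|Γ_i), w_i = dim_k H^0(Γ_i, O) and g_i with w_i g_i = dim_k
H^1(Γ_i, O) is a numerical type (n > 0, m_i > 0, (a_ij) symmetric with non-negative off-diagonal
entries, connected, killing m, w_i | a_ij, g_i ≥ 0), and its genus is the genus dim_K H^1(C, O_C) of
C. -/
theorem result (R : Type u) [CommRing R] [IsDomain R] [IsDiscreteValuationRing R]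
    (C X : Scheme.{u}) (f : C ⟶ Spec (CommRingCat.of (FractionRing R))) (p : X ⟶ Spec (CommRingCat.of R))
    (hC : Curve.IsSmoothProperCurve (FractionRing R) C f) (hH0 : IsIso f.appTop)
    (hX : Models.IsRegularProperModel R X p C f)
    {n : ℕ} (Γ : Fin n → ArSurf.VertComp R (Over.mk p)) (hΓ : Models.IsComponentList R (Over.mk p) Γ)
    (L : Fin n → X.Modules) (hL : ∀ i, ClSub.IsInverseOf (L i) (ClSub.idealMod (Γ i).ι.ker)) :
    ∃ T : Models.NumericalType n,
      (∀ i, T.m i = (Models.mult R (Over.mk p) (Γ i) : ℤ)) ∧ (∀ i j, T.a i j = ArSurf.inter R (Over.mk p) (L j) (Γ i)) ∧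
      (∀ i, T.w i = (Models.wdeg R (Over.mk p) (Γ i) : ℤ)) ∧
      (∀ i, T.w i * T.g i = (Models.h1 R (Over.mk p) (Γ i) : ℤ)) ∧
      T.genus = (Models.curveGenus (FractionRing R) C f : ℤ) := by
  have hX' := hX
  obtain ⟨⟨hflat, hlft, hqc, g', hsq'⟩, hproper, hreg⟩ := hX
  haveI : Flat (Over.mk p).hom := hflat
  haveI : Flat p := hflat
  haveI : IsProper p := hproper
  haveI : IsProper (Over.mk p).hom := hproper
  haveI : IsLocallyNoetherian (Over.mk p).left :=
    LocallyOfFiniteType.isLocallyNoetherian (Over.mk p).hom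
  haveI : CompactSpace (Over.mk p).left :=
    QuasiCompact.compactSpace_of_compactSpace (Over.mk p).hom
  haveI : IsNoetherian (Over.mk p).left := {}
  have hne : (Models.specialFibreSet R (Over.mk p)).Nonempty := by
    have hiso : IsIso (p.app ⊤) :=
      Groth.Agent.Lib.Helper25.ModelGamma.isIso_app_of_isAffineOpen R f p g' hsq' hH0 ⊤
        (isAffineOpen_top _)
    exact (Groth.Agent.Lib.Helper13.ZariskiConn.isConnected_preimage_singleton p
      (IsLocalRing.closedPoint R) (isAffineOpen_top _) trivial hiso).nonempty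
  obtain ⟨i0⟩ := Groth.Agent.Lib.Helper7.MTwD.nonempty_fin R (Over.mk p) Γ hΓ hne
  have hwdvd : ∀ i, Models.wdeg R (Over.mk p) (Γ i) ∣ Models.h1 R (Over.mk p) (Γ i) := fun i =>
    Groth.Agent.Lib.Helper7.NumType.wdeg_dvd_h1 hproper (Γ i)
  let T : Models.NumericalType n :=
    { m := fun i => (Models.mult R (Over.mk p) (Γ i) : ℤ)
      a := Matrix.of fun i j => ArSurf.inter R (Over.mk p) (L j) (Γ i)
      w := fun i => (Models.wdeg R (Over.mk p) (Γ i) : ℤ)
      g := fun i => ((Models.h1 R (Over.mk p) (Γ i) / Models.wdeg R (Over.mk p) (Γ i) : ℕ) : ℤ)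
      pos := Fin.pos i0
      m_pos := fun i => by
        exact_mod_cast Groth.Agent.Lib.Helper7.FibFacG.mult_pos' R (Over.mk p) hreg Γ hΓ i
      w_pos := fun i => by
        exact_mod_cast Groth.Agent.Lib.Helper7.NumType.wdeg_pos hproper (Γ i)
      g_nonneg := fun i => Int.natCast_nonneg _
      symm := by
        apply Matrix.IsSymm.ext
        intro i j
        exact (Groth.Agent.S3316.result R C X f p hC hH0 hX' Γ hΓ L hL i j).symm
      offDiag_nonneg := fun i j hij =>
        (Groth.Agent.S3317.result R C X f p hC hH0 hX' Γ hΓ L hL i j hij).1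
      connected := fun I hI hI' =>
        Groth.Agent.S3319.result R C X f p hC hH0 hX' Γ hΓ L hL I hI hI'
      mulVec_m := by
        funext i
        have h := Groth.Agent.Lib.Helper7.FibFacG.sum_mult_inter_eq_zero' R (Over.mk p)
          hproper hreg Γ hΓ L hL i
        change ∑ j, ArSurf.inter R (Over.mk p) (L j) (Γ i) *
          (Models.mult R (Over.mk p) (Γ j) : ℤ) = 0
        rw [← h]
        exact Finset.sum_congr rfl (fun j _ => mul_comm _ _)
      w_dvd := fun i j =>
        Groth.Agent.Lib.Helper7.NumType.wdeg_dvd_inter hproper (Γ i) (L j) }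
  have hg : ∀ i, T.w i * T.g i = (Models.h1 R (Over.mk p) (Γ i) : ℤ) := fun i => by
    change (Models.wdeg R (Over.mk p) (Γ i) : ℤ) *
      ((Models.h1 R (Over.mk p) (Γ i) / Models.wdeg R (Over.mk p) (Γ i) : ℕ) : ℤ) = _
    exact_mod_cast Nat.mul_div_cancel' (hwdvd i)
  refine ⟨T, fun i => rfl, fun i j => rfl, fun i => rfl, hg, ?_⟩
  exact Groth.Agent.Lib.Helper7.NumType.genus_eq T _
    (fun i => (Models.h1 R (Over.mk p) (Γ i) : ℤ)) hg
    (Groth.Agent.S3321.result R C X f p hC hH0 hX' Γ hΓ L hL)

end Groth.Agent.S3322
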