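import Groth.Statements.S3340
import Groth.Agent.Lib.Helper7.MTwF
import Groth.Agent.S3317
import Groth.Agent.S3319

set_option autoImplicit false
universe u
open CategoryTheory CategoryTheory.Limits AlgebraicGeometry
open Models

namespace Groth.Agent.S3340

/-- In the following situation (R a discrete valuation ring, C a smooth proper curve over its fraction
field K with H^0(C, O_C) = K, X a regular proper model with generic-fibre inclusion g, Γ_1, …, Γ_n
the irreducible components of the closed fibre with multiplicities m_i) let d = gcd(m_1, …, m_n). If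
M is an invertible O_X-module whose pullback to C is trivial and whose degree on each Γ_i is zero,
then the d-th tensor power of M is trivial. -/
theorem result (R : Type u) [CommRing R] [IsDomain R] [IsDiscreteValuationRing R]
    (C X : Scheme.{u}) (f : C ⟶ Spec (CommRingCat.of (FractionRing R))) (p : X ⟶ Spec (CommRingCat.of R))
    (hC : Curve.IsSmoothProperCurve (FractionRing R) C f) (hH0 : IsIso f.appTop)
    (hX : Models.IsRegularProperModel R X p C f)
    {n : ℕ} (Γ : Fin n → ArSurf.VertComp R (Over.mk p)) (hΓ : Models.IsComponentList R (Over.mk p) Γ)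
    (g : C ⟶ X) (hg : IsPullback g f p (Spec.map (CommRingCat.ofHom (algebraMap R (FractionRing R))))) (M : X.Modules) (hM : PicF.IsInvertible M)
    (htriv : Nonempty ((Scheme.Modules.pullback g).obj M ≅ Coh.structureModule C))
    (hdeg : ∀ i, ArSurf.inter R (Over.mk p) M (Γ i) = 0) :
    Nonempty (CohB1.tensorPow M (Models.multGcd R (Over.mk p) Γ) ≅ Coh.structureModule X) := by
  have hX' := hX
  obtain ⟨⟨hflat, hlft, hqc, g', hsq'⟩, hproper, hreg⟩ := hX
  haveI : Flat (Over.mk p).hom := hflat
  haveI : Flat p := hflat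
  haveI : IsProper p := hproper
  obtain ⟨ϖ, hϖ⟩ := IsDiscreteValuationRing.exists_irreducible R
  haveI : IsOpenImmersion (Spec.map (CommRingCat.ofHom (algebraMap R (FractionRing R)))) := by
    haveI : IsLocalization.Away ϖ (FractionRing R) :=
      Groth.Agent.Lib.Helper1.DVRFib.isLocalization_away_of_dvr R (FractionRing R) ϖ hϖ
    exact IsOpenImmersion.of_isLocalization ϖ
  haveI : IsOpenImmersion g :=
    MorphismProperty.of_isPullback (P := @IsOpenImmersion) hg.flip inferInstance
  have hle := Groth.Agent.Lib.Helper7.MTwC.basicOpen_le_image R (Over.mk p) f g hg ϖ hϖ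
  have hInv := fun j => Groth.Agent.Lib.Helper7.MTwB.isInvertible_ker R (Over.mk p) hproper hreg Γ hΓ j
  have hL : ∀ j, ClSub.IsInverseOf
      (Groth.Agent.Lib.Helper23.Inverse.dual (ClSub.idealMod (Γ j).ι.ker))
      (ClSub.idealMod (Γ j).ι.ker) := fun j => by
    obtain ⟨e⟩ := Groth.Agent.Lib.Helper23.Inverse.tensor_dual_iso (hInv j)
    exact ⟨Groth.Agent.Lib.Helper3.InvMonoidal.braid _ _ ≪≫ e⟩
  have key := Groth.Agent.Lib.Helper7.MTwF.main3340 R (Over.mk p) hproper hreg Γ hΓ
    (fun j => Groth.Agent.Lib.Helper23.Inverse.dual (ClSub.idealMod (Γ j).ι.ker)) hL g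
    (fun i j hij => (Groth.Agent.S3317.result R C X f p hC hH0 hX' Γ hΓ _ hL i j hij).1)
    (fun I hI hI' => Groth.Agent.S3319.result R C X f p hC hH0 hX' Γ hΓ _ hL I hI hI')
    ϖ hϖ hle M hM htriv hdeg
  rw [← Groth.Agent.Lib.Helper7.MTwA.cl_tensorPow, Groth.Agent.Lib.Helper7.MTwA.cl_eq_one_iff] at key
  obtain ⟨e⟩ := key
  exact ⟨e.symm⟩

end Groth.Agent.S3340
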