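import Groth.Statements.S3341
import Groth.Agent.Lib.Helper7.MTwD
import Groth.Agent.S19918

set_option autoImplicit false
universe u
open CategoryTheory CategoryTheory.Limits AlgebraicGeometry
open Models

namespace Groth.Agent.S3341

/-- In the following situation (R a discrete valuation ring, C a smooth proper curve over its fraction
field K with H^0(C, O_C) = K, X a regular proper model with generic-fibre inclusion g, Γ_1, …, Γ_n
the irreducible components of the closed fibre with multiplicities m_i) let d = gcd(m_1, …, m_n) and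
let h ≥ 1 be prime to d. If M is an invertible O_X-module with M^{⊗h} ≅ O_X whose pullback to C is
trivial, then M ≅ O_X: the map Pic(X)[h] → Pic(C)[h] is injective. -/
theorem result (R : Type u) [CommRing R] [IsDomain R] [IsDiscreteValuationRing R]
    (C X : Scheme.{u}) (f : C ⟶ Spec (CommRingCat.of (FractionRing R))) (p : X ⟶ Spec (CommRingCat.of R))
    (hC : Curve.IsSmoothProperCurve (FractionRing R) C f) (hH0 : IsIso f.appTop)
    (hX : Models.IsRegularProperModel R X p C f)
    {n : ℕ} (Γ : Fin n → ArSurf.VertComp R (Over.mk p)) (hΓ : Models.IsComponentList R (Over.mk p) Γ)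
    (g : C ⟶ X) (hg : IsPullback g f p (Spec.map (CommRingCat.ofHom (algebraMap R (FractionRing R))))) (h : ℕ) (hh : 0 < h) (hcop : Nat.Coprime h (Models.multGcd R (Over.mk p) Γ))
    (M : X.Modules) (hM : PicF.IsInvertible M)
    (htors : Nonempty (CohB1.tensorPow M h ≅ Coh.structureModule X))
    (htriv : Nonempty ((Scheme.Modules.pullback g).obj M ≅ Coh.structureModule C)) :
    Nonempty (M ≅ Coh.structureModule X) := by
  have hX' := hX
  obtain ⟨⟨hflat, hlft, hqc, g', hsq'⟩, hproper, hreg⟩ := hX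
  haveI : Flat (Over.mk p).hom := hflat
  haveI : Flat p := hflat
  haveI : IsProper p := hproper
  have hInv := fun j => Groth.Agent.Lib.Helper7.MTwB.isInvertible_ker R (Over.mk p) hproper hreg Γ hΓ j
  have hL : ∀ j, ClSub.IsInverseOf
      (Groth.Agent.Lib.Helper23.Inverse.dual (ClSub.idealMod (Γ j).ι.ker))
      (ClSub.idealMod (Γ j).ι.ker) := fun j => by
    obtain ⟨e⟩ := Groth.Agent.Lib.Helper23.Inverse.tensor_dual_iso (hInv j)
    exact ⟨Groth.Agent.Lib.Helper3.InvMonoidal.braid _ _ ≪≫ e⟩
  obtain ⟨k, ⟨hk1, ⟨e⟩⟩, -⟩ := Groth.Agent.S19918.result R C X f p hC hH0 hX' Γ hΓ g hg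
    (fun j => Groth.Agent.Lib.Helper23.Inverse.dual (ClSub.idealMod (Γ j).ι.ker)) hL h hh M hM
    htors htriv
  have hk0 : k = 0 := by
    have h1 : Nat.gcd h (Models.multGcd R (Over.mk p) Γ) = 1 := hcop
    rw [h1] at hk1
    omega
  subst hk0
  have h1 : PicF.cl M = 1 := by
    rw [(Groth.Agent.Lib.Helper13.ClMon.cl_eq_iff _ _).2 ⟨e⟩,
      Groth.Agent.Lib.Helper7.MTwA.cl_multiTwist]
    simp
  obtain ⟨e'⟩ := (Groth.Agent.Lib.Helper7.MTwA.cl_eq_one_iff M).1 h1
  exact ⟨e'.symm⟩

end Groth.Agent.S3341
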