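import Groth.Statements.S3342
import Groth.Agent.Lib.Helper7.MTwG
import Groth.Agent.Lib.Helper25.ModelGamma
import Groth.Agent.S3317
import Groth.Agent.S3319

set_option autoImplicit false
universe u
open CategoryTheory CategoryTheory.Limits AlgebraicGeometry
open Models

namespace Groth.Agent.S3342

/-- In the following situation (R a discrete valuation ring with residue field k, C a smooth proper
curve over its fraction field K with H^0(C, O_C) = K, X a regular proper model with generic-fibre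
inclusion g, Γ_1, …, Γ_n the irreducible components of the closed fibre with multiplicities m_i, L_j
⊗ I(Γ_j) ≅ O_X, a_ij = deg_k(L_j|Γ_i), w_i = dim_k H^0(Γ_i, O)) let d = gcd(m_i) and h ≥ 1 prime to
d. Let N be an invertible O_C-module with N^{⊗h} ≅ O_C which is the restriction of an invertible
O_X-module M whose degree vector (deg_k(M|Γ_i) / w_i)_i lies in the image of the matrix (a_ij / w_i)
(that is, the class of N maps to zero in the Picard group of the numerical type). Then N is the
restriction of an invertible O_X-module M' with M'^{⊗h} ≅ O_X. -/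
theorem result (R : Type u) [CommRing R] [IsDomain R] [IsDiscreteValuationRing R]
    (C X : Scheme.{u}) (f : C ⟶ Spec (CommRingCat.of (FractionRing R))) (p : X ⟶ Spec (CommRingCat.of R))
    (hC : Curve.IsSmoothProperCurve (FractionRing R) C f) (hH0 : IsIso f.appTop)
    (hX : Models.IsRegularProperModel R X p C f)
    {n : ℕ} (Γ : Fin n → ArSurf.VertComp R (Over.mk p)) (hΓ : Models.IsComponentList R (Over.mk p) Γ)
    (g : C ⟶ X) (hg : IsPullback g f p (Spec.map (CommRingCat.ofHom (algebraMap R (FractionRing R))))) (L : Fin n → X.Modules) (hL : ∀ i, ClSub.IsInverseOf (L i) (ClSub.idealMod (Γ i).ι.ker))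
    (h : ℕ) (hh : 0 < h) (hcop : Nat.Coprime h (Models.multGcd R (Over.mk p) Γ))
    (N : C.Modules) (hN : PicF.IsInvertible N) (hNt : Nonempty (CohB1.tensorPow N h ≅ Coh.structureModule C))
    (M : X.Modules) (hM : PicF.IsInvertible M) (hMN : Nonempty ((Scheme.Modules.pullback g).obj M ≅ N))
    (v : Fin n → ℤ)
    (hv : ∀ i, ArSurf.inter R (Over.mk p) M (Γ i) = ∑ j, ArSurf.inter R (Over.mk p) (L j) (Γ i) * v j) :
    ∃ M' : X.Modules, PicF.IsInvertible M' ∧ Nonempty (CohB1.tensorPow M' h ≅ Coh.structureModule X) ∧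
      Nonempty ((Scheme.Modules.pullback g).obj M' ≅ N) := by
  obtain ⟨⟨hflat, hlft, hqc, g', hsq'⟩, hproper, hreg⟩ := hX
  haveI : Flat (Over.mk p).hom := hflat
  haveI : Flat p := hflat
  haveI : IsProper p := hproper
  have hX' : Models.IsRegularProperModel R X p C f :=
    ⟨⟨hflat, hlft, hqc, g', hsq'⟩, hproper, hreg⟩
  obtain ⟨ϖ, hϖ⟩ := IsDiscreteValuationRing.exists_irreducible R
  have hbij := Groth.Agent.Lib.Helper25.ModelGamma.toSec_top_bijective R f p g hg hH0
  have hsurj : ∀ h : Γ((Over.mk p).left, ⊤), ∃ r : R,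
      Groth.Agent.Lib.Helper7.FibFacB.unif (Over.mk p) r = h := by
    intro h
    obtain ⟨r, hr⟩ := hbij.2 h
    refine ⟨r, ?_⟩
    rw [← hr]
    unfold Groth.Agent.Lib.Helper7.FibFacB.unif Coh.toGlobal Groth.Agent.Lib.Helper17.SpecBC.toSec
    simp only [Scheme.Hom.appLE, CommRingCat.hom_comp, RingHom.coe_comp, Function.comp_apply]
    change _ = (X.presheaf.map (𝟙 (Opposite.op (⊤ : X.Opens)))).hom _
    rw [X.presheaf.map_id]
    rfl
  haveI : IsOpenImmersion (Spec.map (CommRingCat.ofHom (algebraMap R (FractionRing R)))) := by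
    haveI : IsLocalization.Away ϖ (FractionRing R) :=
      Groth.Agent.Lib.Helper1.DVRFib.isLocalization_away_of_dvr R (FractionRing R) ϖ hϖ
    exact IsOpenImmersion.of_isLocalization ϖ
  haveI : IsOpenImmersion g :=
    MorphismProperty.of_isPullback (P := @IsOpenImmersion) hg.flip inferInstance
  have hle := Groth.Agent.Lib.Helper7.MTwC.basicOpen_le_image R (Over.mk p) f g hg ϖ hϖ
  have hMN' : PicF.pullCl g (PicF.cl M) = PicF.cl N := by
    rw [Groth.Agent.Lib.Helper13.ClMon.pullCl_cl]
    exact (Groth.Agent.Lib.Helper13.ClMon.cl_eq_iff _ _).2 hMN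
  have hNt' : PicF.cl N ^ h = 1 := by
    obtain ⟨e⟩ := hNt
    rw [← Groth.Agent.Lib.Helper7.MTwA.cl_tensorPow]
    exact (Groth.Agent.Lib.Helper7.MTwA.cl_eq_one_iff _).2 ⟨e.symm⟩
  obtain ⟨M', hM', h1, h2⟩ := Groth.Agent.Lib.Helper7.MTwG.main3342 R (Over.mk p) hproper hreg
    Γ hΓ L hL f g hg
    (fun i j hij => (Groth.Agent.S3317.result R C X f p hC hH0 hX' Γ hΓ L hL i j hij).1)
    (fun I hI hI' => Groth.Agent.S3319.result R C X f p hC hH0 hX' Γ hΓ L hL I hI hI')
    hsurj ϖ hϖ hle h hcop N hNt' M hM hMN' v hv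
  refine ⟨M', hM', ?_, ?_⟩
  · rw [← Groth.Agent.Lib.Helper7.MTwA.cl_tensorPow,
      Groth.Agent.Lib.Helper7.MTwA.cl_eq_one_iff] at h1
    obtain ⟨e1⟩ := h1
    exact ⟨e1.symm⟩
  · rw [Groth.Agent.Lib.Helper13.ClMon.pullCl_cl] at h2
    exact (Groth.Agent.Lib.Helper13.ClMon.cl_eq_iff _ _).1 h2

end Groth.Agent.S3342
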