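import Groth.Statements.S3349
import Mathlib
import Groth.Agent.Lib.Helper11.NumType
import Groth.Agent.Lib.Helper11.NumTypeGen
import Groth.Agent.Lib.Helper11.NumTypeBasic

set_option autoImplicit false
open Finset
open Models Models.NumericalType

namespace Groth.Agent.S3349

/-- Let T be a numerical type with exactly one index. Then a_11 = 0 and the genus of T is g = 1 + m_1
w_1 (g_1 - 1). Consequently: if g < 0 then g_1 = 0 (and m_1 w_1 = 1 - g); if g = 0 then m_1 = w_1 =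
1 and g_1 = 0; if g = 1 then g_1 = 1; if g > 1 then g_1 > 1 (and m_1 w_1 (g_1 - 1) = g - 1). -/
theorem result (T : Models.NumericalType 1) :
    T.a 0 0 = 0 ∧ T.genus = 1 + T.m 0 * T.w 0 * (T.g 0 - 1) ∧
      (T.genus < 0 → T.g 0 = 0) ∧ (T.genus = 0 → T.m 0 = 1 ∧ T.w 0 = 1 ∧ T.g 0 = 0) ∧
      (T.genus = 1 → T.g 0 = 1) ∧ (1 < T.genus → 1 < T.g 0) := by
  have ha := Lib.Helper11.NumType.single_a_zero T
  have hgen := Lib.Helper11.NumType.single_genus T
  have hm := T.m_pos 0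
  have hw := T.w_pos 0
  have hg0 := T.g_nonneg 0
  have hmw : 0 < T.m 0 * T.w 0 := mul_pos hm hw
  refine ⟨ha, hgen, ?_, ?_, ?_, ?_⟩
  · intro h
    by_contra hne
    have h1 : 0 ≤ T.g 0 - 1 := by omega
    have : 0 ≤ T.m 0 * T.w 0 * (T.g 0 - 1) := mul_nonneg hmw.le h1
    linarith
  · intro h
    rw [h] at hgen
    have hgz : T.g 0 = 0 := by
      by_contra hne
      have h1 : 0 ≤ T.g 0 - 1 := by omega
      have : 0 ≤ T.m 0 * T.w 0 * (T.g 0 - 1) := mul_nonneg hmw.le h1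
      linarith
    rw [hgz] at hgen
    have hmw1 : T.m 0 * T.w 0 = 1 := by linarith
    have h1 : T.m 0 ≤ T.m 0 * T.w 0 := le_mul_of_one_le_right hm.le hw
    have hm1 : T.m 0 = 1 := by omega
    rw [hm1, one_mul] at hmw1
    exact ⟨hm1, hmw1, hgz⟩
  · intro h
    rw [h] at hgen
    have h0 : T.m 0 * T.w 0 * (T.g 0 - 1) = 0 := by linarith
    rcases mul_eq_zero.mp h0 with h' | h'
    · exact absurd h' hmw.ne'
    · omega
  · intro h
    by_contra hne
    have h1 : T.g 0 - 1 ≤ 0 := by omega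
    have : T.m 0 * T.w 0 * (T.g 0 - 1) ≤ 0 := mul_nonpos_of_nonneg_of_nonpos hmw.le h1
    linarith

end Groth.Agent.S3349
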