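import Groth.Statements.S3350
import Mathlib
import Groth.Agent.Lib.Helper11.NumType
import Groth.Agent.Lib.Helper11.NumTypeGen
import Groth.Agent.Lib.Helper11.NumTypeBasic

set_option autoImplicit false
open Finset
open Models Models.NumericalType

namespace Groth.Agent.S3350

/-- Classification of proper subgraphs with two vertices: Let T be a numerical type on n > 2 indices and
i ≠ j two (-2)-indices (g = 0 and a_ii = -2 w_i, a_jj = -2 w_j) with a_ij > 0. Then, after possibly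
exchanging i and j, one of the following holds with w = w_i: (A2) w_j = w, a_ij = w, 2 m_i ≥ m_j and
2 m_j ≥ m_i; (B2) w_j = 2w, a_ij = 2w, m_i ≥ m_j and 2 m_j ≥ m_i; (G2) w_j = 3w, a_ij = 3w, 2 m_i ≥
3 m_j and 2 m_j ≥ m_i. -/
theorem result {n : ℕ} (T : Models.NumericalType n) (hn : 2 < n) (i j : Fin n)
    (hij : i ≠ j) (hi : T.IsMinusTwo i) (hj : T.IsMinusTwo j) (hpos : 0 < T.a i j) :
    ∃ i' j' : Fin n, ((i' = i ∧ j' = j) ∨ (i' = j ∧ j' = i)) ∧
      ((T.w j' = T.w i' ∧ T.a i' j' = T.w i' ∧ T.m j' ≤ 2 * T.m i' ∧ T.m i' ≤ 2 * T.m j') ∨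
        (T.w j' = 2 * T.w i' ∧ T.a i' j' = 2 * T.w i' ∧ T.m j' ≤ T.m i' ∧ T.m i' ≤ 2 * T.m j') ∨
        (T.w j' = 3 * T.w i' ∧ T.a i' j' = 3 * T.w i' ∧ 3 * T.m j' ≤ 2 * T.m i' ∧ T.m i' ≤ 2 * T.m j')) := by
  have hinj : Function.Injective ![i, j] := by
    intro a b hab
    fin_cases a <;> fin_cases b <;>
      first
        | rfl
        | exact absurd hab hij
        | exact absurd hab.symm hij
  let v : Fin 2 ↪ Fin n := ⟨![i, j], hinj⟩
  have hv : ∀ s, T.IsMinusTwo (v s) := by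
    intro s
    fin_cases s <;> first | exact hi | exact hj
  have hd := Lib.Helper11.NumType.config_diag T v hv
  have htot := Lib.Helper11.NumType.sum_sum_config_lt T v (by norm_num) hn
  have r0 := Lib.Helper11.NumType.sum_config_le T v 0
  have r1 := Lib.Helper11.NumType.sum_config_le T v 1
  simp only [Fin.sum_univ_two, hd] at htot r0 r1
  change -2 * T.m i + Lib.Helper11.NumType.c T i j * T.m j ≤ 0 at r0
  change Lib.Helper11.NumType.c T j i * T.m i + -2 * T.m j ≤ 0 at r1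
  change -2 * T.m i + Lib.Helper11.NumType.c T i j * T.m j +
    (Lib.Helper11.NumType.c T j i * T.m i + -2 * T.m j) < 0 at htot
  have hmi := T.m_pos i
  have hmj := T.m_pos j
  have l01 : 1 ≤ Lib.Helper11.NumType.c T i j := Lib.Helper11.NumType.one_le_c T hij hpos.ne'
  have l10 : 1 ≤ Lib.Helper11.NumType.c T j i := Lib.Helper11.NumType.c_pos_symm T hij l01
  have e01 : T.m j ≤ Lib.Helper11.NumType.c T i j * T.m j := le_mul_of_one_le_left hmj.le l01
  have e10 : T.m i ≤ Lib.Helper11.NumType.c T j i * T.m i := le_mul_of_one_le_left hmi.le l10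
  have b01 : Lib.Helper11.NumType.c T i j ≤ 3 := by
    by_contra hne
    have h4 : 4 ≤ Lib.Helper11.NumType.c T i j := by omega
    have hp : 4 * T.m j ≤ Lib.Helper11.NumType.c T i j * T.m j := mul_le_mul_of_nonneg_right h4 hmj.le
    linarith
  have b10 : Lib.Helper11.NumType.c T j i ≤ 3 := by
    by_contra hne
    have h4 : 4 ≤ Lib.Helper11.NumType.c T j i := by omega
    have hp : 4 * T.m i ≤ Lib.Helper11.NumType.c T j i * T.m i := mul_le_mul_of_nonneg_right h4 hmi.le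
    linarith
  have x : ¬ (2 ≤ Lib.Helper11.NumType.c T i j ∧ 2 ≤ Lib.Helper11.NumType.c T j i) := by
    rintro ⟨h2, h2'⟩
    have hp : 2 * T.m j ≤ Lib.Helper11.NumType.c T i j * T.m j := mul_le_mul_of_nonneg_right h2 hmj.le
    have hp' : 2 * T.m i ≤ Lib.Helper11.NumType.c T j i * T.m i := mul_le_mul_of_nonneg_right h2' hmi.le
    linarith
  have ws := Lib.Helper11.NumType.w_mul_c_symm T i j
  have a01 := Lib.Helper11.NumType.a_eq T i j
  have a10 := Lib.Helper11.NumType.a_eq T j i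
  obtain h | h | h : Lib.Helper11.NumType.c T i j = 1 ∨ Lib.Helper11.NumType.c T i j = 2 ∨
      Lib.Helper11.NumType.c T i j = 3 := by omega
  all_goals
    obtain h' | h' | h' : Lib.Helper11.NumType.c T j i = 1 ∨ Lib.Helper11.NumType.c T j i = 2 ∨
      Lib.Helper11.NumType.c T j i = 3 := by omega
  all_goals
    first
      | (exfalso; exact x ⟨by omega, by omega⟩)
      | (rw [h] at r0 a01 ws
         rw [h'] at r1 a10 ws
         first
          | (refine ⟨i, j, Or.inl ⟨rfl, rfl⟩, Or.inl ⟨?_, ?_, ?_, ?_⟩⟩ <;> linarith)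
          | (refine ⟨i, j, Or.inl ⟨rfl, rfl⟩, Or.inr (Or.inl ⟨?_, ?_, ?_, ?_⟩)⟩ <;> linarith)
          | (refine ⟨i, j, Or.inl ⟨rfl, rfl⟩, Or.inr (Or.inr ⟨?_, ?_, ?_, ?_⟩)⟩ <;> linarith)
          | (refine ⟨j, i, Or.inr ⟨rfl, rfl⟩, Or.inr (Or.inl ⟨?_, ?_, ?_, ?_⟩)⟩ <;> linarith)
          | (refine ⟨j, i, Or.inr ⟨rfl, rfl⟩, Or.inr (Or.inr ⟨?_, ?_, ?_, ?_⟩)⟩ <;> linarith))

end Groth.Agent.S3350
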