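import Groth.Statements.S3351
import Mathlib
-- import your own Groth.Agent.* helpers here

set_option autoImplicit false
open Models

namespace Groth.Agent.S3351

lemma exists_extension {L : Type} [AddCommGroup L] [Module.Finite ℤ L] [Module.Free ℤ L]
    (N : Submodule ℤ L) (hN : ∀ (c : ℤ) (x : L), c ≠ 0 → c • x ∈ N → x ∈ N)
    (ψ : Module.Dual ℤ N) : ∃ φ : Module.Dual ℤ L, φ ∘ₗ N.subtype = ψ := by
  have : Module.IsTorsionFree ℤ (L ⧸ N) := by
    apply Module.IsTorsionFree.of_smul_eq_zero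
    intro r q hq
    by_cases hr : r = 0
    · exact Or.inl hr
    · right
      obtain ⟨x, rfl⟩ := Submodule.Quotient.mk_surjective N q
      rw [← Submodule.Quotient.mk_smul, Submodule.Quotient.mk_eq_zero] at hq
      rw [Submodule.Quotient.mk_eq_zero]
      exact hN r x hr hq
  have : Module.Free ℤ (L ⧸ N) := Module.free_of_finite_type_torsion_free'
  obtain ⟨s, hs⟩ := Module.projective_lifting_property N.mkQ LinearMap.id N.mkQ_surjective
  have hs' : ∀ q, N.mkQ (s q) = q := fun q => LinearMap.congr_fun hs q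
  have hmem : ∀ x : L, x - s (N.mkQ x) ∈ N := by
    intro x
    rw [← Submodule.Quotient.mk_eq_zero, Submodule.Quotient.mk_sub]
    have := hs' (N.mkQ x)
    simp only [Submodule.mkQ_apply] at this ⊢
    rw [this, sub_self]
  let π : L →ₗ[ℤ] N := LinearMap.codRestrict N (LinearMap.id - s ∘ₗ N.mkQ)
    (fun x => by simpa using hmem x)
  refine ⟨ψ ∘ₗ π, ?_⟩
  ext n
  simp only [LinearMap.comp_apply, Submodule.subtype_apply]
  congr 1
  ext
  have h0 : N.mkQ (n : L) = 0 := by
    rw [Submodule.mkQ_apply, Submodule.Quotient.mk_eq_zero]; exact n.2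
  simp [π, h0]

lemma exists_smul_mem {L : Type} [AddCommGroup L] [Module.Finite ℤ L] [Module.Free ℤ L]
    (B : LinearMap.BilinForm ℤ L) (hsymm : B.IsSymm) (hpos : ∀ x, x ≠ 0 → 0 < B x x)
    (A : Submodule ℤ L) : ∃ c : ℤ, c ≠ 0 ∧ ∀ x : L, c • x ∈ A ⊔ B.orthogonal A := by
  let φ : A →ₗ[ℤ] Module.Dual ℤ A := B.restrict A
  have hφ : Function.Injective φ := by
    rw [← LinearMap.ker_eq_bot, LinearMap.ker_eq_bot']
    intro a ha
    by_contra hne
    have h1 : (a : L) ≠ 0 := fun h => hne (Subtype.ext h)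
    have h2 := hpos a h1
    have h3 : φ a a = 0 := by rw [ha]; rfl
    have h4 : φ a a = B a a := rfl
    omega
  have : Module.Free ℤ A := inferInstance
  have : Module.Finite ℤ A := inferInstance
  have hrank : Module.finrank ℤ (LinearMap.range φ) = Module.finrank ℤ (Module.Dual ℤ A) := by
    rw [LinearMap.finrank_range_of_inj hφ]
    exact (Module.finrank_linearMap_self ℤ ℤ A).symm
  have : Finite (Module.Dual ℤ A ⧸ LinearMap.range φ) :=
    Submodule.finiteQuotientOfFreeOfRankEq _ hrank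
  refine ⟨(Nat.card (Module.Dual ℤ A ⧸ LinearMap.range φ) : ℤ), ?_, ?_⟩
  · exact_mod_cast Nat.card_pos.ne'
  · intro x
    let ψ : Module.Dual ℤ A := (B x) ∘ₗ A.subtype
    have hmem : (Nat.card (Module.Dual ℤ A ⧸ LinearMap.range φ) : ℤ) • ψ ∈ LinearMap.range φ := by
      rw [← Submodule.Quotient.mk_eq_zero, Submodule.Quotient.mk_smul, Nat.cast_smul_eq_nsmul]
      exact card_nsmul_eq_zero'
    obtain ⟨a, ha⟩ := hmem
    have hval : ∀ a' : A, B a a' = (Nat.card (Module.Dual ℤ A ⧸ LinearMap.range φ) : ℤ) * B x a' := by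
      intro a'
      have := LinearMap.congr_fun ha a'
      simpa [φ, ψ] using this
    have horth : (Nat.card (Module.Dual ℤ A ⧸ LinearMap.range φ) : ℤ) • x - a ∈ B.orthogonal A := by
      rw [LinearMap.BilinForm.mem_orthogonal_iff]
      intro n hn
      rw [map_sub, map_smul, smul_eq_mul, hsymm.eq n x, hsymm.eq n a, hval ⟨n, hn⟩]
      ring
    have : (Nat.card (Module.Dual ℤ A ⧸ LinearMap.range φ) : ℤ) • x
        = a + ((Nat.card (Module.Dual ℤ A ⧸ LinearMap.range φ) : ℤ) • x - a) := by abel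
    rw [this]
    exact Submodule.add_mem_sup a.2 horth

theorem main {L : Type} [AddCommGroup L] [Module.Finite ℤ L] [Module.Free ℤ L]
    (B : LinearMap.BilinForm ℤ L) (hsymm : B.IsSymm) (hpos : ∀ x, x ≠ 0 → 0 < B x x)
    (A : Submodule ℤ L) (htf : ∀ (c : ℤ) (x : L), c ≠ 0 → c • x ∈ A → x ∈ A) :
    (∀ x : L, (∃ b ∈ B.orthogonal A, ∀ b' ∈ B.orthogonal A, B x b' = B b b') → x ∈ A ⊔ B.orthogonal A) ∧
      (∀ x : L, (∃ a ∈ A, ∀ a' ∈ A, B x a' = B a a') → x ∈ A ⊔ B.orthogonal A) ∧
      (∀ ψ : Module.Dual ℤ ↥(B.orthogonal A), ∃ φ : Module.Dual ℤ L, φ ∘ₗ (B.orthogonal A).subtype = ψ) ∧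
      (∀ ψ : Module.Dual ℤ ↥A, ∃ φ : Module.Dual ℤ L, φ ∘ₗ A.subtype = ψ) := by
  have hzero : ∀ x : L, B x x = 0 → x = 0 := by
    intro x hx
    by_contra hne
    have := hpos x hne
    omega
  refine ⟨?_, ?_, ?_, ?_⟩
  · rintro x ⟨b, hb, hxb⟩
    obtain ⟨c, hc, hcx⟩ := exists_smul_mem B hsymm hpos A
    have hy : ∀ b' ∈ B.orthogonal A, B (x - b) b' = 0 := by
      intro b' hb'
      rw [map_sub, LinearMap.sub_apply, hxb b' hb', sub_self]
    obtain ⟨a, ha, b₀, hb₀, hab⟩ := Submodule.mem_sup.mp (hcx (x - b))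
    have hab0 : B a b₀ = 0 := by
      exact (LinearMap.BilinForm.mem_orthogonal_iff.mp hb₀) a ha
    have hb0 : b₀ = 0 := by
      apply hzero
      have e1 : b₀ = c • (x - b) - a := by rw [← hab]; abel
      calc B b₀ b₀ = B (c • (x - b) - a) b₀ := by rw [← e1]
        _ = c * B (x - b) b₀ - B a b₀ := by
            rw [map_sub, LinearMap.sub_apply, map_smul, LinearMap.smul_apply, smul_eq_mul]
        _ = 0 := by rw [hy b₀ hb₀, hab0]; ring
    have hya : x - b ∈ A := by
      apply htf c _ hc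
      rw [← hab, hb0, add_zero]
      exact ha
    have : x = (x - b) + b := by abel
    rw [this]
    exact Submodule.add_mem_sup hya hb
  · rintro x ⟨a, ha, hxa⟩
    have horth : x - a ∈ B.orthogonal A := by
      rw [LinearMap.BilinForm.mem_orthogonal_iff]
      intro n hn
      rw [map_sub, hsymm.eq n x, hsymm.eq n a, hxa n hn, sub_self]
    have : x = a + (x - a) := by abel
    rw [this]
    exact Submodule.add_mem_sup ha horth
  · intro ψ
    apply exists_extension
    intro c x hc hx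
    rw [LinearMap.BilinForm.mem_orthogonal_iff] at hx ⊢
    intro n hn
    have := hx n hn
    rw [map_smul, smul_eq_mul] at this
    rcases mul_eq_zero.mp this with h | h
    · exact absurd h hc
    · exact h
  · intro ψ
    exact exists_extension A htf ψ


/-- Let L be a finite free Z-module with a positive definite symmetric integral bilinear form, A ⊆ L a
submodule with L/A torsion free and B the orthogonal complement of A. Write M^# for the dual lattice
of a sublattice M, identified here with the Z-dual Hom(M, Z) through the form. Then the natural maps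
L/(A ⊕ B) → B^#/B and L/(A ⊕ B) → A^#/A are injective: an element x of L whose functional ⟨x, -⟩ on
B (resp. on A) is represented by an element of B (resp. of A) lies in A ⊕ B. Moreover the
restriction maps L^# → B^# and L^# → A^# are surjective, so that the cokernels of the two injections
are quotients of L^#/L. -/
theorem result {L : Type} [AddCommGroup L] [Module.Finite ℤ L] [Module.Free ℤ L]
    (B : LinearMap.BilinForm ℤ L) (hsymm : B.IsSymm) (hpos : ∀ x, x ≠ 0 → 0 < B x x)
    (A : Submodule ℤ L) (htf : ∀ (c : ℤ) (x : L), c ≠ 0 → c • x ∈ A → x ∈ A) :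
    (∀ x : L, (∃ b ∈ B.orthogonal A, ∀ b' ∈ B.orthogonal A, B x b' = B b b') → x ∈ A ⊔ B.orthogonal A) ∧
      (∀ x : L, (∃ a ∈ A, ∀ a' ∈ A, B x a' = B a a') → x ∈ A ⊔ B.orthogonal A) ∧
      (∀ ψ : Module.Dual ℤ ↥(B.orthogonal A), ∃ φ : Module.Dual ℤ L, φ ∘ₗ (B.orthogonal A).subtype = ψ) ∧
      (∀ ψ : Module.Dual ℤ ↥A, ∃ φ : Module.Dual ℤ L, φ ∘ₗ A.subtype = ψ) := main B hsymm hpos A htf

end Groth.Agent.S3351
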