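import Groth.Statements.S3352
import Mathlib
-- import your own Groth.Agent.* helpers here

set_option autoImplicit false
open Models

namespace Groth.Agent.S3352

lemma exists_smul_mem_range_restrict {L : Type} [AddCommGroup L] [Module.Finite ℤ L] [Module.Free ℤ L]
    (B : LinearMap.BilinForm ℤ L) (hpos : ∀ x, x ≠ 0 → 0 < B x x)
    (A : Submodule ℤ L) :
    ∃ c : ℤ, c ≠ 0 ∧ ∀ ψ : Module.Dual ℤ A, c • ψ ∈ LinearMap.range (B.restrict A) := by
  let φ : A →ₗ[ℤ] Module.Dual ℤ A := B.restrict A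
  have hφ : Function.Injective φ := by
    rw [← LinearMap.ker_eq_bot, LinearMap.ker_eq_bot']
    intro a ha
    by_contra hne
    have h1 : (a : L) ≠ 0 := fun h => hne (Subtype.ext h)
    have h2 := hpos a h1
    have h3 : φ a a = 0 := by rw [ha]; rfl
    have h4 : φ a a = B a a := rfl
    omega
  have : Module.Free ℤ A := inferInstance
  have : Module.Finite ℤ A := inferInstance
  have hrank : Module.finrank ℤ (LinearMap.range φ) = Module.finrank ℤ (Module.Dual ℤ A) := by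
    rw [LinearMap.finrank_range_of_inj hφ]
    exact (Module.finrank_linearMap_self ℤ ℤ A).symm
  have : Finite (Module.Dual ℤ A ⧸ LinearMap.range φ) :=
    Submodule.finiteQuotientOfFreeOfRankEq _ hrank
  refine ⟨(Nat.card (Module.Dual ℤ A ⧸ LinearMap.range φ) : ℤ), ?_, ?_⟩
  · exact_mod_cast Nat.card_pos.ne'
  · intro ψ
    show (Nat.card (Module.Dual ℤ A ⧸ LinearMap.range φ) : ℤ) • ψ ∈ LinearMap.range φ
    rw [← Submodule.Quotient.mk_eq_zero, Submodule.Quotient.mk_smul, Nat.cast_smul_eq_nsmul]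
    exact card_nsmul_eq_zero'

theorem main {L₀ L₁ : Type} [AddCommGroup L₀] [AddCommGroup L₁]
    [Module.Finite ℤ L₀] [Module.Free ℤ L₀] [Module.Finite ℤ L₁] [Module.Free ℤ L₁]
    (B₀ : LinearMap.BilinForm ℤ L₀) (B₁ : LinearMap.BilinForm ℤ L₁) (h₀s : B₀.IsSymm) (h₁s : B₁.IsSymm)
    (h₁p : ∀ x, x ≠ 0 → 0 < B₁ x x) (huni : Function.Bijective B₀)
    (d : L₀ →ₗ[ℤ] L₁) (ds : L₁ →ₗ[ℤ] L₀) (hadj : ∀ x y, B₁ (d x) y = B₀ x (ds y)) :
    ∃ Φ : ↥(Submodule.torsion ℤ (L₀ ⧸ LinearMap.range (ds ∘ₗ d))) ≃ₗ[ℤ]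
        (Module.Dual ℤ ↥(LinearMap.range d) ⧸
          LinearMap.range ((B₁.compl₂ (LinearMap.range d).subtype) ∘ₗ (LinearMap.range d).subtype)),
      ∀ (x : L₀) (hx : Submodule.Quotient.mk x ∈ Submodule.torsion ℤ (L₀ ⧸ LinearMap.range (ds ∘ₗ d)))
        (ψ : Module.Dual ℤ ↥(LinearMap.range d)),
        (∀ y' : L₀, ψ ⟨d y', LinearMap.mem_range_self d y'⟩ = B₀ x y') →
          Φ ⟨Submodule.Quotient.mk x, hx⟩ = Submodule.Quotient.mk ψ := by
  classical
  let e₀ : L₀ ≃ₗ[ℤ] Module.Dual ℤ L₀ := LinearEquiv.ofBijective B₀ huni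
  let j : Module.Dual ℤ (LinearMap.range d) →ₗ[ℤ] L₀ :=
    e₀.symm.toLinearMap ∘ₗ d.rangeRestrict.dualMap
  have hj : ∀ (ψ : Module.Dual ℤ (LinearMap.range d)) (y' : L₀),
      B₀ (j ψ) y' = ψ (d.rangeRestrict y') := by
    intro ψ y'
    have h1 : e₀ (j ψ) = d.rangeRestrict.dualMap ψ := e₀.apply_symm_apply _
    have h2 : B₀ (j ψ) = d.rangeRestrict.dualMap ψ := h1
    rw [h2]; rfl
  have hB₀inj : ∀ x x' : L₀, (∀ y', B₀ x y' = B₀ x' y') → x = x' := by
    intro x x' h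
    apply huni.1
    ext y'
    exact h y'
  have hjinj : Function.Injective j := by
    intro ψ ψ' h
    apply LinearMap.ext
    rintro ⟨_, y, rfl⟩
    have h1 := hj ψ y
    have h2 := hj ψ' y
    rw [h] at h1
    exact h1.symm.trans h2
  let ι : (LinearMap.range d) →ₗ[ℤ] Module.Dual ℤ (LinearMap.range d) :=
    (B₁.compl₂ (LinearMap.range d).subtype) ∘ₗ (LinearMap.range d).subtype
  have hιeq : ι = B₁.restrict (LinearMap.range d) :=
    LinearMap.ext fun r => LinearMap.ext fun r' => rfl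
  have hjι : ∀ y : L₀, j (ι (d.rangeRestrict y)) = ds (d y) := by
    intro y
    apply hB₀inj
    intro y'
    rw [hj]
    show B₁ (d y) (d y') = B₀ (ds (d y)) y'
    rw [h₀s.eq, ← hadj, h₁s.eq]
  obtain ⟨c, hc, hcψ⟩ := exists_smul_mem_range_restrict B₁ h₁p (LinearMap.range d)
  let J : Module.Dual ℤ (LinearMap.range d) →ₗ[ℤ] L₀ ⧸ LinearMap.range (ds ∘ₗ d) :=
    (LinearMap.range (ds ∘ₗ d)).mkQ ∘ₗ j
  have hJι : ∀ r : LinearMap.range d, J (ι r) = 0 := by
    rintro ⟨_, y, rfl⟩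
    show (LinearMap.range (ds ∘ₗ d)).mkQ (j (ι (d.rangeRestrict y))) = 0
    rw [hjι, Submodule.mkQ_apply, Submodule.Quotient.mk_eq_zero]
    exact ⟨y, rfl⟩
  have hJtors : ∀ ψ, J ψ ∈ Submodule.torsion ℤ (L₀ ⧸ LinearMap.range (ds ∘ₗ d)) := by
    intro ψ
    rw [Submodule.mem_torsion_iff]
    refine ⟨⟨c, mem_nonZeroDivisors_of_ne_zero hc⟩, ?_⟩
    obtain ⟨r, hr⟩ := hcψ ψ
    rw [Submonoid.mk_smul, ← map_smul, ← hr, ← hιeq, hJι]
  let J' : Module.Dual ℤ (LinearMap.range d) →ₗ[ℤ]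
      Submodule.torsion ℤ (L₀ ⧸ LinearMap.range (ds ∘ₗ d)) := LinearMap.codRestrict _ J hJtors
  have hker : LinearMap.ker J' = LinearMap.range ι := by
    ext ψ
    rw [LinearMap.mem_ker]
    constructor
    · intro h
      have h1 : J ψ = 0 := congrArg Subtype.val h
      have h2 : j ψ ∈ LinearMap.range (ds ∘ₗ d) := by
        rw [← Submodule.Quotient.mk_eq_zero]; exact h1
      obtain ⟨y, hy⟩ := h2
      refine ⟨d.rangeRestrict y, ?_⟩
      apply hjinj
      rw [hjι]; exact hy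
    · rintro ⟨r, rfl⟩
      exact Subtype.ext (hJι r)
  have hsurj : Function.Surjective J' := by
    rintro ⟨q, hq⟩
    obtain ⟨x, rfl⟩ := Submodule.Quotient.mk_surjective _ q
    rw [Submodule.mem_torsion_iff] at hq
    obtain ⟨⟨a, ha⟩, hax⟩ := hq
    have ha0 : a ≠ 0 := nonZeroDivisors.ne_zero ha
    rw [Submonoid.mk_smul, ← Submodule.Quotient.mk_smul, Submodule.Quotient.mk_eq_zero] at hax
    obtain ⟨y, hy⟩ := hax
    have hvan : LinearMap.ker d ≤ LinearMap.ker (B₀ x) := by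
      intro y' hy'
      rw [LinearMap.mem_ker] at hy' ⊢
      have h1 : a * B₀ x y' = 0 := by
        have h3 : B₀ (a • x) y' = a * B₀ x y' := by
          rw [map_smul, LinearMap.smul_apply, smul_eq_mul]
        rw [← h3, ← hy]
        show B₀ (ds (d y)) y' = 0
        rw [h₀s.eq, ← hadj, hy', map_zero, LinearMap.zero_apply]
      exact (mul_eq_zero.mp h1).resolve_left ha0
    let ψ : Module.Dual ℤ (LinearMap.range d) :=
      ((LinearMap.ker d).liftQ (B₀ x) hvan) ∘ₗ d.quotKerEquivRange.symm.toLinearMap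
    have hψ : ∀ y', ψ (d.rangeRestrict y') = B₀ x y' := by
      intro y'
      show (LinearMap.ker d).liftQ (B₀ x) hvan (d.quotKerEquivRange.symm (d.rangeRestrict y'))
        = B₀ x y'
      have h4 : d.quotKerEquivRange.symm (d.rangeRestrict y') = (LinearMap.ker d).mkQ y' := by
        rw [LinearEquiv.symm_apply_eq]; rfl
      rw [h4]; rfl
    refine ⟨ψ, Subtype.ext ?_⟩
    show (LinearMap.range (ds ∘ₗ d)).mkQ (j ψ) = Submodule.Quotient.mk x
    rw [Submodule.mkQ_apply]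
    congr 1
    apply hB₀inj
    intro y'
    rw [hj, hψ]
  let E : (Module.Dual ℤ (LinearMap.range d) ⧸ LinearMap.range ι) ≃ₗ[ℤ]
      Submodule.torsion ℤ (L₀ ⧸ LinearMap.range (ds ∘ₗ d)) :=
    (Submodule.quotEquivOfEq _ _ hker.symm).trans (J'.quotKerEquivOfSurjective hsurj)
  refine ⟨E.symm, ?_⟩
  intro x hx ψ hψ
  rw [LinearEquiv.symm_apply_eq]
  have hE : E (Submodule.Quotient.mk ψ) = J' ψ := rfl
  rw [hE]
  apply Subtype.ext
  show Submodule.Quotient.mk x = (LinearMap.range (ds ∘ₗ d)).mkQ (j ψ)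
  rw [Submodule.mkQ_apply]
  congr 1
  apply hB₀inj
  intro y'
  rw [hj]
  exact (hψ y').symm


/-- Let L₀, L₁ be finite free ℤ-modules with positive definite symmetric integral bilinear forms, the
form on L₀ unimodular (x ↦ ⟨x, −⟩ is a bijection L₀ → Hom(L₀, ℤ)), and let d : L₀ → L₁ and d* : L₁ →
L₀ be adjoint. Identify Im(d)^# (the dual lattice of Im(d)) with Hom(Im(d), ℤ) through the form on
L₁. Then there is an isomorphism Φ from the torsion subgroup of Coker(d* d) onto Im(d)^#/Im(d),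
determined by: for x ∈ L₀ whose class is torsion, Φ[x] is the class of the functional d(y') ↦ ⟨x,
y'⟩ (equivalently the class of (1/a)·d(y) when a·x = d* d(y)). -/
theorem result {L₀ L₁ : Type} [AddCommGroup L₀] [AddCommGroup L₁]
    [Module.Finite ℤ L₀] [Module.Free ℤ L₀] [Module.Finite ℤ L₁] [Module.Free ℤ L₁]
    (B₀ : LinearMap.BilinForm ℤ L₀) (B₁ : LinearMap.BilinForm ℤ L₁) (h₀s : B₀.IsSymm) (h₁s : B₁.IsSymm)
    (h₀p : ∀ x, x ≠ 0 → 0 < B₀ x x) (h₁p : ∀ x, x ≠ 0 → 0 < B₁ x x) (huni : Function.Bijective B₀)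
    (d : L₀ →ₗ[ℤ] L₁) (ds : L₁ →ₗ[ℤ] L₀) (hadj : ∀ x y, B₁ (d x) y = B₀ x (ds y)) :
    ∃ Φ : ↥(Submodule.torsion ℤ (L₀ ⧸ LinearMap.range (ds ∘ₗ d))) ≃ₗ[ℤ]
        (Module.Dual ℤ ↥(LinearMap.range d) ⧸
          LinearMap.range ((B₁.compl₂ (LinearMap.range d).subtype) ∘ₗ (LinearMap.range d).subtype)),
      ∀ (x : L₀) (hx : Submodule.Quotient.mk x ∈ Submodule.torsion ℤ (L₀ ⧸ LinearMap.range (ds ∘ₗ d)))
        (ψ : Module.Dual ℤ ↥(LinearMap.range d)),
        (∀ y' : L₀, ψ ⟨d y', LinearMap.mem_range_self d y'⟩ = B₀ x y') →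
          Φ ⟨Submodule.Quotient.mk x, hx⟩ = Submodule.Quotient.mk ψ := main B₀ B₁ h₀s h₁s h₁p huni d ds hadj

end Groth.Agent.S3352
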