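import Groth.Statements.S3390
-- import your own Groth.Agent.* helpers here
import Mathlib
import Groth.Agent.Lib.Helper12.SchemeDimIneq2

set_option autoImplicit false
open CategoryTheory AlgebraicGeometry
universe u
open EGA43

namespace Groth.Agent.S3390
open Groth.Agent.Lib.Helper12 Groth.Agent.Lib.Helper12.ChevalleyCor
  Groth.Agent.Lib.Helper12.SchemeDimIneq

theorem le_of_nat_add_le (d : ℕ) (a b : WithBot ℕ∞) (h : (d : WithBot ℕ∞) + a ≤ d + b) :
    a ≤ b := by
  rcases ProductDim.withBot_enat_cases a with rfl | rfl | ⟨m, rfl⟩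
  · exact bot_le
  · rcases ProductDim.withBot_enat_cases b with rfl | rfl | ⟨n, rfl⟩
    · simp at h
    · exact le_rfl
    · exfalso
      have h1 : ((d : WithBot ℕ∞) + ⊤) = ⊤ := by
        rw [← WithBot.coe_top, ← WithBot.coe_natCast, ← WithBot.coe_add]; simp
      rw [h1] at h
      have h2 : ((d : WithBot ℕ∞) + (n : WithBot ℕ∞)) = ((d + n : ℕ) : WithBot ℕ∞) := by
        push_cast; rfl
      rw [h2] at h
      have := top_le_iff.mp h
      have h5 : (((d + n : ℕ) : ℕ∞) : WithBot ℕ∞) = ((⊤ : ℕ∞) : WithBot ℕ∞) := this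
      exact absurd (WithBot.coe_injective h5) (ENat.coe_ne_top (d + n))
  · rcases ProductDim.withBot_enat_cases b with rfl | rfl | ⟨n, rfl⟩
    · exfalso
      rw [WithBot.add_bot] at h
      have h2 : ((d : WithBot ℕ∞) + (m : WithBot ℕ∞)) = ((d + m : ℕ) : WithBot ℕ∞) := by
        push_cast; rfl
      rw [h2] at h
      simp at h
    · exact le_top
    · have h2 : ((d : WithBot ℕ∞) + (m : WithBot ℕ∞)) = ((d + m : ℕ) : WithBot ℕ∞) := by
        push_cast; rfl
      have h3 : ((d : WithBot ℕ∞) + (n : WithBot ℕ∞)) = ((d + n : ℕ) : WithBot ℕ∞) := by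
        push_cast; rfl
      rw [h2, h3] at h
      have h4 : d + m ≤ d + n := by exact_mod_cast h
      have : m ≤ n := by omega
      exact_mod_cast this


/-- Let Y be an irreducible locally Noetherian scheme with generic point η and X an irreducible scheme,
and let f : X ⟶ Y be dominant and locally of finite type. Take a point x of X and write y = f x.
Suppose dim O_{X,x} = dim O_{Y,y} + dim O_{X_y,x}. Then the local dimension of the fibre X_y at x
(FlatMor.fibreDimAt f x) equals the dimension of the generic fibre X_η (i.e. f is equidimensional at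
x). -/
theorem result {X Y : Scheme.{u}} [IrreducibleSpace X] [IrreducibleSpace Y]
    [IsLocallyNoetherian Y] (f : X ⟶ Y) [LocallyOfFiniteType f] [IsDominant f] (x : X)
    (h : ringKrullDim (X.presheaf.stalk x) =
        ringKrullDim (Y.presheaf.stalk (f.base x)) + ringKrullDim ((f.fiber (f.base x)).presheaf.stalk (f.asFiber x))) :
    FlatMor.fibreDimAt f x = topologicalKrullDim ↥(f.fiber (genericPoint Y)) := by
  apply le_antisymm
  · have h1 := dim_stalk_add_trn_le f x
    rw [h] at h1
    obtain ⟨d, hd⟩ : ∃ d : ℕ, ringKrullDim (Y.presheaf.stalk (f.base x)) = d := by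
      have h1 : ringKrullDim (Y.presheaf.stalk (f.base x)) ≠ ⊤ := ringKrullDim_ne_top
      have h2 : ringKrullDim (Y.presheaf.stalk (f.base x)) ≠ ⊥ := ringKrullDim_ne_bot
      rcases ProductDim.withBot_enat_cases (ringKrullDim (Y.presheaf.stalk (f.base x))) with
        h | h | ⟨m, h⟩
      · exact absurd h h2
      · exact absurd h h1
      · exact ⟨m, h⟩
    rw [hd, add_assoc] at h1
    have h2 := le_of_nat_add_le d _ _ h1
    rw [fibreDimAt_eq_trn_add f x, add_comm]
    exact h2
  · rw [← dim_fiber_congr f (map_genericPoint f)]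
    exact dim_generic_fiber_le_fibreDimAt f x

end Groth.Agent.S3390
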