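import Groth.Statements.S3391
-- import your own Groth.Agent.* helpers here
import Mathlib
import Groth.Agent.Lib.Helper12.SchemeDimIneq2

set_option autoImplicit false
open CategoryTheory AlgebraicGeometry
universe u
open EGA43

namespace Groth.Agent.S3391
open Groth.Agent.Lib.Helper12 Groth.Agent.Lib.Helper12.ChevalleyCor
  Groth.Agent.Lib.Helper12.SchemeDimIneq Groth.Agent.Lib.Helper12.OrdTools


/-- With X, Y, f, x, y as in the first assertion, suppose O_{Y,y} is universally catenary and the local
dimension at x of the fibre through x equals the dimension of the generic fibre. Then dim O_{X,x} =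
dim O_{Y,y} + dim O_{X_y,x}. -/
theorem result {X Y : Scheme.{u}} [IrreducibleSpace X] [IrreducibleSpace Y]
    [IsLocallyNoetherian Y] (f : X ⟶ Y) [LocallyOfFiniteType f] [IsDominant f] (x : X)
    (hcat : CAlg.IsUniversallyCatenary (Y.presheaf.stalk (f.base x)))
    (h : FlatMor.fibreDimAt f x = topologicalKrullDim ↥(f.fiber (genericPoint Y))) :
    ringKrullDim (X.presheaf.stalk x) =
        ringKrullDim (Y.presheaf.stalk (f.base x)) + ringKrullDim ((f.fiber (f.base x)).presheaf.stalk (f.asFiber x)) := by
  have h1 := dim_stalk_add_trn_eq f x hcat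
  rw [← h, fibreDimAt_eq_trn_add f x] at h1
  obtain ⟨t, ht⟩ := exists_trn_eq f x
  rw [ht] at h1
  have h2 : ((t : ℕ∞) : WithBot ℕ∞) = ((t : ℕ) : WithBot ℕ∞) := rfl
  rw [h2] at h1
  have h3 : (t : WithBot ℕ∞) + ringKrullDim (X.presheaf.stalk x) =
      (t : WithBot ℕ∞) + (ringKrullDim (Y.presheaf.stalk (f.base x)) +
        ringKrullDim ((f.fiber (f.base x)).presheaf.stalk (f.asFiber x))) := by
    rw [add_comm, h1]
    abel
  exact le_antisymm (le_of_nat_add_le t _ _ h3.le) (le_of_nat_add_le t _ _ h3.ge)

end Groth.Agent.S3391
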