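import Groth.Statements.S3392
-- import your own Groth.Agent.* helpers here
import Mathlib
import Groth.Agent.Lib.Helper12.SchemeDimIneq2
import Groth.Agent.Lib.Helper6.OpenDimSch

set_option autoImplicit false
open CategoryTheory AlgebraicGeometry
universe u
open EGA43

namespace Groth.Agent.S3392
open Groth.Agent.Lib.Helper12 Groth.Agent.Lib.Helper12.ChevalleyCor
  Groth.Agent.Lib.Helper12.SchemeDimIneq Groth.Agent.Lib.Helper12.OrdTools

theorem ringKrullDim_stalk_fiber_congr {X Y : Scheme.{u}} (f : X ⟶ Y) {y₁ y₂ : Y} (hy : y₁ = y₂)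
    (z₁ : f.fiber y₁) (z₂ : f.fiber y₂) (h : f.fiberι y₁ z₁ = f.fiberι y₂ z₂) :
    ringKrullDim ((f.fiber y₁).presheaf.stalk z₁) = ringKrullDim ((f.fiber y₂).presheaf.stalk z₂) := by
  subst hy
  have : z₁ = z₂ := (f.fiberι y₁).isEmbedding.injective h
  subst this
  rfl

theorem fiberι_strictMono {X Y : Scheme.{u}} (f : X ⟶ Y) (y : Y) :
    StrictMono (fun z : f.fiber y => f.fiberι y z) := by
  intro a b hab
  have h1 : b ⤳ a := hab.1
  have h2 : ¬ a ⤳ b := hab.2
  refine ⟨h1.map (f.fiberι y).continuous, fun h3 => h2 ?_⟩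
  exact (f.fiberι y).isEmbedding.isInducing.specializes_iff.mp h3

/-- The key inequality: a maximal point of the fibre generizing `x` with full fibre codimension. -/
theorem exists_generization_fiber {X Y : Scheme.{u}} (f : X ⟶ Y) [LocallyOfFiniteType f] (x : X) :
    ∃ w : X, f.base w = f.base x ∧
      ringKrullDim ((f.fiber (f.base w)).presheaf.stalk (f.asFiber w)) = 0 ∧
      ringKrullDim (X.presheaf.stalk w) +
        ringKrullDim ((f.fiber (f.base x)).presheaf.stalk (f.asFiber x)) ≤
          ringKrullDim (X.presheaf.stalk x) := by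
  letI ovF : (f.fiber (f x)).Over (Spec (CommRingCat.of (Y.residueField (f x)))) :=
    ⟨f.fiberToSpecResidueField (f x)⟩
  haveI : LocallyOfFiniteType
      ((f.fiber (f x)) ↘ Spec (CommRingCat.of (Y.residueField (f x)))) :=
    FibreRes.locallyOfFiniteType_fiberToSpecResidueField f (f x)
  obtain ⟨n, hn⟩ := exists_ringKrullDim_stalk_eq (Y.residueField (f x)) (f.fiber (f x))
    (f.asFiber x)
  have hco : Order.coheight (f.asFiber x) = (n : ℕ∞) := by
    have := ringKrullDim_stalk_eq_coheight (f.asFiber x)
    rw [hn] at this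
    exact_mod_cast this.symm
  obtain ⟨l, hl0, hlen⟩ := Order.exists_series_of_coheight_eq_coe (f.asFiber x) hco
  -- the last point is maximal
  have hlast : Order.coheight l.last = 0 := by
    have h1 := coheight_last_add_length_le l
    rw [hl0, hco, hlen] at h1
    by_contra hne
    have h2 : 1 ≤ Order.coheight l.last := Order.one_le_iff_pos.mpr (pos_iff_ne_zero.mpr hne)
    have h3 : (1 : ℕ∞) + n ≤ n := (add_le_add_left h2 _).trans h1
    have h4 : ((1 + n : ℕ) : ℕ∞) ≤ (n : ℕ∞) := by push_cast; exact h3
    have h5 : 1 + n ≤ n := by exact_mod_cast h4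
    omega
  let l' : LTSeries X := l.map (fun z : f.fiber (f x) => f.fiberι (f x) z) (fiberι_strictMono f (f x))
  let w : X := f.fiberι (f x) l.last
  have hw : f.base w = f.base x := by
    have h3 : w ∈ Set.range (f.fiberι (f x)) := ⟨l.last, rfl⟩
    rw [Scheme.Hom.range_fiberι] at h3
    exact h3
  refine ⟨w, hw, ?_, ?_⟩
  · rw [ringKrullDim_stalk_fiber_congr f hw (f.asFiber w) l.last (f.fiberι_asFiber w)]
    rw [ringKrullDim_stalk_eq_coheight, hlast]
    rfl
  · have h1 := coheight_last_add_length_le l'
    have h2 : l'.last = w := by simp [l', w]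
    have h3 : l'.head = x := by
      simp only [LTSeries.head_map, l', hl0]
      exact f.fiberι_asFiber x
    have h4 : l'.length = n := by simp [l', hlen]
    rw [h2, h3, h4] at h1
    rw [hn, ringKrullDim_stalk_eq_coheight, ringKrullDim_stalk_eq_coheight]
    exact_mod_cast h1


/-- Let Y be an irreducible locally Noetherian scheme, f : X ⟶ Y a morphism of finite type and y a point
of Y. Condition (a): for every point x of the fibre over y, dim O_{X,x} = dim O_{Y,y} + dim
O_{X_y,x}. Condition (b): for every point z of the fibre over y at which the local ring of the fibre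
has dimension 0 (the generic points of the irreducible components of the fibre), dim O_{X,z} = dim
O_{Y,y}. Then (a) implies (b), and (b) implies (a) if O_{Y,y} is universally catenary. -/
theorem result {X Y : Scheme.{u}} [IrreducibleSpace Y] [IsLocallyNoetherian Y]
    (f : X ⟶ Y) [LocallyOfFiniteType f] [QuasiCompact f] (y : Y) :
    ((∀ x : X, f.base x = y → ringKrullDim (X.presheaf.stalk x) =
        ringKrullDim (Y.presheaf.stalk (f.base x)) + ringKrullDim ((f.fiber (f.base x)).presheaf.stalk (f.asFiber x))) →
      (∀ z : X, f.base z = y → ringKrullDim ((f.fiber (f.base z)).presheaf.stalk (f.asFiber z)) = 0 →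
        ringKrullDim (X.presheaf.stalk z) = ringKrullDim (Y.presheaf.stalk (f.base z)))) ∧
    (CAlg.IsUniversallyCatenary (Y.presheaf.stalk y) →
      (∀ z : X, f.base z = y → ringKrullDim ((f.fiber (f.base z)).presheaf.stalk (f.asFiber z)) = 0 →
        ringKrullDim (X.presheaf.stalk z) = ringKrullDim (Y.presheaf.stalk (f.base z))) →
      (∀ x : X, f.base x = y → ringKrullDim (X.presheaf.stalk x) =
        ringKrullDim (Y.presheaf.stalk (f.base x)) + ringKrullDim ((f.fiber (f.base x)).presheaf.stalk (f.asFiber x)))) := by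
  haveI : IsLocallyNoetherian X := LocallyOfFiniteType.isLocallyNoetherian f
  refine ⟨fun ha z hz h0 => ?_, fun _ hb x hx => ?_⟩
  · have := ha z hz
    rw [h0, add_zero] at this
    exact this
  · apply le_antisymm
    · exact Groth.Agent.Lib.Helper6.OpenDim.ringKrullDim_stalk_le_add_fiber f x
    · obtain ⟨w, hw, hw0, hle⟩ := exists_generization_fiber f x
      have h1 := hb w (hw.trans hx) hw0
      rw [h1, hw] at hle
      exact hle

end Groth.Agent.S3392
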