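import Groth.Statements.S3393
-- import your own Groth.Agent.* helpers here
import Mathlib
import Groth.Agent.Lib.Helper12.OpenFibre3
import Groth.Agent.Lib.Helper12.FibreDimsConstr

set_option autoImplicit false
open CategoryTheory AlgebraicGeometry
universe u
open EGA43

namespace Groth.Agent.S3393

open Groth.Agent.Lib.Helper12 Groth.Agent.Lib.Helper12.SchemeDimFT
open Groth.Agent.Lib.Helper12.ChevalleyCor Groth.Agent.Lib.Helper12.SchemeDimIneq
open Groth.Agent.Lib.Helper12.ClosedSub Groth.Agent.Lib.Helper12.JacDim
open Groth.Agent.Lib.Helper12.FibreMax Groth.Agent.Lib.Helper12.EquidimComp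
open Groth.Agent.Lib.Helper12.OpenFibre Groth.Agent.Lib.Helper12.FibreDimConstr

theorem coheight_le_krullDim_Icc_of_top {α : Type*} [Preorder α] (a b : α) (hb : ∀ x, x ≤ b) :
    ((Order.coheight a : ℕ∞) : WithBot ℕ∞) ≤ Order.krullDim (Set.Icc a b) := by
  rw [Order.coheight_eq_krullDim_Ici]
  exact Order.krullDim_le_of_strictMono (fun z : Set.Ici a => (⟨z.1, z.2, hb z.1⟩ : Set.Icc a b))
    (fun _ _ h => h)

theorem max_of_dim_zero {X Y : Scheme.{u}} (f : X ⟶ Y) (z : X)
    (h0 : ringKrullDim ((f.fiber (f.base z)).presheaf.stalk (f.asFiber z)) = 0) :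
    ∀ z' : X, f z' = f z → z' ⤳ z → z' = z := by
  intro z' hz' hsp
  rw [ringKrullDim_stalk_eq_coheight] at h0
  have h1 : Order.coheight (f.asFiber z) = 0 := by exact_mod_cast h0
  rw [Order.coheight_eq_zero] at h1
  have h2 : z' ∈ Set.range (f.fiberι (f z)) := by
    rw [Scheme.Hom.range_fiberι]; exact hz'
  obtain ⟨w, rfl⟩ := h2
  have h3 : w ⤳ f.asFiber z := by
    apply (f.fiberι (f z)).isEmbedding.isInducing.specializes_iff.mp
    rw [f.fiberι_asFiber z]
    exact hsp
  have h4 : f.asFiber z ≤ w := h3
  have h5 : w ≤ f.asFiber z := h1 h4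
  have h6 : f.asFiber z ⤳ w := h5
  have h7 : w = f.asFiber z := (h3.antisymm h6).eq
  rw [h7, f.fiberι_asFiber z]

theorem withBot_add_nat_cancel (a b : WithBot ℕ∞) (t : ℕ)
    (h : a + ((t : ℕ∞) : WithBot ℕ∞) = b + ((t : ℕ∞) : WithBot ℕ∞)) : a = b := by
  induction a using WithBot.recBotCoe with
  | bot =>
    induction b using WithBot.recBotCoe with
    | bot => rfl
    | coe b =>
      rw [WithBot.bot_add, ← WithBot.coe_add] at h
      exact absurd h.symm WithBot.coe_ne_bot
  | coe a =>
    induction b using WithBot.recBotCoe with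
    | bot =>
      rw [WithBot.bot_add, ← WithBot.coe_add] at h
      exact absurd h WithBot.coe_ne_bot
    | coe b =>
      rw [← WithBot.coe_add, ← WithBot.coe_add, WithBot.coe_eq_coe] at h
      exact congrArg _ ((ENat.add_left_injective_of_ne_top (ENat.coe_ne_top t)) h)

/-- Let Y be an irreducible locally Noetherian scheme with generic point η, f : X ⟶ Y a morphism of
finite type and y a point of Y. Condition (b): for every point z of the fibre over y at which the
local ring of the fibre has dimension 0, dim O_{X,z} = dim O_{Y,y}. Condition (c): for every such z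
there is an irreducible component X' of X containing z such that the dimension of X' ∩ f⁻¹(η)
(topology induced from X) equals the local dimension at z of the fibre over y (the dimension of the
irreducible component of the fibre with generic point z). Then (b) implies (c), and (c) implies (b)
if O_{Y,y} is universally catenary. -/
theorem result {X Y : Scheme.{u}} [IrreducibleSpace Y] [IsLocallyNoetherian Y]
    (f : X ⟶ Y) [LocallyOfFiniteType f] [QuasiCompact f] (y : Y) :
    ((∀ z : X, f.base z = y → ringKrullDim ((f.fiber (f.base z)).presheaf.stalk (f.asFiber z)) = 0 →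
        ringKrullDim (X.presheaf.stalk z) = ringKrullDim (Y.presheaf.stalk (f.base z))) →
      (∀ z : X, f.base z = y → ringKrullDim ((f.fiber (f.base z)).presheaf.stalk (f.asFiber z)) = 0 →
        ∃ X' ∈ irreducibleComponents (X : Type u), z ∈ X' ∧
          topologicalKrullDim ↥(X' ∩ f.base ⁻¹' {genericPoint Y}) = FlatMor.fibreDimAt f z)) ∧
    (CAlg.IsUniversallyCatenary (Y.presheaf.stalk y) →
      (∀ z : X, f.base z = y → ringKrullDim ((f.fiber (f.base z)).presheaf.stalk (f.asFiber z)) = 0 →
        ∃ X' ∈ irreducibleComponents (X : Type u), z ∈ X' ∧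
          topologicalKrullDim ↥(X' ∩ f.base ⁻¹' {genericPoint Y}) = FlatMor.fibreDimAt f z) →
      (∀ z : X, f.base z = y → ringKrullDim ((f.fiber (f.base z)).presheaf.stalk (f.asFiber z)) = 0 →
        ringKrullDim (X.presheaf.stalk z) = ringKrullDim (Y.presheaf.stalk (f.base z)))) := by
  haveI : IsLocallyNoetherian X := LocallyOfFiniteType.isLocallyNoetherian f
  constructor
  · intro hb z hzy hz0
    have hmax := max_of_dim_zero f z hz0
    obtain ⟨ξ, hξmax, hξz, hgen, htrn⟩ :=
      exists_component_of_dim_le' f z hmax (le_of_eq (hb z hzy hz0).symm)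
    refine ⟨closure {ξ}, (closure_singleton_mem_irreducibleComponents_iff ξ).mpr hξmax,
      hξz.mem_closure, ?_⟩
    rw [← hgen, dim_generic_fibre_closure f ξ, htrn, fibreDimAt_eq_trn_of_max f z hmax]
  · intro hcat hc z hzy hz0
    have hmax := max_of_dim_zero f z hz0
    obtain ⟨X', hX', hzX', hdim⟩ := hc z hzy hz0
    obtain ⟨ξ, hξmax, rfl⟩ := (mem_irreducibleComponents_iff (X := X) X').mp hX'
    have hξz : ξ ⤳ z := specializes_iff_mem_closure.mpr hzX'
    rw [fibreDimAt_eq_trn_of_max f z hmax] at hdim
    -- the generic fibre of the component is nonempty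
    have hne : (closure ({ξ} : Set X) ∩ f.base ⁻¹' {genericPoint Y}).Nonempty := by
      by_contra hemp
      rw [Set.not_nonempty_iff_eq_empty] at hemp
      haveI : IsEmpty (TopologicalSpace.IrreducibleCloseds
          ↥(closure ({ξ} : Set X) ∩ f.base ⁻¹' {genericPoint Y})) := by
        refine ⟨fun C => ?_⟩
        obtain ⟨x, -⟩ := C.isIrreducible.nonempty
        have h9 : x.1 ∈ (∅ : Set X) := hemp ▸ x.2
        exact h9
      rw [topologicalKrullDim, Order.krullDim_eq_bot] at hdim
      exact WithBot.bot_ne_coe hdim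
    obtain ⟨x, hx1, hx2⟩ := hne
    have hξgen : f ξ = genericPoint Y := by
      have h1 : f ξ ⤳ f x := (specializes_iff_mem_closure.mpr hx1).map f.continuous
      have h2 : f x = genericPoint Y := hx2
      rw [h2] at h1
      exact (h1.antisymm (genericPoint_specializes (f ξ))).eq
    rw [← hξgen, dim_generic_fibre_closure f ξ] at hdim
    have htrn : trn f ξ = trn f z := by exact_mod_cast hdim
    have hcat' : CAlg.IsUniversallyCatenary (Y.presheaf.stalk (f z)) := by
      have : f z = y := hzy
      rw [this]; exact hcat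
    have hform := scheme_dimFormula f z ξ hξz hcat'
    rw [htrn] at hform
    obtain ⟨t, ht⟩ := exists_trn_eq f z
    rw [ht] at hform
    have h1 : Order.krullDim (Set.Icc z ξ) = Order.krullDim (Set.Icc (f z) (f ξ)) := by
      exact withBot_add_nat_cancel _ _ t hform
    have h2 : ((Order.coheight (f z) : ℕ∞) : WithBot ℕ∞) ≤ Order.krullDim (Set.Icc (f z) (f ξ)) := by
      apply coheight_le_krullDim_Icc_of_top
      intro w
      rw [hξgen]
      exact genericPoint_specializes w
    have h3 := krullDim_Icc_le_coheight z ξ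
    apply le_antisymm
    · have h4 := Groth.Agent.Lib.Helper6.OpenDim.ringKrullDim_stalk_le_add_fiber f z
      rw [hz0, add_zero] at h4
      exact h4
    · rw [ringKrullDim_stalk_eq_coheight, ringKrullDim_stalk_eq_coheight]
      exact h2.trans (h1 ▸ h3)

end Groth.Agent.S3393
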