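import Groth.Statements.S3395
-- import your own Groth.Agent.* helpers here
import Mathlib
import Groth.Agent.Lib.Helper12.QFFibre
import Groth.Agent.Lib.Helper12.QFAffine

set_option autoImplicit false
open CategoryTheory AlgebraicGeometry
universe u
open EGA43

namespace Groth.Agent.S3395

open CategoryTheory.Limits in
/-- Let X and Y be affine schemes, f : X ⟶ Y of finite type, y a point of f(X), e the dimension of the
fibre over y, and g a Y-morphism from X to the affine space of dimension e over Y whose base change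
to the fibre of the affine space over y is finite. Then that base change is surjective, and g is
locally quasi-finite on some open U ⊆ X that contains the fibre f⁻¹(y). -/
theorem result {X Y : Scheme.{u}} [IsAffine X] [IsAffine Y]
    (f : X ⟶ Y) [LocallyOfFiniteType f] (y : Y) (hy : y ∈ Set.range f.base) (e : ℕ)
    (he : topologicalKrullDim ↥(f.fiber y) = e) (g : X ⟶ 𝔸(ULift.{u} (Fin e); Y)) (hg : g ≫ (𝔸(ULift.{u} (Fin e); Y) ↘ Y) = f)
    (hfin : IsFinite (pullback.snd g ((𝔸(ULift.{u} (Fin e); Y) ↘ Y).fiberι y))) :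
    Function.Surjective (pullback.snd g ((𝔸(ULift.{u} (Fin e); Y) ↘ Y).fiberι y)).base ∧
      ∃ U : X.Opens, f.base ⁻¹' {y} ⊆ (U : Set X) ∧ LocallyQuasiFinite (U.ι ≫ g) := by
  subst hg
  haveI := hfin
  haveI : LocallyOfFiniteType g :=
    locallyOfFiniteType_of_comp g (𝔸(ULift.{u} (Fin e); Y) ↘ Y)
  constructor
  · haveI : IrreducibleSpace ↥((𝔸(ULift.{u} (Fin e); Y) ↘ Y).fiber y) :=
      Groth.Agent.Lib.Helper12.AffSpace.irreducibleSpace_fiber e Y y
    refine Groth.Agent.Lib.Helper12.QFFibre.surjective_of_dim_eq _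
      (pullback.snd g ((𝔸(ULift.{u} (Fin e); Y) ↘ Y).fiberι y)).continuous
      (Scheme.Hom.isClosedMap _)
      (fun a b hab heq =>
        Groth.Agent.Lib.Helper12.QFFibre.eq_of_specializes_of_locallyQuasiFinite _ a b hab heq)
      e ?_ (Groth.Agent.Lib.Helper12.AffSpace.dim_fiber_affineSpace e Y y)
    rw [Groth.Agent.Lib.Helper12.QFFibre.dim_pullback_fiberι]
    exact he
  · refine ⟨⟨{w : X | FlatMor.fibreDimAt g w ≤ ((0 : ℕ) : WithBot ℕ∞)},
      Groth.Agent.Lib.Helper12.Chevalley.isOpen_setOf_fibreDimAt_le g 0⟩, ?_, ?_⟩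
    · intro x hx
      have hx' : (𝔸(ULift.{u} (Fin e); Y) ↘ Y) (g x) = y := hx
      show FlatMor.fibreDimAt g x ≤ ((0 : ℕ) : WithBot ℕ∞)
      apply Groth.Agent.Lib.Helper12.EquidimOpen.fibreDimAt_le_of_max g x 0
      intro z hz hzx hmax
      have h0 : Groth.Agent.Lib.Helper12.SchemeDimIneq.trn g z = 0 := by
        apply Groth.Agent.Lib.Helper12.EquidimPt.trn_eq_zero_of_closed_in_fibre g z
        intro x' hgx' hsp
        refine Groth.Agent.Lib.Helper12.QFFibre.eq_of_specializes_of_fibre g
          (𝔸(ULift.{u} (Fin e); Y) ↘ Y) y z x' ?_ hgx' hsp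
        rw [hz]; exact hx'
      rw [h0]
      exact zero_le
    · apply Groth.Agent.Lib.Helper12.EquidimPt.locallyQuasiFinite_of_fibreDimAt_le_zero
      intro w
      rw [Groth.Agent.Lib.Helper12.Equidim.fibreDimAt_comp_openImmersion]
      exact w.2

end Groth.Agent.S3395
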