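import Groth.Statements.S3400
import Groth.Agent.Lib.Helper26.ProConsRing
import Groth.Agent.S3398

set_option autoImplicit false
open CategoryTheory AlgebraicGeometry
universe u
open EGA41

namespace Groth.Agent.S3400

open Groth.Agent.Lib.Helper26.ProConsTop Groth.Agent.Lib.Helper26.ProConsRing TopologicalSpace
  Topology CategoryTheory.Limits

lemma isProConstructible_univ {X : Type*} [TopologicalSpace X] :
    ProCons.IsProConstructible (Set.univ : Set X) := by
  intro x
  exact ⟨Set.univ, isOpen_univ, Set.mem_univ _, ∅, by simp, by simp⟩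

lemma exists_affine_of_isProConstructible (X : Scheme.{u}) [CompactSpace X]
    (E : Set X) (hE : ProCons.IsProConstructible E) :
    ∃ (X' : Scheme.{u}) (f : X' ⟶ X), IsAffine X' ∧ Set.range f.base = E := by
  classical
  obtain ⟨s, hs, hsX⟩ := isCompact_iff_finite_and_eq_biUnion_affineOpens.mp
    (show IsCompact ((⊤ : X.Opens) : Set X) from isCompact_univ)
  haveI : Finite s := hs
  have hF : ∀ i : s, IsClosed[constructibleTopology (PrimeSpectrum Γ(X, i.1.1))]
      (i.1.2.fromSpec.base ⁻¹' E) := fun i =>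
    Groth.Agent.S3439.isClosed_preimage_of_isProConstructible
      (Y := ↥(Spec Γ(X, i.1.1))) i.1.2.fromSpec.isOpenEmbedding hE
  choose B hB φ hφ using fun i : s => exists_range_comap_eq_of_isClosed_cons (hF i)
  let g : s → Scheme.{u} := fun i => Spec (@CommRingCat.of (B i) (hB i))
  let f : ∀ i : s, g i ⟶ X := fun i =>
    Spec.map (@CommRingCat.ofHom _ _ _ (hB i) (φ i)) ≫ i.1.2.fromSpec
  refine ⟨∐ g, Sigma.desc f, inferInstance, ?_⟩
  apply Set.Subset.antisymm
  · rintro _ ⟨z, rfl⟩
    obtain ⟨⟨i, w⟩, rfl⟩ := (sigmaMk g).surjective z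
    rw [sigmaMk_mk, ← Scheme.Hom.comp_apply, Sigma.ι_desc]
    have hw : @PrimeSpectrum.comap _ _ _ (hB i).toCommSemiring (φ i) w ∈
        Set.range (@PrimeSpectrum.comap _ _ _ (hB i).toCommSemiring (φ i)) := ⟨w, rfl⟩
    rw [hφ i] at hw
    exact hw
  · intro e he
    have hemem : e ∈ (⊤ : X.Opens) := trivial
    rw [hsX] at hemem
    simp only [Opens.mem_iSup] at hemem
    obtain ⟨i, his, hei⟩ := hemem
    have : e ∈ Set.range (i.2.fromSpec.base) := by
      rw [i.2.range_fromSpec]
      exact hei
    obtain ⟨v, rfl⟩ := this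
    have hv : v ∈ (⟨i, his⟩ : s).1.2.fromSpec.base ⁻¹' E := he
    obtain ⟨w, rfl⟩ := (Set.ext_iff.mp (hφ ⟨i, his⟩) v).mpr hv
    refine ⟨(Sigma.ι g ⟨i, his⟩).base w, ?_⟩
    rw [← Scheme.Hom.comp_apply, Sigma.ι_desc]
    rfl

/-- Let X be a quasi-compact and quasi-separated scheme. A subset E of X is pro-constructible if and
only if there are an affine scheme X' and a morphism f : X' ⟶ X with f(X') = E. -/
theorem result (X : Scheme.{u}) [CompactSpace X] [QuasiSeparatedSpace X]
    (E : Set X) :
    ProCons.IsProConstructible E ↔ ∃ (X' : Scheme.{u}) (f : X' ⟶ X), IsAffine X' ∧ Set.range f.base = E := by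
  constructor
  · exact exists_affine_of_isProConstructible X E
  · rintro ⟨X', f, hX', rfl⟩
    haveI := hX'
    rw [← Set.image_univ]
    exact Groth.Agent.S3398.result f Set.univ isProConstructible_univ

end Groth.Agent.S3400
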