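import Groth.Statements.S3401
import Groth.Agent.Lib.Helper26.ProConsTop

set_option autoImplicit false
open CategoryTheory AlgebraicGeometry
universe u
open EGA41

namespace Groth.Agent.S3401

open Groth.Agent.Lib.Helper26.ProConsTop TopologicalSpace Topology

lemma exists_open_of_isConstructible {Y : Type*} [TopologicalSpace Y] {T : Set Y}
    (hT : IsConstructible T) (y : Y) :
    ∃ O : Set Y, IsOpen O ∧ y ∈ O ∧ (O ∩ closure {y} ⊆ T ∨ O ∩ closure {y} ⊆ Tᶜ) := by
  induction hT using IsConstructible.empty_union_induction with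
  | open_retrocompact U hUo hUc =>
    by_cases hy : y ∈ U
    · exact ⟨U, hUo, hy, Or.inl Set.inter_subset_left⟩
    · refine ⟨Set.univ, isOpen_univ, Set.mem_univ _, Or.inr ?_⟩
      rw [Set.univ_inter]
      exact closure_minimal (Set.singleton_subset_iff.mpr hy) hUo.isClosed_compl
  | union s hs t ht hs' ht' =>
    obtain ⟨O₁, hO₁, hy₁, h₁⟩ := hs'
    obtain ⟨O₂, hO₂, hy₂, h₂⟩ := ht'
    rcases h₁ with h₁ | h₁
    · exact ⟨O₁, hO₁, hy₁, Or.inl (h₁.trans Set.subset_union_left)⟩
    · rcases h₂ with h₂ | h₂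
      · exact ⟨O₂, hO₂, hy₂, Or.inl (h₂.trans Set.subset_union_right)⟩
      · refine ⟨O₁ ∩ O₂, hO₁.inter hO₂, ⟨hy₁, hy₂⟩, Or.inr ?_⟩
        rintro z ⟨⟨hz₁, hz₂⟩, hzc⟩ (hz | hz)
        · exact h₁ ⟨hz₁, hzc⟩ hz
        · exact h₂ ⟨hz₂, hzc⟩ hz
  | compl s hs hs' =>
    obtain ⟨O, hO, hy, h⟩ := hs'
    refine ⟨O, hO, hy, h.symm.imp id ?_⟩
    rw [compl_compl]
    exact id

lemma isConstructible_inter_of_noetherianSpace {Y : Type*} [TopologicalSpace Y] [NoetherianSpace Y]
    {O Z : Set Y} (hO : IsOpen O) (hZ : IsClosed Z) : IsConstructible (O ∩ Z) := by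
  have h1 : IsConstructible O :=
    IsRetrocompact.isConstructible hO fun _ _ _ => NoetherianSpace.isCompact _
  have h2 : IsConstructible Zᶜ :=
    IsRetrocompact.isConstructible hZ.isOpen_compl fun _ _ _ => NoetherianSpace.isCompact _
  exact h1.inter h2.of_compl

/-- Let X be a scheme and E a subset of X. If E is ind-constructible then for every point x of E the set
E ∩ cl{x} is a neighbourhood of x in cl{x}; when X is locally Noetherian the converse holds. (As
published, the necessity clause quantifies over all points x of X; for x outside E the condition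
cannot hold, and the argument uses x ∈ E, so it is stated here for x ∈ E.) Stated as an equivalence
for X locally Noetherian. -/
theorem result (X : Scheme.{u}) [IsLocallyNoetherian X]
    (E : Set X) :
    ProCons.IsIndConstructible E ↔
      ∀ x ∈ E, (Subtype.val ⁻¹' E : Set ↥(closure ({x} : Set X))) ∈ nhds (⟨x, subset_closure rfl⟩ : ↥(closure ({x} : Set X))) := by
  constructor
  · intro hE x hxE
    obtain ⟨U, hU, hxU, -⟩ := exists_isAffineOpen_mem_le X x ⊤ trivial
    haveI : IsAffine (U : Scheme.{u}) := hU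
    let y : (U : Scheme.{u}) := ⟨x, hxU⟩
    have h1 := isIndConstructible_iff.mp hE U hU
    obtain ⟨B, hB, hyB, hBE⟩ := exists_isConstructible_nhd_of_isOpen_cons h1 (y := y) hxE
    obtain ⟨O, hO, hyO, h⟩ := exists_open_of_isConstructible hB y
    have hsub : O ∩ closure {y} ⊆ B := by
      rcases h with h | h
      · exact h
      · exact absurd hyB (h ⟨hyO, subset_closure rfl⟩)
    rw [mem_nhds_subtype]
    refine ⟨U.ι.base '' O, (U.ι.isOpenEmbedding.isOpenMap _ hO).mem_nhds ⟨y, hyO, rfl⟩, ?_⟩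
    rintro ⟨_, hzc⟩ ⟨o, ho, rfl⟩
    apply hBE
    apply hsub
    refine ⟨ho, ?_⟩
    rw [U.ι.isOpenEmbedding.isInducing.closure_eq_preimage_closure_image, Set.image_singleton]
    exact hzc
  · intro h
    rw [isIndConstructible_iff]
    intro U hU
    haveI : IsAffine (U : Scheme.{u}) := hU
    haveI : NoetherianSpace (U : Scheme.{u}) := by
      haveI := IsLocallyNoetherian.component_noetherian (X := X) ⟨U, hU⟩
      exact noetherianSpace_of_isAffineOpen U hU
    rw [@isOpen_iff_forall_mem_open _ (constructibleTopology (U : Scheme.{u}))]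
    intro y hy
    have hx := h (U.ι.base y) hy
    rw [mem_nhds_subtype] at hx
    obtain ⟨N, hN, hNE⟩ := hx
    obtain ⟨O, hON, hO, hxO⟩ := mem_nhds_iff.mp hN
    refine ⟨U.ι.base ⁻¹' O ∩ U.ι.base ⁻¹' closure {U.ι.base y}, ?_, ?_, ⟨hxO, subset_closure rfl⟩⟩
    · rintro z ⟨hzO, hzc⟩
      exact @hNE ⟨U.ι.base z, hzc⟩ (hON hzO)
    · exact isOpen_cons_of_isConstructible (isConstructible_inter_of_noetherianSpace
        (hO.preimage U.ι.base.hom.continuous) (isClosed_closure.preimage U.ι.base.hom.continuous))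

end Groth.Agent.S3401
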