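import Groth.Statements.S3406
import Groth.Agent.Lib.Helper9.SemiLocal

set_option autoImplicit false
universe u
open EGA41

namespace Groth.Agent.S3406

open Groth.Agent.Lib.Helper9


/-- The equality s(M) = dim(M): let A be a Noetherian ring with finitely many maximal ideals, r its
Jacobson radical and M a nonzero finitely generated A-module. Then the dimension of M (the Krull
dimension of its support) is the least n for which there are elements x_1, …, x_n of r such that
M/(x_1 M + ⋯ + x_n M) has finite length. -/
theorem result (A : Type u) [CommRing A] [IsNoetherianRing A]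
    [Finite (MaximalSpectrum A)] (M : Type u) [AddCommGroup M] [Module A M] [Module.Finite A M] [Nontrivial M] :
    Module.supportDim A M =
      sInf {k : WithBot ℕ∞ | ∃ (n : ℕ) (x : Fin n → A), k = n ∧ (∀ i, x i ∈ Ring.jacobson A) ∧
        IsFiniteLength A (M ⧸ (Ideal.span (Set.range x) • (⊤ : Submodule A M)))} := by
  apply le_antisymm
  · apply le_sInf
    rintro k ⟨n, x, rfl, hxJ, hfl⟩
    have h1 := supportDim_le_supportDim_quot_ofList_add_length (List.ofFn x)
      (fun z hz => by
        obtain ⟨i, rfl⟩ := List.mem_ofFn.mp hz
        exact hxJ i) M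
    have hspan : Ideal.ofList (List.ofFn x) = Ideal.span (Set.range x) := by
      unfold Ideal.ofList
      congr 1
      ext z
      simp [List.mem_ofFn]
    rw [hspan] at h1
    have h2 := supportDim_le_zero_of_isFiniteLength hfl
    calc Module.supportDim A M ≤ _ := h1
      _ ≤ 0 + ((List.ofFn x).length : WithBot ℕ∞) := add_le_add h2 le_rfl
      _ = n := by simp
  · obtain ⟨e, he⟩ := exists_nat_supportDim_eq A M
    obtain ⟨ys, hys, hlen, hfl⟩ := exists_sop e M he
    apply sInf_le
    refine ⟨e, fun i => ys.get (i.cast hlen.symm), by rw [he], fun i => hys _ (List.get_mem _ _), ?_⟩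
    have hspan : Ideal.span (Set.range fun i : Fin e => ys.get (i.cast hlen.symm)) =
        Ideal.ofList ys := by
      unfold Ideal.ofList
      congr 1
      ext z
      simp only [Set.mem_range, Set.mem_setOf_eq]
      constructor
      · rintro ⟨i, rfl⟩
        exact List.get_mem _ _
      · intro hz
        obtain ⟨j, rfl⟩ := List.mem_iff_get.mp hz
        exact ⟨j.cast hlen, by simp⟩
    rw [hspan]
    exact hfl

end Groth.Agent.S3406
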