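import Groth.Statements.S3412
import Mathlib
import Groth.Agent.Lib.Helper8.FibIntN

set_option autoImplicit false
open CategoryTheory AlgebraicGeometry
universe u
open EGA43

namespace Groth.Agent.S3412

/-- Let Y be locally Noetherian, f : X ⟶ Y separated and quasi-finite, n(z) the geometric number of
points of the fibre over z, and y a point such that f is universally open at every point of the
fibre over y. If n is constant on a neighbourhood of y, then f is proper at y: there is an open
neighbourhood U of y such that the restriction of f over U is proper. -/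
theorem result {X Y : Scheme.{u}} [IsLocallyNoetherian Y] (f : X ⟶ Y)
    [IsSeparated f] [LocallyQuasiFinite f] [LocallyOfFiniteType f] [QuasiCompact f] (y : Y)
    (h : ∀ x : X, f.base x = y → EGA43.IsUnivOpenAt f x)
    (hc : ∃ V ∈ nhds y, ∀ z ∈ V, MoreMor.nGeomConnComp f z = MoreMor.nGeomConnComp f y) :
    ∃ U : Y.Opens, y ∈ U ∧ IsProper (f ∣_ U) := by
  have hfin : ∀ y : Y, (f ⁻¹' {y}).Finite := fun y => f.finite_preimage_singleton y
  have hn : ∀ z, MoreMor.nGeomConnComp f z =
      ((MoreMor.fibreIntegral f (fun _ => 1) z).toNat : ℕ∞) := fun z =>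
    Groth.Agent.Lib.Helper8.FibIntN.nGeomConnComp_eq f z (hfin z)
  have hnn : ∀ z, 0 ≤ MoreMor.fibreIntegral f (fun _ => 1) z := fun z =>
    Groth.Agent.Lib.Helper8.FibIntN.fibreIntegral_one_nonneg f z
  obtain ⟨V, hV, hVc⟩ := hc
  refine Groth.Agent.Lib.Helper8.FibIntN.proper_nhds_of_const f hfin y (fun x hx => h x hx)
    ⟨V, hV, fun z hz => ?_⟩
  have h1 := hVc z hz
  rw [hn, hn] at h1
  have h2 : (MoreMor.fibreIntegral f (fun _ => 1) z).toNat =
      (MoreMor.fibreIntegral f (fun _ => 1) y).toNat := by exact_mod_cast h1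
  rw [← Int.toNat_of_nonneg (hnn z), ← Int.toNat_of_nonneg (hnn y), h2]

end Groth.Agent.S3412
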