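import Groth.Statements.S3413
import Mathlib
import Groth.Agent.Lib.Helper8.FibIntN3

set_option autoImplicit false
open CategoryTheory AlgebraicGeometry
universe u
open EGA43

namespace Groth.Agent.S3413

/-- Let Y be locally Noetherian with all local rings geometrically unibranch, f : X ⟶ Y separated,
quasi-finite and universally open, and n(z) the geometric number of points of the fibre over z. If n
is locally constant on Y, then the irreducible components of X are pairwise disjoint. -/
theorem result {X Y : Scheme.{u}} [IsLocallyNoetherian Y]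
    (hY : ∀ y : Y, CAlg2.IsGeomUnibranch (Y.presheaf.stalk y)) (f : X ⟶ Y)
    [IsSeparated f] [LocallyQuasiFinite f] [LocallyOfFiniteType f] [QuasiCompact f] [UniversallyOpen f]
    (hn : IsLocallyConstant (fun z : Y => MoreMor.nGeomConnComp f z)) :
    ∀ Z ∈ irreducibleComponents (X : Type u), ∀ Z' ∈ irreducibleComponents (X : Type u), Z ≠ Z' → Disjoint Z Z' := by
  have hfin : ∀ y : Y, (f ⁻¹' {y}).Finite := fun y => f.finite_preimage_singleton y
  have hnn : ∀ z, MoreMor.nGeomConnComp f z =
      ((MoreMor.fibreIntegral f (fun _ => 1) z).toNat : ℕ∞) := fun z =>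
    Groth.Agent.Lib.Helper8.FibIntN.nGeomConnComp_eq f z (hfin z)
  have hpos : ∀ z, 0 ≤ MoreMor.fibreIntegral f (fun _ => 1) z := fun z =>
    Groth.Agent.Lib.Helper8.FibIntN.fibreIntegral_one_nonneg f z
  refine Groth.Agent.Lib.Helper8.FibIntN3.disjoint_irreducibleComponents_of_const f hfin
    (fun x => Groth.Agent.Lib.Helper8.FibIntN.isUnivOpenAt_of_universallyOpen f x) hY ?_
  intro y
  refine ⟨_, hn.isOpen_fiber (MoreMor.nGeomConnComp f y), rfl, fun z hz => ?_⟩
  have h1 : MoreMor.nGeomConnComp f z = MoreMor.nGeomConnComp f y := hz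
  rw [hnn, hnn] at h1
  have h2 : (MoreMor.fibreIntegral f (fun _ => 1) z).toNat =
      (MoreMor.fibreIntegral f (fun _ => 1) y).toNat := by exact_mod_cast h1
  rw [← Int.toNat_of_nonneg (hpos z), ← Int.toNat_of_nonneg (hpos y), h2]

end Groth.Agent.S3413
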