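import Groth.Statements.S3418
import Mathlib
import Groth.Agent.Lib.Helper8.FibIntN

set_option autoImplicit false
open CategoryTheory AlgebraicGeometry
universe u
open EGA43

namespace Groth.Agent.S3418

/-- Let f : X ⟶ Y be flat, locally of finite presentation, separated and quasi-finite, and let n(y) be
the geometric number of points of the fibre over y. Then n is lower semicontinuous on Y, and if n is
constant on a neighbourhood of a point y₀ then f is proper over some open neighbourhood of y₀. -/
theorem result {X Y : Scheme.{u}} (f : X ⟶ Y) [Flat f]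
    [LocallyOfFinitePresentation f] [IsSeparated f] [LocallyQuasiFinite f] [QuasiCompact f] :
    LowerSemicontinuous (fun z : Y => MoreMor.nGeomConnComp f z) ∧
      ∀ y₀ : Y, (∃ V ∈ nhds y₀, ∀ z ∈ V, MoreMor.nGeomConnComp f z = MoreMor.nGeomConnComp f y₀) →
        ∃ U : Y.Opens, y₀ ∈ U ∧ IsProper (f ∣_ U) := by
  have hfin : ∀ y : Y, (f ⁻¹' {y}).Finite := fun y => f.finite_preimage_singleton y
  haveI : UniversallyOpen f := UniversallyOpen.of_flat f
  have hopen : ∀ x, EGA43.IsUnivOpenAt f x := fun x =>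
    Groth.Agent.Lib.Helper8.FibIntN.isUnivOpenAt_of_universallyOpen f x
  have hn : ∀ z, MoreMor.nGeomConnComp f z =
      ((MoreMor.fibreIntegral f (fun _ => 1) z).toNat : ℕ∞) := fun z =>
    Groth.Agent.Lib.Helper8.FibIntN.nGeomConnComp_eq f z (hfin z)
  have hnn : ∀ z, 0 ≤ MoreMor.fibreIntegral f (fun _ => 1) z := fun z =>
    Groth.Agent.Lib.Helper8.FibIntN.fibreIntegral_one_nonneg f z
  constructor
  · intro y c hc
    obtain ⟨U, hUo, hyU, hU⟩ := Groth.Agent.Lib.Helper8.FibIntN.fibreIntegral_one_ge_nhds f hfin y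
      (fun x _ => hopen x)
    refine Filter.eventually_of_mem (hUo.mem_nhds hyU) fun y' hy' => ?_
    have hc' : c < ((MoreMor.fibreIntegral f (fun _ => 1) y).toNat : ℕ∞) := by
      rw [← hn]; exact hc
    show c < MoreMor.nGeomConnComp f y'
    rw [hn]
    exact lt_of_lt_of_le hc' (by exact_mod_cast Int.toNat_le_toNat (hU y' hy'))
  · rintro y₀ ⟨V, hV, hVc⟩
    refine Groth.Agent.Lib.Helper8.FibIntN.proper_nhds_of_const f hfin y₀ (fun x _ => hopen x)
      ⟨V, hV, fun z hz => ?_⟩
    have h1 := hVc z hz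
    rw [hn, hn] at h1
    have h2 : (MoreMor.fibreIntegral f (fun _ => 1) z).toNat =
        (MoreMor.fibreIntegral f (fun _ => 1) y₀).toNat := by exact_mod_cast h1
    rw [← Int.toNat_of_nonneg (hnn z), ← Int.toNat_of_nonneg (hnn y₀), h2]

end Groth.Agent.S3418
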