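import Groth.Statements.S3419
-- import your own Groth.Agent.* helpers here
import Mathlib
import Groth.Agent.Lib.Helper12.SecComp
import Groth.Agent.Lib.Helper12.Chevalley

set_option autoImplicit false
open CategoryTheory AlgebraicGeometry
universe u
open EGA43

namespace Groth.Agent.S3419
open Groth.Agent.Lib.Helper12 Groth.Agent.Lib.Helper12.SecComp


/-- Let Y be locally Noetherian, f : X ⟶ Y locally of finite type and g a section of f; for y in Y let
X⁰_y be the connected component of the fibre f⁻¹(y) containing g(y). Suppose every X⁰_y is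
irreducible. Then y ↦ dim X⁰_y is upper semicontinuous on Y; and if this function is constant on a
neighbourhood of a point y, then X⁰_y is contained in the closure of X⁰_{y'} for every generization
y' of y. -/
theorem result {X Y : Scheme.{u}} [IsLocallyNoetherian Y] (f : X ⟶ Y)
    [LocallyOfFiniteType f] (g : Y ⟶ X) (hg : g ≫ f = 𝟙 Y)
    (hirr : ∀ y : Y, IsIrreducible (connectedComponentIn (f.base ⁻¹' {y}) (g.base y))) :
    UpperSemicontinuous (fun y : Y => topologicalKrullDim ↥(connectedComponentIn (f.base ⁻¹' {y}) (g.base y))) ∧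
      ∀ y : Y, (∃ V ∈ nhds y, ∀ z ∈ V, topologicalKrullDim ↥(connectedComponentIn (f.base ⁻¹' {z}) (g.base z)) = topologicalKrullDim ↥(connectedComponentIn (f.base ⁻¹' {y}) (g.base y))) →
        ∀ y' : Y, y' ⤳ y → connectedComponentIn (f.base ⁻¹' {y}) (g.base y) ⊆ closure (connectedComponentIn (f.base ⁻¹' {y'}) (g.base y')) := by
  have hfg : ∀ y : Y, f.base (g.base y) = y := by
    intro y
    have := congrArg (fun φ => φ.base y) hg
    simpa using this
  have hF : ∀ y : Y, topologicalKrullDim ↥(connectedComponentIn (f.base ⁻¹' {y}) (g.base y)) =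
      FlatMor.fibreDimAt f (g.base y) :=
    fun y => dim_connectedComponentIn_eq_fibreDimAt' f (g.base y) y (hfg y) (hirr y)
  have hCe : ∀ y : Y, connectedComponentIn (f.base ⁻¹' {y}) (g.base y) =
      connectedComponentIn (f.base ⁻¹' {f.base (g.base y)}) (g.base y) := by
    intro y
    rw [hfg y]
  refine ⟨?_, ?_⟩
  · intro y c hc
    simp only [hF] at hc ⊢
    obtain ⟨m, hm⟩ := exists_nat_fibreDimAt f (g.base y)
    have hopen := Chevalley.isOpen_setOf_fibreDimAt_le f m
    have hopen2 : IsOpen (g.base ⁻¹' {x : X | FlatMor.fibreDimAt f x ≤ m}) :=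
      hopen.preimage g.continuous
    have hy : y ∈ g.base ⁻¹' {x : X | FlatMor.fibreDimAt f x ≤ m} := by
      simp only [Set.mem_preimage, Set.mem_setOf_eq]
      rw [hm]
    refine Filter.eventually_of_mem (hopen2.mem_nhds hy) ?_
    intro y' hy'
    simp only [Set.mem_preimage, Set.mem_setOf_eq] at hy'
    rw [hm] at hc
    exact lt_of_le_of_lt hy' hc
  · rintro y ⟨V, hV, hVc⟩ y' hy'
    have hy'V : y' ∈ V := mem_of_mem_nhds (hy'.nhds_le_nhds hV)
    have h1 := hVc y' hy'V
    rw [hF, hF] at h1
    have hirr1 := hirr y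
    have hirr2 := hirr y'
    rw [hCe] at hirr1 hirr2
    obtain ⟨ξ, hξC, hξ⟩ := exists_generic_of_isIrreducible f (g.base y) hirr1
    obtain ⟨ξ', hξC', hξ'⟩ := exists_generic_of_isIrreducible f (g.base y') hirr2
    have hsp : ξ' ⤳ ξ := specializes_generic_of_fibreDimAt_le f (g.base y) (g.base y') ξ ξ'
      (hy'.map g.continuous) hξC hξ hξC' hξ' h1.symm.le
    intro t ht
    rw [hCe y] at ht
    have h2 : ξ' ⤳ t := hsp.trans (hξ t ht)
    have h3 : t ∈ closure ({ξ'} : Set X) := specializes_iff_mem_closure.mp h2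
    refine closure_mono ?_ h3
    rw [Set.singleton_subset_iff, hCe y']
    exact hξC'

end Groth.Agent.S3419
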