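import Groth.Statements.S3420
-- import your own Groth.Agent.* helpers here
import Mathlib
import Groth.Agent.Lib.Helper12.SecCompUO

set_option autoImplicit false
open CategoryTheory AlgebraicGeometry
universe u
open EGA43

namespace Groth.Agent.S3420

/-- Let Y be locally Noetherian, f : X ⟶ Y locally of finite type, g a section of f, X⁰_y the connected
component of f⁻¹(y) containing g(y) and X⁰ the union of the X⁰_y. If y is a point such that the
fibre over y is geometrically reduced at every point of X⁰_y and f is universally open at every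
point of X⁰_y, then X⁰ is a neighbourhood of X⁰_y in X. In particular, if f is universally open and
every fibre is geometrically reduced at the points of X⁰, then X⁰ is open in X. -/
theorem result {X Y : Scheme.{u}} [IsLocallyNoetherian Y] (f : X ⟶ Y)
    [LocallyOfFiniteType f] (g : Y ⟶ X) (hg : g ≫ f = 𝟙 Y) :
    (∀ y : Y, (∀ x ∈ connectedComponentIn (f.base ⁻¹' {y}) (g.base y), EGA43.IsUnivOpenAt f x ∧
        FBase.IsGeomReducedAt (f.fiberToSpecResidueField (f.base x)) (f.asFiber x)) →
      connectedComponentIn (f.base ⁻¹' {y}) (g.base y) ⊆ interior (MoreMor.sectionComponents f g)) ∧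
    (UniversallyOpen f → (∀ x ∈ MoreMor.sectionComponents f g,
        FBase.IsGeomReducedAt (f.fiberToSpecResidueField (f.base x)) (f.asFiber x)) →
      IsOpen (MoreMor.sectionComponents f g)) := by
  have part1 : ∀ y : Y, (∀ x ∈ connectedComponentIn (f.base ⁻¹' {y}) (g.base y),
      EGA43.IsUnivOpenAt f x ∧
        FBase.IsGeomReducedAt (f.fiberToSpecResidueField (f.base x)) (f.asFiber x)) →
      connectedComponentIn (f.base ⁻¹' {y}) (g.base y) ⊆
        interior (MoreMor.sectionComponents f g) := by
    intro y hyp
    exact Groth.Agent.Lib.Helper12.SecCompUO.nhd_lft f g hg y hyp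
  refine ⟨part1, ?_⟩
  intro hopen hred
  haveI : UniversallyOpen f := hopen
  rw [← subset_interior_iff_isOpen]
  intro x hx
  have hx' : x ∈ connectedComponentIn (f.base ⁻¹' {f.base x}) (g.base (f.base x)) := hx
  refine part1 (f.base x) ?_ hx'
  intro z hz
  have hfz : f.base z = f.base x :=
    (connectedComponentIn_subset (f.base ⁻¹' {f.base x}) (g.base (f.base x))) hz
  refine ⟨?_, ?_⟩
  · intro Y' g' x' _
    intro O hO
    exact (CategoryTheory.Limits.pullback.snd f g').isOpenMap.image_mem_nhds hO
  · apply hred
    exact (Groth.Agent.Lib.Helper12.SecCompNhd.mem_sectionComponents_iff f g z (f.base x) hfz).mpr hz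

end Groth.Agent.S3420
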