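import Groth.Statements.S3424
-- import your own Groth.Agent.* helpers here
import Mathlib
import Groth.Agent.Lib.Helper12.FibreSep

set_option autoImplicit false
open CategoryTheory AlgebraicGeometry
universe u
open EGA43

namespace Groth.Agent.S3424

open CategoryTheory.Limits in
/-- Let g : Y ⟶ S and f : X ⟶ Y be such that X and Y are of finite presentation over S (locally of
finite presentation, quasi-compact and quasi-separated). For each point s of S let f_s be the
induced morphism from the fibre of f ≫ g over s to the fibre of g over s. Then the set of s for
which f_s is separated is locally constructible in S. -/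
theorem result {X Y S : Scheme.{u}} (f : X ⟶ Y) (g : Y ⟶ S)
    [LocallyOfFinitePresentation g] [QuasiCompact g] [QuasiSeparated g]
    [LocallyOfFinitePresentation (f ≫ g)] [QuasiCompact (f ≫ g)] [QuasiSeparated (f ≫ g)] :
    Topology.IsLocallyConstructible {s : S |
      IsSeparated (pullback.lift (pullback.fst (f ≫ g) (S.fromSpecResidueField s) ≫ f) (pullback.snd (f ≫ g) (S.fromSpecResidueField s))
          ((Category.assoc _ _ _).trans pullback.condition) :
        pullback (f ≫ g) (S.fromSpecResidueField s) ⟶ pullback g (S.fromSpecResidueField s))} := by
  haveI : LocallyOfFinitePresentation f :=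
    Groth.Agent.Lib.Helper12.FibreDominant.locallyOfFinitePresentation_of_comp f g
  haveI : QuasiCompact f := QuasiCompact.of_comp f g
  haveI : QuasiSeparated f := QuasiSeparated.of_comp f g
  haveI : LocallyOfFinitePresentation (Limits.pullback.diagonal f ≫ Limits.pullback.fst f f) := by
    rw [Limits.pullback.diagonal_fst]; infer_instance
  haveI : LocallyOfFinitePresentation (Limits.pullback.diagonal f) :=
    Groth.Agent.Lib.Helper12.FibreDominant.locallyOfFinitePresentation_of_comp
      (Limits.pullback.diagonal f) (Limits.pullback.fst f f)
  have hZ : Topology.IsLocallyConstructible (Set.range (Limits.pullback.diagonal f)) := by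
    have := (Limits.pullback.diagonal f).isLocallyConstructible_image (s := Set.univ)
      (Topology.IsConstructible.univ).isLocallyConstructible
    rwa [Set.image_univ] at this
  have key := Groth.Agent.Lib.Helper12.SubsetLocus.isLocallyConstructible_of_rel
    Groth.Agent.Lib.Helper12.FibreTopGen.bcStable_closed
    Groth.Agent.Lib.Helper12.FibreTopGen.genCons_closed
    (Groth.Agent.Lib.Helper12.FibreSep.diagStr f g) _ _ hZ hZ
  convert key using 1
  ext s
  exact Groth.Agent.Lib.Helper12.FibreSep.isSeparated_fiberMap_iff f g s

end Groth.Agent.S3424
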