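import Groth.Statements.S3430
-- import your own Groth.Agent.* helpers here
import Mathlib
import Groth.Agent.Lib.Helper12.AffSpaceMain

set_option autoImplicit false
open CategoryTheory AlgebraicGeometry
universe u
open EGA42

namespace Groth.Agent.S3430

/-- Let X be a scheme of finite type over a field k and n a natural number. Then: dim X ≥ n if and only
if there are a dense open subscheme U of X and a surjective k-morphism from U to affine n-space over
k; dim X ≤ n if and only if there are such U and g with g finite; dim X = n if and only if there are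
such U and g with g finite and surjective. -/
theorem result (k : Type u) [Field k] {X : Scheme.{u}}
    (f : X ⟶ Spec (CommRingCat.of k)) [LocallyOfFiniteType f] [QuasiCompact f] (n : ℕ) :
    ((n : WithBot ℕ∞) ≤ topologicalKrullDim (X : Type u) ↔
      ∃ (U : X.Opens) (g : (U : Scheme.{u}) ⟶ 𝔸(ULift.{u} (Fin n); Spec (CommRingCat.of k))),
        Dense (U : Set X) ∧ g ≫ (𝔸(ULift.{u} (Fin n); Spec (CommRingCat.of k)) ↘ Spec (CommRingCat.of k)) = U.ι ≫ f ∧ Function.Surjective g.base) ∧
    (topologicalKrullDim (X : Type u) ≤ n ↔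
      ∃ (U : X.Opens) (g : (U : Scheme.{u}) ⟶ 𝔸(ULift.{u} (Fin n); Spec (CommRingCat.of k))),
        Dense (U : Set X) ∧ g ≫ (𝔸(ULift.{u} (Fin n); Spec (CommRingCat.of k)) ↘ Spec (CommRingCat.of k)) = U.ι ≫ f ∧ IsFinite g) ∧
    (topologicalKrullDim (X : Type u) = n ↔
      ∃ (U : X.Opens) (g : (U : Scheme.{u}) ⟶ 𝔸(ULift.{u} (Fin n); Spec (CommRingCat.of k))),
        Dense (U : Set X) ∧ g ≫ (𝔸(ULift.{u} (Fin n); Spec (CommRingCat.of k)) ↘ Spec (CommRingCat.of k)) = U.ι ≫ f ∧ IsFinite g ∧ Function.Surjective g.base) := by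
  classical
  obtain ⟨U, hU, hd, hdim, hft⟩ := Groth.Agent.Lib.Helper12.AffSpaceMain.exists_dense_affine k f
  letI algB : Algebra k Γ(X, U) := (Groth.Agent.Lib.Helper14.SmoothInsepSch.secMap f hU).hom.toAlgebra
  haveI : Algebra.FiniteType k Γ(X, U) := hft
  have hover : ∀ ψ : MvPolynomial (Fin n) k →ₐ[k] Γ(X, U),
      (Groth.Agent.Lib.Helper12.AffSpaceMain.liftHom ψ).comp MvPolynomial.C =
        (Groth.Agent.Lib.Helper14.SmoothInsepSch.secMap f hU).hom := by
    intro ψ
    ext c
    exact Groth.Agent.Lib.Helper12.AffSpaceMain.liftHom_C ψ c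
  refine ⟨⟨fun h => ?_, ?_⟩, ⟨fun h => ?_, ?_⟩, ⟨fun h => ?_, ?_⟩⟩
  · -- n ≤ dim ⟹ surjective map
    rw [hdim] at h
    haveI : Nontrivial Γ(X, U) := by
      by_contra hne
      rw [not_nontrivial_iff_subsingleton] at hne
      rw [ringKrullDim_eq_bot_of_subsingleton] at h
      exact absurd h (by simp)
    obtain ⟨ψ, hψ⟩ := Groth.Agent.Lib.Helper12.NNDim.exists_comap_surjective_of_le (k := k) n h
    refine ⟨U, Groth.Agent.Lib.Helper12.AffSpaceMap.toAff hU n
      (Groth.Agent.Lib.Helper12.AffSpaceMain.liftHom ψ), hd,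
      Groth.Agent.Lib.Helper12.AffSpaceMap.toAff_over f hU n _ (hover ψ), ?_⟩
    haveI := Groth.Agent.Lib.Helper12.AffSpaceMap.surjective_toAff hU n _
      (Groth.Agent.Lib.Helper12.AffSpaceMain.liftHom_comap_surjective ψ hψ)
    exact (Groth.Agent.Lib.Helper12.AffSpaceMap.toAff hU n
      (Groth.Agent.Lib.Helper12.AffSpaceMain.liftHom ψ)).surjective
  · rintro ⟨U', g, -, hg, hs⟩
    exact Groth.Agent.Lib.Helper12.AffSpaceConv.le_dim_of_surjective f U' g hg hs
  · -- dim ≤ n ⟹ finite map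
    rw [hdim] at h
    by_cases hnt : Nontrivial Γ(X, U)
    · obtain ⟨ψ, hψ⟩ := Groth.Agent.Lib.Helper12.NNDim.exists_finite_of_le (k := k) n h
      refine ⟨U, Groth.Agent.Lib.Helper12.AffSpaceMap.toAff hU n
        (Groth.Agent.Lib.Helper12.AffSpaceMain.liftHom ψ), hd,
        Groth.Agent.Lib.Helper12.AffSpaceMap.toAff_over f hU n _ (hover ψ), ?_⟩
      exact Groth.Agent.Lib.Helper12.AffSpaceMap.isFinite_toAff hU n _
        (Groth.Agent.Lib.Helper12.AffSpaceMain.liftHom_finite ψ hψ)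
    · rw [not_nontrivial_iff_subsingleton] at hnt
      let ψ : MvPolynomial (Fin n) k →ₐ[k] Γ(X, U) := MvPolynomial.aeval (fun _ => 0)
      have hψ : ψ.Finite := by
        letI := ψ.toRingHom.toAlgebra
        exact (inferInstance : Module.Finite (MvPolynomial (Fin n) k) Γ(X, U))
      refine ⟨U, Groth.Agent.Lib.Helper12.AffSpaceMap.toAff hU n
        (Groth.Agent.Lib.Helper12.AffSpaceMain.liftHom ψ), hd,
        Groth.Agent.Lib.Helper12.AffSpaceMap.toAff_over f hU n _ (hover ψ), ?_⟩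
      exact Groth.Agent.Lib.Helper12.AffSpaceMap.isFinite_toAff hU n _
        (Groth.Agent.Lib.Helper12.AffSpaceMain.liftHom_finite ψ hψ)
  · rintro ⟨U', g, hd', -, hfin⟩
    haveI := hfin
    exact Groth.Agent.Lib.Helper12.AffSpaceConv.dim_le_of_finite f U' hd' g
  · -- dim = n ⟹ finite surjective map
    rw [hdim] at h
    haveI : Nontrivial Γ(X, U) := by
      by_contra hne
      rw [not_nontrivial_iff_subsingleton] at hne
      rw [ringKrullDim_eq_bot_of_subsingleton] at h
      exact absurd h (by simp)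
    obtain ⟨ψ, hψ1, hψ2⟩ := Groth.Agent.Lib.Helper12.NNDim.exists_finite_comap_surjective_of_eq (k := k) n h
    refine ⟨U, Groth.Agent.Lib.Helper12.AffSpaceMap.toAff hU n
      (Groth.Agent.Lib.Helper12.AffSpaceMain.liftHom ψ), hd,
      Groth.Agent.Lib.Helper12.AffSpaceMap.toAff_over f hU n _ (hover ψ),
      Groth.Agent.Lib.Helper12.AffSpaceMap.isFinite_toAff hU n _
        (Groth.Agent.Lib.Helper12.AffSpaceMain.liftHom_finite ψ hψ1), ?_⟩
    haveI := Groth.Agent.Lib.Helper12.AffSpaceMap.surjective_toAff hU n _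
      (Groth.Agent.Lib.Helper12.AffSpaceMain.liftHom_comap_surjective ψ hψ2)
    exact (Groth.Agent.Lib.Helper12.AffSpaceMap.toAff hU n
      (Groth.Agent.Lib.Helper12.AffSpaceMain.liftHom ψ)).surjective
  · rintro ⟨U', g, hd', hg, hfin, hs⟩
    haveI := hfin
    exact le_antisymm (Groth.Agent.Lib.Helper12.AffSpaceConv.dim_le_of_finite f U' hd' g)
      (Groth.Agent.Lib.Helper12.AffSpaceConv.le_dim_of_surjective f U' g hg hs)

end Groth.Agent.S3430
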