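import Groth.Statements.S3431
import Groth.Agent.Lib.Helper6.ArtinTate
import Mathlib.RingTheory.Jacobson.Ring

set_option autoImplicit false
universe u
open EGA43

namespace Groth.Agent.S3431

open Groth.Agent.Lib.Helper6

/-- Let A be a Noetherian ring. Then A is a Jacobson ring if and only if there is no prime ideal p of A
such that A/p is semi-local (finitely many maximal ideals) of Krull dimension 1. -/
theorem result (A : Type u) [CommRing A] [IsNoetherianRing A] :
    IsJacobsonRing A ↔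
      ∀ (p : Ideal A) [p.IsPrime], ¬ (Finite (MaximalSpectrum (A ⧸ p)) ∧ ringKrullDim (A ⧸ p) = 1) := by
  classical
  constructor
  · intro hA p hp ⟨hfin, hdim⟩
    haveI : IsJacobsonRing (A ⧸ p) :=
      isJacobsonRing_of_surjective ⟨Ideal.Quotient.mk p, Ideal.Quotient.mk_surjective⟩
    have hJ : (⊥ : Ideal (A ⧸ p)).jacobson = ⊥ :=
      IsJacobsonRing.out ‹_› (Ideal.isPrime_bot.isRadical)
    haveI := Fintype.ofFinite (MaximalSpectrum (A ⧸ p))
    have hle : (Finset.univ : Finset (MaximalSpectrum (A ⧸ p))).inf (fun x => x.asIdeal) ≤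
        (⊥ : Ideal (A ⧸ p)) := by
      rw [← hJ]
      refine le_sInf ?_
      rintro J ⟨-, hJmax⟩
      exact Finset.inf_le (f := fun x : MaximalSpectrum (A ⧸ p) => x.asIdeal)
        (Finset.mem_univ ⟨J, hJmax⟩)
    obtain ⟨x, -, hx⟩ := (Ideal.IsPrime.inf_le' Ideal.isPrime_bot).mp hle
    have hbot : x.asIdeal = ⊥ := le_bot_iff.mp hx
    have hfield : IsField (A ⧸ p) := by
      rw [Ring.isField_iff_maximal_bot, ← hbot]
      exact x.isMaximal
    rw [ringKrullDim_eq_zero_of_isField hfield] at hdim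
    exact absurd hdim (by decide)
  · intro H
    by_contra hnot
    rw [isJacobsonRing_iff_prime_eq] at hnot
    push_neg at hnot
    obtain ⟨p, hp, hpne⟩ := hnot
    have hlt : p < p.jacobson := lt_of_le_of_ne Ideal.le_jacobson (Ne.symm hpne)
    obtain ⟨f, hfJ, hfp⟩ := SetLike.exists_of_lt hlt
    -- the family of ideals containing `p` and disjoint from the powers of `f`
    let 𝒮 : Set (Ideal A) := {I | p ≤ I ∧ ∀ n : ℕ, f ^ n ∉ I}
    have hp𝒮 : p ∈ 𝒮 := ⟨le_rfl, fun n hn => hfp (hp.mem_of_pow_mem n hn)⟩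
    obtain ⟨P, hP𝒮, hPmax⟩ := WellFounded.has_min (wellFounded_gt (α := Ideal A)) 𝒮 ⟨p, hp𝒮⟩
    have hPprime : P.IsPrime := by
      refine Ideal.isPrime_of_maximally_disjoint P (Submonoid.powers f) ?_ ?_
      · rw [Set.disjoint_left]
        rintro x hxP ⟨n, rfl⟩
        exact hP𝒮.2 n hxP
      · intro J hJ hdisj
        refine hPmax J ⟨hP𝒮.1.trans hJ.le, fun n hn => ?_⟩ hJ
        exact Set.disjoint_left.mp hdisj hn ⟨n, rfl⟩
    have hfP : f ∉ P := fun h => hP𝒮.2 1 (by simpa using h)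
    have hall : ∀ Q : Ideal A, Q.IsPrime → P < Q → f ∈ Q := by
      intro Q hQ hPQ
      by_contra hfQ
      exact hPmax Q ⟨hP𝒮.1.trans hPQ.le, fun n hn => hfQ (hQ.mem_of_pow_mem n hn)⟩ hPQ
    have hmk : Ideal.Quotient.mk P f ≠ 0 := by
      rwa [Ne, Ideal.Quotient.eq_zero_iff_mem]
    have hall' := quotient_forall_mem P hall
    have hfinP := finite_setOf_isPrime_of_forall_mem hmk hall'
    -- a maximal ideal above `P`; it contains `f`
    obtain ⟨M, hM, hPM⟩ := Ideal.exists_le_maximal P hPprime.ne_top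
    have hfM : f ∈ M := by
      have : p.jacobson ≤ M := sInf_le ⟨hP𝒮.1.trans hPM, hM⟩
      exact this hfJ
    have hPltM : P < M := lt_of_le_of_ne hPM (fun h => hfP (h ▸ hfM))
    haveI := hM.isPrime
    refine H P ⟨?_, le_antisymm ?_ (one_le_ringKrullDim_quotient P hPltM)⟩
    · haveI : Finite ↥{Q : Ideal (A ⧸ P) | Q.IsPrime} := hfinP.to_subtype
      refine Finite.of_injective
        (fun x : MaximalSpectrum (A ⧸ P) =>
          (⟨x.asIdeal, x.isMaximal.isPrime⟩ : ↥{Q : Ideal (A ⧸ P) | Q.IsPrime})) ?_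
      intro x y hxy
      exact MaximalSpectrum.ext (congrArg Subtype.val hxy)
    · have hdim : Ring.KrullDimLE 1 (A ⧸ P) :=
        Ring.krullDimLE_one_iff_of_noZeroDivisors.mpr
          (fun I hI0 hI => isMaximal_of_forall_mem hmk hall' I (hPp := hI) hI0)
      simpa using Ring.krullDimLE_iff.mp hdim

end Groth.Agent.S3431
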