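import Groth.Statements.S3435
import Mathlib.RingTheory.Kaehler.Basic

set_option autoImplicit false
universe u
open EGA41

namespace Groth.Agent.S3435

open TensorProduct in
/-- Let Λ → A → B → C be ring homomorphisms. The homomorphism Ω_{B/Λ} ⊗_B C → Ω_{B/A} ⊗_B C maps the
imperfection module Υ_{C/B/Λ} (the kernel of Ω_{B/Λ} ⊗_B C → Ω_{C/Λ}) onto the imperfection module
Υ_{C/B/A} (the kernel of Ω_{B/A} ⊗_B C → Ω_{C/A}): every element of Υ_{C/B/A} is the image of some
element of Υ_{C/B/Λ}. -/
theorem result (Λ A B C : Type u) [CommRing Λ] [CommRing A] [CommRing B] [CommRing C]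
    [Algebra Λ A] [Algebra Λ B] [Algebra Λ C] [Algebra A B] [Algebra A C] [Algebra B C]
    [IsScalarTower Λ A B] [IsScalarTower Λ A C] [IsScalarTower Λ B C] [IsScalarTower A B C] :
    ∀ ω ∈ EGA41.imperfection A B C, ∃ η ∈ EGA41.imperfection Λ B C,
      (KaehlerDifferential.map Λ A B B).baseChange C η = ω := by
  intro ω hω
  -- naturality: mapBaseChange A B C ∘ baseChange (map Λ A B B) = map Λ A C C ∘ mapBaseChange Λ B C
  have hnat : ∀ η : C ⊗[B] Ω[B⁄Λ],
      KaehlerDifferential.mapBaseChange A B C ((KaehlerDifferential.map Λ A B B).baseChange C η) =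
        KaehlerDifferential.map Λ A C C (KaehlerDifferential.mapBaseChange Λ B C η) := by
    intro η
    induction η with
    | zero => simp
    | add x y hx hy => simp only [map_add, hx, hy]
    | tmul c m =>
      obtain ⟨x, rfl⟩ := KaehlerDifferential.linearCombination_surjective _ _ m
      induction x using Finsupp.induction_linear with
      | zero => simp
      | add f g hf hg => simp only [map_add, TensorProduct.tmul_add, hf, hg]
      | single b r => simp
  -- the auxiliary map C ⊗[A] Ω[A/Λ] → C ⊗[B] Ω[B/Λ]
  let g : C ⊗[A] Ω[A⁄Λ] →ₗ[C] C ⊗[B] Ω[B⁄Λ] :=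
    LinearMap.liftBaseChange C
      (((TensorProduct.mk B C Ω[B⁄Λ] 1).restrictScalars A).comp (KaehlerDifferential.map Λ Λ A B))
  have hg1 : ∀ z, KaehlerDifferential.mapBaseChange Λ B C (g z) =
      KaehlerDifferential.mapBaseChange Λ A C z := by
    intro z
    induction z with
    | zero => simp
    | add x y hx hy => simp only [map_add, hx, hy]
    | tmul c m =>
      obtain ⟨x, rfl⟩ := KaehlerDifferential.linearCombination_surjective _ _ m
      induction x using Finsupp.induction_linear with
      | zero => simp
      | add f g hf hg => simp only [map_add, TensorProduct.tmul_add, hf, hg]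
      | single a r =>
        simp [g, ← IsScalarTower.algebraMap_apply]
  have hg2 : ∀ z, (KaehlerDifferential.map Λ A B B).baseChange C (g z) = 0 := by
    intro z
    induction z with
    | zero => simp
    | add x y hx hy => simp only [map_add, hx, hy, add_zero]
    | tmul c m =>
      obtain ⟨x, rfl⟩ := KaehlerDifferential.linearCombination_surjective _ _ m
      induction x using Finsupp.induction_linear with
      | zero => simp
      | add f g hf hg => simp only [map_add, TensorProduct.tmul_add, hf, hg, add_zero]
      | single a r =>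
        simp [g]
  have hsurj : Function.Surjective ((KaehlerDifferential.map Λ A B B).baseChange C) :=
    LinearMap.baseChange_surjective _ (KaehlerDifferential.map_surjective Λ A B) |>.comp fun x => ⟨x, rfl⟩
  obtain ⟨η', rfl⟩ := hsurj ω
  have h1 : KaehlerDifferential.map Λ A C C (KaehlerDifferential.mapBaseChange Λ B C η') = 0 := by
    rw [← hnat]; exact hω
  obtain ⟨z, hz⟩ := (KaehlerDifferential.exact_mapBaseChange_map Λ A C _).mp h1
  refine ⟨η' - g z, ?_, ?_⟩
  · show KaehlerDifferential.mapBaseChange Λ B C (η' - g z) = 0
    rw [map_sub, hg1, hz, sub_self]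
  · rw [map_sub, hg2, sub_zero]

end Groth.Agent.S3435
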