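import Groth.Statements.S3436
import Mathlib
import Groth.Agent.Lib.Helper8.LiftCrit

set_option autoImplicit false
open CategoryTheory AlgebraicGeometry
universe u
open EGA42

namespace Groth.Agent.S3436

/-- Let X and Y be locally Noetherian schemes, f : X ⟶ Y locally of finite type, x a point of X and y =
f x; give O_{X,x} the O_{Y,y}-algebra structure coming from f. Then O_{X,x} is formally smooth over
O_{Y,y} for the adic topologies of the two local rings (topologies defined by the maximal ideals) if
and only if it is formally smooth for the discrete topologies. -/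
theorem result {X Y : Scheme.{u}} [IsLocallyNoetherian X] [IsLocallyNoetherian Y]
    (f : X ⟶ Y) [LocallyOfFiniteType f] (x : X) :
    letI : Algebra (Y.presheaf.stalk (f.base x)) (X.presheaf.stalk x) := (f.stalkMap x).hom.toAlgebra
    EGA41.IsFormallySmoothAdic (Y.presheaf.stalk (f.base x)) (IsLocalRing.maximalIdeal (Y.presheaf.stalk (f.base x)))
        (X.presheaf.stalk x) (IsLocalRing.maximalIdeal (X.presheaf.stalk x)) ↔
      Algebra.FormallySmooth (Y.presheaf.stalk (f.base x)) (X.presheaf.stalk x) := by
  letI algAB : Algebra (Y.presheaf.stalk (f.base x)) (X.presheaf.stalk x) :=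
    (f.stalkMap x).hom.toAlgebra
  constructor
  · intro hAd
    haveI hess : Algebra.EssFiniteType (Y.presheaf.stalk (f.base x)) (X.presheaf.stalk x) :=
      LocallyOfFiniteType.stalkMap f x
    haveI hlocAB : IsLocalHom (algebraMap (Y.presheaf.stalk (f.base x)) (X.presheaf.stalk x)) :=
      inferInstanceAs (IsLocalHom (f.stalkMap x).hom)
    refine Groth.Agent.Lib.Helper8.LiftCrit.formallySmooth_of_lift_artinian
      (A := Y.presheaf.stalk (f.base x))
      (C := Algebra.EssFiniteType.subalgebra (Y.presheaf.stalk (f.base x)) (X.presheaf.stalk x))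
      (B := X.presheaf.stalk x)
      (Algebra.EssFiniteType.submonoid (Y.presheaf.stalk (f.base x)) (X.presheaf.stalk x)) ?_
    intro C' _ _ _ _ J hJm hJtop u hu
    have hJle : J ≤ IsLocalRing.maximalIdeal C' := IsLocalRing.le_maximalIdeal hJtop
    have hJnil : IsNilpotent J := by
      refine ⟨2, ?_⟩
      rw [Ideal.zero_eq_bot, eq_bot_iff, pow_two, ← hJm]
      exact Ideal.mul_mono_right hJle
    obtain ⟨n, hn⟩ : ∃ n : ℕ, IsLocalRing.maximalIdeal C' ^ n = ⊥ := by
      have := (isArtinianRing_iff_isNilpotent_maximalIdeal C').mp inferInstance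
      obtain ⟨n, hn⟩ := this
      exact ⟨n, hn⟩
    haveI : Nontrivial (C' ⧸ J) := Ideal.Quotient.nontrivial_iff.mpr hJtop
    haveI : IsLocalRing (C' ⧸ J) :=
      IsLocalRing.of_surjective' (Ideal.Quotient.mk J) Ideal.Quotient.mk_surjective
    haveI hloc_u : IsLocalHom u.toRingHom := IsLocalHom.of_surjective _ hu
    haveI hloc_mk : IsLocalHom (Ideal.Quotient.mk J) :=
      IsLocalHom.of_surjective _ Ideal.Quotient.mk_surjective
    have hmaxq : IsLocalRing.maximalIdeal (C' ⧸ J) ^ n = ⊥ := by
      rw [← IsLocalRing.map_maximalIdeal_of_surjective (Ideal.Quotient.mk J)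
        Ideal.Quotient.mk_surjective, ← Ideal.map_pow, hn, Ideal.map_bot]
    -- the structure map sends the maximal ideal into the maximal ideal
    have hA : ∀ a ∈ IsLocalRing.maximalIdeal (Y.presheaf.stalk (f.base x)),
        algebraMap (Y.presheaf.stalk (f.base x)) C' a ∈ IsLocalRing.maximalIdeal C' := by
      intro a ha
      rw [IsLocalRing.mem_maximalIdeal, mem_nonunits_iff]
      intro hunit
      have h1 : IsUnit (Ideal.Quotient.mk J (algebraMap _ C' a)) := hunit.map _
      have h2 : Ideal.Quotient.mk J (algebraMap _ C' a) =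
          u (algebraMap (Y.presheaf.stalk (f.base x)) (X.presheaf.stalk x) a) := by
        rw [AlgHom.commutes]
        rfl
      rw [h2] at h1
      have h3 : IsUnit (algebraMap (Y.presheaf.stalk (f.base x)) (X.presheaf.stalk x) a) :=
        (isUnit_map_iff u.toRingHom _).mp h1
      have h4 : IsUnit a := (isUnit_map_iff (algebraMap _ _) a).mp h3
      exact ((IsLocalRing.mem_maximalIdeal a).mp ha) h4
    refine hAd C' J hJnil ⟨n, ?_⟩ u ⟨n, ?_⟩
    · rw [eq_bot_iff, Ideal.map_pow, ← hn]
      refine Ideal.pow_right_mono ?_ n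
      rw [Ideal.map_le_iff_le_comap]
      exact hA
    · intro b hb
      have h1 : u b ∈ (IsLocalRing.maximalIdeal (X.presheaf.stalk x) ^ n).map u.toRingHom :=
        Ideal.mem_map_of_mem _ hb
      rw [Ideal.map_pow] at h1
      have h2 : (IsLocalRing.maximalIdeal (X.presheaf.stalk x)).map u.toRingHom ≤
          IsLocalRing.maximalIdeal (C' ⧸ J) := IsLocalRing.map_maximalIdeal_le u.toRingHom
      have h3 := Ideal.pow_right_mono h2 n h1
      rw [hmaxq] at h3
      exact h3
  · intro hsm C' _ _ J hJ _ u _
    exact Algebra.FormallySmooth.exists_lift J hJ u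


end Groth.Agent.S3436
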