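import Groth.Statements.S3441
import Mathlib.RingTheory.Kaehler.Basic
import Mathlib.RingTheory.Derivation.ToSquareZero
import Mathlib.Algebra.TrivSqZeroExt.Basic
import Mathlib.Tactic.LinearCombination
import Mathlib.Tactic.Ring

set_option autoImplicit false
universe u
open EGA41

namespace Groth.Agent.S3441

open TensorProduct

section Backward

variable (A B C : Type u) [CommRing A] [CommRing B]
    [CommRing C] [Algebra A B] [Algebra B C] [Algebra A C] [IsScalarTower A B C]

/-- The ring map `B → C ⊕ (C ⊗_B Ω_{B/A})`, `b ↦ (b, 1 ⊗ db)`. -/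
noncomputable def psi : B →+* TrivSqZeroExt C (C ⊗[B] Ω[B⁄A]) where
  toFun b := TrivSqZeroExt.inl (algebraMap B C b) +
    TrivSqZeroExt.inr ((1 : C) ⊗ₜ[B] KaehlerDifferential.D A B b)
  map_one' := by simp
  map_zero' := by simp
  map_add' x y := by
    ext
    · simp
    · simp [TensorProduct.tmul_add]
  map_mul' x y := by
    ext
    · simp
    · simp [TensorProduct.tmul_add, add_comm]

theorem psi_fst (b : B) : (psi A B C b).fst = algebraMap B C b := by simp [psi]

theorem psi_snd (b : B) : (psi A B C b).snd = (1 : C) ⊗ₜ[B] KaehlerDifferential.D A B b := by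
  simp [psi]

theorem psi_algebraMap (a : A) :
    psi A B C (algebraMap A B a) = TrivSqZeroExt.inl (algebraMap A C a) := by
  ext
  · simp [psi_fst, ← IsScalarTower.algebraMap_apply]
  · simp [psi_snd]

/-- The test algebra: the trivial square-zero extension `C ⊕ (C ⊗_B Ω_{B/A})`, as a type synonym
carrying the `B`-algebra structure given by `psi`. -/
def TestAlg : Type u := TrivSqZeroExt C (C ⊗[B] Ω[B⁄A])

noncomputable instance : CommRing (TestAlg A B C) :=
  inferInstanceAs (CommRing (TrivSqZeroExt C (C ⊗[B] Ω[B⁄A])))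

/-- identity map to the synonym -/
noncomputable def toTest : TrivSqZeroExt C (C ⊗[B] Ω[B⁄A]) ≃+* TestAlg A B C := RingEquiv.refl _

noncomputable instance algBE : Algebra B (TestAlg A B C) :=
  ((toTest A B C).toRingHom.comp (psi A B C)).toAlgebra

noncomputable instance algAE : Algebra A (TestAlg A B C) :=
  (((toTest A B C).toRingHom.comp (psi A B C)).comp (algebraMap A B)).toAlgebra

instance : IsScalarTower A B (TestAlg A B C) := IsScalarTower.of_algebraMap_eq fun _ => rfl

/-- The square-zero ideal `0 ⊕ M` of `C ⊕ M`. -/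
noncomputable def Jid : Ideal (TestAlg A B C) :=
  RingHom.ker ((TrivSqZeroExt.fstHom C C (C ⊗[B] Ω[B⁄A]) :
    TrivSqZeroExt C (C ⊗[B] Ω[B⁄A]) →+* C).comp (toTest A B C).symm.toRingHom)

theorem mem_Jid (x : TestAlg A B C) :
    x ∈ Jid A B C ↔ ((toTest A B C).symm x).fst = 0 := Iff.rfl

theorem Jid_sq : Jid A B C ^ 2 = ⊥ := by
  rw [eq_bot_iff, pow_two, Ideal.mul_le]
  intro x hx y hy
  rw [mem_Jid] at hx hy
  rw [Ideal.mem_bot]
  apply (toTest A B C).symm.injective
  rw [map_mul, map_zero]
  ext
  · simp [hx]
  · simp [hx, hy]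

theorem exists_leftInverse_of_rel (h : EGA41.IsFormallySmoothRel A B C) :
    ∃ l : Ω[C⁄A] →ₗ[C] C ⊗[B] Ω[B⁄A],
      l ∘ₗ KaehlerDifferential.mapBaseChange A B C = LinearMap.id := by
  -- the B-algebra map `C → E/J`
  let u₀ : C →ₐ[B] (TestAlg A B C ⧸ Jid A B C) :=
    AlgHom.mk
      ((Ideal.Quotient.mk (Jid A B C)).comp
        ((toTest A B C).toRingHom.comp (TrivSqZeroExt.inlHom C (C ⊗[B] Ω[B⁄A]))))
      (by
        intro b
        show Ideal.Quotient.mk (Jid A B C) (toTest A B C (TrivSqZeroExt.inl (algebraMap B C b))) =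
          Ideal.Quotient.mk (Jid A B C) (toTest A B C (psi A B C b))
        rw [Ideal.Quotient.eq, mem_Jid, ← map_sub, RingEquiv.symm_apply_apply]
        simp [psi_fst])
  let uA : C →ₐ[A] TestAlg A B C :=
    AlgHom.mk
      ((toTest A B C).toRingHom.comp (TrivSqZeroExt.inlHom C (C ⊗[B] Ω[B⁄A])))
      (by
        intro a
        show toTest A B C (TrivSqZeroExt.inl (algebraMap A C a)) =
          toTest A B C (psi A B C (algebraMap A B a))
        rw [psi_algebraMap])
  obtain ⟨v, hv⟩ := h (TestAlg A B C) (Jid A B C) (Jid_sq A B C) u₀ ⟨uA, by ext c; rfl⟩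
  -- first component of `v c` is `c`
  have hfst : ∀ c : C, ((toTest A B C).symm (v c)).fst = c := by
    intro c
    have h1 : Ideal.Quotient.mk (Jid A B C) (v c) =
        Ideal.Quotient.mk (Jid A B C) (toTest A B C (TrivSqZeroExt.inl c)) :=
      congrArg (fun f : C →ₐ[B] (TestAlg A B C ⧸ Jid A B C) => f c) hv
    rw [Ideal.Quotient.eq, mem_Jid, map_sub, RingEquiv.symm_apply_apply] at h1
    simpa [sub_eq_zero] using h1
  have hvB : ∀ b : B, (toTest A B C).symm (v (algebraMap B C b)) = psi A B C b := by
    intro b
    rw [v.commutes]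
    rfl
  -- the derivation `c ↦ snd (v c)`
  let Dv : Derivation A C (C ⊗[B] Ω[B⁄A]) :=
    { toFun := fun c => ((toTest A B C).symm (v c)).snd
      map_add' := fun x y => by rw [map_add, map_add, TrivSqZeroExt.snd_add]
      map_smul' := fun a c => by
        simp only [Algebra.smul_def, map_mul, RingHom.id_apply]
        rw [IsScalarTower.algebraMap_apply A B C, hvB, TrivSqZeroExt.snd_mul, psi_fst, psi_snd]
        simp [hfst, ← IsScalarTower.algebraMap_apply]
      map_one_eq_zero' := by
        show ((toTest A B C).symm (v 1)).snd = 0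
        rw [map_one, map_one, TrivSqZeroExt.snd_one]
      leibniz' := fun x y => by
        show ((toTest A B C).symm (v (x * y))).snd =
          x • ((toTest A B C).symm (v y)).snd + y • ((toTest A B C).symm (v x)).snd
        rw [map_mul, map_mul, TrivSqZeroExt.snd_mul, hfst, hfst]
        simp }
  refine ⟨Dv.liftKaehlerDifferential, ?_⟩
  ext m
  simp
  show ((toTest A B C).symm (v (algebraMap B C m))).snd = _
  rw [hvB, psi_snd]

end Backward

section Forward

variable {A B C : Type u} [CommRing A] [CommRing B]
    [CommRing C] [Algebra A B] [Algebra B C] [Algebra A C] [IsScalarTower A B C]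

theorem rel_of_leftInverse (l : Ω[C⁄A] →ₗ[C] C ⊗[B] Ω[B⁄A])
    (hl : l ∘ₗ KaehlerDifferential.mapBaseChange A B C = LinearMap.id) :
    EGA41.IsFormallySmoothRel A B C := by
  intro E _ _ _ _ J hJ u₀ ⟨u, hu⟩
  -- `u` agrees with the structure map modulo `J`
  have hmk : ∀ c : C, Ideal.Quotient.mk J (u c) = u₀ c := fun c =>
    congrArg (fun f : C →ₐ[A] (E ⧸ J) => f c) hu
  have hdiff : ∀ b : B, u (algebraMap B C b) - algebraMap B E b ∈ J := by
    intro b
    rw [← Ideal.Quotient.eq, hmk, u₀.commutes]
    rfl
  have hJJ : ∀ x ∈ J, ∀ y ∈ J, x * y = 0 := by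
    intro x hx y hy
    have : x * y ∈ J ^ 2 := by rw [pow_two]; exact Ideal.mul_mem_mul hx hy
    rwa [hJ, Ideal.mem_bot] at this
  have hbj : ∀ (b : B) (j : E), j ∈ J → u (algebraMap B C b) * j = algebraMap B E b * j := by
    intro b j hj
    have := hJJ _ (hdiff b) j hj
    rwa [sub_mul, sub_eq_zero] at this
  -- the derivation `B → J`
  let f : B →ₐ[A] E := u.comp (IsScalarTower.toAlgHom A B C)
  have e : (Ideal.Quotient.mkₐ A J).comp f = IsScalarTower.toAlgHom A B (E ⧸ J) := by
    ext b
    show Ideal.Quotient.mk J (u (algebraMap B C b)) = algebraMap B (E ⧸ J) b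
    rw [hmk, u₀.commutes]
  let δ : Derivation A B J := derivationToSquareZeroOfLift J hJ f e
  have hδ : ∀ b : B, (δ b : E) = u (algebraMap B C b) - algebraMap B E b := fun b => rfl
  letI modC : Module C J := Module.compHom J (u : C →+* E)
  have hsmul : ∀ (c : C) (j : J), ((c • j : J) : E) = u c * (j : E) := fun c j => rfl
  haveI : IsScalarTower B C J := ⟨fun b c j => by
    apply Subtype.ext
    rw [hsmul, Algebra.smul_def, map_mul, mul_assoc,
      hbj b _ (J.mul_mem_left _ j.2), Submodule.coe_smul_of_tower, hsmul, Algebra.smul_def]⟩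
  let φ : C ⊗[B] Ω[B⁄A] →ₗ[C] J := LinearMap.liftBaseChange C δ.liftKaehlerDifferential
  let ψ : Ω[C⁄A] →ₗ[C] J := φ ∘ₗ l
  have hψB : ∀ b : B, ψ (KaehlerDifferential.D A C (algebraMap B C b)) = δ b := by
    intro b
    have h1 : KaehlerDifferential.D A C (algebraMap B C b) =
        KaehlerDifferential.mapBaseChange A B C ((1 : C) ⊗ₜ[B] KaehlerDifferential.D A B b) := by
      simp
    have h2 : l (KaehlerDifferential.mapBaseChange A B C
        ((1 : C) ⊗ₜ[B] KaehlerDifferential.D A B b)) = (1 : C) ⊗ₜ[B] KaehlerDifferential.D A B b :=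
      congrArg (fun g : C ⊗[B] Ω[B⁄A] →ₗ[C] C ⊗[B] Ω[B⁄A] => g _) hl
    show φ (l _) = _
    rw [h1, h2]
    simp [φ]
  let D' : C → E := fun c => (ψ (KaehlerDifferential.D A C c) : E)
  have hD'mem : ∀ c, D' c ∈ J := fun c => (ψ (KaehlerDifferential.D A C c)).2
  have hD'add : ∀ x y, D' (x + y) = D' x + D' y := by
    intro x y
    simp [D']
  have hD'mul : ∀ x y, D' (x * y) = u x * D' y + u y * D' x := by
    intro x y
    simp only [D', Derivation.leibniz, map_add, map_smul, Submodule.coe_add, hsmul]
  have hD'one : D' 1 = 0 := by simp [D']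
  have hD'B : ∀ b : B, D' (algebraMap B C b) = u (algebraMap B C b) - algebraMap B E b := by
    intro b
    show (ψ _ : E) = _
    rw [hψB, hδ]
  let v : C →ₐ[B] E :=
    AlgHom.mk
      { toFun := fun c => u c - D' c
        map_one' := by rw [map_one, hD'one, sub_zero]
        map_mul' := fun x y => by
          have := hJJ _ (hD'mem x) _ (hD'mem y)
          rw [map_mul, hD'mul]
          linear_combination (-1 : E) * this
        map_zero' := by
          have := hD'add 0 0
          simp only [add_zero] at this
          rw [map_zero, zero_sub, neg_eq_zero]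
          simpa using this
        map_add' := fun x y => by rw [map_add, hD'add]; ring }
      (fun b => by
        show u (algebraMap B C b) - D' (algebraMap B C b) = algebraMap B E b
        rw [hD'B]; ring)
  refine ⟨v, ?_⟩
  ext c
  show Ideal.Quotient.mk J (u c - D' c) = u₀ c
  rw [map_sub, hmk, Ideal.Quotient.eq_zero_iff_mem.mpr (hD'mem c), sub_zero]

end Forward

open TensorProduct in
/-- Let A → B → C be ring homomorphisms. The canonical C-linear map Ω_{B/A} ⊗_B C → Ω_{C/A} is left
invertible (has a C-linear left inverse) if and only if C is a formally smooth B-algebra relative to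
A for the discrete topologies: every B-algebra homomorphism from C to a quotient C'/J of a B-algebra
C' by an ideal J of square zero that lifts to C' as an A-algebra homomorphism also lifts to C' as a
B-algebra homomorphism. (The published definition of relative formal smoothness tests every
nilpotent ideal J; its reduction to ideals of square zero does not carry over to the relative
setting, and the square-zero form, which is what the published proof of this statement uses, is the
one taken here.) -/
theorem result (A B C : Type u) [CommRing A] [CommRing B]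
    [CommRing C] [Algebra A B] [Algebra B C] [Algebra A C] [IsScalarTower A B C] :
    (∃ l : Ω[C⁄A] →ₗ[C] C ⊗[B] Ω[B⁄A], l ∘ₗ KaehlerDifferential.mapBaseChange A B C = LinearMap.id) ↔
      EGA41.IsFormallySmoothRel A B C := by
  constructor
  · rintro ⟨l, hl⟩
    exact rel_of_leftInverse l hl
  · intro h
    exact exists_leftInverse_of_rel A B C h

end Groth.Agent.S3441
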