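import Groth.Statements.S3444
-- import your own Groth.Agent.* helpers here
import Mathlib
import Groth.Agent.Lib.Helper12.FibRad
import Groth.Agent.Lib.Helper12.ConstrNhds
import Groth.Agent.S12442

set_option autoImplicit false
open CategoryTheory AlgebraicGeometry
universe u
open EGA43

namespace Groth.Agent.S3444
open Groth.Agent.Lib.Helper12.ConstrNhds Groth.Agent.Lib.Helper12.FibRad

open CategoryTheory.Limits in
/-- Let g : Y ⟶ S and f : X ⟶ Y be such that X and Y are of finite presentation over S (locally of
finite presentation, quasi-compact and quasi-separated). For each point s of S let f_s be the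
induced morphism from the fibre of f ≫ g over s to the fibre of g over s. Then the set of s for
which f_s is radicial (universally injective) is locally constructible in S. -/
theorem result {X Y S : Scheme.{u}} (f : X ⟶ Y) (g : Y ⟶ S)
    [LocallyOfFinitePresentation g] [QuasiCompact g] [QuasiSeparated g]
    [LocallyOfFinitePresentation (f ≫ g)] [QuasiCompact (f ≫ g)] [QuasiSeparated (f ≫ g)] :
    Topology.IsLocallyConstructible {s : S |
      UniversallyInjective (pullback.lift (pullback.fst (f ≫ g) (S.fromSpecResidueField s) ≫ f) (pullback.snd (f ≫ g) (S.fromSpecResidueField s))
          ((Category.assoc _ _ _).trans pullback.condition) :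
        pullback (f ≫ g) (S.fromSpecResidueField s) ⟶ pullback g (S.fromSpecResidueField s))} := by
  haveI : LocallyOfFinitePresentation f := Groth.Agent.S12442.result f g
  haveI : QuasiCompact f :=
    MorphismProperty.HasOfPostcompProperty.of_postcomp (W := @QuasiCompact) (W' := @QuasiSeparated)
      f g inferInstance inferInstance
  haveI : QuasiSeparated f := QuasiSeparated.of_comp f g
  haveI : QuasiCompact (pullback.diagonal f) := inferInstance
  haveI : LocallyOfFinitePresentation (pullback.diagonal f) :=
    Groth.Agent.S12442.aux (pullback.diagonal f) (pullback.fst f f)
      (by rw [pullback.diagonal_fst]; infer_instance) inferInstance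
  haveI : LocallyOfFinitePresentation (pullback.fst f f ≫ f ≫ g) := inferInstance
  haveI : QuasiCompact (pullback.fst f f ≫ f ≫ g) := inferInstance
  have hconstr : Topology.IsLocallyConstructible
      (((pullback.fst f f ≫ f ≫ g).base '' (Set.range (pullback.diagonal f).base)ᶜ)ᶜ) := by
    have h1 : Topology.IsLocallyConstructible (Set.range (pullback.diagonal f).base) := by
      rw [← Set.image_univ]
      exact (pullback.diagonal f).isLocallyConstructible_image
        Topology.IsLocallyConstructible.univ
    exact isLocallyConstructible_compl
      ((pullback.fst f f ≫ f ≫ g).isLocallyConstructible_image (isLocallyConstructible_compl h1))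
  convert hconstr using 1
  ext s
  rw [Set.mem_setOf_eq]
  refine (universallyInjective_fibMap_iff f g s).trans ?_
  simp only [Set.mem_compl_iff, Set.mem_image, not_exists, not_and]
  constructor
  · intro h w hw hs
    exact hw (h w hs)
  · intro h w hs
    by_contra hne
    exact h w hne hs

end Groth.Agent.S3444
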