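import Groth.Statements.S3450
import Groth.Agent.Lib.Helper27.ChevDir
import Groth.Agent.Lib.Helper27.CohtOne
import Groth.Agent.Lib.Helper27.CohtOneDVR
open Groth.Agent.Lib.Helper27

set_option autoImplicit false
universe u
open EGA43

namespace Groth.Agent.S3450

/-- Let A be a Noetherian local ring which is reduced, complete (for the topology defined by its maximal
ideal m) and not a field. Then for every n there are finitely many local homomorphisms φ_i : A → V_i
into discrete valuation rings, each making V_i a finite A-algebra, such that the intersection of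
their kernels is contained in mⁿ. (Equivalently: such finite intersections form a base of
neighbourhoods of 0 for the m-adic topology.) -/
theorem result (A : Type u) [CommRing A] [IsNoetherianRing A]
    [IsLocalRing A] [IsReduced A] [IsAdicComplete (IsLocalRing.maximalIdeal A) A] (hA : ¬ IsField A) (n : ℕ) :
    ∃ (k : ℕ) (V : Fin k → Type u) (_ : ∀ i, CommRing (V i)) (_ : ∀ i, IsDomain (V i))
      (_ : ∀ i, IsDiscreteValuationRing (V i)) (φ : ∀ i, A →+* V i),
      (∀ i, IsLocalHom (φ i) ∧ (φ i).Finite) ∧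
        ⨅ i, RingHom.ker (φ i) ≤ IsLocalRing.maximalIdeal A ^ n := by
  classical
  let good : Ideal A → Prop := fun P =>
    P.IsPrime ∧ P ≠ IsLocalRing.maximalIdeal A ∧ Ring.DimensionLEOne (A ⧸ P)
  let 𝓕 : Set (Ideal A) := {J | ∃ F : Finset (Ideal A), (∀ P ∈ F, good P) ∧ J = F.inf id}
  have hne : 𝓕.Nonempty := ⟨⊤, ∅, by simp, by simp⟩
  have hdir : ∀ I ∈ 𝓕, ∀ J ∈ 𝓕, ∃ K ∈ 𝓕, K ≤ I ⊓ J := by
    rintro I ⟨F, hF, rfl⟩ J ⟨G, hG, rfl⟩
    refine ⟨(F ∪ G).inf id, ⟨F ∪ G, ?_, rfl⟩, ?_⟩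
    · intro P hP
      rcases Finset.mem_union.mp hP with h | h
      · exact hF P h
      · exact hG P h
    · rw [Finset.inf_union]
  have hinf : sInf 𝓕 = ⊥ := by
    rw [eq_bot_iff]
    intro x hx
    by_contra hx0
    obtain ⟨P, hP, hPm, hdim, hxP⟩ :=
      CohtOne.exists_prime_dimensionLEOne_not_mem A hA x hx0
    have hP𝓕 : P ∈ 𝓕 := ⟨{P}, by
      intro Q hQ
      rw [Finset.mem_singleton] at hQ
      subst hQ
      exact ⟨hP, hPm, hdim⟩, by simp⟩
    exact hxP (Ideal.mem_sInf.mp hx hP𝓕)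
  obtain ⟨J, ⟨F, hF, rfl⟩, hJ⟩ := ChevDir.chevalley_directed 𝓕 hne hdir n
  rw [hinf, bot_sup_eq] at hJ
  have key : ∀ P : {P : Ideal A // good P}, ∃ (V : Type u) (_ : CommRing V) (_ : IsDomain V)
      (_ : IsDiscreteValuationRing V) (φ : A →+* V),
      IsLocalHom φ ∧ φ.Finite ∧ RingHom.ker φ = P.1 := by
    rintro ⟨P, hP, hPm, hdim⟩
    haveI := hP
    haveI := hdim
    exact CohtOneDVR.exists_dvr A P hPm
  choose V hV1 hV2 hV3 φ hφ using key
  let e := F.equivFin
  let g : Fin F.card → {P : Ideal A // good P} :=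
    fun i => ⟨(e.symm i).1, hF _ (e.symm i).2⟩
  refine ⟨F.card, fun i => V (g i), fun i => hV1 (g i), fun i => hV2 (g i),
    fun i => hV3 (g i), fun i => φ (g i), fun i => ⟨(hφ (g i)).1, (hφ (g i)).2.1⟩, ?_⟩
  refine le_trans ?_ hJ
  rw [Finset.le_inf_iff]
  intro P hP
  have hi : (g (e ⟨P, hP⟩)).1 = P := by
    show (e.symm (e ⟨P, hP⟩)).1 = P
    rw [Equiv.symm_apply_apply]
  calc ⨅ i, RingHom.ker (φ (g i)) ≤ RingHom.ker (φ (g (e ⟨P, hP⟩))) := iInf_le _ _
    _ = (g (e ⟨P, hP⟩)).1 := (hφ (g (e ⟨P, hP⟩))).2.2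
    _ = P := hi

end Groth.Agent.S3450
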