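import Groth.Statements.S3451
-- import your own Groth.Agent.* helpers here
import Mathlib
import Groth.Agent.Lib.Helper12.FibSpec
import Groth.Agent.Lib.Helper12.OpenFibre2
import Groth.Agent.Lib.Helper12.FibreDimsConstr
import Groth.Agent.Lib.Helper12.FibreDimFP
import Groth.Agent.Lib.Helper12.SecComp

set_option autoImplicit false
open CategoryTheory AlgebraicGeometry
universe u
open EGA43

namespace Groth.Agent.S3451

open Polynomial Cardinal TopologicalSpace Topology
open Groth.Agent.Lib.Helper12.OrdTools Groth.Agent.Lib.Helper12.DimIneq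
open Groth.Agent.Lib.Helper12 Groth.Agent.Lib.Helper12.SchemeDimFT
open Groth.Agent.Lib.Helper12.ChevalleyCor Groth.Agent.Lib.Helper12.SchemeDimIneq
open Groth.Agent.Lib.Helper14 Order Groth.Agent.Lib.Helper12.Equidim
open Groth.Agent.Lib.Helper12.ClosedSub Groth.Agent.Lib.Helper12.JacDim
open Groth.Agent.Lib.Helper12.FibreMax Groth.Agent.Lib.Helper12.EquidimSub
open Groth.Agent.Lib.Helper12.EquidimHyp Groth.Agent.Lib.Helper12.EquidimPt
open Groth.Agent.Lib.Helper12.EquidimOpen Groth.Agent.Lib.Helper12.FourCond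
open Groth.Agent.Lib.Helper12.EquidimComp Groth.Agent.Lib.Helper12.OpenFibre
open Groth.Agent.Lib.Helper12.FibreDimConstr Groth.Agent.Lib.Helper12.FibSpec

set_option backward.isDefEq.respectTransparency false

section

variable {X Y : Scheme.{u}} (f : X ⟶ Y) [LocallyOfFiniteType f]

/-- A generization `ζ` of `x`, maximal in the fibre through `x`, gives an irreducible component of
that fibre through `x`, of dimension the transcendence degree of `ζ`. -/
theorem exists_component_through (x ζ : X) (hζ : f ζ = f x) (hζx : ζ ⤳ x)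
    (hmax : ∀ z' : X, f z' = f x → z' ⤳ ζ → z' = ζ) :
    ∃ C ∈ irreducibleComponents (f.fiber (f x)), f.asFiber x ∈ C ∧
      topologicalKrullDim (↥C : Type u) = ((trn f ζ : ℕ∞) : WithBot ℕ∞) := by
  letI ovF : (f.fiber (f x)).Over (Spec (CommRingCat.of (Y.residueField (f x)))) :=
    ⟨f.fiberToSpecResidueField (f x)⟩
  haveI : LocallyOfFiniteType ((f.fiber (f x)) ↘ Spec (CommRingCat.of (Y.residueField (f x)))) :=
    FibreRes.locallyOfFiniteType_fiberToSpecResidueField f (f x)
  let ζF : f.fiber (f x) := (f.fiberHomeo (f x)).symm ⟨ζ, hζ⟩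
  have hζF : f.fiberι (f x) ζF = ζ := f.fiberι_fiberHomeo_symm (f x) ⟨ζ, hζ⟩
  refine ⟨closure {ζF}, ?_, ?_, ?_⟩
  · rw [closure_singleton_mem_irreducibleComponents_iff]
    intro w hw
    have h2 := hw.map (f.fiberι (f x)).continuous
    rw [hζF] at h2
    have h3 : f (f.fiberι (f x) w) = f x := apply_fiberι f _ w
    have h4 := hmax _ h3 h2
    exact (f.fiberι (f x)).isEmbedding.injective (h4.trans hζF.symm)
  · rw [← specializes_iff_mem_closure]
    apply (f.fiberι (f x)).isEmbedding.isInducing.specializes_iff.mp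
    rw [hζF, f.fiberι_asFiber]
    exact hζx
  · rw [topologicalKrullDim_closure_singleton (Y.residueField (f x)) (f.fiber (f x)) ζF,
      trn_eq_tr_of_fiber f ζ (f x) hζ ζF hζF]
    rfl

/-- a generization in the fibre realising the local dimension of the fibre, maximal in the fibre -/
theorem exists_max_generization (x : X) :
    ∃ ζ : X, f ζ = f x ∧ ζ ⤳ x ∧ (∀ z' : X, f z' = f x → z' ⤳ ζ → z' = ζ) ∧
      FlatMor.fibreDimAt f x = ((trn f ζ : ℕ∞) : WithBot ℕ∞) := by
  obtain ⟨ζ, hζ1, hζ2, hζ3⟩ := exists_generization_trn_eq_fibreDimAt f x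
  have hζ4 := trn_le_fibreDimAt_of_specializes f x ζ hζ1 hζ2
  refine ⟨ζ, hζ1, hζ2, ?_, le_antisymm hζ3 hζ4⟩
  intro z' hz' hsp
  by_contra hne
  have h1 := trn_lt_of_specializes f ζ z' (hz'.trans hζ1.symm) hsp hne
  have h2 := trn_le_fibreDimAt_of_specializes f x z' hz' (hsp.trans hζ2)
  have h3 : ((trn f z' : ℕ∞) : WithBot ℕ∞) ≤ ((trn f ζ : ℕ∞) : WithBot ℕ∞) := h2.trans hζ3
  have h4 : trn f z' ≤ trn f ζ := by exact_mod_cast h3
  exact absurd h1 (not_lt.mpr h4)

/-- the fibre through `x` is equidimensional at `x` iff the local dimension of the fibre is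
constant on the generizations of `x` in the fibre -/
theorem equidim_iff (x : X) :
    (∃ e : ℕ, ∀ Z ∈ irreducibleComponents (↥(f.fiber (f.base x)) : Type u), f.asFiber x ∈ Z →
        topologicalKrullDim (↥Z : Type u) = e) ↔
      ∀ z : X, f z = f x → z ⤳ x → FlatMor.fibreDimAt f x ≤ FlatMor.fibreDimAt f z := by
  constructor
  · rintro ⟨e, he⟩ z hz hzx
    obtain ⟨ζ, h1, h2, h3, h4⟩ := exists_max_generization f x
    obtain ⟨C, hC, hxC, hdim⟩ := exists_component_through f x ζ h1 h2 h3
    have hx : FlatMor.fibreDimAt f x = e := by rw [h4, ← hdim]; exact he C hC hxC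
    obtain ⟨ζ', h1', h2', h3', h4'⟩ := exists_max_generization f z
    obtain ⟨C', hC', hxC', hdim'⟩ := exists_component_through f x ζ' (h1'.trans hz) (h2'.trans hzx)
      (fun z' hz' hsp => h3' z' (hz'.trans hz.symm) hsp)
    have hz' : FlatMor.fibreDimAt f z = e := by rw [h4', ← hdim']; exact he C' hC' hxC'
    rw [hx, hz']
  · intro H
    obtain ⟨e, he⟩ := Groth.Agent.Lib.Helper12.SecComp.exists_nat_fibreDimAt f x
    refine ⟨e, fun Z hZ hxZ => ?_⟩
    obtain ⟨ζF, hZeq, hfζ, hmax, hdim⟩ :=
      exists_generic_of_mem_irreducibleComponents_fiber f (f x) Z hZ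
    have hsp : f.fiberι (f x) ζF ⤳ x := by
      have h1 : ζF ⤳ f.asFiber x := by
        rw [specializes_iff_mem_closure, ← hZeq]; exact hxZ
      have := h1.map (f.fiberι (f x)).continuous
      rwa [f.fiberι_asFiber] at this
    have h2 := H _ hfζ hsp
    have h3 := fibreDimAt_eq_trn_of_max f (f.fiberι (f x) ζF)
      (fun z' h1 h2 => hmax z' (h1.trans hfζ) h2)
    have h4 := trn_le_fibreDimAt_of_specializes f x _ hfζ hsp
    show topologicalKrullDim (↥Z : Type u) = _
    rw [hdim]
    rw [h3] at h2
    rw [← he]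
    exact le_antisymm h4 h2

end

/-- Let f : X ⟶ S be locally of finite presentation. The set of points x of X such that the fibre of f
through x is equidimensional at x (all irreducible components of that fibre passing through x have
the same dimension) is locally constructible in X. -/
theorem result {X S : Scheme.{u}} (f : X ⟶ S)
    [LocallyOfFinitePresentation f] :
    Topology.IsLocallyConstructible {x : X | ∃ e : ℕ,
      ∀ Z ∈ irreducibleComponents (↥(f.fiber (f.base x)) : Type u), f.asFiber x ∈ Z →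
        topologicalKrullDim (↥Z : Type u) = e} := by
  classical
  haveI : LocallyOfFiniteType f := inferInstance
  -- the opens `U k`
  let U : ℕ → X.Opens := fun k =>
    ⟨{x : X | FlatMor.fibreDimAt f x ≤ k},
      Groth.Agent.Lib.Helper12.Chevalley.isOpen_setOf_fibreDimAt_le f k⟩
  have hUlc : ∀ k, IsLocallyConstructible ((U k : X.Opens) : Set X) := fun k =>
    (Groth.Agent.Lib.Helper12.FibreDimFP.isRetrocompact_setOf_fibreDimAt_le f k).isLocallyConstructible
      (U k).2
  have hcov : IsOpenCover U := by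
    rw [IsOpenCover, eq_top_iff]
    intro x _
    obtain ⟨e, he⟩ := Groth.Agent.Lib.Helper12.SecComp.exists_nat_fibreDimAt f x
    exact Opens.mem_iSup.mpr ⟨e, he.le⟩
  let A : ℕ → Set X := fun k => (spFib f (U k : Set X))ᶜ ∪ (U k : Set X)
  have hA : ∀ k, IsLocallyConstructible (A k) := fun k =>
    (Groth.Agent.Lib.Helper12.ConstrNhds.isLocallyConstructible_compl (isLocallyConstructible_spFib f _ (hUlc k))).union (hUlc k)
  -- membership in the set
  have hmem : ∀ x : X, x ∈ {x : X | ∃ e : ℕ,
      ∀ Z ∈ irreducibleComponents (↥(f.fiber (f.base x)) : Type u), f.asFiber x ∈ Z →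
        topologicalKrullDim (↥Z : Type u) = e} ↔ ∀ k, x ∈ A k := by
    intro x
    rw [Set.mem_setOf_eq, equidim_iff]
    constructor
    · intro H k
      by_cases hx : x ∈ spFib f (U k : Set X)
      · right
        obtain ⟨z, hzU, hz, hzx⟩ := hx
        exact (H z hz hzx).trans hzU
      · left; exact hx
    · intro H z hz hzx
      obtain ⟨e, he⟩ := Groth.Agent.Lib.Helper12.SecComp.exists_nat_fibreDimAt f z
      rcases H e with h | h
      · exact absurd ⟨z, he.le, hz, hzx⟩ h
      · rw [he]; exact h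
  refine IsLocallyConstructible.of_isOpenCover' hcov fun N => ?_
  have heq : {x : X | ∃ e : ℕ,
      ∀ Z ∈ irreducibleComponents (↥(f.fiber (f.base x)) : Type u), f.asFiber x ∈ Z →
        topologicalKrullDim (↥Z : Type u) = e} ∩ (U N : Set X) =
      (⋂ k : Fin N, A k) ∩ (U N : Set X) := by
    ext x
    simp only [Set.mem_inter_iff, Set.mem_iInter]
    constructor
    · rintro ⟨h1, h2⟩
      exact ⟨fun k => (hmem x).mp h1 k, h2⟩
    · rintro ⟨h1, h2⟩
      refine ⟨(hmem x).mpr fun k => ?_, h2⟩
      by_cases hk : k < N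
      · exact h1 ⟨k, hk⟩
      · right
        exact (show FlatMor.fibreDimAt f x ≤ N from h2).trans (by exact_mod_cast not_lt.mp hk)
  rw [heq]
  refine IsLocallyConstructible.inter ?_ (hUlc N)
  exact IsLocallyConstructible.iInter fun k => hA k

end Groth.Agent.S3451
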