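import Groth.Statements.S3457
-- import your own Groth.Agent.* helpers here
import Mathlib
import Groth.Agent.Lib.Helper12.Equidim

set_option autoImplicit false
open CategoryTheory AlgebraicGeometry
universe u
open EGA43

namespace Groth.Agent.S3457

/-- Let Y be locally Noetherian, f : X ⟶ Y locally of finite type, x a point of X with y = f x, and
suppose f is equidimensional at x and O_{Y,y} is universally catenary. Let e be the local dimension
at x of the fibre X_y. Then for every minimal prime 𝔭 of O_{X,x} (that is, for every irreducible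
component X_j of X through x, with O_{X_j,x} = O_{X,x}/𝔭 and O_{Y_j,y} = O_{Y,y}/(𝔭 ∩ O_{Y,y})) one
has dim(O_{X,x}/𝔭) + trdeg_{κ(y)} κ(x) = dim(O_{Y,y}/(𝔭 ∩ O_{Y,y})) + e. -/
theorem result {X Y : Scheme.{u}} [IsLocallyNoetherian Y] (f : X ⟶ Y)
    [LocallyOfFiniteType f] (x : X) (h : EGA43.IsEquidimAt f x)
    (hcat : CAlg.IsUniversallyCatenary (Y.presheaf.stalk (f.base x))) :
    letI : Algebra (Y.residueField (f.base x)) (X.residueField x) := (f.residueFieldMap x).hom.toAlgebra
    ∀ 𝔭 ∈ minimalPrimes (X.presheaf.stalk x),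
      ringKrullDim (X.presheaf.stalk x ⧸ 𝔭) +
          (Cardinal.toNat (Algebra.trdeg (Y.residueField (f.base x)) (X.residueField x)) : WithBot ℕ∞) =
        ringKrullDim (Y.presheaf.stalk (f.base x) ⧸ 𝔭.comap (f.stalkMap x).hom) + FlatMor.fibreDimAt f x := by
  intro 𝔭 h𝔭
  have key := Groth.Agent.Lib.Helper12.Equidim.quotient_formula f x h hcat ⟨𝔭, h𝔭.1.1⟩ h𝔭
  obtain ⟨t, ht⟩ := Groth.Agent.Lib.Helper12.SchemeDimIneq.exists_trn_eq f x
  letI : Algebra (Y.residueField (f.base x)) (X.residueField x) :=
    (f.residueFieldMap x).hom.toAlgebra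
  have ht' : Algebra.trdeg (Y.residueField (f.base x)) (X.residueField x) = (t : Cardinal.{u}) := by
    have h1 : Cardinal.toENat (Algebra.trdeg (Y.residueField (f.base x)) (X.residueField x)) =
        (t : ℕ∞) := ht
    exact Cardinal.toENat_eq_natCast.mp h1
  rw [ht', Cardinal.toNat_natCast]
  rw [ht] at key
  exact key

end Groth.Agent.S3457
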