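import Groth.Statements.S3458
-- import your own Groth.Agent.* helpers here
import Mathlib
import Groth.Agent.Lib.Helper15.SecCompUOold

set_option autoImplicit false
open CategoryTheory AlgebraicGeometry
universe u
open EGA43

namespace Groth.Agent.S3458
open Groth.Agent.Lib.Helper12 Groth.Agent.Lib.Helper12.SecComp Groth.Agent.Lib.Helper12.SecCompBC
  Groth.Agent.Lib.Helper15.SecCompUOold


/-- Let Y be locally Noetherian, f : X ⟶ Y locally of finite type, g a section of f, and X⁰_y the
connected component of f⁻¹(y) containing g(y). Suppose that every X⁰_y is geometrically irreducible: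
for every field extension K of κ(y), the preimage of X⁰_y in the base change of the fibre X_y to K
is irreducible. Then for every point y such that z ↦ dim X⁰_z is constant on a neighbourhood of y, f
is universally open at every point of X⁰_y. -/
theorem result {X Y : Scheme.{u}} [IsLocallyNoetherian Y]
    (f : X ⟶ Y) [LocallyOfFiniteType f] (g : Y ⟶ X) (hg : g ≫ f = 𝟙 Y)
    (hgi : ∀ (y : Y) (K : Type u) [Field K] [Algebra (IsLocalRing.ResidueField (Y.presheaf.stalk y)) K],
      IsIrreducible ((FBase.bcπ (f.fiberToSpecResidueField y) K ≫ f.fiberι y).base ⁻¹' (connectedComponentIn (f.base ⁻¹' {y}) (g.base y))))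
    (y : Y)
    (hc : ∃ V ∈ nhds y, ∀ z ∈ V, topologicalKrullDim ↥(connectedComponentIn (f.base ⁻¹' {z}) (g.base z)) = topologicalKrullDim ↥(connectedComponentIn (f.base ⁻¹' {y}) (g.base y))) :
    ∀ x ∈ connectedComponentIn (f.base ⁻¹' {y}) (g.base y), EGA43.IsUnivOpenAt f x := by
  haveI : LocallyOfFinitePresentation f := locallyOfFinitePresentation_of_isLocallyNoetherian f
  have hfg : ∀ y : Y, f.base (g.base y) = y := sec_apply f g hg
  have hirr' : ∀ y : Y, IsIrreducible (connectedComponentIn (f.base ⁻¹' {y}) (g.base y)) :=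
    fun y => isIrreducible_of_preimage_bc f y _ (connectedComponentIn_subset _ _)
      (IsLocalRing.ResidueField (Y.presheaf.stalk y)) (hgi y _)
  have hF : ∀ y : Y, topologicalKrullDim ↥(connectedComponentIn (f.base ⁻¹' {y}) (g.base y)) =
      FlatMor.fibreDimAt f (g.base y) :=
    fun y => dim_connectedComponentIn_eq_fibreDimAt' f (g.base y) y (hfg y) (hirr' y)
  refine isUnivOpenAt_of_fibreDimAt_const f g hg hgi y ?_
  obtain ⟨V, hV, hVc⟩ := hc
  refine ⟨V, hV, fun z hz => ?_⟩
  rw [← hF, ← hF]
  exact hVc z hz

end Groth.Agent.S3458
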