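import Groth.Statements.S3460
import Mathlib

set_option autoImplicit false
open CategoryTheory AlgebraicGeometry
universe u
open EGA43

namespace Groth.Agent.S3460

/-- Let Y be locally Noetherian and f : X ⟶ Y of finite type. Then there exist a scheme Z, a proper
morphism g : X ⟶ Z and an immersion h : Z ⟶ Y with f = g ≫ h if and only if f is proper at every
point of f(X), i.e. every point of f(X) has an open neighbourhood U in Y over which the restriction
of f is proper. -/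
theorem result {X Y : Scheme.{u}} [IsLocallyNoetherian Y]
    (f : X ⟶ Y) [LocallyOfFiniteType f] [QuasiCompact f] :
    (∃ (Z : Scheme.{u}) (g : X ⟶ Z) (h : Z ⟶ Y), IsProper g ∧ IsImmersion h ∧ g ≫ h = f) ↔
      ∀ x : X, ∃ U : Y.Opens, f.base x ∈ U ∧ IsProper (f ∣_ U) := by
  classical
  have h3 : ∀ {T : Scheme.{u}} (W : T.Opens), W = ⊤ → IsIso W.ι := by
    rintro T _ rfl; exact (inferInstance : IsIso T.topIso.hom)
  constructor
  · rintro ⟨Z, g, h, hg, hh, rfl⟩
    intro x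
    have hmem : ∀ x : X, (g ≫ h) x ∈ h.coborderRange := fun x =>
      subset_coborder ⟨g x, rfl⟩
    refine ⟨h.coborderRange, hmem x, ?_⟩
    let p : X ⟶ h.coborderRange := g ≫ h.liftCoborder
    have hp : p ≫ h.coborderRange.ι = g ≫ h := by
      simp only [p, Category.assoc, Scheme.Hom.liftCoborder_ι]
    have h1 : (g ≫ h) ∣_ h.coborderRange = ((g ≫ h) ⁻¹ᵁ h.coborderRange).ι ≫ p := by
      rw [← cancel_mono h.coborderRange.ι, morphismRestrict_ι, Category.assoc, hp]
    have h2 : (g ≫ h) ⁻¹ᵁ h.coborderRange = ⊤ :=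
      le_antisymm le_top (fun x _ => hmem x)
    haveI := h3 _ h2
    rw [h1]
    infer_instance
  · intro H
    choose Ux hxU hUp using H
    have hr : Set.range f ⊆ ((⨆ x, Ux x : Y.Opens) : Set Y) := by
      rintro _ ⟨x, rfl⟩
      exact TopologicalSpace.Opens.mem_iSup.mpr ⟨x, hxU x⟩
    let g : X ⟶ (⨆ x, Ux x : Y.Opens) :=
      IsOpenImmersion.lift (Scheme.Opens.ι _) f (by simpa using hr)
    have hg : g ≫ (⨆ x, Ux x : Y.Opens).ι = f := IsOpenImmersion.lift_fac _ _ _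
    refine ⟨_, g, (⨆ x, Ux x : Y.Opens).ι, ?_, inferInstance, hg⟩
    rw [IsZariskiLocalAtTarget.iff_of_iSup_eq_top (P := @IsProper)
      (U := fun x : X ↦ (⨆ x, Ux x).ι ⁻¹ᵁ Ux x)]
    · intro i
      have heq : g ⁻¹ᵁ (⨆ x, Ux x).ι ⁻¹ᵁ Ux i = f ⁻¹ᵁ Ux i := by
        change (g ≫ (⨆ x, Ux x).ι) ⁻¹ᵁ Ux i = _
        rw [hg]
      let e : Arrow.mk (g ∣_ (⨆ x, Ux x).ι ⁻¹ᵁ Ux i) ≅ Arrow.mk (f ∣_ Ux i) :=
          Arrow.isoMk (X.isoOfEq heq) (Scheme.Opens.isoOfLE (le_iSup Ux i)) <| by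
        simp [← CategoryTheory.cancel_mono (Ux i).ι, g]
      rw [MorphismProperty.arrow_mk_iso_iff @IsProper e]
      exact hUp i
    apply (⨆ x, Ux x).ι.image_injective
    dsimp
    rw [Scheme.Hom.image_iSup, Scheme.Hom.image_top_eq_opensRange, Scheme.Opens.opensRange_ι]
    simp [Scheme.Hom.image_preimage_eq_opensRange_inf, le_iSup Ux]

end Groth.Agent.S3460
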