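import Groth.Statements.S3473
import Mathlib
import Groth.Agent.Lib.Helper15.ShUnit

set_option autoImplicit false
universe u
open CategoryTheory CategoryTheory.Limits AlgebraicGeometry Opposite
open EtAcyc

namespace Groth.Agent.S3473

open Groth.Agent.Lib.Helper15

lemma ring_lemma {R R' : Type u} [CommRing R] [CommRing R'] (φ : R →+* R') (𝔭 : PrimeSpectrum R)
    (h : 𝔭 ∉ Set.range (PrimeSpectrum.comap φ)) :
    ∃ r : R, r ∉ 𝔭.asIdeal ∧ ∀ q : PrimeSpectrum R',
      𝔭.asIdeal ≤ (PrimeSpectrum.comap φ q).asIdeal → r ∈ (PrimeSpectrum.comap φ q).asIdeal := by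
  rw [PrimeSpectrum.mem_range_comap_iff] at h
  have hle : 𝔭.asIdeal ≤ (𝔭.asIdeal.map φ).comap φ := Ideal.le_comap_map
  have hnle : ¬ (𝔭.asIdeal.map φ).comap φ ≤ 𝔭.asIdeal := fun h' => h (le_antisymm h' hle)
  obtain ⟨r, hr1, hr2⟩ := SetLike.not_le_iff_exists.mp hnle
  refine ⟨r, hr2, fun q hq => ?_⟩
  have hmap : 𝔭.asIdeal.map φ ≤ q.asIdeal := Ideal.map_le_iff_le_comap.mpr hq
  exact hmap hr1

set_option backward.isDefEq.respectTransparency.types false in
lemma exists_open_of_not_mem_range {X Y : Scheme.{u}} (g : X ⟶ Y) [QuasiCompact g] (y : Y)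
    (hy : y ∉ Set.range g.base) :
    ∃ O : Y.Opens, y ∈ O ∧ ∀ x : X, g.base x ∈ O → ¬ (y ⤳ g.base x) := by
  obtain ⟨Y₀, hY₀, hyY₀, -⟩ := exists_isAffineOpen_mem_and_subset (x := y) (U := ⊤) trivial
  have hc : IsCompact (g ⁻¹ᵁ Y₀ : Set X) := g.isCompact_preimage hY₀.isCompact
  obtain ⟨R', f, hf⟩ := isCompact_iff_exists.mp hc
  have hrange : Set.range (f ≫ g).base ⊆ Set.range hY₀.fromSpec.base := by
    rw [hY₀.range_fromSpec]
    rintro _ ⟨q, rfl⟩
    have hq : f.base q ∈ (g ⁻¹ᵁ Y₀ : Set X) := by rw [← hf]; exact ⟨q, rfl⟩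
    exact hq
  obtain ⟨k, hk⟩ : ∃ k : Spec R' ⟶ Spec Γ(Y, Y₀), k ≫ hY₀.fromSpec = f ≫ g :=
    ⟨IsOpenImmersion.lift hY₀.fromSpec (f ≫ g) hrange, IsOpenImmersion.lift_fac _ _ _⟩
  obtain ⟨φ, hφ⟩ : ∃ φ : Γ(Y, Y₀) ⟶ R', Spec.map φ = k := ⟨Spec.preimage k, Spec.map_preimage k⟩
  obtain ⟨𝔭, h𝔭⟩ : ∃ 𝔭 : PrimeSpectrum Γ(Y, Y₀), hY₀.fromSpec.base 𝔭 = y :=
    ⟨hY₀.primeIdealOf ⟨y, hyY₀⟩, hY₀.fromSpec_primeIdealOf ⟨y, hyY₀⟩⟩
  have hkq : ∀ q : Spec R', hY₀.fromSpec.base (PrimeSpectrum.comap φ.hom q) = g.base (f.base q) := by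
    intro q
    have h1 := congrArg (fun m : Spec R' ⟶ Y => m.base q) hk
    rw [← hφ] at h1
    exact h1
  have hnot : 𝔭 ∉ Set.range (PrimeSpectrum.comap φ.hom) := by
    rintro ⟨q, hq⟩
    apply hy
    refine ⟨f.base q, ?_⟩
    rw [← hkq q, hq, h𝔭]
  obtain ⟨r, hr1, hr2⟩ := ring_lemma φ.hom 𝔭 hnot
  refine ⟨Y.basicOpen r, ?_, ?_⟩
  · have h1 : 𝔭 ∈ hY₀.fromSpec ⁻¹ᵁ Y.basicOpen r := by
      rw [hY₀.fromSpec_preimage_basicOpen]
      exact hr1
    rw [← h𝔭]; exact h1
  · intro x hx hspec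
    have hxY₀ : g.base x ∈ Y₀ := Y.basicOpen_le r hx
    have hxr : x ∈ Set.range f.base := by
      have : x ∈ (g ⁻¹ᵁ Y₀ : Set X) := hxY₀
      rw [← hf] at this; exact this
    obtain ⟨q, rfl⟩ := hxr
    rw [← hkq q] at hx hspec
    have h1 : PrimeSpectrum.comap φ.hom q ∈ hY₀.fromSpec ⁻¹ᵁ Y.basicOpen r := hx
    rw [hY₀.fromSpec_preimage_basicOpen] at h1
    have h2 : 𝔭 ⤳ PrimeSpectrum.comap φ.hom q := by
      rw [← h𝔭] at hspec
      exact (hY₀.fromSpec.isOpenEmbedding.isInducing.specializes_iff).mp hspec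
    have h3 : 𝔭.asIdeal ≤ (PrimeSpectrum.comap φ.hom q).asIdeal :=
      (PrimeSpectrum.le_iff_specializes _ _).mpr h2
    exact h1 (hr2 q h3)

section skyscraper

variable {Z : Scheme.{u}} {Ω : Type u} [Field Ω] [IsSepClosed Ω] (yb : Spec (CommRingCat.of Ω) ⟶ Z)

/-- The skyscraper sheaf of sets with value `ULift Bool`. -/
noncomputable abbrev SkB : EtDesc.Sh Z :=
  (Scheme.pointSmallEtale yb).skyscraperSheaf (ULift.{u + 1} Bool)

/-- A constant section of the skyscraper sheaf. -/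
noncomputable def cst (W : Z.Etale) (a : ULift.{u + 1} Bool) : (SkB yb).obj.obj (op W) :=
  (Pi.lift (fun _ : (Scheme.pointSmallEtale yb).fiber.obj W =>
    (↾(fun _ : PUnit.{u + 2} => a) : PUnit.{u + 2} ⟶ ULift.{u + 1} Bool))) PUnit.unit

lemma π_cst (W : Z.Etale) (a : ULift.{u + 1} Bool) (w : (Scheme.pointSmallEtale yb).fiber.obj W) :
    Pi.π (fun _ : (Scheme.pointSmallEtale yb).fiber.obj W => ULift.{u + 1} Bool) w (cst yb W a) = a := by
  have h := ConcreteCategory.congr_hom (Pi.lift_π (fun _ : (Scheme.pointSmallEtale yb).fiber.obj W =>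
    (↾(fun _ : PUnit.{u + 2} => a) : PUnit.{u + 2} ⟶ ULift.{u + 1} Bool)) w) PUnit.unit
  exact (ConcreteCategory.comp_apply _ _ _).symm.trans h

lemma subsingleton_of_isEmpty_fiber (W : Z.Etale)
    (hW : IsEmpty ((Scheme.pointSmallEtale yb).fiber.obj W)) (a b : (SkB yb).obj.obj (op W)) :
    a = b := by
  refine Concrete.limit_ext (Discrete.functor
    (fun _ : (Scheme.pointSmallEtale yb).fiber.obj W => ULift.{u + 1} Bool)) a b ?_
  rintro ⟨j⟩
  exact (hW.false j).elim

end skyscraper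

set_option backward.isDefEq.respectTransparency.types false in
lemma not_mono_unit {T Z : Scheme.{u}} (h : T ⟶ Z) (y' : Z) (hT : ∀ t : T, ¬ (y' ⤳ h.base t)) :
    ∃ F : EtDesc.Sh Z, ¬ Mono ((EtDesc.adjSh h).unit.app F) := by
  let yb : Spec (CommRingCat.of (SeparableClosure (Z.residueField y'))) ⟶ Z :=
    (Scheme.SpecToEquivOfField (SeparableClosure (Z.residueField y')) _).2
      ⟨y', CommRingCat.ofHom (algebraMap (Z.residueField y') _)⟩
  have hyb : yb.base default = y' := by simp [yb, Scheme.SpecToEquivOfField]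
  refine ⟨SkB yb, fun hmono => ?_⟩
  let wtop : (Scheme.pointSmallEtale yb).fiber.obj (EtCoh.top Z) := Over.homMk yb (Category.comp_id _)
  have hne : cst yb (EtCoh.top Z) ⟨false⟩ ≠ cst yb (EtCoh.top Z) ⟨true⟩ := by
    intro h0
    have h1 := congrArg (Pi.π (fun _ : (Scheme.pointSmallEtale yb).fiber.obj (EtCoh.top Z) =>
      ULift.{u + 1} Bool) wtop) h0
    rw [π_cst, π_cst] at h1
    exact Bool.false_ne_true (congrArg ULift.down h1)
  apply hne
  apply ShUnit.injective_of_mono_sh ((EtDesc.adjSh h).unit.app (SkB yb)) (op (EtCoh.top Z))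
  refine EtGlue.eq_of_locally ((EtDesc.pullSh h).obj (SkB yb)) (U := (EtCoh.bc h).obj (EtCoh.top Z))
    _ _ ?_
  intro x'
  let W₀ : Z.Opens := ⟨(closure {y'})ᶜ, isClosed_closure.isOpen_compl⟩
  let W : Z.Etale := Scheme.Etale.mk W₀.ι
  let i : W ⟶ EtCoh.top Z := MorphismProperty.Over.homMk W₀.ι (Category.comp_id _) trivial
  have hWempty : IsEmpty ((Scheme.pointSmallEtale yb).fiber.obj W) := by
    constructor
    intro w
    have hw : w.left ≫ W₀.ι = yb := Over.w w
    have h1 : W₀.ι.base (w.left.base (default : Spec (CommRingCat.of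
        (SeparableClosure (Z.residueField y'))))) = y' :=
      (congrArg (fun m : Spec (CommRingCat.of (SeparableClosure (Z.residueField y'))) ⟶ Z =>
        m.base default) hw).trans hyb
    have h2 : y' ∈ W₀ := by
      rw [← h1]
      exact (w.left.base (default : Spec (CommRingCat.of
        (SeparableClosure (Z.residueField y'))))).2
    exact h2 (subset_closure rfl)
  have hsq := EtCoh.isPullback_bc_map h i
  have ho : (pullback.fst (EtCoh.top Z).hom h).base x' ∈ W₀ := by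
    have hc : pullback.fst (EtCoh.top Z).hom h ≫ (EtCoh.top Z).hom =
        pullback.snd (EtCoh.top Z).hom h ≫ h := pullback.condition
    have h1 : (pullback.fst (EtCoh.top Z).hom h).base x' =
        h.base ((pullback.snd (EtCoh.top Z).hom h).base x') := by
      have h2 := congrArg (fun m : pullback (EtCoh.top Z).hom h ⟶ Z => m.base x') hc
      exact h2
    rw [h1]
    intro hcl
    exact hT _ (specializes_iff_mem_closure.mpr hcl)
  obtain ⟨z, hz1, -⟩ := Scheme.exists_preimage_of_isPullback hsq x'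
    (⟨_, ho⟩ : (W₀ : Scheme.{u})) rfl
  refine ⟨(EtCoh.bc h).obj W, (EtCoh.bc h).map i, z, hz1, ?_⟩
  have nat : ∀ s : (SkB yb).obj.obj (op (EtCoh.top Z)),
      ((EtDesc.pullSh h).obj (SkB yb)).obj.map ((EtCoh.bc h).map i).op
        (((EtDesc.adjSh h).unit.app (SkB yb)).hom.app (op (EtCoh.top Z)) s) =
      ((EtDesc.adjSh h).unit.app (SkB yb)).hom.app (op W) ((SkB yb).obj.map i.op s) := by
    intro s
    have h2 := ConcreteCategory.congr_hom
      (((EtDesc.adjSh h).unit.app (SkB yb)).hom.naturality i.op) s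
    exact h2.symm
  refine (nat _).trans (Eq.trans ?_ (nat _).symm)
  exact congrArg _ (subsingleton_of_isEmpty_fiber yb W hWempty _ _)

set_option backward.isDefEq.respectTransparency.types false in
theorem surjective_of_minusOne {X Y : Scheme.{u}} (g : X ⟶ Y) [QuasiCompact g]
    (hacyc : EtAcyc.IsMinusOneAcyclic g) : Function.Surjective g.base := by
  by_contra hns
  obtain ⟨y, hy⟩ : ∃ y, y ∉ Set.range g.base := by
    by_contra h
    apply hns
    intro y
    by_contra hy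
    exact h ⟨y, hy⟩
  obtain ⟨O, hyO, hO⟩ := exists_open_of_not_mem_range g y hy
  have hT : ∀ t : ↑(pullback O.ι g), ¬ ((⟨y, hyO⟩ : (O : Scheme.{u})) ⤳ (pullback.fst O.ι g).base t) := by
    intro t hsp
    have hc : pullback.fst O.ι g ≫ O.ι = pullback.snd O.ι g ≫ g := pullback.condition
    have h1 : O.ι.base ((pullback.fst O.ι g).base t) = g.base ((pullback.snd O.ι g).base t) :=
      congrArg (fun m : pullback O.ι g ⟶ Y => m.base t) hc
    have h2 : g.base ((pullback.snd O.ι g).base t) ∈ O := by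
      rw [← h1]; exact ((pullback.fst O.ι g).base t).2
    have h3 : O.ι.base (⟨y, hyO⟩ : (O : Scheme.{u})) ⤳ O.ι.base ((pullback.fst O.ι g).base t) :=
      hsp.map O.ι.continuous
    rw [h1] at h3
    exact hO _ h2 h3
  obtain ⟨F, hF⟩ := not_mono_unit (pullback.fst O.ι g) (⟨y, hyO⟩ : (O : Scheme.{u})) hT
  exact hF (hacyc (Scheme.Etale.mk O.ι) F)

/-- Let g : X → Y be a morphism of schemes. If g is surjective then g is (-1)-acyclic (for every etale V
→ Y and every sheaf of sets F on V, F → g'_* g'^* F is a monomorphism, g' the projection X ×_Y V →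
V); conversely, if g is quasi-compact, quasi-separated and (-1)-acyclic then g is surjective. -/
theorem result {X Y : Scheme.{u}} (g : X ⟶ Y) :
    (Function.Surjective g.base → EtAcyc.IsMinusOneAcyclic g) ∧
      (∀ [QuasiCompact g] [QuasiSeparated g], EtAcyc.IsMinusOneAcyclic g → Function.Surjective g.base) := by
  refine ⟨fun hs V F => ?_, fun hacyc => surjective_of_minusOne g hacyc⟩
  apply ShUnit.mono_unit_of_surjective
  intro v
  obtain ⟨x, hx⟩ := hs (V.hom.base v)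
  obtain ⟨p, hp1, -⟩ := Scheme.Pullback.exists_preimage_pullback (f := V.hom) (g := g) v x hx.symm
  exact ⟨p, hp1⟩

end Groth.Agent.S3473
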