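import Groth.Statements.S3523
-- import your own Groth.Agent.* helpers here
import Groth.Agent.Lib.Helper23.KunJ

set_option autoImplicit false
universe u
attribute [local instance] HasDerivedCategory.standard
open HTor

namespace Groth.Agent.S3523



open CategoryTheory CategoryTheory.Limits in
/-- (Cochain indexing.) Let A be a ring and L, M complexes of A-modules vanishing in large degrees, with
every term of L flat and every cohomology module H^i(L) flat. Then for every n there is a Künneth
map ⊕_{i+j=n} H^i(L) ⊗_A H^j(M) → H^n(L ⊗_A M), sending [z] ⊗ [z'] to the class of z ⊗ z', and it is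
bijective. -/
theorem result (A : Type u) [CommRing A] (L M : DRing.Cx A)
    (hL : DRing.TermwiseFlat L) (bL : ∃ b : ℤ, DRing.VanishesAbove L b)
    (bM : ∃ b : ℤ, DRing.VanishesAbove M b) (hH : ∀ i : ℤ, Module.Flat A (L.homology i)) (n : ℤ) :
    ∃ Φ : HTor.KunnethSum L M n →ₗ[A] (HTor.tensorCx L M).homology n,
      HTor.IsKunnethMap L M n Φ ∧ Function.Bijective Φ := by
  open Groth.Agent.Lib.Helper23.Kun in
  obtain ⟨bl, hbl⟩ := bL
  obtain ⟨b, hb⟩ := bM
  have hbh : ∀ j : ℤ, b < j → CategoryTheory.Limits.IsZero (M.homology j) := fun j hj =>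
    (HomologicalComplex.ExactAt.of_isZero (hb j hj)).isZero_homology
  have hsurj : ∀ (M' : Cx A) (b' : ℤ),
      (∀ j : ℤ, b' < j → CategoryTheory.Limits.IsZero (M'.homology j)) → ∀ m : ℤ,
      Function.Surjective (Phi L M' m) := by
    intro M' b' hb' m
    apply Phi_surjective_of_kunOK L M' m (kunOK' L M' hL bl hbl b' hb' m)
    intro p
    exact subsingleton_directSum (fun ij =>
      Groth.Agent.Lib.Helper7.Tor_subsingleton_of_flat_left (ModuleCat.of A (L.homology ij.1.1))
        (ModuleCat.of A (M'.homology ij.1.2)) (hH ij.1.1) (p + 1) (Nat.succ_pos p))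
  refine ⟨Phi L M n, isKunnethMap_Phi L M n, ?_, hsurj M b hbh n⟩
  apply Phi_injective_of_surjective L M
  intro m
  exact hsurj (CC M) b (fun j hj => isZero_homology_CC M j (hbh (j + 1) (by omega))) m

end Groth.Agent.S3523
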