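import Groth.Statements.S3532
import Mathlib

set_option autoImplicit false
universe u
open HomAlg3

namespace Groth.Agent.S3532

open CategoryTheory in
/-- Category of abelian groups, system indexed by the natural numbers: Let (A_k)_{k ≥ 0} be an inverse
system of abelian groups. For p ≤ k write Im_k(A_p) for the image of A_k → A_p, and K_p for the
kernel of A_p → A_{p-1} (K_0 = A_0). Then (A_k) satisfies the Mittag-Leffler condition (for each p
the subgroups Im_k(A_p) are eventually constant in k) if and only if for each p the subgroups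
Im_k(A_p) ∩ K_p are eventually constant in k. -/
theorem result (F : ℕᵒᵖ ⥤ AddCommGrpCat.{u}) :
    (F ⋙ forget AddCommGrpCat).IsMittagLeffler ↔
      ((∃ k₀ : ℕ, ∀ (k : ℕ) (hk : k₀ ≤ k),
          (F.map (homOfLE (Nat.zero_le k)).op).hom.range = (F.map (homOfLE (Nat.zero_le k₀)).op).hom.range) ∧
        ∀ p : ℕ, ∃ k₀ : ℕ, ∃ h₀ : p + 1 ≤ k₀, ∀ (k : ℕ) (hk : k₀ ≤ k),
          (F.map (homOfLE (h₀.trans hk)).op).hom.range ⊓ (F.map (homOfLE (Nat.le_succ p)).op).hom.ker =
            (F.map (homOfLE h₀).op).hom.range ⊓ (F.map (homOfLE (Nat.le_succ p)).op).hom.ker) := by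
  let t : ∀ {k p : ℕ} (_ : p ≤ k), F.obj (Opposite.op k) →+ F.obj (Opposite.op p) :=
    fun h => (F.map (homOfLE h).op).hom
  have t_comp : ∀ {k p q : ℕ} (h : p ≤ k) (h' : q ≤ p) (x : F.obj (Opposite.op k)),
      t h' (t h x) = t (h'.trans h) x := by
    intro k p q h h' x
    have hc : F.map (homOfLE (h'.trans h)).op = F.map (homOfLE h).op ≫ F.map (homOfLE h').op := by
      rw [← F.map_comp]
      rfl
    show (F.map (homOfLE h').op).hom ((F.map (homOfLE h).op).hom x) =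
      (F.map (homOfLE (h'.trans h)).op).hom x
    rw [hc]
    rfl
  have range_anti : ∀ {k k' p : ℕ} (h : p ≤ k) (hk : k ≤ k'),
      (t (h.trans hk)).range ≤ (t h).range := by
    rintro k k' p h hk _ ⟨x, rfl⟩
    exact ⟨t hk x, t_comp hk h x⟩
  have ML_iff : (F ⋙ forget AddCommGrpCat).IsMittagLeffler ↔
      ∀ p : ℕ, ∃ k₀ : ℕ, ∃ h₀ : p ≤ k₀, ∀ (k : ℕ) (hk : k₀ ≤ k),
        (t (h₀.trans hk)).range = (t h₀).range := by
    constructor
    · intro hML p
      obtain ⟨⟨k₀⟩, f, hf⟩ := hML (Opposite.op p)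
      have h₀ : p ≤ k₀ := leOfHom f.unop
      have hf' : f = (homOfLE h₀).op := Quiver.Hom.unop_inj (Subsingleton.elim _ _)
      subst hf'
      refine ⟨k₀, h₀, fun k hk => le_antisymm (range_anti h₀ hk) ?_⟩
      rintro _ ⟨x, rfl⟩
      obtain ⟨y, hy⟩ := hf (k := Opposite.op k) (homOfLE (h₀.trans hk)).op ⟨x, rfl⟩
      exact ⟨y, hy⟩
    · intro h j
      obtain ⟨p⟩ := j
      obtain ⟨k₀, h₀, hk₀⟩ := h p
      refine ⟨Opposite.op k₀, (homOfLE h₀).op, ?_⟩
      rintro ⟨k⟩ g _ ⟨x, rfl⟩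
      have hpk : p ≤ k := leOfHom g.unop
      have hg : g = (homOfLE hpk).op := Quiver.Hom.unop_inj (Subsingleton.elim _ _)
      subst hg
      have h1 : (t h₀ x) ∈ (t (h₀.trans (le_max_right k k₀))).range := by
        rw [hk₀ _ (le_max_right k k₀)]
        exact ⟨x, rfl⟩
      obtain ⟨y, hy⟩ := range_anti hpk (le_max_left k k₀) h1
      exact ⟨y, hy⟩
  rw [ML_iff]
  constructor
  · intro h
    refine ⟨?_, fun p => ?_⟩
    · obtain ⟨k₀, h₀, hk₀⟩ := h 0
      exact ⟨k₀, fun k hk => hk₀ k hk⟩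
    · obtain ⟨k₀, h₀, hk₀⟩ := h (p + 1)
      exact ⟨k₀, h₀, fun k hk => congrArg (· ⊓ _) (hk₀ k hk)⟩
  · rintro ⟨⟨ka, ha⟩, hb⟩ p
    induction p with
    | zero => exact ⟨ka, Nat.zero_le _, fun k hk => ha k hk⟩
    | succ p ih =>
      obtain ⟨k₁, h₁, hk₁⟩ := ih
      obtain ⟨k₂, h₂, hk₂⟩ := hb p
      have h12 : k₂ ≤ max k₁ k₂ := le_max_right _ _
      have h11 : k₁ ≤ max k₁ k₂ := le_max_left _ _
      refine ⟨max k₁ k₂, h₂.trans h12, fun k hk => le_antisymm (range_anti _ hk) ?_⟩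
      rintro x ⟨z, rfl⟩
      -- π x ∈ range (t_{k → p})
      have hπ : t (Nat.le_succ p) (t (h₂.trans h12) z) ∈ (t (h₁.trans (h11.trans hk))).range := by
        rw [hk₁ k (h11.trans hk), ← hk₁ (max k₁ k₂) h11, t_comp]
        exact ⟨z, rfl⟩
      obtain ⟨w, hw⟩ := hπ
      have hy1 : t (Nat.le_succ p) (t (h₂.trans (h12.trans hk)) w) =
          t (Nat.le_succ p) (t (h₂.trans h12) z) := by
        rw [t_comp]
        exact hw
      have hmem : t (h₂.trans h12) z - t (h₂.trans (h12.trans hk)) w ∈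
          (t (h₂.trans h12)).range ⊓ (t (Nat.le_succ p)).ker := by
        refine AddSubgroup.mem_inf.2 ⟨sub_mem ⟨z, rfl⟩ (range_anti (h₂.trans h12) hk ⟨w, rfl⟩), ?_⟩
        rw [AddMonoidHom.mem_ker, map_sub, hy1, sub_self]
      have hmem2 : t (h₂.trans h12) z - t (h₂.trans (h12.trans hk)) w ∈
          (t (h₂.trans (h12.trans hk))).range ⊓ (t (Nat.le_succ p)).ker := by
        have e1 := hk₂ (max k₁ k₂) h12
        have e2 := hk₂ k (h12.trans hk)
        have : (t (h₂.trans (h12.trans hk))).range ⊓ (t (Nat.le_succ p)).ker =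
            (t (h₂.trans h12)).range ⊓ (t (Nat.le_succ p)).ker := e2.trans e1.symm
        rw [this]
        exact hmem
      have := add_mem (⟨w, rfl⟩ : t (h₂.trans (h12.trans hk)) w ∈ (t (h₂.trans (h12.trans hk))).range)
        (AddSubgroup.mem_inf.1 hmem2).1
      rwa [add_sub_cancel] at this

end Groth.Agent.S3532
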