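import Groth.Statements.S3533
import Groth.Agent.Lib.Helper2.RHom.TensorCohPull

set_option autoImplicit false
universe u
attribute [local instance] HasDerivedCategory.standard
open HTor

namespace Groth.Agent.S3533

open CategoryTheory CategoryTheory.Limits AlgebraicGeometry in
/-- Let f : X ⟶ S be a flat morphism with X locally Noetherian, g : Y ⟶ S a morphism, and suppose Z = X
×_S Y is locally Noetherian. As X is flat over S, the local hypertor sheaves Tor_n^S(F, G) on Z are
taken to be the cohomology sheaves in degree −n of L pr₁^* F ⊗^L pr₂^* G, where pr₂^* G is the plain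
pullback of G viewed as a complex in degree 0 and the derived pullback L pr₁^* and the derived
tensor product are taken under their existence binders; the statement is made in that form. Then for
F a coherent O_X-module and G a coherent O_Y-module, every cohomology sheaf of L pr₁^* F ⊗^L pr₂^* G
is a coherent O_Z-module. -/
theorem result (X Y S : Scheme.{u}) (f : X ⟶ S) (g : Y ⟶ S) [Flat f]
    [IsLocallyNoetherian X] [IsLocallyNoetherian (pullback f g)] (F : X.Modules) (G : Y.Modules)
    (hF : Coh.IsCoh F) (hG : Coh.IsCoh G) [DCoh.HasLpull (pullback.fst f g)]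
    [DCoh.HasLTensorCx ((HTor.pullCx (pullback.snd f g)).obj
      ((HomologicalComplex.single Y.Modules (ComplexShape.up ℤ) 0).obj G))] (n : ℤ) :
    Coh.IsCoh (DCoh.HD ((DCoh.LTensorCx ((HTor.pullCx (pullback.snd f g)).obj
      ((HomologicalComplex.single Y.Modules (ComplexShape.up ℤ) 0).obj G))).obj
        ((DCoh.Lpull (pullback.fst f g)).obj (DCoh.inD X F))) n) := by
  have hZ : Groth.Agent.Lib.Helper2.RHom.cohClass.S (pullback f g) :=
    ‹IsLocallyNoetherian (pullback f g)›
  let e : DCoh.toD _ ((HTor.pullCx (pullback.snd f g)).obj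
      ((HomologicalComplex.single Y.Modules (ComplexShape.up ℤ) 0).obj G)) ≅
      DCoh.inD _ ((Scheme.Modules.pullback (pullback.snd f g)).obj G) :=
    DerivedCategory.Q.mapIso ((HomologicalComplex.singleMapHomologicalComplex
      (Scheme.Modules.pullback (pullback.snd f g)) (ComplexShape.up ℤ) 0).app G) ≪≫
      ((DerivedCategory.singleFunctorIsoCompQ _ 0).app _).symm
  have hG' := Groth.Agent.Lib.Helper1.ConsModLocus.isCoh_pullback (pullback.snd f g) G hG
  have h1 := Groth.Agent.Lib.Helper2.RHom.isCohD_inD _ hG'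
  have hEcoh : DCoh.IsCohD (DCoh.toD _ ((HTor.pullCx (pullback.snd f g)).obj
      ((HomologicalComplex.single Y.Modules (ComplexShape.up ℤ) 0).obj G))) :=
    Groth.Agent.Lib.Helper2.RHom.LocClass.isPD_of_iso
      (𝒞 := Groth.Agent.Lib.Helper2.RHom.cohClass) hZ e.symm h1
  have hEle : (DCoh.toD _ ((HTor.pullCx (pullback.snd f g)).obj
      ((HomologicalComplex.single Y.Modules (ComplexShape.up ℤ) 0).obj G))).IsLE 0 :=
    haveI : (DCoh.inD _ ((Scheme.Modules.pullback (pullback.snd f g)).obj G)).IsLE 0 :=
      inferInstanceAs (((DerivedCategory.singleFunctor _ 0).obj _).IsLE 0)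
    DerivedCategory.TStructure.t.isLE_of_iso e.symm 0
  obtain ⟨hLcoh, hLle⟩ := Groth.Agent.Lib.Helper2.RHom.isCohD_Lpull (pullback.fst f g)
    (DCoh.inD X F) 0 (inferInstanceAs (((DerivedCategory.singleFunctor _ 0).obj _).IsLE 0))
    (Groth.Agent.Lib.Helper2.RHom.isCohD_inD F hF)
  exact Groth.Agent.Lib.Helper2.RHom.isCohD_LTensorCx _ 0 hEle hEcoh _ 0 hLle hLcoh n

end Groth.Agent.S3533
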