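import Groth.Statements.S3536
import Groth.Agent.Lib.Helper5.CechTotP3
import Groth.Agent.Lib.Helper5.HDUSect
import Groth.Agent.Lib.Helper13.CechTop

set_option autoImplicit false
universe u
open CechTot

namespace Groth.Agent.S3536

open CategoryTheory CategoryTheory.Limits TopologicalSpace Opposite in
/-- postcomposition with an isomorphism, as an additive equivalence. -/
noncomputable def postEquiv {D : Type*} [Category D] [Preadditive D] {T A B : D} (e : A ≅ B) :
    (T ⟶ A) ≃+ (T ⟶ B) where
  toFun f := f ≫ e.hom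
  invFun g := g ≫ e.inv
  left_inv f := by simp
  right_inv g := by simp
  map_add' f g := Preadditive.add_comp _ _ _ _ _ _

section
open CategoryTheory CategoryTheory.Limits TopologicalSpace Opposite
open Groth.Agent.Lib.Helper5 Groth.Agent.Lib.Helper5.HDUSect

variable {X : TopCat.{u}}

/-- the class of a cocycle in the cohomology of the complex of sections. -/
noncomputable def c₁ (L : CochainComplex (CohTop.Ab X) ℤ) (V : Opens X) (n : ℤ) :
    Z L V n →+ (((CohCx.sectCx (Opens.grothendieckTopology X) V).obj L).homology n :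
      AddCommGrpCat.{u}) :=
  AddMonoidHom.ofMapSub
    (fun s => AbCx.cls ((CohCx.sectCx (Opens.grothendieckTopology X) V).obj L) n (n + 1) rfl s.1 s.2)
    (fun s t => AbCx.cls_sub ((CohCx.sectCx (Opens.grothendieckTopology X) V).obj L) n (n + 1) rfl
      s.1 t.1 s.2 t.2)

variable [HasDerivedCategory.{u} (CohTop.Ab X)]

/-- the cohomology of the sections of a K-injective complex is its hypercohomology. -/
noncomputable def sectHEquiv (L : CochainComplex (CohTop.Ab X) ℤ) [L.IsKInjective] (V : Opens X)
    (n : ℤ) :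
    (((CohCx.sectCx (Opens.grothendieckTopology X) V).obj L).homology n : AddCommGrpCat.{u}) ≃+
      CohCx.HDU (DerivedCategory.Q.obj L) n V :=
  equivOfKer (c₁ L V n) (clsS L V n)
    (by
      intro x
      obtain ⟨y, hy, rfl⟩ := AbCx.cls_surjective
        ((CohCx.sectCx (Opens.grothendieckTopology X) V).obj L) n (n + 1) rfl x
      exact ⟨⟨y, hy⟩, rfl⟩)
    (clsS_surjective L V n)
    (by
      ext s
      rw [AddMonoidHom.mem_ker, AddMonoidHom.mem_ker]
      exact (AbCx.cls_eq_zero_iff ((CohCx.sectCx (Opens.grothendieckTopology X) V).obj L)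
        (n - 1) n (n + 1) (by omega) rfl s.1 s.2).trans (clsS_eq_zero_iff L V n s).symm)

end

open CategoryTheory CategoryTheory.Limits TopologicalSpace in
/-- Let X be a topological space, U = (U_i) an open cover of X and K a complex of abelian sheaves on X
with K^i = 0 for i < a. If H^q(U_{i_0} ∩ … ∩ U_{i_p}, K^i) = 0 for all q > 0, all i and all finite
families of indices, then for every n the Čech hypercohomology group Ȟ^n(U, K) (cohomology of the
total complex of the double complex C^p(U, K^q)) is isomorphic to the hypercohomology group H^n(X,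
K) (maps from the free abelian sheaf on X to K[n] in the derived category). (The published statement
gives a canonical isomorphism; here only the existence of an additive isomorphism is asserted, and K
is taken bounded below.) -/
theorem result {X : TopCat.{u}} [HasDerivedCategory.{u} (CohTop.Ab X)]
    {ι : Type u} (U : ι → Opens X) (hcov : iSup U = ⊤) (K : CochainComplex (CohTop.Ab X) ℤ) (a : ℤ)
    (ha : ∀ i : ℤ, i < a → IsZero (K.X i))
    (h : ∀ (p : ℕ) (c : Fin (p + 1) → ι) (i : ℤ) (q : ℕ),
      Subsingleton (CohTop.HU (K.X i) (q + 1) (iInf fun k => U (c k)))) (n : ℤ) :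
    Nonempty (↑(CechTot.hyperH U ((CechTot.presheafCx X).obj K) n) ≃+
      CohCx.HDU (DerivedCategory.Q.obj K) n (⊤ : Opens X)) := by
  classical
  have hGE : K.IsStrictlyGE a := by
    rw [CochainComplex.isStrictlyGE_iff]
    intro q hq
    exact ha q hq
  let K' : CochainComplex.Plus (CohTop.Ab X) := ⟨K, ⟨a, hGE⟩⟩
  obtain ⟨L, hL, i, hi⟩ := CochainComplex.Plus.exists_quasiIso_injective K' a
  let J : CochainComplex.Plus (CohTop.Ab X) := (InjectiveObject.ι _).mapCochainComplexPlus.obj L
  have hinj : ∀ n, Injective (J.obj.X n) := fun n => (L.obj.X n).property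
  have hQ : QuasiIso i.hom := hi
  have hJGE : CochainComplex.IsStrictlyGE J.obj a :=
    inferInstanceAs (CochainComplex.IsStrictlyGE (((InjectiveObject.ι (CohTop.Ab X)).mapHomologicalComplex
      (ComplexShape.up ℤ)).obj L.obj) a)
  have hJ0 : ∀ q : ℤ, q < a → IsZero (J.obj.X q) := fun q hq =>
    CochainComplex.isZero_of_isStrictlyGE J.obj a q hq
  have hKI : J.obj.IsKInjective := CochainComplex.isKInjective_of_injective J.obj a
  -- the comparison of the Čech double complexes of `K` and `J`
  let ψ : (CechTot.presheafCx X).obj K ⟶ (CechTot.presheafCx X).obj J.obj :=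
    (CechTot.presheafCx X).map i.hom
  have hslice : ∀ k : ℕ, QuasiIso (((Groth.Agent.Lib.Helper5.CechSlice.Pk U k).mapHomologicalComplex
      (ComplexShape.up ℤ)).map ψ) := by
    intro k
    apply Groth.Agent.Lib.Helper5.AbQis.quasiIso_of_eqis
    apply Groth.Agent.Lib.Helper5.CechSlice.eqis_slice
    intro c
    have hV : ∏ᶜ (U ∘ c) = ⨅ j, U (c j) := Groth.Agent.Lib.Helper13.CechTop.prod_eq_iInf U c
    have hq : QuasiIso (((Groth.Agent.Lib.Helper5.AcycSect.ΓV (∏ᶜ (U ∘ c))).mapHomologicalComplex
        (ComplexShape.up ℤ)).map i.hom) := by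
      apply Groth.Agent.Lib.Helper5.AcycSect.quasiIso_sections (∏ᶜ (U ∘ c)) i
      · intro m q
        rw [hV]
        exact h k c m q
      · intro m q
        have : Subsingleton (Abelian.Ext (CohCx.freeSheaf (Opens.grothendieckTopology X)
            (∏ᶜ (U ∘ c))) (J.obj.X m) (q + 1)) :=
          ⟨fun x y => by
            rw [Abelian.Ext.eq_zero_of_injective x, Abelian.Ext.eq_zero_of_injective y]⟩
        exact this
    exact @Groth.Agent.Lib.Helper5.AbQis.eqis_of_quasiIso _ _ _ hq
  have hA : ∀ q : ℤ, q < a → IsZero (((CechTot.presheafCx X).obj K).X q) := fun q hq =>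
    (sheafToPresheaf (Opens.grothendieckTopology X) AddCommGrpCat.{u}).map_isZero (ha q hq)
  have hB : ∀ q : ℤ, q < a → IsZero (((CechTot.presheafCx X).obj J.obj).X q) := fun q hq =>
    (sheafToPresheaf (Opens.grothendieckTopology X) AddCommGrpCat.{u}).map_isZero (hJ0 q hq)
  have hP2 := Groth.Agent.Lib.Helper5.CechTotP2.quasiIso_total_cech₂_map U ψ a hA hB hslice
  have hP3 := Groth.Agent.Lib.Helper5.CechTotP3.quasiIso_total_η U hcov J.obj a hJ0
  let G : CochainComplex AddCommGrpCat.{u} ℤ :=
    (CohCx.sectCx (Opens.grothendieckTopology X) (⊤ : Opens X)).obj J.obj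
  have hincl : QuasiIso (Groth.Agent.Lib.Helper5.TotSingle.incl G) := inferInstance
  let e1 : CechTot.hyperH U ((CechTot.presheafCx X).obj K) n ≅
      CechTot.hyperH U ((CechTot.presheafCx X).obj J.obj) n :=
    isoOfQuasiIsoAt (HomologicalComplex₂.total.map
      (K := CechTot.cech₂ U ((CechTot.presheafCx X).obj K))
      (L := CechTot.cech₂ U ((CechTot.presheafCx X).obj J.obj))
      (((Groth.Agent.Lib.Helper5.CechTotP2.cechFun U).mapHomologicalComplex (ComplexShape.up ℤ)).map ψ)
      (ComplexShape.up ℤ)) n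
  let e2 : ((Groth.Agent.Lib.Helper5.TotSingle.DG G).total (ComplexShape.up ℤ)).homology n ≅
      CechTot.hyperH U ((CechTot.presheafCx X).obj J.obj) n :=
    isoOfQuasiIsoAt (HomologicalComplex₂.total.map
      (Groth.Agent.Lib.Helper5.CechTotP3.η U hcov J.obj) (ComplexShape.up ℤ)) n
  let e3 : G.homology n ≅
      ((Groth.Agent.Lib.Helper5.TotSingle.DG G).total (ComplexShape.up ℤ)).homology n :=
    isoOfQuasiIsoAt (Groth.Agent.Lib.Helper5.TotSingle.incl G) n
  let eK : DerivedCategory.Q.obj K ≅ DerivedCategory.Q.obj J.obj :=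
    asIso (DerivedCategory.Q.map i.hom)
  exact ⟨((e1 ≪≫ e2.symm ≪≫ e3.symm).addCommGroupIsoToAddEquiv).trans
    ((sectHEquiv J.obj ⊤ n).trans (postEquiv ((shiftFunctor _ n).mapIso eK)).symm)⟩

end Groth.Agent.S3536
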