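import Groth.Statements.S3542
import Groth.Agent.Lib.Helper2.RHom.TensorCohPull

set_option autoImplicit false
universe u
attribute [local instance] HasDerivedCategory.standard
open HTor

namespace Groth.Agent.S3542

open CategoryTheory CategoryTheory.Limits AlgebraicGeometry in
/-- Let f : X ⟶ S be flat with X locally Noetherian, g : Y ⟶ S any morphism, and suppose Z = X ×_S Y is
locally Noetherian. Let P (resp. Q) be a complex of quasi-coherent O_X-modules (resp. O_Y-modules)
vanishing in large degrees, all of whose cohomology sheaves are coherent. Since X is flat over S,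
the local hypertor sheaves Tor_n^S(P, Q) on Z are the cohomology sheaves of L pr₁^*P ⊗^L pr₂^*Q
(derived pullback and derived tensor product under their existence binders; pr₂ is flat, so pr₂^*Q
is the termwise pullback). Then all these cohomology sheaves are coherent O_Z-modules. -/
theorem result (X Y S : Scheme.{u}) (f : X ⟶ S) (g : Y ⟶ S) [Flat f]
    [IsLocallyNoetherian X] [IsLocallyNoetherian (pullback f g)]
    (P : CochainComplex X.Modules ℤ) (Q : CochainComplex Y.Modules ℤ)
    (hqP : ∀ i : ℤ, Coh.IsQCoh (P.X i)) (hqQ : ∀ i : ℤ, Coh.IsQCoh (Q.X i))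
    (bP : ∃ b : ℤ, ∀ i : ℤ, b < i → IsZero (P.X i)) (bQ : ∃ b : ℤ, ∀ i : ℤ, b < i → IsZero (Q.X i))
    (hP : DCoh.IsCohD (DCoh.toD X P)) (hQ : DCoh.IsCohD (DCoh.toD Y Q))
    [DCoh.HasLpull (pullback.fst f g)] [DCoh.HasLTensorCx ((HTor.pullCx (pullback.snd f g)).obj Q)] :
    DCoh.IsCohD ((DCoh.LTensorCx ((HTor.pullCx (pullback.snd f g)).obj Q)).obj
      ((DCoh.Lpull (pullback.fst f g)).obj (DCoh.toD X P))) := by
  obtain ⟨b, hb⟩ := bP
  obtain ⟨b', hb'⟩ := bQ
  have hPle := Groth.Agent.Lib.Helper2.RHom.isLE_toD_of_isZero_X P b hb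
  have hEle : (DCoh.toD _ ((HTor.pullCx (pullback.snd f g)).obj Q)).IsLE b' :=
    Groth.Agent.Lib.Helper2.RHom.isLE_toD_of_isZero_X _ b'
      (fun i hi => (Scheme.Modules.pullback (pullback.snd f g)).map_isZero (hb' i hi))
  have hEcoh : DCoh.IsCohD (DCoh.toD _ ((HTor.pullCx (pullback.snd f g)).obj Q)) :=
    Groth.Agent.Lib.Helper2.RHom.isCohD_pullCx_of_flat (pullback.snd f g) Q hQ
  obtain ⟨hLcoh, hLle⟩ := Groth.Agent.Lib.Helper2.RHom.isCohD_Lpull (pullback.fst f g)
    (DCoh.toD X P) b hPle hP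
  exact Groth.Agent.Lib.Helper2.RHom.isCohD_LTensorCx _ b' hEle hEcoh _ b hLle hLcoh

end Groth.Agent.S3542
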