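import Mathlib
import Groth.Statements.S3544

set_option autoImplicit false
universe u
open HomAlg3

namespace Groth.Agent.S3544

open CategoryTheory CategoryTheory.Limits

section aux
variable {A : Type u} [Ring A]

theorem length_sc (S : ShortComplex (ModuleCat.{u} A)) :
    Module.length A S.X₂ = Module.length A (LinearMap.range S.f.hom) + Module.length A S.homology
      + Module.length A (LinearMap.range S.g.hom) := by
  have h1 : Module.length A S.X₂ = Module.length A (LinearMap.ker S.g.hom)
      + Module.length A (LinearMap.range S.g.hom) := by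
    refine Module.length_eq_add_of_exact (LinearMap.ker S.g.hom).subtype S.g.hom.rangeRestrict
      (Submodule.subtype_injective _) (LinearMap.surjective_rangeRestrict _) ?_
    intro y
    constructor
    · intro hy
      have hy' : S.g.hom y = 0 := congrArg Subtype.val hy
      exact ⟨⟨y, LinearMap.mem_ker.mpr hy'⟩, rfl⟩
    · rintro ⟨z, rfl⟩
      apply Subtype.ext
      exact LinearMap.mem_ker.mp z.2
  have hle : LinearMap.range S.f.hom ≤ LinearMap.ker S.g.hom := by
    rintro _ ⟨x, rfl⟩
    exact LinearMap.mem_ker.mpr (S.moduleCat_zero_apply x)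
  have h2 : Module.length A (LinearMap.ker S.g.hom) = Module.length A (LinearMap.range S.f.hom)
      + Module.length A (LinearMap.ker S.g.hom ⧸ LinearMap.range S.moduleCatToCycles) := by
    refine Module.length_eq_add_of_exact (Submodule.inclusion hle)
      (LinearMap.range S.moduleCatToCycles).mkQ
      (Submodule.inclusion_injective hle) (Submodule.mkQ_surjective _) ?_
    intro y
    rw [Submodule.mkQ_apply, Submodule.Quotient.mk_eq_zero]
    constructor
    · rintro ⟨x, rfl⟩
      exact ⟨⟨S.f.hom x, ⟨x, rfl⟩⟩, Subtype.ext rfl⟩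
    · rintro ⟨⟨_, ⟨x, rfl⟩⟩, rfl⟩
      exact ⟨x, Subtype.ext rfl⟩
  have h3 : Module.length A S.homology
      = Module.length A (LinearMap.ker S.g.hom ⧸ LinearMap.range S.moduleCatToCycles) :=
    S.moduleCatHomologyIso.toLinearEquiv.length_eq
  rw [h1, h2, h3]

theorem length_range_le_right {M N : Type*} [AddCommGroup M] [Module A M] [AddCommGroup N]
    [Module A N] (f : M →ₗ[A] N) : Module.length A (LinearMap.range f) ≤ Module.length A N :=
  Module.length_le_of_injective (LinearMap.range f).subtype (Submodule.subtype_injective _)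

theorem length_range_le_left {M N : Type*} [AddCommGroup M] [Module A M] [AddCommGroup N]
    [Module A N] (f : M →ₗ[A] N) : Module.length A (LinearMap.range f) ≤ Module.length A M :=
  Module.length_le_of_surjective f.rangeRestrict (LinearMap.surjective_rangeRestrict _)

noncomputable def gam {v : ℤ × ℤ}
    (K : HomologicalComplex (ModuleCat.{u} A) (ComplexShape.up' v)) (i j : ℤ × ℤ) : ℕ∞ :=
  Module.length A (LinearMap.range (K.d i j).hom)

def sg (pq : ℤ × ℤ) : ℤ := (((pq.1 + pq.2).negOnePow : ℤˣ) : ℤ)

theorem sg_add (v : ℤ × ℤ) (hv : v.1 + v.2 = 1) (pq : ℤ × ℤ) : sg (pq + v) = - sg pq := by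
  have h1 : (pq + v).1 + (pq + v).2 = (pq.1 + pq.2) + 1 := by
    simp only [Prod.fst_add, Prod.snd_add]; linarith
  unfold sg
  rw [h1, Int.negOnePow_succ]
  simp

theorem euler_step (v : ℤ × ℤ) (hv : v.1 + v.2 = 1)
    (K : HomologicalComplex (ModuleCat.{u} A) (ComplexShape.up' v)) (s : Finset (ℤ × ℤ))
    (hs : ∀ pq : ℤ × ℤ, pq ∉ s → IsZero (K.X pq))
    (hfl : ∀ pq : ℤ × ℤ, Module.length A (K.X pq) ≠ ⊤) :
    (∀ pq, Module.length A (K.homology pq) ≠ ⊤) ∧
    (s.sum fun pq => (((pq.1 + pq.2).negOnePow : ℤˣ) : ℤ) *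
        ((Module.length A (K.homology pq)).toNat : ℤ)) =
      s.sum fun pq => (((pq.1 + pq.2).negOnePow : ℤˣ) : ℤ) *
        ((Module.length A (K.X pq)).toNat : ℤ) := by
  classical
  have hγr : ∀ i j, gam K i j ≤ Module.length A (K.X j) := fun i j => length_range_le_right _
  have hγl : ∀ i j, gam K i j ≤ Module.length A (K.X i) := fun i j => length_range_le_left _
  have hzero : ∀ pq, pq ∉ s → Module.length A (K.X pq) = 0 := by
    intro pq h
    haveI := ModuleCat.subsingleton_of_isZero (hs pq h)
    exact Module.length_eq_zero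
  have hg0r : ∀ i j, j ∉ s → gam K i j = 0 := fun i j h =>
    nonpos_iff_eq_zero.mp ((hγr i j).trans (hzero j h).le)
  have hg0l : ∀ i j, i ∉ s → gam K i j = 0 := fun i j h =>
    nonpos_iff_eq_zero.mp ((hγl i j).trans (hzero i h).le)
  have hkey : ∀ pq, Module.length A (K.X pq) =
      gam K (pq - v) pq + Module.length A (K.homology pq) + gam K pq (pq + v) := by
    intro pq
    have h1 := length_sc (K.sc pq)
    have hprev : (ComplexShape.up' v).prev pq = pq - v :=
      (ComplexShape.up' v).prev_eq' (show pq - v + v = pq from sub_add_cancel pq v)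
    have hnext : (ComplexShape.up' v).next pq = pq + v :=
      (ComplexShape.up' v).next_eq' (show pq + v = pq + v from rfl)
    have hf : Module.length A (LinearMap.range (K.sc pq).f.hom) = gam K (pq - v) pq := by
      show Module.length A (LinearMap.range (K.d ((ComplexShape.up' v).prev pq) pq).hom) = _
      rw [hprev]
      rfl
    have hg : Module.length A (LinearMap.range (K.sc pq).g.hom) = gam K pq (pq + v) := by
      show Module.length A (LinearMap.range (K.d pq ((ComplexShape.up' v).next pq)).hom) = _
      rw [hnext]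
      rfl
    rw [hf, hg] at h1
    exact h1
  have hHfin : ∀ pq, Module.length A (K.homology pq) ≠ ⊤ := by
    intro pq h
    apply hfl pq
    rw [hkey pq, h]
    simp
  have hkeyZ : ∀ pq, ((Module.length A (K.X pq)).toNat : ℤ) =
      ((gam K (pq - v) pq).toNat : ℤ) + ((Module.length A (K.homology pq)).toNat : ℤ)
        + ((gam K pq (pq + v)).toNat : ℤ) := by
    intro pq
    have e1 : gam K (pq - v) pq ≠ ⊤ := ne_top_of_le_ne_top (hfl pq) (hγr _ _)
    have e3 : gam K pq (pq + v) ≠ ⊤ := ne_top_of_le_ne_top (hfl pq) (hγl _ _)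
    have e2 := hHfin pq
    have e12 : gam K (pq - v) pq + Module.length A (K.homology pq) ≠ ⊤ := by
      simp [e1, e2]
    rw [hkey pq, ENat.toNat_add e12 e3, ENat.toNat_add e1 e2]
    push_cast
    rfl
  have hfX : ∀ pq, sg pq * ((Module.length A (K.X pq)).toNat : ℤ) =
      sg pq * ((gam K (pq - v) pq).toNat : ℤ)
        + sg pq * ((Module.length A (K.homology pq)).toNat : ℤ)
        + sg pq * ((gam K pq (pq + v)).toNat : ℤ) := by
    intro pq; rw [hkeyZ pq]; ring
  refine ⟨hHfin, ?_⟩
  show (s.sum fun pq => sg pq * ((Module.length A (K.homology pq)).toNat : ℤ)) =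
      s.sum fun pq => sg pq * ((Module.length A (K.X pq)).toNat : ℤ)
  rw [Finset.sum_congr rfl (fun pq _ => hfX pq), Finset.sum_add_distrib, Finset.sum_add_distrib]
  have hcancel : (s.sum fun pq => sg pq * ((gam K pq (pq + v)).toNat : ℤ)) =
      - s.sum fun pq => sg pq * ((gam K (pq - v) pq).toNat : ℤ) := by
    have hsm : Function.support (fun pq => sg pq * ((gam K (pq - v) pq).toNat : ℤ)) ⊆ ↑s := by
      intro pq hpq
      by_contra hns
      have hns' : pq ∉ s := fun h => hns (Finset.mem_coe.mpr h)
      refine Function.mem_support.mp hpq ?_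
      rw [hg0r _ _ hns']; simp
    have hsp : Function.support (fun pq => sg pq * ((gam K pq (pq + v)).toNat : ℤ)) ⊆ ↑s := by
      intro pq hpq
      by_contra hns
      have hns' : pq ∉ s := fun h => hns (Finset.mem_coe.mpr h)
      refine Function.mem_support.mp hpq ?_
      rw [hg0l _ _ hns']; simp
    rw [← finsum_eq_sum_of_support_subset _ hsm, ← finsum_eq_sum_of_support_subset _ hsp]
    have hshift : (fun pq => sg pq * ((gam K pq (pq + v)).toNat : ℤ)) =
        fun pq => - (sg (pq + v) * ((gam K (pq + v - v) (pq + v)).toNat : ℤ)) := by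
      funext pq
      rw [sg_add v hv, add_sub_cancel_right]
      ring
    rw [hshift, finsum_neg_distrib]
    congr 1
    exact finsum_comp_equiv (Equiv.addRight v)
      (f := fun pq => sg pq * ((gam K (pq - v) pq).toNat : ℤ))
  rw [hcancel]; ring

end aux

open CategoryTheory CategoryTheory.Limits in
/-- Let E be a cohomological spectral sequence of modules over a ring A, starting at page 2, such that
the E₂ terms have finite length and only finitely many of them (all inside the finite set s of
bidegrees) are nonzero. Then for every r ≥ 2 the Euler–Poincaré characteristic of page r, the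
alternating sum over s of (-1)^{p+q} times the length of E_r^{pq}, equals that of page 2. -/
theorem result {A : Type u} [Ring A]
    (E : E₂CohomologicalSpectralSequence (ModuleCat.{u} A)) (s : Finset (ℤ × ℤ))
    (hs : ∀ pq : ℤ × ℤ, pq ∉ s → IsZero ((E.page 2).X pq))
    (hfl : ∀ pq : ℤ × ℤ, IsFiniteLength A ((E.page 2).X pq)) (r : ℤ) (hr : 2 ≤ r) :
    (s.sum fun pq => (((pq.1 + pq.2).negOnePow : ℤˣ) : ℤ) * ((Module.length A ((E.page r hr).X pq)).toNat : ℤ)) =
      s.sum fun pq => (((pq.1 + pq.2).negOnePow : ℤˣ) : ℤ) * ((Module.length A ((E.page 2).X pq)).toNat : ℤ) := by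
  have key : ∀ (r : ℤ) (hr : 2 ≤ r), (∀ pq : ℤ × ℤ, pq ∉ s → IsZero ((E.page r hr).X pq)) ∧
      (∀ pq : ℤ × ℤ, Module.length A ((E.page r hr).X pq) ≠ ⊤) ∧
      ((s.sum fun pq => (((pq.1 + pq.2).negOnePow : ℤˣ) : ℤ) *
          ((Module.length A ((E.page r hr).X pq)).toNat : ℤ)) =
        s.sum fun pq => (((pq.1 + pq.2).negOnePow : ℤˣ) : ℤ) *
          ((Module.length A ((E.page 2).X pq)).toNat : ℤ)) := by
    intro r hr
    induction r, hr using Int.leInduction with
    | base => exact ⟨hs, fun pq => Module.length_ne_top_iff.mpr (hfl pq), rfl⟩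
    | succ r hr ih =>
      obtain ⟨ih1, ih2, ih3⟩ := ih
      have hstep := euler_step (⟨r, 1 - r⟩ : ℤ × ℤ) (by simp) (E.page r hr) s ih1 ih2
      have hiso : ∀ pq, Module.length A ((E.page (r + 1) (Int.le_add_one hr)).X pq) =
          Module.length A ((E.page r hr).homology pq) :=
        fun pq => ((E.iso r (r + 1) pq rfl hr).toLinearEquiv.length_eq).symm
      refine ⟨?_, ?_, ?_⟩
      · intro pq hpq
        exact IsZero.of_iso (ShortComplex.isZero_homology_of_isZero_X₂ ((E.page r hr).sc pq)
          (ih1 pq hpq)) (E.iso r (r + 1) pq rfl hr).symm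
      · intro pq
        rw [hiso]
        exact hstep.1 pq
      · rw [← ih3, ← hstep.2]
        refine Finset.sum_congr rfl fun pq _ => ?_
        rw [hiso]
  exact (key r hr).2.2

end Groth.Agent.S3544
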