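import Groth.Statements.S3547
import Groth.Agent.Lib.Helper6.GrTildeStalk

set_option autoImplicit false
universe u
open CategoryTheory CategoryTheory.Limits AlgebraicGeometry
open EGA2

namespace Groth.Agent.S3547

/-- Let S be a graded ring, M a graded S-module, X = Proj S and p a point of X. The stalk of M(n)~ at p
is the module of fractions m/f in M_p with m, f homogeneous, f not in p and deg m = deg f + n:
precisely, evaluation at p is a bijection from the stalk at p of the sheaf of local sections of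
M(n)~ onto that module of fractions. -/
theorem result {R A : Type u} [CommRing R] [CommRing A] [Algebra R A] (𝒜 : ℕ → Submodule R A) [GradedAlgebra 𝒜]
    {M : Type u} [AddCommGroup M] [Module R M] [Module A M] [IsScalarTower R A M] (ℳ : ℕ → Submodule R M) [DirectSum.Decomposition ℳ] [SetLike.GradedSMul 𝒜 ℳ] (n : ℤ)
    (p : ProjectiveSpectrum 𝒜) :
    Function.Bijective (TopCat.stalkToFiber (GrTilde.isLocFrac 𝒜 ℳ n) p) := by
  classical
  constructor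
  · apply TopCat.stalkToFiber_injective
    intro U V fU hU fV hV e
    obtain ⟨U₁, hpU₁, iU₁, i, j, m, s, nin, c, hw⟩ := hU ⟨p, U.2⟩
    obtain ⟨V₁, hpV₁, iV₁, i', j', m', s', nin', c', hw'⟩ := hV ⟨p, V.2⟩
    have e1 : (fU ⟨p, U.2⟩).1 = LocalizedModule.mk m.1 ⟨s.1, nin ⟨p, hpU₁⟩⟩ := hw ⟨p, hpU₁⟩
    have e2 : (fV ⟨p, V.2⟩).1 = LocalizedModule.mk m'.1 ⟨s'.1, nin' ⟨p, hpV₁⟩⟩ :=
      hw' ⟨p, hpV₁⟩
    rw [e, e2, LocalizedModule.mk_eq] at e1
    obtain ⟨u, hu⟩ := e1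
    have hu' : (u : A) • s.1 • m'.1 = (u : A) • s'.1 • m.1 := hu
    have hW : p ∈ U₁ ⊓ V₁ ⊓ ProjectiveSpectrum.basicOpen 𝒜 (u : A) := ⟨⟨hpU₁, hpV₁⟩, u.2⟩
    refine ⟨⟨U₁ ⊓ V₁ ⊓ ProjectiveSpectrum.basicOpen 𝒜 (u : A), hW⟩,
      homOfLE (fun y hy => iU₁.le hy.1.1), homOfLE (fun y hy => iV₁.le hy.1.2), fun w => ?_⟩
    apply Subtype.ext
    have h1 : (fU ⟨w.1, iU₁.le w.2.1.1⟩).1 =
        LocalizedModule.mk m.1 ⟨s.1, nin ⟨w.1, w.2.1.1⟩⟩ := hw ⟨w.1, w.2.1.1⟩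
    have h2 : (fV ⟨w.1, iV₁.le w.2.1.2⟩).1 =
        LocalizedModule.mk m'.1 ⟨s'.1, nin' ⟨w.1, w.2.1.2⟩⟩ := hw' ⟨w.1, w.2.1.2⟩
    refine h1.trans (Eq.trans ?_ h2.symm)
    rw [LocalizedModule.mk_eq]
    exact ⟨⟨(u : A), w.2.2⟩, hu'.symm⟩
  · apply TopCat.stalkToFiber_surjective
    intro t
    obtain ⟨i, j, m, s, hs, c, ht⟩ :=
      Groth.Agent.Lib.Helper6.exists_eq_mk_of_mem_tildeAt 𝒜 ℳ n p t.1 t.2
    have hmem : ∀ y : ProjectiveSpectrum.basicOpen 𝒜 s.1,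
        (LocalizedModule.mk m.1 ⟨s.1, y.2⟩ : GrTilde.LocMod 𝒜 (M := M) y.1) ∈
          GrTilde.tildeAt 𝒜 ℳ n y.1 := by
      intro y
      rcases c with c | c
      · exact Submodule.subset_span ⟨i, j, m, s, y.2, c, rfl⟩
      · rw [c, LocalizedModule.zero_mk]
        exact zero_mem _
    refine ⟨⟨ProjectiveSpectrum.basicOpen 𝒜 s.1, hs⟩, fun y => ⟨_, hmem y⟩, ?_, ?_⟩
    · intro y
      exact ⟨ProjectiveSpectrum.basicOpen 𝒜 s.1, y.2, 𝟙 _, i, j, m, s, fun z => z.2, c,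
        fun z => rfl⟩
    · exact Subtype.ext ht.symm

end Groth.Agent.S3547
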