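import Groth.Statements.S3548
import Groth.Agent.Lib.Helper6.ProjMap

set_option autoImplicit false
universe u
open CategoryTheory CategoryTheory.Limits AlgebraicGeometry
open EGA2

namespace Groth.Agent.S3548

/-- Let S be a graded ring, M a graded S-module and X = Proj S. If for every z in M and every
homogeneous f of positive degree some power of f annihilates z, then the O_X-module M~ is zero. -/
theorem result {R A : Type u} [CommRing R] [CommRing A] [Algebra R A] (𝒜 : ℕ → Submodule R A) [GradedAlgebra 𝒜]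
    {M : Type u} [AddCommGroup M] [Module R M] [Module A M] [IsScalarTower R A M] (ℳ : ℕ → Submodule R M) [DirectSum.Decomposition ℳ] [SetLike.GradedSMul 𝒜 ℳ]
    (h : ∀ (z : M) (d : ℕ) (f : A), 0 < d → f ∈ 𝒜 d → ∃ k : ℕ, f ^ k • z = 0) :
    IsZero (GrTilde.tilde 𝒜 ℳ 0) := by
  have hsub : ∀ x : ProjectiveSpectrum 𝒜, Subsingleton (GrTilde.LocMod 𝒜 (M := M) x) := by
    intro x
    rw [LocalizedModule.subsingleton_iff]
    intro m
    obtain ⟨i, hi, s, hs, hxs⟩ :=
      Groth.Agent.Lib.Helper6.exists_homogeneous_mem_basicOpen 𝒜 (x : Proj 𝒜)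
    obtain ⟨k, hk⟩ := h m i s hi hs
    exact ⟨s ^ k, fun hmem => hxs (x.isPrime.mem_of_pow_mem _ hmem), hk⟩
  have hsect : ∀ U : (Proj 𝒜).Opens,
      Subsingleton (GrTilde.sect 𝒜 ℳ 0 (Opposite.op U)) := fun U =>
    ⟨fun a b => Subtype.ext (funext fun x => by
      haveI := hsub x.1
      exact Subsingleton.elim _ _)⟩
  rw [IsZero.iff_id_eq_zero]
  apply Scheme.Modules.hom_ext
  intro U
  apply AddCommGrpCat.hom_ext
  apply AddMonoidHom.ext
  intro x
  haveI := hsect U
  exact Subsingleton.elim (α := GrTilde.sect 𝒜 ℳ 0 (Opposite.op U)) _ _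

end Groth.Agent.S3548
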