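import Groth.Statements.S3549
import Groth.Agent.Lib.Helper6.GrTildeBasic

set_option autoImplicit false
universe u
open CategoryTheory CategoryTheory.Limits AlgebraicGeometry
open EGA2

namespace Groth.Agent.S3549

/-- Let S be a graded ring whose irrelevant ideal S_+ is generated by the degree-one elements, M a
graded S-module and X = Proj S. If the O_X-module M~ is zero, then for every z in M and every
homogeneous f of positive degree some power of f annihilates z. -/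
theorem result {R A : Type u} [CommRing R] [CommRing A] [Algebra R A] (𝒜 : ℕ → Submodule R A) [GradedAlgebra 𝒜]
    (hgen : (HomogeneousIdeal.irrelevant 𝒜).toIdeal = Ideal.span (𝒜 1 : Set A))
    {M : Type u} [AddCommGroup M] [Module R M] [Module A M] [IsScalarTower R A M] (ℳ : ℕ → Submodule R M) [DirectSum.Decomposition ℳ] [SetLike.GradedSMul 𝒜 ℳ]
    (h : IsZero (GrTilde.tilde 𝒜 ℳ 0)) (z : M) (d : ℕ) (f : A) (hd : 0 < d) (hf : f ∈ 𝒜 d) :
    ∃ k : ℕ, f ^ k • z = 0 := by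
  classical
  suffices hom : ∀ (i : ℕ) (z : M), z ∈ ℳ i → ∃ k : ℕ, f ^ k • z = 0 by
    choose k hk using fun i => hom i (DirectSum.decompose ℳ z i) (SetLike.coe_mem _)
    obtain ⟨K, hK⟩ : ∃ K, ∀ i ∈ (DirectSum.decompose ℳ z).support, k i ≤ K :=
      ⟨_, fun i hi => Finset.le_sup hi⟩
    refine ⟨K, ?_⟩
    rw [← DirectSum.sum_support_decompose ℳ z, Finset.smul_sum]
    refine Finset.sum_eq_zero fun i hi => ?_
    obtain ⟨c, hc⟩ := Nat.exists_eq_add_of_le (hK i hi)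
    rw [hc, add_comm, pow_add, mul_smul, hk i, smul_zero]
  intro i z hz
  let I : Ideal A := LinearMap.ker (LinearMap.toSpanSingleton A M z)
  have hI : ∀ a : A, a ∈ I ↔ a • z = 0 := fun a => by
    simp [I, LinearMap.mem_ker, LinearMap.toSpanSingleton_apply]
  suffices hfI : f ∈ I.radical by
    obtain ⟨k, hk⟩ := hfI
    exact ⟨k, (hI _).1 hk⟩
  rw [Ideal.radical_eq_sInf, Ideal.mem_sInf]
  rintro q ⟨hIq, hq⟩
  have := hq
  by_contra hfq
  have hfirr : f ∈ (HomogeneousIdeal.irrelevant 𝒜).toIdeal :=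
    HomogeneousIdeal.mem_irrelevant_of_mem 𝒜 hd hf
  have hle : ¬ (HomogeneousIdeal.irrelevant 𝒜).toIdeal ≤ q := fun h => hfq (h hfirr)
  let x : ProjectiveSpectrum 𝒜 := Groth.Agent.Lib.Helper6.projPointOfPrime 𝒜 q hle
  have hex : ∃ t ∈ 𝒜 1, t ∉ x.asHomogeneousIdeal := by
    by_contra hcon
    push Not at hcon
    apply x.not_irrelevant_le
    intro a ha
    have ha' : a ∈ (HomogeneousIdeal.irrelevant 𝒜).toIdeal := ha
    rw [hgen] at ha'
    exact (Ideal.span_le.2 (fun t ht => hcon t ht)) ha'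
  obtain ⟨t, ht, htx⟩ := hex
  have hti : t ^ i ∈ 𝒜 i := by simpa using SetLike.pow_mem_graded i ht
  have hx : x ∈ ProjectiveSpectrum.basicOpen 𝒜 (t ^ i) := fun hmem =>
    htx (x.isPrime.mem_of_pow_mem _ hmem)
  have hσ := Groth.Agent.Lib.Helper6.sect_eq_zero_of_isZero 𝒜 ℳ 0 h _
    (Groth.Agent.Lib.Helper6.fracSection 𝒜 ℳ 0 ⟨z, hz⟩ ⟨t ^ i, hti⟩ (by simp))
  have h0 := congrArg (fun s =>
    ((s.1 ⟨x, hx⟩ : GrTilde.tildeAt 𝒜 ℳ 0 x) : GrTilde.LocMod 𝒜 (M := M) x)) hσ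
  change LocalizedModule.mk z ⟨t ^ i, hx⟩ = 0 at h0
  rw [← LocalizedModule.zero_mk (1 : x.asHomogeneousIdeal.toIdeal.primeCompl),
    LocalizedModule.mk_eq] at h0
  obtain ⟨u, hu⟩ := h0
  have hu' : u • z = 0 := by simpa using hu
  have huz : (u : A) • z = 0 := hu'
  have hcomp : ∃ j, (DirectSum.decompose 𝒜 (u : A) j : A) ∉ q := by
    by_contra hcon
    push Not at hcon
    apply u.2
    change (u : A) ∈ (q.homogeneousCore 𝒜).toIdeal
    rw [← DirectSum.sum_support_decompose 𝒜 (u : A)]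
    exact Ideal.sum_mem _ fun j _ =>
      Ideal.mem_homogeneousCore_of_homogeneous_of_mem ⟨j, SetLike.coe_mem _⟩ (hcon j)
  obtain ⟨j, hj⟩ := hcomp
  exact hj (hIq ((hI _).2
    (Groth.Agent.Lib.Helper6.decompose_smul_eq_zero_of_mem 𝒜 ℳ hz huz j)))

end Groth.Agent.S3549
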