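import Groth.Statements.S3550
import Groth.Agent.Lib.Helper3.GrGamma
import Groth.Agent.Lib.Helper3.TwistProj

set_option autoImplicit false
universe u
open CategoryTheory CategoryTheory.Limits AlgebraicGeometry
open EGA2

namespace Groth.Agent.S3550

open Groth.Agent.Lib.Helper3 in

/-- Let S be a graded ring whose irrelevant ideal S_+ is generated by finitely many elements of degree
one, and X = Proj S. Then every quasi-coherent O_X-module F is isomorphic to M~ for some graded
S-module M (graded in nonnegative degrees). -/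
theorem result {R A : Type u} [CommRing R] [CommRing A] [Algebra R A] (𝒜 : ℕ → Submodule R A) [GradedAlgebra 𝒜]
    (s : Finset A) (hs1 : ∀ f ∈ s, f ∈ 𝒜 1)
    (hs : (HomogeneousIdeal.irrelevant 𝒜).toIdeal = Ideal.span (s : Set A))
    (F : (Proj 𝒜).Modules) (hF : Coh.IsQCoh F) :
    ∃ (M : Type u) (_ : AddCommGroup M) (_ : Module R M) (_ : Module A M) (_ : IsScalarTower R A M)
      (ℳ : ℕ → Submodule R M) (_ : DirectSum.Decomposition ℳ) (_ : SetLike.GradedSMul 𝒜 ℳ),
      Nonempty (GrTilde.tilde 𝒜 ℳ 0 ≅ F) := by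
  classical
  haveI : F.IsQuasicoherent := hF
  have hf : ∀ i : s, (i : A) ∈ 𝒜 1 := fun i => hs1 i i.2
  have hcov : ∀ x : Proj 𝒜, ∃ i : s, x ∈ Proj.basicOpen 𝒜 (i : A) := by
    intro x
    apply TwistProj.exists_mem_basicOpen_of_span (fun i : s => (i : A))
    rw [hs]
    apply Ideal.span_mono
    intro a ha
    exact ⟨⟨a, ha⟩, rfl⟩
  obtain ⟨S, hS⟩ : ∃ S : GrExt.SubFam (GrGamma.actData F hf),
      ∀ n, S.N n = GrGamma.Mn (fun i : s => (i : A)) F n := ⟨GrGamma.full F hf, fun _ => rfl⟩
  have key := GrGamma.nonempty_iso hcov S (fun n => (hS n).le) (fun i t => by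
    obtain ⟨n, p, hp, hpt⟩ := GrGamma.exists_extension (fun i : s => (i : A)) F hf i t
    exact ⟨n, p, (hS n).symm ▸ hp, hpt⟩)
  exact ⟨S.Tot, inferInstance, S.modR, S.modA, S.tower, S.piece, S.decomposition, S.gradedSMul,
    key⟩

end Groth.Agent.S3550
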