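import Groth.Statements.S3551
import Groth.Agent.Lib.Helper3.GrGen
import Groth.Agent.Lib.Helper3.TwistProj

set_option autoImplicit false
universe u
open CategoryTheory CategoryTheory.Limits AlgebraicGeometry
open EGA2

namespace Groth.Agent.S3551

open Groth.Agent.Lib.Helper3 in

/-- Let S be a graded ring whose irrelevant ideal S_+ is generated by finitely many elements of degree
one, and X = Proj S. Then every quasi-coherent O_X-module of finite type is isomorphic to N~ for
some finitely generated graded S-module N (graded in nonnegative degrees). -/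
theorem result {R A : Type u} [CommRing R] [CommRing A] [Algebra R A] (𝒜 : ℕ → Submodule R A) [GradedAlgebra 𝒜]
    (s : Finset A) (hs1 : ∀ f ∈ s, f ∈ 𝒜 1)
    (hs : (HomogeneousIdeal.irrelevant 𝒜).toIdeal = Ideal.span (s : Set A))
    (F : (Proj 𝒜).Modules) (hF : Coh.IsQCoh F) (hFT : CohB1.IsFT F) :
    ∃ (N : Type u) (_ : AddCommGroup N) (_ : Module R N) (_ : Module A N) (_ : IsScalarTower R A N)
      (𝒩 : ℕ → Submodule R N) (_ : DirectSum.Decomposition 𝒩) (_ : SetLike.GradedSMul 𝒜 𝒩),
      Module.Finite A N ∧ Nonempty (GrTilde.tilde 𝒜 𝒩 0 ≅ F) := by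
  classical
  haveI : F.IsQuasicoherent := hF
  haveI : F.IsFiniteType := hFT
  have hf : ∀ i : s, (i : A) ∈ 𝒜 1 := fun i => hs1 i i.2
  have hcov : ∀ x : Proj 𝒜, ∃ i : s, x ∈ Proj.basicOpen 𝒜 (i : A) := by
    intro x
    apply TwistProj.exists_mem_basicOpen_of_span (fun i : s => (i : A))
    rw [hs]
    apply Ideal.span_mono
    intro a ha
    exact ⟨⟨a, ha⟩, rfl⟩
  obtain ⟨S, hfin, key⟩ := GrGen.exists_finite_iso (F := F) hf hcov
  exact ⟨S.Tot, inferInstance, S.modR, S.modA, S.tower, S.piece, S.decomposition, S.gradedSMul,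
    hfin, key⟩

end Groth.Agent.S3551
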