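import Groth.Statements.S3553
import Groth.Agent.Lib.Helper6.ProjMap

set_option autoImplicit false
universe u
open CategoryTheory CategoryTheory.Limits AlgebraicGeometry
open EGA2

namespace Groth.Agent.S3553

/-- In the case where the induced morphism is defined on all of Proj S: let φ : S' → S be a homomorphism
of graded rings such that S_+ is contained in the ideal generated by φ(S'_+), and suppose every
element of the kernel of φ is nilpotent. Then the induced morphism from Proj S to Proj S' has dense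
image. -/
theorem result {R A : Type u} [CommRing R] [CommRing A] [Algebra R A] (𝒜 : ℕ → Submodule R A) [GradedAlgebra 𝒜]
    {B : Type u} [CommRing B] [Algebra R B] (ℬ : ℕ → Submodule R B) [GradedAlgebra ℬ]
    (φ : 𝒜 →+*ᵍ ℬ) (hφ : HomogeneousIdeal.irrelevant ℬ ≤ (HomogeneousIdeal.irrelevant 𝒜).map φ)
    (hker : ∀ a : A, φ a = 0 → IsNilpotent a) :
    DenseRange (Proj.map φ hφ).base := by
  rw [DenseRange, dense_iff_inter_open]
  rintro U hU ⟨x, hxU⟩
  have hb : ∀ {U : TopologicalSpace.Opens (Proj 𝒜)} {x : Proj 𝒜}, x ∈ U →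
      ∃ U' ∈ Set.range (Proj.basicOpen 𝒜), x ∈ U' ∧ U' ≤ U :=
    TopologicalSpace.Opens.isBasis_iff_nbhd.1 (Proj.isBasis_basicOpen 𝒜)
  obtain ⟨_, ⟨a, rfl⟩, hxa, haU⟩ := @hb ⟨U, hU⟩ x hxU
  obtain ⟨i, hi, s, hs, hxs⟩ := Groth.Agent.Lib.Helper6.exists_homogeneous_mem_basicOpen 𝒜 x
  have hsirr : φ s ∈ (HomogeneousIdeal.irrelevant ℬ).toIdeal :=
    HomogeneousIdeal.mem_irrelevant_of_mem ℬ hi (Graded.map_mem φ hs)
  have hmem : φ (a * s) ∈ (HomogeneousIdeal.irrelevant ℬ).toIdeal := by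
    rw [map_mul]
    exact Ideal.mul_mem_left _ _ hsirr
  have hasx : a * s ∉ x.asHomogeneousIdeal.toIdeal := fun h =>
    (x.isPrime.mem_or_mem h).elim hxa hxs
  have hnil : ¬ IsNilpotent (φ (a * s)) := by
    rintro ⟨n, hn⟩
    rw [← map_pow] at hn
    have h1 : IsNilpotent (a * s) := (hker _ hn).of_pow
    exact hasx (nilradical_le_prime _ ((mem_nilradical).2 h1))
  obtain ⟨y, hy⟩ :=
    Groth.Agent.Lib.Helper6.exists_mem_basicOpen_of_not_isNilpotent ℬ hmem hnil
  refine ⟨(Proj.map φ hφ).base y, haU ?_, y, rfl⟩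
  change y ∈ (Proj.map φ hφ) ⁻¹ᵁ Proj.basicOpen 𝒜 a
  rw [Proj.map_preimage_basicOpen]
  intro h
  exact hy (by rw [map_mul]; exact Ideal.mul_mem_right _ _ h)

end Groth.Agent.S3553
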