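import Groth.Statements.S3554
import Groth.Agent.Lib.Helper6.AwayBaseChange
import Groth.Agent.Lib.Helper6.PullbackLocal
import Groth.Agent.Lib.Helper6.ProjMap

set_option autoImplicit false
universe u
open CategoryTheory CategoryTheory.Limits AlgebraicGeometry
open EGA2

namespace Groth.Agent.S3554

/-- Let A' → A be a ring homomorphism, S' a graded A'-algebra and S = S' ⊗_{A'} A with the induced
grading (here: any graded A-algebra S with a graded homomorphism S' → S exhibiting S as the base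
change of S'). Then the square formed by Proj S → Proj S', the structure morphisms to Spec A and
Spec A', and Spec A → Spec A' is cartesian. -/
theorem result {R R' A B : Type u} [CommRing R'] [CommRing R] [Algebra R' R]
    [CommRing B] [Algebra R' B] (ℬ : ℕ → Submodule R' B) [GradedAlgebra ℬ]
    [CommRing A] [Algebra R A] [Algebra R' A] [IsScalarTower R' R A] (𝒜 : ℕ → Submodule R A) [GradedAlgebra 𝒜]
    [Algebra B A] [IsScalarTower R' B A] [Algebra.IsPushout R' R B A]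
    (φ : ℬ →+*ᵍ 𝒜) (hφA : ∀ b : B, φ b = algebraMap B A b)
    (hφ : HomogeneousIdeal.irrelevant 𝒜 ≤ (HomogeneousIdeal.irrelevant ℬ).map φ) :
    IsPullback (Proj.map φ hφ)
      (Proj.toSpecZero 𝒜 ≫ Spec.map (CommRingCat.ofHom (algebraMap R (𝒜 0))))
      (Proj.toSpecZero ℬ ≫ Spec.map (CommRingCat.ofHom (algebraMap R' (ℬ 0))))
      (Spec.map (CommRingCat.ofHom (algebraMap R' R))) := by
  classical
  have F1 : ∀ (s : B) {i : ℕ} (hs : s ∈ ℬ i) (hi : 0 < i),
      Proj.awayι ℬ s hs hi ≫ Proj.toSpecZero ℬ ≫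
        Spec.map (CommRingCat.ofHom (algebraMap R' (ℬ 0))) =
      Spec.map (CommRingCat.ofHom (Groth.Agent.Lib.Helper6.awayStruct ℬ s)) := by
    intro s i hs hi
    rw [Proj.awayι_toSpecZero_assoc, ← Spec.map_comp]
    rfl
  have F2 : ∀ (t : A) {i : ℕ} (ht : t ∈ 𝒜 i) (hi : 0 < i),
      Proj.awayι 𝒜 t ht hi ≫ Proj.toSpecZero 𝒜 ≫
        Spec.map (CommRingCat.ofHom (algebraMap R (𝒜 0))) =
      Spec.map (CommRingCat.ofHom (Groth.Agent.Lib.Helper6.awayStruct 𝒜 t)) := by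
    intro t i ht hi
    rw [Proj.awayι_toSpecZero_assoc, ← Spec.map_comp]
    rfl
  have comm : Proj.map φ hφ ≫ (Proj.toSpecZero ℬ ≫
        Spec.map (CommRingCat.ofHom (algebraMap R' (ℬ 0)))) =
      (Proj.toSpecZero 𝒜 ≫ Spec.map (CommRingCat.ofHom (algebraMap R (𝒜 0)))) ≫
        Spec.map (CommRingCat.ofHom (algebraMap R' R)) := by
    refine (Proj.mapAffineOpenCover φ hφ).openCover.hom_ext _ _ fun s => ?_
    let j : Σ k : PNat, ℬ k := s
    have hi : 0 < ((j.1 : ℕ+) : ℕ) := j.1.2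
    have hs₀ : (j.2.1 : B) ∈ ℬ ((j.1 : ℕ+) : ℕ) := j.2.2
    change Proj.awayι 𝒜 (φ j.2.1) (Graded.map_mem φ hs₀) hi ≫ _ =
      Proj.awayι 𝒜 (φ j.2.1) (Graded.map_mem φ hs₀) hi ≫ _
    have hw := (Groth.Agent.Lib.Helper6.away_isPushout ℬ 𝒜 φ hφA hs₀).w
    calc Proj.awayι 𝒜 (φ j.2.1) (Graded.map_mem φ hs₀) hi ≫ (Proj.map φ hφ ≫
            (Proj.toSpecZero ℬ ≫ Spec.map (CommRingCat.ofHom (algebraMap R' (ℬ 0)))))
        = (Proj.awayι 𝒜 (φ j.2.1) (Graded.map_mem φ hs₀) hi ≫ Proj.map φ hφ) ≫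
            (Proj.toSpecZero ℬ ≫ Spec.map (CommRingCat.ofHom (algebraMap R' (ℬ 0)))) :=
          (Category.assoc _ _ _).symm
      _ = (Spec.map (CommRingCat.ofHom (HomogeneousLocalization.Away.map φ j.2.1)) ≫
            Proj.awayι ℬ j.2.1 hs₀ hi) ≫
            (Proj.toSpecZero ℬ ≫ Spec.map (CommRingCat.ofHom (algebraMap R' (ℬ 0)))) := by
          rw [Proj.awayι_comp_map φ hφ hi j.2.1 hs₀]
      _ = Spec.map (CommRingCat.ofHom (HomogeneousLocalization.Away.map φ j.2.1)) ≫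
            Spec.map (CommRingCat.ofHom (Groth.Agent.Lib.Helper6.awayStruct ℬ j.2.1)) := by
          rw [Category.assoc, F1]
      _ = Spec.map (CommRingCat.ofHom (Groth.Agent.Lib.Helper6.awayStruct 𝒜 (φ j.2.1))) ≫
            Spec.map (CommRingCat.ofHom (algebraMap R' R)) := by
          rw [← Spec.map_comp, ← Spec.map_comp, hw]
      _ = (Proj.awayι 𝒜 (φ j.2.1) (Graded.map_mem φ hs₀) hi ≫
            (Proj.toSpecZero 𝒜 ≫ Spec.map (CommRingCat.ofHom (algebraMap R (𝒜 0))))) ≫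
            Spec.map (CommRingCat.ofHom (algebraMap R' R)) := by
          rw [F2]
      _ = _ := Category.assoc _ _ _
  let 𝒰 := (Proj.affineOpenCover ℬ).openCover
  let J : 𝒰.I₀ → Σ k : PNat, ℬ k := fun i => i
  refine Groth.Agent.Lib.Helper6.isPullback_of_openCover _ _ _ _ comm 𝒰
    (fun i => Spec (.of (HomogeneousLocalization.Away 𝒜 (φ (J i).2.1))))
    (fun i => Proj.awayι 𝒜 (φ (J i).2.1) (Graded.map_mem φ (J i).2.2) (J i).1.2)
    (fun i => Spec.map (CommRingCat.ofHom (HomogeneousLocalization.Away.map φ (J i).2.1)))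
    (fun i => ?_) (fun i => ?_)
  · exact (Groth.Agent.Lib.Helper6.isPullback_awayι_map φ hφ (J i).1.2 (J i).2.1 (J i).2.2).flip
  · have hi : 0 < (((J i).1 : ℕ+) : ℕ) := (J i).1.2
    have hs₀ : ((J i).2.1 : B) ∈ ℬ (((J i).1 : ℕ+) : ℕ) := (J i).2.2
    have key := isPullback_SpecMap_of_isPushout _ _ _ _
      (Groth.Agent.Lib.Helper6.away_isPushout ℬ 𝒜 φ hφA hs₀).flip
    rw [← F1 (J i).2.1 hs₀ hi, ← F2 (φ (J i).2.1) (Graded.map_mem φ hs₀) hi] at key
    exact key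

end Groth.Agent.S3554
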