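import Groth.Statements.S3555
import Mathlib

set_option autoImplicit false
universe u
open CategoryTheory CategoryTheory.Limits AlgebraicGeometry
open EGA2

namespace Groth.Agent.S3555

/-- Let S be a graded ring whose irrelevant ideal S_+ is generated by the degree-one elements, X = Proj
S, and f homogeneous of degree d > 0. Then D_+(f) is the set of points p of X at which the global
section f/1 of O_X(d) does not vanish, i.e. at which its value generates the module of degree-d
fractions at p. -/
theorem result {R A : Type u} [CommRing R] [CommRing A] [Algebra R A] (𝒜 : ℕ → Submodule R A) [GradedAlgebra 𝒜]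
    (hgen : (HomogeneousIdeal.irrelevant 𝒜).toIdeal = Ideal.span (𝒜 1 : Set A))
    {d : ℕ} (hd : 0 < d) (f : 𝒜 d) (p : ProjectiveSpectrum 𝒜) :
    p ∈ ProjectiveSpectrum.basicOpen 𝒜 (f : A) ↔
      Submodule.span (Twist.A0 𝒜 p) {(Twist.globalOf 𝒜 f).1 ⟨p, trivial⟩} = ⊤ := by
  constructor
  · intro hfp
    have hfp' : (f : A) ∉ p.asHomogeneousIdeal.toIdeal := hfp
    rw [eq_top_iff]
    rintro ⟨q, hq⟩ -
    have key : ∀ q (hq : q ∈ Twist.twistAt 𝒜 d p), (⟨q, hq⟩ : Twist.twistAt 𝒜 d p) ∈
        Submodule.span (Twist.A0 𝒜 p) {(Twist.globalOf 𝒜 f).1 ⟨p, trivial⟩} := by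
      intro q hq
      induction hq using Submodule.span_induction with
      | mem q hq =>
        obtain ⟨i, j, a, s, hs, hij, rfl⟩ := hq
        rw [Submodule.mem_span_singleton]
        have hij' : i = j + d := by exact_mod_cast hij
        refine ⟨HomogeneousLocalization.mk ⟨i, a,
          ⟨s.1 * f.1, hij'.symm ▸ SetLike.mul_mem_graded s.2 f.2⟩,
          fun h => (p.isPrime.mem_or_mem h).elim hs hfp'⟩, ?_⟩
        apply Subtype.ext
        rw [Twist.coe_smul_val, HomogeneousLocalization.val_mk]
        change Localization.mk a.1 ⟨s.1 * f.1, _⟩ * Localization.mk f.1 ⟨1, _⟩ =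
          Localization.mk a.1 ⟨s.1, hs⟩
        rw [Localization.mk_mul, Localization.mk_eq_mk_iff, Localization.r_iff_exists]
        refine ⟨1, ?_⟩
        simp only [OneMemClass.coe_one, one_mul, Submonoid.coe_mul, mul_one]
        ring
      | zero => exact zero_mem _
      | add x y hx hy ihx ihy => exact add_mem ihx ihy
      | smul c x hx ih => exact Submodule.smul_mem _ c ih
    exact key q hq
  · intro htop
    rw [ProjectiveSpectrum.mem_basicOpen]
    intro hfp
    have hnot := p.not_irrelevant_le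
    have hex : ∃ t ∈ 𝒜 1, t ∉ p.asHomogeneousIdeal := by
      by_contra hcon
      push Not at hcon
      apply hnot
      intro x hx
      have hx' : x ∈ (HomogeneousIdeal.irrelevant 𝒜).toIdeal := hx
      rw [hgen] at hx'
      exact (Ideal.span_le.2 (fun t ht => hcon t ht)) hx'
    obtain ⟨t, ht, htp⟩ := hex
    have htd : t ^ d ∈ 𝒜 d := by simpa using SetLike.pow_mem_graded d ht
    have h1 : (1 : A) ∈ p.asHomogeneousIdeal.toIdeal.primeCompl :=
      fun h => p.isPrime.ne_top ((Ideal.eq_top_iff_one _).mpr h)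
    let τ : Twist.twistAt 𝒜 d p := ⟨Localization.mk (t ^ d) ⟨1, h1⟩,
      Submodule.subset_span ⟨d, 0, ⟨t ^ d, htd⟩, ⟨1, SetLike.GradedOne.one_mem⟩, h1,
        by simp, rfl⟩⟩
    have hτ : τ ∈ Submodule.span (Twist.A0 𝒜 p) {(Twist.globalOf 𝒜 f).1 ⟨p, trivial⟩} := by
      rw [htop]; trivial
    obtain ⟨c, hc⟩ := Submodule.mem_span_singleton.1 hτ
    have hc' := congrArg Subtype.val hc
    rw [Twist.coe_smul_val] at hc'
    obtain ⟨⟨a, s⟩, hcs⟩ :=
      IsLocalization.mk'_surjective p.asHomogeneousIdeal.toIdeal.primeCompl c.val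
    change c.val * Localization.mk f.1 ⟨1, h1⟩ = Localization.mk (t ^ d) ⟨1, h1⟩ at hc'
    rw [← hcs, ← Localization.mk_eq_mk', Localization.mk_mul, Localization.mk_eq_mk_iff,
      Localization.r_iff_exists] at hc'
    obtain ⟨u, hu⟩ := hc'
    have hmem : (u : A) * ((s : A) * t ^ d) ∈ p.asHomogeneousIdeal.toIdeal := by
      have hE : (u : A) * ((s : A) * t ^ d) = u * (a * f) := by
        simpa using hu.symm
      rw [hE]
      exact Ideal.mul_mem_left _ _ (Ideal.mul_mem_left _ _ hfp)
    rcases p.isPrime.mem_or_mem hmem with h | h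
    · exact u.2 h
    · rcases p.isPrime.mem_or_mem h with h | h
      · exact s.2 h
      · exact htp (p.isPrime.mem_of_pow_mem _ h)

end Groth.Agent.S3555
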