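import Groth.Statements.S3559
import Groth.Agent.Lib.Helper6.ProjBasic

set_option autoImplicit false
universe u
open CategoryTheory CategoryTheory.Limits AlgebraicGeometry
open EGA2

namespace Groth.Agent.S3559

/-- Let S be a graded ring and (f_i) a family of homogeneous elements of positive degree. The opens
D_+(f_i) cover Proj S if and only if every element of S_+ has a power in the ideal generated by the
f_i. -/
theorem result {R A : Type u} [CommRing R] [CommRing A] [Algebra R A] (𝒜 : ℕ → Submodule R A) [GradedAlgebra 𝒜]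
    {ι : Type u} (f : ι → A) (hf : ∀ i, ∃ d : ℕ, 0 < d ∧ f i ∈ 𝒜 d) :
    (⨆ i, Proj.basicOpen 𝒜 (f i)) = ⊤ ↔
      (HomogeneousIdeal.irrelevant 𝒜).toIdeal ≤ (Ideal.span (Set.range f)).radical := by
  constructor
  · intro hcov
    rw [Ideal.radical_eq_sInf]
    refine le_sInf fun p hp => ?_
    obtain ⟨hle, hprime⟩ := hp
    haveI := hprime
    by_contra hnot
    let x : Proj 𝒜 := Groth.Agent.Lib.Helper6.projPointOfPrime 𝒜 p hnot
    have hx : x ∈ (⨆ i, Proj.basicOpen 𝒜 (f i)) := by rw [hcov]; trivial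
    obtain ⟨i, hi⟩ := TopologicalSpace.Opens.mem_iSup.1 hx
    obtain ⟨d, -, hd⟩ := hf i
    exact hi (Groth.Agent.Lib.Helper6.mem_projPointOfPrime_of_homogeneous 𝒜 p hnot ⟨d, hd⟩
      (hle (Ideal.subset_span ⟨i, rfl⟩)))
  · intro hle
    refine top_le_iff.mp fun x _ => TopologicalSpace.Opens.mem_iSup.mpr ?_
    by_contra! H
    simp only [Proj.mem_basicOpen, not_not] at H
    refine x.not_irrelevant_le fun a ha => ?_
    have h1 : Ideal.span (Set.range f) ≤ x.asHomogeneousIdeal.toIdeal := by
      rw [Ideal.span_le, Set.range_subset_iff]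
      exact H
    exact (Ideal.IsPrime.radical_le_iff x.isPrime).2 h1 (hle ha)

end Groth.Agent.S3559
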