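import Groth.Statements.S3560
import Groth.Agent.Lib.Helper6.ProjDegree

set_option autoImplicit false
universe u
open CategoryTheory CategoryTheory.Limits AlgebraicGeometry
open EGA2

namespace Groth.Agent.S3560

/-- Let S be a graded ring whose irrelevant ideal S_+ is finitely generated. Then Proj S is empty if and
only if there is n such that S_k = 0 for all k ≥ n. -/
theorem result {R A : Type u} [CommRing R] [CommRing A] [Algebra R A] (𝒜 : ℕ → Submodule R A) [GradedAlgebra 𝒜]
    (hfg : (HomogeneousIdeal.irrelevant 𝒜).toIdeal.FG) :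
    IsEmpty (Proj 𝒜) ↔ ∃ n : ℕ, ∀ k : ℕ, n ≤ k → 𝒜 k = ⊥ := by
  have h := Groth.Agent.Lib.Helper6.isEmpty_projectiveSpectrum_iff_le_nilradical 𝒜
  change IsEmpty (ProjectiveSpectrum 𝒜) ↔ _
  rw [h]
  constructor
  · intro hnil
    obtain ⟨n, hn⟩ :=
      Groth.Agent.Lib.Helper6.exists_forall_eq_zero_of_fg_of_le_nilradical 𝒜 hfg hnil
    exact ⟨n, fun k hk => (Submodule.eq_bot_iff _).2 (hn k hk)⟩
  · rintro ⟨n, hn⟩
    exact Groth.Agent.Lib.Helper6.irrelevant_le_nilradical_of_forall_eq_zero 𝒜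
      (n := n) fun k hk x hx => (Submodule.eq_bot_iff _).1 (hn k hk) x hx

end Groth.Agent.S3560
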