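import Groth.Statements.S3562
import Groth.Agent.Lib.Helper6.GrTildeBasic
import Groth.Agent.Lib.Helper6.ProjDegree
import Groth.Agent.S3548
import Groth.Agent.S3549

set_option autoImplicit false
universe u
open CategoryTheory CategoryTheory.Limits AlgebraicGeometry
open EGA2

namespace Groth.Agent.S3562

/-- Let S be a graded ring whose irrelevant ideal S_+ is finitely generated and generated by the
degree-one elements, and M a graded S-module satisfying (TF) (some tail of M generates a finitely
generated submodule). Then M~ = 0 on Proj S if and only if M satisfies (TN): M_k = 0 for all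
sufficiently large k. (The published statement assumes only that S_+ is finitely generated; the
statement then fails when S_+ has no system of degree-one generators, e.g. S = k[t] with t of degree
2 and M = S shifted into odd degrees, whose M~ vanishes although no M_k does. Stated here with S_+
generated by degree-one elements, where the published proof applies.) -/
theorem result {R A : Type u} [CommRing R] [CommRing A] [Algebra R A] (𝒜 : ℕ → Submodule R A) [GradedAlgebra 𝒜]
    (hfg : (HomogeneousIdeal.irrelevant 𝒜).toIdeal.FG)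
    (hgen : (HomogeneousIdeal.irrelevant 𝒜).toIdeal = Ideal.span (𝒜 1 : Set A))
    {M : Type u} [AddCommGroup M] [Module R M] [Module A M] [IsScalarTower R A M] (ℳ : ℕ → Submodule R M) [DirectSum.Decomposition ℳ] [SetLike.GradedSMul 𝒜 ℳ]
    (hTF : ∃ n : ℕ, (Submodule.span A (⋃ k ∈ Set.Ici n, (ℳ k : Set M))).FG) :
    IsZero (GrTilde.tilde 𝒜 ℳ 0) ↔ ∃ n : ℕ, ∀ k : ℕ, n ≤ k → ℳ k = ⊥ := by
  classical
  constructor
  · intro hzero
    have hkill : ∀ (z : M) (d : ℕ) (f : A), 0 < d → f ∈ 𝒜 d → ∃ k : ℕ, f ^ k • z = 0 :=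
      fun z d f hd hf => Groth.Agent.S3549.result 𝒜 hgen ℳ hzero z d f hd hf
    obtain ⟨n₀, hTF'⟩ := hTF
    obtain ⟨T, hTsub, hTspan⟩ := (Submodule.fg_span_iff_fg_span_finset_subset _).1 hTF'
    have hdeg : ∀ t ∈ T, ∃ k, n₀ ≤ k ∧ t ∈ ℳ k := by
      intro t ht
      have := hTsub ht
      simp only [Set.mem_iUnion, Set.mem_Ici] at this
      obtain ⟨k, hk, htk⟩ := this
      exact ⟨k, hk, htk⟩
    choose! deg hdeg1 hdeg2 using hdeg
    have hann : ∀ t ∈ T, ∃ N, ∀ a ∈ (HomogeneousIdeal.irrelevant 𝒜).toIdeal ^ N, a • t = 0 := by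
      intro t ht
      let I : Ideal A := LinearMap.ker (LinearMap.toSpanSingleton A M t)
      have hI : ∀ a : A, a ∈ I ↔ a • t = 0 := fun a => by
        simp [I, LinearMap.mem_ker, LinearMap.toSpanSingleton_apply]
      have hle : (HomogeneousIdeal.irrelevant 𝒜).toIdeal ≤ I.radical := by
        rw [HomogeneousIdeal.toIdeal_irrelevant_le]
        intro i hi f hf
        obtain ⟨k, hk⟩ := hkill t i f hi hf
        exact ⟨k, (hI _).2 hk⟩
      obtain ⟨N, hN⟩ := Ideal.exists_pow_le_of_le_radical_of_fg hle hfg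
      exact ⟨N, fun a ha => (hI a).1 (hN ha)⟩
    choose! Nt hNt using hann
    have hD1 : (HomogeneousIdeal.irrelevant 𝒜).toIdeal ≤
        Ideal.span (⋃ i ∈ Set.Ioc 0 1, (𝒜 i : Set A)) := by
      rw [hgen]
      apply Ideal.span_mono
      intro a ha
      simp only [Set.mem_iUnion, Set.mem_Ioc]
      exact ⟨1, ⟨Nat.one_pos, le_rfl⟩, ha⟩
    refine ⟨max n₀ (T.sup deg + T.sup Nt + 1), fun k hk => ?_⟩
    rw [Submodule.eq_bot_iff]
    intro z hz
    have hzM' : z ∈ Submodule.span A (T : Set M) := by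
      rw [← hTspan]
      exact Submodule.subset_span (Set.mem_iUnion₂.2 ⟨k, (le_max_left _ _).trans hk, hz⟩)
    obtain ⟨c, -, hc⟩ := Submodule.mem_span_finset.1 hzM'
    have hproj : ∀ (s : Finset M) (g : M → M),
        ((DirectSum.decompose ℳ (∑ t ∈ s, g t) k : ℳ k) : M) =
          ∑ t ∈ s, ((DirectSum.decompose ℳ (g t) k : ℳ k) : M) := by
      intro s g
      induction s using Finset.induction_on with
      | empty => simp
      | insert a s ha ih =>
        rw [Finset.sum_insert ha, Finset.sum_insert ha, DirectSum.decompose_add,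
          DirectSum.add_apply, Submodule.coe_add, ih]
    have hcast : ∀ (x : M) (k' : ℕ), k' = k →
        ((DirectSum.decompose ℳ x k' : ℳ k') : M) = ((DirectSum.decompose ℳ x k : ℳ k) : M) := by
      rintro x _ rfl; rfl
    rw [← DirectSum.decompose_of_mem_same ℳ hz, ← hc, hproj]
    refine Finset.sum_eq_zero fun t ht => ?_
    have h1 : deg t ≤ T.sup deg := Finset.le_sup ht
    have h2 : Nt t ≤ T.sup Nt := Finset.le_sup ht
    have h3 : T.sup deg + T.sup Nt + 1 ≤ k := (le_max_right _ _).trans hk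
    rw [← hcast (c t • t) (k - deg t + deg t) (by omega),
      Groth.Agent.Lib.Helper6.coe_decompose_smul_of_mem 𝒜 ℳ (hdeg2 t ht) (c t) (k - deg t)]
    apply hNt t ht
    have h4 := Groth.Agent.Lib.Helper6.mem_irrelevant_pow_of_lt 𝒜 hD1 (T.sup Nt) (k - deg t)
      (by omega) (SetLike.coe_mem (DirectSum.decompose 𝒜 (c t) (k - deg t)))
    exact Ideal.pow_le_pow_right (by omega) h4
  · rintro ⟨N, hN⟩
    apply Groth.Agent.S3548.result 𝒜 ℳ
    intro z d f hd hf
    refine ⟨N, ?_⟩
    rw [← DirectSum.sum_support_decompose ℳ z, Finset.smul_sum]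
    refine Finset.sum_eq_zero fun i _ => ?_
    have hm : (DirectSum.decompose ℳ z i : M) ∈ ℳ i := SetLike.coe_mem _
    have hfN : f ^ N ∈ 𝒜 (N • d) := SetLike.pow_mem_graded N hf
    have h1 : f ^ N • (DirectSum.decompose ℳ z i : M) ∈ ℳ (N • d + i) :=
      SetLike.GradedSMul.smul_mem hfN hm
    have h2 : ℳ (N • d + i) = ⊥ := hN _ (by
      rw [smul_eq_mul]
      exact Nat.le_add_right_of_le (Nat.le_mul_of_pos_right N hd))
    rw [h2] at h1
    exact (Submodule.mem_bot _).1 h1

end Groth.Agent.S3562
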