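import Groth.Statements.S3565
import Groth.Agent.Lib.Helper3.RelNorm
import Groth.Agent.S2355

set_option autoImplicit false
universe u
open CategoryTheory CategoryTheory.Limits AlgebraicGeometry
open EGA2

namespace Groth.Agent.S3565

open Groth.Agent.Lib.Helper3 in

/-- Let f : X → Y be a quasi-compact morphism, g : X' → X a finite surjective morphism such that the
direct image of the structure sheaf of X' is a finite locally free O_X-module, and L an invertible
O_X-module. Then L is ample relative to f if and only if its inverse image on X' is ample relative
to f ∘ g. -/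
theorem result {X X' Y : Scheme.{u}} (f : X ⟶ Y) [QuasiCompact f]
    (g : X' ⟶ X) [IsFinite g] [Surjective g]
    (hfree : FlatMod.IsFinLocFree ((Coh.push g).obj (Coh.structureModule X')))
    (L : X.Modules) (hL : PicF.IsInvertible L) :
    RelAmple.IsRelAmple f L ↔ RelAmple.IsRelAmple (g ≫ f) ((Scheme.Modules.pullback g).obj L) := by
  constructor
  · intro h
    apply Groth.Agent.S2355.result f g _ L h
    refine ⟨inferInstance, fun V hV => ?_⟩
    haveI : IsAffine ((g ⁻¹ᵁ V : X'.Opens) : Scheme.{u}) := hV.preimage g
    infer_instance
  · intro h
    exact RelNorm.isRelAmple_of_isRelAmple_pullback f g hfree hL h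

end Groth.Agent.S3565
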