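import Groth.Statements.S3566
import Groth.Agent.Lib.Helper3.InvAmple

set_option autoImplicit false
universe u
open CategoryTheory CategoryTheory.Limits AlgebraicGeometry
open EGA2

namespace Groth.Agent.S3566

open Groth.Agent.Lib.Helper3 Groth.Agent.Lib.Helper3.InvGen Groth.Agent.Lib.Helper3.InvTensor Groth.Agent.Lib.Helper3.InvTwist Groth.Agent.Lib.Helper3.InvAmple Groth.Agent.Lib.Helper3.QCSec in

/-- Let X be a quasi-compact separated scheme (the published statement also allows a prescheme with
Noetherian underlying space) and L an invertible O_X-module. Then L is ample, i.e. the affine ones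
among the opens X_s (s a global section of a positive tensor power of L, X_s the locus where s
generates) cover X, if and only if all the opens X_s form a base of the topology of X. -/
theorem result (X : Scheme.{u}) [CompactSpace X] [X.IsSeparated]
    (L : X.Modules) (hL : PicF.IsInvertible L) :
    CohB1.IsAmple L ↔
      TopologicalSpace.IsTopologicalBasis
        {U : Set X | ∃ (n : ℕ) (s : Coh.structureModule X ⟶ CohB1.tensorPow L (n + 1)),
          U = (CohB1.genLocus (CohB1.tensorPow L (n + 1)) s : Set X)} := by
  constructor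
  · intro hA
    apply TopologicalSpace.isTopologicalBasis_of_isOpen_of_nhds
    · rintro _ ⟨n, s, rfl⟩
      exact (CohB1.genLocus _ s).2
    · intro x u hxu hu
      obtain ⟨W, ⟨n, s, rfl⟩, hxW, hWu, -⟩ := exists_secLocus_nbhd hA x ⟨u, hu⟩ hxu
      exact ⟨_, ⟨n, s, rfl⟩, hxW, hWu⟩
  · intro hB
    refine ⟨hL, inferInstance, fun x => ?_⟩
    obtain ⟨U, e, hU, hxU, hg⟩ := exists_affine_isGen hL x
    obtain ⟨_, ⟨n, s, rfl⟩, hxs, hsU⟩ := hB.exists_subset_of_mem_open hxU U.2
    refine ⟨n, s, hxs, ?_⟩
    have := isAffineOpen_genLocus_inf_of_isGen s hU (isGen_lpow hg (n + 1))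
    have hle : CohB1.genLocus (CohB1.tensorPow L (n + 1)) s ≤ U := hsU
    rwa [inf_eq_left.mpr hle] at this

end Groth.Agent.S3566
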