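import Groth.Statements.S3568
import Groth.Agent.Lib.Helper11.NormalBir
import Groth.Agent.Lib.Helper11.AWNScheme

set_option autoImplicit false
universe u
open CategoryTheory CategoryTheory.Limits AlgebraicGeometry
open EGA2

namespace Groth.Agent.S3568

/-- Let U be an integral scheme, V a normal integral scheme (all local rings integrally closed domains)
and h : U → V a morphism which is universally closed, radicial (universally injective) and
birational (it sends the generic point of U to that of V and induces an isomorphism of the residue
fields there). Then h is an isomorphism. (The source assumes only V normal; integrality of V, needed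
here to speak of its generic point, follows from the other hypotheses.) -/
theorem result {U V : Scheme.{u}} [AlgebraicGeometry.IsIntegral U] [AlgebraicGeometry.IsIntegral V]
    (hN : Pi1.IsNormalScheme V) (h : U ⟶ V) [UniversallyClosed h]
    [UniversallyInjective h] (hgen : h.base (genericPoint U) = genericPoint V)
    (hbir : Function.Bijective (h.residueFieldMap (genericPoint U)).hom) :
    IsIso h := by

  have hsurj : Surjective h := ⟨by
    have hcl : IsClosed (Set.range h.base) := h.isClosedMap.isClosed_range
    have hsub : closure {genericPoint V} ⊆ Set.range h.base :=
      hcl.closure_subset_iff.mpr (by rw [Set.singleton_subset_iff]; exact ⟨genericPoint U, hgen⟩)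
    intro v
    apply hsub
    rw [(genericPoint_spec V).def]; trivial⟩
  have hUH : FlatMor.IsUnivHomeo h :=
    (Groth.Agent.Lib.Helper11.UHRing.isUnivHomeo_iff h).mpr ⟨inferInstance, inferInstance, hsurj⟩
  haveI : IsAffineHom h := Groth.Agent.Lib.Helper11.AWNScheme.isAffineHom_of_isUnivHomeo h hUH
  haveI : IsIntegralHom h :=
    IsIntegralHom.iff_universallyClosed_and_isAffineHom.mpr ⟨inferInstance, inferInstance⟩
  have hsm : Function.Surjective (h.stalkMap (genericPoint U)).hom := by
    intro z
    obtain ⟨w', hw'⟩ := hbir.2 ((U.residue (genericPoint U)).hom z)
    obtain ⟨w, rfl⟩ := V.residue_surjective (h.base (genericPoint U)) w'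
    refine ⟨w, ?_⟩
    have hinj : Function.Injective (U.residue (genericPoint U)).hom := by
      letI : Field (U.presheaf.stalk (genericPoint U)) := inferInstanceAs (Field U.functionField)
      exact RingHom.injective _
    apply hinj
    have e1 := congr($(Scheme.residue_residueFieldMap h (genericPoint U)) w)
    exact e1.symm.trans hw'
  exact Groth.Agent.Lib.Helper11.NormalBir.isIso_of_integral_birational hN h hgen hsm

end Groth.Agent.S3568
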