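import Groth.Statements.S3570
import Groth.Agent.Lib.Helper6.AffAlgBasic

set_option autoImplicit false
universe u
open CategoryTheory CategoryTheory.Limits AlgebraicGeometry
open EGA2

namespace Groth.Agent.S3570

/-- Let f : X → S and g : Y → S be affine morphisms and h : Y → X an S-morphism. Then h is an
isomorphism if and only if A(h) : f_*O_X → g_*O_Y is an isomorphism (of presheaves of rings on S). -/
theorem result {X Y S : Scheme.{u}} (f : X ⟶ S) [IsAffineHom f] (g : Y ⟶ S)
    [IsAffineHom g] (h : Y ⟶ X) (w : h ≫ f = g) :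
    IsIso h ↔ IsIso (AffAlg.algHom f g h w) := by
  constructor
  · intro hiso
    have : ∀ U : (TopologicalSpace.Opens S)ᵒᵖ, IsIso ((AffAlg.algHom f g h w).app U) := by
      intro U
      obtain ⟨e, he⟩ := Groth.Agent.Lib.Helper6.algHom_app_eq f g h w U.unop
      change IsIso ((AffAlg.algHom f g h w).app (Opposite.op U.unop))
      rw [he]
      infer_instance
    exact NatIso.isIso_of_isIso_app _
  · intro hiso
    have happ : ∀ U : S.Opens, IsIso (h.app (f ⁻¹ᵁ U)) := by
      intro U
      obtain ⟨e, he⟩ := Groth.Agent.Lib.Helper6.algHom_app_eq f g h w U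
      have h1 : h.app (f ⁻¹ᵁ U) = (AffAlg.algHom f g h w).app (Opposite.op U) ≫ e.inv := by
        rw [he, Category.assoc, Iso.hom_inv_id, Category.comp_id]
      rw [h1]
      infer_instance
    have hcov := Groth.Agent.Lib.Helper6.iSup_preimage_affineOpens_eq_top f
    change (MorphismProperty.isomorphisms Scheme) h
    rw [HasAffineProperty.iff_of_iSup_eq_top (P := MorphismProperty.isomorphisms Scheme)
      (fun U : S.affineOpens =>
        ⟨f ⁻¹ᵁ U.1, (show IsAffineOpen U.1 from U.2).preimage f⟩) hcov]
    intro U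
    refine ⟨?_, ?_⟩
    · have h1 : IsAffineOpen (g ⁻¹ᵁ U.1) := (show IsAffineOpen U.1 from U.2).preimage g
      subst w
      exact h1
    · rw [morphismRestrict_appTop]
      have h2 := Groth.Agent.Lib.Helper6.app_isIso_congr h
        (Scheme.Opens.ι_image_top (f ⁻¹ᵁ U.1)).symm (happ U.1)
      exact @IsIso.comp_isIso _ _ _ _ _ _ _ h2
        (Groth.Agent.Lib.Helper6.isIso_presheaf_map_eqToHom _)

end Groth.Agent.S3570
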