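import Groth.Statements.S3576
import Mathlib
import Groth.Agent.Lib.Helper6.ConeRetraction
import Groth.Agent.Lib.Helper6.AwayDeg1
import Groth.Agent.Lib.Helper6.FibreChart

set_option autoImplicit false
universe u
open CategoryTheory CategoryTheory.Limits AlgebraicGeometry
open EGA2

namespace Groth.Agent.S3576

/-- Over an affine base Spec R: let S be a graded R-algebra whose irrelevant ideal is generated by its
degree-one elements, E the pointed affine cone of S and π : E → X = Proj S the canonical retraction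
(the morphism restricting on each chart D(f), f homogeneous of positive degree, to Spec S_f → Spec
S_(f) → Proj S). Then π is of finite type, and for every point x of X the fibre of π at x is
isomorphic over the residue field κ(x) to Spec κ(x)[T, T⁻¹]. -/
theorem result {R A : Type u} [CommRing R] [CommRing A] [Algebra R A] (𝒜 : ℕ → Submodule R A) [GradedAlgebra 𝒜]
    (hgen : (HomogeneousIdeal.irrelevant 𝒜).toIdeal = Ideal.span (𝒜 1 : Set A))
    (π : (Cone.pointed 𝒜 : Scheme.{u}) ⟶ Proj 𝒜)
    (hπ : ∀ (d : ℕ) (f : A) (hd : 0 < d) (hf : f ∈ 𝒜 d),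
        Cone.chart hf hd ≫ π =
          Spec.map (CommRingCat.ofHom (algebraMap (HomogeneousLocalization.Away 𝒜 f) (Localization.Away f))) ≫
            Proj.awayι 𝒜 f hf hd)
    (x : Proj 𝒜) :
    LocallyOfFiniteType π ∧ QuasiCompact π ∧
      ∃ e : pullback π ((Proj 𝒜).fromSpecResidueField x) ≅
          Spec (CommRingCat.of (LaurentPolynomial ((Proj 𝒜).residueField x))),
        e.hom ≫ Spec.map (CommRingCat.ofHom (algebraMap ((Proj 𝒜).residueField x)
          (LaurentPolynomial ((Proj 𝒜).residueField x)))) = pullback.snd π ((Proj 𝒜).fromSpecResidueField x) := by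
  classical
  have hcover : ∀ y : Proj 𝒜, ∃ f : A, ∃ _ : f ∈ 𝒜 1, y ∈ Proj.basicOpen 𝒜 f := by
    intro y
    by_contra hcon
    push_neg at hcon
    apply y.not_irrelevant_le
    intro a ha
    have ha' : a ∈ (HomogeneousIdeal.irrelevant 𝒜).toIdeal := ha
    rw [hgen] at ha'
    refine Ideal.span_le.2 (fun f hf => ?_) ha'
    by_contra h
    exact hcon f hf h
  have hchart : ∀ (f : A) (hf : f ∈ 𝒜 1),
      IsPullback (Cone.chart hf one_pos)
        (Spec.map (CommRingCat.ofHom
          (algebraMap (HomogeneousLocalization.Away 𝒜 f) (Localization.Away f))))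
        π (Proj.awayι 𝒜 f hf one_pos) := by
    intro f hf
    refine (IsOpenImmersion.isPullback _ _ _ _ (hπ 1 f one_pos hf) ?_).flip
    rw [Proj.opensRange_awayι, Groth.Agent.Lib.Helper6.cone_preimage_basicOpen π hπ hf,
      Groth.Agent.Lib.Helper6.cone_chart_opensRange hf one_pos]
  refine ⟨?_, ?_, ?_⟩
  · refine Groth.Agent.Lib.Helper6.FibreChart.of_forall_exists_isPullback @LocallyOfFiniteType π
      fun y => ?_
    obtain ⟨f, hf, hy⟩ := hcover y
    obtain ⟨α, hα⟩ := Groth.Agent.Lib.Helper6.AwayDeg1.exists_laurent_equiv 𝒜 hf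
    refine ⟨_, _, Proj.awayι 𝒜 f hf one_pos, inferInstance, Cone.chart hf one_pos, _, ?_,
      hchart f hf, ?_⟩
    · rw [Proj.opensRange_awayι]
      exact hy
    · rw [HasRingHomProperty.Spec_iff (P := @LocallyOfFiniteType)]
      exact Groth.Agent.Lib.Helper6.FibreChart.finiteType_of_addMonoidAlgebra _ ℤ α hα
  · have := Groth.Agent.Lib.Helper6.cone_isAffineHom π hπ
    infer_instance
  · obtain ⟨f, hf, hx⟩ := hcover x
    obtain ⟨α, hα⟩ := Groth.Agent.Lib.Helper6.AwayDeg1.exists_laurent_equiv 𝒜 hf
    exact Groth.Agent.Lib.Helper6.FibreChart.exists_fibre_iso π x _ (Proj.awayι 𝒜 f hf one_pos)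
      (Cone.chart hf one_pos) (hchart f hf) (by rw [Proj.opensRange_awayι]; exact hx) ℤ α hα

end Groth.Agent.S3576
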