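import Groth.Statements.S3578
import Groth.Agent.Lib.Helper6.ProjMap

set_option autoImplicit false
universe u
open EGA2

namespace Groth.Agent.S3578

/-- Via the correspondence between closed subsets of Proj S and radical graded ideals of S_+: let S be a
graded ring and Z a closed subset of Proj S, with J = S_+ ∩ (vanishing ideal of Z). Then Z is
irreducible if and only if J is a prime ideal of the ring-without-unit S_+: J ≠ S_+ and a product of
two elements of S_+ lies in J only if one factor does. -/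
theorem result {R A : Type u} [CommRing R] [CommRing A] [Algebra R A] (𝒜 : ℕ → Submodule R A) [GradedAlgebra 𝒜]
    (Z : Set (ProjectiveSpectrum 𝒜)) (hZ : IsClosed Z) :
    IsIrreducible Z ↔
      (¬ (HomogeneousIdeal.irrelevant 𝒜).toIdeal ≤ (ProjectiveSpectrum.vanishingIdeal Z).toIdeal ∧
        ∀ f ∈ (HomogeneousIdeal.irrelevant 𝒜).toIdeal, ∀ g ∈ (HomogeneousIdeal.irrelevant 𝒜).toIdeal,
          f * g ∈ (ProjectiveSpectrum.vanishingIdeal Z).toIdeal →
            f ∈ (ProjectiveSpectrum.vanishingIdeal Z).toIdeal ∨ g ∈ (ProjectiveSpectrum.vanishingIdeal Z).toIdeal) := by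
  have hmem : ∀ a : A, a ∈ (ProjectiveSpectrum.vanishingIdeal Z).toIdeal ↔
      ∀ x ∈ Z, a ∈ x.asHomogeneousIdeal :=
    fun a => ProjectiveSpectrum.mem_vanishingIdeal Z a
  constructor
  · rintro ⟨⟨x, hxZ⟩, hpre⟩
    refine ⟨fun hle => x.not_irrelevant_le fun a ha => (hmem a).1 (hle ha) x hxZ, ?_⟩
    intro f _ g _ hfg
    rw [isPreirreducible_iff_isClosed_union_isClosed] at hpre
    have hsub : Z ⊆ ProjectiveSpectrum.zeroLocus 𝒜 {f} ∪ ProjectiveSpectrum.zeroLocus 𝒜 {g} := by
      intro y hy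
      have := (hmem _).1 hfg y hy
      rcases y.isPrime.mem_or_mem this with h | h
      · left; simpa [ProjectiveSpectrum.mem_zeroLocus] using h
      · right; simpa [ProjectiveSpectrum.mem_zeroLocus] using h
    rcases hpre _ _ (ProjectiveSpectrum.isClosed_zeroLocus 𝒜 _)
      (ProjectiveSpectrum.isClosed_zeroLocus 𝒜 _) hsub with h | h
    · left
      exact (hmem f).2 fun y hy => by simpa [ProjectiveSpectrum.mem_zeroLocus] using h hy
    · right
      exact (hmem g).2 fun y hy => by simpa [ProjectiveSpectrum.mem_zeroLocus] using h hy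
  · rintro ⟨hne, hprime⟩
    constructor
    · by_contra hemp
      rw [Set.not_nonempty_iff_eq_empty] at hemp
      apply hne
      intro a _
      exact (hmem a).2 fun x hx => by rw [hemp] at hx; exact hx.elim
    · rw [isPreirreducible_iff_isClosed_union_isClosed]
      intro Z₁ Z₂ hZ₁ hZ₂ hsub
      by_contra hcon
      push Not at hcon
      obtain ⟨h1, h2⟩ := hcon
      have key : ∀ Z' : Set (ProjectiveSpectrum 𝒜), IsClosed Z' → ¬ Z ⊆ Z' →
          ∃ a ∈ (HomogeneousIdeal.irrelevant 𝒜).toIdeal,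
            (∀ y ∈ Z', a ∈ y.asHomogeneousIdeal) ∧
              a ∉ (ProjectiveSpectrum.vanishingIdeal Z).toIdeal := by
        intro Z' hZ' hnot
        obtain ⟨x, hxZ, hxZ'⟩ := Set.not_subset.1 hnot
        rw [← hZ'.closure_eq, ← ProjectiveSpectrum.zeroLocus_vanishingIdeal_eq_closure,
          ProjectiveSpectrum.mem_zeroLocus, Set.not_subset] at hxZ'
        obtain ⟨a, haZ', hax⟩ := hxZ'
        obtain ⟨i, hi, s, hs, hxs⟩ :=
          Groth.Agent.Lib.Helper6.exists_homogeneous_mem_basicOpen 𝒜 (x : AlgebraicGeometry.Proj 𝒜)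
        refine ⟨a * s,
          Ideal.mul_mem_left _ _ (HomogeneousIdeal.mem_irrelevant_of_mem 𝒜 hi hs),
          fun y hy => Ideal.mul_mem_right _ _
            ((ProjectiveSpectrum.mem_vanishingIdeal Z' a).1 haZ' y hy), fun hmemJ => ?_⟩
        have := (hmem _).1 hmemJ x hxZ
        exact (x.isPrime.mem_or_mem this).elim hax hxs
      obtain ⟨a₁, ha₁, ha₁Z, ha₁J⟩ := key Z₁ hZ₁ h1
      obtain ⟨a₂, ha₂, ha₂Z, ha₂J⟩ := key Z₂ hZ₂ h2
      have hprod : a₁ * a₂ ∈ (ProjectiveSpectrum.vanishingIdeal Z).toIdeal :=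
        (hmem _).2 fun y hy => by
          rcases hsub hy with h | h
          · exact Ideal.mul_mem_right _ _ (ha₁Z y h)
          · exact Ideal.mul_mem_left _ _ (ha₂Z y h)
      exact (hprime a₁ ha₁ a₂ ha₂ hprod).elim ha₁J ha₂J

end Groth.Agent.S3578
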