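import Groth.Statements.S3579
import Groth.Agent.Lib.Helper3.TwistMul
import Groth.Agent.Lib.Helper3.TwistProj
import Groth.Agent.Lib.Helper3.GlobGen
import Groth.Agent.Lib.Helper3.FreeSec
import Groth.Agent.Lib.Helper3.InvCoh
import Groth.Agent.Lib.Helper3.FreeBasis
import Groth.Agent.S3584
import Groth.Agent.S4402

set_option autoImplicit false
universe u
open CategoryTheory CategoryTheory.Limits AlgebraicGeometry
open EGA2

namespace Groth.Agent.S3579

open Groth.Agent.Lib.Helper3 Groth.Agent.Lib.Helper3.InvGen Groth.Agent.Lib.Helper3.QCSec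
  Groth.Agent.Lib.Helper3.FreeBasis in
/-- sections which locally span define an epimorphism from a free module -/
theorem epi_desc3579 {X : Scheme.{u}} (G : X.Modules) {k : ℕ} (τ : Fin k → Γ(G, ⊤))
    (h : ∀ (W : X.Opens) (g : Γ(G, W)) (x : X), x ∈ W → ∃ (W' : X.Opens) (hW' : W' ≤ W),
      x ∈ W' ∧ ∃ c : Fin k → Γ(X, W'),
        ∑ i, c i • res G (le_top : W' ≤ ⊤) (τ i) = res G hW' g) :
    Epi (Sigma.desc (fun i => InvAmple.globalHom G (τ i)) : FlatMod.freeMod X k ⟶ G) := by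
  set p : FlatMod.freeMod X k ⟶ G := Sigma.desc (fun i => InvAmple.globalHom G (τ i)) with hp
  have hpi : ∀ i, inj X k i ≫ p = InvAmple.globalHom G (τ i) := fun i => by
    unfold inj
    rw [hp]
    exact Sigma.ι_desc _ _
  apply QCExact.epi_of_locally_surjective
  intro W g x hxW
  obtain ⟨W', hW', hxW', c, hc⟩ := h W g x hxW
  refine ⟨W', hW', hxW', ∑ i, c i • bsec k i W', ?_⟩
  have h1 : ∀ i, p.app W' (bsec k i W') = res G (le_top : W' ≤ ⊤) (τ i) := fun i => by
    unfold bsec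
    rw [← sec_comp, hpi, InvAmple.sec_globalHom]
  rw [map_sum, ← hc]
  apply Finset.sum_congr rfl
  intro i _
  rw [Scheme.Modules.Hom.app_smul, h1]

open TopologicalSpace Opposite Scheme.Modules
  Groth.Agent.Lib.Helper3 Groth.Agent.Lib.Helper3.QCSec Groth.Agent.Lib.Helper3.InvGen
  Groth.Agent.Lib.Helper3.InvTensor Groth.Agent.Lib.Helper3.InvMonoidal
  Groth.Agent.Lib.Helper3.TwistBasic Groth.Agent.Lib.Helper3.TwistMul in

/-- Let S be a graded ring whose irrelevant ideal S_+ is generated by finitely many elements of degree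
one, X = Proj S, and let F be an O_X-module that is quasi-coherent and of finite type. Then for some
n₀ and all n ≥ n₀, the twist F(n) = F ⊗ O_X(n) is a quotient of a finite free module O_X^k (k
depending on n); in particular F(n) is generated by finitely many global sections. -/
theorem result {R A : Type u} [CommRing R] [CommRing A] [Algebra R A] (𝒜 : ℕ → Submodule R A) [GradedAlgebra 𝒜]
    (s : Finset A) (hs1 : ∀ f ∈ s, f ∈ 𝒜 1)
    (hs : (HomogeneousIdeal.irrelevant 𝒜).toIdeal = Ideal.span (s : Set A))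
    (F : (Proj 𝒜).Modules) (hF : Coh.IsQCoh F) (hFT : CohB1.IsFT F) :
    ∃ n₀ : ℕ, ∀ n : ℕ, n₀ ≤ n →
      ∃ (k : ℕ) (p : FlatMod.freeMod (Proj 𝒜) k ⟶ Twist.twistBy 𝒜 F (n : ℤ)), Epi p := by
  classical
  have hA : CohB1.IsAmple (Twist.twist 𝒜 1) := Groth.Agent.S3584.result 𝒜 s hs1 hs
  have : CompactSpace (Proj 𝒜) := hA.2.1
  have : F.IsQuasicoherent := hF
  have : F.IsFiniteType := hFT
  have hcov' : ∀ x : Proj 𝒜, ∃ f : s, x ∈ Proj.basicOpen 𝒜 (f : A) := by
    intro x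
    apply TwistProj.exists_mem_basicOpen_of_span (fun f : s => (f : A))
    rw [hs]
    apply Ideal.span_mono
    intro a ha
    exact ⟨⟨a, ha⟩, rfl⟩
  have hcov : (⨆ f : 𝒜 1, Proj.basicOpen 𝒜 (f : A)) = ⊤ := by
    rw [eq_top_iff]
    intro x _
    obtain ⟨f, hf⟩ := hcov' x
    exact Opens.mem_iSup.mpr ⟨⟨f, hs1 f f.2⟩, hf⟩
  have hunit : ∀ (d : ℤ) (x : Proj 𝒜), ∃ U : (Proj 𝒜).Opens, x ∈ U ∧ HasUnitFrac d U :=
    fun d x => hasUnitFrac_of_cover_degOne hcov d x
  obtain ⟨n₀, hn₀⟩ := GlobGen.exists_isSpanned_twist hA F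
  refine ⟨n₀, fun n hn => ?_⟩
  change ∃ (k : ℕ) (p : FlatMod.freeMod (Proj 𝒜) k ⟶
    CohB1.tensorMod F (Twist.twist 𝒜 (n : ℤ))), Epi p
  have hinv : PicF.IsInvertible (Twist.twist 𝒜 (n : ℤ)) := isInvertible_twist_of_cover _ (hunit _)
  have : (CohB1.tensorMod F (Twist.twist 𝒜 (n : ℤ))).IsQuasicoherent :=
    InvCoh.isQuasicoherent_tensorMod F _ hinv
  have : (CohB1.tensorMod F (Twist.twist 𝒜 (n : ℤ))).IsFiniteType :=
    InvCoh.isFiniteType_tensorMod F _ hinv
  have h2 : GlobGen.IsSpanned (CohB1.tensorMod F (Twist.twist 𝒜 (n : ℤ))) :=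
    (hn₀ n hn).of_iso (tensorMapIso (Iso.refl F) (powIso (hunit 1) n).symm)
  obtain ⟨I, σ, hσ⟩ := h2
  obtain ⟨T, hT⟩ := Groth.Agent.S4402.exists_finite_spanning4402 _ σ hσ
  have hepi : Epi (GlobGen.freeHom _ (fun i : T => σ i.1)) := GlobGen.epi_freeHom _ _ hT
  have hloc := FreeSec.isLocSpannedBy_of_epi (GlobGen.freeHom _ (fun i : T => σ i.1))
  rw [FreeSec.secOfHom_freeHom] at hloc
  let e : T ≃ Fin T.card := T.equivFin
  refine ⟨T.card, Sigma.desc (fun j => InvAmple.globalHom _ (σ (e.symm j).1)), ?_⟩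
  apply epi_desc3579
  intro W g x hxW
  obtain ⟨W', hW', hxW', hspan⟩ := hloc W g x hxW
  obtain ⟨c, hc⟩ := (Submodule.mem_span_range_iff_exists_fun _).mp hspan
  refine ⟨W', hW', hxW', fun j => c (e.symm j), ?_⟩
  rw [← hc]
  exact Equiv.sum_comp e.symm (fun i : T => c i • res _ (le_top : W' ≤ ⊤) (σ i.1))

end Groth.Agent.S3579
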