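import Groth.Statements.S3583
import Groth.Agent.Lib.Helper6.AffAlgBasic

set_option autoImplicit false
universe u
open CategoryTheory AlgebraicGeometry Opposite
open EGA2

namespace Groth.Agent.S3583

/-- In the form stated after its proof: let f : X → S and f' : X' → S be affine morphisms and h : X' → X
an S-morphism such that the O_S-algebra homomorphism A(h) : f_*O_X → f'_*O_{X'} is surjective (as a
map of quasi-coherent O_S-modules, i.e. on sections over every affine open of S). Then h is a closed
immersion. -/
theorem result {X X' S : Scheme.{u}} (f : X ⟶ S) [IsAffineHom f]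
    (f' : X' ⟶ S) [IsAffineHom f'] (h : X' ⟶ X) (w : h ≫ f = f')
    (hsurj : ∀ U : S.affineOpens, Function.Surjective ((AffAlg.algHom f f' h w).app (op U.1)).hom) :
    IsClosedImmersion h := by
  have hcov := Groth.Agent.Lib.Helper6.iSup_preimage_affineOpens_eq_top f
  rw [HasAffineProperty.iff_of_iSup_eq_top (P := @IsClosedImmersion)
    (fun U : S.affineOpens =>
      ⟨f ⁻¹ᵁ U.1, (show IsAffineOpen U.1 from U.2).preimage f⟩) hcov]
  intro U
  refine ⟨?_, ?_⟩
  · have h1 : IsAffineOpen (f' ⁻¹ᵁ U.1) := (show IsAffineOpen U.1 from U.2).preimage f'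
    subst w
    exact h1
  · rw [morphismRestrict_appTop]
    refine @Groth.Agent.Lib.Helper6.surjective_comp_of_isIso _ _ _ _ _
      (Groth.Agent.Lib.Helper6.isIso_presheaf_map_eqToHom _) ?_
    refine Groth.Agent.Lib.Helper6.app_surjective_congr h
      (Scheme.Opens.ι_image_top (f ⁻¹ᵁ U.1)).symm ?_
    obtain ⟨e, he⟩ := Groth.Agent.Lib.Helper6.algHom_app_eq f f' h w U.1
    have hs := hsurj U
    rw [he] at hs
    exact Groth.Agent.Lib.Helper6.surjective_of_comp_iso _ _ hs

end Groth.Agent.S3583
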