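import Groth.Statements.S3586
import Groth.Agent.Lib.Helper6.GrTildeFrac

set_option autoImplicit false
universe u
open CategoryTheory AlgebraicGeometry Opposite TopologicalSpace
open EGA2

namespace Groth.Agent.S3586

/-- Let S be a graded ring, M a graded S-module, f homogeneous of degree d > 0 and n an integer. Then
every section of the sheaf M(n)~ over D_+(f) is given on all of D_+(f) by one fraction m/f^k with m
homogeneous of degree kd + n. (This is the surjectivity half of the identification of the sections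
of M(n)~ over D_+(f) with M(n)_(f).) -/
theorem result {R A : Type u} [CommRing R] [CommRing A] [Algebra R A] (𝒜 : ℕ → Submodule R A) [GradedAlgebra 𝒜]
    {M : Type u} [AddCommGroup M] [Module R M] [Module A M] [IsScalarTower R A M] (ℳ : ℕ → Submodule R M) [DirectSum.Decomposition ℳ] [SetLike.GradedSMul 𝒜 ℳ] (n : ℤ) {d : ℕ} (hd : 0 < d) {f : A} (hf : f ∈ 𝒜 d)
    (s : GrTilde.sect 𝒜 ℳ n (op (ProjectiveSpectrum.basicOpen 𝒜 f))) :
    ∃ (k i : ℕ) (m : ℳ i), (i : ℤ) = k * d + n ∧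
      ∀ x : ProjectiveSpectrum.basicOpen 𝒜 f,
        ((s.1 x : GrTilde.tildeAt 𝒜 ℳ n x.1) : GrTilde.LocMod 𝒜 (M := M) x.1) =
          (LocalizedModule.mk m.1 ⟨f ^ k, fun h => (ProjectiveSpectrum.mem_basicOpen 𝒜 f x.1).mp x.2
            (x.1.isPrime.mem_of_pow_mem k h)⟩ : GrTilde.LocMod 𝒜 (M := M) x.1) := by
  classical
  have hfirr : f ∈ (HomogeneousIdeal.irrelevant 𝒜).toIdeal :=
    HomogeneousIdeal.mem_irrelevant_of_mem 𝒜 hd hf
  choose j i h m hh hm hij hirr hhx hhf hform using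
    fun x : ProjectiveSpectrum.basicOpen 𝒜 f =>
      Groth.Agent.Lib.Helper6.exists_local_fraction 𝒜 ℳ n hd hf s x
  obtain ⟨N₀, hN₀⟩ := Groth.Agent.Lib.Helper6.exists_pow_mem_span_of_cover 𝒜 hfirr (Set.range h)
    (by rintro _ ⟨x, rfl⟩; exact ⟨j x, hh x⟩)
    (fun y hy => ⟨h ⟨y, hy⟩, ⟨_, rfl⟩, hhx ⟨y, hy⟩⟩)
  obtain ⟨c, hc⟩ := Finsupp.mem_span_range_iff_exists_finsupp.1 hN₀
  obtain ⟨T, hT⟩ : ∃ T : Finset (ProjectiveSpectrum.basicOpen 𝒜 f), T = c.support := ⟨_, rfl⟩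
  have hcov : ∀ y : ProjectiveSpectrum 𝒜, f ∉ y.asHomogeneousIdeal.toIdeal →
      ∃ x ∈ T, h x ∉ y.asHomogeneousIdeal.toIdeal := by
    intro y hy
    by_contra hcon
    push Not at hcon
    apply hy
    apply y.isPrime.mem_of_pow_mem N₀
    rw [← hc, Finsupp.sum, ← hT]
    exact Ideal.sum_mem _ (fun x hx => Ideal.mul_mem_left _ _ (hcon x hx))
  have hK : ∀ x x' : ProjectiveSpectrum.basicOpen 𝒜 f, ∃ K : ℕ,
      (h x * h x') ^ K • (h x' • m x - h x • m x') = 0 := by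
    intro x x'
    have h1 : h x' • m x ∈ ℳ (j x' + i x) := SetLike.GradedSMul.smul_mem (hh x') (hm x)
    have h2 : h x • m x' ∈ ℳ (j x + i x') := SetLike.GradedSMul.smul_mem (hh x) (hm x')
    have e : j x + i x' = j x' + i x := by
      have := hij x
      have := hij x'
      omega
    rw [e] at h2
    refine Groth.Agent.Lib.Helper6.exists_pow_smul_eq_zero_of_locally_killed 𝒜 ℳ
      (Ideal.mul_mem_right _ _ (hirr x)) (sub_mem h1 h2) ?_
    intro y hy
    have hy1 : h x ∉ y.asHomogeneousIdeal.toIdeal := fun hmem =>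
      hy (Ideal.mul_mem_right _ _ hmem)
    have hy2 : h x' ∉ y.asHomogeneousIdeal.toIdeal := fun hmem =>
      hy (Ideal.mul_mem_left _ _ hmem)
    have hyU : y ∈ ProjectiveSpectrum.basicOpen 𝒜 f := hhf x y hy1
    have e1 := hform x ⟨y, hyU⟩ hy1
    have e2 := hform x' ⟨y, hyU⟩ hy2
    rw [e1, LocalizedModule.mk_eq] at e2
    obtain ⟨u, hu⟩ := e2
    refine ⟨(u : A), u.2, ?_⟩
    have hu' : (u : A) • (h x' • m x) = (u : A) • (h x • m x') := hu
    rw [smul_sub, hu', sub_self]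
  choose Kf hKf using hK
  obtain ⟨K, hKdef⟩ : ∃ K : ℕ, K = T.sup (fun x => T.sup (fun x' => Kf x x')) := ⟨_, rfl⟩
  have hKle : ∀ x ∈ T, ∀ x' ∈ T, Kf x x' ≤ K := by
    intro x hx x' hx'
    rw [hKdef]
    exact (Finset.le_sup (f := fun x' => Kf x x') hx').trans
      (Finset.le_sup (f := fun x => T.sup (fun x' => Kf x x')) hx)
  have hcompat : ∀ x ∈ T, ∀ x' ∈ T,
      h x' ^ (K + 1) • h x ^ K • m x = h x ^ (K + 1) • h x' ^ K • m x' := by
    intro x hx x' hx'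
    have h0 : (h x * h x') ^ K • (h x' • m x - h x • m x') = 0 := by
      have hle := hKle x hx x' hx'
      rw [← Nat.sub_add_cancel hle, pow_add, mul_smul, hKf x x', smul_zero]
    rw [smul_sub, sub_eq_zero] at h0
    have e1 : h x' ^ (K + 1) • h x ^ K • m x = (h x * h x') ^ K • h x' • m x := by
      rw [smul_smul, smul_smul]
      congr 1
      ring
    have e2 : h x ^ (K + 1) • h x' ^ K • m x' = (h x * h x') ^ K • h x • m x' := by
      rw [smul_smul, smul_smul]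
      congr 1
      ring
    rw [e1, e2]
    exact h0
  have hform' : ∀ (x : ProjectiveSpectrum.basicOpen 𝒜 f)
      (y : ProjectiveSpectrum.basicOpen 𝒜 f)
      (hy : h x ^ (K + 1) ∉ y.1.asHomogeneousIdeal.toIdeal),
      ((s.1 y : GrTilde.tildeAt 𝒜 ℳ n y.1) : GrTilde.LocMod 𝒜 (M := M) y.1) =
        LocalizedModule.mk (h x ^ K • m x) ⟨h x ^ (K + 1), hy⟩ := by
    intro x y hy
    have hy1 : h x ∉ y.1.asHomogeneousIdeal.toIdeal := fun hmem =>
      hy (Ideal.pow_mem_of_mem _ hmem _ (Nat.succ_pos K))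
    rw [hform x y hy1, LocalizedModule.mk_eq]
    refine ⟨1, ?_⟩
    rw [one_smul, one_smul]
    show (h x ^ (K + 1)) • m x = h x • h x ^ K • m x
    rw [smul_smul, pow_succ']
  have hcov' : ∀ y : ProjectiveSpectrum 𝒜, f ∉ y.asHomogeneousIdeal.toIdeal →
      ∃ x ∈ T, h x ^ (K + 1) ∉ y.asHomogeneousIdeal.toIdeal := by
    intro y hy
    obtain ⟨x, hxT, hxy⟩ := hcov y hy
    exact ⟨x, hxT, fun hmem => hxy (y.isPrime.mem_of_pow_mem _ hmem)⟩
  obtain ⟨N₁, hN₁⟩ := Groth.Agent.Lib.Helper6.exists_pow_mem_span_of_cover 𝒜 hfirr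
    (Set.range (fun x : T => h x.1 ^ (K + 1)))
    (by
      rintro _ ⟨x, rfl⟩
      exact ⟨(K + 1) • j x.1, SetLike.pow_mem_graded (K + 1) (hh x.1)⟩)
    (fun y hy => by
      obtain ⟨x, hxT, hxy⟩ := hcov' y hy
      exact ⟨_, ⟨⟨x, hxT⟩, rfl⟩, hxy⟩)
  obtain ⟨a, han⟩ : ∃ a : ℕ, 0 ≤ (a : ℤ) + n := ⟨n.natAbs, by omega⟩
  obtain ⟨N, hNdef⟩ : ∃ N : ℕ, N = N₁ + a := ⟨_, rfl⟩
  have hN : f ^ N ∈ Ideal.span (Set.range (fun x : T => h x.1 ^ (K + 1))) := by
    rw [hNdef, pow_add]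
    exact Ideal.mul_mem_right _ _ hN₁
  obtain ⟨D, hD⟩ : ∃ D : ℕ, D = N * d := ⟨_, rfl⟩
  have haD : a ≤ D := by
    rw [hD, hNdef]
    exact le_trans (Nat.le_add_left a N₁) (Nat.le_mul_of_pos_right _ hd)
  have hfN : f ^ N ∈ 𝒜 D := by
    have := SetLike.pow_mem_graded N hf
    rwa [smul_eq_mul, ← hD] at this
  obtain ⟨I, hI⟩ : ∃ I : ℕ, (I : ℤ) = D + n :=
    ⟨((D : ℤ) + n).toNat, Int.toNat_of_nonneg (by omega)⟩
  obtain ⟨mt, hmt, hglue⟩ := Groth.Agent.Lib.Helper6.exists_glue_numerator 𝒜 ℳ n hfN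
    (fun x : T => h x.1 ^ (K + 1)) (fun x => (K + 1) * j x.1) (fun x => h x.1 ^ K • m x.1)
    (fun x => K * j x.1 + i x.1)
    (fun x => by
      have := SetLike.pow_mem_graded (K + 1) (hh x.1)
      rwa [smul_eq_mul] at this)
    (fun x => by
      have h1 : h x.1 ^ K ∈ 𝒜 (K * j x.1) := by
        have := SetLike.pow_mem_graded K (hh x.1)
        rwa [smul_eq_mul] at this
      exact SetLike.GradedSMul.smul_mem h1 (hm x.1))
    (fun x => by
      have := hij x.1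
      push_cast
      rw [this]
      ring)
    (fun x x' => hcompat x.1 x.2 x'.1 x'.2)
    I hI hN
  refine ⟨N, I, ⟨mt, hmt⟩, ?_, fun y => ?_⟩
  · rw [hI, hD, Nat.cast_mul]
  · obtain ⟨x, hxT, hxy⟩ := hcov' y.1 y.2
    rw [hform' x y hxy, LocalizedModule.mk_eq]
    refine ⟨1, ?_⟩
    rw [one_smul, one_smul]
    show f ^ N • (h x ^ K • m x) = h x ^ (K + 1) • mt
    exact (hglue ⟨x, hxT⟩).symm

end Groth.Agent.S3586
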