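import Groth.Statements.S3587
import Groth.Agent.Lib.Helper6.GrTildeBasic

set_option autoImplicit false
universe u
open CategoryTheory AlgebraicGeometry Opposite TopologicalSpace
open EGA2

namespace Groth.Agent.S3587

/-- Let S be a graded ring, M a graded S-module, f a homogeneous element of degree d > 0 and m a
homogeneous element of M. If the fraction m/f^k vanishes in the localized module M_x for every point
x of D_+(f), then f^N m = 0 for some N (so m/f^k = 0 in M_(f)); this is the injectivity half of the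
identification of the sections of M~ over D_+(f) with M_(f). -/
theorem result {R A : Type u} [CommRing R] [CommRing A] [Algebra R A] (𝒜 : ℕ → Submodule R A) [GradedAlgebra 𝒜]
    {M : Type u} [AddCommGroup M] [Module R M] [Module A M] [IsScalarTower R A M] (ℳ : ℕ → Submodule R M) [DirectSum.Decomposition ℳ] [SetLike.GradedSMul 𝒜 ℳ] {d : ℕ} (hd : 0 < d) {f : A} (hf : f ∈ 𝒜 d) (k i : ℕ) (m : ℳ i)
    (h : ∀ x : ProjectiveSpectrum.basicOpen 𝒜 f,
      (LocalizedModule.mk m.1 ⟨f ^ k, fun h => (ProjectiveSpectrum.mem_basicOpen 𝒜 f x.1).mp x.2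
        (x.1.isPrime.mem_of_pow_mem k h)⟩ : GrTilde.LocMod 𝒜 (M := M) x.1) = 0) :
    ∃ N : ℕ, f ^ N • m.1 = 0 := by
  classical
  let I : Ideal A := LinearMap.ker (LinearMap.toSpanSingleton A M m.1)
  have hI : ∀ a : A, a ∈ I ↔ a • m.1 = 0 := fun a => by
    simp [I, LinearMap.mem_ker, LinearMap.toSpanSingleton_apply]
  suffices hfI : f ∈ I.radical by
    obtain ⟨N, hN⟩ := hfI
    exact ⟨N, (hI _).1 hN⟩
  rw [Ideal.radical_eq_sInf, Ideal.mem_sInf]
  rintro q ⟨hIq, hq⟩
  have := hq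
  by_contra hfq
  have hfirr : f ∈ (HomogeneousIdeal.irrelevant 𝒜).toIdeal :=
    HomogeneousIdeal.mem_irrelevant_of_mem 𝒜 hd hf
  have hle : ¬ (HomogeneousIdeal.irrelevant 𝒜).toIdeal ≤ q := fun h => hfq (h hfirr)
  let x : ProjectiveSpectrum 𝒜 := Groth.Agent.Lib.Helper6.projPointOfPrime 𝒜 q hle
  have hx : x ∈ ProjectiveSpectrum.basicOpen 𝒜 f := fun hmem =>
    hfq (Groth.Agent.Lib.Helper6.projPointOfPrime_le 𝒜 q hle hmem)
  have h0 := h ⟨x, hx⟩
  rw [← LocalizedModule.zero_mk (1 : x.asHomogeneousIdeal.toIdeal.primeCompl),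
    LocalizedModule.mk_eq] at h0
  obtain ⟨u, hu⟩ := h0
  have hu' : u • m.1 = 0 := by simpa using hu
  have huz : (u : A) • m.1 = 0 := hu'
  have hcomp : ∃ j, (DirectSum.decompose 𝒜 (u : A) j : A) ∉ q := by
    by_contra hcon
    push Not at hcon
    apply u.2
    change (u : A) ∈ (q.homogeneousCore 𝒜).toIdeal
    rw [← DirectSum.sum_support_decompose 𝒜 (u : A)]
    exact Ideal.sum_mem _ fun j _ =>
      Ideal.mem_homogeneousCore_of_homogeneous_of_mem ⟨j, SetLike.coe_mem _⟩ (hcon j)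
  obtain ⟨j, hj⟩ := hcomp
  exact hj (hIq ((hI _).2
    (Groth.Agent.Lib.Helper6.decompose_smul_eq_zero_of_mem 𝒜 ℳ m.2 huz j)))

end Groth.Agent.S3587
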