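import Groth.Statements.S3588
import Groth.Agent.Lib.Helper6.ProjReduced

set_option autoImplicit false
universe u
open CategoryTheory CategoryTheory.Limits AlgebraicGeometry
open EGA2

namespace Groth.Agent.S3588

/-- Let S be a graded ring, N_+ the set of nilpotent elements of S_+ (an ideal of S), and S → S/N_+ the
quotient (here: any surjective homomorphism of graded rings φ : S → S' whose kernel is N_+). Then
the induced morphism Proj S' → Proj S is a closed immersion which is a homeomorphism of the
underlying spaces, and Proj S' is reduced; thus Proj S' is the reduced closed subscheme (Proj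
S)_red. -/
theorem result {R A : Type u} [CommRing R] [CommRing A] [Algebra R A] (𝒜 : ℕ → Submodule R A) [GradedAlgebra 𝒜]
    {B : Type u} [CommRing B] [Algebra R B] (ℬ : ℕ → Submodule R B) [GradedAlgebra ℬ]
    (φ : 𝒜 →+*ᵍ ℬ) (hsurj : Function.Surjective φ)
    (hker : ∀ a : A, φ a = 0 ↔ a ∈ (HomogeneousIdeal.irrelevant 𝒜).toIdeal ∧ IsNilpotent a)
    (hφ : HomogeneousIdeal.irrelevant ℬ ≤ (HomogeneousIdeal.irrelevant 𝒜).map φ) :
    IsClosedImmersion (Proj.map φ hφ) ∧ IsHomeomorph (Proj.map φ hφ).base ∧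
      AlgebraicGeometry.IsReduced (Proj ℬ) := by
  have hci : IsClosedImmersion (Proj.map φ hφ) :=
    Groth.Agent.Lib.Helper6.proj_map_of_forall_away φ hφ @IsClosedImmersion
      fun i _ s hs => IsClosedImmersion.spec_of_surjective _
        (Groth.Agent.Lib.Helper6.awayMap_surjective φ hsurj hs)
  refine ⟨hci, ?_, ?_⟩
  · rw [isHomeomorph_iff_isEmbedding_surjective]
    exact ⟨(Proj.map φ hφ).isClosedEmbedding.isEmbedding,
      Groth.Agent.Lib.Helper6.proj_map_base_surjective φ hφ hsurj
        fun a ha => ((hker a).1 ha).2⟩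
  · refine Groth.Agent.Lib.Helper6.proj_isReduced ℬ fun b hb hnil => ?_
    have hb' : b ∈ Ideal.map φ (HomogeneousIdeal.irrelevant 𝒜).toIdeal := hφ hb
    obtain ⟨a, ha, rfl⟩ := (Ideal.mem_map_iff_of_surjective φ hsurj).1 hb'
    obtain ⟨n, hn⟩ := hnil
    rw [← map_pow] at hn
    have h1 : IsNilpotent a := ((hker _).1 hn).2.of_pow
    exact (hker a).2 ⟨ha, h1⟩

end Groth.Agent.S3588
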