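import Groth.Statements.S3589
import Groth.Agent.Lib.Helper3.ProjUniq
import Groth.Agent.Lib.Helper3.InvIsoAff

set_option autoImplicit false
universe u
open CategoryTheory CategoryTheory.Limits AlgebraicGeometry
open EGA2

namespace Groth.Agent.S3589

open Groth.Agent.Lib.Helper3 in
open QCSec InvGen SecCoord ProjPullGen TwistProj TwistBasic ProjUniq PbBasic in

/-- For E = O_Y^{n+1} over an affine base Y = Spec R (injectivity of the correspondence): a section s of
projective n-space over R is determined by the submodule F(s) of R^{n+1} formed by the R-linear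
relations among the pulled-back coordinates s^*T_0, …, s^*T_n in the global sections of s^*O(1). -/
theorem result {R : Type u} [CommRing R] (n : ℕ)
    (s₁ s₂ : Spec (CommRingCat.of R) ⟶ CohB1.ProjSpace n R)
    (h₁ : s₁ ≫ CohB1.ProjSpace.toSpec n R = 𝟙 _) (h₂ : s₂ ≫ CohB1.ProjSpace.toSpec n R = 𝟙 _)
    (h : ProjUP.secKernel n R s₁ = ProjUP.secKernel n R s₂) :
    s₁ = s₂ := by
  classical
  let t : ULift.{u} (Fin (n + 1)) → MvPolynomial (Fin (n + 1)) R := fun j => MvPolynomial.X j.down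
  have ht : ∀ j, t j ∈ CohB1.polyGrading n R 1 := fun j => MvPolynomial.isHomogeneous_X R j.down
  have hadj : Algebra.adjoin R (Set.range t) = ⊤ := by
    rw [eq_top_iff, ← MvPolynomial.adjoin_range_X]
    apply Algebra.adjoin_mono
    rintro _ ⟨i, rfl⟩
    exact ⟨⟨i⟩, rfl⟩
  have hcovP : ∀ x : Proj (CohB1.polyGrading n R), ∃ i, x ∈ Proj.basicOpen (CohB1.polyGrading n R) (t i) :=
    exists_mem_basicOpen_of_adjoin t (fun _ => 1) ht hadj
  have hUF : ∀ x : Proj (CohB1.polyGrading n R), ∃ U : (Proj (CohB1.polyGrading n R)).Opens,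
      x ∈ U ∧ HasUnitFrac ((1 : ℕ) : ℤ) U := by
    intro x
    obtain ⟨i, hi⟩ := hcovP x
    exact ⟨_, hi, hasUnitFrac_basicOpen (ht i)⟩
  have hmem : ∀ (s : Spec (CommRingCat.of R) ⟶ CohB1.ProjSpace n R) (c : Fin (n + 1) → R),
      c ∈ ProjUP.secKernel n R s ↔
        ∑ i, ((Scheme.ΓSpecIso (CommRingCat.of R)).inv.hom (c i)) •
          gpull (𝒜 := CohB1.polyGrading n R) s (Twist.twist (CohB1.polyGrading n R) ((1 : ℕ) : ℤ))
            (gsec (⟨t ⟨i⟩, ht ⟨i⟩⟩ : CohB1.polyGrading n R 1)) = 0 := by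
    intro s c
    letI : Module R (ProjUP.Γm ((Scheme.Modules.pullback s).obj (Twist.twistProjSpace n R 1))) :=
      Module.compHom _ (Scheme.ΓSpecIso (CommRingCat.of R)).inv.hom
    change c ∈ LinearMap.ker (Fintype.linearCombination R
      (fun i => ProjUP.pullSec s (Twist.twistProjSpace n R 1) (ProjUP.coord n R i))) ↔ _
    rw [LinearMap.mem_ker, Fintype.linearCombination_apply]
    rfl
  have hloc : ∀ (s : Spec (CommRingCat.of R) ⟶ CohB1.ProjSpace n R) (x : Spec (CommRingCat.of R)),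
      ∃ j, x ∈ locus _ (gpull (𝒜 := CohB1.polyGrading n R) s
        (Twist.twist (CohB1.polyGrading n R) ((1 : ℕ) : ℤ))
        (gsec (⟨t j, ht j⟩ : CohB1.polyGrading n R 1))) := by
    intro s x
    obtain ⟨j, hj⟩ := hcovP (s x)
    refine ⟨j, ?_⟩
    rw [locus_gpull_gsec s hUF]
    exact hj
  obtain ⟨τ, hτ⟩ := InvIsoAff.exists_iso_of_rel
    (isInvertible_pullback s₁ (isInvertible_twist_of_cover _ hUF))
    (fun j => gpull (𝒜 := CohB1.polyGrading n R) s₁
      (Twist.twist (CohB1.polyGrading n R) ((1 : ℕ) : ℤ))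
      (gsec (⟨t j, ht j⟩ : CohB1.polyGrading n R 1)))
    (fun j => gpull (𝒜 := CohB1.polyGrading n R) s₂
      (Twist.twist (CohB1.polyGrading n R) ((1 : ℕ) : ℤ))
      (gsec (⟨t j, ht j⟩ : CohB1.polyGrading n R 1)))
    (hloc s₁) (hloc s₂) (by
      intro γ hγ
      have e : ∀ (s : Spec (CommRingCat.of R) ⟶ CohB1.ProjSpace n R),
          (∑ j : ULift.{u} (Fin (n + 1)), γ j • gpull (𝒜 := CohB1.polyGrading n R) s
            (Twist.twist (CohB1.polyGrading n R) ((1 : ℕ) : ℤ))
            (gsec (⟨t j, ht j⟩ : CohB1.polyGrading n R 1))) = 0 ↔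
          (fun i : Fin (n + 1) => (Scheme.ΓSpecIso (CommRingCat.of R)).hom.hom (γ ⟨i⟩)) ∈
            ProjUP.secKernel n R s := by
        intro s
        rw [hmem s]
        have e2 : ∀ z, (Scheme.ΓSpecIso (CommRingCat.of R)).inv.hom
            ((Scheme.ΓSpecIso (CommRingCat.of R)).hom.hom z) = z := fun z =>
          congrArg (fun φ => φ.hom z) (Scheme.ΓSpecIso (CommRingCat.of R)).hom_inv_id
        simp only [e2]
        rw [← Equiv.sum_comp Equiv.ulift.symm]
        rfl
      rw [e s₂, ← h, ← e s₁]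
      exact hγ)
  exact ProjUniq.hom_ext_of_iso (𝒜 := CohB1.polyGrading n R) t ht hadj s₁ s₂
    (h₁.trans h₂.symm) τ hτ

end Groth.Agent.S3589
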