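import Groth.Statements.S3591
import Groth.Agent.Lib.Helper3.ProjOfSec

set_option autoImplicit false
universe u
open CategoryTheory CategoryTheory.Limits AlgebraicGeometry
open EGA2

namespace Groth.Agent.S3591

theorem exists_ringHom_of_sym3591 {A : Type*} [CommRing A] {S : Type*} [CommRing S] [Algebra A S]
    {M : Type*} [AddCommGroup M] [Module A M] {f : M →ₗ[A] S} (h : IsSymmetricAlgebra f)
    {B : Type*} [CommRing B] (ρ : A →+* B) (g : M →+ B)
    (hg : ∀ a m, g (a • m) = ρ a * g m) :
    ∃ ψ : S →+* B, (∀ a, ψ (algebraMap A S a) = ρ a) ∧ ∀ m, ψ (f m) = g m := by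
  letI : Algebra A B := ρ.toAlgebra
  let gl : M →ₗ[A] B :=
    { toFun := g
      map_add' := g.map_add
      map_smul' := fun a m => by rw [hg]; rfl }
  refine ⟨(h.lift gl).toRingHom, fun a => ?_, fun m => ?_⟩
  · exact (h.lift gl).commutes a
  · exact h.lift_eq gl m

theorem ringHom_ext_sym3591 {A : Type*} [CommRing A] {S : Type*} [CommRing S] [Algebra A S]
    {M : Type*} [AddCommGroup M] [Module A M] {f : M →ₗ[A] S} (h : IsSymmetricAlgebra f)
    {B : Type*} [Semiring B] (φ φ' : S →+* B)
    (h1 : ∀ a, φ (algebraMap A S a) = φ' (algebraMap A S a)) (h2 : ∀ m, φ (f m) = φ' (f m)) :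
    φ = φ' := by
  ext x
  induction x using h.induction with
  | algebraMap r => exact h1 r
  | ι x => exact h2 x
  | mul a b ha hb => rw [map_mul, map_mul, ha, hb]
  | add a b ha hb => rw [map_add, map_add, ha, hb]

open Groth.Agent.Lib.Helper3 in
open QCSec InvGen ProjOfSec SecCoord GrScale ProjPullGen TwistProj in

/-- Universal property of the projective bundle of a quasi-coherent module over an affine base,
existence part. Let A be a ring, M an A-module and S a graded A-algebra with an A-linear map ι : M →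
S_1 making S a symmetric algebra of M (so Proj S = P(M~)). Let q : X → Spec A be a scheme over A, L
an invertible O_X-module and v : M → Γ(X, L) an A-linear map whose image generates L (these
correspond to the surjections q^*(M~) → L). Then there are an A-morphism r : X → Proj S and an
isomorphism r^*O(1) ≅ L carrying, for every m ∈ M, the pullback of the global section ι(m) of O(1)
to v(m). -/
theorem result {A : Type u} [CommRing A] {S : Type u} [CommRing S] [Algebra A S] (𝒮 : ℕ → Submodule A S) [GradedAlgebra 𝒮]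
    {M : Type u} [AddCommGroup M] [Module A M] (ι : M →ₗ[A] S) (hι : ∀ m : M, ι m ∈ 𝒮 1)
    (hsym : IsSymmetricAlgebra ι)
    {X : Scheme.{u}} (q : X ⟶ Spec (CommRingCat.of A)) (L : X.Modules) (hL : PicF.IsInvertible L)
    (v : M →+ ProjUP.Γm L) (hv : ∀ (a : A) (m : M), v (a • m) = ProjUP.toGlobal q a • v m)
    (hgen : ProjUP.GeneratedBy L v) :
    ∃ (r : X ⟶ Proj 𝒮) (_ : r ≫ Proj.toSpecZero 𝒮 ≫ Spec.map (CommRingCat.ofHom (algebraMap A (𝒮 0))) = q)
      (τ : (Scheme.Modules.pullback r).obj (Twist.twist 𝒮 1) ≅ L),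
      ∀ m : M, τ.hom.app ⊤ (ProjUP.pullSec r (Twist.twist 𝒮 1) (Twist.globalOf 𝒮 ⟨ι m, hι m⟩)) = v m := by
  classical
  let ρ : ∀ m : M, A →+* Γ(X, locus L (v m)) := fun m =>
    (rresHom X (le_top : locus L (v m) ≤ ⊤)).comp (ProjUP.toGlobal q)
  let g : ∀ m : M, M →+ Γ(X, locus L (v m)) := fun m =>
    { toFun := fun m' => ratio L (v m) (v m')
      map_zero' := by rw [map_zero, ratio_zero]
      map_add' := fun a b => by rw [map_add, ratio_add] }
  have hg : ∀ m a m', g m (a • m') = ρ m a * g m m' := fun m a m' => by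
    change ratio L (v m) (v (a • m')) = _
    rw [hv, ratio_smul_right]
    rfl
  choose ψ hψA hψι using fun m => exists_ringHom_of_sym3591 hsym (ρ m) (g m) (hg m)
  have hcov : ∀ x, ∃ m : M, x ∈ locus L (v m) := fun x => exists_mem_locus hL v hgen x
  have hψ : ∀ m k, ψ m (ι k) = ratio L (v m) (v k) := fun m k => hψι m k
  have hcoc : ∀ m k, (rresHom X (inf_le_left : locus L (v m) ⊓ locus L (v k) ≤
        locus L (v m))).comp (ψ m) =
      scaleHom 𝒮 ((rresHom X (inf_le_right : locus L (v m) ⊓ locus L (v k) ≤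
        locus L (v k))).comp (ψ k)) (rres X (inf_le_left : locus L (v m) ⊓ locus L (v k) ≤
          locus L (v m)) (ψ m (ι k))) := by
    intro m k
    apply ringHom_ext_sym3591 hsym
    · intro a
      rw [scaleHom_of_mem 𝒮 _ _ (SetLike.algebraMap_mem_graded 𝒮 a), pow_zero, one_mul,
        RingHom.comp_apply, RingHom.comp_apply, hψA, hψA]
      change rres X _ (rres X _ (ProjUP.toGlobal q a)) = rres X _ (rres X _ (ProjUP.toGlobal q a))
      rw [rres_rres, rres_rres]
    · intro m'
      rw [scaleHom_of_mem 𝒮 _ _ (hι m'), pow_one, RingHom.comp_apply, RingHom.comp_apply,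
        hψι, hψι, hψι]
      exact ratio_chain L (v m) (v k) (v m') inf_le_left inf_le_right
  refine ⟨ProjOfSec.hom L (fun m => ι m) hι (fun m => v m) hcov ψ hψ hcoc, ?_, ?_⟩
  · exact ProjOfSec.hom_toSpec L (fun m => ι m) hι (fun m => v m) hcov ψ hψ hcoc q
      (fun m c => hψA m c)
  · exact ProjOfSec.exists_iso L (fun m => ι m) hι (fun m => v m) hcov ψ hψ hcoc

end Groth.Agent.S3591
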