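import Groth.Statements.S3593
import Mathlib

set_option autoImplicit false
universe u
open CategoryTheory CategoryTheory.Limits AlgebraicGeometry
open EGA2

namespace Groth.Agent.S3593

/-- Let S be a graded R-algebra, Ŝ a graded R-algebra with a graded homomorphism φ : S → Ŝ making Ŝ an
S-algebra, and z an element of Ŝ of degree one such that the S-algebra map S[X] → Ŝ, X ↦ z, is
bijective (so Ŝ = S[z] with z in degree one, the graded ring of the projective cone of S). Then
there is a ring isomorphism S ≅ Ŝ_(z) onto the degree-zero localization at z, sending a homogeneous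
a of degree n to φ(a)/z^n. (This is the isomorphism that identifies the affine cone Spec S with the
open D_+(z) of the projective cone Proj Ŝ; that identification itself is not asserted here.) -/
theorem result {R A : Type u} [CommRing R] [CommRing A] [Algebra R A] (𝒜 : ℕ → Submodule R A) [GradedAlgebra 𝒜]
    {B : Type u} [CommRing B] [Algebra R B] (ℬ : ℕ → Submodule R B) [GradedAlgebra ℬ]
    [Algebra A B] [IsScalarTower R A B] (φ : 𝒜 →+*ᵍ ℬ) (hφ : ∀ a : A, φ a = algebraMap A B a)
    (z : B) (hz : z ∈ ℬ 1) (hhat : Function.Bijective (Polynomial.aeval (R := A) z)) :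
    ∃ θ : A ≃+* HomogeneousLocalization.Away ℬ z,
      ∀ (n : ℕ) (a : A), a ∈ 𝒜 n → (θ a).val = Localization.mk (φ a) ⟨z ^ n, pow_mem (Submonoid.mem_powers z) n⟩ := by
  classical
  let e : Polynomial A ≃ₐ[A] B := AlgEquiv.ofBijective (Polynomial.aeval z) hhat
  let ev' : B →ₐ[A] A := (Polynomial.aeval (1 : A)).comp e.symm.toAlgHom
  obtain ⟨ev, hevdef⟩ : ∃ ev : B →+* A, ∀ b, ev b = ev' b := ⟨ev'.toRingHom, fun _ => rfl⟩
  have hev : ∀ p : Polynomial A, ev (Polynomial.aeval z p) = Polynomial.aeval (1 : A) p := by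
    intro p
    rw [hevdef]
    change Polynomial.aeval (1 : A) (e.symm (e p)) = _
    rw [AlgEquiv.symm_apply_apply]
  have hevz : ev z = 1 := by
    have := hev Polynomial.X
    rwa [Polynomial.aeval_X, Polynomial.aeval_X] at this
  have hevφ : ∀ a : A, ev (φ a) = a := by
    intro a
    rw [hφ, hevdef]
    exact AlgHom.commutes ev' a
  have hunit : IsUnit (ev z) := by rw [hevz]; exact isUnit_one
  obtain ⟨L, hLeq⟩ : ∃ L : Localization.Away z →+* A,
      ∀ b : B, L (algebraMap B (Localization.Away z) b) = ev b :=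
    ⟨IsLocalization.Away.lift z hunit, fun b => IsLocalization.Away.lift_eq z hunit b⟩
  have hL : ∀ (b : B) (s : Submonoid.powers z), L (Localization.mk b s) = ev b := by
    intro b s
    have hs : ev (s : B) = 1 := by
      obtain ⟨s, k, rfl⟩ := s
      simp only [map_pow, hevz, one_pow]
    have h1 : Localization.mk b s * algebraMap B (Localization.Away z) (s : B) =
        algebraMap B (Localization.Away z) b := by
      rw [Localization.mk_eq_mk']
      exact IsLocalization.mk'_spec _ b s
    have h2 := congrArg L h1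
    rw [map_mul, hLeq, hLeq, hs, mul_one] at h2
    exact h2
  let ρ : HomogeneousLocalization.Away ℬ z →+* A :=
    L.comp (algebraMap (HomogeneousLocalization.Away ℬ z) (Localization.Away z))
  have hρmk : ∀ (n : ℕ) (b : B) (hb : b ∈ ℬ (n • 1)),
      ρ (HomogeneousLocalization.Away.mk ℬ hz n b hb) = ev b := by
    intro n b hb
    change L (HomogeneousLocalization.Away.mk ℬ hz n b hb).val = ev b
    rw [HomogeneousLocalization.Away.val_mk, hL]
  obtain ⟨lam, hlam⟩ : ∃ lam : ℕ → A → B, ∀ n a, lam n a =
      ∑ i ∈ Finset.range (n + 1), φ ((DirectSum.decompose 𝒜 a i : 𝒜 i) : A) * z ^ (n - i) :=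
    ⟨_, fun _ _ => rfl⟩
  have hlam0 : ∀ n, lam n 0 = 0 := by
    intro n
    rw [hlam]
    apply Finset.sum_eq_zero
    intro i _
    rw [DirectSum.decompose_zero, DirectSum.zero_apply, ZeroMemClass.coe_zero, map_zero, zero_mul]
  have hlamadd : ∀ n a a', lam n (a + a') = lam n a + lam n a' := by
    intro n a a'
    rw [hlam, hlam, hlam, ← Finset.sum_add_distrib]
    apply Finset.sum_congr rfl
    intro i _
    rw [DirectSum.decompose_add, DirectSum.add_apply, Submodule.coe_add, map_add, add_mul]
  obtain ⟨P, hP⟩ : ∃ P : B → Prop, ∀ b, P b ↔ ∀ n : ℕ,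
      ((DirectSum.decompose ℬ b n : ℬ n) : B) =
        lam n (ev ((DirectSum.decompose ℬ b n : ℬ n) : B)) :=
    ⟨_, fun _ => Iff.rfl⟩
  have hP0 : P 0 := by
    rw [hP]
    intro n
    rw [DirectSum.decompose_zero, DirectSum.zero_apply, ZeroMemClass.coe_zero, map_zero, hlam0]
  have hPadd : ∀ b b', P b → P b' → P (b + b') := by
    intro b b' hb hb'
    rw [hP] at hb hb' ⊢
    intro n
    rw [DirectSum.decompose_add, DirectSum.add_apply, Submodule.coe_add, map_add, hlamadd,
      ← hb n, ← hb' n]
  have hzpow : ∀ j : ℕ, z ^ j ∈ ℬ j := by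
    intro j
    have := SetLike.pow_mem_graded j hz
    rwa [smul_eq_mul, mul_one] at this
  have hPhom : ∀ (i j : ℕ) (a : A), a ∈ 𝒜 i → P (φ a * z ^ j) := by
    intro i j a ha
    have hb : φ a * z ^ j ∈ ℬ (i + j) :=
      SetLike.mul_mem_graded (Graded.map_mem φ ha) (hzpow j)
    rw [hP]
    intro n
    by_cases hn : i + j = n
    · subst hn
      rw [DirectSum.decompose_of_mem_same ℬ hb, map_mul, map_pow, hevφ, hevz, one_pow, mul_one,
        hlam]
      rw [Finset.sum_eq_single i]
      · rw [DirectSum.decompose_of_mem_same 𝒜 ha, Nat.add_sub_cancel_left]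
      · intro k _ hk
        rw [DirectSum.decompose_of_mem_ne 𝒜 ha (Ne.symm hk), map_zero, zero_mul]
      · intro h
        exact absurd (Finset.mem_range.2 (by omega)) h
    · rw [DirectSum.decompose_of_mem_ne ℬ hb hn, map_zero, hlam0]
  have hPmon : ∀ (j : ℕ) (a : A), P (φ a * z ^ j) := by
    intro j a
    refine DirectSum.Decomposition.inductionOn (ℳ := 𝒜)
      (motive := fun a => P (φ a * z ^ j)) ?_ ?_ ?_ a
    · show P (φ 0 * z ^ j)
      rw [map_zero, zero_mul]
      exact hP0
    · intro i m
      exact hPhom i j _ m.2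
    · intro m m' hm hm'
      show P (φ (m + m') * z ^ j)
      rw [map_add, add_mul]
      exact hPadd _ _ hm hm'
  have hPall : ∀ b : B, P b := by
    intro b
    obtain ⟨p, rfl⟩ := hhat.2 b
    induction p using Polynomial.induction_on' with
    | add p q hp hq =>
      rw [map_add]
      exact hPadd _ _ hp hq
    | monomial j a =>
      rw [Polynomial.aeval_monomial, ← hφ]
      exact hPmon j a
  have hinj : Function.Injective ρ := by
    rw [injective_iff_map_eq_zero]
    intro x hx
    obtain ⟨n, b, hb, rfl⟩ := HomogeneousLocalization.Away.mk_surjective ℬ hz x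
    rw [hρmk] at hx
    have hb' : b ∈ ℬ n := by
      have h := hb
      rwa [smul_eq_mul, mul_one] at h
    have h1 := (hP b).1 (hPall b) n
    rw [DirectSum.decompose_of_mem_same ℬ hb', hx, hlam0] at h1
    subst h1
    apply HomogeneousLocalization.val_injective
    rw [HomogeneousLocalization.Away.val_mk, HomogeneousLocalization.val_zero,
      Localization.mk_zero]
  have hsurj : Function.Surjective ρ := by
    intro a
    have hmem : ∀ i, φ ((DirectSum.decompose 𝒜 a i : 𝒜 i) : A) ∈ ℬ (i • 1) := by
      intro i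
      rw [smul_eq_mul, mul_one]
      exact Graded.map_mem φ (SetLike.coe_mem _)
    refine ⟨∑ i ∈ (DirectSum.decompose 𝒜 a).support,
      HomogeneousLocalization.Away.mk ℬ hz i _ (hmem i), ?_⟩
    rw [map_sum]
    simp_rw [hρmk, hevφ]
    exact DirectSum.sum_support_decompose 𝒜 a
  refine ⟨(RingEquiv.ofBijective ρ ⟨hinj, hsurj⟩).symm, fun n a ha => ?_⟩
  have hmem : φ a ∈ ℬ (n • 1) := by
    rw [smul_eq_mul, mul_one]
    exact Graded.map_mem φ ha
  have h1 : ρ (HomogeneousLocalization.Away.mk ℬ hz n (φ a) hmem) = a := by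
    rw [hρmk, hevφ]
  have h2 : (RingEquiv.ofBijective ρ ⟨hinj, hsurj⟩).symm a =
      HomogeneousLocalization.Away.mk ℬ hz n (φ a) hmem := by
    rw [RingEquiv.symm_apply_eq]
    exact h1.symm
  rw [h2]
  rfl

end Groth.Agent.S3593
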