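import Groth.Statements.S3594
import Groth.Agent.Lib.Helper6.ProjConeAlg

set_option autoImplicit false
universe u
open CategoryTheory CategoryTheory.Limits AlgebraicGeometry
open EGA2

namespace Groth.Agent.S3594

/-- The closed immersion at infinity of a projective cone: let S be a graded R-algebra and Ŝ a graded
R-algebra over S such that the structure map φ : S → Ŝ is a graded homomorphism and Ŝ = S[z] is the
polynomial algebra on an element z of degree one (evaluation at z is a bijection S[T] → Ŝ); let ψ :
Ŝ → S be a graded homomorphism retracting φ and killing z, with S₊ contained in the ideal generated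
by ψ(Ŝ₊) so that j = Proj(ψ) : X = Proj S → Ĉ = Proj Ŝ is defined (it is the canonical closed
immersion). Then the image of j is exactly the complement of the open subset D₊(z) of Proj Ŝ (which
is the affine cone C = Spec S). -/
theorem result {R A : Type u} [CommRing R] [CommRing A] [Algebra R A] (𝒜 : ℕ → Submodule R A) [GradedAlgebra 𝒜]
    {B : Type u} [CommRing B] [Algebra R B] (ℬ : ℕ → Submodule R B) [GradedAlgebra ℬ]
    [Algebra A B] [IsScalarTower R A B] (φ : 𝒜 →+*ᵍ ℬ) (hφ : ∀ a : A, φ a = algebraMap A B a)
    (z : B) (hz : z ∈ ℬ 1) (hhat : Function.Bijective (Polynomial.aeval (R := A) z))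
    (ψ : ℬ →+*ᵍ 𝒜) (hψφ : ∀ a : A, ψ (φ a) = a) (hψz : ψ z = 0)
    (hψ : HomogeneousIdeal.irrelevant 𝒜 ≤ (HomogeneousIdeal.irrelevant ℬ).map ψ) :
    Set.range (Proj.map ψ hψ).base = ((Proj.basicOpen ℬ z : Set (Proj ℬ)))ᶜ := by
  ext y
  constructor
  · rintro ⟨x, rfl⟩
    intro hmem
    apply hmem
    change ψ z ∈ x.asHomogeneousIdeal
    rw [hψz]
    exact zero_mem _
  · intro hy
    have hz' : z ∈ y.asHomogeneousIdeal.toIdeal := not_not.1 hy
    have hsub : ∀ b : B, b ∈ y.asHomogeneousIdeal.toIdeal ↔
        φ (ψ b) ∈ y.asHomogeneousIdeal.toIdeal := by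
      intro b
      have h0 := Groth.Agent.Lib.Helper6.sub_algebraMap_mem_span ψ z hhat.2
        (fun a => by rw [← hφ, hψφ]) hψz b
      rw [← hφ] at h0
      have h1 : b - φ (ψ b) ∈ y.asHomogeneousIdeal.toIdeal :=
        (Ideal.span_singleton_le_iff_mem (I := y.asHomogeneousIdeal.toIdeal)).2 hz' h0
      constructor
      · intro hb
        have := Ideal.sub_mem _ hb h1
        simpa using this
      · intro hb
        have := Ideal.add_mem _ h1 hb
        simpa using this
    let x : ProjectiveSpectrum 𝒜 :=
      { asHomogeneousIdeal := y.asHomogeneousIdeal.comap φ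
        isPrime := y.isPrime.comap φ
        not_irrelevant_le := fun hle => y.not_irrelevant_le (by
          rw [HomogeneousIdeal.irrelevant_le]
          intro i hi b hb
          have h1 : ψ b ∈ HomogeneousIdeal.irrelevant 𝒜 :=
            HomogeneousIdeal.mem_irrelevant_of_mem 𝒜 hi (Graded.map_mem ψ hb)
          exact (hsub b).2 (hle h1)) }
    refine ⟨x, ?_⟩
    apply ProjectiveSpectrum.ext
    apply HomogeneousIdeal.ext
    ext b
    exact (hsub b).symm

end Groth.Agent.S3594
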