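import Groth.Statements.S3598
import Mathlib
import Groth.Agent.Lib.Helper6.PConeAffine
import Groth.Agent.Lib.Helper6.PConeAway
import Groth.Agent.Lib.Helper6.FibreChart

set_option autoImplicit false
universe u
open CategoryTheory CategoryTheory.Limits AlgebraicGeometry
open EGA2

namespace Groth.Agent.S3598

/-- Let S be a graded algebra over a ring (an affine base) whose irrelevant ideal is generated by its
degree-one elements, and let Ŝ = S[z] be the graded S-algebra obtained by adjoining a variable z of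
degree 1 (given as a graded S-algebra together with z of degree 1 such that S[T] → Ŝ, T ↦ z, is
bijective). Let Ê be the pointed projective cone, covered by the charts Spec Ŝ_(f) for f ∈ S
homogeneous of positive degree, and p : Ê → X = Proj S the canonical retraction, i.e. the morphism
which on each chart Spec Ŝ_(f) is induced by S_(f) → Ŝ_(f). Then p is of finite type (locally of
finite type and quasi-compact) and its fibre at every point x of X is isomorphic over k(x) to the
affine line Spec k(x)[T]. -/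
theorem result {R A : Type u} [CommRing R] [CommRing A] [Algebra R A] (𝒜 : ℕ → Submodule R A) [GradedAlgebra 𝒜]
    {B : Type u} [CommRing B] [Algebra R B] (ℬ : ℕ → Submodule R B) [GradedAlgebra ℬ]
    [Algebra A B] [IsScalarTower R A B] (φ : 𝒜 →+*ᵍ ℬ) (hφ : ∀ a : A, φ a = algebraMap A B a)
    (z : B) (hz : z ∈ ℬ 1) (hhat : Function.Bijective (Polynomial.aeval (R := A) z))
    (hgen : (HomogeneousIdeal.irrelevant 𝒜).toIdeal = Ideal.span (𝒜 1 : Set A))
    (p : (PCone.dom φ : Scheme.{u}) ⟶ Proj 𝒜) (hp : ∀ (d : ℕ) (f : A) (hd : 0 < d) (hf : f ∈ 𝒜 d),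
        PCone.chart φ hf hd ≫ p =
          Spec.map (CommRingCat.ofHom (HomogeneousLocalization.Away.map φ f)) ≫ Proj.awayι 𝒜 f hf hd) (x : Proj 𝒜) :
    LocallyOfFiniteType p ∧ QuasiCompact p ∧
      ∃ e : pullback p ((Proj 𝒜).fromSpecResidueField x) ≅
          Spec (CommRingCat.of (Polynomial ((Proj 𝒜).residueField x))),
        e.hom ≫ Spec.map (CommRingCat.ofHom (algebraMap ((Proj 𝒜).residueField x)
          (Polynomial ((Proj 𝒜).residueField x)))) = pullback.snd p ((Proj 𝒜).fromSpecResidueField x) := by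
  classical
  have hcover : ∀ y : Proj 𝒜, ∃ f : A, ∃ _ : f ∈ 𝒜 1, y ∈ Proj.basicOpen 𝒜 f := by
    intro y
    by_contra hcon
    push_neg at hcon
    apply y.not_irrelevant_le
    intro a ha
    have ha' : a ∈ (HomogeneousIdeal.irrelevant 𝒜).toIdeal := ha
    rw [hgen] at ha'
    refine Ideal.span_le.2 (fun f hf => ?_) ha'
    by_contra h
    exact hcon f hf h
  have hchart : ∀ (f : A) (hf : f ∈ 𝒜 1),
      IsPullback (PCone.chart φ hf one_pos)
        (Spec.map (CommRingCat.ofHom (HomogeneousLocalization.Away.map φ f)))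
        p (Proj.awayι 𝒜 f hf one_pos) := by
    intro f hf
    refine (IsOpenImmersion.isPullback _ _ _ _ (hp 1 f one_pos hf) ?_).flip
    rw [Proj.opensRange_awayι, Groth.Agent.Lib.Helper6.pcone_preimage_basicOpen φ p hp one_pos hf]
  refine ⟨?_, ?_, ?_⟩
  · refine Groth.Agent.Lib.Helper6.FibreChart.of_forall_exists_isPullback @LocallyOfFiniteType p
      fun y => ?_
    obtain ⟨f, hf, hy⟩ := hcover y
    obtain ⟨α, hα⟩ :=
      Groth.Agent.Lib.Helper6.PConeAway.exists_polynomial_equiv 𝒜 ℬ φ hφ z hz hhat hf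
    refine ⟨_, _, Proj.awayι 𝒜 f hf one_pos, inferInstance, PCone.chart φ hf one_pos, _, ?_,
      hchart f hf, ?_⟩
    · rw [Proj.opensRange_awayι]
      exact hy
    · rw [HasRingHomProperty.Spec_iff (P := @LocallyOfFiniteType)]
      exact Groth.Agent.Lib.Helper6.FibreChart.finiteType_of_addMonoidAlgebra _ ℕ α hα
  · have := Groth.Agent.Lib.Helper6.pcone_isAffineHom φ p hp
    infer_instance
  · obtain ⟨f, hf, hx⟩ := hcover x
    obtain ⟨α, hα⟩ :=
      Groth.Agent.Lib.Helper6.PConeAway.exists_polynomial_equiv 𝒜 ℬ φ hφ z hz hhat hf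
    exact Groth.Agent.Lib.Helper6.PConeAway.exists_iso_polynomial _
      (Groth.Agent.Lib.Helper6.FibreChart.exists_fibre_iso p x _ (Proj.awayι 𝒜 f hf one_pos)
        (PCone.chart φ hf one_pos) (hchart f hf) (by rw [Proj.opensRange_awayι]; exact hx) ℕ α hα)

end Groth.Agent.S3598
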