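import Groth.Statements.S3621
import Mathlib
import Groth.Agent.Lib.Helper18.DSchA
import Groth.Agent.S0373

set_option autoImplicit false
universe u
open CategoryTheory CategoryTheory.Limits AlgebraicGeometry
attribute [local instance] HasDerivedCategory.standard
open Dual3

namespace Groth.Agent.S3621

/-- Let X be a locally Noetherian scheme which has a dualizing complex (exactness instances as in the
definition of dualizing complexes on schemes). Then the set of points x of X whose local ring
O_{X,x} is Gorenstein is open. -/
theorem result (X : Scheme.{u}) [IsLocallyNoetherian X] [∀ (U V : Scheme.{u}) (j : U ⟶ V) [IsOpenImmersion j], PreservesFiniteLimits (Scheme.Modules.restrictFunctor j)] [∀ (R : CommRingCat.{u}), PreservesFiniteLimits (tilde.functor R)] (K : DCoh.D X) (hK : Dual2.IsDualizingSch X K) : IsOpen {x : X | LocCoh.IsGorensteinLocalRing (X.presheaf.stalk x)} := by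
  apply Groth.Agent.Lib.Helper18.DSch.isOpen_of_affine_charts
  intro U
  obtain ⟨ω, hω, -⟩ := Groth.Agent.Lib.Helper18.DSch.exists_chart K hK U
  haveI : IsNoetherianRing Γ(X, U.1) := IsLocallyNoetherian.component_noetherian U
  have h := Groth.Agent.S0373.result Γ(X, U.1) ω hω
  have hset : {y : PrimeSpectrum Γ(X, U.1) | U.2.fromSpec y ∈
      {x : X | LocCoh.IsGorensteinLocalRing (X.presheaf.stalk x)}} =
      {p : PrimeSpectrum Γ(X, U.1) |
        LocCoh.IsGorensteinLocalRing (Localization.AtPrime p.asIdeal)} := by
    ext y
    exact Groth.Agent.Lib.Helper18.DSch.gor_stalk_iff U y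
  rw [hset]
  exact h

end Groth.Agent.S3621
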