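import Groth.Statements.S3622
import Mathlib
import Groth.Agent.Lib.Helper18.DSchD
import Groth.Agent.Lib.Helper18.DSchE

set_option autoImplicit false
universe u
open CategoryTheory CategoryTheory.Limits AlgebraicGeometry
attribute [local instance] HasDerivedCategory.standard
open Dual3

namespace Groth.Agent.S3622

/-- Let X be a Gorenstein scheme (exactness instances as in the definition of dualizing complexes on
schemes). Then X has a dualizing complex if and only if the structure sheaf placed in degree 0 is a
dualizing complex on X. -/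
theorem result (X : Scheme.{u}) (hX : Dual3.IsGorenstein X) [∀ (U V : Scheme.{u}) (j : U ⟶ V) [IsOpenImmersion j], PreservesFiniteLimits (Scheme.Modules.restrictFunctor j)] [∀ (R : CommRingCat.{u}), PreservesFiniteLimits (tilde.functor R)] : (∃ K : DCoh.D X, Dual2.IsDualizingSch X K) ↔ Dual2.IsDualizingSch X (DCoh.inD X (Coh.structureModule X)) := by
  refine ⟨fun ⟨K, hK⟩ => ?_, fun h => ⟨_, h⟩⟩
  intro A _ j _
  obtain ⟨ωA, hωA, -⟩ := hK A j
  haveI : IsNoetherianRing A := hωA.isNoetherianRing
  exact ⟨Dual.inD A A,
    Groth.Agent.Lib.Helper18.DR.DSchD.isDualizing_self_of_gorenstein ωA hωA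
      (fun p => Groth.Agent.Lib.Helper18.DSch.gor_localization_of_isGorenstein j hX p),
    ⟨Groth.Agent.Lib.Helper18.DSch.restrictDUnitIso j⟩⟩

end Groth.Agent.S3622
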