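import Groth.Statements.S3675
import Mathlib
import Groth.Agent.Lib.Helper18.DSchB
import Groth.Agent.Lib.Helper18.DSchC

set_option autoImplicit false
universe u
open CategoryTheory CategoryTheory.Limits AlgebraicGeometry
attribute [local instance] HasDerivedCategory.standard
open Dual3

namespace Groth.Agent.S3675

/-- Let X be a locally Noetherian scheme (exactness instances as in the definition of dualizing
complexes) and ω a coherent O_X-module such that ω[0] is a dualizing complex on X. Then X is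
Cohen–Macaulay: every local ring O_{X,x} is a Cohen–Macaulay local ring. -/
theorem result (X : Scheme.{u}) [IsLocallyNoetherian X] [∀ (U V : Scheme.{u}) (j : U ⟶ V) [IsOpenImmersion j], PreservesFiniteLimits (Scheme.Modules.restrictFunctor j)] [∀ (R : CommRingCat.{u}), PreservesFiniteLimits (tilde.functor R)] (ω : X.Modules) (hω : Coh.IsCoh ω) (hD : Dual2.IsDualizingSch X (DCoh.inD X ω)) (x : X) : LocCoh.IsCohenMacaulayLocalRing (X.presheaf.stalk x) := by
  obtain ⟨_, ⟨U, hU, rfl⟩, hxU, -⟩ :=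
    X.isBasis_affineOpens.exists_subset_of_mem_open (Set.mem_univ x) isOpen_univ
  obtain ⟨y, rfl⟩ := Groth.Agent.Lib.Helper18.DSch.exists_prime_of_mem ⟨U, hU⟩ x hxU
  let U' : X.affineOpens := ⟨U, hU⟩
  obtain ⟨ωA, hωA, ⟨e⟩⟩ := Groth.Agent.Lib.Helper18.DSch.exists_chart (DCoh.inD X ω) hD U'
  haveI : IsNoetherianRing Γ(X, U) := IsLocallyNoetherian.component_noetherian U'
  rw [Groth.Agent.Lib.Helper18.DSch.cm_stalk_iff U' y,
    Groth.Agent.Lib.Helper18.DR.DSchB.cm_iff_existsUnique ωA hωA y]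
  simp only [← Groth.Agent.Lib.Helper18.DSch.nontrivial_stalk_HD_iff (DCoh.inD X ω) U' ωA e]
  have huniq : ∀ i : ℤ, Nontrivial ((DCoh.HD (DCoh.inD X ω) i).presheaf.stalk (U'.2.fromSpec y)) →
      i = 0 := by
    intro i hi
    by_contra hne
    have hz : IsZero (DCoh.HD (DCoh.inD X ω) i) := by
      rcases lt_or_gt_of_ne hne with h | h
      · exact DerivedCategory.isZero_of_isGE (DCoh.inD X ω) 0 i h
      · exact DerivedCategory.isZero_of_isLE (DCoh.inD X ω) 0 i h
    haveI := Groth.Agent.Lib.Helper3.ModBasic.subsingleton_stalk_of_isZero hz (U'.2.fromSpec y)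
    exact not_subsingleton _ ‹_›
  obtain ⟨i, hi⟩ := Groth.Agent.Lib.Helper18.DR.DSchB.exists_mem_support ωA hωA y
  rw [Groth.Agent.Lib.Helper18.DR.DSchB.mem_support_hom_iff_HD,
    ← Groth.Agent.Lib.Helper18.DSch.nontrivial_stalk_HD_iff (DCoh.inD X ω) U' ωA e] at hi
  refine ⟨i, hi, fun j hj => ?_⟩
  rw [huniq j hj, huniq i hi]

end Groth.Agent.S3675
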