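import Groth.Statements.S3682
import Mathlib
import Groth.Agent.Lib.Helper11.GalConn

set_option autoImplicit false
universe u
open Pi1

namespace Groth.Agent.S3682

open AlgebraicGeometry CategoryTheory CategoryTheory.Limits in
/-- The part saying that the homomorphism from the fundamental group of X x_k Y to the product of the
fundamental groups is surjective, in terms of covers. Let k be algebraically closed, X proper and
connected over k, Y locally Noetherian and connected over k. If X' is a connected finite etale cover
of X and Y' a connected finite etale cover of Y, then the product of X' and Y' over k is connected. -/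
theorem result (k : Type u) [Field k] [IsAlgClosed k] {X Y : Scheme.{u}}
    (pX : X ⟶ Spec (CommRingCat.of k)) (pY : Y ⟶ Spec (CommRingCat.of k)) [IsProper pX] [ConnectedSpace X]
    [IsLocallyNoetherian Y] [ConnectedSpace Y]
    (X' : FEt.Cat X) [ConnectedSpace X'.left] (Y' : FEt.Cat Y) [ConnectedSpace Y'.left] :
    ConnectedSpace ↥(pullback (X'.hom ≫ pX) (Y'.hom ≫ pY)) := by

  let φ : X'.left ⟶ Spec (CommRingCat.of k) := X'.hom ≫ pX
  let ψ : Y'.left ⟶ Spec (CommRingCat.of k) := Y'.hom ≫ pY
  haveI : Subsingleton ↥(Spec (CommRingCat.of k)) :=
    inferInstanceAs (Subsingleton (PrimeSpectrum k))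
  haveI : UniversallyOpen φ := inferInstance
  haveI hgc : GeometricallyConnected φ := by
    haveI : IsIso (Spec.map (CommRingCat.ofHom (algebraMap k k))) := by
      have h1 : CommRingCat.ofHom (algebraMap k k) = 𝟙 (CommRingCat.of k) := rfl
      rw [h1, Spec.map_id]
      infer_instance
    haveI : IsIso (FBase.bcπ φ k) :=
      inferInstanceAs (IsIso (pullback.fst φ (Spec.map (CommRingCat.ofHom (algebraMap k k)))))
    haveI : ConnectedSpace ↥(FBase.bc φ k) :=
      (FBase.bcπ φ k).homeomorph.symm.surjective.connectedSpace
        (FBase.bcπ φ k).homeomorph.symm.continuous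
    exact Groth.Agent.Lib.Helper11.GalConn.geometricallyConnected_of_isSepClosed φ k
  let p₂ : pullback φ ψ ⟶ Y'.left := pullback.snd φ ψ
  haveI : GeometricallyConnected p₂ := inferInstance
  haveI : UniversallyOpen p₂ := inferInstance
  haveI : Surjective p₂ := inferInstance
  have hq : Topology.IsQuotientMap p₂ :=
    p₂.isOpenMap.isQuotientMap p₂.continuous p₂.surjective
  have hconn : _root_.IsConnected (p₂ ⁻¹' Set.univ) :=
    hq.isCoinducing.isConnected_preimage_of_isClosed
      (fun y => p₂.isConnected_preimage_singleton y) isClosed_univ isConnected_univ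
  rw [Set.preimage_univ] at hconn
  exact connectedSpace_iff_univ.mpr hconn

end Groth.Agent.S3682
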