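import Groth.Statements.S3707
import Mathlib.AlgebraicGeometry.PullbackCarrier

set_option autoImplicit false
universe u
open SGA1

namespace Groth.Agent.S3707

open AlgebraicGeometry CategoryTheory CategoryTheory.Limits in
/-- Let g : S' -> S be a surjective morphism of schemes, X and Y schemes over S with Y unramified over S
(formally unramified and locally of finite type), and X', Y' their base changes to S'. Then the map
sending an S-morphism X -> Y to the induced S'-morphism X' -> Y' is injective. -/
theorem result {S S' X Y : Scheme.{u}} (g : S' ⟶ S) [Surjective g]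
    (p : X ⟶ S) (q : Y ⟶ S) [FormallyUnramified q] [LocallyOfFiniteType q]
    (u v : X ⟶ Y) (hu : p ≫ 𝟙 S = u ≫ q) (hv : p ≫ 𝟙 S = v ≫ q)
    (h : pullback.map p g q g u (𝟙 S') (𝟙 S) hu ((Category.comp_id _).trans (Category.id_comp _).symm) =
      pullback.map p g q g v (𝟙 S') (𝟙 S) hv ((Category.comp_id _).trans (Category.id_comp _).symm)) :
    u = v := by
  have hπ : pullback.fst p g ≫ u = pullback.fst p g ≫ v := by
    have h1 := congrArg (· ≫ pullback.fst q g) h
    simpa [pullback.map, pullback.lift_fst] using h1
  have huq : u ≫ q = v ≫ q := by rw [← hu, ← hv]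
  have hcomp : (pullback.fst p g ≫ u) ≫ pullback.diagonal q =
      pullback.fst p g ≫ pullback.lift u v huq := by
    apply pullback.hom_ext
    · simp [pullback.lift_fst]
    · simp [hπ, pullback.lift_snd]
  have hrange : Set.range (pullback.lift u v huq) ⊆ Set.range (pullback.diagonal q) := by
    rintro _ ⟨x, rfl⟩
    obtain ⟨x', rfl⟩ := (pullback.fst p g).surjective x
    refine ⟨(pullback.fst p g ≫ u) x', ?_⟩
    rw [← Scheme.Hom.comp_apply, ← Scheme.Hom.comp_apply, hcomp]
  have hfac := IsOpenImmersion.lift_fac (pullback.diagonal q) (pullback.lift u v huq) hrange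
  have e1 := congrArg (· ≫ pullback.fst q q) hfac
  have e2 := congrArg (· ≫ pullback.snd q q) hfac
  simp only [Category.assoc, pullback.diagonal_fst, pullback.diagonal_snd, Category.comp_id,
    pullback.lift_fst, pullback.lift_snd] at e1 e2
  exact e1.symm.trans e2

end Groth.Agent.S3707
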