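import Groth.Statements.S3709
import Groth.Agent.Lib.Helper11.UD1

set_option autoImplicit false
universe u
open SGA1

namespace Groth.Agent.S3709

open Groth.Agent.Lib.Helper11 AlgebraicGeometry CategoryTheory CategoryTheory.Limits

theorem core {S S' X Y : Scheme.{u}} (g : S' ⟶ S) (hg : SGA1.UnivSubmersive g)
    (p : X ⟶ S) (q : Y ⟶ S) [Etale q]
    (tau : pullback p g ⟶ Y) (htau : tau ≫ q = pullback.fst p g ≫ p)
    (hcoc : pullback.fst (pullback.fst p g) (pullback.fst p g) ≫ tau =
      pullback.snd (pullback.fst p g) (pullback.fst p g) ≫ tau) :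
    ∃! u : X ⟶ Y, u ≫ q = p ∧ tau = pullback.fst p g ≫ u := by
  have hh : Function.Surjective (pullback.fst p g) :=
    (hg (pullback.snd p g) p (pullback.fst p g) (IsPullback.of_hasPullback p g)).surjective
  haveI : Surjective (pullback.fst p g) := ⟨hh⟩
  have hquot : Topology.IsQuotientMap (pullback.fst (pullback.snd q p) (pullback.fst p g)) :=
    hg _ _ _ ((IsPullback.of_hasPullback (pullback.snd q p) (pullback.fst p g)).paste_vert
      (IsPullback.of_hasPullback p g))
  let tau' : pullback p g ⟶ pullback q p := pullback.lift tau (pullback.fst p g) htau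
  have htau'₁ : tau' ≫ pullback.fst q p = tau := pullback.lift_fst _ _ _
  have htau'₂ : tau' ≫ pullback.snd q p = pullback.fst p g := pullback.lift_snd _ _ _
  let σ' : pullback p g ⟶ pullback (pullback.snd q p) (pullback.fst p g) :=
    pullback.lift tau' (𝟙 _) (by rw [htau'₂, Category.id_comp])
  have hσ'₁ : σ' ≫ pullback.fst (pullback.snd q p) (pullback.fst p g) = tau' := pullback.lift_fst _ _ _
  have hσ'₂ : σ' ≫ pullback.snd (pullback.snd q p) (pullback.fst p g) = 𝟙 _ := pullback.lift_snd _ _ _
  obtain ⟨σ, hσ1, hσ2⟩ := UD1.exists_section (pullback.snd q p) (pullback.fst p g) σ' hσ'₂ (by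
    rw [hσ'₁]
    apply pullback.hom_ext
    · rw [Category.assoc, Category.assoc, htau'₁, hcoc]
    · rw [Category.assoc, Category.assoc, htau'₂, pullback.condition]) hh hquot
  rw [hσ'₁] at hσ2
  refine ⟨σ ≫ pullback.fst q p, ⟨?_, ?_⟩, ?_⟩
  · rw [Category.assoc, pullback.condition, reassoc_of% hσ1]
  · rw [← reassoc_of% hσ2, htau'₁]
  · rintro u ⟨hu1, hu2⟩
    refine UD1.hom_ext_of_surjective q (pullback.fst p g) _ _ ?_ ?_
    · rw [hu1, Category.assoc, pullback.condition, reassoc_of% hσ1]
    · rw [← hu2, ← reassoc_of% hσ2, htau'₁]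

open AlgebraicGeometry CategoryTheory CategoryTheory.Limits in
/-- A universally submersive morphism is a descent morphism for etale schemes (exactness of Hom_S(X, Y)
-> Hom_S'(X', Y') => Hom_S''(X'', Y'')): let g : S' -> S be universally submersive, X and Y schemes
over S with Y etale over S, X' and Y' their base changes along g, and f' : X' -> Y' an S'-morphism
whose two pullbacks to S'' = S' x_S S' coincide (equivalently: the two composites X'' -> X' -> Y' ->
Y along the two projections agree). Then there is exactly one S-morphism u : X -> Y whose base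
change is f'. -/
theorem result {S S' X Y : Scheme.{u}} (g : S' ⟶ S) (hg : SGA1.UnivSubmersive g)
    (p : X ⟶ S) (q : Y ⟶ S) [Etale q]
    (f' : pullback p g ⟶ pullback q g) (hf' : f' ≫ pullback.snd q g = pullback.snd p g)
    (hcoc : pullback.map p (pullback.fst g g ≫ g) p g (𝟙 X) (pullback.fst g g) (𝟙 S)
        ((Category.comp_id _).trans (Category.id_comp _).symm) (Category.comp_id _) ≫ f' ≫ pullback.fst q g =
      pullback.map p (pullback.fst g g ≫ g) p g (𝟙 X) (pullback.snd g g) (𝟙 S)
        ((Category.comp_id _).trans (Category.id_comp _).symm) ((Category.comp_id _).trans pullback.condition) ≫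
        f' ≫ pullback.fst q g) :
    ∃! u : X ⟶ Y, u ≫ q = p ∧ f' ≫ pullback.fst q g = pullback.fst p g ≫ u := by
  let n : pullback (pullback.fst p g) (pullback.fst p g) ⟶ pullback p (pullback.fst g g ≫ g) :=
    pullback.lift (pullback.fst _ _ ≫ pullback.fst p g)
      (pullback.lift (pullback.fst _ _ ≫ pullback.snd p g) (pullback.snd _ _ ≫ pullback.snd p g) (by
        rw [Category.assoc, Category.assoc, ← pullback.condition,
          ← Category.assoc, ← Category.assoc, pullback.condition])) (by
        rw [pullback.lift_fst_assoc, Category.assoc, Category.assoc, pullback.condition])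
  have hn₁ : n ≫ pullback.fst p _ = pullback.fst _ _ ≫ pullback.fst p g := pullback.lift_fst _ _ _
  have hn₂f : n ≫ pullback.snd p _ ≫ pullback.fst g g = pullback.fst _ _ ≫ pullback.snd p g := by
    rw [pullback.lift_snd_assoc, pullback.lift_fst]
  have hn₂s : n ≫ pullback.snd p _ ≫ pullback.snd g g = pullback.snd _ _ ≫ pullback.snd p g := by
    rw [pullback.lift_snd_assoc, pullback.lift_snd]
  have hM₁ : n ≫ pullback.map p (pullback.fst g g ≫ g) p g (𝟙 X) (pullback.fst g g) (𝟙 S)
      ((Category.comp_id _).trans (Category.id_comp _).symm) (Category.comp_id _) =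
      pullback.fst (pullback.fst p g) (pullback.fst p g) := by
    apply pullback.hom_ext
    · rw [Category.assoc, pullback.lift_fst, Category.comp_id, hn₁]
    · rw [Category.assoc, pullback.lift_snd, hn₂f]
  have hM₂ : n ≫ pullback.map p (pullback.fst g g ≫ g) p g (𝟙 X) (pullback.snd g g) (𝟙 S)
      ((Category.comp_id _).trans (Category.id_comp _).symm)
      ((Category.comp_id _).trans pullback.condition) =
      pullback.snd (pullback.fst p g) (pullback.fst p g) := by
    apply pullback.hom_ext
    · rw [Category.assoc, pullback.lift_fst, Category.comp_id, hn₁, pullback.condition]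
    · rw [Category.assoc, pullback.lift_snd, hn₂s]
  obtain ⟨u, ⟨hu1, hu2⟩, huniq⟩ := core g hg p q (f' ≫ pullback.fst q g) (by
      rw [Category.assoc, pullback.condition, reassoc_of% hf', pullback.condition]) (by
      rw [← hM₁, ← hM₂, Category.assoc, Category.assoc, hcoc])
  exact ⟨u, ⟨hu1, hu2⟩, fun v hv => huniq v hv⟩

end Groth.Agent.S3709
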