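-- Statement S3719.
import Groth.Statements.S3719
import Groth.Agent.Lib.Helper1.AmpleConn3
import Groth.Agent.Lib.Helper24.FEtNormal

set_option autoImplicit false
universe u
open Pi1

namespace Groth.Agent.S3719

open AlgebraicGeometry CategoryTheory CategoryTheory.Limits in
/-- Let k be algebraically closed, X a proper, irreducible, normal k-scheme, g : X -> P^r_k a k-morphism
whose image has closure of dimension at least 2, H the hyperplane where a nonzero linear form ℓ
vanishes, and X' a connected finite etale cover of X. Then the inverse image of H in X' is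
connected. (For X' = X this is the connectedness of the hyperplane section Y = g⁻¹(H), and the
general case is the surjectivity of the fundamental group of Y onto that of X.) -/
theorem result (k : Type u) [Field k] [IsAlgClosed k] (X : Scheme.{u})
    [X.Over (Spec (CommRingCat.of k))] [IsProper (X ↘ Spec (CommRingCat.of k))] [IrreducibleSpace X]
    (hN : Pi1.IsNormalScheme X) (r : ℕ) (g : X ⟶ CohB1.ProjSpace r k)
    (hg : g ≫ CohB1.ProjSpace.toSpec r k = X ↘ Spec (CommRingCat.of k))
    (hdim : 2 ≤ topologicalKrullDim ↥(closure (Set.range g.base)))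
    (ℓ : MvPolynomial (Fin (r + 1)) k) (hℓ : ℓ ∈ CohB1.polyGrading r k 1) (hℓ0 : ℓ ≠ 0)
    (X' : FEt.Cat X) [ConnectedSpace X'.left] :
    IsConnected (((X'.hom ≫ g).base ⁻¹' (Proj.basicOpen (CohB1.polyGrading r k) ℓ).carrier)ᶜ) := by
  haveI : IsReduced X := by
    haveI : ∀ x : X, _root_.IsReduced (X.presheaf.stalk x) := fun x => by
      haveI := (hN x).1
      infer_instance
    exact isReduced_of_isReduced_stalk X
  haveI : IsIntegral X := isIntegral_of_irreducibleSpace_of_isReduced X
  obtain ⟨hint, -⟩ := Groth.Agent.Lib.Helper24.FEtNormal.main hN X'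
  haveI := hint
  have hY : IsFinite X'.hom ∧ Etale X'.hom := X'.prop
  obtain ⟨φ, hφ⟩ : ∃ φ : X'.left ⟶ X, φ = X'.hom := ⟨_, rfl⟩
  haveI : IsFinite φ := hφ ▸ hY.1
  haveI : Etale φ := hφ ▸ hY.2
  have hsurj : Function.Surjective φ.base := by
    have hopen : IsOpen (Set.range φ.base) := φ.isOpenMap.isOpen_range
    have hclosed : IsClosed (Set.range φ.base) := φ.isClosedMap.isClosed_range
    have hne : (Set.range φ.base).Nonempty := Set.range_nonempty _
    exact Set.range_eq_univ.mp (IsClopen.eq_univ ⟨hclosed, hopen⟩ hne)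
  rw [← hφ]
  have hrange : Set.range (φ ≫ g).base = Set.range g.base := by
    ext p
    constructor
    · rintro ⟨w, rfl⟩
      exact ⟨φ.base w, rfl⟩
    · rintro ⟨x, rfl⟩
      obtain ⟨w, rfl⟩ := hsurj x
      exact ⟨w, rfl⟩
  haveI : IsProper (φ ≫ (X ↘ Spec (CommRingCat.of k))) := inferInstance
  refine Groth.Agent.Lib.Helper1.AmpleConn3.isConnected_preimage_compl_basicOpen k X'.left
    (φ ≫ (X ↘ Spec (CommRingCat.of k))) r (φ ≫ g) (by rw [Category.assoc, hg]) ?_ ℓ hℓ
  rw [hrange]
  exact hdim

end Groth.Agent.S3719
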