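import Groth.Statements.S3724
import Mathlib
import Groth.Agent.S6620
import Groth.Agent.Lib.Helper18.InjAmpP

set_option autoImplicit false
universe u
open CategoryTheory CategoryTheory.Limits AlgebraicGeometry Opposite
attribute [local instance] HasDerivedCategory.standard
open EtDl

namespace Groth.Agent.S3724

/-- Let f : X -> S be a morphism of quasi-compact quasi-separated schemes with a compactification c, Λ a
commutative ring with n·1 = 0 for some n ≥ 1, and Rf^! any right adjoint of Rf_! : D^+(X_et, Λ) ->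
D^+(S_et, Λ). Let L in D^b(S_et, Λ) have injective dimension at most m, in the sense that Hom(F,
L[i]) = 0 for every sheaf of Λ-modules F on S_et and every i > m. Then Rf^! L has injective
dimension at most m in the same sense on X_et. -/
theorem result {X S : Scheme.{u}} [CompactSpace ↥X] [QuasiSeparatedSpace ↥X] [CompactSpace ↥S] [QuasiSeparatedSpace ↥S]
    {f : X ⟶ S} (c : DEt.Compactification f)
    (Λ : Type (u + 1)) [CommRing Λ] (n : ℕ) (hn : 0 < n) (hΛ : (n : Λ) = 0)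
    (G : DerivedCategory.Plus (EtModW.Mod Λ S) ⥤ DerivedCategory.Plus (EtModW.Mod Λ X))
    (adj : EtDl.RshriekPlus Λ c ⊣ G) (L : DerivedCategory.Plus (EtModW.Mod Λ S)) (a b : ℤ)
    (ha : L.IsGE a) (hb : L.IsLE b) (m : ℤ)
    (hL : ∀ (F : EtModW.Mod Λ S) (i : ℤ), m < i →
      Subsingleton ((DerivedCategory.Plus.singleFunctor (EtModW.Mod Λ S) 0).obj F ⟶ L⟦i⟧))
    (F : EtModW.Mod Λ X) (i : ℤ) (hi : m < i) :
    Subsingleton ((DerivedCategory.Plus.singleFunctor (EtModW.Mod Λ X) 0).obj F ⟶ (G.obj L)⟦i⟧) := by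
  haveI := ha
  let S₀ := (DerivedCategory.Plus.singleFunctor (EtModW.Mod Λ X) 0).obj F
  haveI h0 : (S₀⟦(-i : ℤ)⟧).IsGE i :=
    DerivedCategory.Plus.TStructure.t.isGE_shift S₀ 0 (-i) i (by omega)
  haveI h1 : ((EtDl.extZeroPlus Λ c.j).obj (S₀⟦(-i : ℤ)⟧)).IsGE i :=
    Groth.Agent.S6620.result _ _ i
  haveI h2 : ((EtDl.RshriekPlus Λ c).obj (S₀⟦(-i : ℤ)⟧)).IsGE i :=
    Groth.Agent.S6620.result (EtModW.push Λ c.fbar) ((EtDl.extZeroPlus Λ c.j).obj (S₀⟦(-i : ℤ)⟧)) i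
  haveI h3 : ((EtDl.RshriekPlus Λ c).obj (S₀⟦(-i : ℤ)⟧)).IsGE (m + 1) :=
    DerivedCategory.Plus.TStructure.t.isGE_of_ge _ (m + 1) i (by omega)
  haveI hsub : Subsingleton ((EtDl.RshriekPlus Λ c).obj (S₀⟦(-i : ℤ)⟧) ⟶ L) :=
    ⟨fun f g => by
      rw [Groth.Agent.Lib.Helper18.InjAmpG.plus_hom_eq_zero L a m hL _ f,
        Groth.Agent.Lib.Helper18.InjAmpG.plus_hom_eq_zero L a m hL _ g]⟩
  haveI hsub2 : Subsingleton (S₀⟦(-i : ℤ)⟧ ⟶ G.obj L) := (adj.homEquiv _ _).symm.subsingleton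
  refine ⟨fun φ₁ φ₂ => ?_⟩
  apply (shiftFunctor (DerivedCategory.Plus (EtModW.Mod Λ X)) (-i)).map_injective
  rw [← cancel_mono ((shiftFunctorCompIsoId (DerivedCategory.Plus (EtModW.Mod Λ X)) i (-i)
    (by omega)).hom.app (G.obj L))]
  exact hsub2.elim _ _

end Groth.Agent.S3724
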