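import Groth.Statements.S3756
import Groth.Agent.Lib.Helper7.RegPush

set_option autoImplicit false
universe v u
open CategoryTheory CategoryTheory.Limits AlgebraicGeometry
attribute [local instance] HasDerivedCategory.standard
open KRR

namespace Groth.Agent.S3756

/-- Let Y be a Noetherian scheme, p : P = P^n_Y ⟶ Y, and F a finite locally free O_P-module which is
regular relative to p. Then p_* F is a finite locally free O_Y-module. -/
theorem result (n : ℕ) (Y : Scheme.{u}) [IsNoetherian Y]
    (F : (KRR.PY n Y).Modules) (hF : FlatMod.IsFinLocFree F) (hreg : KRR.IsRegSheaf n Y F) :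
    FlatMod.IsFinLocFree ((Scheme.Modules.pushforward (KRR.pr n Y)).obj F) := by
  haveI : F.IsQuasicoherent := (Groth.Agent.Lib.Helper7.RegPush.isCoh_of_isFinLocFree hF).1
  exact Groth.Agent.Lib.Helper7.RegPush.isFinLocFree_push n Y F hF
    (fun i hi => Groth.Agent.Lib.Helper7.PnOver.isZero_RpushAb_of_regular n Y F hreg i hi)

end Groth.Agent.S3756
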