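import Groth.Statements.S3759
import Groth.Agent.Lib.Helper7.PnPushUnit
import Groth.Agent.Lib.Helper2.K0Der.Basic
import Groth.Agent.Lib.Helper13.PerfLocal
import Groth.Agent.Lib.Helper3.LocFreeCrit

set_option autoImplicit false
universe v u
open CategoryTheory CategoryTheory.Limits AlgebraicGeometry
attribute [local instance] HasDerivedCategory.standard
open KRR

namespace Groth.Agent.S3759

open ZeroObject

/-- With R5, R6; the degree-0 case: let Y be a connected Noetherian scheme, p : P = P^n_Y ⟶ Y, and (KP,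
PP, φP), (KY, PY, φY) models of K(P), K(Y) with g = p_K the push-forward ([F] ↦ [p_*F] for regular
finite locally free F). Then p_K [O_P] = 1. -/
theorem result (n : ℕ) (Y : Scheme.{u}) [IsNoetherian Y] [ConnectedSpace ↥Y]
    (KP : Type v) [CommRing KP] [LambdaRing.LambdaOps KP] (PP : LambdaRing.PosStructure KP) (φP : SGA6.Kvb (KRR.PY n Y) →+ KP) (hKP : KRR.IsModel (KRR.PY n Y) KP PP φP)
    (KY : Type v) [CommRing KY] [LambdaRing.LambdaOps KY] (PY : LambdaRing.PosStructure KY) (φY : SGA6.Kvb Y →+ KY) (hKY : KRR.IsModel Y KY PY φY)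
    (g : KP →+ KY) (hg : KRR.IsPushPr n Y φP φY g) :
    g (φP (KRR.cl (KRR.PY n Y) (Coh.structureModule (KRR.PY n Y)))) = 1 := by
  have hO := Groth.Agent.Lib.Helper26.FinPush.isFinLocFree_structureModule (KRR.PY n Y)
  have hOY := Groth.Agent.Lib.Helper26.FinPush.isFinLocFree_structureModule Y
  rw [hg _ hO (Groth.Agent.Lib.Helper7.PnPushUnit.isRegSheaf_structureModule n Y)]
  obtain ⟨e⟩ := Groth.Agent.Lib.Helper7.PnPushUnit.nonempty_push_iso n Y
  have hpush : FlatMod.IsFinLocFree ((Scheme.Modules.pushforward (KRR.pr n Y)).obj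
      (Coh.structureModule (KRR.PY n Y))) :=
    Groth.Agent.Lib.Helper3.LocFreeCrit.isFinLocFree_of_iso e.symm hOY
  have h0 : KRR.vbP Y (0 : Y.Modules) :=
    Groth.Agent.Lib.Helper13.PerfLocal.isFinLocFree_of_isZero (Limits.isZero_zero _)
  have hcl : KRR.cl Y ((Scheme.Modules.pushforward (KRR.pr n Y)).obj
      (Coh.structureModule (KRR.PY n Y))) = KRR.cl Y (Coh.structureModule Y) := by
    change KZero.clSub (KRR.vbP Y) _ = KZero.clSub (KRR.vbP Y) _
    rw [Groth.Agent.Lib.Helper2.K0Der.clSub_eq (KRR.vbP Y) hpush,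
      Groth.Agent.Lib.Helper2.K0Der.clSub_eq (KRR.vbP Y) hOY]
    exact Groth.Agent.Lib.Helper2.K0Res.cl_iso (KRR.vbP Y) e hpush hOY h0
  rw [hcl]
  exact hKY.map_one

end Groth.Agent.S3759
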