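import Groth.Statements.S3808
import Groth.Agent.Lib.Helper6.PPBasic

set_option autoImplicit false
universe u
open scoped TensorProduct
open PP16

namespace Groth.Agent.S3808

/-- Let A → B be a ring map, R a multiplicative subset of A, S one of B containing the image of R, and
A' = R⁻¹A, B' = S⁻¹B with the induced map A' → B'. Then the canonical map P^n_{B'/A} → P^n_{B'/A'}
is bijective. -/
theorem result (n : ℕ) (A B A' B' : Type u) [CommRing A] [CommRing B] [Algebra A B]
    [CommRing A'] [CommRing B'] [Algebra A A'] [Algebra B B'] [Algebra A' B'] [Algebra A B']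
    [IsScalarTower A A' B'] [IsScalarTower A B B'] (R : Submonoid A) (S : Submonoid B) [IsLocalization R A']
    [IsLocalization S B'] (hRS : ∀ r ∈ R, algebraMap A B r ∈ S) :
    Function.Bijective (PP16.map n A B' A' B') := by
  have hs : Function.Surjective (algebraMap B' B') := fun c => ⟨c, rfl⟩
  obtain ⟨h1, h2⟩ := Groth.Agent.Lib.Helper6.PPBasic.map_surjective_ker n A B' A' B' hs
  have hker : RingHom.ker (PP16.tensorMap A B' A' B') = ⊥ := by
    haveI : TensorProduct.CompatibleSMul A A' B' B' :=
      IsLocalization.tensorProduct_compatibleSMul R A' B' B'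
    rw [eq_bot_iff]
    intro x hx
    have key : ∀ y : B' ⊗[A] B', TensorProduct.mapOfCompatibleSMul A A' A B' B'
        (PP16.tensorMap A B' A' B' y) = y := by
      intro y
      induction y using TensorProduct.induction_on with
      | zero => simp
      | tmul b c => rw [PP16.tensorMap_tmul]; simp
      | add y z hy hz => rw [map_add, map_add, hy, hz]
    rw [Ideal.mem_bot, ← key x, (RingHom.mem_ker).1 hx, map_zero]
  refine ⟨?_, h1⟩
  rw [injective_iff_map_eq_zero]
  intro x hx
  have hx' : x ∈ RingHom.ker (PP16.map n A B' A' B') := hx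
  rw [h2, hker, Ideal.map_bot] at hx'
  exact hx'

end Groth.Agent.S3808
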