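import Groth.Statements.S3814
import Mathlib

set_option autoImplicit false
universe u
open scoped TensorProduct
open PP16

namespace Groth.Agent.S3814

/-- If B is an A-algebra of finite presentation, then for every n the B-module P^n_{B/A} of principal
parts of order n is of finite presentation. -/
theorem result (n : ℕ) (A B : Type u) [CommRing A] [CommRing B]
    [Algebra A B] [Algebra.FinitePresentation A B] :
    Module.FinitePresentation B (PP16.P n A B) := by
  haveI : Algebra.FinitePresentation B (TensorProduct A B B) := inferInstance
  have hfg : ((KaehlerDifferential.ideal A B) ^ (n + 1)).FG :=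
    (KaehlerDifferential.ideal_fg A B).pow
  haveI : Algebra.FinitePresentation B (PP16.P n A B) :=
    Algebra.FinitePresentation.quotient hfg
  haveI : Algebra.IsIntegral B (PP16.P n A B) := by
    constructor
    intro p
    obtain ⟨t, rfl⟩ := Ideal.Quotient.mk_surjective p
    have hmem : t - TensorProduct.tmul A (Algebra.TensorProduct.lmul' A t) (1 : B) ∈
        KaehlerDifferential.ideal A B := by
      show t - _ ∈ RingHom.ker _
      rw [RingHom.mem_ker, map_sub, sub_eq_zero]
      simp [Algebra.TensorProduct.lmul'_apply_tmul]
    have h1 : IsIntegral B (Ideal.Quotient.mk ((KaehlerDifferential.ideal A B) ^ (n + 1))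
        (TensorProduct.tmul A (Algebra.TensorProduct.lmul' A t) (1 : B))) :=
      isIntegral_algebraMap (x := Algebra.TensorProduct.lmul' A t)
    have h2 : IsIntegral B (Ideal.Quotient.mk ((KaehlerDifferential.ideal A B) ^ (n + 1))
        (t - TensorProduct.tmul A (Algebra.TensorProduct.lmul' A t) (1 : B))) := by
      apply IsIntegral.of_pow (n := n + 1) (Nat.succ_pos n)
      rw [← map_pow, Ideal.Quotient.eq_zero_iff_mem.mpr (Ideal.pow_mem_pow hmem (n + 1))]
      exact isIntegral_zero
    have h3 : Ideal.Quotient.mk ((KaehlerDifferential.ideal A B) ^ (n + 1)) t =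
        Ideal.Quotient.mk ((KaehlerDifferential.ideal A B) ^ (n + 1))
          (TensorProduct.tmul A (Algebra.TensorProduct.lmul' A t) (1 : B)) +
        Ideal.Quotient.mk ((KaehlerDifferential.ideal A B) ^ (n + 1))
          (t - TensorProduct.tmul A (Algebra.TensorProduct.lmul' A t) (1 : B)) := by
      rw [← map_add, add_sub_cancel]
    rw [h3]
    exact h1.add h2
  haveI : Module.Finite B (PP16.P n A B) := Algebra.IsIntegral.finite
  exact Module.FinitePresentation.of_finite_of_finitePresentation B (PP16.P n A B)

end Groth.Agent.S3814
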