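import Groth.Statements.S3830
import Mathlib

set_option autoImplicit false
universe u
open Unram17

namespace Groth.Agent.S3830

/-- b) implies a) (affine pointwise form): let B be an A-algebra of finite presentation and q a prime of
B. If B is smooth over A at q and quasi-finite over A at q, then B is étale over A at q. -/
theorem result (A B : Type u) [CommRing A] [CommRing B] [Algebra A B]
    [Algebra.FinitePresentation A B] (q : Ideal B) [q.IsPrime] [Algebra.QuasiFiniteAt A q]
    (h : Algebra.IsSmoothAt A q) : Algebra.IsEtaleAt A q := by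
  classical
  haveI : Algebra.IsSmoothAt A q := h
  obtain ⟨f, hfq, n, algPT, tower, hSE⟩ :=
    Algebra.IsSmoothAt.exists_isStandardEtale_mvPolynomial (R := A) (S := B) (p := q)
  letI := algPT
  haveI := tower
  haveI := hSE
  have hdisj : Disjoint (Submonoid.powers f : Set B) (q : Set B) :=
    (Ideal.disjoint_powers_iff_notMem_of_isPrime f).mpr hfq
  let Q : Ideal (Localization.Away f) := q.map (algebraMap B (Localization.Away f))
  haveI hQprime : Q.IsPrime :=
    IsLocalization.isPrime_of_isPrime_disjoint (.powers f) _ _ ‹q.IsPrime› hdisj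
  haveI : Q.LiesOver q :=
    IsLocalization.liesOver_map_of_isPrime_disjoint (.powers f) _ hdisj
  haveI : Algebra.QuasiFiniteAt A Q :=
    Algebra.QuasiFiniteAt.of_surjectiveOnStalks_of_liesOver q
      (RingHom.surjectiveOnStalks_of_isLocalization (.powers f) _) Q
  haveI : Algebra.Etale (MvPolynomial (Fin n) A) (Localization.Away f) := inferInstance
  have hn : n = 0 := by
    by_contra hn
    let i₀ : Fin n := ⟨0, Nat.pos_of_ne_zero hn⟩
    haveI : Module.Flat (MvPolynomial (Fin n) A) (Localization.Away f) := inferInstance
    haveI : Algebra.HasGoingDown (MvPolynomial (Fin n) A) (Localization.Away f) :=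
      Algebra.HasGoingDown.of_flat
    let p : Ideal A := Q.under A
    let pP : Ideal (MvPolynomial (Fin n) A) := p.map (MvPolynomial.C : A →+* MvPolynomial (Fin n) A)
    haveI : pP.IsPrime := by
      have : pP = RingHom.ker (MvPolynomial.map (σ := Fin n) (Ideal.Quotient.mk p)) := by
        rw [MvPolynomial.ker_map, Ideal.mk_ker]
      rw [this]
      exact RingHom.ker_isPrime _
    have hle : pP ≤ Q.under (MvPolynomial (Fin n) A) := by
      rw [Ideal.map_le_iff_le_comap]
      intro a ha
      change algebraMap (MvPolynomial (Fin n) A) (Localization.Away f) (MvPolynomial.C a) ∈ Q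
      rw [← MvPolynomial.algebraMap_eq, ← IsScalarTower.algebraMap_apply]
      exact ha
    obtain ⟨Q', hQ'le, hQ'prime, hQ'over⟩ :=
      Ideal.exists_ideal_le_liesOver_of_le (p := pP) (q := Q.under (MvPolynomial (Fin n) A)) Q hle
    haveI := hQ'prime
    have hunder : Q'.under A = Q.under A := by
      apply le_antisymm
      · exact Ideal.comap_mono hQ'le
      · intro a ha
        have h1 : (MvPolynomial.C a : MvPolynomial (Fin n) A) ∈ Q'.under (MvPolynomial (Fin n) A) := by
          rw [← hQ'over.over]
          exact Ideal.mem_map_of_mem _ ha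
        have h2 : algebraMap (MvPolynomial (Fin n) A) (Localization.Away f) (MvPolynomial.C a) ∈ Q' := h1
        rw [← MvPolynomial.algebraMap_eq, ← IsScalarTower.algebraMap_apply] at h2
        exact h2
    have hQ'Q : Q' = Q := Algebra.QuasiFiniteAt.eq_of_le_of_under_eq (R := A) hQ'le hunder
    have hQP : Q.under (MvPolynomial (Fin n) A) = pP := by
      rw [← hQ'Q]
      exact hQ'over.over.symm
    let fX : Polynomial A →ₐ[A] Localization.Away f :=
      Polynomial.aeval (algebraMap (MvPolynomial (Fin n) A) (Localization.Away f) (MvPolynomial.X i₀))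
    have hlt := Polynomial.map_under_lt_comap_of_quasiFiniteAt fX Q
    refine lt_irrefl _ (lt_of_lt_of_le hlt ?_)
    intro H hH
    have hH' : fX H ∈ Q := hH
    let ρ : MvPolynomial (Fin n) A →ₐ[A] Polynomial A :=
      MvPolynomial.aeval (fun i => if i = i₀ then Polynomial.X else 0)
    have h1 : fX H = algebraMap (MvPolynomial (Fin n) A) (Localization.Away f)
        (Polynomial.aeval (MvPolynomial.X i₀ : MvPolynomial (Fin n) A) H) :=
      Polynomial.aeval_algebraMap_apply (Localization.Away f)
        (MvPolynomial.X i₀ : MvPolynomial (Fin n) A) H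
    have h2 : Polynomial.aeval (MvPolynomial.X i₀ : MvPolynomial (Fin n) A) H ∈ pP := by
      rw [← hQP]
      change algebraMap (MvPolynomial (Fin n) A) (Localization.Away f) _ ∈ Q
      rw [← h1]
      exact hH'
    have h3 : ρ (Polynomial.aeval (MvPolynomial.X i₀ : MvPolynomial (Fin n) A) H) = H := by
      rw [← Polynomial.aeval_algHom_apply]
      simp [ρ]
    have h4 : ρ (Polynomial.aeval (MvPolynomial.X i₀ : MvPolynomial (Fin n) A) H) ∈
        pP.map (ρ : MvPolynomial (Fin n) A →+* Polynomial A) :=
      Ideal.mem_map_of_mem (ρ : MvPolynomial (Fin n) A →+* Polynomial A) h2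
    rw [h3] at h4
    have h5 : pP.map (ρ : MvPolynomial (Fin n) A →+* Polynomial A) = p.map Polynomial.C := by
      rw [Ideal.map_map]
      congr 1
      ext a
      simp [ρ]
    rw [h5] at h4
    exact h4
  subst hn
  haveI : Algebra.FormallyEtale A (MvPolynomial (Fin 0) A) :=
    Algebra.FormallyEtale.of_equiv (MvPolynomial.isEmptyAlgEquiv A (Fin 0)).symm
  haveI : Algebra.FormallyEtale A (Localization.Away f) :=
    Algebra.FormallyEtale.comp A (MvPolynomial (Fin 0) A) (Localization.Away f)
  exact Algebra.basicOpen_subset_etaleLocus_iff.mpr ‹_›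
    (show (⟨q, ‹q.IsPrime›⟩ : PrimeSpectrum B) ∈ (PrimeSpectrum.basicOpen f : Set _) from hfq)

end Groth.Agent.S3830
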