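import Groth.Statements.S5056
import Groth.Agent.Lib.Helper27.NagAU10
import Groth.Agent.Lib.Helper27.NagFin4
import Groth.Agent.S0499
open Groth.Agent.Lib.Helper27 TensorProduct

set_option autoImplicit false
universe u
open Hensel

namespace Groth.Agent.S5056

open IsLocalRing
set_option linter.style.haveILetI false
set_option linter.unusedSectionVars false

section
variable (A : Type u) [CommRing A] [IsNoetherianRing A] [HenselianLocalRing A] [IsDomain A]
  (h : EGA4.HasGeomNormalFormalFibres A) [IsDomain (AdicCompletion (maximalIdeal A) A)]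
  (K L : Type u) [Field K] [Field L] [Algebra A K] [IsFractionRing A K]
  [Algebra (AdicCompletion (maximalIdeal A) A) L]
  [IsFractionRing (AdicCompletion (maximalIdeal A) A) L] [Algebra K L] [Algebra A L]
  [IsScalarTower A K L] [IsScalarTower A (AdicCompletion (maximalIdeal A) A) L]

attribute [local instance] Algebra.TensorProduct.rightAlgebra

include h in
theorem isDomain_tensor_integralClosure (k' : Type u) [Field k'] [Algebra K k'] [Module.Finite K k']
    [Algebra A k'] [IsScalarTower A K k'] :
    IsDomain (L ⊗[A] integralClosure A k') ∧ Module.Finite A (integralClosure A k') := by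
  classical
  set Ahat := AdicCompletion (maximalIdeal A) A with hAhat
  have hinj : Function.Injective (algebraMap A k') := by
    rw [IsScalarTower.algebraMap_eq A K k']
    exact (algebraMap K k').injective.comp (IsFractionRing.injective A K)
  have hred : EGA4.HasGeomReducedFormalFibres A := by
    intro p _
    apply Groth.Agent.Lib.Helper14.GeomReducedFin.isGeometricallyReduced_of_forall_finite
    intro k'' _ _ hfin
    exact Groth.Agent.Lib.Helper14.GeomReducedFin.isReduced_of_forall_isDomain _
      (fun q _ => (h p k'' hfin q).1)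
  have hN2 : CAlg.IsN2 A := NagFinG.isN2_of_generic_formalFibre A (hred ⊥)
  have hN2' := (Groth.Agent.Lib.Helper12.NagataLoc.isN2_iff_N2' A).mp hN2
  haveI hfin : Module.Finite A (integralClosure A k') :=
    hN2' k' hinj (Groth.Agent.Lib.Helper12.N2.finGen_of_finiteDimensional A K k')
  refine ⟨?_, hfin⟩
  set A' := integralClosure A k' with hA'
  haveI : IsLocalRing A' := by
    obtain ⟨ι, _, B, _, hB, ⟨e⟩⟩ :=
      Groth.Agent.Lib.Helper8.exists_pi_local_of_finite_of_henselian A A'
    exact NagAU.isLocalRing_of_isDomain_of_pi B hB e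
  haveI : IsIntegrallyClosed A' := integralClosure.isIntegrallyClosedOfFiniteExtension K
  haveI hB : IsDomain (Ahat ⊗[A] A') := NagAU.isDomain_tensor_of_hasGeomNormalFormalFibres A A' h
  have hinjB : Function.Injective (algebraMap Ahat (Ahat ⊗[A] A')) := by
    have hA'inj : Function.Injective (algebraMap A A') := by
      intro x y hxy
      apply hinj
      have := congrArg (algebraMap A' k') hxy
      rwa [← IsScalarTower.algebraMap_apply, ← IsScalarTower.algebraMap_apply] at this
    exact Algebra.TensorProduct.includeLeft_injective (S := A) hA'inj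
  haveI : IsLocalization (Algebra.algebraMapSubmonoid (Ahat ⊗[A] A') (nonZeroDivisors Ahat))
      (L ⊗[Ahat] (Ahat ⊗[A] A')) := IsLocalization.tensorRight L (nonZeroDivisors Ahat)
  haveI hW0 : IsDomain (L ⊗[Ahat] (Ahat ⊗[A] A')) := by
    apply IsLocalization.isDomain_of_le_nonZeroDivisors (R := Ahat ⊗[A] A')
      (M := Algebra.algebraMapSubmonoid (Ahat ⊗[A] A') (nonZeroDivisors Ahat))
      (S := L ⊗[Ahat] (Ahat ⊗[A] A'))
    rintro _ ⟨x, hx, rfl⟩
    apply mem_nonZeroDivisors_of_ne_zero
    intro h0
    exact (nonZeroDivisors.ne_zero hx) (hinjB (h0.trans (map_zero _).symm))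
  let e := Algebra.TensorProduct.cancelBaseChange A Ahat Ahat L A'
  exact e.symm.toRingEquiv.toMulEquiv.isDomain _


include h in
theorem isDomain_tensor_finite_ext (k' : Type u) [Field k'] [Algebra K k'] [Module.Finite K k'] :
    IsDomain (L ⊗[K] k') := by
  classical
  letI : Algebra A k' := ((algebraMap K k').comp (algebraMap A K)).toAlgebra
  haveI : IsScalarTower A K k' := IsScalarTower.of_algebraMap_eq (fun _ => rfl)
  obtain ⟨hW, hfin⟩ := isDomain_tensor_integralClosure A h K L k'
  haveI := hW
  haveI := hfin
  set A' := integralClosure A k' with hA'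
  -- `W` is a field
  haveI : Algebra.IsIntegral L (L ⊗[A] A') := Algebra.IsIntegral.of_finite _ _
  have hWf : IsField (L ⊗[A] A') := isField_of_isIntegral_of_isField' (Field.toIsField L)
  -- the comparison map
  let f1 : L →ₐ[A] L ⊗[K] k' :=
    (Algebra.TensorProduct.includeLeft : L →ₐ[K] L ⊗[K] k').restrictScalars A
  let f2 : A' →ₐ[A] L ⊗[K] k' :=
    ((Algebra.TensorProduct.includeRight : k' →ₐ[K] L ⊗[K] k').restrictScalars A).comp A'.val
  let g : L ⊗[A] A' →ₐ[A] L ⊗[K] k' := Algebra.TensorProduct.productMap f1 f2
  have hg : ∀ (l : L) (a : A'), g (l ⊗ₜ a) = l ⊗ₜ[K] (a : k') := by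
    intro l a
    simp only [g, Algebra.TensorProduct.productMap_apply_tmul, f1, f2]
    simp
  have hsurj : Function.Surjective g := by
    intro z
    induction z using TensorProduct.induction_on with
    | zero => exact ⟨0, map_zero _⟩
    | tmul l y =>
      have halg : IsAlgebraic A y :=
        (IsFractionRing.isAlgebraic_iff A K k').mpr (Algebra.IsAlgebraic.isAlgebraic y)
      obtain ⟨s, hs0, hsint⟩ := halg.exists_integral_multiple
      refine ⟨(l * (algebraMap A L s)⁻¹) ⊗ₜ ⟨s • y, hsint⟩, ?_⟩
      rw [hg]
      have hsL : algebraMap A L s ≠ 0 := by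
        rw [IsScalarTower.algebraMap_apply A K L]
        intro h0
        have h1 := (map_eq_zero_iff _ (algebraMap K L).injective).mp h0
        exact hs0 ((map_eq_zero_iff _ (IsFractionRing.injective A K)).mp h1)
      show (l * (algebraMap A L s)⁻¹) ⊗ₜ[K] (s • y) = l ⊗ₜ[K] y
      rw [← algebraMap_smul K s y, ← TensorProduct.smul_tmul, Algebra.smul_def,
        ← IsScalarTower.algebraMap_apply A K L, mul_comm, mul_assoc, inv_mul_cancel₀ hsL, mul_one]
    | add x y hx hy =>
      obtain ⟨x', rfl⟩ := hx
      obtain ⟨y', rfl⟩ := hy
      exact ⟨x' + y', map_add _ _ _⟩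
  haveI : Nontrivial (L ⊗[K] k') := inferInstance
  have hinj : Function.Injective g := by
    letI := hWf.toField
    exact RingHom.injective (g : L ⊗[A] A' →+* L ⊗[K] k')
  let e : L ⊗[A] A' ≃+* L ⊗[K] k' := RingEquiv.ofBijective g ⟨hinj, hsurj⟩
  exact e.symm.toMulEquiv.isDomain _


include h in
theorem finrank_eq_one_of_algHom (k' : Type u) [Field k'] [Algebra K k'] [Module.Finite K k']
    (ι : k' →ₐ[K] L) : Module.finrank K k' = 1 := by
  haveI hd := isDomain_tensor_finite_ext A h K L k'
  haveI : Algebra.IsIntegral L (L ⊗[K] k') := Algebra.IsIntegral.of_finite _ _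
  have hf : IsField (L ⊗[K] k') := isField_of_isIntegral_of_isField' (Field.toIsField L)
  let μ : L ⊗[K] k' →ₐ[L] L :=
    Algebra.TensorProduct.lift (AlgHom.id L L) ι (fun _ _ => Commute.all _ _)
  have hμ : Function.Injective μ := by
    letI := hf.toField
    exact RingHom.injective (μ : L ⊗[K] k' →+* L)
  have h1 : Module.finrank L (L ⊗[K] k') ≤ Module.finrank L L :=
    LinearMap.finrank_le_finrank_of_injective (f := μ.toLinearMap) hμ
  rw [Module.finrank_baseChange, Module.finrank_self] at h1
  exact le_antisymm h1 Module.finrank_pos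

include h in
theorem main :
    Algebra.IsGeometricallyReduced K L ∧
      ∀ x : L, IsAlgebraic K x → x ∈ Set.range (algebraMap K L) := by
  refine ⟨?_, ?_⟩
  · apply Groth.Agent.Lib.Helper14.GeomReducedFin.isGeometricallyReduced_of_forall_finite
    intro k' _ _ hfin
    haveI := hfin
    haveI := isDomain_tensor_finite_ext A h K L k'
    exact isReduced_of_injective (Algebra.TensorProduct.comm K k' L).toRingEquiv.toRingHom
      (Algebra.TensorProduct.comm K k' L).injective
  · intro x hx
    haveI : FiniteDimensional K (IntermediateField.adjoin K {x}) :=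
      IntermediateField.adjoin.finiteDimensional hx.isIntegral
    have h2 : Module.finrank K (IntermediateField.adjoin K {x}) = 1 :=
      finrank_eq_one_of_algHom A h K L (IntermediateField.adjoin K {x})
        (IntermediateField.adjoin K {x}).val
    have h3 : IntermediateField.adjoin K {x} = ⊥ := IntermediateField.finrank_eq_one_iff.mp h2
    have h4 : x ∈ IntermediateField.adjoin K {x} := IntermediateField.mem_adjoin_simple_self K x
    rw [h3, IntermediateField.mem_bot] at h4
    exact h4


end

/-- Let A be a Noetherian henselian local domain whose formal fibres are geometrically normal, Â its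
completion (an integral domain), K and L fraction fields of A and Â with L a K-algebra compatibly.
Then L is geometrically reduced over K (a separable extension) and every element of L algebraic over
K lies in K. -/
theorem result (A : Type u) [CommRing A] [IsNoetherianRing A]
    [HenselianLocalRing A] [IsDomain A] (h : EGA4.HasGeomNormalFormalFibres A) [IsDomain (EGA4.Cpl A)]
    (K L : Type u) [Field K] [Field L] [Algebra A K] [IsFractionRing A K]
    [Algebra (EGA4.Cpl A) L] [IsFractionRing (EGA4.Cpl A) L] [Algebra K L] [Algebra A L]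
    [IsScalarTower A K L] [IsScalarTower A (EGA4.Cpl A) L] :
    Algebra.IsGeometricallyReduced K L ∧ ∀ x : L, IsAlgebraic K x → x ∈ Set.range (algebraMap K L) := by
  exact main A h K L

end Groth.Agent.S5056
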