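import Groth.Statements.S3831
import Groth.Agent.S5056
import Groth.Agent.S2811
import Groth.Agent.S4754
import Groth.Agent.S0505
import Groth.Agent.Lib.Helper14.GeomIrr
import Groth.Agent.Lib.Helper14.GeomReduced
import Groth.Agent.Lib.Helper14.HensReg
import Groth.Agent.Lib.Helper14.ComplQuot
open Groth.Agent.Lib.Helper27 TensorProduct

set_option autoImplicit false
universe u
open Hensel18

namespace Groth.Agent.S3831

open IsLocalRing
set_option linter.style.haveILetI false
set_option linter.unusedSectionVars false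

theorem isDomain_of_isPrime_bot (R : Type u) [CommRing R] (h : (⊥ : Ideal R).IsPrime) :
    IsDomain R := by
  haveI : Nontrivial R := ⟨⟨0, 1, fun h01 => h.ne_top ((Ideal.eq_top_iff_one _).mpr (by
    rw [← h01]; exact Ideal.zero_mem _))⟩⟩
  haveI : NoZeroDivisors R := ⟨fun {a b} hab => by
    have := h.mem_or_mem (show a * b ∈ (⊥ : Ideal R) by rw [hab]; exact Ideal.zero_mem _)
    simpa [Ideal.mem_bot] using this⟩
  exact NoZeroDivisors.to_isDomain R

section
variable (A : Type u) [CommRing A] [HenselianLocalRing A] [IsNoetherianRing A]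
  (hA : EGA4.HasGeomNormalFormalFibres A) (p : Ideal A) [p.IsPrime]

include hA in
theorem main3831 (K : Type u) [Field K] [Algebra p.ResidueField K] :
    IsDomain (TensorProduct p.ResidueField K (EGA4.formalFibre A p)) := by
  classical
  haveI : Nontrivial (A ⧸ p) := Ideal.Quotient.nontrivial_iff.mpr (Ideal.IsPrime.ne_top inferInstance)
  haveI : HenselianLocalRing (A ⧸ p) := Groth.Agent.S0505.result A (A ⧸ p)
  have hA0 := Groth.Agent.S4754.result A hA p
  haveI hd0 : IsDomain (EGA4.Cpl (A ⧸ p)) := Groth.Agent.S2811.result (A ⧸ p) hA0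
  set A0 := A ⧸ p with hA0def
  set Ahat0 := AdicCompletion (maximalIdeal A0) A0 with hAhat0
  set L0 := FractionRing Ahat0 with hL0
  set κ := p.ResidueField with hκ
  -- κ → L0
  have hg : Function.Injective ((algebraMap Ahat0 L0).comp (algebraMap A0 Ahat0)) := by
    haveI : Module.FaithfullyFlat A0 Ahat0 := Module.FaithfullyFlat.of_flat_of_isLocalHom
    exact (IsFractionRing.injective Ahat0 L0).comp (FaithfulSMul.algebraMap_injective A0 Ahat0)
  letI : Algebra κ L0 := (IsFractionRing.lift (K := κ) hg).toAlgebra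
  haveI : IsScalarTower A0 κ L0 := IsScalarTower.of_algebraMap_eq (fun x => by
    rw [RingHom.algebraMap_toAlgebra, IsFractionRing.lift_algebraMap]
    rfl)
  obtain ⟨hgr, hac⟩ := Groth.Agent.S5056.main A0 hA0 κ L0
  have H : ∀ α : L0, IsSeparable κ α → α ∈ Set.range (algebraMap κ L0) :=
    fun α hα => hac α hα.isIntegral.isAlgebraic
  have hnp : (nilradical (K ⊗[κ] L0)).IsPrime :=
    Groth.Agent.Lib.Helper14.GeomIrr.nilradical_isPrime_of_sepClosedIn H K
  haveI hred : IsReduced (K ⊗[κ] L0) :=
    Groth.Agent.Lib.Helper14.GeomReduced.isReduced_tensor_of_isGeometricallyReduced κ L0 K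
  haveI hdKL : IsDomain (K ⊗[κ] L0) := by
    apply isDomain_of_isPrime_bot
    rw [← Ideal.zero_eq_bot, ← nilradical_eq_zero]
    exact hnp
  -- the map from the formal fibre to `L0`
  set Ahat := AdicCompletion (maximalIdeal A) A with hAhat
  let c := Groth.Agent.Lib.Helper14.ComplFlat.cplMap A A0
  have hc : ∀ a : A, c (algebraMap A Ahat a) = algebraMap A0 Ahat0 (algebraMap A A0 a) := fun a =>
    congrArg (fun g => g a) (Groth.Agent.Lib.Helper14.ComplFlat.cplMap_comp A A0)
  let g2 : Ahat →ₐ[A] L0 :=
    { toRingHom := (algebraMap Ahat0 L0).comp c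
      commutes' := fun a => by
        show algebraMap Ahat0 L0 (c (algebraMap A Ahat a)) = algebraMap A L0 a
        rw [hc, IsScalarTower.algebraMap_apply A A0 L0, IsScalarTower.algebraMap_apply A0 Ahat0 L0] }
  haveI : IsScalarTower A κ L0 := IsScalarTower.of_algebraMap_eq (fun a => by
    rw [IsScalarTower.algebraMap_apply A A0 L0, IsScalarTower.algebraMap_apply A0 κ L0,
      ← IsScalarTower.algebraMap_apply A A0 κ])
  let j : κ ⊗[A] Ahat →ₐ[κ] L0 :=
    Algebra.TensorProduct.lift (Algebra.ofId κ L0) g2 (fun _ _ => Commute.all _ _)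
  have hj1 : ∀ s : Ahat, j (1 ⊗ₜ s) = algebraMap Ahat0 L0 (c s) := by
    intro s
    simp only [j, Algebra.TensorProduct.lift_tmul, map_one, one_mul]
    rfl
  have hjinj : Function.Injective j := by
    rw [injective_iff_map_eq_zero]
    intro x hx
    obtain ⟨r, hr, s, hrs⟩ := Ideal.Fiber.exists_smul_eq_one_tmul p x
    have h1 : j (1 ⊗ₜ s) = 0 := by
      rw [← hrs, ← algebraMap_smul κ r x, map_smul, hx, smul_zero]
    rw [hj1] at h1
    have h2 : c s = 0 := (map_eq_zero_iff _ (IsFractionRing.injective Ahat0 L0)).mp h1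
    have h3 : s ∈ p.map (algebraMap A Ahat) := by
      rw [← Groth.Agent.Lib.Helper14.ComplQuot.ker_cplMap A p]
      exact h2
    have h4 : (1 : κ) ⊗ₜ[A] s = 0 :=
      Groth.Agent.Lib.Helper14.HensReg.one_tmul_eq_zero_of_mem p s h3
    rw [h4] at hrs
    have hr' : algebraMap A κ r ≠ 0 := by
      rw [Ne, Ideal.algebraMap_residueField_eq_zero]
      exact hr
    rw [← algebraMap_smul κ r x] at hrs
    exact (smul_eq_zero.mp hrs).resolve_left hr'
  have hinj2 : Function.Injective (Algebra.TensorProduct.map (AlgHom.id κ K) j) := by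
    have := Module.Flat.lTensor_preserves_injective_linearMap (M := K) j.toLinearMap hjinj
    exact this
  exact hinj2.isDomain (Algebra.TensorProduct.map (AlgHom.id κ K) j)


end

/-- Let A be a henselian Noetherian local ring whose formal fibres are geometrically normal. Then the
formal fibres of A are geometrically integral: for every prime p of A and every field extension K of
the residue field k(p), the ring K ⊗_{k(p)} (k(p) ⊗_A Â) is an integral domain. -/
theorem result (A : Type u) [CommRing A] [HenselianLocalRing A]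
    [IsNoetherianRing A] (hA : EGA4.HasGeomNormalFormalFibres A) (p : Ideal A) [p.IsPrime]
    (K : Type u) [Field K] [Algebra p.ResidueField K] :
    IsDomain (TensorProduct p.ResidueField K (EGA4.formalFibre A p)) := by
  exact main3831 A hA p K

end Groth.Agent.S3831
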