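import Groth.Statements.S3833
import Mathlib.AlgebraicGeometry.Morphisms.QuasiCompact

set_option autoImplicit false
universe u
open CategoryTheory CategoryTheory.Limits AlgebraicGeometry TopologicalSpace
open Rat20

namespace Groth.Agent.S3833

/-- Stated for a global section, the case of a section over an open subset U being the same statement
for the open subscheme U: let X be a scheme and s a global section of O_X which is regular in the
sense that its germ at every point x is a non-zero-divisor of the local ring O_{X,x} (on an affine
scheme this is the same as being a non-zero-divisor of Γ(X, O_X), but not in general). Then the open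
subset X_s where s is invertible is schematically dense in X. -/
theorem result (X : Scheme.{u}) (s : Γ(X, ⊤))
    (hs : ∀ x : ↥X, (X.presheaf.germ ⊤ x trivial s) ∈ nonZeroDivisors ↑(X.presheaf.stalk x)) :
    CInt.IsSchematicallyDense (X.basicOpen s) := by
  intro V
  rw [injective_iff_map_eq_zero]
  intro t ht
  apply TopCat.Presheaf.section_ext X.sheaf V
  intro x hx
  obtain ⟨W, hW, hxW, hWV⟩ :=
    TopologicalSpace.Opens.isBasis_iff_nbhd.mp X.isBasis_affineOpens hx
  have hbo : X.basicOpen (X.presheaf.map (homOfLE (le_top : W ≤ ⊤)).op s) = W ⊓ X.basicOpen s :=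
    Scheme.basicOpen_res _ _ _
  have hle : X.basicOpen (X.presheaf.map (homOfLE (le_top : W ≤ ⊤)).op s) ≤ V ⊓ X.basicOpen s := by
    rw [hbo]
    exact inf_le_inf_right _ hWV
  have H : X.presheaf.map (homOfLE (X.basicOpen_le
      (X.presheaf.map (homOfLE (le_top : W ≤ ⊤)).op s))).op
      (X.presheaf.map (homOfLE hWV).op t) = 0 := by
    have e : X.presheaf.map (homOfLE (X.basicOpen_le
        (X.presheaf.map (homOfLE (le_top : W ≤ ⊤)).op s))).op
        (X.presheaf.map (homOfLE hWV).op t) =
        X.presheaf.map (homOfLE hle).op
          (X.presheaf.map (homOfLE (inf_le_left : V ⊓ X.basicOpen s ≤ V)).op t) := by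
      rw [← CommRingCat.comp_apply, ← CommRingCat.comp_apply, ← Functor.map_comp,
        ← Functor.map_comp]
      rfl
    rw [e, ht, map_zero]
  obtain ⟨n, hn⟩ := exists_pow_mul_eq_zero_of_res_basicOpen_eq_zero_of_isCompact X hW.isCompact
    (X.presheaf.map (homOfLE hWV).op t) (X.presheaf.map (homOfLE (le_top : W ≤ ⊤)).op s) H
  have hg := congrArg (X.presheaf.germ W x hxW) hn
  rw [map_mul, map_pow, map_zero, TopCat.Presheaf.germ_res_apply,
    TopCat.Presheaf.germ_res_apply] at hg
  change X.presheaf.germ V x hx t = X.presheaf.germ V x hx 0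
  rw [map_zero]
  exact (mul_left_mem_nonZeroDivisors_eq_zero_iff (pow_mem (hs x) n)).mp hg

end Groth.Agent.S3833
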