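import Groth.Statements.S3834
import Mathlib
import Groth.Agent.S3833
import Groth.Agent.Lib.Helper6.SchemDenseAff

set_option autoImplicit false
universe u
open CategoryTheory CategoryTheory.Limits AlgebraicGeometry TopologicalSpace
open Rat20

namespace Groth.Agent.S3834

/-- Let X = Spec A be an affine scheme, with A Noetherian, or A reduced with finitely many minimal
primes. Then an open subset U of X is schematically dense if and only if it contains an open subset
of the form X_t with t a regular element of A = Γ(X, O_X). -/
theorem result (X : Scheme.{u}) [IsAffine X]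
    (hX : IsNoetherian X ∨ (IsReduced X ∧ (irreducibleComponents ↥X).Finite)) (U : X.Opens) :
    CInt.IsSchematicallyDense U ↔ ∃ t : Γ(X, ⊤), t ∈ nonZeroDivisors Γ(X, ⊤) ∧ X.basicOpen t ≤ U := by
  constructor
  · exact Groth.Agent.Lib.Helper6.SchemDenseAff.exists_nonZeroDivisor X hX
  · rintro ⟨t, ht, htU⟩
    have hD : CInt.IsSchematicallyDense (X.basicOpen t) := by
      apply Groth.Agent.S3833.result X t
      intro x
      letI := TopCat.Presheaf.algebra_section_stalk X.presheaf (U := (⊤ : X.Opens)) ⟨x, trivial⟩
      haveI := (isAffineOpen_top X).isLocalization_stalk ⟨x, trivial⟩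
      exact IsLocalization.nonZeroDivisors_le_comap
        ((isAffineOpen_top X).primeIdealOf ⟨x, trivial⟩).asIdeal.primeCompl (X.presheaf.stalk x) ht
    intro V a b hab
    apply hD V
    have e : ∀ c : Γ(X, V),
        X.presheaf.map (homOfLE (inf_le_left : V ⊓ X.basicOpen t ≤ V)).op c =
          X.presheaf.map (homOfLE (inf_le_inf_left V htU : V ⊓ X.basicOpen t ≤ V ⊓ U)).op
            (X.presheaf.map (homOfLE (inf_le_left : V ⊓ U ≤ V)).op c) := by
      intro c
      rw [← CommRingCat.comp_apply, ← Functor.map_comp]
      rfl
    rw [e a, e b, hab]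

end Groth.Agent.S3834
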