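import Groth.Statements.S3835
import Mathlib
import Groth.Agent.S2879
import Groth.Agent.S3843

set_option autoImplicit false
universe u
open CategoryTheory CategoryTheory.Limits AlgebraicGeometry TopologicalSpace
open Rat20

namespace Groth.Agent.S3835

/-- Let Y be separated over S, X an S-scheme with a schematically dense open subscheme U, h : U → Y an
S-morphism (a representative of a pseudo-morphism from X to Y over S), and f : X' → X a flat
morphism locally of finite presentation, X' being regarded as an S-scheme through f. Let x' be a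
point of X' with image x = f(x'). If there is an S-morphism from an open neighbourhood V' of x' to Y
agreeing with h ∘ f on f⁻¹(U) ∩ V' (the pulled-back pseudo-morphism is defined at x'), then there is
an S-morphism from an open neighbourhood V of x to Y agreeing with h on U ∩ V (the pseudo-morphism
is defined at x). -/
theorem result {X X' Y S : Scheme.{u}} (pX : X ⟶ S) (pY : Y ⟶ S)
    [IsSeparated pY] (U : X.Opens) (hU : CInt.IsSchematicallyDense U) (h : (U : Scheme.{u}) ⟶ Y)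
    (hh : h ≫ pY = U.ι ≫ pX) (f : X' ⟶ X) [Flat f] [LocallyOfFinitePresentation f] (x' : ↥X')
    (V' : X'.Opens) (hx' : x' ∈ V') (v' : (V' : Scheme.{u}) ⟶ Y) (hv'S : v' ≫ pY = V'.ι ≫ f ≫ pX)
    (hv' : X'.homOfLE (inf_le_right : f ⁻¹ᵁ U ⊓ V' ≤ V') ≫ v' =
      X'.homOfLE (inf_le_left : f ⁻¹ᵁ U ⊓ V' ≤ f ⁻¹ᵁ U) ≫ (f ∣_ U) ≫ h) :
    ∃ (V : X.Opens) (v : (V : Scheme.{u}) ⟶ Y), f x' ∈ V ∧ v ≫ pY = V.ι ≫ pX ∧
      X.homOfLE (inf_le_right : U ⊓ V ≤ V) ≫ v = X.homOfLE (inf_le_left : U ⊓ V ≤ U) ≫ h := by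
  classical
  -- the open image of `V'`
  let V : X.Opens := ⟨f '' (V' : Set X'), f.isOpenMap _ V'.2⟩
  have hle : V' ≤ f ⁻¹ᵁ V := fun z hz => ⟨z, hz, rfl⟩
  let f' : (V' : Scheme.{u}) ⟶ (V : Scheme.{u}) := f.resLE V V' hle
  have hf'ι : f' ≫ V.ι = V'.ι ≫ f := Scheme.Hom.resLE_comp_ι f hle
  haveI : Flat f' := inferInstance
  haveI : LocallyOfFinitePresentation f' :=
    AlgebraicGeometry.IsZariskiLocalAtSource.resLE (P := @LocallyOfFinitePresentation) hle
      inferInstance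
  haveI : Surjective f' := by
    refine ⟨fun y => ?_⟩
    obtain ⟨z, hz, hzy⟩ := y.2
    refine ⟨⟨z, hz⟩, ?_⟩
    apply V.ι.injective
    rw [← Scheme.Hom.comp_apply, hf'ι, Scheme.Hom.comp_apply]
    exact hzy
  -- the kernel pair
  let P := pullback f' f'
  let r : P ⟶ X := pullback.fst f' f' ≫ f' ≫ V.ι
  haveI : Flat r := inferInstance
  haveI : LocallyOfFinitePresentation r := inferInstance
  have hW : CInt.IsSchematicallyDense (r ⁻¹ᵁ U) := Groth.Agent.S3843.result r U hU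
  set A : X'.Opens := f ⁻¹ᵁ U ⊓ V' with hA
  have hrange : ∀ (g : P ⟶ (V' : Scheme.{u})), g ≫ f' ≫ V.ι = r →
      Set.range ((r ⁻¹ᵁ U).ι ≫ g) ⊆
        Set.range (X'.homOfLE (inf_le_right : A ≤ V')) := by
    intro g hg
    rintro _ ⟨w, rfl⟩
    set w' : P := (r ⁻¹ᵁ U).ι w with hw'
    have hw : r w' ∈ U := w.2
    have h1 : f (V'.ι (g w')) ∈ U := by
      have : f (V'.ι (g w')) = r w' := by
        rw [← hg, ← Scheme.Hom.comp_apply, ← Scheme.Hom.comp_apply, ← hf'ι]
      rw [this]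
      exact hw
    have h2 : V'.ι (g w') ∈ A := ⟨h1, (g w').2⟩
    refine ⟨⟨V'.ι (g w'), h2⟩, ?_⟩
    apply V'.ι.injective
    rw [← Scheme.Hom.comp_apply, Scheme.homOfLE_ι]
    rfl
  have hcond : pullback.fst f' f' ≫ v' = pullback.snd f' f' ≫ v' := by
    refine Groth.Agent.S2879.ext_of_ker_eq_bot_of_isSeparated pY ?_ _
      (Groth.Agent.S2879.ker_ι_eq_bot hW) ?_
    · rw [Category.assoc, Category.assoc, hv'S, ← Category.assoc V'.ι, ← hf'ι]
      simp only [Category.assoc]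
      rw [← Category.assoc, ← Category.assoc (pullback.snd f' f'), pullback.condition]
    · have hsnd : pullback.snd f' f' ≫ f' ≫ V.ι = r := by
        rw [← Category.assoc, ← pullback.condition, Category.assoc]
      let r₁ := IsOpenImmersion.lift (X'.homOfLE (inf_le_right : A ≤ V'))
        ((r ⁻¹ᵁ U).ι ≫ pullback.fst f' f') (hrange _ rfl)
      let r₂ := IsOpenImmersion.lift (X'.homOfLE (inf_le_right : A ≤ V'))
        ((r ⁻¹ᵁ U).ι ≫ pullback.snd f' f') (hrange _ hsnd)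
      have hr₁ : r₁ ≫ X'.homOfLE (inf_le_right : A ≤ V') = (r ⁻¹ᵁ U).ι ≫ pullback.fst f' f' :=
        IsOpenImmersion.lift_fac _ _ _
      have hr₂ : r₂ ≫ X'.homOfLE (inf_le_right : A ≤ V') = (r ⁻¹ᵁ U).ι ≫ pullback.snd f' f' :=
        IsOpenImmersion.lift_fac _ _ _
      have key : r₁ ≫ X'.homOfLE (inf_le_left : A ≤ f ⁻¹ᵁ U) ≫ (f ∣_ U) =
          r₂ ≫ X'.homOfLE (inf_le_left : A ≤ f ⁻¹ᵁ U) ≫ (f ∣_ U) := by
        rw [← cancel_mono U.ι]
        simp only [Category.assoc, morphismRestrict_ι]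
        rw [← Category.assoc (X'.homOfLE _), Scheme.homOfLE_ι,
          ← Scheme.homOfLE_ι X' (inf_le_right : A ≤ V')]
        simp only [← Category.assoc]
        rw [hr₁, hr₂]
        simp only [Category.assoc]
        rw [← hf'ι, hsnd]
      rw [← Category.assoc, ← Category.assoc, ← hr₁, ← hr₂, Category.assoc, Category.assoc, hv',
        ← Category.assoc, ← Category.assoc r₂]
      simp only [Category.assoc] at key ⊢
      rw [reassoc_of% key]
  let v : (V : Scheme.{u}) ⟶ Y := EffectiveEpi.desc f' v' (fun {T} g₁ g₂ hg₁₂ => by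
    have h1 : g₁ = pullback.lift g₁ g₂ hg₁₂ ≫ pullback.fst f' f' := (pullback.lift_fst _ _ _).symm
    have h2 : g₂ = pullback.lift g₁ g₂ hg₁₂ ≫ pullback.snd f' f' := (pullback.lift_snd _ _ _).symm
    rw [h1, Category.assoc, hcond, ← Category.assoc, ← h2])
  have hfac : f' ≫ v = v' := EffectiveEpi.fac f' v' _
  haveI : Epi f' := Flat.epi_of_flat_of_surjective f'
  refine ⟨V, v, ⟨x', hx', rfl⟩, ?_, ?_⟩
  · rw [← cancel_epi f', ← Category.assoc, hfac, hv'S, ← Category.assoc, ← hf'ι, Category.assoc]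
  · -- compare on `U ⊓ V` using the surjective flat restriction of `f`
    have hle2 : A ≤ f ⁻¹ᵁ (U ⊓ V) := fun z hz => ⟨hz.1, hle hz.2⟩
    let f'' : (A : Scheme.{u}) ⟶ ((U ⊓ V : X.Opens) : Scheme.{u}) := f.resLE (U ⊓ V) A hle2
    have hf''ι : f'' ≫ (U ⊓ V).ι = A.ι ≫ f := Scheme.Hom.resLE_comp_ι f hle2
    haveI : Flat f'' := inferInstance
    haveI : Surjective f'' := by
      refine ⟨fun y => ?_⟩
      obtain ⟨z, hz, hzy⟩ := y.2.2
      have hzU : f z ∈ U := by rw [hzy]; exact y.2.1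
      refine ⟨⟨z, ⟨hzU, hz⟩⟩, ?_⟩
      apply (U ⊓ V).ι.injective
      rw [← Scheme.Hom.comp_apply, hf''ι, Scheme.Hom.comp_apply]
      exact hzy
    haveI : Epi f'' := Flat.epi_of_flat_of_surjective f''
    rw [← cancel_epi f'']
    have e1 : f'' ≫ X.homOfLE (inf_le_right : U ⊓ V ≤ V) =
        X'.homOfLE (inf_le_right : A ≤ V') ≫ f' := by
      rw [← cancel_mono V.ι, Category.assoc, Category.assoc, Scheme.homOfLE_ι, hf''ι, hf'ι,
        ← Category.assoc, Scheme.homOfLE_ι]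
    have e2 : f'' ≫ X.homOfLE (inf_le_left : U ⊓ V ≤ U) =
        X'.homOfLE (inf_le_left : A ≤ f ⁻¹ᵁ U) ≫ (f ∣_ U) := by
      rw [← cancel_mono U.ι, Category.assoc, Category.assoc, Scheme.homOfLE_ι, hf''ι,
        morphismRestrict_ι, ← Category.assoc, Scheme.homOfLE_ι]
    rw [← Category.assoc, e1, Category.assoc, hfac, hv', ← Category.assoc f'', e2, Category.assoc]

end Groth.Agent.S3835
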