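import Groth.Statements.S3836
import Groth.Agent.Lib.Helper11.Birat7

set_option autoImplicit false
universe u
open CategoryTheory CategoryTheory.Limits AlgebraicGeometry TopologicalSpace
open Rat20

namespace Groth.Agent.S3836

theorem isIntegrallyClosed_stalk_opens {X : Scheme.{u}} (W₀ : X.Opens) (x' : X)
    (hx' : IsIntegrallyClosed (X.presheaf.stalk x')) (w : W₀) (e : w.1 = x') :
    IsIntegrallyClosed (W₀.toScheme.presheaf.stalk w) := by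
  subst e
  exact IsIntegrallyClosed.of_equiv (W₀.stalkIso w).symm.commRingCatIsoToRingEquiv

/-- Let X be a locally integral S-scheme, Y an S-scheme locally of finite type and separated over S, and
h : U → Y an S-morphism on a dense open subset (a rational S-map ω). Let Γ be the closure in X ×_S Y
of the graph of h and p : Γ → X the projection. If x is a point of X whose local ring is integrally
closed and the fibre p⁻¹(x) contains an isolated point, then ω is defined at x: some S-morphism from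
an open neighbourhood of x to Y agrees with h on U. -/
theorem result {X Y S : Scheme.{u}} (pX : X ⟶ S) (pY : Y ⟶ S)
    [LocallyOfFiniteType pY] [IsSeparated pY] (hX : ∀ y : ↥X, ∃ W : X.Opens, y ∈ W ∧ IsIntegral (W : Scheme.{u}))
    (U : X.Opens) (hU : Dense (U : Set ↥X)) (h : (U : Scheme.{u}) ⟶ Y) (hh : U.ι ≫ pX = h ≫ pY)
    (x : ↥X) (hx : IsIntegrallyClosed (X.presheaf.stalk x))
    (z : ↥(pullback pX pY)) (hz : pullback.fst pX pY z = x)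
    (hzΓ : z ∈ closure (Set.range (pullback.lift U.ι h hh)))
    (hiso : ∃ W : (pullback pX pY).Opens, (W : Set ↥(pullback pX pY)) ∩ closure (Set.range (pullback.lift U.ι h hh)) ∩
      (pullback.fst pX pY) ⁻¹' {x} = {z}) :
    ∃ (V : X.Opens) (v : (V : Scheme.{u}) ⟶ Y), x ∈ V ∧ v ≫ pY = V.ι ≫ pX ∧
      X.homOfLE (inf_le_right : U ⊓ V ≤ V) ≫ v = X.homOfLE (inf_le_left : U ⊓ V ≤ U) ≫ h := by

  obtain ⟨W, hW⟩ := hiso
  obtain ⟨W₀, hxW₀, hW₀int⟩ := hX x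
  haveI := hW₀int
  have hγp : pullback.lift U.ι h hh ≫ pullback.fst pX pY = U.ι := pullback.lift_fst _ _ _
  have hγq : pullback.lift U.ι h hh ≫ pullback.snd pX pY = h := pullback.lift_snd _ _ _
  have hγpt : ∀ u : U, (pullback.fst pX pY).base ((pullback.lift U.ι h hh).base u) = u.1 :=
    fun u => congrArg (fun ψ : (U : Scheme) ⟶ X => ψ.base u) hγp
  have hne : Nonempty ↥(U ⊓ W₀) := by
    obtain ⟨a, haW, haU⟩ := hU.inter_open_nonempty W₀ W₀.isOpen ⟨x, hxW₀⟩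
    exact ⟨⟨a, haU, haW⟩⟩
  haveI : Nonempty (U ⊓ W₀ : X.Opens).toScheme := hne
  haveI : IsIntegral (U ⊓ W₀ : X.Opens).toScheme :=
    isIntegral_of_isOpenImmersion (X.homOfLE (inf_le_right : U ⊓ W₀ ≤ W₀))
  -- the restricted projection
  have hsep : IsSeparated (pullback.fst pX pY) := inferInstance
  have hlft : LocallyOfFiniteType (pullback.fst pX pY) := inferInstance
  haveI : IsSeparated (pullback.fst pX pY ∣_ W₀) := IsZariskiLocalAtTarget.restrict hsep W₀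
  haveI : LocallyOfFiniteType (pullback.fst pX pY ∣_ W₀) :=
    IsZariskiLocalAtTarget.restrict hlft W₀
  have hpr : ∀ w : ((pullback.fst pX pY) ⁻¹ᵁ W₀).toScheme,
      ((pullback.fst pX pY ∣_ W₀).base w).1 = (pullback.fst pX pY).base w.1 := fun w =>
    congrArg (fun ψ : (((pullback.fst pX pY) ⁻¹ᵁ W₀ : (pullback pX pY).Opens) : Scheme) ⟶ X =>
      ψ.base w) (morphismRestrict_ι (pullback.fst pX pY) W₀)
  -- the restricted graph
  have hr₀ : Set.range (X.homOfLE (inf_le_left : U ⊓ W₀ ≤ U) ≫ pullback.lift U.ι h hh) ⊆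
      Set.range ((pullback.fst pX pY) ⁻¹ᵁ W₀).ι := by
    rintro _ ⟨u, rfl⟩
    have hmem : (pullback.fst pX pY).base ((pullback.lift U.ι h hh).base
        ((X.homOfLE (inf_le_left : U ⊓ W₀ ≤ U)).base u)) ∈ W₀ := by
      rw [hγpt, X.homOfLE_apply]; exact u.2.2
    exact ⟨⟨_, hmem⟩, rfl⟩
  obtain ⟨γ₀, hγ₀⟩ : ∃ γ₀ : (U ⊓ W₀ : X.Opens).toScheme ⟶
      ((pullback.fst pX pY) ⁻¹ᵁ W₀ : (pullback pX pY).Opens).toScheme,
      γ₀ ≫ ((pullback.fst pX pY) ⁻¹ᵁ W₀).ι =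
        X.homOfLE (inf_le_left : U ⊓ W₀ ≤ U) ≫ pullback.lift U.ι h hh :=
    ⟨IsOpenImmersion.lift _ _ hr₀, IsOpenImmersion.lift_fac _ _ hr₀⟩
  have hγ₀pt : ∀ u₁ : (U ⊓ W₀ : X.Opens).toScheme, (γ₀.base u₁).1 = (pullback.lift U.ι h hh).base
      ((X.homOfLE (inf_le_left : U ⊓ W₀ ≤ U)).base u₁) := fun u₁ =>
    congrArg (fun ψ : ((U ⊓ W₀ : X.Opens) : Scheme) ⟶ pullback pX pY => ψ.base u₁) hγ₀
  have hg : γ₀ ≫ (pullback.fst pX pY ∣_ W₀) = X.homOfLE (inf_le_right : U ⊓ W₀ ≤ W₀) := by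
    rw [← cancel_mono W₀.ι, Category.assoc, morphismRestrict_ι, ← Category.assoc, hγ₀,
      Category.assoc, hγp, X.homOfLE_ι, X.homOfLE_ι]
  have hgι : (γ₀ ≫ (pullback.fst pX pY ∣_ W₀)) ≫ W₀.ι = (U ⊓ W₀).ι := by
    rw [hg, X.homOfLE_ι]
  haveI : IsOpenImmersion (γ₀ ≫ (pullback.fst pX pY ∣_ W₀)) := by rw [hg]; infer_instance
  -- the point
  have hzP : z ∈ (pullback.fst pX pY) ⁻¹ᵁ W₀ := by
    show (pullback.fst pX pY).base z ∈ W₀
    rw [hz]; exact hxW₀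
  have hzmem : z ∈ (W : Set ↥(pullback pX pY)) ∩ closure (Set.range (pullback.lift U.ι h hh)) ∩
      (pullback.fst pX pY) ⁻¹' {x} := by rw [hW]; rfl
  obtain ⟨z₀, hz₀def⟩ : ∃ z₀ : ((pullback.fst pX pY) ⁻¹ᵁ W₀).toScheme, z₀.1 = z :=
    ⟨⟨z, hzP⟩, rfl⟩
  have hz₀ : z₀ ∈ closure (Set.range γ₀) := by
    rw [mem_closure_iff]
    intro O hO hzO
    have hO' : IsOpen (((pullback.fst pX pY) ⁻¹ᵁ W₀).ι '' O) :=
      ((pullback.fst pX pY) ⁻¹ᵁ W₀).ι.isOpenEmbedding.isOpenMap O hO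
    have hzO' : z ∈ ((pullback.fst pX pY) ⁻¹ᵁ W₀).ι '' O := ⟨z₀, hzO, hz₀def⟩
    obtain ⟨_, ⟨o, hoO, rfl⟩, ⟨u, hu⟩⟩ := mem_closure_iff.mp hzΓ _ hO' hzO'
    have huW₀ : u.1 ∈ W₀ := by
      rw [← hγpt u, hu]; exact o.2
    refine ⟨o, hoO, ⟨⟨u.1, u.2, huW₀⟩, ?_⟩⟩
    apply Subtype.ext
    rw [hγ₀pt]
    refine Eq.trans ?_ hu
    congr 1
    exact Subtype.ext (X.homOfLE_apply _ _)
  have hpz : ((pullback.fst pX pY ∣_ W₀).base z₀).1 = x := by rw [hpr, hz₀def]; exact hz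
  have hic₀ : IsIntegrallyClosed (W₀.toScheme.presheaf.stalk
      ((pullback.fst pX pY ∣_ W₀).base z₀)) :=
    isIntegrallyClosed_stalk_opens W₀ x hx _ hpz
  have hzW' : z₀ ∈ ((pullback.fst pX pY) ⁻¹ᵁ W₀).ι ⁻¹ᵁ W := by
    show z₀.1 ∈ W
    rw [hz₀def]; exact hzmem.1.1
  have hWiso : ∀ z' : ((pullback.fst pX pY) ⁻¹ᵁ W₀).toScheme,
      z' ∈ ((pullback.fst pX pY) ⁻¹ᵁ W₀).ι ⁻¹ᵁ W → z' ∈ closure (Set.range γ₀) →
      (pullback.fst pX pY ∣_ W₀).base z' = (pullback.fst pX pY ∣_ W₀).base z₀ →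
      z' = z₀ := by
    intro z' h1 h2 h3
    apply Subtype.ext
    rw [hz₀def]
    have hcl : z'.1 ∈ closure (Set.range (pullback.lift U.ι h hh)) := by
      refine map_mem_closure (f := fun w : ((pullback.fst pX pY) ⁻¹ᵁ W₀).toScheme => w.1)
        continuous_subtype_val h2 ?_
      rintro _ ⟨u₁, rfl⟩
      exact ⟨_, (hγ₀pt u₁).symm⟩
    have hfx : (pullback.fst pX pY).base z'.1 = x := by
      rw [← hpr, h3, hpz]
    have hmem' : z'.1 ∈ (W : Set ↥(pullback pX pY)) ∩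
        closure (Set.range (pullback.lift U.ι h hh)) ∩ (pullback.fst pX pY) ⁻¹' {x} :=
      ⟨⟨h1, hcl⟩, hfx⟩
    rw [hW] at hmem'
    exact hmem'
  obtain ⟨N, s, hxN, hs, hagree⟩ :=
    Groth.Agent.Lib.Helper11.Birat7.exists_section_of_isolated (pullback.fst pX pY ∣_ W₀) γ₀
      z₀ hz₀ hic₀ (((pullback.fst pX pY) ⁻¹ᵁ W₀).ι ⁻¹ᵁ W) hzW' hWiso
  -- the extension
  obtain ⟨e, he⟩ : ∃ e : N.toScheme ⟶ X, e = N.ι ≫ W₀.ι := ⟨_, rfl⟩
  haveI : IsOpenImmersion e := by rw [he]; infer_instance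
  have h_e : ∀ {A : Scheme.{u}} (a : A ⟶ N.toScheme), a ≫ e = a ≫ N.ι ≫ W₀.ι := by
    intro A a; rw [he]
  have heι : e.isoOpensRange.inv ≫ e = e.opensRange.ι := by
    rw [Iso.inv_comp_eq, Scheme.Hom.isoOpensRange_hom_ι]
  have hxV : x ∈ e.opensRange := by
    have hxN' : (⟨x, hxW₀⟩ : W₀) ∈ N := by
      have : (pullback.fst pX pY ∣_ W₀).base z₀ = ⟨x, hxW₀⟩ := Subtype.ext hpz
      rw [← this]; exact hxN
    refine ⟨⟨⟨x, hxW₀⟩, hxN'⟩, ?_⟩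
    rw [he]; rfl
  refine ⟨e.opensRange, e.isoOpensRange.inv ≫ s ≫ ((pullback.fst pX pY) ⁻¹ᵁ W₀).ι ≫
    pullback.snd pX pY, hxV, ?_, ?_⟩
  · -- over S
    have h1 : (s ≫ ((pullback.fst pX pY) ⁻¹ᵁ W₀).ι ≫ pullback.snd pX pY) ≫ pY = e ≫ pX := by
      calc (s ≫ ((pullback.fst pX pY) ⁻¹ᵁ W₀).ι ≫ pullback.snd pX pY) ≫ pY
          = s ≫ ((pullback.fst pX pY) ⁻¹ᵁ W₀).ι ≫ (pullback.fst pX pY ≫ pX) := by
            simp only [Category.assoc, pullback.condition]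
        _ = s ≫ ((pullback.fst pX pY ∣_ W₀) ≫ W₀.ι) ≫ pX := by
            rw [morphismRestrict_ι]; simp only [Category.assoc]
        _ = (s ≫ (pullback.fst pX pY ∣_ W₀)) ≫ W₀.ι ≫ pX := by simp only [Category.assoc]
        _ = e ≫ pX := by rw [hs, he, Category.assoc]
    calc (e.isoOpensRange.inv ≫ s ≫ ((pullback.fst pX pY) ⁻¹ᵁ W₀).ι ≫ pullback.snd pX pY) ≫ pY
        = e.isoOpensRange.inv ≫ (s ≫ ((pullback.fst pX pY) ⁻¹ᵁ W₀).ι ≫ pullback.snd pX pY) ≫ pY := by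
          simp only [Category.assoc]
      _ = e.isoOpensRange.inv ≫ e ≫ pX := by rw [h1]
      _ = e.opensRange.ι ≫ pX := by rw [← Category.assoc, heι]
  · -- agreement on U ⊓ V
    have hr : Set.range (U ⊓ e.opensRange).ι ⊆
        Set.range (((γ₀ ≫ (pullback.fst pX pY ∣_ W₀)) ⁻¹ᵁ N).ι ≫ (U ⊓ W₀).ι) := by
      rintro _ ⟨a, rfl⟩
      obtain ⟨n, hn⟩ := a.2.2
      have hn' : n.1.1 = a.1 := by
        have : e.base n = n.1.1 := by rw [he]; rfl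
        rw [← this]; exact hn
      have haW₀ : a.1 ∈ W₀ := by rw [← hn']; exact n.1.2
      have hmemN : (γ₀ ≫ (pullback.fst pX pY ∣_ W₀)).base ⟨a.1, a.2.1, haW₀⟩ ∈ N := by
        have h2 : (γ₀ ≫ (pullback.fst pX pY ∣_ W₀)).base ⟨a.1, a.2.1, haW₀⟩ = n.1 := by
          apply Subtype.ext
          have h3 := congrArg (fun ψ : ((U ⊓ W₀ : X.Opens) : Scheme) ⟶ X =>
            ψ.base ⟨a.1, a.2.1, haW₀⟩) hgι
          exact h3.trans hn'.symm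
        rw [h2]; exact n.2
      exact ⟨⟨⟨a.1, a.2.1, haW₀⟩, hmemN⟩, rfl⟩
    obtain ⟨m, hm⟩ : ∃ m, m ≫ (((γ₀ ≫ (pullback.fst pX pY ∣_ W₀)) ⁻¹ᵁ N).ι ≫ (U ⊓ W₀).ι) =
        (U ⊓ e.opensRange).ι := ⟨IsOpenImmersion.lift _ _ hr, IsOpenImmersion.lift_fac _ _ hr⟩
    have c1 : m ≫ ((γ₀ ≫ (pullback.fst pX pY ∣_ W₀)) ∣_ N) =
        X.homOfLE (inf_le_right : U ⊓ e.opensRange ≤ e.opensRange) ≫ e.isoOpensRange.inv := by
      rw [← cancel_mono e]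
      calc (m ≫ ((γ₀ ≫ (pullback.fst pX pY ∣_ W₀)) ∣_ N)) ≫ e
          = m ≫ (((γ₀ ≫ (pullback.fst pX pY ∣_ W₀)) ∣_ N) ≫ N.ι) ≫ W₀.ι := by
            rw [h_e]; simp only [Category.assoc]
        _ = m ≫ ((γ₀ ≫ (pullback.fst pX pY ∣_ W₀)) ⁻¹ᵁ N).ι ≫
              ((γ₀ ≫ (pullback.fst pX pY ∣_ W₀)) ≫ W₀.ι) := by
            rw [morphismRestrict_ι]; simp only [Category.assoc]
        _ = (U ⊓ e.opensRange).ι := by rw [hgι, hm]
        _ = (X.homOfLE (inf_le_right : U ⊓ e.opensRange ≤ e.opensRange) ≫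
              e.isoOpensRange.inv) ≫ e := by
            rw [Category.assoc, heι, X.homOfLE_ι]
    have c2 : m ≫ ((γ₀ ≫ (pullback.fst pX pY ∣_ W₀)) ⁻¹ᵁ N).ι ≫
        X.homOfLE (inf_le_left : U ⊓ W₀ ≤ U) =
        X.homOfLE (inf_le_left : U ⊓ e.opensRange ≤ U) := by
      rw [← cancel_mono U.ι]
      simp only [Category.assoc, X.homOfLE_ι]
      exact hm
    calc X.homOfLE (inf_le_right : U ⊓ e.opensRange ≤ e.opensRange) ≫
          e.isoOpensRange.inv ≫ s ≫ ((pullback.fst pX pY) ⁻¹ᵁ W₀).ι ≫ pullback.snd pX pY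
        = (X.homOfLE (inf_le_right : U ⊓ e.opensRange ≤ e.opensRange) ≫ e.isoOpensRange.inv) ≫
            s ≫ ((pullback.fst pX pY) ⁻¹ᵁ W₀).ι ≫ pullback.snd pX pY := by
          simp only [Category.assoc]
      _ = m ≫ (((γ₀ ≫ (pullback.fst pX pY ∣_ W₀)) ∣_ N) ≫ s) ≫
            ((pullback.fst pX pY) ⁻¹ᵁ W₀).ι ≫ pullback.snd pX pY := by
          rw [← c1]; simp only [Category.assoc]
      _ = m ≫ ((γ₀ ≫ (pullback.fst pX pY ∣_ W₀)) ⁻¹ᵁ N).ι ≫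
            (γ₀ ≫ ((pullback.fst pX pY) ⁻¹ᵁ W₀).ι) ≫ pullback.snd pX pY := by
          rw [hagree]; simp only [Category.assoc]
      _ = (m ≫ ((γ₀ ≫ (pullback.fst pX pY ∣_ W₀)) ⁻¹ᵁ N).ι ≫
            X.homOfLE (inf_le_left : U ⊓ W₀ ≤ U)) ≫
            pullback.lift U.ι h hh ≫ pullback.snd pX pY := by
          rw [hγ₀]; simp only [Category.assoc]
      _ = X.homOfLE (inf_le_left : U ⊓ e.opensRange ≤ U) ≫ h := by rw [c2, hγq]

end Groth.Agent.S3836
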