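import Groth.Statements.S3837
import Groth.Agent.Lib.Helper11.Birat8

set_option autoImplicit false
universe u
open CategoryTheory CategoryTheory.Limits AlgebraicGeometry TopologicalSpace
open Rat20

namespace Groth.Agent.S3837

theorem forward {X X' Y S : Scheme.{u}} (pX : X ⟶ S) (pY : Y ⟶ S) (U : X.Opens)
    (h : (U : Scheme.{u}) ⟶ Y) (f : X' ⟶ X) (x' : ↥X') (V : X.Opens) (v : (V : Scheme.{u}) ⟶ Y)
    (hxV : f.base x' ∈ V) (hv : v ≫ pY = V.ι ≫ pX)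
    (hag : X.homOfLE (inf_le_right : U ⊓ V ≤ V) ≫ v = X.homOfLE (inf_le_left : U ⊓ V ≤ U) ≫ h) :
    ∃ (V' : X'.Opens) (v' : (V' : Scheme.{u}) ⟶ Y), x' ∈ V' ∧ v' ≫ pY = V'.ι ≫ f ≫ pX ∧
        X'.homOfLE (inf_le_right : f ⁻¹ᵁ U ⊓ V' ≤ V') ≫ v' =
          X'.homOfLE (inf_le_left : f ⁻¹ᵁ U ⊓ V' ≤ f ⁻¹ᵁ U) ≫ (f ∣_ U) ≫ h := by
  refine ⟨f ⁻¹ᵁ V, (f ∣_ V) ≫ v, hxV, ?_, ?_⟩
  · rw [Category.assoc, hv, ← Category.assoc, morphismRestrict_ι, Category.assoc]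
  · have hr : Set.range ((f ⁻¹ᵁ U ⊓ f ⁻¹ᵁ V).ι ≫ f) ⊆ Set.range (U ⊓ V).ι := by
      rintro _ ⟨a, rfl⟩
      rw [Scheme.Opens.range_ι]
      exact ⟨a.2.1, a.2.2⟩
    obtain ⟨r, hr'⟩ : ∃ r : (f ⁻¹ᵁ U ⊓ f ⁻¹ᵁ V : X'.Opens).toScheme ⟶ (U ⊓ V : X.Opens).toScheme,
        r ≫ (U ⊓ V).ι = (f ⁻¹ᵁ U ⊓ f ⁻¹ᵁ V).ι ≫ f :=
      ⟨IsOpenImmersion.lift _ _ hr, IsOpenImmersion.lift_fac _ _ hr⟩
    have c1 : X'.homOfLE (inf_le_right : f ⁻¹ᵁ U ⊓ f ⁻¹ᵁ V ≤ f ⁻¹ᵁ V) ≫ (f ∣_ V) =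
        r ≫ X.homOfLE (inf_le_right : U ⊓ V ≤ V) := by
      rw [← cancel_mono V.ι]
      calc (X'.homOfLE (inf_le_right : f ⁻¹ᵁ U ⊓ f ⁻¹ᵁ V ≤ f ⁻¹ᵁ V) ≫ (f ∣_ V)) ≫ V.ι
          = X'.homOfLE (inf_le_right : f ⁻¹ᵁ U ⊓ f ⁻¹ᵁ V ≤ f ⁻¹ᵁ V) ≫ ((f ∣_ V) ≫ V.ι) :=
            Category.assoc _ _ _
        _ = X'.homOfLE (inf_le_right : f ⁻¹ᵁ U ⊓ f ⁻¹ᵁ V ≤ f ⁻¹ᵁ V) ≫ (f ⁻¹ᵁ V).ι ≫ f := by
            rw [morphismRestrict_ι]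
        _ = (X'.homOfLE (inf_le_right : f ⁻¹ᵁ U ⊓ f ⁻¹ᵁ V ≤ f ⁻¹ᵁ V) ≫ (f ⁻¹ᵁ V).ι) ≫ f :=
            (Category.assoc _ _ _).symm
        _ = (f ⁻¹ᵁ U ⊓ f ⁻¹ᵁ V).ι ≫ f := by rw [X'.homOfLE_ι]
        _ = r ≫ (U ⊓ V).ι := hr'.symm
        _ = r ≫ X.homOfLE (inf_le_right : U ⊓ V ≤ V) ≫ V.ι := by rw [X.homOfLE_ι]
        _ = (r ≫ X.homOfLE (inf_le_right : U ⊓ V ≤ V)) ≫ V.ι := (Category.assoc _ _ _).symm
    have c2 : X'.homOfLE (inf_le_left : f ⁻¹ᵁ U ⊓ f ⁻¹ᵁ V ≤ f ⁻¹ᵁ U) ≫ (f ∣_ U) =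
        r ≫ X.homOfLE (inf_le_left : U ⊓ V ≤ U) := by
      rw [← cancel_mono U.ι]
      calc (X'.homOfLE (inf_le_left : f ⁻¹ᵁ U ⊓ f ⁻¹ᵁ V ≤ f ⁻¹ᵁ U) ≫ (f ∣_ U)) ≫ U.ι
          = X'.homOfLE (inf_le_left : f ⁻¹ᵁ U ⊓ f ⁻¹ᵁ V ≤ f ⁻¹ᵁ U) ≫ ((f ∣_ U) ≫ U.ι) :=
            Category.assoc _ _ _
        _ = X'.homOfLE (inf_le_left : f ⁻¹ᵁ U ⊓ f ⁻¹ᵁ V ≤ f ⁻¹ᵁ U) ≫ (f ⁻¹ᵁ U).ι ≫ f := by
            rw [morphismRestrict_ι]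
        _ = (X'.homOfLE (inf_le_left : f ⁻¹ᵁ U ⊓ f ⁻¹ᵁ V ≤ f ⁻¹ᵁ U) ≫ (f ⁻¹ᵁ U).ι) ≫ f :=
            (Category.assoc _ _ _).symm
        _ = (f ⁻¹ᵁ U ⊓ f ⁻¹ᵁ V).ι ≫ f := by rw [X'.homOfLE_ι]
        _ = r ≫ (U ⊓ V).ι := hr'.symm
        _ = r ≫ X.homOfLE (inf_le_left : U ⊓ V ≤ U) ≫ U.ι := by rw [X.homOfLE_ι]
        _ = (r ≫ X.homOfLE (inf_le_left : U ⊓ V ≤ U)) ≫ U.ι := (Category.assoc _ _ _).symm
    calc X'.homOfLE (inf_le_right : f ⁻¹ᵁ U ⊓ f ⁻¹ᵁ V ≤ f ⁻¹ᵁ V) ≫ (f ∣_ V) ≫ v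
        = (X'.homOfLE (inf_le_right : f ⁻¹ᵁ U ⊓ f ⁻¹ᵁ V ≤ f ⁻¹ᵁ V) ≫ (f ∣_ V)) ≫ v :=
          (Category.assoc _ _ _).symm
      _ = r ≫ X.homOfLE (inf_le_right : U ⊓ V ≤ V) ≫ v := by rw [c1, Category.assoc]
      _ = r ≫ X.homOfLE (inf_le_left : U ⊓ V ≤ U) ≫ h := by rw [hag]
      _ = (r ≫ X.homOfLE (inf_le_left : U ⊓ V ≤ U)) ≫ h := (Category.assoc _ _ _).symm
      _ = X'.homOfLE (inf_le_left : f ⁻¹ᵁ U ⊓ f ⁻¹ᵁ V ≤ f ⁻¹ᵁ U) ≫ (f ∣_ U) ≫ h := by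
          rw [← c2, Category.assoc]

open Groth.Agent.Lib.Helper11 in
theorem backward {X X' Y S : Scheme.{u}} (pX : X ⟶ S) (pY : Y ⟶ S)
    [LocallyOfFiniteType pY] [IsSeparated pY]
    (U : X.Opens) (hU : Dense (U : Set ↥X)) (h : (U : Scheme.{u}) ⟶ Y) (hh : h ≫ pY = U.ι ≫ pX)
    (f : X' ⟶ X) [UniversallyOpen f] (x' : ↥X')
    (hXx : ∃ W : X.Opens, f.base x' ∈ W ∧ IsIntegral (W : Scheme.{u}))
    (hXn : IsIntegrallyClosed (X.presheaf.stalk (f.base x')))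
    (V' : X'.Opens) (v' : (V' : Scheme.{u}) ⟶ Y) (hx'V' : x' ∈ V')
    (hv' : v' ≫ pY = V'.ι ≫ f ≫ pX)
    (hagr : X'.homOfLE (inf_le_right : f ⁻¹ᵁ U ⊓ V' ≤ V') ≫ v' =
          X'.homOfLE (inf_le_left : f ⁻¹ᵁ U ⊓ V' ≤ f ⁻¹ᵁ U) ≫ (f ∣_ U) ≫ h) :
    ∃ (V : X.Opens) (v : (V : Scheme.{u}) ⟶ Y), f.base x' ∈ V ∧ v ≫ pY = V.ι ≫ pX ∧
        X.homOfLE (inf_le_right : U ⊓ V ≤ V) ≫ v = X.homOfLE (inf_le_left : U ⊓ V ≤ U) ≫ h := by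
  -- the product and the graph
  obtain ⟨p, hp⟩ : ∃ p : pullback pX pY ⟶ X, p = pullback.fst pX pY := ⟨_, rfl⟩
  haveI : IsSeparated p := by rw [hp]; infer_instance
  haveI : LocallyOfFiniteType p := by rw [hp]; infer_instance
  obtain ⟨γ, hγp, hγs⟩ : ∃ γ : U.toScheme ⟶ pullback pX pY, γ ≫ p = U.ι ∧
      γ ≫ pullback.snd pX pY = h := by
    refine ⟨pullback.lift U.ι h hh.symm, ?_, ?_⟩
    · rw [hp]; exact pullback.lift_fst _ _ _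
    · exact pullback.lift_snd _ _ _
  have hcondP : p ≫ pX = pullback.snd pX pY ≫ pY := by rw [hp]; exact pullback.condition
  -- base change
  obtain ⟨p', hp'⟩ : ∃ p' : pullback f p ⟶ X', p' = pullback.fst f p := ⟨_, rfl⟩
  obtain ⟨F, hF⟩ : ∃ F : pullback f p ⟶ pullback pX pY, F = pullback.snd f p := ⟨_, rfl⟩
  haveI : IsSeparated p' := by rw [hp']; infer_instance
  haveI : UniversallyOpen F := by rw [hF]; infer_instance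
  have hFopen : IsOpenMap F := F.isOpenMap
  obtain ⟨τ, hτp, hτs⟩ : ∃ τ : V'.toScheme ⟶ pullback pX pY, τ ≫ p = V'.ι ≫ f ∧
      τ ≫ pullback.snd pX pY = v' := by
    refine ⟨pullback.lift (V'.ι ≫ f) v' (by rw [Category.assoc, hv']), ?_, ?_⟩
    · rw [hp]; exact pullback.lift_fst _ _ _
    · exact pullback.lift_snd _ _ _
  obtain ⟨σ, hσp', hσF⟩ : ∃ σ : V'.toScheme ⟶ pullback f p, σ ≫ p' = V'.ι ∧ σ ≫ F = τ := by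
    refine ⟨pullback.lift V'.ι τ hτp.symm, ?_, ?_⟩
    · rw [hp']; exact pullback.lift_fst _ _ _
    · rw [hF]; exact pullback.lift_snd _ _ _
  have hfU : (f ∣_ U) ≫ U.ι = (f ⁻¹ᵁ U).ι ≫ f := morphismRestrict_ι f U
  obtain ⟨γ', hγ'p', hγ'F⟩ : ∃ γ' : (f ⁻¹ᵁ U).toScheme ⟶ pullback f p,
      γ' ≫ p' = (f ⁻¹ᵁ U).ι ∧ γ' ≫ F = (f ∣_ U) ≫ γ := by
    refine ⟨pullback.lift (f ⁻¹ᵁ U).ι ((f ∣_ U) ≫ γ) (by rw [Category.assoc, hγp, hfU]), ?_, ?_⟩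
    · rw [hp']; exact pullback.lift_fst _ _ _
    · rw [hF]; exact pullback.lift_snd _ _ _
  have E1 : X'.homOfLE (inf_le_right : f ⁻¹ᵁ U ⊓ V' ≤ V') ≫ τ =
      X'.homOfLE (inf_le_left : f ⁻¹ᵁ U ⊓ V' ≤ f ⁻¹ᵁ U) ≫ (f ∣_ U) ≫ γ := by
    apply pullback.hom_ext
    · have e1 : (X'.homOfLE (inf_le_right : f ⁻¹ᵁ U ⊓ V' ≤ V') ≫ τ) ≫ p =
          (f ⁻¹ᵁ U ⊓ V').ι ≫ f := by
        rw [Category.assoc, hτp, ← Category.assoc, X'.homOfLE_ι]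
      have e2 : (X'.homOfLE (inf_le_left : f ⁻¹ᵁ U ⊓ V' ≤ f ⁻¹ᵁ U) ≫ (f ∣_ U) ≫ γ) ≫ p =
          (f ⁻¹ᵁ U ⊓ V').ι ≫ f := by
        rw [Category.assoc, Category.assoc, hγp, hfU, ← Category.assoc, X'.homOfLE_ι]
      rw [← hp]; exact e1.trans e2.symm
    · rw [Category.assoc, hτs, Category.assoc, Category.assoc, hγs]; exact hagr
  have E2 : X'.homOfLE (inf_le_right : f ⁻¹ᵁ U ⊓ V' ≤ V') ≫ σ =
      X'.homOfLE (inf_le_left : f ⁻¹ᵁ U ⊓ V' ≤ f ⁻¹ᵁ U) ≫ γ' := by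
    apply pullback.hom_ext
    · rw [← hp', Category.assoc, hσp', Category.assoc, hγ'p', X'.homOfLE_ι, X'.homOfLE_ι]
    · rw [← hF, Category.assoc, hσF, Category.assoc, hγ'F]; exact E1
  have hpb : IsPullback γ' (f ∣_ U) F γ := by
    have s : IsPullback (γ' ≫ p') (f ∣_ U) f (γ ≫ p) := by
      rw [hγ'p', hγp]; exact (isPullback_morphismRestrict f U).flip
    have t : IsPullback p' F f p := by rw [hp', hF]; exact IsPullback.of_hasPullback f p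
    exact IsPullback.of_right s hγ'F t
  have hC1 : F ⁻¹' (Set.range γ) ⊆ Set.range γ' := by
    rintro w ⟨a, ha⟩
    obtain ⟨zz, hz1, hz2⟩ :=
      Scheme.Pullback.exists_preimage_pullback (f := F) (g := γ) w a ha.symm
    refine ⟨hpb.isoPullback.inv.base zz, ?_⟩
    have e : (hpb.isoPullback.inv ≫ γ').base zz = (pullback.fst F γ).base zz :=
      congrArg (fun ψ : pullback F γ ⟶ pullback f p => ψ.base zz) hpb.isoPullback_inv_fst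
    exact e.trans hz1
  have hdense : Dense ((f ⁻¹ᵁ U : X'.Opens) : Set X') := hU.preimage f.isOpenMap
  obtain ⟨xV', hxV'def⟩ : ∃ xV' : V'.toScheme, xV'.1 = x' := ⟨⟨x', hx'V'⟩, rfl⟩
  have hD : xV' ∈ closure (Set.range (X'.homOfLE (inf_le_right : f ⁻¹ᵁ U ⊓ V' ≤ V'))) := by
    rw [mem_closure_iff]
    intro N hN hxN
    have hN' : IsOpen (V'.ι.base '' N) := V'.ι.isOpenEmbedding.isOpenMap N hN
    have hxN' : x' ∈ V'.ι.base '' N := ⟨xV', hxN, hxV'def⟩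
    obtain ⟨_, ⟨n, hnN, rfl⟩, hnU⟩ := hdense.inter_open_nonempty _ hN' ⟨x', hxN'⟩
    obtain ⟨m, hm⟩ : ∃ m : (f ⁻¹ᵁ U ⊓ V' : X'.Opens).toScheme, m.1 = n.1 :=
      ⟨⟨n.1, hnU, n.2⟩, rfl⟩
    refine ⟨n, hnN, ⟨m, ?_⟩⟩
    apply Subtype.ext
    rw [X'.homOfLE_apply]; exact hm
  obtain ⟨z, hzdef⟩ : ∃ z : ↥(pullback pX pY), z = τ.base xV' := ⟨_, rfl⟩
  have hpz : p.base z = f.base x' := by
    have e : (τ ≫ p).base xV' = (V'.ι ≫ f).base xV' :=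
      congrArg (fun ψ : V'.toScheme ⟶ X => ψ.base xV') hτp
    rw [hzdef, ← hxV'def]; exact e
  have hzΓ : z ∈ closure (Set.range γ) := by
    rw [hzdef]
    refine map_mem_closure (f := fun w : V'.toScheme => τ.base w) τ.continuous hD ?_
    rintro _ ⟨a, rfl⟩
    refine ⟨((X'.homOfLE (inf_le_left : f ⁻¹ᵁ U ⊓ V' ≤ f ⁻¹ᵁ U)) ≫ (f ∣_ U)).base a, ?_⟩
    have e : (X'.homOfLE (inf_le_right : f ⁻¹ᵁ U ⊓ V' ≤ V') ≫ τ).base a =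
        (X'.homOfLE (inf_le_left : f ⁻¹ᵁ U ⊓ V' ≤ f ⁻¹ᵁ U) ≫ (f ∣_ U) ≫ γ).base a :=
      congrArg (fun ψ : (f ⁻¹ᵁ U ⊓ V' : X'.Opens).toScheme ⟶ pullback pX pY => ψ.base a) E1
    exact e.symm
  -- the section `σ` is a closed immersion into `p' ⁻¹ V'`
  have hrσ : Set.range σ ⊆ Set.range (p' ⁻¹ᵁ V').ι := by
    rintro _ ⟨t, rfl⟩
    rw [Scheme.Opens.range_ι]
    show p'.base (σ.base t) ∈ V'
    have e : (σ ≫ p').base t = V'.ι.base t :=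
      congrArg (fun ψ : V'.toScheme ⟶ X' => ψ.base t) hσp'
    have e' : p'.base (σ.base t) = t.1 := e
    rw [e']; exact t.2
  obtain ⟨σ', hσ'⟩ : ∃ σ' : V'.toScheme ⟶ (p' ⁻¹ᵁ V').toScheme, σ' ≫ (p' ⁻¹ᵁ V').ι = σ :=
    ⟨IsOpenImmersion.lift _ _ hrσ, IsOpenImmersion.lift_fac _ _ hrσ⟩
  have hσ'id : σ' ≫ (p' ∣_ V') = 𝟙 _ := by
    rw [← cancel_mono V'.ι, Category.assoc, morphismRestrict_ι, ← Category.assoc, hσ', hσp',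
      Category.id_comp]
  haveI : IsClosedImmersion (σ' ≫ (p' ∣_ V')) := by rw [hσ'id]; infer_instance
  haveI : IsClosedImmersion σ' := IsClosedImmersion.of_comp σ' (p' ∣_ V')
  have hclosed : IsClosed (Set.range σ') := σ'.isClosedEmbedding.isClosed_range
  have hW : ((⊤ : (pullback pX pY).Opens) : Set ↥(pullback pX pY)) ∩ closure (Set.range γ) ∩
      p ⁻¹' {f.base x'} = {z} := by
    apply Set.eq_singleton_iff_unique_mem.mpr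
    refine ⟨⟨⟨trivial, hzΓ⟩, hpz⟩, ?_⟩
    rintro z₁ ⟨⟨_, hz₁cl⟩, hz₁x⟩
    have hz₁x' : f.base x' = p.base z₁ := Eq.symm hz₁x
    obtain ⟨w₁, hw₁1, hw₁2⟩ :=
      Scheme.Pullback.exists_preimage_pullback (f := f) (g := p) x' z₁ hz₁x'
    have hw₁p' : p'.base w₁ = x' := by rw [hp']; exact hw₁1
    have hw₁F : F.base w₁ = z₁ := by rw [hF]; exact hw₁2
    have hw₁cl : w₁ ∈ closure (Set.range γ') := by
      have h1 : w₁ ∈ F ⁻¹' closure (Set.range γ) := by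
        show F.base w₁ ∈ closure (Set.range γ)
        rw [hw₁F]; exact hz₁cl
      rw [hFopen.preimage_closure_eq_closure_preimage F.continuous] at h1
      exact closure_mono hC1 h1
    obtain ⟨w₁', hw₁'⟩ : ∃ w₁' : (p' ⁻¹ᵁ V').toScheme, w₁'.1 = w₁ :=
      ⟨⟨w₁, by show p'.base w₁ ∈ V'; rw [hw₁p']; exact hx'V'⟩, rfl⟩
    have hw₁'cl : w₁' ∈ closure (Set.range σ') := by
      rw [mem_closure_iff]
      intro N hN hwN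
      have hN' : IsOpen ((p' ⁻¹ᵁ V').ι.base '' N) :=
        (p' ⁻¹ᵁ V').ι.isOpenEmbedding.isOpenMap N hN
      have hwN' : w₁ ∈ (p' ⁻¹ᵁ V').ι.base '' N := ⟨w₁', hwN, hw₁'⟩
      obtain ⟨_, ⟨n, hnN, rfl⟩, ⟨t, ht⟩⟩ := mem_closure_iff.mp hw₁cl _ hN' hwN'
      have htV' : t.1 ∈ V' := by
        have e : (γ' ≫ p').base t = (f ⁻¹ᵁ U).ι.base t :=
          congrArg (fun ψ : (f ⁻¹ᵁ U).toScheme ⟶ X' => ψ.base t) hγ'p'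
        have e' : p'.base (γ'.base t) = t.1 := e
        rw [← e']
        have ht' : γ'.base t = (p' ⁻¹ᵁ V').ι.base n := ht
        rw [ht']; exact n.2
      obtain ⟨m, hm⟩ : ∃ m : (f ⁻¹ᵁ U ⊓ V' : X'.Opens).toScheme, m.1 = t.1 :=
        ⟨⟨t.1, t.2, htV'⟩, rfl⟩
      refine ⟨n, hnN, ⟨(X'.homOfLE (inf_le_right : f ⁻¹ᵁ U ⊓ V' ≤ V')).base m, ?_⟩⟩
      apply (p' ⁻¹ᵁ V').ι.isOpenEmbedding.injective
      have e2 : (X'.homOfLE (inf_le_right : f ⁻¹ᵁ U ⊓ V' ≤ V') ≫ σ).base m =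
          (X'.homOfLE (inf_le_left : f ⁻¹ᵁ U ⊓ V' ≤ f ⁻¹ᵁ U) ≫ γ').base m :=
        congrArg (fun ψ : (f ⁻¹ᵁ U ⊓ V' : X'.Opens).toScheme ⟶ pullback f p => ψ.base m) E2
      have e3 : (X'.homOfLE (inf_le_left : f ⁻¹ᵁ U ⊓ V' ≤ f ⁻¹ᵁ U)).base m = t :=
        Subtype.ext ((X'.homOfLE_apply _ _).trans hm)
      have e4 : (σ' ≫ (p' ⁻¹ᵁ V').ι).base
          ((X'.homOfLE (inf_le_right : f ⁻¹ᵁ U ⊓ V' ≤ V')).base m) =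
          σ.base ((X'.homOfLE (inf_le_right : f ⁻¹ᵁ U ⊓ V' ≤ V')).base m) := by rw [hσ']
      calc (p' ⁻¹ᵁ V').ι.base (σ'.base ((X'.homOfLE (inf_le_right : f ⁻¹ᵁ U ⊓ V' ≤ V')).base m))
          = σ.base ((X'.homOfLE (inf_le_right : f ⁻¹ᵁ U ⊓ V' ≤ V')).base m) := e4
        _ = γ'.base ((X'.homOfLE (inf_le_left : f ⁻¹ᵁ U ⊓ V' ≤ f ⁻¹ᵁ U)).base m) := e2
        _ = γ'.base t := by rw [e3]
        _ = (p' ⁻¹ᵁ V').ι.base n := ht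
    rw [hclosed.closure_eq] at hw₁'cl
    obtain ⟨t₁, ht₁⟩ := hw₁'cl
    have ht₁' : σ'.base t₁ = w₁' := ht₁
    have ht₁x : t₁ = xV' := by
      apply Subtype.ext
      rw [hxV'def, ← hw₁p', ← hw₁', ← ht₁']
      have e : (σ' ≫ (p' ⁻¹ᵁ V').ι ≫ p').base t₁ = V'.ι.base t₁ := by
        rw [← Category.assoc, hσ', hσp']
      exact e.symm
    show z₁ = z
    rw [← hw₁F, ← hw₁', ← ht₁', ht₁x, hzdef]
    have e : (σ' ≫ (p' ⁻¹ᵁ V').ι ≫ F).base xV' = τ.base xV' := by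
      rw [← Category.assoc, hσ', hσF]
    exact e
  obtain ⟨V, s, hxV, hs, hag⟩ := Birat8.exists_extension_of_isolated' p U γ hγp (f.base x')
    (hU _) hXx hXn z hpz hzΓ ⊤ hW
  refine ⟨V, s ≫ pullback.snd pX pY, hxV, ?_, ?_⟩
  · rw [Category.assoc, ← hcondP, ← Category.assoc, hs]
  · calc X.homOfLE (inf_le_right : U ⊓ V ≤ V) ≫ s ≫ pullback.snd pX pY
        = (X.homOfLE (inf_le_right : U ⊓ V ≤ V) ≫ s) ≫ pullback.snd pX pY :=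
          (Category.assoc _ _ _).symm
      _ = (X.homOfLE (inf_le_left : U ⊓ V ≤ U) ≫ γ) ≫ pullback.snd pX pY := by rw [hag]
      _ = X.homOfLE (inf_le_left : U ⊓ V ≤ U) ≫ h := by rw [Category.assoc, hγs]

/-- Let X be a normal S-scheme (locally integral with integrally closed local rings), Y an S-scheme
locally of finite type and separated over S, h : U → Y an S-morphism on a dense open subset (a
rational S-map ω), and f : X' → X a morphism locally of finite type and universally open with X'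
reduced, so that f⁻¹(U) is dense and ω ∘ f is defined. Then for x' in X' with image x, ω is defined
at x if and only if ω ∘ f is defined at x': some S-morphism on an open neighbourhood of x agrees
with h on U if and only if some S-morphism on an open neighbourhood of x' agrees with h ∘ f on the
preimage of U. -/
theorem result {X X' Y S : Scheme.{u}} (pX : X ⟶ S) (pY : Y ⟶ S)
    [LocallyOfFiniteType pY] [IsSeparated pY] (hX : ∀ y : ↥X, ∃ W : X.Opens, y ∈ W ∧ IsIntegral (W : Scheme.{u}))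
    (hXn : ∀ y : ↥X, IsIntegrallyClosed (X.presheaf.stalk y))
    (U : X.Opens) (hU : Dense (U : Set ↥X)) (h : (U : Scheme.{u}) ⟶ Y) (hh : h ≫ pY = U.ι ≫ pX)
    (f : X' ⟶ X) [LocallyOfFiniteType f] [UniversallyOpen f] [IsReduced X'] (x' : ↥X') :
    (∃ (V : X.Opens) (v : (V : Scheme.{u}) ⟶ Y), f x' ∈ V ∧ v ≫ pY = V.ι ≫ pX ∧
        X.homOfLE (inf_le_right : U ⊓ V ≤ V) ≫ v = X.homOfLE (inf_le_left : U ⊓ V ≤ U) ≫ h) ↔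
      ∃ (V' : X'.Opens) (v' : (V' : Scheme.{u}) ⟶ Y), x' ∈ V' ∧ v' ≫ pY = V'.ι ≫ f ≫ pX ∧
        X'.homOfLE (inf_le_right : f ⁻¹ᵁ U ⊓ V' ≤ V') ≫ v' =
          X'.homOfLE (inf_le_left : f ⁻¹ᵁ U ⊓ V' ≤ f ⁻¹ᵁ U) ≫ (f ∣_ U) ≫ h := by
  constructor
  · rintro ⟨V, v, hxV, hv, hag⟩
    exact forward pX pY U h f x' V v hxV hv hag
  · rintro ⟨V', v', hx'V', hv', hagr⟩
    exact backward pX pY U hU h hh f x' (hX _) (hXn _) V' v' hx'V' hv' hagr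

end Groth.Agent.S3837
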