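import Groth.Statements.S3842
import Mathlib
import Groth.Agent.Lib.Helper6.SchemDense2

set_option autoImplicit false
universe u
open CategoryTheory CategoryTheory.Limits AlgebraicGeometry TopologicalSpace
open Rat20

namespace Groth.Agent.S3842

/-- For the open subset U = X; the general case is the same statement over the open subscheme U: let f :
X' → X be a morphism of schemes with X' reduced, suppose the irreducible components of X form a
locally finite family and that every irreducible component of X' dominates an irreducible component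
of X (the closure of its image is an irreducible component of X). Then for every schematically dense
open subset V of X, the preimage f⁻¹(V) is schematically dense in X'. -/
theorem result {X X' : Scheme.{u}} (f : X' ⟶ X) [IsReduced X']
    (hfin : ∀ x : ↥X, ∃ W : X.Opens, x ∈ W ∧ {Z ∈ irreducibleComponents ↥X | (Z ∩ (W : Set ↥X)).Nonempty}.Finite)
    (hdom : ∀ Z' ∈ irreducibleComponents ↥X', closure (f '' Z') ∈ irreducibleComponents ↥X)
    (V : X.Opens) (hV : CInt.IsSchematicallyDense V) : CInt.IsSchematicallyDense (f ⁻¹ᵁ V) := by
  intro V'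
  rw [injective_iff_map_eq_zero]
  intro s hs
  by_contra hs0
  have hne : X'.basicOpen s ≠ ⊥ := fun h => hs0 ((basicOpen_eq_bot_iff s).mp h)
  obtain ⟨x', hx'⟩ := (TopologicalSpace.Opens.ne_bot_iff_nonempty _).mp hne
  obtain ⟨η', hη', hspec⟩ :=
    Groth.Agent.Lib.Helper6.SchemDenseAff.exists_genericPoint_specializes X' x'
  have hη's : η' ∈ X'.basicOpen s := hspec.mem_open (X'.basicOpen s).isOpen hx'
  have hη'V' : η' ∈ V' := X'.basicOpen_le s hη's
  have hfη' : f η' ∈ genericPoints X := by
    change closure {f η'} ∈ irreducibleComponents X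
    have := hdom (closure {η'}) hη'
    rwa [closure_image_closure f.continuous, Set.image_singleton] at this
  have hη'V : η' ∈ f ⁻¹ᵁ V :=
    Groth.Agent.Lib.Helper6.SchemDenseAff.genericPoint_mem_of_isSchematicallyDense hfin hV hfη'
  have hunit : IsUnit (X'.presheaf.germ V' η' hη'V' s) :=
    (Scheme.mem_basicOpen X' s η' hη'V').mp hη's
  have hg := congrArg (X'.presheaf.germ (V' ⊓ f ⁻¹ᵁ V) η' ⟨hη'V', hη'V⟩) hs
  rw [map_zero, TopCat.Presheaf.germ_res_apply] at hg
  have h0 : IsUnit (0 : X'.presheaf.stalk η') := by
    rw [← hg]
    exact hunit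
  exact not_isUnit_zero h0

end Groth.Agent.S3842
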