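import Groth.Statements.S3846
import Mathlib.AlgebraicGeometry.Morphisms.FormallyUnramified
import Groth.Agent.S3845

set_option autoImplicit false
universe u
open CategoryTheory CategoryTheory.Limits AlgebraicGeometry TopologicalSpace
open Unram17

namespace Groth.Agent.S3846

/-- a) iff b''): let f : X → Y be locally of finite presentation and x a point of X. Then f is
unramified on some open neighbourhood of x if and only if, for every base change g : Y' → Y and
every section s' of X ×_Y Y' → Y', s' is a local isomorphism at every point y' of Y' such that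
s'(y') lies over x. -/
theorem result {X Y : Scheme.{u}} (f : X ⟶ Y) [LocallyOfFinitePresentation f]
    (x : ↥X) :
    (∃ U : X.Opens, x ∈ U ∧ FormallyUnramified (U.ι ≫ f)) ↔
      ∀ (Y' : Scheme.{u}) (g : Y' ⟶ Y) (s' : Y' ⟶ pullback f g), s' ≫ pullback.snd f g = 𝟙 Y' →
        ∀ y' : ↥Y', pullback.fst f g (s' y') = x → SchLoc.IsLocalIsoAt s' y' := by
  constructor
  · intro hU Y' g s' hs y' hy'
    obtain ⟨U₁, hxU₁, hopen⟩ := (Groth.Agent.S3845.result f x).mp hU
    have hq : pullback.fst f g ≫ f = (pullback.snd f g ≫ s' ≫ pullback.fst f g) ≫ f := by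
      simp only [Category.assoc]
      rw [pullback.condition, reassoc_of% hs]
    have w : s' ≫ pullback.lift (pullback.fst f g) (pullback.snd f g ≫ s' ≫ pullback.fst f g) hq =
        (s' ≫ pullback.fst f g) ≫ pullback.diagonal f := by
      apply pullback.hom_ext
      · simp only [Category.assoc, pullback.lift_fst, pullback.diagonal_fst, Category.comp_id]
      · simp only [Category.assoc, pullback.lift_snd, pullback.diagonal_snd, Category.comp_id]
        rw [reassoc_of% hs]
    have h1 : ∀ c : PullbackCone (pullback.lift (pullback.fst f g)
        (pullback.snd f g ≫ s' ≫ pullback.fst f g) hq) (pullback.diagonal f),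
        c.fst ≫ pullback.fst f g = c.snd := by
      intro c
      have := congrArg (· ≫ pullback.fst f f) c.condition
      simpa [pullback.lift_fst] using this
    have h2 : ∀ c : PullbackCone (pullback.lift (pullback.fst f g)
        (pullback.snd f g ≫ s' ≫ pullback.fst f g) hq) (pullback.diagonal f),
        c.fst ≫ pullback.snd f g ≫ s' ≫ pullback.fst f g = c.snd := by
      intro c
      have := congrArg (· ≫ pullback.snd f f) c.condition
      simpa [pullback.lift_snd] using this
    have sq2 : IsPullback s' (s' ≫ pullback.fst f g)
        (pullback.lift (pullback.fst f g) (pullback.snd f g ≫ s' ≫ pullback.fst f g) hq)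
        (pullback.diagonal f) := by
      refine ⟨⟨w⟩, ⟨PullbackCone.IsLimit.mk w (fun c => c.fst ≫ pullback.snd f g) ?_ ?_ ?_⟩⟩
      · intro c
        apply pullback.hom_ext
        · rw [Category.assoc, Category.assoc, h1]
          exact h2 c
        · rw [Category.assoc, Category.assoc, hs, Category.comp_id]
      · intro c
        rw [Category.assoc]
        exact h2 c
      · intro c m hm1 hm2
        rw [← hm1, Category.assoc, hs, Category.comp_id]
    have hy : (s' ≫ pullback.fst f g) y' ∈ U₁ := by
      rw [Scheme.Hom.comp_apply, hy']
      exact hxU₁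
    refine ⟨(s' ≫ pullback.fst f g) ⁻¹ᵁ U₁, hy, ?_⟩
    have sq1 := (isPullback_morphismRestrict (s' ≫ pullback.fst f g) U₁).flip
    have big := sq1.paste_horiz sq2
    exact MorphismProperty.of_isPullback (P := @IsOpenImmersion) big.flip hopen
  · intro H
    apply (Groth.Agent.S3845.result f x).mpr
    refine H X f (pullback.diagonal f) (pullback.diagonal_snd f) x ?_
    rw [← Scheme.Hom.comp_apply, pullback.diagonal_fst]
    rfl

end Groth.Agent.S3846
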