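import Groth.Statements.S3848
import Groth.Agent.Lib.Helper11.Birat9

set_option autoImplicit false
universe u
open CategoryTheory CategoryTheory.Limits AlgebraicGeometry TopologicalSpace
open Rat20

namespace Groth.Agent.S3848

open Groth.Agent.Lib.Helper11 in
theorem forward {X Y : Scheme.{u}} (q : Y ⟶ X) (U : X.Opens) (h : (U : Scheme.{u}) ⟶ Y) (x : ↥X)
    (y₀ : ↥Y) (U' : X.Opens) (hUU' : U ≤ U') (hxU' : x ∈ U') (h' : (U' : Scheme.{u}) ⟶ Y)
    (hh'q : h' ≫ q = U'.ι) (hh'h : X.homOfLE hUU' ≫ h' = h) (hh'x : h' ⟨x, hxU'⟩ = y₀)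
    (R : Type u) [CommRing R] [IsDomain R] [IsDiscreteValuationRing R]
    (u : Spec (CommRingCat.of R) ⟶ X) (hux : u (IsLocalRing.closedPoint R) = x)
    (ub : Spec (CommRingCat.of (FractionRing R)) ⟶ (U : Scheme.{u}))
    (hub : ub ≫ U.ι = Spec.map (CommRingCat.ofHom (algebraMap R (FractionRing R))) ≫ u) :
    ∃ h₁ : Spec (CommRingCat.of R) ⟶ Y, h₁ ≫ q = u ∧ h₁ (IsLocalRing.closedPoint R) = y₀ ∧
      Spec.map (CommRingCat.ofHom (algebraMap R (FractionRing R))) ≫ h₁ = ub ≫ h := by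
  have hux0 : u.base (IsLocalRing.closedPoint R) = x := hux
  have hux' : u.base (IsLocalRing.closedPoint R) ∈ U' := by
    rw [hux0]; exact hxU'
  obtain ⟨l, hl⟩ := Birat9.exists_lift_of_closedPoint_mem U' R u hux'
  have hlc : l.base (IsLocalRing.closedPoint R) = ⟨x, hxU'⟩ := by
    apply Subtype.ext
    have h1 : (l ≫ U'.ι).base (IsLocalRing.closedPoint R) = x := by rw [hl]; exact hux0
    exact h1
  refine ⟨l ≫ h', ?_, ?_, ?_⟩
  · rw [Category.assoc, hh'q, hl]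
  · show h'.base (l.base (IsLocalRing.closedPoint R)) = y₀
    rw [hlc]; exact hh'x
  · have h2 : Spec.map (CommRingCat.ofHom (algebraMap R (FractionRing R))) ≫ l =
        ub ≫ X.homOfLE hUU' := by
      rw [← cancel_mono U'.ι, Category.assoc, Category.assoc, hl, X.homOfLE_ι, hub]
    calc Spec.map (CommRingCat.ofHom (algebraMap R (FractionRing R))) ≫ l ≫ h'
        = (Spec.map (CommRingCat.ofHom (algebraMap R (FractionRing R))) ≫ l) ≫ h' :=
          (Category.assoc _ _ _).symm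
      _ = (ub ≫ X.homOfLE hUU') ≫ h' := by rw [h2]
      _ = ub ≫ h := by rw [Category.assoc, hh'h]

open Groth.Agent.Lib.Helper11 in
theorem backward {X Y : Scheme.{u}} [IsLocallyNoetherian X] (q : Y ⟶ X)
    [LocallyOfFiniteType q] (U : X.Opens) (hU : Dense (U : Set ↥X)) (h : (U : Scheme.{u}) ⟶ Y)
    (hh : h ≫ q = U.ι) (x : ↥X) (hxU : x ∉ U) [IsDomain ↑(X.presheaf.stalk x)]
    (hx : IsIntegrallyClosed ↑(X.presheaf.stalk x)) (y₀ : ↥Y) (hy₀ : q y₀ = x)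
    (H : ∀ (R : Type u) [CommRing R] [IsDomain R] [IsDiscreteValuationRing R]
        (u : Spec (CommRingCat.of R) ⟶ X), u (IsLocalRing.closedPoint R) = x →
        ∀ ub : Spec (CommRingCat.of (FractionRing R)) ⟶ (U : Scheme.{u}),
          ub ≫ U.ι = Spec.map (CommRingCat.ofHom (algebraMap R (FractionRing R))) ≫ u →
          ∃ h₁ : Spec (CommRingCat.of R) ⟶ Y, h₁ ≫ q = u ∧ h₁ (IsLocalRing.closedPoint R) = y₀ ∧
            Spec.map (CommRingCat.ofHom (algebraMap R (FractionRing R))) ≫ h₁ = ub ≫ h) :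
    ∃ (U' : X.Opens) (hUU' : U ≤ U') (hxU' : x ∈ U') (h' : (U' : Scheme.{u}) ⟶ Y),
        h' ≫ q = U'.ι ∧ X.homOfLE hUU' ≫ h' = h ∧ h' ⟨x, hxU'⟩ = y₀ := by
  have hy₀' : q.base y₀ = x := hy₀
  -- affine and integral neighbourhoods
  obtain ⟨X₀, hX₀aff, hxX₀⟩ : ∃ X₀ : X.Opens, IsAffineOpen X₀ ∧ x ∈ X₀ := by
    obtain ⟨X₀, h1, h2, -⟩ := (Opens.isBasis_iff_nbhd.mp (X.isBasis_affineOpens))
      (show x ∈ (⊤ : X.Opens) from trivial)
    exact ⟨X₀, h1, h2⟩
  obtain ⟨Wi, hxWi, hWi⟩ := Birat8.exists_integral_nbhd_of_isDomain_stalk x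
  have hy₀X₀ : y₀ ∈ q ⁻¹ᵁ X₀ := by
    show q.base y₀ ∈ X₀
    rw [hy₀']; exact hxX₀
  obtain ⟨Y₀, hY₀aff, hy₀Y₀, hY₀le⟩ : ∃ Y₀ : Y.Opens, IsAffineOpen Y₀ ∧ y₀ ∈ Y₀ ∧
      Y₀ ≤ q ⁻¹ᵁ X₀ := by
    obtain ⟨Y₀, h1, h2, h3⟩ := (Opens.isBasis_iff_nbhd.mp (Y.isBasis_affineOpens)) hy₀X₀
    exact ⟨Y₀, h1, h2, h3⟩
  -- the key consequence of the hypothesis
  have K : ∀ (R : Type u) [CommRing R] [IsDomain R] [IsDiscreteValuationRing R]
      (u : Spec (CommRingCat.of R) ⟶ X), u.base (IsLocalRing.closedPoint R) = x →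
      ∀ ub : Spec (CommRingCat.of (FractionRing R)) ⟶ (U : Scheme.{u}),
        ub ≫ U.ι = Spec.map (CommRingCat.ofHom (algebraMap R (FractionRing R))) ≫ u →
        ∃ h₁' : Spec (CommRingCat.of R) ⟶ Y₀.toScheme, h₁' ≫ Y₀.ι ≫ q = u ∧
          (h₁'.base (IsLocalRing.closedPoint R)).1 = y₀ ∧
          Spec.map (CommRingCat.ofHom (algebraMap R (FractionRing R))) ≫ h₁' ≫ Y₀.ι = ub ≫ h := by
    intro R _ _ _ u hux ub hub
    obtain ⟨h₁, h1, h2, h3⟩ := H R u hux ub hub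
    have h2₀ : h₁.base (IsLocalRing.closedPoint R) = y₀ := h2
    have h2' : h₁.base (IsLocalRing.closedPoint R) ∈ Y₀ := by
      rw [h2₀]; exact hy₀Y₀
    obtain ⟨h₁', hh₁'⟩ := Birat9.exists_lift_of_closedPoint_mem Y₀ R h₁ h2'
    refine ⟨h₁', by rw [← Category.assoc, hh₁', h1], ?_, by rw [hh₁', h3]⟩
    have e1 : (h₁' ≫ Y₀.ι).base (IsLocalRing.closedPoint R) = y₀ := by rw [hh₁']; exact h2₀
    exact e1
  -- the open set where `h` lands in `Y₀`
  obtain ⟨OX, hOXo, hOXmem⟩ : ∃ OX : Set X, IsOpen OX ∧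
      ∀ a : U.toScheme, U.ι.base a ∈ OX ↔ h.base a ∈ Y₀ := by
    refine ⟨U.ι.base '' ((h ⁻¹ᵁ Y₀ : U.toScheme.Opens) : Set U.toScheme),
      U.ι.isOpenEmbedding.isOpenMap _ (h ⁻¹ᵁ Y₀).isOpen, ?_⟩
    intro a
    constructor
    · rintro ⟨a', ha', haa'⟩
      have e : a' = a := U.ι.isOpenEmbedding.injective haa'
      rw [← e]; exact ha'
    · intro ha; exact ⟨a, ha, rfl⟩
  -- Claim A
  have hA : x ∉ closure ((U : Set X) \ OX) := by
    intro hxcl
    haveI : IsNoetherianRing Γ(X, X₀) := IsLocallyNoetherian.component_noetherian ⟨X₀, hX₀aff⟩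
    have hNoeth := noetherianSpace_of_isAffineOpen X₀ hX₀aff
    obtain ⟨c, ⟨hcU, hcO⟩, hcx⟩ :=
      @Birat9.exists_specializes_of_mem_closure_diff' ↥X _ _ X₀ hNoeth _ _ U.isOpen hOXo _
        hxX₀ hxcl
    have hcne : c ≠ x := fun e => hxU (e ▸ hcU)
    obtain ⟨R, iR, iD, iV, u, huc, hug⟩ := Birat9.exists_dvr_of_specializes hcx hcne
    have hr : Set.range (Spec.map (CommRingCat.ofHom (algebraMap R (FractionRing R))) ≫ u) ⊆
        Set.range U.ι := by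
      rintro _ ⟨t, rfl⟩
      rw [Scheme.Opens.range_ι]
      show (Spec.map (CommRingCat.ofHom (algebraMap R (FractionRing R))) ≫ u).base t ∈ (U : Set X)
      rw [hug t]; exact hcU
    obtain ⟨ub, hub⟩ : ∃ ub : Spec (CommRingCat.of (FractionRing R)) ⟶ U.toScheme,
        ub ≫ U.ι = Spec.map (CommRingCat.ofHom (algebraMap R (FractionRing R))) ≫ u :=
      ⟨IsOpenImmersion.lift _ _ hr, IsOpenImmersion.lift_fac _ _ hr⟩
    obtain ⟨h₁', k1, k2, k3⟩ := K R u huc ub hub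
    obtain ⟨t₀, -⟩ : ∃ t₀ : Spec (CommRingCat.of (FractionRing R)), t₀ = t₀ :=
      ⟨(⟨⊥, Ideal.isPrime_bot⟩ : PrimeSpectrum (FractionRing R)), rfl⟩
    have hubt : U.ι.base (ub.base t₀) = c := by
      have e0 : (ub ≫ U.ι).base t₀ = (Spec.map (CommRingCat.ofHom
          (algebraMap R (FractionRing R))) ≫ u).base t₀ :=
        congrArg (fun ψ : Spec (CommRingCat.of (FractionRing R)) ⟶ X => ψ.base t₀) hub
      exact e0.trans (hug t₀)
    have hmem : h.base (ub.base t₀) ∈ Y₀ := by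
      have e1 : (Spec.map (CommRingCat.ofHom (algebraMap R (FractionRing R))) ≫ h₁' ≫
          Y₀.ι).base t₀ = (ub ≫ h).base t₀ :=
        congrArg (fun ψ : Spec (CommRingCat.of (FractionRing R)) ⟶ Y => ψ.base t₀) k3
      have e2 : h.base (ub.base t₀) = Y₀.ι.base (h₁'.base
          ((Spec.map (CommRingCat.ofHom (algebraMap R (FractionRing R)))).base t₀)) := e1.symm
      rw [e2]
      exact (h₁'.base _).2
    have hOc : U.ι.base (ub.base t₀) ∈ OX := (hOXmem _).mpr hmem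
    rw [hubt] at hOc
    exact hcO hOc
  obtain ⟨VA, hVA⟩ : ∃ VA : X.Opens, (VA : Set X) = (closure ((U : Set X) \ OX))ᶜ :=
    ⟨⟨_, isClosed_closure.isOpen_compl⟩, rfl⟩
  have hxVA : x ∈ VA := by
    show x ∈ (VA : Set X)
    rw [hVA]; exact hA
  have hVAh : ∀ a : U.toScheme, a.1 ∈ VA → h.base a ∈ Y₀ := by
    intro a haVA
    have h1 : a.1 ∉ closure ((U : Set X) \ OX) := by
      have h0 : a.1 ∈ (VA : Set X) := haVA
      rw [hVA] at h0; exact h0
    have h2 : U.ι.base a ∈ OX := by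
      by_contra hn
      exact h1 (subset_closure ⟨a.2, hn⟩)
    exact (hOXmem a).mp h2
  obtain ⟨V₁, hV₁⟩ : ∃ V₁ : X.Opens, V₁ = VA ⊓ Wi := ⟨_, rfl⟩
  have hxV₁ : x ∈ V₁ := by rw [hV₁]; exact ⟨hxVA, hxWi⟩
  obtain ⟨U₀, hU₀⟩ : ∃ U₀ : X.Opens, U₀ = U ⊓ V₁ := ⟨_, rfl⟩
  have hU₀U : U₀ ≤ U := by rw [hU₀]; exact inf_le_left
  have hU₀V₁ : U₀ ≤ V₁ := by rw [hU₀]; exact inf_le_right
  have hU₀Wi : U₀ ≤ Wi := hU₀V₁.trans (by rw [hV₁]; exact inf_le_right)
  have hU₀VA : U₀ ≤ VA := hU₀V₁.trans (by rw [hV₁]; exact inf_le_left)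
  have hxU₀cl : x ∈ closure (U₀ : Set X) := by
    rw [mem_closure_iff]
    intro N hN hxN
    obtain ⟨a, ⟨haN, haV₁⟩, haU⟩ :=
      hU.inter_open_nonempty (N ∩ V₁) (hN.inter V₁.isOpen) ⟨x, hxN, hxV₁⟩
    refine ⟨a, haN, ?_⟩
    rw [hU₀]; exact ⟨haU, haV₁⟩
  haveI : Nonempty U₀.toScheme := by
    obtain ⟨a, _, haU₀⟩ := mem_closure_iff.mp hxU₀cl Set.univ isOpen_univ trivial
    exact ⟨⟨a, haU₀⟩⟩
  haveI := hWi
  haveI : IsIntegral U₀.toScheme := isIntegral_of_isOpenImmersion (X.homOfLE hU₀Wi)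
  -- the rational section into `Y₀`
  have hr₀ : Set.range (X.homOfLE hU₀U ≫ h) ⊆ Set.range Y₀.ι := by
    rintro _ ⟨a, rfl⟩
    rw [Scheme.Opens.range_ι]
    show h.base ((X.homOfLE hU₀U).base a) ∈ Y₀
    apply hVAh
    rw [X.homOfLE_apply]
    exact hU₀VA a.2
  obtain ⟨γ, hγ⟩ : ∃ γ : U₀.toScheme ⟶ Y₀.toScheme, γ ≫ Y₀.ι = X.homOfLE hU₀U ≫ h :=
    ⟨IsOpenImmersion.lift _ _ hr₀, IsOpenImmersion.lift_fac _ _ hr₀⟩
  obtain ⟨p, hp⟩ : ∃ p : Y₀.toScheme ⟶ X, p = Y₀.ι ≫ q := ⟨_, rfl⟩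
  haveI : LocallyOfFiniteType p := by rw [hp]; infer_instance
  haveI : IsSeparated p := by
    have hrX : Set.range (Y₀.ι ≫ q) ⊆ Set.range X₀.ι := by
      rintro _ ⟨w, rfl⟩
      rw [Scheme.Opens.range_ι]
      exact hY₀le w.2
    haveI : IsAffine Y₀.toScheme := hY₀aff
    haveI : IsAffine X₀.toScheme := hX₀aff
    have e : p = IsOpenImmersion.lift X₀.ι (Y₀.ι ≫ q) hrX ≫ X₀.ι := by
      rw [IsOpenImmersion.lift_fac, hp]
    rw [e]; infer_instance
  have hγp : γ ≫ p = U₀.ι := by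
    rw [hp, ← Category.assoc, hγ, Category.assoc, hh, X.homOfLE_ι]
  obtain ⟨z, hz⟩ : ∃ z : Y₀.toScheme, z.1 = y₀ := ⟨⟨y₀, hy₀Y₀⟩, rfl⟩
  have hpz : p.base z = x := by
    rw [hp]
    show q.base z.1 = x
    rw [hz]; exact hy₀'
  -- Claim G
  have hG : z ∈ closure (Set.range γ) := by
    have hbot := Birat8.fromSpecStalk_bot_mem_of_dense x U hU
    obtain ⟨c, hc⟩ : ∃ c : X, c = (X.fromSpecStalk x).base
        (⟨⊥, Ideal.isPrime_bot⟩ : PrimeSpectrum (X.presheaf.stalk x)) := ⟨_, rfl⟩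
    rw [← hc] at hbot
    have hcx : c ⤳ x := by
      have h0 : c ∈ Set.range (X.fromSpecStalk x) := ⟨_, hc.symm⟩
      rwa [Scheme.range_fromSpecStalk] at h0
    have hcne : c ≠ x := fun e => hxU (e ▸ hbot)
    have hcU₀ : c ∈ U₀ := by rw [hU₀]; exact ⟨hbot, hcx.mem_open V₁.isOpen hxV₁⟩
    obtain ⟨R, iR, iD, iV, u, huc, hug⟩ := Birat9.exists_dvr_of_specializes hcx hcne
    have hr : Set.range (Spec.map (CommRingCat.ofHom (algebraMap R (FractionRing R))) ≫ u) ⊆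
        Set.range U.ι := by
      rintro _ ⟨t, rfl⟩
      rw [Scheme.Opens.range_ι]
      show (Spec.map (CommRingCat.ofHom (algebraMap R (FractionRing R))) ≫ u).base t ∈ (U : Set X)
      rw [hug t]; exact hbot
    obtain ⟨ub, hub⟩ : ∃ ub : Spec (CommRingCat.of (FractionRing R)) ⟶ U.toScheme,
        ub ≫ U.ι = Spec.map (CommRingCat.ofHom (algebraMap R (FractionRing R))) ≫ u :=
      ⟨IsOpenImmersion.lift _ _ hr, IsOpenImmersion.lift_fac _ _ hr⟩
    obtain ⟨h₁', k1, k2, k3⟩ := K R u huc ub hub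
    obtain ⟨t₀, -⟩ : ∃ t₀ : Spec (CommRingCat.of (FractionRing R)), t₀ = t₀ :=
      ⟨(⟨⊥, Ideal.isPrime_bot⟩ : PrimeSpectrum (FractionRing R)), rfl⟩
    have hubt : U.ι.base (ub.base t₀) = c := by
      have e0 : (ub ≫ U.ι).base t₀ = (Spec.map (CommRingCat.ofHom
          (algebraMap R (FractionRing R))) ≫ u).base t₀ :=
        congrArg (fun ψ : Spec (CommRingCat.of (FractionRing R)) ⟶ X => ψ.base t₀) hub
      exact e0.trans (hug t₀)
    obtain ⟨cU₀, hcU₀def⟩ : ∃ cU₀ : U₀.toScheme, cU₀.1 = c := ⟨⟨c, hcU₀⟩, rfl⟩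
    have hη : h₁'.base ((Spec.map (CommRingCat.ofHom (algebraMap R (FractionRing R)))).base t₀) =
        γ.base cU₀ := by
      apply Y₀.ι.isOpenEmbedding.injective
      have e1 : (Spec.map (CommRingCat.ofHom (algebraMap R (FractionRing R))) ≫ h₁' ≫
          Y₀.ι).base t₀ = (ub ≫ h).base t₀ :=
        congrArg (fun ψ : Spec (CommRingCat.of (FractionRing R)) ⟶ Y => ψ.base t₀) k3
      have e2 : (γ ≫ Y₀.ι).base cU₀ = (X.homOfLE hU₀U ≫ h).base cU₀ :=
        congrArg (fun ψ : U₀.toScheme ⟶ Y => ψ.base cU₀) hγ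
      have e3 : (X.homOfLE hU₀U).base cU₀ = ub.base t₀ := by
        apply Subtype.ext
        rw [X.homOfLE_apply, hcU₀def]
        exact hubt.symm
      have e4 : (X.homOfLE hU₀U ≫ h).base cU₀ = (ub ≫ h).base t₀ := by
        show h.base ((X.homOfLE hU₀U).base cU₀) = h.base (ub.base t₀)
        rw [e3]
      exact e1.trans (e4.symm.trans e2.symm)
    have hsp : (Spec.map (CommRingCat.ofHom (algebraMap R (FractionRing R)))).base t₀ ⤳
        IsLocalRing.closedPoint R := IsLocalRing.specializes_closedPoint _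
    have hzc : h₁'.base (IsLocalRing.closedPoint R) = z := Subtype.ext (k2.trans hz.symm)
    have hsp' : h₁'.base ((Spec.map (CommRingCat.ofHom (algebraMap R (FractionRing R)))).base t₀) ⤳
        z := by
      rw [← hzc]; exact hsp.map h₁'.continuous
    rw [hη] at hsp'
    exact closure_mono (Set.singleton_subset_iff.mpr
      (show γ.base cU₀ ∈ Set.range γ from ⟨cU₀, rfl⟩)) (specializes_iff_mem_closure.mp hsp')
  -- Claim F
  have hF : ∀ z₁ : Y₀.toScheme, z₁ ∈ closure (Set.range γ) → p.base z₁ = x → z₁ = z := by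
    intro z₁ hz₁cl hz₁x
    have hz₁U : p.base z₁ ∉ U₀ := by
      rw [hz₁x]; exact fun hx' => hxU (hU₀U hx')
    obtain ⟨R, iR, iD, iV, v, vb, hvc, hvg⟩ :=
      Birat9.exists_dvr_through_graph_closure p U₀ γ hγp z₁ hz₁cl hz₁U
    obtain ⟨u, hu⟩ : ∃ u : Spec (CommRingCat.of R) ⟶ X, u = v ≫ p := ⟨_, rfl⟩
    have huc : u.base (IsLocalRing.closedPoint R) = x := by
      rw [hu]
      show p.base (v.base (IsLocalRing.closedPoint R)) = x
      rw [hvc]; exact hz₁x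
    obtain ⟨ub, hubdef⟩ : ∃ ub : Spec (CommRingCat.of (FractionRing R)) ⟶ U.toScheme,
        ub = vb ≫ X.homOfLE hU₀U := ⟨_, rfl⟩
    have hub : ub ≫ U.ι = Spec.map (CommRingCat.ofHom (algebraMap R (FractionRing R))) ≫ u := by
      calc ub ≫ U.ι = vb ≫ X.homOfLE hU₀U ≫ U.ι := by rw [hubdef, Category.assoc]
        _ = vb ≫ U₀.ι := by rw [X.homOfLE_ι]
        _ = vb ≫ γ ≫ p := by rw [hγp]
        _ = (vb ≫ γ) ≫ p := (Category.assoc _ _ _).symm
        _ = (Spec.map (CommRingCat.ofHom (algebraMap R (FractionRing R))) ≫ v) ≫ p := by rw [hvg]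
        _ = Spec.map (CommRingCat.ofHom (algebraMap R (FractionRing R))) ≫ u := by
            rw [Category.assoc, hu]
    obtain ⟨h₁', k1, k2, k3⟩ := K R u huc ub hub
    have heq : h₁' = v := by
      apply Birat9.eq_of_valuative p R h₁' v
      · rw [hu] at k1
        rw [hp]; rw [hp] at k1
        exact k1
      · rw [← cancel_mono Y₀.ι]
        calc (Spec.map (CommRingCat.ofHom (algebraMap R (FractionRing R))) ≫ h₁') ≫ Y₀.ι
            = Spec.map (CommRingCat.ofHom (algebraMap R (FractionRing R))) ≫ h₁' ≫ Y₀.ι :=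
              Category.assoc _ _ _
          _ = ub ≫ h := k3
          _ = vb ≫ X.homOfLE hU₀U ≫ h := by rw [hubdef, Category.assoc]
          _ = vb ≫ γ ≫ Y₀.ι := by rw [hγ]
          _ = (vb ≫ γ) ≫ Y₀.ι := (Category.assoc _ _ _).symm
          _ = (Spec.map (CommRingCat.ofHom (algebraMap R (FractionRing R))) ≫ v) ≫ Y₀.ι := by
              rw [hvg]
    rw [← hvc, ← heq]
    exact Subtype.ext (k2.trans hz.symm)
  have hW : ((⊤ : Y₀.toScheme.Opens) : Set Y₀.toScheme) ∩ closure (Set.range γ) ∩ p ⁻¹' {x} =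
      {z} := by
    apply Set.eq_singleton_iff_unique_mem.mpr
    refine ⟨⟨⟨trivial, hG⟩, hpz⟩, ?_⟩
    rintro z₁ ⟨⟨_, hz₁cl⟩, hz₁x⟩
    exact hF z₁ hz₁cl hz₁x
  obtain ⟨V, s, hxV, hs, hag⟩ := Birat8.exists_extension_of_isolated' p U₀ γ hγp x hxU₀cl
    ⟨Wi, hxWi, hWi⟩ hx z hpz hG ⊤ hW
  -- shrink and glue
  obtain ⟨V', hV'⟩ : ∃ V' : X.Opens, V' = V ⊓ V₁ := ⟨_, rfl⟩
  have hV'V : V' ≤ V := by rw [hV']; exact inf_le_left
  have hV'V₁ : V' ≤ V₁ := by rw [hV']; exact inf_le_right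
  have hxV' : x ∈ V' := by rw [hV']; exact ⟨hxV, hxV₁⟩
  obtain ⟨s', hs'⟩ : ∃ s' : V'.toScheme ⟶ Y, s' = X.homOfLE hV'V ≫ s ≫ Y₀.ι := ⟨_, rfl⟩
  have hk : U ⊓ V' ≤ U₀ ⊓ V := by
    rw [hU₀]
    exact le_inf (le_inf inf_le_left (inf_le_right.trans hV'V₁)) (inf_le_right.trans hV'V)
  have hagree : X.homOfLE (inf_le_left : U ⊓ V' ≤ U) ≫ h =
      X.homOfLE (inf_le_right : U ⊓ V' ≤ V') ≫ s' := by
    calc X.homOfLE (inf_le_left : U ⊓ V' ≤ U) ≫ h
        = (X.homOfLE hk ≫ X.homOfLE (inf_le_left : U₀ ⊓ V ≤ U₀) ≫ X.homOfLE hU₀U) ≫ h := by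
          rw [Scheme.homOfLE_homOfLE, Scheme.homOfLE_homOfLE]
      _ = X.homOfLE hk ≫ X.homOfLE (inf_le_left : U₀ ⊓ V ≤ U₀) ≫ (γ ≫ Y₀.ι) := by
          rw [hγ]; simp only [Category.assoc]
      _ = X.homOfLE hk ≫ (X.homOfLE (inf_le_left : U₀ ⊓ V ≤ U₀) ≫ γ) ≫ Y₀.ι := by
          simp only [Category.assoc]
      _ = X.homOfLE hk ≫ (X.homOfLE (inf_le_right : U₀ ⊓ V ≤ V) ≫ s) ≫ Y₀.ι := by rw [hag]
      _ = (X.homOfLE hk ≫ X.homOfLE (inf_le_right : U₀ ⊓ V ≤ V)) ≫ s ≫ Y₀.ι := by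
          simp only [Category.assoc]
      _ = (X.homOfLE (inf_le_right : U ⊓ V' ≤ V') ≫ X.homOfLE hV'V) ≫ s ≫ Y₀.ι := by
          rw [Scheme.homOfLE_homOfLE, Scheme.homOfLE_homOfLE]
      _ = X.homOfLE (inf_le_right : U ⊓ V' ≤ V') ≫ s' := by rw [hs', Category.assoc]
  obtain ⟨U', hUU', hV'U', g, hg1, hg2, hext⟩ := Birat8.exists_glue_two U V' h s' hagree
  have hxU' : x ∈ U' := hV'U' hxV'
  refine ⟨U', hUU', hxU', g, ?_, hg1, ?_⟩
  · apply hext
    · rw [← Category.assoc, hg1, hh, X.homOfLE_ι]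
    · rw [← Category.assoc, hg2, X.homOfLE_ι, hs']
      calc (X.homOfLE hV'V ≫ s ≫ Y₀.ι) ≫ q = X.homOfLE hV'V ≫ s ≫ p := by
            rw [hp]; simp only [Category.assoc]
        _ = V'.ι := by rw [hs, X.homOfLE_ι]
  · obtain ⟨xV, hxVdef⟩ : ∃ xV : V.toScheme, xV.1 = x := ⟨⟨x, hxV⟩, rfl⟩
    obtain ⟨xV', hxV'def⟩ : ∃ xV' : V'.toScheme, xV'.1 = x := ⟨⟨x, hxV'⟩, rfl⟩
    have hsx : s.base xV = z := by
      apply hF
      · have hD : xV ∈ closure (Set.range (X.homOfLE (inf_le_right : U₀ ⊓ V ≤ V))) := by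
          rw [mem_closure_iff]
          intro N hN hxN
          have hN' : IsOpen (V.ι.base '' N) := V.ι.isOpenEmbedding.isOpenMap N hN
          have hxN' : x ∈ V.ι.base '' N := ⟨xV, hxN, hxVdef⟩
          obtain ⟨_, ⟨n, hnN, rfl⟩, hnU₀⟩ := mem_closure_iff.mp hxU₀cl _ hN' hxN'
          obtain ⟨m, hm⟩ : ∃ m : (U₀ ⊓ V : X.Opens).toScheme, m.1 = n.1 :=
            ⟨⟨n.1, hnU₀, n.2⟩, rfl⟩
          refine ⟨n, hnN, ⟨m, ?_⟩⟩
          apply Subtype.ext
          rw [X.homOfLE_apply]; exact hm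
        refine map_mem_closure (f := fun w : V.toScheme => s.base w) s.continuous hD ?_
        rintro _ ⟨a, rfl⟩
        refine ⟨(X.homOfLE (inf_le_left : U₀ ⊓ V ≤ U₀)).base a, ?_⟩
        exact (congrArg (fun ψ : (U₀ ⊓ V : X.Opens).toScheme ⟶ Y₀.toScheme => ψ.base a) hag).symm
      · have e0 : (s ≫ p).base xV = V.ι.base xV :=
          congrArg (fun ψ : V.toScheme ⟶ X => ψ.base xV) hs
        exact e0.trans hxVdef
    have key : ∀ w : U'.toScheme, w.1 = x → g.base w = y₀ := by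
      intro w hw
      have e1 : (X.homOfLE hV'U' ≫ g).base xV' = s'.base xV' :=
        congrArg (fun ψ : V'.toScheme ⟶ Y => ψ.base xV') hg2
      have e2 : (X.homOfLE hV'U').base xV' = w := by
        apply Subtype.ext
        rw [X.homOfLE_apply, hxV'def, hw]
      have e3 : (X.homOfLE hV'V).base xV' = xV := by
        apply Subtype.ext
        rw [X.homOfLE_apply, hxV'def, hxVdef]
      have e4 : s'.base xV' = Y₀.ι.base (s.base ((X.homOfLE hV'V).base xV')) := by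
        rw [hs']; rfl
      have e5 : g.base w = s'.base xV' := by
        rw [← e2]; exact e1
      rw [e5, e4, e3, hsx]
      exact hz
    exact key ⟨x, hxU'⟩ rfl

/-- In the case S = X (valuative criterion for a rational map to be defined at a point): let X be a
locally Noetherian scheme, q : Y → X a morphism locally of finite type, U a dense open subset of X,
h : U → Y a section of q over U, x a point of X outside U whose local ring is an integrally closed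
domain, and y₀ a point of Y over x with trivial residue field extension (an X-morphism Spec k(x) →
Y). Then h extends to a section h' of q over an open subset U' containing U and x with h'(x) = y₀ if
and only if: for every discrete valuation ring R and every morphism u : Spec R → X sending the
closed point to x and the generic point into U, there is a morphism h₁ : Spec R → Y over X sending
the closed point to y₀ and agreeing with h at the generic point. -/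
theorem result {X Y : Scheme.{u}} [IsLocallyNoetherian X] (q : Y ⟶ X)
    [LocallyOfFiniteType q] (U : X.Opens) (hU : Dense (U : Set ↥X)) (h : (U : Scheme.{u}) ⟶ Y)
    (hh : h ≫ q = U.ι) (x : ↥X) (hxU : x ∉ U) [IsDomain ↑(X.presheaf.stalk x)]
    (hx : IsIntegrallyClosed ↑(X.presheaf.stalk x)) (y₀ : ↥Y) (hy₀ : q y₀ = x)
    (hk : Function.Bijective (q.residueFieldMap y₀)) :
    (∃ (U' : X.Opens) (hUU' : U ≤ U') (hxU' : x ∈ U') (h' : (U' : Scheme.{u}) ⟶ Y),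
        h' ≫ q = U'.ι ∧ X.homOfLE hUU' ≫ h' = h ∧ h' ⟨x, hxU'⟩ = y₀) ↔
      ∀ (R : Type u) [CommRing R] [IsDomain R] [IsDiscreteValuationRing R]
        (u : Spec (CommRingCat.of R) ⟶ X), u (IsLocalRing.closedPoint R) = x →
        ∀ ub : Spec (CommRingCat.of (FractionRing R)) ⟶ (U : Scheme.{u}),
          ub ≫ U.ι = Spec.map (CommRingCat.ofHom (algebraMap R (FractionRing R))) ≫ u →
          ∃ h₁ : Spec (CommRingCat.of R) ⟶ Y, h₁ ≫ q = u ∧ h₁ (IsLocalRing.closedPoint R) = y₀ ∧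
            Spec.map (CommRingCat.ofHom (algebraMap R (FractionRing R))) ≫ h₁ = ub ≫ h := by
  constructor
  · rintro ⟨U', hUU', hxU', h', hh'q, hh'h, hh'x⟩
    intro R _ _ _ u hux ub hub
    exact forward q U h x y₀ U' hUU' hxU' h' hh'q hh'h hh'x R u hux ub hub
  · intro H
    exact backward q U hU h hh x hxU hx y₀ hy₀ H

end Groth.Agent.S3848
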