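import Groth.Statements.S3849
import Groth.Agent.Lib.Helper11.Birat8
import Groth.Agent.S4433

set_option autoImplicit false
universe u
open CategoryTheory CategoryTheory.Limits AlgebraicGeometry TopologicalSpace
open Rat20

namespace Groth.Agent.S3849

theorem forward {X Y : Scheme.{u}} [IsLocallyNoetherian X] (q : Y ⟶ X)
    (U : X.Opens) (hU : Dense (U : Set ↥X))
    (h : (U : Scheme.{u}) ⟶ Y) (x : ↥X) (hxU : x ∉ U) [IsDomain ↑(X.presheaf.stalk x)]
    (U' : X.Opens) (hUU' : U ≤ U') (h' : (U' : Scheme.{u}) ⟶ Y)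
    (hxU' : x ∈ U') (hh'q : h' ≫ q = U'.ι) (hh'h : X.homOfLE hUU' ≫ h' = h) :
    ∃ (R : Type u) (_ : CommRing R) (_ : IsDomain R) (_ : IsDiscreteValuationRing R)
        (u : Spec (CommRingCat.of R) ⟶ X) (ub : Spec (CommRingCat.of (FractionRing R)) ⟶ (U : Scheme.{u}))
        (h₁ : Spec (CommRingCat.of R) ⟶ Y),
        u (IsLocalRing.closedPoint R) = x ∧
          ub ≫ U.ι = Spec.map (CommRingCat.ofHom (algebraMap R (FractionRing R))) ≫ u ∧
          h₁ ≫ q = u ∧ Spec.map (CommRingCat.ofHom (algebraMap R (FractionRing R))) ≫ h₁ = ub ≫ h := by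
  have hbot := Groth.Agent.Lib.Helper11.Birat8.fromSpecStalk_bot_mem_of_dense x U hU
  have hA : ¬ IsField (X.presheaf.stalk x) := by
    intro hF
    have hm : IsLocalRing.maximalIdeal (X.presheaf.stalk x) = ⊥ :=
      IsLocalRing.isField_iff_maximalIdeal_eq.mp hF
    have hcp : IsLocalRing.closedPoint (X.presheaf.stalk x) =
        (⟨⊥, Ideal.isPrime_bot⟩ : PrimeSpectrum (X.presheaf.stalk x)) :=
      PrimeSpectrum.ext hm
    have h2 : (X.fromSpecStalk x).base (IsLocalRing.closedPoint (X.presheaf.stalk x)) = x :=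
      Scheme.fromSpecStalk_closedPoint
    have h3 : (X.fromSpecStalk x).base
        (⟨⊥, Ideal.isPrime_bot⟩ : PrimeSpectrum (X.presheaf.stalk x)) = x := by
      rw [← hcp]; exact h2
    have h1 := hbot
    rw [h3] at h1
    exact hxU h1
  obtain ⟨Rv, hDVR, hmem, hdom⟩ := Groth.Agent.S4433.result (X.presheaf.stalk x) hA
    (FractionRing (X.presheaf.stalk x)) (FractionRing (X.presheaf.stalk x))
    (IntermediateField.fg_top _ _)
  obtain ⟨φ, hφ⟩ : ∃ φ : (X.presheaf.stalk x) →+* Rv, ∀ a, ((φ a : Rv) :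
      FractionRing (X.presheaf.stalk x)) = algebraMap (X.presheaf.stalk x)
        (FractionRing (X.presheaf.stalk x)) a :=
    ⟨(algebraMap (X.presheaf.stalk x) (FractionRing (X.presheaf.stalk x))).codRestrict Rv hmem,
      fun a => rfl⟩
  have hloc : IsLocalHom φ := by
    constructor
    intro a ha
    by_contra hna
    have hmax : a ∈ IsLocalRing.maximalIdeal (X.presheaf.stalk x) :=
      (IsLocalRing.mem_maximalIdeal a).mpr hna
    have hlt := hdom a hmax
    have h1 : Rv.valuation ((φ a : Rv) : FractionRing (X.presheaf.stalk x)) = 1 :=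
      (Rv.valuation_eq_one_iff (φ a)).mp ha
    rw [hφ] at h1
    exact (ne_of_lt hlt) h1
  have hφinj : Function.Injective φ := by
    intro a b hab
    apply IsFractionRing.injective (X.presheaf.stalk x) (FractionRing (X.presheaf.stalk x))
    rw [← hφ a, ← hφ b, hab]
  obtain ⟨u, hu⟩ : ∃ u : Spec (CommRingCat.of Rv) ⟶ X,
      u = Spec.map (CommRingCat.ofHom φ) ≫ X.fromSpecStalk x := ⟨_, rfl⟩
  have hcl : (Spec.map (CommRingCat.ofHom φ)).base (IsLocalRing.closedPoint Rv) =
      IsLocalRing.closedPoint (X.presheaf.stalk x) := IsLocalRing.comap_closedPoint φ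
  have hux : u.base (IsLocalRing.closedPoint Rv) = x := by
    rw [hu]
    show (X.fromSpecStalk x).base ((Spec.map (CommRingCat.ofHom φ)).base
      (IsLocalRing.closedPoint Rv)) = x
    rw [hcl]; exact Scheme.fromSpecStalk_closedPoint
  have hr : Set.range (Spec.map (CommRingCat.ofHom (algebraMap Rv (FractionRing Rv))) ≫ u) ⊆
      Set.range U.ι := by
    rintro _ ⟨t, rfl⟩
    rw [Scheme.Opens.range_ι]
    have h0 : (Spec.map (CommRingCat.ofHom φ)).base
        ((Spec.map (CommRingCat.ofHom (algebraMap Rv (FractionRing Rv)))).base t) =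
        (⟨⊥, Ideal.isPrime_bot⟩ : PrimeSpectrum (X.presheaf.stalk x)) := by
      apply PrimeSpectrum.ext
      show Ideal.comap φ (Ideal.comap (algebraMap Rv (FractionRing Rv))
        (PrimeSpectrum.asIdeal (R := FractionRing Rv) t)) = ⊥
      have ht : PrimeSpectrum.asIdeal (R := FractionRing Rv) t = ⊥ :=
        Ideal.eq_bot_of_prime _
      rw [ht, Ideal.comap_bot_of_injective _ (IsFractionRing.injective Rv (FractionRing Rv)),
        Ideal.comap_bot_of_injective _ hφinj]
    show (Spec.map (CommRingCat.ofHom (algebraMap Rv (FractionRing Rv))) ≫ u).base t ∈ (U : Set X)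
    rw [hu]
    show (X.fromSpecStalk x).base ((Spec.map (CommRingCat.ofHom φ)).base
        ((Spec.map (CommRingCat.ofHom (algebraMap Rv (FractionRing Rv)))).base t)) ∈ (U : Set X)
    rw [h0]
    exact hbot
  obtain ⟨ub, hub⟩ : ∃ ub : Spec (CommRingCat.of (FractionRing Rv)) ⟶ (U : Scheme.{u}),
      ub ≫ U.ι = Spec.map (CommRingCat.ofHom (algebraMap Rv (FractionRing Rv))) ≫ u :=
    ⟨IsOpenImmersion.lift _ _ hr, IsOpenImmersion.lift_fac _ _ hr⟩
  have hr' : Set.range u ⊆ Set.range U'.ι := by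
    rintro _ ⟨t, rfl⟩
    rw [Scheme.Opens.range_ι]
    have hsp : u.base t ⤳ x := by
      have : u.base t ∈ Set.range (X.fromSpecStalk x) := by
        rw [hu]; exact ⟨(Spec.map (CommRingCat.ofHom φ)).base t, rfl⟩
      rwa [Scheme.range_fromSpecStalk] at this
    exact hsp.mem_open U'.isOpen hxU'
  obtain ⟨l, hl⟩ : ∃ l : Spec (CommRingCat.of Rv) ⟶ U'.toScheme, l ≫ U'.ι = u :=
    ⟨IsOpenImmersion.lift _ _ hr', IsOpenImmersion.lift_fac _ _ hr'⟩
  refine ⟨Rv, inferInstance, inferInstance, hDVR, u, ub, l ≫ h', hux, hub, ?_, ?_⟩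
  · rw [Category.assoc, hh'q, hl]
  · have h2 : Spec.map (CommRingCat.ofHom (algebraMap Rv (FractionRing Rv))) ≫ l =
        ub ≫ X.homOfLE hUU' := by
      rw [← cancel_mono U'.ι, Category.assoc, Category.assoc, hl, X.homOfLE_ι, hub]
    calc Spec.map (CommRingCat.ofHom (algebraMap Rv (FractionRing Rv))) ≫ l ≫ h'
        = (Spec.map (CommRingCat.ofHom (algebraMap Rv (FractionRing Rv))) ≫ l) ≫ h' :=
          (Category.assoc _ _ _).symm
      _ = (ub ≫ X.homOfLE hUU') ≫ h' := by rw [h2]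
      _ = ub ≫ h := by rw [Category.assoc, hh'h]

theorem backward {X Y : Scheme.{u}} [IsLocallyNoetherian X] (q : Y ⟶ X)
    [LocallyOfFiniteType q] [IsSeparated q] [LocallyQuasiFinite q] (U : X.Opens)
    (hU : Dense (U : Set ↥X))
    (h : (U : Scheme.{u}) ⟶ Y) (hh : h ≫ q = U.ι) (x : ↥X) [IsDomain ↑(X.presheaf.stalk x)]
    (hx : IsIntegrallyClosed ↑(X.presheaf.stalk x))
    (R : Type u) [CommRing R] [IsDomain R] [IsDiscreteValuationRing R]
    (u : Spec (CommRingCat.of R) ⟶ X) (ub : Spec (CommRingCat.of (FractionRing R)) ⟶ (U : Scheme.{u}))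
    (h₁ : Spec (CommRingCat.of R) ⟶ Y)
    (hux : u (IsLocalRing.closedPoint R) = x)
    (hub : ub ≫ U.ι = Spec.map (CommRingCat.ofHom (algebraMap R (FractionRing R))) ≫ u)
    (hh₁ : h₁ ≫ q = u)
    (hgen : Spec.map (CommRingCat.ofHom (algebraMap R (FractionRing R))) ≫ h₁ = ub ≫ h) :
    ∃ (U' : X.Opens) (hUU' : U ≤ U') (h' : (U' : Scheme.{u}) ⟶ Y),
        x ∈ U' ∧ h' ≫ q = U'.ι ∧ X.homOfLE hUU' ≫ h' = h := by
  obtain ⟨y₀, hy₀def⟩ : ∃ y₀ : Y, y₀ = h₁.base (IsLocalRing.closedPoint R) := ⟨_, rfl⟩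
  have hux' : u.base (IsLocalRing.closedPoint R) = x := hux
  have hqy₀ : q.base y₀ = x := by
    rw [hy₀def, ← hux', ← hh₁]; rfl
  obtain ⟨t₀, -⟩ : ∃ t₀ : Spec (CommRingCat.of (FractionRing R)), t₀ = t₀ :=
    ⟨(⟨⊥, Ideal.isPrime_bot⟩ : PrimeSpectrum (FractionRing R)), rfl⟩
  have hcl : y₀ ∈ closure (Set.range h) := by
    have hsp : (Spec.map (CommRingCat.ofHom (algebraMap R (FractionRing R)))).base t₀ ⤳
        IsLocalRing.closedPoint R := IsLocalRing.specializes_closedPoint _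
    have hsp' : h₁.base ((Spec.map (CommRingCat.ofHom (algebraMap R (FractionRing R)))).base t₀) ⤳
        y₀ := by
      rw [hy₀def]; exact hsp.map h₁.continuous
    have hmem : h₁.base ((Spec.map (CommRingCat.ofHom (algebraMap R (FractionRing R)))).base t₀) ∈
        Set.range h := by
      refine ⟨ub.base t₀, ?_⟩
      exact (congrArg (fun ψ : Spec (CommRingCat.of (FractionRing R)) ⟶ Y => ψ.base t₀) hgen).symm
    exact closure_mono (Set.singleton_subset_iff.mpr hmem) (specializes_iff_mem_closure.mp hsp')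
  obtain ⟨W, hWo, hWeq⟩ := (isDiscrete_iff_forall_mem_exists_isOpen.mp
    (q.isDiscrete_preimage_singleton x)) y₀ (show y₀ ∈ q ⁻¹' {x} from hqy₀)
  have hW : ((⟨W, hWo⟩ : Y.Opens) : Set Y) ∩ closure (Set.range h) ∩ q ⁻¹' {x} = {y₀} := by
    apply Set.eq_singleton_iff_unique_mem.mpr
    have hy₀W : y₀ ∈ W ∩ q ⁻¹' {x} := by rw [hWeq]; rfl
    refine ⟨⟨⟨hy₀W.1, hcl⟩, hy₀W.2⟩, ?_⟩
    rintro z ⟨⟨hzW, _⟩, hzx⟩
    have hz2 : z ∈ W ∩ q ⁻¹' {x} := ⟨hzW, hzx⟩
    rw [hWeq] at hz2
    exact hz2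
  obtain ⟨V, s, hxV, hs, hag⟩ :=
    Groth.Agent.Lib.Helper11.Birat8.exists_extension_of_isolated q U hU h hh x
      (Groth.Agent.Lib.Helper11.Birat8.exists_integral_nbhd_of_isDomain_stalk x) hx y₀ hqy₀ hcl
      ⟨W, hWo⟩ hW
  obtain ⟨U', hUU', hVU', g, hg1, hg2, hext⟩ :=
    Groth.Agent.Lib.Helper11.Birat8.exists_glue_two U V h s hag.symm
  refine ⟨U', hUU', g, hVU' hxV, ?_, hg1⟩
  apply hext
  · rw [← Category.assoc, hg1, hh, X.homOfLE_ι]
  · rw [← Category.assoc, hg2, hs, X.homOfLE_ι]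

/-- In the case S = X (sections of q : Y → X): let X be a locally Noetherian scheme, q : Y → X
separated, locally of finite type and locally quasi-finite, U a dense open subset of X, h : U → Y a
section of q over U, and x a point of X outside U whose local ring is an integrally closed domain.
Then h extends to a section of q over an open subset containing U and x if and only if there exist a
discrete valuation ring R, a morphism u : Spec R → X sending the closed point to x and the generic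
point into U, and a morphism Spec R → Y over X agreeing with h at the generic point. -/
theorem result {X Y : Scheme.{u}} [IsLocallyNoetherian X] (q : Y ⟶ X)
    [LocallyOfFiniteType q] [IsSeparated q] [LocallyQuasiFinite q] (U : X.Opens) (hU : Dense (U : Set ↥X))
    (h : (U : Scheme.{u}) ⟶ Y) (hh : h ≫ q = U.ι) (x : ↥X) (hxU : x ∉ U) [IsDomain ↑(X.presheaf.stalk x)]
    (hx : IsIntegrallyClosed ↑(X.presheaf.stalk x)) :
    (∃ (U' : X.Opens) (hUU' : U ≤ U') (h' : (U' : Scheme.{u}) ⟶ Y),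
        x ∈ U' ∧ h' ≫ q = U'.ι ∧ X.homOfLE hUU' ≫ h' = h) ↔
      ∃ (R : Type u) (_ : CommRing R) (_ : IsDomain R) (_ : IsDiscreteValuationRing R)
        (u : Spec (CommRingCat.of R) ⟶ X) (ub : Spec (CommRingCat.of (FractionRing R)) ⟶ (U : Scheme.{u}))
        (h₁ : Spec (CommRingCat.of R) ⟶ Y),
        u (IsLocalRing.closedPoint R) = x ∧
          ub ≫ U.ι = Spec.map (CommRingCat.ofHom (algebraMap R (FractionRing R))) ≫ u ∧
          h₁ ≫ q = u ∧ Spec.map (CommRingCat.ofHom (algebraMap R (FractionRing R))) ≫ h₁ = ub ≫ h := by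
  constructor
  · rintro ⟨U', hUU', h', hxU', hh'q, hh'h⟩
    exact forward q U hU h x hxU U' hUU' h' hxU' hh'q hh'h
  · rintro ⟨R, iR, iD, iV, u, ub, h₁, hux, hub, hh₁, hgen⟩
    exact backward q U hU h hh x hx R u ub h₁ hux hub hh₁ hgen

end Groth.Agent.S3849
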