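import Groth.Statements.S3872
import Mathlib

set_option autoImplicit false
universe u
open FCompl

namespace Groth.Agent.S3872

/-- For a ring A, an ideal J and a prime ideal 𝔭 with J ⊆ 𝔭, let A{S⁻¹}, S = A ∖ 𝔭, be the completion of
A_𝔭 for the topology defined by the extension of J, and A_{S} the subring of A{S⁻¹} generated by the
images of the completed localizations A_{f}, f ∉ 𝔭 (the stalk ring of Spf(A) at 𝔭). Given that A_{S}
and A{S⁻¹} are local rings and that the inclusion A_{S} → A{S⁻¹} and the canonical map A_𝔭 → A{S⁻¹}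
are local homomorphisms (all four are carried here as instance hypotheses; the two about A_{S} are
stated separately), both maps induce bijections on residue fields; so the residue field of A_{S} is
the residue field κ(𝔭) of A_𝔭. -/
theorem result (A : Type u) [CommRing A] (J : Ideal A) (𝔭 : Ideal A)
    [𝔭.IsPrime] (hJ : J ≤ 𝔭) [IsLocalRing (FSch.stalkSubring A J 𝔭)] [IsLocalRing (FSch.cAtPrime A J 𝔭)]
    [IsLocalHom (FSch.stalkSubring A J 𝔭).subtype]
    [IsLocalHom (algebraMap (Localization.AtPrime 𝔭) (FSch.cAtPrime A J 𝔭))] :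
    Function.Bijective (IsLocalRing.ResidueField.map (FSch.stalkSubring A J 𝔭).subtype) ∧
      Function.Bijective
        (IsLocalRing.ResidueField.map (algebraMap (Localization.AtPrime 𝔭) (FSch.cAtPrime A J 𝔭))) := by
  classical
  have hIle : J.map (algebraMap A (Localization.AtPrime 𝔭)) ≤
      IsLocalRing.maximalIdeal (Localization.AtPrime 𝔭) := by
    rw [← Localization.AtPrime.map_eq_maximalIdeal]
    exact Ideal.map_mono hJ
  haveI hnt : Nontrivial (Localization.AtPrime 𝔭 ⧸
      (J.map (algebraMap A (Localization.AtPrime 𝔭))) ^ 1) := by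
    rw [Ideal.Quotient.nontrivial_iff, pow_one]
    intro h
    exact (IsLocalRing.maximalIdeal.isMaximal (Localization.AtPrime 𝔭)).ne_top
      (top_le_iff.mp (h ▸ hIle))
  -- elements killed by the first evaluation lie in the maximal ideal
  have hker : ∀ x : FSch.cAtPrime A J 𝔭,
      AdicCompletion.evalₐ (J.map (algebraMap A (Localization.AtPrime 𝔭))) 1 x = 0 →
      x ∈ IsLocalRing.maximalIdeal (FSch.cAtPrime A J 𝔭) := by
    intro x hx
    by_contra hmem
    have hu : IsUnit x := IsLocalRing.notMem_maximalIdeal.mp hmem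
    have hu' := hu.map (AdicCompletion.evalₐ (J.map (algebraMap A (Localization.AtPrime 𝔭))) 1)
    rw [hx] at hu'
    exact not_isUnit_zero hu'
  -- every element is congruent to one coming from the localization
  have hcong : ∀ c : FSch.cAtPrime A J 𝔭, ∃ r : Localization.AtPrime 𝔭,
      c - algebraMap (Localization.AtPrime 𝔭) (FSch.cAtPrime A J 𝔭) r ∈
        IsLocalRing.maximalIdeal (FSch.cAtPrime A J 𝔭) := by
    intro c
    obtain ⟨r, hr⟩ := Ideal.Quotient.mk_surjective
      (AdicCompletion.evalₐ (J.map (algebraMap A (Localization.AtPrime 𝔭))) 1 c)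
    refine ⟨r, hker _ ?_⟩
    rw [map_sub, AdicCompletion.algebraMap_apply, AdicCompletion.evalₐ_of, Algebra.algebraMap_self,
      RingHom.id_apply, hr, sub_self]
  -- the image of the localization lies in the stalk subring
  have hmemT : ∀ r : Localization.AtPrime 𝔭,
      algebraMap (Localization.AtPrime 𝔭) (FSch.cAtPrime A J 𝔭) r ∈ FSch.stalkSubring A J 𝔭 := by
    intro r
    obtain ⟨a, s, rfl⟩ := IsLocalization.exists_mk'_eq 𝔭.primeCompl r
    have hf : (s : A) ∉ 𝔭 := s.2
    let z : Localization.Away (s : A) :=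
      IsLocalization.mk' (Localization.Away (s : A)) a
        (⟨(s : A), Submonoid.mem_powers _⟩ : Submonoid.powers (s : A))
    have hz : FSch.awayToAtPrime A 𝔭 (s : A) hf z =
        IsLocalization.mk' (Localization.AtPrime 𝔭) a s := by
      rw [IsLocalization.eq_mk'_iff_mul_eq]
      have h1 : algebraMap A (Localization.AtPrime 𝔭) (s : A) =
          FSch.awayToAtPrime A 𝔭 (s : A) hf (algebraMap A (Localization.Away (s : A)) (s : A)) := by
        simp [FSch.awayToAtPrime]
      have h2 : algebraMap A (Localization.AtPrime 𝔭) a =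
          FSch.awayToAtPrime A 𝔭 (s : A) hf (algebraMap A (Localization.Away (s : A)) a) := by
        simp [FSch.awayToAtPrime]
      rw [h1, h2, ← map_mul]
      congr 1
      exact IsLocalization.mk'_spec _ _ _
    have hcomp : FSch.cAwayToAtPrime A J 𝔭 (s : A) hf
        (AdicCompletion.of _ _ z) =
        AdicCompletion.of _ _ (FSch.awayToAtPrime A 𝔭 (s : A) hf z) := by
      apply AdicCompletion.ext_evalₐ
      intro n
      rw [AdicCompletion.evalₐ_of]
      unfold FSch.cAwayToAtPrime FSch.complMap
      generalize_proofs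
      rw [AdicCompletion.evalₐ_liftRingHom _ _ (by assumption)]
      simp [AdicCompletion.evalₐ_of, Ideal.quotientMap_mk]
    rw [AdicCompletion.algebraMap_apply, Algebra.algebraMap_self, RingHom.id_apply, ← hz, ← hcomp]
    exact (le_iSup (fun f : {f : A // f ∉ 𝔭} => (FSch.cAwayToAtPrime A J 𝔭 f.1 f.2).range)
      (⟨(s : A), hf⟩ : {f : A // f ∉ 𝔭})) ⟨_, rfl⟩
  constructor
  · refine ⟨RingHom.injective _, fun y => ?_⟩
    obtain ⟨c, rfl⟩ := IsLocalRing.residue_surjective y
    obtain ⟨r, hr⟩ := hcong c
    refine ⟨IsLocalRing.residue _ (⟨_, hmemT r⟩ : FSch.stalkSubring A J 𝔭), ?_⟩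
    rw [IsLocalRing.ResidueField.map_residue]
    symm
    exact Ideal.Quotient.eq.mpr hr
  · refine ⟨RingHom.injective _, fun y => ?_⟩
    obtain ⟨c, rfl⟩ := IsLocalRing.residue_surjective y
    obtain ⟨r, hr⟩ := hcong c
    refine ⟨IsLocalRing.residue _ r, ?_⟩
    rw [IsLocalRing.ResidueField.map_residue]
    symm
    exact Ideal.Quotient.eq.mpr hr

end Groth.Agent.S3872
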