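import Groth.Statements.S3874
import Mathlib

set_option autoImplicit false
universe u
open FCompl

namespace Groth.Agent.S3874

/-- Let A be a Noetherian ring, J an ideal, f ∈ A and n ≥ 0, and let A_{f} be the completion of the
localization A_f for the topology defined by the extension of J. There is a ring isomorphism from
the localization of A/J^(n+1) away from the class of f onto A_{f} modulo the (n+1)-st power of the
extension of J to A_{f}, compatible with the canonical maps from A (and hence unique). In terms of
formal spectra: the open D(f) of Spf(A) is Spf(A_{f}), and at level n its ring is the ring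
(A/J^(n+1))_f of the open D(f) of Spec(A/J^(n+1)). -/
theorem result (A : Type u) [CommRing A] [IsNoetherianRing A] (J : Ideal A)
    (f : A) (n : ℕ) :
    ∃ e : Localization.Away (Ideal.Quotient.mk (J ^ (n + 1)) f) ≃+*
        FSch.cAway A J f ⧸ (J.map (algebraMap A (FSch.cAway A J f))) ^ (n + 1),
      ∀ a : A, e (algebraMap (A ⧸ J ^ (n + 1)) _ (Ideal.Quotient.mk (J ^ (n + 1)) a)) =
        Ideal.Quotient.mk _ (algebraMap A (FSch.cAway A J f) a) := by
  classical
  have hfg : (J.map (algebraMap A (Localization.Away f))).FG :=
    Ideal.FG.map (I := J) (IsNoetherian.noetherian J) (algebraMap A (Localization.Away f))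
  have hI : (J ^ (n + 1)).map (algebraMap A (Localization.Away f)) =
      (J.map (algebraMap A (Localization.Away f))) ^ (n + 1) := Ideal.map_pow _ _ _
  let φ : FSch.cAway A J f →+*
      Localization.Away f ⧸ (J ^ (n + 1)).map (algebraMap A (Localization.Away f)) :=
    (Ideal.quotEquivOfEq hI.symm).toRingHom.comp
      (AdicCompletion.evalₐ (J.map (algebraMap A (Localization.Away f))) (n + 1)).toRingHom
  have hφsurj : Function.Surjective φ :=
    (Ideal.quotEquivOfEq hI.symm).surjective.comp
      (AdicCompletion.surjective_evalₐ (J.map (algebraMap A (Localization.Away f))) (n + 1))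
  have hmap : J.map (algebraMap A (FSch.cAway A J f)) =
      (J.map (algebraMap A (Localization.Away f))).map
        (algebraMap (Localization.Away f) (FSch.cAway A J f)) := by
    rw [Ideal.map_map]
    congr 1
  have hker : (J.map (algebraMap A (FSch.cAway A J f))) ^ (n + 1) = RingHom.ker φ := by
    rw [hmap, ← Ideal.map_pow]
    ext x
    rw [RingHom.mem_ker]
    have h1 : φ x = 0 ↔
        AdicCompletion.evalₐ (J.map (algebraMap A (Localization.Away f))) (n + 1) x = 0 := by
      show (Ideal.quotEquivOfEq hI.symm)
        (AdicCompletion.evalₐ (J.map (algebraMap A (Localization.Away f))) (n + 1) x) = 0 ↔ _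
      exact map_eq_zero_iff _ (Ideal.quotEquivOfEq hI.symm).injective
    have h2 : AdicCompletion.evalₐ (J.map (algebraMap A (Localization.Away f))) (n + 1) x = 0 ↔
        AdicCompletion.eval (J.map (algebraMap A (Localization.Away f))) (Localization.Away f)
          (n + 1) x = 0 := by
      constructor
      · intro h
        rw [← AdicCompletion.factor_evalₐ_eq_eval _ x (le_of_eq (by simp)), h, map_zero]
      · intro h
        rw [← AdicCompletion.factor_eval_eq_evalₐ _ x (le_of_eq (by simp)), h, map_zero]
    rw [h1, h2, ← LinearMap.mem_ker, ← AdicCompletion.pow_smul_top_eq_ker_eval hfg,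
      Ideal.smul_top_eq_map]
    rfl
  let ebar : (FSch.cAway A J f ⧸ (J.map (algebraMap A (FSch.cAway A J f))) ^ (n + 1)) ≃+*
      Localization.Away f ⧸ (J ^ (n + 1)).map (algebraMap A (Localization.Away f)) :=
    (Ideal.quotEquivOfEq hker).trans (RingHom.quotientKerEquivOfSurjective hφsurj)
  haveI : IsLocalization (Submonoid.powers (Ideal.Quotient.mk (J ^ (n + 1)) f))
      (Localization.Away f ⧸ (J ^ (n + 1)).map (algebraMap A (Localization.Away f))) := by
    have h := (inferInstance : IsLocalization
      (Algebra.algebraMapSubmonoid (A ⧸ J ^ (n + 1)) (Submonoid.powers f))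
      (Localization.Away f ⧸ (J ^ (n + 1)).map (algebraMap A (Localization.Away f))))
    rwa [Algebra.algebraMapSubmonoid, Submonoid.map_powers] at h
  let e₀ : Localization.Away (Ideal.Quotient.mk (J ^ (n + 1)) f) ≃ₐ[A ⧸ J ^ (n + 1)]
      Localization.Away f ⧸ (J ^ (n + 1)).map (algebraMap A (Localization.Away f)) :=
    IsLocalization.algEquiv (Submonoid.powers (Ideal.Quotient.mk (J ^ (n + 1)) f)) _ _
  refine ⟨e₀.toRingEquiv.trans ebar.symm, fun a => ?_⟩
  show ebar.symm (e₀ (algebraMap _ _ (Ideal.Quotient.mk _ a))) = _
  rw [e₀.commutes, RingEquiv.symm_apply_eq]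
  show _ = RingHom.quotientKerEquivOfSurjective hφsurj
    (Ideal.quotEquivOfEq hker (Ideal.Quotient.mk _ (algebraMap A (FSch.cAway A J f) a)))
  rw [Ideal.quotEquivOfEq_mk, RingHom.quotientKerEquivOfSurjective_apply_mk]
  show _ = (Ideal.quotEquivOfEq hI.symm)
    (AdicCompletion.evalₐ (J.map (algebraMap A (Localization.Away f))) (n + 1)
      (algebraMap A (FSch.cAway A J f) a))
  rw [AdicCompletion.algebraMap_apply, AdicCompletion.evalₐ_of, Ideal.quotEquivOfEq_mk]
  rfl

end Groth.Agent.S3874
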