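import Groth.Statements.S3878
import Groth.Agent.Lib.Helper5.FreeEps
import Groth.Agent.Lib.Helper5.RpushColim

set_option autoImplicit false
open CategoryTheory CategoryTheory.Limits Opposite
universe u
open ToposFin

namespace Groth.Agent.S3878

/-- Let (C, J) and (D, K) be small sites and u : D ⥤ C a continuous functor, giving a morphism of topoi
whose direct image on sheaves is F ↦ F ∘ u, with right derived functors R^q on abelian sheaves.
Assume that the topos of sheaves on (C, J) is algebraic and that for every object V of D the sheaf
on C attached to u(V), which is the inverse image of the sheaf attached to V, is coherent. Then for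
every q the higher direct image functor R^q on abelian sheaves preserves colimits indexed by any
small filtered category. The published hypotheses (a coherent morphism from an algebraic topos to a
locally coherent topos) give this situation with D the site of coherent algebraic objects of the
target. -/
theorem result {C D : Type u} [SmallCategory C]
    [SmallCategory D] (J : GrothendieckTopology C) (K : GrothendieckTopology D) (hE : ToposFin.IsAlgebraic J)
    (u : D ⥤ C) [u.IsContinuous K J] (hu : ∀ V : D, ToposFin.IsCoherent (ToposFin.eps J (u.obj V)))
    (Λ : Type u) [SmallCategory Λ] [IsFiltered Λ] (q : ℕ) :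
    PreservesColimitsOfShape Λ (CohSite.Rpush J K u q) := by
  constructor
  intro F
  refine Groth.Agent.Lib.Helper5.RpushColim.main J K u F q (fun V => ?_)
  refine ⟨PUnit.{u + 1}, fun _ => V, fun _ => 𝟙 V, ?_, fun _ => ?_⟩
  · apply K.superset_covering _ (K.top_mem V)
    intro Y f _
    exact ⟨_, f, 𝟙 V, Presieve.ofArrows.mk PUnit.unit, by simp⟩
  · haveI := Groth.Agent.Lib.Helper5.ToposCohColim.preservesColimit_of_coherent hE (hu V) F q
    exact preservesColimit_of_natIso F (Groth.Agent.Lib.Helper5.FreeEps.cohIso J q (u.obj V)).symm

end Groth.Agent.S3878
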