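import Groth.Statements.S3894


set_option autoImplicit false
universe u
open CategoryTheory CategoryTheory.Limits Opposite
open Tors

namespace Groth.Agent.S3894

/-- A torsor P under an abelian sheaf G is trivial, i.e. equivariantly isomorphic to G acting on itself
by translations, if and only if P has a global section (a morphism from the final sheaf of sets). -/
theorem result {C : Type u} [SmallCategory C] {J : GrothendieckTopology C}
    {G : Sheaf J AddCommGrpCat.{u}} (T : Tors.Torsor G) : T.IsTrivial ↔ T.HasSection := by
  constructor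
  · rintro ⟨e, he⟩
    refine ⟨ObjectProperty.homMk
      { app := fun U => TypeCat.ofHom (fun _ => e.hom.hom.app U (0 : G.obj.obj U))
        naturality := ?_ }⟩
    intro U V f
    ext x
    have hn := types_congr_hom (e.hom.hom.naturality f) (0 : G.obj.obj U)
    simp only [types_comp_apply] at hn
    show e.hom.hom.app V (0 : G.obj.obj V) = T.P.obj.map f (e.hom.hom.app U (0 : G.obj.obj U))
    exact Eq.trans (congrArg (fun z => e.hom.hom.app V z)
      (show (0 : G.obj.obj V) = (G.obj.map f) (0 : G.obj.obj U) from
        (map_zero (G.obj.map f).hom).symm)) hn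
  · rintro ⟨σ⟩
    let Gs := (sheafCompose J (forget AddCommGrpCat.{u})).obj G
    let τ : Gs ⟶ ⊤_ (Sheaf J (Type u)) := terminal.from Gs
    let s : ∀ U : Cᵒᵖ, T.P.obj.obj U := fun U => σ.hom.app U (τ.hom.app U (0 : G.obj.obj U))
    have hs : ∀ {U V : Cᵒᵖ} (f : U ⟶ V), T.P.obj.map f (s U) = s V := by
      intro U V f
      have h1 := types_congr_hom (σ.hom.naturality f) (τ.hom.app U (0 : G.obj.obj U))
      have h2 := types_congr_hom (τ.hom.naturality f) (0 : G.obj.obj U)
      simp only [types_comp_apply] at h1 h2
      rw [← h1, ← h2]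
      show σ.hom.app V (τ.hom.app V _) = _
      congr 2
      exact map_zero (G.obj.map f).hom
    let eqv : ∀ U : Cᵒᵖ, (G.obj.obj U) ≃ T.P.obj.obj U := fun U =>
      Equiv.ofBijective (fun g => T.vadd g (s U))
        ⟨fun g h hgh => (T.free_transitive (s U) (T.vadd h (s U))).unique hgh rfl,
          fun q => (T.free_transitive (s U) q).exists⟩
    refine ⟨ObjectProperty.isoMk _ (NatIso.ofComponents (fun U => (eqv U).toIso) ?_), ?_⟩
    · intro U V f
      ext g
      show T.vadd (G.obj.map f g) (s V) = T.P.obj.map f (T.vadd g (s U))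
      rw [T.map_vadd, hs]
    · intro U g h
      show T.vadd (g + h) (s U) = T.vadd g (T.vadd h (s U))
      exact T.add_vadd g h (s U)

end Groth.Agent.S3894
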