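import Groth.Statements.S3896
import Groth.Agent.Lib.Helper15.ClosedSh

set_option autoImplicit false
open CategoryTheory CategoryTheory.Limits AlgebraicGeometry Opposite
universe u
open EtDesc

namespace Groth.Agent.S3896


open Groth.Agent.Lib.Helper15 Groth.Agent.Lib.Helper13

set_option backward.isDefEq.respectTransparency.types false

section aux

variable {X : Scheme.{u}}

/-- The (lifted) representable presheaf. -/
abbrev rep (E : X.Etale) : X.Etaleᵒᵖ ⥤ Type (u + 1) := yoneda.obj E ⋙ uliftFunctor.{u + 1, u}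

lemma subsingleton_rep (U : X.Opens) (T : X.Etale) :
    Subsingleton ((rep (EtDesc.ofOpen U)).obj (op T)) := by
  constructor
  rintro ⟨a⟩ ⟨b⟩
  congr 1
  apply MorphismProperty.Over.Hom.ext
  have ha : a.left ≫ U.ι = T.hom := MorphismProperty.Over.w a
  have hb : b.left ≫ U.ι = T.hom := MorphismProperty.Over.w b
  exact (cancel_mono U.ι).1 (ha.trans hb.symm)

lemma range_subset_of_section (U : X.Opens) (W : X.Etale)
    (s : (EtDesc.repSh (EtDesc.ofOpen U)).obj.obj (op W)) :
    Set.range W.hom.base ⊆ Set.range U.ι.base := by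
  have hmem := Presheaf.imageSieve_mem X.smallEtaleTopology
    (toSheafify X.smallEtaleTopology (rep (EtDesc.ofOpen U))) (U := op W) s
  rw [EtGlue.mem_iff] at hmem
  rintro _ ⟨w, rfl⟩
  obtain ⟨T, g, t, ⟨⟨a⟩, -⟩, rfl⟩ := hmem w
  have ha : a.left ≫ U.ι = T.hom := MorphismProperty.Over.w a
  have hg : g.left ≫ W.hom = T.hom := MorphismProperty.Over.w g
  have h1 : (a.left ≫ U.ι).base t = (g.left ≫ W.hom).base t := by rw [ha, hg]
  exact ⟨a.left.base t, h1⟩

/-- The morphism of the small etale site from an etale scheme lying over an open to that open. -/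
noncomputable def homOf (U : X.Opens) (W : X.Etale)
    (h : Set.range W.hom.base ⊆ Set.range U.ι.base) : W ⟶ EtDesc.ofOpen U :=
  MorphismProperty.Over.homMk (IsOpenImmersion.lift U.ι W.hom h : W.left ⟶ (U : Scheme.{u}))
    (IsOpenImmersion.lift_fac U.ι W.hom h) trivial

/-- The section of the sheaf attached to an open over an etale scheme lying over it. -/
noncomputable def sectionOf (U : X.Opens) (W : X.Etale)
    (h : Set.range W.hom.base ⊆ Set.range U.ι.base) :
    (EtDesc.repSh (EtDesc.ofOpen U)).obj.obj (op W) :=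
  (toSheafify X.smallEtaleTopology (rep (EtDesc.ofOpen U))).app (op W) ⟨homOf U W h⟩

lemma subsingleton_sections (U : X.Opens) (W : X.Etale) :
    Subsingleton ((EtDesc.repSh (EtDesc.ofOpen U)).obj.obj (op W)) := by
  constructor
  intro s t
  have hs := Presheaf.imageSieve_mem X.smallEtaleTopology
    (toSheafify X.smallEtaleTopology (rep (EtDesc.ofOpen U))) (U := op W) s
  have ht := Presheaf.imageSieve_mem X.smallEtaleTopology
    (toSheafify X.smallEtaleTopology (rep (EtDesc.ofOpen U))) (U := op W) t
  refine NonAbTorsor.sheaf_ext (EtDesc.repSh (EtDesc.ofOpen U)) _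
    (X.smallEtaleTopology.intersection_covering hs ht) ?_
  intro T g hg
  obtain ⟨⟨a, ha⟩, ⟨b, hb⟩⟩ := hg
  rw [← ha, ← hb, (subsingleton_rep U T).elim a b]

lemma mono_of_subsingleton (F : EtDesc.Sh X) (h : ∀ W : X.Etale, Subsingleton (F.obj.obj (op W))) :
    Mono (terminal.from F) := by
  constructor
  intro Z g k _
  apply Sheaf.hom_ext
  ext W z
  exact (h W.unop).elim _ _

lemma subsingleton_of_mono (F : EtDesc.Sh X) (hF : Mono (terminal.from F)) (W : X.Etale) :
    Subsingleton (F.obj.obj (op W)) := by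
  have hinj : Function.Injective ((terminal.from F).hom.app (op W)) := by
    have : Mono ((sheafToPresheaf X.smallEtaleTopology (Type (u + 1)) ⋙
        (evaluation _ _).obj (op W)).map (terminal.from F)) := inferInstance
    exact (mono_iff_injective _).mp this
  haveI : IsIso (terminal.from (⊤_ (EtDesc.Sh X))) :=
    isIso_of_isTerminal terminalIsTerminal terminalIsTerminal _
  obtain ⟨uu⟩ := (ClosedSh.isIso_terminal_from_iff (⊤_ (EtDesc.Sh X))).1 inferInstance W
  constructor
  intro a b
  exact hinj ((uu.uniq _).trans (uu.uniq _).symm)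

/-- Two sheaves of sets with subsingleton sections and the same nonempty sections are isomorphic. -/
lemma nonempty_iso_of_subsingleton (F G : EtDesc.Sh X)
    (hF : ∀ W : X.Etale, Subsingleton (F.obj.obj (op W)))
    (hG : ∀ W : X.Etale, Subsingleton (G.obj.obj (op W)))
    (h : ∀ W : X.Etale, Nonempty (F.obj.obj (op W)) ↔ Nonempty (G.obj.obj (op W))) :
    Nonempty (F ≅ G) := by
  refine ⟨⟨NonAbTorsor.mkHom (fun W s => Classical.choice ((h W.unop).1 ⟨s⟩))
      (fun _ _ => (hG _).elim _ _),
    NonAbTorsor.mkHom (fun W s => Classical.choice ((h W.unop).2 ⟨s⟩))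
      (fun _ _ => (hF _).elim _ _), ?_, ?_⟩⟩
  · apply Sheaf.hom_ext
    ext W z
    exact (hF W.unop).elim _ _
  · apply Sheaf.hom_ext
    ext W z
    exact (hG W.unop).elim _ _

/-- The open attached to a sheaf of sets: the union of the images of the etale schemes over which it
has a section. -/
noncomputable def openOf (F : EtDesc.Sh X) : X.Opens :=
  ⨆ W : {W : X.Etale // Nonempty (F.obj.obj (op W))},
    (⟨Set.range W.1.hom.base, by
      haveI : Etale W.1.hom := W.1.prop
      exact W.1.hom.isOpenMap.isOpen_range⟩ : X.Opens)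

lemma mem_openOf_iff (F : EtDesc.Sh X) (x : X) :
    x ∈ openOf F ↔ ∃ W : X.Etale, Nonempty (F.obj.obj (op W)) ∧ x ∈ Set.range W.hom.base := by
  unfold openOf
  rw [TopologicalSpace.Opens.mem_iSup]
  constructor
  · rintro ⟨⟨W, hW⟩, hx⟩
    exact ⟨W, hW, hx⟩
  · rintro ⟨W, hW, hx⟩
    exact ⟨⟨W, hW⟩, hx⟩

lemma range_ι_eq (U : X.Opens) : Set.range U.ι.base = (U : Set X) := Scheme.Opens.range_ι U

lemma nonempty_iff_openOf (F : EtDesc.Sh X) (hF : ∀ W : X.Etale, Subsingleton (F.obj.obj (op W)))
    (W : X.Etale) :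
    Nonempty (F.obj.obj (op W)) ↔ Set.range W.hom.base ⊆ Set.range (openOf F).ι.base := by
  rw [range_ι_eq]
  constructor
  · rintro hne _ ⟨w, rfl⟩
    exact (mem_openOf_iff F _).2 ⟨W, hne, ⟨w, rfl⟩⟩
  · intro hsub
    haveI : Etale W.hom := W.prop
    -- the sieve of arrows whose source carries a section
    let S : Sieve W :=
      { arrows := fun T _ => Nonempty (F.obj.obj (op T))
        downward_closed := by
          rintro T T' f ⟨s⟩ g
          exact ⟨F.obj.map g.op s⟩ }
    have hS : S ∈ X.smallEtaleTopology W := by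
      rw [EtGlue.mem_iff]
      intro w
      obtain ⟨W', hW', w', hw'⟩ := (mem_openOf_iff F _).1 (hsub ⟨w, rfl⟩)
      haveI : Etale W'.hom := W'.prop
      obtain ⟨z, hz1, hz2⟩ := Scheme.Pullback.exists_preimage_pullback (f := W.hom) (g := W'.hom)
        w w' hw'.symm
      obtain ⟨s'⟩ := hW'
      refine ⟨Scheme.Etale.mk (pullback.fst W.hom W'.hom ≫ W.hom),
        MorphismProperty.Over.homMk (pullback.fst W.hom W'.hom) rfl trivial, z, ?_, hz1⟩
      exact ⟨F.obj.map (MorphismProperty.Over.homMk (pullback.snd W.hom W'.hom)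
        pullback.condition.symm trivial :
          Scheme.Etale.mk (pullback.fst W.hom W'.hom ≫ W.hom) ⟶ W').op s'⟩
    have hsh := NonAbTorsor.isSheaf_type F S hS
    obtain ⟨t, -, -⟩ := hsh (fun T g hg => Classical.choice hg)
      (by
        intro Y₁ Y₂ Z g₁ g₂ f₁ f₂ h₁ h₂ _
        exact (hF Z).elim _ _)
    exact ⟨t⟩

end aux

/-- Let X be a scheme. Sending a Zariski open U of X to the etale sheaf of sets attached to the open
immersion U -> X gives an isomorphism of ordered sets from the opens of X onto the subobjects of the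
final object of the etale topos of X: (a) each such sheaf is a subobject of the final sheaf; (b) U ≤
V if and only if there is a morphism between the attached sheaves; (c) every subobject of the final
sheaf is isomorphic to the sheaf attached to some open. -/
theorem result (X : Scheme.{u}) :
    (∀ U : X.Opens, Mono (terminal.from (EtDesc.repSh (EtDesc.ofOpen U)))) ∧
    (∀ U V : X.Opens, U ≤ V ↔ Nonempty (EtDesc.repSh (EtDesc.ofOpen U) ⟶ EtDesc.repSh (EtDesc.ofOpen V))) ∧
    (∀ F : EtDesc.Sh X, Mono (terminal.from F) → ∃ U : X.Opens, Nonempty (F ≅ EtDesc.repSh (EtDesc.ofOpen U))) := by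
  refine ⟨fun U => mono_of_subsingleton _ (subsingleton_sections U), fun U V => ⟨?_, ?_⟩, ?_⟩
  · intro hUV
    have hsub : Set.range (EtDesc.ofOpen U).hom.base ⊆ Set.range V.ι.base := by
      rw [range_ι_eq]
      rintro _ ⟨y, rfl⟩
      exact hUV y.2
    exact ⟨(presheafToSheaf X.smallEtaleTopology (Type (u + 1))).map
      (Functor.whiskerRight (yoneda.map (homOf V (EtDesc.ofOpen U) hsub)) uliftFunctor.{u + 1, u})⟩
  · rintro ⟨ψ⟩
    have h0 : Set.range (EtDesc.ofOpen U).hom.base ⊆ Set.range U.ι.base := le_rfl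
    have h1 := range_subset_of_section V (EtDesc.ofOpen U)
      (ψ.hom.app (op (EtDesc.ofOpen U)) (sectionOf U (EtDesc.ofOpen U) h0))
    intro x hx
    have h2 : x ∈ Set.range (EtDesc.ofOpen U).hom.base := by
      show x ∈ Set.range U.ι.base
      rw [range_ι_eq]
      exact hx
    have h3 := h1 h2
    rw [range_ι_eq] at h3
    exact h3
  · intro F hF
    have hsub := subsingleton_of_mono F hF
    refine ⟨openOf F, nonempty_iso_of_subsingleton F _ hsub (subsingleton_sections (openOf F))
      (fun W => ?_)⟩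
    rw [nonempty_iff_openOf F hsub W]
    exact ⟨fun h => ⟨sectionOf _ W h⟩, fun ⟨s⟩ => range_subset_of_section _ W s⟩

end Groth.Agent.S3896
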