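import Groth.Statements.S4027
import Mathlib

set_option autoImplicit false
universe u
open LefPen

namespace Groth.Agent.S4027


namespace H4027

section
variable {k : Type u} [Field k] {r : ℕ}

local notation "A" => MvPolynomial (Fin r) k

noncomputable def ev0 : A →+* k := MvPolynomial.eval (fun _ => (0 : k))

noncomputable def iota : A →+* Polynomial A :=
  MvPolynomial.eval₂Hom (Polynomial.C.comp MvPolynomial.C)
    (fun j => Polynomial.C (MvPolynomial.X j) * Polynomial.X)

noncomputable def eps : Polynomial A →+* A := Polynomial.evalRingHom 1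

noncomputable def sig' : A →+* Polynomial (Polynomial A) :=
  MvPolynomial.eval₂Hom (Polynomial.C.comp (Polynomial.C.comp MvPolynomial.C))
    (fun j => Polynomial.C (Polynomial.C (MvPolynomial.X j)) * Polynomial.X)

noncomputable def s1 : Polynomial A →+* Polynomial (Polynomial A) :=
  Polynomial.eval₂RingHom (R := A) (S := Polynomial (Polynomial A)) sig'
    (Polynomial.C Polynomial.X)

noncomputable def kappa : Polynomial A →+* Polynomial (Polynomial A) :=
  Polynomial.eval₂RingHom (R := A) (S := Polynomial (Polynomial A))
    (Polynomial.C.comp Polynomial.C) (Polynomial.C Polynomial.X * Polynomial.X)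

noncomputable def zz : A →+* A := MvPolynomial.C.comp ev0

lemma eps_iota (a : A) : eps (iota a) = a := by
  have h : (eps.comp iota : A →+* A) = RingHom.id A := by
    apply MvPolynomial.ringHom_ext
    · intro c; simp [eps, iota]
    · intro i; simp [eps, iota]
  exact RingHom.congr_fun h a

lemma mapEps_sig' (a : A) : (sig' a).map (eps : Polynomial A →+* A) = iota a := by
  have h : ((Polynomial.mapRingHom (eps : Polynomial A →+* A)).comp sig' :
      A →+* Polynomial A) = iota := by
    apply MvPolynomial.ringHom_ext
    · intro c; simp [eps, iota, sig']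
    · intro i; simp [eps, iota, sig']
  exact RingHom.congr_fun h a

lemma mapEps_s1 (P : Polynomial A) :
    (s1 P).map (eps : Polynomial A →+* A) = iota (eps P) := by
  have h : ((Polynomial.mapRingHom (eps : Polynomial A →+* A)).comp s1 :
      Polynomial A →+* Polynomial A) = iota.comp eps := by
    apply Polynomial.ringHom_ext
    · intro a
      simp only [RingHom.comp_apply, s1, Polynomial.coe_eval₂RingHom, Polynomial.eval₂_C,
        Polynomial.coe_mapRingHom]
      rw [mapEps_sig']; simp [eps]
    · simp [s1, eps]
  exact RingHom.congr_fun h P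

lemma s1_iota (a : A) : s1 (iota a) = kappa (iota a) := by
  have h : (s1.comp iota : A →+* _) = kappa.comp iota := by
    apply MvPolynomial.ringHom_ext
    · intro c; simp [s1, kappa, iota, sig']
    · intro i
      simp [s1, kappa, iota, sig']
      try ring
  exact RingHom.congr_fun h a

lemma natDegree_kappa_le (f : Polynomial A) : (kappa f).natDegree ≤ f.natDegree := by
  have h : kappa f = (f.map Polynomial.C).comp (Polynomial.C Polynomial.X * Polynomial.X) := by
    simp only [kappa, Polynomial.coe_eval₂RingHom, Polynomial.comp, Polynomial.eval₂_map]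
  rw [h]
  refine (Polynomial.natDegree_comp_le).trans ?_
  have h1 : (Polynomial.C (Polynomial.X : Polynomial A) *
      (Polynomial.X : Polynomial (Polynomial A))).natDegree ≤ 1 :=
    (Polynomial.natDegree_C_mul_le _ _).trans Polynomial.natDegree_X_le
  calc _ ≤ (f.map Polynomial.C).natDegree * 1 := Nat.mul_le_mul_left _ h1
    _ = (f.map Polynomial.C).natDegree := mul_one _
    _ ≤ f.natDegree := Polynomial.natDegree_map_le

lemma ev1_sig' (a : A) : Polynomial.eval 1 (sig' a) = Polynomial.C a := by
  have h : ((Polynomial.evalRingHom (1 : Polynomial A)).comp sig' : A →+* Polynomial A) =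
      Polynomial.C := by
    apply MvPolynomial.ringHom_ext
    · intro c; simp [sig']
    · intro i; simp [sig']
  exact RingHom.congr_fun h a

lemma ev1_s1 (P : Polynomial A) : Polynomial.eval 1 (s1 P) = P := by
  have h : ((Polynomial.evalRingHom (1 : Polynomial A)).comp s1 :
      Polynomial A →+* Polynomial A) = RingHom.id _ := by
    apply Polynomial.ringHom_ext
    · intro a
      simp only [RingHom.comp_apply, s1, Polynomial.coe_eval₂RingHom, Polynomial.eval₂_C,
        Polynomial.coe_evalRingHom, RingHom.id_apply]
      exact ev1_sig' a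
    · simp [s1]
  exact RingHom.congr_fun h P

lemma ev0_sig' (a : A) : Polynomial.eval 0 (sig' a) = Polynomial.C (zz a) := by
  have h : ((Polynomial.evalRingHom (0 : Polynomial A)).comp sig' : A →+* Polynomial A) =
      Polynomial.C.comp zz := by
    apply MvPolynomial.ringHom_ext
    · intro c; simp [sig', zz, ev0]
    · intro i; simp [sig', zz, ev0]
  exact RingHom.congr_fun h a

lemma ev0_s1 (P : Polynomial A) : Polynomial.eval 0 (s1 P) = P.map zz := by
  have h : ((Polynomial.evalRingHom (0 : Polynomial A)).comp s1 :
      Polynomial A →+* Polynomial A) = Polynomial.mapRingHom zz := by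
    apply Polynomial.ringHom_ext
    · intro a
      simp only [RingHom.comp_apply, s1, Polynomial.coe_eval₂RingHom, Polynomial.eval₂_C,
        Polynomial.coe_evalRingHom, Polynomial.coe_mapRingHom, Polynomial.map_C]
      exact ev0_sig' a
    · simp [s1]
  exact RingHom.congr_fun h P

lemma map_ev0_iota (a : A) : (iota a).map (ev0 : A →+* k) = Polynomial.C (ev0 a) := by
  have h : ((Polynomial.mapRingHom (ev0 : A →+* k)).comp iota : A →+* Polynomial k) =
      Polynomial.C.comp ev0 := by
    apply MvPolynomial.ringHom_ext
    · intro c; simp [iota, ev0]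
    · intro i; simp [iota, ev0]
  exact RingHom.congr_fun h a

lemma coeff_zero_iota (a : A) : (iota a).coeff 0 = zz a := by
  have h : ((Polynomial.evalRingHom (0 : A)).comp iota : A →+* A) = zz := by
    apply MvPolynomial.ringHom_ext
    · intro c; simp [iota, zz, ev0]
    · intro i; simp [iota, zz, ev0]
  rw [Polynomial.coeff_zero_eq_eval_zero]
  exact RingHom.congr_fun h a

lemma isUnit_of_eps_isUnit (F : A) (hF0 : ev0 F ≠ 0) (P Q : Polynomial A)
    (hPQ : iota F = P * Q) (hu : IsUnit (eps P)) : IsUnit P := by
  have hFne : F ≠ 0 := by rintro rfl; exact hF0 (map_zero _)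
  have hG0 : iota F ≠ 0 := by
    intro h; apply hFne; rw [← eps_iota F, h, map_zero]
  have hP0 : P ≠ 0 := by rintro rfl; exact hG0 (by rw [hPQ, zero_mul])
  have hQ0 : Q ≠ 0 := by rintro rfl; exact hG0 (by rw [hPQ, mul_zero])
  have hsP : s1 P ≠ 0 := by
    intro h; apply hP0; rw [← ev1_s1 P, h, Polynomial.eval_zero]
  have hsQ : s1 Q ≠ 0 := by
    intro h; apply hQ0; rw [← ev1_s1 Q, h, Polynomial.eval_zero]
  have h_add : (s1 P).natDegree + (s1 Q).natDegree = (s1 (iota F)).natDegree := by
    rw [hPQ, map_mul, Polynomial.natDegree_mul hsP hsQ]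
  have h_le1 : (s1 (iota F)).natDegree ≤ (iota F).natDegree := by
    rw [s1_iota]; exact natDegree_kappa_le _
  have h_le2 : (iota F).natDegree ≤ (iota (eps Q)).natDegree := by
    have h1 : F = eps P * eps Q := by rw [← map_mul, ← hPQ, eps_iota]
    have h2 : iota F = iota (eps P) * iota (eps Q) := by rw [← map_mul, ← h1]
    rw [h2]
    refine Polynomial.natDegree_mul_le.trans ?_
    rw [Polynomial.natDegree_eq_zero_of_isUnit (hu.map iota), zero_add]
  have h_le3 : (iota (eps Q)).natDegree ≤ (s1 Q).natDegree := by
    rw [← mapEps_s1]; exact Polynomial.natDegree_map_le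
  have hdeg0 : (s1 P).natDegree = 0 := by omega
  have hconst := Polynomial.eq_C_of_natDegree_eq_zero hdeg0
  have hPz : P = P.map zz := by
    have h1 := ev1_s1 P
    have h0 := ev0_s1 P
    rw [hconst, Polynomial.eval_C] at h1 h0
    rw [← h0, h1]
  have hdvd : P.map (ev0 : A →+* k) ∣ Polynomial.C (ev0 F) := by
    rw [← map_ev0_iota, hPQ, Polynomial.map_mul]
    exact dvd_mul_right _ _
  have hunit0 : IsUnit (P.map (ev0 : A →+* k)) :=
    isUnit_of_dvd_unit hdvd (Polynomial.isUnit_C.2 (IsUnit.mk0 _ hF0))
  have hP2 : P = (P.map (ev0 : A →+* k)).map MvPolynomial.C := by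
    rw [Polynomial.map_map]; exact hPz
  rw [hP2]
  exact hunit0.map (Polynomial.mapRingHom MvPolynomial.C)

theorem irreducible_iota (F : A) (hF : Irreducible F) (hF0 : ev0 F ≠ 0) :
    Irreducible (iota F) := by
  refine ⟨?_, ?_⟩
  · intro hunit
    apply hF.not_isUnit
    have := hunit.map eps
    rwa [eps_iota] at this
  · intro P Q hPQ
    have h1 : F = eps P * eps Q := by rw [← map_mul, ← hPQ, eps_iota]
    rcases hF.isUnit_or_isUnit h1 with h | h
    · left; exact isUnit_of_eps_isUnit F hF0 P Q hPQ h
    · right; exact isUnit_of_eps_isUnit F hF0 Q P (by rw [hPQ, mul_comm]) h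

theorem main (F : A) (hF : Irreducible F)
    (hF0 : MvPolynomial.eval (fun _ => (0 : k)) F ≠ 0) :
    Irreducible ((MvPolynomial.eval₂ (Polynomial.C.comp MvPolynomial.C)
        (fun j => Polynomial.C (MvPolynomial.X j) * Polynomial.X) F).map
      (algebraMap A (FractionRing A))) := by
  have hprim : (iota F).IsPrimitive := by
    rw [Polynomial.isPrimitive_iff_isUnit_of_C_dvd]
    intro a ha
    have h1 : a ∣ (iota F).coeff 0 := (Polynomial.C_dvd_iff_dvd_coeff a _).1 ha 0
    rw [coeff_zero_iota] at h1
    exact isUnit_of_dvd_unit h1 ((IsUnit.mk0 _ hF0).map MvPolynomial.C)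
  exact (hprim.irreducible_iff_irreducible_map_fraction_map).1 (irreducible_iota F hF hF0)

end

end H4027

/-- Let k be an algebraically closed field, r ≥ 2, and F ∈ k[X_1, …, X_r] an irreducible polynomial with
F(0) ≠ 0 (in the source the origin is the base point of the lines considered and lies off the
hypersurface F = 0; without this the claim fails, e.g. for X_1 - X_2^2). Then the polynomial G(T) =
F(X_1 T, …, X_r T), with coefficients in the field of rational functions k(X_1, …, X_r), is
irreducible. -/
theorem result (k : Type u) [Field k] [IsAlgClosed k] (r : ℕ) (hr : 2 ≤ r)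
    (F : MvPolynomial (Fin r) k) (hF : Irreducible F) (hF0 : MvPolynomial.eval (fun _ => (0 : k)) F ≠ 0) :
    Irreducible ((MvPolynomial.eval₂ (Polynomial.C.comp MvPolynomial.C)
        (fun j => Polynomial.C (MvPolynomial.X j) * Polynomial.X) F).map
      (algebraMap (MvPolynomial (Fin r) k) (FractionRing (MvPolynomial (Fin r) k)))) := by
  exact H4027.main F hF hF0

end Groth.Agent.S4027
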