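import Groth.Statements.S4064
import Mathlib
import Groth.Agent.Lib.Helper6.ExtRealize

set_option autoImplicit false
universe w v v'
open CategoryTheory CategoryTheory.Abelian
open SGA7

namespace Groth.Agent.S4064

/-- Let P -> F -> R and R -> E -> Q be short exact sequences in an abelian category (F an extension of R
by P, E an extension of Q by R). A blended extension of E by F is an object X with a monomorphism i
: F -> X and an epimorphism p : X -> E such that P -> X -> E (via i) and F -> X -> Q (via p) are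
short exact and F -> X -> E is the composite F -> R -> E. Such an X exists if and only if the
composite of the two extension classes, an element of Ext^2(Q, P), is zero. -/
theorem result {C : Type w} [Category.{v} C] [Abelian C]
    [HasExt.{v'} C] {P F R E Q : C} (a : P ⟶ F) (b : F ⟶ R) (wF : a ≫ b = 0)
    (hF : (ShortComplex.mk a b wF).ShortExact) (c : R ⟶ E) (d : E ⟶ Q) (wE : c ≫ d = 0)
    (hE : (ShortComplex.mk c d wE).ShortExact) :
    (∃ (X : C) (i : F ⟶ X) (p : X ⟶ E), i ≫ p = b ≫ c ∧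
        (∃ w : (a ≫ i) ≫ p = 0, (ShortComplex.mk (a ≫ i) p w).ShortExact) ∧
        (∃ w : i ≫ (p ≫ d) = 0, (ShortComplex.mk i (p ≫ d) w).ShortExact)) ↔
      hE.extClass.comp hF.extClass (rfl : 1 + 1 = 2) = 0 := by
  constructor
  · rintro ⟨X, i, p, hip, ⟨w₁, h₁⟩, -⟩
    let φ : ShortComplex.mk a b wF ⟶ ShortComplex.mk (a ≫ i) p w₁ :=
      { τ₁ := 𝟙 P
        τ₂ := i
        τ₃ := c
        comm₁₂ := by
          show 𝟙 P ≫ (a ≫ i) = a ≫ i
          rw [Category.id_comp]
        comm₂₃ := by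
          show i ≫ p = b ≫ c
          exact hip }
    have nat := ShortComplex.ShortExact.extClass_naturality hF h₁ φ
    have h2 : hF.extClass = (Ext.mk₀ c).comp h₁.extClass (zero_add 1) := by
      rw [← nat]
      exact (Ext.comp_mk₀_id _).symm
    rw [h2]
    exact hE.extClass_comp_assoc h₁.extClass
  · intro hzero
    obtain ⟨y, hy⟩ := Ext.covariant_sequence_exact₃ Q hF hE.extClass rfl hzero
    obtain ⟨X, i, q, wX, hX, hXy⟩ :=
      Groth.Agent.Lib.Helper6.ExtRealize.exists_shortExact_extClass y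
    obtain ⟨p, hp₁, hp₂⟩ : ∃ p : X ⟶ E, i ≫ p = b ≫ c ∧ q ≫ 𝟙 Q = p ≫ d :=
      Groth.Agent.Lib.Helper6.ExtRealize.exists_map_of_extClass hX hE b (𝟙 Q)
        (by rw [hXy, Ext.mk₀_id_comp]; exact hy)
    have hip : i ≫ p = b ≫ c := hp₁
    have hpd : p ≫ d = q := by
      have h3 : q ≫ 𝟙 Q = p ≫ d := hp₂
      rw [Category.comp_id] at h3
      exact h3.symm
    subst hpd
    have w₁ : (a ≫ i) ≫ p = 0 := by
      rw [Category.assoc, hip, ← Category.assoc, wF, Limits.zero_comp]
    refine ⟨X, i, p, hip, ⟨w₁, ?_⟩, ⟨wX, hX⟩⟩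
    have hma : Mono a := hF.mono_f
    have hmi : Mono i := hX.mono_f
    have heb : Epi b := hF.epi_g
    have hmc : Mono c := hE.mono_f
    have hepd : Epi (p ≫ d) := hX.epi_g
    refine ShortComplex.ShortExact.mk' ?_ ?_ ?_
    · rw [ShortComplex.exact_iff_exact_up_to_refinements]
      intro A x hx
      have hx' : x ≫ p = 0 := hx
      obtain ⟨A₁, π₁, hπ₁, f, hf⟩ := hX.exact.exact_up_to_refinements x (by
        show x ≫ (p ≫ d) = 0
        rw [← Category.assoc, hx', Limits.zero_comp])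
      have hf' : π₁ ≫ x = f ≫ i := hf
      have hfb : f ≫ b = 0 := by
        apply (cancel_mono c).1
        calc (f ≫ b) ≫ c = (f ≫ i) ≫ p := by rw [Category.assoc, Category.assoc, hip]
          _ = 0 := by rw [← hf', Category.assoc, hx', Limits.comp_zero]
          _ = 0 ≫ c := Limits.zero_comp.symm
      obtain ⟨A₂, π₂, hπ₂, g, hg⟩ := hF.exact.exact_up_to_refinements f hfb
      have hg' : π₂ ≫ f = g ≫ a := hg
      refine ⟨A₂, π₂ ≫ π₁, epi_comp _ _, g, ?_⟩
      show (π₂ ≫ π₁) ≫ x = g ≫ (a ≫ i)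
      rw [Category.assoc, hf', ← Category.assoc, hg', Category.assoc]
    · show Mono (a ≫ i)
      exact mono_comp a i
    · show Epi p
      rw [epi_iff_surjective_up_to_refinements]
      intro A e
      obtain ⟨A₁, π₁, hπ₁, x, hx⟩ := surjective_up_to_refinements_of_epi (p ≫ d) (e ≫ d)
      obtain ⟨A₂, π₂, hπ₂, r, hr⟩ := hE.exact.exact_up_to_refinements (π₁ ≫ e - x ≫ p) (by
        show (π₁ ≫ e - x ≫ p) ≫ d = 0
        rw [Preadditive.sub_comp, Category.assoc, Category.assoc, hx, sub_self])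
      have hr' : π₂ ≫ (π₁ ≫ e - x ≫ p) = r ≫ c := hr
      obtain ⟨A₃, π₃, hπ₃, f, hf⟩ := surjective_up_to_refinements_of_epi b r
      refine ⟨A₃, π₃ ≫ π₂ ≫ π₁, inferInstance, π₃ ≫ π₂ ≫ x + f ≫ i, ?_⟩
      have h3 : π₃ ≫ π₂ ≫ (π₁ ≫ e - x ≫ p) = f ≫ i ≫ p := by
        rw [hr', ← Category.assoc, hf, Category.assoc, hip]
      rw [Preadditive.comp_sub, Preadditive.comp_sub] at h3
      simp only [Category.assoc, Preadditive.add_comp]
      rw [← h3]
      abel

end Groth.Agent.S4064
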