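import Groth.Statements.S4085
import Groth.Agent.Lib.Helper11.GQ7d

set_option autoImplicit false
universe u
open CategoryTheory MonoidalCategory CartesianMonoidalCategory MonObj GrpObj AlgebraicGeometry CategoryTheory.Limits
open GrpQ

namespace Groth.Agent.S4085

open Groth.Agent.Lib.Helper11.GQ2 Groth.Agent.Lib.Helper11.GQ5 Groth.Agent.Lib.Helper11.GQ7b
  Groth.Agent.Lib.Helper11.GQ7c Groth.Agent.Lib.Helper11.GQ7d Groth.Agent.Lib.Helper11.GPackB

/-- Let (U, R, s, t, c) be a groupoid scheme over S such that the source map s is finite locally free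
and, for every point x of U, the set t(s⁻¹(x)) is contained in an affine open of U. Then there are a
scheme Y and a morphism p : U → Y with t ≫ p = s ≫ p which is a coequalizer of (t, s) in the
category of schemes; p is integral, surjective and open, two points of U have the same image exactly
when they are the target and source of a point of R, the morphism R → U ×_Y U with components (t, s)
is surjective, and Y is affine when U is. (The source also shows that (Y, p) is a cokernel in all
ringed spaces.) -/
theorem result (S : Scheme.{u}) (G : Grpd.GroupoidScheme S)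
    (ha : Mor2.IsFinLocFree G.s)
    (hb : ∀ x : G.U, ∃ V : G.U.Opens, IsAffineOpen V ∧ G.t.base '' (G.s.base ⁻¹' {x}) ⊆ (V : Set G.U)) :
    ∃ (Y : Scheme.{u}) (p : G.U ⟶ Y) (w : G.t ≫ p = G.s ≫ p),
      Nonempty (IsColimit (Cofork.ofπ p w)) ∧ IsIntegralHom p ∧ Surjective p ∧ IsOpenMap p.base ∧
      (∀ x y : G.U, p.base x = p.base y ↔ ∃ r : G.R, G.t.base r = x ∧ G.s.base r = y) ∧
      Function.Surjective (pullback.lift G.t G.s w).base ∧ (IsAffine G.U → IsAffine Y) := by
  obtain ⟨hfin, hflat, hlfp⟩ := ha
  haveI := hfin
  haveI := hflat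
  haveI := hlfp
  by_cases hU : IsAffine G.U
  · haveI := hU
    haveI : IsAffine G.R := isAffine_of_isAffineHom G.s
    obtain ⟨h1, h2, h3, h4, h5, h6⟩ := affine_quot G
    exact ⟨Spec (CommRingCat.of G.invariants), G.toQuot, t_toQuot G, h1, h2, h3, h4, h5, h6,
      fun _ => inferInstance⟩
  · haveI : HasAffOrbits G := ⟨hb⟩
    exact ⟨Y G, p G, t_p G, isColimit_p G, p_isIntegralHom G, ⟨p_surjective G⟩, p_isOpenMap G,
      fun x y => p_eq_iff G x y, surjective_lift_p G, fun h => absurd h hU⟩

end Groth.Agent.S4085
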