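import Groth.Statements.S4087
import Groth.Agent.Lib.Helper11.QS4

set_option autoImplicit false
universe u
open CategoryTheory MonoidalCategory CartesianMonoidalCategory MonObj GrpObj AlgebraicGeometry CategoryTheory.Limits
open GrpQ

namespace Groth.Agent.S4087

open Groth.Agent.Lib.Helper11.GQ7b Groth.Agent.Lib.Helper11.QS1 Groth.Agent.Lib.Helper11.QS2
  Groth.Agent.Lib.Helper11.QS3 Groth.Agent.Lib.Helper11.QS4

/-- Let (U, R, s, t, c) be a groupoid scheme over S and u : U' → U an immersion which is a
quasi-section: writing V = R ×_{t, U} U' for the arrows with target in U', the morphism V → U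
induced by s is finite locally free and surjective, and every subset of U' whose points are pairwise
equivalent (any two are the target and the source of one arrow) lies in an affine open of U'. Then
(t, s) has a coequalizer p : U → Y in schemes; p is surjective, open if t is open, universally
closed if t is; R → U ×_Y U is surjective; and if j = (t, s) is a monomorphism, R ≅ U ×_Y U, and p
is flat when t is flat. -/
theorem result (S : Scheme.{u}) (G : Grpd.GroupoidScheme S)
    (U' : Scheme.{u}) (u : U' ⟶ G.U) [IsImmersion u]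
    (h1 : Mor2.IsFinLocFree (pullback.fst G.t u ≫ G.s) ∧ Surjective (pullback.fst G.t u ≫ G.s))
    (h2 : ∀ E : Set U', (∀ x ∈ E, ∀ y ∈ E, ∃ r : G.R, G.t.base r = u.base x ∧ G.s.base r = u.base y) →
      ∃ W : U'.Opens, IsAffineOpen W ∧ E ⊆ (W : Set U')) :
    ∃ (Y : Scheme.{u}) (p : G.U ⟶ Y) (w : G.t ≫ p = G.s ≫ p),
      Nonempty (IsColimit (Cofork.ofπ p w)) ∧ Surjective p ∧
      (IsOpenMap G.t.base → IsOpenMap p.base) ∧ (UniversallyClosed G.t → UniversallyClosed p) ∧
      Function.Surjective (pullback.lift G.t G.s w).base ∧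
      (Mono G.j → IsPullback G.t G.s p p ∧ (Flat G.t → Flat p)) := by
  obtain ⟨⟨hfin, hflat, hlfp⟩, hsurj⟩ := h1
  haveI : Mono u := inferInstance
  haveI : IsFinite (vs G u) := hfin
  haveI : Flat (vs G u) := hflat
  haveI : LocallyOfFinitePresentation (vs G u) := hlfp
  haveI : Surjective (vs G u) := hsurj
  haveI : HasAffOrbits (full G u) := hasAffOrbits G u h2
  refine ⟨Y' G u, pD G u, t_pD G u, isColimit_pD G u, ⟨pD_surjective G u⟩, pD_isOpenMap G u,
    fun h => ?_, surjective_lift_pD G u, fun hm => ?_⟩
  · haveI := h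
    exact universallyClosed_pD G u
  · haveI := hm
    refine ⟨isPullback_pD G u, fun hf => ?_⟩
    haveI := hf
    exact flat_pD G u

end Groth.Agent.S4087
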