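import Groth.Statements.S4112
-- import your own Groth.Agent.* helpers here
import Mathlib
import Groth.Agent.Lib.Helper22.PowEtE
import Groth.Agent.Lib.Helper22.PowEtF
import Groth.Agent.Lib.Helper22.LieGenD

set_option autoImplicit false
universe u
open CategoryTheory MonoidalCategory CartesianMonoidalCategory MonObj GrpObj AlgebraicGeometry CategoryTheory.Limits
open SGA3

namespace Groth.Agent.S4112

/-- Let G be a commutative algebraic group over a field k and n a natural number invertible in k. Then
the n-th power morphism G → G is etale. -/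
theorem result (k : Type u) [Field k] (G : Over (Spec (CommRingCat.of k))) [GrpObj G]
    [IsCommMonObj G] [LocallyOfFiniteType G.hom] [QuasiCompact G.hom] (n : ℕ) (hn : (n : k) ≠ 0) :
    Etale ((𝟙 G : G ⟶ G) ^ n).left := by
  obtain ⟨W, heW, hW⟩ := Groth.Agent.Lib.Helper22.PowEt.exists_etale_nhd k G n hn
  haveI := hW
  haveI hWflat : Flat (W.ι ≫ (𝟙 G ^ n : G ⟶ G).left) := inferInstance
  haveI hflat : Flat (𝟙 G ^ n : G ⟶ G).left :=
    Groth.Agent.Lib.Helper22.PowEt.flat_pow_of_nhd k G n W heW hWflat
  haveI : FormallyUnramified (𝟙 G ^ n : G ⟶ G).left := by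
    have h1 := Groth.Agent.Lib.Helper22.LieGen.formallyUnramified_zpow k G (n : ℤ)
      (by exact_mod_cast hn)
    rwa [zpow_natCast] at h1
  haveI : IsLocallyNoetherian G.left := LocallyOfFiniteType.isLocallyNoetherian G.hom
  haveI hfq : LocallyOfFiniteType ((𝟙 G ^ n : G ⟶ G).left ≫ G.hom) := by
    rw [Over.w (𝟙 G ^ n : G ⟶ G)]
    infer_instance
  haveI : LocallyOfFiniteType (𝟙 G ^ n : G ⟶ G).left :=
    locallyOfFiniteType_of_comp (𝟙 G ^ n : G ⟶ G).left G.hom
  haveI : LocallyOfFinitePresentation (𝟙 G ^ n : G ⟶ G).left :=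
    LocallyOfFinitePresentation.iff_locallyOfFiniteType.mpr inferInstance
  exact Etale.of_formallyUnramified_of_flat _

end Groth.Agent.S4112
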