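import Groth.Statements.S4130
import Groth.Agent.Lib.Helper19.PrimMult

set_option autoImplicit false
universe u
open TensorProduct
open SGA3

namespace Groth.Agent.S4130

/-- Let A be a finitely generated commutative and cocommutative Hopf algebra over a field k (a
commutative affine algebraic group G = Spec A). Then G has a largest subgroup M of multiplicative
type and G/M is unipotent: there is a Hopf ideal J of A (defining M) such that A/J is of
multiplicative type (diagonalizable after a faithfully flat extension of k), J is contained in every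
Hopf ideal I with A/I of multiplicative type, and J is the ideal generated by the augmentation ideal
of the image of an injective bialgebra map φ : B → A from a Hopf algebra B (so Spec B = G/M) which
is unipotent in the fixed-vector sense. -/
theorem result (k : Type u) [Field k]
    (A : Type u) [CommRing A] [HopfAlgebra k A] [Algebra.FiniteType k A] [Coalgebra.IsCocomm k A] :
    ∃ (J : Ideal A) (_ : J.IsHopfIdeal k), SGA3b.IsMultTypeConst k (A ⧸ J) ∧
      (∀ (I : Ideal A) [I.IsHopfIdeal k], SGA3b.IsMultTypeConst k (A ⧸ I) → J ≤ I) ∧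
      ∃ (B : Type u) (_ : CommRing B) (_ : HopfAlgebra k B) (φ : B →ₐc[k] A), Function.Injective φ ∧
        J = Ideal.map (φ : B →+* A) (RingHom.ker (Bialgebra.counitAlgHom k B)) ∧ HopfRep.IsUnipotent k B := by
  classical
  have hB : Groth.Agent.Lib.Helper28.TakSubalg.IsHopfSub
      (Groth.Agent.Lib.Helper19.PrimFilt.GSub k A) :=
    Groth.Agent.Lib.Helper19.PrimFilt.GSub_isHopfSub
  refine ⟨Groth.Agent.Lib.Helper28.NrmInv.augIdeal (Groth.Agent.Lib.Helper19.PrimFilt.GSub k A) hB,
    Groth.Agent.Lib.Helper28.NrmInv.augIdeal_isHopfIdeal _ hB, ?_, ?_, ?_⟩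
  · exact Groth.Agent.Lib.Helper19.PrimMult.isMultTypeConst_quot _
      (fun f hf => Groth.Agent.Lib.Helper19.PrimLift.primitive_eq_zero f hf)
  · intro I _ hI
    exact Groth.Agent.Lib.Helper19.PrimMult.le_of_isMultTypeConst _ hB
      Groth.Agent.Lib.Helper19.PrimFilt.isUnipotent_GSub I hI
  · exact ⟨↥(Groth.Agent.Lib.Helper19.PrimFilt.GSub k A), inferInstance,
      Groth.Agent.Lib.Helper28.TakSubalg.hopfAlgebra _ hB,
      Groth.Agent.Lib.Helper28.TakSubalg.valBialgHom _ hB,
      Groth.Agent.Lib.Helper28.TakSubalg.valBialgHom_injective _ hB, rfl,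
      Groth.Agent.Lib.Helper19.PrimFilt.isUnipotent_GSub⟩

end Groth.Agent.S4130
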