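import Groth.Statements.S4135
import Groth.Agent.Lib.Helper19.MM1
import Groth.Agent.Lib.Helper19.MM2

set_option autoImplicit false
universe u
open TensorProduct
attribute [local instance] LieRing.ofAssociativeRing
open SGA3y

namespace Groth.Agent.S4135

/-- Let k be a field of characteristic zero and H a cocommutative bialgebra over k which is connected
(every nonzero subcoalgebra contains 1). Then the canonical algebra homomorphism from the universal
enveloping algebra of the Lie algebra of primitive elements of H to H is bijective. -/
theorem result (k : Type u) [Field k] [CharZero k] (H : Type u) [Ring H]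
    [Bialgebra k H] [Coalgebra.IsCocomm k H] (hconn : SGA3y.IsConnectedCoalg k H) :
    Function.Bijective (UniversalEnvelopingAlgebra.lift k (SGA3y.primLie k H).incl) := by
  refine ⟨Groth.Agent.Lib.Helper19.MM.lift_injective k H, ?_⟩
  have h := Groth.Agent.Lib.Helper19.MM.eq_top_of_primitive_mem hconn
    (UniversalEnvelopingAlgebra.lift k (SGA3y.primLie k H).incl).range
    (fun x hx => by
      have hx' : x ∈ SGA3y.primLie k H := hx
      rw [AlgHom.mem_range]
      refine ⟨UniversalEnvelopingAlgebra.ι k (⟨x, hx'⟩ : SGA3y.primLie k H), ?_⟩
      rw [UniversalEnvelopingAlgebra.lift_ι_apply]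
      rfl)
  intro y
  have hy : y ∈ (UniversalEnvelopingAlgebra.lift k (SGA3y.primLie k H).incl).range := by
    rw [h]
    exact Algebra.mem_top
  exact hy

end Groth.Agent.S4135
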