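import Groth.Statements.S4194
import Mathlib.AlgebraicGeometry.AlgClosed.Basic
import Mathlib.Analysis.Complex.Polynomial.Basic
import Mathlib.AlgebraicGeometry.Morphisms.Separated
import Mathlib.AlgebraicGeometry.Morphisms.Immersion

set_option autoImplicit false
open CategoryTheory AlgebraicGeometry Topology TopologicalSpace
open An

namespace Groth.Agent.S4194

theorem pt_injective (Z : Scheme.{0}) [Z.Over An.SC] [LocallyOfFiniteType (Z ↘ An.SC)] :
    Function.Injective (An.Pts.pt (X := Z)) := by
  intro a b hab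
  apply Subtype.ext
  refine ext_of_apply_closedPoint_eq (Z ↘ An.SC) a.2 b.2 ?_
  have e : IsLocalRing.closedPoint ℂ = An.cpt := An.eq_cpt _
  rw [e]
  exact hab

/-- A morphism f : X → Y of schemes locally of finite type over ℂ is injective (on underlying points) if
and only if the induced map X(ℂ) → Y(ℂ) is injective. -/
theorem result (X Y : Scheme.{0}) [X.Over An.SC] [LocallyOfFiniteType (X ↘ An.SC)]
    [Y.Over An.SC] [LocallyOfFiniteType (Y ↘ An.SC)] (f : X ⟶ Y) [f.IsOver An.SC] :
    Function.Injective f.base ↔ Function.Injective (An.Pts.map f) := by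
  constructor
  · intro hf a b hab
    apply pt_injective X
    apply hf
    have := congrArg An.Pts.pt hab
    rwa [An.Pts.pt_map, An.Pts.pt_map] at this
  · intro hinj x₁ x₂ hx
    by_contra hne
    have hfX : LocallyOfFiniteType (f ≫ (Y ↘ An.SC)) := by
      rw [comp_over f]; infer_instance
    have hf : LocallyOfFiniteType f := locallyOfFiniteType_of_comp f (Y ↘ An.SC)
    have hP : LocallyOfFiniteType ((Limits.pullback f f) ↘ An.SC) := by
      change LocallyOfFiniteType (Limits.pullback.fst f f ≫ (X ↘ An.SC))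
      infer_instance
    have : JacobsonSpace ↥(Limits.pullback f f) :=
      LocallyOfFiniteType.jacobsonSpace ((Limits.pullback f f) ↘ An.SC)
    obtain ⟨z, hz1, hz2⟩ := Scheme.Pullback.exists_preimage_pullback (f := f) (g := f) x₁ x₂ hx
    have hzΔ : z ∉ Set.range (Limits.pullback.diagonal f).base := by
      rintro ⟨x, rfl⟩
      apply hne
      rw [← hz1, ← hz2, ← Scheme.Hom.comp_apply, ← Scheme.Hom.comp_apply]
      simp
    have hlc : IsLocallyClosed (Set.range (Limits.pullback.diagonal f).base) :=
      (Limits.pullback.diagonal f).isLocallyClosed_range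
    obtain ⟨U, C, hU, hC, hUC⟩ := hlc
    have hw : ∃ w : ↥(Limits.pullback f f), IsClosed {w} ∧
        w ∉ Set.range (Limits.pullback.diagonal f).base := by
      rw [hUC] at hzΔ ⊢
      by_cases hzU : z ∈ U
      · have hzC : z ∈ Cᶜ := fun h => hzΔ ⟨hzU, h⟩
        obtain ⟨w, hwC, hw⟩ := nonempty_inter_closedPoints (Z := Cᶜ) ⟨z, hzC⟩
          hC.isOpen_compl.isLocallyClosed
        exact ⟨w, hw, fun h => hwC h.2⟩
      · obtain ⟨w, hwU, hw⟩ := nonempty_inter_closedPoints (Z := Uᶜ) ⟨z, hzU⟩
          hU.isClosed_compl.isLocallyClosed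
        exact ⟨w, hw, fun h => hwU h.1⟩
    obtain ⟨w, hwcl, hwΔ⟩ := hw
    let w' : An.Pts (Limits.pullback f f) :=
      (pointEquivClosedPoint ((Limits.pullback f f) ↘ An.SC)).symm ⟨w, hwcl⟩
    have hw' : w'.1 (IsLocalRing.closedPoint ℂ) = w := by
      exact pointOfClosedPoint_apply _ _ _ _
    have hab := hinj (An.Pts.map_pullback_condition f f w')
    have hab' : w'.1 ≫ Limits.pullback.fst f f = w'.1 ≫ Limits.pullback.snd f f :=
      congrArg Subtype.val hab
    have hfac : w'.1 = (w'.1 ≫ Limits.pullback.fst f f) ≫ Limits.pullback.diagonal f := by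
      apply Limits.pullback.hom_ext
      · simp
      · simp [hab']
    apply hwΔ
    refine ⟨(w'.1 ≫ Limits.pullback.fst f f) (IsLocalRing.closedPoint ℂ), ?_⟩
    have h3 := congrArg (fun g : An.SC ⟶ Limits.pullback f f => g (IsLocalRing.closedPoint ℂ)) hfac
    have h4 : ((w'.1 ≫ Limits.pullback.fst f f) ≫ Limits.pullback.diagonal f) (IsLocalRing.closedPoint ℂ) =
        (Limits.pullback.diagonal f) ((w'.1 ≫ Limits.pullback.fst f f) (IsLocalRing.closedPoint ℂ)) :=
      Scheme.Hom.comp_apply _ _ _
    exact h4.symm.trans (h3.symm.trans hw')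

end Groth.Agent.S4194
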