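import Groth.Statements.S4198
import Groth.Agent.Lib.Helper7.AnBasic

set_option autoImplicit false
open CategoryTheory AlgebraicGeometry Topology TopologicalSpace
open An

namespace Groth.Agent.S4198

open Groth.Agent.Lib.Helper7

/-- Let f : X → Y be a morphism of finite type (here: quasi-compact, X and Y being locally of finite
type over ℂ). Then f is surjective if and only if the induced map on complex points X(ℂ) → Y(ℂ) is
surjective. (The finite-type hypothesis cannot be dropped.) -/
theorem result (X Y : Scheme.{0}) [X.Over An.SC] [LocallyOfFiniteType (X ↘ An.SC)]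
    [Y.Over An.SC] [LocallyOfFiniteType (Y ↘ An.SC)] (f : X ⟶ Y) [f.IsOver An.SC] [QuasiCompact f] :
    Function.Surjective f.base ↔ Function.Surjective (An.Pts.map f) := by
  have hf : LocallyOfFiniteType f := locallyOfFiniteType_of_isOver f
  constructor
  · intro hsurj y
    obtain ⟨x, hx⟩ := hsurj y.pt
    -- the fibre over y
    obtain ⟨z, -, -⟩ := Scheme.Pullback.exists_preimage_pullback (f := f) (g := y.1) x An.cpt hx
    have : JacobsonSpace ↥(Limits.pullback f y.1) :=
      LocallyOfFiniteType.jacobsonSpace (Limits.pullback.snd f y.1)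
    obtain ⟨w, -, hw⟩ := nonempty_inter_closedPoints (X := ↥(Limits.pullback f y.1))
      (Z := Set.univ) ⟨z, trivial⟩ isOpen_univ.isLocallyClosed
    let p : An.SC ⟶ Limits.pullback f y.1 := pointOfClosedPoint (Limits.pullback.snd f y.1) w hw
    have hp : p ≫ Limits.pullback.snd f y.1 = 𝟙 _ := pointOfClosedPoint_comp _ _ _
    have hxf : (p ≫ Limits.pullback.fst f y.1) ≫ f = y.1 := by
      rw [Category.assoc, Limits.pullback.condition, ← Category.assoc, hp, Category.id_comp]
    refine ⟨⟨p ≫ Limits.pullback.fst f y.1, ?_⟩, Subtype.ext hxf⟩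
    rw [← comp_over f, ← Category.assoc, hxf, y.2]
  · intro hsurj
    have : IsLocallyNoetherian Y := isLocallyNoetherian_of_lft Y
    have hfp : LocallyOfFinitePresentation f := inferInstance
    by_contra hns
    rw [← Set.range_eq_univ, ← ne_eq, Set.ne_univ_iff_exists_notMem] at hns
    have hlc : IsLocallyConstructible (Set.range f.base)ᶜ := by
      rw [← Set.image_univ]
      exact isLocallyConstructible_compl (f.isLocallyConstructible_image IsLocallyConstructible.univ)
    obtain ⟨y, hy⟩ := exists_pt_mem_of_isLocallyConstructible hlc hns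
    obtain ⟨x, rfl⟩ := hsurj y
    apply hy
    rw [An.Pts.pt_map]
    exact ⟨_, rfl⟩

end Groth.Agent.S4198
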