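import Groth.Statements.S4243
import Mathlib

set_option autoImplicit false
open SGA4h

namespace Groth.Agent.S4243

open MvPolynomial

theorem single_eq_of_degree_le {σ : Type*} [Fintype σ] [DecidableEq σ] (m : σ →₀ ℕ) (i : σ)
    (h : m.degree ≤ m i) : m = Finsupp.single i (m i) := by
  rw [Finsupp.degree_eq_sum] at h
  ext j
  by_cases hj : j = i
  · subst hj; simp
  · rw [Finsupp.single_apply, if_neg (Ne.symm hj)]
    have h1 : m i + m j ≤ ∑ l, m l := by
      have : ({i, j} : Finset σ) ⊆ Finset.univ := Finset.subset_univ _
      calc m i + m j = ∑ l ∈ ({i, j} : Finset σ), m l := by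
            rw [Finset.sum_pair (Ne.symm hj)]
        _ ≤ ∑ l, m l := Finset.sum_le_sum_of_subset this
    omega

/-- Let k be a finite field with q elements and P a nonzero homogeneous polynomial of degree d in r+1
variables over k. If P vanishes at every point of k^{r+1} (that is, the hypersurface P = 0 in
projective r-space passes through every rational point), then d ≥ q + 1. -/
theorem result (k : Type) [Field k] [Fintype k] (r d : ℕ)
    (P : MvPolynomial (Fin (r + 1)) k) (hP : P.IsHomogeneous d) (hP0 : P ≠ 0)
    (hvan : ∀ x : Fin (r + 1) → k, MvPolynomial.eval x P = 0) :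
    Fintype.card k + 1 ≤ d := by
  classical
  by_contra hd
  push Not at hd
  set q := Fintype.card k with hq
  have hq2 : 2 ≤ q := Fintype.one_lt_card
  have hdq : d ≤ q := by omega
  let c : Fin (r + 1) → k := fun i => coeff (Finsupp.single i q) P
  let P' : MvPolynomial (Fin (r + 1)) k := P - ∑ i, C (c i) * (X i ^ q - X i)
  have hcoeff : ∀ m, coeff m P' = coeff m P -
      ∑ j, c j * ((if Finsupp.single j q = m then 1 else 0) - (if Finsupp.single j 1 = m then 1 else 0)) := by
    intro m
    simp only [P', coeff_sub, coeff_sum, coeff_C_mul, coeff_X_pow, coeff_X]
  have hpow : ∀ a : k, a ^ q = a := fun a => by rw [hq]; exact FiniteField.pow_card a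
  have hev : ∀ x : Fin (r + 1) → k, eval x P' = 0 := by
    intro x
    simp only [P', map_sub, map_sum, map_mul, eval_C, map_pow, eval_X, hvan x, hpow,
      sub_self, mul_zero, Finset.sum_const_zero]
  have hsingle_ne : ∀ (i j : Fin (r + 1)) (a b : ℕ), a ≠ 0 → Finsupp.single j a = Finsupp.single i b → j = i := by
    intro i j a b ha h
    have := congrArg (fun f => f j) h
    simp only [Finsupp.single_eq_same] at this
    by_contra hne
    rw [Finsupp.single_apply, if_neg (Ne.symm hne)] at this
    exact ha this
  have hmem : P' ∈ restrictDegree (Fin (r + 1)) k (q - 1) := by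
    rw [mem_restrictDegree]
    intro m hm i
    by_contra hlt
    have hqm : q ≤ m i := by omega
    rw [mem_support_iff, hcoeff] at hm
    have h1 : ∀ j, Finsupp.single j 1 ≠ m := by
      intro j hj
      have := congrArg (fun f => f i) hj
      simp only [Finsupp.single_apply] at this
      split_ifs at this <;> omega
    by_cases hmi : m = Finsupp.single i q
    · apply hm
      have h2 : ∀ j, (Finsupp.single j q = m) ↔ j = i := by
        intro j
        rw [hmi]
        constructor
        · exact hsingle_ne i j q q (by omega)
        · rintro rfl; rfl
      simp only [h2, h1, if_false, sub_zero, mul_ite, mul_one, mul_zero, Finset.sum_ite_eq',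
        Finset.mem_univ, if_true]
      rw [hmi]
      exact sub_self _
    · have h2 : ∀ j, Finsupp.single j q ≠ m := by
        intro j hj
        have hji : j = i := by
          by_contra hne
          have := congrArg (fun f => f i) hj
          simp only [Finsupp.single_apply, if_neg hne] at this
          omega
        subst hji
        have := congrArg (fun f => f j) hj
        simp only [Finsupp.single_eq_same] at this
        apply hmi
        rw [← hj]
      simp only [h1, h2, if_false, sub_zero, mul_zero, Finset.sum_const_zero] at hm
      have hdeg : m.degree = d := by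
        by_contra hne
        exact hm (hP.coeff_eq_zero hne)
      have hle : m i ≤ m.degree := by
        rw [Finsupp.degree_eq_sum]
        exact Finset.single_le_sum (f := fun l => m l) (fun _ _ => Nat.zero_le _) (Finset.mem_univ i)
      have hmi' := single_eq_of_degree_le m i (by omega)
      apply hmi
      rw [hmi']
      congr 1
      omega
  have hP'0 : P' = 0 := eq_zero_of_eval_eq_zero _ _ P' hev hmem
  have hc0 : ∀ i, c i = 0 := by
    intro i
    by_cases hdq' : d = q
    · have h3 := hcoeff (Finsupp.single i 1)
      rw [hP'0, coeff_zero] at h3
      have h4 : coeff (Finsupp.single i 1) P = 0 := by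
        apply hP.coeff_eq_zero
        simp only [Finsupp.degree_single]
        omega
      have h5 : ∀ j, Finsupp.single j q ≠ Finsupp.single i 1 := by
        intro j hj
        have hji := hsingle_ne i j q 1 (by omega) hj
        subst hji
        have := congrArg (fun f => f j) hj
        simp only [Finsupp.single_eq_same] at this
        omega
      have h6 : ∀ j, (Finsupp.single j 1 = Finsupp.single i 1) ↔ j = i := by
        intro j
        constructor
        · exact hsingle_ne i j 1 1 one_ne_zero
        · rintro rfl; rfl
      simp only [h4, h5, h6, if_false, zero_sub] at h3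
      have h7 : ∑ j, c j * -(if j = i then (1 : k) else 0) = - c i := by
        simp [Finset.sum_ite_eq']
      rw [h7] at h3
      simpa using h3.symm
    · apply hP.coeff_eq_zero
      simp only [Finsupp.degree_single]
      exact fun h => hdq' h.symm
  apply hP0
  have : P = P' + ∑ i, C (c i) * (X i ^ q - X i) := by simp [P']
  rw [this, hP'0]
  simp [hc0]

end Groth.Agent.S4243
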