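import Groth.Statements.S4256
import Mathlib

set_option autoImplicit false
open scoped BigOperators
open SGA4h

namespace Groth.Agent.S4256

theorem addChar_sum {A M ι : Type*} [AddCommMonoid A] [CommMonoid M] (ψ : AddChar A M)
    (s : Finset ι) (f : ι → A) : ψ (∑ i ∈ s, f i) = ∏ i ∈ s, ψ (f i) := by
  classical
  induction s using Finset.induction_on with
  | empty => simp
  | insert a s ha ih => rw [Finset.sum_insert ha, Finset.prod_insert ha, AddChar.map_add_eq_mul, ih]

/-- Let k be a finite field, ψ a nontrivial additive character of k with values in a domain R, and n ≥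
1. Then the generalised Kloosterman sum with parameter 0, Σ ψ(x_1 + ⋯ + x_n) over all (x_1, …, x_n)
∈ k^n with x_1 ⋯ x_n = 0, equals (-1)^{n-1}. -/
theorem result (k : Type) [Field k] [Fintype k] [DecidableEq k] (R : Type) [CommRing R] [IsDomain R]
    (ψ : AddChar k R) (hψ : ψ ≠ 1) (n : ℕ) (hn : 1 ≤ n) :
    ∑ x ∈ (Finset.univ : Finset (Fin n → k)).filter (fun x => ∏ i, x i = 0), ψ (∑ i, x i) = (-1) ^ (n - 1) := by
  have hsum : ∑ t : k, ψ t = 0 := AddChar.sum_eq_zero_of_ne_one hψ
  have hsum' : ∑ t ∈ (Finset.univ : Finset k).erase 0, ψ t = -1 := by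
    have := Finset.add_sum_erase (Finset.univ : Finset k) (fun t => ψ t) (Finset.mem_univ 0)
    rw [hsum, AddChar.map_zero_eq_one] at this
    linear_combination this
  have hall : ∑ x : Fin n → k, ψ (∑ i, x i) = 0 := by
    have h1 : ∀ x : Fin n → k, ψ (∑ i, x i) = ∏ i, ψ (x i) := fun x => addChar_sum ψ _ _
    simp_rw [h1]
    rw [← Fintype.piFinset_univ, ← Finset.prod_univ_sum, hsum]
    exact Finset.prod_eq_zero (Finset.mem_univ ⟨0, hn⟩) rfl |>.trans rfl
  have hne : ∑ x ∈ (Finset.univ : Finset (Fin n → k)).filter (fun x => ¬ ∏ i, x i = 0), ψ (∑ i, x i) =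
      (-1) ^ n := by
    have h1 : ∀ x : Fin n → k, ψ (∑ i, x i) = ∏ i, ψ (x i) := fun x => addChar_sum ψ _ _
    simp_rw [h1]
    have hf : (Finset.univ : Finset (Fin n → k)).filter (fun x => ¬ ∏ i, x i = 0) =
        Fintype.piFinset (fun _ : Fin n => (Finset.univ : Finset k).erase 0) := by
      ext x
      simp [Finset.prod_eq_zero_iff, Fintype.mem_piFinset]
    rw [hf, ← Finset.prod_univ_sum, hsum']
    simp
  have := Finset.sum_filter_add_sum_filter_not (Finset.univ : Finset (Fin n → k))
    (fun x => ∏ i, x i = 0) (fun x => ψ (∑ i, x i))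
  rw [hall, hne] at this
  obtain ⟨m, rfl⟩ : ∃ m, n = m + 1 := ⟨n - 1, by omega⟩
  simp only [Nat.add_sub_cancel]
  rw [pow_succ] at this
  linear_combination this

end Groth.Agent.S4256
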