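-- Statement S5618.
import Groth.Statements.S5618
import Mathlib
import Groth.Agent.Lib.Helper1.PCohInf

set_option autoImplicit false
universe w v u
open CategoryTheory CategoryTheory.Limits
open PCoh

namespace Groth.Agent.S5618

open Groth.Agent.Lib.Helper1.PCohFT Groth.Agent.Lib.Helper1.PCohTri Groth.Agent.Lib.Helper1.PCohDev
  Groth.Agent.Lib.Helper1.PCohMore Groth.Agent.Lib.Helper1.PCohInf DerivedCategory

/-- Second assertion (punctual site): let C be an abelian category and C₀ a strictly full additive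
subcategory, quasi-stable under kernels of epimorphisms and quasi-liftable. If F ∈ D(C) is
pseudo-coherent and acyclic in degrees ≥ m, then F is isomorphic in D(C) to a strictly
pseudo-coherent complex E (all terms in C₀) with E^i = 0 for i ≥ m. -/
theorem result {C : Type u} [Category.{v} C] [Abelian C] [HasDerivedCategory.{w} C]
    (P : ObjectProperty C) [P.IsClosedUnderIsomorphisms] [P.ContainsZero] (hsum : ∀ X Y : C, P X → P Y → P (X ⨯ Y))
    (hqs : PCoh.IsQuasiStableUnderKernels P) (hql : PCoh.IsQuasiLiftable P)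
    (m : ℤ) (F : DerivedCategory C) (hF : PCoh.IsPC P F)
    (hac : ∀ i : ℤ, m ≤ i → IsZero ((DerivedCategory.homologyFunctor C i).obj F)) :
    ∃ E : CochainComplex C ℤ, (∀ i : ℤ, P (E.X i)) ∧ (∀ i : ℤ, m ≤ i → IsZero (E.X i)) ∧
      Nonempty (DerivedCategory.Q.obj E ≅ F) := by
  let E := Q.objPreimage F
  let e : Q.obj E ≅ F := Q.objObjPreimageIso F
  have hPC : ∀ n, NPC P n (Q.obj E) := fun n => NPC.of_iso e.symm (hF n)
  have hm : ∀ j, m ≤ j → E.ExactAt j := fun j hj =>
    exactAt_of_isZero_homologyFunctor e j (hac j hj)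
  obtain ⟨G, w, hw, hGP, hG0⟩ := exists_strictPCAll hsum hqs hql hPC hm
  have hiso : IsIso (Q.map w) := (isIso_Q_map_iff_quasiIso (φ := w)).2 hw
  exact ⟨G, hGP, hG0, ⟨asIso (Q.map w) ≪≫ e⟩⟩

end Groth.Agent.S5618
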