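-- Statement S4296.
import Groth.Statements.S4296
import Mathlib
import Groth.Agent.Lib.Helper1.PCohInf

set_option autoImplicit false
universe w v u
open CategoryTheory CategoryTheory.Limits
open PCoh

namespace Groth.Agent.S4296

open Groth.Agent.Lib.Helper1.PCohFT Groth.Agent.Lib.Helper1.PCohTri Groth.Agent.Lib.Helper1.PCohDev
  Groth.Agent.Lib.Helper1.PCohMore Groth.Agent.Lib.Helper1.PCohInf DerivedCategory

/-- Punctual site: fullness of K⁻(C₀)/(acyclic complexes) ⟶ D(C): let C be an abelian category and C₀ a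
strictly full additive subcategory, quasi-stable under kernels of epimorphisms and quasi-liftable.
For bounded above complexes E, E' with terms in C₀ and any morphism α : E ⟶ E' in D(C), there are a
bounded above complex E'' with terms in C₀, a quasi-isomorphism s : E'' ⟶ E and a chain map f : E''
⟶ E' with s ≫ α = f in D(C). -/
theorem result {C : Type u} [Category.{v} C] [Abelian C] [HasDerivedCategory.{w} C]
    (P : ObjectProperty C) [P.IsClosedUnderIsomorphisms] [P.ContainsZero] (hsum : ∀ X Y : C, P X → P Y → P (X ⨯ Y))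
    (hqs : PCoh.IsQuasiStableUnderKernels P) (hql : PCoh.IsQuasiLiftable P)
    (E E' : CochainComplex C ℤ) (hE : PCoh.IsStrictPCAll P E) (hE' : PCoh.IsStrictPCAll P E')
    (α : DerivedCategory.Q.obj E ⟶ DerivedCategory.Q.obj E') :
    ∃ (E'' : CochainComplex C ℤ) (s : E'' ⟶ E) (f : E'' ⟶ E'), PCoh.IsStrictPCAll P E'' ∧ QuasiIso s ∧
      DerivedCategory.Q.map s ≫ α = DerivedCategory.Q.map f := by
  obtain ⟨E₁, s₁, hs₁, f₁, hα⟩ := DerivedCategory.right_fac α
  have hq : QuasiIso s₁ := (isIso_Q_map_iff_quasiIso (φ := s₁)).1 hs₁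
  obtain ⟨G, t, ht, hG⟩ := exists_resolution_of_quasiIso hsum hqs hql s₁ hE
  refine ⟨G, t ≫ s₁, t ≫ f₁, hG, inferInstance, ?_⟩
  rw [hα, Functor.map_comp, Functor.map_comp, Category.assoc, IsIso.hom_inv_id_assoc]

end Groth.Agent.S4296
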