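-- Statement S4297.
import Groth.Statements.S4297
import Mathlib
import Groth.Agent.Lib.Helper1.PCohInf

set_option autoImplicit false
universe w v u
open CategoryTheory CategoryTheory.Limits
open PCoh

namespace Groth.Agent.S4297

open Groth.Agent.Lib.Helper1.PCohFT Groth.Agent.Lib.Helper1.PCohTri Groth.Agent.Lib.Helper1.PCohDev
  Groth.Agent.Lib.Helper1.PCohMore Groth.Agent.Lib.Helper1.PCohInf DerivedCategory

/-- Punctual site: faithfulness of K⁻(C₀)/(acyclic complexes) ⟶ D(C): let C be an abelian category and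
C₀ a strictly full additive subcategory, quasi-stable under kernels of epimorphisms and
quasi-liftable. If two chain maps f, g : E ⟶ E' between bounded above complexes with terms in C₀
have the same image in D(C), then there are a bounded above complex E'' with terms in C₀ and a
quasi-isomorphism s : E'' ⟶ E such that s ≫ f and s ≫ g are homotopic. -/
theorem result {C : Type u} [Category.{v} C] [Abelian C] [HasDerivedCategory.{w} C]
    (P : ObjectProperty C) [P.IsClosedUnderIsomorphisms] [P.ContainsZero] (hsum : ∀ X Y : C, P X → P Y → P (X ⨯ Y))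
    (hqs : PCoh.IsQuasiStableUnderKernels P) (hql : PCoh.IsQuasiLiftable P)
    (E E' : CochainComplex C ℤ) (hE : PCoh.IsStrictPCAll P E) (hE' : PCoh.IsStrictPCAll P E')
    (f g : E ⟶ E') (hfg : DerivedCategory.Q.map f = DerivedCategory.Q.map g) :
    ∃ (E'' : CochainComplex C ℤ) (s : E'' ⟶ E), PCoh.IsStrictPCAll P E'' ∧ QuasiIso s ∧ Nonempty (Homotopy (s ≫ f) (s ≫ g)) := by
  have h1 : Qh.map ((HomotopyCategory.quotient C (ComplexShape.up ℤ)).map f) =
      Qh.map ((HomotopyCategory.quotient C (ComplexShape.up ℤ)).map g) := hfg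
  rw [MorphismProperty.map_eq_iff_precomp Qh (HomotopyCategory.quasiIso C (ComplexShape.up ℤ))] at h1
  obtain ⟨X', s, hs, hsfg⟩ := h1
  obtain ⟨E₁, rfl⟩ := HomotopyCategory.quotient_obj_surjective X'
  obtain ⟨s₁, rfl⟩ := (HomotopyCategory.quotient _ _).map_surjective s
  rw [HomotopyCategory.quotient_map_mem_quasiIso_iff] at hs
  have hs' : QuasiIso s₁ := hs
  rw [← Functor.map_comp, ← Functor.map_comp] at hsfg
  have hH : Homotopy (s₁ ≫ f) (s₁ ≫ g) := HomotopyCategory.homotopyOfEq _ _ hsfg
  obtain ⟨G, t, ht, hG⟩ := exists_resolution_of_quasiIso hsum hqs hql s₁ hE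
  refine ⟨G, t ≫ s₁, hG, inferInstance, ⟨?_⟩⟩
  have := hH.compLeft t
  simpa only [Category.assoc] using this

end Groth.Agent.S4297
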