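import Groth.Statements.S4333
import Groth.Agent.S14623
import Groth.Prelude.Def_EtDl
import Groth.Agent.Lib.Helper13.FlatPullback
import Mathlib.Algebra.Category.ModuleCat.FilteredColimits
-- import your own Groth.Agent.* helpers here

set_option autoImplicit false
universe u
open CategoryTheory CategoryTheory.Limits AlgebraicGeometry Opposite
attribute [local instance] HasDerivedCategory.standard
open EtSix

namespace Groth.Agent.S4333

open Groth.Agent.Lib.Helper13.FlatPullback in
instance lan_bc_preservesFiniteLimits_mod (Λ : Type (u + 1)) [CommRing Λ] {X Y : Scheme.{u}}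
    (f : X ⟶ Y) :
    PreservesFiniteLimits ((EtCoh.bc f).op.lan :
      (Y.Etaleᵒᵖ ⥤ ModuleCat.{u + 1} Λ) ⥤ X.Etaleᵒᵖ ⥤ ModuleCat.{u + 1} Λ) :=
  lan_preservesFiniteLimits_of_flat' (ModuleCat.{u + 1} Λ) (EtCoh.bc f) (fun _ _ => by
    have : PreservesFilteredColimitsOfSize.{u, u + 1} (forget (ModuleCat.{u + 1} Λ)) :=
      preservesFilteredColimitsOfSize_of_univLE.{u + 1, u + 1, u, u + 1} _
    infer_instance)

/-- Inverse image of etale sheaves of modules is left exact. -/
instance pull_preservesFiniteLimits_mod (Λ : Type (u + 1)) [CommRing Λ] {X Y : Scheme.{u}}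
    (f : X ⟶ Y) : PreservesFiniteLimits (EtModW.pull Λ f) :=
  Functor.sheafPullbackConstruction.preservesFiniteLimits (EtCoh.bc f) (ModuleCat.{u + 1} Λ)
    Y.smallEtaleTopology X.smallEtaleTopology


/-- Derived functors of adjoint functors are adjoint: for the inverse and direct image of sheaves of
Λ-modules along a morphism of schemes g : Y' -> Y, on bounded-below derived categories: there is an
adjunction R⁺g^* ⊣ R⁺g_* between the bounded-below right derived functors of g^* and of g_*
(computed with injective resolutions). This is the bounded-below variant of the published statement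
Lg^* ⊣ Rg_* on unbounded derived categories, with the bounded-below right derived functor of the
exact functor g^* (the functor g^* induces on D⁺) standing in for Lg^*. -/
theorem result (Λ : Type (u + 1)) [CommRing Λ] {Y Y' : Scheme.{u}} (g : Y' ⟶ Y) :
    Nonempty ((EtModW.pull Λ g).rightDerivedFunctorPlus ⊣ (EtModW.push Λ g).rightDerivedFunctorPlus) := by
  haveI : PreservesColimitsOfSize.{0, 0} (EtModW.pull Λ g) :=
    (EtDl.pullPushModAdj Λ g).leftAdjoint_preservesColimits
  haveI : PreservesFiniteColimits (EtModW.pull Λ g) :=
    PreservesColimitsOfSize.preservesFiniteColimits.{0, 0} (EtModW.pull Λ g)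
  exact Groth.Agent.S14623.result (EtDl.pullPushModAdj Λ g)

end Groth.Agent.S4333
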