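import Groth.Statements.S4337
import Groth.Agent.Lib.Helper7.LinTopLib

set_option autoImplicit false
universe u
open LinTop

namespace Groth.Agent.S4337

open scoped TensorProduct

/-- Let A be an admissible ring, J an ideal of definition, and u : M -> N a homomorphism of A-modules
with N of finite type. Then u is surjective if and only if u tensored with A/J is surjective. -/
theorem result
    (A : Type u) [CommRing A] [UniformSpace A] [IsUniformAddGroup A] [IsTopologicalRing A]
    (hA : LinTop.IsAdmissible A) (J : Ideal A) (hJ : LinTop.IsIdealOfDefinition A J)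
    (M N : Type u) [AddCommGroup M] [Module A M] [AddCommGroup N] [Module A N] [Module.Finite A N]
    (u : M →ₗ[A] N) :
    Function.Surjective u ↔ Function.Surjective (u.rTensor (A ⧸ J)) := by
  constructor
  · intro h
    exact LinearMap.rTensor_surjective _ h
  · intro h
    rw [← LinearMap.range_eq_top, eq_top_iff]
    refine Submodule.le_of_le_smul_of_le_jacobson_bot Module.Finite.fg_top
      (Groth.Agent.Lib.Helper7.le_jacobson_bot hA hJ) ?_
    intro n _
    let e := TensorProduct.tensorQuotEquivQuotSMul N J
    have key : ∀ t : M ⊗[A] (A ⧸ J), e (u.rTensor (A ⧸ J) t) ∈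
        (LinearMap.range u).map (Submodule.mkQ (J • ⊤ : Submodule A N)) := by
      intro t
      induction t using TensorProduct.induction_on with
      | zero => simp
      | tmul m a =>
        obtain ⟨a, rfl⟩ := Ideal.Quotient.mk_surjective a
        refine ⟨u (a • m), ⟨_, rfl⟩, ?_⟩
        simp [e, TensorProduct.tensorQuotEquivQuotSMul_tmul_mk]
      | add x y hx hy =>
        rw [map_add, map_add]
        exact Submodule.add_mem _ hx hy
    obtain ⟨t, ht⟩ := h (n ⊗ₜ 1)
    have h2 := key t
    rw [ht] at h2
    obtain ⟨_, ⟨m', rfl⟩, hm'⟩ := h2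
    have h3 : e (n ⊗ₜ[A] (1 : A ⧸ J)) = Submodule.Quotient.mk n := by
      have := TensorProduct.tensorQuotEquivQuotSMul_tmul_mk (M := N) J n 1
      simpa using this
    rw [h3] at hm'
    have h4 : u m' - n ∈ (J • ⊤ : Submodule A N) := by
      rw [← Submodule.Quotient.eq]
      exact hm'
    rw [Submodule.mem_sup]
    refine ⟨u m', ⟨m', rfl⟩, n - u m', ?_, by abel⟩
    have := Submodule.neg_mem _ h4
    simpa using this

end Groth.Agent.S4337
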