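import Groth.Statements.S4341
import Groth.Agent.Lib.Helper3.QCSec

set_option autoImplicit false
universe u
open QCohSup

namespace Groth.Agent.S4341

open CategoryTheory CategoryTheory.Limits AlgebraicGeometry TopologicalSpace Opposite
open Groth.Agent.Lib.Helper3

open AlgebraicGeometry in
open CategoryTheory in
open Opposite in
/-- Case of the trivial invertible sheaf. Let X be a quasi-compact quasi-separated scheme, f a global
section of O_X, F a quasi-coherent O_X-module and t a section of F over X_f. Then there is an n > 0
such that f^n t is the restriction of a global section of F. (The published statement assumes X with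
Noetherian underlying space, or separated and quasi-compact; both are quasi-compact quasi-separated,
which is what the argument uses: a finite affine cover with quasi-compact pairwise intersections.) -/
theorem result
    (X : Scheme.{u}) [CompactSpace X] [QuasiSeparatedSpace X] (f : Γ(X, ⊤))
    (F : X.Modules) [Coh.IsQCoh F] (t : F.val.obj (op (X.basicOpen f))) :
    ∃ n : ℕ, 0 < n ∧ ∃ s : F.val.obj (op ⊤),
      (F.val.map (homOfLE (le_top : X.basicOpen f ≤ ⊤)).op).hom s =
        (show X.ringCatSheaf.obj.obj (op (X.basicOpen f)) from
          X.presheaf.map (homOfLE (le_top : X.basicOpen f ≤ ⊤)).op f) ^ n • t := by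
  have hV : IsCompact ((⊤ : X.Opens) : Set X) := by
    rw [Opens.coe_top]; exact isCompact_univ
  have hqs : IsQuasiSeparated ((⊤ : X.Opens) : Set X) := by
    rw [Opens.coe_top]; exact isQuasiSeparated_univ
  obtain ⟨n, s, hs⟩ := (QCSec.isLocSec_of_isCompact F hV hqs f rfl le_top).surj t
  refine ⟨n + 1, Nat.succ_pos n, (f • (show Γ(F, ⊤) from s) : Γ(F, ⊤)), ?_⟩
  have h2 : QCSec.res F (le_top : X.basicOpen f ≤ ⊤) (f • (show Γ(F, ⊤) from s)) =
      (QCSec.rres X (le_top : X.basicOpen f ≤ ⊤) f) ^ (n + 1) • (show Γ(F, X.basicOpen f) from t) := by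
    rw [QCSec.res_smul, hs, pow_succ', mul_smul]
  exact h2

end Groth.Agent.S4341
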