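import Groth.Statements.S4342
import Groth.Agent.Lib.Helper3.QCExtendNoeth

set_option autoImplicit false
universe u
open QCohSup

namespace Groth.Agent.S4342

open Groth.Agent.Lib.Helper3 Groth.Agent.Lib.Helper3.QCSec

open AlgebraicGeometry in
open CategoryTheory in
open Opposite in

open AlgebraicGeometry in
open CategoryTheory in
open Opposite in
/-- In the sectionwise form its proof gives. Let X be a scheme whose underlying space is locally
Noetherian and F a quasi-coherent O_X-module. For every affine open U and every section s of F over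
U there is a quasi-coherent sub-O_X-module of finite type of F having s among its sections over U;
hence F is the inductive limit of its quasi-coherent submodules of finite type. -/
theorem result
    {X : Scheme.{u}}
    (hX : ∀ x : X, ∃ U : X.Opens, x ∈ U ∧ TopologicalSpace.NoetherianSpace (U : Set X))
    (F : X.Modules) [Coh.IsQCoh F]
    (U : X.affineOpens) (s : F.val.obj (op (U : X.Opens))) :
    ∃ (G' : X.Modules) (i' : G' ⟶ F), Mono i' ∧ Coh.IsQCoh G' ∧ CohB1.IsFT G' ∧
      ∃ g : G'.val.obj (op (U : X.Opens)), (i'.val.app (op (U : X.Opens))).hom g = s := by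
  haveI : F.IsQuasicoherent := ‹Coh.IsQCoh F›
  have hV : IsAffineOpen (U : X.Opens) := U.2
  obtain ⟨V, hV'⟩ := U
  change IsAffineOpen V at hV
  change Γ(F, V) at s
  let s' : PUnit.{u+1} → Γ(F, V) := fun _ => s
  let σ := QCExtend.sigmaMap F V s'
  haveI : (QCExtend.freeMod (V : Scheme.{u}) PUnit.{u+1}).IsQuasicoherent :=
    QCExtend.isQuasicoherent_freeMod _ _
  haveI : (QCExtend.freeMod (V : Scheme.{u}) PUnit.{u+1}).IsFiniteType :=
    QCExtend.isFiniteType_freeMod _ _
  haveI : (F.restrict V.ι).IsQuasicoherent := Scheme.Modules.isQuasicoherent_restrictFunctor V.ι F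
  haveI hF'q : (Limits.cokernel σ).IsQuasicoherent := QCProps.isQuasicoherent_cokernel σ
  haveI hF'q : (Abelian.image σ).IsQuasicoherent := QCLim.isQuasicoherent_image σ
  have hF'ft : (Abelian.image σ).IsFiniteType :=
    QCProps.isFiniteType_of_epi (Abelian.factorThruImage σ)
  obtain ⟨G, i, e, hi, hGq, hGft, heq⟩ := QCExtendNoeth.exists_finiteType_extension hX V F
    (Abelian.image σ) hF'ft (Abelian.image.ι σ)
  refine ⟨G, i, hi, hGq, hGft, ?_⟩
  let e₀ : Γ(QCExtend.freeMod (V : Scheme.{u}) PUnit.{u+1}, ⊤) :=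
    (SheafOfModules.freeSection PUnit.unit).val (op ⊤)
  let f₀ : Γ(Abelian.image σ, ⊤) := (Abelian.factorThruImage σ).app ⊤ e₀
  let g₀ : Γ(G, V.ι ''ᵁ ⊤) := e.inv.app ⊤ f₀
  have hle : V ≤ V.ι ''ᵁ ⊤ := le_of_eq V.ι_image_top.symm
  have h1 : σ.app ⊤ e₀ = res F (V.ι_image_le ⊤) s :=
    QCExtend.sigmaMap_app_freeSection F V s' PUnit.unit ⊤
  have h2 : (Abelian.image.ι σ).app ⊤ f₀ = σ.app ⊤ e₀ :=
    congrArg (fun φ => φ.app ⊤ e₀) (Abelian.image.fac σ)
  have h3 : (Abelian.image.ι σ) = e.inv ≫ (Scheme.Modules.restrictFunctor V.ι).map i := by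
    rw [← heq, Iso.inv_hom_id_assoc]
  have h4 : i.app (V.ι ''ᵁ ⊤) g₀ = res F (V.ι_image_le ⊤) s := by
    rw [← h1, ← h2, h3]; rfl
  refine ⟨res G hle g₀, ?_⟩
  have h5 : i.app V (res G hle g₀) = res F hle (i.app (V.ι ''ᵁ ⊤) g₀) :=
    QCExact.app_res' i hle g₀
  have h6 : res F hle (res F (V.ι_image_le ⊤) s) = s := QCTilde.mod_res_res_self F _ _ s
  exact (h5.trans (by rw [h4])).trans h6

end Groth.Agent.S4342
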