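import Groth.Statements.S4346
import Mathlib.AlgebraicGeometry.Morphisms.Separated
import Mathlib.AlgebraicGeometry.Stalk

set_option autoImplicit false
universe u
open SchLoc

namespace Groth.Agent.S4346

open AlgebraicGeometry CategoryTheory in
theorem specializes_of_range_le (X : Scheme.{u}) [IsIntegral X] [X.IsSeparated] (x y : X)
    (h : (algebraMap (X.presheaf.stalk y) X.functionField).range ≤
      (algebraMap (X.presheaf.stalk x) X.functionField).range) : x ⤳ y := by
  have hinjx : Function.Injective (algebraMap (X.presheaf.stalk x) X.functionField) :=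
    IsFractionRing.injective _ _
  let sx : X.presheaf.stalk x ⟶ X.presheaf.stalk (genericPoint X) :=
    X.presheaf.stalkSpecializes ((genericPoint_spec X).specializes trivial)
  let sy : X.presheaf.stalk y ⟶ X.presheaf.stalk (genericPoint X) :=
    X.presheaf.stalkSpecializes ((genericPoint_spec X).specializes trivial)
  have hinjx' : Function.Injective sx.hom := hinjx
  have h' : sy.hom.range ≤ sx.hom.range := h
  let ex : X.presheaf.stalk x ≃+* sx.hom.range :=
    RingEquiv.ofBijective sx.hom.rangeRestrict
      ⟨fun a b hab => hinjx' (congrArg Subtype.val hab), RingHom.rangeRestrict_surjective _⟩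
  let φ : X.presheaf.stalk y ⟶ X.presheaf.stalk x :=
    CommRingCat.ofHom (ex.symm.toRingHom.comp ((Subring.inclusion h').comp sy.hom.rangeRestrict))
  have hφ : φ ≫ sx = sy := by
    ext b
    have : ((ex (φ.hom b)) : X.presheaf.stalk (genericPoint X)) = sy.hom b := by
      change ((ex (ex.symm _)) : X.presheaf.stalk (genericPoint X)) = sy.hom b
      rw [RingEquiv.apply_symm_apply]
      rfl
    exact this
  have hdom : IsDominant (Spec.map sx) := by
    refine ⟨?_⟩
    refine (PrimeSpectrum.denseRange_comap_iff_ker_le_nilRadical (f := sx.hom)).mpr ?_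
    rw [(RingHom.injective_iff_ker_eq_bot _).mp hinjx']
    exact bot_le
  have hx' : Spec.map sx ≫ X.fromSpecStalk x = X.fromSpecStalk (genericPoint X) :=
    Scheme.SpecMap_stalkSpecializes_fromSpecStalk _
  have hy' : Spec.map sy ≫ X.fromSpecStalk y = X.fromSpecStalk (genericPoint X) :=
    Scheme.SpecMap_stalkSpecializes_fromSpecStalk _
  have hab : X.fromSpecStalk x = Spec.map φ ≫ X.fromSpecStalk y := by
    refine ext_of_isDominant (Spec.map sx) ?_
    rw [hx', ← Category.assoc, ← Spec.map_comp, hφ, hy']
  have h1 : x ∈ Set.range (X.fromSpecStalk y) := by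
    refine ⟨Spec.map φ (IsLocalRing.closedPoint _), ?_⟩
    rw [← Scheme.Hom.comp_apply, ← hab, Scheme.fromSpecStalk_closedPoint]
  rw [Scheme.range_fromSpecStalk] at h1
  exact h1

open AlgebraicGeometry in
/-- On an integral separated scheme distinct points have distinct local rings inside the function field. -/
theorem result (X : Scheme.{u}) [IsIntegral X] [X.IsSeparated] :
    Function.Injective (fun x : X ↦ (algebraMap (X.presheaf.stalk x) X.functionField).range) := by
  intro x y hxy
  exact ((specializes_of_range_le X x y hxy.ge).antisymm (specializes_of_range_le X y x hxy.le)).eq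

end Groth.Agent.S4346
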