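import Groth.Statements.S4349
import Mathlib.Algebra.Category.Ring.FilteredColimits
import Mathlib.CategoryTheory.Limits.ConcreteCategory.Basic

set_option autoImplicit false
universe u
open RatFun

namespace Groth.Agent.S4349

open AlgebraicGeometry CategoryTheory TopologicalSpace Limits Opposite

instance isCofiltered_denseOpens (X : Scheme.{u}) :
    IsCofiltered (RatFun.IsDenseOpen X).FullSubcategory where
  cone_objs U W := ⟨⟨U.obj ⊓ W.obj,
      (show Dense (U.obj : Set X) from U.property).inter_of_isOpen_left W.property U.obj.2⟩,
      ObjectProperty.homMk (homOfLE inf_le_left), ObjectProperty.homMk (homOfLE inf_le_right),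
      trivial⟩
  cone_maps U W f g := ⟨U, 𝟙 U, by ext; exact Subsingleton.elim _ _⟩
  nonempty := ⟨⟨⊤, by simp [RatFun.IsDenseOpen]⟩⟩

open AlgebraicGeometry in
/-- Second assertion (in the form: sections over a dense open inject into the ring of rational
functions). Let X be a reduced scheme and V a dense open subset of X. The canonical map from the
sections of O_X over V to the ring R(X) of rational functions on X is injective. (The published
statement also assumes X locally integral or locally Noetherian; that hypothesis serves the
quasi-coherence of the sheaf of rational functions and is not needed here.) -/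
theorem result (X : Scheme.{u}) [IsReduced X]
    (V : X.Opens) (hV : Dense (V : Set X)) :
    Function.Injective (RatFun.toRing X V hV) := by
  rw [injective_iff_map_eq_zero]
  intro s hs
  have h0 : (colimit.ι (RatFun.sectionsOnDense X) (op ⟨V, hV⟩)) s =
      (colimit.ι (RatFun.sectionsOnDense X) (op ⟨V, hV⟩)) 0 := by
    rw [map_zero]; exact hs
  obtain ⟨k, f, g, hfg⟩ := Concrete.colimit_exists_of_rep_eq (RatFun.sectionsOnDense X) _ _ h0
  rw [map_zero] at hfg
  have hW : Dense (k.unop.obj : Set X) := k.unop.property
  have hle : k.unop.obj ≤ V := f.unop.hom.le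
  have hres : X.presheaf.map (homOfLE hle).op s = 0 := hfg
  apply eq_zero_of_basicOpen_eq_bot (X := X)
  have h1 : X.basicOpen (X.presheaf.map (homOfLE hle).op s) = k.unop.obj ⊓ X.basicOpen s :=
    Scheme.basicOpen_res _ _ _
  rw [hres, Scheme.basicOpen_zero] at h1
  by_contra hne
  obtain ⟨x, hx⟩ := (Opens.ne_bot_iff_nonempty _).mp hne
  obtain ⟨y, hy1, hy2⟩ := hW.inter_open_nonempty _ (X.basicOpen s).2 ⟨x, hx⟩
  have : y ∈ (k.unop.obj ⊓ X.basicOpen s : X.Opens) := ⟨hy2, hy1⟩
  rw [← h1] at this
  exact this.elim

end Groth.Agent.S4349
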