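import Groth.Statements.S4350
import Mathlib
import Groth.Agent.Lib.Helper17.AffGlue
import Groth.Agent.Lib.Helper17.PbFlat
import Groth.Agent.Lib.Helper3.QCPush
import Groth.Agent.Lib.Helper3.AssPoints

set_option autoImplicit false
universe u
open TorSh

namespace Groth.Agent.S4350

open AlgebraicGeometry CategoryTheory TopologicalSpace Opposite in
theorem eq_zero_of_germ_generic (X : Scheme.{u}) [IsIntegral X] (F : X.Modules)
    [F.IsQuasicoherent] (hF : TorSh.IsTorsionFree F) {V : X.Opens} (hV : IsAffineOpen V)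
    (hη : genericPoint X ∈ V) (m : Γ(F, V))
    (hm : F.presheaf.germ V (genericPoint X) hη m = 0) : m = 0 := by
  have h0 : F.presheaf.germ V (genericPoint X) hη (0 : Γ(F, V)) = 0 := map_zero _
  rw [← h0] at hm
  obtain ⟨W, hηW, i1, i2, hW⟩ := F.presheaf.germ_eq (genericPoint X) hη hη _ _ hm
  rw [map_zero] at hW
  obtain ⟨g, hgW, hηg⟩ := hV.exists_basicOpen_le (V := W) ⟨genericPoint X, hηW⟩ hη
  have hDW : hV.fromSpec ''ᵁ (PrimeSpectrum.basicOpen g) ≤ W :=
    (hV.fromSpec_image_basicOpen g).le.trans hgW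
  have hres : F.presheaf.map (homOfLE (Groth.Agent.Lib.Helper3.QS.image_le hV
      (PrimeSpectrum.basicOpen g))).op m = 0 := by
    have e : F.presheaf.map (homOfLE (Groth.Agent.Lib.Helper3.QS.image_le hV
        (PrimeSpectrum.basicOpen g))).op m =
        F.presheaf.map (homOfLE hDW).op (F.presheaf.map i1.op m) := by
      rw [← ConcreteCategory.comp_apply, ← Functor.map_comp]
      rfl
    rw [e, hW, map_zero]
  obtain ⟨k, hk⟩ := Groth.Agent.Lib.Helper3.QS.exists_pow_smul_eq_zero hV F g m hres
  have hg0 : g ≠ 0 := by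
    intro h
    rw [h, Scheme.basicOpen_zero] at hηg
    exact hηg
  refine Groth.Agent.Lib.Helper3.QS.eq_zero_of_subsingleton_stalk F V m ?_
  intro x hx
  have hgne : X.presheaf.germ V x hx (g ^ k) ≠ 0 := by
    rw [map_pow]
    apply pow_ne_zero
    intro h
    exact hg0 (germ_injective_of_isIntegral X x hx (h.trans (map_zero _).symm))
  have hreg := isRegular_of_ne_zero hgne
  have hsm := (hF x).isSMulRegular hreg
  apply hsm.right_eq_zero_of_smul
  rw [← Groth.Agent.Lib.Helper3.QS.germ_smul, hk, map_zero]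

open AlgebraicGeometry in
open CategoryTheory in
/-- Direct assertion (the sheaf of rational functions of the integral scheme X being the direct image of
the structure sheaf of Spec of the function field under its canonical morphism to X). On an integral
scheme, a quasi-coherent torsion-free O_X-module of rank 1, i.e. whose stalk at the generic point is
one-dimensional over the function field (for instance an invertible module), is isomorphic to a
sub-O_X-module of the sheaf of rational functions. (The published statement adds a converse, which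
for the zero submodule does not hold as stated; it is not included here.) -/
theorem result
    (X : Scheme.{u}) [IsIntegral X] (F : X.Modules) [Coh.IsQCoh F] (hF : TorSh.IsTorsionFree F)
    (h1 : Module.finrank (X.presheaf.stalk (genericPoint X)) (F.presheaf.stalk (genericPoint X)) = 1) :
    ∃ i : F ⟶ (Scheme.Modules.pushforward (X.fromSpecStalk (genericPoint X))).obj
        (Coh.structureModule (Spec (X.presheaf.stalk (genericPoint X)))), Mono i := by
  haveI : F.IsQuasicoherent := ‹Coh.IsQCoh F›
  have hfin : Module.Finite (X.presheaf.stalk (genericPoint X))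
      (F.presheaf.stalk (genericPoint X)) :=
    Module.finite_of_finrank_pos (by rw [h1]; exact one_pos)
  obtain ⟨e⟩ : Nonempty (F.presheaf.stalk (genericPoint X) ≃ₗ[X.presheaf.stalk (genericPoint X)]
      X.presheaf.stalk (genericPoint X)) :=
    FiniteDimensional.nonempty_linearEquiv_of_finrank_eq (by rw [h1, Module.finrank_self])
  -- the canonical maps `K → Γ(Spec K, j⁻¹ V)`
  let τ : ∀ V : X.Opens, (X.presheaf.stalk (genericPoint X)) →+*
      Γ(Spec (X.presheaf.stalk (genericPoint X)), (X.fromSpecStalk (genericPoint X)) ⁻¹ᵁ V) :=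
    fun V => ((Scheme.ΓSpecIso (X.presheaf.stalk (genericPoint X))).inv ≫
      (Spec (X.presheaf.stalk (genericPoint X))).presheaf.map (homOfLE le_top).op).hom
  have hτ : ∀ (V : X.Opens) (hV : genericPoint X ∈ V) (a : Γ(X, V)),
      (X.fromSpecStalk (genericPoint X)).app V a = τ V (X.presheaf.germ V (genericPoint X) hV a) := by
    intro V hV a
    have h := Scheme.fromSpecStalk_app (X := X) (x := genericPoint X) hV
    exact congrArg (fun w => w.hom a) h
  have hτres : ∀ (V V' : X.Opens) (h : V' ≤ V) (z : X.presheaf.stalk (genericPoint X)),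
      (Spec (X.presheaf.stalk (genericPoint X))).presheaf.map
        (homOfLE (show (X.fromSpecStalk (genericPoint X)) ⁻¹ᵁ V' ≤
          (X.fromSpecStalk (genericPoint X)) ⁻¹ᵁ V from fun y hy => h hy)).op (τ V z) = τ V' z := by
    intro V V' h z
    change ((Spec (X.presheaf.stalk (genericPoint X))).presheaf.map _).hom
      (((Spec (X.presheaf.stalk (genericPoint X))).presheaf.map _).hom _) =
      ((Spec (X.presheaf.stalk (genericPoint X))).presheaf.map _).hom _
    rw [← CommRingCat.comp_apply, ← Functor.map_comp]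
    rfl
  let W : {V : X.Opens // IsAffineOpen V ∧ genericPoint X ∈ V} → X.Opens := fun i => i.1
  have hW : ∀ i, IsAffineOpen (W i) := fun i => i.2.1
  have hmemη : ∀ (V : X.Opens) (x : X), x ∈ V → genericPoint X ∈ V := by
    intro V x hx
    exact ((genericPoint_spec X).mem_open_set_iff V.2).2 ⟨x, trivial, hx⟩
  have hcov : ∀ x : X, ∃ i, x ∈ W i := by
    intro x
    obtain ⟨V, hV, hxV⟩ := Groth.Agent.Lib.Helper3.QCProps.exists_affine_nbhd x
    exact ⟨⟨V, hV, hmemη V x hxV⟩, hxV⟩
  let r : {V : X.Opens // IsAffineOpen V ∧ genericPoint X ∈ V} →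
      {V : X.Opens // IsAffineOpen V ∧ genericPoint X ∈ V} → Prop := fun i k => k.1 ≤ i.1
  have hle : ∀ i k, r i k → W k ≤ W i := fun i k h => h
  have hinf : ∀ i j (x : X), x ∈ W i → x ∈ W j → ∃ k, x ∈ W k ∧ r i k ∧ r j k := by
    intro i j x hxi hxj
    obtain ⟨_, ⟨V, hV, rfl⟩, hxV, hVij⟩ := X.isBasis_affineOpens.exists_subset_of_mem_open
      (show x ∈ ((i.1 ⊓ j.1 : X.Opens) : Set X) from ⟨hxi, hxj⟩) (i.1 ⊓ j.1).2
    exact ⟨⟨V, hV, hmemη V x hxV⟩, hxV, fun y hy => (hVij hy).1, fun y hy => (hVij hy).2⟩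
  let G : X.Modules := (Scheme.Modules.pushforward (X.fromSpecStalk (genericPoint X))).obj
    (Coh.structureModule (Spec (X.presheaf.stalk (genericPoint X))))
  let ψ : ∀ i, Γ(F, W i) →ₗ[Γ(X, W i)] Γ(G, W i) := fun i =>
    { toFun := fun m => τ i.1 (e (F.presheaf.germ i.1 (genericPoint X) i.2.2 m))
      map_add' := fun a b => by
        rw [map_add, map_add, map_add]
        rfl
      map_smul' := fun a m => by
        rw [Groth.Agent.Lib.Helper3.QS.germ_smul, map_smul, smul_eq_mul, map_mul, ← hτ]
        rfl }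
  have compat : ∀ i k (h : r i k) (m : Γ(F, W i)),
      ψ k (F.presheaf.map (homOfLE (hle i k h)).op m) =
        G.presheaf.map (homOfLE (hle i k h)).op (ψ i m) := by
    intro i k h m
    change τ k.1 (e (F.presheaf.germ k.1 (genericPoint X) k.2.2 (F.presheaf.map _ m))) = _
    rw [TopCat.Presheaf.germ_res_apply]
    exact (hτres i.1 k.1 h _).symm
  obtain ⟨ι0, hι0⟩ := Groth.Agent.Lib.Helper17.AffGlue.exists_hom_of_charts F G W hW hcov r hle
    hinf ψ compat
  refine ⟨ι0, ?_⟩
  apply Groth.Agent.Lib.Helper17.PbFlat.mono_of_injective_on_basis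
  intro W' x hx
  obtain ⟨_, ⟨V, hV, rfl⟩, hxV, hVW⟩ := X.isBasis_affineOpens.exists_subset_of_mem_open hx W'.2
  refine ⟨V, hxV, hVW, ?_⟩
  have hηV : genericPoint X ∈ V := hmemη V x hxV
  refine (injective_iff_map_eq_zero (ι0.app V).hom).2 ?_
  intro m hm
  have h2 : ψ ⟨V, hV, hηV⟩ m = 0 := (hι0 ⟨V, hV, hηV⟩ m).symm.trans hm
  have h3 : τ V (e (F.presheaf.germ V (genericPoint X) hηV m)) = 0 := h2
  -- τ V is injective
  haveI : Nonempty ((X.fromSpecStalk (genericPoint X)) ⁻¹ᵁ V) :=
    ⟨⟨IsLocalRing.closedPoint (X.presheaf.stalk (genericPoint X)), by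
      change (X.fromSpecStalk (genericPoint X)) (IsLocalRing.closedPoint _) ∈ V
      rw [Scheme.fromSpecStalk_closedPoint]
      exact hηV⟩⟩
  haveI : Nontrivial Γ(Spec (X.presheaf.stalk (genericPoint X)),
      (X.fromSpecStalk (genericPoint X)) ⁻¹ᵁ V) := inferInstance
  have h4 : e (F.presheaf.germ V (genericPoint X) hηV m) = 0 :=
    (map_eq_zero_iff (τ V) (τ V).injective).mp h3
  have h5 : F.presheaf.germ V (genericPoint X) hηV m = 0 :=
    (LinearEquiv.map_eq_zero_iff e).mp h4
  exact eq_zero_of_germ_generic X F hF hV hηV m h5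

end Groth.Agent.S4350
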