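import Groth.Statements.S4358
import Groth.Agent.Lib.Helper6.StalkFlat2
import Groth.Agent.Lib.Helper7.ComplFlat

set_option autoImplicit false
universe u
open FCompl

namespace Groth.Agent.S4358

/-- Affine content (the completion of X = Spec A along V(J) has as stalk ring at an open prime 𝔭 the
ring A_{S}, S = A ∖ 𝔭, realised here as the union of the images of the completed rings A_{f}, f ∉ 𝔭,
inside the completed local ring A{S⁻¹}; flatness of the canonical morphism of ringed spaces from the
completion to X is flatness of A_{S} over the local ring of X at 𝔭, equivalently over A). For A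
Noetherian and J ⊆ 𝔭, the canonical ring map A → A_{S} is flat; the hypothesis h records that A →
A{S⁻¹} takes values in A_{S}, which always holds. -/
theorem result
    (A : Type u) [CommRing A] [IsNoetherianRing A] (J 𝔭 : Ideal A) [𝔭.IsPrime] (hJ : J ≤ 𝔭)
    (h : ∀ a : A, ((algebraMap (Localization.AtPrime 𝔭) (FSch.cAtPrime A J 𝔭)).comp
      (algebraMap A (Localization.AtPrime 𝔭))) a ∈ FSch.stalkSubring A J 𝔭) :
    (((algebraMap (Localization.AtPrime 𝔭) (FSch.cAtPrime A J 𝔭)).comp
      (algebraMap A (Localization.AtPrime 𝔭))).codRestrict (FSch.stalkSubring A J 𝔭) h).Flat := by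
  letI algAB : Algebra A (FSch.stalkSubring A J 𝔭) :=
    (((algebraMap (Localization.AtPrime 𝔭) (FSch.cAtPrime A J 𝔭)).comp
      (algebraMap A (Localization.AtPrime 𝔭))).codRestrict (FSch.stalkSubring A J 𝔭) h).toAlgebra
  show Module.Flat A (FSch.stalkSubring A J 𝔭)
  haveI : IsNoetherianRing (Localization.AtPrime 𝔭) :=
    IsLocalization.isNoetherianRing 𝔭.primeCompl _ inferInstance
  haveI hflatAC : Module.Flat A (FSch.cAtPrime A J 𝔭) :=
    Module.Flat.trans A (Localization.AtPrime 𝔭) _
  haveI tower : IsScalarTower A (FSch.stalkSubring A J 𝔭) (FSch.cAtPrime A J 𝔭) :=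
    IsScalarTower.of_algebraMap_eq (fun a => by
      show algebraMap A (FSch.cAtPrime A J 𝔭) a =
        ((algebraMap (Localization.AtPrime 𝔭) (FSch.cAtPrime A J 𝔭)).comp
          (algebraMap A (Localization.AtPrime 𝔭))) a
      exact IsScalarTower.algebraMap_apply A (Localization.AtPrime 𝔭) _ a)
  haveI := Lib.Helper6.StalkFlat.faithfullyFlat_stalkSubring A J 𝔭 hJ
  exact Lib.Helper7.flat_of_faithfullyFlat_of_flat A (FSch.stalkSubring A J 𝔭)
    (FSch.cAtPrime A J 𝔭)

end Groth.Agent.S4358
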