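import Groth.Statements.S4362

set_option autoImplicit false
universe u
open FinCond

namespace Groth.Agent.S4362

open AlgebraicGeometry in
open CategoryTheory in
/-- If X is a Noetherian scheme, every increasing sequence of quasi-coherent sheaves of ideals of the
structure sheaf is eventually constant; equivalently the ordered set of quasi-coherent ideal sheaves
of X is well-founded for the reverse order. (On a locally Noetherian scheme quasi-coherent and
coherent ideal sheaves coincide.) -/
theorem result
    (X : Scheme.{u}) [IsNoetherian X] : WellFoundedGT X.IdealSheafData := by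
  obtain ⟨S, hS, hSU⟩ := (isCompact_and_isOpen_iff_finite_and_eq_biUnion_affineOpens (X := X)
    (U := Set.univ)).mp ⟨isCompact_univ, isOpen_univ⟩
  rw [wellFoundedGT_iff_monotone_chain_condition]
  intro a
  have hcov : ⨆ i : S, (i.1 : X.Opens) = ⊤ := by
    apply SetLike.coe_injective
    rw [TopologicalSpace.Opens.coe_iSup, TopologicalSpace.Opens.coe_top, hSU]
    ext x
    simp
  have key : ∀ i : S, ∃ n, ∀ m, n ≤ m → (a n).ideal i.1 = (a m).ideal i.1 := by
    intro i
    have : IsNoetherianRing Γ(X, i.1.1) := IsLocallyNoetherian.component_noetherian i.1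
    have := (wellFoundedGT_iff_monotone_chain_condition (α := Ideal Γ(X, i.1.1))).mp inferInstance
    exact this ⟨fun n => (a n).ideal i.1,
      fun m n h => Scheme.IdealSheafData.ideal_mono (a.monotone h) i.1⟩
  choose n hn using key
  have := hS.fintype
  refine ⟨Finset.univ.sup n, fun m hm => ?_⟩
  refine Scheme.IdealSheafData.ext_of_iSup_eq_top (fun i : S => i.1) hcov (fun i => ?_)
  have h1 := hn i _ (Finset.le_sup (Finset.mem_univ i))
  have h2 := hn i m ((Finset.le_sup (Finset.mem_univ i)).trans hm)
  rw [← h1, h2]

end Groth.Agent.S4362
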