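import Groth.Statements.S4363
import Mathlib

set_option autoImplicit false
universe u v
open RedSep

namespace Groth.Agent.S4363

open CategoryTheory CategoryTheory.Limits in
theorem closure_eq_top_of_isPushout {R A B P : CommRingCat.{u}} {f : R ⟶ A} {g : R ⟶ B}
    {inl : A ⟶ P} {inr : B ⟶ P} (h : IsPushout f g inl inr) :
    Subring.closure (Set.range inl.hom ∪ Set.range inr.hom) = ⊤ := by
  let S : Subring P := Subring.closure (Set.range inl.hom ∪ Set.range inr.hom)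
  let a : A ⟶ CommRingCat.of S := CommRingCat.ofHom
    (RingHom.codRestrict inl.hom S (fun x => Subring.subset_closure (Or.inl ⟨x, rfl⟩)))
  let b : B ⟶ CommRingCat.of S := CommRingCat.ofHom
    (RingHom.codRestrict inr.hom S (fun x => Subring.subset_closure (Or.inr ⟨x, rfl⟩)))
  let ι : CommRingCat.of S ⟶ P := CommRingCat.ofHom S.subtype
  have ha : a ≫ ι = inl := by ext x; rfl
  have hb : b ≫ ι = inr := by ext x; rfl
  haveI : Mono ι := ConcreteCategory.mono_of_injective ι Subtype.val_injective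
  have w : f ≫ a = g ≫ b := by
    rw [← cancel_mono ι, Category.assoc, Category.assoc, ha, hb, h.w]
  let d := h.desc a b w
  have hd : d ≫ ι = 𝟙 P := by
    apply h.hom_ext
    · rw [← Category.assoc, h.inl_desc, ha, Category.comp_id]
    · rw [← Category.assoc, h.inr_desc, hb, Category.comp_id]
  rw [eq_top_iff]
  intro x _
  have hx : ι.hom (d.hom x) = x := by
    have := congr($(hd).hom x)
    simpa using this
  rw [← hx]
  exact (d.hom x).2

open AlgebraicGeometry CategoryTheory in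
theorem surj_iff {X P : Scheme.{u}} (Δ : X ⟶ P) (W : P.Opens) (V : X.Opens) (h : V = Δ ⁻¹ᵁ W) :
    Function.Surjective (Δ.appLE W V h.le).hom ↔ Function.Surjective (Δ.app W).hom := by
  subst h
  rw [Scheme.Hom.app_eq_appLE]

open AlgebraicGeometry CategoryTheory in
theorem restrict_appTop_surj {X P : Scheme.{u}} (Δ : X ⟶ P) (W : P.Opens)
    (hs : Function.Surjective (Δ.app W).hom) : Function.Surjective (Δ ∣_ W).appTop := by
  rw [morphismRestrict_appTop]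
  have : ∀ W' : P.Opens, W' = W → Function.Surjective (Δ.app W').hom := by
    rintro _ rfl; exact hs
  change Function.Surjective (CommRingCat.Hom.hom (Scheme.Hom.app Δ (W.ι ''ᵁ ⊤) ≫ X.presheaf.map (eqToHom (image_morphismRestrict_preimage Δ W ⊤)).op))
  rw [CommRingCat.hom_comp, RingHom.coe_comp]
  exact (ConcreteCategory.bijective_of_isIso _).2.comp (this _ (by simp))

open AlgebraicGeometry CategoryTheory in
theorem appLE_of_eq_id {X : Scheme.{u}} (q : X ⟶ X) (hq : q = 𝟙 X) (V V' : X.Opens)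
    (e : V' ≤ q ⁻¹ᵁ V) (e' : V' ≤ V) :
    q.appLE V V' e = X.presheaf.map (homOfLE e').op := by
  subst hq
  simp only [Scheme.Hom.appLE, Scheme.Hom.id_app]
  exact Category.id_comp _

open AlgebraicGeometry in
open CategoryTheory in
/-- Let Y be an affine scheme, f : X -> Y a morphism and (U i) a cover of X by affine open subschemes.
Then f is separated if and only if, for every pair of indices i, j, the intersection of U i and U j
is an affine open and its ring of sections is generated, as a ring, by the images of the rings of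
sections of U i and of U j under the restriction maps. -/
theorem result
    {X Y : Scheme.{u}} [IsAffine Y] (f : X ⟶ Y) {ι : Type v} (U : ι → X.Opens)
    (hU : ∀ i, IsAffineOpen (U i)) (hcov : ⨆ i, U i = ⊤) :
    IsSeparated f ↔ ∀ i j, IsAffineOpen (U i ⊓ U j) ∧
      Subring.closure (Set.range (X.presheaf.map (homOfLE (inf_le_left : U i ⊓ U j ≤ U i)).op).hom ∪
        Set.range (X.presheaf.map (homOfLE (inf_le_right : U i ⊓ U j ≤ U j)).op).hom) = ⊤ := by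

  obtain ⟨Δ, p₁, p₂, hΔ₁, hΔ₂, hpb, hsep⟩ : ∃ (Δ : X ⟶ Limits.pullback f f)
      (p₁ p₂ : Limits.pullback f f ⟶ X), Δ ≫ p₁ = 𝟙 X ∧ Δ ≫ p₂ = 𝟙 X ∧ IsPullback p₁ p₂ f f ∧
      (IsSeparated f ↔ IsClosedImmersion Δ) :=
    ⟨Limits.pullback.diagonal f, Limits.pullback.fst f f, Limits.pullback.snd f f,
      Limits.pullback.diagonal_fst f, Limits.pullback.diagonal_snd f,
      IsPullback.of_hasPullback f f, ⟨fun h => h.1, fun h => ⟨h⟩⟩⟩
  rw [hsep]
  have hΔW : ∀ i j, U i ⊓ U j = Δ ⁻¹ᵁ (p₁ ⁻¹ᵁ U i ⊓ p₂ ⁻¹ᵁ U j) := by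
    intro i j
    rw [Scheme.Hom.preimage_inf, ← Scheme.Hom.comp_preimage, ← Scheme.Hom.comp_preimage,
      hΔ₁, hΔ₂]
    rfl
  have hWaff : ∀ i j, IsAffineOpen (p₁ ⁻¹ᵁ U i ⊓ p₂ ⁻¹ᵁ U j) := by
    intro i j
    have hUS : IsAffineOpen (⊤ : Y.Opens) := isAffineOpen_top Y
    haveI : IsAffine (⊤ : Y.Opens).toScheme := hUS
    haveI : IsAffine (U i).toScheme := hU i
    haveI : IsAffine (U j).toScheme := hU j
    have H := Scheme.Hom.isPullback_resLE hpb (US := ⊤) (UT := U j) (UX := U i)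
      (by simp) (by simp) rfl
    exact .of_isIso H.isoPullback.hom
  have hpo : ∀ i j, IsPushout (f.appLE ⊤ (U i) (by simp)) (f.appLE ⊤ (U j) (by simp))
      (p₁.appLE (U i) (p₁ ⁻¹ᵁ U i ⊓ p₂ ⁻¹ᵁ U j) inf_le_left)
      (p₂.appLE (U j) (p₁ ⁻¹ᵁ U i ⊓ p₂ ⁻¹ᵁ U j) inf_le_right) := by
    intro i j
    have := isIso_pushoutSection_of_isAffineOpen hpb (US := ⊤) (UT := U j) (UX := U i)
      (by simp) (by simp) rfl (isAffineOpen_top Y) (hU j) (hU i)
    exact (isIso_pushoutSection_iff hpb _ _ rfl).mp this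
  have hkey : ∀ i j, Subring.closure
      (Set.range (X.presheaf.map (homOfLE (inf_le_left : U i ⊓ U j ≤ U i)).op).hom ∪
        Set.range (X.presheaf.map (homOfLE (inf_le_right : U i ⊓ U j ≤ U j)).op).hom) =
      (Δ.appLE (p₁ ⁻¹ᵁ U i ⊓ p₂ ⁻¹ᵁ U j) (U i ⊓ U j) (hΔW i j).le).hom.range := by
    intro i j
    have e1 : X.presheaf.map (homOfLE (inf_le_left : U i ⊓ U j ≤ U i)).op =
        p₁.appLE (U i) (p₁ ⁻¹ᵁ U i ⊓ p₂ ⁻¹ᵁ U j) inf_le_left ≫
          Δ.appLE (p₁ ⁻¹ᵁ U i ⊓ p₂ ⁻¹ᵁ U j) (U i ⊓ U j) (hΔW i j).le := by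
      rw [Scheme.Hom.appLE_comp_appLE]
      exact (appLE_of_eq_id _ hΔ₁ _ _ _ _).symm
    have e2 : X.presheaf.map (homOfLE (inf_le_right : U i ⊓ U j ≤ U j)).op =
        p₂.appLE (U j) (p₁ ⁻¹ᵁ U i ⊓ p₂ ⁻¹ᵁ U j) inf_le_right ≫
          Δ.appLE (p₁ ⁻¹ᵁ U i ⊓ p₂ ⁻¹ᵁ U j) (U i ⊓ U j) (hΔW i j).le := by
      rw [Scheme.Hom.appLE_comp_appLE]
      exact (appLE_of_eq_id _ hΔ₂ _ _ _ _).symm
    have r1 : Set.range (X.presheaf.map (homOfLE (inf_le_left : U i ⊓ U j ≤ U i)).op).hom =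
        (Δ.appLE (p₁ ⁻¹ᵁ U i ⊓ p₂ ⁻¹ᵁ U j) (U i ⊓ U j) (hΔW i j).le).hom ''
          Set.range (p₁.appLE (U i) (p₁ ⁻¹ᵁ U i ⊓ p₂ ⁻¹ᵁ U j) inf_le_left).hom := by
      rw [e1, CommRingCat.hom_comp, RingHom.coe_comp, Set.range_comp]
    have r2 : Set.range (X.presheaf.map (homOfLE (inf_le_right : U i ⊓ U j ≤ U j)).op).hom =
        (Δ.appLE (p₁ ⁻¹ᵁ U i ⊓ p₂ ⁻¹ᵁ U j) (U i ⊓ U j) (hΔW i j).le).hom ''
          Set.range (p₂.appLE (U j) (p₁ ⁻¹ᵁ U i ⊓ p₂ ⁻¹ᵁ U j) inf_le_right).hom := by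
      rw [e2, CommRingCat.hom_comp, RingHom.coe_comp, Set.range_comp]
    rw [r1, r2, ← Set.image_union, ← RingHom.map_closure,
      closure_eq_top_of_isPushout (hpo i j), RingHom.range_eq_map]
  have hcovW : ⨆ ij : ι × ι, (p₁ ⁻¹ᵁ U ij.1 ⊓ p₂ ⁻¹ᵁ U ij.2) = ⊤ := by
    rw [eq_top_iff]
    intro z _
    have h1 : p₁ z ∈ ⨆ i, U i := by rw [hcov]; trivial
    have h2 : p₂ z ∈ ⨆ i, U i := by rw [hcov]; trivial
    rw [TopologicalSpace.Opens.mem_iSup] at h1 h2 ⊢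
    obtain ⟨i, hi⟩ := h1
    obtain ⟨j, hj⟩ := h2
    exact ⟨(i, j), hi, hj⟩
  constructor
  · intro hcl i j
    haveI := hcl
    refine ⟨?_, ?_⟩
    · rw [hΔW i j]; exact (hWaff i j).preimage Δ
    · rw [hkey i j, RingHom.range_eq_top]
      exact (surj_iff Δ _ _ (hΔW i j)).mpr (Δ.app_surjective _ (hWaff i j))
  · intro h
    rw [HasAffineProperty.iff_of_iSup_eq_top (P := @IsClosedImmersion)
      (fun ij : ι × ι => (⟨p₁ ⁻¹ᵁ U ij.1 ⊓ p₂ ⁻¹ᵁ U ij.2, hWaff ij.1 ij.2⟩ :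
        (Limits.pullback f f).affineOpens)) hcovW]
    rintro ⟨i, j⟩
    refine ⟨?_, ?_⟩
    · show IsAffineOpen (Δ ⁻¹ᵁ (p₁ ⁻¹ᵁ U i ⊓ p₂ ⁻¹ᵁ U j))
      rw [← hΔW i j]; exact (h i j).1
    · have hs : Function.Surjective (Δ.app (p₁ ⁻¹ᵁ U i ⊓ p₂ ⁻¹ᵁ U j)).hom :=
        (surj_iff Δ _ _ (hΔW i j)).mp (by
          rw [← RingHom.range_eq_top, ← hkey i j]; exact (h i j).2)
      exact restrict_appTop_surj Δ _ hs

end Groth.Agent.S4363
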