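import Groth.Statements.S4365
import Mathlib.AlgebraicGeometry.AlgClosed.Basic
import Mathlib.AlgebraicGeometry.Morphisms.FiniteType
import Mathlib.AlgebraicGeometry.Morphisms.UnderlyingMap
import Mathlib.FieldTheory.IsAlgClosed.Basic
import Mathlib.FieldTheory.FinTrdeg
import Mathlib.RingTheory.AlgebraicIndependent.Adjoin
import Mathlib.RingTheory.RingHom.EssFiniteType
import Mathlib.AlgebraicGeometry.ResidueField

set_option autoImplicit false
universe u
open FinCond

namespace Groth.Agent.S4365

open AlgebraicGeometry CategoryTheory Limits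

theorem exists_algHom_of_finTrdeg (K κ Ω : Type*) [Field K] [Field κ] [Field Ω] [Algebra K κ]
    [Algebra K Ω] [IsAlgClosed Ω] [FinTrdeg K κ] (t : ℕ → Ω) (ht : AlgebraicIndependent K t) :
    Nonempty (κ →ₐ[K] Ω) := by
  obtain ⟨s, hs⟩ := exists_finset_isTranscendenceBasis K κ
  let j : s → ℕ := fun i => (Fintype.equivFin s i : ℕ)
  have hj : Function.Injective j :=
    fun a b h => (Fintype.equivFin s).injective (Fin.val_injective h)
  have hy : AlgebraicIndependent K (t ∘ j) := ht.comp j hj
  let e1 := hs.1.aevalEquivField
  let e2 := hy.aevalEquivField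
  let φ₀ : IntermediateField.adjoin K (Set.range ((↑) : s → κ)) →ₐ[K] Ω :=
    (IntermediateField.val _).comp (e2.toAlgHom.comp e1.symm.toAlgHom)
  let _ : Algebra (IntermediateField.adjoin K (Set.range ((↑) : s → κ))) Ω :=
    φ₀.toRingHom.toAlgebra
  have : IsScalarTower K (IntermediateField.adjoin K (Set.range ((↑) : s → κ))) Ω :=
    IsScalarTower.of_algebraMap_eq (fun x => (φ₀.commutes x).symm)
  have := hs.isAlgebraic_field
  exact ⟨(IsAlgClosed.lift (R := IntermediateField.adjoin K (Set.range ((↑) : s → κ)))
    (S := κ) (M := Ω)).restrictScalars K⟩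

open AlgebraicGeometry in
open CategoryTheory in
/-- Let K be a field, X and Y schemes locally of finite type over K, f : X -> Y a K-morphism and Ω an
algebraically closed extension field of K of infinite transcendence degree over K (there is an
algebraically independent sequence in Ω). Then f is surjective if and only if the map it induces
from the K-points of X with values in Ω to those of Y is surjective, i.e. every K-morphism Spec Ω ->
Y factors through f. (The published proposition assumes X and Y of finite type over K, and a later
remark of the same text extends it to X and Y locally of finite type over K, the form stated here.) -/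
theorem result
    (K Ω : Type u) [Field K] [Field Ω] [IsAlgClosed Ω] [Algebra K Ω]
    (t : ℕ → Ω) (ht : AlgebraicIndependent K t)
    {X Y : Scheme.{u}} (pX : X ⟶ Spec (CommRingCat.of K)) (pY : Y ⟶ Spec (CommRingCat.of K))
    [LocallyOfFiniteType pX] [LocallyOfFiniteType pY] (f : X ⟶ Y) (hf : f ≫ pY = pX) :
    Surjective f ↔ ∀ y : Spec (CommRingCat.of Ω) ⟶ Y,
      y ≫ pY = Spec.map (CommRingCat.ofHom (algebraMap K Ω)) →
        ∃ x : Spec (CommRingCat.of Ω) ⟶ X, x ≫ f = y := by
  have hf_lft : LocallyOfFiniteType f := by
    have : LocallyOfFiniteType (f ≫ pY) := by rw [hf]; infer_instance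
    exact locallyOfFiniteType_of_comp f pY
  constructor
  · intro hsurj y hy
    have hsnd : Surjective (pullback.snd f y) := inferInstance
    have hne : Nonempty (pullback f y : Scheme) :=
      ⟨(hsnd.surj (default : Spec (.of Ω))).choose⟩
    have : JacobsonSpace (pullback f y : Scheme) :=
      LocallyOfFiniteType.jacobsonSpace (pullback.snd f y)
    obtain ⟨p, -, hp⟩ := nonempty_inter_closedPoints (X := (pullback f y : Scheme))
      (Z := Set.univ) Set.univ_nonempty isOpen_univ.isLocallyClosed
    refine ⟨pointOfClosedPoint (pullback.snd f y) p hp ≫ pullback.fst f y, ?_⟩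
    rw [Category.assoc, pullback.condition, ← Category.assoc, pointOfClosedPoint_comp,
      Category.id_comp]
  · intro H
    refine ⟨fun y₀ => ?_⟩
    let φ : CommRingCat.of K ⟶ Y.residueField y₀ :=
      Spec.preimage (Y.fromSpecResidueField y₀ ≫ pY)
    have hφ : Spec.map φ = Y.fromSpecResidueField y₀ ≫ pY := Spec.map_preimage _
    have hess : φ.hom.EssFiniteType := by
      have h1 : φ = CommRingCat.ofHom (algebraMap K (pY y₀).asIdeal.ResidueField) ≫
          (Scheme.Spec.residueFieldIso (.of K) (pY y₀)).inv ≫ pY.residueFieldMap y₀ := by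
        apply Spec.map_injective
        rw [hφ, Spec.map_comp, Spec.map_comp, Category.assoc,
          Scheme.Spec.map_residueFieldIso_inv_eq_fromSpecResidueField,
          Scheme.Hom.SpecMap_residueFieldMap_fromSpecResidueField]
      rw [h1]
      simp only [CommRingCat.hom_comp]
      refine RingHom.EssFiniteType.comp ?_ (RingHom.EssFiniteType.comp ?_ ?_)
      · exact RingHom.essFiniteType_algebraMap.mpr inferInstance
      · exact (RingHom.FiniteType.of_surjective _
          (Scheme.Spec.residueFieldIso (.of K) (pY y₀)).symm.commRingCatIsoToRingEquiv.surjective).essFiniteType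
      · exact RingHom.EssFiniteType.residueFieldMap (LocallyOfFiniteType.stalkMap pY y₀)
    let _ : Algebra K (Y.residueField y₀) := φ.hom.toAlgebra
    have : Algebra.EssFiniteType K (Y.residueField y₀) := hess
    obtain ⟨ψ⟩ := exists_algHom_of_finTrdeg K (Y.residueField y₀) Ω t ht
    have hy : (Spec.map (CommRingCat.ofHom ψ.toRingHom) ≫ Y.fromSpecResidueField y₀) ≫ pY =
        Spec.map (CommRingCat.ofHom (algebraMap K Ω)) := by
      rw [Category.assoc, ← hφ, ← Spec.map_comp]
      congr 1
      ext a
      exact ψ.commutes a
    obtain ⟨x, hx⟩ := H _ hy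
    refine ⟨x default, ?_⟩
    rw [← Scheme.Hom.comp_apply, hx, Scheme.Hom.comp_apply]
    exact Scheme.fromSpecResidueField_apply _ _

end Groth.Agent.S4365
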