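import Groth.Statements.S4369

set_option autoImplicit false
universe u
open AffSch

namespace Groth.Agent.S4369

/-- Let φ : A' -> A be a ring homomorphism such that every f in A can be written f = h φ(f') with h
invertible in A (this holds in particular when φ is surjective). Then the associated continuous map
Spec A -> Spec A' is a homeomorphism onto its image. -/
theorem result
    {A' A : Type u} [CommRing A'] [CommRing A] (φ : A' →+* A)
    (h : ∀ f : A, ∃ (u : Aˣ) (f' : A'), f = (u : A) * φ f') :
    Topology.IsEmbedding (PrimeSpectrum.comap φ) := by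
  have key : ∀ s : Set A, PrimeSpectrum.zeroLocus (φ '' ((Ideal.span s).comap φ : Set A')) =
      PrimeSpectrum.zeroLocus s := by
    intro s
    ext p
    simp only [PrimeSpectrum.mem_zeroLocus]
    constructor
    · intro hp f hf
      obtain ⟨u, f', rfl⟩ := h f
      have : f' ∈ (Ideal.span s).comap φ := by
        rw [Ideal.mem_comap]
        have := (Ideal.span s).mul_mem_left (↑u⁻¹ : A) (Ideal.subset_span hf)
        rwa [← mul_assoc, Units.inv_mul, one_mul] at this
      exact p.asIdeal.mul_mem_left _ (hp ⟨f', this, rfl⟩)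
    · rintro hp _ ⟨f', hf', rfl⟩
      exact (Ideal.span_le.mpr hp) hf'
  refine ⟨⟨TopologicalSpace.ext_isClosed fun Z ↦ ?_⟩, ?_⟩
  · simp_rw [isClosed_induced_iff, PrimeSpectrum.isClosed_iff_zeroLocus,
      @eq_comm _ _ (PrimeSpectrum.zeroLocus _),
      exists_exists_eq_and, PrimeSpectrum.preimage_comap_zeroLocus]
    constructor
    · rintro ⟨s, rfl⟩
      exact ⟨_, key s⟩
    · rintro ⟨s, rfl⟩
      exact ⟨_, rfl⟩
  · intro p q hpq
    ext f
    obtain ⟨u, f', rfl⟩ := h f
    have h1 : ∀ r : PrimeSpectrum A, (u : A) * φ f' ∈ r.asIdeal ↔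
        f' ∈ (PrimeSpectrum.comap φ r).asIdeal := by
      intro r
      rw [PrimeSpectrum.comap_asIdeal, Ideal.mem_comap]
      exact ⟨fun h => by simpa using r.asIdeal.mul_mem_left (↑u⁻¹ : A) h,
        fun h => r.asIdeal.mul_mem_left _ h⟩
    rw [h1, h1, hpq]

end Groth.Agent.S4369
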