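import Groth.Statements.S4375
import Groth.Agent.Lib.Helper3.SerreCrit

set_option autoImplicit false
universe u
open CategoryTheory CategoryTheory.Limits AlgebraicGeometry
open EGA2

namespace Groth.Agent.S4375

open Groth.Agent.Lib.Helper3 QCSec InvGen InvAmple SubIdeal Scheme.Modules in
theorem sum_app4375 {X : Scheme.{u}} {M N : X.Modules} {ι : Type*} (s : Finset ι)
    (φ : ι → (M ⟶ N)) (U : X.Opens) (t : Γ(M, U)) :
    (∑ i ∈ s, φ i).app U t = ∑ i ∈ s, (φ i).app U t := by
  classical
  induction s using Finset.induction_on with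
  | empty => simp only [Finset.sum_empty]; rfl
  | insert a s ha ih =>
    rw [Finset.sum_insert ha, Finset.sum_insert ha, ← ih]
    rfl

open Groth.Agent.Lib.Helper3 QCSec InvGen InvAmple SubIdeal Scheme.Modules in
/-- the morphism `O^n ⟶ O` defined by `n` global functions -/
noncomputable def rowMap4375 {X : Scheme.{u}} {n : ℕ} (f : Fin n → Γ(X, ⊤)) :
    FlatMod.freeMod X n ⟶ Coh.structureModule X :=
  Sigma.desc (fun i => globalHom (Coh.structureModule X) (ofFun ⊤ (f i)))

open Groth.Agent.Lib.Helper3 QCSec InvGen InvAmple SubIdeal Scheme.Modules in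
theorem epi_rowMap4375 {X : Scheme.{u}} {n : ℕ} (f : Fin n → Γ(X, ⊤))
    (hcov : ∀ x : X, ∃ i, x ∈ X.basicOpen (f i)) : Epi (rowMap4375 f) := by
  apply QCExact.epi_of_locally_surjective
  intro W s x hx
  obtain ⟨i, hi⟩ := hcov x
  let W' : X.Opens := W ⊓ X.basicOpen (f i)
  have hu : IsUnit (rres X (le_top : W' ≤ ⊤) (f i)) := by
    have h1 := X.toRingedSpace.isUnit_res_basicOpen (f i)
    have h2 : rres X (le_top : W' ≤ ⊤) (f i) =
        rres X (inf_le_right : W' ≤ X.basicOpen (f i)) (rres X (X.basicOpen_le (f i)) (f i)) :=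
      (rres_rres _ _ _).symm
    rw [h2]
    exact rres_isUnit _ h1
  obtain ⟨u, hu'⟩ := hu
  refine ⟨W', inf_le_left, ⟨hx, hi⟩,
    (Sigma.ι (fun _ : Fin n => Coh.structureModule X) i).app W'
      (ofFun W' (toFun W' (res _ inf_le_left s) * (↑u⁻¹ : Γ(X, W')))), ?_⟩
  have h3 : Sigma.ι (fun _ : Fin n => Coh.structureModule X) i ≫ rowMap4375 f =
      globalHom (Coh.structureModule X) (ofFun ⊤ (f i)) := Sigma.ι_desc _ _
  change (Sigma.ι (fun _ : Fin n => Coh.structureModule X) i ≫ rowMap4375 f).app W' _ = _
  rw [h3, app_eq_smul_sec, sec_globalHom, res_ofFun, smul_ofFun, ← hu', mul_assoc, Units.inv_mul,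
    mul_one]
  rfl

open Groth.Agent.Lib.Helper3 QCSec InvGen InvAmple SubIdeal Scheme.Modules in
theorem rowMap_app_mem_span4375 {X : Scheme.{u}} {n : ℕ} (f : Fin n → Γ(X, ⊤))
    (t : Γ(FlatMod.freeMod X n, ⊤)) :
    toFun ⊤ ((rowMap4375 f).app ⊤ t) ∈ Ideal.span (Set.range f) := by
  classical
  let O : Fin n → X.Modules := fun _ => Coh.structureModule X
  let π : ∀ i : Fin n, (∐ O) ⟶ Coh.structureModule X := fun i =>
    Sigma.desc (fun j => if j = i then 𝟙 _ else 0)
  have hid : 𝟙 (∐ O) = ∑ i, π i ≫ Sigma.ι O i := by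
    apply Sigma.hom_ext
    intro j
    rw [Category.comp_id, Preadditive.comp_sum]
    have : ∀ i, Sigma.ι O j ≫ π i ≫ Sigma.ι O i = if j = i then Sigma.ι O j else 0 := by
      intro i
      rw [← Category.assoc, Sigma.ι_desc]
      split_ifs with hji
      · subst hji; exact Category.id_comp _
      · exact zero_comp
    simp only [this]
    simp
  have h1 : rowMap4375 f = ∑ i, π i ≫ globalHom (Coh.structureModule X) (ofFun ⊤ (f i)) := by
    calc rowMap4375 f = 𝟙 (∐ O) ≫ rowMap4375 f := (Category.id_comp _).symm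
      _ = ∑ i, (π i ≫ Sigma.ι O i) ≫ rowMap4375 f := by rw [hid, Preadditive.sum_comp]
      _ = _ := by
        refine Finset.sum_congr rfl fun i _ => ?_
        rw [Category.assoc]
        congr 1
        exact Sigma.ι_desc _ _
  rw [h1, sum_app4375]
  change (∑ i, (π i ≫ globalHom (Coh.structureModule X) (ofFun ⊤ (f i))).app ⊤ t : Γ(X, ⊤)) ∈ _
  apply Ideal.sum_mem
  intro i _
  have h2 : (π i ≫ globalHom (Coh.structureModule X) (ofFun ⊤ (f i))).app ⊤ t =
      ofFun ⊤ (toFun ⊤ ((π i).app ⊤ t) * f i) := by
    change (globalHom (Coh.structureModule X) (ofFun ⊤ (f i))).app ⊤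
      (ofFun ⊤ (toFun ⊤ ((π i).app ⊤ t))) = _
    rw [app_eq_smul_sec, sec_globalHom, res_self, smul_ofFun]
  rw [h2]
  exact Ideal.mul_mem_left _ _ (Ideal.subset_span ⟨i, rfl⟩)

open Groth.Agent.Lib.Helper3 QCSec InvGen InvAmple SubIdeal IdealMod SerreCrit Scheme.Modules in

/-- (c') ⇒ (a): let X be a quasi-compact separated scheme. Suppose that for every n, every
quasi-coherent O_X-module F admitting a monomorphism into the free module O_X^n, and every
epimorphism p : F → F'' onto a quasi-coherent O_X-module, the map induced by p on global sections is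
surjective. Then X is affine. (The published statement also allows X to be a scheme whose underlying
space is Noetherian; this row assumes it quasi-compact and separated.) -/
theorem result (X : Scheme.{u}) [CompactSpace X] [X.IsSeparated]
    (h : ∀ (n : ℕ) (F F'' : X.Modules) (i : F ⟶ FlatMod.freeMod X n) (p : F ⟶ F''),
      Mono i → Epi p → Coh.IsQCoh F → Coh.IsQCoh F'' →
        Function.Surjective (p.val.app (Opposite.op ⊤)).hom) :
    IsAffine X := by
  apply isAffine_of_surjective_sections
  · intro I x hx hxI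
    haveI : IsClosedImmersion (X.fromSpecResidueField x) :=
      isClosed_singleton_iff_isClosedImmersion.mp hx
    have hd : Disjoint (Set.range (X.fromSpecResidueField x)) (I.support : Set X) := by
      rw [Scheme.range_fromSpecResidueField]
      exact Set.disjoint_singleton_left.mpr hxI
    have hepi := epi_ideal_to_closed I (X.fromSpecResidueField x) hd
    have hq : ((pushforward (X.fromSpecResidueField x)).obj
        (Coh.structureModule (Spec (X.residueField x)))).IsQuasicoherent :=
      isQuasicoherent_pushforward _ _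
    exact h 1 _ _ (ClSub.idealModι I ≫ Sigma.ι (fun _ : Fin 1 => Coh.structureModule X) 0) _
      (mono_comp _ _) hepi (isQuasicoherent_idealMod I) hq
  · intro n f hcov
    have hq : (FlatMod.freeMod X n).IsQuasicoherent := by
      apply QCLim.isQuasicoherent_finite_colimit
      rintro ⟨i⟩
      exact QCOpen.isQuasicoherent_structureModule X
    obtain ⟨t, ht⟩ := h n _ _ (𝟙 _) (rowMap4375 f) inferInstance (epi_rowMap4375 f hcov) hq
      (QCOpen.isQuasicoherent_structureModule X) (ofFun ⊤ 1)
    have := rowMap_app_mem_span4375 f t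
    have ht' : (rowMap4375 f).app ⊤ t = ofFun ⊤ 1 := ht
    rw [ht'] at this
    exact this

end Groth.Agent.S4375
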