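import Groth.Statements.S4382
import Groth.Agent.Lib.Helper3.IdealAmple
import Groth.Agent.S4383

set_option autoImplicit false
universe u
open CategoryTheory CategoryTheory.Limits AlgebraicGeometry
open EGA2

namespace Groth.Agent.S4382

open Groth.Agent.Lib.Helper3 QAffCrit CounitGG IdealMod IdealAmple InvRestrict InvTensor InvMonoidal
  InvCoh GlobGen RelAmpleLib Scheme.Modules in
theorem epi_counit_twist_of_isRelAmple4382 {X Y : Scheme.{u}} [CompactSpace X] (f : X ⟶ Y)
    (L : X.Modules) (hRA : RelAmple.IsRelAmple f L) (F : X.Modules) (hF : Coh.IsQCoh F)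
    (hFT : CohB1.IsFT F) :
    ∃ n₀ : ℕ, 0 < n₀ ∧ ∀ n : ℕ, n₀ ≤ n →
      Epi ((Scheme.Modules.pullbackPushforwardAdjunction f).counit.app
        (CohB1.tensorMod F (CohB1.tensorPow L n))) := by
  classical
  haveI : F.IsQuasicoherent := hF
  haveI : F.IsFiniteType := hFT
  haveI := hRA.1
  have hV : ∀ x : X, ∃ V : Y.affineOpens, f x ∈ V.1 := fun x => by
    obtain ⟨V, hV, hxV⟩ := QCProps.exists_affine_nbhd (f x)
    exact ⟨⟨V, hV⟩, hxV⟩
  choose V hxV using hV
  obtain ⟨t, -, ht⟩ := isCompact_univ.elim_nhds_subcover (fun x => ((f ⁻¹ᵁ (V x).1 : X.Opens) : Set X))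
    (fun x _ => (f ⁻¹ᵁ (V x).1).2.mem_nhds (hxV x))
  have hn : ∀ x : X, ∃ n₀ : ℕ, ∀ n, n₀ ≤ n → Curv2.IsGloballyGenerated
      ((CohB1.tensorMod F (CohB1.tensorPow L n)).restrict (f ⁻¹ᵁ (V x).1).ι) := by
    intro x
    have hA := hRA.2 (V x)
    haveI : CompactSpace ((f ⁻¹ᵁ (V x).1 : X.Opens) : Scheme.{u}) := hA.2.1
    haveI := isSeparated_of_isAmple hA
    haveI : (F.restrict (f ⁻¹ᵁ (V x).1).ι).IsQuasicoherent :=
      Scheme.Modules.isQuasicoherent_restrictFunctor _ F
    haveI : (F.restrict (f ⁻¹ᵁ (V x).1).ι).IsFiniteType := QCProps.isFiniteType_restrict _ F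
    obtain ⟨n₀, hn₀⟩ := exists_isGloballyGenerated_twist hA (F.restrict (f ⁻¹ᵁ (V x).1).ι)
    refine ⟨n₀, fun n hn => ?_⟩
    exact isGloballyGenerated_of_iso
      (tensorMapIso (Iso.refl _) (restrictPowIso (f ⁻¹ᵁ (V x).1).ι L n) ≪≫
        restrictTensorIso (f ⁻¹ᵁ (V x).1).ι F (CohB1.tensorPow L n)) (hn₀ n hn)
  choose n₀ hn₀ using hn
  refine ⟨t.sup n₀ + 1, Nat.succ_pos _, fun n hn => ?_⟩
  apply epi_counit_of_isGloballyGenerated_restrict
  intro x'
  obtain ⟨x, hx, hx'⟩ := Set.mem_iUnion₂.mp (ht (Set.mem_univ x'))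
  exact ⟨(V x).1, hx', hn₀ x n (((Finset.le_sup (f := n₀) hx).trans (Nat.le_succ _)).trans hn)⟩

open Groth.Agent.Lib.Helper3 in

/-- Let X be a quasi-compact separated scheme, f : X → Y a separated quasi-compact morphism and L an
invertible O_X-module. Then L is ample relative to f if and only if for every quasi-coherent
O_X-module F of finite type there is n₀ > 0 such that for every n ≥ n₀ the canonical morphism
f^*(f_*(F ⊗ L^{⊗n})) → F ⊗ L^{⊗n} (the counit of the adjunction between f^* and f_*) is an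
epimorphism. (The published statement also allows X to be a scheme whose underlying space is
Noetherian; this row assumes X quasi-compact and separated.) -/
theorem result {X Y : Scheme.{u}} [CompactSpace X] [X.IsSeparated] (f : X ⟶ Y)
    [IsSeparated f] [QuasiCompact f] (L : X.Modules) (hL : PicF.IsInvertible L) :
    RelAmple.IsRelAmple f L ↔ ∀ F : X.Modules, Coh.IsQCoh F → CohB1.IsFT F →
      ∃ n₀ : ℕ, 0 < n₀ ∧ ∀ n : ℕ, n₀ ≤ n →
        Epi ((Scheme.Modules.pullbackPushforwardAdjunction f).counit.app (CohB1.tensorMod F (CohB1.tensorPow L n))) := by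
  constructor
  · intro hRA F hF hFT
    exact epi_counit_twist_of_isRelAmple4382 f L hRA F hF hFT
  · intro h
    apply Groth.Agent.S4383.result f L hL
    intro J i _ hqc hft
    obtain ⟨n₀, hn₀, hn⟩ := h J hqc hft
    exact ⟨n₀, hn₀, hn n₀ le_rfl⟩

end Groth.Agent.S4382
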