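import Groth.Statements.S4385
import Groth.Agent.Lib.Helper3.RelAmpleLib

set_option autoImplicit false
universe u
open CategoryTheory CategoryTheory.Limits AlgebraicGeometry
open EGA2

namespace Groth.Agent.S4385

open Groth.Agent.Lib.Helper3 TopologicalSpace in
theorem quasiCompact_desc4385 {X X' Y : Scheme.{u}} (f : X ⟶ Y) (f' : X' ⟶ Y) [QuasiCompact f]
    [QuasiCompact f'] : QuasiCompact (coprod.desc f f') := by
  refine ⟨fun U hU hc => ?_⟩
  have hl : ∀ a : X, (coprod.desc f f') ((coprod.inl : X ⟶ X ⨿ X') a) = f a := by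
    intro a
    rw [← Scheme.Hom.comp_apply, coprod.inl_desc]
  have hr : ∀ a : X', (coprod.desc f f') ((coprod.inr : X' ⟶ X ⨿ X') a) = f' a := by
    intro a
    rw [← Scheme.Hom.comp_apply, coprod.inr_desc]
  have heq : (coprod.desc f f') ⁻¹' U =
      (coprod.inl : X ⟶ X ⨿ X') '' (f ⁻¹' U) ∪ (coprod.inr : X' ⟶ X ⨿ X') '' (f' ⁻¹' U) := by
    ext x
    have hx : x ∈ Set.range (coprod.inl : X ⟶ X ⨿ X') ∪ Set.range (coprod.inr : X' ⟶ X ⨿ X') := by
      have h0 : Set.range (coprod.inl : X ⟶ X ⨿ X') ∪ Set.range (coprod.inr : X' ⟶ X ⨿ X') = ⊤ :=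
        (isCompl_range_inl_inr X X').sup_eq_top
      rw [h0]; trivial
    constructor
    · intro h
      rcases hx with ⟨a, rfl⟩ | ⟨a, rfl⟩
      · left
        exact ⟨a, by simpa [hl] using h, rfl⟩
      · right
        exact ⟨a, by simpa [hr] using h, rfl⟩
    · rintro (⟨a, ha, rfl⟩ | ⟨a, ha, rfl⟩)
      · simpa [hl] using ha
      · simpa [hr] using ha
  rw [heq]
  exact ((QuasiCompact.isCompact_preimage (f := f) U hU hc).image (Scheme.Hom.continuous _)).union
    ((QuasiCompact.isCompact_preimage (f := f') U hU hc).image (Scheme.Hom.continuous _))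

open Groth.Agent.Lib.Helper3 TopologicalSpace QCSec InvGen in
theorem exists_fun_of_isCompl4385 (Z : Scheme.{u}) (A B : Z.Opens) (hc : IsCompl A B) :
    ∃ e : Γ(Z, ⊤), Z.basicOpen e = A := by
  obtain ⟨b, hb⟩ := fun_glue (X := Z) (fun i : ULift.{u} Bool => cond i.down A B) ⊤
    (fun _ => le_top) (by
      rw [← hc.sup_eq_top]
      apply sup_le
      · exact le_iSup (fun i : ULift.{u} Bool => cond i.down A B) ⟨true⟩
      · exact le_iSup (fun i : ULift.{u} Bool => cond i.down A B) ⟨false⟩)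
    (fun i => match i with
      | ⟨true⟩ => (1 : Γ(Z, A))
      | ⟨false⟩ => (0 : Γ(Z, B)))
    (by
      rintro ⟨_ | _⟩ ⟨_ | _⟩
      · rfl
      · have h0 : (cond (ULift.up.{u} false).down A B) ⊓ (cond (ULift.up.{u} true).down A B) = ⊥ := by
          show B ⊓ A = ⊥
          rw [inf_comm]; exact hc.inf_eq_bot
        haveI : Subsingleton Γ(Z, (cond (ULift.up.{u} false).down A B) ⊓
            (cond (ULift.up.{u} true).down A B)) := by
          rw [h0]; infer_instance
        exact Subsingleton.elim _ _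
      · have h0 : (cond (ULift.up.{u} true).down A B) ⊓ (cond (ULift.up.{u} false).down A B) = ⊥ :=
          hc.inf_eq_bot
        haveI : Subsingleton Γ(Z, (cond (ULift.up.{u} true).down A B) ⊓
            (cond (ULift.up.{u} false).down A B)) := by
          rw [h0]; infer_instance
        exact Subsingleton.elim _ _
      · rfl)
  refine ⟨b, ?_⟩
  have hA : rres Z (le_top : A ≤ ⊤) b = 1 := hb ⟨true⟩
  have hB : rres Z (le_top : B ≤ ⊤) b = 0 := hb ⟨false⟩
  have h1 : A ⊓ Z.basicOpen b = A := by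
    have := Scheme.basicOpen_res Z b (homOfLE (le_top : A ≤ ⊤)).op
    rw [← this]
    change Z.basicOpen (rres Z (le_top : A ≤ ⊤) b) = A
    rw [hA]
    exact Scheme.basicOpen_of_isUnit _ isUnit_one
  have h2 : B ⊓ Z.basicOpen b = ⊥ := by
    have := Scheme.basicOpen_res Z b (homOfLE (le_top : B ≤ ⊤)).op
    rw [← this]
    change Z.basicOpen (rres Z (le_top : B ≤ ⊤) b) = ⊥
    rw [hB]
    exact Scheme.basicOpen_zero _ _
  calc Z.basicOpen b = (A ⊔ B) ⊓ Z.basicOpen b := by rw [hc.sup_eq_top, top_inf_eq]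
    _ = (A ⊓ Z.basicOpen b) ⊔ (B ⊓ Z.basicOpen b) := inf_sup_right _ _ _
    _ = A := by rw [h1, h2, sup_bot_eq]

open Groth.Agent.Lib.Helper3 TopologicalSpace QCSec InvGen RelAmpleLib Scheme.Modules in
theorem isAmple_pullback_restrict_iff4385 {X Y Z : Scheme.{u}} (j : Y ⟶ X) [IsOpenImmersion j]
    (k : Z ⟶ Y) [IsOpenImmersion k] (M : X.Modules) :
    CohB1.IsAmple (((Scheme.Modules.pullback j).obj M).restrict k) ↔
      CohB1.IsAmple (M.restrict (k ≫ j)) := by
  rw [← isAmple_restrict_restrict_iff]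
  have e : (M.restrict j).restrict k ≅ ((Scheme.Modules.pullback j).obj M).restrict k :=
    (restrictFunctor k).mapIso ((restrictFunctorIsoPullback j).app M)
  exact ⟨InvAmple.isAmple_of_iso e.symm, InvAmple.isAmple_of_iso e⟩

open Groth.Agent.Lib.Helper3 TopologicalSpace QCSec InvGen RelAmpleLib Scheme.Modules in
theorem isAmple_of_isCompl4385 (Z : Scheme.{u}) (A B : Z.Opens) (hc : IsCompl A B) (M : Z.Modules)
    (W : Z.Opens) [CompactSpace (W : Scheme.{u})]
    (hA : CohB1.IsAmple (M.restrict (W ⊓ A).ι)) (hB : CohB1.IsAmple (M.restrict (W ⊓ B).ι)) :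
    CohB1.IsAmple (M.restrict W.ι) := by
  have key : ∀ (A : Z.Opens) (e : Γ(Z, ⊤)), Z.basicOpen e = A →
      CohB1.IsAmple (M.restrict (W ⊓ A).ι) → ∀ x : (W : Scheme.{u}), W.ι x ∈ A →
      ∃ g : Γ((W : Scheme.{u}), ⊤), x ∈ (W : Scheme.{u}).basicOpen g ∧
        CohB1.IsAmple ((M.restrict W.ι).restrict ((W : Scheme.{u}).basicOpen g).ι) := by
    intro A e he hA x hx
    obtain ⟨B', hB'⟩ : ∃ B' : (W : Scheme.{u}).Opens,
      B' = (W : Scheme.{u}).basicOpen (W.topIso.inv (rres Z (le_top : W ≤ ⊤) e)) := ⟨_, rfl⟩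
    have himg : W.ι ''ᵁ B' = W ⊓ A := by
      rw [hB', Scheme.Opens.ι_image_basicOpen_topIso_inv]
      have := Scheme.basicOpen_res Z e (homOfLE (le_top : W ≤ ⊤)).op
      rw [he] at this
      exact this
    refine ⟨W.topIso.inv (rres Z (le_top : W ≤ ⊤) e), ?_, ?_⟩
    · have h1 : W.ι x ∈ W.ι ''ᵁ B' := by
        rw [himg]; exact ⟨x.2, hx⟩
      obtain ⟨z, hz, hzx⟩ := h1
      have : z = x := Subtype.ext hzx
      rw [← hB']
      rwa [this] at hz
    · rw [← hB', isAmple_restrict_restrict_iff]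
      apply isAmple_restrict_of_opensRange_eq _ (W ⊓ A).ι _ M hA
      rw [Scheme.Hom.opensRange_comp, Scheme.Opens.opensRange_ι, Scheme.Opens.opensRange_ι, himg]
  obtain ⟨e, he⟩ := exists_fun_of_isCompl4385 Z A B hc
  obtain ⟨e', he'⟩ := exists_fun_of_isCompl4385 Z B A hc.symm
  apply isAmple_of_basicOpen_cover
  intro x
  have hx : W.ι x ∈ A ⊔ B := by rw [hc.sup_eq_top]; trivial
  rcases hx with hx | hx
  · exact key A e he hA x hx
  · exact key B e' he' hB x hx

open Groth.Agent.Lib.Helper3 TopologicalSpace in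
theorem opensRange_eq4385 {X Z Y : Scheme.{u}} (j : X ⟶ Z) [IsOpenImmersion j] (F : Z ⟶ Y)
    (f : X ⟶ Y) (hf : j ≫ F = f) (V : Y.Opens) :
    ((f ⁻¹ᵁ V).ι ≫ j).opensRange = F ⁻¹ᵁ V ⊓ j.opensRange := by
  subst hf
  rw [Scheme.Hom.opensRange_comp, Scheme.Opens.opensRange_ι]
  have : (j ≫ F) ⁻¹ᵁ V = j ⁻¹ᵁ (F ⁻¹ᵁ V) := rfl
  rw [this, Scheme.Hom.image_preimage_eq_opensRange_inf, inf_comm]

open Groth.Agent.Lib.Helper3 TopologicalSpace RelAmpleLib in

/-- Let f : X → Y and f' : X' → Y be quasi-compact morphisms, X'' = X ⨿ X' their disjoint union with f''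
: X'' → Y the morphism restricting to f and f', and L'' an O_{X''}-module whose inverse images L on
X and L' on X' (along the two coprojections) are invertible. Then L'' is ample relative to f'' if
and only if L is ample relative to f and L' is ample relative to f'. -/
theorem result {X X' Y : Scheme.{u}} (f : X ⟶ Y) (f' : X' ⟶ Y) [QuasiCompact f] [QuasiCompact f']
    (L'' : (X ⨿ X').Modules)
    (hL : PicF.IsInvertible ((Scheme.Modules.pullback (coprod.inl : X ⟶ X ⨿ X')).obj L''))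
    (hL' : PicF.IsInvertible ((Scheme.Modules.pullback (coprod.inr : X' ⟶ X ⨿ X')).obj L'')) :
    RelAmple.IsRelAmple (coprod.desc f f') L'' ↔
      RelAmple.IsRelAmple f ((Scheme.Modules.pullback (coprod.inl : X ⟶ X ⨿ X')).obj L'') ∧
        RelAmple.IsRelAmple f' ((Scheme.Modules.pullback (coprod.inr : X' ⟶ X ⨿ X')).obj L'') := by
  haveI := quasiCompact_desc4385 f f'
  constructor
  · rintro ⟨-, h⟩
    refine ⟨⟨inferInstance, fun V => ?_⟩, ⟨inferInstance, fun V => ?_⟩⟩
    · haveI := compactSpace_preimage f V.1 V.2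
      refine (isAmple_pullback_restrict_iff4385 coprod.inl (f ⁻¹ᵁ V.1).ι L'').mpr
        (isAmple_restrict_of_le _ ((coprod.desc f f') ⁻¹ᵁ V.1).ι ?_ L'' (h V))
      rw [opensRange_eq4385 coprod.inl (coprod.desc f f') f (coprod.inl_desc f f'),
        Scheme.Opens.opensRange_ι]
      exact inf_le_left
    · haveI := compactSpace_preimage f' V.1 V.2
      refine (isAmple_pullback_restrict_iff4385 coprod.inr (f' ⁻¹ᵁ V.1).ι L'').mpr
        (isAmple_restrict_of_le _ ((coprod.desc f f') ⁻¹ᵁ V.1).ι ?_ L'' (h V))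
      rw [opensRange_eq4385 coprod.inr (coprod.desc f f') f' (coprod.inr_desc f f'),
        Scheme.Opens.opensRange_ι]
      exact inf_le_left
  · rintro ⟨⟨-, h1⟩, ⟨-, h2⟩⟩
    refine ⟨inferInstance, fun V => ?_⟩
    haveI := compactSpace_preimage (coprod.desc f f') V.1 V.2
    apply isAmple_of_isCompl4385 (X ⨿ X') _ _ (isCompl_opensRange_inl_inr X X') L''
    · refine isAmple_restrict_of_opensRange_eq _ ((f ⁻¹ᵁ V.1).ι ≫ coprod.inl) ?_ L''
        ((isAmple_pullback_restrict_iff4385 coprod.inl (f ⁻¹ᵁ V.1).ι L'').mp (h1 V))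
      rw [opensRange_eq4385 coprod.inl (coprod.desc f f') f (coprod.inl_desc f f'),
        Scheme.Opens.opensRange_ι]
    · refine isAmple_restrict_of_opensRange_eq _ ((f' ⁻¹ᵁ V.1).ι ≫ coprod.inr) ?_ L''
        ((isAmple_pullback_restrict_iff4385 coprod.inr (f' ⁻¹ᵁ V.1).ι L'').mp (h2 V))
      rw [opensRange_eq4385 coprod.inr (coprod.desc f f') f' (coprod.inr_desc f f'),
        Scheme.Opens.opensRange_ι]

end Groth.Agent.S4385
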