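import Groth.Statements.S4388
import Groth.Agent.Lib.Helper3.PbAmple
import Groth.Agent.Lib.Helper3.QCPush
import Groth.Agent.Lib.Helper3.FreeSec

set_option autoImplicit false
universe u
open CategoryTheory CategoryTheory.Limits AlgebraicGeometry
open EGA2

namespace Groth.Agent.S4388

open Groth.Agent.Lib.Helper3 RelAmpleLib in
theorem quasiSeparated_of_isRelAmple4388 {X Y : Scheme.{u}} (f : X ⟶ Y) {L : X.Modules}
    (hL : RelAmple.IsRelAmple f L) : QuasiSeparated f := by
  rw [HasAffineProperty.eq_targetAffineLocally (P := @QuasiSeparated)]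
  intro V
  haveI := isSeparated_of_isAmple (hL.2 V)
  exact inferInstanceAs (QuasiSeparatedSpace ↥(f ⁻¹ᵁ V.1 : X.Opens).toScheme)

open Groth.Agent.Lib.Helper3 QCSec GlobGen in
theorem isGloballyGenerated_of_isAffine4388 {Z : Scheme.{u}} [IsAffine Z] (F : Z.Modules)
    [F.IsQuasicoherent] : Curv2.IsGloballyGenerated F := by
  apply isGloballyGenerated_of_span F (fun s : Γ(F, ⊤) => s)
  intro x
  refine ⟨⊤, isAffineOpen_top Z, trivial, ?_⟩
  rw [eq_top_iff]
  intro s _
  apply Submodule.subset_span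
  exact ⟨s, res_self F _ s⟩

set_option backward.isDefEq.respectTransparency.types false in
open Groth.Agent.Lib.Helper3 PbBasic in
theorem isGloballyGenerated_pullback4388 {X Y : Scheme.{u}} (q : X ⟶ Y) {N : Y.Modules}
    (h : Curv2.IsGloballyGenerated N) :
    Curv2.IsGloballyGenerated ((Scheme.Modules.pullback q).obj N) := by
  obtain ⟨I, p, hp⟩ := h
  haveI := Functor.preservesEpimorphisms_of_adjunction
    (Scheme.Modules.pullbackPushforwardAdjunction q)
  have h1 : Epi ((Scheme.Modules.pullback q).map p) :=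
    @Functor.map_epi _ _ _ _ (Scheme.Modules.pullback q) _ _ _ p hp
  exact ⟨I, (SheafOfModules.pullbackObjFreeIso q.toRingCatSheafHom I).inv ≫
    (Scheme.Modules.pullback q).map p, @epi_comp _ _ _ _ _ _ inferInstance _ h1⟩

open Groth.Agent.Lib.Helper3 PbBasic QCSec GlobGen in
theorem isGloballyGenerated_restrict_of_epi_counit4388 {X Y : Scheme.{u}} (f : X ⟶ Y)
    [QuasiCompact f] [QuasiSeparated f] (M : X.Modules) [M.IsQuasicoherent]
    (hepi : Epi ((Scheme.Modules.pullbackPushforwardAdjunction f).counit.app M))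
    (V : Y.Opens) (hV : IsAffineOpen V) :
    Curv2.IsGloballyGenerated (M.restrict (f ⁻¹ᵁ V).ι) := by
  haveI : IsAffine (V : Scheme.{u}) := hV
  haveI hN : ((Scheme.Modules.pushforward f).obj M).IsQuasicoherent :=
    isQuasicoherent_pushforward f M
  haveI : (((Scheme.Modules.pushforward f).obj M).restrict V.ι).IsQuasicoherent :=
    Scheme.Modules.isQuasicoherent_restrictFunctor V.ι _
  have h1 := isGloballyGenerated_of_isAffine4388
    (((Scheme.Modules.pushforward f).obj M).restrict V.ι)
  have h2 := isGloballyGenerated_pullback4388 (f ∣_ V) h1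
  have h3 := isGloballyGenerated_of_iso
    ((pbRestrict f V).app ((Scheme.Modules.pushforward f).obj M)).symm h2
  obtain ⟨I, p, hp⟩ := h3
  haveI := Functor.preservesEpimorphisms_of_adjunction
    (Scheme.Modules.restrictAdjunction (f ⁻¹ᵁ V).ι)
  have h4 : Epi ((Scheme.Modules.restrictFunctor (f ⁻¹ᵁ V).ι).map
      ((Scheme.Modules.pullbackPushforwardAdjunction f).counit.app M)) :=
    @Functor.map_epi _ _ _ _ (Scheme.Modules.restrictFunctor (f ⁻¹ᵁ V).ι) _ _ _ _ hepi
  exact ⟨I, p ≫ (Scheme.Modules.restrictFunctor (f ⁻¹ᵁ V).ι).map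
      ((Scheme.Modules.pullbackPushforwardAdjunction f).counit.app M),
    @epi_comp _ _ _ _ _ _ hp _ h4⟩

open Groth.Agent.Lib.Helper3 PbBasic QCSec GlobGen RelAmpleLib InvRestrict InvAmple InvGen InvCoh
  InvTensor FreeSec in

/-- Let f : X → Y be a quasi-compact morphism, L an O_X-module ample relative to f and L' an invertible
O_X-module such that, for some n > 0, the canonical morphism f^*(f_*(L'^{⊗n})) → L'^{⊗n} (counit of
the adjunction between f^* and f_*) is an epimorphism. Then L ⊗ L' is ample relative to f. -/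
theorem result {X Y : Scheme.{u}} (f : X ⟶ Y) [QuasiCompact f] (L L' : X.Modules)
    (hL : RelAmple.IsRelAmple f L) (hL' : PicF.IsInvertible L') (n : ℕ) (hn : 0 < n)
    (hepi : Epi ((Scheme.Modules.pullbackPushforwardAdjunction f).counit.app (CohB1.tensorPow L' n))) :
    RelAmple.IsRelAmple f (CohB1.tensorMod L L') := by
  haveI := quasiSeparated_of_isRelAmple4388 f hL
  obtain ⟨k, rfl⟩ : ∃ k, n = k + 1 := ⟨n - 1, by omega⟩
  have hMinv := isInvertible_tensorPow hL' (k + 1)
  haveI := isQuasicoherent_of_isInvertible hMinv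
  refine ⟨inferInstance, fun V => ?_⟩
  have hA := hL.2 V
  haveI := isSeparated_of_isAmple hA
  have hgg := isGloballyGenerated_restrict_of_epi_counit4388 f (CohB1.tensorPow L' (k + 1)) hepi
    V.1 V.2
  have hinvU : PicF.IsInvertible (L'.restrict (f ⁻¹ᵁ V.1).ι) := isInvertible_restrict _ hL'
  have h1 := isAmple_tensorMod_of_bpf hA hinvU (fun x => by
    obtain ⟨s, hs⟩ := exists_mem_genLocus_of_isGloballyGenerated
      (isInvertible_restrict (f ⁻¹ᵁ V.1).ι hMinv) hgg x
    refine ⟨k, s ≫ (restrictPowIso (f ⁻¹ᵁ V.1).ι L' (k + 1)).inv, ?_⟩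
    rw [genLocus_comp_iso]
    exact hs)
  exact isAmple_of_iso (restrictTensorIso _ L L') h1

end Groth.Agent.S4388
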