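import Groth.Statements.S4399
import Groth.Agent.Lib.Helper3.TwistBasic
import Groth.Agent.Lib.Helper3.InvRestrict

set_option autoImplicit false
universe u
open CategoryTheory CategoryTheory.Limits AlgebraicGeometry
open EGA2

namespace Groth.Agent.S4399

open Groth.Agent.Lib.Helper3 Groth.Agent.Lib.Helper3.InvGen Groth.Agent.Lib.Helper3.QCSec in

/-- Let S be a ring graded in nonnegative degrees, X = Proj S, d > 0, and U the union of the opens
D_+(f) for f running through S_d. Then for every integer n the restriction of the twisting sheaf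
O_X(nd) to U is an invertible O_U-module. -/
theorem result {R A : Type u} [CommRing R] [CommRing A] [Algebra R A] (𝒜 : ℕ → Submodule R A) [GradedAlgebra 𝒜]
    (d : ℕ) (hd : 0 < d) (n : ℤ) :
    PicF.IsInvertible ((Twist.twist 𝒜 (n * d)).restrict (⨆ f : 𝒜 d, Proj.basicOpen 𝒜 (f : A)).ι) := by
  set W : (Proj 𝒜).Opens := ⨆ f : 𝒜 d, Proj.basicOpen 𝒜 (f : A) with hW
  apply isInvertible_of_isGen
  intro x
  have hx : W.ι x ∈ W := by
    have h1 : W.ι x ∈ Set.range W.ι := Set.mem_range_self x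
    rw [Scheme.Opens.range_ι W] at h1
    exact h1
  obtain ⟨f, hxf⟩ := TopologicalSpace.Opens.mem_iSup.mp hx
  have hle : Proj.basicOpen 𝒜 (f : A) ≤ W := le_iSup (fun f : 𝒜 d => Proj.basicOpen 𝒜 (f : A)) f
  have hU : TwistBasic.HasUnitFrac (n * d) (W.ι ''ᵁ (W.ι ⁻¹ᵁ Proj.basicOpen 𝒜 (f : A))) :=
    (((TwistBasic.hasUnitFrac_basicOpen f.2).zsmul n)).mono (by
      rw [ι_image_preimage_of_le hle])
  obtain ⟨e, he⟩ := hU.exists_isGen
  refine ⟨W.ι ⁻¹ᵁ Proj.basicOpen 𝒜 (f : A), e, hxf, ?_⟩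
  exact (InvRestrict.isGen_restrict_iff W.ι _ _ _).mpr he

end Groth.Agent.S4399
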