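import Groth.Statements.S4401
import Groth.Agent.Lib.Helper3.TwistProj

set_option autoImplicit false
universe u
open CategoryTheory CategoryTheory.Limits AlgebraicGeometry
open EGA2

namespace Groth.Agent.S4401

open Groth.Agent.Lib.Helper3 Groth.Agent.Lib.Helper3.InvGen Groth.Agent.Lib.Helper3.QCSec
  Groth.Agent.Lib.Helper3.FreeBasis in
/-- sections which locally generate define an epimorphism from a free module -/
theorem epi_desc4401 {X : Scheme.{u}} (L : X.Modules) {k : ℕ} (σ : Fin k → Γ(L, ⊤))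
    (h : ∀ x : X, ∃ (i : Fin k) (U : X.Opens), x ∈ U ∧
      IsGen L U (res L (le_top : U ≤ ⊤) (σ i))) :
    Epi (Sigma.desc (fun i => InvAmple.globalHom L (σ i)) : FlatMod.freeMod X k ⟶ L) := by
  set p : FlatMod.freeMod X k ⟶ L := Sigma.desc (fun i => InvAmple.globalHom L (σ i)) with hp
  have hpi : ∀ i, inj X k i ≫ p = InvAmple.globalHom L (σ i) := fun i => by
    unfold inj
    rw [hp]
    exact Sigma.ι_desc _ _
  apply QCExact.epi_of_locally_surjective
  intro W s x hxW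
  obtain ⟨i, U, hxU, hg⟩ := h x
  refine ⟨W ⊓ U, inf_le_left, ⟨hxW, hxU⟩, ?_⟩
  obtain ⟨c, hc⟩ := (hg (W ⊓ U) inf_le_right).2 (res L inf_le_left s)
  refine ⟨c • bsec k i (W ⊓ U), ?_⟩
  rw [Scheme.Modules.Hom.app_smul]
  have h1 : p.app (W ⊓ U) (bsec k i (W ⊓ U)) = res L (le_top : W ⊓ U ≤ ⊤) (σ i) := by
    unfold bsec
    rw [← sec_comp, hpi, InvAmple.sec_globalHom]
  rw [h1, ← hc, res_res]

open Groth.Agent.Lib.Helper3 in

/-- Let S be a ring graded in nonnegative degrees whose irrelevant ideal S_+ is generated by finitely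
many elements of degree one, and X = Proj S. Then for every integer n ≥ 0 there exist an integer k
and an epimorphism of O_X-modules O_X^k → O_X(n). -/
theorem result {R A : Type u} [CommRing R] [CommRing A] [Algebra R A] (𝒜 : ℕ → Submodule R A) [GradedAlgebra 𝒜]
    (s : Finset A) (hs1 : ∀ f ∈ s, f ∈ 𝒜 1)
    (hs : (HomogeneousIdeal.irrelevant 𝒜).toIdeal = Ideal.span (s : Set A)) (n : ℕ) :
    ∃ (k : ℕ) (p : FlatMod.freeMod (Proj 𝒜) k ⟶ Twist.twist 𝒜 (n : ℤ)), Epi p := by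
  have hcov : ∀ x : Proj 𝒜, ∃ f : s, x ∈ Proj.basicOpen 𝒜 (f : A) := by
    intro x
    apply TwistProj.exists_mem_basicOpen_of_span (fun f : s => (f : A))
    rw [hs]
    apply Ideal.span_mono
    intro a ha
    exact ⟨⟨a, ha⟩, rfl⟩
  have hpow : ∀ f : s, (f : A) ^ n ∈ 𝒜 n := fun f => by
    have h1 : (f : A) ^ n ∈ 𝒜 (n • 1) := SetLike.pow_mem_graded n (hs1 f f.2)
    have h2 : n • 1 = n := by simp
    rwa [h2] at h1
  let e := s.equivFin
  let σ : Fin s.card → Γ(Twist.twist 𝒜 (n : ℤ), ⊤) := fun j =>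
    TwistProj.gsec (⟨((e.symm j : s) : A) ^ n, hpow (e.symm j)⟩ : 𝒜 n)
  refine ⟨s.card, Sigma.desc (fun i => InvAmple.globalHom _ (σ i)), ?_⟩
  apply epi_desc4401
  intro x
  obtain ⟨f, hxf⟩ := hcov x
  refine ⟨e f, Proj.basicOpen 𝒜 (f : A), hxf, ?_⟩
  apply TwistProj.isGen_res_gsec
  intro y hy
  change y ∈ Proj.basicOpen 𝒜 (((e.symm (e f) : s) : A) ^ n)
  rw [Equiv.symm_apply_apply]
  by_cases hn : n = 0
  · subst hn
    rw [pow_zero, Proj.basicOpen_one]
    trivial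
  · rw [Proj.basicOpen_pow 𝒜 (f : A) n (Nat.pos_of_ne_zero hn)]
    exact hy

end Groth.Agent.S4401
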