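import Groth.Statements.S4407
import Groth.Agent.Lib.Helper3.QCPush

set_option autoImplicit false
universe u
open CategoryTheory CategoryTheory.Limits AlgebraicGeometry
open EGA2

namespace Groth.Agent.S4407

open Groth.Agent.Lib.Helper3 Scheme.Modules

set_option backward.isDefEq.respectTransparency false in

/-- (a) ⇒ (e): let X be a quasi-affine scheme. Then every quasi-coherent O_X-module is generated by its
global sections (it is a quotient of a free O_X-module on some index set). -/
theorem result (X : Scheme.{u}) [X.IsQuasiAffine] (F : X.Modules)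
    (hF : Coh.IsQCoh F) : Curv2.IsGloballyGenerated F := by
  haveI : F.IsQuasicoherent := hF
  haveI hG : ((Scheme.Modules.pushforward X.toSpecΓ).obj F).IsQuasicoherent :=
    QCSec.isQuasicoherent_pushforward X.toSpecΓ F
  obtain ⟨P⟩ := QCProps.nonempty_presentation_of_isQuasicoherent
    ((Scheme.Modules.pushforward X.toSpecΓ).obj F)
  have : PreservesColimitsOfSize.{u, u} (restrictFunctor X.toSpecΓ) := inferInstance
  let σ' := P.generators.map (restrictFunctor X.toSpecΓ) (restrictUnitIso X.toSpecΓ).symm
  let e : (restrictFunctor X.toSpecΓ).obj ((Scheme.Modules.pushforward X.toSpecΓ).obj F) ≅ F :=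
    (restrictFunctorAdjCounitIso X.toSpecΓ).app F
  let σ'' := SheafOfModules.GeneratingSections.equivOfIso e σ'
  exact ⟨σ''.I, σ''.π, σ''.epi⟩

end Groth.Agent.S4407
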