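import Groth.Statements.S4408
import Groth.Agent.Lib.Helper3.IdealMod

set_option autoImplicit false
universe u
open CategoryTheory CategoryTheory.Limits AlgebraicGeometry
open EGA2

namespace Groth.Agent.S4408

open Groth.Agent.Lib.Helper3 Groth.Agent.Lib.Helper3.IdealMod Groth.Agent.Lib.Helper3.QCSec Groth.Agent.Lib.Helper3.InvGen in

/-- (e') ⇒ (a): let X be a quasi-compact separated scheme such that every quasi-coherent submodule of
finite type of O_X is generated by its global sections. Then X is quasi-affine. (The published
statement also allows X to be a scheme whose underlying space is Noetherian; this row assumes it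
quasi-compact and separated.) -/
theorem result (X : Scheme.{u}) [CompactSpace X] [X.IsSeparated]
    (h : ∀ (J : X.Modules) (i : J ⟶ Coh.structureModule X), Mono i → Coh.IsQCoh J → CohB1.IsFT J →
      Curv2.IsGloballyGenerated J) :
    X.IsQuasiAffine := by
  apply Scheme.IsQuasiAffine.of_forall_exists_mem_basicOpen
  intro x
  obtain ⟨U, hU, hxU⟩ := QCProps.exists_affine_nbhd x
  obtain ⟨J, j, hmono, hqc, hft, ⟨e, he⟩, hdisj⟩ := exists_finiteType_ideal hU
  haveI := hmono
  obtain ⟨σ, hσ⟩ := exists_global_of_isGloballyGenerated j (h J j hmono hqc hft) e he x hxU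
  exact ⟨valOf j σ, isAffineOpen_basicOpen_of_disjoint hU _ (hdisj ⊤ σ), hσ⟩

end Groth.Agent.S4408
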