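import Groth.Statements.S4409
import Groth.Agent.Lib.Helper3.QAffCrit

set_option autoImplicit false
universe u
open CategoryTheory CategoryTheory.Limits AlgebraicGeometry
open EGA2

namespace Groth.Agent.S4409

open Groth.Agent.Lib.Helper3 Groth.Agent.Lib.Helper3.QAffCrit Groth.Agent.Lib.Helper3.CounitGG in

/-- (a) ⇔ (d): let f : X → Y be a quasi-compact morphism. Then f is quasi-affine (the preimage of every
affine open of Y is a quasi-affine scheme) if and only if f is separated and, for every
quasi-coherent O_X-module F, the canonical morphism f^*(f_*(F)) → F (counit of the adjunction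
between f^* and f_*) is an epimorphism. -/
theorem result {X Y : Scheme.{u}} (f : X ⟶ Y) [QuasiCompact f] :
    Mor2.IsQuasiAffine f ↔ (IsSeparated f ∧ ∀ F : X.Modules, Coh.IsQCoh F →
      Epi ((Scheme.Modules.pullbackPushforwardAdjunction f).counit.app F)) := by
  constructor
  · intro h
    refine ⟨?_, fun F hF => ?_⟩
    · rw [HasAffineProperty.eq_targetAffineLocally (P := @IsSeparated)]
      intro V
      haveI := h.2 V.1 V.2
      exact inferInstanceAs (Scheme.IsSeparated ((f ⁻¹ᵁ V.1 : X.Opens) : Scheme.{u}))
    · apply epi_counit_of_isGloballyGenerated_restrict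
      intro x
      obtain ⟨V, hV, hxV⟩ := QCProps.exists_affine_nbhd (f x)
      refine ⟨V, hxV, ?_⟩
      haveI := h.2 V hV
      haveI : (F.restrict (f ⁻¹ᵁ V).ι).IsQuasicoherent :=
        Scheme.Modules.isQuasicoherent_restrictFunctor _ F
      exact isGloballyGenerated_of_isQuasiAffine _
  · rintro ⟨hsep, h⟩
    refine ⟨inferInstance, fun V hV => ?_⟩
    apply isQuasiAffine_of_forall_isGloballyGenerated_restrict _ (f.isCompact_preimage hV.isCompact)
    intro M hM
    exact isGloballyGenerated_restrict_of_epi_counit f M (h M hM) V hV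

end Groth.Agent.S4409
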