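import Groth.Statements.S4415
import Groth.Agent.Lib.Helper3.Chow2

set_option autoImplicit false
universe u
open CategoryTheory CategoryTheory.Limits AlgebraicGeometry
open EGA2

namespace Groth.Agent.S4415

/-- Let r : X → S be a separated morphism of finite type and assume either (a) S is Noetherian, or (b) S
is quasi-compact and separated and X has finitely many irreducible components. Then there exist a
scheme X' and a morphism f : X' → X such that: (i) X' is quasi-projective over S through f ≫ r, and
f is projective and surjective; (ii) for some open U of X the open f⁻¹(U) is dense in X' and f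
restricted over U is an isomorphism; (iii) X' is reduced (resp. irreducible, resp. integral) if X
is. -/
theorem result {X S : Scheme.{u}} (r : X ⟶ S) [IsSeparated r] [LocallyOfFiniteType r] [QuasiCompact r]
    (h : IsNoetherian S ∨ (CompactSpace S ∧ S.IsSeparated ∧ (irreducibleComponents X).Finite)) :
    ∃ (X' : Scheme.{u}) (f : X' ⟶ X),
      RelProj.IsQuasiProjective (f ≫ r) ∧ RelProj.IsProjective f ∧ Surjective f ∧
      (∃ U : X.Opens, Dense ((f ⁻¹ᵁ U : X'.Opens) : Set X') ∧ IsIso (f ∣_ U)) ∧
      (IsReduced X → IsReduced X') ∧ (IrreducibleSpace X → IrreducibleSpace X') ∧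
      (IsIntegral X → IsIntegral X') := by
  have key : ∃ (_ : CompactSpace S) (_ : QuasiSeparatedSpace S),
      (irreducibleComponents X).Finite := by
    rcases h with hN | ⟨hc, hs, hfin⟩
    · haveI := hN
      haveI : IsLocallyNoetherian X := LocallyOfFiniteType.isLocallyNoetherian r
      haveI : CompactSpace X := QuasiCompact.compactSpace_of_compactSpace r
      haveI : IsNoetherian X := {}
      exact ⟨inferInstance, inferInstance,
        TopologicalSpace.NoetherianSpace.finite_irreducibleComponents⟩
    · haveI := hs
      exact ⟨hc, inferInstance, hfin⟩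
  obtain ⟨hc, hqs, hfin⟩ := key
  obtain ⟨X', π, hqp, hp, hsurj, ⟨U, -, hdU', hiso⟩, hred, hirr⟩ :=
    Groth.Agent.Lib.Helper3.Chow2.chow' r hfin
  have hproj : RelProj.IsProjective π := by
    obtain ⟨n, i, hi, rfl⟩ := hp
    let i' : X' ⟶ Limits.pullback (CohB1.ProjSpace.toSpec n (ULift.{u} ℤ))
      (specULiftZIsTerminal.from X) := i
    haveI : IsClosedImmersion i' := hi
    exact Groth.Agent.Lib.Helper3.PEmb5.isProjective n i'
  refine ⟨X', π, Groth.Agent.Lib.Helper3.QProj.isQuasiProjective_of_isHQuasiProjective _ hqp,
    hproj, hsurj, ⟨U, hdU', hiso⟩, hred, hirr, ?_⟩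
  intro hint
  haveI := hint
  haveI : IsReduced X' := hred inferInstance
  haveI : IrreducibleSpace X' := hirr inferInstance
  exact isIntegral_of_irreducibleSpace_of_isReduced X'

end Groth.Agent.S4415
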