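import Groth.Statements.S4416
import Groth.Agent.Lib.Helper3.Chow2
import Groth.Agent.Lib.Helper3.ProjProper

set_option autoImplicit false
universe u
open CategoryTheory CategoryTheory.Limits AlgebraicGeometry
open EGA2

namespace Groth.Agent.S4416

/-- Let r : X → S be separated of finite type, and assume either S Noetherian, or S quasi-compact and
separated with X having finitely many irreducible components. Then r is proper if and only if there
are a scheme X' and a surjective morphism f : X' → X with f ≫ r projective. Moreover, when r is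
proper, f can be chosen so that in addition there is a dense open U of X with f⁻¹(U) dense in X'
over which f is an isomorphism, and with X' irreducible (resp. reduced) if X is. (The published
statement also remarks that f is then projective; that is not stated here.) -/
theorem result {X S : Scheme.{u}} (r : X ⟶ S) [IsSeparated r] [LocallyOfFiniteType r] [QuasiCompact r]
    (h : IsNoetherian S ∨ (CompactSpace S ∧ S.IsSeparated ∧ (irreducibleComponents X).Finite)) :
    (IsProper r ↔ ∃ (X' : Scheme.{u}) (f : X' ⟶ X), Surjective f ∧ RelProj.IsProjective (f ≫ r)) ∧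
    (IsProper r → ∃ (X' : Scheme.{u}) (f : X' ⟶ X), Surjective f ∧ RelProj.IsProjective (f ≫ r) ∧
        (∃ U : X.Opens, Dense (U : Set X) ∧ Dense ((f ⁻¹ᵁ U : X'.Opens) : Set X') ∧ IsIso (f ∣_ U)) ∧
        (IrreducibleSpace X → IrreducibleSpace X') ∧ (IsReduced X → IsReduced X')) := by
  have key : ∃ (_ : CompactSpace S) (_ : QuasiSeparatedSpace S),
      (irreducibleComponents X).Finite := by
    rcases h with hN | ⟨hc, hs, hfin⟩
    · haveI := hN
      haveI : IsLocallyNoetherian X := LocallyOfFiniteType.isLocallyNoetherian r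
      haveI : CompactSpace X := QuasiCompact.compactSpace_of_compactSpace r
      haveI : IsNoetherian X := {}
      exact ⟨inferInstance, inferInstance,
        TopologicalSpace.NoetherianSpace.finite_irreducibleComponents⟩
    · haveI := hs
      exact ⟨hc, inferInstance, hfin⟩
  obtain ⟨hc, hqs, hfin⟩ := key
  have main : IsProper r → ∃ (X' : Scheme.{u}) (f : X' ⟶ X), Surjective f ∧
      RelProj.IsProjective (f ≫ r) ∧
      (∃ U : X.Opens, Dense (U : Set X) ∧ Dense ((f ⁻¹ᵁ U : X'.Opens) : Set X') ∧
        IsIso (f ∣_ U)) ∧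
      (IrreducibleSpace X → IrreducibleSpace X') ∧ (IsReduced X → IsReduced X') := by
    intro hr
    haveI := hr
    obtain ⟨X', π, hqp, hp, hsurj, hU, hred, hirr⟩ :=
      Groth.Agent.Lib.Helper3.Chow2.chow' r hfin
    haveI : IsProper π := ((Groth.Agent.Lib.Helper3.QProj.isHProjective_iff π).mp hp).2
    have hproj : RelProj.IsHProjective (π ≫ r) :=
      (Groth.Agent.Lib.Helper3.QProj.isHProjective_iff (π ≫ r)).mpr ⟨hqp, inferInstance⟩
    refine ⟨X', π, hsurj, ?_, hU, hirr, hred⟩
    obtain ⟨n, i, hi, hcomp⟩ := hproj
    let i' : X' ⟶ Limits.pullback (CohB1.ProjSpace.toSpec n (ULift.{u} ℤ))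
      (specULiftZIsTerminal.from S) := i
    haveI : IsClosedImmersion i' := hi
    rw [← hcomp]
    exact Groth.Agent.Lib.Helper3.PEmb5.isProjective n i'
  refine ⟨⟨fun hr => ?_, ?_⟩, main⟩
  · obtain ⟨X', f, hs, hp, -⟩ := main hr
    exact ⟨X', f, hs, hp⟩
  · rintro ⟨X', f, hs, hp⟩
    obtain ⟨𝒮, P, p, chart, e, hgen, hft, hrel, he⟩ := hp
    haveI : IsProper p := Groth.Agent.Lib.Helper3.ProjProper.isProper_of_isGenDegOne hrel hgen hft
    haveI : IsProper (f ≫ r) := by
      rw [← he]
      infer_instance
    haveI := hs
    haveI : UniversallyClosed r := UniversallyClosed.of_comp_surjective f r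
    exact {}

end Groth.Agent.S4416
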