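import Groth.Statements.S4417
import Groth.Agent.S4385
import Groth.Agent.Lib.Helper3.PbAmple

set_option autoImplicit false
universe u
open CategoryTheory CategoryTheory.Limits AlgebraicGeometry
open EGA2

namespace Groth.Agent.S4417

open Groth.Agent.Lib.Helper3 InvGen InvRestrict in
theorem isInvertible_of_isRelAmple4417 {X Y : Scheme.{u}} (f : X ⟶ Y) {L : X.Modules}
    (hL : RelAmple.IsRelAmple f L) : PicF.IsInvertible L := by
  apply isInvertible_of_isGen
  intro x
  obtain ⟨V, hV, hxV⟩ := QCProps.exists_affine_nbhd (f x)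
  have hA := hL.2 ⟨V, hV⟩
  obtain ⟨V', e', hxV', hg'⟩ := exists_isGen hA.1 (⟨x, hxV⟩ : ↥(f ⁻¹ᵁ V))
  exact ⟨(f ⁻¹ᵁ V).ι ''ᵁ V', e', ⟨⟨x, hxV⟩, hxV', rfl⟩,
    (isGen_restrict_iff _ L V' e').mp hg'⟩

open Groth.Agent.Lib.Helper3 InvAmple in
theorem isRelAmple_of_iso4417 {X Y : Scheme.{u}} (f : X ⟶ Y) {L M : X.Modules} (e : L ≅ M)
    (hL : RelAmple.IsRelAmple f L) : RelAmple.IsRelAmple f M :=
  ⟨hL.1, fun V => isAmple_of_iso ((Scheme.Modules.restrictFunctor _).mapIso e) (hL.2 V)⟩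

theorem isZero_of_subsingleton4417 {X : Scheme.{u}} (M : X.Modules)
    (h : ∀ U : X.Opens, Subsingleton Γ(M, U)) : IsZero M := by
  rw [IsZero.iff_id_eq_zero]
  apply Scheme.Modules.hom_ext
  intro U
  ext x
  haveI := h U
  exact Subsingleton.elim _ _

/-- the restriction along `j` of a pushforward along `k` with disjoint range is zero -/
theorem isZero_restrict_pushforward4417 {X X' Z : Scheme.{u}} (j : X ⟶ Z) (k : X' ⟶ Z)
    [IsOpenImmersion j] (hd : Disjoint (Set.range j) (Set.range k)) (L' : X'.Modules) :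
    IsZero (((Scheme.Modules.pushforward k).obj L').restrict j) := by
  apply isZero_of_subsingleton4417
  intro U
  have h0 : k ⁻¹ᵁ (j ''ᵁ U) = ⊥ := by
    ext x
    simp only [TopologicalSpace.Opens.coe_bot, Set.mem_empty_iff_false, iff_false]
    rintro ⟨y, -, hy⟩
    exact Set.disjoint_iff_forall_ne.mp hd ⟨y, rfl⟩ ⟨x, rfl⟩ hy
  change Subsingleton Γ(L', k ⁻¹ᵁ (j ''ᵁ U))
  rw [h0]
  have hT := (TopCat.Sheaf.isTerminalOfEmpty ⟨L'.presheaf, L'.isSheaf⟩).isZero
  exact AddCommGrpCat.subsingleton_of_isZero hT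

open Scheme.Modules in
/-- the module on `X ⨿ X'` glued from `L` and `L'`, with its two restrictions -/
theorem exists_coprod_module4417 {X X' : Scheme.{u}} (L : X.Modules) (L' : X'.Modules) :
    ∃ L'' : (X ⨿ X').Modules,
      Nonempty ((Scheme.Modules.pullback (coprod.inl : X ⟶ X ⨿ X')).obj L'' ≅ L) ∧
      Nonempty ((Scheme.Modules.pullback (coprod.inr : X' ⟶ X ⨿ X')).obj L'' ≅ L') := by
  haveI := Limits.preservesBinaryBiproducts_of_preservesBinaryCoproducts
    (restrictFunctor (coprod.inl : X ⟶ X ⨿ X'))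
  haveI := Limits.preservesBinaryBiproducts_of_preservesBinaryCoproducts
    (restrictFunctor (coprod.inr : X' ⟶ X ⨿ X'))
  refine ⟨(pushforward (coprod.inl : X ⟶ X ⨿ X')).obj L ⊞
    (pushforward (coprod.inr : X' ⟶ X ⨿ X')).obj L', ⟨?_⟩, ⟨?_⟩⟩
  · refine ((restrictFunctorIsoPullback (coprod.inl : X ⟶ X ⨿ X')).app _).symm ≪≫
      (restrictFunctor (coprod.inl : X ⟶ X ⨿ X')).mapBiprod _ _ ≪≫
      (isoBiprodZero (isZero_restrict_pushforward4417 coprod.inl coprod.inr
        (isCompl_range_inl_inr X X').disjoint L')).symm ≪≫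
      (restrictFunctorAdjCounitIso (coprod.inl : X ⟶ X ⨿ X')).app L
  · refine ((restrictFunctorIsoPullback (coprod.inr : X' ⟶ X ⨿ X')).app _).symm ≪≫
      (restrictFunctor (coprod.inr : X' ⟶ X ⨿ X')).mapBiprod _ _ ≪≫
      (isoZeroBiprod (isZero_restrict_pushforward4417 coprod.inr coprod.inl
        (isCompl_range_inl_inr X X').disjoint.symm L)).symm ≪≫
      (restrictFunctorAdjCounitIso (coprod.inr : X' ⟶ X ⨿ X')).app L'

theorem locallyOfFiniteType_desc4417 {X X' Y : Scheme.{u}} (f : X ⟶ Y) (f' : X' ⟶ Y)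
    [LocallyOfFiniteType f] [LocallyOfFiniteType f'] :
    LocallyOfFiniteType (coprod.desc f f') := by
  rw [IsZariskiLocalAtSource.iff_of_openCover (P := @LocallyOfFiniteType)
    (coprodOpenCover.{u, 0} X X')]
  rintro (i | i)
  · change LocallyOfFiniteType (coprod.inl ≫ coprod.desc f f')
    rw [coprod.inl_desc]
    infer_instance
  · change LocallyOfFiniteType (coprod.inr ≫ coprod.desc f f')
    rw [coprod.inr_desc]
    infer_instance

open Groth.Agent.Lib.Helper3 PbBasic in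

/-- Let f : X → Y and f' : X' → Y be quasi-projective morphisms (of finite type, each admitting a
relatively ample module). Then the morphism X ⨿ X' → Y restricting to f and f' on the two summands
is quasi-projective. -/
theorem result {X X' Y : Scheme.{u}} (f : X ⟶ Y) (f' : X' ⟶ Y)
    (hf : RelProj.IsQuasiProjective f) (hf' : RelProj.IsQuasiProjective f') :
    RelProj.IsQuasiProjective (coprod.desc f f') := by
  obtain ⟨hft, hqc, L, hL⟩ := hf
  obtain ⟨hft', hqc', L', hL'⟩ := hf'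
  obtain ⟨L'', ⟨e₁⟩, ⟨e₂⟩⟩ := exists_coprod_module4417 L L'
  have h1 := isRelAmple_of_iso4417 f e₁.symm hL
  have h2 := isRelAmple_of_iso4417 f' e₂.symm hL'
  refine ⟨locallyOfFiniteType_desc4417 f f', Groth.Agent.S4385.quasiCompact_desc4385 f f', L'', ?_⟩
  exact (Groth.Agent.S4385.result f f' L'' (isInvertible_of_isRelAmple4417 f h1)
    (isInvertible_of_isRelAmple4417 f' h2)).mpr ⟨h1, h2⟩

end Groth.Agent.S4417
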