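import Groth.Statements.S4420
import Groth.Agent.S4414
import Groth.Agent.S4418
import Groth.Agent.S4419
import Groth.Agent.Lib.Helper3.QProj

set_option autoImplicit false
universe u
open CategoryTheory CategoryTheory.Limits AlgebraicGeometry
open EGA2

namespace Groth.Agent.S4420

/-- Let Y be a quasi-compact separated scheme possessing an ample invertible O_Y-module and f : X → Y a
morphism. Then f is projective if and only if there are r ≥ 0 and a closed immersion of X into
projective r-space over Y compatible with the projections (f is H-projective). -/
theorem result {X Y : Scheme.{u}} [CompactSpace Y] [Y.IsSeparated]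
    (hY : ∃ M : Y.Modules, CohB1.IsAmple M) (f : X ⟶ Y) :
    RelProj.IsProjective f ↔ RelProj.IsHProjective f := by
  constructor
  · intro hf
    obtain ⟨hq, hp⟩ := Groth.Agent.S4418.result f hf
    haveI := hp
    obtain ⟨-, -, r, i, hi, hif⟩ := (Groth.Agent.S4414.result hY f).mp hq
    haveI := hi
    haveI : IsProper (CohB1.ProjSpaceOver.toBase r Y) := by
      unfold CohB1.ProjSpaceOver.toBase
      exact MorphismProperty.pullback_snd (P := @IsProper) _ _
        (Groth.Agent.Lib.Helper3.QProj.isProper_toSpec _ r)
    haveI : IsProper (i ≫ CohB1.ProjSpaceOver.toBase r Y) := by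
      rw [hif]
      infer_instance
    haveI : IsProper i := IsProper.of_comp i (CohB1.ProjSpaceOver.toBase r Y)
    haveI : IsClosedImmersion i :=
      IsClosedImmersion.of_isPreimmersion i i.isClosedMap.isClosed_range
    exact ⟨r, i, inferInstance, hif⟩
  · rintro ⟨n, i, hi, hif⟩
    haveI := hi
    haveI : IsProper (CohB1.ProjSpaceOver.toBase n Y) := by
      unfold CohB1.ProjSpaceOver.toBase
      exact MorphismProperty.pullback_snd (P := @IsProper) _ _
        (Groth.Agent.Lib.Helper3.QProj.isProper_toSpec _ n)
    haveI : IsProper f := by
      rw [← hif]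
      infer_instance
    have hq : RelProj.IsQuasiProjective f :=
      (Groth.Agent.S4414.result hY f).mpr ⟨inferInstance, inferInstance, n, i, inferInstance, hif⟩
    exact Groth.Agent.S4419.result (Or.inl ⟨inferInstance, inferInstance⟩) f hq

end Groth.Agent.S4420
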