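import Groth.Statements.S4421
import Groth.Agent.Lib.Helper3.CPb
import Groth.Agent.Lib.Helper3.SymFT
import Groth.Agent.Lib.Helper3.DegOneFT
import Groth.Agent.Lib.Helper3.SymQHom
import Groth.Agent.Lib.Helper3.SymGenProj
import Groth.Agent.Lib.Helper3.RelProjExist
import Groth.Agent.Lib.Helper17.PbFinite

set_option autoImplicit false
universe u
open CategoryTheory CategoryTheory.Limits AlgebraicGeometry
open EGA2

namespace Groth.Agent.S4421

/-- Let f : X → Y be a projective morphism and g : Y' → Y any morphism. Then the base change X ×_Y Y' →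
Y' of f is projective. -/
theorem result {X Y Y' : Scheme.{u}} (f : X ⟶ Y) (hf : RelProj.IsProjective f) (g : Y' ⟶ Y) :
    RelProj.IsProjective (pullback.snd f g) := by
  obtain ⟨𝒮, P, p, chart, e, hgen, hft, hP, he⟩ := hf
  obtain ⟨E, 𝒯, j, PT, pT, chartT, h, hEq, hEft, hj, hPT, hh, hhp⟩ :=
    Groth.Agent.Lib.Helper3.DegOneFT.exists_closedImmersion_projBundle 𝒮 p chart hP hgen hft
  haveI := hEq
  haveI := hEft
  haveI := hh
  haveI hE'q : ((Scheme.Modules.pullback g).obj E).IsQuasicoherent :=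
    Groth.Agent.Lib.Helper17.PbStalk.isQuasicoherent_pullback g E
  haveI hE'ft : ((Scheme.Modules.pullback g).obj E).IsFiniteType :=
    Groth.Agent.Lib.Helper17.PbFinite.isFiniteType_pullback g E
  obtain ⟨𝒯', j', hj'⟩ :=
    Groth.Agent.Lib.Helper3.SymGr.exists_isGrSymAlg ((Scheme.Modules.pullback g).obj E)
  obtain ⟨PT', pT', chartT', hPT'⟩ := Groth.Agent.Lib.Helper3.RelProjExist.exists_isRelProj 𝒯'
  obtain ⟨G, hG⟩ := Groth.Agent.Lib.Helper3.SymQHom.exists_isPullback_projBundle g hj hj'
    pT chartT hPT pT' chartT' hPT'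
  have hgen' := Groth.Agent.Lib.Helper3.SymGenProj.isGenDegOne hj'
  have hft' := Groth.Agent.Lib.Helper3.SymFT.isFTDeg_one hj'
  have hw : (pullback.fst f g ≫ e.hom ≫ h) ≫ pT = pullback.snd f g ≫ g := by
    rw [Category.assoc, Category.assoc, hhp, he, pullback.condition]
  let i' : pullback f g ⟶ PT' := hG.lift (pullback.fst f g ≫ e.hom ≫ h) (pullback.snd f g) hw
  have hi'1 : i' ≫ G = pullback.fst f g ≫ e.hom ≫ h := hG.lift_fst _ _ _
  have hi'2 : i' ≫ pT' = pullback.snd f g := hG.lift_snd _ _ _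
  have hf' : (e.hom ≫ h) ≫ pT = f := by rw [Category.assoc, hhp, he]
  have hsq : IsPullback i' (pullback.fst f g) G (e.hom ≫ h) := by
    refine IsPullback.of_right ?_ hi'1 hG.flip
    rw [hi'2, hf']
    exact (IsPullback.of_hasPullback f g).flip
  haveI : IsClosedImmersion (e.hom ≫ h) := inferInstance
  haveI : IsClosedImmersion i' :=
    MorphismProperty.of_isPullback (P := @IsClosedImmersion) hsq.flip inferInstance
  have key := Groth.Agent.Lib.Helper3.CPb.isProjective 𝒯' pT' chartT' i' hPT' hgen' hft'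
  rwa [hi'2] at key

end Groth.Agent.S4421
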