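import Groth.Statements.S4422
import Groth.Agent.S4421
import Groth.Agent.Lib.Helper3.ProjProd

set_option autoImplicit false
universe u
open CategoryTheory CategoryTheory.Limits AlgebraicGeometry
open EGA2

namespace Groth.Agent.S4422

/-- Let a : Y → S and a' : Y' → S be morphisms and f : X → Y, f' : X' → Y' projective morphisms (so X
and X' are S-schemes through f ≫ a and f' ≫ a'). Then the product f ×_S f' : X ×_S X' → Y ×_S Y' is
projective. -/
theorem result {X X' Y Y' S : Scheme.{u}} (a : Y ⟶ S) (a' : Y' ⟶ S) (f : X ⟶ Y) (f' : X' ⟶ Y')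
    (hf : RelProj.IsProjective f) (hf' : RelProj.IsProjective f') :
    RelProj.IsProjective (pullback.map (f ≫ a) (f' ≫ a') a a' f f' (𝟙 S) (Category.comp_id (f ≫ a)) (Category.comp_id (f' ≫ a'))) := by
  have h₁ : RelProj.IsProjective (pullback.snd f (pullback.fst a a')) :=
    Groth.Agent.S4421.result f hf (pullback.fst a a')
  have h₂ : RelProj.IsProjective (pullback.snd f' (pullback.snd a a')) :=
    Groth.Agent.S4421.result f' hf' (pullback.snd a a')
  have key := Groth.Agent.Lib.Helper3.ProjProd.isProjective_fibreProd _ _ h₁ h₂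
  -- the pasting
  have S0 : IsPullback (pullback.fst a a') (pullback.snd a a') a a' := IsPullback.of_hasPullback a a'
  have S1 : IsPullback (pullback.fst f (pullback.fst a a')) (pullback.snd f (pullback.fst a a')) f
      (pullback.fst a a') := IsPullback.of_hasPullback _ _
  have S2 : IsPullback (pullback.fst f' (pullback.snd a a')) (pullback.snd f' (pullback.snd a a'))
      f' (pullback.snd a a') := IsPullback.of_hasPullback _ _
  have S3 : IsPullback
      (pullback.fst (pullback.snd f (pullback.fst a a')) (pullback.snd f' (pullback.snd a a')))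
      (pullback.snd (pullback.snd f (pullback.fst a a')) (pullback.snd f' (pullback.snd a a')))
      (pullback.snd f (pullback.fst a a')) (pullback.snd f' (pullback.snd a a')) :=
    IsPullback.of_hasPullback _ _
  have T1 := S1.flip.paste_horiz S0.flip
  have T2 := S3.flip.paste_horiz S2
  have T := (T2.paste_vert T1).flip
  have hF1 : pullback.map (f ≫ a) (f' ≫ a') a a' f f' (𝟙 S) (Category.comp_id (f ≫ a))
      (Category.comp_id (f' ≫ a')) ≫ pullback.fst a a' = pullback.fst _ _ ≫ f :=
    pullback.lift_fst _ _ _
  have hF2 : pullback.map (f ≫ a) (f' ≫ a') a a' f f' (𝟙 S) (Category.comp_id (f ≫ a))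
      (Category.comp_id (f' ≫ a')) ≫ pullback.snd a a' = pullback.snd _ _ ≫ f' :=
    pullback.lift_snd _ _ _
  have hcomp : T.isoPullback.hom ≫ pullback.map (f ≫ a) (f' ≫ a') a a' f f' (𝟙 S)
      (Category.comp_id (f ≫ a)) (Category.comp_id (f' ≫ a')) =
      pullback.fst (pullback.snd f (pullback.fst a a')) (pullback.snd f' (pullback.snd a a')) ≫
        pullback.snd f (pullback.fst a a') := by
    apply pullback.hom_ext
    · rw [Category.assoc, hF1, ← Category.assoc, T.isoPullback_hom_fst, Category.assoc,
        Category.assoc, S1.w]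
    · rw [Category.assoc, hF2, ← Category.assoc, T.isoPullback_hom_snd, Category.assoc,
        Category.assoc, S2.w, ← Category.assoc, ← Category.assoc, S3.w]
  obtain ⟨𝒮, P, p, chart, e', hgen, hft, hP, he'⟩ := key
  refine ⟨𝒮, P, p, chart, T.isoPullback.symm ≪≫ e', hgen, hft, hP, ?_⟩
  rw [Iso.trans_hom, Iso.symm_hom, Category.assoc, he', ← hcomp, Iso.inv_hom_id_assoc]

end Groth.Agent.S4422
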