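import Groth.Statements.S4423
import Groth.Agent.Lib.Helper3.CPb
import Groth.Agent.S4421

set_option autoImplicit false
universe u
open CategoryTheory CategoryTheory.Limits AlgebraicGeometry
open EGA2

namespace Groth.Agent.S4423

/-- Let f : X → Y and g : Y → Z be morphisms with f ≫ g projective and g separated. Then f is
projective. -/
theorem result {X Y Z : Scheme.{u}} (f : X ⟶ Y) (g : Y ⟶ Z) [IsSeparated g]
    (h : RelProj.IsProjective (f ≫ g)) : RelProj.IsProjective f := by
  have h1 : RelProj.IsProjective (pullback.snd (f ≫ g) g) := Groth.Agent.S4421.result (f ≫ g) h g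
  obtain ⟨𝒮, P, p, chart, e, hgen, hft, hP, he⟩ := h1
  haveI : IsClosedImmersion (pullback.lift (𝟙 _) f (Category.id_comp (f ≫ g)) ≫ e.hom) :=
    inferInstance
  have key := Groth.Agent.Lib.Helper3.CPb.isProjective 𝒮 p chart
    (pullback.lift (𝟙 _) f (Category.id_comp (f ≫ g)) ≫ e.hom) hP hgen hft
  have hk : (pullback.lift (𝟙 _) f (Category.id_comp (f ≫ g)) ≫ e.hom) ≫ p = f := by
    rw [Category.assoc, he]
    exact pullback.lift_snd _ _ _
  rwa [hk] at key

end Groth.Agent.S4423
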