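import Groth.Statements.S4425
import Groth.Agent.Lib.Helper3.VAFin
import Groth.Agent.Lib.Helper3.AmpleMisc
import Groth.Agent.Lib.Helper3.CPb
import Groth.Agent.Lib.Helper3.SymFT
import Groth.Agent.Lib.Helper3.ProjProper
import Groth.Agent.Lib.Helper3.DegOneBundle
import Groth.Agent.Lib.Helper3.GrTwistGen
import Groth.Agent.Lib.Helper3.PbBasic
import Groth.Agent.Lib.Helper3.RelAmpleLib
import Groth.Agent.Lib.Helper3.VARel
import Groth.Agent.S12478
import Groth.Agent.S9719

set_option autoImplicit false
universe u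
open CategoryTheory CategoryTheory.Limits AlgebraicGeometry
open EGA2

namespace Groth.Agent.S4425

/-- (a) ⇔ (c): let Y be a quasi-compact separated scheme and f : X → Y a morphism. Then f is
quasi-projective if and only if f is of finite type and there are a quasi-coherent graded
O_Y-algebra 𝒮, generated by its degree-one part with that part of finite type, a relative
homogeneous spectrum p : P → Y of 𝒮 (given with its charts over affine opens), and an open immersion
j : X → P with dense image such that j ≫ p = f. (The published statement also allows Y whose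
underlying space is Noetherian, and adds a third equivalent condition, an immersion into some P(E);
this row assumes Y quasi-compact and separated and states only the equivalence of the other two.) -/
theorem result {X Y : Scheme.{u}} [CompactSpace Y] [Y.IsSeparated] (f : X ⟶ Y) :
    RelProj.IsQuasiProjective f ↔
      (LocallyOfFiniteType f ∧ QuasiCompact f ∧
        ∃ (𝒮 : RelProj.QCGrAlg Y) (P : Scheme.{u}) (p : P ⟶ Y)
          (chart : ∀ (U : Y.Opens) (hU : IsAffineOpen U), ((p ⁻¹ᵁ U : P.Opens) : Scheme.{u}) ≅ Proj (𝒮.deg U hU))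
          (j : X ⟶ P), 𝒮.IsGenDegOne ∧ 𝒮.IsFTDeg 1 ∧ RelProj.IsRelProj 𝒮 p chart ∧
            IsOpenImmersion j ∧ Dense (Set.range j.base) ∧ j ≫ p = f) := by
  constructor
  · rintro ⟨hft, hqc, L, hL⟩
    haveI := hft
    haveI := hqc
    refine ⟨hft, hqc, ?_⟩
    have hLinv : PicF.IsInvertible L :=
      Groth.Agent.Lib.Helper3.AmpleMisc.isInvertible_of_isRelAmple f hL
    obtain ⟨n₀, -, hn₀⟩ := Groth.Agent.S12478.result f L hLinv hL
    obtain ⟨E, 𝒯, j, P, p, chart, O1, lam, i, hEq, hEft, hj, hP, -, hi, hip, -⟩ :=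
      Groth.Agent.Lib.Helper3.VAFin.exists_finiteType_immersion f (CohB1.tensorPow L n₀)
        (Groth.Agent.Lib.Helper3.InvTensor.isInvertible_tensorPow hLinv n₀) (hn₀ n₀ le_rfl)
    haveI := hEq
    haveI := hEft
    haveI := hi
    have hgen := Groth.Agent.Lib.Helper3.SymGenProj.isGenDegOne hj
    have hftd := Groth.Agent.Lib.Helper3.SymFT.isFTDeg_one hj
    haveI : IsProper p :=
      Groth.Agent.Lib.Helper3.ProjProper.isProper_of_isGenDegOne hP hgen hftd
    haveI : QuasiCompact (i ≫ p) := by
      rw [hip]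
      infer_instance
    haveI : QuasiCompact i := QuasiCompact.of_comp i p
    refine ⟨Groth.Agent.Lib.Helper3.CPb.ℬ 𝒯 p chart i.imageι hP hgen hftd, _, i.imageι ≫ p,
      Groth.Agent.Lib.Helper3.CPb.chartB 𝒯 p chart i.imageι hP hgen hftd, i.toImage,
      Groth.Agent.Lib.Helper3.CPb.isGenDegOne 𝒯 p chart i.imageι hP hgen hftd,
      Groth.Agent.Lib.Helper3.CPb.isFTDeg 𝒯 p chart i.imageι hP hgen hftd,
      Groth.Agent.Lib.Helper3.CPb.isRelProj 𝒯 p chart i.imageι hP hgen hftd,
      inferInstance, i.toImage.denseRange, ?_⟩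
    rw [← Category.assoc, i.toImage_imageι, hip]
  · rintro ⟨hft, hqc, 𝒮, P, p, chart, j, hgen, hftd, hP, hj, -, hjp⟩
    haveI := hft
    haveI := hqc
    haveI := hj
    refine ⟨hft, hqc, ?_⟩
    obtain ⟨O1, lam, hO1⟩ := Groth.Agent.Lib.Helper3.RelTwistExist.exists_isRelTwist hP 1
    have hO1inv : PicF.IsInvertible O1 :=
      Groth.Agent.Lib.Helper3.GrTwistGen.isInvertible_of_isRelTwist 𝒮 p chart hgen _ O1 lam
        hO1.bijective
    have hLinv : PicF.IsInvertible ((Scheme.Modules.pullback j).obj O1) :=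
      Groth.Agent.Lib.Helper3.PbBasic.isInvertible_pullback j hO1inv
    have hva : RelProj.IsRelVeryAmple f ((Scheme.Modules.pullback j).obj O1) :=
      Groth.Agent.Lib.Helper3.DegOneBundle.isRelVeryAmple_of_genDegOne 𝒮 f _ hgen p chart hP O1 lam
        hO1 j hjp (Iso.refl _)
    obtain ⟨ι, V, hV, hVA⟩ := Groth.Agent.S9719.result f _ hLinv hva
    refine ⟨(Scheme.Modules.pullback j).obj O1, ?_⟩
    rw [Groth.Agent.Lib.Helper3.RelAmpleLib.isRelAmple_iff_of_openCover f _ V hV]
    intro k
    exact Groth.Agent.Lib.Helper3.VARel.isRelAmple_of_isRelVeryAmplePn _ (hVA k)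

end Groth.Agent.S4425
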