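import Groth.Statements.S4428
import Groth.Agent.Lib.Helper3.PbAmple
import Groth.Agent.Lib.Helper3.AmpleMisc

set_option autoImplicit false
universe u
open CategoryTheory CategoryTheory.Limits AlgebraicGeometry
open EGA2

namespace Groth.Agent.S4428

open Groth.Agent.Lib.Helper3 QCSec InvGen InvAmple InvRestrict InvMonoidal PbBasic PbAmple RelAmpleLib in
/-- the external tensor product restricted to a product of opens lying over an affine open of the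
base is ample, if the factors are ample on these opens -/
theorem isAmple_restrict_externalTensor4428 {X₁ X₂ S : Scheme.{u}} (g₁ : X₁ ⟶ S) (g₂ : X₂ ⟶ S)
    (L₁ : X₁.Modules) (L₂ : X₂.Modules) (S' : S.Opens) (hS' : IsAffineOpen S')
    (U₁ : X₁.Opens) (U₂ : X₂.Opens) (h₁ : U₁ ≤ g₁ ⁻¹ᵁ S') (h₂ : U₂ ≤ g₂ ⁻¹ᵁ S')
    (hA₁ : CohB1.IsAmple (L₁.restrict U₁.ι)) (hA₂ : CohB1.IsAmple (L₂.restrict U₂.ι)) :
    CohB1.IsAmple ((CohB1.tensorMod ((Scheme.Modules.pullback (pullback.fst g₁ g₂)).obj L₁)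
      ((Scheme.Modules.pullback (pullback.snd g₁ g₂)).obj L₂)).restrict
        (pullback.map (g₁.resLE S' U₁ h₁) (g₂.resLE S' U₂ h₂) g₁ g₂ U₁.ι U₂.ι S'.ι
          (by simp) (by simp))) := by
  haveI : IsAffine (S' : Scheme.{u}) := hS'
  set jP := pullback.map (g₁.resLE S' U₁ h₁) (g₂.resLE S' U₂ h₂) g₁ g₂ U₁.ι U₂.ι S'.ι
    (by simp) (by simp) with hjP
  have e₁ : jP ≫ pullback.fst g₁ g₂ =
      pullback.fst (g₁.resLE S' U₁ h₁) (g₂.resLE S' U₂ h₂) ≫ U₁.ι := by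
    rw [hjP]; exact pullback.lift_fst _ _ _
  have e₂ : jP ≫ pullback.snd g₁ g₂ =
      pullback.snd (g₁.resLE S' U₁ h₁) (g₂.resLE S' U₂ h₂) ≫ U₂.ι := by
    rw [hjP]; exact pullback.lift_snd _ _ _
  have hA := isAmple_tensor_pullback (g₁.resLE S' U₁ h₁) (g₂.resLE S' U₂ h₂) hA₁ hA₂
  refine isAmple_of_iso ?_ hA
  exact tensorMapIso (pbSquare _ jP U₁.ι _ e₁ L₁).symm (pbSquare _ jP U₂.ι _ e₂ L₂).symm ≪≫
    restrictTensorIso jP _ _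

open Groth.Agent.Lib.Helper3 QCSec InvGen InvAmple InvRestrict InvMonoidal PbBasic PbAmple RelAmpleLib in

/-- Let a₁ : Y₁ → S and a₂ : Y₂ → S be morphisms, f₁ : X₁ → Y₁ and f₂ : X₂ → Y₂ quasi-compact morphisms
(so X₁, X₂ are S-schemes through f_i ≫ a_i), and L₁, L₂ modules on X₁, X₂ ample relative to f₁, f₂.
Then the external tensor product p₁^*(L₁) ⊗ p₂^*(L₂) on X₁ ×_S X₂ (p₁, p₂ the projections) is ample
relative to the product morphism f₁ ×_S f₂ : X₁ ×_S X₂ → Y₁ ×_S Y₂. -/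
theorem result {X₁ X₂ Y₁ Y₂ S : Scheme.{u}} (a₁ : Y₁ ⟶ S) (a₂ : Y₂ ⟶ S)
    (f₁ : X₁ ⟶ Y₁) (f₂ : X₂ ⟶ Y₂) [QuasiCompact f₁] [QuasiCompact f₂] (L₁ : X₁.Modules) (L₂ : X₂.Modules)
    (hL₁ : RelAmple.IsRelAmple f₁ L₁) (hL₂ : RelAmple.IsRelAmple f₂ L₂) :
    RelAmple.IsRelAmple
      (pullback.map (f₁ ≫ a₁) (f₂ ≫ a₂) a₁ a₂ f₁ f₂ (𝟙 S) (Category.comp_id (f₁ ≫ a₁)) (Category.comp_id (f₂ ≫ a₂)))
      (CohB1.tensorMod ((Scheme.Modules.pullback (pullback.fst (f₁ ≫ a₁) (f₂ ≫ a₂))).obj L₁)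
        ((Scheme.Modules.pullback (pullback.snd (f₁ ≫ a₁) (f₂ ≫ a₂))).obj L₂)) := by
  set F := pullback.map (f₁ ≫ a₁) (f₂ ≫ a₂) a₁ a₂ f₁ f₂ (𝟙 S) (Category.comp_id (f₁ ≫ a₁))
    (Category.comp_id (f₂ ≫ a₂)) with hF
  haveI hqc : QuasiCompact F :=
    MorphismProperty.pullbackMap (P := @QuasiCompact) ‹QuasiCompact f₁› ‹QuasiCompact f₂› rfl rfl
  have hF₁ : F ≫ pullback.fst a₁ a₂ = pullback.fst (f₁ ≫ a₁) (f₂ ≫ a₂) ≫ f₁ := by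
    rw [hF]; exact pullback.lift_fst _ _ _
  have hF₂ : F ≫ pullback.snd a₁ a₂ = pullback.snd (f₁ ≫ a₁) (f₂ ≫ a₂) ≫ f₂ := by
    rw [hF]; exact pullback.lift_snd _ _ _
  refine ⟨hqc, fun Wq => ?_⟩
  apply isAmple_restrict_preimage_of_basicOpen_cover F _ Wq.1 Wq.2
  intro q hq
  obtain ⟨S', hS', hsS'⟩ := QCProps.exists_affine_nbhd (a₁ (pullback.fst a₁ a₂ q))
  have hsS'₂ : a₂ (pullback.snd a₁ a₂ q) ∈ S' := by
    rw [← Scheme.Hom.comp_apply, ← pullback.condition, Scheme.Hom.comp_apply]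
    exact hsS'
  obtain ⟨_, ⟨V₁, hV₁, rfl⟩, hqV₁, hV₁S'⟩ := Y₁.isBasis_affineOpens.exists_subset_of_mem_open
    (show pullback.fst a₁ a₂ q ∈ ((a₁ ⁻¹ᵁ S' : Y₁.Opens) : Set Y₁) from hsS') (a₁ ⁻¹ᵁ S').isOpen
  obtain ⟨_, ⟨V₂, hV₂, rfl⟩, hqV₂, hV₂S'⟩ := Y₂.isBasis_affineOpens.exists_subset_of_mem_open
    (show pullback.snd a₁ a₂ q ∈ ((a₂ ⁻¹ᵁ S' : Y₂.Opens) : Set Y₂) from hsS'₂) (a₂ ⁻¹ᵁ S').isOpen
  obtain ⟨g, hgle, hqg⟩ := Wq.2.exists_basicOpen_le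
    (V := (pullback.fst a₁ a₂ ⁻¹ᵁ V₁ ⊓ pullback.snd a₁ a₂ ⁻¹ᵁ V₂) ⊓ Wq.1) ⟨q, ⟨⟨hqV₁, hqV₂⟩, hq⟩⟩ hq
  refine ⟨g, hqg, ?_⟩
  have h₁ : f₁ ⁻¹ᵁ V₁ ≤ (f₁ ≫ a₁) ⁻¹ᵁ S' := fun x hx => hV₁S' hx
  have h₂ : f₂ ⁻¹ᵁ V₂ ≤ (f₂ ≫ a₂) ⁻¹ᵁ S' := fun x hx => hV₂S' hx
  have hA := isAmple_restrict_externalTensor4428 (f₁ ≫ a₁) (f₂ ≫ a₂) L₁ L₂ S' hS'
    (f₁ ⁻¹ᵁ V₁) (f₂ ⁻¹ᵁ V₂) h₁ h₂ (hL₁.2 ⟨V₁, hV₁⟩) (hL₂.2 ⟨V₂, hV₂⟩)
  haveI : CompactSpace ((F ⁻¹ᵁ (pullback a₁ a₂).basicOpen g : (pullback (f₁ ≫ a₁) (f₂ ≫ a₂)).Opens) : Scheme.{u}) :=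
    compactSpace_preimage F _ (Wq.2.basicOpen g)
  refine isAmple_restrict_of_le _ _ ?_ _ hA
  intro z hz
  rw [Scheme.Opens.opensRange_ι] at hz
  have hz' := hgle hz
  change z ∈ Set.range _
  rw [Scheme.Pullback.range_map]
  constructor
  · simp only [Scheme.Opens.range_ι, Set.mem_preimage, SetLike.mem_coe]
    have := hz'.1.1
    change (F ≫ pullback.fst a₁ a₂) z ∈ V₁ at this
    rw [hF₁] at this
    exact this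
  · simp only [Scheme.Opens.range_ι, Set.mem_preimage, SetLike.mem_coe]
    have := hz'.1.2
    change (F ≫ pullback.snd a₁ a₂) z ∈ V₂ at this
    rw [hF₂] at this
    exact this

end Groth.Agent.S4428
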