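import Groth.Statements.S4435
import Groth.Agent.S2347
-- import your own Groth.Agent.* helpers here

set_option autoImplicit false
universe u
open CategoryTheory CategoryTheory.Limits AlgebraicGeometry
open EGA2

namespace Groth.Agent.S4435

open Groth.Agent.Lib.Helper12 Function TopologicalSpace
open scoped nonZeroDivisors

/-- Fraction fields of an integral (resp. finite) extension of domains. -/
theorem alg_lemma (A B KS KX : Type*) [CommRing A] [IsDomain A] [CommRing B] [IsDomain B]
    [Algebra A B] [Algebra.IsIntegral A B] [CommRing KS] [CommRing KX] [Algebra A KS]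
    [IsFractionRing A KS] [Algebra B KX] [IsFractionRing B KX] (φ : KS →+* KX)
    (hφ : ∀ a, φ (algebraMap A KS a) = algebraMap B KX (algebraMap A B a)) :
    φ.IsIntegral ∧ (Module.Finite A B → φ.Finite) := by
  letI fS : Field KS := IsFractionRing.toField A
  letI fX : Field KX := IsFractionRing.toField B
  letI algSX : Algebra KS KX := φ.toAlgebra
  letI algAX : Algebra A KX := (φ.comp (algebraMap A KS)).toAlgebra
  haveI : IsScalarTower A KS KX := IsScalarTower.of_algebraMap_eq (fun a => rfl)
  haveI : IsScalarTower A B KX := IsScalarTower.of_algebraMap_eq (fun a => hφ a)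
  have hinjAB : Injective (algebraMap A B) := by
    intro a a' h
    apply IsFractionRing.injective A KS
    apply φ.injective
    rw [hφ, hφ, h]
  haveI : FaithfulSMul A B := (faithfulSMul_iff_algebraMap_injective A B).2 hinjAB
  have hint : ∀ b : B, IsIntegral KS (algebraMap B KX b) := fun b =>
    ((Algebra.IsIntegral.isIntegral (R := A) b).algebraMap (B := KX)).tower_top
  refine ⟨fun x => ?_, fun hfin => ?_⟩
  · obtain ⟨b, b', -, rfl⟩ := IsFractionRing.div_surjective (A := B) x
    have := (algebraicClosure KS KX).div_mem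
      (mem_algebraicClosure_iff'.2 (hint b)) (mem_algebraicClosure_iff'.2 (hint b'))
    exact mem_algebraicClosure_iff'.1 this
  · haveI := hfin
    haveI : Algebra.IsAlgebraic A B := inferInstance
    haveI : IsLocalization (Algebra.algebraMapSubmonoid B A⁰) KX := inferInstance
    exact Module.Finite.of_isLocalization A B A⁰

/-- Let X, S be integral schemes and f : X ⟶ S a dominant morphism. If f is integral, the field of
rational functions of X is algebraic over that of S; if f is finite, it is a finite extension. Here
the extension is given by the stalk map of f at the generic point of X, whose source is the local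
ring of S at the generic point of S (f being dominant), i.e. the function field of S. -/
theorem result {X S : Scheme.{u}} [IsIntegral X] [IsIntegral S]
    (f : X ⟶ S) [IsDominant f] :
    (IsIntegralHom f → (f.stalkMap (genericPoint X)).hom.IsIntegral) ∧
      (IsFinite f → (f.stalkMap (genericPoint X)).hom.Finite) := by
  have hgen : f (genericPoint X) = genericPoint S := by
    have h1 : IsGenericPoint (f (genericPoint X)) (closure (f '' Set.univ)) :=
      (genericPoint_spec X).image f.continuous
    rw [Set.image_univ, f.denseRange.closure_range] at h1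
    exact h1.eq (genericPoint_spec S)
  obtain ⟨V, hV, hξV⟩ := NormAff.exists_affine_mem S (f (genericPoint X))
  have hmem : genericPoint X ∈ f ⁻¹ᵁ V := hξV
  haveI : Nonempty V := ⟨⟨_, hξV⟩⟩
  haveI : Nonempty (f ⁻¹ᵁ V : X.Opens) := ⟨⟨_, hmem⟩⟩
  letI algAB : Algebra Γ(S, V) Γ(X, f ⁻¹ᵁ V) := (f.app V).hom.toAlgebra
  letI algAK : Algebra Γ(S, V) (S.presheaf.stalk (f (genericPoint X))) :=
    (S.presheaf.germ V (f (genericPoint X)) hξV).hom.toAlgebra
  haveI : IsFractionRing Γ(S, V) (S.presheaf.stalk (f (genericPoint X))) :=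
    Groth.Agent.S2347.isFractionRing_stalk hV _ hgen hξV
  have hcompat : ∀ a, (f.stalkMap (genericPoint X)).hom
      (algebraMap Γ(S, V) (S.presheaf.stalk (f (genericPoint X))) a) =
      algebraMap Γ(X, f ⁻¹ᵁ V) X.functionField (algebraMap Γ(S, V) Γ(X, f ⁻¹ᵁ V) a) := fun a =>
    congr($(Scheme.Hom.germ_stalkMap f V (genericPoint X) hξV).hom a)
  constructor
  · intro hf
    haveI : IsFractionRing Γ(X, f ⁻¹ᵁ V) X.functionField :=
      functionField_isFractionRing_of_isAffineOpen X _ (hV.preimage f)
    haveI : Algebra.IsIntegral Γ(S, V) Γ(X, f ⁻¹ᵁ V) := ⟨IsIntegralHom.isIntegral_app f V hV⟩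
    exact (alg_lemma Γ(S, V) Γ(X, f ⁻¹ᵁ V) _ X.functionField _ hcompat).1
  · intro hf
    haveI : IsFractionRing Γ(X, f ⁻¹ᵁ V) X.functionField :=
      functionField_isFractionRing_of_isAffineOpen X _ (hV.preimage f)
    haveI : Algebra.IsIntegral Γ(S, V) Γ(X, f ⁻¹ᵁ V) := ⟨IsIntegralHom.isIntegral_app f V hV⟩
    have hfin : Module.Finite Γ(S, V) Γ(X, f ⁻¹ᵁ V) := IsFinite.finite_app (f := f) V hV
    exact (alg_lemma Γ(S, V) Γ(X, f ⁻¹ᵁ V) _ X.functionField _ hcompat).2 hfin

end Groth.Agent.S4435
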