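import Groth.Statements.S4436
import Groth.Agent.Lib.Helper3.SecLoc

set_option autoImplicit false
universe u
open CategoryTheory CategoryTheory.Limits AlgebraicGeometry
open EGA2

namespace Groth.Agent.S4436

open Groth.Agent.Lib.Helper3 in

/-- Let f : X' ⟶ X be a finite morphism and F' a locally free O_{X'}-module of rank r. Then every point
of X has an open neighbourhood U over whose inverse image F' is free of rank r; this is the content
of the statement that the direct image of F' is a locally free module of rank r over the direct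
image of O_{X'} (the converse implication being immediate). -/
theorem result {X' X : Scheme.{u}} (f : X' ⟶ X) [IsFinite f] (r : ℕ)
    (F : X'.Modules) (hF : FlatMod.IsFinLocFreeOfRank r F) (x : X) :
    ∃ U : X.Opens, x ∈ U ∧ Nonempty (F.restrict (f ⁻¹ᵁ U).ι ≅ FlatMod.freeMod (↑(f ⁻¹ᵁ U)) r) := by
  obtain ⟨V, hV, hxV⟩ := QCProps.exists_affine_nbhd x
  have hV' : IsAffineOpen (f ⁻¹ᵁ V) := hV.preimage f
  have hZ : (f ⁻¹' {x}).Finite := f.finite_preimage_singleton x
  have hZV : f ⁻¹' {x} ⊆ (f ⁻¹ᵁ V : X'.Opens) := by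
    intro z hz
    change f z ∈ V
    rw [Set.mem_preimage, Set.mem_singleton_iff] at hz
    rw [hz]
    exact hxV
  obtain ⟨t, e, hZt, he⟩ := SecLoc.exists_isBasis_basicOpen hF _ hZ hV' hZV
  -- the complement of the image of the complement
  have hcl : IsClosed (f '' ((X'.basicOpen t : Set X')ᶜ)) :=
    f.isClosedMap _ (X'.basicOpen t).2.isClosed_compl
  let U : X.Opens := ⟨(f '' ((X'.basicOpen t : Set X')ᶜ))ᶜ, hcl.isOpen_compl⟩
  have hxU : x ∈ U := by
    rintro ⟨z, hz, hzx⟩
    exact hz (hZt hzx)
  have hle : f ⁻¹ᵁ U ≤ X'.basicOpen t := by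
    intro z hz
    by_contra hcon
    exact hz ⟨z, hcon, rfl⟩
  exact ⟨U, hxU, FreeBasis.nonempty_iso_of_isBasis (he.mono hle)⟩

end Groth.Agent.S4436
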