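import Groth.Statements.S4439
import Mathlib
import Groth.Agent.Lib.Helper17.ValDense

set_option autoImplicit false
universe u
open CategoryTheory CategoryTheory.Limits AlgebraicGeometry
open EGA2

namespace Groth.Agent.S4439

/-- Let A be a valuation ring with field of fractions K and f : X ⟶ Spec A a separated morphism whose
underlying map is closed. Then restriction to the generic point is a bijection from sections of f to
K-rational points of the generic fibre: every morphism Spec K ⟶ X over Spec A extends to exactly one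
section of f. -/
theorem result (A : Type u) [CommRing A] [IsDomain A]
    [ValuationRing A] (K : Type u) [Field K] [Algebra A K] [IsFractionRing A K] (X : Scheme.{u})
    (f : X ⟶ Spec (CommRingCat.of A)) [IsSeparated f] (hf : IsClosedMap f.base)
    (x : Spec (CommRingCat.of K) ⟶ X) (hx : x ≫ f = Spec.map (CommRingCat.ofHom (algebraMap A K))) :
    ∃! s : Spec (CommRingCat.of A) ⟶ X, s ≫ f = 𝟙 _ ∧ Spec.map (CommRingCat.ofHom (algebraMap A K)) ≫ s = x := by
  have hinj : Function.Injective (algebraMap A K) := IsFractionRing.injective A K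
  -- uniqueness from the valuative criterion
  have huniq : ∀ s₁ s₂ : Spec (CommRingCat.of A) ⟶ X,
      (s₁ ≫ f = 𝟙 _ ∧ Spec.map (CommRingCat.ofHom (algebraMap A K)) ≫ s₁ = x) →
      (s₂ ≫ f = 𝟙 _ ∧ Spec.map (CommRingCat.ofHom (algebraMap A K)) ≫ s₂ = x) → s₁ = s₂ := by
    rintro s₁ s₂ ⟨h1, h1'⟩ ⟨h2, h2'⟩
    have hU := IsSeparated.valuativeCriterion f
    let Sq : ValuativeCommSq f :=
      { R := A, K := K, i₁ := x, i₂ := 𝟙 _
        commSq := ⟨by rw [hx, Category.comp_id]⟩ }
    have hS : Subsingleton Sq.commSq.LiftStruct := hU Sq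
    let m₁ : Sq.commSq.LiftStruct := ⟨s₁, h1', h1⟩
    let m₂ : Sq.commSq.LiftStruct := ⟨s₂, h2', h2⟩
    exact congrArg CommSq.LiftStruct.l (Subsingleton.elim m₁ m₂)
  suffices hex : ∃ s : Spec (CommRingCat.of A) ⟶ X,
      s ≫ f = 𝟙 _ ∧ Spec.map (CommRingCat.ofHom (algebraMap A K)) ≫ s = x by
    obtain ⟨s, hs⟩ := hex
    exact ⟨s, hs, fun s' hs' => huniq s' s hs' hs⟩
  -- a point `z` in the closure of the image of `x` over the closed point
  set x₁ : X := x (IsLocalRing.closedPoint K) with hx₁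
  have hfx₁ : f x₁ = (Spec.map (CommRingCat.ofHom (algebraMap A K))) (IsLocalRing.closedPoint K) := by
    change (x ≫ f) (IsLocalRing.closedPoint K) = _
    rw [hx]
  obtain ⟨z, hz, hfz⟩ : ∃ z : X, x₁ ⤳ z ∧ f z = IsLocalRing.closedPoint A := by
    have hcl : IsClosed (f '' closure {x₁}) := hf _ isClosed_closure
    have hmem : f x₁ ∈ f '' closure {x₁} := ⟨x₁, subset_closure rfl, rfl⟩
    have hsp : f x₁ ⤳ IsLocalRing.closedPoint A := IsLocalRing.specializes_closedPoint _
    obtain ⟨z, hz, hfz⟩ := hsp.mem_closed hcl hmem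
    exact ⟨z, specializes_iff_mem_closure.mpr hz, hfz⟩
  let φ : X.presheaf.stalk z ⟶ .of K := X.presheaf.stalkSpecializes hz ≫ Scheme.stalkClosedPointTo x
  have hφ : Spec.map φ ≫ X.fromSpecStalk z = x := by
    rw [Spec.map_comp, Category.assoc, Scheme.SpecMap_stalkSpecializes_fromSpecStalk,
      Scheme.Spec_stalkClosedPointTo_fromSpecStalk]
  let ψ : CommRingCat.of A ⟶ X.presheaf.stalk z := Spec.preimage (X.fromSpecStalk z ≫ f)
  have hψ : Spec.map ψ = X.fromSpecStalk z ≫ f := Spec.map_preimage _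
  have hψφ : ψ ≫ φ = CommRingCat.ofHom (algebraMap A K) := by
    apply Spec.map_injective
    rw [Spec.map_comp, hψ, ← Category.assoc, hφ, hx]
  have hψloc : IsLocalHom ψ.hom := by
    rw [IsLocalRing.isLocalHom_iff_comap_closedPoint]
    change (Spec.map ψ) (IsLocalRing.closedPoint (X.presheaf.stalk z)) = _
    rw [hψ]
    change f ((X.fromSpecStalk z) (IsLocalRing.closedPoint _)) = _
    rw [Scheme.fromSpecStalk_closedPoint, hfz]
  have hbij := bijective_rangeRestrict_comp_of_valuationRing (R := A) (K := K) ψ.hom φ.hom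
    (by rw [← CommRingCat.hom_comp, hψφ]; rfl)
  have hmem : ∀ b : X.presheaf.stalk z, ∃ r : A, algebraMap A K r = φ.hom b := by
    intro b
    obtain ⟨r, hr⟩ := hbij.2 (φ.hom.rangeRestrict b)
    refine ⟨r, ?_⟩
    have h1 := congrArg Subtype.val hr
    have h2 : φ.hom (ψ.hom r) = algebraMap A K r :=
      congrArg (fun φ => φ.hom r) hψφ
    rw [← h2]
    exact h1
  obtain ⟨μ, hμ⟩ := Groth.Agent.Lib.Helper17.ValDense.exists_ringHom_of_forall_mem hinj φ.hom hmem
  have e5 : CommRingCat.ofHom μ ≫ CommRingCat.ofHom (algebraMap A K) = φ := by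
    ext c
    exact congrArg (fun φ => φ c) hμ
  have hμψ : ψ ≫ CommRingCat.ofHom μ = 𝟙 _ := by
    ext r
    apply hinj
    have h1 : algebraMap A K (μ (ψ.hom r)) = φ.hom (ψ.hom r) :=
      congrArg (fun φ => φ (ψ.hom r)) hμ
    have h2 : φ.hom (ψ.hom r) = algebraMap A K r :=
      congrArg (fun φ => φ.hom r) hψφ
    exact h1.trans h2
  refine ⟨Spec.map (CommRingCat.ofHom μ) ≫ X.fromSpecStalk z, ?_, ?_⟩
  · rw [Category.assoc, ← hψ, ← Spec.map_comp]
    exact (congrArg Spec.map hμψ).trans (Spec.map_id _)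
  · rw [← Category.assoc, ← Spec.map_comp, e5, hφ]

end Groth.Agent.S4439
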