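import Groth.Statements.S4440
import Mathlib
import Groth.Agent.Lib.Helper11.Birat11

set_option autoImplicit false
universe u
open CategoryTheory CategoryTheory.Limits AlgebraicGeometry
open EGA2

namespace Groth.Agent.S4440

/-- Let S be a locally Noetherian scheme, X proper over S, and Y a reduced S-scheme whose non-regular
locus has codimension at least two (the local ring at every point with local ring of dimension at
most one is regular). Then the locus where an S-rational map from Y to X is not defined has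
codimension at least two: an S-morphism given on a dense open V of Y extends to an S-morphism on an
open containing V and every point whose local ring has dimension at most one. (The published
statement does not ask Y to be locally Noetherian; this row does, which is the setting in which
regularity of local rings is defined.) -/
theorem result {S X Y : Scheme.{u}} [IsLocallyNoetherian S]
    (p : X ⟶ S) [IsProper p] (q : Y ⟶ S) [IsLocallyNoetherian Y] [IsReduced Y]
    (hreg : ∀ y : Y, ringKrullDim (Y.presheaf.stalk y) ≤ 1 → IsRegularLocalRing (Y.presheaf.stalk y))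
    (V : Y.Opens) (hV : Dense (V : Set Y)) (g : (V : Scheme.{u}) ⟶ X) (hg : g ≫ p = V.ι ≫ q) :
    ∃ (U : Y.Opens) (hVU : V ≤ U) (g' : (U : Scheme.{u}) ⟶ X), g' ≫ p = U.ι ≫ q ∧ Y.homOfLE hVU ≫ g' = g ∧
      ∀ y : Y, ringKrullDim (Y.presheaf.stalk y) ≤ 1 → y ∈ U := by
  obtain ⟨pr, hpr⟩ : ∃ pr : pullback q p ⟶ Y, pr = pullback.fst q p := ⟨_, rfl⟩
  haveI : IsProper pr := by rw [hpr]; infer_instance
  obtain ⟨γ, hγ⟩ : ∃ γ : V.toScheme ⟶ pullback q p, γ = pullback.lift V.ι g hg.symm :=
    ⟨_, rfl⟩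
  have hγp : γ ≫ pr = V.ι := by rw [hγ, hpr, pullback.lift_fst]
  have hγq : γ ≫ pullback.snd q p = g := by rw [hγ, pullback.lift_snd]
  have hloc : ∀ y : {y : Y // ringKrullDim (Y.presheaf.stalk y) ≤ 1},
      ∃ (W : Y.Opens) (s : W.toScheme ⟶ pullback q p), y.1 ∈ W ∧ s ≫ pr = W.ι ∧
      Y.homOfLE (inf_le_right : V ⊓ W ≤ W) ≫ s = Y.homOfLE (inf_le_left : V ⊓ W ≤ V) ≫ γ := by
    intro y
    haveI := hreg y.1 y.2
    obtain ⟨hd, hv⟩ := Groth.Agent.Lib.Helper11.Birat11.valuationRing_of_regular_of_dim_le_one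
      (Y.presheaf.stalk y.1) y.2
    haveI := hd
    haveI := hv
    exact Groth.Agent.Lib.Helper11.Birat10.exists_extension_of_valuationRing pr V γ hγp y.1
      (hV y.1) (Groth.Agent.Lib.Helper11.Birat8.exists_integral_nbhd_of_isDomain_stalk y.1)
  choose W s hyW hsp hsγ using hloc
  obtain ⟨T, hT⟩ : ∃ T : Y.Opens, T = V ⊔ ⨆ i, W i := ⟨_, rfl⟩
  obtain ⟨s', hs'p, hs'U, -⟩ := Groth.Agent.Lib.Helper11.Birat11.exists_glue_sections' pr V hV γ
    hγp W s hsp hsγ T hT
  have hVT : V ≤ T := by rw [hT]; exact le_sup_left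
  refine ⟨T, hVT, s' ≫ pullback.snd q p, ?_, ?_, ?_⟩
  · rw [Category.assoc, ← pullback.condition, ← hpr, ← Category.assoc, hs'p]
  · rw [← Category.assoc, hs'U hVT, hγq]
  · intro y hy
    rw [hT]
    exact (le_sup_right : (⨆ i, W i) ≤ V ⊔ ⨆ i, W i)
      (TopologicalSpace.Opens.mem_iSup.2 ⟨⟨y, hy⟩, hyW ⟨y, hy⟩⟩)

end Groth.Agent.S4440
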