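import Groth.Statements.S4443
-- import your own Groth.Agent.* helpers here
import Mathlib
import Groth.Agent.Lib.Helper12.SchemeDimFT4

set_option autoImplicit false
universe u
open CategoryTheory CategoryTheory.Limits AlgebraicGeometry
open EGA2

namespace Groth.Agent.S4443

open Groth.Agent.Lib.Helper12 Groth.Agent.Lib.Helper12.SchemeDimFT

/-- Let X be an irreducible algebraic curve over a field k (separated and of finite type over k,
nonempty, irreducible, local rings at closed points of dimension one). Then the generic point is the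
only non-closed point of X, and the closed subsets of X distinct from X are exactly the finite sets
of closed points. (The published statement adds that these are also exactly the subsets of X that
are not dense in X, an immediate consequence; this row does not state it.) -/
theorem result (k : Type u) [Field k] (X : Scheme.{u})
    [X.Over (Spec (CommRingCat.of k))] [LocallyOfFiniteType (X ↘ (Spec (CommRingCat.of k)))]
    [QuasiCompact (X ↘ (Spec (CommRingCat.of k)))] [IsSeparated (X ↘ (Spec (CommRingCat.of k)))]
    [Nonempty X] [IrreducibleSpace X] (hcurve : ∀ x : X, IsClosed ({x} : Set X) → ringKrullDim (X.presheaf.stalk x) = 1) :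
    (∀ x : X, ¬ IsClosed ({x} : Set X) → x = genericPoint X) ∧
      ∀ F : Set X, IsClosed F → (F ≠ Set.univ ↔ (F.Finite ∧ ∀ x ∈ F, IsClosed ({x} : Set X))) := by
  have hξmax : IsMaxPt (genericPoint X) := by
    intro y hy
    exact (hy.antisymm ((genericPoint_spec X).specializes (Set.mem_univ y))).eq
  have hmaxeq : ∀ x : X, IsMaxPt x → x = genericPoint X := by
    intro x hx
    exact (hx _ ((genericPoint_spec X).specializes (Set.mem_univ x))).symm
  have hξnc : ¬ IsClosed ({genericPoint X} : Set X) := by
    intro hc
    obtain ⟨U, hU, hx⟩ := exists_affineOpen_mem X (genericPoint X)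
    have h1 := hcurve _ hc
    rw [ringKrullDim_stalk_eq_height' U hU ⟨_, hx⟩,
      (isMaxPt_iff_height_eq_zero hU ⟨_, hx⟩).mp hξmax] at h1
    norm_num at h1
  have part1 : ∀ x : X, ¬ IsClosed ({x} : Set X) → x = genericPoint X := by
    intro x hxnc
    obtain ⟨x', hx'mem, hx'c⟩ := exists_isClosed_mem_of_isLocallyClosed k X (closure {x})
      isClosed_closure.isLocallyClosed ⟨x, subset_closure rfl⟩
    have hsp : x ⤳ x' := specializes_iff_mem_closure.mpr hx'mem
    have hne : x ≠ x' := fun h => hxnc (h ▸ hx'c)
    obtain ⟨U, hU, hx'U⟩ := exists_affineOpen_mem X x'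
    have hxU : x ∈ U := hsp.mem_open U.2 hx'U
    have hlt : hU.primeIdealOf ⟨x, hxU⟩ < hU.primeIdealOf ⟨x', hx'U⟩ :=
      (primeIdealOf_lt_iff hU _ _).mpr ⟨hsp, hne⟩
    have h1 := hcurve x' hx'c
    rw [ringKrullDim_stalk_eq_height' U hU ⟨x', hx'U⟩] at h1
    have h2 : (Order.height (hU.primeIdealOf ⟨x', hx'U⟩) : ℕ∞) = 1 := by exact_mod_cast h1
    have h3 := Order.height_add_one_le hlt
    rw [h2] at h3
    have h0 : Order.height (hU.primeIdealOf ⟨x, hxU⟩) = 0 := by
      by_contra hne0
      have h4 : 1 ≤ Order.height (hU.primeIdealOf ⟨x, hxU⟩) := ENat.one_le_iff_ne_zero.mpr hne0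
      have h5 : (2 : ℕ∞) ≤ 1 := by
        calc (2 : ℕ∞) = 1 + 1 := by norm_num
          _ ≤ Order.height (hU.primeIdealOf ⟨x, hxU⟩) + 1 := by gcongr
          _ ≤ 1 := h3
      norm_num at h5
    exact hmaxeq x ((isMaxPt_iff_height_eq_zero hU ⟨x, hxU⟩).mpr h0)
  refine ⟨part1, ?_⟩
  intro F hF
  constructor
  · intro hne
    have hξF : genericPoint X ∉ F := by
      intro hmem
      apply hne
      apply Set.eq_univ_of_univ_subset
      rw [← (genericPoint_spec X).def]
      exact hF.closure_subset_iff.mpr (Set.singleton_subset_iff.mpr hmem)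
    have hallc : ∀ x ∈ F, IsClosed ({x} : Set X) := by
      intro x hx
      by_contra hnc
      exact hξF (part1 x hnc ▸ hx)
    refine ⟨?_, hallc⟩
    haveI : IsLocallyNoetherian X :=
      LocallyOfFiniteType.isLocallyNoetherian (X ↘ Spec (CommRingCat.of k))
    haveI : CompactSpace X :=
      QuasiCompact.compactSpace_of_compactSpace (X ↘ Spec (CommRingCat.of k))
    haveI : IsNoetherian X := {}
    obtain ⟨S, hSfin, hScl, hSirr, hFS⟩ :=
      TopologicalSpace.NoetherianSpace.exists_finite_set_isClosed_irreducible hF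
    rw [hFS]
    refine Set.Finite.sUnion hSfin ?_
    intro t ht
    obtain ⟨η, hη⟩ := QuasiSober.sober (hSirr t ht) (hScl t ht)
    have hηF : η ∈ F := by
      rw [hFS]; exact ⟨t, ht, hη.mem⟩
    have : t = {η} := by
      rw [← hη.def, (hallc η hηF).closure_eq]
    rw [this]
    exact Set.finite_singleton η
  · rintro ⟨-, hallc⟩ heq
    exact hξnc (hallc _ (heq ▸ Set.mem_univ _))

end Groth.Agent.S4443
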