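import Groth.Statements.S4449
import Mathlib
import Groth.Agent.Lib.Helper17.ValDense
import Groth.Agent.Lib.Helper17.FunFldVal

set_option autoImplicit false
universe u
open CategoryTheory CategoryTheory.Limits AlgebraicGeometry
open EGA2

namespace Groth.Agent.S4449

open Groth.Agent.Lib.Helper17.FunFldVal in
/-- two morphisms from the spectrum of a valuation subring of a field into a separated scheme which
agree on the generic point are equal -/
theorem eq_of_separated {Y : Scheme.{u}} [Y.IsSeparated] {K : Type u} [Field K]
    (W : ValuationSubring K) (a b : Spec (.of W) ⟶ Y)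
    (hab : Spec.map (CommRingCat.ofHom W.subtype) ≫ a = Spec.map (CommRingCat.ofHom W.subtype) ≫ b) :
    a = b := by
  have hU := IsSeparated.valuativeCriterion (terminal.from Y)
  let Sq : ValuativeCommSq (terminal.from Y) :=
    { R := W, K := K, i₁ := Spec.map (CommRingCat.ofHom W.subtype) ≫ a
      i₂ := terminal.from _
      commSq := ⟨terminal.hom_ext _ _⟩ }
  have hS : Subsingleton Sq.commSq.LiftStruct := hU Sq
  let m₁ : Sq.commSq.LiftStruct := ⟨a, rfl, terminal.hom_ext _ _⟩
  let m₂ : Sq.commSq.LiftStruct := ⟨b, hab.symm, terminal.hom_ext _ _⟩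
  exact congrArg CommSq.LiftStruct.l (Subsingleton.elim m₁ m₂)

/-- Case of an arbitrary integral separated base: let Y and X be integral separated schemes and f : X ⟶
Y a dominant morphism of finite type, ξ the generic point of X. Suppose that every valuation subring
R of K(X) other than K(X) itself which dominates the local ring of Y at a point y (via O_{Y,y} →
O_{Y,f(ξ)} → K(X)) dominates the local ring of X at some point x (via O_{X,x} → K(X)). Then f is
proper. (Compare the locally Noetherian variant with discrete valuation rings.) -/
theorem result {X Y : Scheme.{u}} [IsIntegral X] [IsIntegral Y]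
    [X.IsSeparated] [Y.IsSeparated] (f : X ⟶ Y) [IsDominant f] [LocallyOfFiniteType f] [QuasiCompact f]
    (h : ∀ (R : ValuationSubring X.functionField), R ≠ ⊤ →
      ∀ (y : Y) (hy : f.base (genericPoint X) ⤳ y),
        ((∀ a : Y.presheaf.stalk y, (Y.presheaf.stalkSpecializes hy ≫ f.stalkMap (genericPoint X)).hom a ∈ R) ∧
          ∀ a ∈ IsLocalRing.maximalIdeal (Y.presheaf.stalk y),
            R.valuation ((Y.presheaf.stalkSpecializes hy ≫ f.stalkMap (genericPoint X)).hom a) < 1) →
        ∃ x : X, (∀ a : X.presheaf.stalk x, algebraMap (X.presheaf.stalk x) X.functionField a ∈ R) ∧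
          ∀ a ∈ IsLocalRing.maximalIdeal (X.presheaf.stalk x), R.valuation (algebraMap (X.presheaf.stalk x) X.functionField a) < 1) :
    IsProper f := by
  have hsepf : IsSeparated f := by
    have : IsSeparated (f ≫ terminal.from Y) := by
      have e : f ≫ terminal.from Y = terminal.from X := terminal.hom_ext _ _
      rw [e]; infer_instance
    exact IsSeparated.of_comp f (terminal.from Y)
  have hE : ValuativeCriterion.Existence f := by
    apply Groth.Agent.Lib.Helper17.ValDense.existence_of_points
    intro x₀
    refine ⟨X.functionField, inferInstance, Groth.Agent.Lib.Helper17.FunFldVal.genPt X, ?_, ?_, ?_⟩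
    · rw [Groth.Agent.Lib.Helper17.FunFldVal.genPt_closedPoint]
      exact genericPoint_specializes x₀
    · intro W y hy
      by_cases hW : W = ⊤
      · subst hW
        let g : X.functionField →+* (⊤ : ValuationSubring X.functionField) :=
          (RingHom.id _).codRestrict (⊤ : ValuationSubring X.functionField).toSubring
            (fun _ => trivial)
        have e1 : CommRingCat.ofHom g ≫
            CommRingCat.ofHom (⊤ : ValuationSubring X.functionField).subtype = 𝟙 _ := by
          ext a; rfl
        have e2 : CommRingCat.ofHom (⊤ : ValuationSubring X.functionField).subtype ≫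
            CommRingCat.ofHom g = 𝟙 _ := by
          ext a; rfl
        refine ⟨Spec.map (CommRingCat.ofHom g) ≫ Groth.Agent.Lib.Helper17.FunFldVal.genPt X, ?_, ?_⟩
        · rw [Category.assoc, hy, ← Category.assoc, ← Spec.map_comp, e2, Spec.map_id,
            Category.id_comp]
        · rw [← Category.assoc, ← Spec.map_comp, e1, Spec.map_id, Category.id_comp]
      · obtain ⟨hsp, d1, d2⟩ :=
          Groth.Agent.Lib.Helper17.FunFldVal.dominates_of_morphism f W y hy
        obtain ⟨x, hx1, -⟩ := h W hW _ hsp ⟨d1, d2⟩
        obtain ⟨l, hl⟩ := Groth.Agent.Lib.Helper17.FunFldVal.lift_of_dominates W x hx1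
        refine ⟨l, ?_, hl⟩
        apply eq_of_separated W
        rw [← Category.assoc, hl, hy]
    · intro W l₁ l₂ h12 h1 h2
      have hU := IsSeparated.valuativeCriterion f
      let Sq : ValuativeCommSq f :=
        { R := W, K := X.functionField, i₁ := Groth.Agent.Lib.Helper17.FunFldVal.genPt X
          i₂ := l₁ ≫ f
          commSq := ⟨by rw [← h1, Category.assoc]; rfl⟩ }
      have hS : Subsingleton Sq.commSq.LiftStruct := hU Sq
      let m₁ : Sq.commSq.LiftStruct := ⟨l₁, h1, rfl⟩
      let m₂ : Sq.commSq.LiftStruct := ⟨l₂, h2, h12.symm⟩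
      exact congrArg CommSq.LiftStruct.l (Subsingleton.elim m₁ m₂)
  have : UniversallyClosed f := UniversallyClosed.of_valuativeCriterion f hE
  exact {}

end Groth.Agent.S4449
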