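import Groth.Statements.S5728
import Groth.Agent.Lib.Helper3.CPb
import Groth.Agent.Lib.Helper3.SymFT
import Groth.Agent.Lib.Helper3.CanonImm
import Groth.Agent.Lib.Helper3.ProjProper
import Groth.Agent.Lib.Helper3.SymGenProj

set_option autoImplicit false
universe u
open CategoryTheory CategoryTheory.Limits AlgebraicGeometry TopologicalSpace Opposite
open scoped HomogeneousIdeal
open EGA2

namespace Groth.Agent.S5728

/-- Let f : X → Y be a proper morphism and L an invertible O_X-module which is very ample relative to f
and whose direct image f_*L (a quasi-coherent O_Y-module) is of finite type. Then f is projective: X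
is isomorphic over Y to the relative homogeneous spectrum of a quasi-coherent graded O_Y-algebra
generated by its degree-one part, with that part of finite type. -/
theorem result {X Y : Scheme.{u}} (f : X ⟶ Y) [IsProper f]
    (L : X.Modules) (hL : PicF.IsInvertible L) (hva : RelProj.IsRelVeryAmple f L)
    (hft : CohB1.IsFT ((Scheme.Modules.pushforward f).obj L)) : RelProj.IsProjective f := by
  haveI : L.IsQuasicoherent := Groth.Agent.Lib.Helper3.InvCoh.isQuasicoherent_of_isInvertible hL
  haveI hEq : ((Scheme.Modules.pushforward f).obj L).IsQuasicoherent :=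
    Groth.Agent.Lib.Helper3.QCSec.isQuasicoherent_pushforward f L
  haveI : ((Scheme.Modules.pushforward f).obj L).IsFiniteType := hft
  obtain ⟨𝒜, jE, h𝒜⟩ :=
    Groth.Agent.Lib.Helper3.SymGr.exists_isGrSymAlg ((Scheme.Modules.pushforward f).obj L)
  obtain ⟨P, p, chart, hP⟩ := Groth.Agent.Lib.Helper3.RelProjExist.exists_isRelProj 𝒜
  obtain ⟨ρ, hρi, hρ⟩ := Groth.Agent.Lib.Helper3.CanonImm.exists_immersion f L hL hEq 𝒜 jE h𝒜
    p chart hP hva
  haveI := hρi
  have hgen := Groth.Agent.Lib.Helper3.SymGenProj.isGenDegOne h𝒜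
  have hftd := Groth.Agent.Lib.Helper3.SymFT.isFTDeg_one h𝒜
  haveI : IsProper p := Groth.Agent.Lib.Helper3.ProjProper.isProper_of_isGenDegOne hP hgen hftd
  haveI : IsProper (ρ ≫ p) := by
    rw [hρ]
    infer_instance
  haveI : IsProper ρ := IsProper.of_comp ρ p
  haveI : IsClosedImmersion ρ :=
    IsClosedImmersion.of_isPreimmersion ρ ρ.isClosedMap.isClosed_range
  have key := Groth.Agent.Lib.Helper3.CPb.isProjective 𝒜 p chart ρ hP hgen hftd
  rwa [hρ] at key

end Groth.Agent.S5728
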