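import Groth.Statements.S4452
import Groth.Agent.S5728
import Groth.Agent.S12481
import Groth.Agent.Lib.Helper3.AmpleMisc
import Groth.Agent.Lib.Helper3.VAMain

set_option autoImplicit false
universe u
open CategoryTheory CategoryTheory.Limits AlgebraicGeometry
open EGA2

namespace Groth.Agent.S4452

/-- Every finite morphism f : X ⟶ Y is projective (here: X is Y-isomorphic to the homogeneous spectrum
of a quasi-coherent graded O_Y-algebra generated by its degree-one part, that part being of finite
type — the form of projectivity equivalent to X being a closed subscheme of a projective bundle P(E)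
with E quasi-coherent of finite type). -/
theorem result {X Y : Scheme.{u}} (f : X ⟶ Y) [IsFinite f] : RelProj.IsProjective f := by
  classical
  have hO : PicF.IsInvertible (Coh.structureModule X) :=
    Groth.Agent.Lib.Helper3.InvGen.isInvertible_structureModule X
  have hva : RelProj.IsRelVeryAmple f (Coh.structureModule X) := by
    refine Groth.Agent.S12481.result f (Coh.structureModule X) hO (ι := Y.affineOpens)
      (fun V => V.1) (iSup_affineOpens_eq_top Y) ?_
    intro V
    haveI : IsAffine ((f ⁻¹ᵁ V.1 : X.Opens) : Scheme.{u}) := V.2.preimage f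
    have hA : CohB1.IsAmple (Coh.structureModule ((f ⁻¹ᵁ V.1 : X.Opens) : Scheme.{u})) :=
      Groth.Agent.Lib.Helper3.AmpleMisc.isAmple_of_isAffine
        (Groth.Agent.Lib.Helper3.InvGen.isInvertible_structureModule _)
    obtain ⟨n₀, hn₀⟩ :=
      Groth.Agent.Lib.Helper3.VAMain.eventually_isRelVeryAmplePn_pow (f ∣_ V.1) hA
    have h1 := hn₀ n₀ le_rfl
    have h2 := Groth.Agent.Lib.Helper3.VAMain.isRelVeryAmplePn_of_iso (f ∣_ V.1)
      (Groth.Agent.Lib.Helper3.InvMonoidal.powUnit _ n₀) h1
    exact Groth.Agent.Lib.Helper3.VAMain.isRelVeryAmplePn_of_iso (f ∣_ V.1)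
      (Scheme.Modules.restrictUnitIso (f ⁻¹ᵁ V.1).ι).symm h2
  have hft : CohB1.IsFT ((Scheme.Modules.pushforward f).obj (Coh.structureModule X)) := by
    haveI : (Coh.structureModule X).IsQuasicoherent :=
      Groth.Agent.Lib.Helper3.InvCoh.isQuasicoherent_of_isInvertible hO
    haveI := Groth.Agent.Lib.Helper3.QCSec.isQuasicoherent_pushforward f (Coh.structureModule X)
    refine (Groth.Agent.Lib.Helper3.QCProps.isFiniteType_iff_finite_sections _).mpr ?_
    intro U hU
    have h := IsFinite.finite_app f U hU
    letI := (f.app U).hom.toAlgebra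
    haveI : Module.Finite Γ(Y, U) Γ(X, f ⁻¹ᵁ U) := h
    let e : Γ(X, f ⁻¹ᵁ U) ≃ₗ[Γ(Y, U)]
        Γ((Scheme.Modules.pushforward f).obj (Coh.structureModule X), U) :=
      { toFun := fun a => (show Γ((Scheme.Modules.pushforward f).obj (Coh.structureModule X), U)
          from Groth.Agent.Lib.Helper3.InvGen.ofFun (f ⁻¹ᵁ U) a)
        map_add' := fun a b => rfl
        map_smul' := fun r a => rfl
        invFun := fun s => Groth.Agent.Lib.Helper3.InvGen.toFun (f ⁻¹ᵁ U) s
        left_inv := fun _ => rfl
        right_inv := fun _ => rfl }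
    exact Module.Finite.equiv e
  exact Groth.Agent.S5728.result f (Coh.structureModule X) hO hva hft

end Groth.Agent.S4452
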