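import Groth.Statements.S4458
import Mathlib
import Groth.Agent.Lib.Helper17.DevEngine
import Groth.Agent.Lib.Helper17.DevKey
import Groth.Agent.Lib.Helper17.DevPow
import Groth.Agent.Lib.Helper17.DevSS

set_option autoImplicit false
universe u
open Coherent

namespace Groth.Agent.S4458

open AlgebraicGeometry CategoryTheory CategoryTheory.Limits in
/-- Let X be a Noetherian scheme and K' a class of O_X-modules, closed under isomorphism, containing 0,
such that in every short exact sequence of coherent modules with two terms in K' the third is in K',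
and such that every coherent direct summand of a coherent module in K' is in K'. Let X' be a closed
subset such that for every irreducible closed subset Z ⊆ X' with generic point y there is a coherent
module G in K' supported in Z, annihilated by the ideal sheaf of the reduced closed subscheme Z,
whose stalk at y is nonzero. Then every coherent O_X-module with support contained in X' belongs to
K'. (The published statement asks of G only that it lie in K' and have nonzero stalk at y, remarking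
that this amounts to G having support Z; that is not sufficient: on the spectrum of the ring
k[e]/(e^2) of dual numbers over a field the free coherent modules form such a class K', containing
the structure sheaf and not the residue field. This row asks G to be supported in Z and annihilated
by the ideal sheaf of Z, which is what the published proof uses, through the stalk of G at y being a
vector space over the residue field of y.) -/
theorem result (X : Scheme.{u}) [IsNoetherian X]
    (K' : ObjectProperty X.Modules) [K'.IsClosedUnderIsomorphisms]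
    (h0 : ∀ M : X.Modules, IsZero M → K' M)
    (hex : ∀ S : ShortComplex X.Modules, S.ShortExact → Coh.IsCoh S.X₁ → Coh.IsCoh S.X₂ → Coh.IsCoh S.X₃ →
      (K' S.X₁ → K' S.X₂ → K' S.X₃) ∧ (K' S.X₁ → K' S.X₃ → K' S.X₂) ∧ (K' S.X₂ → K' S.X₃ → K' S.X₁))
    (hsum : ∀ (M N : X.Modules) (i : N ⟶ M) (r : M ⟶ N), i ≫ r = 𝟙 N → Coh.IsCoh M → Coh.IsCoh N →
      K' M → K' N)
    (X' : Set X) (hX' : IsClosed X')
    (hgen : ∀ (Z : Set X) (hZ : IsClosed Z), IsIrreducible Z → Z ⊆ X' → ∀ y : X, closure {y} = Z →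
      ∃ G : X.Modules, Coh.IsCoh G ∧ K' G ∧ CohB1.support G ⊆ Z ∧
        ClSub.KilledByIdeal (Scheme.IdealSheafData.vanishingIdeal ⟨Z, hZ⟩) G ∧ y ∈ CohB1.support G)
    (F : X.Modules) (hF : Coh.IsCoh F) (hsupp : CohB1.support F ⊆ X') : K' F := by
  refine Groth.Agent.Lib.Helper17.DevEngine.engine X K'
    (fun M N ⟨e⟩ h => K'.prop_of_iso e h) X' h0
    (fun S hS h1 h2 h3 _ p1 p3 => (hex S hS h1 h2 h3).2.1 p1 p3) ?_ F hF hsupp
  intro Z hZ hirr hZX' IH F hF hFs _
  obtain ⟨y, hy⟩ := QuasiSober.sober hirr hZ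
  have hy' : closure {y} = ((⟨Z, hZ⟩ : TopologicalSpace.Closeds X) : Set X) := hy
  have hy'' : closure {y} = Z := hy
  have hyZ : y ∈ Z := hy'' ▸ subset_closure (Set.mem_singleton y)
  have hgenZ : ∀ x ∈ Z, y ⤳ x := fun x hx => specializes_iff_mem_closure.mpr (hy''.symm ▸ hx)
  obtain ⟨G, hG, hGP, hGs, hGk, hGy⟩ := hgen Z hZ hirr hZX' y hy''
  have IH' : ∀ F' : X.Modules, Coh.IsCoh F' → CohB1.support F' ⊆ Z → y ∉ CohB1.support F' →
      K' F' := fun F' hF' hs hn => IH F' hF' hs (fun h => hn (h ▸ hyZ))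
  have h23 : ∀ S : ShortComplex X.Modules, S.ShortExact → Coh.IsCoh S.X₁ → Coh.IsCoh S.X₂ →
      Coh.IsCoh S.X₃ → CohB1.support S.X₂ ⊆ X' →
      (K' S.X₁ → K' S.X₂ → K' S.X₃) ∧ (K' S.X₁ → K' S.X₃ → K' S.X₂) ∧
        (K' S.X₂ → K' S.X₃ → K' S.X₁) := fun S hS h1 h2 h3 _ => hex S hS h1 h2 h3
  have hA : Coh.IsCoh (Groth.Agent.Lib.Helper17.DevTest.A
      (Scheme.IdealSheafData.vanishingIdeal ⟨Z, hZ⟩)) :=
    Groth.Agent.Lib.Helper17.DevTest.isCoh_A _
  have hAs : CohB1.support (Groth.Agent.Lib.Helper17.DevTest.A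
      (Scheme.IdealSheafData.vanishingIdeal ⟨Z, hZ⟩)) ⊆ Z := by
    rw [Groth.Agent.Lib.Helper17.DevTest.support_A,
      Scheme.IdealSheafData.coe_support_vanishingIdeal]
    rfl
  have hAl := Groth.Agent.Lib.Helper17.DevTest.length_stalk_A ⟨Z, hZ⟩ y hy'
  have hfin := Groth.Agent.Lib.Helper17.DevKey.length_ne_top G hG Z y hgenZ hGs
  obtain ⟨r, hr⟩ := ENat.ne_top_iff_exists.mp hfin
  have hr0 : r ≠ 0 := by
    rintro rfl
    rw [Nat.cast_zero] at hr
    exact hGy (Module.length_eq_zero_iff.mp hr.symm)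
  obtain ⟨r', rfl⟩ := Nat.exists_eq_succ_of_ne_zero hr0
  have hB := Groth.Agent.Lib.Helper17.DevPow.isCoh_pow _ hA (r' + 1)
  have hBs := (Groth.Agent.Lib.Helper17.DevPow.support_pow_subset
    (Groth.Agent.Lib.Helper17.DevTest.A (Scheme.IdealSheafData.vanishingIdeal ⟨Z, hZ⟩))
    (r' + 1)).trans hAs
  have hBl := Groth.Agent.Lib.Helper17.DevPow.length_pow
    (Groth.Agent.Lib.Helper17.DevTest.A (Scheme.IdealSheafData.vanishingIdeal ⟨Z, hZ⟩)) y (r' + 1)
  rw [hAl, mul_one] at hBl
  haveI := hG.1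
  haveI := hG.2
  haveI := hB.1
  haveI := hB.2
  haveI := Groth.Agent.Lib.Helper17.CohStalk.finite_stalk G y
  haveI := Groth.Agent.Lib.Helper17.CohStalk.finite_stalk
    (Groth.Agent.Lib.Helper17.DevPow.pow (Groth.Agent.Lib.Helper17.DevTest.A
      (Scheme.IdealSheafData.vanishingIdeal ⟨Z, hZ⟩)) (r' + 1)) y
  obtain ⟨ψ⟩ := Groth.Agent.Lib.Helper17.DevSS.nonempty_linearEquiv_of_killed
    (Groth.Agent.Lib.Helper17.DevPow.stalk_smul_eq_zero ⟨Z, hZ⟩ y hy' G hGk)
    (Groth.Agent.Lib.Helper17.DevPow.stalk_smul_eq_zero ⟨Z, hZ⟩ y hy' _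
      (Groth.Agent.Lib.Helper17.DevPow.killed_pow _ _
        (Groth.Agent.Lib.Helper17.DevTest.killed_A _) (r' + 1)))
    (hr.symm.trans hBl.symm)
  obtain ⟨C, hC, sC, -, hCy, hPC⟩ := Groth.Agent.Lib.Helper17.DevKey.step23 K' X' h23 Z hZX' y IH'
    G hG hGs hGP _ hB hBs ψ.toLinearMap ψ.injective
  have hKB := hPC (IH' C hC sC (hCy ψ.surjective))
  obtain ⟨i, r, hir⟩ := Groth.Agent.Lib.Helper17.DevPow.retract_pow
    (Groth.Agent.Lib.Helper17.DevTest.A (Scheme.IdealSheafData.vanishingIdeal ⟨Z, hZ⟩)) r'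
  have hKA := hsum _ _ i r hir hB hA hKB
  exact Groth.Agent.Lib.Helper17.DevKey.key23 K' X' h23 Z hZX' y hgenZ IH' _ hA hAs hKA hAl
    F hF hFs

end Groth.Agent.S4458
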