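import Groth.Statements.S4462
import Groth.Agent.Lib.Helper13.CBCModPow2
import Groth.Agent.Lib.Helper13.CBCMain
import Groth.Agent.Lib.Helper13.CBCTransfer
import Groth.Agent.Lib.Helper13.CBCRank
import Groth.Agent.Lib.Helper13.CBCStalk2
import Groth.Agent.Lib.Helper7.TFunExact2
import Groth.Agent.Lib.Helper7.TFunLib
import Groth.Agent.S2408

set_option autoImplicit false
universe u
open Coherent

namespace Groth.Agent.S4462

open AlgebraicGeometry CategoryTheory in
/-- Second assertion: for a local base: let A be a Noetherian local ring with maximal ideal m and closed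
point y, X a scheme proper over Spec A, F a coherent O_X-module flat over Spec A and n ≥ 0 such that
H^(n+1)(X_y, F_y) = 0, where X_y is the closed fibre and F_y the restriction of F to it. Then for
every p ≥ 0 the canonical map H^n(X, F) → H^n(X, F/m^(p+1)F) is surjective. (For a general locally
Noetherian base the published statement is about the stalk of R^n f_* F at a point; over the local
ring of that point this is the module H^n(X, F) used here.) -/
theorem result (A : Type u) [CommRing A] [IsNoetherianRing A]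
    [IsLocalRing A] (X : Scheme.{u}) [X.Over (Spec (CommRingCat.of A))]
    [IsProper (X ↘ Spec (CommRingCat.of A))] (F : X.Modules) (hF : Coh.IsCoh F)
    (hfl : FlatMod.IsFlatOver (X ↘ Spec (CommRingCat.of A)) F) (n : ℕ)
    (hvan : Subsingleton (CohIII.fiberH (X ↘ Spec (CommRingCat.of A)) F (IsLocalRing.closedPoint A) (n + 1)))
    (p : ℕ) :
    Function.Surjective (Formal.toHHmodPow (IsLocalRing.maximalIdeal A) F n p) := by
  haveI : F.IsQuasicoherent := hF.1
  obtain ⟨Q, hQ, ⟨d, hd⟩, hpos, hν⟩ := Groth.Agent.Lib.Helper13.CBCMain.bridge A X F hF hfl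
  have hQ' : ∀ i, Module.Finite A (Q.X i) ∧ Module.Flat A (Q.X i) := fun i =>
    ⟨(hQ i).1, haveI := (hQ i).2; inferInstance⟩
  have hQfl : ∀ i, Module.Flat A (Q.X i) := fun i => (hQ' i).2
  obtain ⟨ν1⟩ := hν (n + 1)
  obtain ⟨ν0⟩ := hν n
  have hrk := Groth.Agent.Lib.Helper13.CBCRank.fiberRank_eq_dRank A X F (n + 1) Q ν1
    (IsLocalRing.closedPoint A)
  have h0 : CohIII.fiberRank (X ↘ Spec (CommRingCat.of A)) F (n + 1)
      (IsLocalRing.closedPoint A) = 0 := by
    unfold CohIII.fiberRank
    haveI := hvan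
    exact Module.finrank_zero_of_subsingleton
  have hk := Groth.Agent.Lib.Helper13.CBCStalk2.isZero_T_residue_of_dRank_eq_zero Q
    (-((n + 1 : ℕ) : ℤ)) (fun i => (hQ i).1) (hrk.symm.trans h0)
  have hz := Groth.Agent.S2408.result Q hQ' _ hk
  have hmono := (Groth.Agent.Lib.Helper7.preservesMonoEpi_of_isZero _ hz).1
  have hepi : (CohIII.TFun Q (-(n : ℤ))).PreservesEpimorphisms :=
    (Groth.Agent.Lib.Helper7.TFun_preservesMono_iff_preservesEpi Q hQfl (-(n : ℤ))
      (-((n + 1 : ℕ) : ℤ)) (show -((n + 1 : ℕ) : ℤ) + 1 = -(n : ℤ) by push_cast; ring)).1 hmono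
  haveI hG : (CohIII.tensorAFunctor A F ⋙ CohIII.HAb X n).PreservesEpimorphisms :=
    (Groth.Agent.Lib.Helper13.CBCTransfer.preservesEpi_iff ν0).2 hepi
  -- the module-level part
  haveI hψ := Groth.Agent.Lib.Helper13.CBCModPow.isIso_ψ_one A F
  haveI hχ := Groth.Agent.Lib.Helper13.CBCModPow.isIso_χ A F (IsLocalRing.maximalIdeal A) (p + 1) hF
  have hcomm : Formal.modPowπ (IsLocalRing.maximalIdeal A) (p + 1) F ≫
      (asIso (Groth.Agent.Lib.Helper13.CBCModPow.χ A F (IsLocalRing.maximalIdeal A) (p + 1))).hom =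
      (asIso (Groth.Agent.Lib.Helper13.CBCModPow.ψ A F (ModuleCat.of A A) (1 : A))).hom ≫
        (CohIII.tensorAFunctor A F).map
          (Groth.Agent.Lib.Helper13.CBCModPow.q A (IsLocalRing.maximalIdeal A ^ (p + 1))) := by
    rw [asIso_hom, asIso_hom, Groth.Agent.Lib.Helper13.CBCModPow.π_χ,
      Groth.Agent.Lib.Helper13.CBCModPow.ψ_one_q]
  have hepi' : Epi ((CohIII.tensorAFunctor A F ⋙ CohIII.HAb X n).map
      (Groth.Agent.Lib.Helper13.CBCModPow.q A (IsLocalRing.maximalIdeal A ^ (p + 1)))) :=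
    inferInstance
  have hsurj : Function.Surjective (Groth.Agent.Lib.Helper13.CBCModPow.Hm
      ((CohIII.tensorAFunctor A F).map
        (Groth.Agent.Lib.Helper13.CBCModPow.q A (IsLocalRing.maximalIdeal A ^ (p + 1)))) n) :=
    (AddCommGrpCat.epi_iff_surjective _).1 hepi'
  exact Groth.Agent.Lib.Helper13.CBCModPow.surjective_Hm_of_comm _ _ _ _ hcomm n hsurj

end Groth.Agent.S4462
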