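import Groth.Statements.S4481
import Groth.Agent.Lib.Helper7.CechPU

set_option autoImplicit false
universe u
open Coherent

namespace Groth.Agent.S4481

open AlgebraicGeometry CategoryTheory Opposite in
/-- Let X be a separated scheme, f_1, …, f_n global functions on X such that every open X_{f_i} is
quasi-compact, U the union of the X_{f_i}, and suppose there are sections g_1, …, g_n of O_X over U
with Σ g_i · (f_i|_U) = 1. Then for every quasi-coherent O_X-module G and every p > 0 the Čech
cohomology group of G in degree p with respect to the family of opens (X_{f_i}) is zero. (The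
published statement also covers a scheme whose underlying space is Noetherian, not necessarily
separated; this row treats separated X.) -/
theorem result (X : Scheme.{u}) [X.IsSeparated] (n : ℕ)
    (f : Fin n → Γ(X, ⊤)) (hqc : ∀ i, IsCompact (X.basicOpen (f i) : Set X))
    (g : Fin n → Γ(X, ⨆ i, X.basicOpen (f i)))
    (hg : (Finset.univ.sum fun i => g i *
      (X.presheaf.map (homOfLE (le_top : (⨆ i, X.basicOpen (f i)) ≤ ⊤)).op).hom (f i)) = 1)
    (G : X.Modules) [Coh.IsQCoh G] (p : ℕ) (hp : 0 < p) :
    Limits.IsZero (CohB1.cechH (fun i : ULift.{u} (Fin n) => X.basicOpen (f i.down)) G p) := by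
  obtain ⟨p', rfl⟩ : ∃ p', p = p' + 1 := ⟨p - 1, by omega⟩
  have hsum : ∑ i : ULift.{u} (Fin n), g i.down *
      Groth.Agent.Lib.Helper3.QCSec.rres X le_top (f i.down) = 1 := by
    rw [← hg]
    exact Fintype.sum_equiv Equiv.ulift _ _ (fun i => rfl)
  have h := Groth.Agent.Lib.Helper7.CechPU.isZero_cechH_of_partition X (ι := ULift.{u} (Fin n))
    (fun i => f i.down) (fun i => hqc i.down) (⨆ i, X.basicOpen (f i))
    (fun i => le_iSup (fun i => X.basicOpen (f i)) i.down) (fun i => g i.down) hsum G p'
  exact h

end Groth.Agent.S4481
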