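import Groth.Statements.S4507
import Mathlib

set_option autoImplicit false
universe u
open FlatCx

namespace Groth.Agent.S4507

open CategoryTheory CategoryTheory.Limits

structure JS {A : Type u} [CommRing A] (S : Submonoid A) : Type u where
  val : S

instance instCatJS {A : Type u} [CommRing A] (S : Submonoid A) : SmallCategory (JS S) where
  Hom s t := {w : S // w * s.val = t.val}
  id s := ⟨1, one_mul _⟩
  comp f g := ⟨g.1 * f.1, by rw [mul_assoc, f.2, g.2]⟩
  id_comp f := Subtype.ext (mul_one _)
  comp_id f := Subtype.ext (one_mul _)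
  assoc f g h := Subtype.ext (mul_assoc _ _ _).symm

instance instFiltJS {A : Type u} [CommRing A] (S : Submonoid A) : IsFiltered (JS S) where
  cocone_objs s t := ⟨⟨s.val * t.val⟩, ⟨t.val, mul_comm _ _⟩, ⟨s.val, rfl⟩, trivial⟩
  cocone_maps s t f g := ⟨⟨s.val * t.val⟩, ⟨s.val, rfl⟩, Subtype.ext (by
    show s.val * f.1 = s.val * g.1
    rw [mul_comm, f.2, mul_comm, g.2])⟩
  nonempty := ⟨⟨1⟩⟩

noncomputable def D {A : Type u} [CommRing A] (S : Submonoid A) (M : ModuleCat.{u} A) :
    JS S ⥤ ModuleCat.{u} A where
  obj _ := M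
  map f := ((f.1 : S) : A) • 𝟙 M
  map_id s := by
    show ((1 : S) : A) • 𝟙 M = 𝟙 M
    simp
  map_comp f g := by
    show ((g.1 * f.1 : S) : A) • 𝟙 M = (((f.1 : S) : A) • 𝟙 M) ≫ (((g.1 : S) : A) • 𝟙 M)
    ext x
    simp [mul_smul]

noncomputable def iota {A : Type u} [CommRing A] (S : Submonoid A) (M : Type u)
    [AddCommGroup M] [Module A M] (s : S) : M →ₗ[A] LocalizedModule S M where
  toFun m := LocalizedModule.mk m s
  map_add' m m' := by
    rw [LocalizedModule.mk_add_mk, ← smul_add, LocalizedModule.mk_cancel_common_left]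
  map_smul' a m := (LocalizedModule.smul'_mk a m s).symm

noncomputable def cocone {A : Type u} [CommRing A] (S : Submonoid A) (M : ModuleCat.{u} A) :
    Cocone (D S M) where
  pt := ModuleCat.of A (LocalizedModule S M)
  ι :=
    { app := fun s => ModuleCat.ofHom (iota S M s.val)
      naturality := fun s t f => by
        ext m
        show LocalizedModule.mk (((f.1 : S) : A) • m) t.val = LocalizedModule.mk m s.val
        have h0 := LocalizedModule.mk_cancel_common_left f.1 s.val m
        rw [f.2] at h0
        exact h0 }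

noncomputable def isColimitCocone {A : Type u} [CommRing A] (S : Submonoid A)
    (M : ModuleCat.{u} A) : IsColimit (cocone S M) := by
  haveI : PreservesColimitsOfShape (JS S) (forget (ModuleCat.{u} A)) :=
    PreservesFilteredColimitsOfSize.preserves_filtered_colimits (JS S)
  haveI : ReflectsColimitsOfShape (JS S) (forget (ModuleCat.{u} A)) :=
    reflectsColimitsOfShape_of_reflectsIsomorphisms
  apply isColimitOfReflects (forget (ModuleCat.{u} A))
  apply Types.FilteredColimit.isColimitOf
  · intro (x : LocalizedModule S M)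
    obtain ⟨⟨m, s⟩, rfl⟩ : ∃ p : M × S, LocalizedModule.mk p.1 p.2 = x := by
      induction x using LocalizedModule.induction_on with
      | h m s => exact ⟨⟨m, s⟩, rfl⟩
    exact ⟨⟨s⟩, m, rfl⟩
  · intro i j (xi : M) (xj : M)
      (h : LocalizedModule.mk xi i.val = LocalizedModule.mk xj j.val)
    obtain ⟨w, hw⟩ := LocalizedModule.mk_eq.1 h
    refine ⟨⟨w * j.val * i.val⟩, ⟨w * j.val, rfl⟩, ⟨w * i.val, mul_right_comm _ _ _⟩, ?_⟩
    show ((w * j.val : S) : A) • xi = ((w * i.val : S) : A) • xj
    rw [Submonoid.coe_mul, Submonoid.coe_mul, mul_smul, mul_smul]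
    exact hw


open CategoryTheory CategoryTheory.Limits in
/-- The isomorphism T(S⁻¹M) ≅ S⁻¹T(M). Let A be a commutative ring, T an additive A-linear endofunctor
of the category of A-modules which preserves filtered colimits, S a multiplicative subset of A and M
an A-module. Then the A-linear map T(M) → T(S⁻¹M), image under T of the localization map M → S⁻¹M,
is a localization of T(M) at S (so T(S⁻¹M) is canonically S⁻¹T(M), as an S⁻¹A-module). -/
theorem result {A : Type u} [CommRing A]
    (T : ModuleCat.{u} A ⥤ ModuleCat.{u} A) [T.Additive] [T.Linear A]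
    (hT : ∀ (J : Type u) [SmallCategory J] [IsFiltered J], PreservesColimitsOfShape J T)
    (S : Submonoid A) (M : ModuleCat.{u} A) :
    IsLocalizedModule S (T.map (ModuleCat.ofHom (LocalizedModule.mkLinearMap S M) :
      M ⟶ ModuleCat.of A (LocalizedModule S M))).hom := by
  haveI : PreservesColimitsOfShape (JS S) (forget (ModuleCat.{u} A)) :=
    PreservesFilteredColimitsOfSize.preserves_filtered_colimits (JS S)
  haveI := hT (JS S)
  have hcol : IsColimit (T.mapCocone (cocone S M)) :=
    isColimitOfPreserves T (isColimitCocone S M)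
  have hDT : ∀ {s t : JS S} (f : s ⟶ t) (x : T.obj M),
      ((D S M ⋙ T).map f).hom x = ((f.1 : S) : A) • x := by
    intro s t f x
    show (T.map (((f.1 : S) : A) • 𝟙 M)).hom x = _
    rw [Functor.map_smul, T.map_id]
    simp
  let ιs : S → (M ⟶ ModuleCat.of A (LocalizedModule S M)) :=
    fun s => ModuleCat.ofHom (iota S M s)
  have hι : ∀ (s : S), ((s : S) : A) • ιs s = ιs 1 := by
    intro s
    ext m
    show ((s : S) : A) • LocalizedModule.mk m s = LocalizedModule.mk m 1
    rw [LocalizedModule.smul'_mk]
    exact LocalizedModule.mk_cancel s m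
  have h1 : ιs 1 = ModuleCat.ofHom (LocalizedModule.mkLinearMap S M) := by
    ext m
    rfl
  rw [← h1]
  refine ⟨?_, ?_, ?_⟩
  · intro s
    have hs : ((s : S) : A) • ModuleCat.ofHom (LocalizedModule.divBy (M := M) s) =
        𝟙 (ModuleCat.of A (LocalizedModule S M)) := by
      ext p
      exact LocalizedModule.mul_by_divBy s p
    have hs' : ((s : S) : A) • T.map (ModuleCat.ofHom (LocalizedModule.divBy (M := M) s)) =
        𝟙 _ := by
      rw [← Functor.map_smul, hs, T.map_id]
    have key : ∀ x, ((s : S) : A) •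
        (T.map (ModuleCat.ofHom (LocalizedModule.divBy (M := M) s))).hom x = x := by
      intro x
      have := congrArg (fun φ => φ.hom x) hs'
      simpa using this
    rw [Module.End.isUnit_iff]
    constructor
    · intro x y hxy
      have hxy' : ((s : S) : A) • x = ((s : S) : A) • y := hxy
      have := congrArg (T.map (ModuleCat.ofHom (LocalizedModule.divBy (M := M) s))).hom hxy'
      rw [map_smul, map_smul, key, key] at this
      exact this
    · intro y
      exact ⟨(T.map (ModuleCat.ofHom (LocalizedModule.divBy (M := M) s))).hom y, key y⟩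
  · intro y
    obtain ⟨j, x, hx⟩ := Concrete.isColimit_exists_rep (D S M ⋙ T) hcol y
    refine ⟨⟨x, j.val⟩, ?_⟩
    rw [← hx]
    show ((j.val : S) : A) • (T.map (ιs j.val)).hom x = (T.map (ιs 1)).hom x
    rw [← hι j.val, Functor.map_smul]
    simp
  · intro x₁ x₂ h
    obtain ⟨k, f, hf⟩ := (IsColimit.eq_iff' hcol (i := ⟨1⟩) x₁ x₂).mp h
    refine ⟨f.1, ?_⟩
    show ((f.1 : S) : A) • x₁ = ((f.1 : S) : A) • x₂
    rw [← hDT f x₁, ← hDT f x₂]
    exact hf

end Groth.Agent.S4507
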