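import Groth.Statements.S4493
import Mathlib
import Groth.Agent.S4507

set_option autoImplicit false
universe u
open FlatCx

namespace Groth.Agent.S4493

open CategoryTheory CategoryTheory.Limits

theorem isLocalizedModule_map {A : Type u} [CommRing A]
    (T : ModuleCat.{u} A ⥤ ModuleCat.{u} A) [T.Additive] [T.Linear A]
    (hT : ∀ (J : Type u) [SmallCategory J] [IsFiltered J], PreservesColimitsOfShape J T)
    (S : Submonoid A) {M N : ModuleCat.{u} A} (ℓ : M ⟶ N) [IsLocalizedModule S ℓ.hom] :
    IsLocalizedModule S (T.map ℓ).hom := by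
  let e : LocalizedModule S M ≃ₗ[A] N := IsLocalizedModule.iso S ℓ.hom
  haveI h0 := Groth.Agent.S4507.result T hT S M
  have hℓ : ℓ = ModuleCat.ofHom (LocalizedModule.mkLinearMap S M) ≫ e.toModuleIso.hom := by
    ext x
    exact (IsLocalizedModule.iso_mk_one S ℓ.hom x).symm
  have h2 : T.map ℓ = T.map (ModuleCat.ofHom (LocalizedModule.mkLinearMap S M)) ≫
      T.map e.toModuleIso.hom := by
    rw [← T.map_comp, ← hℓ]
  let e' := (T.mapIso e.toModuleIso).toLinearEquiv
  have h3 : (T.map ℓ).hom = e'.toLinearMap ∘ₗ
      (T.map (ModuleCat.ofHom (LocalizedModule.mkLinearMap S M))).hom := by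
    rw [h2]
    rfl
  rw [h3]
  exact IsLocalizedModule.of_linearEquiv S _ e'

section

variable {A : Type u} [CommRing A] (P : Ideal A) [P.IsPrime]

noncomputable abbrev Lobj (X : ModuleCat.{u} A) : ModuleCat.{u} (Localization.AtPrime P) :=
  ModuleCat.of (Localization.AtPrime P) (LocalizedModule P.primeCompl X)

noncomputable def Lmap {X Y : ModuleCat.{u} A} (φ : X ⟶ Y) : Lobj P X ⟶ Lobj P Y :=
  ModuleCat.ofHom (LocalizedModule.map P.primeCompl φ.hom)

theorem Lmap_apply {X Y : ModuleCat.{u} A} (φ : X ⟶ Y) (x : LocalizedModule P.primeCompl X) :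
    (Lmap P φ).hom x = LocalizedModule.map P.primeCompl φ.hom x := rfl

noncomputable abbrev RF : ModuleCat.{u} (Localization.AtPrime P) ⥤ ModuleCat.{u} A :=
  ModuleCat.restrictScalars.{u} (algebraMap A (Localization.AtPrime P))

noncomputable def idEquiv (X : ModuleCat.{u} A) :
    LocalizedModule P.primeCompl X ≃ₗ[A] ((RF P).obj (Lobj P X)) where
  toFun x := x
  invFun x := x
  map_add' _ _ := rfl
  map_smul' a x := (algebraMap_smul (Localization.AtPrime P) a x).symm
  left_inv _ := rfl
  right_inv _ := rfl

noncomputable def ell (X : ModuleCat.{u} A) : X ⟶ (RF P).obj (Lobj P X) :=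
  ConcreteCategory.ofHom (C := ModuleCat.{u} A) (X := X) (Y := (RF P).obj (Lobj P X))
    ((idEquiv P X).toLinearMap ∘ₗ LocalizedModule.mkLinearMap P.primeCompl X)

instance instEll (X : ModuleCat.{u} A) : IsLocalizedModule P.primeCompl (ell P X).hom := by
  show IsLocalizedModule P.primeCompl
    ((idEquiv P X).toLinearMap ∘ₗ LocalizedModule.mkLinearMap P.primeCompl X)
  infer_instance

theorem ell_naturality {X Y : ModuleCat.{u} A} (φ : X ⟶ Y) :
    φ ≫ ell P Y = ell P X ≫ (RF P).map (Lmap P φ) := by
  ext x
  show LocalizedModule.mk (φ.hom x) 1 =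
    LocalizedModule.map P.primeCompl φ.hom (LocalizedModule.mk x 1)
  rw [LocalizedModule.map_mk]

theorem map_eq (T : ModuleCat.{u} A ⥤ ModuleCat.{u} A) {X Y : ModuleCat.{u} A} (φ : X ⟶ Y)
    [IsLocalizedModule P.primeCompl (T.map (ell P X)).hom]
    [IsLocalizedModule P.primeCompl (T.map (ell P Y)).hom] :
    IsLocalizedModule.map P.primeCompl (T.map (ell P X)).hom (T.map (ell P Y)).hom
      (T.map φ).hom = (T.map ((RF P).map (Lmap P φ))).hom := by
  apply IsLocalizedModule.linearMap_ext P.primeCompl (T.map (ell P X)).hom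
    (T.map (ell P Y)).hom
  rw [IsLocalizedModule.map_comp]
  have := congrArg (fun ψ => (T.map ψ).hom) (ell_naturality P φ)
  simpa [Functor.map_comp] using this

noncomputable def locSC (Sc : ShortComplex (ModuleCat.{u} A)) :
    ShortComplex (ModuleCat.{u} (Localization.AtPrime P)) :=
  ShortComplex.mk (Lmap P Sc.f) (Lmap P Sc.g) (by
    ext x
    induction x using LocalizedModule.induction_on with
    | h m s =>
      show LocalizedModule.map P.primeCompl Sc.g.hom
        (LocalizedModule.map P.primeCompl Sc.f.hom (LocalizedModule.mk m s)) = 0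
      rw [LocalizedModule.map_mk, LocalizedModule.map_mk]
      have h0 : Sc.g.hom (Sc.f.hom m) = 0 := by
        have := congrArg (fun ψ => ψ.hom m) Sc.zero
        simpa using this
      rw [h0, LocalizedModule.zero_mk])

theorem locSC_shortExact (Sc : ShortComplex (ModuleCat.{u} A)) (h : Sc.ShortExact) :
    (locSC P Sc).ShortExact := by
  have hex : Function.Exact Sc.f.hom Sc.g.hom :=
    (ShortComplex.ShortExact.moduleCat_exact_iff_function_exact Sc).1 h.exact
  have hinj : Function.Injective Sc.f.hom := h.moduleCat_injective_f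
  have hsurj : Function.Surjective Sc.g.hom := h.moduleCat_surjective_g
  refine ModuleCat.shortComplex_shortExact _ ?_ ?_ ?_
  · show Function.Exact (LocalizedModule.map P.primeCompl Sc.f.hom)
      (LocalizedModule.map P.primeCompl Sc.g.hom)
    exact LocalizedModule.map_exact P.primeCompl Sc.f.hom Sc.g.hom hex
  · exact LocalizedModule.map_injective P.primeCompl Sc.f.hom hinj
  · exact LocalizedModule.map_surjective P.primeCompl Sc.g.hom hsurj

end


open CategoryTheory CategoryTheory.Limits in
/-- Let A be a commutative ring and T an additive A-linear endofunctor of the category of A-modules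
which preserves filtered colimits. For a maximal ideal m write T_m for T precomposed with
restriction of scalars along A → A_m (a functor from A_m-modules to A-modules). If T_m is left exact
for every maximal ideal m then T is left exact, and if T_m is right exact for every maximal ideal m
then T is right exact (exactness meaning preservation of finite limits, resp. finite colimits). -/
theorem result {A : Type u} [CommRing A]
    (T : ModuleCat.{u} A ⥤ ModuleCat.{u} A) [T.Additive] [T.Linear A]
    (hT : ∀ (J : Type u) [SmallCategory J] [IsFiltered J], PreservesColimitsOfShape J T) :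
    ((∀ (m : Ideal A) [m.IsMaximal],
        PreservesFiniteLimits (ModuleCat.restrictScalars (algebraMap A (Localization.AtPrime m)) ⋙ T)) →
      PreservesFiniteLimits T) ∧
    ((∀ (m : Ideal A) [m.IsMaximal],
        PreservesFiniteColimits (ModuleCat.restrictScalars (algebraMap A (Localization.AtPrime m)) ⋙ T)) →
      PreservesFiniteColimits T) := by
  haveI hloc : ∀ (P : Ideal A) [P.IsPrime] (X : ModuleCat.{u} A),
      IsLocalizedModule P.primeCompl (T.map (ell P X)).hom :=
    fun P _ X => isLocalizedModule_map T hT P.primeCompl (ell P X)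
  constructor
  · intro H
    rw [Functor.preservesFiniteLimits_iff_forall_exact_map_and_mono]
    intro Sc hSc
    have hl : ∀ (P : Ideal A) [P.IsMaximal],
        Function.Exact (T.map ((RF P).map (Lmap P Sc.f))).hom
          (T.map ((RF P).map (Lmap P Sc.g))).hom ∧
        Function.Injective (T.map ((RF P).map (Lmap P Sc.f))).hom := by
      intro P _
      have hP := (Functor.preservesFiniteLimits_iff_forall_exact_map_and_mono (RF P ⋙ T)).1 (H P)
      obtain ⟨h1, h2⟩ := hP (locSC P Sc) (locSC_shortExact P Sc hSc)
      constructor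
      · exact (ShortComplex.ShortExact.moduleCat_exact_iff_function_exact _).1 h1
      · exact (ModuleCat.mono_iff_injective _).1 h2
    constructor
    · rw [ShortComplex.ShortExact.moduleCat_exact_iff_function_exact]
      show Function.Exact (T.map Sc.f).hom (T.map Sc.g).hom
      refine exact_of_isLocalized_maximal
        (Mₚ := fun P _ => ↑(T.obj ((RF P).obj (Lobj P Sc.X₁))))
        (f := fun P _ => (T.map (ell P Sc.X₁)).hom)
        (Nₚ := fun P _ => ↑(T.obj ((RF P).obj (Lobj P Sc.X₂))))
        (g := fun P _ => (T.map (ell P Sc.X₂)).hom)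
        (Lₚ := fun P _ => ↑(T.obj ((RF P).obj (Lobj P Sc.X₃))))
        (h := fun P _ => (T.map (ell P Sc.X₃)).hom)
        (F := (T.map Sc.f).hom) (G := (T.map Sc.g).hom) ?_
      intro P _
      rw [map_eq P T Sc.f, map_eq P T Sc.g]
      exact (hl P).1
    · rw [ModuleCat.mono_iff_injective]
      show Function.Injective (T.map Sc.f).hom
      refine injective_of_isLocalized_maximal
        (Mₚ := fun P _ => ↑(T.obj ((RF P).obj (Lobj P Sc.X₁))))
        (f := fun P _ => (T.map (ell P Sc.X₁)).hom)
        (Nₚ := fun P _ => ↑(T.obj ((RF P).obj (Lobj P Sc.X₂))))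
        (g := fun P _ => (T.map (ell P Sc.X₂)).hom)
        (F := (T.map Sc.f).hom) ?_
      intro P _
      rw [map_eq P T Sc.f]
      exact (hl P).2
  · intro H
    rw [Functor.preservesFiniteColimits_iff_forall_exact_map_and_epi]
    intro Sc hSc
    have hl : ∀ (P : Ideal A) [P.IsMaximal],
        Function.Exact (T.map ((RF P).map (Lmap P Sc.f))).hom
          (T.map ((RF P).map (Lmap P Sc.g))).hom ∧
        Function.Surjective (T.map ((RF P).map (Lmap P Sc.g))).hom := by
      intro P _
      have hP := (Functor.preservesFiniteColimits_iff_forall_exact_map_and_epi (RF P ⋙ T)).1 (H P)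
      obtain ⟨h1, h2⟩ := hP (locSC P Sc) (locSC_shortExact P Sc hSc)
      constructor
      · exact (ShortComplex.ShortExact.moduleCat_exact_iff_function_exact _).1 h1
      · exact (ModuleCat.epi_iff_surjective _).1 h2
    constructor
    · rw [ShortComplex.ShortExact.moduleCat_exact_iff_function_exact]
      show Function.Exact (T.map Sc.f).hom (T.map Sc.g).hom
      refine exact_of_isLocalized_maximal
        (Mₚ := fun P _ => ↑(T.obj ((RF P).obj (Lobj P Sc.X₁))))
        (f := fun P _ => (T.map (ell P Sc.X₁)).hom)
        (Nₚ := fun P _ => ↑(T.obj ((RF P).obj (Lobj P Sc.X₂))))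
        (g := fun P _ => (T.map (ell P Sc.X₂)).hom)
        (Lₚ := fun P _ => ↑(T.obj ((RF P).obj (Lobj P Sc.X₃))))
        (h := fun P _ => (T.map (ell P Sc.X₃)).hom)
        (F := (T.map Sc.f).hom) (G := (T.map Sc.g).hom) ?_
      intro P _
      rw [map_eq P T Sc.f, map_eq P T Sc.g]
      exact (hl P).1
    · rw [ModuleCat.epi_iff_surjective]
      show Function.Surjective (T.map Sc.g).hom
      refine surjective_of_isLocalized_maximal
        (Mₚ := fun P _ => ↑(T.obj ((RF P).obj (Lobj P Sc.X₂))))
        (f := fun P _ => (T.map (ell P Sc.X₂)).hom)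
        (Nₚ := fun P _ => ↑(T.obj ((RF P).obj (Lobj P Sc.X₃))))
        (g := fun P _ => (T.map (ell P Sc.X₃)).hom)
        (F := (T.map Sc.g).hom) ?_
      intro P _
      rw [map_eq P T Sc.g]
      exact (hl P).2

end Groth.Agent.S4493
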