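import Groth.Statements.S4498
import Groth.Agent.S2436

set_option autoImplicit false
universe u
attribute [local instance] HasDerivedCategory.standard
open Coherent

namespace Groth.Agent.S4498

open AlgebraicGeometry CategoryTheory Opposite in
/-- The global form over an affine base. Let A be a Noetherian ring, X a proper A-scheme with structure
morphism f, and F, F' coherent O_X-modules flat over Spec A. Let η be a natural transformation from
the functor M ↦ Γ(X, f^*(M~) ⊗ F) to the functor M ↦ Γ(X, f^*(M~) ⊗ F') of the A-module M (the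
published statement takes η induced by a homomorphism F → F'; this row allows any natural
transformation, which is all the argument uses). Then the kernel functor M ↦ Ker(η_M) is
corepresentable by a finitely generated A-module R: there are such an R and a natural transformation
ι : Hom_A(R, −) → Γ(X, f^*(−~) ⊗ F) with injective components whose image at every M is exactly the
kernel of η_M. (R is then unique up to unique isomorphism.) -/
theorem result (A : Type u) [CommRing A]
    [IsNoetherianRing A] (X : Scheme.{u}) [X.Over (Spec (CommRingCat.of A))]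
    [IsProper (X ↘ Spec (CommRingCat.of A))] (F F' : X.Modules) (hF : Coh.IsCoh F) (hF' : Coh.IsCoh F')
    (hfl : FlatMod.IsFlatOver (X ↘ Spec (CommRingCat.of A)) F)
    (hfl' : FlatMod.IsFlatOver (X ↘ Spec (CommRingCat.of A)) F')
    (η : CohIII.tensorAFunctor A F ⋙ CohIII.globalSectionsA A ⟶ CohIII.tensorAFunctor A F' ⋙ CohIII.globalSectionsA A) :
    ∃ (R : ModuleCat.{u} A) (ι : (linearCoyoneda A (ModuleCat.{u} A)).obj (op R) ⟶
        CohIII.tensorAFunctor A F ⋙ CohIII.globalSectionsA A),
      Module.Finite A R ∧ (∀ M : ModuleCat.{u} A, Function.Injective (ι.app M).hom) ∧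
        ∀ (M : ModuleCat.{u} A) (x : (CohIII.tensorAFunctor A F ⋙ CohIII.globalSectionsA A).obj M),
          (η.app M).hom x = 0 ↔ ∃ y, (ι.app M).hom y = x := by
  obtain ⟨Q, hQfin, ⟨e⟩⟩ := Groth.Agent.S2436.result A X F hF hfl
  obtain ⟨Q', -, ⟨e'⟩⟩ := Groth.Agent.S2436.result A X F' hF' hfl'
  let η' : (linearCoyoneda A (ModuleCat.{u} A)).obj (op Q) ⟶
      (linearCoyoneda A (ModuleCat.{u} A)).obj (op Q') := e.inv ≫ η ≫ e'.hom
  let u : Q' ⟶ Q := (η'.app Q).hom (𝟙 Q)
  have hu : ∀ (M : ModuleCat.{u} A) (φ : Q ⟶ M), (η'.app M).hom φ = u ≫ φ := by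
    intro M φ
    have hn := ConcreteCategory.congr_hom (η'.naturality φ) (𝟙 Q)
    have hn' : (η'.app M).hom (𝟙 Q ≫ φ) = u ≫ φ := hn
    rw [Category.id_comp] at hn'
    exact hn'
  let Rm : Submodule A ↑Q := LinearMap.range u.hom
  let R : ModuleCat.{u} A := ModuleCat.of A (↑Q ⧸ Rm)
  let π : Q ⟶ R := ModuleCat.ofHom Rm.mkQ
  have hπs : Function.Surjective π.hom := Rm.mkQ_surjective
  haveI : Epi π := (ModuleCat.epi_iff_surjective π).2 hπs
  haveI : Module.Finite A ↑Q := hQfin
  have hRfin : Module.Finite A R := Module.Finite.of_surjective Rm.mkQ Rm.mkQ_surjective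
  let ι : (linearCoyoneda A (ModuleCat.{u} A)).obj (op R) ⟶
      CohIII.tensorAFunctor A F ⋙ CohIII.globalSectionsA A :=
    (linearCoyoneda A (ModuleCat.{u} A)).map π.op ≫ e.inv
  have hι : ∀ (M : ModuleCat.{u} A) (ψ : R ⟶ M), (ι.app M).hom ψ = (e.inv.app M).hom (π ≫ ψ) :=
    fun M ψ => rfl
  have hinv_inj : ∀ M : ModuleCat.{u} A, Function.Injective (e.inv.app M).hom := fun M =>
    ((ConcreteCategory.isIso_iff_bijective (e.inv.app M)).1 inferInstance).1
  have hhom'_inj : ∀ M : ModuleCat.{u} A, Function.Injective (e'.hom.app M).hom := fun M =>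
    ((ConcreteCategory.isIso_iff_bijective (e'.hom.app M)).1 inferInstance).1
  refine ⟨R, ι, hRfin, ?_, ?_⟩
  · intro M ψ ψ' h
    rw [hι, hι] at h
    exact (cancel_epi π).1 (hinv_inj M h)
  · intro M x
    let φ : Q ⟶ M := (e.hom.app M).hom x
    have hx : (e.inv.app M).hom φ = x :=
      ConcreteCategory.congr_hom (e.hom_inv_id_app M) x
    have h1 : (η'.app M).hom φ = (e'.hom.app M).hom ((η.app M).hom x) := by
      show (e'.hom.app M).hom ((η.app M).hom ((e.inv.app M).hom φ)) = _
      rw [hx]
    constructor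
    · intro h0
      have h2 : u ≫ φ = 0 := by
        rw [← hu, h1, h0, map_zero]
        rfl
      have hR : Rm ≤ LinearMap.ker φ.hom := by
        rintro _ ⟨y, rfl⟩
        exact ConcreteCategory.congr_hom h2 y
      refine ⟨ModuleCat.ofHom (Rm.liftQ φ.hom hR), ?_⟩
      rw [hι]
      have h3 : π ≫ ModuleCat.ofHom (Rm.liftQ φ.hom hR) = φ := by
        apply ModuleCat.hom_ext
        exact Rm.liftQ_mkQ φ.hom hR
      rw [h3, hx]
    · rintro ⟨ψ, rfl⟩
      apply hhom'_inj M
      rw [map_zero, hι]
      have h4 : (e'.hom.app M).hom ((η.app M).hom ((e.inv.app M).hom (π ≫ ψ))) =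
          (η'.app M).hom (π ≫ ψ) := rfl
      rw [h4, hu, ← Category.assoc]
      have h5 : u ≫ π = 0 := by
        apply ModuleCat.hom_ext
        apply LinearMap.ext
        intro y
        exact (Submodule.Quotient.mk_eq_zero Rm).2 ⟨y, rfl⟩
      rw [h5, CategoryTheory.Limits.zero_comp]
      rfl

end Groth.Agent.S4498
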