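import Groth.Statements.S4510
import Groth.Agent.Lib.Helper13.CBCEtExact
import Groth.Agent.Lib.Helper13.CBCRank
import Groth.Agent.Lib.Helper13.RelPerf
import Groth.Agent.Lib.Helper23.Inverse
import Groth.Agent.Lib.Helper23.T2L

set_option autoImplicit false
universe u
attribute [local instance] HasDerivedCategory.standard
open Coherent

namespace Groth.Agent.S4510

open AlgebraicGeometry CategoryTheory CategoryTheory.Limits in
/-- Over a local base (so that the point y is the closed point and cohomological flatness at y is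
exactness of T^A_0). Let A be a Noetherian local ring with maximal ideal m, X a proper and flat
A-scheme with structure morphism f, y the closed point of Spec A (the point whose prime ideal is m),
and suppose that the ring of global functions Γ(X_y, O_{X_y}) of the closed fibre is an étale
k(y)-algebra (a finite product of finite separable extensions of k(y)). Then O_X is cohomologically
flat over Spec A in degree 0: the functor M ↦ H^0(X, f^*(M~) ⊗ O_X) of the A-module M takes
injections to injections and surjections to surjections. -/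
theorem result (A : Type u) [CommRing A]
    [IsNoetherianRing A] [IsLocalRing A] (X : Scheme.{u}) [X.Over (Spec (CommRingCat.of A))]
    [IsProper (X ↘ Spec (CommRingCat.of A))] [Flat (X ↘ Spec (CommRingCat.of A))]
    (y : ↥(Spec (CommRingCat.of A))) (hy : y.asIdeal = IsLocalRing.maximalIdeal A)
    (het : Algebra.Etale ((Spec (CommRingCat.of A)).residueField y)
      Γ((X ↘ Spec (CommRingCat.of A)).fiber y, ⊤)) :
    (CohIII.tensorAFunctor A (Coh.structureModule X) ⋙ CohIII.HAb X 0).PreservesMonomorphisms ∧
      (CohIII.tensorAFunctor A (Coh.structureModule X) ⋙ CohIII.HAb X 0).PreservesEpimorphisms := by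
  classical
  have hcoh := Groth.Agent.Lib.Helper23.T2.isCoh_structureModule X
  have hfl : FlatMod.IsFlatOver (X ↘ Spec (CommRingCat.of A)) (Coh.structureModule X) := by
    intro x
    refine Groth.Agent.Lib.Helper13.RelPerf.isFlatOverAt_of_isFlatAt _ _ x ?_
      (AlgebraicGeometry.Flat.stalkMap _ x)
    obtain ⟨U, e, hxU, hg⟩ := Groth.Agent.Lib.Helper3.InvGen.exists_isGen
      (Groth.Agent.Lib.Helper3.InvGen.isInvertible_structureModule X) x
    have hb := Groth.Agent.Lib.Helper23.Inverse.germ_gen_bijective hg x hxU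
    exact Module.Flat.of_linearEquiv (LinearEquiv.ofBijective _ hb).symm
  haveI hmax : y.asIdeal.IsMaximal := hy ▸ IsLocalRing.maximalIdeal.isMaximal A
  letI over' : ((X ↘ Spec (CommRingCat.of A)).fiber y).Over
      (Spec (CommRingCat.of ↑((Spec (CommRingCat.of A)).residueField y))) :=
    ⟨(X ↘ Spec (CommRingCat.of A)).fiberToSpecResidueField y⟩
  let ψ₀ : CommRingCat.of A ⟶ CommRingCat.of ↑((Spec (CommRingCat.of A)).residueField y) :=
    CommRingCat.ofHom (algebraMap A y.asIdeal.ResidueField) ≫
      (Scheme.Spec.residueFieldIso (CommRingCat.of A) y).inv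
  have hg : (Spec (CommRingCat.of A)).fromSpecResidueField y = Spec.map ψ₀ := by
    show _ = Spec.map (CommRingCat.ofHom (algebraMap A y.asIdeal.ResidueField) ≫
      (Scheme.Spec.residueFieldIso (CommRingCat.of A) y).inv)
    rw [Spec.map_comp]
    exact (Scheme.Spec.map_residueFieldIso_inv_eq_fromSpecResidueField (CommRingCat.of A) y).symm
  have hc : IsPullback ((X ↘ Spec (CommRingCat.of A)).fiberι y)
      (Groth.Agent.Lib.Helper13.CBCSec.sm ↑((Spec (CommRingCat.of A)).residueField y)
        ((X ↘ Spec (CommRingCat.of A)).fiber y))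
      (Groth.Agent.Lib.Helper13.CBCSec.sm A X) (Spec.map ψ₀) := by
    rw [← hg]
    exact IsPullback.of_hasPullback _ _
  have hφ : ∀ a, Groth.Agent.Lib.Helper13.CBCBase.φg A
      ↑((Spec (CommRingCat.of A)).residueField y) (Spec.map ψ₀) a = ψ₀.hom a := fun a =>
    Groth.Agent.Lib.Helper13.CBCRank.φg_specMap A _ ψ₀ a
  have hinvinj : Function.Injective (Scheme.Spec.residueFieldIso (CommRingCat.of A) y).inv.hom :=
    ((ConcreteCategory.bijective_of_isIso
      (Scheme.Spec.residueFieldIso (CommRingCat.of A) y).inv)).1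
  have hinvsurj : Function.Surjective
      (Scheme.Spec.residueFieldIso (CommRingCat.of A) y).inv.hom :=
    ((ConcreteCategory.bijective_of_isIso
      (Scheme.Spec.residueFieldIso (CommRingCat.of A) y).inv)).2
  have hsurj : Function.Surjective (Groth.Agent.Lib.Helper13.CBCBase.φg A
      ↑((Spec (CommRingCat.of A)).residueField y) (Spec.map ψ₀)) := by
    intro b
    obtain ⟨c, hc'⟩ := hinvsurj b
    obtain ⟨a, ha⟩ := Ideal.algebraMap_residueField_surjective y.asIdeal c
    refine ⟨a, (hφ a).trans ?_⟩
    show (Scheme.Spec.residueFieldIso (CommRingCat.of A) y).inv.hom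
      (algebraMap A y.asIdeal.ResidueField a) = b
    rw [ha, hc']
  have hker : RingHom.ker (Groth.Agent.Lib.Helper13.CBCBase.φg A
      ↑((Spec (CommRingCat.of A)).residueField y) (Spec.map ψ₀)) =
      IsLocalRing.maximalIdeal A := by
    ext a
    rw [RingHom.mem_ker, hφ]
    have h2 : algebraMap A y.asIdeal.ResidueField a = 0 ↔ a ∈ y.asIdeal :=
      Ideal.algebraMap_residueField_eq_zero
    have h3 : ψ₀.hom a = (Scheme.Spec.residueFieldIso (CommRingCat.of A) y).inv.hom
        (algebraMap A y.asIdeal.ResidueField a) := rfl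
    rw [h3]
    constructor
    · intro h
      have h4 : algebraMap A y.asIdeal.ResidueField a = 0 :=
        hinvinj (h.trans (map_zero _).symm)
      exact hy ▸ h2.1 h4
    · intro h
      have h4 := h2.2 (hy.symm ▸ h)
      rw [h4, map_zero]
  have halg : algebraMap ↑((Spec (CommRingCat.of A)).residueField y)
      Γ((X ↘ Spec (CommRingCat.of A)).fiber y, ⊤) =
      Groth.Agent.Lib.Helper13.CBCSec.φ ↑((Spec (CommRingCat.of A)).residueField y)
        (⊤ : ((X ↘ Spec (CommRingCat.of A)).fiber y).Opens) := by
    have h7 : (Groth.Agent.Lib.Helper13.CBCSec.sm ↑((Spec (CommRingCat.of A)).residueField y)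
        ((X ↘ Spec (CommRingCat.of A)).fiber y)).appLE ⊤ ⊤ le_top =
        (Groth.Agent.Lib.Helper13.CBCSec.sm ↑((Spec (CommRingCat.of A)).residueField y)
          ((X ↘ Spec (CommRingCat.of A)).fiber y)).appTop := by
      rw [Scheme.Hom.appTop, Scheme.Hom.app_eq_appLE]
      rfl
    unfold Groth.Agent.Lib.Helper13.CBCSec.φ
    rw [h7]
    rfl
  refine Groth.Agent.Lib.Helper13.CBCEtExact.preserves_of_sep A X
    ↑((Spec (CommRingCat.of A)).residueField y) (Spec.map ψ₀)
    ((X ↘ Spec (CommRingCat.of A)).fiberι y) hcoh hfl hc hsurj hker ?_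
  intro α
  have := het
  obtain ⟨p, hp0, hpu⟩ := Groth.Agent.Lib.Helper13.EtHensel.exists_sep_poly
    ↑((Spec (CommRingCat.of A)).residueField y) Γ((X ↘ Spec (CommRingCat.of A)).fiber y, ⊤) α
  obtain ⟨P, hP⟩ := Polynomial.map_surjective _ hsurj p
  refine ⟨P, ?_, ?_⟩
  · rw [← Polynomial.eval₂_map, hP, ← halg]
    exact hp0
  · rw [← Polynomial.eval₂_map, ← Polynomial.derivative_map, hP, ← halg]
    exact hpu

end Groth.Agent.S4510
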