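import Groth.Statements.S4511
import Mathlib
import Groth.Agent.Lib.Helper21.CohenStruct

set_option autoImplicit false
universe u
open EGA41

namespace Groth.Agent.S4511

open IsLocalRing in
/-- Let A be a complete Noetherian local ring whose residue field has characteristic p (p = 0 allowed).
The following are equivalent: (a) A contains a field, i.e. there is a ring homomorphism from a field
into A; (b) p·1 = 0 in A; (c) A is isomorphic to a quotient of a power series ring K[[T_1, …, T_n]]
over a field K. Moreover, when they hold, the surjection in (c) may be chosen with kernel contained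
in the square of the maximal ideal of K[[T_1, …, T_n]]. -/
theorem result (A : Type u) [CommRing A] [IsLocalRing A] [IsNoetherianRing A]
    [IsAdicComplete (maximalIdeal A) A] (p : ℕ) [CharP (ResidueField A) p] :
    [∃ (K : Type u) (_ : Field K), Nonempty (K →+* A),
     (p : A) = 0,
     ∃ (K : Type u) (_ : Field K) (n : ℕ) (f : MvPowerSeries (Fin n) K →+* A), Function.Surjective f].TFAE ∧
    ((p : A) = 0 → ∃ (K : Type u) (_ : Field K) (n : ℕ) (f : MvPowerSeries (Fin n) K →+* A),
      Function.Surjective f ∧ RingHom.ker f ≤ maximalIdeal (MvPowerSeries (Fin n) K) ^ 2) := by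
  classical
  -- the "moreover" statement
  have key : (p : A) = 0 → ∃ (K : Type u) (_ : Field K) (n : ℕ)
      (f : MvPowerSeries (Fin n) K →+* A),
      Function.Surjective f ∧ RingHom.ker f ≤ maximalIdeal (MvPowerSeries (Fin n) K) ^ 2 := by
    intro hp0
    have hsec : ∃ σ : ResidueField A →+* A, ∀ x, residue A (σ x) = x := by
      rcases CharP.char_is_prime_or_zero (ResidueField A) p with hpp | hpz
      · haveI : CharP A p := (CharP.charP_iff_prime_eq_zero hpp).mpr hp0
        letI : Algebra (ZMod p) A := ZMod.algebra A p
        haveI : Fact p.Prime := ⟨hpp⟩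
        exact Groth.Agent.Lib.Helper21.CohenStruct.exists_section A (ZMod p)
      · subst hpz
        haveI : CharZero (ResidueField A) := CharP.charP_to_charZero _
        have hu : ∀ y : nonZeroDivisors ℤ, IsUnit (Int.castRingHom A y) := by
          intro y
          have hy : (y : ℤ) ≠ 0 := nonZeroDivisors.coe_ne_zero y
          by_contra hnu
          have hm : Int.castRingHom A y ∈ maximalIdeal A := (mem_maximalIdeal _).mpr hnu
          rw [← residue_eq_zero_iff, ← RingHom.comp_apply] at hm
          have h2 : ((residue A).comp (Int.castRingHom A)) (y : ℤ) = ((y : ℤ) : ResidueField A) :=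
            eq_intCast _ _
          rw [h2] at hm
          exact hy (by exact_mod_cast hm)
        let g : ℚ →+* A := IsLocalization.lift (M := nonZeroDivisors ℤ) (S := ℚ) hu
        letI : Algebra ℚ A := g.toAlgebra
        exact Groth.Agent.Lib.Helper21.CohenStruct.exists_section A ℚ
    obtain ⟨σ, hσ⟩ := hsec
    letI : Algebra (ResidueField A) A := σ.toAlgebra
    have hK : Function.Surjective ((residue A).comp
        (algebraMap (ResidueField A) A)) := fun x => ⟨x, hσ x⟩
    obtain ⟨ψ, hs, hk⟩ := Groth.Agent.Lib.Helper21.CohenStruct.exists_surjective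
      (ResidueField A) A hK
    exact ⟨ResidueField A, inferInstance, _, ψ.toRingHom, hs, hk⟩
  refine ⟨?_, key⟩
  tfae_have 1 → 2 := by
    rintro ⟨K, _, ⟨f⟩⟩
    haveI : CharP K p :=
      (RingHom.charP_iff ((residue A).comp f) ((residue A).comp f).injective p).mpr inferInstance
    rw [← map_natCast f, CharP.cast_eq_zero, map_zero]
  tfae_have 2 → 3 := by
    intro h
    obtain ⟨K, i, n, f, hf, -⟩ := key h
    exact ⟨K, i, n, f, hf⟩
  tfae_have 3 → 1 := by
    rintro ⟨K, _, n, f, -⟩
    exact ⟨K, inferInstance, ⟨f.comp MvPowerSeries.C⟩⟩
  tfae_finish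

end Groth.Agent.S4511
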