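import Groth.Statements.S4524
import Groth.Agent.Lib.Helper7.KaehlerCharZero

set_option autoImplicit false
universe u
open EGA41

namespace Groth.Agent.S4524

/-- Let k be a field of characteristic 0 and K an extension of k. Then Ω_{K/k} = 0 if and only if K is
an algebraic extension of k. -/
theorem result {k K : Type u} [Field k] [CharZero k] [Field K] [Algebra k K] :
    Subsingleton (Ω[K⁄k]) ↔ Algebra.IsAlgebraic k K := by
  exact Groth.Agent.Lib.Helper7.subsingleton_kaehler_iff_isAlgebraic

end Groth.Agent.S4524
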