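import Groth.Statements.S4530
import Mathlib
import Groth.Agent.Lib.Helper6.LeftInvLocal

set_option autoImplicit false
universe u
open EGA41

namespace Groth.Agent.S4530

open TensorProduct in
/-- Let A be a ring, M an A-module of finite type, N a projective A-module, u : M → N a homomorphism.
For a prime ideal 𝔭 the following are equivalent: (a) u_𝔭 : M_𝔭 → N_𝔭 is left invertible; (b) u ⊗ 1
: M ⊗ k(𝔭) → N ⊗ k(𝔭) is injective; (d) there is f ∉ 𝔭 with u_f : M_f → N_f left invertible.
Moreover the set of such 𝔭 is open in Spec A. (The published statement also has a determinant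
criterion (c); this row omits it.) -/
theorem result {A : Type u} [CommRing A] {M N : Type u} [AddCommGroup M] [Module A M]
    [Module.Finite A M] [AddCommGroup N] [Module A N] [Module.Projective A N] (u : M →ₗ[A] N) :
    (∀ p : PrimeSpectrum A,
      [∃ w : LocalizedModule p.asIdeal.primeCompl N →ₗ[A] LocalizedModule p.asIdeal.primeCompl M,
          w ∘ₗ LocalizedModule.map p.asIdeal.primeCompl u = LinearMap.id,
       Function.Injective (u.lTensor p.asIdeal.ResidueField),
       ∃ f : A, f ∉ p.asIdeal ∧
          ∃ w : LocalizedModule (Submonoid.powers f) N →ₗ[A] LocalizedModule (Submonoid.powers f) M,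
            w ∘ₗ LocalizedModule.map (Submonoid.powers f) u = LinearMap.id].TFAE) ∧
    IsOpen {p : PrimeSpectrum A |
      ∃ w : LocalizedModule p.asIdeal.primeCompl N →ₗ[A] LocalizedModule p.asIdeal.primeCompl M,
        w ∘ₗ LocalizedModule.map p.asIdeal.primeCompl u = LinearMap.id} := by
  have hS : ∀ p : PrimeSpectrum A, Function.Injective (u.lTensor p.asIdeal.ResidueField) →
      ∃ f : A, f ∉ p.asIdeal ∧ ∃ W : N →ₗ[A] M, W ∘ₗ u = f • LinearMap.id := fun p h =>
    Groth.Agent.Lib.Helper6.LeftInvLocal.exists_of_lTensor_injective u p.asIdeal h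
  constructor
  · intro p
    tfae_have 1 → 2 := fun ⟨w, hw⟩ =>
      Groth.Agent.Lib.Helper6.LeftInvLocal.lTensor_injective_of_leftInverse u p.asIdeal _ le_rfl w hw
    tfae_have 3 → 2 := fun ⟨f, hf, w, hw⟩ =>
      Groth.Agent.Lib.Helper6.LeftInvLocal.lTensor_injective_of_leftInverse u p.asIdeal
        (Submonoid.powers f) (Submonoid.powers_le.mpr hf) w hw
    tfae_have 2 → 1 := fun h => by
      obtain ⟨f, hf, W, hW⟩ := hS p h
      exact Groth.Agent.Lib.Helper6.LeftInvLocal.exists_leftInverse_localized u _ f hf W hW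
    tfae_have 2 → 3 := fun h => by
      obtain ⟨f, hf, W, hW⟩ := hS p h
      exact ⟨f, hf, Groth.Agent.Lib.Helper6.LeftInvLocal.exists_leftInverse_localized u
        (Submonoid.powers f) f (Submonoid.mem_powers f) W hW⟩
    tfae_finish
  · rw [isOpen_iff_forall_mem_open]
    rintro p ⟨w, hw⟩
    obtain ⟨f, hf, W, hW⟩ := hS p
      (Groth.Agent.Lib.Helper6.LeftInvLocal.lTensor_injective_of_leftInverse u p.asIdeal _ le_rfl w hw)
    refine ⟨PrimeSpectrum.basicOpen f, ?_, (PrimeSpectrum.basicOpen f).isOpen, hf⟩
    intro q hq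
    exact Groth.Agent.Lib.Helper6.LeftInvLocal.exists_leftInverse_localized u _ f hq W hW

end Groth.Agent.S4530
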