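import Groth.Statements.S4533
import Groth.Agent.Lib.Helper6.PowerSeriesAdic
open Groth.Agent.Lib.Helper6.PowerSeriesAdic

set_option autoImplicit false
universe u
open EGA41

namespace Groth.Agent.S4533

/-- Let A carry the 𝔞-adic topology and let B = A[[T_1, …, T_n]] carry the product topology, i.e. the
adic topology of the ideal 𝔞B + (T_1, …, T_n) (the kernel of the constant-coefficient map added to
the extension of 𝔞). Then B is a formally smooth A-algebra for these topologies. (The published
statement allows any linearly topologized base ring and any set of indeterminates with the product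
topology; this row takes an adic base and finitely many indeterminates, where the product topology
is adic.) -/
theorem result (A : Type u) [CommRing A] (𝔞 : Ideal A) (n : ℕ) :
    EGA41.IsFormallySmoothAdic A 𝔞 (MvPowerSeries (Fin n) A)
      (𝔞.map (MvPowerSeries.C : A →+* MvPowerSeries (Fin n) A) ⊔
        RingHom.ker (MvPowerSeries.constantCoeff : MvPowerSeries (Fin n) A →+* A)) := by
  intro E _ _ J hJ hE u hu
  have hsurj := Ideal.Quotient.mk_surjective (I := J)
  choose z hz using fun i : Fin n => hsurj (u (MvPowerSeries.X i))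
  have hunil : ∀ i, IsNilpotent (u (MvPowerSeries.X i)) := by
    obtain ⟨m, hm⟩ := hu
    intro i
    refine ⟨m, ?_⟩
    rw [← map_pow]
    apply hm
    apply Ideal.pow_mem_pow
    apply Ideal.mem_sup_right
    simp [RingHom.mem_ker]
  have hznil : ∀ i, IsNilpotent (z i) := by
    intro i
    obtain ⟨m, hm⟩ := hunil i
    obtain ⟨N, hN⟩ := hJ
    refine ⟨m * N, ?_⟩
    have h1 : z i ^ m ∈ J := by
      rw [← Ideal.Quotient.eq_zero_iff_mem, map_pow, hz i, hm]
    have h2 : (z i ^ m) ^ N ∈ J ^ N := Ideal.pow_mem_pow h1 N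
    rw [hN] at h2
    rw [pow_mul]
    simpa using h2
  obtain ⟨g, hg⟩ := exists_algHom_of_isNilpotent (A := A) z hznil
  refine ⟨g, ?_⟩
  have hE' : ∃ k : ℕ, (𝔞 ^ k).map (algebraMap A (E ⧸ J)) = ⊥ := by
    obtain ⟨k, hk⟩ := hE
    refine ⟨k, ?_⟩
    have : algebraMap A (E ⧸ J) = (Ideal.Quotient.mk J).comp (algebraMap A E) := rfl
    rw [this, ← Ideal.map_map, hk, Ideal.map_bot]
  apply algHom_ext_of_kills _ le_sup_right _ _
    (kills_pow_of_isNilpotent 𝔞 hE' _ (fun i => ?_)) hu (fun i => ?_)
  · show IsNilpotent (Ideal.Quotient.mk J (g (MvPowerSeries.X i)))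
    rw [hg i, hz i]; exact hunil i
  · show Ideal.Quotient.mk J (g (MvPowerSeries.X i)) = u (MvPowerSeries.X i)
    rw [hg i, hz i]

end Groth.Agent.S4533
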