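import Groth.Statements.S4534
import Groth.Agent.Lib.Helper6.FSAdic

set_option autoImplicit false
universe u
open EGA41

namespace Groth.Agent.S4534

/-- Let A → B → C be continuous homomorphisms of adic rings (A with the 𝔞-adic, B the 𝔟-adic, C the
𝔠-adic topology; continuity: a power of 𝔞 maps into 𝔟 and a power of 𝔟 into 𝔠). If B is formally
smooth over A and C formally smooth over B, then C is formally smooth over A. -/
theorem result {A B C : Type u} [CommRing A] [CommRing B] [CommRing C] [Algebra A B] [Algebra B C]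
    [Algebra A C] [IsScalarTower A B C] (𝔞 : Ideal A) (𝔟 : Ideal B) (𝔠 : Ideal C)
    (hAB : ∃ k : ℕ, (𝔞 ^ k).map (algebraMap A B) ≤ 𝔟) (hBC : ∃ k : ℕ, (𝔟 ^ k).map (algebraMap B C) ≤ 𝔠)
    (hB : EGA41.IsFormallySmoothAdic A 𝔞 B 𝔟) (hC : EGA41.IsFormallySmoothAdic B 𝔟 C 𝔠) :
    EGA41.IsFormallySmoothAdic A 𝔞 C 𝔠 := by
  intro E _ _ J hJ hE u hu
  obtain ⟨k₁, hk₁⟩ := hBC
  obtain ⟨m, hm⟩ := hu
  let u_B : B →ₐ[A] E ⧸ J := u.comp (IsScalarTower.toAlgHom A B C)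
  have hu_B : ∀ x ∈ 𝔟 ^ (k₁ * m), u_B x = 0 := fun x hx => by
    apply hm
    have : (𝔟 ^ (k₁ * m)).map (algebraMap B C) ≤ 𝔠 ^ m := by
      rw [pow_mul, Ideal.map_pow]; exact Ideal.pow_right_mono hk₁ m
    exact this (Ideal.mem_map_of_mem _ hx)
  obtain ⟨v_B, hv_B⟩ := hB E J hJ hE u_B ⟨_, hu_B⟩
  obtain ⟨n, hn⟩ := hJ
  have hv_B_cont : ∀ x ∈ 𝔟 ^ (k₁ * m * n), v_B x = 0 :=
    Groth.Agent.Lib.Helper6.FSAdic.kills_pow_of_comp (Ideal.Quotient.mk J) n
      (by rw [Ideal.mk_ker]; exact hn) v_B 𝔟 (k₁ * m) (fun x hx => by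
        have := AlgHom.congr_fun hv_B x
        rw [show Ideal.Quotient.mk J (v_B x) = u_B x from this]; exact hu_B x hx)
  letI algBE : Algebra B E := v_B.toRingHom.toAlgebra
  have hE' : ∃ k : ℕ, (𝔟 ^ k).map (algebraMap B E) = ⊥ := ⟨k₁ * m * n, by
    rw [eq_bot_iff, Ideal.map_le_iff_le_comap]
    intro x hx
    exact hv_B_cont x hx⟩
  let u' : C →ₐ[B] E ⧸ J := { u.toRingHom with
    commutes' := fun b => by
      change u (algebraMap B C b) = Ideal.Quotient.mk J (v_B b)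
      exact (AlgHom.congr_fun hv_B b).symm }
  obtain ⟨v, hv⟩ := hC E J ⟨n, hn⟩ hE' u' ⟨m, hm⟩
  refine ⟨{ v.toRingHom with commutes' := fun a => ?_ }, ?_⟩
  · change v (algebraMap A C a) = algebraMap A E a
    rw [IsScalarTower.algebraMap_apply A B C, v.commutes]
    change v_B (algebraMap A B a) = _
    exact v_B.commutes a
  · ext c
    exact AlgHom.congr_fun hv c

end Groth.Agent.S4534
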