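import Groth.Statements.S4535
import Groth.Agent.Lib.Helper6.FSAdic

set_option autoImplicit false
universe u
open EGA41

namespace Groth.Agent.S4535

open TensorProduct in
/-- Let B (𝔟-adic) be formally smooth over A (𝔞-adic) and let A' (𝔞'-adic) be a topological A-algebra (a
power of 𝔞 maps into 𝔞'). Then the A'-algebra A' ⊗_A B, with the tensor product topology, i.e. the
adic topology of the ideal generated by the images of 𝔞' and 𝔟, is formally smooth over A'. -/
theorem result {A B A' : Type u} [CommRing A] [CommRing B] [CommRing A'] [Algebra A B] [Algebra A A']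
    (𝔞 : Ideal A) (𝔟 : Ideal B) (𝔞' : Ideal A') (hAA' : ∃ k : ℕ, (𝔞 ^ k).map (algebraMap A A') ≤ 𝔞')
    (hB : EGA41.IsFormallySmoothAdic A 𝔞 B 𝔟) :
    EGA41.IsFormallySmoothAdic A' 𝔞' (A' ⊗[A] B)
      (𝔞'.map (algebraMap A' (A' ⊗[A] B)) ⊔
        𝔟.map (Algebra.TensorProduct.includeRight : B →ₐ[A] A' ⊗[A] B).toRingHom) := by
  intro E _ _ J hJ hE u hu
  letI algAE : Algebra A E := ((algebraMap A' E).comp (algebraMap A A')).toAlgebra
  haveI : IsScalarTower A A' E := IsScalarTower.of_algebraMap_eq (fun _ => rfl)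
  obtain ⟨k₁, hk₁⟩ := hAA'
  obtain ⟨k₂, hk₂⟩ := hE
  obtain ⟨m, hm⟩ := hu
  let u_B : B →ₐ[A] E ⧸ J :=
    { toRingHom := u.toRingHom.comp
        (Algebra.TensorProduct.includeRight : B →ₐ[A] A' ⊗[A] B).toRingHom
      commutes' := fun a => by
        change u ((1 : A') ⊗ₜ[A] (algebraMap A B a)) =
          Ideal.Quotient.mk J (algebraMap A' E (algebraMap A A' a))
        rw [Algebra.algebraMap_eq_smul_one, ← TensorProduct.smul_tmul,
          ← Algebra.algebraMap_eq_smul_one]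
        have := u.commutes (algebraMap A A' a)
        rw [Algebra.TensorProduct.algebraMap_apply] at this
        simpa using this }
  have hu_B : ∀ x ∈ 𝔟 ^ m, u_B x = 0 := fun x hx => by
    apply hm
    have h1 : (𝔟 ^ m).map (Algebra.TensorProduct.includeRight : B →ₐ[A] A' ⊗[A] B).toRingHom ≤
        (𝔞'.map (algebraMap A' (A' ⊗[A] B)) ⊔
          𝔟.map (Algebra.TensorProduct.includeRight : B →ₐ[A] A' ⊗[A] B).toRingHom) ^ m := by
      rw [Ideal.map_pow]; exact Ideal.pow_right_mono le_sup_right m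
    exact h1 (Ideal.mem_map_of_mem _ hx)
  have hE_A : (𝔞 ^ (k₁ * k₂)).map (algebraMap A E) = ⊥ := by
    rw [eq_bot_iff, ← hk₂]
    change (𝔞 ^ (k₁ * k₂)).map ((algebraMap A' E).comp (algebraMap A A')) ≤ _
    rw [← Ideal.map_map, pow_mul, Ideal.map_pow]
    exact Ideal.map_mono (Ideal.pow_right_mono hk₁ k₂)
  obtain ⟨v_B, hv_B⟩ := hB E J hJ ⟨_, hE_A⟩ u_B ⟨m, hu_B⟩
  let v : A' ⊗[A] B →ₐ[A'] E :=
    Algebra.TensorProduct.lift (Algebra.ofId A' E) v_B (fun _ _ => Commute.all _ _)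
  refine ⟨v, ?_⟩
  apply Algebra.TensorProduct.ext'
  intro a' b
  have h1 : Ideal.Quotient.mk J (v_B b) = u ((1 : A') ⊗ₜ[A] b) := AlgHom.congr_fun hv_B b
  have h2 : a' ⊗ₜ[A] b = a' • ((1 : A') ⊗ₜ[A] b) := by
    rw [TensorProduct.smul_tmul', smul_eq_mul, mul_one]
  rw [h2, map_smul, map_smul, ← h1]
  change a' • Ideal.Quotient.mk J (v ((1 : A') ⊗ₜ[A] b)) = _
  congr 1
  simp [v]

end Groth.Agent.S4535
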