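import Groth.Statements.S4536
import Groth.Agent.Lib.Helper6.FSAdic

set_option autoImplicit false
universe u
open EGA41

namespace Groth.Agent.S4536

/-- Let A carry the 𝔞-adic and B the 𝔟-adic topology, A → B being continuous (a power of 𝔞 maps into 𝔟).
Then B is formally smooth over A if and only if for every n the (A/𝔞ⁿ)-algebra B/𝔞ⁿB, with the adic
topology of the image of 𝔟, is formally smooth over the discrete ring A/𝔞ⁿ. -/
theorem result {A B : Type u} [CommRing A] [CommRing B] [Algebra A B]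
    (𝔞 : Ideal A) (𝔟 : Ideal B) (hAB : ∃ k : ℕ, (𝔞 ^ k).map (algebraMap A B) ≤ 𝔟) :
    EGA41.IsFormallySmoothAdic A 𝔞 B 𝔟 ↔
      ∀ n : ℕ, EGA41.IsFormallySmoothAdic (A ⧸ 𝔞 ^ n) ⊥ (B ⧸ (𝔞 ^ n).map (algebraMap A B))
        (𝔟.map (Ideal.Quotient.mk ((𝔞 ^ n).map (algebraMap A B)))) := by
  constructor
  · intro h n E _ _ J hJ _ u hu
    letI algAE : Algebra A E :=
      ((algebraMap (A ⧸ 𝔞 ^ n) E).comp (Ideal.Quotient.mk (𝔞 ^ n))).toAlgebra
    obtain ⟨m, hm⟩ := hu
    have hE : (𝔞 ^ n).map (algebraMap A E) = ⊥ := by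
      rw [eq_bot_iff, Ideal.map_le_iff_le_comap]
      intro a ha
      change algebraMap (A ⧸ 𝔞 ^ n) E (Ideal.Quotient.mk (𝔞 ^ n) a) = 0
      rw [Ideal.Quotient.eq_zero_iff_mem.mpr ha, map_zero]
    let u_B : B →ₐ[A] E ⧸ J :=
      { toRingHom := u.toRingHom.comp (Ideal.Quotient.mk ((𝔞 ^ n).map (algebraMap A B)))
        commutes' := fun a => by
          change u (Ideal.Quotient.mk _ (algebraMap A B a)) =
            Ideal.Quotient.mk J (algebraMap (A ⧸ 𝔞 ^ n) E (Ideal.Quotient.mk (𝔞 ^ n) a))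
          exact u.commutes (Ideal.Quotient.mk (𝔞 ^ n) a) }
    have hu_B : ∀ x ∈ 𝔟 ^ m, u_B x = 0 := fun x hx => by
      apply hm
      rw [← Ideal.map_pow]
      exact Ideal.mem_map_of_mem _ hx
    obtain ⟨v_B, hv_B⟩ := h E J hJ ⟨n, hE⟩ u_B ⟨m, hu_B⟩
    have hker : ∀ x ∈ (𝔞 ^ n).map (algebraMap A B), v_B.toRingHom x = 0 := by
      have : (𝔞 ^ n).map (algebraMap A B) ≤ RingHom.ker v_B.toRingHom := by
        rw [Ideal.map_le_iff_le_comap]
        intro a ha
        change v_B (algebraMap A B a) = 0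
        rw [v_B.commutes]
        change algebraMap (A ⧸ 𝔞 ^ n) E (Ideal.Quotient.mk (𝔞 ^ n) a) = 0
        rw [Ideal.Quotient.eq_zero_iff_mem.mpr ha, map_zero]
      exact fun x hx => this hx
    refine ⟨{ Ideal.Quotient.lift _ v_B.toRingHom hker with commutes' := fun r => ?_ }, ?_⟩
    · obtain ⟨a, rfl⟩ := Ideal.Quotient.mk_surjective r
      change v_B (algebraMap A B a) = _
      rw [v_B.commutes]
      rfl
    · ext x
      obtain ⟨b, rfl⟩ := Ideal.Quotient.mk_surjective x
      exact AlgHom.congr_fun hv_B b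
  · intro h E _ _ J hJ hE u hu
    obtain ⟨k, hk⟩ := hE
    obtain ⟨m, hm⟩ := hu
    have hzero : ∀ a ∈ 𝔞 ^ k, algebraMap A E a = 0 := fun a ha => by
      have := Ideal.mem_map_of_mem (algebraMap A E) ha
      rw [hk] at this
      simpa using this
    letI algAkE : Algebra (A ⧸ 𝔞 ^ k) E :=
      (Ideal.Quotient.lift (𝔞 ^ k) (algebraMap A E) hzero).toAlgebra
    have hkeru : ∀ x ∈ (𝔞 ^ k).map (algebraMap A B), u.toRingHom x = 0 := by
      have : (𝔞 ^ k).map (algebraMap A B) ≤ RingHom.ker u.toRingHom := by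
        rw [Ideal.map_le_iff_le_comap]
        intro a ha
        change u (algebraMap A B a) = 0
        rw [u.commutes]
        change Ideal.Quotient.mk J (algebraMap A E a) = 0
        rw [hzero a ha, map_zero]
      exact fun x hx => this hx
    let ubar : (B ⧸ (𝔞 ^ k).map (algebraMap A B)) →ₐ[A ⧸ 𝔞 ^ k] E ⧸ J :=
      { Ideal.Quotient.lift _ u.toRingHom hkeru with
        commutes' := fun r => by
          obtain ⟨a, rfl⟩ := Ideal.Quotient.mk_surjective r
          change u (algebraMap A B a) = Ideal.Quotient.mk J (algebraMap A E a)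
          exact u.commutes a }
    have hubar : ∀ x ∈ (𝔟.map (Ideal.Quotient.mk ((𝔞 ^ k).map (algebraMap A B)))) ^ m,
        ubar x = 0 := by
      have : (𝔟.map (Ideal.Quotient.mk ((𝔞 ^ k).map (algebraMap A B)))) ^ m ≤
          RingHom.ker ubar := by
        rw [← Ideal.map_pow, Ideal.map_le_iff_le_comap]
        intro b hb
        change u b = 0
        exact hm b hb
      exact fun x hx => this hx
    obtain ⟨vbar, hvbar⟩ := h k E J hJ ⟨1, by simp [Ideal.map_bot]⟩ ubar ⟨m, hubar⟩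
    refine ⟨{ toRingHom := vbar.toRingHom.comp
                (Ideal.Quotient.mk ((𝔞 ^ k).map (algebraMap A B)))
              commutes' := fun a => ?_ }, ?_⟩
    · change vbar (Ideal.Quotient.mk _ (algebraMap A B a)) = algebraMap A E a
      have := vbar.commutes (Ideal.Quotient.mk (𝔞 ^ k) a)
      exact this
    · ext b
      exact AlgHom.congr_fun hvbar (Ideal.Quotient.mk _ b)

end Groth.Agent.S4536
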