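import Mathlib
import Groth.Statements.S4539
import Groth.Agent.Lib.Helper21.CohenStructF

set_option autoImplicit false
universe u
open EGA41

namespace Groth.Agent.S4539


section Aux

open IsLocalRing

/-- a Noetherian local ring whose maximal ideal is generated by a nonzerodivisor is a discrete
valuation ring -/
theorem isDVR_of_maximalIdeal_eq_span {A : Type*} [CommRing A] [IsLocalRing A] [IsNoetherianRing A]
    (π : A) (hπ : maximalIdeal A = Ideal.span {π}) (hnzd : ∀ a : A, π * a = 0 → a = 0) :
    ∃ (_ : IsDomain A), IsDiscreteValuationRing A := by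
  classical
  have hπ0 : π ≠ 0 := by
    intro h0
    have h1 := hnzd 1 (by rw [h0, zero_mul])
    exact one_ne_zero h1
  have hpow : ∀ (n : ℕ) (a : A), π ^ n * a = 0 → a = 0 := by
    intro n
    induction n with
    | zero => intro a ha; rwa [pow_zero, one_mul] at ha
    | succ n ih =>
      intro a ha
      rw [pow_succ, mul_assoc] at ha
      exact hnzd a (ih _ ha)
  have hfac : ∀ a : A, a ≠ 0 → ∃ (n : ℕ) (u : A), IsUnit u ∧ a = π ^ n * u := by
    intro a ha
    have hinf := Ideal.iInf_pow_eq_bot_of_isLocalRing (maximalIdeal A) Ideal.IsPrime.ne_top'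
    have hex : ∃ n, a ∉ maximalIdeal A ^ n := by
      by_contra hcon
      push Not at hcon
      have : a ∈ ⨅ i, maximalIdeal A ^ i := (Ideal.mem_iInf).2 hcon
      rw [hinf, Ideal.mem_bot] at this
      exact ha this
    obtain ⟨m, hm_def⟩ : ∃ m, m = Nat.find hex := ⟨_, rfl⟩
    have hm : a ∉ maximalIdeal A ^ m := by rw [hm_def]; exact Nat.find_spec hex
    have hm0 : m ≠ 0 := by
      intro h0
      rw [h0, pow_zero, Ideal.one_eq_top] at hm
      exact hm Submodule.mem_top
    obtain ⟨n, rfl⟩ := Nat.exists_eq_succ_of_ne_zero hm0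
    have hn : a ∈ maximalIdeal A ^ n := by
      by_contra hcon
      have := Nat.find_min' hex hcon
      omega
    rw [hπ, Ideal.span_singleton_pow, Ideal.mem_span_singleton'] at hn
    obtain ⟨u, hu⟩ := hn
    refine ⟨n, u, ?_, by rw [← hu, mul_comm]⟩
    by_contra hnu
    have hum : u ∈ maximalIdeal A := (mem_maximalIdeal u).2 hnu
    apply hm
    have hπn : π ^ n ∈ maximalIdeal A ^ n := by
      rw [hπ, Ideal.span_singleton_pow]
      exact Ideal.mem_span_singleton_self _
    have h3 : π ^ n * u ∈ maximalIdeal A ^ n * maximalIdeal A := Ideal.mul_mem_mul hπn hum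
    rw [pow_succ, ← hu, mul_comm u (π ^ n)]
    exact h3
  haveI hnzd' : NoZeroDivisors A := by
    refine ⟨?_⟩
    intro a b hab
    by_contra hcon
    push Not at hcon
    obtain ⟨n, u, hu, rfl⟩ := hfac a hcon.1
    obtain ⟨m, v, hv, rfl⟩ := hfac b hcon.2
    have h1 : π ^ (n + m) * (u * v) = 0 := by
      rw [← hab, pow_add]
      ring
    have h2 := hpow _ _ h1
    exact (hu.mul hv).ne_zero h2
  haveI hdom : IsDomain A := NoZeroDivisors.to_isDomain A
  refine ⟨hdom, ?_⟩
  have hnf : ¬ IsField A := by
    rw [isField_iff_maximalIdeal_eq, hπ]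
    intro h0
    rw [Ideal.span_singleton_eq_bot] at h0
    exact hπ0 h0
  have hprinc : Submodule.IsPrincipal (maximalIdeal A) := ⟨⟨π, by rw [hπ]⟩⟩
  exact ((IsDiscreteValuationRing.TFAE A hnf).out 0 4).2 hprinc

variable (p : ℕ) [hp : (Ideal.span {(p : ℤ)}).IsPrime]

local notation "Pp" => Localization.AtPrime (Ideal.span {(p : ℤ)})

theorem algebraMap_int_injective : Function.Injective (algebraMap ℤ Pp) :=
  IsLocalization.injective Pp (Ideal.primeCompl_le_nonZeroDivisors (Ideal.span {(p : ℤ)}))

theorem natCast_ne_zero_P (hp0 : p ≠ 0) : ((p : ℕ) : Pp) ≠ 0 := by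
  intro h
  have h1 : algebraMap ℤ Pp (p : ℤ) = algebraMap ℤ Pp 0 := by
    rw [map_zero, map_natCast]
    exact h
  have h2 := algebraMap_int_injective p h1
  exact hp0 (by exact_mod_cast h2)

theorem maximalIdeal_P : maximalIdeal Pp = Ideal.span {((p : ℕ) : Pp)} := by
  have h := Localization.AtPrime.map_eq_maximalIdeal (I := Ideal.span {(p : ℤ)})
  rw [Ideal.map_span, Set.image_singleton, map_natCast] at h
  exact h.symm

theorem map_maximalIdeal_P (A : Type) [CommRing A] [Algebra Pp A] :
    (maximalIdeal Pp).map (algebraMap Pp A) = Ideal.span {((p : ℕ) : A)} := by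
  rw [maximalIdeal_P, Ideal.map_span, Set.image_singleton, map_natCast]

theorem nat_prime_of_ne_zero (hp0 : p ≠ 0) : p.Prime := by
  have h1 : ((p : ℕ) : ℤ) ≠ 0 := by exact_mod_cast hp0
  exact Nat.prime_iff_prime_int.2 ((Ideal.span_singleton_prime h1).1 hp)

/-- the residue field of `ℤ_(p)` is a prime field -/
theorem residueField_P_bot_eq_top : (⊥ : Subfield (ResidueField Pp)) = ⊤ := by
  rw [eq_top_iff]
  intro x _
  obtain ⟨y, rfl⟩ := residue_surjective x
  obtain ⟨n, s, rfl⟩ := IsLocalization.exists_mk'_eq (Ideal.span {(p : ℤ)}).primeCompl y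
  have hs : residue Pp (algebraMap ℤ Pp (s : ℤ)) ≠ 0 := by
    intro h0
    have hunit : IsUnit (algebraMap ℤ Pp (s : ℤ)) := IsLocalization.map_units Pp s
    exact (residue_ne_zero_iff_isUnit _).2 hunit h0
  have h1 : residue Pp (IsLocalization.mk' Pp n s) =
      residue Pp (algebraMap ℤ Pp n) / residue Pp (algebraMap ℤ Pp (s : ℤ)) := by
    rw [eq_div_iff hs, ← map_mul, IsLocalization.mk'_spec]
  rw [h1]
  apply div_mem
  · rw [eq_intCast, map_intCast]
    exact intCast_mem _ _
  · rw [eq_intCast, map_intCast]
    exact intCast_mem _ _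

end Aux


open IsLocalRing in
/-- Let A be a local ring with residue characteristic p (p = 0 or a prime), P the prime local ring ℤ_(p)
(ℚ if p = 0) and P → A its unique local homomorphism. Then A is a Cohen ring, i.e. a Cohen P-algebra
— Noetherian and complete, flat over P, with pA its maximal ideal (and residue field separable over
the prime field) — if and only if A is a field of characteristic 0 or a complete discrete valuation
ring of residue characteristic > 0 whose maximal ideal is generated by p·1. -/
theorem result (p : ℕ) [hp : (Ideal.span {(p : ℤ)}).IsPrime]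
    {A : Type} [CommRing A] [IsLocalRing A] [CharP (ResidueField A) p]
    [Algebra (Localization.AtPrime (Ideal.span {(p : ℤ)})) A]
    [IsLocalHom (algebraMap (Localization.AtPrime (Ideal.span {(p : ℤ)})) A)] :
    EGA41.IsCohenAlgebra (Localization.AtPrime (Ideal.span {(p : ℤ)})) A ↔ EGA41.IsCohenRingEGA A := by
  constructor
  · rintro ⟨-, hNA, hcomp, hflat, hmap, -⟩
    haveI := hNA
    have hmaxA : maximalIdeal A = Ideal.span {((p : ℕ) : A)} := by
      rw [← hmap, map_maximalIdeal_P]
    by_cases hp0 : p = 0
    · left
      subst hp0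
      have hbot : maximalIdeal A = ⊥ := by
        rw [hmaxA, Nat.cast_zero]
        exact Ideal.span_singleton_eq_bot.2 rfl
      refine ⟨isField_iff_maximalIdeal_eq.2 hbot, ?_⟩
      haveI : CharZero (ResidueField A) := CharP.charP_to_charZero (ResidueField A)
      exact RingHom.charZero (residue A)
    · right
      have hpp := nat_prime_of_ne_zero p hp0
      have hnzd : ∀ a : A, ((p : ℕ) : A) * a = 0 → a = 0 := by
        intro a ha
        have h1 : ((p : ℕ) : Localization.AtPrime (Ideal.span {(p : ℤ)})) • a = 0 := by
          rw [Algebra.smul_def, map_natCast]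
          exact ha
        exact (smul_eq_zero_iff_right (natCast_ne_zero_P p hp0)).1 h1
      obtain ⟨hdom, hdvr⟩ := isDVR_of_maximalIdeal_eq_span ((p : ℕ) : A) hmaxA hnzd
      exact ⟨hdom, hdvr, hcomp, p, hpp, hmaxA⟩
  · intro h
    have hgr : Algebra.IsGeometricallyReduced
        (ResidueField (Localization.AtPrime (Ideal.span {(p : ℤ)}))) (ResidueField A) := by
      rw [← Groth.Agent.Lib.Helper21.SepSmooth.formallySmooth_iff_geomReduced]
      exact Groth.Agent.Lib.Helper21.CohenStruct.formallySmooth_of_bot_eq_top _ _
        (residueField_P_bot_eq_top p)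
    -- common facts: `A` is a domain of characteristic zero, with the right maximal ideal
    have key : ∃ (_ : IsDomain A) (_ : IsNoetherianRing A), CharZero A ∧
        IsAdicComplete (maximalIdeal A) A ∧ maximalIdeal A = Ideal.span {((p : ℕ) : A)} := by
      rcases h with ⟨hF, hC⟩ | ⟨hdom, hdvr, hcomp, q, hq, hmq⟩
      · letI := hF.toField
        haveI : CharZero (ResidueField A) := by
          have hinj : Function.Injective (residue A) := RingHom.injective _
          exact charZero_of_injective_ringHom hinj
        have hp0 : p = 0 := CharP.eq (ResidueField A) inferInstance (CharP.ofCharZero _)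
        have hbot : maximalIdeal A = ⊥ := isField_iff_maximalIdeal_eq.1 hF
        refine ⟨inferInstance, inferInstance, hC, ?_, ?_⟩
        · rw [hbot]
          infer_instance
        · rw [hbot, hp0, Nat.cast_zero]
          exact (Ideal.span_singleton_eq_bot.2 rfl).symm
      · haveI := hdom
        haveI := hdvr
        -- `q = p`
        have hq0 : ((q : ℕ) : ResidueField A) = 0 := by
          have h1 : ((q : ℕ) : A) ∈ maximalIdeal A := by
            rw [hmq]
            exact Ideal.mem_span_singleton_self _
          have h2 := (residue_eq_zero_iff _).2 h1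
          rwa [map_natCast] at h2
        have hpq : p ∣ q := (CharP.cast_eq_zero_iff (ResidueField A) p q).1 hq0
        have hp1 : p ≠ 1 := CharP.char_ne_one (ResidueField A) p
        have hqp : q = p := ((Nat.dvd_prime hq).1 hpq).resolve_left hp1 |>.symm
        subst hqp
        have hqA : ((q : ℕ) : A) ≠ 0 := by
          intro h0
          apply IsDiscreteValuationRing.not_isField A
          rw [isField_iff_maximalIdeal_eq, hmq, h0, Ideal.span_singleton_eq_bot]
        have hchar : CharZero A := by
          obtain ⟨c, hc⟩ := CharP.exists A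
          rcases CharP.char_is_prime_or_zero A c with hcp | rfl
          · exfalso
            have h1 : ((c : ℕ) : A) = 0 := CharP.cast_eq_zero A c
            have h2 : ((c : ℕ) : ResidueField A) = 0 := by
              rw [← map_natCast (residue A), h1, map_zero]
            have h3 : q ∣ c := (CharP.cast_eq_zero_iff (ResidueField A) q c).1 h2
            have h4 : q = c := ((Nat.dvd_prime hcp).1 h3).resolve_left hp1
            exact hqA (by rw [h4]; exact h1)
          · exact CharP.charP_to_charZero A
        exact ⟨hdom, inferInstance, hchar, hcomp, hmq⟩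
    obtain ⟨hdom, hNA, hchar, hcomp, hmaxA⟩ := key
    haveI := hdom
    haveI := hchar
    have hinj : Function.Injective (algebraMap (Localization.AtPrime (Ideal.span {(p : ℤ)})) A) := by
      rw [injective_iff_map_eq_zero]
      intro x hx
      obtain ⟨n, s, rfl⟩ := IsLocalization.exists_mk'_eq (Ideal.span {(p : ℤ)}).primeCompl x
      have h1 : algebraMap (Localization.AtPrime (Ideal.span {(p : ℤ)})) A
          (algebraMap ℤ (Localization.AtPrime (Ideal.span {(p : ℤ)})) n) = 0 := by
        rw [← IsLocalization.mk'_spec (Localization.AtPrime (Ideal.span {(p : ℤ)})) n s, map_mul, hx,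
          zero_mul]
      rw [eq_intCast, map_intCast] at h1
      have h2 : n = 0 := by exact_mod_cast h1
      rw [h2, IsLocalization.mk'_zero]
    haveI : Module.IsTorsionFree (Localization.AtPrime (Ideal.span {(p : ℤ)})) A :=
      ⟨fun r hr x y hxy => by
        have hxy' : r • x = r • y := hxy
        rw [Algebra.smul_def, Algebra.smul_def] at hxy'
        have hr0 : algebraMap (Localization.AtPrime (Ideal.span {(p : ℤ)})) A r ≠ 0 := by
          intro h0
          have := hinj (h0.trans (map_zero _).symm)
          exact hr.ne_zero this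
        exact mul_left_cancel₀ hr0 hxy'⟩
    refine ⟨inferInstance, hNA, hcomp, inferInstance, ?_, hgr⟩
    rw [map_maximalIdeal_P, hmaxA]

end Groth.Agent.S4539
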