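import Groth.Statements.S4540
import Groth.Agent.Lib.Helper6.TrivExtDer
import Groth.Agent.Lib.Helper6.FreeNilp

set_option autoImplicit false
universe u
open EGA41

namespace Groth.Agent.S4540

open IsLocalRing TensorProduct in
/-- Let A, B be Noetherian local rings and A → B a local homomorphism making B a formally smooth
A-algebra for the adic topologies of the maximal ideals. Then for every ideal of definition 𝔟 of B,
the (B/𝔟)-module Ω_{B/A} ⊗_B (B/𝔟) is free. -/
theorem result {A B : Type u} [CommRing A] [IsLocalRing A]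
    [IsNoetherianRing A] [CommRing B] [IsLocalRing B] [IsNoetherianRing B] [Algebra A B] [IsLocalHom (algebraMap A B)]
    (h : EGA41.IsFormallySmoothAdic A (maximalIdeal A) B (maximalIdeal B))
    (𝔟 : Ideal B) (hle : 𝔟 ≤ maximalIdeal B) (hpow : ∃ k : ℕ, maximalIdeal B ^ k ≤ 𝔟) :
    Module.Free (B ⧸ 𝔟) ((B ⧸ 𝔟) ⊗[B] Ω[B⁄A]) := by
  have hAB : ∃ k : ℕ, (maximalIdeal A ^ k).map (algebraMap A B) ≤ maximalIdeal B :=
    ⟨1, by
      rw [pow_one]
      exact ((IsLocalRing.local_hom_TFAE (algebraMap A B)).out 0 2).mp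
        (inferInstance : IsLocalHom (algebraMap A B))⟩
  haveI hproj := Groth.Agent.Lib.Helper6.TrivExtDer.projective_tensor_kaehler
    (maximalIdeal A) (maximalIdeal B) hAB h 𝔟 hpow
  haveI : Nontrivial (B ⧸ 𝔟) :=
    Ideal.Quotient.nontrivial_iff.mpr (ne_top_of_le_ne_top (maximalIdeal.isMaximal B).ne_top hle)
  haveI : IsLocalRing (B ⧸ 𝔟) :=
    IsLocalRing.of_surjective' (Ideal.Quotient.mk 𝔟) Ideal.Quotient.mk_surjective
  have hmax : maximalIdeal (B ⧸ 𝔟) ≤ (maximalIdeal B).map (Ideal.Quotient.mk 𝔟) := by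
    intro x hx
    obtain ⟨b, rfl⟩ := Ideal.Quotient.mk_surjective x
    apply Ideal.mem_map_of_mem
    rw [IsLocalRing.mem_maximalIdeal, mem_nonunits_iff] at hx ⊢
    exact fun hb => hx (hb.map _)
  have hnil : IsNilpotent (maximalIdeal (B ⧸ 𝔟)) := by
    obtain ⟨k, hk⟩ := hpow
    refine ⟨k, ?_⟩
    rw [Ideal.zero_eq_bot, eq_bot_iff]
    calc maximalIdeal (B ⧸ 𝔟) ^ k ≤ ((maximalIdeal B).map (Ideal.Quotient.mk 𝔟)) ^ k :=
          Ideal.pow_right_mono hmax k
      _ = (maximalIdeal B ^ k).map (Ideal.Quotient.mk 𝔟) := (Ideal.map_pow _ _ _).symm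
      _ ≤ 𝔟.map (Ideal.Quotient.mk 𝔟) := Ideal.map_mono hk
      _ = ⊥ := Ideal.map_quotient_self _
  exact Groth.Agent.Lib.Helper6.FreeNilp.free_of_projective_of_isNilpotent hnil _

end Groth.Agent.S4540
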