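import Groth.Statements.S4543
import Groth.Agent.S4542
import Groth.Agent.Lib.Helper6.FlatKer

set_option autoImplicit false
universe u
open EGA41

namespace Groth.Agent.S4543

open IsLocalRing in
/-- Let A be a Noetherian ring, J an ideal of A, B and B' two A-algebras which are Noetherian local
rings, the structure maps being continuous for the J-adic topology on A (JB and JB' lie in the
maximal ideals); suppose B and B' are complete for the J-adic topologies, B is a formally smooth
A-algebra for the J-adic topology on A and the JB-adic topology on B (nilpotent test ideals, test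
algebras killed by a power of J, test maps killing a power of JB), and B' is a flat A-module. Then
every (A/J)-algebra isomorphism u₀ : B/JB ≅ B'/JB' comes from an A-algebra isomorphism u : B ≅ B' by
passing to quotients. (B is taken formally smooth for the JB-adic topology, the topology along which
the argument lifts B → B'/JB' to B'; read with the convention that a local ring carries the adic
topology of its maximal ideal, the published hypothesis would be formal smoothness for the
maximal-ideal topology on B, a weaker condition when JB is strictly smaller than the maximal ideal,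
and that reading is not what the argument establishes.) -/
theorem result {A B B' : Type u} [CommRing A] [IsNoetherianRing A] (J : Ideal A)
    [CommRing B] [IsLocalRing B] [IsNoetherianRing B] [Algebra A B]
    [CommRing B'] [IsLocalRing B'] [IsNoetherianRing B'] [Algebra A B']
    (hB : J.map (algebraMap A B) ≤ maximalIdeal B) (hB' : J.map (algebraMap A B') ≤ maximalIdeal B')
    [IsAdicComplete (J.map (algebraMap A B)) B] [IsAdicComplete (J.map (algebraMap A B')) B']
    (hfs : EGA41.IsFormallySmoothAdic A J B (J.map (algebraMap A B))) [Module.Flat A B']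
    (u₀ : (B ⧸ J.map (algebraMap A B)) ≃ₐ[A ⧸ J] (B' ⧸ J.map (algebraMap A B'))) :
    ∃ u : B ≃ₐ[A] B', ∀ b : B,
      Ideal.Quotient.mk (J.map (algebraMap A B')) (u b) = u₀ (Ideal.Quotient.mk (J.map (algebraMap A B)) b) := by
  classical
  let u : B →ₐ[A] B' ⧸ J.map (algebraMap A B') :=
    { toFun := fun b => u₀ (Ideal.Quotient.mk (J.map (algebraMap A B)) b)
      map_one' := by simp
      map_mul' := fun x y => by simp
      map_zero' := by simp
      map_add' := fun x y => by simp
      commutes' := fun a => by
        show u₀ (Ideal.Quotient.mk (J.map (algebraMap A B)) (algebraMap A B a)) =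
          Ideal.Quotient.mk (J.map (algebraMap A B')) (algebraMap A B' a)
        have h1 : Ideal.Quotient.mk (J.map (algebraMap A B)) (algebraMap A B a) =
            algebraMap (A ⧸ J) (B ⧸ J.map (algebraMap A B)) (Ideal.Quotient.mk J a) := rfl
        rw [h1, u₀.commutes]; rfl }
  haveI hH : IsHausdorff ((J.map (algebraMap A B')).map
      (Ideal.Quotient.mk (J.map (algebraMap A B')))) (B' ⧸ J.map (algebraMap A B')) := by
    rw [Ideal.map_quotient_self]
    exact ⟨fun x hx => by
      have := hx 1
      rw [pow_one, SModEq.zero] at this
      simpa using this⟩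
  obtain ⟨v, -, hv⟩ := Groth.Agent.S4542.result J (J.map (algebraMap A B))
    (J.map (algebraMap A B')) hfs ⟨1, by rw [pow_one]⟩ (J.map (algebraMap A B'))
    ⟨1, by rw [pow_one]⟩ u ⟨1, by
      rw [pow_one, Ideal.map_le_iff_le_comap]
      intro x hx
      rw [Ideal.mem_comap]
      have : u.toRingHom x = 0 := by
        show u₀ (Ideal.Quotient.mk (J.map (algebraMap A B)) x) = 0
        rw [Ideal.Quotient.eq_zero_iff_mem.mpr hx, map_zero]
      rw [this]; exact Submodule.zero_mem _⟩
  have hvu : ∀ b, Ideal.Quotient.mk (J.map (algebraMap A B')) (v b) =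
      u₀ (Ideal.Quotient.mk (J.map (algebraMap A B)) b) := fun b => AlgHom.congr_fun hv b
  have hmapv : (J.map (algebraMap A B)).map v.toRingHom = J.map (algebraMap A B') := by
    rw [Ideal.map_map]
    congr 1
    ext a
    exact v.commutes a
  have hvsurj : Function.Surjective v := by
    haveI : IsHausdorff ((J.map (algebraMap A B)).map v.toRingHom) B' := by
      rw [hmapv]; infer_instance
    apply surjective_of_mk_map_comp_surjective (I := J.map (algebraMap A B)) v.toRingHom
    intro y
    obtain ⟨y', rfl⟩ := Ideal.Quotient.mk_surjective y
    obtain ⟨z, hz⟩ := u₀.surjective (Ideal.Quotient.mk (J.map (algebraMap A B')) y')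
    obtain ⟨b, rfl⟩ := Ideal.Quotient.mk_surjective z
    refine ⟨b, ?_⟩
    show Ideal.Quotient.mk _ (v b) = Ideal.Quotient.mk _ y'
    rw [Ideal.Quotient.eq, hmapv, ← Ideal.Quotient.eq, hvu b, hz]
  have hker_le : RingHom.ker v ≤ J.map (algebraMap A B) := by
    intro x hx
    have h1 : v x = 0 := hx
    have h2 := hvu x
    rw [h1, map_zero] at h2
    have h3 : Ideal.Quotient.mk (J.map (algebraMap A B)) x = 0 := by
      apply u₀.injective
      rw [← h2, map_zero]
    exact Ideal.Quotient.eq_zero_iff_mem.mp h3
  have hker : RingHom.ker v = ⊥ := by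
    have h1 := Groth.Agent.Lib.Helper6.FlatKer.ker_le_mul_ker_of_flat J v hvsurj hker_le
    refine Submodule.eq_bot_of_le_smul_of_le_jacobson_bot (J.map (algebraMap A B))
      (RingHom.ker v) (IsNoetherian.noetherian _) ?_ ?_
    · rw [smul_eq_mul]; exact h1
    · rw [IsLocalRing.jacobson_eq_maximalIdeal ⊥ bot_ne_top]; exact hB
  have hvinj : Function.Injective v := (RingHom.injective_iff_ker_eq_bot v).mpr hker
  exact ⟨AlgEquiv.ofBijective v ⟨hvinj, hvsurj⟩, fun b => hvu b⟩

end Groth.Agent.S4543
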