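import Groth.Statements.S4547
import Groth.Agent.Lib.Helper6.LeftInv

set_option autoImplicit false
universe u
open EGA41

namespace Groth.Agent.S4547

open IsLocalRing TensorProduct in
/-- Let A be a local ring with residue field k, M an A-module of finite type, N a projective A-module
and u : M → N a homomorphism. Then u is left invertible if and only if there is a finite system of
generators (x_i) of M such that the elements 1 ⊗ u(x_i) of k ⊗_A N are linearly independent over k;
and such a system (x_i) is then a basis of M. -/
theorem result {A : Type u} [CommRing A] [IsLocalRing A] {M N : Type u}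
    [AddCommGroup M] [Module A M] [Module.Finite A M] [AddCommGroup N] [Module A N] [Module.Projective A N]
    (u : M →ₗ[A] N) :
    ((∃ w : N →ₗ[A] M, w ∘ₗ u = LinearMap.id) ↔
      ∃ (m : ℕ) (x : Fin m → M), Submodule.span A (Set.range x) = ⊤ ∧
        LinearIndependent (ResidueField A) (fun i => (1 : ResidueField A) ⊗ₜ[A] u (x i))) ∧
    ∀ (m : ℕ) (x : Fin m → M), Submodule.span A (Set.range x) = ⊤ →
      LinearIndependent (ResidueField A) (fun i => (1 : ResidueField A) ⊗ₜ[A] u (x i)) →
        ∃ b : Module.Basis (Fin m) A M, ∀ i, b i = x i := by
  refine ⟨⟨?_, ?_⟩, ?_⟩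
  · rintro ⟨w, hw⟩
    haveI : Module.Projective A M := Module.Projective.of_split u w hw
    haveI : Module.Free A M := Module.free_of_flat_of_isLocalRing
    let b := Module.finBasis A M
    refine ⟨Module.finrank A M, b, b.span_eq, ?_⟩
    have h1 : LinearMap.ker (u.baseChange (ResidueField A)) = ⊥ := by
      apply LinearMap.ker_eq_bot_of_inverse (g := w.baseChange (ResidueField A))
      rw [← LinearMap.baseChange_comp, hw, LinearMap.baseChange_id]
    have h2 := (b.baseChange (ResidueField A)).linearIndependent.map'
      (u.baseChange (ResidueField A)) h1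
    have heq : (u.baseChange (ResidueField A)) ∘ (b.baseChange (ResidueField A)) =
        fun i => (1 : ResidueField A) ⊗ₜ[A] u (b i) := by
      funext i
      simp
    rw [heq] at h2
    exact h2
  · rintro ⟨m, x, hspan, hli⟩
    exact (Groth.Agent.Lib.Helper6.LeftInv.core u m x hspan hli).2
  · intro m x hspan hli
    exact (Groth.Agent.Lib.Helper6.LeftInv.core u m x hspan hli).1

end Groth.Agent.S4547
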