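import Groth.Statements.S4552
import Mathlib

set_option autoImplicit false
universe u
open EGA41

namespace Groth.Agent.S4552

/-- For the 𝔞-adic topology on A and the deduced topology on M: the topological A-module M is formally
projective (for every open ideal 𝔞ⁿ, every pair of (A/𝔞ⁿ)-modules P, Q, every surjection P → Q and
every continuous A-linear map M → Q — here automatically continuous — there is a continuous A-linear
lift M → P) if and only if it is strictly formally projective, i.e. M/𝔞ⁿM is a projective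
(A/𝔞ⁿ)-module for every n. -/
theorem result {A : Type u} [CommRing A] (𝔞 : Ideal A) (M : Type u)
    [AddCommGroup M] [Module A M] :
    (∀ (n : ℕ) (P Q : Type u) [AddCommGroup P] [Module A P] [AddCommGroup Q] [Module A Q],
      (∀ a ∈ 𝔞 ^ n, ∀ y : P, a • y = 0) → (∀ a ∈ 𝔞 ^ n, ∀ y : Q, a • y = 0) →
      ∀ f : P →ₗ[A] Q, Function.Surjective f → ∀ v : M →ₗ[A] Q, ∃ w : M →ₗ[A] P, f ∘ₗ w = v) ↔
    ∀ n : ℕ, Module.Projective (A ⧸ 𝔞 ^ n) (M ⧸ (𝔞 ^ n • ⊤ : Submodule A M)) := by
  constructor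
  · intro h n
    have hsurjR : Function.Surjective (algebraMap A (A ⧸ 𝔞 ^ n)) := Ideal.Quotient.mk_surjective
    apply Module.Projective.of_lifting_property''
    intro f hf
    have hkillF : ∀ a ∈ 𝔞 ^ n,
        ∀ y : ((M ⧸ (𝔞 ^ n • ⊤ : Submodule A M)) →₀ (A ⧸ 𝔞 ^ n)), a • y = 0 := by
      intro a ha y
      rw [← algebraMap_smul (A ⧸ 𝔞 ^ n) a y]
      have : algebraMap A (A ⧸ 𝔞 ^ n) a = 0 := Ideal.Quotient.eq_zero_iff_mem.mpr ha
      rw [this, zero_smul]
    have hkillM : ∀ a ∈ 𝔞 ^ n, ∀ y : (M ⧸ (𝔞 ^ n • ⊤ : Submodule A M)), a • y = 0 := by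
      intro a ha y
      obtain ⟨m, rfl⟩ := Submodule.Quotient.mk_surjective _ y
      rw [← Submodule.Quotient.mk_smul, Submodule.Quotient.mk_eq_zero]
      exact Submodule.smul_mem_smul ha Submodule.mem_top
    obtain ⟨w, hw⟩ := h n _ _ hkillF hkillM (f.restrictScalars A) hf
      (Submodule.mkQ (𝔞 ^ n • ⊤ : Submodule A M))
    have hwker : (𝔞 ^ n • ⊤ : Submodule A M) ≤ LinearMap.ker w := by
      rw [Submodule.smul_le]
      intro a ha m _
      rw [LinearMap.mem_ker, map_smul]; exact hkillF a ha _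
    let wbar : (M ⧸ (𝔞 ^ n • ⊤ : Submodule A M)) →ₗ[A] _ := Submodule.liftQ _ w hwker
    refine ⟨wbar.extendScalarsOfSurjective hsurjR, ?_⟩
    refine LinearMap.ext fun y => ?_
    obtain ⟨m, rfl⟩ := Submodule.Quotient.mk_surjective _ y
    exact LinearMap.congr_fun hw m
  · intro h n P Q _ _ _ _ hP hQ f hf v
    have hPt : Module.IsTorsionBySet A P (𝔞 ^ n : Ideal A) := fun x a => hP a.1 a.2 x
    have hQt : Module.IsTorsionBySet A Q (𝔞 ^ n : Ideal A) := fun x a => hQ a.1 a.2 x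
    letI : Module (A ⧸ 𝔞 ^ n) P := hPt.module
    letI : Module (A ⧸ 𝔞 ^ n) Q := hQt.module
    haveI : IsScalarTower A (A ⧸ 𝔞 ^ n) P := hPt.isScalarTower
    haveI : IsScalarTower A (A ⧸ 𝔞 ^ n) Q := hQt.isScalarTower
    have hsurjR : Function.Surjective (algebraMap A (A ⧸ 𝔞 ^ n)) := Ideal.Quotient.mk_surjective
    have hvker : (𝔞 ^ n • ⊤ : Submodule A M) ≤ LinearMap.ker v := by
      rw [Submodule.smul_le]
      intro a ha m _
      rw [LinearMap.mem_ker, map_smul]; exact hQ a ha _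
    let vbar : (M ⧸ (𝔞 ^ n • ⊤ : Submodule A M)) →ₗ[A] Q := Submodule.liftQ _ v hvker
    haveI := h n
    obtain ⟨wbar, hwbar⟩ := Module.projective_lifting_property
      (f.extendScalarsOfSurjective hsurjR) (vbar.extendScalarsOfSurjective hsurjR) hf
    refine ⟨(wbar.restrictScalars A) ∘ₗ Submodule.mkQ _, ?_⟩
    ext m
    exact LinearMap.congr_fun hwbar (Submodule.Quotient.mk m)

end Groth.Agent.S4552
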