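import Groth.Statements.S4554
import Mathlib
import Groth.Agent.S4535
import Groth.Agent.Lib.Helper6.FSAdic

set_option autoImplicit false
universe u
open EGA41

namespace Groth.Agent.S4554


open TensorProduct

section helpers

theorem exists_retraction (A A' : Type u) [CommRing A] [CommRing A'] [Algebra A A']
    [Module.FaithfullyFlat A A'] [Module.Projective A A'] :
    ∃ ρ : A' →ₗ[A] A, ρ 1 = 1 := by
  let I₁ : Ideal A := LinearMap.range (LinearMap.applyₗ (1 : A') : (A' →ₗ[A] A) →ₗ[A] A)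
  suffices h : I₁ = ⊤ by
    have h1 : (1 : A) ∈ I₁ := by rw [h]; trivial
    obtain ⟨ρ, hρ⟩ := h1
    exact ⟨ρ, hρ⟩
  by_contra hne
  obtain ⟨m, hm, hle⟩ := Ideal.exists_le_maximal I₁ hne
  apply Module.FaithfullyFlat.submodule_ne_top (R := A) (M := A') hm
  rw [eq_top_iff]
  intro a _
  obtain ⟨s, hs⟩ := (Module.projective_def' (R := A) (P := A')).mp inferInstance
  have ha : a = Finsupp.linearCombination A id (s a) := by
    have := LinearMap.congr_fun hs a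
    simpa using this.symm
  rw [ha, Finsupp.linearCombination_apply]
  refine Submodule.sum_mem _ (fun p _ => ?_)
  refine Submodule.smul_mem_smul (hle ?_) Submodule.mem_top
  exact ⟨(Finsupp.lapply p).comp (s.comp (LinearMap.mulLeft A a)), by simp⟩

variable {A : Type u} [CommRing A] {B : Type u} [CommRing B] [Algebra A B]

theorem sq_lift {𝔞 : Ideal A} {𝔟 : Ideal B}
    (h : ∀ (C : Type u) [CommRing C] [Algebra A C] (J : Ideal C), J ^ 2 = ⊥ →
      (∃ k : ℕ, (𝔞 ^ k).map (algebraMap A C) = ⊥) →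
      ∀ u : B →ₐ[A] C ⧸ J, (∃ k : ℕ, ∀ x ∈ 𝔟 ^ k, u x = 0) →
        ∃ v : B →ₐ[A] C, (Ideal.Quotient.mkₐ A J).comp v = u)
    {C D : Type u} [CommRing C] [CommRing D] [Algebra A C] [Algebra A D] (π : C →ₐ[A] D)
    (hπ : Function.Surjective π) (hsq : RingHom.ker π ^ 2 = ⊥)
    (hC : ∃ k : ℕ, (𝔞 ^ k).map (algebraMap A C) = ⊥)
    (u : B →ₐ[A] D) (hu : ∃ k : ℕ, ∀ x ∈ 𝔟 ^ k, u x = 0) :
    ∃ v : B →ₐ[A] C, π.comp v = u := by
  let e := Ideal.quotientKerAlgEquivOfSurjective hπ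
  obtain ⟨v, hv⟩ := h C (RingHom.ker π) hsq hC (e.symm.toAlgHom.comp u) (by
    obtain ⟨k, hk⟩ := hu
    exact ⟨k, fun x hx => by simp [hk x hx]⟩)
  refine ⟨v, ?_⟩
  ext b
  have h1 : Ideal.Quotient.mk _ (v b) = e.symm (u b) := AlgHom.congr_fun hv b
  have h2 : e (Ideal.Quotient.mk _ (v b)) = u b := by rw [h1]; exact e.apply_symm_apply _
  rw [← h2]
  rfl

theorem nilp_lift {𝔞 : Ideal A} {𝔟 : Ideal B}
    (h : ∀ (C : Type u) [CommRing C] [Algebra A C] (J : Ideal C), J ^ 2 = ⊥ →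
      (∃ k : ℕ, (𝔞 ^ k).map (algebraMap A C) = ⊥) →
      ∀ u : B →ₐ[A] C ⧸ J, (∃ k : ℕ, ∀ x ∈ 𝔟 ^ k, u x = 0) →
        ∃ v : B →ₐ[A] C, (Ideal.Quotient.mkₐ A J).comp v = u) :
    ∀ (n : ℕ) {C D : Type u} [CommRing C] [CommRing D]
    [Algebra A C] [Algebra A D] (π : C →ₐ[A] D), Function.Surjective π →
    RingHom.ker π ^ n = ⊥ → (∃ k : ℕ, (𝔞 ^ k).map (algebraMap A C) = ⊥) →
    ∀ u : B →ₐ[A] D, (∃ k : ℕ, ∀ x ∈ 𝔟 ^ k, u x = 0) →
    ∃ v : B →ₐ[A] C, π.comp v = u := by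
  intro n
  induction n with
  | zero =>
    intro C D _ _ _ _ π hπ hn hC u hu
    exact sq_lift h π hπ
      (by rw [eq_bot_iff, ← hn]; exact Ideal.pow_le_pow_right (by norm_num)) hC u hu
  | succ n ih =>
    intro C D _ _ _ _ π hπ hn hC u hu
    by_cases hn1 : n + 1 ≤ 2
    · exact sq_lift h π hπ
        (by rw [eq_bot_iff, ← hn]; exact Ideal.pow_le_pow_right hn1) hC u hu
    · push_neg at hn1
      set K := RingHom.ker π with hK
      have hle : ∀ a ∈ K ^ n, π a = 0 := fun a ha =>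
        (Ideal.pow_le_self (by omega) ha : a ∈ K)
      let π₁ : (C ⧸ K ^ n) →ₐ[A] D := Ideal.Quotient.liftₐ (K ^ n) π hle
      have hπ₁ : Function.Surjective π₁ := fun d => by
        obtain ⟨c, rfl⟩ := hπ d
        exact ⟨Ideal.Quotient.mk _ c, rfl⟩
      have hker : RingHom.ker π₁ ≤ K.map (Ideal.Quotient.mk (K ^ n)) := by
        intro c₁ hc₁
        obtain ⟨c, rfl⟩ := Ideal.Quotient.mk_surjective c₁
        exact Ideal.mem_map_of_mem _ (show π c = 0 from hc₁)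
      have hpow : RingHom.ker π₁ ^ n = ⊥ := by
        rw [eq_bot_iff]
        calc RingHom.ker π₁ ^ n ≤ (K.map (Ideal.Quotient.mk (K ^ n))) ^ n :=
              Ideal.pow_right_mono hker n
          _ = ⊥ := by rw [← Ideal.map_pow, Ideal.map_quotient_self]
      have hC1 : ∃ k : ℕ, (𝔞 ^ k).map (algebraMap A (C ⧸ K ^ n)) = ⊥ := by
        obtain ⟨k, hk⟩ := hC
        refine ⟨k, ?_⟩
        rw [IsScalarTower.algebraMap_eq A C (C ⧸ K ^ n), ← Ideal.map_map, hk, Ideal.map_bot]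
      obtain ⟨v₁, hv₁⟩ := ih π₁ hπ₁ hpow hC1 u hu
      obtain ⟨k, hk⟩ := hu
      have hcont : ∃ k' : ℕ, ∀ x ∈ 𝔟 ^ k', v₁ x = 0 :=
        ⟨k * n, Groth.Agent.Lib.Helper6.FSAdic.kills_pow_of_comp π₁ n hpow v₁ 𝔟 k (fun x hx => by
          have := AlgHom.congr_fun hv₁ x
          rw [AlgHom.comp_apply] at this
          rw [this]; exact hk x hx)⟩
      obtain ⟨v, hv⟩ := sq_lift h (Ideal.Quotient.mkₐ A (K ^ n))
        (Ideal.Quotient.mkₐ_surjective A _) (by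
          have : RingHom.ker (Ideal.Quotient.mkₐ A (K ^ n)) = K ^ n := by
            ext x; simp [RingHom.mem_ker, Ideal.Quotient.eq_zero_iff_mem]
          rw [this, ← pow_mul, eq_bot_iff, ← hn]
          exact Ideal.pow_le_pow_right (by omega)) hC v₁ hcont
      refine ⟨v, ?_⟩
      rw [← hv₁, ← hv]
      ext b
      rfl

theorem fsAdic_of_sqZero {𝔞 : Ideal A} {𝔟 : Ideal B}
    (h : ∀ (C : Type u) [CommRing C] [Algebra A C] (J : Ideal C), J ^ 2 = ⊥ →
      (∃ k : ℕ, (𝔞 ^ k).map (algebraMap A C) = ⊥) →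
      ∀ u : B →ₐ[A] C ⧸ J, (∃ k : ℕ, ∀ x ∈ 𝔟 ^ k, u x = 0) →
        ∃ v : B →ₐ[A] C, (Ideal.Quotient.mkₐ A J).comp v = u) :
    EGA41.IsFormallySmoothAdic A 𝔞 B 𝔟 := by
  intro C _ _ J hJ hC u hu
  obtain ⟨n, hn⟩ := hJ
  exact nilp_lift h n (Ideal.Quotient.mkₐ A J)
    (Ideal.Quotient.mkₐ_surjective A J) (by
      have : RingHom.ker (Ideal.Quotient.mkₐ A J) = J := by
        ext x; simp [RingHom.mem_ker, Ideal.Quotient.eq_zero_iff_mem]
      rw [this]; exact hn) hC u hu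

theorem descent_core {A' C : Type u} [CommRing A'] [CommRing C] [Algebra A A'] [Algebra A C]
    (ρ : A' →ₗ[A] A) (hρ1 : ρ 1 = 1) (J : Ideal C) (hJ : J ^ 2 = ⊥) (u : B →ₐ[A] C ⧸ J)
    (v' : A' ⊗[A] B →ₐ[A'] A' ⊗[A] C)
    (hdecomp : ∀ (b : B) (c : C), Ideal.Quotient.mk J c = u b →
      v' ((1 : A') ⊗ₜ b) - (1 : A') ⊗ₜ c ∈
        J.map (Algebra.TensorProduct.includeRight : C →ₐ[A] A' ⊗[A] C)) :
    ∃ v : B →ₐ[A] C, (Ideal.Quotient.mkₐ A J).comp v = u := by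
  let incC : C →ₐ[A] A' ⊗[A] C := Algebra.TensorProduct.includeRight
  let J' : Ideal (A' ⊗[A] C) := J.map incC
  have hJ' : J' ^ 2 = ⊥ := by
    rw [← Ideal.map_pow, hJ, Ideal.map_bot]
  let r : A' ⊗[A] C →ₗ[A] C := TensorProduct.lift ((LinearMap.lsmul A C).comp ρ)
  have hr : ∀ (c' : A') (c : C), r (c' ⊗ₜ c) = ρ c' • c := fun c' c => by simp [r]
  have hr1 : ∀ c : C, r ((1 : A') ⊗ₜ c) = c := fun c => by rw [hr, hρ1, one_smul]
  have hrmul : ∀ (c : C) (y : A' ⊗[A] C), r (((1 : A') ⊗ₜ c) * y) = c * r y := by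
    intro c y
    induction y using TensorProduct.induction_on with
    | zero => simp
    | tmul c' b =>
      rw [Algebra.TensorProduct.tmul_mul_tmul, one_mul, hr, hr, mul_smul_comm]
    | add y1 y2 h1 h2 => rw [mul_add, map_add, map_add, h1, h2, mul_add]
  have hrJ : ∀ x ∈ J', r x ∈ J := by
    have hP : ∀ x ∈ J', ∀ y : A' ⊗[A] C, r (y * x) ∈ J := by
      intro x hx
      refine Submodule.span_induction (p := fun x _ => ∀ y : A' ⊗[A] C, r (y * x) ∈ J)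
        ?_ ?_ ?_ ?_ hx
      · rintro _ ⟨j, hj, rfl⟩ y
        show r (y * ((1 : A') ⊗ₜ j)) ∈ J
        rw [mul_comm, hrmul]
        exact J.mul_mem_right _ hj
      · intro y; simp
      · intro x1 x2 _ _ h1 h2 y
        rw [mul_add, map_add]; exact J.add_mem (h1 y) (h2 y)
      · intro z x _ hx y
        rw [smul_eq_mul, ← mul_assoc]; exact hx (y * z)
    intro x hx
    have := hP x hx 1
    rwa [one_mul] at this
  let incB : B →ₐ[A] A' ⊗[A] B := Algebra.TensorProduct.includeRight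
  let f : B →ₗ[A] C := r.comp ((v'.toLinearMap.restrictScalars A).comp incB.toLinearMap)
  have hf : ∀ s, f s = r (v' ((1 : A') ⊗ₜ s)) := fun s => rfl
  have hmul : ∀ s t : B, f (s * t) = f s * f t := by
    intro s t
    obtain ⟨a, ha⟩ := Ideal.Quotient.mk_surjective (u s)
    obtain ⟨b, hb⟩ := Ideal.Quotient.mk_surjective (u t)
    have hx : v' ((1 : A') ⊗ₜ s) - (1 : A') ⊗ₜ a ∈ J' := hdecomp s a ha
    have hy : v' ((1 : A') ⊗ₜ t) - (1 : A') ⊗ₜ b ∈ J' := hdecomp t b hb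
    obtain ⟨x, hxdef⟩ : ∃ x, x = v' ((1 : A') ⊗ₜ s) - (1 : A') ⊗ₜ a := ⟨_, rfl⟩
    obtain ⟨y, hydef⟩ : ∃ y, y = v' ((1 : A') ⊗ₜ t) - (1 : A') ⊗ₜ b := ⟨_, rfl⟩
    rw [← hxdef] at hx
    rw [← hydef] at hy
    have hX : v' ((1 : A') ⊗ₜ s) = (1 : A') ⊗ₜ a + x := by rw [hxdef]; ring
    have hY : v' ((1 : A') ⊗ₜ t) = (1 : A') ⊗ₜ b + y := by rw [hydef]; ring
    have hxy : x * y = 0 := by
      have : x * y ∈ J' ^ 2 := by rw [pow_two]; exact Ideal.mul_mem_mul hx hy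
      rwa [hJ', Ideal.mem_bot] at this
    have hrxy : r x * r y = 0 := by
      have : r x * r y ∈ J ^ 2 := by
        rw [pow_two]; exact Ideal.mul_mem_mul (hrJ x hx) (hrJ y hy)
      rwa [hJ, Ideal.mem_bot] at this
    have hst : ((1 : A') ⊗ₜ[A] (s * t) : A' ⊗[A] B) = ((1 : A') ⊗ₜ s) * ((1 : A') ⊗ₜ t) := by
      rw [Algebra.TensorProduct.tmul_mul_tmul, one_mul]
    rw [hf, hf, hf, hst, map_mul, hX, hY]
    have e1 : ((1 : A') ⊗ₜ[A] a + x) * ((1 : A') ⊗ₜ[A] b + y) =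
        (1 : A') ⊗ₜ[A] (a * b) + ((1 : A') ⊗ₜ[A] a) * y + ((1 : A') ⊗ₜ[A] b) * x := by
      have e0 : ((1 : A') ⊗ₜ[A] a) * ((1 : A') ⊗ₜ[A] b) = (1 : A') ⊗ₜ[A] (a * b) := by
        rw [Algebra.TensorProduct.tmul_mul_tmul, one_mul]
      rw [← e0]
      linear_combination hxy
    rw [e1]
    simp only [map_add, hr1, hrmul]
    linear_combination (-1 : C) * hrxy
  have hone : f 1 = 1 := by
    rw [hf]
    have e0 : ((1 : A') ⊗ₜ[A] (1 : B) : A' ⊗[A] B) = 1 := rfl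
    rw [e0, map_one]
    exact hr1 1
  refine ⟨AlgHom.ofLinearMap f hone hmul, ?_⟩
  ext s
  obtain ⟨a, ha⟩ := Ideal.Quotient.mk_surjective (u s)
  have hx : v' ((1 : A') ⊗ₜ s) - (1 : A') ⊗ₜ a ∈ J' := hdecomp s a ha
  show Ideal.Quotient.mk J (f s) = u s
  rw [hf, ← ha, Ideal.Quotient.eq]
  have e2 : r (v' ((1 : A') ⊗ₜ s)) - a = r (v' ((1 : A') ⊗ₜ s) - (1 : A') ⊗ₜ a) := by
    rw [map_sub, hr1]
  rw [e2]
  exact hrJ _ hx

end helpers

open TensorProduct in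
/-- Let A be 𝔞-adic, B a topological A-algebra for the 𝔟-adic topology (a power of 𝔞 maps into 𝔟) which
is a formally projective topological A-module, and A' an A-algebra with the topology deduced from A
(the 𝔞A'-adic topology) which is a faithfully flat, projective A-module of finite type. Then B' = A'
⊗_A B, with the tensor product topology (the adic topology of the ideal generated by the images of 𝔞
and 𝔟), is a formally smooth A'-algebra if and only if B is a formally smooth A-algebra. -/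
theorem result {A B A' : Type u} [CommRing A] [CommRing B]
    [CommRing A'] [Algebra A B] [Algebra A A'] (𝔞 : Ideal A) (𝔟 : Ideal B) (hAB : ∃ k : ℕ, (𝔞 ^ k).map (algebraMap A B) ≤ 𝔟)
    (hproj : ∀ (n : ℕ) (P Q : Type u) [AddCommGroup P] [Module A P] [AddCommGroup Q] [Module A Q],
      (∀ a ∈ 𝔞 ^ n, ∀ y : P, a • y = 0) → (∀ a ∈ 𝔞 ^ n, ∀ y : Q, a • y = 0) →
      ∀ f : P →ₗ[A] Q, Function.Surjective f → ∀ v : B →ₗ[A] Q, (∃ m : ℕ, ∀ x ∈ 𝔟 ^ m, v x = 0) →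
        ∃ w : B →ₗ[A] P, (∃ m : ℕ, ∀ x ∈ 𝔟 ^ m, w x = 0) ∧ f ∘ₗ w = v)
    [Module.FaithfullyFlat A A'] [Module.Projective A A'] [Module.Finite A A'] :
    EGA41.IsFormallySmoothAdic A' (𝔞.map (algebraMap A A')) (A' ⊗[A] B)
        ((𝔞.map (algebraMap A A')).map (algebraMap A' (A' ⊗[A] B)) ⊔
          𝔟.map (Algebra.TensorProduct.includeRight : B →ₐ[A] A' ⊗[A] B).toRingHom) ↔
      EGA41.IsFormallySmoothAdic A 𝔞 B 𝔟 := by
  constructor
  · intro h'
    obtain ⟨ρ, hρ1⟩ := exists_retraction A A'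
    apply fsAdic_of_sqZero
    intro C _ _ J hJ hC u hu
    obtain ⟨k, hk⟩ := hC
    obtain ⟨m, hm⟩ := hu
    let incC : C →ₐ[A] A' ⊗[A] C := Algebra.TensorProduct.includeRight
    let J' : Ideal (A' ⊗[A] C) := J.map incC
    have hJ' : J' ^ 2 = ⊥ := by rw [← Ideal.map_pow, hJ, Ideal.map_bot]
    let ι : C ⧸ J →ₐ[A] (A' ⊗[A] C) ⧸ J' := Ideal.quotientMapₐ J' incC Ideal.le_comap_map
    let u' : A' ⊗[A] B →ₐ[A'] (A' ⊗[A] C) ⧸ J' :=
      Algebra.TensorProduct.lift (Algebra.ofId A' _) (ι.comp u) (fun _ _ => Commute.all _ _)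
    have hu' : ∀ b : B, u' ((1 : A') ⊗ₜ b) = ι (u b) := by
      intro b
      simp [u']
    have hzero : ∀ a' ∈ (𝔞.map (algebraMap A A')) ^ k, algebraMap A' (A' ⊗[A] C) a' = 0 := by
      intro a' ha'
      have hle : (𝔞.map (algebraMap A A')) ^ k ≤ RingHom.ker (algebraMap A' (A' ⊗[A] C)) := by
        rw [← Ideal.map_pow, Ideal.map_le_iff_le_comap]
        intro a ha
        rw [Ideal.mem_comap, RingHom.mem_ker]
        have h0 : algebraMap A C a = 0 := by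
          have : algebraMap A C a ∈ (𝔞 ^ k).map (algebraMap A C) := Ideal.mem_map_of_mem _ ha
          rwa [hk, Ideal.mem_bot] at this
        have e1 : algebraMap A' (A' ⊗[A] C) (algebraMap A A' a) = incC (algebraMap A C a) := by
          rw [← IsScalarTower.algebraMap_apply A A' (A' ⊗[A] C), incC.commutes]
        rw [e1, h0, map_zero]
      exact (RingHom.mem_ker).mp (hle ha')
    have hC' : ∃ k : ℕ, ((𝔞.map (algebraMap A A')) ^ k).map (algebraMap A' (A' ⊗[A] C)) = ⊥ := by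
      refine ⟨k, ?_⟩
      rw [eq_bot_iff, Ideal.map_le_iff_le_comap]
      intro a' ha'
      rw [Ideal.mem_comap, Ideal.mem_bot]
      exact hzero a' ha'
    have hkill : ∃ k' : ℕ, ∀ x ∈ ((𝔞.map (algebraMap A A')).map (algebraMap A' (A' ⊗[A] B)) ⊔
          𝔟.map (Algebra.TensorProduct.includeRight : B →ₐ[A] A' ⊗[A] B).toRingHom) ^ k',
        u' x = 0 := by
      refine ⟨k + m, fun x hx => ?_⟩
      have h1 : ((𝔞.map (algebraMap A A')).map (algebraMap A' (A' ⊗[A] B))) ^ k ≤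
          RingHom.ker u' := by
        rw [← Ideal.map_pow, Ideal.map_le_iff_le_comap]
        intro a' ha'
        rw [Ideal.mem_comap, RingHom.mem_ker, AlgHom.commutes]
        show Ideal.Quotient.mk J' (algebraMap A' (A' ⊗[A] C) a') = 0
        rw [hzero a' ha', map_zero]
      have h2 : (𝔟.map (Algebra.TensorProduct.includeRight : B →ₐ[A] A' ⊗[A] B).toRingHom) ^ m ≤
          RingHom.ker u' := by
        rw [← Ideal.map_pow, Ideal.map_le_iff_le_comap]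
        intro b hb
        rw [Ideal.mem_comap, RingHom.mem_ker]
        show u' ((1 : A') ⊗ₜ b) = 0
        rw [hu', hm b hb, map_zero]
      exact (RingHom.mem_ker).mp
        ((Ideal.sup_pow_add_le_pow_sup_pow.trans (sup_le h1 h2)) hx)
    obtain ⟨v', hv'⟩ := h' (A' ⊗[A] C) J' ⟨2, hJ'⟩ hC' u' hkill
    have hv'mk : ∀ z, Ideal.Quotient.mk J' (v' z) = u' z := fun z => by
      have := AlgHom.congr_fun hv' z
      simpa using this
    apply descent_core ρ hρ1 J hJ u v'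
    intro b c hc
    show v' ((1 : A') ⊗ₜ b) - (1 : A') ⊗ₜ c ∈ J'
    rw [← Ideal.Quotient.eq, hv'mk, hu', ← hc]
    rfl
  · intro hB
    exact Groth.Agent.S4535.result 𝔞 𝔟 (𝔞.map (algebraMap A A')) ⟨1, le_of_eq (by rw [pow_one])⟩ hB

end Groth.Agent.S4554
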