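import Groth.Statements.S4555
import Groth.Agent.Lib.Helper6.PowerSeriesAdic
open Groth.Agent.Lib.Helper6.PowerSeriesAdic

set_option autoImplicit false
universe u
open EGA41

namespace Groth.Agent.S4555

/-- Let A carry the 𝔞-adic topology, B = A[[T_1, …, T_n]] the product topology (the adic topology of 𝔞B
+ (T_1, …, T_n)), and let E be a discrete topological A-algebra (a power of 𝔞 kills E). (i) If f : B
→ E is a continuous A-algebra homomorphism then each f(T_i) is nilpotent. (ii) Conversely, for every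
family (z_i) of nilpotent elements of E there is one and only one continuous A-algebra homomorphism
g : B → E with g(T_i) = z_i for all i. -/
theorem result (A : Type u) [CommRing A] (𝔞 : Ideal A) (n : ℕ) (E : Type u) [CommRing E]
    [Algebra A E] (hE : ∃ k : ℕ, (𝔞 ^ k).map (algebraMap A E) = ⊥) :
    (∀ f : MvPowerSeries (Fin n) A →ₐ[A] E,
      (∃ m : ℕ, ∀ x ∈ (𝔞.map (MvPowerSeries.C : A →+* MvPowerSeries (Fin n) A) ⊔
        RingHom.ker (MvPowerSeries.constantCoeff : MvPowerSeries (Fin n) A →+* A)) ^ m, f x = 0) →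
      ∀ i, IsNilpotent (f (MvPowerSeries.X i))) ∧
    ∀ z : Fin n → E, (∀ i, IsNilpotent (z i)) →
      ∃! g : MvPowerSeries (Fin n) A →ₐ[A] E,
        (∃ m : ℕ, ∀ x ∈ (𝔞.map (MvPowerSeries.C : A →+* MvPowerSeries (Fin n) A) ⊔
          RingHom.ker (MvPowerSeries.constantCoeff : MvPowerSeries (Fin n) A →+* A)) ^ m, g x = 0) ∧
        ∀ i, g (MvPowerSeries.X i) = z i := by
  constructor
  · intro f hf i
    obtain ⟨m, hm⟩ := hf
    refine ⟨m, ?_⟩
    rw [← map_pow]
    apply hm
    apply Ideal.pow_mem_pow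
    apply Ideal.mem_sup_right
    simp [RingHom.mem_ker]
  · intro z hz
    obtain ⟨g, hg⟩ := exists_algHom_of_isNilpotent (A := A) z hz
    have hgk := kills_pow_of_isNilpotent 𝔞 hE g (fun i => by rw [hg i]; exact hz i)
    refine ⟨g, ⟨hgk, hg⟩, ?_⟩
    rintro g' ⟨hg'1, hg'2⟩
    exact algHom_ext_of_kills _ le_sup_right g' g hg'1 hgk (fun i => by rw [hg'2 i, hg i])

end Groth.Agent.S4555
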