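import Mathlib
import Groth.Prelude.Def_Found
import Groth.Agent.Lib.Helper12.NagataLoc
import Groth.Agent.Lib.Helper27.NagTate3
import Groth.Agent.S6299

set_option autoImplicit false
set_option linter.style.haveILetI false

universe u

open Groth.Agent.Lib.Helper12.N2 Groth.Agent.Lib.Helper12.NagataLoc
open TensorProduct

namespace Groth.Agent.S9396

/-- Descent of finiteness of integral closures to `P` from a finite extension domain `A`, given a
field `L'` containing both `L` and `A` compatibly. -/
theorem finite_integralClosure_of_compositum (P A L L' : Type u) [CommRing P] [IsDomain P]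
    [IsNoetherianRing P] [CommRing A] [IsDomain A] [Algebra P A] [Module.Finite P A]
    [Field L] [Algebra P L] [Field L'] [Algebra L L'] [Algebra A L'] [Algebra P L']
    [IsScalarTower P L L'] [IsScalarTower P A L'] [Module.Finite L L']
    (hinjPA : Function.Injective (algebraMap P A))
    (hinjL : Function.Injective (algebraMap P L)) (hfgL : FinGen P L) (hA : N2' A) :
    Module.Finite P (integralClosure P L) := by
  classical
  letI : Algebra (FractionRing P) L := (IsFractionRing.lift hinjL).toAlgebra
  haveI : IsScalarTower P (FractionRing P) L :=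
    IsScalarTower.of_algebraMap_eq (fun x => (IsFractionRing.lift_algebraMap hinjL x).symm)
  haveI : FiniteDimensional (FractionRing P) L :=
    finiteDimensional_of_finGen P (FractionRing P) L hfgL
  haveI : Algebra.IsIntegral P A := Algebra.IsIntegral.of_finite P A
  letI : Algebra (FractionRing P) L' :=
    ((algebraMap L L').comp (algebraMap (FractionRing P) L)).toAlgebra
  haveI : IsScalarTower (FractionRing P) L L' := IsScalarTower.of_algebraMap_eq (fun _ => rfl)
  haveI : IsScalarTower P (FractionRing P) L' := IsScalarTower.of_algebraMap_eq (fun x => by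
    rw [IsScalarTower.algebraMap_apply P L L', IsScalarTower.algebraMap_apply P (FractionRing P) L]
    rfl)
  haveI : FiniteDimensional (FractionRing P) L' := FiniteDimensional.trans (FractionRing P) L L'
  have hinjPL' : Function.Injective (algebraMap P L') := by
    rw [IsScalarTower.algebraMap_eq P L L']
    exact (algebraMap L L').injective.comp hinjL
  have hker : RingHom.ker (algebraMap A L') = ⊥ := by
    apply Ideal.eq_bot_of_comap_eq_bot (R := P)
    rw [RingHom.comap_ker, ← IsScalarTower.algebraMap_eq P A L']
    exact (RingHom.injective_iff_ker_eq_bot _).mp hinjPL'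
  have hinjA : Function.Injective (algebraMap A L') :=
    (RingHom.injective_iff_ker_eq_bot _).mpr hker
  have hfgP' : FinGen P L' := finGen_of_finiteDimensional P (FractionRing P) L'
  have hfgA : FinGen A L' := by
    obtain ⟨s, hs⟩ := hfgP'
    refine ⟨s, fun x => ?_⟩
    obtain ⟨a, ha, hax⟩ := hs x
    refine ⟨algebraMap P A a, (map_ne_zero_iff _ hinjPA).mpr ha, ?_⟩
    have h1 : algebraMap P A a • x = a • x := algebraMap_smul A a x
    rw [h1]
    exact Submodule.span_le_restrictScalars P A (s : Set L') hax
  haveI : Module.Finite A (integralClosure A L') := hA L' hinjA hfgA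
  haveI : Module.Finite P (integralClosure A L') := Module.Finite.trans A _
  haveI : IsNoetherian P (integralClosure A L') := isNoetherian_of_isNoetherianRing_of_finite P _
  let g : integralClosure P L →ₗ[P] integralClosure A L' :=
    { toFun := fun x => ⟨algebraMap L L' x.1,
        (IsIntegral.map (IsScalarTower.toAlgHom P L L') x.2).tower_top⟩
      map_add' := fun x y => Subtype.ext (map_add (algebraMap L L') x.1 y.1)
      map_smul' := fun r x => Subtype.ext (by
        show algebraMap L L' (r • x.1) = r • algebraMap L L' x.1
        rw [Algebra.smul_def, map_mul, ← IsScalarTower.algebraMap_apply P L L',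
          ← Algebra.smul_def]) }
  have hg : Function.Injective g := fun x y hxy =>
    Subtype.ext ((algebraMap L L').injective (congrArg Subtype.val hxy))
  exact Module.Finite.of_injective g hg

/-- If `A` is a domain finite over the Noetherian domain `P` and `A` is N-2, then `P` is N-2. -/
theorem N2'_descend (P A : Type u) [CommRing P] [IsDomain P] [IsNoetherianRing P]
    [CommRing A] [IsDomain A] [Algebra P A] [Module.Finite P A]
    (hinjPA : Function.Injective (algebraMap P A)) (hA : N2' A) : N2' P := by
  classical
  intro L _ _ hinjL hfgL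
  haveI : Nontrivial (L ⊗[P] A) :=
    Algebra.TensorProduct.nontrivial_of_algebraMap_injective_of_isDomain P L A hinjL hinjPA
  obtain ⟨m, hm⟩ := Ideal.exists_maximal (L ⊗[P] A)
  haveI := hm
  letI : Field ((L ⊗[P] A) ⧸ m) := Ideal.Quotient.field m
  letI : Algebra A ((L ⊗[P] A) ⧸ m) :=
    ((Ideal.Quotient.mk m).comp
      (Algebra.TensorProduct.includeRight : A →ₐ[P] L ⊗[P] A).toRingHom).toAlgebra
  haveI : IsScalarTower P L ((L ⊗[P] A) ⧸ m) := inferInstance
  haveI : IsScalarTower P A ((L ⊗[P] A) ⧸ m) := IsScalarTower.of_algebraMap_eq (fun x => by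
    show Ideal.Quotient.mk m (algebraMap P (L ⊗[P] A) x) =
      Ideal.Quotient.mk m ((1 : L) ⊗ₜ[P] algebraMap P A x)
    congr 1
    rw [Algebra.TensorProduct.algebraMap_apply, Algebra.algebraMap_eq_smul_one,
      Algebra.algebraMap_eq_smul_one (A := A), TensorProduct.smul_tmul])
  haveI : Module.Finite L ((L ⊗[P] A) ⧸ m) :=
    Module.Finite.of_surjective (Ideal.Quotient.mkₐ L m).toLinearMap
      (Ideal.Quotient.mkₐ_surjective L m)
  exact finite_integralClosure_of_compositum P A L ((L ⊗[P] A) ⧸ m) hinjPA hinjL hfgL hA

/-- Power series over a finite algebra form a finite module over the power series ring. -/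
theorem finite_powerSeries (R S : Type*) [CommRing R] [CommRing S] [Algebra R S]
    [Module.Finite R S] : Module.Finite (PowerSeries R) (PowerSeries S) := by
  classical
  obtain ⟨s, hs⟩ := (inferInstance : Module.Finite R S).fg_top
  refine ⟨⟨s.image (PowerSeries.C (R := S)), ?_⟩⟩
  rw [eq_top_iff]
  rintro f -
  have hc : ∀ k : ℕ, ∃ c : s → R, ∑ e : s, c e • (e : S) = PowerSeries.coeff k f := fun k =>
    Submodule.mem_span_finset'.mp (by rw [hs]; exact Submodule.mem_top)
  choose c hc using hc
  have hf : f = ∑ e : s, (PowerSeries.mk (fun k => c k e) : PowerSeries R) •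
      (PowerSeries.C (e : S)) := by
    ext k
    rw [map_sum, ← hc k]
    refine Finset.sum_congr rfl fun e _ => ?_
    rw [Algebra.smul_def, Algebra.smul_def, PowerSeries.algebraMap_apply'',
      PowerSeries.coeff_mul_C, PowerSeries.coeff_map, PowerSeries.coeff_mk]
  rw [hf]
  refine Submodule.sum_mem _ fun e _ => Submodule.smul_mem _ _ (Submodule.subset_span ?_)
  exact Finset.mem_coe.2 (Finset.mem_image_of_mem _ e.2)

/-- `S⟦X⟧` is `X`-adically complete. -/
theorem isAdicComplete_X (S : Type*) [CommRing S] :
    IsAdicComplete (Ideal.span ({(PowerSeries.X : PowerSeries S)} : Set (PowerSeries S)))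
      (PowerSeries S) := by
  have hmem : ∀ (n : ℕ) (f : PowerSeries S),
      f ∈ (Ideal.span ({(PowerSeries.X : PowerSeries S)} : Set (PowerSeries S)) ^ n • ⊤ :
        Submodule (PowerSeries S) (PowerSeries S)) ↔ ∀ m < n, PowerSeries.coeff m f = 0 := by
    intro n f
    rw [Ideal.smul_eq_mul, Ideal.mul_top, Ideal.span_singleton_pow, Ideal.mem_span_singleton,
      PowerSeries.X_pow_dvd_iff]
  refine @IsAdicComplete.mk _ _ _ _ _ _ ⟨?_⟩ ⟨?_⟩
  · intro f hf
    ext m
    have h := hf (m + 1)
    rw [SModEq.sub_mem, sub_zero, hmem] at h
    rw [h m (Nat.lt_succ_self m), map_zero]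
  · intro f hf
    refine ⟨PowerSeries.mk (fun k => PowerSeries.coeff k (f (k + 1))), fun n => ?_⟩
    rw [SModEq.sub_mem, hmem]
    intro m hm
    rw [map_sub, PowerSeries.coeff_mk, sub_eq_zero]
    have h1 := hf (Nat.succ_le_of_lt hm)
    rw [SModEq.sub_mem, hmem] at h1
    have h2 := h1 m (Nat.lt_succ_self m)
    rw [map_sub, sub_eq_zero] at h2
    exact h2.symm

/-- `S⟦X⟧ / (X) ≃ S`. -/
noncomputable def quotXEquiv (S : Type*) [CommRing S] :
    (PowerSeries S ⧸ Ideal.span ({(PowerSeries.X : PowerSeries S)} : Set (PowerSeries S))) ≃+* S :=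
  (Ideal.quotEquivOfEq (by
    ext f
    rw [Ideal.mem_span_singleton, PowerSeries.X_dvd_iff, RingHom.mem_ker])).trans
    (RingHom.quotientKerEquivOfSurjective (PowerSeries.constantCoeff_surj (R := S)))

/-- If R is a Noetherian N-2 (Japanese) domain, then the power series ring R[[X]] is an N-2 domain. (R
is not assumed integrally closed.) -/
theorem result (R : Type u) [CommRing R] [IsDomain R] [IsNoetherianRing R]
    (h : CAlg.IsN2 R) : CAlg.IsN2 (PowerSeries R) := by
  have hR : N2' R := (isN2_iff_N2' R).1 h
  haveI hfin : Module.Finite R (integralClosure R (FractionRing R)) :=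
    h (FractionRing R) inferInstance
  have hinj : Function.Injective (algebraMap R (integralClosure R (FractionRing R))) := by
    intro a b hab
    apply IsFractionRing.injective R (FractionRing R)
    exact congrArg Subtype.val hab
  haveI : IsNoetherianRing (integralClosure R (FractionRing R)) :=
    isNoetherian_of_tower R (isNoetherian_of_isNoetherianRing_of_finite R _)
  haveI : IsIntegrallyClosed (integralClosure R (FractionRing R)) :=
    integralClosure.isIntegrallyClosedOfFiniteExtension (FractionRing R)
  have hR' : N2' (integralClosure R (FractionRing R)) :=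
    N2'_of_finite_injective R _ hinj hR
  obtain ⟨hic, hnoe⟩ := Groth.Agent.S6299.result (integralClosure R (FractionRing R))
  haveI := hic
  haveI := hnoe
  haveI : (Ideal.span ({(PowerSeries.X : PowerSeries (integralClosure R (FractionRing R)))} :
      Set (PowerSeries (integralClosure R (FractionRing R))))).IsPrime :=
    PowerSeries.span_X_isPrime
  haveI := isAdicComplete_X (integralClosure R (FractionRing R))
  have hquot : CAlg.IsN2 (PowerSeries (integralClosure R (FractionRing R)) ⧸
      Ideal.span ({(PowerSeries.X : PowerSeries (integralClosure R (FractionRing R)))} :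
        Set (PowerSeries (integralClosure R (FractionRing R))))) := by
    rw [isN2_iff_N2']
    exact N2'_of_ringEquiv (quotXEquiv (integralClosure R (FractionRing R))).symm hR'
  have hA : N2' (PowerSeries (integralClosure R (FractionRing R))) :=
    (isN2_iff_N2' _).1 (Groth.Agent.Lib.Helper27.NagTate.isN2_of_complete
      (PowerSeries (integralClosure R (FractionRing R))) PowerSeries.X hquot)
  haveI : Module.Finite (PowerSeries R) (PowerSeries (integralClosure R (FractionRing R))) :=
    finite_powerSeries R _
  have hinjP : Function.Injective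
      (algebraMap (PowerSeries R) (PowerSeries (integralClosure R (FractionRing R)))) :=
    PowerSeries.map_injective _ hinj
  exact (isN2_iff_N2' _).2 (N2'_descend (PowerSeries R)
    (PowerSeries (integralClosure R (FractionRing R))) hinjP hA)

end Groth.Agent.S9396
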