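import Groth.Statements.S4563
import Groth.Agent.S9396
import Groth.Agent.Lib.Helper12.N2Field
open Groth.Agent.Lib.Helper12.N2 Groth.Agent.Lib.Helper12.NagataLoc

set_option autoImplicit false
universe u
open CAlg

namespace Groth.Agent.S4563

/-- If A is a Noetherian integrally closed Japanese (N-2) domain, then every formal power series ring
A[[T_1, ..., T_r]] is Japanese. (The power series ring is a domain; that instance is taken as a
hypothesis binder.) -/
theorem result {A : Type u} [CommRing A] [IsDomain A]
    [IsNoetherianRing A] [IsIntegrallyClosed A] (hA : CAlg.IsN2 A) (r : ℕ)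
    [IsDomain (MvPowerSeries (Fin r) A)] :
    CAlg.IsN2 (MvPowerSeries (Fin r) A) := by
  have key : ∀ n : ℕ, N2' (MvPowerSeries (Fin n) A) := by
    intro n
    induction n with
    | zero =>
      exact N2'_of_ringEquiv (MvPowerSeries.isEmptyEquiv (Fin 0) A).symm.toRingEquiv
        ((isN2_iff_N2' A).1 hA)
    | succ n ih =>
      haveI : IsNoetherianRing (MvPowerSeries (Fin n) A) := inferInstance
      haveI : IsDomain (MvPowerSeries (Fin n) A) := NoZeroDivisors.to_isDomain _
      have h1 : CAlg.IsN2 (PowerSeries (MvPowerSeries (Fin n) A)) :=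
        Groth.Agent.S9396.result _ ((isN2_iff_N2' _).2 ih)
      exact N2'_of_ringEquiv (MvPowerSeries.finSuccEquiv A n).symm.toRingEquiv
        ((isN2_iff_N2' _).1 h1)
  exact (isN2_iff_N2' _).2 (key r)

end Groth.Agent.S4563
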