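import Groth.Statements.S4567
import Groth.Agent.Lib.Helper11.Unibranch

set_option autoImplicit false
universe u
open AlgebraicGeometry
open CAlg2

namespace Groth.Agent.S4567

/-- Let A be a domain with integral closure A' (in its fraction field) and f : Spec A' → Spec A the
canonical morphism. Then f is radicial (universally injective) if and only if every local ring A_p
is geometrically unibranch; when this holds f is a homeomorphism. -/
theorem result {A : Type u} [CommRing A] [IsDomain A] :
    (UniversallyInjective (Spec.map (CommRingCat.ofHom (algebraMap A (integralClosure A (FractionRing A))))) ↔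
      ∀ (p : Ideal A) [p.IsPrime], CAlg2.IsGeomUnibranch (Localization.AtPrime p)) ∧
    ((∀ (p : Ideal A) [p.IsPrime], CAlg2.IsGeomUnibranch (Localization.AtPrime p)) →
      IsHomeomorph (PrimeSpectrum.comap (algebraMap A (integralClosure A (FractionRing A))))) := by
  have key : UniversallyInjective (Spec.map (CommRingCat.ofHom
        (algebraMap A (integralClosure A (FractionRing A))))) ↔
      ∀ (p : Ideal A) [p.IsPrime], CAlg2.IsGeomUnibranch (Localization.AtPrime p) := by
    rw [Groth.Agent.Lib.Helper11.UHRing.universallyInjective_SpecMap_iff]
    constructor
    · intro h p _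
      rw [Groth.Agent.Lib.Helper11.Unibranch.isGeomUnibranch_iff_of_atPrime (FractionRing A) p
        (Localization.AtPrime p)]
      intro L _ g₁ g₂ hg _
      exact h L g₁ g₂ hg
    · intro h L _ g₁ g₂ hg
      haveI : (RingHom.ker (g₁.comp (algebraMap A (integralClosure A (FractionRing A))))).IsPrime :=
        RingHom.ker_isPrime _
      exact (Groth.Agent.Lib.Helper11.Unibranch.isGeomUnibranch_iff_of_atPrime (FractionRing A)
        (RingHom.ker (g₁.comp (algebraMap A (integralClosure A (FractionRing A)))))
        (Localization.AtPrime
          (RingHom.ker (g₁.comp (algebraMap A (integralClosure A (FractionRing A))))))).mp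
        (h _) L g₁ g₂ hg rfl
  refine ⟨key, fun h => ?_⟩
  have hUI := key.mpr h
  have hint : (algebraMap A (integralClosure A (FractionRing A))).IsIntegral :=
    algebraMap_isIntegral_iff.mpr inferInstance
  rw [isHomeomorph_iff_continuous_isClosedMap_bijective]
  refine ⟨PrimeSpectrum.continuous_comap _, PrimeSpectrum.isClosedMap_comap_of_isIntegral _ hint,
    ?_, ?_⟩
  · haveI := hUI
    exact Scheme.Hom.injective (Spec.map (CommRingCat.ofHom
      (algebraMap A (integralClosure A (FractionRing A)))))
  · refine Groth.Agent.Lib.Helper11.UHRing.comap_surjective_of_integral _ hint ?_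
    rw [(RingHom.injective_iff_ker_eq_bot _).mp
      (FaithfulSMul.algebraMap_injective A (integralClosure A (FractionRing A)))]
    exact bot_le

end Groth.Agent.S4567
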