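import Groth.Statements.S4569
import Mathlib

set_option autoImplicit false
universe u
open CAlg

namespace Groth.Agent.S4569

/-- Let A be a ring, x a non-zero-divisor of A with p = xA prime. For every n > 0 the inverse image in A
of x^n A_p is x^n A. -/
theorem result {A : Type u} [CommRing A] (x : A)
    (hx : x ∈ nonZeroDivisors A) [(Ideal.span ({x} : Set A)).IsPrime] (n : ℕ) (hn : 0 < n) :
    Ideal.comap (algebraMap A (Localization.AtPrime (Ideal.span ({x} : Set A))))
      (Ideal.map (algebraMap A (Localization.AtPrime (Ideal.span ({x} : Set A)))) (Ideal.span ({x ^ n} : Set A))) =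
      Ideal.span ({x ^ n} : Set A) := by
  set p := Ideal.span ({x} : Set A) with hp
  apply le_antisymm _ Ideal.le_comap_map
  intro a ha
  rw [Ideal.mem_comap, IsLocalization.algebraMap_mem_map_algebraMap_iff p.primeCompl] at ha
  obtain ⟨s, hs, hsa⟩ := ha
  have key : ∀ (n : ℕ) (a : A), s * a ∈ Ideal.span ({x ^ n} : Set A) →
      a ∈ Ideal.span ({x ^ n} : Set A) := by
    intro n
    induction n with
    | zero => intro a _; simp
    | succ n ih =>
      intro a h
      rw [Ideal.mem_span_singleton'] at h
      obtain ⟨b, hb⟩ := h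
      have hxa : a ∈ p := by
        have h1 : s * a ∈ p := by
          rw [← hb, pow_succ, ← mul_assoc]
          exact Ideal.mul_mem_left _ _ (Ideal.subset_span rfl)
        exact (Ideal.IsPrime.mem_or_mem ‹_› h1).resolve_left hs
      obtain ⟨a', rfl⟩ := Ideal.mem_span_singleton'.mp hxa
      have h3 : s * a' ∈ Ideal.span ({x ^ n} : Set A) := by
        rw [Ideal.mem_span_singleton']
        refine ⟨b, ?_⟩
        refine (mul_cancel_right_mem_nonZeroDivisors hx).mp ?_
        rw [mul_assoc, ← pow_succ, hb]; ring
      have h4 := ih a' h3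
      rw [Ideal.mem_span_singleton'] at h4 ⊢
      obtain ⟨c, hc⟩ := h4
      exact ⟨c, by rw [pow_succ, ← mul_assoc, hc]⟩
  exact key n a hsa

end Groth.Agent.S4569
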