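import Groth.Statements.S4572
import Mathlib

set_option autoImplicit false
universe u
open IsLocalRing
open EGA41

namespace Groth.Agent.S4572


theorem ringKrullDim_eq_of_integral_injective {A A' : Type u} [CommRing A] [CommRing A']
    [Algebra A A'] [Algebra.IsIntegral A A'] (hinj : Function.Injective (algebraMap A A')) :
    ringKrullDim A' = ringKrullDim A := by
  apply le_antisymm
  · apply Order.krullDim_le_of_strictMono (PrimeSpectrum.comap (algebraMap A A'))
    intro p q hpq
    have h1 : p.asIdeal < q.asIdeal := hpq
    have h2 := Ideal.IsIntegral.comap_lt_comap (R := A) h1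
    exact h2
  · unfold ringKrullDim Order.krullDim
    apply iSup_le
    intro l
    obtain ⟨Q, -, hQ, hQl⟩ := Ideal.exists_ideal_over_prime_of_isIntegral
      (RelSeries.head l).asIdeal (⊥ : Ideal A') (by
        rw [← RingHom.ker_eq_comap_bot, (RingHom.injective_iff_ker_eq_bot _).mp hinj]
        exact bot_le)
    haveI := hQ
    haveI : Q.LiesOver (RelSeries.head l).asIdeal := ⟨hQl.symm⟩
    obtain ⟨L, hL, -, -⟩ := Ideal.exists_ltSeries_of_hasGoingUp l Q
    rw [← hL]
    exact Order.LTSeries.length_le_krullDim L

/-- Let A be a regular local ring and A' a local ring containing A as a subring over which it is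
module-finite. Then A' is regular if and only if the embedding dimensions agree: dim_K(m/m²) =
dim_{K'}(m'/m'²) for the maximal ideals and residue fields of A and A'. -/
theorem result {A A' : Type u} [CommRing A]
    [IsRegularLocalRing A] [CommRing A'] [IsLocalRing A'] [IsNoetherianRing A'] [Algebra A A'] [Module.Finite A A']
    (hinj : Function.Injective (algebraMap A A')) :
    IsRegularLocalRing A' ↔
      Module.finrank (ResidueField A) (CotangentSpace A) = Module.finrank (ResidueField A') (CotangentSpace A') := by
  haveI : Algebra.IsIntegral A A' := Algebra.IsIntegral.of_finite A A'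
  have hdim : ringKrullDim A' = ringKrullDim A := ringKrullDim_eq_of_integral_injective hinj
  have hA : (Module.finrank (ResidueField A) (CotangentSpace A) : WithBot ℕ∞) = ringKrullDim A :=
    (IsRegularLocalRing.iff_finrank_cotangentSpace (R := A)).mp inferInstance
  rw [IsRegularLocalRing.iff_finrank_cotangentSpace, hdim, ← hA]
  constructor
  · intro h
    have : Module.finrank (ResidueField A') (CotangentSpace A') =
        Module.finrank (ResidueField A) (CotangentSpace A) := by exact_mod_cast h
    exact this.symm
  · intro h
    rw [h]

end Groth.Agent.S4572
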