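import Groth.Statements.S4575
import Groth.Agent.Lib.Helper5.RegQuot

set_option autoImplicit false
universe u
open IsLocalRing
open EGA41

namespace Groth.Agent.S4575

open Groth.Agent.Lib.Helper5.RegQuot in
theorem aux : ∀ (n : ℕ) (R : Type u) [CommRing R] [IsRegularLocalRing R] (J : Ideal R),
    (maximalIdeal R).spanFinrank = n → J ≠ ⊤ → IsRegularLocalRing (R ⧸ J) →
    J ⊓ maximalIdeal R ^ 2 = maximalIdeal R * J := by
  intro n
  induction n with
  | zero =>
    intro R _ _ J h0 hJ _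
    rw [Submodule.spanFinrank_eq_zero_iff_eq_bot (maximalIdeal R).fg_of_isNoetherianRing] at h0
    have hJ0 : J = ⊥ := le_bot_iff.mp (h0 ▸ le_maximalIdeal hJ)
    rw [hJ0, Ideal.mul_bot, bot_inf_eq]
  | succ n ih =>
    intro R _ _ J hn hJ hreg
    have hJm : J ≤ maximalIdeal R := le_maximalIdeal hJ
    have hle : maximalIdeal R * J ≤ J ⊓ maximalIdeal R ^ 2 := by
      refine le_inf Ideal.mul_le_right ?_
      rw [pow_two]
      exact Ideal.mul_mono_right hJm
    by_cases hJ0 : J = ⊥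
    · rw [hJ0, Ideal.mul_bot, bot_inf_eq]
    refine le_antisymm ?_ hle
    obtain ⟨t, htJ, ht2⟩ := exists_mem_notMem_sq R J hJ0 hJ hreg
    have htm : t ∈ maximalIdeal R := hJm htJ
    obtain ⟨hq2, hnq'⟩ := quotient_singleton R t htm ht2
    haveI := hq2
    have hnq : (maximalIdeal (R ⧸ Ideal.span {t})).spanFinrank = n := by omega
    have htJ' : Ideal.span {t} ≤ J := (Ideal.span_singleton_le_iff_mem J).mpr htJ
    obtain ⟨π, hπ⟩ : ∃ π : R →+* R ⧸ Ideal.span {t}, π = Ideal.Quotient.mk (Ideal.span {t}) :=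
      ⟨_, rfl⟩
    have hπs : Function.Surjective π := hπ ▸ Ideal.Quotient.mk_surjective
    have hker : RingHom.ker π = Ideal.span {t} := by rw [hπ, Ideal.mk_ker]
    obtain ⟨J₁, hJ₁⟩ : ∃ J₁ : Ideal (R ⧸ Ideal.span {t}), J₁ = J.map π := ⟨_, rfl⟩
    have hcomap : J₁.comap π = J := by
      rw [hJ₁, Ideal.comap_map_of_surjective _ hπs, ← RingHom.ker_eq_comap_bot, hker,
        sup_eq_left.mpr htJ']
    have hJ₁top : J₁ ≠ ⊤ := by
      intro h
      apply hJ
      rw [← hcomap, h, Ideal.comap_top]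
    have hreg₁ : IsRegularLocalRing ((R ⧸ Ideal.span {t}) ⧸ J₁) := by
      rw [hJ₁, hπ]
      exact IsRegularLocalRing.of_ringEquiv (DoubleQuot.quotQuotEquivQuotOfLE htJ').symm
    have hIH := ih (R ⧸ Ideal.span {t}) J₁ hnq hJ₁top hreg₁
    have hm₁ : maximalIdeal (R ⧸ Ideal.span {t}) = (maximalIdeal R).map π := by
      have h1 : (maximalIdeal (R ⧸ Ideal.span {t})).comap π = maximalIdeal R :=
        IsLocalRing.eq_maximalIdeal (Ideal.comap_isMaximal_of_surjective π hπs)
      rw [← h1, Ideal.map_comap_of_surjective π hπs]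
    intro y hy
    have hy1 : π y ∈ J₁ ⊓ maximalIdeal (R ⧸ Ideal.span {t}) ^ 2 := by
      refine ⟨hJ₁ ▸ Ideal.mem_map_of_mem π hy.1, ?_⟩
      rw [hm₁, ← Ideal.map_pow]
      exact Ideal.mem_map_of_mem π hy.2
    rw [hIH, hm₁, hJ₁, ← Ideal.map_mul] at hy1
    have hy2 : y ∈ ((maximalIdeal R * J).map π).comap π := hy1
    rw [Ideal.comap_map_of_surjective _ hπs, ← RingHom.ker_eq_comap_bot, hker] at hy2
    obtain ⟨w, hw, c, hc, rfl⟩ := Submodule.mem_sup.mp hy2
    obtain ⟨a, rfl⟩ := Ideal.mem_span_singleton'.mp hc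
    refine Ideal.add_mem _ hw ?_
    have hat2 : a * t ∈ maximalIdeal R ^ 2 := by
      have := Ideal.sub_mem _ hy.2 (hle hw).2
      simpa using this
    have ham : a ∈ maximalIdeal R := by
      by_contra hna
      have hau : IsUnit a := by
        by_contra h
        exact hna ((IsLocalRing.mem_maximalIdeal a).mpr h)
      obtain ⟨u, rfl⟩ := hau
      apply ht2
      have := Ideal.mul_mem_left (maximalIdeal R ^ 2) (↑u⁻¹ : R) hat2
      rwa [← mul_assoc, Units.inv_mul, one_mul] at this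
    exact Ideal.mul_mem_mul ham htJ

/-- Let R be a regular local ring with maximal ideal m and n a proper ideal with R/n regular. Then
(n/n²) ⊗_R K → (m/m²) ⊗_R K is injective, K the residue field; stated in the equivalent form n ∩ m²
= m·n (the kernel of n/mn → m/m² is (n ∩ m²)/mn). -/
theorem result {R : Type u} [CommRing R] [IsRegularLocalRing R]
    (n : Ideal R) (hn : n ≠ ⊤) (hreg : IsRegularRing (R ⧸ n)) :
    n ⊓ maximalIdeal R ^ 2 = maximalIdeal R * n := by
  haveI : Nontrivial (R ⧸ n) := Ideal.Quotient.nontrivial_iff.mpr hn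
  haveI : IsLocalRing (R ⧸ n) :=
    IsLocalRing.of_surjective' (Ideal.Quotient.mk n) Ideal.Quotient.mk_surjective
  haveI := hreg
  have hreg' : IsRegularLocalRing (R ⧸ n) :=
    IsRegularLocalRing.of_isRegularRing_of_isLocalRing (R ⧸ n)
  exact aux _ R n rfl hn hreg'

end Groth.Agent.S4575
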