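import Groth.Statements.S4577
import Mathlib
import Groth.Agent.Lib.Helper6.SmoothLocusExt
import Groth.Agent.Lib.Helper6.LeftInvGlobal

set_option autoImplicit false
universe u
open EGA41

namespace Groth.Agent.S4577

/-- Let B be a formally smooth A-algebra (discrete topologies) and C = B/J a quotient with J/J² finitely
generated. Then C is formally smooth over A if and only if C_m is formally smooth over A for every
maximal ideal m of C (hence also if and only if every C_p, p prime, is). (Not stated: the variant of
the localised condition with C_m formally smooth over A_q, q the contraction of m to A, and the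
further assertion that for B Noetherian the discrete topologies in the localised condition may be
replaced by the adic ones.) -/
theorem result {A B C : Type u} [CommRing A] [CommRing B] [CommRing C]
    [Algebra A B] [Algebra B C] [Algebra A C] [IsScalarTower A B C] [Algebra.FormallySmooth A B]
    (hsurj : Function.Surjective (algebraMap B C)) [Module.Finite B (RingHom.ker (algebraMap B C)).Cotangent] :
    Algebra.FormallySmooth A C ↔
      ∀ (m : Ideal C) [m.IsMaximal], Algebra.FormallySmooth A (Localization.AtPrime m) := by
  let E : Algebra.Extension.{u} A C :=
    ⟨B, Function.surjInv hsurj, Function.surjInv_eq hsurj⟩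
  haveI : Algebra.FormallySmooth A E.Ring := ‹Algebra.FormallySmooth A B›
  haveI : Module.Finite E.Ring E.ker.Cotangent :=
    ‹Module.Finite B (RingHom.ker (algebraMap B C)).Cotangent›
  haveI : Module.Finite E.Ring E.Cotangent :=
    Module.Finite.equiv E.cotangentEquivCotangentKer.symm
  haveI : Module.Finite C E.Cotangent := Module.Finite.of_restrictScalars_finite E.Ring C _
  constructor
  · intro h m hm
    obtain ⟨l, hl⟩ := E.formallySmooth_iff_split_injection.mp h
    exact Groth.Agent.Lib.Helper6.SmoothLocusExt.formallySmooth_localization_of_factor E l 1
      (by rw [hl, one_smul]) m (fun h1 => hm.ne_top ((Ideal.eq_top_iff_one m).mpr h1))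
  · intro h
    rw [E.formallySmooth_iff_split_injection]
    have htop : Groth.Agent.Lib.Helper6.LeftInvGlobal.factorIdeal E.cotangentComplex = ⊤ := by
      by_contra hne
      obtain ⟨m, hm, hle⟩ := Ideal.exists_le_maximal _ hne
      haveI := hm
      haveI := h m
      obtain ⟨f, hf, W, hW⟩ :=
        Groth.Agent.Lib.Helper6.SmoothLocusExt.exists_factor_of_formallySmooth E m
      exact hf (hle ⟨W, hW⟩)
    have h1 : (1 : C) ∈ Groth.Agent.Lib.Helper6.LeftInvGlobal.factorIdeal E.cotangentComplex :=
      htop ▸ Submodule.mem_top
    obtain ⟨W, hW⟩ := h1
    exact ⟨W, by rw [hW, one_smul]⟩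

end Groth.Agent.S4577
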