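import Groth.Statements.S4584
import Mathlib

set_option autoImplicit false
universe u
open AlgebraicGeometry CategoryTheory Topology
open EGA41

namespace Groth.Agent.S4584


open Limits TopologicalSpace in
theorem sdiff_case (X : Scheme.{u}) [CompactSpace X] [QuasiSeparatedSpace X]
    (U : X.affineOpens) (s : Set X.affineOpens) (hs : s.Finite) :
    ∃ (X' : Scheme.{u}) (f : X' ⟶ X), IsAffine X' ∧ LocallyOfFinitePresentation f ∧ QuasiCompact f ∧
      QuasiSeparated f ∧ Set.range f.base = (U.1 : Set X) \ ⋃ j ∈ s, (j.1 : Set X) := by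
  have hU := U.2
  -- the compact open `W = U ∩ ⋃ U_j`
  have hWc : IsCompact ((U.1 : Set X) ∩ ⋃ j ∈ s, (j.1 : Set X)) := by
    rw [Set.inter_iUnion₂]
    exact hs.isCompact_biUnion fun j _ =>
      hU.isCompact.inter_of_isOpen j.2.isCompact U.1.2 j.1.2
  have hWo : IsOpen ((U.1 : Set X) ∩ ⋃ j ∈ s, (j.1 : Set X)) :=
    U.1.2.inter (isOpen_biUnion fun j _ => j.1.2)
  have hemb := hU.fromSpec.isOpenEmbedding
  have hpre : IsCompact (hU.fromSpec ⁻¹' ((U.1 : Set X) ∩ ⋃ j ∈ s, (j.1 : Set X))) ∧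
      IsOpen (hU.fromSpec ⁻¹' ((U.1 : Set X) ∩ ⋃ j ∈ s, (j.1 : Set X))) := by
    refine ⟨?_, hWo.preimage hU.fromSpec.continuous⟩
    rw [hemb.isInducing.isCompact_preimage_iff]
    · exact hWc
    · rw [hU.range_fromSpec]
      exact Set.inter_subset_left
  obtain ⟨I, hI, hIeq⟩ := PrimeSpectrum.isCompact_isOpen_iff_ideal.mp hpre
  let φ : Γ(X, U.1) ⟶ CommRingCat.of (Γ(X, U.1) ⧸ I) := CommRingCat.ofHom (Ideal.Quotient.mk I)
  refine ⟨Spec (CommRingCat.of (Γ(X, U.1) ⧸ I)), Spec.map φ ≫ hU.fromSpec, inferInstance, ?_, ?_,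
    inferInstance, ?_⟩
  · have : LocallyOfFinitePresentation (Spec.map φ) := by
      rw [HasRingHomProperty.Spec_iff (P := @LocallyOfFinitePresentation)]
      refine RingHom.FinitePresentation.of_surjective _ Ideal.Quotient.mk_surjective ?_
      change (RingHom.ker (Ideal.Quotient.mk I)).FG
      rwa [Ideal.mk_ker]
    infer_instance
  · exact MorphismProperty.of_postcomp (W := @QuasiCompact) (W' := @QuasiSeparated)
      (Spec.map φ ≫ hU.fromSpec) (terminal.from X) inferInstance inferInstance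
  · have hr : Set.range (Spec.map φ) = PrimeSpectrum.zeroLocus (I : Set Γ(X, U.1)) := by
      have := _root_.range_comap_of_surjective _ (Ideal.Quotient.mk I)
        Ideal.Quotient.mk_surjective
      rw [Ideal.mk_ker] at this
      rw [← this]
      rfl
    have : Set.range (Spec.map φ ≫ hU.fromSpec) = hU.fromSpec '' Set.range (Spec.map φ) := by
      rw [← Set.range_comp]
      rfl
    rw [this, hr]
    have hz : ∀ y : Spec Γ(X, U.1), y ∈ PrimeSpectrum.zeroLocus (I : Set Γ(X, U.1)) ↔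
        y ∉ (hU.fromSpec ⁻¹' ((U.1 : Set X) ∩ ⋃ j ∈ s, (j.1 : Set X))) := by
      intro y
      have hy := Set.ext_iff.mp hIeq y
      exact ⟨fun h hp => (hy.mpr hp) h, fun h => by_contra fun hn => h (hy.mp hn)⟩
    ext x
    constructor
    · rintro ⟨y, hy, rfl⟩
      have hyU : hU.fromSpec y ∈ (U.1 : Set X) := by
        rw [← hU.range_fromSpec]; exact ⟨y, rfl⟩
      refine ⟨hyU, fun h => (hz y).mp hy ?_⟩
      exact ⟨hyU, h⟩
    · rintro ⟨hxU, hx⟩
      rw [← hU.range_fromSpec] at hxU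
      obtain ⟨y, rfl⟩ := hxU
      exact ⟨y, (hz y).mpr fun h => hx h.2, rfl⟩

open Limits TopologicalSpace in
theorem union_case (X : Scheme.{u}) [QuasiSeparatedSpace X] (s t : Set X)
    (h1 : ∃ (X' : Scheme.{u}) (f : X' ⟶ X), IsAffine X' ∧ LocallyOfFinitePresentation f ∧ QuasiCompact f ∧
      QuasiSeparated f ∧ Set.range f.base = s)
    (h2 : ∃ (X' : Scheme.{u}) (f : X' ⟶ X), IsAffine X' ∧ LocallyOfFinitePresentation f ∧ QuasiCompact f ∧
      QuasiSeparated f ∧ Set.range f.base = t) :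
    ∃ (X' : Scheme.{u}) (f : X' ⟶ X), IsAffine X' ∧ LocallyOfFinitePresentation f ∧ QuasiCompact f ∧
      QuasiSeparated f ∧ Set.range f.base = s ∪ t := by
  obtain ⟨X₁, f₁, hA₁, hP₁, hC₁, hS₁, hr₁⟩ := h1
  obtain ⟨X₂, f₂, hA₂, hP₂, hC₂, hS₂, hr₂⟩ := h2
  have key : ∀ (P : MorphismProperty Scheme.{u}) [IsZariskiLocalAtSource P], P f₁ → P f₂ →
      P (coprod.desc f₁ f₂) := by
    intro P _ hf₁ hf₂
    rw [IsZariskiLocalAtSource.iff_of_openCover (P := P) (coprodOpenCover.{_, u} X₁ X₂)]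
    rintro (_ | _)
    · change P (coprod.inl ≫ coprod.desc f₁ f₂)
      rw [coprod.inl_desc]
      exact hf₁
    · change P (coprod.inr ≫ coprod.desc f₁ f₂)
      rw [coprod.inr_desc]
      exact hf₂
  refine ⟨X₁ ⨿ X₂, coprod.desc f₁ f₂, inferInstance, key _ hP₁ hP₂, ?_, inferInstance, ?_⟩
  · exact MorphismProperty.of_postcomp (W := @QuasiCompact) (W' := @QuasiSeparated)
      (coprod.desc f₁ f₂) (terminal.from X) inferInstance inferInstance
  · rw [← hr₁, ← hr₂]
    ext x
    constructor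
    · rintro ⟨y, rfl⟩
      obtain ⟨(y | y), rfl⟩ := (coprodMk X₁ X₂).surjective y
      · left
        refine ⟨y, ?_⟩
        rw [coprodMk_inl, ← Scheme.Hom.comp_apply, coprod.inl_desc]
      · right
        refine ⟨y, ?_⟩
        rw [coprodMk_inr, ← Scheme.Hom.comp_apply, coprod.inr_desc]
    · rintro (⟨y, rfl⟩ | ⟨y, rfl⟩)
      · refine ⟨(coprod.inl : X₁ ⟶ X₁ ⨿ X₂) y, ?_⟩
        rw [← Scheme.Hom.comp_apply, coprod.inl_desc]
      · refine ⟨(coprod.inr : X₂ ⟶ X₁ ⨿ X₂) y, ?_⟩
        rw [← Scheme.Hom.comp_apply, coprod.inr_desc]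

/-- Given a scheme X that is quasi-compact and quasi-separated, together with a constructible subset Z
of X, one can find an affine scheme X' with a morphism X' → X of finite presentation whose image
equals Z. -/
theorem result (X : Scheme.{u}) [CompactSpace X]
    [QuasiSeparatedSpace X] (Z : Set X) (hZ : IsConstructible Z) :
    ∃ (X' : Scheme.{u}) (f : X' ⟶ X), IsAffine X' ∧ LocallyOfFinitePresentation f ∧ QuasiCompact f ∧
      QuasiSeparated f ∧ Set.range f.base = Z := by
  haveI : Nonempty X.affineOpens := ⟨⟨⊥, isAffineOpen_bot X⟩⟩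
  have hb : TopologicalSpace.IsTopologicalBasis
      (Set.range fun U : X.affineOpens => (U.1 : Set X)) := by
    have := X.isBasis_affineOpens
    rwa [TopologicalSpace.Opens.IsBasis, Set.image_eq_range] at this
  induction Z, hZ using IsConstructible.induction_of_isTopologicalBasis
    (fun U : X.affineOpens => (U.1 : Set X)) hb (fun U => U.2.isCompact) with
  | sdiff U s hs => exact Groth.Agent.S4584.sdiff_case X U s hs
  | union s hs t ht ihs iht => exact Groth.Agent.S4584.union_case X s t ihs iht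

end Groth.Agent.S4584
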