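import Groth.Statements.S4586
import Groth.Agent.Lib.Helper26.ProConsSch
import Groth.Agent.S3398
import Groth.Agent.S3399
import Groth.Agent.S3402

set_option autoImplicit false
universe u
open AlgebraicGeometry CategoryTheory Topology
open EGA41

namespace Groth.Agent.S4586

open Groth.Agent.Lib.Helper26.ProConsSch

/-- Let f : X → Y be surjective and either quasi-compact or locally of finite presentation, E ⊆ Y. Then
E is locally constructible (resp. pro-constructible, resp. ind-constructible) if and only if f⁻¹(E)
is. -/
theorem result {X Y : Scheme.{u}} (f : X ⟶ Y) [Surjective f]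
    (hf : QuasiCompact f ∨ LocallyOfFinitePresentation f) (E : Set Y) :
    (IsLocallyConstructible E ↔ IsLocallyConstructible (f.base ⁻¹' E)) ∧
    (ProCons.IsProConstructible E ↔ ProCons.IsProConstructible (f.base ⁻¹' E)) ∧
    (ProCons.IsIndConstructible E ↔ ProCons.IsIndConstructible (f.base ⁻¹' E)) := by
  have himg : ∀ E : Set Y, f.base '' (f.base ⁻¹' E) = E := fun E =>
    Set.image_preimage_eq E f.surjective
  have hpro : ProCons.IsProConstructible E ↔ ProCons.IsProConstructible (f.base ⁻¹' E) := by
    refine ⟨isProConstructible_preimage f, fun h => ?_⟩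
    rcases hf with hf | hf
    · rw [← himg E]
      exact Groth.Agent.S3398.result f _ h
    · rw [← isIndConstructible_compl_iff, ← himg Eᶜ]
      apply Groth.Agent.S3399.result f
      rw [Set.preimage_compl]
      exact isIndConstructible_compl h
  have hind : ProCons.IsIndConstructible E ↔ ProCons.IsIndConstructible (f.base ⁻¹' E) := by
    refine ⟨isIndConstructible_preimage f, fun h => ?_⟩
    rcases hf with hf | hf
    · rw [← isProConstructible_compl_iff, ← himg Eᶜ]
      apply Groth.Agent.S3398.result f
      rw [Set.preimage_compl]
      exact isProConstructible_compl h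
    · rw [← himg E]
      exact Groth.Agent.S3399.result f _ h
  refine ⟨?_, hpro, hind⟩
  rw [Groth.Agent.S3402.result, Groth.Agent.S3402.result, hpro, hind]

end Groth.Agent.S4586
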