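import Groth.Statements.S4587
import Mathlib

set_option autoImplicit false
universe u
open AlgebraicGeometry CategoryTheory
open EGA41

namespace Groth.Agent.S4587

theorem generalizingMap_iff_top {X Y : Type*} [TopologicalSpace X] [TopologicalSpace Y]
    [QuasiSober X] [QuasiSober Y] [T0Space Y] (f : X → Y) (hf : Continuous f) :
    GeneralizingMap f ↔ ∀ Y' : Set Y, IsClosed Y' → IsIrreducible Y' →
        ∀ Z ∈ irreducibleComponents ↥(f ⁻¹' Y'), closure (f '' (Subtype.val '' Z)) = Y' := by
  constructor
  · intro hg Y' hY' hirr Z hZ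
    have hclZ : IsClosed Z := isClosed_of_mem_irreducibleComponents Z hZ
    have hcl : IsClosed (Subtype.val '' Z) :=
      (hY'.preimage hf).isClosedEmbedding_subtypeVal.isClosedMap Z hclZ
    have hirrZ : IsIrreducible (Subtype.val '' Z) :=
      hZ.1.image _ continuous_subtype_val.continuousOn
    obtain ⟨ξ, hξ⟩ := QuasiSober.sober hirrZ hcl
    obtain ⟨η, hη⟩ := QuasiSober.sober hirr hY'
    have hξZ : ξ ∈ Subtype.val '' Z := by
      rw [← hξ.def]; exact subset_closure (Set.mem_singleton ξ)
    obtain ⟨⟨ξ0, hξ0⟩, hξ0Z, rfl⟩ := hξZ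
    have h1 : η ⤳ f ξ0 := by
      rw [specializes_iff_mem_closure, hη.def]; exact hξ0
    obtain ⟨ξ', hξ', hfξ'⟩ := hg h1
    have hξ'mem : ξ' ∈ f ⁻¹' Y' := by
      show f ξ' ∈ Y'
      rw [hfξ', ← hη.def]; exact subset_closure (Set.mem_singleton η)
    have hle : Z ≤ closure {(⟨ξ', hξ'mem⟩ : f ⁻¹' Y')} := by
      intro z hz
      rw [closure_subtype, Set.image_singleton]
      have h2 : ξ0 ⤳ (z : X) :=
        specializes_iff_mem_closure.mpr (by rw [hξ.def]; exact ⟨z, hz, rfl⟩)
      exact (hξ'.trans h2).mem_closure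
    have hge := hZ.2 (isIrreducible_singleton.closure) hle
    have hmem : (⟨ξ', hξ'mem⟩ : f ⁻¹' Y') ∈ Z := hge (subset_closure (Set.mem_singleton _))
    apply subset_antisymm
    · rw [hY'.closure_subset_iff]
      rintro _ ⟨_, ⟨z, _, rfl⟩, rfl⟩
      exact z.2
    · intro w hw
      have hw' : w ∈ closure {η} := by rw [hη.def]; exact hw
      refine closure_minimal ?_ isClosed_closure hw'
      rw [Set.singleton_subset_iff]
      exact subset_closure ⟨ξ', ⟨⟨ξ', hξ'mem⟩, hmem, rfl⟩, hfξ'⟩
  · intro H x y hy
    have hxmem : x ∈ f ⁻¹' (closure {y}) := hy.mem_closure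
    have hZ := irreducibleComponent_mem_irreducibleComponents (⟨x, hxmem⟩ : f ⁻¹' (closure {y}))
    have hxZ : (⟨x, hxmem⟩ : f ⁻¹' (closure {y})) ∈ irreducibleComponent _ :=
      mem_irreducibleComponent
    have key := H (closure {y}) isClosed_closure isIrreducible_singleton.closure _ hZ
    have hclZ := isClosed_of_mem_irreducibleComponents _ hZ
    have hcl : IsClosed (Subtype.val '' irreducibleComponent (⟨x, hxmem⟩ : f ⁻¹' (closure {y}))) :=
      ((isClosed_closure (s := {y})).preimage hf).isClosedEmbedding_subtypeVal.isClosedMap _ hclZ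
    have hirrZ : IsIrreducible
        (Subtype.val '' irreducibleComponent (⟨x, hxmem⟩ : f ⁻¹' (closure {y}))) :=
      hZ.1.image _ continuous_subtype_val.continuousOn
    obtain ⟨ξ, hξ⟩ := QuasiSober.sober hirrZ hcl
    refine ⟨ξ, ?_, ?_⟩
    · show ξ ⤳ x
      rw [specializes_iff_mem_closure, hξ.def]; exact ⟨_, hxZ, rfl⟩
    · have h3 : closure {f ξ} = closure {y} := by
        rw [← key, ← hξ.def]
        apply subset_antisymm
        · exact closure_mono (by rintro _ rfl; exact ⟨ξ, subset_closure rfl, rfl⟩)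
        · refine closure_minimal ?_ isClosed_closure
          exact (image_closure_subset_closure_image hf).trans (by rw [Set.image_singleton])
      exact (inseparable_iff_closure_eq.mpr h3).eq


/-- A morphism of schemes f : X → Y is generizing if and only if, for every irreducible closed subset Y'
of Y, each irreducible component of f⁻¹(Y') has dense image in Y'. -/
theorem result {X Y : Scheme.{u}} (f : X ⟶ Y) :
    GeneralizingMap f.base ↔
      ∀ Y' : Set Y, IsClosed Y' → IsIrreducible Y' →
        ∀ Z ∈ irreducibleComponents ↥(f.base ⁻¹' Y'), closure (f.base '' (Subtype.val '' Z)) = Y' := by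
  exact generalizingMap_iff_top _ f.continuous

end Groth.Agent.S4587
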