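import Groth.Statements.S4590
import Mathlib.RingTheory.Flat.FaithfullyFlat.Algebra
import Mathlib.RingTheory.Flat.TorsionFree
import Mathlib.RingTheory.Polynomial.ScaleRoots
import Mathlib.RingTheory.IntegralClosure.Algebra.Basic
import Mathlib.RingTheory.Localization.FractionRing
import Mathlib.RingTheory.Nilpotent.Lemmas
import Mathlib.RingTheory.Ideal.Quotient.Nilpotent

set_option autoImplicit false
universe u
open CAlg

namespace Groth.Agent.S4590


section Step7

variable {A : Type u} [CommRing A] [IsDomain A] {K : Type u} [Field K] [Algebra A K]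
  [IsFractionRing A K]

/-- The `A`-span of `1, x, …, x^k`. -/
def Mk (A : Type u) [CommRing A] {K : Type u} [Field K] [Algebra A K] (x : K) (k : ℕ) :
    Submodule A K :=
  Submodule.span A ((fun i : ℕ => x ^ i) '' Set.Iic k)

theorem Mk_mono (x : K) {k l : ℕ} (h : k ≤ l) : Mk A x k ≤ Mk A x l :=
  Submodule.span_mono (Set.image_mono (Set.Iic_subset_Iic.mpr h))

theorem mul_mem_Mk_succ (x : K) (k : ℕ) {y : K} (hy : y ∈ Mk A x k) : x * y ∈ Mk A x (k + 1) := by
  refine Submodule.span_induction ?_ ?_ ?_ ?_ hy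
  · rintro _ ⟨i, hi, rfl⟩
    refine Submodule.subset_span ⟨i + 1, ?_, ?_⟩
    · exact Set.mem_Iic.mpr (Nat.succ_le_succ (Set.mem_Iic.mp hi))
    · show x ^ (i + 1) = x * x ^ i
      rw [pow_succ']
  · rw [mul_zero]
    exact Submodule.zero_mem _
  · intro u v _ _ hu hv
    rw [mul_add]
    exact Submodule.add_mem _ hu hv
  · intro c u _ hu
    rw [mul_smul_comm]
    exact Submodule.smul_mem _ _ hu

theorem mem_pow_imp (a s : A) (hs0 : s ≠ 0) (k : ℕ) :
    ∀ j ∈ (Ideal.span {a, s}) ^ k, ∃ y ∈ Mk A (algebraMap A K a / algebraMap A K s) k,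
      algebraMap A K j = algebraMap A K s ^ k * y := by
  induction k with
  | zero =>
    intro j _
    refine ⟨algebraMap A K j, ?_, by rw [pow_zero, one_mul]⟩
    have h1 : (1 : K) ∈ Mk A (algebraMap A K a / algebraMap A K s) 0 :=
      Submodule.subset_span ⟨0, Set.mem_Iic.mpr le_rfl, pow_zero _⟩
    have := Submodule.smul_mem _ j h1
    rwa [Algebra.smul_def, mul_one] at this
  | succ k ih =>
    intro j hj
    rw [pow_succ] at hj
    refine Submodule.mul_induction_on hj ?_ ?_
    · intro j' hj' g hg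
      obtain ⟨y, hy, hjy⟩ := ih j' hj'
      obtain ⟨α, β, rfl⟩ := Ideal.mem_span_pair.mp hg
      have hs : algebraMap A K s ≠ 0 := fun h => hs0 ((IsFractionRing.injective A K) (h.trans (map_zero _).symm))
      · refine ⟨algebraMap A K α * ((algebraMap A K a / algebraMap A K s) * y) +
          algebraMap A K β * y, ?_, ?_⟩
        · refine Submodule.add_mem _ ?_ ?_
          · rw [← Algebra.smul_def]
            exact Submodule.smul_mem _ _ (mul_mem_Mk_succ _ _ hy)
          · rw [← Algebra.smul_def]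
            exact Submodule.smul_mem _ _ (Mk_mono _ (Nat.le_succ k) hy)
        · rw [map_mul, map_add, map_mul, map_mul, hjy]
          field_simp
          ring
    · intro u v ⟨yu, hyu, hu⟩ ⟨yv, hyv, hv⟩
      exact ⟨yu + yv, Submodule.add_mem _ hyu hyv, by rw [map_add, hu, hv, mul_add]⟩

theorem isIntegral_of_pow_mem (a s : A) (hs0 : s ≠ 0) (m : ℕ) (hm : 1 ≤ m)
    (h : a ^ m ∈ Ideal.span {s} * (Ideal.span {a, s}) ^ (m - 1)) :
    IsIntegral A (algebraMap A K a / algebraMap A K s) := by
  have hs : algebraMap A K s ≠ 0 :=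
    fun h => hs0 ((IsFractionRing.injective A K) (h.trans (map_zero _).symm))
  obtain ⟨x, hx⟩ : ∃ x : K, x = algebraMap A K a / algebraMap A K s := ⟨_, rfl⟩
  rw [← hx]
  have key : ∀ t ∈ Ideal.span {s} * (Ideal.span {a, s}) ^ (m - 1),
      ∃ y ∈ Mk A x (m - 1), algebraMap A K t = algebraMap A K s ^ m * y := by
    intro t ht
    refine Submodule.mul_induction_on ht ?_ ?_
    · intro g hg j hj
      obtain ⟨c, rfl⟩ := Ideal.mem_span_singleton'.mp hg
      obtain ⟨y, hy, hjy⟩ := mem_pow_imp (K := K) a s hs0 (m - 1) j hj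
      rw [← hx] at hy
      refine ⟨c • y, Submodule.smul_mem _ _ hy, ?_⟩
      rw [map_mul, map_mul, hjy, Algebra.smul_def]
      have : m = (m - 1) + 1 := by omega
      conv_rhs => rw [this, pow_succ]
      ring
    · intro u v ⟨yu, hyu, hu⟩ ⟨yv, hyv, hv⟩
      exact ⟨yu + yv, Submodule.add_mem _ hyu hyv, by rw [map_add, hu, hv, mul_add]⟩
  have hxm : x ^ m ∈ Mk A x (m - 1) := by
    obtain ⟨y, hy, hay⟩ := key _ h
    have : x ^ m = y := by
      rw [hx, div_pow, ← map_pow, hay]
      field_simp
    rw [this]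
    exact hy
  refine isIntegral_of_smul_mem_submodule (M := K) (Mk A x (m - 1)) ?_ ?_ x ?_
  · intro hbot
    have h1 : (1 : K) ∈ Mk A x (m - 1) :=
      Submodule.subset_span ⟨0, Set.mem_Iic.mpr (Nat.zero_le _), pow_zero _⟩
    rw [hbot, Submodule.mem_bot] at h1
    exact one_ne_zero h1
  · exact Submodule.fg_span ((Set.finite_Iic _).image _)
  · intro n hn
    refine Submodule.span_induction ?_ ?_ ?_ ?_ hn
    · rintro _ ⟨i, hi, rfl⟩
      show x • x ^ i ∈ _
      rw [smul_eq_mul, ← pow_succ']
      rcases Nat.lt_or_ge (i + 1) m with hlt | hge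
      · exact Submodule.subset_span ⟨i + 1, Set.mem_Iic.mpr (by omega), rfl⟩
      · have : i + 1 = m := by
          have := Set.mem_Iic.mp hi
          omega
        rw [this]
        exact hxm
    · rw [smul_zero]
      exact Submodule.zero_mem _
    · intro u v _ _ hu hv
      rw [smul_add]
      exact Submodule.add_mem _ hu hv
    · intro c u _ hu
      rw [smul_comm]
      exact Submodule.smul_mem _ _ hu

end Step7


section Step5

open Polynomial

variable {A B : Type u} [CommRing A] [CommRing B] [Algebra A B]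

theorem exists_pow_mem_map [Nontrivial B] (a s : A) (Q : B[X]) (hQ : Q.Monic)
    (hnil : IsNilpotent (eval (algebraMap A B a) (scaleRoots Q (algebraMap A B s)))) :
    ∃ m, 1 ≤ m ∧ algebraMap A B (a ^ m) ∈
      (Ideal.span {s} * (Ideal.span {a, s}) ^ (m - 1)).map (algebraMap A B) := by
  obtain ⟨n, hn⟩ : ∃ n, n = Q.natDegree := ⟨_, rfl⟩
  have hn1 : 1 ≤ n := by
    rcases Nat.eq_zero_or_pos n with h0 | hpos
    · exfalso
      have hQ1 : Q = 1 := hQ.natDegree_eq_zero.mp (hn ▸ h0)
      rw [hQ1, one_scaleRoots, eval_one] at hnil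
      obtain ⟨N, hN⟩ := hnil
      rw [one_pow] at hN
      exact one_ne_zero hN
    · exact hpos
  set J : Ideal A := Ideal.span {a, s} with hJ
  have haJ : a ∈ J := Ideal.subset_span (Set.mem_insert _ _)
  have hsJ : s ∈ J := Ideal.subset_span (Set.mem_insert_of_mem _ rfl)
  set I₁ : Ideal A := Ideal.span {s} * J ^ (n - 1) with hI₁
  have hI₁J : I₁ ≤ J ^ n := by
    have : n = 1 + (n - 1) := by omega
    conv_rhs => rw [this, pow_add, pow_one]
    exact Ideal.mul_mono_left ((Ideal.span_singleton_le_iff_mem _).mpr hsJ)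
  set φ := algebraMap A B with hφ
  -- the decomposition ν = u' + X
  obtain ⟨ν, hν⟩ : ∃ ν, ν = eval (φ a) (scaleRoots Q (φ s)) := ⟨_, rfl⟩
  have hdecomp : ν = (∑ i ∈ Finset.range n, Q.coeff i * (φ s) ^ (n - i) * (φ a) ^ i) + (φ a) ^ n := by
    rw [hν, eval_eq_sum_range, natDegree_scaleRoots, ← hn, Finset.sum_range_succ]
    congr 1
    · refine Finset.sum_congr rfl fun i _ => ?_
      rw [coeff_scaleRoots, ← hn]
    · rw [coeff_scaleRoots, ← hn, Nat.sub_self, pow_zero, mul_one, hn, hQ.coeff_natDegree, one_mul]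
  obtain ⟨u', hu'⟩ : ∃ u', u' = ∑ i ∈ Finset.range n, Q.coeff i * (φ s) ^ (n - i) * (φ a) ^ i :=
    ⟨_, rfl⟩
  have hu'mem : u' ∈ I₁.map φ := by
    rw [hu']
    refine Ideal.sum_mem _ fun i hi => ?_
    have hi' : i < n := Finset.mem_range.mp hi
    rw [mul_assoc]
    refine Ideal.mul_mem_left _ _ ?_
    rw [← map_pow, ← map_pow, ← map_mul]
    refine Ideal.mem_map_of_mem _ ?_
    have e1 : n - i = 1 + (n - i - 1) := by omega
    rw [e1, pow_add, pow_one, mul_assoc]
    refine Ideal.mul_mem_mul (Ideal.mem_span_singleton_self s) ?_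
    have e2 : n - 1 = (n - i - 1) + i := by omega
    rw [e2, pow_add]
    exact Ideal.mul_mem_mul (Ideal.pow_mem_pow hsJ _) (Ideal.pow_mem_pow haJ _)
  rw [← hu'] at hdecomp
  have hX : (φ a) ^ n ∈ (J ^ n).map φ := by
    rw [← map_pow]
    exact Ideal.mem_map_of_mem _ (Ideal.pow_mem_pow haJ n)
  have hνmem : ν ∈ (J ^ n).map φ := by
    rw [hdecomp]
    exact Ideal.add_mem _ (Ideal.map_mono hI₁J hu'mem) hX
  obtain ⟨N, hN⟩ := hν ▸ hnil
  have hN' : ν ^ (N + 1) = 0 := by rw [pow_succ, hN, zero_mul]
  have hgeom := (Commute.all u' ((φ a) ^ n)).geom_sum₂_mul_add (N + 1)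
  rw [← hdecomp, hN'] at hgeom
  have hXN : ((φ a) ^ n) ^ (N + 1) =
      -((∑ i ∈ Finset.range (N + 1), ν ^ i * ((φ a) ^ n) ^ (N + 1 - 1 - i)) * u') := by
    linear_combination hgeom
  have hsum : (∑ i ∈ Finset.range (N + 1), ν ^ i * ((φ a) ^ n) ^ (N + 1 - 1 - i)) ∈
      ((J ^ n).map φ) ^ N := by
    refine Ideal.sum_mem _ fun i hi => ?_
    have hi' : i < N + 1 := Finset.mem_range.mp hi
    have e : ((J ^ n).map φ) ^ N = ((J ^ n).map φ) ^ i * ((J ^ n).map φ) ^ (N + 1 - 1 - i) := by
      rw [← pow_add]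
      congr 1
      omega
    rw [e]
    exact Ideal.mul_mem_mul (Ideal.pow_mem_pow hνmem _) (Ideal.pow_mem_pow hX _)
  refine ⟨n * (N + 1), Nat.mul_pos hn1 (Nat.succ_pos N), ?_⟩
  rw [pow_mul, map_pow, map_pow, hXN]
  refine Ideal.neg_mem_iff _ |>.mpr ?_
  have hmem := Ideal.mul_mem_mul hsum hu'mem
  rw [← Ideal.map_pow, ← Ideal.map_mul] at hmem
  have hideal : (J ^ n) ^ N * I₁ = Ideal.span {s} * J ^ (n * (N + 1) - 1) := by
    rw [hI₁, ← pow_mul, mul_left_comm, ← pow_add]
    congr 2
    have : n * (N + 1) = n * N + n := Nat.mul_succ n N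
    omega
  rwa [hideal] at hmem

end Step5

/-- Let A be a domain with fraction field K, B a faithfully flat A-algebra, C = B_red and R the total
ring of fractions of C. Then A → C is injective with nonzero elements going to non-zero-divisors, so
that K embeds in R, and an element of K is integral over C in R if and only if it is integral over
A. -/
theorem result {A B : Type u} [CommRing A] [IsDomain A]
    [CommRing B] [Algebra A B] [Module.FaithfullyFlat A B] :
    Function.Injective (algebraMap A (B ⧸ nilradical B)) ∧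
    (∀ a : A, a ≠ 0 → algebraMap A (B ⧸ nilradical B) a ∈ nonZeroDivisors (B ⧸ nilradical B)) ∧
    ∀ (R : Type u) [CommRing R] [Algebra (B ⧸ nilradical B) R] [IsFractionRing (B ⧸ nilradical B) R]
      [Algebra A R] [IsScalarTower A (B ⧸ nilradical B) R] [Algebra (FractionRing A) R]
      [IsScalarTower A (FractionRing A) R] (x : FractionRing A),
      IsIntegral (B ⧸ nilradical B) (algebraMap (FractionRing A) R x) ↔ IsIntegral A x := by
  have hinjAB : Function.Injective (algebraMap A B) := FaithfulSMul.algebraMap_injective A B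
  haveI : Nontrivial B := hinjAB.nontrivial
  have hmk : ∀ a : A, algebraMap A (B ⧸ nilradical B) a =
      Ideal.Quotient.mk (nilradical B) (algebraMap A B a) := fun a => rfl
  have part1 : Function.Injective (algebraMap A (B ⧸ nilradical B)) := by
    rw [injective_iff_map_eq_zero]
    intro a ha
    rw [hmk, Ideal.Quotient.eq_zero_iff_mem, mem_nilradical] at ha
    obtain ⟨n, hn⟩ := ha
    rw [← map_pow] at hn
    have : a ^ n = 0 := hinjAB (hn.trans (map_zero _).symm)
    exact IsNilpotent.eq_zero ⟨n, this⟩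
  refine ⟨part1, ?_, ?_⟩
  · intro a ha
    rw [mem_nonZeroDivisors_iff_right]
    intro c hc
    obtain ⟨b, rfl⟩ := Ideal.Quotient.mk_surjective c
    rw [hmk, ← map_mul, Ideal.Quotient.eq_zero_iff_mem, mem_nilradical] at hc
    obtain ⟨n, hn⟩ := hc
    rw [mul_pow, ← map_pow, mul_comm, ← Algebra.smul_def] at hn
    have hreg : IsSMulRegular B (a ^ n) :=
      Module.Flat.isSMulRegular_of_nonZeroDivisors
        (mem_nonZeroDivisors_of_ne_zero (pow_ne_zero n ha))
    have hb : b ^ n = 0 := hreg (by show a ^ n • b ^ n = a ^ n • 0; rw [hn, smul_zero])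
    rw [Ideal.Quotient.eq_zero_iff_mem, mem_nilradical]
    exact ⟨n, hb⟩
  · intro R _ _ _ _ _ _ _ x
    constructor
    · intro hint
      obtain ⟨a, s, hs, rfl⟩ := IsFractionRing.div_surjective (A := A) x
      have hs0 : s ≠ 0 := nonZeroDivisors.ne_zero hs
      haveI : Nontrivial (B ⧸ nilradical B) := part1.nontrivial
      obtain ⟨P, hPm, hPe⟩ := hint
      have hlift : P ∈ Polynomial.lifts (Ideal.Quotient.mk (nilradical B)) := by
        obtain ⟨Q₀, hQ₀⟩ := Polynomial.map_surjective _ Ideal.Quotient.mk_surjective P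
        exact (Polynomial.mem_lifts _).mpr ⟨Q₀, hQ₀⟩
      obtain ⟨Q, hQP, -, hQm⟩ := Polynomial.lifts_and_natDegree_eq_and_monic hlift hPm
      -- the relation s_R * φ x = a_R
      have hrel : algebraMap (B ⧸ nilradical B) R (algebraMap A (B ⧸ nilradical B) s) *
          algebraMap (FractionRing A) R
            (algebraMap A (FractionRing A) a / algebraMap A (FractionRing A) s) =
          algebraMap (B ⧸ nilradical B) R (algebraMap A (B ⧸ nilradical B) a) := by
        rw [← IsScalarTower.algebraMap_apply A (B ⧸ nilradical B) R,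
          ← IsScalarTower.algebraMap_apply A (B ⧸ nilradical B) R,
          IsScalarTower.algebraMap_apply A (FractionRing A) R,
          IsScalarTower.algebraMap_apply A (FractionRing A) R, ← map_mul]
        congr 1
        have : algebraMap A (FractionRing A) s ≠ 0 := fun h =>
          hs0 ((IsFractionRing.injective A (FractionRing A)) (h.trans (map_zero _).symm))
        field_simp
      have h0 := Polynomial.scaleRoots_eval₂_mul (p := P) (algebraMap (B ⧸ nilradical B) R)
        (algebraMap (FractionRing A) R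
          (algebraMap A (FractionRing A) a / algebraMap A (FractionRing A) s))
        (algebraMap A (B ⧸ nilradical B) s)
      rw [hPe, mul_zero, hrel, Polynomial.eval₂_at_apply] at h0
      have h1 : Polynomial.eval (algebraMap A (B ⧸ nilradical B) a)
          (P.scaleRoots (algebraMap A (B ⧸ nilradical B) s)) = 0 :=
        (IsFractionRing.injective (B ⧸ nilradical B) R) (h0.trans (map_zero _).symm)
      have h2 : P.scaleRoots (algebraMap A (B ⧸ nilradical B) s) =
          (Q.scaleRoots (algebraMap A B s)).map (Ideal.Quotient.mk (nilradical B)) := by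
        rw [Polynomial.map_scaleRoots, hQP]
        · rfl
        · rw [hQm.leadingCoeff, map_one]
          exact one_ne_zero
      rw [h2, hmk, Polynomial.eval_map_apply, Ideal.Quotient.eq_zero_iff_mem, mem_nilradical] at h1
      obtain ⟨m, hm1, hm⟩ := exists_pow_mem_map a s Q hQm h1
      have hm' : a ^ m ∈ Ideal.span {s} * (Ideal.span {a, s}) ^ (m - 1) := by
        rw [← Ideal.comap_map_eq_self_of_faithfullyFlat (B := B)
          (Ideal.span {s} * (Ideal.span {a, s}) ^ (m - 1))]
        exact hm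
      exact isIntegral_of_pow_mem a s hs0 m hm1 hm'
    · intro hx
      exact (hx.map (IsScalarTower.toAlgHom A (FractionRing A) R)).tower_top

end Groth.Agent.S4590
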