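import Groth.Statements.S4591
import Groth.Agent.Lib.Helper26.ProConsSch

set_option autoImplicit false
universe u
open AlgebraicGeometry
open EGA41

namespace Groth.Agent.S4591

open Groth.Agent.Lib.Helper26.ProConsTop TopologicalSpace

/-- Let X be a quasi-compact scheme, F a pro-constructible subset and (E_i) a family of
ind-constructible subsets covering F. Then some finite subfamily covers F. -/
theorem result (X : Scheme.{u}) [CompactSpace X]
    (F : Set X) (hF : ProCons.IsProConstructible F) {ι : Type u} (E : ι → Set X)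
    (hE : ∀ i, ProCons.IsIndConstructible (E i)) (h : F ⊆ ⋃ i, E i) :
    ∃ J : Finset ι, F ⊆ ⋃ i ∈ J, E i := by
  classical
  obtain ⟨s, hs, hsX⟩ := isCompact_iff_finite_and_eq_biUnion_affineOpens.mp
    (show IsCompact ((⊤ : X.Opens) : Set X) from isCompact_univ)
  have key : ∀ W : X.affineOpens, ∃ J : Finset ι, ∀ x ∈ (W.1 : Set X), x ∈ F → x ∈ ⋃ i ∈ J, E i := by
    intro W
    haveI : IsAffine (W.1 : Scheme.{u}) := W.2
    have hcl := isProConstructible_iff.mp hF W.1 W.2
    have hop := fun i => isIndConstructible_iff.mp (hE i) W.1 W.2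
    have hcomp : @IsCompact _ (constructibleTopology (W.1 : Scheme.{u})) (W.1.ι.base ⁻¹' F) :=
      Groth.Agent.Lib.Helper11.SpecSp.isCompact_cons_of_isClosed_cons hcl
    obtain ⟨J, hJ⟩ := @IsCompact.elim_finite_subcover _ (constructibleTopology (W.1 : Scheme.{u}))
      _ _ hcomp (fun i => W.1.ι.base ⁻¹' E i) hop (by
        intro w hw
        obtain ⟨i, hi⟩ := Set.mem_iUnion.mp (h hw)
        exact Set.mem_iUnion.mpr ⟨i, hi⟩)
    refine ⟨J, fun x hxW hxF => ?_⟩
    have := hJ (show (⟨x, hxW⟩ : (W.1 : Scheme.{u})) ∈ W.1.ι.base ⁻¹' F from hxF)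
    simp only [Set.mem_iUnion, Set.mem_preimage] at this ⊢
    exact this
  choose J hJ using key
  refine ⟨hs.toFinset.biUnion J, ?_⟩
  intro x hxF
  have hx : x ∈ (⊤ : X.Opens) := trivial
  rw [hsX] at hx
  simp only [Opens.mem_iSup] at hx
  obtain ⟨W, hWs, hxW⟩ := hx
  have := hJ W x hxW hxF
  simp only [Set.mem_iUnion, Finset.mem_biUnion, Set.Finite.mem_toFinset] at this ⊢
  obtain ⟨i, hi, hxi⟩ := this
  exact ⟨i, ⟨W, hWs, hi⟩, hxi⟩

end Groth.Agent.S4591
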