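import Groth.Statements.S4592
import Mathlib

set_option autoImplicit false
universe u
open CategoryTheory CategoryTheory.Limits
open EGA41

namespace Groth.Agent.S4592

/-- A filtered colimit of commutative rings is the zero ring if and only if some ring of the system is
zero (the clause that all later rings of the system are then zero is not restated). -/
theorem result {I : Type u} [SmallCategory I] [IsFiltered I]
    (D : I ⥤ CommRingCat.{u}) (c : Cocone D) (hc : IsColimit c) :
    Subsingleton c.pt ↔ ∃ i : I, Subsingleton (D.obj i) := by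
  constructor
  · intro hsub
    obtain ⟨i0⟩ := IsFiltered.nonempty (C := I)
    have h : (c.ι.app i0) (1 : D.obj i0) = (c.ι.app i0) (0 : D.obj i0) :=
      @Subsingleton.elim c.pt hsub _ _
    obtain ⟨k, f, g, hfg⟩ := Concrete.isColimit_exists_of_rep_eq D hc
      (1 : D.obj i0) (0 : D.obj i0) h
    refine ⟨k, ?_⟩
    have h10 : (1 : D.obj k) = 0 := by
      have h1 : (D.map f) (1 : D.obj i0) = 1 := map_one (D.map f).hom
      have h2 : (D.map g) (0 : D.obj i0) = 0 := map_zero (D.map g).hom
      rw [← h1, ← h2]
      exact hfg
    exact subsingleton_of_zero_eq_one h10.symm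
  · rintro ⟨i, hi⟩
    have h10 : (1 : c.pt) = 0 := by
      have h1 : (c.ι.app i) (1 : D.obj i) = 1 := map_one (c.ι.app i).hom
      have h2 : (c.ι.app i) (0 : D.obj i) = 0 := map_zero (c.ι.app i).hom
      rw [← h1, ← h2, Subsingleton.elim (1 : D.obj i) 0]
    exact subsingleton_of_zero_eq_one h10.symm

end Groth.Agent.S4592
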