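import Groth.Statements.S4593
import Mathlib

set_option autoImplicit false
universe u
open CategoryTheory CategoryTheory.Limits AlgebraicGeometry
open EGA41

namespace Groth.Agent.S4593

section helpers
variable {I : Type u} [SmallCategory I] [IsFiltered I]
    (B : CommRingCat.{u}) (D : I ⥤ CommRingCat.{u}) (s : (Functor.const I).obj B ⟶ D) (c : Cocone D)
    (hc : IsColimit c)

include hc in
lemma comp_eq (i j : I) : s.app i ≫ c.ι.app i = s.app j ≫ c.ι.app j := by
  obtain ⟨k, f, g, -⟩ := IsFilteredOrEmpty.cocone_objs i j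
  have h1 : s.app i ≫ D.map f = s.app k := by
    have := s.naturality f
    simp only [Functor.const_obj_obj, Functor.const_obj_map, Category.id_comp] at this
    exact this.symm
  have h2 : s.app j ≫ D.map g = s.app k := by
    have := s.naturality g
    simp only [Functor.const_obj_obj, Functor.const_obj_map, Category.id_comp] at this
    exact this.symm
  rw [← c.w f, ← c.w g, ← Category.assoc, ← Category.assoc, h1, h2]

lemma map_le (i k : I) (f : i ⟶ k) (p : Ideal B) :
    (p.map (s.app i).hom).map (D.map f).hom ≤ p.map (s.app k).hom := by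
  rw [Ideal.map_map]
  have h1 : s.app i ≫ D.map f = s.app k := by
    have := s.naturality f
    simp only [Functor.const_obj_obj, Functor.const_obj_map, Category.id_comp] at this
    exact this.symm
  rw [← CommRingCat.hom_comp, h1]

include hc in
lemma key (i₀ : I) (p : Ideal B) (y : c.pt) (hy : y ∈ p.map (s.app i₀ ≫ c.ι.app i₀).hom) :
    ∃ (i : I) (z : D.obj i), (c.ι.app i).hom z = y ∧ z ∈ p.map (s.app i).hom := by
  rw [Ideal.map] at hy
  induction hy using Submodule.span_induction with
  | mem y hy =>
    obtain ⟨q, hq, rfl⟩ := hy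
    exact ⟨i₀, (s.app i₀).hom q, rfl, Ideal.mem_map_of_mem _ hq⟩
  | zero => exact ⟨i₀, 0, map_zero _, zero_mem _⟩
  | add y1 y2 _ _ h1 h2 =>
    obtain ⟨i, z1, rfl, hz1⟩ := h1
    obtain ⟨j, z2, rfl, hz2⟩ := h2
    obtain ⟨k, f, g, -⟩ := IsFilteredOrEmpty.cocone_objs i j
    refine ⟨k, (D.map f).hom z1 + (D.map g).hom z2, ?_, ?_⟩
    · rw [map_add]
      congr 1
      · exact congr($(c.w f).hom z1)
      · exact congr($(c.w g).hom z2)
    · exact add_mem (map_le B D s i k f p (Ideal.mem_map_of_mem _ hz1))
        (map_le B D s j k g p (Ideal.mem_map_of_mem _ hz2))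
  | smul a y _ h =>
    obtain ⟨i, z, rfl, hz⟩ := h
    obtain ⟨j, a', rfl⟩ := Concrete.isColimit_exists_rep D hc a
    obtain ⟨k, f, g, -⟩ := IsFilteredOrEmpty.cocone_objs i j
    refine ⟨k, (D.map g).hom a' * (D.map f).hom z, ?_, ?_⟩
    · rw [map_mul, smul_eq_mul]
      congr 1
      · exact congr($(c.w g).hom a')
      · exact congr($(c.w f).hom z)
    · exact Ideal.mul_mem_left _ _ (map_le B D s i k f p (Ideal.mem_map_of_mem _ hz))


end helpers

/-- Let B be a ring, (A_i) a filtered system of B-algebras with colimit A. The image of Spec A in Spec B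
is the intersection of the images of the Spec A_i. -/
theorem result {I : Type u} [SmallCategory I] [IsFiltered I]
    (B : CommRingCat.{u}) (D : I ⥤ CommRingCat.{u}) (s : (Functor.const I).obj B ⟶ D) (c : Cocone D)
    (hc : IsColimit c) (i₀ : I) :
    Set.range (Spec.map (s.app i₀ ≫ c.ι.app i₀)).base = ⋂ i : I, Set.range (Spec.map (s.app i)).base := by
  apply subset_antisymm
  · rintro _ ⟨q, rfl⟩
    refine Set.mem_iInter.mpr fun i => ?_
    refine ⟨Spec.map (c.ι.app i) q, ?_⟩
    rw [← Scheme.Hom.comp_apply, ← Spec.map_comp, Groth.Agent.S4593.comp_eq B D s c hc i i₀]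
  · intro P hP
    rw [Set.mem_iInter] at hP
    have hP' : ∀ i, (P.asIdeal.map (s.app i).hom).comap (s.app i).hom = P.asIdeal := by
      intro i
      obtain ⟨q, hq⟩ := hP i
      have : P ∈ Set.range (PrimeSpectrum.comap (s.app i).hom) := ⟨q, hq⟩
      exact (PrimeSpectrum.mem_range_comap_iff _).mp this
    have hmain : (P.asIdeal.map (s.app i₀ ≫ c.ι.app i₀).hom).comap (s.app i₀ ≫ c.ι.app i₀).hom
        = P.asIdeal := by
      apply le_antisymm _ Ideal.le_comap_map
      intro x hx
      rw [Ideal.mem_comap] at hx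
      obtain ⟨i, z, hz, hzm⟩ := Groth.Agent.S4593.key B D s c hc i₀ P.asIdeal _ hx
      have h1 : (c.ι.app i).hom z = (c.ι.app i).hom ((s.app i).hom x) := by
        rw [hz]
        exact congr($(Groth.Agent.S4593.comp_eq B D s c hc i₀ i).hom x)
      obtain ⟨k, f, g, hfg⟩ := Concrete.isColimit_exists_of_rep_eq D hc z ((s.app i).hom x) h1
      have h2 : (D.map g).hom ((s.app i).hom x) = (s.app k).hom x := by
        have := s.naturality g
        simp only [Functor.const_obj_obj, Functor.const_obj_map, Category.id_comp] at this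
        exact congr($(this).hom x).symm
      have h3 : (s.app k).hom x ∈ P.asIdeal.map (s.app k).hom := by
        rw [← h2]
        have : (D.map f).hom z = (D.map g).hom ((s.app i).hom x) := hfg
        rw [← this]
        exact Groth.Agent.S4593.map_le B D s i k f _ (Ideal.mem_map_of_mem _ hzm)
      rw [← hP' k]
      exact h3
    obtain ⟨q, hq⟩ := (PrimeSpectrum.mem_range_comap_iff _).mpr hmain
    exact ⟨q, hq⟩


end Groth.Agent.S4593
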