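import Groth.Statements.S4597
import Mathlib

set_option autoImplicit false
universe u
open AlgebraicGeometry CategoryTheory CategoryTheory.Limits
open EGA41

namespace Groth.Agent.S4597

/-- Let f : X → Y, g : Y' → Y and f' : X ×_Y Y' → Y' the base change. If g is quasi-compact surjective
and f' quasi-compact, f is quasi-compact; if g is surjective and f' dominant, f is dominant. -/
theorem result {X Y Y' : Scheme.{u}} (f : X ⟶ Y)
    (g : Y' ⟶ Y) [Surjective g] :
    (QuasiCompact g → QuasiCompact (pullback.snd f g) → QuasiCompact f) ∧
    (IsDominant (pullback.snd f g) → IsDominant f) := by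
  have hfst : Function.Surjective (pullback.fst f g) := (pullback.fst f g).surjective
  constructor
  · intro hg hf'
    constructor
    intro U hU hc
    have h1 : IsCompact (g ⁻¹' U) := QuasiCompact.isCompact_preimage (f := g) U hU hc
    have h1o : IsOpen (g ⁻¹' U) := hU.preimage g.continuous
    have h2 : IsCompact ((pullback.snd f g) ⁻¹' (g ⁻¹' U)) :=
      QuasiCompact.isCompact_preimage (f := pullback.snd f g) _ h1o h1
    have h3 : f ⁻¹' U = (pullback.fst f g) '' ((pullback.snd f g) ⁻¹' (g ⁻¹' U)) := by
      ext x
      constructor
      · intro hx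
        obtain ⟨z, rfl⟩ := hfst x
        refine ⟨z, ?_, rfl⟩
        show g (pullback.snd f g z) ∈ U
        have hcond : g (pullback.snd f g z) = f (pullback.fst f g z) := by
          rw [← Scheme.Hom.comp_apply, ← Scheme.Hom.comp_apply, pullback.condition]
        rw [hcond]; exact hx
      · rintro ⟨z, hz, rfl⟩
        show f (pullback.fst f g z) ∈ U
        have hcond : g (pullback.snd f g z) = f (pullback.fst f g z) := by
          rw [← Scheme.Hom.comp_apply, ← Scheme.Hom.comp_apply, pullback.condition]
        rw [← hcond]; exact hz
    rw [h3]
    exact h2.image (pullback.fst f g).continuous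
  · intro hd
    constructor
    have hdr : DenseRange (pullback.snd f g) := hd.denseRange
    have hsub : g '' (Set.range (pullback.snd f g)) ⊆ Set.range f := by
      rintro _ ⟨_, ⟨z, rfl⟩, rfl⟩
      refine ⟨pullback.fst f g z, ?_⟩
      rw [← Scheme.Hom.comp_apply, ← Scheme.Hom.comp_apply, pullback.condition]
    rw [DenseRange, dense_iff_closure_eq, ← Set.univ_subset_iff]
    have hg : Set.univ ⊆ g '' Set.univ := by
      intro y _
      obtain ⟨y', rfl⟩ := g.surjective y
      exact ⟨y', trivial, rfl⟩
    calc Set.univ ⊆ g '' Set.univ := hg
      _ = g '' (closure (Set.range (pullback.snd f g))) := by rw [hdr.closure_range]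
      _ ⊆ closure (g '' (Set.range (pullback.snd f g))) :=
          image_closure_subset_closure_image g.continuous
      _ ⊆ closure (Set.range f) := closure_mono hsub

end Groth.Agent.S4597
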