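import Groth.Statements.S4598
import Mathlib

set_option autoImplicit false
universe u
open AlgebraicGeometry CategoryTheory CategoryTheory.Limits
open EGA41

namespace Groth.Agent.S4598

/-- descent of quasi-compactness along a quasi-compact surjective base change -/
theorem quasiCompact_of_isPullback {A B A' B' : Scheme.{u}} {h' : A' ⟶ B'} {q : A' ⟶ A}
    {p : B' ⟶ B} {h : A ⟶ B} (sq : IsPullback h' q p h) [QuasiCompact h'] [QuasiCompact p]
    [Surjective p] : QuasiCompact h := by
  haveI : Surjective q := MorphismProperty.of_isPullback (P := @Surjective) sq inferInstance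
  rw [quasiCompact_iff_forall_isAffineOpen]
  intro U hU
  have h1 : IsCompact (p ⁻¹ᵁ U : Set B') := p.isCompact_preimage hU.isCompact
  have h2 : IsCompact (h' ⁻¹ᵁ (p ⁻¹ᵁ U) : Set A') := h'.isCompact_preimage h1
  have h3 : (h ⁻¹ᵁ U : Set A) = q '' (h' ⁻¹ᵁ (p ⁻¹ᵁ U) : Set A') := by
    ext a
    constructor
    · intro ha
      obtain ⟨a', rfl⟩ := q.surjective a
      refine ⟨a', ?_, rfl⟩
      change p (h' a') ∈ U
      rw [← Scheme.Hom.comp_apply, sq.w, Scheme.Hom.comp_apply]
      exact ha
    · rintro ⟨a', ha', rfl⟩
      change h (q a') ∈ U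
      rw [← Scheme.Hom.comp_apply, ← sq.w, Scheme.Hom.comp_apply]
      exact ha'
  rw [h3]
  exact h2.image q.continuous

/-- If g : Y' → Y is quasi-compact and surjective and the base change X ×_Y Y' → Y' of f : X → Y is
quasi-separated, then f is quasi-separated. -/
theorem result {X Y Y' : Scheme.{u}} (f : X ⟶ Y)
    (g : Y' ⟶ Y) [QuasiCompact g] [Surjective g] [QuasiSeparated (pullback.snd f g)] :
    QuasiSeparated f := by
  have hs : QuasiSeparated (pullback.fst g f) := by
    have : pullback.fst g f = (pullbackSymmetry g f).hom ≫ pullback.snd f g := by simp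
    rw [this]
    infer_instance
  have hd : QuasiCompact (pullback.diagonal (pullback.fst g f)) := hs.1
  rw [diagonal_pullback_fst, MorphismProperty.cancel_left_of_respectsIso @QuasiCompact,
    MorphismProperty.cancel_right_of_respectsIso @QuasiCompact] at hd
  have sq : IsPullback (pullback.fst f g)
      ((Over.pullback g).map
        (Over.homMk (pullback.diagonal f) : Over.mk f ⟶ Over.mk (pullback.snd _ _ ≫ f))).left
      (pullback.diagonal f) (pullback.fst (pullback.snd f f ≫ f) g) := by
    refine IsPullback.of_bot ?_ (pullback.lift_fst _ _ _).symm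
      (IsPullback.of_hasPullback (pullback.snd f f ≫ f) g)
    have h1 : ((Over.pullback g).map
        (Over.homMk (pullback.diagonal f) : Over.mk f ⟶ Over.mk (pullback.snd _ _ ≫ f))).left ≫
        pullback.snd (pullback.snd f f ≫ f) g = pullback.snd f g := pullback.lift_snd _ _ _
    have h2 : pullback.diagonal f ≫ pullback.snd f f ≫ f = f := by simp
    rw [h1, h2]
    exact IsPullback.of_hasPullback f g
  haveI : QuasiCompact (pullback.fst (pullback.snd f f ≫ f) g) :=
    MorphismProperty.pullback_fst (P := @QuasiCompact) _ _ inferInstance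
  haveI : Surjective (pullback.fst (pullback.snd f f ≫ f) g) :=
    MorphismProperty.pullback_fst (P := @Surjective) _ _ inferInstance
  haveI := quasiCompact_of_isPullback sq.flip
  exact ⟨inferInstance⟩

end Groth.Agent.S4598
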