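import Groth.Statements.S4599
import Mathlib

set_option autoImplicit false
universe u
open AlgebraicGeometry CategoryTheory CategoryTheory.Limits
open EGA41

namespace Groth.Agent.S4599

open AlgebraicGeometry CategoryTheory Limits in
theorem lfp_of_comp {X Y Z : Scheme.{u}} {f : X ⟶ Y} {g : Y ⟶ Z} (hg : LocallyOfFiniteType g)
    (h : LocallyOfFinitePresentation (f ≫ g)) : LocallyOfFinitePresentation f := by
  wlog hZ : IsAffine Z generalizing X Y Z
  · rw [IsZariskiLocalAtTarget.iff_of_iSup_eq_top (P := @LocallyOfFinitePresentation) _
      (g.iSup_preimage_eq_top (iSup_affineOpens_eq_top Z))]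
    intro U
    have H := IsZariskiLocalAtTarget.restrict h U.1
    rw [morphismRestrict_comp] at H
    have hg' : LocallyOfFiniteType (g ∣_ U.1) := by clear this; infer_instance
    have hZ' : IsAffine (U.1 : Scheme) := U.2
    exact this hg' H hZ'
  wlog hY : IsAffine Y generalizing X Y
  · rw [IsZariskiLocalAtTarget.iff_of_iSup_eq_top (P := @LocallyOfFinitePresentation) _
      (iSup_affineOpens_eq_top Y)]
    intro U
    have H := HasRingHomProperty.comp_of_isOpenImmersion @LocallyOfFinitePresentation
      (f ⁻¹ᵁ U.1).ι (f ≫ g) h
    rw [← morphismRestrict_ι_assoc] at H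
    have hg' : LocallyOfFiniteType (U.1.ι ≫ g) := by clear this; infer_instance
    have hY' : IsAffine (U.1 : Scheme) := U.2
    exact this hg' H hY'
  wlog hX : IsAffine X generalizing X
  · rw [IsZariskiLocalAtSource.iff_of_iSup_eq_top (P := @LocallyOfFinitePresentation) _
      (iSup_affineOpens_eq_top X)]
    intro U
    have H := HasRingHomProperty.comp_of_isOpenImmersion @LocallyOfFinitePresentation
      U.1.ι (f ≫ g) h
    rw [← Category.assoc] at H
    have hX' : IsAffine (U.1 : Scheme) := U.2
    exact this H hX'
  rw [HasRingHomProperty.iff_of_isAffine (P := @LocallyOfFinitePresentation)] at h ⊢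
  have hgft : g.appTop.hom.FiniteType :=
    HasRingHomProperty.appTop (P := @LocallyOfFiniteType) g hg
  rw [Scheme.Hom.comp_appTop] at h
  exact RingHom.FinitePresentation.of_comp_finiteType _ h hgft


/-- The diagonal of a morphism locally of finite type is locally of finite presentation. -/
theorem result {Y Z : Scheme.{u}} (g : Y ⟶ Z)
    [LocallyOfFiniteType g] : LocallyOfFinitePresentation (pullback.diagonal g) := by
  have h1 : LocallyOfFinitePresentation (pullback.diagonal g ≫ pullback.fst g g) := by
    rw [pullback.diagonal_fst]; infer_instance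
  exact lfp_of_comp (g := pullback.fst g g) inferInstance h1

end Groth.Agent.S4599
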