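import Groth.Statements.S4601
-- import your own Groth.Agent.* helpers here
import Mathlib

set_option autoImplicit false
universe u
open TensorProduct
open CAlg

namespace Groth.Agent.S4601

/-- Let A be a domain with fraction field K, B a Noetherian A-algebra which is flat over A, K' an
extension field of K, B₁ = B_red and R its total ring of fractions. For every sub-A-algebra A' of
K', the map (A' ⊗_A B)_red → (K' ⊗_A R)_red is injective, i.e. an element of A' ⊗_A B with nilpotent
image in K' ⊗_A R is nilpotent. -/
theorem result {A B K' R : Type u} [CommRing A]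
    [IsDomain A] [CommRing B] [Algebra A B] [IsNoetherianRing B] [Module.Flat A B]
    [Field K'] [Algebra A K'] [Algebra (FractionRing A) K'] [IsScalarTower A (FractionRing A) K']
    [CommRing R] [Algebra (B ⧸ nilradical B) R] [IsFractionRing (B ⧸ nilradical B) R]
    [Algebra B R] [IsScalarTower B (B ⧸ nilradical B) R] [Algebra A R] [IsScalarTower A B R]
    (A' : Subalgebra A K') (x : ↥A' ⊗[A] B)
    (hx : IsNilpotent (Algebra.TensorProduct.map A'.val (IsScalarTower.toAlgHom A B R) x)) :
    IsNilpotent x := by
  classical
  set_option linter.style.haveILetI false in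
  haveI : Module.Flat A K' := Module.Flat.trans A (FractionRing A) K'
  -- the three maps
  let f₁ : ↥A' ⊗[A] B →ₐ[A] K' ⊗[A] B := Algebra.TensorProduct.map A'.val (AlgHom.id A B)
  let q : B →ₐ[A] (B ⧸ nilradical B) := Ideal.Quotient.mkₐ A (nilradical B)
  let f₂ : K' ⊗[A] B →ₐ[K'] K' ⊗[A] (B ⧸ nilradical B) :=
    Algebra.TensorProduct.map (AlgHom.id K' K') q
  let j : (B ⧸ nilradical B) →ₐ[A] R :=
    { (algebraMap (B ⧸ nilradical B) R) with
      commutes' := fun a => by
        show algebraMap (B ⧸ nilradical B) R (algebraMap A (B ⧸ nilradical B) a) = algebraMap A R a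
        rw [IsScalarTower.algebraMap_apply A B (B ⧸ nilradical B),
          ← IsScalarTower.algebraMap_apply B (B ⧸ nilradical B) R,
          ← IsScalarTower.algebraMap_apply A B R] }
  let f₃ : K' ⊗[A] (B ⧸ nilradical B) →ₐ[K'] K' ⊗[A] R :=
    Algebra.TensorProduct.map (AlgHom.id K' K') j
  have hj : Function.Injective j := IsFractionRing.injective (B ⧸ nilradical B) R
  have h₁ : Function.Injective f₁ := by
    have := Module.Flat.rTensor_preserves_injective_linearMap (M := B) A'.val.toLinearMap
      Subtype.val_injective
    exact this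
  have h₃ : Function.Injective f₃ := by
    have := Module.Flat.lTensor_preserves_injective_linearMap (M := K') j.toLinearMap hj
    exact this
  have hcomp : ∀ y, Algebra.TensorProduct.map A'.val (IsScalarTower.toAlgHom A B R) y
      = f₃ (f₂ (f₁ y)) := by
    intro y
    induction y using TensorProduct.induction_on with
    | zero => simp
    | tmul a b =>
      simp only [f₁, f₂, f₃, Algebra.TensorProduct.map_tmul, AlgHom.coe_id, id_eq]
      congr 1
      show algebraMap B R b = algebraMap (B ⧸ nilradical B) R (Ideal.Quotient.mk _ b)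
      rw [IsScalarTower.algebraMap_apply B (B ⧸ nilradical B) R]
      rfl
    | add y z hy hz => simp only [map_add, hy, hz]
  rw [hcomp] at hx
  obtain ⟨n, hn⟩ := hx
  rw [← map_pow, ← map_pow, ← map_pow] at hn
  have hn' : f₂ (f₁ (x ^ n)) = 0 := h₃ (by rw [hn, map_zero])
  -- kernel of f₂
  have hq : Function.Surjective q := Ideal.Quotient.mk_surjective
  have hker : RingHom.ker f₂ =
      (RingHom.ker q).map (Algebra.TensorProduct.includeRight : B →ₐ[A] K' ⊗[A] B) :=
    Algebra.TensorProduct.lTensor_ker q hq
  have hmem : f₁ (x ^ n) ∈ RingHom.ker f₂ := hn'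
  rw [hker] at hmem
  have hle : (RingHom.ker q).map (Algebra.TensorProduct.includeRight : B →ₐ[A] K' ⊗[A] B)
      ≤ nilradical (K' ⊗[A] B) := by
    rw [Ideal.map_le_iff_le_comap]
    intro b hb
    have hb' : b ∈ nilradical B := by
      have : q b = 0 := hb
      exact Ideal.Quotient.eq_zero_iff_mem.mp this
    exact (mem_nilradical.mp hb').map _
  obtain ⟨m, hm⟩ := mem_nilradical.mp (hle hmem)
  rw [← map_pow] at hm
  have : (x ^ n) ^ m = 0 := h₁ (by rw [hm, map_zero])
  exact ⟨n * m, by rw [pow_mul]; exact this⟩

end Groth.Agent.S4601
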