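import Groth.Statements.S4602
import Mathlib
import Groth.Agent.S2035
import Groth.Agent.Lib.Helper9.RegLocal
import Groth.Agent.Lib.Helper26.RegularRing
import Groth.Agent.Lib.Helper26.RegularCompletion
import Groth.Agent.Lib.Helper27.GenFibD

set_option autoImplicit false
universe u
open IsLocalRing
open EGA41

namespace Groth.Agent.S4602

/-- Let A be a regular local ring with fraction field of characteristic zero, B a domain containing A
and module-finite over it, with fraction field L, n a prime of B, C = B_n, q a prime of the
completion Ĉ with q ∩ C = 0. Then Ĉ_q is formally smooth over L for the adic topology of its maximal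
ideal. (Case (ii) of the published statement, in characteristic p with a suitable filtered family of
subrings, is not stated.) -/
theorem result
    {A B : Type u} [CommRing A] [IsRegularLocalRing A] [CharZero A] [CommRing B] [IsDomain B] [Algebra A B]
    [Module.Finite A B] (hinj : Function.Injective (algebraMap A B)) (n : Ideal B) [n.IsPrime]
    (q : Ideal (AdicCompletion (maximalIdeal (Localization.AtPrime n)) (Localization.AtPrime n))) [q.IsPrime]
    (hq : q.comap (algebraMap (Localization.AtPrime n)
      (AdicCompletion (maximalIdeal (Localization.AtPrime n)) (Localization.AtPrime n))) = ⊥)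
    [Algebra B (Localization.AtPrime q)]
    [IsScalarTower B (AdicCompletion (maximalIdeal (Localization.AtPrime n)) (Localization.AtPrime n))
      (Localization.AtPrime q)]
    [Algebra (FractionRing B) (Localization.AtPrime q)] [IsScalarTower B (FractionRing B) (Localization.AtPrime q)] :
    CAlgX.IsAdicFormallySmooth (FractionRing B) (Localization.AtPrime q) (maximalIdeal (Localization.AtPrime q)) := by
  classical
  haveI : IsDomain A := Groth.Agent.Lib.Helper9.RegLocal.isDomain_of_isRegularLocalRing A
  haveI : IsRegularRing A :=
    Groth.Agent.Lib.Helper26.RegularRing.isRegularRing_of_isRegularLocalRing A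
  haveI : IsRegularLocalRing (Groth.Agent.Lib.Helper27.GenFibB.A1 A B n) :=
    IsRegularRing.isRegularLocalRing_localization _
  haveI : IsRegularRing (Groth.Agent.Lib.Helper27.GenFibB.A1 A B n) :=
    Groth.Agent.Lib.Helper26.RegularRing.isRegularRing_of_isRegularLocalRing _
  haveI hAh : IsRegularRing (Groth.Agent.Lib.Helper27.GenFibB.Ah A B n) :=
    Groth.Agent.Lib.Helper26.RegularCompletion.isRegularRing_adicCompletion _ _
  have hreg : ∀ (r : Ideal (Groth.Agent.Lib.Helper27.GenFibB.Ah A B n)) [r.IsPrime],
      IsRegularLocalRing (Localization.AtPrime r) := fun r _ =>
    IsRegularRing.isRegularLocalRing_localization r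
  haveI : IsRegularLocalRing (Localization.AtPrime q) :=
    Groth.Agent.Lib.Helper27.GenFibD.isRegularLocalRing_localization A B n
      (Localization.AtPrime n)
      (Localization.AtPrime (Groth.Agent.Lib.Helper27.GenFibB.MM A B n)) hinj hreg
      (Groth.Agent.Lib.Helper27.GenFibB.algebraMap_TM_surjective A B n) q hq
  haveI : CharZero (FractionRing B) :=
    charZero_of_injective_algebraMap (R := A) (A := FractionRing B) (by
      rw [IsScalarTower.algebraMap_eq A B (FractionRing B)]
      exact (IsFractionRing.injective B (FractionRing B)).comp hinj)
  exact (Groth.Agent.S2035.result (k := FractionRing B) (A := Localization.AtPrime q)).mp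
    inferInstance

end Groth.Agent.S4602
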