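import Groth.Statements.S4603
import Mathlib
import Groth.Agent.Lib.Helper12.GenImage
-- import your own Groth.Agent.* helpers here

set_option autoImplicit false
universe u
open AlgebraicGeometry CategoryTheory
open EGA41

namespace Groth.Agent.S4603

open Groth.Agent.Lib.Helper12

/-- Let f : X → Y be quasi-compact. The following are equivalent: f is dominant; the fibre of f over
every maximal point of Y (a point with no proper generization, i.e. the generic point of an
irreducible component) is nonempty; every maximal point of Y is the image of a maximal point of X. -/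
theorem result {X Y : Scheme.{u}} (f : X ⟶ Y) [QuasiCompact f] :
    [IsDominant f,
     ∀ y : Y, (∀ y' : Y, y' ⤳ y → y' = y) → y ∈ Set.range f.base,
     ∀ y : Y, (∀ y' : Y, y' ⤳ y → y' = y) → ∃ x : X, (∀ x' : X, x' ⤳ x → x' = x) ∧ f.base x = y].TFAE := by
  tfae_have 1 → 3 := by
    intro hf y hy
    have hy' := mem_irreducibleComponents_of_forall_specializes hy
    obtain ⟨x, hx, hxy⟩ := GenImage.exists_generic_preimage f y hy'
    exact ⟨x, fun x' hx' => eq_of_specializes_of_mem_irreducibleComponents hx hx', hxy⟩
  tfae_have 3 → 2 := by
    intro h y hy
    obtain ⟨x, -, hx⟩ := h y hy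
    exact ⟨x, hx⟩
  tfae_have 2 → 1 := by
    intro h
    refine ⟨?_⟩
    have hsub : genericPoints Y ⊆ Set.range f := by
      intro y hy
      exact h y (fun y' hy' => eq_of_specializes_of_mem_irreducibleComponents hy hy')
    rw [DenseRange, Dense]
    intro y
    have h1 : closure (genericPoints Y) ⊆ closure (Set.range f) := closure_mono hsub
    rw [genericPoints.closure] at h1
    exact h1 (Set.mem_univ y)
  tfae_finish

end Groth.Agent.S4603
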