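import Groth.Statements.S4608
import Mathlib

set_option autoImplicit false
universe u
open AlgebraicGeometry CategoryTheory CategoryTheory.Limits
open EGA41

namespace Groth.Agent.S4608

/-- A morphism from a disjoint union X' ⨿ X'' → Y is quasi-compact if and only if its two components
are. -/
theorem result {X' X'' Y : Scheme.{u}} (f' : X' ⟶ Y) (f'' : X'' ⟶ Y) :
    QuasiCompact (coprod.desc f' f'') ↔ QuasiCompact f' ∧ QuasiCompact f'' := by
  have hcompl := isCompl_range_inl_inr X' X''
  have hinl_closed : IsClosed (Set.range (coprod.inl : X' ⟶ X' ⨿ X'')) := by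
    rw [← isOpen_compl_iff, hcompl.compl_eq]
    exact (coprod.inr : X'' ⟶ X' ⨿ X'').isOpenEmbedding.isOpen_range
  have hinr_closed : IsClosed (Set.range (coprod.inr : X'' ⟶ X' ⨿ X'')) := by
    rw [← isOpen_compl_iff, hcompl.symm.compl_eq]
    exact (coprod.inl : X' ⟶ X' ⨿ X'').isOpenEmbedding.isOpen_range
  have hinl_ce : Topology.IsClosedEmbedding (coprod.inl : X' ⟶ X' ⨿ X'') :=
    ⟨(coprod.inl : X' ⟶ X' ⨿ X'').isOpenEmbedding.isEmbedding, hinl_closed⟩
  have hinr_ce : Topology.IsClosedEmbedding (coprod.inr : X'' ⟶ X' ⨿ X'') :=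
    ⟨(coprod.inr : X'' ⟶ X' ⨿ X'').isOpenEmbedding.isEmbedding, hinr_closed⟩
  have hl : ∀ x, (coprod.desc f' f'') ((coprod.inl : X' ⟶ X' ⨿ X'') x) = f' x := by
    intro x
    rw [← Scheme.Hom.comp_apply, coprod.inl_desc]
  have hr : ∀ x, (coprod.desc f' f'') ((coprod.inr : X'' ⟶ X' ⨿ X'') x) = f'' x := by
    intro x
    rw [← Scheme.Hom.comp_apply, coprod.inr_desc]
  constructor
  · intro h
    refine ⟨⟨fun U hU hc => ?_⟩, ⟨fun U hU hc => ?_⟩⟩
    · have h1 := QuasiCompact.isCompact_preimage (f := coprod.desc f' f'') U hU hc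
      have h2 : f' ⁻¹' U =
          (coprod.inl : X' ⟶ X' ⨿ X'') ⁻¹' ((coprod.desc f' f'') ⁻¹' U) := by
        ext x
        simp only [Set.mem_preimage]
        rw [hl]
      rw [h2]
      exact hinl_ce.isCompact_preimage h1
    · have h1 := QuasiCompact.isCompact_preimage (f := coprod.desc f' f'') U hU hc
      have h2 : f'' ⁻¹' U =
          (coprod.inr : X'' ⟶ X' ⨿ X'') ⁻¹' ((coprod.desc f' f'') ⁻¹' U) := by
        ext x
        simp only [Set.mem_preimage]
        rw [hr]
      rw [h2]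
      exact hinr_ce.isCompact_preimage h1
  · rintro ⟨h1, h2⟩
    refine ⟨fun U hU hc => ?_⟩
    have e : (coprod.desc f' f'') ⁻¹' U =
        (coprod.inl : X' ⟶ X' ⨿ X'') '' (f' ⁻¹' U) ∪
          (coprod.inr : X'' ⟶ X' ⨿ X'') '' (f'' ⁻¹' U) := by
      ext w
      constructor
      · intro hw
        have hw' : w ∈ Set.range (coprod.inl : X' ⟶ X' ⨿ X'') ∪
            Set.range (coprod.inr : X'' ⟶ X' ⨿ X'') := by
          have hsup : Set.range (coprod.inl : X' ⟶ X' ⨿ X'') ∪
              Set.range (coprod.inr : X'' ⟶ X' ⨿ X'') = Set.univ := hcompl.sup_eq_top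
          rw [hsup]; trivial
        rcases hw' with ⟨x, rfl⟩ | ⟨x, rfl⟩
        · left
          refine ⟨x, ?_, rfl⟩
          have : (coprod.desc f' f'') ((coprod.inl : X' ⟶ X' ⨿ X'') x) ∈ U := hw
          rw [hl] at this
          exact this
        · right
          refine ⟨x, ?_, rfl⟩
          have : (coprod.desc f' f'') ((coprod.inr : X'' ⟶ X' ⨿ X'') x) ∈ U := hw
          rw [hr] at this
          exact this
      · rintro (⟨x, hx, rfl⟩ | ⟨x, hx, rfl⟩)
        · show (coprod.desc f' f'') ((coprod.inl : X' ⟶ X' ⨿ X'') x) ∈ U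
          rw [hl]; exact hx
        · show (coprod.desc f' f'') ((coprod.inr : X'' ⟶ X' ⨿ X'') x) ∈ U
          rw [hr]; exact hx
    rw [e]
    exact ((QuasiCompact.isCompact_preimage (f := f') U hU hc).image
        (coprod.inl : X' ⟶ X' ⨿ X'').continuous).union
      ((QuasiCompact.isCompact_preimage (f := f'') U hU hc).image
        (coprod.inr : X'' ⟶ X' ⨿ X'').continuous)

end Groth.Agent.S4608
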