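import Groth.Statements.S4609
import Mathlib

set_option autoImplicit false
universe u
open AlgebraicGeometry CategoryTheory CategoryTheory.Limits
open EGA41

namespace Groth.Agent.S4609

/-- A morphism from a disjoint union X' ⨿ X'' → Y is quasi-separated if and only if its two components
are. -/
theorem result {X' X'' Y : Scheme.{u}} (f' : X' ⟶ Y) (f'' : X'' ⟶ Y) :
    QuasiSeparated (coprod.desc f' f'') ↔ QuasiSeparated f' ∧ QuasiSeparated f'' := by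
  have hcompl := isCompl_range_inl_inr X' X''
  have hinl_closed : IsClosed (Set.range (coprod.inl : X' ⟶ X' ⨿ X'')) := by
    rw [← isOpen_compl_iff, hcompl.compl_eq]
    exact (coprod.inr : X'' ⟶ X' ⨿ X'').isOpenEmbedding.isOpen_range
  have hinr_closed : IsClosed (Set.range (coprod.inr : X'' ⟶ X' ⨿ X'')) := by
    rw [← isOpen_compl_iff, hcompl.symm.compl_eq]
    exact (coprod.inl : X' ⟶ X' ⨿ X'').isOpenEmbedding.isOpen_range
  have hinl_ce : Topology.IsClosedEmbedding (coprod.inl : X' ⟶ X' ⨿ X'') :=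
    ⟨(coprod.inl : X' ⟶ X' ⨿ X'').isOpenEmbedding.isEmbedding, hinl_closed⟩
  have hinr_ce : Topology.IsClosedEmbedding (coprod.inr : X'' ⟶ X' ⨿ X'') :=
    ⟨(coprod.inr : X'' ⟶ X' ⨿ X'').isOpenEmbedding.isEmbedding, hinr_closed⟩
  have hl : ∀ x, (coprod.desc f' f'') ((coprod.inl : X' ⟶ X' ⨿ X'') x) = f' x := by
    intro x
    rw [← Scheme.Hom.comp_apply, coprod.inl_desc]
  have hr : ∀ x, (coprod.desc f' f'') ((coprod.inr : X'' ⟶ X' ⨿ X'') x) = f'' x := by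
    intro x
    rw [← Scheme.Hom.comp_apply, coprod.inr_desc]
  constructor
  · intro h
    haveI := h
    constructor
    · rw [← coprod.inl_desc f' f'']; infer_instance
    · rw [← coprod.inr_desc f' f'']; infer_instance
  · rintro ⟨h1, h2⟩
    haveI := h1
    haveI := h2
    rw [HasAffineProperty.eq_targetAffineLocally (P := @QuasiSeparated)]
    intro U
    show QuasiSeparatedSpace ↥((coprod.desc f' f'') ⁻¹ᵁ U.1)
    refine (isQuasiSeparated_iff_quasiSeparatedSpace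
      ((coprod.desc f' f'') ⁻¹ᵁ U.1 : Set ↥(X' ⨿ X'')) ((coprod.desc f' f'') ⁻¹ᵁ U.1).2).mp ?_
    intro A B hA hAo hAc hB hBo hBc
    have hU1 : IsQuasiSeparated ((f' ⁻¹ᵁ U.1 : X'.Opens) : Set X') :=
      f'.isQuasiSeparated_preimage U.2.isQuasiSeparated
    have hU2 : IsQuasiSeparated ((f'' ⁻¹ᵁ U.1 : X''.Opens) : Set X'') :=
      f''.isQuasiSeparated_preimage U.2.isQuasiSeparated
    have hsub1 : ∀ C : Set ↥(X' ⨿ X''), C ⊆ ((coprod.desc f' f'') ⁻¹ᵁ U.1 : Set ↥(X' ⨿ X'')) →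
        (coprod.inl : X' ⟶ X' ⨿ X'') ⁻¹' C ⊆ ((f' ⁻¹ᵁ U.1 : X'.Opens) : Set X') := by
      intro C hC x hx
      have h3 : (coprod.desc f' f'') ((coprod.inl : X' ⟶ X' ⨿ X'') x) ∈ U.1 := hC hx
      rw [hl] at h3
      exact h3
    have hsub2 : ∀ C : Set ↥(X' ⨿ X''), C ⊆ ((coprod.desc f' f'') ⁻¹ᵁ U.1 : Set ↥(X' ⨿ X'')) →
        (coprod.inr : X'' ⟶ X' ⨿ X'') ⁻¹' C ⊆ ((f'' ⁻¹ᵁ U.1 : X''.Opens) : Set X'') := by
      intro C hC x hx
      have h3 : (coprod.desc f' f'') ((coprod.inr : X'' ⟶ X' ⨿ X'') x) ∈ U.1 := hC hx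
      rw [hr] at h3
      exact h3
    have key1 : IsCompact ((coprod.inl : X' ⟶ X' ⨿ X'') ⁻¹' A ∩
        (coprod.inl : X' ⟶ X' ⨿ X'') ⁻¹' B) :=
      hU1 _ _ (hsub1 A hA) (hAo.preimage (coprod.inl : X' ⟶ X' ⨿ X'').continuous)
        (hinl_ce.isCompact_preimage hAc) (hsub1 B hB)
        (hBo.preimage (coprod.inl : X' ⟶ X' ⨿ X'').continuous) (hinl_ce.isCompact_preimage hBc)
    have key2 : IsCompact ((coprod.inr : X'' ⟶ X' ⨿ X'') ⁻¹' A ∩
        (coprod.inr : X'' ⟶ X' ⨿ X'') ⁻¹' B) :=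
      hU2 _ _ (hsub2 A hA) (hAo.preimage (coprod.inr : X'' ⟶ X' ⨿ X'').continuous)
        (hinr_ce.isCompact_preimage hAc) (hsub2 B hB)
        (hBo.preimage (coprod.inr : X'' ⟶ X' ⨿ X'').continuous) (hinr_ce.isCompact_preimage hBc)
    have e : A ∩ B =
        (coprod.inl : X' ⟶ X' ⨿ X'') '' ((coprod.inl : X' ⟶ X' ⨿ X'') ⁻¹' A ∩
          (coprod.inl : X' ⟶ X' ⨿ X'') ⁻¹' B) ∪
        (coprod.inr : X'' ⟶ X' ⨿ X'') '' ((coprod.inr : X'' ⟶ X' ⨿ X'') ⁻¹' A ∩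
          (coprod.inr : X'' ⟶ X' ⨿ X'') ⁻¹' B) := by
      ext w
      constructor
      · rintro ⟨hwA, hwB⟩
        have hw' : w ∈ Set.range (coprod.inl : X' ⟶ X' ⨿ X'') ∪
            Set.range (coprod.inr : X'' ⟶ X' ⨿ X'') := by
          have hsup : Set.range (coprod.inl : X' ⟶ X' ⨿ X'') ∪
              Set.range (coprod.inr : X'' ⟶ X' ⨿ X'') = Set.univ := hcompl.sup_eq_top
          rw [hsup]; trivial
        rcases hw' with ⟨x, rfl⟩ | ⟨x, rfl⟩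
        · left; exact ⟨x, ⟨hwA, hwB⟩, rfl⟩
        · right; exact ⟨x, ⟨hwA, hwB⟩, rfl⟩
      · rintro (⟨x, ⟨hxA, hxB⟩, rfl⟩ | ⟨x, ⟨hxA, hxB⟩, rfl⟩)
        · exact ⟨hxA, hxB⟩
        · exact ⟨hxA, hxB⟩
    rw [e]
    exact (key1.image (coprod.inl : X' ⟶ X' ⨿ X'').continuous).union
      (key2.image (coprod.inr : X'' ⟶ X' ⨿ X'').continuous)

end Groth.Agent.S4609
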