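import Groth.Statements.S4611
import Mathlib

set_option autoImplicit false
universe u
open EGA41

namespace Groth.Agent.S4611

/-- A local algebra essentially of finite type over a ring A is A-isomorphic to a quotient of a
localization A[T_1, …, T_n]_q of a polynomial algebra at a prime ideal q; stated as the existence of
a surjective A-algebra map from such a localization. -/
theorem result {A B : Type u} [CommRing A]
    [CommRing B] [IsLocalRing B] [Algebra A B] [Algebra.EssFiniteType A B] :
    ∃ (n : ℕ) (q : Ideal (MvPolynomial (Fin n) A)) (_ : q.IsPrime)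
      (φ : Localization.AtPrime q →ₐ[A] B), Function.Surjective φ := by
  classical
  obtain ⟨s, hs⟩ := (inferInstance : Algebra.EssFiniteType A B).cond
  let n := s.card
  let e : s ≃ Fin n := s.equivFin
  let ψ : MvPolynomial (Fin n) A →ₐ[A] B := MvPolynomial.aeval (fun i => ((e.symm i : s) : B))
  let q : Ideal (MvPolynomial (Fin n) A) := Ideal.comap ψ (IsLocalRing.maximalIdeal B)
  haveI hq : q.IsPrime := Ideal.comap_isPrime _ _
  have hunit : ∀ p : q.primeCompl, IsUnit (ψ p) := by
    intro p
    have h0 : ψ p ∉ IsLocalRing.maximalIdeal B := p.2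
    exact IsLocalRing.notMem_maximalIdeal.mp h0
  let φ : Localization.AtPrime q →ₐ[A] B := IsLocalization.liftAlgHom (M := q.primeCompl) hunit
  refine ⟨n, q, hq, φ, ?_⟩
  intro b
  haveI := hs
  obtain ⟨⟨b0, u⟩, hbu⟩ := IsLocalization.surj
    ((IsUnit.submonoid B).comap (algebraMap (Algebra.adjoin A (s : Set B)) B)) b
  have hrange : ∀ y : Algebra.adjoin A (s : Set B), ∃ p : MvPolynomial (Fin n) A,
      ψ p = (y : B) := by
    intro y
    have h1 : Algebra.adjoin A (s : Set B) ≤ ψ.range := by
      apply Algebra.adjoin_le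
      intro x hx
      refine ⟨MvPolynomial.X (e ⟨x, hx⟩), ?_⟩
      simp [ψ]
    exact h1 y.2
  obtain ⟨p0, hp0⟩ := hrange b0
  obtain ⟨pu, hpu⟩ := hrange u.1
  have hu_unit : IsUnit ((u.1 : Algebra.adjoin A (s : Set B)) : B) := u.2
  have hpu_q : pu ∈ q.primeCompl := by
    show pu ∉ q
    intro hmem
    have h0 : ψ pu ∈ IsLocalRing.maximalIdeal B := hmem
    rw [hpu] at h0
    exact (IsLocalRing.mem_maximalIdeal _).mp h0 hu_unit
  refine ⟨IsLocalization.mk' (Localization.AtPrime q) p0 ⟨pu, hpu_q⟩, ?_⟩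
  have h1 : φ (IsLocalization.mk' (Localization.AtPrime q) p0 ⟨pu, hpu_q⟩) * ψ pu = ψ p0 := by
    have h3 : φ (algebraMap _ (Localization.AtPrime q) pu) = ψ pu := IsLocalization.lift_eq _ _
    have h4 : φ (algebraMap _ (Localization.AtPrime q) p0) = ψ p0 := IsLocalization.lift_eq _ _
    rw [← h3, ← map_mul, ← h4]
    congr 1
    exact IsLocalization.mk'_spec (Localization.AtPrime q) p0 ⟨pu, hpu_q⟩
  have h2 : b * ψ pu = ψ p0 := by rw [hpu, hp0]; exact hbu
  have hu' : IsUnit (ψ pu) := by rw [hpu]; exact hu_unit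
  exact (hu'.mul_left_inj).mp (h1.trans h2.symm)

end Groth.Agent.S4611
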