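import Groth.Statements.S4613
import Mathlib

set_option autoImplicit false
universe u
open AlgebraicGeometry CategoryTheory
open EGA41

namespace Groth.Agent.S4613

/-- For a closed immersion j : X → Y: j is locally of finite presentation if and only if its ideal sheaf
is of finite type, i.e. for every affine open U of Y the kernel of Γ(U, O_Y) → Γ(j⁻¹U, O_X) is
finitely generated. (An immersion with image closed in an open U reduces to this case.) -/
theorem result {X Y : Scheme.{u}} (j : X ⟶ Y)
    [IsClosedImmersion j] :
    LocallyOfFinitePresentation j ↔ ∀ U : Y.affineOpens, (RingHom.ker (j.app U).hom).FG := by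
  constructor
  · intro h U
    have h1 := HasRingHomProperty.appLE (P := @LocallyOfFinitePresentation) j h U
      ⟨j ⁻¹ᵁ U.1, U.2.preimage j⟩ le_rfl
    rw [← Scheme.Hom.app_eq_appLE] at h1
    have hsurj : Function.Surjective (j.app U.1).hom := j.app_surjective U.1 U.2
    algebraize [(j.app U.1).hom]
    have := Algebra.FinitePresentation.ker_fG_of_surjective
      (Algebra.ofId Γ(Y, U.1) Γ(X, j ⁻¹ᵁ U.1)) hsurj
    exact this
  · intro H
    rw [HasRingHomProperty.iff_appLE (P := @LocallyOfFinitePresentation)]
    intro U V e
    have h1 : (j.app U.1).hom.FinitePresentation :=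
      RingHom.FinitePresentation.of_surjective _ (j.app_surjective U.1 U.2) (H U)
    have h2 := HasRingHomProperty.appLE (P := @LocallyOfFinitePresentation) (𝟙 X) inferInstance
      ⟨j ⁻¹ᵁ U.1, U.2.preimage j⟩ V e
    have h3 : j.appLE U.1 V.1 e = j.app U.1 ≫ Scheme.Hom.appLE (𝟙 X) (j ⁻¹ᵁ U.1) V.1 e := by
      simp only [Scheme.Hom.appLE, Scheme.Hom.id_app]
      erw [Category.id_comp]
      rfl
    rw [h3]
    exact h2.comp h1

end Groth.Agent.S4613
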