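import Groth.Statements.S4622
import Groth.Agent.Lib.Helper11.AWNRing2

set_option autoImplicit false
open CategoryTheory AlgebraicGeometry
universe u
open FBase

namespace Groth.Agent.S4622

open Groth.Agent.Lib.Helper11.UHRing

/-- Let k be a separably closed field, k' an algebraic closure of k and X a scheme over k. Then the
projection X ⊗_k k' → X is a universal homeomorphism. -/
theorem result {k k' : Type u} [Field k] [IsSepClosed k] [Field k'] [Algebra k k']
    [IsAlgClosure k k'] {X : Scheme.{u}} (f : X ⟶ Spec (CommRingCat.of k)) :
    FlatMor.IsUnivHomeo (FBase.bcπ f k') := by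
  haveI : IsPurelyInseparable k k' := inferInstance
  have hUH : UH (algebraMap k k') := by
    refine ⟨?_, ?_, ?_⟩
    · exact fun x => (Algebra.IsIntegral.isIntegral (R := k) x)
    · rw [(RingHom.injective_iff_ker_eq_bot _).mp (algebraMap k k').injective]
      exact bot_le
    · intro K _ g₁ g₂ h
      exact IsPurelyInseparable.injective_comp_algebraMap k k' K h
  have h1 : FlatMor.IsUnivHomeo (Spec.map (CommRingCat.ofHom (algebraMap k k'))) :=
    (isUnivHomeo_SpecMap_iff _).mpr hUH
  exact MorphismProperty.pullback_fst (P := FlatMor.IsUnivHomeo) f _ h1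

end Groth.Agent.S4622
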