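import Groth.Statements.S4624
import Mathlib

set_option autoImplicit false
open CategoryTheory AlgebraicGeometry
universe u
open FBase

namespace Groth.Agent.S4624

/-- Let h : X → Y be a surjective morphism of schemes over a field k. If X is geometrically connected
over k, then Y is geometrically connected over k. -/
theorem result {k : Type u} [Field k] {X Y : Scheme.{u}}
    (f : X ⟶ Spec (CommRingCat.of k)) (g : Y ⟶ Spec (CommRingCat.of k)) (h : X ⟶ Y) (w : h ≫ g = f)
    [Surjective h] [GeometricallyConnected f] : GeometricallyConnected g := by
  refine ⟨?_⟩
  rw [geometrically_iff_of_isClosedUnderIsomorphisms]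
  intro K _ y
  have hf : geometrically (ConnectedSpace ·) f :=
    GeometricallyConnected.geometrically_connectedSpace
  haveI h1 : ConnectedSpace ↥(Limits.pullback f y) := pullback_of_geometrically hf K y
  let m : Limits.pullback f y ⟶ Limits.pullback g y :=
    Limits.pullback.lift (Limits.pullback.fst f y ≫ h) (Limits.pullback.snd f y)
      (by rw [Category.assoc, w, Limits.pullback.condition])
  have hm : Function.Surjective m := by
    let l : Limits.pullback h (Limits.pullback.fst g y) ⟶ Limits.pullback f y :=
      Limits.pullback.lift (Limits.pullback.fst _ _) (Limits.pullback.snd _ _ ≫ Limits.pullback.snd g y)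
        (by rw [← w, ← Category.assoc, Limits.pullback.condition, Category.assoc, Category.assoc,
          Limits.pullback.condition])
    have hl : l ≫ m = Limits.pullback.snd h (Limits.pullback.fst g y) := by
      apply Limits.pullback.hom_ext
      · simp only [l, m, Category.assoc, Limits.pullback.lift_fst, Limits.pullback.lift_fst_assoc,
          Limits.pullback.condition]
      · simp only [l, m, Category.assoc, Limits.pullback.lift_snd]
    have hs : Function.Surjective (Limits.pullback.snd h (Limits.pullback.fst g y)) :=
      (Limits.pullback.snd h (Limits.pullback.fst g y)).surjective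
    intro z
    obtain ⟨v, hv⟩ := hs z
    refine ⟨l v, ?_⟩
    rw [← Scheme.Hom.comp_apply, hl]
    exact hv
  have hconn : _root_.IsConnected (Set.univ : Set ↥(Limits.pullback g y)) := by
    rw [← hm.range_eq, ← Set.image_univ]
    exact isConnected_univ.image _ m.continuous.continuousOn
  exact connectedSpace_iff_univ.mpr hconn

end Groth.Agent.S4624
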