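import Groth.Statements.S4625
import Mathlib

set_option autoImplicit false
open CategoryTheory AlgebraicGeometry
universe u
open FBase

namespace Groth.Agent.S4625

/-- Let X be a scheme over a field k and K an extension field of k. Then X is geometrically connected
over k if and only if X ⊗_k K, with its structure of K-scheme, is geometrically connected over K. -/
theorem result {k K : Type u} [Field k] [Field K] [Algebra k K]
    {X : Scheme.{u}} (f : X ⟶ Spec (CommRingCat.of k)) :
    GeometricallyConnected f ↔ GeometricallyConnected (FBase.bcStr f K) := by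
  constructor
  · intro h
    unfold FBase.bcStr
    exact MorphismProperty.pullback_snd (P := @GeometricallyConnected) f _ h
  · intro H
    refine ⟨?_⟩
    rw [geometrically_iff_of_commRing_of_isClosedUnderIsomorphisms]
    intro L _ _
    haveI : Nontrivial (TensorProduct k K L) :=
      Algebra.TensorProduct.nontrivial_of_algebraMap_injective_of_flat_left k K L
        (algebraMap k L).injective
    obtain ⟨m, hm⟩ := Ideal.exists_maximal (TensorProduct k K L)
    letI : Field ((TensorProduct k K L) ⧸ m) := Ideal.Quotient.field m
    let iK : K →+* (TensorProduct k K L) ⧸ m :=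
      (Ideal.Quotient.mk m).comp (Algebra.TensorProduct.includeLeft : K →ₐ[k] TensorProduct k K L).toRingHom
    let iL : L →+* (TensorProduct k K L) ⧸ m :=
      (Ideal.Quotient.mk m).comp (Algebra.TensorProduct.includeRight : L →ₐ[k] TensorProduct k K L).toRingHom
    have hcomp : iK.comp (algebraMap k K) = iL.comp (algebraMap k L) := by
      ext a
      simp [iK, iL]
    let yK : Spec (CommRingCat.of K) ⟶ Spec (CommRingCat.of k) :=
      Spec.map (CommRingCat.ofHom (algebraMap k K))
    let yL : Spec (CommRingCat.of L) ⟶ Spec (CommRingCat.of k) :=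
      Spec.map (CommRingCat.ofHom (algebraMap k L))
    let jK : Spec (CommRingCat.of ((TensorProduct k K L) ⧸ m)) ⟶ Spec (CommRingCat.of K) :=
      Spec.map (CommRingCat.ofHom iK)
    let jL : Spec (CommRingCat.of ((TensorProduct k K L) ⧸ m)) ⟶ Spec (CommRingCat.of L) :=
      Spec.map (CommRingCat.ofHom iL)
    have hj : jK ≫ yK = jL ≫ yL := by
      simp only [jK, jL, yK, yL, ← Spec.map_comp, ← CommRingCat.ofHom_comp, hcomp]
    -- Z = X ×_k Ω is connected
    have sK : IsPullback (Limits.pullback.fst f (jK ≫ yK)) (Limits.pullback.snd f (jK ≫ yK)) f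
        (jK ≫ yK) := IsPullback.of_hasPullback f (jK ≫ yK)
    have tK : IsPullback (Limits.pullback.fst f yK) (Limits.pullback.snd f yK) f yK :=
      IsPullback.of_hasPullback f yK
    have pK := IsPullback.of_right' sK tK
    have hZ : ConnectedSpace ↥(Limits.pullback f (jK ≫ yK)) :=
      H.geometrically_connectedSpace jK _ _ pK
    -- surjection onto X ×_k L
    have sL : IsPullback (Limits.pullback.fst f (jK ≫ yK)) (Limits.pullback.snd f (jK ≫ yK)) f
        (jL ≫ yL) := hj ▸ sK
    have tL : IsPullback (Limits.pullback.fst f yL) (Limits.pullback.snd f yL) f yL :=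
      IsPullback.of_hasPullback f yL
    have pL := IsPullback.of_right' sL tL
    have hjL : Surjective jL := ⟨fun x => ⟨default, Subsingleton.elim _ _⟩⟩
    have hlift := MorphismProperty.of_isPullback (P := @Surjective) pL.flip hjL
    set l := tL.lift (Limits.pullback.fst f (jK ≫ yK)) (Limits.pullback.snd f (jK ≫ yK) ≫ jL)
      (by rw [sL.w, Category.assoc]) with hl
    have hls : Function.Surjective l := hlift.surj
    have hconn : _root_.IsConnected (Set.univ : Set ↥(Limits.pullback f yL)) := by
      rw [← hls.range_eq, ← Set.image_univ]
      exact isConnected_univ.image _ l.continuous.continuousOn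
    exact connectedSpace_iff_univ.mpr hconn

end Groth.Agent.S4625
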