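import Groth.Statements.S4626
import Mathlib

set_option autoImplicit false
open CategoryTheory AlgebraicGeometry
universe u
open FBase

namespace Groth.Agent.S4626

open AlgebraicGeometry CategoryTheory Limits in
theorem isReduced_of_flat_surjective {Z W : Scheme.{u}} (l : Z ⟶ W) [Flat l]
    (hs : Function.Surjective l) [IsReduced Z] : IsReduced W := by
  haveI : ∀ w : W, _root_.IsReduced (W.presheaf.stalk w) := by
    intro w
    obtain ⟨z, rfl⟩ := hs w
    have hflat : (l.stalkMap z).hom.Flat := Flat.stalkMap l z
    letI := (l.stalkMap z).hom.toAlgebra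
    haveI : Module.Flat (W.presheaf.stalk (l z)) (Z.presheaf.stalk z) := hflat
    haveI : IsLocalHom (algebraMap (W.presheaf.stalk (l z)) (Z.presheaf.stalk z)) :=
      inferInstanceAs (IsLocalHom (l.stalkMap z).hom)
    haveI : Module.FaithfullyFlat (W.presheaf.stalk (l z)) (Z.presheaf.stalk z) :=
      Module.FaithfullyFlat.of_flat_of_isLocalHom
    have hinj : Function.Injective
        (algebraMap (W.presheaf.stalk (l z)) (Z.presheaf.stalk z)) :=
      FaithfulSMul.algebraMap_injective _ _
    exact isReduced_of_injective (algebraMap _ _) hinj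
  exact isReduced_of_isReduced_stalk W


/-- Let X be a scheme over a field k and K an extension field of k. Then X is geometrically reduced over
k if and only if X ⊗_k K, with its structure of K-scheme, is geometrically reduced over K. -/
theorem result {k K : Type u} [Field k] [Field K] [Algebra k K]
    {X : Scheme.{u}} (f : X ⟶ Spec (CommRingCat.of k)) :
    GeometricallyReduced f ↔ GeometricallyReduced (FBase.bcStr f K) := by
  constructor
  · intro h
    unfold FBase.bcStr
    exact MorphismProperty.pullback_snd (P := @GeometricallyReduced) f _ h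
  · intro H
    refine ⟨?_⟩
    rw [geometrically_iff_of_commRing_of_isClosedUnderIsomorphisms]
    intro L _ _
    haveI : Nontrivial (TensorProduct k K L) :=
      Algebra.TensorProduct.nontrivial_of_algebraMap_injective_of_flat_left k K L
        (algebraMap k L).injective
    obtain ⟨m, hm⟩ := Ideal.exists_maximal (TensorProduct k K L)
    letI : Field ((TensorProduct k K L) ⧸ m) := Ideal.Quotient.field m
    let iK : K →+* (TensorProduct k K L) ⧸ m :=
      (Ideal.Quotient.mk m).comp (Algebra.TensorProduct.includeLeft : K →ₐ[k] TensorProduct k K L).toRingHom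
    let iL : L →+* (TensorProduct k K L) ⧸ m :=
      (Ideal.Quotient.mk m).comp (Algebra.TensorProduct.includeRight : L →ₐ[k] TensorProduct k K L).toRingHom
    have hcomp : iK.comp (algebraMap k K) = iL.comp (algebraMap k L) := by
      ext a
      simp [iK, iL]
    let yK : Spec (CommRingCat.of K) ⟶ Spec (CommRingCat.of k) :=
      Spec.map (CommRingCat.ofHom (algebraMap k K))
    let yL : Spec (CommRingCat.of L) ⟶ Spec (CommRingCat.of k) :=
      Spec.map (CommRingCat.ofHom (algebraMap k L))
    let jK : Spec (CommRingCat.of ((TensorProduct k K L) ⧸ m)) ⟶ Spec (CommRingCat.of K) :=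
      Spec.map (CommRingCat.ofHom iK)
    let jL : Spec (CommRingCat.of ((TensorProduct k K L) ⧸ m)) ⟶ Spec (CommRingCat.of L) :=
      Spec.map (CommRingCat.ofHom iL)
    have hj : jK ≫ yK = jL ≫ yL := by
      simp only [jK, jL, yK, yL, ← Spec.map_comp, ← CommRingCat.ofHom_comp, hcomp]
    -- Z = X ×_k Ω is connected
    have sK : IsPullback (Limits.pullback.fst f (jK ≫ yK)) (Limits.pullback.snd f (jK ≫ yK)) f
        (jK ≫ yK) := IsPullback.of_hasPullback f (jK ≫ yK)
    have tK : IsPullback (Limits.pullback.fst f yK) (Limits.pullback.snd f yK) f yK :=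
      IsPullback.of_hasPullback f yK
    have pK := IsPullback.of_right' sK tK
    haveI hZ : IsReduced (Limits.pullback f (jK ≫ yK)) :=
      H.geometrically_isReduced jK _ _ pK
    -- surjection onto X ×_k L
    have sL : IsPullback (Limits.pullback.fst f (jK ≫ yK)) (Limits.pullback.snd f (jK ≫ yK)) f
        (jL ≫ yL) := hj ▸ sK
    have tL : IsPullback (Limits.pullback.fst f yL) (Limits.pullback.snd f yL) f yL :=
      IsPullback.of_hasPullback f yL
    have pL := IsPullback.of_right' sL tL
    have hjL : Surjective jL := ⟨fun x => ⟨default, Subsingleton.elim _ _⟩⟩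
    have hlift := MorphismProperty.of_isPullback (P := @Surjective) pL.flip hjL
    set l := tL.lift (Limits.pullback.fst f (jK ≫ yK)) (Limits.pullback.snd f (jK ≫ yK) ≫ jL)
      (by rw [sL.w, Category.assoc]) with hl
    have hls : Function.Surjective l := hlift.surj
    have hjLflat : Flat jL := by
      rw [HasRingHomProperty.Spec_iff (P := @Flat)]
      show RingHom.Flat iL
      letI := iL.toAlgebra
      show Module.Flat L (TensorProduct k K L ⧸ m)
      infer_instance
    haveI hlflat : Flat l := MorphismProperty.of_isPullback (P := @Flat) pL.flip hjLflat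
    exact isReduced_of_flat_surjective l hls

end Groth.Agent.S4626
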