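import Groth.Statements.S4636
import Mathlib
import Groth.Agent.Lib.Helper17.AssPt

set_option autoImplicit false
open CategoryTheory AlgebraicGeometry
universe u
open AssSch

namespace Groth.Agent.S4636

/-- Let X be a locally Noetherian scheme, F a coherent O_X-module and x a point of X. Then x is a
maximal associated point of F (an associated point such that every associated point specialising to
x equals x) if and only if x is the generic point of an irreducible component of Supp F, i.e. F_x ≠
0 and every point y with F_y ≠ 0 that specialises to x equals x. -/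
theorem result {X : Scheme.{u}} [IsLocallyNoetherian X] (F : X.Modules)
    (hF : Coh.IsCoh F) (x : X) :
    (x ∈ AssSch.Ass F ∧ ∀ y ∈ AssSch.Ass F, y ⤳ x → y = x) ↔
      (Nontrivial ↑(F.presheaf.stalk x) ∧ ∀ y : X, Nontrivial ↑(F.presheaf.stalk y) → y ⤳ x → y = x) := by
  obtain ⟨hqc, -⟩ := hF
  haveI : F.IsQuasicoherent := hqc
  have hnt_of_ass : ∀ z, z ∈ AssSch.Ass F → Nontrivial (F.presheaf.stalk z) := by
    intro z hz
    by_contra hcon
    rw [not_nontrivial_iff_subsingleton] at hcon
    exact not_isAssociatedPrime_of_subsingleton hz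
  have key : ∀ y, Nontrivial (F.presheaf.stalk y) → ∃ z ∈ AssSch.Ass F, z ⤳ y := by
    intro y hy
    obtain ⟨_, ⟨U, hU, rfl⟩, hyU, -⟩ := X.isBasis_affineOpens.exists_subset_of_mem_open
      (Set.mem_univ y) isOpen_univ
    obtain ⟨m, hm⟩ := Groth.Agent.Lib.Helper17.AssPt.exists_germ_ne_zero hU F y hyU hy
    obtain ⟨z, hz, hzass, hzy, -⟩ :=
      Groth.Agent.Lib.Helper17.AssPt.exists_assPoint_specializes hU F y hyU m hm
    exact ⟨z, hzass, hzy⟩
  constructor
  · rintro ⟨hx, hmax⟩
    refine ⟨hnt_of_ass x hx, fun y hy hyx => ?_⟩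
    obtain ⟨z, hz, hzy⟩ := key y hy
    have hzx : z = x := hmax z hz (hzy.trans hyx)
    subst hzx
    exact (hyx.antisymm hzy).eq
  · rintro ⟨hnt, hmax⟩
    obtain ⟨z, hz, hzx⟩ := key x hnt
    have hzx' : z = x := hmax z (hnt_of_ass z hz) hzx
    subst hzx'
    exact ⟨hz, fun y hy hyx => hmax y (hnt_of_ass y hy) hyx⟩

end Groth.Agent.S4636
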