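import Groth.Statements.S4637
import Mathlib
import Groth.Agent.Lib.Helper17.CohStalk

set_option autoImplicit false
open CategoryTheory AlgebraicGeometry
universe u
open AssSch

namespace Groth.Agent.S4637

/-- Let X be a locally Noetherian scheme, F a coherent O_X-module and x a point of X. Then x is the
generic point of an irreducible component of Supp F (F_x ≠ 0 and every point y with F_y ≠ 0 that
specialises to x equals x) if and only if F_x is a nonzero module of finite length over the local
ring O_{X,x}. -/
theorem result {X : Scheme.{u}} [IsLocallyNoetherian X] (F : X.Modules)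
    (hF : Coh.IsCoh F) (x : X) :
    (Nontrivial ↑(F.presheaf.stalk x) ∧ ∀ y : X, Nontrivial ↑(F.presheaf.stalk y) → y ⤳ x → y = x) ↔
      (Nontrivial ↑(F.presheaf.stalk x) ∧ IsFiniteLength ↑(X.presheaf.stalk x) ↑(F.presheaf.stalk x)) := by
  obtain ⟨hqc, hft⟩ := hF
  haveI : F.IsQuasicoherent := hqc
  haveI : F.IsFiniteType := hft
  constructor
  · rintro ⟨hnt, hmax⟩
    refine ⟨hnt, Module.length_ne_top_iff.mp ?_⟩
    exact (Groth.Agent.Lib.Helper17.CohStalk.length_stalk_lt_top F x hmax).ne
  · rintro ⟨hnt, hfl⟩
    refine ⟨hnt, fun y hy hyx => ?_⟩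
    have hy' : y ∈ Set.range (X.fromSpecStalk x).base := by
      rw [Scheme.range_fromSpecStalk]; exact hyx
    obtain ⟨q, rfl⟩ := hy'
    have hq := Groth.Agent.Lib.Helper17.CohStalk.mem_support_of_nontrivial_stalk F x q hy
    rw [Groth.Agent.Lib.Helper17.CohStalk.support_subset_of_isFiniteLength hfl q hq]
    exact Scheme.fromSpecStalk_closedPoint (X := X) (x := x)

end Groth.Agent.S4637
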