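import Groth.Statements.S4638
import Mathlib
import Groth.Agent.Lib.Helper17.AssPt

set_option autoImplicit false
open CategoryTheory AlgebraicGeometry
universe u
open AssSch

namespace Groth.Agent.S4638

/-- Let X be a locally Noetherian scheme, F a quasi-coherent O_X-module and f a global section of O_X.
Then f is F-regular, i.e. multiplication by the germ of f is injective on every stalk of F, if and
only if every associated point of F lies in the open subset X_f where f does not vanish. -/
theorem result {X : Scheme.{u}} [IsLocallyNoetherian X] (F : X.Modules)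
    (hF : Coh.IsQCoh F) (f : Γ(X, ⊤)) :
    (∀ x : X, IsSMulRegular ↑(F.presheaf.stalk x) (X.presheaf.germ ⊤ x trivial f)) ↔
      AssSch.Ass F ⊆ (X.basicOpen f : Set ↥X) := by
  haveI : F.IsQuasicoherent := hF
  constructor
  · intro hreg x hx
    by_contra hxf
    have hnu : ¬ IsUnit (X.presheaf.germ ⊤ x trivial f) :=
      fun hu => hxf ((Scheme.mem_basicOpen_top X f x).mpr hu)
    have hmem : X.presheaf.germ ⊤ x trivial f ∈ IsLocalRing.maximalIdeal (X.presheaf.stalk x) :=
      (IsLocalRing.mem_maximalIdeal _).mpr hnu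
    obtain ⟨hprime, n, hn⟩ := isAssociatedPrime_iff.mp hx
    rw [hn, Submodule.mem_colon_singleton, Submodule.mem_bot] at hmem
    have hn0 : n = 0 := (isSMulRegular_iff_right_eq_zero_of_smul.mp (hreg x)) n hmem
    apply hprime.ne_top
    rw [hn, hn0, Ideal.eq_top_iff_one, Submodule.mem_colon_singleton, smul_zero]
    exact Submodule.zero_mem _
  · intro hsub x
    rw [isSMulRegular_iff_right_eq_zero_of_smul]
    intro n hn
    by_contra hn0
    obtain ⟨_, ⟨U, hU, rfl⟩, hxU, -⟩ := X.isBasis_affineOpens.exists_subset_of_mem_open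
      (Set.mem_univ x) isOpen_univ
    obtain ⟨c, m, hc, hcm⟩ := Groth.Agent.Lib.Helper3.QS.exists_smul_eq_germ hU F x hxU n
    have hcu := Groth.Agent.Lib.Helper17.AssPt.isUnit_germ_of_notMem hU x hxU c hc
    have hm : F.presheaf.germ U x hxU m ≠ 0 := by
      intro h0
      rw [h0] at hcm
      exact hn0 (Groth.Agent.Lib.Helper17.AssPt.eq_zero_of_isUnit_smul hcu hcm)
    let f' : Γ(X, U) := X.presheaf.map (homOfLE le_top).op f
    have hf' : X.presheaf.germ U x hxU f' = X.presheaf.germ ⊤ x trivial f :=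
      TopCat.Presheaf.germ_res_apply X.presheaf (homOfLE le_top) x hxU f
    have h0 : F.presheaf.germ U x hxU (f' • m) = 0 := by
      rw [Groth.Agent.Lib.Helper3.QS.germ_smul, hf', ← hcm,
        smul_comm (X.presheaf.germ ⊤ x trivial f) (X.presheaf.germ U x hxU c) n, hn, smul_zero]
    obtain ⟨c₁, hc₁, hc₁m⟩ :=
      (Groth.Agent.Lib.Helper3.QS.germ_eq_zero_iff hU F x hxU (f' • m)).mp h0
    have hc₁u := Groth.Agent.Lib.Helper17.AssPt.isUnit_germ_of_notMem hU x hxU c₁ hc₁
    have hm' : F.presheaf.germ U x hxU (c₁ • m) ≠ 0 := by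
      rw [Groth.Agent.Lib.Helper3.QS.germ_smul]
      intro h
      exact hm (Groth.Agent.Lib.Helper17.AssPt.eq_zero_of_isUnit_smul hc₁u h)
    obtain ⟨z, hz, hzass, -, hzann⟩ :=
      Groth.Agent.Lib.Helper17.AssPt.exists_assPoint_specializes hU F x hxU (c₁ • m) hm'
    have hcomm : f' • (c₁ • m) = c₁ • (f' • m) := by
      rw [← mul_smul, mul_comm, mul_smul]
    have hfz : f' ∈ (hU.primeIdealOf ⟨z, hz⟩).asIdeal := hzann f' (by rw [hcomm]; exact hc₁m)
    have hzf : z ∈ X.basicOpen f := hsub hzass
    have hzu : IsUnit (X.presheaf.germ ⊤ z trivial f) := (Scheme.mem_basicOpen_top X f z).mp hzf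
    have hzu' : IsUnit (X.presheaf.germ U z hz f') := by
      rw [show X.presheaf.germ U z hz f' = X.presheaf.germ ⊤ z trivial f from
        TopCat.Presheaf.germ_res_apply X.presheaf (homOfLE le_top) z hz f]
      exact hzu
    exact ((Groth.Agent.Lib.Helper3.mem_basicOpen_iff_notMem_primeIdealOf hU z hz f').mp
      ((Scheme.mem_basicOpen X f' z hz).mpr hzu')) hfz

end Groth.Agent.S4638
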