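import Groth.Statements.S4640
import Mathlib

set_option autoImplicit false
universe u
open FDesc

namespace Groth.Agent.S4640

open TensorProduct in
/-- Let A be a Dedekind domain with fraction field K, M an A-module and P' a K-submodule of K ⊗_A M. Let
φ : M → (K ⊗_A M)/P' be m ↦ class of 1 ⊗ m. Then a submodule Q of M equals ker φ if and only if M/Q
is a flat A-module and the kernel of the induced surjection K ⊗_A M → K ⊗_A (M/Q) is P'. Thus M/ker
φ is the unique flat quotient of M with generic fibre (K ⊗_A M)/P'. (The published statement takes A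
Noetherian, regular and of dimension 1; a field is allowed here, where the statement is immediate.) -/
theorem result {A K : Type u} [CommRing A] [IsDedekindDomain A] [Field K]
    [Algebra A K] [IsFractionRing A K] {M : Type u} [AddCommGroup M] [Module A M]
    (P' : Submodule K (K ⊗[A] M)) (Q : Submodule A M) :
    Q = LinearMap.ker ((P'.restrictScalars A).mkQ ∘ₗ TensorProduct.mk A K M 1) ↔
      (Module.Flat A (M ⧸ Q) ∧ LinearMap.ker (Q.mkQ.baseChange K) = P') := by
  classical
  have hsm : ∀ s : nonZeroDivisors A, algebraMap A K (s : A) ≠ 0 := fun s =>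
    (map_ne_zero_iff _ (IsFractionRing.injective A K)).mpr (nonZeroDivisors.ne_zero s.2)
  have locM : IsLocalizedModule (nonZeroDivisors A) (TensorProduct.mk A K M 1) :=
    (isLocalizedModule_iff_isBaseChange (nonZeroDivisors A) K _).mpr
      (TensorProduct.isBaseChange A M K)
  have locN : IsLocalizedModule (nonZeroDivisors A) (TensorProduct.mk A K (M ⧸ Q) 1) :=
    (isLocalizedModule_iff_isBaseChange (nonZeroDivisors A) K _).mpr
      (TensorProduct.isBaseChange A (M ⧸ Q) K)
  have hE : Submodule.torsion A (M ⧸ Q) = ⊥ → ∀ n : M ⧸ Q, (1 : K) ⊗ₜ[A] n = 0 → n = 0 := by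
    intro htor n hn
    have h1 : TensorProduct.mk A K (M ⧸ Q) 1 n = 0 := hn
    obtain ⟨s, hs⟩ := (IsLocalizedModule.eq_zero_iff (nonZeroDivisors A) _).mp h1
    have h2 : n ∈ Submodule.torsion A (M ⧸ Q) := (Submodule.mem_torsion_iff n).mpr ⟨s, hs⟩
    rw [htor] at h2
    exact (Submodule.mem_bot A).mp h2
  have hmemker : ∀ m : M,
      m ∈ LinearMap.ker ((P'.restrictScalars A).mkQ ∘ₗ TensorProduct.mk A K M 1) ↔
        (1 : K) ⊗ₜ[A] m ∈ P' := by
    intro m
    rw [LinearMap.mem_ker, LinearMap.comp_apply, Submodule.mkQ_apply,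
      Submodule.Quotient.mk_eq_zero, Submodule.restrictScalars_mem, TensorProduct.mk_apply]
  have hbc : ∀ m : M, (Q.mkQ.baseChange K) ((1 : K) ⊗ₜ[A] m) = (1 : K) ⊗ₜ[A] (Q.mkQ m) :=
    fun m => LinearMap.baseChange_tmul _ _ _
  have hmk0 : ∀ m : M, Q.mkQ m = 0 ↔ m ∈ Q := fun m => by
    rw [Submodule.mkQ_apply, Submodule.Quotient.mk_eq_zero]
  constructor
  · intro hQ
    have hQ' : ∀ m, m ∈ Q ↔ (1 : K) ⊗ₜ[A] m ∈ P' := fun m => by
      rw [← hmemker m, ← hQ]
    have htor : Submodule.torsion A (M ⧸ Q) = ⊥ := by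
      rw [eq_bot_iff]
      intro n hn
      obtain ⟨a, ha⟩ := (Submodule.mem_torsion_iff n).mp hn
      obtain ⟨m, rfl⟩ := Q.mkQ_surjective n
      rw [Submodule.mem_bot, hmk0, hQ']
      have h1 : (a : A) • m ∈ Q := by
        rw [← hmk0, map_smul]
        rw [Submonoid.smul_def] at ha
        exact ha
      rw [hQ', TensorProduct.tmul_smul, ← algebraMap_smul K (a : A)] at h1
      exact (P'.smul_mem_iff (hsm a)).mp h1
    have hflat : Module.Flat A (M ⧸ Q) := IsDedekindDomain.flat_iff_torsion_eq_bot.mpr htor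
    refine ⟨hflat, ?_⟩
    ext t
    obtain ⟨⟨m, s⟩, hms⟩ := IsLocalizedModule.surj (nonZeroDivisors A) (TensorProduct.mk A K M 1) t
    have hms' : algebraMap A K (s : A) • t = (1 : K) ⊗ₜ[A] m := by
      rw [algebraMap_smul, ← Submonoid.smul_def]
      exact hms
    rw [LinearMap.mem_ker]
    constructor
    · intro ht
      have h2 : (1 : K) ⊗ₜ[A] (Q.mkQ m) = 0 := by
        rw [← hbc, ← hms', map_smul, ht, smul_zero]
      have h3 := hE htor _ h2
      have h4 : m ∈ Q := (hmk0 m).mp h3
      rw [hQ', ← hms'] at h4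
      exact (P'.smul_mem_iff (hsm s)).mp h4
    · intro ht
      have h4 : (1 : K) ⊗ₜ[A] m ∈ P' := by
        rw [← hms']
        exact P'.smul_mem _ ht
      rw [← hQ'] at h4
      have h5 : (Q.mkQ.baseChange K) ((1 : K) ⊗ₜ[A] m) = 0 := by
        rw [hbc, (hmk0 m).mpr h4, TensorProduct.tmul_zero]
      rw [← hms', map_smul] at h5
      exact (smul_eq_zero.mp h5).resolve_left (hsm s)
  · rintro ⟨hflat, hker⟩
    have htor : Submodule.torsion A (M ⧸ Q) = ⊥ :=
      IsDedekindDomain.flat_iff_torsion_eq_bot.mp hflat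
    ext m
    rw [hmemker, ← hker, LinearMap.mem_ker, hbc]
    constructor
    · intro hm
      rw [(hmk0 m).mpr hm, TensorProduct.tmul_zero]
    · intro h2
      exact (hmk0 m).mp (hE htor _ h2)

end Groth.Agent.S4640
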