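import Groth.Statements.S4641
import Mathlib
import Groth.Agent.Lib.Helper3.AssPoints
import Groth.Agent.S2510

set_option autoImplicit false
open CategoryTheory AlgebraicGeometry
universe u
open AssSch

namespace Groth.Agent.S4641


namespace H4641
open CategoryTheory AlgebraicGeometry Groth.Agent.Lib.Helper3.QS Groth.Agent.Lib.Helper3

theorem main {X Y : Scheme.{u}} (f : X ⟶ Y)
    [IsLocallyNoetherian Y] (hY : AssSch.NoEmbedded (Coh.structureModule Y)) (F : X.Modules)
    (hfl : FlatMod.IsFlatOver f F) (x : X) (hx : x ∈ AssSch.Ass F) (y : Y) (hy : y ⤳ f x) :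
    y = f x := by
  classical
  have := Groth.Agent.S2510.unit_qc Y
  obtain ⟨V, hV, hxV, -⟩ := exists_isAffineOpen_mem_and_subset (x := f x) (U := ⊤) trivial
  have hN : IsNoetherianRing Γ(Y, V) := IsLocallyNoetherian.component_noetherian ⟨V, hV⟩
  set 𝔭 := (hV.primeIdealOf ⟨f x, hxV⟩).asIdeal with h𝔭
  have h𝔭prime : 𝔭.IsPrime := (hV.primeIdealOf ⟨f x, hxV⟩).isPrime
  -- (a) elements of 𝔭 are zero divisors
  have hzd : (𝔭 : Set Γ(Y, V)) ⊆ ⋃ q ∈ associatedPrimes Γ(Y, V) Γ(Y, V), (q : Set Γ(Y, V)) := by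
    rw [biUnion_associatedPrimes_eq_compl_nonZeroDivisors]
    intro a ha hnzd
    have hx' : Curv2.IsAssPoint F x := hx
    unfold Curv2.IsAssPoint at hx'
    obtain ⟨-, m, hm⟩ := hx'
    letI := TopCat.Presheaf.algebra_section_stalk Y.presheaf (U := V) ⟨f x, hxV⟩
    haveI : IsLocalization.AtPrime (Y.presheaf.stalk (f x)) 𝔭 :=
      hV.isLocalization_stalk ⟨f x, hxV⟩
    have hα : algebraMap Γ(Y, V) (Y.presheaf.stalk (f x)) a ∈
        nonZeroDivisors (Y.presheaf.stalk (f x)) :=
      IsLocalization.map_nonZeroDivisors_le 𝔭.primeCompl _ (Submonoid.mem_map_of_mem _ hnzd)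
    have hαu : ¬ IsUnit (algebraMap Γ(Y, V) (Y.presheaf.stalk (f x)) a) := by
      intro hu
      exact (IsLocalization.AtPrime.isUnit_to_map_iff _ 𝔭 a).mp hu ha
    set α := algebraMap Γ(Y, V) (Y.presheaf.stalk (f x)) a with hαdef
    have hβ : (f.stalkMap x).hom α ∈ IsLocalRing.maximalIdeal (X.presheaf.stalk x) := by
      rw [IsLocalRing.mem_maximalIdeal, mem_nonunits_iff]
      intro hu
      exact hαu ((isUnit_map_iff (f.stalkMap x).hom α).mp hu)
    rw [hm] at hβ
    obtain ⟨n, hn⟩ := hβ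
    rw [Submodule.mem_colon_singleton, Submodule.mem_bot] at hn
    have hflx := hfl x
    unfold FlatMod.IsFlatOverAt at hflx
    letI := FlatMod.moduleStalkOver f F x
    haveI : Module.Flat (Y.presheaf.stalk (f x)) (F.presheaf.stalk x) := hflx
    have hreg : IsSMulRegular (F.presheaf.stalk x) α :=
      Module.Flat.isSMulRegular_of_nonZeroDivisors hα
    have hreg' := hreg.pow n
    have h0 : α ^ n • m = 0 := by
      change (f.stalkMap x).hom (α ^ n) • m = 0
      rw [map_pow]; exact hn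
    have hm0 : m = 0 := hreg' (by simp only [h0, smul_zero])
    have h1 : (1 : X.presheaf.stalk x) ∈ IsLocalRing.maximalIdeal (X.presheaf.stalk x) := by
      rw [hm]
      apply Ideal.le_radical
      rw [Submodule.mem_colon_singleton, hm0, smul_zero]
      exact Submodule.zero_mem _
    exact (Ideal.ne_top_iff_one _).mp (IsLocalRing.maximalIdeal.isMaximal _).ne_top h1
  -- (c) prime avoidance
  have hfin := associatedPrimes.finite Γ(Y, V) Γ(Y, V)
  have hex : ∃ q ∈ hfin.toFinset, 𝔭 ≤ q := by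
    refine (Ideal.subset_union_prime (R := Γ(Y, V)) (s := hfin.toFinset) (f := fun q => q) ⊥ ⊥
      (fun q hq _ _ => ?_) (I := 𝔭)).mp ?_
    · exact IsAssociatedPrime.isPrime (hfin.mem_toFinset.mp hq)
    · intro a ha
      have := hzd ha
      simp only [Set.mem_iUnion, Finset.mem_coe, Set.Finite.mem_toFinset, exists_prop] at this ⊢
      exact this
  obtain ⟨q, hqmem, hpq⟩ := hex
  have hqass : q ∈ associatedPrimes Γ(Y, V) Γ(Y, V) := hfin.mem_toFinset.mp hqmem
  have hqprime : q.IsPrime := IsAssociatedPrime.isPrime hqass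
  obtain ⟨q₀, hq₀min, hq₀le⟩ := Ideal.exists_minimalPrimes_le
    (I := (⊥ : Ideal Γ(Y, V))) (J := 𝔭) bot_le
  have hq₀prime : q₀.IsPrime := hq₀min.1.1
  have hq₀ass : q₀ ∈ associatedPrimes Γ(Y, V) Γ(Y, V) := by
    apply Module.associatedPrimes.minimalPrimes_annihilator_subset_associatedPrimes Γ(Y, V) Γ(Y, V)
    have : Module.annihilator Γ(Y, V) Γ(Y, V) = ⊥ := Module.annihilator_eq_bot.mpr inferInstance
    rw [this]; exact hq₀min
  obtain ⟨z, hz, hzq⟩ := exists_point_of_prime hV q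
  obtain ⟨z₀, hz₀, hz₀q⟩ := exists_point_of_prime hV q₀
  have hqass' : q ∈ associatedPrimes Γ(Y, V) Γ(Coh.structureModule Y, V) := hqass
  have hq₀ass' : q₀ ∈ associatedPrimes Γ(Y, V) Γ(Coh.structureModule Y, V) := hq₀ass
  have hzA : z ∈ AssSch.Ass (Coh.structureModule Y) :=
    isAssPoint_of_mem_associatedPrimes hV _ z hz (by rw [hzq]; exact hqass')
  have hz₀A : z₀ ∈ AssSch.Ass (Coh.structureModule Y) :=
    isAssPoint_of_mem_associatedPrimes hV _ z₀ hz₀ (by rw [hz₀q]; exact hq₀ass')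
  have hspec : z₀ ⤳ z := Groth.Agent.S2510.specializes_of_le hV z₀ z hz₀ hz
    (by rw [hz₀q, hzq]; exact hq₀le.trans hpq)
  have hzz : z = z₀ := hY z hzA z₀ hz₀A hspec
  subst hzz
  have hqq : q = q₀ := hzq.symm.trans hz₀q
  have h𝔭min : 𝔭 = q₀ := le_antisymm (hqq ▸ hpq) hq₀le
  have hyV : y ∈ V := hy.mem_open V.2 hxV
  have hle : (hV.primeIdealOf ⟨y, hyV⟩).asIdeal ≤ 𝔭 := by
    have h1 : hV.fromSpec (hV.primeIdealOf ⟨y, hyV⟩) ⤳
        hV.fromSpec (hV.primeIdealOf ⟨f x, hxV⟩) := by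
      rw [hV.fromSpec_primeIdealOf ⟨y, hyV⟩, hV.fromSpec_primeIdealOf ⟨f x, hxV⟩]; exact hy
    have h2 := hV.fromSpec.isOpenEmbedding.isInducing.specializes_iff.mp h1
    exact (PrimeSpectrum.le_iff_specializes _ _).mpr h2
  have hyprime : (hV.primeIdealOf ⟨y, hyV⟩).asIdeal.IsPrime :=
    (hV.primeIdealOf ⟨y, hyV⟩).isPrime
  have heq : (hV.primeIdealOf ⟨y, hyV⟩).asIdeal = 𝔭 := by
    apply le_antisymm hle
    rw [h𝔭min]
    exact hq₀min.2 ⟨hyprime, bot_le⟩ (h𝔭min ▸ hle)
  have heq' : hV.primeIdealOf ⟨y, hyV⟩ = hV.primeIdealOf ⟨f x, hxV⟩ := PrimeSpectrum.ext heq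
  have h3 := congrArg (fun p => hV.fromSpec p) heq'
  simp only [hV.fromSpec_primeIdealOf ⟨y, hyV⟩, hV.fromSpec_primeIdealOf ⟨f x, hxV⟩] at h3
  exact h3

end H4641

/-- Let f : X → Y be a morphism of locally Noetherian schemes such that Y has no embedded associated
points, and let F be a quasi-coherent O_X-module which is flat over Y. Then for every associated
point x of F, f(x) is a maximal point of Y (every point of Y specialising to f(x) equals f(x)). (The
published statement assumes only Y locally Noetherian; X is taken locally Noetherian here so that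
associated points are those whose maximal ideal is an annihilator.) -/
theorem result {X Y : Scheme.{u}} (f : X ⟶ Y) [IsLocallyNoetherian X]
    [IsLocallyNoetherian Y] (hY : AssSch.NoEmbedded (Coh.structureModule Y)) (F : X.Modules) (hF : Coh.IsQCoh F)
    (hfl : FlatMod.IsFlatOver f F) (x : X) (hx : x ∈ AssSch.Ass F) (y : Y) (hy : y ⤳ f x) : y = f x := by
  exact H4641.main f hY F hfl x hx y hy

end Groth.Agent.S4641
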