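import Groth.Statements.S4646
import Mathlib
import Groth.Agent.Lib.Helper11.GalOrbit

set_option autoImplicit false
open CategoryTheory AlgebraicGeometry
universe u
open FBase

namespace Groth.Agent.S4646

open Groth.Agent.Lib.Helper11.FBaseLib Groth.Agent.Lib.Helper11.FBaseLib2
  Groth.Agent.Lib.Helper11.BcLevels Groth.Agent.Lib.Helper11.GeomSep
  Groth.Agent.Lib.Helper11.SepFibre Groth.Agent.Lib.Helper11.GalComp
  Groth.Agent.Lib.Helper11.GalDescent Groth.Agent.Lib.Helper11.SepFibre2
  Groth.Agent.Lib.Helper11.GalOrbit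

/-- the image of a generic point under a Galois automorphism is the generic point of the image -/
theorem isGenericPoint_bcHom {k : Type u} [Field k] {X : Scheme.{u}}
    (a : X ⟶ Spec (CommRingCat.of k)) {K : Type u} [Field K] [Algebra k K] (σ : K ≃ₐ[k] K)
    {T' : Set ↥(FBase.bc a K)} {η : ↥(FBase.bc a K)} (hη : IsGenericPoint η T') :
    IsGenericPoint ((bcHom a (σ : K →ₐ[k] K)) η) ((bcHom a (σ : K →ₐ[k] K)) '' T') := by
  show closure {(bcHom a (σ : K →ₐ[k] K)) η} = _
  rw [← hη.def]
  have h := (galHomeo a σ).image_closure {η}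
  rw [Set.image_singleton] at h
  exact h.symm

/-- Let X be a scheme over a field k having finitely many irreducible components, such that for the
generic point x of each irreducible component the separable algebraic closure of k in κ(x) has
finite degree over k. Then there is a finite separable extension L of k such that all irreducible
components of X ⊗_k L are geometrically irreducible over L: for every extension field K of L and
every irreducible component Z' of X ⊗_k L, the inverse image of Z' in (X ⊗_k L) ⊗_L K is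
irreducible. (No finite-type hypothesis on X.) -/
theorem result {k : Type u} [Field k] {X : Scheme.{u}}
    (f : X ⟶ Spec (CommRingCat.of k)) [Finite ↥(irreducibleComponents ↥X)]
    (hx : ∀ (Z : Set ↥X) (hZ : Z ∈ irreducibleComponents ↥X),
      FBase.ResidueFieldProp f hZ.1.genericPoint (fun K _ _ => FiniteDimensional k (separableClosure k K))) :
    ∃ (L : Type u) (_ : Field L) (_ : Algebra k L), FiniteDimensional k L ∧ Algebra.IsSeparable k L ∧
      ∀ (K : Type u) [Field K] [Algebra L K] (Z' : Set ↥(FBase.bc f L)), Z' ∈ irreducibleComponents ↥(FBase.bc f L) →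
        IsIrreducible (⇑(FBase.bcπ (FBase.bcStr f L) K) ⁻¹' Z') := by

  classical
  let K := SeparableClosure k
  let p := FBase.bcπ f K
  have hfib : ∀ (Z : Set ↥X) (hZ : Z ∈ irreducibleComponents ↥X),
      (p ⁻¹' {hZ.1.genericPoint}).Finite := by
    intro Z hZ
    obtain ⟨φ, hφ, hfd⟩ := hx Z hZ
    exact Set.finite_of_encard_le_coe (fibre_encard_le_finrank f _ φ hφ hfd K)
  let E' : Set ↥(FBase.bc f K) := ⋃ Z : ↥(irreducibleComponents ↥X), p ⁻¹' {Z.2.1.genericPoint}
  have hE' : E'.Finite := Set.finite_iUnion (fun Z => hfib Z.1 Z.2)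
  have hgp : ∀ T' : ↥(irreducibleComponents ↥(FBase.bc f K)), ∃ η, IsGenericPoint η T'.1 :=
    fun T' => QuasiSober.sober T'.2.1 (isClosed_of_mem_irreducibleComponents _ T'.2)
  choose η hη using hgp
  have hηE' : ∀ T', η T' ∈ E' := by
    intro T'
    obtain ⟨Z, hZ, hsub⟩ := exists_mem_irreducibleComponents_subset_of_isIrreducible (p '' T'.1)
      (T'.2.1.image p p.continuous.continuousOn)
    have hξ : IsGenericPoint hZ.1.genericPoint Z :=
      hZ.1.isGenericPoint_genericPoint (isClosed_of_mem_irreducibleComponents Z hZ)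
    have h1 := map_genericPoint_of_component f K hZ hξ T'.2 hsub (hη T')
    exact Set.mem_iUnion.mpr ⟨⟨Z, hZ⟩, h1⟩
  have hηinj : Function.Injective η := by
    intro T₁ T₂ h
    apply Subtype.ext
    rw [← (hη T₁).def, ← (hη T₂).def, h]
  haveI : Finite ↥E' := hE'.to_subtype
  haveI : Finite ↥(irreducibleComponents ↥(FBase.bc f K)) :=
    Finite.of_injective (fun T' => (⟨η T', hηE' T'⟩ : ↥E'))
      (fun T₁ T₂ h => hηinj (congrArg Subtype.val h))
  have hE : (Set.range η).Finite := Set.finite_range η
  have hEinv : ∀ (T' : ↥(irreducibleComponents ↥(FBase.bc f K))) (σ : K ≃ₐ[k] K),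
      (bcHom f (σ : K →ₐ[k] K)) (η T') ∈ Set.range η := by
    intro T' σ
    have hc := image_mem_irreducibleComponents_bcHom f σ T'.2
    exact ⟨⟨_, hc⟩, (hη ⟨_, hc⟩).eq (isGenericPoint_bcHom f σ (hη T'))⟩
  choose Lf hLf hfix using fun T' => exists_level_fixing f K (Set.range η) hE (η T') (hEinv T')
  haveI : ∀ T', FiniteDimensional k (Lf T') := hLf
  let L : IntermediateField k K := ⨆ T', Lf T'
  have hLfix : ∀ σ : K ≃ₐ[k] K, (∀ x ∈ L, σ x = x) →
      ∀ T' ∈ irreducibleComponents ↥(FBase.bc f K), (bcHom f (σ : K →ₐ[k] K)) '' T' = T' := by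
    intro σ hσ T' hT'
    have h1 := hfix ⟨T', hT'⟩ σ (fun x hx => hσ x (le_iSup Lf ⟨T', hT'⟩ hx))
    have h2 := isGenericPoint_bcHom f σ (hη ⟨T', hT'⟩)
    rw [h1] at h2
    exact h2.def.symm.trans (hη ⟨T', hT'⟩).def
  refine ⟨↥L, inferInstance, inferInstance, inferInstance, inferInstance, ?_⟩
  intro K' _ _ Z' hZ'
  have h1 := isIrreducible_preimage_of_fixed f K L hLfix Z' hZ'
  exact isIrreducible_preimage_of_isSepClosed (FBase.bcStr f ↥L) Z'
    (isClosed_of_mem_irreducibleComponents Z' hZ') K h1 K'

end Groth.Agent.S4646
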