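import Groth.Statements.S4647
import Mathlib

set_option autoImplicit false
open CategoryTheory AlgebraicGeometry
universe u
open FDesc

namespace Groth.Agent.S4647

theorem stalkMap_injective {X Y : Scheme.{u}} (f : X ⟶ Y) [Flat f] (x : X) :
    Function.Injective (f.stalkMap x).hom := by
  algebraize [(f.stalkMap x).hom]
  have : Module.FaithfullyFlat (Y.presheaf.stalk (f x)) (X.presheaf.stalk x) :=
    @Module.FaithfullyFlat.of_flat_of_isLocalHom _ _ _ _ _ _ _
      (Flat.stalkMap f x) (f.toLRSHom.prop x)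
  exact ‹RingHom.FaithfullyFlat _›.injective

theorem exists_integral_nbhd {Y : Scheme.{u}} (hdom : ∀ y : Y, IsDomain (Y.presheaf.stalk y))
    (U : Y.Opens) [TopologicalSpace.NoetherianSpace ↥U] (y : Y) (hy : y ∈ U) :
    ∃ W : Y.Opens, y ∈ W ∧ IsIntegral (W : Scheme.{u}) := by
  classical
  haveI := hdom y
  let η : Y := (Y.fromSpecStalk y) (⟨⊥, Ideal.bot_prime⟩ : PrimeSpectrum (Y.presheaf.stalk y))
  have hη : ∀ z : Y, z ⤳ y → η ⤳ z := by
    intro z hz
    have : z ∈ Set.range (Y.fromSpecStalk y) := by rw [Scheme.range_fromSpecStalk]; exact hz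
    obtain ⟨p, rfl⟩ := this
    apply Specializes.map _ (Y.fromSpecStalk y).continuous
    refine (PrimeSpectrum.le_iff_specializes _ _).mp ?_
    show (⊥ : Ideal (Y.presheaf.stalk y)) ≤ PrimeSpectrum.asIdeal p
    exact bot_le
  set Z : Set Y := closure {η} with hZ
  obtain ⟨S, hSirr, hStop⟩ := TopologicalSpace.NoetherianSpace.exists_finset_irreducible
    (⊤ : TopologicalSpace.Closeds ↥U)
  let C : TopologicalSpace.Closeds ↥U → Set Y := fun k => closure (Subtype.val '' (k : Set ↥U))
  have hCirr : ∀ k ∈ S, IsIrreducible (C k) := fun k hk =>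
    ((hSirr ⟨k, hk⟩).image Subtype.val continuous_subtype_val.continuousOn).closure
  have hCZ : ∀ k ∈ S, y ∈ C k → C k ⊆ Z := by
    intro k hk hyk
    obtain ⟨ξ, hξ⟩ := QuasiSober.sober (hCirr k hk) isClosed_closure
    have h1 : ξ ⤳ y := by
      rw [specializes_iff_mem_closure, hξ.def]; exact hyk
    have h2 : η ⤳ ξ := hη ξ h1
    rw [← hξ.def]
    exact closure_minimal (Set.singleton_subset_iff.mpr (specializes_iff_mem_closure.mp h2))
      isClosed_closure
  let T : Set Y := ⋃ k ∈ {k : TopologicalSpace.Closeds ↥U | k ∈ S ∧ y ∉ C k}, C k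
  have hTcl : IsClosed T :=
    Set.Finite.isClosed_biUnion (S.finite_toSet.subset fun k hk => hk.1) fun k _ => isClosed_closure
  have hyT : y ∉ T := by
    intro hyT
    obtain ⟨k, hk, hyk⟩ := Set.mem_iUnion₂.mp hyT
    exact hk.2 hyk
  let W : Y.Opens := ⟨(U : Set Y) ∩ Tᶜ, U.isOpen.inter hTcl.isOpen_compl⟩
  have hyW : y ∈ W := ⟨hy, hyT⟩
  have hWZ : (W : Set Y) ⊆ Z := by
    rintro w ⟨hwU, hwT⟩
    have hmem : (⟨w, hwU⟩ : ↥U) ∈ ((S.sup id : TopologicalSpace.Closeds ↥U) : Set ↥U) := by
      rw [← hStop]; simp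
    simp only [TopologicalSpace.Closeds.coe_finset_sup, Finset.sup_set_eq_biUnion, Set.mem_iUnion,
      Function.comp_apply, id, exists_prop] at hmem
    obtain ⟨k, hk, hwk⟩ := hmem
    have hwC : w ∈ C k := subset_closure ⟨⟨w, hwU⟩, hwk, rfl⟩
    by_cases hyk : y ∈ C k
    · exact hCZ k hk hyk hwC
    · exact absurd (Set.mem_biUnion (show k ∈ {k | k ∈ S ∧ y ∉ C k} from ⟨hk, hyk⟩) hwC) hwT
  have hWirr : IsIrreducible (W : Set Y) :=
    ⟨⟨y, hyW⟩, (isIrreducible_singleton.closure).isPreirreducible.open_subset W.isOpen hWZ⟩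
  haveI : IrreducibleSpace (W : Scheme.{u}) := Subtype.irreducibleSpace hWirr
  haveI : ∀ z : Y, _root_.IsReduced (Y.presheaf.stalk z) := fun z => by
    haveI := hdom z; infer_instance
  haveI : IsReduced Y := isReduced_of_isReduced_stalk Y
  exact ⟨W, hyW, isIntegral_of_irreducibleSpace_of_isReduced _⟩

/-- Let f : X → Y be a faithfully flat (flat and surjective) morphism. If all local rings of X are
domains (in particular if X is locally integral) and the underlying space of Y is locally
Noetherian, then Y is locally integral: every point of Y has an open neighbourhood which is an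
integral scheme. -/
theorem result {X Y : Scheme.{u}} (f : X ⟶ Y) [Flat f] [Surjective f]
    (hX : ∀ x : X, IsDomain ↑(X.presheaf.stalk x))
    (hY : ∀ y : Y, ∃ U : Y.Opens, y ∈ U ∧ TopologicalSpace.NoetherianSpace ↥U) (y : Y) :
    ∃ U : Y.Opens, y ∈ U ∧ IsIntegral (U : Scheme.{u}) := by

  obtain ⟨U, hyU, hU⟩ := hY y
  haveI := hU
  have hYdom : ∀ y : Y, IsDomain (Y.presheaf.stalk y) := by
    intro y
    obtain ⟨x, rfl⟩ := f.surjective y
    haveI := hX x
    exact (stalkMap_injective f x).isDomain _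
  exact exists_integral_nbhd hYdom U y hyU

end Groth.Agent.S4647
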