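import Groth.Statements.S4648
import Mathlib
import Groth.Agent.S4586
import Groth.Agent.Lib.Helper11.QFlat2
import Groth.Agent.Lib.Helper26.ProConsSch
set_option linter.style.haveILetI false

set_option autoImplicit false
open CategoryTheory AlgebraicGeometry
universe u
open FDesc

namespace Groth.Agent.S4648

/-- Let f : X → Y be a quasi-flat, surjective and quasi-compact morphism and Z a subset of Y. Then Z is
a locally closed pro-constructible subset of Y if and only if f⁻¹(Z) is a locally closed
pro-constructible subset of X. -/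
theorem result {X Y : Scheme.{u}} (f : X ⟶ Y)
    (hf : FDesc.IsQuasiFlat f) [Surjective f] [QuasiCompact f] (Z : Set ↥Y) :
    (IsLocallyClosed Z ∧ ProCons.IsProConstructible Z) ↔
      (IsLocallyClosed (⇑f ⁻¹' Z) ∧ ProCons.IsProConstructible (⇑f ⁻¹' Z)) := by
  classical
  have hq := Groth.Agent.Lib.Helper11.QFlat.isQuotientMap_of_isQuasiFlat f hf
  have hg := Groth.Agent.Lib.Helper11.QFlat.generalizingMap f hf
  have hpc := (Groth.Agent.S4586.result f (Or.inl inferInstance) Z).2.1
  have key : ∀ hZ : ProCons.IsProConstructible Z,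
      closure (⇑f ⁻¹' Z) = ⇑f ⁻¹' closure Z := by
    intro hZ
    apply Set.Subset.antisymm
    · exact f.base.hom.continuous.closure_preimage_subset Z
    · intro x hx
      obtain ⟨z, hz, hzx⟩ :=
        Groth.Agent.Lib.Helper26.ProConsSch.exists_specializes_of_mem_closure hZ hx
      obtain ⟨x', hx', hfx'⟩ := hg hzx
      have h1 : x ∈ closure ({x'} : Set X) := hx'.mem_closure
      have h2 : ({x'} : Set X) ⊆ ⇑f ⁻¹' Z := by
        intro w hw
        rw [Set.mem_singleton_iff] at hw
        subst hw
        show f.base w ∈ Z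
        rw [hfx']
        exact hz
      exact closure_mono h2 h1
  constructor
  · rintro ⟨h1, h2⟩
    exact ⟨h1.preimage f.base.hom.continuous, hpc.mp h2⟩
  · rintro ⟨h1, h2⟩
    have hZ : ProCons.IsProConstructible Z := hpc.mpr h2
    refine ⟨?_, hZ⟩
    have hco : coborder (⇑f ⁻¹' Z) = ⇑f ⁻¹' coborder Z := by
      simp only [coborder, key hZ]
      rfl
    have h3 : IsOpen (coborder (⇑f ⁻¹' Z)) := h1.isOpen_coborder
    rw [hco] at h3
    have h4 : IsOpen (coborder Z) := hq.isOpen_preimage.mp h3
    exact isLocallyClosed_iff_isOpen_coborder.mpr h4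

end Groth.Agent.S4648
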