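import Groth.Statements.S4650
import Mathlib

set_option autoImplicit false
open CategoryTheory AlgebraicGeometry
universe u
open FDesc

namespace Groth.Agent.S4650

/-- Let f : X → Y be a morphism of schemes along which generizations lift (this holds for flat,
quasi-flat or open morphisms). Then every irreducible component of X dominates an irreducible
component of Y: the closure of its image is an irreducible component of Y. -/
theorem result {X Y : Scheme.{u}} (f : X ⟶ Y)
    (hf : GeneralizingMap ⇑f) (T : Set ↥X) (hT : T ∈ irreducibleComponents ↥X) :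
    closure (⇑f '' T) ∈ irreducibleComponents ↥Y := by
  have hcont : Continuous ⇑f := f.continuous
  have hTirr : IsIrreducible T := hT.1
  have hTcl : IsClosed T := isClosed_of_mem_irreducibleComponents T hT
  obtain ⟨ξ, hξ⟩ := QuasiSober.sober hTirr hTcl
  have hξT : closure {ξ} = T := hξ
  have hirr : IsIrreducible (closure (⇑f '' T)) := (hTirr.image _ hcont.continuousOn).closure
  refine ⟨hirr, ?_⟩
  intro Z hZ hle
  obtain ⟨ζ, hζ⟩ := QuasiSober.sober hZ.closure isClosed_closure
  have hζZ : closure {ζ} = closure Z := hζ
  have hξmem : ξ ∈ T := by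
    rw [← hξT]
    exact subset_closure (Set.mem_singleton ξ)
  have h1 : f ξ ∈ closure ({ζ} : Set ↥Y) := by
    rw [hζZ]
    exact subset_closure (hle (subset_closure (Set.mem_image_of_mem _ hξmem)))
  have hspec : ζ ⤳ f ξ := specializes_iff_mem_closure.mpr h1
  obtain ⟨ξ', hξ', hfξ'⟩ := hf hspec
  have h2 : T ⊆ closure {ξ'} := by
    rw [← hξT]
    exact specializes_iff_closure_subset.mp hξ'
  have h3 : closure {ξ'} ⊆ T := hT.2 (isIrreducible_singleton.closure) h2
  have h4 : ξ' ∈ T := h3 (subset_closure (Set.mem_singleton ξ'))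
  have h5 : ζ ∈ closure (⇑f '' T) := subset_closure ⟨ξ', h4, hfξ'⟩
  show Z ⊆ closure (⇑f '' T)
  calc Z ⊆ closure Z := subset_closure
    _ = closure {ζ} := hζZ.symm
    _ ⊆ closure (⇑f '' T) :=
        closure_minimal (Set.singleton_subset_iff.mpr h5) isClosed_closure

end Groth.Agent.S4650
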