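import Groth.Statements.S4651
import Mathlib
import Groth.Agent.S4650

set_option autoImplicit false
open CategoryTheory AlgebraicGeometry
universe u
open FDesc

namespace Groth.Agent.S4651

/-- Let Y be a scheme whose family of irreducible components is locally finite (every point has an open
neighbourhood meeting only finitely many irreducible components), and let f : X → Y be a morphism
along which generizations lift (e.g. flat, quasi-flat or open) such that every fibre f⁻¹(y) is a
finite set (e.g. f quasi-finite or radicial). Then the family of irreducible components of X is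
locally finite. -/
theorem result {X Y : Scheme.{u}} (f : X ⟶ Y)
    (hY : ∀ y : Y, ∃ U : Set ↥Y, IsOpen U ∧ y ∈ U ∧ {Z ∈ irreducibleComponents ↥Y | (Z ∩ U).Nonempty}.Finite)
    (hf : GeneralizingMap ⇑f) (hfin : ∀ y : Y, (⇑f ⁻¹' {y}).Finite) (x : X) :
    ∃ U : Set ↥X, IsOpen U ∧ x ∈ U ∧ {T ∈ irreducibleComponents ↥X | (T ∩ U).Nonempty}.Finite := by
  classical
  have hcont : Continuous ⇑f := f.continuous
  obtain ⟨U, hUo, hyU, hSfin⟩ := hY (f x)
  refine ⟨⇑f ⁻¹' U, hUo.preimage hcont, hyU, ?_⟩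
  have hF : {ξ : ↥X | closure {f ξ} ∈ {Z ∈ irreducibleComponents ↥Y | (Z ∩ U).Nonempty}}.Finite := by
    have hsub : {ξ : ↥X | closure {f ξ} ∈ {Z ∈ irreducibleComponents ↥Y | (Z ∩ U).Nonempty}} ⊆
        ⋃ Z ∈ {Z ∈ irreducibleComponents ↥Y | (Z ∩ U).Nonempty}, {ξ : ↥X | closure {f ξ} = Z} := by
      intro ξ hξ
      simp only [Set.mem_iUnion, Set.mem_setOf_eq]
      exact ⟨_, hξ, rfl⟩
    refine Set.Finite.subset (Set.Finite.biUnion hSfin ?_) hsub
    intro Z _
    by_cases hne : {ξ : ↥X | closure {f ξ} = Z}.Nonempty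
    · obtain ⟨ξ₀, hξ₀⟩ := hne
      refine (hfin (f ξ₀)).subset ?_
      intro ξ hξ
      have h1 : closure {f ξ} = closure {f ξ₀} := Eq.trans hξ (Eq.symm hξ₀)
      have h2 : f ξ = f ξ₀ :=
        IsGenericPoint.eq (h1 : IsGenericPoint (f ξ) (closure {f ξ₀}))
          (rfl : IsGenericPoint (f ξ₀) (closure {f ξ₀}))
      exact h2
    · rw [Set.not_nonempty_iff_eq_empty] at hne
      rw [hne]
      exact Set.finite_empty
  refine Set.Finite.subset (hF.image (fun ξ => closure {ξ})) ?_
  rintro T ⟨hT, hTV⟩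
  obtain ⟨ξ, hξ⟩ := QuasiSober.sober hT.1 (isClosed_of_mem_irreducibleComponents T hT)
  have hξT : closure {ξ} = T := hξ
  refine ⟨ξ, ?_, hξT⟩
  have hcomp := Groth.Agent.S4650.result f hf T hT
  have hcl : closure (⇑f '' T) = closure {f ξ} := by
    rw [← hξT, closure_image_closure hcont, Set.image_singleton]
  obtain ⟨t, htT, htV⟩ := hTV
  have hξV : ξ ∈ ⇑f ⁻¹' U := by
    have hspec : ξ ⤳ t := specializes_iff_mem_closure.mpr (by rw [hξT]; exact htT)
    exact hspec.mem_open (hUo.preimage hcont) htV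
  show closure {f ξ} ∈ {Z ∈ irreducibleComponents ↥Y | (Z ∩ U).Nonempty}
  rw [← hcl]
  refine ⟨hcomp, ⟨f ξ, ?_, hξV⟩⟩
  rw [hcl]
  exact subset_closure (Set.mem_singleton _)

end Groth.Agent.S4651
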