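import Groth.Statements.S4652
import Groth.Agent.Lib.Helper3.LocFreeCrit
import Groth.Agent.Lib.Helper3.QCProps

set_option autoImplicit false
open CategoryTheory AlgebraicGeometry
universe u
open FDesc

namespace Groth.Agent.S4652

open Groth.Agent.Lib.Helper3 in
theorem finite_stalk4652 {X : Scheme.{u}} (M : X.Modules) [M.IsQuasicoherent]
    [SheafOfModules.IsFinitePresentation (R := X.ringCatSheaf) M] (x : X) :
    Module.Finite (X.presheaf.stalk x) (M.presheaf.stalk x) := by
  obtain ⟨U, hU, hxU⟩ := QCProps.exists_affine_nbhd x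
  obtain ⟨i1, i2, i3, i4, g, h1, h2, h3⟩ := QS.exists_isLocalizedModule hU M x hxU
  have := QCProps.finitePresentation_sections M hU
  exact Module.Finite.of_isLocalizedModule (hU.primeIdealOf ⟨x, hxU⟩).asIdeal.primeCompl g

open Groth.Agent.Lib.Helper3 Groth.Agent.Lib.Helper3.FreeBasis in
theorem free_stalk_of_isBasis4652 {X : Scheme.{u}} (M : X.Modules) [M.IsQuasicoherent]
    {W : X.Opens} {n : ℕ} {e : Fin n → Γ(M, W)} (he : IsBasis M W e) (x : X) (hx : x ∈ W) :
    Module.Free (X.presheaf.stalk x) (M.presheaf.stalk x) := by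
  obtain ⟨_, ⟨V', hV', rfl⟩, hxV, hVW'⟩ :=
    X.isBasis_affineOpens.exists_subset_of_mem_open (show x ∈ (W : Set X) from hx) W.2
  have hV' : IsAffineOpen V' := hV'
  have hVW' : V' ≤ W := hVW'
  rw [LocFreeCrit.free_stalk_iff_mem_freeLocus M hV' x hxV]
  let b := NormAlg.basisOfBijective _ (he V' hVW')
  have : Module.Free Γ(X, V') Γ(M, V') := Module.Free.of_basis b
  have : Module.Finite Γ(X, V') Γ(M, V') := Module.Finite.of_basis b
  have h3 : Module.freeLocus Γ(X, V') Γ(M, V') = Set.univ := Module.freeLocus_eq_univ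
  rw [h3]
  exact Set.mem_univ _

open Groth.Agent.Lib.Helper3 in
set_option backward.isDefEq.respectTransparency.types false in

/-- Let X be a scheme, F a finitely presented O_X-module and x a point of X. Then F_x is a flat module
over the local ring O_{X,x} if and only if x has an open neighbourhood U such that the restriction
of F to U is finite locally free. -/
theorem result {X : Scheme.{u}} (F : X.Modules) (hF : CohB1.IsFP F) (x : X) :
    FlatMod.IsFlatAt F x ↔ ∃ U : X.Opens, x ∈ U ∧ FlatMod.IsFinLocFree ((Scheme.Modules.pullback U.ι).obj F) := by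
  have : SheafOfModules.IsFinitePresentation (R := X.ringCatSheaf) F := hF
  have hiso : ∀ U : X.Opens, FlatMod.IsFinLocFree ((Scheme.Modules.pullback U.ι).obj F) ↔
      FlatMod.IsFinLocFree (F.restrict U.ι) := fun U =>
    ⟨LocFreeCrit.isFinLocFree_of_iso ((Scheme.Modules.restrictFunctorIsoPullback U.ι).app F).symm,
      LocFreeCrit.isFinLocFree_of_iso ((Scheme.Modules.restrictFunctorIsoPullback U.ι).app F)⟩
  constructor
  · intro hflat
    have := finite_stalk4652 F x
    have : Module.Flat (X.presheaf.stalk x) (F.presheaf.stalk x) := hflat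
    have hfree : Module.Free (X.presheaf.stalk x) (F.presheaf.stalk x) :=
      Module.free_of_flat_of_isLocalRing
    obtain ⟨U, hU, hxU⟩ := QCProps.exists_affine_nbhd x
    have := QCProps.finitePresentation_sections F hU
    obtain ⟨f, r, e, hxf, he⟩ := LocFreeCrit.exists_isBasis_of_mem_freeLocus F hU x hxU
      ((LocFreeCrit.free_stalk_iff_mem_freeLocus F hU x hxU).mp hfree)
    refine ⟨X.basicOpen f, hxf, (hiso _).mpr ?_⟩
    rw [LocFreeCrit.isFinLocFree_restrict_iff]
    intro y hy
    exact ⟨X.basicOpen f, r, e, hy, le_rfl, he⟩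
  · rintro ⟨U, hxU, h⟩
    rw [hiso, LocFreeCrit.isFinLocFree_restrict_iff] at h
    obtain ⟨W, n, e, hxW, hWU, he⟩ := h x hxU
    have := free_stalk_of_isBasis4652 F he x hxW
    change Module.Flat (X.presheaf.stalk x) (F.presheaf.stalk x)
    infer_instance

end Groth.Agent.S4652
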