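import Groth.Statements.S4654
import Mathlib
import Groth.Agent.Lib.Helper17.StalkExact
import Groth.Agent.Lib.Helper3.FlatSES

set_option autoImplicit false
open CategoryTheory AlgebraicGeometry
universe u
open FDesc

namespace Groth.Agent.S4654

open Groth.Agent.Lib.Helper17.StalkExact in
theorem flat_iff_aux {X Y : Scheme.{u}} (f : X ⟶ Y) (S : ShortComplex X.Modules)
    (hS : S.ShortExact) (x : X) (hflat : FlatMod.IsFlatOverAt f S.X₃ x) :
    FlatMod.IsFlatOverAt f S.X₂ x ↔ FlatMod.IsFlatOverAt f S.X₁ x := by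
  haveI := hS.mono_f
  haveI := hS.epi_g
  letI : Algebra (Y.presheaf.stalk (f.base x)) (X.presheaf.stalk x) :=
    (f.stalkMap x).hom.toAlgebra
  letI m1 : Module (Y.presheaf.stalk (f.base x)) (S.X₁.presheaf.stalk x) :=
    FlatMod.moduleStalkOver f S.X₁ x
  letI m2 : Module (Y.presheaf.stalk (f.base x)) (S.X₂.presheaf.stalk x) :=
    FlatMod.moduleStalkOver f S.X₂ x
  letI m3 : Module (Y.presheaf.stalk (f.base x)) (S.X₃.presheaf.stalk x) :=
    FlatMod.moduleStalkOver f S.X₃ x
  haveI : IsScalarTower (Y.presheaf.stalk (f.base x)) (X.presheaf.stalk x)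
      (S.X₁.presheaf.stalk x) := IsScalarTower.of_algebraMap_smul fun r y => rfl
  haveI : IsScalarTower (Y.presheaf.stalk (f.base x)) (X.presheaf.stalk x)
      (S.X₂.presheaf.stalk x) := IsScalarTower.of_algebraMap_smul fun r y => rfl
  haveI : IsScalarTower (Y.presheaf.stalk (f.base x)) (X.presheaf.stalk x)
      (S.X₃.presheaf.stalk x) := IsScalarTower.of_algebraMap_smul fun r y => rfl
  haveI h3 : Module.Flat (Y.presheaf.stalk (f.base x)) (S.X₃.presheaf.stalk x) := hflat
  have hinj : Function.Injective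
      ((stalkLin S.f x).restrictScalars (Y.presheaf.stalk (f.base x))) :=
    stalkLin_injective S.f x
  have hsurj : Function.Surjective
      ((stalkLin S.g x).restrictScalars (Y.presheaf.stalk (f.base x))) :=
    stalkLin_surjective S.g x
  have hex : Function.Exact ((stalkLin S.f x).restrictScalars (Y.presheaf.stalk (f.base x)))
      ((stalkLin S.g x).restrictScalars (Y.presheaf.stalk (f.base x))) :=
    stalkLin_exact S hS.exact x
  constructor
  · intro h2
    haveI : Module.Flat (Y.presheaf.stalk (f.base x)) (S.X₂.presheaf.stalk x) := h2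
    exact Groth.Agent.Lib.Helper3.flat_of_exact_left _ _ hinj hex hsurj
  · intro h1
    haveI : Module.Flat (Y.presheaf.stalk (f.base x)) (S.X₁.presheaf.stalk x) := h1
    exact Groth.Agent.Lib.Helper3.flat_of_exact _ _ hinj hex hsurj

/-- Let f : X → Y be a morphism of schemes and 0 → F' → F → F'' → 0 a short exact sequence of
quasi-coherent O_X-modules such that F'' is flat over Y. Then F is flat over Y if and only if F' is
flat over Y. -/
theorem result {X Y : Scheme.{u}} (f : X ⟶ Y) (S : ShortComplex X.Modules)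
    (hS : S.ShortExact) (h₁ : Coh.IsQCoh S.X₁) (h₂ : Coh.IsQCoh S.X₂) (h₃ : Coh.IsQCoh S.X₃)
    (hflat : FlatMod.IsFlatOver f S.X₃) :
    FlatMod.IsFlatOver f S.X₂ ↔ FlatMod.IsFlatOver f S.X₁ := by
  exact forall_congr' fun x => flat_iff_aux f S hS x (hflat x)

end Groth.Agent.S4654
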