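import Groth.Statements.S4663
-- import your own Groth.Agent.* helpers here
import Mathlib
import Groth.Agent.Lib.Helper12.BaseChange3

set_option autoImplicit false
open CategoryTheory AlgebraicGeometry
universe u
open FBase

namespace Groth.Agent.S4663

open Groth.Agent.Lib.Helper12 Groth.Agent.Lib.Helper12.SchemeDimFT in
theorem aux {k K : Type u} [Field k] [Field K] [Algebra k K]
    (X : Scheme.{u}) [X.Over (Spec (CommRingCat.of k))]
    [LocallyOfFiniteType (X ↘ Spec (CommRingCat.of k))]
    (Z : Set ↥X) (hZc : IsClosed Z) (hZi : IsIrreducible Z)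
    (W : Set ↥(⇑(Curv2.bcFst k X K) ⁻¹' Z))
    (hW : W ∈ irreducibleComponents ↥(⇑(Curv2.bcFst k X K) ⁻¹' Z)) :
    topologicalKrullDim ↥W = topologicalKrullDim ↥Z := by
  letI : (Curv2.bc k X K).Over (Spec (CommRingCat.of K)) := ⟨Curv2.bcSnd k X K⟩
  have hPc : IsClosed (⇑(Curv2.bcFst k X K) ⁻¹' Z) := hZc.preimage (Curv2.bcFst k X K).continuous
  have hWirr : IsIrreducible W := hW.1
  have hWcl : IsClosed W := isClosed_of_mem_irreducibleComponents W hW
  have hW'cl : IsClosed (Subtype.val '' W : Set (Curv2.bc k X K)) :=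
    hPc.isClosedEmbedding_subtypeVal.isClosedMap _ hWcl
  have hW'irr : IsIrreducible (Subtype.val '' W : Set (Curv2.bc k X K)) :=
    hWirr.image _ continuous_subtype_val.continuousOn
  obtain ⟨η, hη⟩ := QuasiSober.sober hW'irr hW'cl
  obtain ⟨ξ, hξ⟩ := QuasiSober.sober hZi hZc
  have hηW : η ∈ (Subtype.val '' W : Set (Curv2.bc k X K)) := hη.mem
  obtain ⟨w, hwW, hwη⟩ := hηW
  have hηP : (Curv2.bcFst k X K) η ∈ Z := by rw [← hwη]; exact w.2
  have hsp : ξ ⤳ (Curv2.bcFst k X K) η := hξ.specializes hηP
  have hmax : ∀ y : Curv2.bc k X K, y ⤳ η → ξ ⤳ (Curv2.bcFst k X K) y → y = η := by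
    intro y hyη hξy
    have hyP : (Curv2.bcFst k X K) y ∈ Z := by
      rw [← hξ.def]
      exact specializes_iff_mem_closure.mp hξy
    let yP : ↥(⇑(Curv2.bcFst k X K) ⁻¹' Z) := ⟨y, hyP⟩
    have hSirr : IsIrreducible (closure ({yP} : Set ↥(⇑(Curv2.bcFst k X K) ⁻¹' Z))) :=
      isIrreducible_singleton.closure
    have hWS : W ⊆ closure ({yP} : Set ↥(⇑(Curv2.bcFst k X K) ⁻¹' Z)) := by
      intro p hp
      rw [← specializes_iff_mem_closure, subtype_specializes_iff]
      have h1 : (p : Curv2.bc k X K) ∈ (Subtype.val '' W : Set (Curv2.bc k X K)) := ⟨p, hp, rfl⟩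
      exact hyη.trans (hη.specializes h1)
    have h2 := hW.2 hSirr hWS
    have h3 : yP ∈ W := h2 (subset_closure rfl)
    have h4 : y ∈ (Subtype.val '' W : Set (Curv2.bc k X K)) := ⟨yP, h3, rfl⟩
    exact (hyη.antisymm (hη.specializes h4)).eq
  obtain ⟨-, htr⟩ := BaseChange.tr_eq_of_maximal_in_preimage k X K ξ η hsp hmax
  have h5 : topologicalKrullDim ↥W =
      topologicalKrullDim ↥(Subtype.val '' W : Set (Curv2.bc k X K)) :=
    IsHomeomorph.topologicalKrullDim_eq _
      (Topology.IsEmbedding.subtypeVal.homeomorphImage W).isHomeomorph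
  rw [h5, ← hη.def, ← hξ.def, topologicalKrullDim_closure_singleton K,
    topologicalKrullDim_closure_singleton k, htr]

/-- Let X be a scheme locally of finite type over a field k, K an extension field of k, and Z an
irreducible closed subset of X. Then every irreducible component of the inverse image of Z in X ⊗_k
K has the same dimension as Z (Krull dimensions of the underlying topological spaces, valued in
WithBot ℕ∞). (In the published statement Z is a cycle associated to a quasi-coherent O_X-module,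
with its reduced subscheme structure, and the components are those of Z ⊗_k K; such cycles are
exactly the irreducible closed subsets of X, and Z ⊗_k K has the inverse image of Z as underlying
space.) -/
theorem result {k K : Type u} [Field k] [Field K] [Algebra k K]
    {X : Scheme.{u}} (f : X ⟶ Spec (CommRingCat.of k)) [LocallyOfFiniteType f]
    (Z : Set ↥X) (hZc : IsClosed Z) (hZi : IsIrreducible Z)
    (W : Set ↥(⇑(FBase.bcπ f K) ⁻¹' Z)) (hW : W ∈ irreducibleComponents ↥(⇑(FBase.bcπ f K) ⁻¹' Z)) :
    topologicalKrullDim ↥W = topologicalKrullDim ↥Z := by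
  letI : X.Over (Spec (CommRingCat.of k)) := ⟨f⟩
  haveI : LocallyOfFiniteType (X ↘ Spec (CommRingCat.of k)) := ‹LocallyOfFiniteType f›
  exact aux X Z hZc hZi W hW

end Groth.Agent.S4663
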