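import Groth.Statements.S4664
import Groth.Agent.Lib.Helper6.GeomDescent

set_option autoImplicit false
open CategoryTheory AlgebraicGeometry
universe u
open FBase

namespace Groth.Agent.S4664

open CategoryTheory.Limits in
/-- Let f : X → Y and g : Y' → Y be morphisms of schemes with g surjective, and let f' : X ×_Y Y' → Y'
be the base change of f. If every fibre of f' is geometrically irreducible, then every fibre of f is
geometrically irreducible. -/
theorem result {X Y Y' : Scheme.{u}} (f : X ⟶ Y)
    (g : Y' ⟶ Y) [Surjective g] [GeometricallyIrreducible (pullback.snd f g)] : GeometricallyIrreducible f := by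
  have h := (inferInstance : GeometricallyIrreducible (pullback.snd f g)).geometrically_irreducibleSpace
  refine ⟨Groth.Agent.Lib.Helper6.GeomDescent.geometrically_of_surjective_pullback _ ?_ f g h⟩
  intro A B hAB hs hA
  have hA' : IrreducibleSpace ↥A := hA
  show IrreducibleSpace ↥B
  have huniv : IsIrreducible (Set.univ : Set ↥B) := by
    rw [← Set.image_univ_of_surjective hs.surj]
    exact (IrreducibleSpace.isIrreducible_univ ↥A).image _ hAB.continuous.continuousOn
  exact (irreducibleSpace_def ↥B).mpr huniv

end Groth.Agent.S4664
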