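import Groth.Statements.S4666
import Groth.Agent.Lib.Helper6.SchDom

set_option autoImplicit false
open CategoryTheory AlgebraicGeometry
universe u
open FDesc

namespace Groth.Agent.S4666

/-- Let f : X → Y be a flat and surjective morphism of schemes. Then the map sending a quasi-coherent
sheaf of ideals of O_Y (a closed subscheme of Y) to its inverse image in X is injective. -/
theorem result {X Y : Scheme.{u}} (f : X ⟶ Y) [Flat f] [Surjective f] :
    Function.Injective fun J : Y.IdealSheafData => J.comap f := by
  have key : ∀ J : Y.IdealSheafData, (J.comap f).map f = J := by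
    intro J
    haveI : Surjective (Limits.pullback.snd f J.subschemeι) :=
      MorphismProperty.pullback_snd (P := @Surjective) _ _ inferInstance
    have hk : (Limits.pullback.snd f J.subschemeι).ker = ⊥ :=
      Groth.Agent.Lib.Helper6.SchDom.ker_eq_bot_of_flat_of_surjective _
    have e : (J.comap f).subschemeι ≫ f =
        (J.comapIso f).hom ≫ (Limits.pullback.snd f J.subschemeι ≫ J.subschemeι) := by
      rw [← Limits.pullback.condition, Scheme.IdealSheafData.comapIso_hom_fst_assoc]
    show ((J.comap f).subschemeι ≫ f).ker = J
    rw [e, Scheme.Hom.ker_comp_of_isIso, Scheme.Hom.ker_comp, hk,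
      Scheme.IdealSheafData.map_bot, Scheme.IdealSheafData.ker_subschemeι]
  intro J₁ J₂ h12
  have h12' : J₁.comap f = J₂.comap f := h12
  rw [← key J₁, ← key J₂, h12']

end Groth.Agent.S4666
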