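import Groth.Statements.S4667
import Groth.Agent.Lib.Helper6.SchDom

set_option autoImplicit false
open CategoryTheory AlgebraicGeometry
universe u
open FDesc

namespace Groth.Agent.S4667

open CategoryTheory.Limits in
/-- Let f : X → Y be a quasi-compact morphism of schemes and g : Y' → Y a flat morphism, and let f' : X
×_Y Y' → Y' be the base change of f. Then the scheme-theoretic image of f' is the inverse image
under g of the scheme-theoretic image of f: the quasi-coherent ideal sheaf cutting out the former is
the pull-back along g of the one cutting out the latter. (One published statement is phrased for a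
quasi-compact and quasi-separated S-morphism f and a flat base change S′ → S, which reduces to this
case; quasi-compactness of f suffices.) -/
theorem result {X Y Y' : Scheme.{u}} (f : X ⟶ Y) (g : Y' ⟶ Y)
    [QuasiCompact f] [Flat g] :
    (pullback.snd f g).ker = f.ker.comap g := by
  haveI : IsSchemeTheoreticallyDominant f.toImage :=
    ⟨Groth.Agent.Lib.Helper6.SchDom.ker_toImage f⟩
  have top : IsPullback (pullback.fst f.toImage (pullback.snd g f.imageι))
      (pullback.snd f.toImage (pullback.snd g f.imageι)) f.toImage (pullback.snd g f.imageι) :=
    IsPullback.of_hasPullback _ _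
  have bot : IsPullback (pullback.snd g f.imageι) (pullback.fst g f.imageι) f.imageι g :=
    (IsPullback.of_hasPullback g f.imageι).flip
  have H := top.paste_vert bot
  rw [f.toImage_imageι] at H
  have hdom : (pullback.snd f.toImage (pullback.snd g f.imageι)).ker = ⊥ :=
    Scheme.Hom.ker_eq_bot _
  have e1 : pullback.snd f g = H.isoPullback.inv ≫
      (pullback.snd f.toImage (pullback.snd g f.imageι) ≫ pullback.fst g f.imageι) := by
    rw [Iso.eq_inv_comp]
    exact H.isoPullback_hom_snd
  rw [e1, Scheme.Hom.ker_comp_of_isIso, Scheme.Hom.ker_comp, hdom,
    Scheme.IdealSheafData.map_bot]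
  rfl

end Groth.Agent.S4667
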