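import Groth.Statements.S4672
import Groth.Agent.Lib.Helper6.ProdComp
import Groth.Agent.S4650

set_option autoImplicit false
open CategoryTheory AlgebraicGeometry
universe u
open FBase

namespace Groth.Agent.S4672

open CategoryTheory.Limits in
/-- Let X and Y be locally Noetherian schemes over a field k such that X ×_k Y is locally Noetherian,
with projections p and q. Then a subset W of X ×_k Y is an irreducible component of X ×_k Y if and
only if there exist an irreducible component X' of X and an irreducible component Y' of Y such that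
W is a maximal irreducible subset of p⁻¹(X') ∩ q⁻¹(Y') (that is, an irreducible component of the
space underlying X' ×_k Y' for the reduced structures on X' and Y'). -/
theorem result {k : Type u} [Field k] {X Y : Scheme.{u}}
    (f : X ⟶ Spec (CommRingCat.of k)) (g : Y ⟶ Spec (CommRingCat.of k)) [IsLocallyNoetherian X]
    [IsLocallyNoetherian Y] [IsLocallyNoetherian (pullback f g)] (W : Set ↥(pullback f g)) :
    W ∈ irreducibleComponents ↥(pullback f g) ↔
      ∃ X' ∈ irreducibleComponents ↥X, ∃ Y' ∈ irreducibleComponents ↥Y,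
        Maximal (fun V : Set ↥(pullback f g) => IsIrreducible V ∧ V ⊆ ⇑(pullback.fst f g) ⁻¹' X' ∩ ⇑(pullback.snd f g) ⁻¹' Y') W := by
  have hp : GeneralizingMap ⇑(pullback.fst f g) := Flat.generalizingMap _
  have hq : GeneralizingMap ⇑(pullback.snd f g) := Flat.generalizingMap _
  have hpc : Continuous ⇑(pullback.fst f g) := (pullback.fst f g).continuous
  have hqc : Continuous ⇑(pullback.snd f g) := (pullback.snd f g).continuous
  constructor
  · intro hW
    refine ⟨closure (⇑(pullback.fst f g) '' W), Groth.Agent.S4650.result _ hp W hW,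
      closure (⇑(pullback.snd f g) '' W), Groth.Agent.S4650.result _ hq W hW, ?_⟩
    refine ⟨⟨hW.1, fun w hw => ⟨subset_closure ⟨w, hw, rfl⟩, subset_closure ⟨w, hw, rfl⟩⟩⟩, ?_⟩
    intro V hV hWV
    exact hW.2 hV.1 hWV
  · rintro ⟨X', hX', Y', hY', hW⟩
    have hX'cl : IsClosed X' := isClosed_of_mem_irreducibleComponents X' hX'
    have hY'cl : IsClosed Y' := isClosed_of_mem_irreducibleComponents Y' hY'
    have hScl : IsClosed (⇑(pullback.fst f g) ⁻¹' X' ∩ ⇑(pullback.snd f g) ⁻¹' Y') :=
      (hX'cl.preimage hpc).inter (hY'cl.preimage hqc)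
    have hWirr : IsIrreducible W := hW.1.1
    have hWS : W ⊆ ⇑(pullback.fst f g) ⁻¹' X' ∩ ⇑(pullback.snd f g) ⁻¹' Y' := hW.1.2
    have hWcl : IsClosed W := by
      apply isClosed_of_closure_subset
      exact hW.2 ⟨hWirr.closure, closure_minimal hWS hScl⟩ subset_closure
    obtain ⟨w₀, hw₀⟩ := QuasiSober.sober hWirr hWcl
    have hw₀W : closure {w₀} = W := hw₀
    have hw₀mem : w₀ ∈ W := by
      rw [← hw₀W]
      exact subset_closure (Set.mem_singleton w₀)
    -- any generization of w₀ inside S lies in W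
    have hgenW : ∀ w₁ : ↥(pullback f g), w₁ ⤳ w₀ →
        w₁ ∈ ⇑(pullback.fst f g) ⁻¹' X' ∩ ⇑(pullback.snd f g) ⁻¹' Y' → w₁ ∈ W := by
      intro w₁ hspec hw₁S
      have h1 : W ⊆ closure {w₁} := by
        rw [← hw₀W]
        exact specializes_iff_closure_subset.mp hspec
      have h2 : closure {w₁} ⊆ W :=
        hW.2 ⟨isIrreducible_singleton.closure,
          closure_minimal (Set.singleton_subset_iff.mpr hw₁S) hScl⟩ h1
      exact h2 (subset_closure (Set.mem_singleton w₁))
    have claim1 : X' ⊆ closure (⇑(pullback.fst f g) '' W) := by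
      obtain ⟨ξ, hξ⟩ := QuasiSober.sober hX'.1 hX'cl
      have hξX' : closure {ξ} = X' := hξ
      have hξmem : ξ ∈ X' := by
        rw [← hξX']
        exact subset_closure (Set.mem_singleton ξ)
      have hspec : ξ ⤳ pullback.fst f g w₀ := by
        rw [specializes_iff_mem_closure, hξX']
        exact (hWS hw₀mem).1
      obtain ⟨w₁, hw₁, hpw₁, hqw₁⟩ :=
        Groth.Agent.Lib.Helper6.ProdComp.lift_gen_fst f g Y' hY'cl w₀ (hWS hw₀mem).2 ξ hspec
      have hw₁W : w₁ ∈ W := by
        refine hgenW w₁ hw₁ ⟨?_, hqw₁⟩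
        show pullback.fst f g w₁ ∈ X'
        rw [hpw₁]
        exact hξmem
      rw [← hξX']
      refine closure_minimal (Set.singleton_subset_iff.mpr ?_) isClosed_closure
      exact subset_closure ⟨w₁, hw₁W, hpw₁⟩
    have claim2 : Y' ⊆ closure (⇑(pullback.snd f g) '' W) := by
      obtain ⟨η, hη⟩ := QuasiSober.sober hY'.1 hY'cl
      have hηY' : closure {η} = Y' := hη
      have hηmem : η ∈ Y' := by
        rw [← hηY']
        exact subset_closure (Set.mem_singleton η)
      have hspec : η ⤳ pullback.snd f g w₀ := by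
        rw [specializes_iff_mem_closure, hηY']
        exact (hWS hw₀mem).2
      obtain ⟨w₁, hw₁, hqw₁, hpw₁⟩ :=
        Groth.Agent.Lib.Helper6.ProdComp.lift_gen_snd f g X' hX'cl w₀ (hWS hw₀mem).1 η hspec
      have hw₁W : w₁ ∈ W := by
        refine hgenW w₁ hw₁ ⟨hpw₁, ?_⟩
        show pullback.snd f g w₁ ∈ Y'
        rw [hqw₁]
        exact hηmem
      rw [← hηY']
      refine closure_minimal (Set.singleton_subset_iff.mpr ?_) isClosed_closure
      exact subset_closure ⟨w₁, hw₁W, hqw₁⟩
    refine ⟨hWirr, ?_⟩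
    intro V hV hWV
    have hVS : V ⊆ ⇑(pullback.fst f g) ⁻¹' X' ∩ ⇑(pullback.snd f g) ⁻¹' Y' := by
      have hX1 : closure (⇑(pullback.fst f g) '' V) ⊆ X' :=
        hX'.2 (hV.image _ hpc.continuousOn).closure
          (claim1.trans (closure_mono (Set.image_mono hWV)))
      have hY1 : closure (⇑(pullback.snd f g) '' V) ⊆ Y' :=
        hY'.2 (hV.image _ hqc.continuousOn).closure
          (claim2.trans (closure_mono (Set.image_mono hWV)))
      intro v hv
      exact ⟨hX1 (subset_closure ⟨v, hv, rfl⟩), hY1 (subset_closure ⟨v, hv, rfl⟩)⟩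
    exact hW.2 ⟨hV, hVS⟩ hWV

end Groth.Agent.S4672
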