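import Groth.Statements.S4674


set_option autoImplicit false
open scoped TensorProduct
universe u v w
open FDesc

namespace Groth.Agent.S4674

/-- Let B be a flat A-algebra and M a finitely presented A-module. Then the annihilator of the B-module
B ⊗_A M is the ideal of B generated by the image of the annihilator of M. -/
theorem result {A : Type u} {B : Type v} [CommRing A] [CommRing B] [Algebra A B]
    [Module.Flat A B] (M : Type w) [AddCommGroup M] [Module A M] [Module.FinitePresentation A M] :
    Module.annihilator B (B ⊗[A] M) = (Module.annihilator A M).map (algebraMap A B) := by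
  classical
  obtain ⟨n, s, hs⟩ := Module.Finite.exists_fin (R := A) (M := M)
  let φ : A →ₗ[A] (Fin n → M) := LinearMap.pi (fun i => LinearMap.toSpanSingleton A M (s i))
  have hφ : ∀ a i, φ a i = a • s i := fun a i => rfl
  have hker : ∀ a : A, a ∈ LinearMap.ker φ ↔ a ∈ Module.annihilator A M := by
    intro a
    rw [LinearMap.mem_ker, Module.mem_annihilator]
    constructor
    · intro h
      have key : ∀ m ∈ Submodule.span A (Set.range s), a • m = 0 := by
        intro m hm
        induction hm using Submodule.span_induction with
        | mem x hx =>
          obtain ⟨i, rfl⟩ := hx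
          have h1 := congrFun h i
          rw [hφ] at h1
          exact h1
        | zero => exact smul_zero a
        | add x y _ _ hx hy => rw [smul_add, hx, hy, add_zero]
        | smul c x _ hx => rw [smul_comm, hx, smul_zero]
      intro m
      exact key m (by rw [hs]; exact Submodule.mem_top)
    · intro h
      funext i
      rw [hφ]
      exact h (s i)
  apply le_antisymm
  · intro b hb
    rw [Module.mem_annihilator] at hb
    have hex := Module.Flat.lTensor_exact B (LinearMap.exact_subtype_ker_map φ)
    have h0 : (φ.lTensor B) (b ⊗ₜ[A] (1 : A)) = 0 := by
      apply (TensorProduct.piRight A B B (fun _ : Fin n => M)).injective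
      rw [map_zero, LinearMap.lTensor_tmul, TensorProduct.piRight_apply,
        TensorProduct.piRightHom_tmul]
      funext i
      have h1 := hb ((1 : B) ⊗ₜ[A] s i)
      rw [TensorProduct.smul_tmul', smul_eq_mul, mul_one] at h1
      rw [hφ, one_smul]
      exact h1
    obtain ⟨y, hy⟩ := (hex _).mp h0
    have key : ∀ y : B ⊗[A] (LinearMap.ker φ),
        TensorProduct.rid A B (((LinearMap.ker φ).subtype.lTensor B) y) ∈
          (Module.annihilator A M).map (algebraMap A B) := by
      intro y
      induction y using TensorProduct.induction_on with
      | zero => rw [map_zero, map_zero]; exact Ideal.zero_mem _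
      | tmul b' a =>
        rw [LinearMap.lTensor_tmul, TensorProduct.rid_tmul, Submodule.subtype_apply,
          Algebra.smul_def]
        exact Ideal.mul_mem_right _ _ (Ideal.mem_map_of_mem _ ((hker _).mp a.2))
      | add x y hx hy => rw [map_add, map_add]; exact Ideal.add_mem _ hx hy
    have h2 := key y
    rw [hy, TensorProduct.rid_tmul, one_smul] at h2
    exact h2
  · rw [Ideal.map_le_iff_le_comap]
    intro a ha
    rw [Ideal.mem_comap, Module.mem_annihilator]
    rw [Module.mem_annihilator] at ha
    intro t
    rw [algebraMap_smul]
    induction t using TensorProduct.induction_on with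
    | zero => exact smul_zero a
    | tmul b m => rw [← TensorProduct.tmul_smul, ha, TensorProduct.tmul_zero]
    | add x y hx hy => rw [smul_add, hx, hy, add_zero]

end Groth.Agent.S4674
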