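import Groth.Statements.S4675
import Mathlib

set_option autoImplicit false
universe u v
open FDesc

namespace Groth.Agent.S4675

/-- Let B be a ring, not necessarily commutative, and V, W two left B-modules which are isomorphic. For
a B-linear map u : V → W the following are equivalent: every B-linear map V → W can be written
uniquely as u ∘ c with c a B-linear endomorphism of V (that is, u is a basis of Hom_B(V, W) for its
right module structure over End_B(V)); u is bijective. -/
theorem result {B : Type u} [Ring B] {V W : Type v} [AddCommGroup V] [AddCommGroup W]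
    [Module B V] [Module B W] (e : V ≃ₗ[B] W) (u : V →ₗ[B] W) :
    (∀ v : V →ₗ[B] W, ∃! c : V →ₗ[B] V, v = u ∘ₗ c) ↔ Function.Bijective u := by
  constructor
  · intro h
    obtain ⟨c₀, hc₀, -⟩ := h e.toLinearMap
    have hsurj : Function.Surjective u := by
      intro w
      refine ⟨c₀ (e.symm w), ?_⟩
      have h1 := LinearMap.congr_fun hc₀ (e.symm w)
      rw [LinearEquiv.coe_coe, LinearEquiv.apply_symm_apply, LinearMap.comp_apply] at h1
      exact h1.symm
    refine ⟨?_, hsurj⟩
    have hp : u = u ∘ₗ (c₀ ∘ₗ e.symm.toLinearMap ∘ₗ u) := by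
      ext x
      have h1 := LinearMap.congr_fun hc₀ (e.symm (u x))
      rw [LinearEquiv.coe_coe, LinearEquiv.apply_symm_apply, LinearMap.comp_apply] at h1
      simp only [LinearMap.comp_apply, LinearEquiv.coe_coe]
      exact h1
    have hid : u = u ∘ₗ LinearMap.id := (LinearMap.comp_id u).symm
    obtain ⟨c₁, -, huniq⟩ := h u
    have h1 : (c₀ ∘ₗ e.symm.toLinearMap ∘ₗ u) = LinearMap.id :=
      (huniq _ hp).trans (huniq LinearMap.id hid).symm
    intro x y hxy
    have hx := LinearMap.congr_fun h1 x
    have hy := LinearMap.congr_fun h1 y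
    simp only [LinearMap.comp_apply, LinearEquiv.coe_coe, LinearMap.id_apply] at hx hy
    rw [← hx, ← hy, hxy]
  · intro hu v
    refine ⟨(LinearEquiv.ofBijective u hu).symm.toLinearMap ∘ₗ v, ?_, ?_⟩
    · ext x
      simp only [LinearMap.comp_apply, LinearEquiv.coe_coe]
      exact ((LinearEquiv.ofBijective u hu).apply_symm_apply (v x)).symm
    · intro c hc
      ext x
      simp only [LinearMap.comp_apply, LinearEquiv.coe_coe]
      rw [hc]
      simp only [LinearMap.comp_apply]
      exact ((LinearEquiv.ofBijective u hu).symm_apply_apply (c x)).symm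

end Groth.Agent.S4675
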