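import Groth.Statements.S4677
import Groth.Agent.Lib.Helper14.PerfectDescent

set_option autoImplicit false
open scoped TensorProduct
universe u
open FBase

namespace Groth.Agent.S4677

/-- Let K be a finitely generated extension field of a field k. Then there exists a finite purely
inseparable extension k' of k such that, for every maximal ideal m of the ring k' ⊗_k K, the residue
field (k' ⊗_k K)/m is geometrically reduced over k' (a separable, not necessarily algebraic,
extension of k'). -/
theorem result {k K : Type u} [Field k] [Field K] [Algebra k K]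
    [Algebra.EssFiniteType k K] :
    ∃ (k' : Type u) (_ : Field k') (_ : Algebra k k'), FiniteDimensional k k' ∧ IsPurelyInseparable k k' ∧
      ∀ (m : Ideal (k' ⊗[k] K)), m.IsMaximal → Algebra.IsGeometricallyReduced k' ((k' ⊗[k] K) ⧸ m) := by
  have hN : IsNoetherianRing (Groth.Agent.Lib.Helper14.PerfectDescent.Om k ⊗[k] K) := by
    haveI : Algebra.EssFiniteType (Groth.Agent.Lib.Helper14.PerfectDescent.Om k)
        (Groth.Agent.Lib.Helper14.PerfectDescent.Om k ⊗[k] K) := inferInstance
    exact Algebra.EssFiniteType.isNoetherianRing (Groth.Agent.Lib.Helper14.PerfectDescent.Om k)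
      (Groth.Agent.Lib.Helper14.PerfectDescent.Om k ⊗[k] K)
  obtain ⟨k', hF, hA, hfin, hpi, hgr⟩ :=
    Groth.Agent.Lib.Helper14.PerfectDescent.exists_finite_purelyInseparable k K hN
  refine ⟨k', hF, hA, hfin, hpi, ?_⟩
  intro m hm
  -- the spectrum of `k' ⊗ K` is a single point
  have hhomeo := PrimeSpectrum.isHomeomorph_comap_of_isPurelyInseparable (k := k) (K := k') (R := K)
  haveI hsub1 : Subsingleton (PrimeSpectrum (K ⊗[k] k')) :=
    hhomeo.injective.subsingleton
  have hsub : Subsingleton (PrimeSpectrum (k' ⊗[k] K)) := by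
    let e : K ⊗[k] k' ≃+* k' ⊗[k] K := (Algebra.TensorProduct.comm k K k').toRingEquiv
    exact (PrimeSpectrum.comapEquiv e).symm.injective.subsingleton
  have hmeq : m = nilradical (k' ⊗[k] K) := by
    rw [nilradical_eq_sInf]
    apply le_antisymm
    · apply le_sInf
      intro J hJ
      have : (⟨m, hm.isPrime⟩ : PrimeSpectrum (k' ⊗[k] K)) = ⟨J, hJ⟩ := Subsingleton.elim _ _
      exact le_of_eq (congrArg PrimeSpectrum.asIdeal this)
    · exact sInf_le hm.isPrime
  subst hmeq
  exact hgr

end Groth.Agent.S4677
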