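import Groth.Statements.S4681
-- import your own Groth.Agent.* helpers here
import Mathlib
import Groth.Agent.Lib.Helper22.FFlatMod

set_option autoImplicit false
open CategoryTheory AlgebraicGeometry
universe u
open FDesc

namespace Groth.Agent.S4681

/-- Let f : X → Y and g : Y → Z be morphisms of schemes and F a quasi-coherent O_X-module which is
faithfully flat relative to Y: flat over Y, and for every point y of Y there is a point x over y
with F_x ⊗ κ(y) ≠ 0. Then g is flat and surjective (faithfully flat) if and only if F is faithfully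
flat relative to Z for the morphism f followed by g: flat over Z, and for every point z of Z there
is a point x of X over z with F_x ⊗ κ(z) ≠ 0. -/
theorem result {X Y Z : Scheme.{u}} (f : X ⟶ Y) (g : Y ⟶ Z)
    (F : X.Modules) (hF : Coh.IsQCoh F) (hFfl : FlatMod.IsFlatOver f F)
    (hFff : (∀ y : ↥Y, ∃ x : ↥X, f x = y ∧
      letI := FlatMod.moduleStalkOver f F x
      IsLocalRing.maximalIdeal (Y.presheaf.stalk (f x)) • (⊤ : Submodule (Y.presheaf.stalk (f x)) (F.presheaf.stalk x)) ≠ ⊤)) :
    (Flat g ∧ Surjective g) ↔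
      (FlatMod.IsFlatOver (f ≫ g) F ∧
        (∀ z : ↥Z, ∃ x : ↥X, (f ≫ g) x = z ∧
      letI := FlatMod.moduleStalkOver (f ≫ g) F x
      IsLocalRing.maximalIdeal (Z.presheaf.stalk ((f ≫ g) x)) • (⊤ : Submodule (Z.presheaf.stalk ((f ≫ g) x)) (F.presheaf.stalk x)) ≠ ⊤)) := by
  classical
  -- instance package at a point x
  have tower : ∀ x : ↥X,
      letI := FlatMod.moduleStalkOver f F x
      letI := FlatMod.moduleStalkOver (f ≫ g) F x
      letI : Algebra (Z.presheaf.stalk ((f ≫ g) x)) (Y.presheaf.stalk (f x)) :=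
        (g.stalkMap (f x)).hom.toAlgebra
      IsScalarTower (Z.presheaf.stalk ((f ≫ g) x)) (Y.presheaf.stalk (f x))
        (F.presheaf.stalk x) := by
    intro x
    letI := FlatMod.moduleStalkOver f F x
    letI := FlatMod.moduleStalkOver (f ≫ g) F x
    letI : Algebra (Z.presheaf.stalk ((f ≫ g) x)) (Y.presheaf.stalk (f x)) :=
      (g.stalkMap (f x)).hom.toAlgebra
    refine ⟨fun a b m => ?_⟩
    show (f.stalkMap x).hom ((g.stalkMap (f x)).hom a * b) • m =
      ((f ≫ g).stalkMap x).hom a • ((f.stalkMap x).hom b • m)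
    rw [map_mul, mul_smul, Scheme.Hom.stalkMap_comp]
    rfl
  constructor
  · rintro ⟨hfl, hsurj⟩
    refine ⟨fun x => ?_, fun z => ?_⟩
    · have h1 := hFfl x
      have h2 : (g.stalkMap (f x)).hom.Flat := Flat.stalkMap g (f x)
      unfold FlatMod.IsFlatOverAt at h1 ⊢
      letI := FlatMod.moduleStalkOver f F x
      letI := FlatMod.moduleStalkOver (f ≫ g) F x
      letI : Algebra (Z.presheaf.stalk ((f ≫ g) x)) (Y.presheaf.stalk (f x)) :=
        (g.stalkMap (f x)).hom.toAlgebra
      haveI := tower x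
      haveI : Module.Flat (Z.presheaf.stalk ((f ≫ g) x)) (Y.presheaf.stalk (f x)) := h2
      haveI : Module.Flat (Y.presheaf.stalk (f x)) (F.presheaf.stalk x) := h1
      exact Module.Flat.trans (Z.presheaf.stalk ((f ≫ g) x)) (Y.presheaf.stalk (f x))
        (F.presheaf.stalk x)
    · obtain ⟨y, rfl⟩ := hsurj.surj z
      obtain ⟨x, rfl, hx⟩ := hFff y
      refine ⟨x, rfl, ?_⟩
      letI := FlatMod.moduleStalkOver f F x
      letI := FlatMod.moduleStalkOver (f ≫ g) F x
      letI : Algebra (Z.presheaf.stalk ((f ≫ g) x)) (Y.presheaf.stalk (f x)) :=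
        (g.stalkMap (f x)).hom.toAlgebra
      haveI := tower x
      haveI : IsLocalHom (algebraMap (Z.presheaf.stalk ((f ≫ g) x)) (Y.presheaf.stalk (f x))) :=
        inferInstanceAs (IsLocalHom (g.stalkMap (f x)).hom)
      exact Groth.Agent.Lib.Helper22.FFlatMod.smul_top_ne_top_of_isLocalHom
        (Z.presheaf.stalk ((f ≫ g) x)) (Y.presheaf.stalk (f x)) (F.presheaf.stalk x) hx
  · rintro ⟨hfl, hsupp⟩
    refine ⟨?_, ⟨fun z => ?_⟩⟩
    · rw [Flat.iff_flat_stalkMap]
      intro y
      obtain ⟨x, rfl, hx⟩ := hFff y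
      have h1 := hFfl x
      have h2 := hfl x
      unfold FlatMod.IsFlatOverAt at h1 h2
      letI := FlatMod.moduleStalkOver f F x
      letI := FlatMod.moduleStalkOver (f ≫ g) F x
      letI : Algebra (Z.presheaf.stalk ((f ≫ g) x)) (Y.presheaf.stalk (f x)) :=
        (g.stalkMap (f x)).hom.toAlgebra
      haveI := tower x
      haveI : Module.Flat (Z.presheaf.stalk ((f ≫ g) x)) (F.presheaf.stalk x) := h2
      haveI : Module.Flat (Y.presheaf.stalk (f x)) (F.presheaf.stalk x) := h1
      haveI : Module.FaithfullyFlat (Y.presheaf.stalk (f x)) (F.presheaf.stalk x) :=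
        Groth.Agent.Lib.Helper22.FFlatMod.faithfullyFlat_of_isLocalRing _ _ hx
      exact Groth.Agent.Lib.Helper22.FFlatMod.flat_of_flat_of_faithfullyFlat
        (Z.presheaf.stalk ((f ≫ g) x)) (Y.presheaf.stalk (f x)) (F.presheaf.stalk x)
    · obtain ⟨x, rfl, -⟩ := hsupp z
      exact ⟨f x, rfl⟩

end Groth.Agent.S4681
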