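import Groth.Statements.S4682
import Groth.Agent.Lib.Helper11.GRed

set_option autoImplicit false
open CategoryTheory AlgebraicGeometry
universe u
open FBase

namespace Groth.Agent.S4682

open Groth.Agent.Lib.Helper11 in
theorem aux {K' K : Type u} [Field K'] [Field K] [Algebra K' K]
    {Y : Scheme.{u}} (fY : Y ⟶ Spec (CommRingCat.of K'))
    [GeometricallyReduced (Spec.map (CommRingCat.ofHom (algebraMap K' K)))]
    (T : TopologicalSpace.Closeds ↥(Limits.pullback fY (Spec.map (CommRingCat.ofHom (algebraMap K' K))))) :
    (∃ T' : TopologicalSpace.Closeds ↥Y, (T : Set _) =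
        ⇑(Limits.pullback.fst fY (Spec.map (CommRingCat.ofHom (algebraMap K' K)))) ⁻¹' (T' : Set ↥Y)) ↔
      ∃ J : Y.IdealSheafData,
        J.comap (Limits.pullback.fst fY (Spec.map (CommRingCat.ofHom (algebraMap K' K)))) =
          Scheme.IdealSheafData.vanishingIdeal T := by
  set g := Limits.pullback.fst fY (Spec.map (CommRingCat.ofHom (algebraMap K' K))) with hg
  constructor
  · rintro ⟨T', hT'⟩
    refine ⟨Scheme.IdealSheafData.vanishingIdeal T', ?_⟩
    have hsupp : ((Scheme.IdealSheafData.vanishingIdeal T').comap g).support = T := by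
      apply SetLike.coe_injective
      rw [Scheme.IdealSheafData.support_comap, TopologicalSpace.Closeds.coe_preimage,
        Scheme.IdealSheafData.coe_support_vanishingIdeal]
      exact hT'.symm
    haveI hJred : AlgebraicGeometry.IsReduced (Scheme.IdealSheafData.vanishingIdeal T').subscheme :=
      GRed.isReduced_subscheme_of_isRadical _ (fun U => by
        rw [Scheme.IdealSheafData.vanishingIdeal_ideal]
        exact PrimeSpectrum.isRadical_vanishingIdeal _)
    haveI : AlgebraicGeometry.IsReduced ((Scheme.IdealSheafData.vanishingIdeal T').comap g).subscheme :=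
      GRed.isReduced_comap fY _
    have h2 := GRed.radical_eq_of_isReduced ((Scheme.IdealSheafData.vanishingIdeal T').comap g)
    rw [← Scheme.IdealSheafData.vanishingIdeal_support, hsupp] at h2
    exact h2.symm
  · rintro ⟨J, hJ⟩
    refine ⟨J.support, ?_⟩
    have h1 := congrArg (fun I => SetLike.coe (Scheme.IdealSheafData.support I)) hJ
    simp only [Scheme.IdealSheafData.support_comap, TopologicalSpace.Closeds.coe_preimage,
      Scheme.IdealSheafData.coe_support_vanishingIdeal] at h1
    exact h1.symm

/-- Let Y be a scheme over a field K', let K be an extension field of K' which is separable over K'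
(Spec K → Spec K' is geometrically reduced), let g : Y ⊗_{K'} K → Y be the projection and T a closed
subset of Y ⊗_{K'} K. Then T is defined over K' as a closed subset, that is T = g⁻¹(T') for some
closed subset T' of Y, if and only if the reduced closed subscheme of Y ⊗_{K'} K with support T is
defined over K', that is, there is a quasi-coherent ideal sheaf of O_Y whose inverse image in Y
⊗_{K'} K is the vanishing ideal sheaf of T. -/
theorem result {K' K : Type u} [Field K'] [Field K] [Algebra K' K]
    {Y : Scheme.{u}} (fY : Y ⟶ Spec (CommRingCat.of K'))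
    [GeometricallyReduced (Spec.map (CommRingCat.ofHom (algebraMap K' K)))]
    (T : TopologicalSpace.Closeds ↥(FBase.bc fY K)) :
    (∃ T' : TopologicalSpace.Closeds ↥Y, (T : Set ↥(FBase.bc fY K)) = ⇑(FBase.bcπ fY K) ⁻¹' (T' : Set ↥Y)) ↔
      ∃ J : Y.IdealSheafData, J.comap (FBase.bcπ fY K) = Scheme.IdealSheafData.vanishingIdeal T := by
  exact aux fY T

end Groth.Agent.S4682
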