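import Groth.Statements.S4688
import Mathlib
-- import your own Groth.Agent.* helpers here

set_option autoImplicit false
universe u
open EGA4

namespace Groth.Agent.S4688

open Polynomial in
theorem main (A : Type u) [CommRing A] [IsNoetherianRing A]
    (p : Ideal A) [p.IsPrime] (q : Ideal A[X]) [q.IsPrime] [q.LiesOver p] :
    (p.map (algebraMap A A[X])).height = p.height ∧
      (q ≠ p.map (algebraMap A A[X]) → q.height = p.height + 1) := by
  classical
  have hJprime : (p.map (algebraMap A A[X])).IsPrime :=
    Ideal.isPrime_map_C_of_isPrime (P := p)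
  have hcomap : (p.map (algebraMap A A[X])).comap (algebraMap A A[X]) = p := by
    ext x
    rw [Ideal.mem_comap]
    change (C x) ∈ Ideal.map (C : A →+* A[X]) p ↔ x ∈ p
    rw [Ideal.mem_map_C_iff]
    constructor
    · intro h; simpa using h 0
    · intro hx n
      rw [coeff_C]
      split_ifs
      · exact hx
      · exact p.zero_mem
  have hJlo : (p.map (algebraMap A A[X])).LiesOver p := ⟨hcomap.symm⟩
  have hq_over : q.comap (algebraMap A A[X]) = p := (Ideal.LiesOver.over (P := q) (p := p)).symm
  have hJq : p.map (algebraMap A A[X]) ≤ q := by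
    rw [Ideal.map_le_iff_le_comap, hq_over]
  have hdom : IsDomain (A[X] ⧸ p.map (algebraMap A A[X])) := Ideal.Quotient.isDomain _
  have hfib : Order.krullDim ((PrimeSpectrum.comap (algebraMap A A[X])) ⁻¹'
      {(⟨p, inferInstance⟩ : PrimeSpectrum A)}) ≤ 1 := by
    rw [Order.krullDim_eq_of_orderIso (PrimeSpectrum.preimageOrderIsoFiber A A[X] ⟨p, inferInstance⟩),
      ← ringKrullDim,
      ← ringKrullDim_eq_of_ringEquiv (polyEquivTensor A (p.ResidueField)).toRingEquiv]
    have h1 : ringKrullDim p.ResidueField[X] ≤ ((1 : ℕ) : WithBot ℕ∞) :=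
      Ring.krullDimLE_iff.mp inferInstance
    simpa using h1
  constructor
  · rw [Ideal.height_eq_height_add_of_liesOver_of_hasGoingDown p (p.map (algebraMap A A[X])),
      Ideal.map_quotient_self, Ideal.height_bot, add_zero]
  · intro hne
    rw [Ideal.height_eq_height_add_of_liesOver_of_hasGoingDown p q]
    congr 1
    have hqbar_prime : (q.map (Ideal.Quotient.mk (p.map (algebraMap A A[X])))).IsPrime :=
      Ideal.map_isPrime_of_surjective Ideal.Quotient.mk_surjective
        (by rw [Ideal.mk_ker]; exact hJq)
    apply le_antisymm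
    · rw [← Nat.cast_one, Ideal.height_le_iff]
      intro q' hq' hlt
      have hq'bot : q' = ⊥ := by
        by_contra hq'ne
        have hJq' : p.map (algebraMap A A[X]) ≤
            q'.comap (Ideal.Quotient.mk (p.map (algebraMap A A[X]))) := by
          intro x hx
          rw [Ideal.mem_comap, Ideal.Quotient.eq_zero_iff_mem.mpr hx]
          exact q'.zero_mem
        have hq'q : q'.comap (Ideal.Quotient.mk (p.map (algebraMap A A[X]))) ≤ q := by
          calc q'.comap (Ideal.Quotient.mk (p.map (algebraMap A A[X])))
              ≤ (q.map (Ideal.Quotient.mk (p.map (algebraMap A A[X])))).comap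
                  (Ideal.Quotient.mk (p.map (algebraMap A A[X]))) := Ideal.comap_mono hlt.le
            _ = q := by
                rw [Ideal.comap_map_of_surjective _ Ideal.Quotient.mk_surjective,
                  ← RingHom.ker_eq_comap_bot, Ideal.mk_ker, sup_eq_left.mpr hJq]
        have hP1 : (q'.comap (Ideal.Quotient.mk (p.map (algebraMap A A[X])))).comap
            (algebraMap A A[X]) = p := by
          apply le_antisymm
          · exact le_trans (Ideal.comap_mono hq'q) hq_over.le
          · conv_lhs => rw [← hcomap]
            exact Ideal.comap_mono hJq'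
        let x₀ : ↥((PrimeSpectrum.comap (algebraMap A A[X])) ⁻¹'
            {(⟨p, inferInstance⟩ : PrimeSpectrum A)}) :=
          ⟨⟨p.map (algebraMap A A[X]), hJprime⟩, PrimeSpectrum.ext hcomap⟩
        let x₁ : ↥((PrimeSpectrum.comap (algebraMap A A[X])) ⁻¹'
            {(⟨p, inferInstance⟩ : PrimeSpectrum A)}) :=
          ⟨⟨q'.comap (Ideal.Quotient.mk (p.map (algebraMap A A[X]))), inferInstance⟩,
            PrimeSpectrum.ext hP1⟩
        let x₂ : ↥((PrimeSpectrum.comap (algebraMap A A[X])) ⁻¹'
            {(⟨p, inferInstance⟩ : PrimeSpectrum A)}) :=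
          ⟨⟨q, inferInstance⟩, PrimeSpectrum.ext hq_over⟩
        rcases (Order.krullDim_le_one_iff.mp hfib) x₁ with hmin | hmax
        · have h01 : x₀ ≤ x₁ := hJq'
          have h10 : x₁ ≤ x₀ := hmin h01
          apply hq'ne
          rw [eq_bot_iff]
          intro y hy
          obtain ⟨z, rfl⟩ := Ideal.Quotient.mk_surjective y
          have hz : z ∈ p.map (algebraMap A A[X]) := h10 (Ideal.mem_comap.mpr hy)
          rw [Ideal.mem_bot, Ideal.Quotient.eq_zero_iff_mem]; exact hz
        · have h12 : x₁ ≤ x₂ := hq'q
          have h21 : x₂ ≤ x₁ := hmax h12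
          have h3 : q.map (Ideal.Quotient.mk (p.map (algebraMap A A[X]))) ≤ q' :=
            Ideal.map_le_iff_le_comap.mpr h21
          exact absurd (lt_of_lt_of_le hlt h3) (lt_irrefl _)
      rw [hq'bot, Ideal.height_bot]
      exact_mod_cast zero_lt_one
    · rw [Order.one_le_iff_ne_zero]
      intro h0
      rw [Ideal.height_eq_zero_iff_eq_bot, Ideal.map_eq_bot_iff_le_ker, Ideal.mk_ker] at h0
      exact hne (le_antisymm h0 hJq)


open Polynomial in
/-- Let A be a Noetherian ring, p a prime ideal of A and q a prime ideal of the polynomial ring A[T]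
lying over p. Then the extended ideal p A[T] has the same height as p, and if q is different from p
A[T] one has ht(q) = ht(p) + 1. (The remaining assertions of the published item, that p A[T] is
prime over p and that there are infinitely many pairwise incomparable such q, are not restated.) -/
theorem result (A : Type u) [CommRing A] [IsNoetherianRing A]
    (p : Ideal A) [p.IsPrime] (q : Ideal A[X]) [q.IsPrime] [q.LiesOver p] :
    (p.map (Polynomial.C : A →+* A[X])).height = p.height ∧
      (q ≠ p.map (Polynomial.C : A →+* A[X]) → q.height = p.height + 1) := main A p q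

end Groth.Agent.S4688
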