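import Groth.Statements.S4689
-- import your own Groth.Agent.* helpers here
import Mathlib
import Groth.Agent.Lib.Helper12.DimIneqH

set_option autoImplicit false
universe u
open EGA4

namespace Groth.Agent.S4689

/-- Let A be a universally catenary Noetherian local domain and B a domain containing A which is a
finite A-algebra. Then for every maximal ideal n of B the local ring B_n has the same Krull
dimension as A. -/
theorem result (A B : Type u) [CommRing A] [IsDomain A]
    [IsNoetherianRing A] [IsLocalRing A] (hA : CAlg.IsUniversallyCatenary A) [CommRing B] [IsDomain B]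
    [Algebra A B] [FaithfulSMul A B] [Module.Finite A B] (n : Ideal B) [n.IsMaximal] :
    ringKrullDim (Localization.AtPrime n) = ringKrullDim A := by
  classical
  haveI : Algebra.IsIntegral A B := inferInstance
  -- `n` lies over the maximal ideal of `A`
  haveI hmax : (n.comap (algebraMap A B)).IsMaximal :=
    Ideal.isMaximal_comap_of_isIntegral_of_isMaximal n
  have hcomap : n.comap (algebraMap A B) = IsLocalRing.maximalIdeal A :=
    IsLocalRing.eq_maximalIdeal hmax
  haveI : n.LiesOver (IsLocalRing.maximalIdeal A) := ⟨hcomap.symm⟩
  have h := Groth.Agent.Lib.Helper12.DimIneq.dimFormula_domain (R := A) (T := B)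
    (IsLocalRing.maximalIdeal A) n
    (Groth.Agent.Lib.Helper12.DimIneq.LocUC.of_isUniversallyCatenary hA _)
  haveI : Algebra.IsAlgebraic A B := Algebra.IsIntegral.isAlgebraic
  haveI : Algebra.IsAlgebraic (A ⧸ IsLocalRing.maximalIdeal A) (B ⧸ n) :=
    Algebra.IsIntegral.isAlgebraic
  rw [trdeg_eq_zero (R := A) (A := B),
    trdeg_eq_zero (R := A ⧸ IsLocalRing.maximalIdeal A) (A := B ⧸ n)] at h
  simp only [map_zero, add_zero] at h
  rw [IsLocalization.AtPrime.ringKrullDim_eq_height n (Localization.AtPrime n), h,
    IsLocalRing.maximalIdeal_height_eq_ringKrullDim]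

end Groth.Agent.S4689
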