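import Groth.Statements.S4690
-- import your own Groth.Agent.* helpers here
import Mathlib
import Groth.Agent.Lib.Helper12.WithBotENat
import Groth.Agent.Lib.Helper12.SchemeDimIneq2
import Groth.Agent.Lib.Helper12.ChevalleyCor
import Groth.Agent.Lib.Helper12.ClosedSub
import Groth.Agent.Lib.Helper12.JacDim
import Groth.Agent.Lib.Helper12.SchemeDimFT3

set_option autoImplicit false
universe u
open EGA4

namespace Groth.Agent.S4690

open AlgebraicGeometry CategoryTheory
open Groth.Agent.Lib.Helper12 Groth.Agent.Lib.Helper12.SchemeDimFT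
  Groth.Agent.Lib.Helper12.SchemeDimIneq Groth.Agent.Lib.Helper12.WithBotENat

/-- The dimension of a scheme is the supremum of the dimensions of its local rings. -/
theorem dim_eq_iSup_stalk (X : Scheme.{u}) :
    topologicalKrullDim X = ⨆ x : X, ringKrullDim (X.presheaf.stalk x) := by
  rw [JacDim.topologicalKrullDim_eq_krullDim' X, Order.krullDim_eq_iSup_coheight]
  refine iSup_congr fun x => ?_
  rw [AlgebraicGeometry.ringKrullDim_stalk_eq_coheight]

theorem stalk_le_dim (X : Scheme.{u}) (x : X) :
    ringKrullDim (X.presheaf.stalk x) ≤ topologicalKrullDim X := by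
  rw [dim_eq_iSup_stalk]
  exact le_iSup (fun x : X => ringKrullDim (X.presheaf.stalk x)) x

/-- Every nonempty fibre contains a point with algebraic residue extension. -/
theorem exists_trn_eq_zero {X Y : Scheme.{u}} (f : X ⟶ Y) [LocallyOfFiniteType f] (x₀ : X) :
    ∃ x : X, f x = f x₀ ∧ trn f x = 0 := by
  letI ovF : (f.fiber (f x₀)).Over (Spec (CommRingCat.of (Y.residueField (f x₀)))) :=
    ⟨f.fiberToSpecResidueField (f x₀)⟩
  haveI : LocallyOfFiniteType ((f.fiber (f x₀)) ↘ Spec (CommRingCat.of (Y.residueField (f x₀)))) :=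
    FibreRes.locallyOfFiniteType_fiberToSpecResidueField f (f x₀)
  obtain ⟨w, -, hw⟩ := exists_isClosed_mem_of_isLocallyClosed (Y.residueField (f x₀))
    (f.fiber (f x₀)) Set.univ isClosed_univ.isLocallyClosed ⟨f.asFiber x₀, trivial⟩
  have hfx : f (f.fiberι (f x₀) w) = f x₀ := by
    have h3 : f.fiberι (f x₀) w ∈ Set.range (f.fiberι (f x₀)) := ⟨w, rfl⟩
    rw [Scheme.Hom.range_fiberι] at h3
    exact h3
  refine ⟨f.fiberι (f x₀) w, hfx, ?_⟩
  rw [ClosedSub.trn_eq_tr_of_fiber f _ (f x₀) hfx w rfl,
    tr_eq_zero_of_isClosed (Y.residueField (f x₀)) (f.fiber (f x₀)) w hw]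
  rfl


open AlgebraicGeometry CategoryTheory in
/-- Let Y be an irreducible locally Noetherian scheme, X an irreducible scheme and f : X → Y a dominant
morphism locally of finite type; let e be the dimension of the generic fibre of f. Then dim X ≤ dim
Y + e. If moreover every local ring of Y is universally catenary, the two sides are equal if and
only if dim Y equals the supremum of the dimensions of the local rings of Y at the points of f(X). -/
theorem result {X Y : Scheme.{u}} (f : X ⟶ Y) [IsLocallyNoetherian Y]
    [LocallyOfFiniteType f] [IrreducibleSpace X] [IrreducibleSpace Y] (hf : DenseRange f.base) :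
    topologicalKrullDim X ≤ topologicalKrullDim Y + topologicalKrullDim (f.fiber (genericPoint Y)) ∧
      ((∀ y : Y, CAlg.IsUniversallyCatenary (Y.presheaf.stalk y)) →
        (topologicalKrullDim X = topologicalKrullDim Y + topologicalKrullDim (f.fiber (genericPoint Y)) ↔
          topologicalKrullDim Y = ⨆ y ∈ Set.range f.base, ringKrullDim (Y.presheaf.stalk y))) := by
  classical
  haveI : IsDominant f := ⟨hf⟩
  -- the dimension of the generic fibre is a natural number
  obtain ⟨n, hn⟩ := SchemeDimIneq.exists_trn_eq f (genericPoint X)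
  have he : topologicalKrullDim (f.fiber (genericPoint Y)) = (n : WithBot ℕ∞) := by
    rw [ChevalleyCor.dim_fiber_congr f (ChevalleyCor.map_genericPoint f).symm,
      SchemeDimIneq.dim_generic_fiber_eq_trn f, hn]
    rfl
  have hineq : ∀ x : X, ringKrullDim (X.presheaf.stalk x) ≤
      ringKrullDim (Y.presheaf.stalk (f x)) + (n : WithBot ℕ∞) := by
    intro x
    have h1 := SchemeDimIneq.dim_stalk_add_trn_le f x
    rw [he] at h1
    refine le_trans ?_ h1
    obtain ⟨t, ht⟩ := SchemeDimIneq.exists_trn_eq f x
    rw [ht]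
    calc ringKrullDim (X.presheaf.stalk x) = ringKrullDim (X.presheaf.stalk x) + 0 :=
          (add_zero _).symm
      _ ≤ _ := add_le_add_right (by exact_mod_cast Nat.zero_le t) _
  have hpart1 : topologicalKrullDim X ≤ topologicalKrullDim Y + (n : WithBot ℕ∞) := by
    rw [dim_eq_iSup_stalk X]
    refine iSup_le fun x => (hineq x).trans ?_
    exact add_le_add_left (stalk_le_dim Y (f x)) _
  rw [he]
  refine ⟨hpart1, fun hcat => ?_⟩
  have hrange : (⨆ y ∈ Set.range f.base, ringKrullDim (Y.presheaf.stalk y)) =
      ⨆ x : X, ringKrullDim (Y.presheaf.stalk (f x)) := iSup_range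
  rw [hrange]
  constructor
  · intro heq
    apply le_antisymm
    · apply le_of_add_nat_le_add_nat _ _ n
      rw [← heq, dim_eq_iSup_stalk X]
      refine iSup_le fun x => (hineq x).trans ?_
      exact add_le_add_left (le_iSup (fun x : X => ringKrullDim (Y.presheaf.stalk (f x))) x) _
    · exact iSup_le fun x => stalk_le_dim Y (f x)
  · intro heq
    apply le_antisymm hpart1
    rw [heq]
    apply iSup_add_nat_le
    intro x₀
    obtain ⟨x, hx1, hx2⟩ := exists_trn_eq_zero f x₀
    have h1 := SchemeDimIneq.dim_stalk_add_trn_eq f x (hcat _)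
    rw [he, hx2, hx1] at h1
    rw [← h1]
    simp only [ENat.coe_zero, WithBot.coe_zero, add_zero]
    exact stalk_le_dim X x

end Groth.Agent.S4690
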