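import Groth.Statements.S9686
-- import your own Groth.Agent.* helpers here
import Mathlib
import Groth.Agent.Lib.Helper12.SchemeDimIneq3

set_option autoImplicit false
universe u
open CategoryTheory CategoryTheory.Limits AlgebraicGeometry
open Mor

namespace Groth.Agent.S9686
open Groth.Agent.Lib.Helper12 Groth.Agent.Lib.Helper12.ChevalleyCor
  Groth.Agent.Lib.Helper12.SchemeDimIneq Groth.Agent.Lib.Helper12.OrdTools

attribute [local instance] specializationOrder in
theorem topologicalKrullDim_eq_krullDim (X : Scheme.{u}) :
    topologicalKrullDim X = Order.krullDim X :=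
  Order.krullDim_eq_of_orderIso (irreducibleSetEquivPoints (α := X))


/-- Let Y be locally Noetherian and f : X ⟶ Y locally of finite type. If E bounds the transcendence
degree of κ(ξ) over κ(f ξ) for every generic point ξ of an irreducible component of X, then dim X ≤
dim Y + E. (The published bound is the supremum of these transcendence degrees; the statement with
any upper bound E is equivalent.) -/
theorem result {X Y : Scheme.{u}} [IsLocallyNoetherian Y]
    (f : X ⟶ Y) [LocallyOfFiniteType f] (E : ℕ)
    (hE : ∀ ξ : X, closure {ξ} ∈ irreducibleComponents ↥X →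
      letI := (f.residueFieldMap ξ).hom.toAlgebra
      Algebra.trdeg (Y.residueField (f.base ξ)) (X.residueField ξ) ≤ E) :
    topologicalKrullDim ↥X ≤ topologicalKrullDim ↥Y + E := by
  rw [topologicalKrullDim_eq_krullDim X, topologicalKrullDim_eq_krullDim Y,
    Order.krullDim_eq_iSup_coheight]
  refine iSup_le fun x => ?_
  have h1 := dim_stalk_add_trn_le_of_forall f x
    (Order.krullDim Y + E) (fun ξ hξ1 hξ2 => ?_)
  · rw [ringKrullDim_stalk_eq_coheight] at h1
    refine le_trans ?_ h1
    obtain ⟨t, ht⟩ := exists_trn_eq f x
    rw [ht]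
    have : ((Order.coheight x : ℕ∞) : WithBot ℕ∞) + 0 ≤
        ((Order.coheight x : ℕ∞) : WithBot ℕ∞) + ((t : ℕ∞) : WithBot ℕ∞) :=
      add_le_add le_rfl (by exact_mod_cast Nat.zero_le t)
    rwa [add_zero] at this
  · have h3 : trn f ξ ≤ (E : ℕ∞) := by
      unfold trn
      exact Cardinal.toENat_le_natCast.mpr (hE ξ hξ1)
    refine add_le_add ((krullDim_Icc_le_coheight _ _).trans (Order.coheight_le_krullDim _)) ?_
    exact_mod_cast h3

end Groth.Agent.S9686
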