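import Groth.Statements.S4691
-- import your own Groth.Agent.* helpers here
import Mathlib
import Groth.Agent.S9686
import Groth.Agent.Lib.Helper12.FibreRes2

set_option autoImplicit false
universe u
open EGA4

namespace Groth.Agent.S4691

open AlgebraicGeometry CategoryTheory in
/-- Let Y be a locally Noetherian scheme, f : X → Y a morphism locally of finite type and n a natural
number such that every fibre of f has dimension at most n. Then dim X ≤ dim Y + n. -/
theorem result {X Y : Scheme.{u}} (f : X ⟶ Y) [IsLocallyNoetherian Y]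
    [LocallyOfFiniteType f] (n : ℕ) (h : ∀ y : Y, topologicalKrullDim (f.fiber y) ≤ n) :
    topologicalKrullDim X ≤ topologicalKrullDim Y + n := by
  have key := Groth.Agent.S9686.result f n (fun ξ _ => by
    letI ovF : (f.fiber (f ξ)).Over (Spec (CommRingCat.of (Y.residueField (f ξ)))) :=
      ⟨f.fiberToSpecResidueField (f ξ)⟩
    haveI : LocallyOfFiniteType
        ((f.fiber (f ξ)) ↘ Spec (CommRingCat.of (Y.residueField (f ξ)))) :=
      Groth.Agent.Lib.Helper12.FibreRes.locallyOfFiniteType_fiberToSpecResidueField f (f ξ)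
    have h1 := Groth.Agent.Lib.Helper12.FibreRes.trdeg_residueFieldMap_eq_tr f ξ
    have h2 := Groth.Agent.Lib.Helper12.FibreRes.tr_le_topologicalKrullDim (Y.residueField (f ξ))
      (f.fiber (f ξ)) (f.asFiber ξ)
    have h3 := h2.trans (h (f ξ))
    have h4 : Groth.Agent.Lib.Helper12.SchemeDimFT.tr (Y.residueField (f ξ)) (f.fiber (f ξ))
        (f.asFiber ξ) ≤ n := by exact_mod_cast h3
    refine le_of_eq_of_le h1 ?_
    exact_mod_cast h4)
  exact key

end Groth.Agent.S4691
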