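import Groth.Statements.S4692
-- import your own Groth.Agent.* helpers here
import Mathlib
import Groth.Agent.S4690

set_option autoImplicit false
universe u
open EGA4

namespace Groth.Agent.S4692
open AlgebraicGeometry CategoryTheory

open Groth.Agent.Lib.Helper12 Groth.Agent.Lib.Helper12.SchemeDimFT
  Groth.Agent.Lib.Helper12.SchemeDimIneq Groth.Agent.Lib.Helper12.WithBotENat


open AlgebraicGeometry CategoryTheory in
/-- Let Y be a locally Noetherian scheme all of whose local rings are universally catenary, X an
irreducible scheme, f : X → Y a morphism locally of finite type and n a natural number. If every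
fibre of f has dimension at least n then dim X ≥ dim Y + n; if every fibre has dimension exactly n
then dim X = dim Y + n. (The empty scheme has dimension ⊥, so either hypothesis forces f to be
surjective.) -/
theorem result {X Y : Scheme.{u}} (f : X ⟶ Y) [IsLocallyNoetherian Y]
    [LocallyOfFiniteType f] [IrreducibleSpace X] (hY : ∀ y : Y, CAlg.IsUniversallyCatenary (Y.presheaf.stalk y))
    (n : ℕ) :
    ((∀ y : Y, (n : WithBot ℕ∞) ≤ topologicalKrullDim (f.fiber y)) →
        topologicalKrullDim Y + n ≤ topologicalKrullDim X) ∧
      ((∀ y : Y, topologicalKrullDim (f.fiber y) = n) →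
        topologicalKrullDim X = topologicalKrullDim Y + n) := by
  classical
  have key : (∀ y : Y, (n : WithBot ℕ∞) ≤ topologicalKrullDim (f.fiber y)) →
      ∃ (_ : IrreducibleSpace Y) (_ : DenseRange f.base),
        topologicalKrullDim Y + n ≤ topologicalKrullDim X := by
    intro h
    have hsurj : Function.Surjective f.base := by
      intro y
      have h0 : (0 : WithBot ℕ∞) ≤ topologicalKrullDim (f.fiber y) :=
        le_trans (by exact_mod_cast Nat.zero_le n) (h y)
      exact (ChevalleyCor.zero_le_dim_fiber_iff f y).mp h0
    haveI : IrreducibleSpace Y := by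
      have h1 : IsIrreducible (Set.range f.base) := by
        rw [← Set.image_univ]
        exact (IrreducibleSpace.isIrreducible_univ X).image f.base f.continuous.continuousOn
      rw [hsurj.range_eq] at h1
      exact (irreducibleSpace_def Y).mpr h1
    have hf : DenseRange f.base := hsurj.denseRange
    haveI : IsDominant f := ⟨hf⟩
    refine ⟨inferInstance, hf, ?_⟩
    obtain ⟨m, hm⟩ := SchemeDimIneq.exists_trn_eq f (genericPoint X)
    have he : topologicalKrullDim (f.fiber (genericPoint Y)) = (m : WithBot ℕ∞) := by
      rw [ChevalleyCor.dim_fiber_congr f (ChevalleyCor.map_genericPoint f).symm,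
        SchemeDimIneq.dim_generic_fiber_eq_trn f, hm]
      rfl
    have hnm : n ≤ m := by
      have := h (genericPoint Y)
      rw [he] at this
      exact_mod_cast this
    rw [Groth.Agent.S4690.dim_eq_iSup_stalk Y]
    apply iSup_add_nat_le
    intro y
    obtain ⟨x₀, rfl⟩ := hsurj y
    obtain ⟨x, hx1, hx2⟩ := Groth.Agent.S4690.exists_trn_eq_zero f x₀
    have h1 := SchemeDimIneq.dim_stalk_add_trn_eq f x (hY _)
    rw [he, hx2, hx1] at h1
    simp only [ENat.coe_zero, WithBot.coe_zero, add_zero] at h1
    calc ringKrullDim (Y.presheaf.stalk (f x₀)) + (n : WithBot ℕ∞)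
        ≤ ringKrullDim (Y.presheaf.stalk (f x₀)) + (m : WithBot ℕ∞) :=
          add_le_add_right (by exact_mod_cast hnm) _
      _ = ringKrullDim (X.presheaf.stalk x) := h1.symm
      _ ≤ topologicalKrullDim X := Groth.Agent.S4690.stalk_le_dim X x
  refine ⟨fun h => ?_, fun h => ?_⟩
  · obtain ⟨_, _, h1⟩ := key h
    exact h1
  · obtain ⟨hirr, hf, h1⟩ := key (fun y => (h y).ge)
    refine le_antisymm ?_ h1
    have h2 := (Groth.Agent.S4690.result f hf).1
    rw [h (genericPoint Y)] at h2
    exact h2

end Groth.Agent.S4692
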