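import Groth.Statements.S4699
import Groth.Agent.Lib.Helper4.GenDepth

set_option autoImplicit false
universe u
open EGA4

namespace Groth.Agent.S4699

/-- Let A be a Noetherian ring, M a finite A-module and I an ideal of A whose radical p is a prime ideal
lying in the support of M (so V(I) is an irreducible closed subset whose generic point is in Supp
M). Then there is an element f outside p such that, for every prime q containing I with f outside q,
the dimension of M_q is the dimension of M_p plus the dimension of (A/I)_q, and the depth of M_q is
the depth of M_p plus the depth of (A/I)_q (the module (A/I)_q = A_q / I A_q being regarded over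
A_q). -/
theorem result (A : Type u) [CommRing A] [IsNoetherianRing A]
    (M : Type u) [AddCommGroup M] [Module A M] [Module.Finite A M] (I : Ideal A) [I.radical.IsPrime]
    (hp : (⟨I.radical, inferInstance⟩ : PrimeSpectrum A) ∈ Module.support A M) :
    ∃ f : A, f ∉ I.radical ∧ ∀ (q : Ideal A) [q.IsPrime], I ≤ q → f ∉ q →
      Module.supportDim (Localization.AtPrime q) (LocalizedModule q.primeCompl M) =
          Module.supportDim (Localization.AtPrime I.radical) (LocalizedModule I.radical.primeCompl M) +
            Module.supportDim (Localization.AtPrime q)
              (Localization.AtPrime q ⧸ I.map (algebraMap A (Localization.AtPrime q))) ∧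
        LocCoh.depth (Localization.AtPrime q) (LocalizedModule q.primeCompl M) =
          LocCoh.depth (Localization.AtPrime I.radical) (LocalizedModule I.radical.primeCompl M) +
            LocCoh.depth (Localization.AtPrime q)
              (Localization.AtPrime q ⧸ I.map (algebraMap A (Localization.AtPrime q))) := by
  haveI hnt : Nontrivial (LocalizedModule I.radical.primeCompl M) := Module.mem_support_iff.mp hp
  obtain ⟨fD, hfD, HD⟩ := Groth.Agent.Lib.Helper4.GenDepth.exists_notMem_depth_eq I.radical M
  obtain ⟨fE, hfE, HE⟩ := Groth.Agent.Lib.Helper4.GenDim.exists_notMem_supportDim_eq I.radical M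
  obtain ⟨k, hk⟩ := Ideal.exists_radical_pow_le_of_fg I (IsNoetherian.noetherian I.radical)
  obtain ⟨fF, hfF, HF⟩ :=
    Groth.Agent.Lib.Helper4.GenDepth.exists_notMem_depth_eq_of_pow_kill I.radical k (A ⧸ I)
      (fun a ha n => Groth.Agent.Lib.Helper4.GenDim.smul_quot_eq_zero I a (hk ha) n)
  have hpr : I.radical.IsPrime := inferInstance
  refine ⟨fD * fE * fF, fun h => ?_, fun q hq hIq hfq => ?_⟩
  · rcases hpr.mem_or_mem h with h | h
    · rcases hpr.mem_or_mem h with h | h
      · exact hfD h
      · exact hfE h
    · exact hfF h
  · have hpq : I.radical ≤ q := (Ideal.IsPrime.radical_le_iff hq).mpr hIq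
    have hfDq : fD ∉ q := fun h => hfq (q.mul_mem_right fF (q.mul_mem_right fE h))
    have hfEq : fE ∉ q := fun h => hfq (q.mul_mem_right fF (q.mul_mem_left fD h))
    have hfFq : fF ∉ q := fun h => hfq (q.mul_mem_left (fD * fE) h)
    have hzero : PrimeSpectrum.zeroLocus
        ((I.map (algebraMap A (Localization.AtPrime q)) : Ideal (Localization.AtPrime q)) :
          Set (Localization.AtPrime q)) =
        PrimeSpectrum.zeroLocus
          ((I.radical.map (algebraMap A (Localization.AtPrime q)) :
            Ideal (Localization.AtPrime q)) : Set (Localization.AtPrime q)) := by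
      ext x
      simp only [PrimeSpectrum.mem_zeroLocus, SetLike.coe_subset_coe]
      constructor
      · intro hx
        rw [Ideal.map_le_iff_le_comap] at hx ⊢
        exact (Ideal.IsPrime.radical_le_iff
          (inferInstance : (x.asIdeal.comap (algebraMap A (Localization.AtPrime q))).IsPrime)).mpr hx
      · intro hx
        exact (Ideal.map_mono Ideal.le_radical).trans hx
    constructor
    · rw [Groth.Agent.Lib.Helper4.GenDepth.supportDim_quotient_congr_zeroLocus _
          (I.radical.map (algebraMap A (Localization.AtPrime q))) hzero,
        (Groth.Agent.Lib.Helper4.GenDim.depth_supportDim_localizedModule_quot I.radical q).2]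
      exact HE q hpq hfEq
    · haveI := Groth.Agent.Lib.Helper4.GenDepth.nontrivial_localizedModule_quot I q hIq
      have hF : LocCoh.depth (Localization.AtPrime q) (LocalizedModule q.primeCompl (A ⧸ I)) =
          LocCoh.depth (Localization.AtPrime q)
            (LocalizedModule q.primeCompl (A ⧸ I.radical)) := by
        rcases HF q hpq hfFq with h | h
        · exact absurd h (not_subsingleton _)
        · exact h
      rw [(Groth.Agent.Lib.Helper4.GenDim.depth_supportDim_localizedModule_quot I q).1, hF]
      exact HD q hpq hfDq

end Groth.Agent.S4699
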