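import Groth.Statements.S4702
-- import your own Groth.Agent.* helpers here
import Mathlib
import Groth.Agent.Lib.Helper12.LocalBase
import Groth.Agent.Lib.Helper12.ChevalleyCor
import Groth.Agent.Lib.Helper12.ClosedSub
import Groth.Agent.Lib.Helper12.FibreMax
import Groth.Agent.Lib.Helper12.JacDim
import Groth.Agent.Lib.Helper12.SchemeDimFT3

set_option autoImplicit false
universe u
open EGA4

namespace Groth.Agent.S4702

open Groth.Agent.Lib.Helper12 Groth.Agent.Lib.Helper12.SchemeDimFT
  Groth.Agent.Lib.Helper12.SchemeDimIneq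


open AlgebraicGeometry CategoryTheory in
/-- Let Y be an irreducible locally Noetherian scheme of dimension 1, X an irreducible scheme and f : X
→ Y a dominant morphism of finite type. Then for every point y in the image of f, every irreducible
component of the fibre of f at y has dimension equal to the dimension of the generic fibre. -/
theorem result {X Y : Scheme.{u}} (f : X ⟶ Y) [IsLocallyNoetherian Y]
    [IrreducibleSpace Y] [IrreducibleSpace X] (hY : topologicalKrullDim Y = 1) [LocallyOfFiniteType f]
    [QuasiCompact f] (hf : DenseRange f.base) (y : Y) (hy : y ∈ Set.range f.base)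
    (Z : Set ↥(f.fiber y)) (hZ : Z ∈ irreducibleComponents ↥(f.fiber y)) :
    topologicalKrullDim Z = topologicalKrullDim ↥(f.fiber (genericPoint Y)) := by
  classical
  haveI : IsDominant f := ⟨hf⟩
  letI ovF : (f.fiber y).Over (Spec (CommRingCat.of (Y.residueField y))) :=
    ⟨f.fiberToSpecResidueField y⟩
  haveI : LocallyOfFiniteType ((f.fiber y) ↘ Spec (CommRingCat.of (Y.residueField y))) :=
    FibreRes.locallyOfFiniteType_fiberToSpecResidueField f y
  -- the generic point of `Z`
  have hZirr : IsIrreducible Z := hZ.1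
  have hZcl : IsClosed Z := isClosed_of_mem_irreducibleComponents Z hZ
  obtain ⟨z, hz⟩ := QuasiSober.sober hZirr hZcl
  have hZeq : Z = closure {z} := hz.def.symm
  subst hZeq
  have hzmax : ∀ w : f.fiber y, w ⤳ z → w = z :=
    (closure_singleton_mem_irreducibleComponents_iff z).mp hZ
  rw [SchemeDimFT.topologicalKrullDim_closure_singleton (Y.residueField y) (f.fiber y) z]
  have hfx : f (f.fiberι y z) = y := by
    have h3 : f.fiberι y z ∈ Set.range (f.fiberι y) := ⟨z, rfl⟩
    rw [Scheme.Hom.range_fiberι] at h3
    exact h3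
  have htr := ClosedSub.trn_eq_tr_of_fiber f (f.fiberι y z) y hfx z rfl
  rw [ChevalleyCor.dim_fiber_congr f (ChevalleyCor.map_genericPoint f).symm,
    SchemeDimIneq.dim_generic_fiber_eq_trn f]
  suffices h : trn f (f.fiberι y z) = trn f (genericPoint X) by
    rw [← h, htr]; rfl
  apply le_antisymm
  · by_cases hxξ : f.fiberι y z = genericPoint X
    · rw [hxξ]
    · have hsp : genericPoint X ⤳ f.fiberι y z := genericPoint_specializes _
      have key := LocalBase.scheme_dimIneq_stalk_le f (f.fiberι y z) (genericPoint X) hsp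
      have h1 : (1 : WithBot ℕ∞) ≤ Order.krullDim (Set.Icc (f.fiberι y z) (genericPoint X)) := by
        have hlt : (⟨f.fiberι y z, ⟨le_rfl, hsp⟩⟩ : Set.Icc (f.fiberι y z) (genericPoint X)) <
            ⟨genericPoint X, ⟨hsp, le_rfl⟩⟩ := by
          refine lt_iff_le_not_ge.mpr ⟨hsp, ?_⟩
          intro h
          have h' : f.fiberι y z ⤳ genericPoint X := h
          exact hxξ (h'.antisymm hsp).eq
        have := Order.le_krullDim_iff (α := Set.Icc (f.fiberι y z) (genericPoint X)) (n := 1)
        rw [Nat.cast_one] at this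
        rw [this]
        exact ⟨(RelSeries.singleton _ _).snoc _ hlt, by simp⟩
      have h2 : ringKrullDim (Y.presheaf.stalk (f (f.fiberι y z))) ≤ 1 := by
        rw [← hY, JacDim.topologicalKrullDim_eq_krullDim' Y,
          AlgebraicGeometry.ringKrullDim_stalk_eq_coheight]
        exact Order.coheight_le_krullDim _
      obtain ⟨a, ha⟩ := SchemeDimIneq.exists_trn_eq f (f.fiberι y z)
      obtain ⟨b, hb⟩ := SchemeDimIneq.exists_trn_eq f (genericPoint X)
      rw [ha, hb] at key ⊢
      have h3 : (1 : WithBot ℕ∞) + ((a : ℕ∞) : WithBot ℕ∞) ≤ 1 + ((b : ℕ∞) : WithBot ℕ∞) :=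
        (add_le_add_left h1 _).trans (key.trans (add_le_add_left h2 _))
      have h4 : 1 + a ≤ 1 + b := by exact_mod_cast h3
      exact_mod_cast (by omega : a ≤ b)
  · have h1 := ChevalleyCor.dim_generic_fiber_le_fibreDimAt f (f.fiberι y z)
    rw [SchemeDimIneq.dim_generic_fiber_eq_trn f] at h1
    obtain ⟨z', hz1, hz2, hz3⟩ := ClosedSub.exists_generization_trn_eq_fibreDimAt f (f.fiberι y z)
    have hzz : z' = f.fiberι y z := by
      have hz'y : f z' = y := hz1.trans hfx
      obtain ⟨w, hw⟩ : z' ∈ Set.range (f.fiberι y) := by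
        rw [Scheme.Hom.range_fiberι]; exact hz'y
      have hwz : w ⤳ z := by
        apply (f.fiberι y).isEmbedding.isInducing.specializes_iff.mp
        rw [hw]; exact hz2
      rw [← hw, hzmax w hwz]
    rw [hzz] at hz3
    exact_mod_cast h1.trans hz3

end Groth.Agent.S4702
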