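import Groth.Statements.S4703
import Mathlib
import Groth.Agent.Lib.Helper14.FiniteDomain
import Groth.Agent.Lib.Helper14.GeomReduced
import Groth.Agent.Lib.Helper14.ComplEtale
open TensorProduct

set_option autoImplicit false
universe u
open EGA4

namespace Groth.Agent.S4703

open TensorProduct in
/-- regularity of a (local) ring, phrased for arbitrary rings. -/
def RegLoc (X : Type u) [CommRing X] : Prop := ∀ [IsLocalRing X], IsRegularLocalRing X

theorem regLoc_of_ringEquiv (X Y : Type u) [CommRing X] [CommRing Y] (e : X ≃+* Y)
    (h : RegLoc X) : RegLoc Y := by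
  intro hY
  haveI : IsLocalRing X := e.symm.isLocalRing
  haveI : IsRegularLocalRing X := h
  exact IsRegularLocalRing.of_ringEquiv e

/-- For the property 'geometrically regular', case of a local ring: let A be a Noetherian local ring
with completion Â. Then the formal fibres of A are geometrically regular (the completion map A → Â
is a regular homomorphism) if and only if, for every finite A-algebra B which is a domain and every
prime ideal q of B ⊗_A Â whose contraction to B is zero, the local ring of B ⊗_A Â at q is regular.
(The published statement is for semi-local rings; this row takes A local.) -/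
theorem result (A : Type u) [CommRing A] [IsNoetherianRing A] [IsLocalRing A] :
    CAlg.IsRegularHom A (EGA4.Cpl A) ↔
      ∀ (B : Type u) [CommRing B] [IsDomain B] [Algebra A B] [Module.Finite A B]
        (q : Ideal (B ⊗[A] EGA4.Cpl A)) [q.IsPrime],
        q.comap (algebraMap B (B ⊗[A] EGA4.Cpl A)) = ⊥ → IsRegularLocalRing (Localization.AtPrime q) := by
  haveI : IsNoetherianRing (Cpl A) :=
    Groth.Agent.Lib.Helper14.ComplEtale.isNoetherianRing_completion A
  constructor
  · intro hA B _ _ _ _ q hq hq0
    haveI hp : (RingHom.ker (algebraMap A B)).IsPrime := RingHom.ker_isPrime _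
    have h1 : RingHom.ker (algebraMap A B) ≤ RingHom.ker (algebraMap A (FractionRing B)) := by
      intro a ha
      rw [RingHom.mem_ker] at ha ⊢
      rw [IsScalarTower.algebraMap_apply A B (FractionRing B), ha, map_zero]
    have h2 : (RingHom.ker (algebraMap A B)).primeCompl ≤
        (IsUnit.submonoid (FractionRing B)).comap (algebraMap A (FractionRing B)) := by
      intro a ha
      rw [Submonoid.mem_comap, IsUnit.mem_submonoid_iff, isUnit_iff_ne_zero,
        IsScalarTower.algebraMap_apply A B (FractionRing B)]
      intro h0
      exact ha ((IsFractionRing.injective B (FractionRing B)) (by rw [h0, map_zero]))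
    letI : Algebra (RingHom.ker (algebraMap A B)).ResidueField (FractionRing B) :=
      (Ideal.ResidueField.lift (RingHom.ker (algebraMap A B))
        (algebraMap A (FractionRing B)) h1 h2).toAlgebra
    haveI : IsScalarTower A (RingHom.ker (algebraMap A B)).ResidueField (FractionRing B) :=
      IsScalarTower.of_algebraMap_eq (fun a =>
        (Ideal.ResidueField.lift_algebraMap _ _ h1 h2 a).symm)
    haveI hfin : Module.Finite (RingHom.ker (algebraMap A B)).ResidueField (FractionRing B) :=
      Groth.Agent.Lib.Helper14.FiniteDomain.finite_residueField_fractionRing A B (FractionRing B)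
        (RingHom.ker (algebraMap A B)) rfl
    haveI hreg : IsRegularRing ((FractionRing B) ⊗[(RingHom.ker (algebraMap A B)).ResidueField]
        (RingHom.ker (algebraMap A B)).Fiber (Cpl A)) :=
      (hA.2 (RingHom.ker (algebraMap A B))).2 (FractionRing B) hfin
    haveI hreg2 : IsRegularRing ((B ⊗[A] Cpl A) ⊗[B] FractionRing B) :=
      IsRegularRing.of_ringEquiv
        (R := (FractionRing B) ⊗[(RingHom.ker (algebraMap A B)).ResidueField]
          (RingHom.ker (algebraMap A B)).Fiber (Cpl A))
        (R' := (B ⊗[A] Cpl A) ⊗[B] FractionRing B)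
        (Groth.Agent.Lib.Helper14.FiniteDomain.fiberEquiv A (Cpl A) B (FractionRing B)
          (RingHom.ker (algebraMap A B)))
    have key := (Groth.Agent.Lib.Helper14.FiniteDomain.forall_localization_iff
      (Algebra.algebraMapSubmonoid (B ⊗[A] Cpl A) (nonZeroDivisors B))
      ((B ⊗[A] Cpl A) ⊗[B] FractionRing B)
      RegLoc regLoc_of_ringEquiv).mp
      (fun Q _ => fun [IsLocalRing (Localization.AtPrime Q)] => inferInstance)
    exact key q
      ((Groth.Agent.Lib.Helper14.FiniteDomain.disjoint_iff_comap_eq_bot B (B ⊗[A] Cpl A) q).mpr hq0)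
  · intro H
    refine ⟨inferInstance, fun p hp => ⟨?_, ?_⟩⟩
    · exact Groth.Agent.Lib.Helper14.GeomReduced.isNoetherianRing_fiber A (Cpl A) p
    · intro K _ _ hfin
      letI : Algebra A K :=
        ((algebraMap p.ResidueField K).comp (algebraMap A p.ResidueField)).toAlgebra
      haveI : IsScalarTower A p.ResidueField K := IsScalarTower.of_algebraMap_eq (fun _ => rfl)
      obtain ⟨B, hBfin, hBfrac⟩ :=
        Groth.Agent.Lib.Helper14.FiniteDomain.exists_finite_domain A p K
      suffices hreg2 : IsRegularRing ((B ⊗[A] Cpl A) ⊗[B] K) from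
        IsRegularRing.of_ringEquiv
          (R := (B ⊗[A] Cpl A) ⊗[B] K) (R' := K ⊗[p.ResidueField] p.Fiber (Cpl A))
          (Groth.Agent.Lib.Helper14.FiniteDomain.fiberEquiv A (Cpl A) B K p).symm
      haveI : IsNoetherianRing (B ⊗[A] Cpl A) :=
        Groth.Agent.Lib.Helper14.FiniteDomain.isNoetherianRing_tensor_of_finite A B (Cpl A)
      haveI : IsNoetherianRing ((B ⊗[A] Cpl A) ⊗[B] K) :=
        IsLocalization.isNoetherianRing
          (Algebra.algebraMapSubmonoid (B ⊗[A] Cpl A) (nonZeroDivisors B))
          ((B ⊗[A] Cpl A) ⊗[B] K) inferInstance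
      have key := (Groth.Agent.Lib.Helper14.FiniteDomain.forall_localization_iff
        (Algebra.algebraMapSubmonoid (B ⊗[A] Cpl A) (nonZeroDivisors B))
        ((B ⊗[A] Cpl A) ⊗[B] K)
        RegLoc regLoc_of_ringEquiv).mpr
        (fun q _ hdisj => fun [IsLocalRing (Localization.AtPrime q)] => H B q
          ((Groth.Agent.Lib.Helper14.FiniteDomain.disjoint_iff_comap_eq_bot B (B ⊗[A] Cpl A) q).mp
            hdisj))
      exact ⟨fun Q _ => key Q⟩


end Groth.Agent.S4703
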