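import Groth.Statements.S4704
import Mathlib
import Groth.Agent.Lib.Helper14.ComplFlat
import Groth.Agent.Lib.Helper14.GeomReduced
import Groth.Agent.S9294
import Groth.Agent.S9295
open TensorProduct

set_option autoImplicit false
universe u
open EGA4

namespace Groth.Agent.S4704

/-- Let A → A' be a local homomorphism of Noetherian local rings which is regular (flat, with
geometrically regular fibres). If the completion map of A' is regular (the formal fibres of A' are
geometrically regular), then the completion map of A is regular. -/
theorem result (A A' : Type u) [CommRing A] [CommRing A'] [IsNoetherianRing A]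
    [IsNoetherianRing A'] [IsLocalRing A] [IsLocalRing A'] [Algebra A A'] [IsLocalHom (algebraMap A A')]
    (hf : CAlg.IsRegularHom A A') (hA' : CAlg.IsRegularHom A' (EGA4.Cpl A')) :
    CAlg.IsRegularHom A (EGA4.Cpl A) := by
  letI : Algebra (Cpl A) (Cpl A') := (Groth.Agent.Lib.Helper14.ComplFlat.cplMap A A').toAlgebra
  haveI : Module.Flat A A' := hf.1
  haveI : IsScalarTower A (Cpl A) (Cpl A') :=
    Groth.Agent.Lib.Helper14.ComplFlat.cplMap_isScalarTower A A'
  haveI : Module.FaithfullyFlat (Cpl A) (Cpl A') :=
    Groth.Agent.Lib.Helper14.ComplFlat.cplMap_faithfullyFlat A A'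
  haveI : IsNoetherianRing (Cpl A') :=
    Groth.Agent.Lib.Helper14.ComplEtale.isNoetherianRing_completion A'
  have hAC : CAlg.IsRegularHom A (Cpl A') :=
    Groth.Agent.S9294.result A A' (Cpl A') hf hA'
      (fun p _ => Groth.Agent.Lib.Helper14.GeomReduced.isNoetherianRing_fiber A (Cpl A') p)
  exact Groth.Agent.S9295.result A (Cpl A) (Cpl A') hAC
    PrimeSpectrum.comap_surjective_of_faithfullyFlat


end Groth.Agent.S4704
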