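import Groth.Statements.S4705
import Mathlib
import Groth.Agent.Lib.Helper14.ComplFlat
import Groth.Agent.Lib.Helper14.GeomReduced
import Groth.Agent.Lib.Helper14.GeomReducedFin
import Groth.Agent.Lib.Helper9.RegLocal
open TensorProduct

set_option autoImplicit false
universe u
open EGA4

namespace Groth.Agent.S4705

/-- Let A → A' be a flat local homomorphism of Noetherian local rings all of whose fibre rings k(p) ⊗_A
A' are geometrically reduced over k(p). If the completion map of A' is regular (the formal fibres of
A' are geometrically regular), then the formal fibres of A are geometrically reduced. -/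
theorem result (A A' : Type u) [CommRing A] [CommRing A']
    [IsNoetherianRing A] [IsNoetherianRing A'] [IsLocalRing A] [IsLocalRing A'] [Algebra A A']
    [IsLocalHom (algebraMap A A')] [Module.Flat A A']
    (hf : ∀ (p : Ideal A) [p.IsPrime], Algebra.IsGeometricallyReduced p.ResidueField (p.Fiber A'))
    (hA' : CAlg.IsRegularHom A' (EGA4.Cpl A')) : EGA4.HasGeomReducedFormalFibres A := by
  letI : Algebra (Cpl A) (Cpl A') := (Groth.Agent.Lib.Helper14.ComplFlat.cplMap A A').toAlgebra
  haveI : IsScalarTower A (Cpl A) (Cpl A') :=
    Groth.Agent.Lib.Helper14.ComplFlat.cplMap_isScalarTower A A'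
  haveI : Module.FaithfullyFlat (Cpl A) (Cpl A') :=
    Groth.Agent.Lib.Helper14.ComplFlat.cplMap_faithfullyFlat A A'
  haveI : Module.Flat A' (Cpl A') := hA'.1
  have hN : ∀ (q : Ideal A') [q.IsPrime],
      Algebra.IsGeometricallyReduced q.ResidueField (q.Fiber (Cpl A')) := by
    intro q hq
    apply Groth.Agent.Lib.Helper14.GeomReducedFin.isGeometricallyReduced_of_forall_finite
    intro K _ _ hfin
    haveI : IsRegularRing (K ⊗[q.ResidueField] q.Fiber (Cpl A')) := (hA'.2 q).2 K hfin
    apply Groth.Agent.Lib.Helper14.GeomReducedFin.isReduced_of_forall_isDomain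
    intro r hr
    haveI : IsRegularLocalRing (Localization.AtPrime r) := inferInstance
    exact Groth.Agent.Lib.Helper9.RegLocal.isDomain_of_isRegularLocalRing _
  have h1 : ∀ (p : Ideal A) [p.IsPrime],
      Algebra.IsGeometricallyReduced p.ResidueField (p.Fiber (Cpl A')) := fun p _ =>
    Groth.Agent.Lib.Helper14.GeomReduced.isGeometricallyReduced_fiber_comp A A' (Cpl A')
      (fun p _ => hf p) (fun q _ => hN q) p
  intro p hp
  exact Groth.Agent.Lib.Helper14.GeomReducedFin.isGeometricallyReduced_fiber_descend A (Cpl A)
    (Cpl A') (fun p _ => h1 p) p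


end Groth.Agent.S4705
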