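import Groth.Statements.S4706
import Mathlib
import Groth.Agent.Lib.Helper14.ComplFlat
import Groth.Agent.Lib.Helper14.NormalHomComp
import Groth.Agent.Lib.Helper26.RegularNormal
import Groth.Agent.Lib.Helper9.RegLocal
import Groth.Agent.S19858
open TensorProduct

set_option autoImplicit false
universe u
open EGA4

namespace Groth.Agent.S4706

/-- Let A → A' be a local homomorphism of Noetherian local rings which is normal (flat, with
geometrically normal fibres). If the completion map of A' is regular (the formal fibres of A' are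
geometrically regular), then the formal fibres of A are geometrically normal. -/
theorem result (A A' : Type u) [CommRing A] [CommRing A']
    [IsNoetherianRing A] [IsNoetherianRing A'] [IsLocalRing A] [IsLocalRing A'] [Algebra A A']
    [IsLocalHom (algebraMap A A')] (hf : EGA4.IsNormalHom A A') (hA' : CAlg.IsRegularHom A' (EGA4.Cpl A')) :
    EGA4.HasGeomNormalFormalFibres A := by
  letI : Algebra (Cpl A) (Cpl A') := (Groth.Agent.Lib.Helper14.ComplFlat.cplMap A A').toAlgebra
  haveI : Module.Flat A A' := hf.1
  haveI : IsScalarTower A (Cpl A) (Cpl A') :=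
    Groth.Agent.Lib.Helper14.ComplFlat.cplMap_isScalarTower A A'
  haveI : Module.FaithfullyFlat (Cpl A) (Cpl A') :=
    Groth.Agent.Lib.Helper14.ComplFlat.cplMap_faithfullyFlat A A'
  haveI : IsNoetherianRing (Cpl A) :=
    Groth.Agent.Lib.Helper14.ComplEtale.isNoetherianRing_completion A
  haveI : IsNoetherianRing (Cpl A') :=
    Groth.Agent.Lib.Helper14.ComplEtale.isNoetherianRing_completion A'
  have hN : EGA4.IsNormalHom A' (Cpl A') := by
    refine ⟨hA'.1, ?_⟩
    intro p hp K _ _ hfin
    haveI : IsRegularRing (K ⊗[p.ResidueField] p.Fiber (Cpl A')) := (hA'.2 p).2 K hfin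
    intro q hq
    haveI : IsRegularLocalRing (Localization.AtPrime q) := inferInstance
    exact ⟨Groth.Agent.Lib.Helper9.RegLocal.isDomain_of_isRegularLocalRing _,
      Groth.Agent.Lib.Helper26.RegularNormal.isIntegrallyClosed_of_isRegularLocalRing _⟩
  have h1 : EGA4.IsNormalHom A (Cpl A') :=
    Groth.Agent.Lib.Helper14.NormalHomComp.isNormalHom_comp A A' (Cpl A') hf hN
  have h2 : EGA4.IsNormalHom A (Cpl A) := Groth.Agent.S19858.result A (Cpl A) (Cpl A') h1
  exact h2.2


end Groth.Agent.S4706
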