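import Groth.Statements.S4709
import Mathlib
import Groth.Agent.S2657
import Groth.Agent.S0567
import Groth.Agent.S12125
import Groth.Agent.Lib.Helper14.NorLocus
import Groth.Agent.Lib.Helper26.RegularNormal

set_option autoImplicit false
universe u
open EGA4

namespace Groth.Agent.S4709

/-- Let A be a Noetherian ring such that (i) for every maximal ideal m the formal fibres of A_m are
geometrically reduced, and (ii) the regular locus of every A-algebra of finite type is open (A is
J-2). Then A is universally Japanese. -/
theorem result (A : Type u) [CommRing A] [IsNoetherianRing A]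
    (h1 : ∀ (m : Ideal A) [m.IsMaximal], EGA4.HasGeomReducedFormalFibres (Localization.AtPrime m))
    (h2 : EGA4.IsJ2 A) : CAlg.IsUniversallyJapanese A := by
  have hNag : CAlg.IsNagata A := by
    rw [Groth.Agent.S12125.result A]
    refine ⟨?_, ?_⟩
    · intro m hm P hP
      haveI := hm
      haveI := hP
      haveI : IsNoetherianRing (Localization.AtPrime m) :=
        IsLocalization.isNoetherianRing m.primeCompl _ inferInstance
      exact (Groth.Agent.S2657.result (Localization.AtPrime m) (h1 m)).2 P
    · intro p hp K' _ _ _ _ _ _ B' hB'fin hB'frac
      haveI := hp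
      haveI := hB'fin
      haveI := hB'frac
      letI algAB' : Algebra A B' := ((algebraMap (A ⧸ p) B').comp (Ideal.Quotient.mk p)).toAlgebra
      haveI : IsScalarTower A (A ⧸ p) B' := IsScalarTower.of_algebraMap_eq (fun _ => rfl)
      haveI hft1 : Algebra.FiniteType A (A ⧸ p) :=
        Algebra.FiniteType.of_surjective (Ideal.Quotient.mkₐ A p) Ideal.Quotient.mk_surjective
      haveI hft : Algebra.FiniteType A B' :=
        Algebra.FiniteType.trans hft1 (inferInstance : Algebra.FiniteType (A ⧸ p) B')
      have hopen : IsOpen (EGA4.regLocus B') := h2 B' hft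
      obtain ⟨g, hg0, hg⟩ := Groth.Agent.Lib.Helper14.NorLocus.exists_basicOpen_of_bot_mem B' _ hopen
        (Groth.Agent.Lib.Helper14.NorLocus.bot_mem_regLocus B')
      refine ⟨g, hg0, ?_⟩
      haveI : IsDomain (Localization.Away g) :=
        IsLocalization.isDomain_localization (powers_le_nonZeroDivisors_of_noZeroDivisors hg0)
      apply IsIntegrallyClosed.of_localization_maximal
      intro q _ hq
      haveI := hq
      have hmem : (⟨q, inferInstance⟩ : PrimeSpectrum (Localization.Away g)) ∈
          EGA4.regLocus (Localization.Away g) := by
        rw [Groth.Agent.Lib.Helper14.NorLocus.mem_regLocus_away_iff B' g]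
        apply hg
        intro hgq
        have h1 : algebraMap B' (Localization.Away g) g ∈ q := hgq
        exact hq.ne_top (Ideal.eq_top_of_isUnit_mem _ h1 (IsLocalization.Away.algebraMap_isUnit g))
      haveI : IsRegularLocalRing (Localization.AtPrime q) := hmem
      exact Groth.Agent.Lib.Helper26.RegularNormal.isIntegrallyClosed_of_isRegularLocalRing _
  exact ((Groth.Agent.S0567.result A).1 hNag).2

end Groth.Agent.S4709
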