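import Groth.Statements.S4711
import Mathlib

set_option autoImplicit false
universe u
open EGA4

namespace Groth.Agent.S4711

open AlgebraicGeometry Topology in
/-- In any scheme X, every nonempty locally constructible subset E contains a point x such that the
one-point set {x} is locally closed in X (equivalently x is isolated in its closure). -/
theorem result (X : Scheme.{u}) (E : Set X)
    (hE : Topology.IsLocallyConstructible E) (hne : E.Nonempty) :
    ∃ x ∈ E, IsLocallyClosed ({x} : Set X) := by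
  classical
  obtain ⟨e, heE⟩ := hne
  obtain ⟨U, hUe, hUo, hUc⟩ := hE e
  have heU : e ∈ U := mem_of_mem_nhds hUe
  have hp : ∀ s : Set U, Topology.IsConstructible s → ∀ T : Set U, T.Nonempty →
      ∃ O : Set U, IsOpen O ∧ (O ∩ T).Nonempty ∧ (O ∩ T ⊆ s ∨ O ∩ T ⊆ sᶜ) := by
    intro s hs
    induction hs using Topology.IsConstructible.empty_union_induction with
    | open_retrocompact V hVo _ =>
      intro T hT
      by_cases h : (V ∩ T).Nonempty
      · exact ⟨V, hVo, h, Or.inl Set.inter_subset_left⟩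
      · refine ⟨Set.univ, isOpen_univ, by simpa using hT, Or.inr ?_⟩
        intro z hz hzV
        exact h ⟨z, hzV, hz.2⟩
    | union s hs t ht ihs iht =>
      intro T hT
      obtain ⟨O₁, hO₁, hne₁, h₁⟩ := ihs T hT
      rcases h₁ with h₁ | h₁
      · exact ⟨O₁, hO₁, hne₁, Or.inl (h₁.trans Set.subset_union_left)⟩
      · obtain ⟨O₂, hO₂, hne₂, h₂⟩ := iht (O₁ ∩ T) hne₁
        refine ⟨O₂ ∩ O₁, hO₂.inter hO₁, by rwa [Set.inter_assoc], ?_⟩
        rw [Set.inter_assoc]
        rcases h₂ with h₂ | h₂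
        · exact Or.inl (h₂.trans Set.subset_union_right)
        · refine Or.inr ?_
          intro z hz
          rw [Set.compl_union]
          exact ⟨h₁ hz.2, h₂ hz⟩
    | compl s hs ih =>
      intro T hT
      obtain ⟨O, hO, hne, h⟩ := ih T hT
      refine ⟨O, hO, hne, ?_⟩
      rw [compl_compl]
      exact h.symm
  obtain ⟨O, hO, hne, h⟩ := hp _ hUc (closure {⟨e, heU⟩}) ⟨_, subset_closure rfl⟩
  have heO : (⟨e, heU⟩ : U) ∈ O := by
    obtain ⟨z, hzO, hzc⟩ := hne
    exact (specializes_iff_mem_closure.mpr hzc).mem_open hO hzO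
  have hsub : O ∩ closure {⟨e, heU⟩} ⊆ (Subtype.val ⁻¹' E : Set U) := by
    rcases h with h | h
    · exact h
    · exact absurd heE (h ⟨heO, subset_closure rfl⟩)
  have hO' : IsOpen (Subtype.val '' O : Set X) := hUo.isOpenMap_subtype_val O hO
  obtain ⟨A, hA, heA, hAO⟩ := TopologicalSpace.Opens.isBasis_iff_nbhd.mp X.isBasis_affineOpens
    (U := ⟨_, hO'⟩) (show e ∈ (Subtype.val '' O : Set X) from ⟨_, heO, rfl⟩)
  obtain ⟨A', hA'o, hA'c, heA', hA'O⟩ : ∃ A' : Set X, IsOpen A' ∧ IsCompact A' ∧ e ∈ A' ∧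
      A' ⊆ (Subtype.val '' O : Set X) := ⟨A, A.isOpen, hA.isCompact, heA, fun z hz => hAO hz⟩
  haveI : CompactSpace A' := isCompact_iff_compactSpace.mp hA'c
  obtain ⟨x, hxK, hxc⟩ := IsClosed.exists_closed_singleton
    (isClosed_closure : IsClosed (closure ({⟨e, heA'⟩} : Set A'))) ⟨_, subset_closure rfl⟩
  refine ⟨x.1, ?_, ?_⟩
  · obtain ⟨o, hoO, hox⟩ : x.1 ∈ (Subtype.val '' O : Set X) := hA'O x.2
    have h1 : (⟨e, heA'⟩ : A') ⤳ x := specializes_iff_mem_closure.mpr hxK
    have h2 : e ⤳ x.1 := (subtype_specializes_iff _ _).mp h1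
    have h3 : (⟨e, heU⟩ : U) ⤳ o := by
      rw [subtype_specializes_iff, hox]
      exact h2
    have h4 : o ∈ (Subtype.val ⁻¹' E : Set U) := hsub ⟨hoO, specializes_iff_mem_closure.mp h3⟩
    rw [← hox]
    exact h4
  · refine ⟨A', closure {x.1}, hA'o, isClosed_closure, ?_⟩
    ext z
    constructor
    · intro hz
      rw [Set.mem_singleton_iff] at hz
      rw [hz]
      exact ⟨x.2, subset_closure rfl⟩
    · rintro ⟨hzA, hzc⟩
      have h6 : x ⤳ (⟨z, hzA⟩ : A') := by
        rw [subtype_specializes_iff]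
        exact specializes_iff_mem_closure.mpr hzc
      have h7 : (⟨z, hzA⟩ : A') ∈ closure ({x} : Set A') := specializes_iff_mem_closure.mp h6
      rw [hxc.closure_eq, Set.mem_singleton_iff] at h7
      rw [Set.mem_singleton_iff, ← h7]

end Groth.Agent.S4711
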