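import Groth.Statements.S4713
import Mathlib
import Groth.Agent.S4712

set_option autoImplicit false
universe u
open EGA4

namespace Groth.Agent.S4713

open AlgebraicGeometry in
/-- In a locally Noetherian scheme X, every nonempty closed subset contains a closed point of X. -/
theorem result (X : Scheme.{u}) [IsLocallyNoetherian X]
    (Z : Set X) (hZ : IsClosed Z) (hne : Z.Nonempty) : ∃ x ∈ Z, IsClosed ({x} : Set X) := by
  obtain ⟨z, hz⟩ := hne
  obtain ⟨_, ⟨W, hW, rfl⟩, hzW, -⟩ :=
    X.isBasis_affineOpens.exists_subset_of_mem_open (Set.mem_univ z) isOpen_univ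
  have hW : AlgebraicGeometry.IsAffineOpen W := hW
  haveI : CompactSpace ↥(W : Set X) := isCompact_iff_compactSpace.mp hW.isCompact
  have hind : Topology.IsInducing (Subtype.val : ↥(W : Set X) → X) := Topology.IsInducing.subtypeVal
  obtain ⟨w, hwZ, hwcl⟩ := IsClosed.exists_closed_singleton
    (hZ.preimage (continuous_subtype_val (p := fun t => t ∈ (W : Set X))))
    (⟨⟨z, hzW⟩, hz⟩ : (Subtype.val ⁻¹' Z : Set ↥(W : Set X)).Nonempty)
  have hxZ : w.val ∈ Z := hwZ
  have hlc : IsLocallyClosed ({w.val} : Set X) := by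
    refine ⟨W, closure {w.val}, W.2, isClosed_closure, ?_⟩
    apply Set.Subset.antisymm
    · intro t ht
      rw [Set.mem_singleton_iff.mp ht]
      exact ⟨w.2, subset_closure (Set.mem_singleton _)⟩
    · rintro t ⟨htW, htcl⟩
      have h1 : w ⤳ (⟨t, htW⟩ : ↥(W : Set X)) :=
        hind.specializes_iff.mp (specializes_iff_mem_closure.mpr htcl)
      have h2 : (⟨t, htW⟩ : ↥(W : Set X)) ∈ closure ({w} : Set ↥(W : Set X)) :=
        specializes_iff_mem_closure.mp h1
      rw [hwcl.closure_eq] at h2
      exact Set.mem_singleton_iff.mpr (congrArg Subtype.val (Set.mem_singleton_iff.mp h2))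
  have hkey := (Groth.Agent.S4712.result X w.val hlc).2
  by_cases h : ∃ y ∈ closure ({w.val} : Set X), y ≠ w.val
  · obtain ⟨y, hy, hyx⟩ := h
    exact ⟨y, hZ.closure_subset_iff.mpr (Set.singleton_subset_iff.mpr hxZ) hy, hkey y hy hyx⟩
  · push_neg at h
    refine ⟨w.val, hxZ, ?_⟩
    rw [← closure_subset_iff_isClosed]
    intro y hy
    exact Set.mem_singleton_iff.mpr (h y hy)

end Groth.Agent.S4713
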