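import Groth.Statements.S4714
-- import your own Groth.Agent.* helpers here
import Mathlib
import Groth.Agent.Lib.Helper12.DimLC
import Groth.Agent.Lib.Helper12.KrullSch

set_option autoImplicit false
universe u
open EGA4

namespace Groth.Agent.S4714
open AlgebraicGeometry CategoryTheory
open Groth.Agent.Lib.Helper12 Groth.Agent.Lib.Helper12.SchemeDimFT
  Groth.Agent.Lib.Helper12.SchemeDimIneq Groth.Agent.Lib.Helper12.Equidim
  Groth.Agent.Lib.Helper12.FlatDim Groth.Agent.Lib.Helper12.DimLC
  Groth.Agent.Lib.Helper12.KrullSch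

/-- `dim Z + 1 ≤ c` for a locally closed subset, in terms of points. -/
theorem dim_add_one_le (k : Type u) [Field k] (X : Scheme.{u}) [X.Over (Spec (CommRingCat.of k))]
    [LocallyOfFiniteType (X ↘ Spec (CommRingCat.of k))] (Z : Set X) (hZ : IsLocallyClosed Z)
    (c : WithBot ℕ∞) (h : ∀ z ∈ Z, ((tr k X z : ℕ) : WithBot ℕ∞) + 1 ≤ c) :
    topologicalKrullDim ↥Z + 1 ≤ c := by
  induction c using WithBot.recBotCoe with
  | bot =>
    have h1 := topologicalKrullDim_le_of_isLocallyClosed k X Z hZ ⊥ (by
      intro z hz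
      have := h z hz
      rw [le_bot_iff] at this
      exact absurd this (by
        have : ((tr k X z : ℕ) : WithBot ℕ∞) + 1 = ((tr k X z + 1 : ℕ) : WithBot ℕ∞) := by
          push_cast; rfl
        rw [this]
        exact WithBot.coe_ne_bot))
    rw [le_bot_iff] at h1
    rw [h1]
    simp
  | coe c =>
    induction c using ENat.recTopCoe with
    | top => exact le_top
    | coe N =>
      have := (dim_add_le_iff k X Z hZ 1 N).mpr (fun z hz => by
        have h2 := h z hz
        exact_mod_cast h2)
      exact_mod_cast this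


open AlgebraicGeometry CategoryTheory in
/-- For a section of the structure sheaf: let X be a scheme locally of finite type over a field k and f
a global section of O_X whose zero locus Y is nowhere dense in X. Then dim Y + 1 ≤ dim X. If
moreover some irreducible component of X has dimension equal to dim X and Y meets every such
component, then dim Y + 1 = dim X. (The published statement is for a section of an invertible sheaf;
the existence of a component of maximal dimension, implicit in the published wording, is made a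
hypothesis of the equality clause.) -/
theorem result (k : Type u) [Field k] (X : Scheme.{u}) (p : X ⟶ Spec (CommRingCat.of k))
    [LocallyOfFiniteType p] (f : Γ(X, ⊤)) (hY : interior (X.zeroLocus (U := ⊤) {f}) = ∅) :
    topologicalKrullDim (X.zeroLocus (U := ⊤) {f}) + 1 ≤ topologicalKrullDim X ∧
      ((∃ Z ∈ irreducibleComponents (X : Type u), topologicalKrullDim Z = topologicalKrullDim X) →
        (∀ Z ∈ irreducibleComponents (X : Type u), topologicalKrullDim Z = topologicalKrullDim X →
          (Z ∩ X.zeroLocus (U := ⊤) {f}).Nonempty) →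
        topologicalKrullDim (X.zeroLocus (U := ⊤) {f}) + 1 = topologicalKrullDim X) := by
  classical
  letI : X.Over (Spec (CommRingCat.of k)) := ⟨p⟩
  haveI : LocallyOfFiniteType (X ↘ Spec (CommRingCat.of k)) := ‹LocallyOfFiniteType p›
  have hYcl : IsClosed (X.zeroLocus (U := ⊤) {f}) := X.zeroLocus_isClosed _
  -- maximal points are not in `Y`
  have hmaxY : ∀ ζ : X, IsMaxPt ζ → ζ ∉ X.zeroLocus (U := ⊤) {f} := by
    intro ζ hζ hmem
    obtain ⟨D, hDo, hζD, hD⟩ := exists_open_subset_closure_of_isMaxPt k X ζ hζ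
    have hsub : D ⊆ X.zeroLocus (U := ⊤) {f} :=
      hD.trans (hYcl.closure_subset_iff.mpr (Set.singleton_subset_iff.mpr hmem))
    have : ζ ∈ interior (X.zeroLocus (U := ⊤) {f}) :=
      mem_interior.mpr ⟨D, hsub, hDo, hζD⟩
    rw [hY] at this
    exact this
  have part1 : topologicalKrullDim (X.zeroLocus (U := ⊤) {f}) + 1 ≤ topologicalKrullDim X := by
    apply dim_add_one_le k X _ hYcl.isLocallyClosed
    intro y hy
    obtain ⟨ζ, hζ1, hζ2⟩ := exists_isMaxPt_specializes y
    have hne : ζ ≠ y := fun h => hmaxY ζ hζ1 (h ▸ hy)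
    have h1 := tr_lt_of_specializes k X ζ y hζ2 hne
    have h2 := FibreRes.tr_le_topologicalKrullDim k X ζ
    refine le_trans ?_ h2
    exact_mod_cast h1
  refine ⟨part1, ?_⟩
  rintro ⟨Z₀, hZ₀, hZ₀d⟩ hmeet
  apply le_antisymm part1
  obtain ⟨ζ₀, hζ₀, rfl⟩ := (mem_irreducibleComponents_iff Z₀).mp hZ₀
  obtain ⟨y, hy1, hy2⟩ := hmeet _ hZ₀ hZ₀d
  rw [← hZ₀d, topologicalKrullDim_closure_singleton k X ζ₀]
  obtain ⟨t, htS, htmax, -⟩ := JacLocalDim.exists_max_in_closed
    (closure {ζ₀} ∩ X.zeroLocus (U := ⊤) {f}) (isClosed_closure.inter hYcl) y ⟨hy1, hy2⟩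
  obtain ⟨V, hV, htV⟩ := exists_affineOpen_mem X t
  let g : Γ(X, V) := X.presheaf.map (homOfLE (le_top : V ≤ ⊤)).op f
  have hg : ∀ t' : X, ∀ ht' : t' ∈ V, (g ∈ (hV.primeIdealOf ⟨t', ht'⟩).asIdeal ↔
      t' ∈ X.zeroLocus (U := ⊤) {f}) := by
    intro t' ht'
    rw [Scheme.mem_zeroLocus_iff]
    have h1 := mem_basicOpen_iff_notMem_primeIdealOf hV ⟨t', ht'⟩ g
    have h2 : X.basicOpen g = V ⊓ X.basicOpen f := Scheme.basicOpen_res X f _
    rw [h2] at h1
    constructor
    · intro hmem f' hf' hb
      rw [Set.mem_singleton_iff] at hf'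
      subst hf'
      exact (h1.mp ⟨ht', hb⟩) hmem
    · intro h
      by_contra hcon
      exact h f rfl (h1.mpr hcon).2
  have key := tr_le_add_card k X V hV ζ₀ t (specializes_iff_mem_closure.mpr htS.1) htV {g}
    (by
      intro g' hg'
      rw [Finset.mem_singleton] at hg'
      subst hg'
      exact (hg t htV).mpr htS.2)
    (by
      intro t' ht' h1 h2 h3
      exact htmax t' ⟨specializes_iff_mem_closure.mp h1,
        (hg t' ht').mp (h3 g (Finset.mem_singleton_self g))⟩ h2)
  rw [Finset.card_singleton] at key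
  have h3 := le_topologicalKrullDim_of_isLocallyClosed k X _ hYcl.isLocallyClosed t htS.2
  refine le_trans ?_ (add_le_add_left h3 1)
  exact_mod_cast key

end Groth.Agent.S4714
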