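import Groth.Statements.S4716
import Mathlib
import Groth.Agent.Lib.Helper13.OpenGeneralizing

set_option autoImplicit false
universe u
open EGA4

namespace Groth.Agent.S4716

open Groth.Agent.Lib.Helper13.OpenGeneralizing in
attribute [local instance] specializationOrder in
/-- A continuous surjective specializing map between sober spaces does not increase
the topological Krull dimension. -/
theorem topologicalKrullDim_le_of_specializingMap {X V : Type*} [TopologicalSpace X]
    [TopologicalSpace V] [QuasiSober X] [T0Space X] [QuasiSober V] [T0Space V] (g : X → V)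
    (hcont : Continuous g) (hsurj : Function.Surjective g) (hspec : SpecializingMap g) :
    topologicalKrullDim V ≤ topologicalKrullDim X := by
  unfold topologicalKrullDim
  rw [Order.krullDim_eq_of_orderIso (irreducibleSetEquivPoints (α := V)),
    Order.krullDim_eq_of_orderIso (irreducibleSetEquivPoints (α := X)),
    ← Order.krullDim_orderDual (α := V), ← Order.krullDim_orderDual (α := X)]
  refine krullDim_le_of_lift (α := Xᵒᵈ) (β := Vᵒᵈ)
    (fun a => OrderDual.toDual (g (OrderDual.ofDual a))) (fun b => ?_) ?_
  · obtain ⟨a, ha⟩ := hsurj (OrderDual.ofDual b)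
    exact ⟨OrderDual.toDual a, congrArg OrderDual.toDual ha⟩
  · intro a b' hlt
    have hlt' : OrderDual.ofDual b' < g (OrderDual.ofDual a) := hlt
    obtain ⟨a', ha', e⟩ :=
      hspec (show g (OrderDual.ofDual a) ⤳ OrderDual.ofDual b' from hlt'.le)
    refine ⟨OrderDual.toDual a', ?_, congrArg OrderDual.toDual e⟩
    show a' < OrderDual.ofDual a
    refine lt_of_le_not_ge ha' (fun h => hlt'.not_ge ?_)
    rw [← e]
    exact Specializes.map h hcont

open AlgebraicGeometry CategoryTheory in
/-- Consider locally Noetherian schemes X and Y and a morphism f : X → Y that is surjective and whose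
underlying map is either open or closed. Then dim X ≥ dim Y. -/
theorem result {X Y : Scheme.{u}} (f : X ⟶ Y) [IsLocallyNoetherian X]
    [IsLocallyNoetherian Y] (hs : Function.Surjective f.base) (h : IsOpenMap f.base ∨ IsClosedMap f.base) :
    topologicalKrullDim Y ≤ topologicalKrullDim X := by
  rcases h with h | h
  · exact Groth.Agent.Lib.Helper13.OpenGeneralizing.topologicalKrullDim_le_of_generalizingMap
      f.base f.continuous hs
      (Groth.Agent.Lib.Helper13.OpenGeneralizing.generalizingMap_of_isOpenMap f h)
  · exact topologicalKrullDim_le_of_specializingMap f.base f.continuous hs h.specializingMap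

end Groth.Agent.S4716
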