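import Groth.Statements.S4717
-- import your own Groth.Agent.* helpers here
import Mathlib
import Groth.Agent.Lib.Helper12.QFDim

set_option autoImplicit false
universe u
open EGA4

namespace Groth.Agent.S4717

open AlgebraicGeometry CategoryTheory in
/-- Let f : X → Y be a finite morphism of locally Noetherian schemes. Then dim X equals the dimension of
the image f(X); in particular if f is surjective then dim X = dim Y. -/
theorem result {X Y : Scheme.{u}} (f : X ⟶ Y) [IsLocallyNoetherian X] [IsLocallyNoetherian Y]
    [IsFinite f] :
    topologicalKrullDim X = topologicalKrullDim (Set.range f.base) ∧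
      (Function.Surjective f.base → topologicalKrullDim X = topologicalKrullDim Y) := by
  have hcl : IsClosedMap f.base := f.isClosedMap
  have h1 : topologicalKrullDim X = topologicalKrullDim (Set.range f.base) :=
    le_antisymm (Groth.Agent.Lib.Helper12.QFDim.dim_le_of_quasiFinite f _ hcl.isClosed_range
      subset_rfl) (Groth.Agent.Lib.Helper12.QFDim.dim_range_le_of_isClosedMap f hcl)
  refine ⟨h1, fun hs => ?_⟩
  rw [h1, hs.range_eq]
  exact IsHomeomorph.topologicalKrullDim_eq _ (Homeomorph.Set.univ Y).isHomeomorph

end Groth.Agent.S4717
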