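import Groth.Statements.S4718
import Groth.Agent.Lib.Helper4.FinRes

set_option autoImplicit false
universe u
open EGA4

namespace Groth.Agent.S4718

/-- Let A be a Noetherian local ring, B a Noetherian ring, A → B a ring homomorphism and M a nonzero
B-module which is finite as an A-module. Then M is a Cohen–Macaulay A-module if and only if, for all
primes q of B lying over the maximal ideal of A and belonging to the support of M, the B_q-module
M_q is Cohen–Macaulay and all these modules M_q have the same dimension. -/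
theorem result (A B : Type u) [CommRing A] [CommRing B]
    [IsNoetherianRing A] [IsLocalRing A] [IsNoetherianRing B] [Algebra A B]
    (M : Type u) [AddCommGroup M] [Module B M] [Module A M] [IsScalarTower A B M] [Module.Finite A M]
    [Nontrivial M] :
    LocCoh.IsCohenMacaulayModule A M ↔
      (∀ q ∈ {q : PrimeSpectrum B | q.asIdeal.comap (algebraMap A B) = IsLocalRing.maximalIdeal A ∧
          q ∈ Module.support B M},
        LocCoh.IsCohenMacaulayModule (Localization.AtPrime q.asIdeal) (LocalizedModule q.asIdeal.primeCompl M)) ∧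
      (∀ q ∈ {q : PrimeSpectrum B | q.asIdeal.comap (algebraMap A B) = IsLocalRing.maximalIdeal A ∧
          q ∈ Module.support B M},
        ∀ q' ∈ {q : PrimeSpectrum B | q.asIdeal.comap (algebraMap A B) = IsLocalRing.maximalIdeal A ∧
          q ∈ Module.support B M},
          Module.supportDim (Localization.AtPrime q.asIdeal) (LocalizedModule q.asIdeal.primeCompl M) =
            Module.supportDim (Localization.AtPrime q'.asIdeal) (LocalizedModule q'.asIdeal.primeCompl M)) := by
  haveI : Module.Finite B M := Module.Finite.of_restrictScalars_finite A B M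
  -- abstract lattice lemma
  have abs : ∀ (Q : Set (PrimeSpectrum B)) (D : PrimeSpectrum B → WithBot ℕ∞)
      (d : PrimeSpectrum B → ℕ∞), (∀ q ∈ Q, ((d q : ℕ∞) : WithBot ℕ∞) ≤ D q) → Q.Nonempty →
      ((⨆ q ∈ Q, D q) = ((⨅ q ∈ Q, d q : ℕ∞) : WithBot ℕ∞) ↔
        (∀ q ∈ Q, D q = ((d q : ℕ∞) : WithBot ℕ∞)) ∧ (∀ q ∈ Q, ∀ q' ∈ Q, D q = D q')) := by
    intro Q D d hle hne
    constructor
    · intro hCM
      have h1 : ∀ q ∈ Q, D q = ((d q : ℕ∞) : WithBot ℕ∞) ∧ D q = ⨆ q ∈ Q, D q := by
        intro q hq
        have a1 : D q ≤ ⨆ q ∈ Q, D q := le_iSup₂_of_le q hq le_rfl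
        have a2 : ((⨅ q ∈ Q, d q : ℕ∞) : WithBot ℕ∞) ≤ ((d q : ℕ∞) : WithBot ℕ∞) :=
          WithBot.coe_le_coe.mpr (iInf₂_le q hq)
        have a3 := hle q hq
        refine ⟨le_antisymm ?_ a3, le_antisymm a1 ?_⟩
        · rw [hCM] at a1
          exact a1.trans a2
        · rw [hCM]
          exact a2.trans a3
      exact ⟨fun q hq => (h1 q hq).1, fun q hq q' hq' => ((h1 q hq).2).trans ((h1 q' hq').2).symm⟩
    · rintro ⟨hcm, heq⟩
      obtain ⟨q₀, hq₀⟩ := hne
      have e1 : (⨆ q ∈ Q, D q) = D q₀ :=
        le_antisymm (iSup₂_le fun q hq => le_of_eq (heq q hq q₀ hq₀)) (le_iSup₂_of_le q₀ hq₀ le_rfl)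
      have e2 : (⨅ q ∈ Q, d q) = d q₀ := by
        apply le_antisymm (iInf₂_le q₀ hq₀)
        refine le_iInf₂ fun q hq => ?_
        have : ((d q : ℕ∞) : WithBot ℕ∞) = ((d q₀ : ℕ∞) : WithBot ℕ∞) := by
          rw [← hcm q hq, ← hcm q₀ hq₀]
          exact heq q hq q₀ hq₀
        exact (WithBot.coe_injective this).ge
      rw [e1, e2]
      exact hcm q₀ hq₀
  have hMm : Nontrivial (LocalizedModule (IsLocalRing.maximalIdeal A).primeCompl M) := by
    by_contra hns
    rw [not_nontrivial_iff_subsingleton, LocalizedModule.subsingleton_iff] at hns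
    obtain ⟨x, hx⟩ := exists_ne (0 : M)
    obtain ⟨r, hr, hrx⟩ := hns x
    have hu : IsUnit r := by
      by_contra hnu
      exact hr ((IsLocalRing.mem_maximalIdeal r).mpr hnu)
    exact hx ((hu.smul_eq_zero).mp hrx)
  have hmsupp : (⟨IsLocalRing.maximalIdeal A, inferInstance⟩ : PrimeSpectrum A) ∈
      Module.support A M := Module.mem_support_iff.mpr hMm
  have hdepth : LocCoh.depth A M = LocCoh.depth (Localization.AtPrime (IsLocalRing.maximalIdeal A))
      (LocalizedModule (IsLocalRing.maximalIdeal A).primeCompl M) := by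
    apply le_antisymm
    · exact Groth.Agent.Lib.Helper28.idealDepth_le_depth_localization
        (IsLocalRing.maximalIdeal A) (IsLocalRing.maximalIdeal A) le_rfl
    · refine ENat.forall_natCast_le_iff_le.mp fun n hn => ?_
      apply Groth.Agent.Lib.Helper28.le_idealDepth_of_forall_localization
        (IsLocalRing.maximalIdeal A) n
      intro p _ hmp hnt
      have hpm : IsLocalRing.maximalIdeal A = p :=
        (IsLocalRing.maximalIdeal.isMaximal A).eq_of_le (Ideal.IsPrime.ne_top ‹_›) hmp
      subst hpm
      exact hn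
  have hdim : Module.supportDim A M = Module.supportDim
      (Localization.AtPrime (IsLocalRing.maximalIdeal A))
      (LocalizedModule (IsLocalRing.maximalIdeal A).primeCompl M) := by
    rw [Groth.Agent.Lib.Helper4.FinRes.supportDim_localizedModule_eq_height
      (IsLocalRing.maximalIdeal A) hmsupp, Module.supportDim, Order.krullDim_eq_iSup_height]
    apply le_antisymm
    · refine iSup_le fun a => ?_
      rw [WithBot.coe_le_coe]
      apply Order.height_mono
      show a.1.asIdeal ≤ IsLocalRing.maximalIdeal A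
      exact IsLocalRing.le_maximalIdeal a.1.2.ne_top
    · exact le_iSup (fun a : Module.support A M => ((Order.height a : ℕ∞) : WithBot ℕ∞))
        ⟨⟨IsLocalRing.maximalIdeal A, inferInstance⟩, hmsupp⟩
  have hS := hdim.trans (Groth.Agent.Lib.Helper4.FinRes.supportDim_eq_iSup (B := B) M
    (IsLocalRing.maximalIdeal A))
  have hI := hdepth.trans (Groth.Agent.Lib.Helper4.FinRes.depth_eq_iInf (B := B) M
    (IsLocalRing.maximalIdeal A))
  have hne : {q : PrimeSpectrum B | q.asIdeal.comap (algebraMap A B) = IsLocalRing.maximalIdeal A ∧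
      q ∈ Module.support B M}.Nonempty := by
    obtain ⟨y, hy, -⟩ := Groth.Agent.Lib.Helper4.FinRes.exists_over_height_ge (B := B) M 0
      ⟨⟨IsLocalRing.maximalIdeal A, inferInstance⟩, hmsupp⟩ (by simp)
    exact ⟨y.1, congrArg PrimeSpectrum.asIdeal hy, y.2⟩
  have hle : ∀ q ∈ {q : PrimeSpectrum B | q.asIdeal.comap (algebraMap A B) =
      IsLocalRing.maximalIdeal A ∧ q ∈ Module.support B M},
      ((LocCoh.depth (Localization.AtPrime q.asIdeal)
        (LocalizedModule q.asIdeal.primeCompl M) : ℕ∞) : WithBot ℕ∞) ≤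
      Module.supportDim (Localization.AtPrime q.asIdeal)
        (LocalizedModule q.asIdeal.primeCompl M) := by
    intro q hq
    haveI : Nontrivial (LocalizedModule q.asIdeal.primeCompl M) := Module.mem_support_iff.mp hq.2
    exact Groth.Agent.Lib.Helper28.depth_le_supportDim
  have main := abs _ (fun q => Module.supportDim (Localization.AtPrime q.asIdeal)
      (LocalizedModule q.asIdeal.primeCompl M))
    (fun q => LocCoh.depth (Localization.AtPrime q.asIdeal)
      (LocalizedModule q.asIdeal.primeCompl M)) hle hne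
  show Module.supportDim A M = ((LocCoh.depth A M : ℕ∞) : WithBot ℕ∞) ↔ _
  rw [hS, hI]
  exact main

end Groth.Agent.S4718
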