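import Groth.Statements.S4719
import Groth.Agent.Lib.Helper4.FinRes

set_option autoImplicit false
universe u
open EGA4

namespace Groth.Agent.S4719

/-- Let A → B be a homomorphism of Noetherian rings and M a B-module which is finite as an A-module. (i)
If M satisfies (S_k) as an A-module, it satisfies (S_k) as a B-module. (ii) If for every two primes
q, q' of B in the support of M having the same contraction to A the modules M_q and M_{q'} have the
same dimension, then (S_k) for M as a B-module implies (S_k) for M as an A-module. (The published
statement asks the equal-dimension condition for all pairs of primes of B with the same contraction;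
this row asks it only for primes in the support of M, which is all its proof uses.) -/
theorem result (k : ℕ) (A B : Type u) [CommRing A] [CommRing B] [IsNoetherianRing A]
    [IsNoetherianRing B] [Algebra A B] (M : Type u) [AddCommGroup M] [Module B M] [Module A M]
    [IsScalarTower A B M] [Module.Finite A M] :
    (LocCoh.HasSk k A M → LocCoh.HasSk k B M) ∧
      ((∀ q ∈ Module.support B M, ∀ q' ∈ Module.support B M,
          q.asIdeal.comap (algebraMap A B) = q'.asIdeal.comap (algebraMap A B) →
            Module.supportDim (Localization.AtPrime q.asIdeal) (LocalizedModule q.asIdeal.primeCompl M) =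
              Module.supportDim (Localization.AtPrime q'.asIdeal) (LocalizedModule q'.asIdeal.primeCompl M)) →
        LocCoh.HasSk k B M → LocCoh.HasSk k A M) := by
  haveI : Module.Finite B M := Module.Finite.of_restrictScalars_finite A B M
  constructor
  · intro hA q _
    by_cases hnt : Nontrivial (LocalizedModule q.primeCompl M)
    swap
    · rw [not_nontrivial_iff_subsingleton] at hnt
      rw [Groth.Agent.Lib.Helper4.depth_eq_top_of_subsingleton]
      exact le_top
    have hmem : (⟨q, inferInstance⟩ : PrimeSpectrum B) ∈
        {q' : PrimeSpectrum B | q'.asIdeal.comap (algebraMap A B) = q.comap (algebraMap A B) ∧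
          q' ∈ Module.support B M} := ⟨rfl, Module.mem_support_iff.mpr hnt⟩
    have h1 := hA (q.comap (algebraMap A B))
    rw [Groth.Agent.Lib.Helper4.FinRes.supportDim_eq_iSup (B := B) M (q.comap (algebraMap A B)),
      Groth.Agent.Lib.Helper4.FinRes.depth_eq_iInf (B := B) M (q.comap (algebraMap A B))] at h1
    refine le_trans (min_le_min le_rfl ?_) (le_trans h1 ?_)
    · exact le_iSup₂_of_le (⟨q, inferInstance⟩ : PrimeSpectrum B) hmem le_rfl
    · exact WithBot.coe_le_coe.mpr (iInf₂_le (⟨q, inferInstance⟩ : PrimeSpectrum B) hmem)
  · intro hdim hB p _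
    have key : ∀ (X : WithBot ℕ∞) (S : Set (PrimeSpectrum B)) (d : PrimeSpectrum B → ℕ∞),
        (∀ q ∈ S, X ≤ ((d q : ℕ∞) : WithBot ℕ∞)) →
        X ≤ ((⨅ q ∈ S, d q : ℕ∞) : WithBot ℕ∞) := by
      intro X S d h
      induction X with
      | bot => exact bot_le
      | coe x =>
        rw [WithBot.coe_le_coe]
        exact le_iInf₂ fun q hq => WithBot.coe_le_coe.mp (h q hq)
    rw [Groth.Agent.Lib.Helper4.FinRes.supportDim_eq_iSup (B := B) M p,
      Groth.Agent.Lib.Helper4.FinRes.depth_eq_iInf (B := B) M p]
    apply key
    intro q hq
    refine le_trans (min_le_min le_rfl ?_) (hB q.asIdeal)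
    refine iSup₂_le fun q' hq' => ?_
    exact le_of_eq (hdim q' hq'.2 q hq.2 (hq'.1.trans hq.1.symm))

end Groth.Agent.S4719
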