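import Groth.Statements.S4722
import Mathlib

set_option autoImplicit false
universe u
open EGA4

namespace Groth.Agent.S4722


section
variable {A : Type u} [CommRing A] {M : Type u} [AddCommGroup M] [Module A M] (p : Ideal A)

def Good (N : Submodule A M) : Prop :=
  ∃ (m : ℕ) (F : Fin (m + 1) → Submodule A M), Antitone F ∧ F 0 = N ∧ F (Fin.last m) = ⊥ ∧
    ∀ i : Fin m, ∃ g : (↥(F i.castSucc) ⧸ Submodule.comap (F i.castSucc).subtype (F i.succ)) →ₗ[A]
      (A ⧸ p), Function.Injective g

lemma good_bot : Good p (⊥ : Submodule A M) :=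
  ⟨0, fun _ => ⊥, fun _ _ _ => le_rfl, rfl, rfl, fun i => i.elim0⟩

lemma good_step (N L : Submodule A M) (hNL : N ≤ L) (hN : Good p N)
    (g : (↥L ⧸ Submodule.comap L.subtype N) →ₗ[A] (A ⧸ p)) (hg : Function.Injective g) :
    Good p L := by
  obtain ⟨m, F, hanti, h0, hlast, hF⟩ := hN
  subst h0
  refine ⟨m + 1, Fin.cons L F, ?_, rfl, ?_, ?_⟩
  · intro i j hij
    induction i using Fin.cases with
    | zero =>
      induction j using Fin.cases with
      | zero => exact le_rfl
      | succ j =>
        simp only [Fin.cons_zero, Fin.cons_succ]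
        exact (hanti (Fin.zero_le j)).trans hNL
    | succ i =>
      induction j using Fin.cases with
      | zero => exact absurd hij (by simp)
      | succ j =>
        simp only [Fin.cons_succ]
        exact hanti (Fin.succ_le_succ_iff.mp hij)
  · rw [← Fin.succ_last, Fin.cons_succ]; exact hlast
  · intro i
    induction i using Fin.cases with
    | zero => exact ⟨g, hg⟩
    | succ i => exact hF i

end

set_option maxHeartbeats 800000 in
theorem main (A : Type u) [CommRing A] [IsNoetherianRing A] (M : Type u) [AddCommGroup M]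
    [Module A M] [Module.Finite A M] (p : Ideal A) (hp : associatedPrimes A M = {p}) :
    Good p (⊤ : Submodule A M) := by
  classical
  have hpAss : p ∈ associatedPrimes A M := by rw [hp]; rfl
  haveI hpprime : p.IsPrime := hpAss.isPrime
  have hreg : ∀ s : A, s ∉ p → ∀ y : M, s • y = 0 → y = 0 := by
    intro s hs y hy
    by_contra hy0
    have h1 : s ∈ ⋃ q ∈ associatedPrimes A M, (q : Set A) := by
      rw [biUnion_associatedPrimes_eq_zero_divisors]; exact ⟨y, hy0, hy⟩
    rw [hp] at h1
    simp only [Set.mem_singleton_iff, Set.iUnion_iUnion_eq_left, SetLike.mem_coe] at h1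
    exact hs h1
  have hrad : ∀ a ∈ p, ∃ n : ℕ, ∀ y : M, a ^ n • y = 0 := by
    intro a ha
    have h1 : p ≤ (Module.annihilator A M).radical := by
      rw [← Ideal.sInf_minimalPrimes]
      refine le_sInf fun q hq => ?_
      have h2 := Module.associatedPrimes.minimalPrimes_annihilator_subset_associatedPrimes A M hq
      rw [hp] at h2
      rw [Set.mem_singleton_iff.mp h2]
    obtain ⟨n, hn⟩ := h1 ha
    exact ⟨n, fun y => Module.mem_annihilator.mp hn y⟩
  let 𝒞 : Set (Submodule A M) :=
    {N | (∀ s : A, s ∉ p → ∀ y : M, s • y ∈ N → y ∈ N) ∧ Good p N}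
  have hne : 𝒞.Nonempty := ⟨⊥, fun s hs y hy => by
      rw [Submodule.mem_bot] at hy ⊢; exact hreg s hs y hy, good_bot p⟩
  obtain ⟨N, ⟨hNsat, hNgood⟩, hNmax⟩ :=
    set_has_maximal_iff_noetherian.mpr (inferInstance : IsNoetherian A M) 𝒞 hne
  by_contra hgoal
  have hNtop : N ≠ ⊤ := fun h => hgoal (h ▸ hNgood)
  haveI : Nontrivial (M ⧸ N) := Submodule.Quotient.nontrivial_iff.mpr hNtop
  obtain ⟨q, hq⟩ := associatedPrimes.nonempty A (M ⧸ N)
  obtain ⟨hqprime, xbar, hqx⟩ := (isAssociatedPrime_iff).mp hq
  obtain ⟨x, rfl⟩ := N.mkQ_surjective xbar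
  have hqmem : ∀ a : A, a ∈ q ↔ a • x ∈ N := by
    intro a
    rw [hqx, Submodule.mem_colon_singleton, Submodule.mem_bot, ← map_smul, Submodule.mkQ_apply,
      Submodule.Quotient.mk_eq_zero]
  have hxN : x ∉ N := by
    intro hx
    apply hqprime.ne_top
    rw [Ideal.eq_top_iff_one, hqmem, one_smul]; exact hx
  have hqp : q = p := by
    apply le_antisymm
    · intro a ha
      by_contra hap
      exact hxN (hNsat a hap x ((hqmem a).mp ha))
    · intro a ha
      obtain ⟨n, hn⟩ := hrad a ha
      have : a ^ n ∈ q := by rw [hqmem, hn]; exact N.zero_mem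
      exact hqprime.mem_of_pow_mem n this
  have hpmem : ∀ a : A, a ∈ p ↔ a • x ∈ N := fun a => by rw [← hqp]; exact hqmem a
  let L : Submodule A M :=
    { carrier := {y | ∃ s : A, s ∉ p ∧ ∃ a : A, s • y - a • x ∈ N}
      zero_mem' := ⟨1, fun h => hpprime.ne_top ((Ideal.eq_top_iff_one p).mpr h), 0, by simp⟩
      add_mem' := by
        rintro y y' ⟨s, hs, a, ha⟩ ⟨s', hs', a', ha'⟩
        refine ⟨s * s', fun h => (hpprime.mem_or_mem h).elim hs hs', s' * a + s * a', ?_⟩
        have : (s * s') • (y + y') - (s' * a + s * a') • x =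
            s' • (s • y - a • x) + s • (s' • y' - a' • x) := by
          simp only [smul_add, smul_sub, add_smul, mul_smul]
          rw [smul_comm s' s y]; abel
        rw [this]
        exact N.add_mem (N.smul_mem _ ha) (N.smul_mem _ ha')
      smul_mem' := by
        rintro c y ⟨s, hs, a, ha⟩
        refine ⟨s, hs, c * a, ?_⟩
        have : s • c • y - (c * a) • x = c • (s • y - a • x) := by
          rw [smul_sub, mul_smul, smul_comm s c y]
        rw [this]
        exact N.smul_mem _ ha }
  have hLmem : ∀ y, y ∈ L ↔ ∃ s : A, s ∉ p ∧ ∃ a : A, s • y - a • x ∈ N := fun y => Iff.rfl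
  have h1p : (1 : A) ∉ p := fun h => hpprime.ne_top ((Ideal.eq_top_iff_one p).mpr h)
  have hNL : N ≤ L := fun y hy => ⟨1, h1p, 0, by simpa using hy⟩
  have hxL : x ∈ L := ⟨1, h1p, 1, by simp⟩
  have hLsat : ∀ s : A, s ∉ p → ∀ y : M, s • y ∈ L → y ∈ L := by
    rintro s' hs' y ⟨s, hs, a, ha⟩
    refine ⟨s * s', fun h => (hpprime.mem_or_mem h).elim hs hs', a, ?_⟩
    rwa [mul_smul]
  -- uniform denominator
  obtain ⟨G, hG⟩ : L.FG := (inferInstance : IsNoetherian A M).noetherian L
  have hGL : ∀ y ∈ G, y ∈ L := fun y hy => hG ▸ Submodule.subset_span hy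
  choose! sG hsG aG haG using hGL
  set s : A := ∏ y ∈ G, sG y with hs
  have hsp : s ∉ p := by
    rw [hs, Ideal.IsPrime.prod_mem_iff]
    rintro ⟨y, hy, hyp⟩
    exact hsG y hy hyp
  have hunif : ∀ y ∈ L, ∃ a : A, s • y - a • x ∈ N := by
    intro y hy
    rw [← hG] at hy
    induction hy using Submodule.span_induction with
    | mem y hy =>
      obtain ⟨b, hb⟩ := Finset.dvd_prod_of_mem sG hy
      refine ⟨b * aG y, ?_⟩
      have : s • y - (b * aG y) • x = b • (sG y • y - aG y • x) := by
        rw [hs, hb, smul_sub, mul_smul, mul_smul, smul_comm (sG y) b y]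
      rw [this]
      exact N.smul_mem _ (haG y hy)
    | zero => exact ⟨0, by simp⟩
    | add y y' _ _ hy hy' =>
      obtain ⟨a, ha⟩ := hy
      obtain ⟨a', ha'⟩ := hy'
      refine ⟨a + a', ?_⟩
      have : s • (y + y') - (a + a') • x = (s • y - a • x) + (s • y' - a' • x) := by
        rw [smul_add, add_smul]; abel
      rw [this]; exact N.add_mem ha ha'
    | smul c y _ hy =>
      obtain ⟨a, ha⟩ := hy
      refine ⟨c * a, ?_⟩
      have : s • c • y - (c * a) • x = c • (s • y - a • x) := by
        rw [smul_sub, mul_smul, smul_comm s c y]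
      rw [this]; exact N.smul_mem _ ha
  have huniq : ∀ (y : M) (a a' : A), s • y - a • x ∈ N → s • y - a' • x ∈ N →
      Ideal.Quotient.mk p a = Ideal.Quotient.mk p a' := by
    intro y a a' ha ha'
    rw [Ideal.Quotient.eq, hpmem]
    have : (a - a') • x = (s • y - a' • x) - (s • y - a • x) := by rw [sub_smul]; abel
    rw [this]; exact N.sub_mem ha' ha
  choose c hc using fun y : L => hunif y.1 y.2
  let h : ↥L →ₗ[A] (A ⧸ p) :=
    { toFun := fun y => Ideal.Quotient.mk p (c y)
      map_add' := by
        intro y y'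
        rw [← map_add]
        apply huniq ((y + y' : ↥L) : M) _ _ (hc (y + y'))
        have : s • ((y + y' : ↥L) : M) - (c y + c y') • x =
            (s • (y : M) - c y • x) + (s • (y' : M) - c y' • x) := by
          rw [Submodule.coe_add, smul_add, add_smul]; abel
        rw [this]; exact N.add_mem (hc y) (hc y')
      map_smul' := by
        intro r y
        have e : r • (Ideal.Quotient.mk p) (c y) = Ideal.Quotient.mk p (r * c y) := by
          rw [Algebra.smul_def, Ideal.Quotient.algebraMap_eq, ← map_mul]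
        rw [RingHom.id_apply, e]
        apply huniq ((r • y : ↥L) : M) _ _ (hc (r • y))
        have : s • ((r • y : ↥L) : M) - (r * c y) • x = r • (s • (y : M) - c y • x) := by
          rw [Submodule.coe_smul, smul_sub, mul_smul, smul_comm s r (y : M)]
        rw [this]; exact N.smul_mem _ (hc y) }
  have hhdef : ∀ y : L, h y = Ideal.Quotient.mk p (c y) := fun y => rfl
  have hker : LinearMap.ker h = Submodule.comap L.subtype N := by
    ext y
    rw [LinearMap.mem_ker, hhdef, Ideal.Quotient.eq_zero_iff_mem, hpmem, Submodule.mem_comap,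
      Submodule.subtype_apply]
    constructor
    · intro hcy
      apply hNsat s hsp
      have : s • (y : M) = (s • (y : M) - c y • x) + c y • x := by abel
      rw [this]; exact N.add_mem (hc y) hcy
    · intro hy
      have : c y • x = s • (y : M) - (s • (y : M) - c y • x) := by abel
      rw [this]; exact N.sub_mem (N.smul_mem _ hy) (hc y)
  let g : (↥L ⧸ Submodule.comap L.subtype N) →ₗ[A] (A ⧸ p) :=
    Submodule.liftQ _ h (le_of_eq hker.symm)
  have hg : Function.Injective g := by
    rw [← LinearMap.ker_eq_bot]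
    exact Submodule.ker_liftQ_eq_bot _ _ _ (le_of_eq hker)
  have hLC : L ∈ 𝒞 := ⟨hLsat, good_step p N L hNL hNgood g hg⟩
  have hlt : N < L := lt_of_le_of_ne hNL (fun h => hxN (h ▸ hxL))
  exact hNmax L hLC hlt

/-- Let A be a Noetherian ring and M a finite A-module whose set of associated primes is a single prime
p. Then M has a finite decreasing filtration by submodules M = M_0 ⊇ M_1 ⊇ ⋯ ⊇ M_m = 0 such that
each quotient M_h/M_{h+1} is isomorphic to a submodule of A/p (i.e. embeds A-linearly into A/p). -/
theorem result (A : Type u) [CommRing A] [IsNoetherianRing A]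
    (M : Type u) [AddCommGroup M] [Module A M] [Module.Finite A M] (p : Ideal A)
    (hp : associatedPrimes A M = {p}) :
    ∃ (m : ℕ) (F : Fin (m + 1) → Submodule A M), Antitone F ∧ F 0 = ⊤ ∧ F (Fin.last m) = ⊥ ∧
      ∀ i : Fin m, ∃ g : (↥(F i.castSucc) ⧸ Submodule.comap (F i.castSucc).subtype (F i.succ)) →ₗ[A] (A ⧸ p),
        Function.Injective g := by
  exact main A M p hp

end Groth.Agent.S4722
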