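import Groth.Statements.S4723
import Groth.Agent.Lib.Helper14.SecFin.Main

set_option autoImplicit false
universe u
open EGA4

namespace Groth.Agent.S4723

/-- Let A be a Noetherian ring which is either a quotient of a regular Noetherian ring or universally
catenary and universally Japanese. Then for every prime q of A, writing B = A/q with fraction field
K, and every ideal J of B of height at least 2, the subring of K consisting of the elements lying in
B_p for every prime p of B not containing J (the ring of sections of the structure sheaf of Spec B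
over the open complement of V(J)) is a finite B-algebra (some B-subalgebra of K with exactly this
underlying set is a finitely generated B-module). -/
theorem result (A : Type u) [CommRing A] [IsNoetherianRing A]
    (hA : (∃ (R : Type u) (_ : CommRing R), IsNoetherianRing R ∧ IsRegularRing R ∧
        ∃ f : R →+* A, Function.Surjective f) ∨
      (CAlg.IsUniversallyCatenary A ∧ CAlg.IsUniversallyJapanese A))
    (q : Ideal A) [q.IsPrime] (J : Ideal (A ⧸ q)) (hJ2 : (2 : ℕ∞) ≤ J.height) :
    ∃ B' : Subalgebra (A ⧸ q) (FractionRing (A ⧸ q)),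
      (B' : Set (FractionRing (A ⧸ q))) =
          {x | ∀ (p : Ideal (A ⧸ q)) [p.IsPrime], ¬ J ≤ p →
            ∃ s : A ⧸ q, s ∉ p ∧ ∃ a : A ⧸ q,
              algebraMap (A ⧸ q) (FractionRing (A ⧸ q)) a = algebraMap (A ⧸ q) (FractionRing (A ⧸ q)) s * x} ∧
        Module.Finite (A ⧸ q) B' := by
  open Groth.Agent.Lib.Helper14.SecFin in
  haveI : IsDomain (A ⧸ q) := Ideal.Quotient.isDomain q
  have hJ0 : J ≠ ⊥ := ne_bot_of_two_le_height (A ⧸ q) J hJ2
  have hfin : Module.Finite (A ⧸ q) (LocCoh.H J 1 (A ⧸ q)) := by
    rcases hA with ⟨R, _, hRn, hRreg, f, hf⟩ | ⟨hUC, hUJ⟩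
    · haveI := hRreg
      exact finite_H1_of_regular (A ⧸ q) J ((Ideal.Quotient.mk q).comp f)
        (Ideal.Quotient.mk_surjective.comp hf) hJ2
    · have hN : CAlg.IsNagata A := by
        refine ⟨inferInstance, fun p _ => ?_⟩
        exact hUJ (A ⧸ p) (Algebra.FiniteType.of_surjective (Algebra.ofId A (A ⧸ p))
          Ideal.Quotient.mk_surjective)
      exact finite_H1_of_nagata (A ⧸ q) J
        (Groth.Agent.Lib.Helper26.NagThmA.isNagata_of_surjective (Ideal.Quotient.mk q)
          Ideal.Quotient.mk_surjective hN)
        (Groth.Agent.Lib.Helper14.ExcFC.isUniversallyCatenary_quotient A hUC q) hJ2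
  exact ⟨secAlg (A ⧸ q) J, rfl, finite_secAlg (A ⧸ q) J hJ0 hfin⟩

end Groth.Agent.S4723
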