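import Groth.Statements.S4726
import Mathlib

set_option autoImplicit false
universe u
open EGA4

namespace Groth.Agent.S4726

open TensorProduct in
/-- Let (A_i) be a directed system of commutative rings with direct limit A and M a finitely presented
A-module. Then there exist an index i and a finitely presented A_i-module M_i such that M is
isomorphic, as an A-module, to A ⊗_{A_i} M_i (A being an A_i-algebra through the canonical map). -/
theorem result (ι : Type u) [Preorder ι] [Nonempty ι] [IsDirectedOrder ι]
    (G : ι → Type u) [∀ i, CommRing (G i)] (f : ∀ i j, i ≤ j → G i →+* G j)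
    [DirectedSystem G (fun i j h ↦ f i j h)] (M : Type u) [AddCommGroup M]
    [Module (Ring.DirectLimit G (fun i j h ↦ f i j h)) M]
    [Module.FinitePresentation (Ring.DirectLimit G (fun i j h ↦ f i j h)) M] :
    ∃ (i : ι) (Mi : Type u) (_ : AddCommGroup Mi) (_ : Module (G i) Mi), Module.FinitePresentation (G i) Mi ∧
      letI : Algebra (G i) (Ring.DirectLimit G (fun i j h ↦ f i j h)) :=
        (Ring.DirectLimit.of G (fun i j h ↦ f i j h) i).toAlgebra
      Nonempty (M ≃ₗ[Ring.DirectLimit G (fun i j h ↦ f i j h)] (Ring.DirectLimit G (fun i j h ↦ f i j h)) ⊗[G i] Mi) := by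
  classical
  obtain ⟨n, K, e₀, hK⟩ := Module.FinitePresentation.exists_fin
    (Ring.DirectLimit G (fun i j h ↦ f i j h)) M
  obtain ⟨S, hS⟩ := hK
  have hex : ∀ z : Ring.DirectLimit G (fun i j h ↦ f i j h), ∃ i x,
      Ring.DirectLimit.of G (fun i j h ↦ f i j h) i x = z := Ring.DirectLimit.exists_of
  choose idx elt helt using hex
  obtain ⟨i, hi⟩ := Finite.exists_le (fun p : ↥S × Fin n => idx (p.1.1 p.2))
  obtain ⟨w, hw⟩ : ∃ w : ↥S → (Fin n → G i), ∀ s l,
      Ring.DirectLimit.of G (fun i j h ↦ f i j h) i (w s l) = s.1 l := by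
    refine ⟨fun s l => f _ i (hi (s, l)) (elt (s.1 l)), fun s l => ?_⟩
    have := Ring.DirectLimit.of_f (G := G) (f := fun i j h ↦ f i j h) (hi (s, l)) (elt (s.1 l))
    rw [this, helt]
  letI alg : Algebra (G i) (Ring.DirectLimit G (fun i j h ↦ f i j h)) :=
    (Ring.DirectLimit.of G (fun i j h ↦ f i j h) i).toAlgebra
  have halg : ∀ (r : G i) (a : Ring.DirectLimit G (fun i j h ↦ f i j h)),
      r • a = Ring.DirectLimit.of G (fun i j h ↦ f i j h) i r * a := by
    intro r a
    rw [Algebra.smul_def]
    rfl
  obtain ⟨Ki, hKi⟩ : ∃ Ki : Submodule (G i) (Fin n → G i),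
      Ki = Submodule.span (G i) (Set.range w) := ⟨_, rfl⟩
  have hFP : Module.FinitePresentation (G i) ((Fin n → G i) ⧸ Ki) := by
    refine Module.finitePresentation_of_free_of_surjective Ki.mkQ (Submodule.mkQ_surjective _) ?_
    rw [Submodule.ker_mkQ, hKi]
    exact Submodule.fg_span (Set.finite_range w)
  have hmem : ∀ y ∈ Ki, ∀ a : Ring.DirectLimit G (fun i j h ↦ f i j h),
      (fun l => y l • a) ∈ K := by
    intro y hy
    rw [hKi] at hy
    induction hy using Submodule.span_induction with
    | mem y hy =>
      obtain ⟨s, rfl⟩ := hy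
      intro a
      have : (fun l => w s l • a) = a • s.1 := by
        funext l
        rw [halg, hw, Pi.smul_apply, smul_eq_mul, mul_comm]
      rw [this, ← hS]
      exact Submodule.smul_mem _ a (Submodule.subset_span s.2)
    | zero =>
      intro a
      have : (fun l => (0 : Fin n → G i) l • a) = 0 := by
        funext l
        simp
      rw [this]
      exact zero_mem _
    | add y₁ y₂ _ _ h₁ h₂ =>
      intro a
      have : (fun l => (y₁ + y₂) l • a) = (fun l => y₁ l • a) + (fun l => y₂ l • a) := by
        funext l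
        simp [add_smul]
      rw [this]
      exact add_mem (h₁ a) (h₂ a)
    | smul r y _ h =>
      intro a
      have : (fun l => (r • y) l • a) = (fun l => y l • (r • a)) := by
        funext l
        rw [Pi.smul_apply, smul_eq_mul, mul_smul, smul_comm]
      rw [this]
      exact h (r • a)
  have hPK : (LinearMap.range (TensorProduct.AlgebraTensorModule.lTensor
      (Ring.DirectLimit G (fun i j h ↦ f i j h)) (Ring.DirectLimit G (fun i j h ↦ f i j h))
      (Ki.subtype.restrictScalars (G i)))).map
      (TensorProduct.piScalarRight (G i) (Ring.DirectLimit G (fun i j h ↦ f i j h))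
        (Ring.DirectLimit G (fun i j h ↦ f i j h)) (Fin n) :
        _ →ₗ[Ring.DirectLimit G (fun i j h ↦ f i j h)] _) = K := by
    apply le_antisymm
    · rw [Submodule.map_le_iff_le_comap]
      rintro _ ⟨x, rfl⟩
      induction x using TensorProduct.induction_on with
      | zero => simp
      | tmul a y =>
        rw [Submodule.mem_comap]
        simp only [TensorProduct.AlgebraTensorModule.lTensor_tmul, LinearMap.coe_restrictScalars,
          Submodule.subtype_apply, LinearEquiv.coe_coe, TensorProduct.piScalarRight_apply,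
          TensorProduct.piScalarRightHom_tmul]
        exact hmem y.1 y.2 a
      | add x y hx hy =>
        rw [map_add]
        exact add_mem hx hy
    · rw [← hS, Submodule.span_le]
      intro s hs
      rw [SetLike.mem_coe, Submodule.mem_map]
      refine ⟨(1 : Ring.DirectLimit G (fun i j h ↦ f i j h)) ⊗ₜ[G i] (w ⟨s, hs⟩),
        ⟨(1 : Ring.DirectLimit G (fun i j h ↦ f i j h)) ⊗ₜ[G i]
          (⟨w ⟨s, hs⟩, by rw [hKi]; exact Submodule.subset_span (Set.mem_range_self _)⟩ : Ki),
          by simp⟩, ?_⟩
      simp only [LinearEquiv.coe_coe, TensorProduct.piScalarRight_apply,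
        TensorProduct.piScalarRightHom_tmul]
      funext l
      rw [halg, hw, mul_one]
  refine ⟨i, (Fin n → G i) ⧸ Ki, inferInstance, inferInstance, hFP, ?_⟩
  exact ⟨e₀ ≪≫ₗ (Submodule.Quotient.equiv _ K (TensorProduct.piScalarRight (G i)
      (Ring.DirectLimit G (fun i j h ↦ f i j h)) (Ring.DirectLimit G (fun i j h ↦ f i j h))
      (Fin n)) hPK).symm ≪≫ₗ
    (TensorProduct.AlgebraTensorModule.tensorQuotientEquiv
      (Ring.DirectLimit G (fun i j h ↦ f i j h)) (G i)
      (Ring.DirectLimit G (fun i j h ↦ f i j h)) Ki).symm⟩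

end Groth.Agent.S4726
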