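import Groth.Statements.S4728
import Groth.Agent.Lib.Helper27.NagAU9
open Groth.Agent.Lib.Helper27 TensorProduct

set_option autoImplicit false
universe u
open EGA4

namespace Groth.Agent.S4728

/-- Let A be a Noetherian local domain of dimension 1 with maximal ideal m, A' a Noetherian local ring
and A → A' a local homomorphism which is normal (flat, with geometrically normal fibres). Then the
ideal m A' of A' is prime and the local ring of A' at m A' has dimension 1. (The remaining clauses
of the published item, describing A' inside its total ring of fractions, are not restated.) -/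
theorem result (A A' : Type u) [CommRing A] [CommRing A']
    [IsNoetherianRing A] [IsNoetherianRing A'] [IsLocalRing A] [IsLocalRing A'] [IsDomain A]
    (hA : ringKrullDim A = 1) [Algebra A A'] [IsLocalHom (algebraMap A A')] (h : EGA4.IsNormalHom A A') :
    ((IsLocalRing.maximalIdeal A).map (algebraMap A A')).IsPrime ∧
      ((IsLocalRing.maximalIdeal A).map (algebraMap A A')).height = 1 := by
  classical
  set m := IsLocalRing.maximalIdeal A with hm
  set P : Ideal A' := m.map (algebraMap A A') with hP
  haveI hflat : Module.Flat A A' := h.1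
  have hPle : P ≤ IsLocalRing.maximalIdeal A' := by
    rw [hP, Ideal.map_le_iff_le_comap]
    intro a ha
    exact ((isUnit_map_iff (algebraMap A A') a).not.mpr ha)
  have hPtop : P ≠ ⊤ := fun htop =>
    (IsLocalRing.maximalIdeal.isMaximal A').ne_top (top_le_iff.mp (htop ▸ hPle))
  -- the fibre ring
  have hF : EGA4.IsNormalRing (m.Fiber A') :=
    Groth.Agent.Lib.Helper14.NormalHomComp.isNormalRing_fiber_of_isNormalHom A A' h m
  let e0 : (A ⧸ m) ≃ₐ[A] m.ResidueField :=
    AlgEquiv.ofBijective (IsScalarTower.toAlgHom A (A ⧸ m) m.ResidueField)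
      m.bijective_algebraMap_quotient_residueField
  let e1 : (A' ⧸ P) ≃+* (m.Fiber A') :=
    (Algebra.TensorProduct.quotIdealMapEquivTensorQuot A' m).toRingEquiv.trans
      ((Algebra.TensorProduct.comm A A' (A ⧸ m)).toRingEquiv.trans
        (Algebra.TensorProduct.congr e0 (AlgEquiv.refl (R := A) (A₁ := A'))).toRingEquiv)
  have hQn : EGA4.IsNormalRing (A' ⧸ P) :=
    Groth.Agent.Lib.Helper14.isNormalRing_of_ringEquiv e1.symm hF
  haveI : Nontrivial (A' ⧸ P) := Ideal.Quotient.nontrivial_iff.mpr hPtop
  haveI : IsLocalRing (A' ⧸ P) :=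
    IsLocalRing.of_surjective' (Ideal.Quotient.mk P) Ideal.Quotient.mk_surjective
  haveI hdom : IsDomain (A' ⧸ P) := NagAU.isDomain_of_isNormalRing_of_isLocalRing _ hQn
  have hprime : P.IsPrime := (Ideal.Quotient.isDomain_iff_prime P).mp hdom
  refine ⟨hprime, ?_⟩
  haveI := hprime
  -- a nonzero element of `m`
  haveI : Ring.KrullDimLE 1 A := Ring.krullDimLE_iff.mpr (by simp [hA])
  have hmbot : m ≠ ⊥ := by
    intro hbot
    haveI : IsField A := IsLocalRing.isField_iff_maximalIdeal_eq.mpr hbot
    have := ringKrullDim_eq_zero_of_isField this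
    rw [hA] at this
    exact one_ne_zero this
  obtain ⟨x, hxm, hx0⟩ := Submodule.exists_mem_ne_zero_of_ne_bot hmbot
  have hxP : algebraMap A A' x ∈ P := Ideal.mem_map_of_mem _ hxm
  -- height ≤ 1
  have hle : P.height ≤ 1 := by
    refine Ideal.height_le_one_of_isPrincipal_of_mem_minimalPrimes
      (Ideal.span {algebraMap A A' x}) P ⟨⟨hprime, ?_⟩, ?_⟩
    · rw [Ideal.span_le, Set.singleton_subset_iff]
      exact hxP
    · rintro Q ⟨hQp, hQx⟩ hQP
      haveI := hQp
      have hxQ : x ∈ Q.comap (algebraMap A A') :=
        hQx (Ideal.subset_span (Set.mem_singleton _))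
      have hne : Q.comap (algebraMap A A') ≠ ⊥ := fun hb => hx0 (by
        rw [hb] at hxQ
        exact hxQ)
      have hmax : (Q.comap (algebraMap A A')).IsMaximal :=
        Ideal.IsPrime.isMaximal_of_ne_bot (Ideal.comap_isPrime _ _) hne
      have heq : Q.comap (algebraMap A A') = m := IsLocalRing.eq_maximalIdeal hmax
      rw [hP, Ideal.map_le_iff_le_comap, heq]
  -- height ≠ 0
  have hne0 : P.height ≠ 0 := by
    rw [Ne, Ideal.height_eq_zero_iff]
    intro hmin
    have hreg : algebraMap A A' x ∈ nonZeroDivisors A' := by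
      have h1 : x ∈ nonZeroDivisors A := mem_nonZeroDivisors_of_ne_zero hx0
      have := Module.Flat.isSMulRegular_of_nonZeroDivisors (R := A) (M := A') h1
      rw [mem_nonZeroDivisors_iff_right]
      intro y hy
      apply this
      simp only [Algebra.smul_def, mul_zero]
      rw [mul_comm]
      exact hy
    exact Set.disjoint_left.mp (Ideal.disjoint_nonZeroDivisors_of_mem_minimalPrimes hmin) hxP hreg
  exact le_antisymm hle (Order.one_le_iff_pos.mpr (pos_iff_ne_zero.mpr hne0))

end Groth.Agent.S4728
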