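import Groth.Statements.S4729
import Mathlib

set_option autoImplicit false
universe u
open EGA4

namespace Groth.Agent.S4729


theorem aux (A : Type u) [CommRing A] (M : Type u) [AddCommGroup M] [Module A M]
    (p q : Ideal A) [p.IsPrime] [q.IsPrime] (hpq : p ≤ q) :
    Module.supportDim (Localization.AtPrime p) (LocalizedModule p.primeCompl M) ≤
      Module.supportDim (Localization.AtPrime q) (LocalizedModule q.primeCompl M) := by
  classical
  have hP : ∀ P' : PrimeSpectrum (Localization.AtPrime p),
      P'.asIdeal.comap (algebraMap A (Localization.AtPrime p)) ≤ p := by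
    intro P' a ha
    by_contra hap
    have hu : IsUnit (algebraMap A (Localization.AtPrime p) a) :=
      IsLocalization.map_units _ (⟨a, hap⟩ : p.primeCompl)
    exact P'.isPrime.ne_top (Ideal.eq_top_of_isUnit_mem _ ha hu)
  have hdisj : ∀ P' : PrimeSpectrum (Localization.AtPrime p),
      Disjoint (q.primeCompl : Set A)
        (P'.asIdeal.comap (algebraMap A (Localization.AtPrime p)) : Set A) := by
    intro P'
    rw [Set.disjoint_left]
    intro a haq haP
    exact haq (hpq (hP P' haP))
  let φ0 : PrimeSpectrum (Localization.AtPrime p) → PrimeSpectrum (Localization.AtPrime q) :=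
    fun P' =>
    ⟨(P'.asIdeal.comap (algebraMap A (Localization.AtPrime p))).map
        (algebraMap A (Localization.AtPrime q)),
      IsLocalization.isPrime_of_isPrime_disjoint q.primeCompl _ _ inferInstance (hdisj P')⟩
  have hcomap : ∀ P', (φ0 P').asIdeal.comap (algebraMap A (Localization.AtPrime q)) =
      P'.asIdeal.comap (algebraMap A (Localization.AtPrime p)) := by
    intro P'
    exact IsLocalization.under_map_of_isPrime_disjoint q.primeCompl _ inferInstance (hdisj P')
  have hmem : ∀ P' : PrimeSpectrum (Localization.AtPrime p),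
      P' ∈ Module.support (Localization.AtPrime p) (LocalizedModule p.primeCompl M) →
      φ0 P' ∈ Module.support (Localization.AtPrime q) (LocalizedModule q.primeCompl M) := by
    intro P' hP'
    rw [Module.mem_support_iff'] at hP' ⊢
    obtain ⟨x, hx⟩ := hP'
    induction x using LocalizedModule.induction_on with
    | h m s =>
    refine ⟨LocalizedModule.mk m 1, ?_⟩
    intro r' hr' h0
    apply hr'
    obtain ⟨a, t, rfl⟩ := IsLocalization.exists_mk'_eq q.primeCompl r'
    rw [← Localization.mk_eq_mk', LocalizedModule.mk_smul_mk, ← LocalizedModule.zero_mk (t * 1),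
      LocalizedModule.mk_eq] at h0
    obtain ⟨u, hu⟩ := h0
    rw [smul_zero, smul_zero] at hu
    -- hu : u • (t*1) • a • m = 0
    have h1 : ((u : A) * ((t * 1 : q.primeCompl) : A) * a) • m = 0 := by
      rw [mul_smul, mul_smul]; exact hu
    have h2 : algebraMap A (Localization.AtPrime p) ((u : A) * ((t * 1 : q.primeCompl) : A) * a) ∈
        P'.asIdeal := by
      by_contra hnot
      apply hx _ hnot
      rw [algebraMap_smul, LocalizedModule.smul'_mk, h1, LocalizedModule.zero_mk]
    show IsLocalization.mk' (Localization.AtPrime q) a t ∈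
      (P'.asIdeal.comap (algebraMap A (Localization.AtPrime p))).map
        (algebraMap A (Localization.AtPrime q))
    rw [IsLocalization.mk'_mem_map_algebraMap_iff q.primeCompl]
    refine ⟨(u : A) * ((t * 1 : q.primeCompl) : A), (u * (t * 1)).2, ?_⟩
    exact h2
  let φ : Module.support (Localization.AtPrime p) (LocalizedModule p.primeCompl M) →
      Module.support (Localization.AtPrime q) (LocalizedModule q.primeCompl M) :=
    fun P' => ⟨φ0 P'.1, hmem P'.1 P'.2⟩
  apply Order.krullDim_le_of_strictMono φ
  intro P₁ P₂ h12
  have h12' : P₁.1.asIdeal < P₂.1.asIdeal := h12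
  show (φ0 P₁.1).asIdeal < (φ0 P₂.1).asIdeal
  have hle : (φ0 P₁.1).asIdeal ≤ (φ0 P₂.1).asIdeal :=
    Ideal.map_mono (Ideal.comap_mono h12'.le)
  refine lt_of_le_of_ne hle ?_
  intro heq
  have h3 : P₁.1.asIdeal.comap (algebraMap A (Localization.AtPrime p)) =
      P₂.1.asIdeal.comap (algebraMap A (Localization.AtPrime p)) := by
    rw [← hcomap, ← hcomap, heq]
  have h4 : P₁.1.asIdeal = P₂.1.asIdeal := by
    rw [← IsLocalization.map_under p.primeCompl (Localization.AtPrime p) P₁.1.asIdeal,
      ← IsLocalization.map_under p.primeCompl (Localization.AtPrime p) P₂.1.asIdeal]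
    exact congrArg _ h3
  exact h12'.ne h4

/-- Let A be a commutative ring, M a finite A-module and p ⊆ q prime ideals of A (so that p is a
generization of q). Then the dimension of the A_p-module M_p is at most the dimension of the
A_q-module M_q. -/
theorem result (A : Type u) [CommRing A] (M : Type u) [AddCommGroup M] [Module A M]
    [Module.Finite A M] (p q : Ideal A) [p.IsPrime] [q.IsPrime] (hpq : p ≤ q) :
    Module.supportDim (Localization.AtPrime p) (LocalizedModule p.primeCompl M) ≤
      Module.supportDim (Localization.AtPrime q) (LocalizedModule q.primeCompl M) := by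
  exact aux A M p q hpq

end Groth.Agent.S4729
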