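import Groth.Statements.S4730
-- import your own Groth.Agent.* helpers here
import Mathlib
import Groth.Agent.Lib.Helper12.DimIneq

set_option autoImplicit false
universe u
open EGA4

namespace Groth.Agent.S4730

open Polynomial in
/-- Let A be a Noetherian ring, p a prime ideal of A and q a prime ideal of the polynomial ring A[T]
lying over p. Then ht(p) + 1 = ht(q) + deg.tr_{κ(p)} κ(q), the transcendence degree being that of
the domain A[T]/q over the domain A/p. -/
theorem result (A : Type u) [CommRing A] [IsNoetherianRing A]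
    (p : Ideal A) [p.IsPrime] (q : Ideal A[X]) [q.IsPrime] [q.LiesOver p] :
    (p.height : Cardinal.{u}) + 1 = (q.height : Cardinal.{u}) + Algebra.trdeg (A ⧸ p) (A[X] ⧸ q) := by
  have h := Groth.Agent.Lib.Helper12.DimIneq.height_add_trdeg_polynomial p q
  have hfin : Algebra.trdeg (A ⧸ p) (A[X] ⧸ q) ≤ Cardinal.aleph0 := by
    by_contra hlt
    have h1 : Cardinal.toENat (Algebra.trdeg (A ⧸ p) (A[X] ⧸ q)) = ⊤ :=
      Cardinal.toENat_eq_top.mpr (not_le.mp hlt).le
    rw [h1, add_top] at h
    have h2 : p.height ≠ ⊤ := Ideal.height_ne_top (Ideal.IsPrime.ne_top inferInstance)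
    exact (WithTop.add_ne_top.mpr ⟨h2, ENat.one_ne_top⟩) h.symm
  have h3 := congrArg Cardinal.ofENat h
  rw [Cardinal.ofENat_add, Cardinal.ofENat_add, Cardinal.ofENat_one,
    Cardinal.ofENat_toENat hfin] at h3
  exact h3.symm

end Groth.Agent.S4730
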