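import Groth.Statements.S4731
import Mathlib

set_option autoImplicit false
universe u
open EGA4

namespace Groth.Agent.S4731

/-- Let S → R be an injective homomorphism of commutative rings making R a finite S-module, with R
Noetherian; let c be the conductor of S in R, the ideal of those s in S with s R contained in (the
image of) S. If S/c is Noetherian, then every increasing sequence of ideals of S contained in c is
eventually constant. -/
theorem result (S R : Type u) [CommRing S] [CommRing R] [Algebra S R]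
    [FaithfulSMul S R] [IsNoetherianRing R] [Module.Finite S R] (c : Ideal S)
    (hc : ∀ s : S, s ∈ c ↔ ∀ r : R, ∃ s' : S, algebraMap S R s' = algebraMap S R s * r)
    [IsNoetherianRing (S ⧸ c)] (a : ℕ →o Ideal S) (ha : ∀ n, a n ≤ c) :
    ∃ N : ℕ, ∀ n, N ≤ n → a n = a N := by
  classical
  have hinj : Function.Injective (algebraMap S R) := FaithfulSMul.algebraMap_injective S R
  have hcR : ∀ s ∈ c, ∀ r : R, ∃ s' ∈ c, algebraMap S R s' = algebraMap S R s * r := by
    intro s hs r
    obtain ⟨s', hs'⟩ := (hc s).mp hs r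
    refine ⟨s', (hc s').mpr (fun r' => ?_), hs'⟩
    obtain ⟨s'', hs''⟩ := (hc s).mp hs (r * r')
    exact ⟨s'', by rw [hs'', hs', mul_assoc]⟩
  let b : ℕ →o Submodule R R :=
    ⟨fun n => (a n).map (algebraMap S R), fun m n hmn => Ideal.map_mono (a.monotone hmn)⟩
  obtain ⟨N, hN⟩ := monotone_stabilizes_iff_noetherian.mpr (inferInstance : IsNoetherian R R) b
  have key : ∀ y ∈ (a N).map (algebraMap S R), (∃ x ∈ c, algebraMap S R x = y) ∧
      (∀ s ∈ c, ∃ z ∈ a N, algebraMap S R z = algebraMap S R s * y) := by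
    intro y hy
    change y ∈ Submodule.span R ((algebraMap S R) '' (a N : Set S)) at hy
    induction hy using Submodule.span_induction with
    | mem y hy =>
      obtain ⟨a₀, ha₀, rfl⟩ := hy
      exact ⟨⟨a₀, ha N ha₀, rfl⟩,
        fun s hs => ⟨s * a₀, (a N).mul_mem_left s ha₀, by rw [map_mul]⟩⟩
    | zero =>
      exact ⟨⟨0, c.zero_mem, map_zero _⟩, fun s hs => ⟨0, (a N).zero_mem, by simp⟩⟩
    | add y₁ y₂ _ _ h₁ h₂ =>
      obtain ⟨⟨x₁, hx₁, e₁⟩, h₁⟩ := h₁
      obtain ⟨⟨x₂, hx₂, e₂⟩, h₂⟩ := h₂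
      refine ⟨⟨x₁ + x₂, c.add_mem hx₁ hx₂, by rw [map_add, e₁, e₂]⟩, fun s hs => ?_⟩
      obtain ⟨z₁, hz₁, f₁⟩ := h₁ s hs
      obtain ⟨z₂, hz₂, f₂⟩ := h₂ s hs
      exact ⟨z₁ + z₂, (a N).add_mem hz₁ hz₂, by rw [map_add, f₁, f₂, mul_add]⟩
    | smul r y _ h =>
      obtain ⟨⟨x, hx, e⟩, h⟩ := h
      constructor
      · obtain ⟨x', hx', e'⟩ := hcR x hx r
        exact ⟨x', hx', by rw [e', e, smul_eq_mul, mul_comm]⟩
      · intro s hs
        obtain ⟨s', hs', e'⟩ := hcR s hs r
        obtain ⟨z, hz, f⟩ := h s' hs'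
        exact ⟨z, hz, by rw [f, e', smul_eq_mul, mul_assoc]⟩
  let I₀ : Ideal S := ((a N).map (algebraMap S R)).comap (algebraMap S R)
  have h1 : ∀ n, N ≤ n → a n ≤ I₀ := by
    intro n hn x hx
    change algebraMap S R x ∈ (a N).map (algebraMap S R)
    have : (a N).map (algebraMap S R) = (a n).map (algebraMap S R) := hN n hn
    rw [this]; exact Ideal.mem_map_of_mem _ hx
  have h2 : c * I₀ ≤ a N := by
    rw [Ideal.mul_le]
    intro s hs x hx
    obtain ⟨z, hz, e⟩ := (key (algebraMap S R x) hx).2 s hs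
    have : z = s * x := hinj (by rw [e, map_mul])
    rwa [← this]
  have h3 : I₀.FG := by
    have hb : ((a N).map (algebraMap S R)).FG :=
      (isNoetherianRing_iff_ideal_fg R).mp inferInstance _
    have hb' : (((a N).map (algebraMap S R)).restrictScalars S).FG :=
      Submodule.FG.restrictScalars hb
    apply Submodule.fg_of_fg_map_injective (Algebra.linearMap S R) hinj
    convert hb' using 1
    ext y
    constructor
    · rintro ⟨x, hx, rfl⟩; exact hx
    · intro hy
      obtain ⟨⟨x, hx, e⟩, -⟩ := key y hy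
      exact ⟨x, by change algebraMap S R x ∈ (a N).map (algebraMap S R); rw [e]; exact hy, e⟩
  obtain ⟨k, g, hg⟩ := Submodule.fg_iff_exists_fin_generating_family.mp h3
  let Ψ : (Fin k → S) →ₗ[S] S := Fintype.linearCombination S g
  have hΨ : LinearMap.range Ψ = I₀ := by
    rw [Fintype.range_linearCombination, hg]
  have hQ : IsNoetherian S (S ⧸ c) := by
    rw [isNoetherian_def]
    intro Nn
    let I' : Ideal (S ⧸ c) :=
      { carrier := Nn
        add_mem' := Nn.add_mem
        zero_mem' := Nn.zero_mem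
        smul_mem' := by
          intro r x hx
          obtain ⟨r₀, rfl⟩ := Ideal.Quotient.mk_surjective r
          have h := Nn.smul_mem r₀ hx
          simpa [Algebra.smul_def] using h }
    obtain ⟨T, hT⟩ := (isNoetherianRing_iff_ideal_fg _).mp
      (inferInstance : IsNoetherianRing (S ⧸ c)) I'
    refine ⟨T, ?_⟩
    have hs := Submodule.restrictScalars_span S (S ⧸ c) Ideal.Quotient.mk_surjective
      (T : Set (S ⧸ c))
    rw [← hs]
    have hT' : Submodule.span (S ⧸ c) (T : Set (S ⧸ c)) = I' := hT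
    rw [hT']
    ext x; rfl
  let π : (Fin k → S) →ₗ[S] (Fin k → S ⧸ c) := (Submodule.mkQ c).compLeft (Fin k)
  have hker : ∀ n, N ≤ n → LinearMap.ker π ≤ Submodule.comap Ψ (a n) := by
    intro n hn v hv
    have hvi : ∀ i, v i ∈ c := fun i => by
      have := congrFun (LinearMap.mem_ker.mp hv) i
      have h' : (Ideal.Quotient.mk c) (v i) = 0 := by simpa [π] using this
      exact Ideal.Quotient.eq_zero_iff_mem.mp h'
    change Ψ v ∈ a n
    apply a.monotone hn
    apply h2
    change Fintype.linearCombination S g v ∈ _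
    rw [Fintype.linearCombination_apply]
    refine Ideal.sum_mem _ (fun i _ => ?_)
    have hgi : g i ∈ I₀ := by rw [← hg]; exact Submodule.subset_span ⟨i, rfl⟩
    exact Ideal.mul_mem_mul (hvi i) hgi
  let P : ℕ →o Submodule S (Fin k → S ⧸ c) :=
    ⟨fun n => (Submodule.comap Ψ (a n)).map π,
      fun m n hmn => Submodule.map_mono (Submodule.comap_mono (a.monotone hmn))⟩
  obtain ⟨N', hN'⟩ := monotone_stabilizes_iff_noetherian.mpr
    (inferInstance : IsNoetherian S (Fin k → S ⧸ c)) P
  refine ⟨max N N', fun n hn => ?_⟩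
  have hn1 : N ≤ n := le_trans (le_max_left _ _) hn
  have hn2 : N' ≤ n := le_trans (le_max_right _ _) hn
  have e1 : ∀ m, N ≤ m → (Submodule.comap Ψ (a m)) = ((Submodule.comap Ψ (a m)).map π).comap π := by
    intro m hm
    rw [Submodule.comap_map_eq, sup_eq_left.mpr (hker m hm)]
  have e2 : Submodule.comap Ψ (a n) = Submodule.comap Ψ (a (max N N')) := by
    rw [e1 n hn1, e1 _ (le_max_left _ _)]
    congr 1
    exact (hN' n hn2).symm.trans (hN' _ (le_max_right _ _))
  have e3 : ∀ m, N ≤ m → a m = (Submodule.comap Ψ (a m)).map Ψ := by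
    intro m hm
    rw [Submodule.map_comap_eq, hΨ, inf_eq_right.mpr (h1 m hm)]
  rw [e3 n hn1, e3 _ (le_max_left _ _), e2]

end Groth.Agent.S4731
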