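import Groth.Statements.S4732
-- import your own Groth.Agent.* helpers here
import Mathlib
import Groth.Agent.Lib.Helper26.RegularSch

set_option autoImplicit false
universe u
open EGA4

namespace Groth.Agent.S4732

open AlgebraicGeometry CategoryTheory in
/-- Let k be a field, X a scheme locally of finite type over k and x a point of X. Then there are an
open neighbourhood U of x, a k-scheme Y all of whose local rings are regular, and an immersion U → Y
compatible with the structure morphisms to Spec k. -/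
theorem result (k : Type u) [Field k] {X : Scheme.{u}}
    (f : X ⟶ Spec (CommRingCat.of k)) [LocallyOfFiniteType f] (x : X) :
    ∃ (U : X.Opens) (_ : x ∈ U) (Y : Scheme.{u}) (g : Y ⟶ Spec (CommRingCat.of k)) (i : (U : Scheme.{u}) ⟶ Y),
      IsImmersion i ∧ i ≫ g = U.ι ≫ f ∧ ∀ y : Y, IsRegularLocalRing (Y.presheaf.stalk y) := by
  classical
  obtain ⟨_, ⟨U, hU, rfl⟩, hxU, -⟩ :=
    X.isBasis_affineOpens.exists_subset_of_mem_open (Set.mem_univ x) isOpen_univ
  have hU : IsAffineOpen U := hU
  haveI : IsAffine (U : Scheme.{u}) := hU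
  set h : (U : Scheme.{u}) ⟶ Spec (CommRingCat.of k) := Scheme.Opens.ι U ≫ f with hh
  haveI : LocallyOfFiniteType h := inferInstance
  have hft : RingHom.FiniteType h.appTop.hom :=
    (HasRingHomProperty.iff_of_isAffine (P := @LocallyOfFiniteType)).mp inferInstance
  letI : Algebra Γ(Spec (CommRingCat.of k), ⊤) Γ((U : Scheme.{u}), ⊤) := h.appTop.hom.toAlgebra
  haveI : Algebra.FiniteType Γ(Spec (CommRingCat.of k), ⊤) Γ((U : Scheme.{u}), ⊤) := hft
  obtain ⟨n, φ, hφ⟩ := Algebra.FiniteType.iff_quotient_mvPolynomial''.mp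
    (inferInstance : Algebra.FiniteType Γ(Spec (CommRingCat.of k), ⊤) Γ((U : Scheme.{u}), ⊤))
  let P : CommRingCat.{u} := CommRingCat.of (MvPolynomial (Fin n) Γ(Spec (CommRingCat.of k), ⊤))
  let cC : Γ(Spec (CommRingCat.of k), ⊤) ⟶ P := CommRingCat.ofHom MvPolynomial.C
  let cφ : P ⟶ Γ((U : Scheme.{u}), ⊤) := CommRingCat.ofHom φ.toRingHom
  have hcomp : cC ≫ cφ = h.appTop := by
    ext a
    show φ (MvPolynomial.C a) = h.appTop.hom a
    have := φ.commutes a
    rw [MvPolynomial.algebraMap_eq] at this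
    exact this
  haveI : IsClosedImmersion (Spec.map cφ) := IsClosedImmersion.spec_of_surjective cφ hφ
  refine ⟨U, hxU, Spec P, Spec.map cC ≫ (Spec (CommRingCat.of k)).isoSpec.inv,
    (U : Scheme.{u}).isoSpec.hom ≫ Spec.map cφ, inferInstance, ?_, ?_⟩
  · rw [← hh, Category.assoc, ← Category.assoc (Spec.map cφ), ← Spec.map_comp, hcomp,
      ← Category.assoc, Scheme.isoSpec_hom_naturality, Category.assoc, Iso.hom_inv_id,
      Category.comp_id]
  · intro y
    haveI : IsRegularRing Γ(Spec (CommRingCat.of k), ⊤) :=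
      IsRegularRing.of_ringEquiv (R := k)
        (Scheme.ΓSpecIso (CommRingCat.of k)).commRingCatIsoToRingEquiv.symm
    haveI : IsRegularRing (MvPolynomial (Fin n) Γ(Spec (CommRingCat.of k), ⊤)) := inferInstance
    haveI : IsRegularRing Γ(Spec P, ⊤) :=
      IsRegularRing.of_ringEquiv (R := MvPolynomial (Fin n) Γ(Spec (CommRingCat.of k), ⊤))
        (Scheme.ΓSpecIso P).commRingCatIsoToRingEquiv.symm
    have := (Groth.Agent.Lib.Helper26.RegularSch.isRegularLocalRing_stalk_iff
      (isAffineOpen_top (Spec P)) ⟨y, trivial⟩).mpr inferInstance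
    exact this

end Groth.Agent.S4732
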