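import Groth.Statements.S4734
-- import your own Groth.Agent.* helpers here
import Mathlib
import Groth.Agent.Lib.Helper22.NormFlatLoc
import Groth.Agent.Lib.Helper4.SkOpen
import Groth.Agent.S2612

set_option autoImplicit false
universe u
open EGA4

namespace Groth.Agent.S4734

/-- Let A be a Noetherian ring, I a nilpotent ideal of A and M a finite A-module whose support is all of
Spec A and which is normally flat along I. Then for every prime p of A: M satisfies Serre's
condition (S_n) at p if and only if the A-module A/I does; and the codepth of M_p is at most n if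
and only if the codepth of the A_p-module (A/I)_p is at most n (codepth written additively as dim ≤
depth + n). -/
theorem result (n : ℕ) (A : Type u) [CommRing A] [IsNoetherianRing A]
    (I : Ideal A) (hI : IsNilpotent I) (M : Type u) [AddCommGroup M] [Module A M] [Module.Finite A M]
    (hsupp : Module.support A M = Set.univ) (hM : EGA4.IsNormallyFlat I M) (p : Ideal A) [p.IsPrime] :
    (EGA4.HasSkAt n A M p ↔ EGA4.HasSkAt n A (A ⧸ I) p) ∧
      (Module.supportDim (Localization.AtPrime p) (LocalizedModule p.primeCompl M) ≤
          ((LocCoh.depth (Localization.AtPrime p) (LocalizedModule p.primeCompl M) : ℕ∞) : WithBot ℕ∞) + n ↔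
        Module.supportDim (Localization.AtPrime p) (LocalizedModule p.primeCompl (A ⧸ I)) ≤
          ((LocCoh.depth (Localization.AtPrime p) (LocalizedModule p.primeCompl (A ⧸ I)) : ℕ∞) : WithBot ℕ∞) + n) := by
  have key : ∀ (q : Ideal A) [q.IsPrime],
      Module.supportDim (Localization.AtPrime q) (LocalizedModule q.primeCompl M) =
        Module.supportDim (Localization.AtPrime q) (LocalizedModule q.primeCompl (A ⧸ I)) ∧
      LocCoh.depth (Localization.AtPrime q) (LocalizedModule q.primeCompl M) =
        LocCoh.depth (Localization.AtPrime q) (LocalizedModule q.primeCompl (A ⧸ I)) := by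
    intro q hq
    have hnil : IsNilpotent (I.map (algebraMap A (Localization.AtPrime q))) := by
      obtain ⟨n, hn⟩ := hI
      refine ⟨n, ?_⟩
      rw [← Ideal.map_pow, hn]
      exact Ideal.map_bot
    haveI : Nontrivial (LocalizedModule q.primeCompl M) := by
      have : (⟨q, hq⟩ : PrimeSpectrum A) ∈ Module.support A M := by rw [hsupp]; trivial
      exact Module.mem_support_iff.mp this
    have hflat := Groth.Agent.Lib.Helper22.NormFlatLoc.isNormallyFlat_of_isLocalizedModule I
      q.primeCompl (Localization.AtPrime q) (LocalizedModule.mkLinearMap q.primeCompl M) hM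
    obtain ⟨h1, h2⟩ := Groth.Agent.S2612.result (Localization.AtPrime q)
      (I.map (algebraMap A (Localization.AtPrime q))) hnil (LocalizedModule q.primeCompl M) hflat
    let e₀ : LocalizedModule q.primeCompl (A ⧸ I) ≃ₗ[A]
        (Localization.AtPrime q ⧸ I.map (algebraMap A (Localization.AtPrime q))) :=
      IsLocalizedModule.linearEquiv q.primeCompl (LocalizedModule.mkLinearMap q.primeCompl (A ⧸ I))
        (IsScalarTower.toAlgHom A (A ⧸ I)
          (Localization.AtPrime q ⧸ I.map (algebraMap A (Localization.AtPrime q)))).toLinearMap
    let e : LocalizedModule q.primeCompl (A ⧸ I) ≃ₗ[Localization.AtPrime q]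
        (Localization.AtPrime q ⧸ I.map (algebraMap A (Localization.AtPrime q))) :=
      LinearEquiv.extendScalarsOfIsLocalization q.primeCompl (Localization.AtPrime q) e₀
    constructor
    · rw [h1, ← Module.supportDim_quotient_eq_ringKrullDim]
      exact (Module.supportDim_eq_of_equiv e).symm
    · rw [h2]
      exact (Groth.Agent.Lib.Helper4.idealDepth_congr
        (IsLocalRing.maximalIdeal (Localization.AtPrime q)) e).symm
  constructor
  · rw [Groth.Agent.Lib.Helper4.SkOpen.hasSkAt_iff M n p,
      Groth.Agent.Lib.Helper4.SkOpen.hasSkAt_iff (A ⧸ I) n p]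
    constructor
    · intro h q hq hqp
      rw [← (key q).1, ← (key q).2]
      exact h q hqp
    · intro h q hq hqp
      rw [(key q).1, (key q).2]
      exact h q hqp
  · rw [(key p).1, (key p).2]

end Groth.Agent.S4734
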