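import Groth.Statements.S4737
import Mathlib
import Groth.Agent.Lib.Helper14.ComplQuot
import Groth.Agent.Lib.Helper26.RegularHom
open TensorProduct

set_option autoImplicit false
universe u
open EGA4

namespace Groth.Agent.S4737

/-- The property 'geometrically regular', case of a local ring: let A be a Noetherian local ring whose
completion map A → Â is regular (the formal fibres of A are geometrically regular). Then for every
proper ideal I of A, the completion map of the local ring A/I is regular. -/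
theorem result (A : Type u) [CommRing A] [IsNoetherianRing A] [IsLocalRing A]
    (hA : CAlg.IsRegularHom A (EGA4.Cpl A)) (I : Ideal A) [Nontrivial (A ⧸ I)] :
    CAlg.IsRegularHom (A ⧸ I) (EGA4.Cpl (A ⧸ I)) := by
  letI : Algebra (Cpl A) (Cpl (A ⧸ I)) :=
    (Groth.Agent.Lib.Helper14.ComplFlat.cplMap A (A ⧸ I)).toAlgebra
  haveI : IsScalarTower A (Cpl A) (Cpl (A ⧸ I)) :=
    Groth.Agent.Lib.Helper14.ComplFlat.cplMap_isScalarTower A (A ⧸ I)
  haveI : Algebra.IsPushout A (A ⧸ I) (Cpl A) (Cpl (A ⧸ I)) :=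
    Groth.Agent.Lib.Helper14.ComplQuot.isPushout_quotient A I
  have h1 : CAlg.IsRegularHom (A ⧸ I) ((A ⧸ I) ⊗[A] Cpl A) :=
    Groth.Agent.Lib.Helper26.RegularHom.isRegularHom_baseChange_of_quasiFinite A (Cpl A) (A ⧸ I) hA
  exact Groth.Agent.Lib.Helper26.RegularHom.isRegularHom_of_algEquiv
    (Algebra.IsPushout.equiv A (A ⧸ I) (Cpl A) (Cpl (A ⧸ I))) h1


end Groth.Agent.S4737
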