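import Groth.Statements.S4742
-- import your own Groth.Agent.* helpers here
import Mathlib
import Groth.Agent.Lib.Helper4.RkLift

set_option autoImplicit false
universe u
open EGA4

namespace Groth.Agent.S4742

/-- Let A be a Noetherian local ring which is equidimensional and catenary, t an element of A belonging
to a system of parameters (dim A/tA + 1 = dim A), and Z a set of prime ideals of A stable under
specialization. Write X = Spec A, X₀ = V(t), X₁ = X ∖ X₀ and Z₀ = Z ∩ X₀, Z₁ = Z ∩ X₁. Then
codim(Z₀, X₀) ≤ codim(Z, X) ≤ codim(Z₁, X₁), where each codimension is the infimum of the heights of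
the primes concerned, heights for Z₀ being taken in A/tA. -/
theorem result (A : Type u) [CommRing A] [IsNoetherianRing A] [IsLocalRing A]
    (hA : EGA4.IsEquidim A) (hA' : CAlg.IsCatenary A) (t : A)
    (ht : ringKrullDim (A ⧸ Ideal.span {t}) + 1 = ringKrullDim A) (Z : Set (PrimeSpectrum A))
    (hZ : StableUnderSpecialization Z) :
    (⨅ p ∈ {p ∈ Z | t ∈ p.asIdeal}, (p.asIdeal.map (Ideal.Quotient.mk (Ideal.span {t}))).height) ≤
        ⨅ p ∈ Z, p.asIdeal.height ∧
      (⨅ p ∈ Z, p.asIdeal.height) ≤ ⨅ p ∈ {p ∈ Z | t ∉ p.asIdeal}, p.asIdeal.height := by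
  classical
  haveI : Nontrivial A := inferInstance
  -- t is not a unit
  have htm : t ∈ IsLocalRing.maximalIdeal A := by
    by_contra hnm
    have hu : IsUnit t := by
      by_contra hnu
      exact hnm ((IsLocalRing.mem_maximalIdeal t).mpr hnu)
    have htop : Ideal.span {t} = ⊤ := Ideal.span_singleton_eq_top.mpr hu
    haveI : Subsingleton (A ⧸ Ideal.span {t}) := Ideal.Quotient.subsingleton_iff.mpr htop
    rw [ringKrullDim_eq_bot_of_subsingleton, WithBot.bot_add] at ht
    have := ringKrullDim_nonneg_of_nontrivial (R := A)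
    rw [← ht] at this
    exact absurd this (by simp)
  -- key inequality for primes containing t
  have keyL : ∀ P : PrimeSpectrum A, t ∈ P.asIdeal →
      (P.asIdeal.map (Ideal.Quotient.mk (Ideal.span {t}))).height + 1 ≤ P.asIdeal.height := by
    intro P htP
    have hle : Ideal.span {t} ≤ P.asIdeal := (Ideal.span_singleton_le_iff_mem _).mpr htP
    haveI hPbar : (P.asIdeal.map (Ideal.Quotient.mk (Ideal.span {t}))).IsPrime :=
      Ideal.map_isPrime_of_surjective Ideal.Quotient.mk_surjective
        (by rw [Ideal.mk_ker]; exact hle)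
    set Pb : PrimeSpectrum (A ⧸ Ideal.span {t}) :=
      ⟨P.asIdeal.map (Ideal.Quotient.mk (Ideal.span {t})), hPbar⟩ with hPb
    have h1 := Groth.Agent.Lib.Helper4.RkLift.height_add_coheight_eq hA' hA P
    have h2 : ((Order.height Pb + Order.coheight Pb : ℕ∞) : WithBot ℕ∞) ≤
        ringKrullDim (A ⧸ Ideal.span {t}) := by
      haveI : Nonempty (PrimeSpectrum (A ⧸ Ideal.span {t})) := ⟨Pb⟩
      rw [ringKrullDim, Order.krullDim_eq_iSup_height_add_coheight_of_nonempty]
      exact WithBot.coe_le_coe.mpr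
        (le_iSup (fun a => Order.height a + Order.coheight a) Pb)
    have h3 : Order.coheight Pb = Order.coheight P := by
      have e : ((A ⧸ Ideal.span {t}) ⧸ P.asIdeal.map (Ideal.Quotient.mk (Ideal.span {t}))) ≃+*
          A ⧸ P.asIdeal := DoubleQuot.quotQuotEquivQuotOfLE hle
      have h4 := Groth.Agent.Lib.Helper14.ringKrullDim_quotient_eq_coheight Pb
      have h5 := Groth.Agent.Lib.Helper14.ringKrullDim_quotient_eq_coheight P
      have h6 : ringKrullDim ((A ⧸ Ideal.span {t}) ⧸ Pb.asIdeal) = ringKrullDim (A ⧸ P.asIdeal) :=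
        ringKrullDim_eq_of_ringEquiv e
      rw [h4, h5] at h6
      exact WithBot.coe_injective h6
    rw [h3, ← Pb.height_eq_orderHeight] at h2
    have h7 : ((Pb.asIdeal.height + Order.coheight P : ℕ∞) : WithBot ℕ∞) + 1 ≤
        ((P.asIdeal.height + Order.coheight P : ℕ∞) : WithBot ℕ∞) := by
      rw [h1, ← ht]
      exact add_le_add_left h2 1
    have h8 : Pb.asIdeal.height + Order.coheight P + 1 ≤ P.asIdeal.height + Order.coheight P := by
      exact_mod_cast h7
    have hc := Groth.Agent.Lib.Helper4.coheight_ne_top P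
    rw [add_right_comm] at h8
    exact (ENat.add_le_add_iff_right hc).mp h8
  constructor
  · apply le_iInf₂
    intro p hp
    by_cases htp : t ∈ p.asIdeal
    · refine iInf₂_le_of_le p ⟨hp, htp⟩ ?_
      exact le_self_add.trans (keyL p htp)
    · -- minimal prime over p + (t)
      have hsup : p.asIdeal ⊔ Ideal.span {t} ≤ IsLocalRing.maximalIdeal A :=
        sup_le (IsLocalRing.le_maximalIdeal p.2.ne_top)
          ((Ideal.span_singleton_le_iff_mem _).mpr htm)
      obtain ⟨Q, hQ, -⟩ := Ideal.exists_minimalPrimes_le hsup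
      haveI hQp : Q.IsPrime := hQ.1.1
      haveI := p.2
      have hcov := Groth.Agent.Lib.Helper4.RkLift.covBy_of_mem_minimalPrimes p.asIdeal Q t htp hQ
      have hh := Groth.Agent.Lib.Helper4.RkLift.height_eq_add_one_of_covBy hA' hA hcov
      have htQ : t ∈ Q := hQ.1.2 (Ideal.mem_sup_right (Ideal.mem_span_singleton_self t))
      have hpQ : p ≤ (⟨Q, hQp⟩ : PrimeSpectrum A) := le_sup_left.trans hQ.1.2
      have hQZ : (⟨Q, hQp⟩ : PrimeSpectrum A) ∈ Z :=
        hZ ((PrimeSpectrum.le_iff_specializes _ _).mp hpQ) hp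
      refine iInf₂_le_of_le ⟨Q, hQp⟩ ⟨hQZ, htQ⟩ ?_
      have h9 := keyL ⟨Q, hQp⟩ htQ
      rw [hh] at h9
      exact (ENat.add_le_add_iff_right (by simp)).mp h9
  · apply le_iInf₂
    intro p hp
    exact iInf₂_le p hp.1

end Groth.Agent.S4742
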