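import Groth.Statements.S4743
import Mathlib
import Groth.Agent.Lib.Helper14.FiniteDomain
import Groth.Agent.Lib.Helper14.GeomReduced
import Groth.Agent.Lib.Helper14.GeomReducedFin
open TensorProduct

set_option autoImplicit false
universe u
open EGA4

namespace Groth.Agent.S4743

open TensorProduct in
/-- For the property 'geometrically reduced', case of a local ring: let A be a Noetherian local ring
with completion Â. Then the formal fibres of A are geometrically reduced if and only if, for every
finite A-algebra B which is a domain and every prime ideal q of B ⊗_A Â whose contraction to B is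
zero, the local ring of B ⊗_A Â at q is reduced. (The published statement is for semi-local rings;
this row takes A local.) -/
theorem result (A : Type u) [CommRing A] [IsNoetherianRing A]
    [IsLocalRing A] :
    EGA4.HasGeomReducedFormalFibres A ↔
      ∀ (B : Type u) [CommRing B] [IsDomain B] [Algebra A B] [Module.Finite A B]
        (q : Ideal (B ⊗[A] EGA4.Cpl A)) [q.IsPrime],
        q.comap (algebraMap B (B ⊗[A] EGA4.Cpl A)) = ⊥ → IsReduced (Localization.AtPrime q) := by
  constructor
  · intro hA B _ _ _ _ q hq hq0
    -- the prime `p = ker (A → B)` and the fraction field `K` of `B`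
    haveI hp : (RingHom.ker (algebraMap A B)).IsPrime := RingHom.ker_isPrime _
    have h1 : RingHom.ker (algebraMap A B) ≤ RingHom.ker (algebraMap A (FractionRing B)) := by
      intro a ha
      rw [RingHom.mem_ker] at ha ⊢
      rw [IsScalarTower.algebraMap_apply A B (FractionRing B), ha, map_zero]
    have h2 : (RingHom.ker (algebraMap A B)).primeCompl ≤
        (IsUnit.submonoid (FractionRing B)).comap (algebraMap A (FractionRing B)) := by
      intro a ha
      rw [Submonoid.mem_comap, IsUnit.mem_submonoid_iff, isUnit_iff_ne_zero,
        IsScalarTower.algebraMap_apply A B (FractionRing B)]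
      intro h0
      exact ha ((IsFractionRing.injective B (FractionRing B)) (by rw [h0, map_zero]))
    letI : Algebra (RingHom.ker (algebraMap A B)).ResidueField (FractionRing B) :=
      (Ideal.ResidueField.lift (RingHom.ker (algebraMap A B))
        (algebraMap A (FractionRing B)) h1 h2).toAlgebra
    haveI : IsScalarTower A (RingHom.ker (algebraMap A B)).ResidueField (FractionRing B) :=
      IsScalarTower.of_algebraMap_eq (fun a =>
        (Ideal.ResidueField.lift_algebraMap _ _ h1 h2 a).symm)
    haveI := hA (RingHom.ker (algebraMap A B))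
    haveI hred : IsReduced ((FractionRing B) ⊗[(RingHom.ker (algebraMap A B)).ResidueField]
        (RingHom.ker (algebraMap A B)).Fiber (Cpl A)) :=
      Groth.Agent.Lib.Helper14.GeomReduced.isReduced_tensor_of_isGeometricallyReduced _ _ _
    haveI hred2 : IsReduced ((B ⊗[A] Cpl A) ⊗[B] FractionRing B) :=
      Groth.Agent.Lib.Helper14.FiniteDomain.isReduced_of_ringEquiv
        (X := (FractionRing B) ⊗[(RingHom.ker (algebraMap A B)).ResidueField]
          (RingHom.ker (algebraMap A B)).Fiber (Cpl A))
        (Y := (B ⊗[A] Cpl A) ⊗[B] FractionRing B)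
        (Groth.Agent.Lib.Helper14.FiniteDomain.fiberEquiv A (Cpl A) B (FractionRing B)
          (RingHom.ker (algebraMap A B)))
    have key := (Groth.Agent.Lib.Helper14.FiniteDomain.forall_localization_iff
      (Algebra.algebraMapSubmonoid (B ⊗[A] Cpl A) (nonZeroDivisors B))
      ((B ⊗[A] Cpl A) ⊗[B] FractionRing B) (fun X _ => IsReduced X)
      (fun X Y _ _ e h => by
        haveI := h
        exact Groth.Agent.Lib.Helper14.FiniteDomain.isReduced_of_ringEquiv e)).mp
      (fun Q _ => inferInstance)
    exact key q
      ((Groth.Agent.Lib.Helper14.FiniteDomain.disjoint_iff_comap_eq_bot B (B ⊗[A] Cpl A) q).mpr hq0)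
  · intro H p hp
    apply Groth.Agent.Lib.Helper14.GeomReducedFin.isGeometricallyReduced_of_forall_finite
    intro K _ _ hfin
    letI : Algebra A K := ((algebraMap p.ResidueField K).comp (algebraMap A p.ResidueField)).toAlgebra
    haveI : IsScalarTower A p.ResidueField K := IsScalarTower.of_algebraMap_eq (fun _ => rfl)
    obtain ⟨B, hBfin, hBfrac⟩ :=
      Groth.Agent.Lib.Helper14.FiniteDomain.exists_finite_domain A p K
    suffices hred2 : IsReduced ((B ⊗[A] Cpl A) ⊗[B] K) from
      Groth.Agent.Lib.Helper14.FiniteDomain.isReduced_of_ringEquiv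
        (X := (B ⊗[A] Cpl A) ⊗[B] K) (Y := K ⊗[p.ResidueField] p.Fiber (Cpl A))
        (Groth.Agent.Lib.Helper14.FiniteDomain.fiberEquiv A (Cpl A) B K p).symm
    refine Groth.Agent.Lib.Helper14.FiniteDomain.isReduced_of_forall_localization
      ((B ⊗[A] Cpl A) ⊗[B] K) ?_
    intro Q hQ
    have key := (Groth.Agent.Lib.Helper14.FiniteDomain.forall_localization_iff
      (Algebra.algebraMapSubmonoid (B ⊗[A] Cpl A) (nonZeroDivisors B))
      ((B ⊗[A] Cpl A) ⊗[B] K) (fun X _ => IsReduced X)
      (fun X Y _ _ e h => by
        haveI := h
        exact Groth.Agent.Lib.Helper14.FiniteDomain.isReduced_of_ringEquiv e)).mpr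
      (fun q _ hdisj => H B q
        ((Groth.Agent.Lib.Helper14.FiniteDomain.disjoint_iff_comap_eq_bot B (B ⊗[A] Cpl A) q).mp
          hdisj))
    exact key Q


end Groth.Agent.S4743
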