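import Groth.Statements.S4744
import Mathlib
import Groth.Agent.Lib.Helper14.ComplFlat
import Groth.Agent.Lib.Helper4.FlatFibre
import Groth.Agent.Lib.Helper4.RegCM
open TensorProduct

set_option autoImplicit false
universe u
open EGA4

namespace Groth.Agent.S4744

theorem isRegularRing_of_isGeometricallyRegular (k F : Type u) [Field k] [CommRing F]
    [Algebra k F] (h : CAlg.IsGeometricallyRegular k F) : IsRegularRing F := by
  haveI := h k inferInstance
  exact IsRegularRing.of_ringEquiv (R := k ⊗[k] F) (Algebra.TensorProduct.lid k F).toRingEquiv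

/-- Let A → A' be a flat local homomorphism of Noetherian local rings all of whose fibre rings k(p) ⊗_A
A' are Cohen–Macaulay. If the completion map of A' is regular (the formal fibres of A' are
geometrically regular), then the formal fibres of A are Cohen–Macaulay. -/
theorem result (A A' : Type u) [CommRing A] [CommRing A'] [IsNoetherianRing A]
    [IsNoetherianRing A'] [IsLocalRing A] [IsLocalRing A'] [Algebra A A'] [IsLocalHom (algebraMap A A')]
    [Module.Flat A A'] (hf : ∀ (p : Ideal A) [p.IsPrime], LocCoh.IsCohenMacaulayRing (p.Fiber A'))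
    (hA' : CAlg.IsRegularHom A' (EGA4.Cpl A')) : EGA4.HasCMFormalFibres A := by
  letI : Algebra (Cpl A) (Cpl A') := (Groth.Agent.Lib.Helper14.ComplFlat.cplMap A A').toAlgebra
  haveI : IsScalarTower A (Cpl A) (Cpl A') :=
    Groth.Agent.Lib.Helper14.ComplFlat.cplMap_isScalarTower A A'
  haveI : Module.FaithfullyFlat (Cpl A) (Cpl A') :=
    Groth.Agent.Lib.Helper14.ComplFlat.cplMap_faithfullyFlat A A'
  haveI : Module.Flat A' (Cpl A') := hA'.1
  haveI : IsNoetherianRing (Cpl A) :=
    Groth.Agent.Lib.Helper14.ComplEtale.isNoetherianRing_completion A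
  haveI : IsNoetherianRing (Cpl A') :=
    Groth.Agent.Lib.Helper14.ComplEtale.isNoetherianRing_completion A'
  intro p hp
  change LocCoh.IsCohenMacaulayRing (p.Fiber (Cpl A))
  rw [Groth.Agent.Lib.Helper4.FlatFibre.isCohenMacaulayRing_fiber_iff A (Cpl A) p]
  intro r hrp hr
  obtain ⟨s, hsp, hsr, hs0, hd0⟩ :=
    Groth.Agent.Lib.Helper4.FlatFibre.exists_prime_fibre_dim_zero (Cpl A) (Cpl A') r
  haveI := hsp
  subst hsr
  have hs : s.comap (algebraMap A (Cpl A')) = p := by
    rw [← hr, Ideal.comap_comap, ← IsScalarTower.algebraMap_eq]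
  obtain ⟨hd, hh⟩ := Groth.Agent.Lib.Helper4.FlatFibre.fibLocRing_trans A (Cpl A) (Cpl A') s
  rw [hd0, add_zero] at hd
  rw [hs0, add_zero] at hh
  -- the fibre local ring of `A → Cpl A'` at `s` is Cohen–Macaulay
  obtain ⟨hd', hh'⟩ := Groth.Agent.Lib.Helper4.FlatFibre.fibLocRing_trans A A' (Cpl A') s
  have hs' : (s.comap (algebraMap A' (Cpl A'))).comap (algebraMap A A') = p := by
    rw [← hs, Ideal.comap_comap, ← IsScalarTower.algebraMap_eq]
  have h1 : Groth.Agent.Lib.Helper4.FlatFibre.ClosedCM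
      (EGA4.FibLocRing A A' (s.comap (algebraMap A' (Cpl A')))) :=
    (Groth.Agent.Lib.Helper4.FlatFibre.isCohenMacaulayRing_fiber_iff A A' p).mp (hf p) _ hs'
  have hreg : LocCoh.IsCohenMacaulayRing ((s.comap (algebraMap A' (Cpl A'))).Fiber (Cpl A')) := by
    obtain ⟨hN, hG⟩ := hA'.2 (s.comap (algebraMap A' (Cpl A')))
    haveI := hN
    haveI : IsRegularRing ((s.comap (algebraMap A' (Cpl A'))).Fiber (Cpl A')) :=
      isRegularRing_of_isGeometricallyRegular _ _ hG
    exact { isCohenMacaulayLocalRing_localization := fun 𝔮 _ =>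
      Groth.Agent.Lib.Helper4.RegCM.isCohenMacaulayLocalRing _ }
  have h2 : Groth.Agent.Lib.Helper4.FlatFibre.ClosedCM (EGA4.FibLocRing A' (Cpl A') s) :=
    (Groth.Agent.Lib.Helper4.FlatFibre.isCohenMacaulayRing_fiber_iff A' (Cpl A')
      (s.comap (algebraMap A' (Cpl A')))).mp hreg s rfl
  intro _
  rw [← hd, ← hh, hd', hh', h1, h2]


end Groth.Agent.S4744
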