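import Groth.Statements.S4746
import Groth.Agent.S2657
import Groth.Agent.Lib.Helper14.RedFib.Main
import Groth.Agent.Lib.Helper14.ComplEtale
import Groth.Agent.Lib.Helper14.ComplFlat

set_option autoImplicit false
universe u
open EGA4

namespace Groth.Agent.S4746

/-- For the property 'reduced': let A → B be a local homomorphism of Noetherian local rings making B a
flat A-module, such that the residue field of B is a finite extension of the residue field k of A,
and such that the formal fibres of A are geometrically reduced. If the k-algebra k ⊗_A B̂, where B̂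
is the completion of B, is geometrically reduced over k, then every fibre k(p) ⊗_A B of A → B is
geometrically reduced over k(p). -/
theorem result (A B : Type u) [CommRing A] [CommRing B]
    [IsNoetherianRing A] [IsNoetherianRing B] [IsLocalRing A] [IsLocalRing B] [Algebra A B]
    [IsLocalHom (algebraMap A B)] [Module.Flat A B]
    [Module.Finite (IsLocalRing.ResidueField A) (IsLocalRing.ResidueField B)]
    (hA : EGA4.HasGeomReducedFormalFibres A)
    (h : Algebra.IsGeometricallyReduced (IsLocalRing.maximalIdeal A).ResidueField
      ((IsLocalRing.maximalIdeal A).Fiber (EGA4.Cpl B))) :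
    ∀ (p : Ideal A) [p.IsPrime], Algebra.IsGeometricallyReduced p.ResidueField (p.Fiber B) := by
  intro p hp
  have hN : CAlg.IsNagata A := Groth.Agent.S2657.result A hA
  haveI : IsNoetherianRing (EGA4.Cpl B) :=
    Groth.Agent.Lib.Helper14.ComplEtale.isNoetherianRing_completion B
  haveI : Module.FaithfullyFlat B (EGA4.Cpl B) := Module.FaithfullyFlat.of_flat_of_isLocalHom
  haveI : Module.Flat A (EGA4.Cpl B) := Module.Flat.trans A B (EGA4.Cpl B)
  have hall := Groth.Agent.Lib.Helper14.RedFib.geomReduced_fiber_of_closed_fiber A (EGA4.Cpl B) hN
    (by
      intro a ha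
      rw [IsLocalRing.jacobson_eq_maximalIdeal ⊥ bot_ne_top,
        IsScalarTower.algebraMap_apply A B (EGA4.Cpl B)]
      exact map_nonunit (algebraMap B (EGA4.Cpl B)) _ (map_nonunit (algebraMap A B) a ha)) h
  exact Groth.Agent.Lib.Helper14.GeomReducedFin.isGeometricallyReduced_fiber_descend A B
    (EGA4.Cpl B) hall p

end Groth.Agent.S4746
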