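import Groth.Statements.S4748
import Mathlib
import Groth.Agent.Lib.Helper14.NormalSepExt

set_option autoImplicit false
universe u
open EGA4

namespace Groth.Agent.S4748

open TensorProduct in
/-- For the property 'normal' (affine form): let k be a field, S a Noetherian k-algebra and k' an
extension field of k such that S is of finite type over k or k' is essentially of finite type over
k; let q' be a prime of S ⊗_k k' and q its contraction to S. If (S ⊗_k k')_{q'} is an integrally
closed domain then so is S_q; conversely, if k' is separable over k (geometrically reduced) and S_q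
is an integrally closed domain, then so is (S ⊗_k k')_{q'}. -/
theorem result (k S k' : Type u) [Field k] [CommRing S] [Algebra k S]
    [IsNoetherianRing S] [Field k'] [Algebra k k'] (hft : Algebra.FiniteType k S ∨ Algebra.EssFiniteType k k')
    [IsNoetherianRing (S ⊗[k] k')] (q' : Ideal (S ⊗[k] k')) [q'.IsPrime] :
    ((IsDomain (Localization.AtPrime q') ∧ IsIntegrallyClosed (Localization.AtPrime q')) →
        (IsDomain (Localization.AtPrime (q'.comap (algebraMap S (S ⊗[k] k')))) ∧
          IsIntegrallyClosed (Localization.AtPrime (q'.comap (algebraMap S (S ⊗[k] k')))))) ∧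
      (Algebra.IsGeometricallyReduced k k' →
        (IsDomain (Localization.AtPrime (q'.comap (algebraMap S (S ⊗[k] k')))) ∧
          IsIntegrallyClosed (Localization.AtPrime (q'.comap (algebraMap S (S ⊗[k] k'))))) →
          (IsDomain (Localization.AtPrime q') ∧ IsIntegrallyClosed (Localization.AtPrime q'))) := by
  classical
  haveI hq : (q'.comap (algebraMap S (S ⊗[k] k'))).IsPrime := Ideal.comap_isPrime _ _
  constructor
  · rintro ⟨hd, hic⟩
    have hflat : (Localization.localRingHom (q'.comap (algebraMap S (S ⊗[k] k'))) q'
        (algebraMap S (S ⊗[k] k')) rfl).Flat :=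
      RingHom.Flat.localRingHom (f := algebraMap S (S ⊗[k] k'))
        ((RingHom.flat_algebraMap_iff).mpr inferInstance) q' _ rfl
    letI : Algebra (Localization.AtPrime (q'.comap (algebraMap S (S ⊗[k] k'))))
        (Localization.AtPrime q') :=
      (Localization.localRingHom (q'.comap (algebraMap S (S ⊗[k] k'))) q'
        (algebraMap S (S ⊗[k] k')) rfl).toAlgebra
    haveI : Module.Flat (Localization.AtPrime (q'.comap (algebraMap S (S ⊗[k] k'))))
        (Localization.AtPrime q') := hflat
    haveI : IsLocalHom (algebraMap (Localization.AtPrime (q'.comap (algebraMap S (S ⊗[k] k'))))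
        (Localization.AtPrime q')) :=
      Localization.isLocalHom_localRingHom _ q' (algebraMap S (S ⊗[k] k')) rfl
    haveI : Module.FaithfullyFlat (Localization.AtPrime (q'.comap (algebraMap S (S ⊗[k] k'))))
        (Localization.AtPrime q') := Module.FaithfullyFlat.of_flat_of_isLocalHom
    exact Groth.Agent.Lib.Helper14.NormalSmoothAsc.isDomain_isIntegrallyClosed_of_faithfullyFlat
      (Localization.AtPrime (q'.comap (algebraMap S (S ⊗[k] k')))) (Localization.AtPrime q')
  · intro hgr
    rintro ⟨hd, hic⟩
    -- S_q is a normal ring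
    have hSq : EGA4.IsNormalRing (Localization.AtPrime (q'.comap (algebraMap S (S ⊗[k] k')))) := by
      intro p hp
      exact ⟨IsLocalization.isDomain_localization (le_nonZeroDivisors_of_noZeroDivisors
        (by
          intro h0
          exact h0 (Ideal.zero_mem p))),
        isIntegrallyClosed_of_isLocalization _ p.primeCompl
          (le_nonZeroDivisors_of_noZeroDivisors (fun h0 => h0 (Ideal.zero_mem p)))⟩
    have hT' : EGA4.IsNormalRing (k' ⊗[k] Localization.AtPrime
        (q'.comap (algebraMap S (S ⊗[k] k')))) :=
      Groth.Agent.Lib.Helper14.NormalSepExt.isNormalRing_tensor_of_isGeometricallyReduced k _ k' hSq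
    have hT : EGA4.IsNormalRing
        (Localization.AtPrime (q'.comap (algebraMap S (S ⊗[k] k'))) ⊗[k] k') :=
      Groth.Agent.Lib.Helper14.isNormalRing_of_ringEquiv
        (Algebra.TensorProduct.comm k k' _).toRingEquiv hT'
    -- localization structure
    letI : Algebra (S ⊗[k] k')
        (Localization.AtPrime (q'.comap (algebraMap S (S ⊗[k] k'))) ⊗[k] k') :=
      (Algebra.TensorProduct.map (IsScalarTower.toAlgHom k S
        (Localization.AtPrime (q'.comap (algebraMap S (S ⊗[k] k'))))) (AlgHom.id k k')).toRingHom.toAlgebra
    have halg : ∀ x : S ⊗[k] k', algebraMap (S ⊗[k] k')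
        (Localization.AtPrime (q'.comap (algebraMap S (S ⊗[k] k'))) ⊗[k] k') x =
        Algebra.TensorProduct.map (IsScalarTower.toAlgHom k S
          (Localization.AtPrime (q'.comap (algebraMap S (S ⊗[k] k'))))) (AlgHom.id k k') x :=
      fun _ => rfl
    haveI : IsScalarTower S (S ⊗[k] k')
        (Localization.AtPrime (q'.comap (algebraMap S (S ⊗[k] k'))) ⊗[k] k') :=
      IsScalarTower.of_algebraMap_eq fun a => by
        rw [halg]
        simp [Algebra.TensorProduct.algebraMap_apply]
    have hpush : Algebra.IsPushout S (Localization.AtPrime (q'.comap (algebraMap S (S ⊗[k] k'))))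
        (S ⊗[k] k') (Localization.AtPrime (q'.comap (algebraMap S (S ⊗[k] k'))) ⊗[k] k') :=
      Algebra.IsPushout.tensorProduct_tensorProduct k k' S _ (by
        ext x
        simp [halg])
    haveI hloc : IsLocalization (Algebra.algebraMapSubmonoid (S ⊗[k] k')
        (q'.comap (algebraMap S (S ⊗[k] k'))).primeCompl)
        (Localization.AtPrime (q'.comap (algebraMap S (S ⊗[k] k'))) ⊗[k] k') :=
      (Algebra.isLocalization_iff_isPushout _ _).mpr hpush.symm
    have hdisj : Disjoint (Algebra.algebraMapSubmonoid (S ⊗[k] k')
        (q'.comap (algebraMap S (S ⊗[k] k'))).primeCompl : Set (S ⊗[k] k')) (q' : Set (S ⊗[k] k')) := by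
      rw [Set.disjoint_left]
      rintro _ ⟨s, hs, rfl⟩ hmem
      exact hs hmem
    haveI hq'' : (q'.map (algebraMap (S ⊗[k] k')
        (Localization.AtPrime (q'.comap (algebraMap S (S ⊗[k] k'))) ⊗[k] k'))).IsPrime :=
      IsLocalization.isPrime_of_isPrime_disjoint _ _ q' inferInstance hdisj
    have hcomap : (q'.map (algebraMap (S ⊗[k] k')
        (Localization.AtPrime (q'.comap (algebraMap S (S ⊗[k] k'))) ⊗[k] k'))).comap
        (algebraMap (S ⊗[k] k') _) = q' :=
      IsLocalization.comap_map_of_isPrime_disjoint _ _ inferInstance hdisj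
    have H := Groth.Agent.Lib.Helper14.NormalSmoothAsc.normalAt_comap_of_isLocalization
      (Algebra.algebraMapSubmonoid (S ⊗[k] k') (q'.comap (algebraMap S (S ⊗[k] k'))).primeCompl)
      (Localization.AtPrime (q'.comap (algebraMap S (S ⊗[k] k'))) ⊗[k] k')
      (q'.map (algebraMap (S ⊗[k] k') _)) (hT _)
    exact Groth.Agent.Lib.Helper14.NormalSmoothAsc.normalAt_congr hcomap H


end Groth.Agent.S4748
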