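import Groth.Statements.S4750
import Groth.Agent.Lib.Helper4.FlatFibre

set_option autoImplicit false
universe u
open EGA4

namespace Groth.Agent.S4750

/-- Let A → B → C be homomorphisms of Noetherian rings, both flat and with (S_n) fibres. Then the
composite A → C is flat with (S_n) fibres. -/
theorem result (n : ℕ) (A B C : Type u) [CommRing A] [CommRing B] [CommRing C] [IsNoetherianRing A]
    [IsNoetherianRing B] [IsNoetherianRing C] [Algebra A B] [Algebra B C] [Algebra A C] [IsScalarTower A B C]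
    [Module.Flat A B] [Module.Flat B C]
    (hAB : ∀ (p : Ideal A) [p.IsPrime], LocCoh.HasSk n (p.Fiber B) (p.Fiber B))
    (hBC : ∀ (q : Ideal B) [q.IsPrime], LocCoh.HasSk n (q.Fiber C) (q.Fiber C)) :
    Module.Flat A C ∧ ∀ (p : Ideal A) [p.IsPrime], LocCoh.HasSk n (p.Fiber C) (p.Fiber C) := by
  haveI : Module.Flat A C := Module.Flat.trans A B C
  refine ⟨inferInstance, fun p _ => ?_⟩
  rw [Groth.Agent.Lib.Helper4.FlatFibre.hasSk_fiber_iff A C p n]
  intro s _ hs
  have hr : (s.comap (algebraMap B C)).comap (algebraMap A B) = p := by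
    rw [Ideal.comap_comap, ← IsScalarTower.algebraMap_eq]; exact hs
  have h1 := (Groth.Agent.Lib.Helper4.FlatFibre.hasSk_fiber_iff A B p n).mp (hAB p)
    (s.comap (algebraMap B C)) hr
  have h2 := (Groth.Agent.Lib.Helper4.FlatFibre.hasSk_fiber_iff B C
    (s.comap (algebraMap B C)) n).mp (hBC _) s rfl
  obtain ⟨hd, hh⟩ := Groth.Agent.Lib.Helper4.FlatFibre.fibLocRing_trans A B C s
  intro _
  rw [hd, hh]
  exact (Groth.Agent.Lib.Helper4.FlatRing.min_add_le _ _ _).trans (add_le_add h1 h2)

end Groth.Agent.S4750
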