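import Groth.Statements.S4751
import Groth.Agent.Lib.Helper4.FlatFibre
import Groth.Agent.Lib.Helper2.FlatCancel

set_option autoImplicit false
universe u
open EGA4

namespace Groth.Agent.S4751

/-- Let A → B → C be homomorphisms of Noetherian rings such that B → C is faithfully flat with (S_n)
fibres and the composite A → C is flat with (S_n) fibres. Then A → B is flat with (S_n) fibres. -/
theorem result (n : ℕ) (A B C : Type u) [CommRing A] [CommRing B] [CommRing C]
    [IsNoetherianRing A] [IsNoetherianRing B] [IsNoetherianRing C] [Algebra A B] [Algebra B C] [Algebra A C]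
    [IsScalarTower A B C] [Module.FaithfullyFlat B C] [Module.Flat A C]
    (hBC : ∀ (q : Ideal B) [q.IsPrime], LocCoh.HasSk n (q.Fiber C) (q.Fiber C))
    (hAC : ∀ (p : Ideal A) [p.IsPrime], LocCoh.HasSk n (p.Fiber C) (p.Fiber C)) :
    Module.Flat A B ∧ ∀ (p : Ideal A) [p.IsPrime], LocCoh.HasSk n (p.Fiber B) (p.Fiber B) := by
  haveI : Module.Flat A B := Groth.Agent.Lib.Helper2.flat_of_flat_of_faithfullyFlat A B C
  refine ⟨inferInstance, fun p _ => ?_⟩
  rw [Groth.Agent.Lib.Helper4.FlatFibre.hasSk_fiber_iff A B p n]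
  intro r _ hr
  obtain ⟨s, hsp, hsr, hs0, hd0⟩ :=
    Groth.Agent.Lib.Helper4.FlatFibre.exists_prime_fibre_dim_zero B C r
  haveI := hsp
  subst hsr
  have hs : s.comap (algebraMap A C) = p := by
    rw [← hr, Ideal.comap_comap, ← IsScalarTower.algebraMap_eq]
  have h2 := (Groth.Agent.Lib.Helper4.FlatFibre.hasSk_fiber_iff A C p n).mp (hAC p) s hs
  obtain ⟨hd, hh⟩ := Groth.Agent.Lib.Helper4.FlatFibre.fibLocRing_trans A B C s
  rw [hd0, add_zero] at hd
  rw [hs0, add_zero] at hh
  intro _
  rw [← hd, ← hh]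
  exact h2

end Groth.Agent.S4751
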