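import Groth.Statements.S4753
import Mathlib
import Groth.Agent.Lib.Helper14.ComplEtale

set_option autoImplicit false
universe u
open EGA4

namespace Groth.Agent.S4753

/-- Case of reduced morphisms, affine form: let A → B → C be homomorphisms of Noetherian rings such that
B → C is faithfully flat with geometrically reduced fibres and the composite A → C is flat with
geometrically reduced fibres. Then A → B is flat with geometrically reduced fibres. -/
theorem result (A B C : Type u) [CommRing A] [CommRing B] [CommRing C]
    [IsNoetherianRing A] [IsNoetherianRing B] [IsNoetherianRing C] [Algebra A B] [Algebra B C] [Algebra A C]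
    [IsScalarTower A B C] [Module.FaithfullyFlat B C] [Module.Flat A C]
    (hBC : ∀ (q : Ideal B) [q.IsPrime], Algebra.IsGeometricallyReduced q.ResidueField (q.Fiber C))
    (hAC : ∀ (p : Ideal A) [p.IsPrime], Algebra.IsGeometricallyReduced p.ResidueField (p.Fiber C)) :
    Module.Flat A B ∧ ∀ (p : Ideal A) [p.IsPrime], Algebra.IsGeometricallyReduced p.ResidueField (p.Fiber B) := by
  haveI hAB : Module.Flat A B :=
    Groth.Agent.Lib.Helper14.ComplEtale.flat_of_faithfullyFlat_of_flat A B C
  refine ⟨hAB, ?_⟩
  intro p hp
  haveI := hAC p
  let φ : p.Fiber B →ₐ[p.ResidueField] p.Fiber C :=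
    Algebra.TensorProduct.map (AlgHom.id _ _) (IsScalarTower.toAlgHom A B C)
  refine Algebra.IsGeometricallyReduced.of_injective φ ?_
  have hφ : ∀ x : p.Fiber B, φ x =
      TensorProduct.comm A C p.ResidueField
        (TensorProduct.AlgebraTensorModule.cancelBaseChange A B B C p.ResidueField
          (TensorProduct.mk B C (TensorProduct A B p.ResidueField) 1
            (TensorProduct.comm A p.ResidueField B x))) := by
    intro x
    induction x using TensorProduct.induction_on with
    | zero => simp
    | add x y hx hy => simp only [map_add, hx, hy]
    | tmul a b =>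
      simp [φ, Algebra.algebraMap_eq_smul_one]
  intro x y hxy
  rw [hφ, hφ] at hxy
  have h1 := (TensorProduct.comm A C p.ResidueField).injective hxy
  have h2 := (TensorProduct.AlgebraTensorModule.cancelBaseChange A B B C p.ResidueField).injective h1
  have h3 := Module.FaithfullyFlat.tensorProduct_mk_injective (A := B) (B := C)
    (TensorProduct A B p.ResidueField) h2
  exact (TensorProduct.comm A p.ResidueField B).injective h3


end Groth.Agent.S4753
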