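import Groth.Statements.S4756
import Mathlib
import Groth.Agent.Lib.Helper14.NormalHomBC

set_option autoImplicit false
universe u
open EGA4

namespace Groth.Agent.S4756

/-- Let A → B be a normal homomorphism of Noetherian rings (flat, with geometrically normal fibres) and
S a multiplicative subset of A. Then the induced homomorphism S⁻¹A → S⁻¹B (arbitrary localizations
at S and at its image) is normal. -/
theorem result (A B : Type u) [CommRing A] [CommRing B] [IsNoetherianRing A] [IsNoetherianRing B]
    [Algebra A B] (h : EGA4.IsNormalHom A B) (S : Submonoid A)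
    (A' B' : Type u) [CommRing A'] [CommRing B'] [Algebra A A'] [Algebra B B'] [Algebra A' B'] [Algebra A B']
    [IsScalarTower A A' B'] [IsScalarTower A B B'] [IsLocalization S A']
    [IsLocalization (Algebra.algebraMapSubmonoid B S) B'] :
    EGA4.IsNormalHom A' B' := by
  obtain ⟨hflat, hfib⟩ := h
  haveI := hflat
  haveI hpo : Algebra.IsPushout A B A' B' :=
    (Algebra.isLocalization_iff_isPushout S A').mp inferInstance
  haveI hpo' : Algebra.IsPushout A A' B B' := hpo.symm
  refine ⟨?_, ?_⟩
  · exact Module.Flat.of_linearEquiv (R := A') (M := TensorProduct A A' B)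
      (Algebra.IsPushout.equiv A A' B B').symm.toLinearEquiv
  · intro p' hp'
    refine Groth.Agent.Lib.Helper14.NormalHomBC.isGeomNormal_fiber_baseChange A B A' B'
      (fun p _ => hfib p) p' ?_
    have hbij := RingHom.SurjectiveOnStalks.residueFieldMap_bijective
      (RingHom.surjectiveOnStalks_of_isLocalization (M := S) (R := A) (S := A'))
      (p'.comap (algebraMap A A')) p' rfl
    exact RingHom.Finite.of_surjective _ hbij.2


end Groth.Agent.S4756
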