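import Groth.Statements.S4761
-- import your own Groth.Agent.* helpers here
import Mathlib
import Groth.Agent.Lib.Helper12.LimConsOpen

set_option autoImplicit false
universe u
open CategoryTheory AlgebraicGeometry
open Lim8

namespace Groth.Agent.S4761
open CategoryTheory.Limits Groth.Agent.Lib.Helper12.LimConsOpen

set_option backward.isDefEq.respectTransparency false

/-- Let S = lim S_i be a cofiltered limit of schemes with affine transition maps, let S_{i₁} be a
quasi-compact stage and Z₁ a constructible subset of S_{i₁}. Then the preimage of Z₁ in S is open if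
and only if, for some index j over i₁, the preimage of Z₁ in S_j is open. -/
theorem result {I : Type u} [SmallCategory I] [IsCofiltered I]
    (D : I ⥤ Scheme.{u}) (c : Limits.Cone D) (hc : Limits.IsLimit c)
    [∀ (i j : I) (f : i ⟶ j), IsAffineHom (D.map f)] (i₁ : I)
    [CompactSpace (D.obj i₁)] (Z₁ : Set (D.obj i₁)) (hZ : Topology.IsConstructible Z₁) :
    IsOpen (⇑(c.π.app i₁) ⁻¹' Z₁ : Set c.pt) ↔ ∃ (j : I) (φ : j ⟶ i₁), IsOpen (⇑(D.map φ) ⁻¹' Z₁) := by
  classical
  haveI : ∀ {i j : I} (f : i ⟶ j), IsAffineHom (D.map f) := fun f => inferInstance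
  constructor
  · intro ho
    exact exists_isOpen_preimage D c hc i₁ Z₁ hZ ho
  · rintro ⟨j, φ, hj⟩
    have e : (⇑(c.π.app i₁) ⁻¹' Z₁ : Set c.pt) = ⇑(c.π.app j) ⁻¹' (⇑(D.map φ) ⁻¹' Z₁) := by
      have e1 := preimage_comp_eq (c.π.app j) (D.map φ) Z₁
      have e2 : (⇑(c.π.app j ≫ D.map φ) ⁻¹' Z₁ : Set c.pt) = ⇑(c.π.app i₁) ⁻¹' Z₁ :=
        congrArg (fun m : c.pt ⟶ D.obj i₁ => (⇑m ⁻¹' Z₁ : Set c.pt)) (c.w φ)
      exact (e1.trans e2).symm
    rw [e]
    exact hj.preimage (c.π.app j).continuous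

end Groth.Agent.S4761
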