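import Groth.Statements.S4777
import Mathlib
import Groth.Agent.Lib.Helper11.FGColim
import Groth.Agent.Lib.Helper25.SubalgColim

set_option autoImplicit false
universe u
open CategoryTheory
open Lim8

namespace Groth.Agent.S4777

open Groth.Agent.Lib.Helper11 Groth.Agent.Lib.Helper25


/-- Let B be an algebra over a commutative ring A. If, for every inductive system (C_λ) of A-algebras
indexed by a nonempty directed preordered set, the canonical map colim Hom_A(B, C_λ) → Hom_A(B,
colim C_λ) is bijective (that is, Hom_A(B, -) preserves the colimit of the system), then B is an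
A-algebra of finite presentation. (This is the necessity half of the characterization of algebras of
finite presentation by this property; the converse is standard.) -/
theorem result {A B : CommRingCat.{u}} (f : A ⟶ B)
    (h : ∀ (J : Type u) [Preorder J] [IsDirected J (· ≤ ·)] [Nonempty J] (F : J ⥤ Under A),
      Limits.PreservesColimit F (coyoneda.obj (Opposite.op (Under.mk f)))) :
    f.hom.FinitePresentation := by
  letI : Algebra A B := f.hom.toAlgebra
  have h' : ∀ (J : Type u) [Preorder J] [IsDirected J (· ≤ ·)] [Nonempty J]
      (F : J ⥤ Under (CommRingCat.of A)),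
      Limits.PreservesColimit F (coyoneda.obj (Opposite.op
        (Under.mk (CommRingCat.ofHom (algebraMap A B))))) := h
  -- finite type
  have hft : Algebra.FiniteType A B := by
    obtain ⟨hc⟩ := SubalgColim.isColimit A B
    haveI := h' (SubalgColim.Idx A B) (SubalgColim.F A B)
    have hc' := Limits.isColimitOfPreserves (coyoneda.obj (Opposite.op
        (Under.mk (CommRingCat.ofHom (algebraMap A B))))) hc
    obtain ⟨S, s, hs⟩ := Limits.Types.jointly_surjective_of_isColimit hc'
      (𝟙 (Under.mk (CommRingCat.ofHom (algebraMap A B))))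
    have hs' : s ≫ (SubalgColim.cocone A B).ι.app S = 𝟙 _ := hs
    have htop : S.1 = ⊤ := by
      rw [eq_top_iff]
      intro b _
      have e := congrArg (fun m => m.right.hom b) hs'
      have e' : S.1.val (show ↥S.1 from s.right.hom b) = b := e
      rw [← e']
      exact (show ↥S.1 from s.right.hom b).2
    exact ⟨by rw [← htop]; exact S.2⟩
  obtain ⟨n, π, hπ⟩ := Algebra.FiniteType.iff_quotient_mvPolynomial''.mp hft
  obtain ⟨hc⟩ := FGColim.isColimit π hπ
  haveI := h' (FGColim.Idx π) (FGColim.F π)
  have hc' := Limits.isColimitOfPreserves (coyoneda.obj (Opposite.op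
      (Under.mk (CommRingCat.ofHom (algebraMap A B))))) hc
  obtain ⟨I, s, hs⟩ := Limits.Types.jointly_surjective_of_isColimit hc'
    (𝟙 (Under.mk (CommRingCat.ofHom (algebraMap A B))))
  have hs' : s ≫ (FGColim.cocone π).ι.app I = 𝟙 _ := hs
  let sAlg : B →ₐ[A] (MvPolynomial (Fin n) A ⧸ I.1) :=
    { s.right.hom with
      commutes' := fun a => congrArg (fun m => m.hom a) (Under.w s) }
  have hrs : ∀ b, FGColim.toA π I (sAlg b) = b :=
    fun b => congrArg (fun m => m.right.hom b) hs'
  haveI : Algebra.FinitePresentation A (MvPolynomial (Fin n) A ⧸ I.1) :=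
    Algebra.FinitePresentation.quotient I.2.1
  have hsurj : Function.Surjective (FGColim.toA π I) := fun b => ⟨sAlg b, hrs b⟩
  have hG : Algebra.adjoin A (Set.range (⇑(Ideal.Quotient.mkₐ A I.1) ∘
      (MvPolynomial.X : Fin n → MvPolynomial (Fin n) A))) = ⊤ := by
    have h1 : Algebra.adjoin A (Set.range (MvPolynomial.X : Fin n → MvPolynomial (Fin n) A)) = ⊤ :=
      MvPolynomial.adjoin_range_X
    have h2 := congrArg (Subalgebra.map (Ideal.Quotient.mkₐ A I.1)) h1
    rw [AlgHom.map_adjoin, Algebra.map_top, ← Set.range_comp] at h2
    rw [h2]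
    exact (AlgHom.range_eq_top _).mpr (Ideal.Quotient.mkₐ_surjective A I.1)
  have hker := SubalgColim.ker_fg_of_section (FGColim.toA π I) sAlg hrs _
    (Set.finite_range _) hG
  exact Algebra.FinitePresentation.of_surjective hsurj hker

end Groth.Agent.S4777
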