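import Groth.Statements.S4778
-- import your own Groth.Agent.* helpers here
import Mathlib
import Groth.Agent.Lib.Helper12.LfpOfSurj

set_option autoImplicit false
universe u
open CategoryTheory AlgebraicGeometry
open Lim8

namespace Groth.Agent.S4778
open Limits Groth.Agent.Lib.Helper12.LfpOfSurj
set_option backward.isDefEq.respectTransparency false

/-- Let f : X ⟶ S be a morphism of schemes. Suppose that for every affine open U of S and every
projective system (Z_λ) of U-schemes indexed by a nonempty directed preordered set, with every Z_λ
an affine scheme, the functor Hom_S(-, X) takes the limit of the system to the colimit of the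
Hom_S(Z_λ, X) (the canonical map from the colimit is bijective). Then f is locally of finite
presentation. -/
theorem result {X S : Scheme.{u}} (f : X ⟶ S)
    (h : ∀ (U : S.Opens), IsAffineOpen U →
      ∀ (J : Type u) [Preorder J] [IsDirected J (· ≤ ·)] [Nonempty J] (Z : Jᵒᵖ ⥤ Over (U : Scheme.{u})),
      (∀ j, IsAffine (Z.obj j).left) →
      Limits.PreservesColimit (Z ⋙ Over.map U.ι).op (yoneda.obj (Over.mk f))) :
    LocallyOfFinitePresentation f := by
  refine lfp_of_surj f (fun U hU J _ _ _ D t c hc haff j₀ g hg => ?_)
  -- the diagram over `U`
  let Z : Jᵒᵖ ⥤ Over (U : Scheme.{u}) :=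
    { obj := fun j => Over.mk (t.app j ≫ hU.isoSpec.inv)
      map := fun {j j'} m => Over.homMk (D.map m) (by
        have := t.naturality m
        simp only [Functor.const_obj_obj, Functor.const_obj_map, Category.comp_id] at this
        simp only [Over.mk_left, Over.mk_hom]
        rw [← Category.assoc, this])
      map_id := fun j => by ext; simp
      map_comp := fun m m' => by ext; simp }
  let E : Jᵒᵖ ⥤ Over S := Z ⋙ Over.map U.ι
  have hEhom : ∀ j, (E.obj j).hom = t.app j ≫ hU.fromSpec := by
    intro j
    show (t.app j ≫ hU.isoSpec.inv) ≫ U.ι = t.app j ≫ hU.fromSpec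
    rw [Category.assoc, IsAffineOpen.isoSpec_inv_ι]
  -- compatibility of the cone with the structure maps
  have hct : ∀ j, c.π.app j ≫ t.app j = c.π.app j₀ ≫ t.app j₀ := by
    intro j
    have h1 : ∀ {a b : Jᵒᵖ} (m : a ⟶ b), c.π.app a ≫ t.app a = c.π.app b ≫ t.app b := by
      intro a b m
      have := t.naturality m
      simp only [Functor.const_obj_obj, Functor.const_obj_map, Category.comp_id] at this
      rw [← c.w m, Category.assoc, this]
    rw [← h1 (IsCofiltered.minToLeft j j₀), ← h1 (IsCofiltered.minToRight j j₀)]
  let pt : Over S := Over.mk (c.π.app j₀ ≫ t.app j₀ ≫ hU.fromSpec)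
  let coneO : Cone E :=
    { pt := pt
      π :=
        { app := fun j => Over.homMk (c.π.app j) (by
            show c.π.app j ≫ (E.obj j).hom = c.π.app j₀ ≫ t.app j₀ ≫ hU.fromSpec
            rw [hEhom, ← Category.assoc, hct, Category.assoc])
          naturality := fun j j' m => by
            ext
            simp only [Functor.const_obj_obj, Functor.const_obj_map, Category.id_comp,
              Over.comp_left, Over.homMk_left]
            exact (c.w m).symm } }
  let toCone : Cone E → Cone D := fun s =>
    { pt := s.pt.left
      π :=
        { app := fun j => (s.π.app j).left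
          naturality := fun j j' m => by
            show 𝟙 _ ≫ (s.π.app j').left = (s.π.app j).left ≫ D.map m
            rw [Category.id_comp]
            have h := congrArg CommaMorphism.left (s.w m)
            exact h.symm } }
  have hconeO : IsLimit coneO :=
    { lift := fun s => Over.homMk (hc.lift (toCone s)) (by
          show _ ≫ c.π.app j₀ ≫ t.app j₀ ≫ hU.fromSpec = s.pt.hom
          rw [← Category.assoc, hc.fac, ← hEhom]
          exact Over.w (s.π.app j₀))
      fac := fun s j => by
        ext
        simp only [Over.comp_left, Over.homMk_left]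
        exact hc.fac (toCone s) j
      uniq := fun s m hm => by
        ext
        simp only [Over.homMk_left]
        refine hc.uniq (toCone s) (show s.pt.left ⟶ c.pt from m.left) (fun j => ?_)
        have := congrArg CommaMorphism.left (hm j)
        exact this }
  haveI := h U hU J Z (fun j => haff j)
  have hcol := isColimitOfPreserves (yoneda.obj (Over.mk f)) hconeO.op
  let g' : pt ⟶ Over.mk f := Over.homMk (show pt.left ⟶ (Over.mk f).left from g) (by
    show g ≫ f = c.π.app j₀ ≫ t.app j₀ ≫ hU.fromSpec
    exact hg)
  obtain ⟨j, y, hy⟩ := Types.jointly_surjective_of_isColimit hcol g'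
  have hy' : coneO.π.app j.unop ≫ y = g' := hy
  refine ⟨j.unop, y.left, ?_, ?_⟩
  · have := Over.w y
    rw [← hEhom]
    exact this
  · have := congrArg CommaMorphism.left hy'
    exact this

end Groth.Agent.S4778
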