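import Groth.Statements.S4779
-- import your own Groth.Agent.* helpers here
import Mathlib
import Groth.Agent.Lib.Helper12.LimAffChart

set_option autoImplicit false
universe u
open CategoryTheory AlgebraicGeometry
open Lim8

namespace Groth.Agent.S4779
open CategoryTheory.Limits Groth.Agent.Lib.Helper12 Groth.Agent.Lib.Helper12.PbDiag
  Groth.Agent.Lib.Helper12.LimData

set_option backward.isDefEq.respectTransparency false

/-- Let S = lim S_i be a cofiltered limit of schemes with affine transition maps, let f₀ : X₀ ⟶ Y₀ be a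
morphism of schemes over a stage S_{i₀}, and let f : X ⟶ Y be its base change along S ⟶ S_{i₀} (all
base changes are expressed by pullback squares). If there is an index i over i₀ such that, for every
j over i, the base change f_j : X_j ⟶ Y_j of f₀ along S_j ⟶ S_{i₀} is an open map, then f is an open
map. (The corresponding statement for universally open morphisms follows from this one by base
change.) -/
theorem result {I : Type u} [SmallCategory I] [IsCofiltered I]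
    (D : I ⥤ Scheme.{u}) (c : Limits.Cone D) (hc : Limits.IsLimit c)
    [∀ (i j : I) (f : i ⟶ j), IsAffineHom (D.map f)] (i₀ : I)
    {X₀ Y₀ : Scheme.{u}} (f₀ : X₀ ⟶ Y₀) (g₀ : Y₀ ⟶ D.obj i₀)
    {X Y : Scheme.{u}} (f : X ⟶ Y) (g : Y ⟶ c.pt) (qY : Y ⟶ Y₀) (qX : X ⟶ X₀)
    (hY : IsPullback qY g g₀ (c.π.app i₀)) (hX : IsPullback qX f f₀ qY)
    (h : ∃ (i : I) (φ : i ⟶ i₀), ∀ (j : I) (ψ : j ⟶ i) (Xj Yj : Scheme.{u}) (fj : Xj ⟶ Yj)
      (gj : Yj ⟶ D.obj j) (pY : Yj ⟶ Y₀) (pX : Xj ⟶ X₀),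
      IsPullback pY gj g₀ (D.map (ψ ≫ φ)) → IsPullback pX fj f₀ pY → IsOpenMap ⇑fj) :
    IsOpenMap ⇑f := by
  classical
  haveI : ∀ {i j : I} (f : i ⟶ j), IsAffineHom (D.map f) := fun f => inferInstance
  obtain ⟨i, φ, hopen⟩ := h
  have hbasis := isBasis_preimage_isAffineOpen (pbDiagram D i₀ (f₀ ≫ g₀))
    (pbCone c qX (f ≫ g) (hX.paste_vert hY))
    (isLimitPbCone c hc qX (f ≫ g) (hX.paste_vert hY))
  refine (TopologicalSpace.IsTopologicalBasis.isOpenMap_iff hbasis).mpr ?_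
  rintro _ ⟨_, ⟨k, V, -, rfl⟩, rfl⟩
  -- refine the index so that it factors through `φ`
  obtain ⟨k₂, a, b, -⟩ : ∃ (k₂ : Over i₀) (_ : k₂ ⟶ k) (_ : k₂ ⟶ Over.mk φ), True :=
    ⟨IsCofiltered.min k (Over.mk φ), IsCofiltered.minToLeft _ _, IsCofiltered.minToRight _ _,
      trivial⟩
  have hfk : IsOpenMap ⇑((pbMap D i₀ g₀ f₀).app k₂) := by
    refine hopen k₂.left b.left _ _ _ (pullback.snd g₀ (D.map k₂.hom))
      (pullback.fst g₀ (D.map k₂.hom)) (pullback.fst (f₀ ≫ g₀) (D.map k₂.hom)) ?_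
      (isPullback_pbMap_app D i₀ g₀ f₀ k₂)
    have e : b.left ≫ φ = k₂.hom := Over.w b
    rw [e]
    exact IsPullback.of_hasPullback g₀ (D.map k₂.hom)
  have e1 : (pbCone c qX (f ≫ g) (hX.paste_vert hY)).π.app k ⁻¹ᵁ V =
      (pbCone c qX (f ≫ g) (hX.paste_vert hY)).π.app k₂ ⁻¹ᵁ
        ((pbDiagram D i₀ (f₀ ≫ g₀)).map a ⁻¹ᵁ V) := by
    rw [← Scheme.Hom.comp_preimage, (pbCone c qX (f ≫ g) (hX.paste_vert hY)).w a]
  rw [e1]
  have e2 := Scheme.image_preimage_eq_of_isPullback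
    (isPullback_pbCone_π_pbMap D c i₀ f₀ g₀ f g qY qX hY hX k₂)
    (((pbDiagram D i₀ (f₀ ≫ g₀)).map a ⁻¹ᵁ V : ((pbDiagram D i₀ (f₀ ≫ g₀)).obj k₂).Opens) :
      Set ((pbDiagram D i₀ (f₀ ≫ g₀)).obj k₂))
  refine (congrArg IsOpen e2).mpr ?_
  exact (hfk _ ((pbDiagram D i₀ (f₀ ≫ g₀)).map a ⁻¹ᵁ V).2).preimage
    ((pbCone c qY g hY).π.app k₂).continuous

end Groth.Agent.S4779
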