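import Groth.Statements.S4781
-- import your own Groth.Agent.* helpers here
import Mathlib
import Groth.Agent.Lib.Helper12.FibreDimsConstr
import Groth.Agent.Lib.Helper12.BaseChange2

set_option autoImplicit false
universe u
open CategoryTheory AlgebraicGeometry
open Cons9

namespace Groth.Agent.S4781
open Groth.Agent.Lib.Helper12.FibreDimConstr Groth.Agent.Lib.Helper12.BaseChange

/-- The dimensions of the irreducible components of the topological fibre are the `locDims`. -/
theorem dims_preimage_eq_locDims {X S : Scheme.{u}} (f : X ⟶ S) [LocallyOfFiniteType f] (s : S) :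
    (fun T : Set ↥(f.base ⁻¹' {s}) => topologicalKrullDim ↥T) '' irreducibleComponents ↥(f.base ⁻¹' {s}) =
      locDims f s := by
  rw [locDims_eq, dims_irreducibleComponents_of_homeomorph (f.fiberHomeo s)]

/-- A space with a dense point is irreducible, and all its irreducible components are the whole space. -/
theorem eq_univ_of_mem_irreducibleComponents_of_dense {F : Type*} [TopologicalSpace F] (ξ : F)
    (hξ : closure ({ξ} : Set F) = Set.univ) (T : Set F) (hT : T ∈ irreducibleComponents F) :
    T = Set.univ := by
  have hirr : IsIrreducible (Set.univ : Set F) := by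
    rw [← hξ]; exact isIrreducible_singleton.closure
  exact Set.eq_univ_of_univ_subset (hT.2 hirr (Set.subset_univ T))

/-- Let S be a Noetherian irreducible scheme with generic point η, let X be an irreducible scheme and f
: X ⟶ S a dominant morphism of finite type. Then there is an open neighbourhood U of η in S such
that, for every s ∈ U, all irreducible components of the fibre f⁻¹(s) have dimension equal to dim
f⁻¹(η). Fibres are taken as subspaces of X and dimensions are topological Krull dimensions. -/
theorem result {X S : Scheme.{u}} (f : X ⟶ S)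
    [IsNoetherian S] [IrreducibleSpace S] [IrreducibleSpace X] [IsDominant f]
    [LocallyOfFiniteType f] [QuasiCompact f] :
    ∃ U : S.Opens, genericPoint S ∈ U ∧ ∀ s ∈ U, ∀ T ∈ irreducibleComponents ↥(⇑f ⁻¹' {s}),
      topologicalKrullDim ↥T = topologicalKrullDim ↥(⇑f ⁻¹' {genericPoint S}) := by
  haveI : IsLocallyNoetherian S := inferInstance
  set η := genericPoint S with hη
  have hηgen : IsGenericPoint η (Set.univ : Set S) := genericPoint_spec S
  have hgenz : ∀ z : S, z ⤳ η → locDims f z = locDims f η := by
    intro z hz
    have h2 : η ⤳ z := hηgen.specializes (Set.mem_univ z)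
    rw [(hz.antisymm h2).eq]
  obtain ⟨V, hV, hVeq⟩ := locDims_eventually_const f η hgenz
  obtain ⟨U, hUV, hUo, hηU⟩ := mem_nhds_iff.mp hV
  -- the generic fibre
  set ξ := genericPoint X with hξ
  have hξgen : IsGenericPoint ξ (Set.univ : Set X) := genericPoint_spec X
  have hfξ : f.base ξ = η := by
    have h1 : IsGenericPoint (f.base ξ) (Set.univ : Set S) := by
      show closure {f.base ξ} = Set.univ
      have hd : DenseRange f.base := IsDominant.denseRange (f := f)
      have h2 : Set.range f.base ⊆ closure {f.base ξ} := by
        rintro _ ⟨x, rfl⟩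
        have : ξ ⤳ x := hξgen.specializes (Set.mem_univ x)
        exact (this.map f.continuous).mem_closed isClosed_closure (subset_closure rfl)
      exact Set.eq_univ_of_univ_subset (by
        rw [← hd.closure_range]
        exact closure_minimal h2 isClosed_closure)
    exact h1.eq hηgen
  have hgenfib : ∀ T ∈ irreducibleComponents ↥(f.base ⁻¹' {η}),
      topologicalKrullDim ↥T = topologicalKrullDim ↥(f.base ⁻¹' {η}) := by
    intro T hT
    have hdense : closure ({⟨ξ, hfξ⟩} : Set ↥(f.base ⁻¹' {η})) = Set.univ := by
      apply Set.eq_univ_of_univ_subset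
      intro z _
      rw [← specializes_iff_mem_closure, ← Topology.IsInducing.subtypeVal.specializes_iff]
      exact hξgen.specializes (Set.mem_univ _)
    rw [eq_univ_of_mem_irreducibleComponents_of_dense _ hdense T hT]
    exact IsHomeomorph.topologicalKrullDim_eq _ (Homeomorph.Set.univ _).isHomeomorph
  refine ⟨⟨U, hUo⟩, hηU, fun s hs T hT => ?_⟩
  have h1 : topologicalKrullDim ↥T ∈ locDims f s := by
    rw [← dims_preimage_eq_locDims]
    exact ⟨T, hT, rfl⟩
  rw [hVeq s (hUV hs), ← dims_preimage_eq_locDims] at h1
  obtain ⟨T', hT', hdim⟩ := h1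
  rw [← hdim]
  exact hgenfib T' hT'

end Groth.Agent.S4781
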