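import Groth.Statements.S4787
-- import your own Groth.Agent.* helpers here
import Mathlib
import Groth.Agent.Lib.Helper12.LimProCons

set_option autoImplicit false
universe u
open CategoryTheory AlgebraicGeometry
open Lim8

namespace Groth.Agent.S4787
open CategoryTheory.Limits Groth.Agent.Lib.Helper12.LimProCons
  Groth.Agent.Lib.Helper26.ProConsTop Groth.Agent.Lib.Helper26.ProConsSch

set_option backward.isDefEq.respectTransparency false

/-- Let S = lim S_i be a cofiltered limit of schemes with affine transition maps, some stage S_{i₀}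
being quasi-compact. For every index let E_i be a pro-constructible and F_i an ind-constructible
subset of S_i such that, for every transition map S_i ⟶ S_j, E_i lies in the preimage of E_j and F_i
contains the preimage of F_j. Put E = ⋂ (preimage of E_i in S) and F = ⋃ (preimage of F_i in S).
Then E ⊆ F if and only if there is an index i over i₀ such that E_j ⊆ F_j for every j over i. -/
theorem result {I : Type u} [SmallCategory I] [IsCofiltered I]
    (D : I ⥤ Scheme.{u}) (c : Limits.Cone D) (hc : Limits.IsLimit c)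
    [∀ (i j : I) (f : i ⟶ j), IsAffineHom (D.map f)] (i₀ : I)
    [CompactSpace (D.obj i₀)] (E F : ∀ i : I, Set (D.obj i))
    (hE : ∀ i, ProCons.IsProConstructible (E i)) (hF : ∀ i, ProCons.IsIndConstructible (F i))
    (hEm : ∀ (i j : I) (φ : i ⟶ j), E i ⊆ ⇑(D.map φ) ⁻¹' E j)
    (hFm : ∀ (i j : I) (φ : i ⟶ j), ⇑(D.map φ) ⁻¹' F j ⊆ F i) :
    (⋂ i, ⇑(c.π.app i) ⁻¹' E i : Set c.pt) ⊆ (⋃ i, ⇑(c.π.app i) ⁻¹' F i : Set c.pt) ↔
      ∃ (i : I) (_ : i ⟶ i₀), ∀ (j : I) (_ : j ⟶ i), E j ⊆ F j := by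
  classical
  haveI : ∀ {i j : I} (f : i ⟶ j), IsAffineHom (D.map f) := fun f => inferInstance
  have hπ : ∀ {i j : I} (a : i ⟶ j) (x : c.pt), D.map a (c.π.app i x) = c.π.app j x :=
    fun a x => congr($(c.w a) x)
  constructor
  · intro hsub
    haveI : IsAffineHom (c.π.app i₀) := isAffineHom_π_app D c hc i₀
    haveI : CompactSpace c.pt := QuasiCompact.compactSpace_of_compactSpace (c.π.app i₀)
    have hG : ∀ i, ProCons.IsProConstructible
        ((c.π.app i).base ⁻¹' E i ∩ ((c.π.app i).base ⁻¹' F i)ᶜ) := fun i =>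
      isProConstructible_inter (isProConstructible_preimage (c.π.app i) (hE i))
        (isProConstructible_compl (isIndConstructible_preimage (c.π.app i) (hF i)))
    have hint : ⋂ i, ((c.π.app i).base ⁻¹' E i ∩ ((c.π.app i).base ⁻¹' F i)ᶜ) ⊆
        (∅ : Set c.pt) := by
      intro x hx
      rw [Set.mem_iInter] at hx
      have h1 : x ∈ (⋂ i, ⇑(c.π.app i) ⁻¹' E i : Set c.pt) :=
        Set.mem_iInter.mpr fun i => (hx i).1
      obtain ⟨i, hi⟩ := Set.mem_iUnion.mp (hsub h1)
      exact (hx i).2 hi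
    obtain ⟨J, hJ⟩ := Groth.Agent.S3439.result c.pt ∅ isIndConstructible_empty _ hG hint
    obtain ⟨i₁, hi₁⟩ := IsCofiltered.inf_objs_exists (insert i₀ J)
    have a₀ : i₁ ⟶ i₀ := (hi₁ (Finset.mem_insert_self _ _)).some
    haveI : CompactSpace (D.obj i₁) := QuasiCompact.compactSpace_of_compactSpace (D.map a₀)
    have hK : ProCons.IsProConstructible (E i₁ ∩ (F i₁)ᶜ) :=
      isProConstructible_inter (hE i₁) (isProConstructible_compl (hF i₁))
    have hKe : (⇑(c.π.app i₁) ⁻¹' (E i₁ ∩ (F i₁)ᶜ) : Set c.pt) = ∅ := by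
      rw [Set.eq_empty_iff_forall_notMem]
      intro x hx
      refine hJ (a := x) ?_
      simp only [Set.mem_iInter]
      intro i hiJ
      obtain ⟨a⟩ := hi₁ (Finset.mem_insert_of_mem hiJ)
      refine ⟨?_, ?_⟩
      · have : D.map a (c.π.app i₁ x) ∈ E i := hEm i₁ i a hx.1
        rw [hπ a x] at this
        exact this
      · intro hxF
        have h2 : c.π.app i x ∈ F i := hxF
        rw [← hπ a x] at h2
        exact hx.2 (hFm i₁ i a h2)
    obtain ⟨j, φ, hj⟩ := exists_preimage_eq_empty_of_isProConstructible D c hc i₁ _ hK hKe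
    refine ⟨j, φ ≫ a₀, fun j' ψ y hy => ?_⟩
    have h1 : D.map (ψ ≫ φ) y ∈ E i₁ := hEm j' i₁ (ψ ≫ φ) hy
    by_contra hyF
    have h2 : D.map (ψ ≫ φ) y ∉ F i₁ := fun h => hyF (hFm j' i₁ (ψ ≫ φ) h)
    have h3 : D.map ψ y ∈ (⇑(D.map φ) ⁻¹' (E i₁ ∩ (F i₁)ᶜ) : Set (D.obj j)) := by
      have e : D.map φ (D.map ψ y) = D.map (ψ ≫ φ) y := by
        rw [D.map_comp]; rfl
      exact ⟨e ▸ h1, e ▸ h2⟩
    rw [hj] at h3
    exact h3
  · rintro ⟨i, -, h⟩ x hx
    rw [Set.mem_iInter] at hx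
    exact Set.mem_iUnion.mpr ⟨i, h i (𝟙 i) (hx i)⟩

end Groth.Agent.S4787
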