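import Groth.Statements.S4793
import Mathlib
import Groth.Agent.Lib.Helper17.PbEpi
import Groth.Agent.S0020

set_option autoImplicit false
universe u
open CategoryTheory AlgebraicGeometry
open Lim8

namespace Groth.Agent.S4793

/-- Let S = lim S_i be a cofiltered limit of schemes with affine transition maps and S_{i₀} a
quasi-compact stage; let F₀ be a quasi-coherent O-module and G₀ a quasi-coherent O-module of finite
type on S_{i₀}, and f₀ : F₀ ⟶ G₀ a homomorphism. Then the pullback of f₀ along S ⟶ S_{i₀} is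
surjective (an epimorphism of O_S-modules) if and only if, for some index j over i₀, the pullback of
f₀ along S_j ⟶ S_{i₀} is surjective. -/
theorem result {I : Type u} [SmallCategory I] [IsCofiltered I]
    (D : I ⥤ Scheme.{u}) (c : Limits.Cone D) (hc : Limits.IsLimit c)
    [∀ (i j : I) (f : i ⟶ j), IsAffineHom (D.map f)] (i₀ : I) [CompactSpace (D.obj i₀)]
    {F₀ G₀ : (D.obj i₀).Modules} [Coh.IsQCoh F₀]
    [Coh.IsQCoh G₀] (hG₀ft : CohB1.IsFT G₀) (f₀ : F₀ ⟶ G₀) :
    Epi ((Scheme.Modules.pullback (c.π.app i₀)).map f₀) ↔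
      ∃ (j : I) (φ : j ⟶ i₀), Epi ((Scheme.Modules.pullback (D.map φ)).map f₀) := by
  haveI : G₀.IsFiniteType := hG₀ft
  haveI : (Limits.cokernel f₀ : (D.obj i₀).Modules).IsFiniteType :=
    Groth.Agent.Lib.Helper3.QCProps.isFiniteType_of_epi (Limits.cokernel.π f₀)
  have hcl : IsClosed (CohB1.support (Limits.cokernel f₀)) :=
    Groth.Agent.S0020.result (D.obj i₀) (Limits.cokernel f₀) inferInstance
  haveI hAff : ∀ {i j : I} (f : i ⟶ j), IsAffineHom (D.map f) := fun f => inferInstance
  rw [Groth.Agent.Lib.Helper17.PbEpi.epi_pullback_map_iff (c.π.app i₀) f₀]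
  constructor
  · intro h
    by_contra! H
    have H' : ∀ (j : I) (φ : j ⟶ i₀),
        ((D.map φ) ⁻¹' (CohB1.support (Limits.cokernel f₀))).Nonempty := by
      intro j φ
      have h1 := H j φ
      rw [Groth.Agent.Lib.Helper17.PbEpi.epi_pullback_map_iff (D.map φ) f₀] at h1
      rw [not_forall] at h1
      obtain ⟨y, hy⟩ := h1
      exact ⟨y, hy⟩
    obtain ⟨s, hs⟩ := exists_mem_of_isClosed_of_nonempty' D c hc
      (fun j φ => (D.map φ) ⁻¹' (CohB1.support (Limits.cokernel f₀)))
      (fun j φ => hcl.preimage (D.map φ).continuous)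
      (fun j φ => H' j φ)
      (fun j φ => by
        haveI : CompactSpace (D.obj j) := QuasiCompact.compactSpace_of_compactSpace (D.map φ)
        exact (hcl.preimage (D.map φ).continuous).isCompact)
      (fun i i' hi'i hij x hx => by
        change D.map hij (D.map hi'i x) ∈ CohB1.support (Limits.cokernel f₀)
        have hx' : D.map (hi'i ≫ hij) x ∈ CohB1.support (Limits.cokernel f₀) := hx
        rwa [Functor.map_comp] at hx')
    have h2 := hs i₀ (𝟙 i₀)
    have h3 : D.map (𝟙 i₀) (c.π.app i₀ s) ∈ CohB1.support (Limits.cokernel f₀) := h2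
    rw [D.map_id] at h3
    exact h3 (h s)
  · rintro ⟨j, φ, hφ⟩ s
    rw [Groth.Agent.Lib.Helper17.PbEpi.epi_pullback_map_iff (D.map φ) f₀] at hφ
    have hw : c.π.app i₀ = c.π.app j ≫ D.map φ := (c.w φ).symm
    have h1 := hφ (c.π.app j s)
    rw [hw]
    exact h1

end Groth.Agent.S4793
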