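import Groth.Statements.S4794
import Mathlib
import Groth.Agent.Lib.Helper17.PbLim8
import Groth.Agent.Lib.Helper17.PbFlat
import Groth.Agent.Lib.Helper17.PbZero
import Groth.Agent.Lib.Helper17.PbCover
import Groth.Agent.Lib.Helper27.LimFlat
import Groth.Agent.Lib.Helper3.QCProps

set_option autoImplicit false
universe u
open CategoryTheory AlgebraicGeometry
open Lim8

namespace Groth.Agent.S4794

/-- Let S = lim S_i be a cofiltered limit of schemes whose transition maps are affine and flat, and
S_{i₀} a quasi-compact stage; let f₀ : F₀ ⟶ G₀ be a homomorphism of quasi-coherent O-modules on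
S_{i₀} whose kernel is an O-module of finite type. Then the pullback of f₀ along S ⟶ S_{i₀} is
injective (a monomorphism of O_S-modules) if and only if, for some index j over i₀, the pullback of
f₀ along S_j ⟶ S_{i₀} is injective. -/
theorem result {I : Type u} [SmallCategory I] [IsCofiltered I]
    (D : I ⥤ Scheme.{u}) (c : Limits.Cone D) (hc : Limits.IsLimit c)
    [∀ (i j : I) (f : i ⟶ j), IsAffineHom (D.map f)] (i₀ : I) [CompactSpace (D.obj i₀)]
    (hfl : ∀ (i j : I) (φ : i ⟶ j), Flat (D.map φ))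
    {F₀ G₀ : (D.obj i₀).Modules} [Coh.IsQCoh F₀]
    [Coh.IsQCoh G₀] (f₀ : F₀ ⟶ G₀)
    (hker : CohB1.IsFT (Limits.kernel f₀)) :
    Mono ((Scheme.Modules.pullback (c.π.app i₀)).map f₀) ↔
      ∃ (j : I) (φ : j ⟶ i₀), Mono ((Scheme.Modules.pullback (D.map φ)).map f₀) := by
  haveI hK : (Limits.kernel f₀ : (D.obj i₀).Modules).IsQuasicoherent :=
    Groth.Agent.Lib.Helper3.QCProps.isQuasicoherent_kernel f₀
  haveI hKft : (Limits.kernel f₀ : (D.obj i₀).Modules).IsFiniteType := hker
  haveI hC : (Limits.cokernel (Limits.kernel.ι f₀) : (D.obj i₀).Modules).IsQuasicoherent :=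
    Groth.Agent.Lib.Helper3.QCProps.isQuasicoherent_cokernel (Limits.kernel.ι f₀)
  constructor
  · intro hmono
    -- the pullback of `kernel.ι f₀` vanishes on the limit
    have h0 : (Scheme.Modules.pullback (c.π.app i₀)).map (Limits.kernel.ι f₀) = 0 := by
      have h1 : (Scheme.Modules.pullback (c.π.app i₀)).map (Limits.kernel.ι f₀) ≫
          (Scheme.Modules.pullback (c.π.app i₀)).map f₀ = 0 ≫
            (Scheme.Modules.pullback (c.π.app i₀)).map f₀ := by
        rw [← Functor.map_comp, Limits.kernel.condition, Limits.zero_comp]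
        exact Functor.map_zero _ _ _
      exact (cancel_mono _).1 h1
    obtain ⟨j, φ, hj⟩ := Groth.Agent.Lib.Helper17.PbLim8.stage_exists_map_eq_zero D c hc i₀
      (Limits.kernel.ι f₀) h0
    refine ⟨j, φ, ?_⟩
    haveI : Flat (D.map φ) := hfl j i₀ φ
    haveI h2 : Mono ((Scheme.Modules.pullback (D.map φ)).map
        (Limits.cokernel.π (Limits.kernel.ι f₀))) :=
      (Groth.Agent.Lib.Helper17.PbZero.mono_pullback_map_cokernel_π_iff (D.map φ)
        (Limits.kernel.ι f₀)).2 hj
    haveI h3 : Mono ((Scheme.Modules.pullback (D.map φ)).map (Abelian.factorThruCoimage f₀)) :=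
      Groth.Agent.Lib.Helper17.PbFlat.mono_pullback_of_flat (D.map φ)
        (Abelian.factorThruCoimage f₀)
    have h4 : f₀ = Limits.cokernel.π (Limits.kernel.ι f₀) ≫ Abelian.factorThruCoimage f₀ :=
      (Abelian.coimage.fac f₀).symm
    rw [h4, Functor.map_comp]
    exact mono_comp _ _
  · rintro ⟨j, φ, hj⟩
    haveI : Flat (c.π.app j) :=
      Groth.Agent.Lib.Helper27.LimFlat.flat_π_of_forall_flat_map D c hc j
        (fun k ψ => hfl k j ψ)
    haveI : ((Scheme.Modules.pullback (D.map φ)).obj F₀).IsQuasicoherent :=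
      Groth.Agent.Lib.Helper17.PbStalk.isQuasicoherent_pullback _ F₀
    haveI : ((Scheme.Modules.pullback (D.map φ)).obj G₀).IsQuasicoherent :=
      Groth.Agent.Lib.Helper17.PbStalk.isQuasicoherent_pullback _ G₀
    refine (Groth.Agent.Lib.Helper17.PbCover.mono_pullback_comp_iff (c.π.app j) (D.map φ)
      (c.π.app i₀) (c.w φ) f₀).2 ?_
    exact Groth.Agent.Lib.Helper17.PbFlat.mono_pullback_of_flat (c.π.app j)
      ((Scheme.Modules.pullback (D.map φ)).map f₀)

end Groth.Agent.S4794
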