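import Groth.Statements.S4795
-- import your own Groth.Agent.* helpers here
import Mathlib
import Groth.Agent.S4805
import Groth.Agent.Lib.Helper12.PbDiag

set_option autoImplicit false
universe u
open CategoryTheory AlgebraicGeometry
open Lim8

namespace Groth.Agent.S4795
open Limits Groth.Agent.Lib.Helper12.PbDiag
set_option backward.isDefEq.respectTransparency false

/-- Let S = lim S_i be a cofiltered limit of schemes with affine transition maps and S_{i₀} a
quasi-compact quasi-separated stage; let X₀ and Y₀ be schemes of finite presentation over S_{i₀},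
and let X, Y be their base changes along S ⟶ S_{i₀} (base changes are expressed by pullback
squares). Then X and Y are isomorphic over S if and only if, for some index j over i₀, the base
changes X_j and Y_j of X₀ and Y₀ along S_j ⟶ S_{i₀} are isomorphic over S_j. -/
theorem result {I : Type u} [SmallCategory I] [IsCofiltered I]
    (D : I ⥤ Scheme.{u}) (c : Limits.Cone D) (hc : Limits.IsLimit c)
    [∀ (i j : I) (f : i ⟶ j), IsAffineHom (D.map f)] (i₀ : I)
    [CompactSpace (D.obj i₀)] [QuasiSeparatedSpace (D.obj i₀)]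
    {X₀ Y₀ : Scheme.{u}} (a₀ : X₀ ⟶ D.obj i₀) (b₀ : Y₀ ⟶ D.obj i₀)
    [LocallyOfFinitePresentation a₀] [QuasiCompact a₀] [QuasiSeparated a₀]
    [LocallyOfFinitePresentation b₀] [QuasiCompact b₀] [QuasiSeparated b₀]
    {X Y : Scheme.{u}} (a : X ⟶ c.pt) (b : Y ⟶ c.pt) (qX : X ⟶ X₀) (qY : Y ⟶ Y₀)
    (hX : IsPullback qX a a₀ (c.π.app i₀)) (hY : IsPullback qY b b₀ (c.π.app i₀)) :
    (∃ e : X ≅ Y, e.hom ≫ b = a) ↔
      ∃ (j : I) (φ : j ⟶ i₀) (Xj Yj : Scheme.{u}) (aj : Xj ⟶ D.obj j) (bj : Yj ⟶ D.obj j)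
        (pX : Xj ⟶ X₀) (pY : Yj ⟶ Y₀), IsPullback pX aj a₀ (D.map φ) ∧ IsPullback pY bj b₀ (D.map φ) ∧
        ∃ e : Xj ≅ Yj, e.hom ≫ bj = aj := by
  haveI hAff : ∀ {i j : I} (f : i ⟶ j), IsAffineHom (D.map f) := fun f => inferInstance
  constructor
  · rintro ⟨e, he⟩
    -- the diagram `k ↦ X₀ ×_{S_{i₀}} S_k` over `Over i₀`
    let DX := pbDiagram D i₀ a₀
    let cX := pbCone c qX a hX
    have hcX : IsLimit cX := isLimitPbCone c hc qX a hX
    let t : DX ⟶ (Functor.const _).obj (D.obj i₀) :=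
      pbDiagramFst D i₀ a₀ ≫ (Functor.const _).map a₀
    haveI : ∀ k, CompactSpace (DX.obj k) := fun k => compactSpace_pbDiagram_obj D i₀ a₀ k
    haveI : ∀ k, QuasiSeparatedSpace (DX.obj k) :=
      fun k => quasiSeparatedSpace_pbDiagram_obj D i₀ a₀ k
    haveI : ∀ {j k : Over i₀} (f : j ⟶ k), IsAffineHom (DX.map f) :=
      fun f => isAffineHom_pbDiagram_map D i₀ a₀ f
    have ha : cX.π ≫ t = (Functor.const _).map ((e.hom ≫ qY) ≫ b₀) := by
      ext k
      simp only [NatTrans.comp_app, Functor.const_map_app, t, pbDiagramFst_app, cX]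
      rw [pbCone_π_fst_assoc, hX.w, Category.assoc, hY.w, ← Category.assoc, he]
    obtain ⟨k, u, hu1, hu2⟩ :=
      Scheme.exists_π_app_comp_eq_of_locallyOfFinitePresentation DX t b₀ cX hcX (e.hom ≫ qY) ha
    have hu2' : u ≫ b₀ = pullback.fst a₀ (D.map k.hom) ≫ a₀ := by
      simpa [t] using hu2
    let ũ : pullback a₀ (D.map k.hom) ⟶ pullback b₀ (D.map k.hom) :=
      pullback.lift u (pullback.snd a₀ (D.map k.hom)) (by rw [hu2', pullback.condition])
    have hũ1 : ũ ≫ pullback.fst b₀ (D.map k.hom) = u := pullback.lift_fst _ _ _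
    have hũ2 : ũ ≫ pullback.snd b₀ (D.map k.hom) = pullback.snd a₀ (D.map k.hom) :=
      pullback.lift_snd _ _ _
    haveI : CompactSpace (D.obj k.left) := QuasiCompact.compactSpace_of_compactSpace (D.map k.hom)
    haveI : LocallyOfFinitePresentation (ũ ≫ pullback.snd b₀ (D.map k.hom)) := by
      rw [hũ2]; infer_instance
    haveI : QuasiCompact (ũ ≫ pullback.snd b₀ (D.map k.hom)) := by
      rw [hũ2]; infer_instance
    haveI : QuasiSeparated (ũ ≫ pullback.snd b₀ (D.map k.hom)) := by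
      rw [hũ2]; infer_instance
    have hY' := isPullback_pbCone_π c qY b hY k
    have hX' := isPullback_pbCone_π c qX a hX k
    have hcomm : (pbCone c qX a hX).π.app k ≫ ũ = e.hom ≫ (pbCone c qY b hY).π.app k := by
      apply pullback.hom_ext
      · rw [Category.assoc, hũ1, Category.assoc, pbCone_π_fst]
        exact hu1
      · rw [Category.assoc, hũ2, Category.assoc, pbCone_π_snd, pbCone_π_snd, ← Category.assoc, he]
    have hXY : IsPullback ((pbCone c qX a hX).π.app k) e.hom ũ ((pbCone c qY b hY).π.app k) := by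
      refine IsPullback.of_bot ?_ hcomm hY'
      rw [he, hũ2]
      exact hX'
    obtain ⟨j, φ, Xj, Yj, fj, gj, pY, pX, h1, h2, h3⟩ :=
      Groth.Agent.S4805.result D c hc k.left ũ (pullback.snd b₀ (D.map k.hom)) e.hom b
        ((pbCone c qY b hY).π.app k) ((pbCone c qX a hX).π.app k) hY' hXY
    refine ⟨j, φ ≫ k.hom, Xj, Yj, fj ≫ gj, gj, pX ≫ pullback.fst a₀ (D.map k.hom),
      pY ≫ pullback.fst b₀ (D.map k.hom), ?_, ?_, asIso fj, rfl⟩
    · rw [D.map_comp]
      refine IsPullback.paste_horiz ?_ (IsPullback.of_hasPullback a₀ (D.map k.hom))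
      have := h2.paste_vert h1
      rwa [hũ2] at this
    · rw [D.map_comp]
      exact h1.paste_horiz (IsPullback.of_hasPullback b₀ (D.map k.hom))
  · rintro ⟨j, φ, Xj, Yj, aj, bj, pX, pY, hXj, hYj, e, he⟩
    have hX' : IsPullback (hXj.lift qX (a ≫ c.π.app j) (by rw [Category.assoc, c.w, hX.w]))
        a aj (c.π.app j) := by
      refine IsPullback.of_right ?_ (hXj.lift_snd _ _ _) hXj
      rw [hXj.lift_fst, c.w]
      exact hX
    have hY' : IsPullback (hYj.lift qY (b ≫ c.π.app j) (by rw [Category.assoc, c.w, hY.w]))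
        b bj (c.π.app j) := by
      refine IsPullback.of_right ?_ (hYj.lift_snd _ _ _) hYj
      rw [hYj.lift_fst, c.w]
      exact hY
    have hsq : IsPullback e.hom aj bj (𝟙 (D.obj j)) :=
      IsPullback.of_horiz_isIso ⟨by rw [he, Category.comp_id]⟩
    have hX'' := hX'.paste_horiz hsq
    rw [Category.comp_id] at hX''
    exact ⟨hX''.isoIsPullback _ _ hY', IsPullback.isoIsPullback_hom_snd _ _ hX'' hY'⟩

end Groth.Agent.S4795
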