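import Groth.Statements.S4803
-- import your own Groth.Agent.* helpers here
import Mathlib
import Groth.Agent.Lib.Helper12.ConsMorGen
import Groth.Agent.Lib.Helper12.QAffBC
import Groth.Agent.S5881
import Groth.Agent.S2592
import Groth.Agent.S1127

set_option autoImplicit false
open CategoryTheory AlgebraicGeometry
universe u
open Cons9

namespace Groth.Agent.S4803

open CategoryTheory.Limits in
/-- Let g : Y ⟶ S and f : X ⟶ Y be such that X and Y are of finite presentation over S (locally of
finite presentation, quasi-compact and quasi-separated). For each point s of S let f_s be the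
induced morphism from the fibre of f ≫ g over s to the fibre of g over s. Then the set of s for
which f_s is a quasi-affine morphism is ind-constructible in S. -/
theorem result {X Y S : Scheme.{u}} (f : X ⟶ Y) (g : Y ⟶ S)
    [LocallyOfFinitePresentation g] [QuasiCompact g] [QuasiSeparated g]
    [LocallyOfFinitePresentation (f ≫ g)] [QuasiCompact (f ≫ g)] [QuasiSeparated (f ≫ g)] :
    ProCons.IsIndConstructible {s : S |
      MoreMor.IsQuasiAffineHom (pullback.lift (pullback.fst (f ≫ g) (S.fromSpecResidueField s) ≫ f) (pullback.snd (f ≫ g) (S.fromSpecResidueField s))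
          ((Category.assoc _ _ _).trans pullback.condition) :
        pullback (f ≫ g) (S.fromSpecResidueField s) ⟶ pullback g (S.fromSpecResidueField s))} := by
  have hQ : Groth.Agent.Lib.Helper12.ConsPairGen.DescendsLim
      Groth.Agent.Lib.Helper12.QAffBC.qaProp := by
    intro I _ _ D c hc _ i₀ _ _ X₀ Y₀ f₀ g₀ _ _ _ _ _ _ X Y f g qY qX hY hX hf
    exact Groth.Agent.S2592.result D c hc i₀ f₀ g₀ f g qY qX hY hX hf
  haveI : MorphismProperty.DescendsAlong Groth.Agent.Lib.Helper12.QAffBC.qaProp
      (@Surjective ⊓ @Flat ⊓ @QuasiCompact : MorphismProperty Scheme.{u}) :=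
    Groth.Agent.S1127.result.{u}
  exact Groth.Agent.S5881.result
    (Groth.Agent.Lib.Helper12.ConsMorGen.isIndConsMor Groth.Agent.Lib.Helper12.QAffBC.qaProp hQ) f g

end Groth.Agent.S4803
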