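import Groth.Statements.S4806
import Groth.Agent.Lib.Helper11.UnramFib

set_option autoImplicit false
universe u
open CategoryTheory AlgebraicGeometry
open Lim8

namespace Groth.Agent.S4806

/-- Let f : X ⟶ Y be a proper morphism of finite presentation. Then f is a closed immersion if and only
if, for every point y of Y, the scheme-theoretic fibre of f at y is empty or its structure morphism
to Spec κ(y) is an isomorphism. -/
theorem result {X Y : Scheme.{u}} (f : X ⟶ Y) [IsProper f]
    [LocallyOfFinitePresentation f] :
    IsClosedImmersion f ↔ ∀ y : Y, IsEmpty (f.fiber y) ∨ IsIso (f.fiberToSpecResidueField y) := by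
  constructor
  · intro h y
    haveI : IsClosedImmersion (f.fiberToSpecResidueField y) := by
      unfold Scheme.Hom.fiberToSpecResidueField
      exact MorphismProperty.pullback_snd (P := @IsClosedImmersion) _ _ h
    exact Groth.Agent.Lib.Helper11.UnramFib.isEmpty_or_isIso_of_isClosedImmersion_residueField y
      (f.fiberToSpecResidueField y)
  · intro h
    rw [IsClosedImmersion.iff_isProper_and_mono]
    refine ⟨inferInstance, ?_⟩
    refine Groth.Agent.Lib.Helper11.UnramFib.mono_of_fibres_mono f fun y => ?_
    rcases h y with h1 | h1
    · haveI : IsEmpty ↥(f.fiber y) := h1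
      haveI : IsOpenImmersion (f.fiberToSpecResidueField y) := inferInstance
      infer_instance
    · infer_instance

end Groth.Agent.S4806
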