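import Groth.Statements.S4816
-- import your own Groth.Agent.* helpers here
import Mathlib
import Groth.Agent.S4805

set_option autoImplicit false
universe u
open CategoryTheory AlgebraicGeometry
open Lim8

namespace Groth.Agent.S4816
open Limits
set_option backward.isDefEq.respectTransparency false

open CategoryTheory.Limits in
/-- Let S = lim S_i be a cofiltered limit of schemes with affine transition maps and S_{i₀} a
quasi-compact stage; let ι₁ : Z₁ ⟶ S_{i₀} and ι₂ : Z₂ ⟶ S_{i₀} be two subschemes of finite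
presentation of S_{i₀} (immersions which are locally of finite presentation and quasi-compact), with
base changes Z₁ ×_{S_{i₀}} T ⟶ T to T = S and to T = S_j. Then Z₁ ×_{S_{i₀}} S is a subscheme of Z₂
×_{S_{i₀}} S (its immersion into S factors through that of Z₂ ×_{S_{i₀}} S) if and only if, for some
index j over i₀, Z₁ ×_{S_{i₀}} S_j is a subscheme of Z₂ ×_{S_{i₀}} S_j. -/
theorem result {I : Type u} [SmallCategory I] [IsCofiltered I]
    (D : I ⥤ Scheme.{u}) (c : Limits.Cone D) (hc : Limits.IsLimit c)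
    [∀ (i j : I) (f : i ⟶ j), IsAffineHom (D.map f)] (i₀ : I) [CompactSpace (D.obj i₀)]
    {Z₁ Z₂ : Scheme.{u}} (ι₁ : Z₁ ⟶ D.obj i₀) (ι₂ : Z₂ ⟶ D.obj i₀)
    [IsImmersion ι₁] [LocallyOfFinitePresentation ι₁] [QuasiCompact ι₁]
    [IsImmersion ι₂] [LocallyOfFinitePresentation ι₂] [QuasiCompact ι₂] :
    (∃ k : pullback ι₁ (c.π.app i₀) ⟶ pullback ι₂ (c.π.app i₀),
        k ≫ pullback.snd ι₂ (c.π.app i₀) = pullback.snd ι₁ (c.π.app i₀)) ↔
      ∃ (j : I) (φ : j ⟶ i₀) (k : pullback ι₁ (D.map φ) ⟶ pullback ι₂ (D.map φ)),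
        k ≫ pullback.snd ι₂ (D.map φ) = pullback.snd ι₁ (D.map φ) := by
  constructor
  · rintro ⟨k, hk⟩
    -- the base change of `Z₁ ×_{S_{i₀}} Z₂ ⟶ Z₁` to the limit is an isomorphism
    let f₀ : pullback ι₁ ι₂ ⟶ Z₁ := pullback.fst ι₁ ι₂
    let qY : pullback ι₁ (c.π.app i₀) ⟶ Z₁ := pullback.fst ι₁ (c.π.app i₀)
    let g : pullback ι₁ (c.π.app i₀) ⟶ c.pt := pullback.snd ι₁ (c.π.app i₀)
    let f : pullback f₀ qY ⟶ pullback ι₁ (c.π.app i₀) := pullback.snd f₀ qY
    have hcomm : qY ≫ ι₁ = (k ≫ pullback.fst ι₂ (c.π.app i₀)) ≫ ι₂ := by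
      have e1 : qY ≫ ι₁ = pullback.snd ι₁ (c.π.app i₀) ≫ c.π.app i₀ := pullback.condition
      have e2 : (k ≫ pullback.fst ι₂ (c.π.app i₀)) ≫ ι₂ =
          k ≫ pullback.snd ι₂ (c.π.app i₀) ≫ c.π.app i₀ := by
        rw [Category.assoc, pullback.condition]
      rw [e1, e2, ← Category.assoc, hk]
    let τ : pullback ι₁ (c.π.app i₀) ⟶ pullback ι₁ ι₂ :=
      pullback.lift qY (k ≫ pullback.fst ι₂ (c.π.app i₀)) hcomm
    let σ : pullback ι₁ (c.π.app i₀) ⟶ pullback f₀ qY :=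
      pullback.lift τ (𝟙 _) (by rw [Category.id_comp]; exact pullback.lift_fst _ _ _)
    have hσ : σ ≫ f = 𝟙 _ := pullback.lift_snd _ _ _
    haveI : Mono f₀ := inferInstance
    haveI : Mono f := inferInstance
    haveI : IsSplitEpi f := ⟨⟨σ, hσ⟩⟩
    haveI : IsIso f := isIso_of_mono_of_isSplitEpi f
    haveI : LocallyOfFinitePresentation f₀ := inferInstanceAs
      (LocallyOfFinitePresentation (pullback.fst ι₁ ι₂))
    haveI : QuasiCompact f₀ := inferInstanceAs (QuasiCompact (pullback.fst ι₁ ι₂))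
    obtain ⟨j, φ, Xj, Yj, fj, gj, pY, pX, h1, h2, h3⟩ :=
      Groth.Agent.S4805.result D c hc i₀ f₀ ι₁ f g qY (pullback.fst f₀ qY)
        (IsPullback.of_hasPullback ι₁ (c.π.app i₀)) (IsPullback.of_hasPullback f₀ qY)
    have hc2 : (pX ≫ pullback.snd ι₁ ι₂) ≫ ι₂ = (fj ≫ gj) ≫ D.map φ := by
      rw [Category.assoc, ← pullback.condition, ← Category.assoc, h2.w, Category.assoc, h1.w,
        Category.assoc]
    refine ⟨j, φ, h1.isoPullback.inv ≫ inv fj ≫
      pullback.lift (pX ≫ pullback.snd ι₁ ι₂) (fj ≫ gj) hc2, ?_⟩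
    rw [Category.assoc, Category.assoc, pullback.lift_snd, IsIso.inv_hom_id_assoc,
      IsPullback.isoPullback_inv_snd]
  · rintro ⟨j, φ, k, hk⟩
    have hc1 : (pullback.fst ι₁ (c.π.app i₀)) ≫ ι₁ =
        (pullback.snd ι₁ (c.π.app i₀) ≫ c.π.app j) ≫ D.map φ := by
      rw [Category.assoc, c.w, pullback.condition]
    let a : pullback ι₁ (c.π.app i₀) ⟶ pullback ι₁ (D.map φ) :=
      pullback.lift (pullback.fst ι₁ (c.π.app i₀)) (pullback.snd ι₁ (c.π.app i₀) ≫ c.π.app j) hc1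
    have hc2 : (a ≫ k ≫ pullback.fst ι₂ (D.map φ)) ≫ ι₂ =
        pullback.snd ι₁ (c.π.app i₀) ≫ c.π.app i₀ := by
      rw [Category.assoc, Category.assoc, pullback.condition, ← Category.assoc k, hk,
        pullback.lift_snd_assoc, Category.assoc, c.w]
    exact ⟨pullback.lift (a ≫ k ≫ pullback.fst ι₂ (D.map φ)) (pullback.snd ι₁ (c.π.app i₀)) hc2,
      pullback.lift_snd _ _ _⟩

end Groth.Agent.S4816
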