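import Groth.Statements.S4817
-- import your own Groth.Agent.* helpers here
import Mathlib
import Groth.Agent.Lib.Helper12.LimPb
import Groth.Agent.Lib.Helper12.LimPb2
import Groth.Agent.Lib.Helper12.LimCI
import Groth.Agent.Lib.Helper12.LimIso

set_option autoImplicit false
universe u
open CategoryTheory AlgebraicGeometry
open Lim8

namespace Groth.Agent.S4817
open Groth.Agent.Lib.Helper12 Groth.Agent.Lib.Helper12.PbDiag CategoryTheory.Limits

open CategoryTheory.Limits in
/-- Let S = lim S_i be a cofiltered limit of schemes with affine transition maps and S_{i₀} a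
quasi-compact stage; let ι₀ : Z₀ ⟶ S_{i₀} be a subscheme of finite presentation (an immersion which
is locally of finite presentation and quasi-compact). Then the base change Z₀ ×_{S_{i₀}} S ⟶ S of ι₀
is an open immersion if and only if, for some index j over i₀, the base change Z₀ ×_{S_{i₀}} S_j ⟶
S_j is an open immersion. This is the case of open subschemes. -/
theorem result {I : Type u} [SmallCategory I] [IsCofiltered I]
    (D : I ⥤ Scheme.{u}) (c : Limits.Cone D) (hc : Limits.IsLimit c)
    [∀ (i j : I) (f : i ⟶ j), IsAffineHom (D.map f)] (i₀ : I) [CompactSpace (D.obj i₀)]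
    {Z₀ : Scheme.{u}} (ι₀ : Z₀ ⟶ D.obj i₀) [IsImmersion ι₀] [LocallyOfFinitePresentation ι₀] [QuasiCompact ι₀] :
    IsOpenImmersion (pullback.snd ι₀ (c.π.app i₀)) ↔
      ∃ (j : I) (φ : j ⟶ i₀), IsOpenImmersion (pullback.snd ι₀ (D.map φ)) := by
  haveI hD : ∀ {i j : I} (f : i ⟶ j), IsAffineHom (D.map f) := fun f => inferInstance
  have hY : IsPullback (c.π.app i₀) (𝟙 c.pt) (𝟙 (D.obj i₀)) (c.π.app i₀) :=
    IsPullback.id_vert (c.π.app i₀)
  have hX : IsPullback (pullback.fst ι₀ (c.π.app i₀)) (pullback.snd ι₀ (c.π.app i₀)) ι₀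
      (c.π.app i₀) := IsPullback.of_hasPullback _ _
  constructor
  · intro hf
    haveI : QuasiSeparated ι₀ := inferInstance
    obtain ⟨j, hj⟩ := LimData.exists_stage_targetLocal @IsOpenImmersion
      @LocallyOfFinitePresentation D c hc i₀
      (fun A hQ h => by haveI := hQ; exact A.exists_isOpenImmersion h) ι₀ (𝟙 (D.obj i₀))
      inferInstance (pullback.snd ι₀ (c.π.app i₀)) (𝟙 c.pt) (c.π.app i₀)
      (pullback.fst ι₀ (c.π.app i₀)) hY hX hf
    exact ⟨j.left, j.hom, MorphismProperty.of_isPullback (P := @IsOpenImmersion)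
      (isPullback_snd_pbMap_id D i₀ ι₀ j) hj⟩
  · rintro ⟨j, φ, h⟩
    refine LimData.of_stage c hY hX @IsOpenImmersion
      ⟨j, φ, pullback ι₀ (D.map φ), D.obj j, pullback.snd ι₀ (D.map φ), 𝟙 _, D.map φ,
        pullback.fst ι₀ (D.map φ), IsPullback.id_vert (D.map φ),
        IsPullback.of_hasPullback _ _, h⟩

end Groth.Agent.S4817
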