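import Groth.Statements.S4821
import Mathlib

set_option autoImplicit false
universe u
open Cons9

namespace Groth.Agent.S4821

attribute [local instance] MvPolynomial.algebraMvPolynomial in
theorem aux4821 {A : Type u} [CommRing A] [IsDomain A] {m : ℕ}
    (P : Finset (MvPolynomial (Fin m) A))
    (hη : Ideal.span ((MvPolynomial.map (algebraMap A (FractionRing A))) '' (P : Set (MvPolynomial (Fin m) A))) = ⊤) :
    ∃ f : A, f ≠ 0 ∧ ∀ p : PrimeSpectrum A, f ∉ p.asIdeal →
      Ideal.span ((MvPolynomial.map (algebraMap A p.asIdeal.ResidueField)) '' (P : Set (MvPolynomial (Fin m) A))) = ⊤ := by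
  classical
  set I : Ideal (MvPolynomial (Fin m) A) := Ideal.span (P : Set (MvPolynomial (Fin m) A)) with hI
  have h1 : Ideal.map (algebraMap (MvPolynomial (Fin m) A) (MvPolynomial (Fin m) (FractionRing A))) I = ⊤ := by
    rw [hI, Ideal.map_span]
    exact hη
  have h2 : (1 : MvPolynomial (Fin m) (FractionRing A)) ∈
      Ideal.map (algebraMap (MvPolynomial (Fin m) A) (MvPolynomial (Fin m) (FractionRing A))) I := by
    rw [h1]; trivial
  rw [IsLocalization.mem_map_algebraMap_iff ((nonZeroDivisors A).map (MvPolynomial.C (σ := Fin m)))] at h2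
  obtain ⟨⟨⟨a, ha⟩, ⟨s, hs⟩⟩, h3⟩ := h2
  obtain ⟨f, hf, rfl⟩ := hs
  have hinj : Function.Injective (algebraMap (MvPolynomial (Fin m) A) (MvPolynomial (Fin m) (FractionRing A))) := by
    rw [MvPolynomial.algebraMap_def]
    exact MvPolynomial.map_injective _ (IsFractionRing.injective A (FractionRing A))
  simp only [one_mul] at h3
  have h4 : MvPolynomial.C f = a := hinj h3
  refine ⟨f, nonZeroDivisors.ne_zero hf, fun p hp => ?_⟩
  have h5 : MvPolynomial.map (algebraMap A p.asIdeal.ResidueField) (MvPolynomial.C f) ∈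
      Ideal.map (MvPolynomial.map (algebraMap A p.asIdeal.ResidueField)) I :=
    Ideal.mem_map_of_mem _ (h4 ▸ ha)
  rw [hI, Ideal.map_span, MvPolynomial.map_C] at h5
  refine Ideal.eq_top_of_isUnit_mem _ h5 ?_
  refine (MvPolynomial.C (σ := Fin m)).isUnit_map (IsUnit.mk0 _ ?_)
  rwa [Ne, Ideal.algebraMap_residueField_eq_zero]

/-- Let A be an integral domain with fraction field K, and (P_i) a finite family of polynomials in
A[T_1, …, T_m], generating an ideal 𝔞; for a point s of Spec A write 𝔞_s for the ideal of κ(s)[T_1,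
…, T_m] generated by the images of the P_i. If the zero locus of 𝔞_η in affine m-space over K = κ(η)
is empty, that is if 𝔞_η is the unit ideal, then there is an open neighbourhood D(f) (f ≠ 0) of the
generic point such that 𝔞_s is the unit ideal (its zero locus is empty) for every s in D(f). -/
theorem result {A : Type u} [CommRing A] [IsDomain A] {m : ℕ}
    (P : Finset (MvPolynomial (Fin m) A))
    (hη : Ideal.span ((MvPolynomial.map (algebraMap A (FractionRing A))) '' (P : Set (MvPolynomial (Fin m) A))) = ⊤) :
    ∃ f : A, f ≠ 0 ∧ ∀ p : PrimeSpectrum A, f ∉ p.asIdeal →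
      Ideal.span ((MvPolynomial.map (algebraMap A p.asIdeal.ResidueField)) '' (P : Set (MvPolynomial (Fin m) A))) = ⊤ := by
  exact aux4821 P hη

end Groth.Agent.S4821
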