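import Groth.Statements.S4825
import Groth.Agent.S1477
import Groth.Agent.Lib.Helper27.StalkFacA
import Groth.Agent.Lib.Helper27.StalkFacD

set_option autoImplicit false
open CategoryTheory AlgebraicGeometry
universe u
open Lim8

namespace Groth.Agent.S4825

open CategoryTheory.Limits in
/-- Let Y be a Noetherian scheme and f : X ⟶ Y a morphism of finite type. Then f admits a factorization
into an immersion followed by a finite morphism if and only if, for every point y of Y, the base
change X ×_Y Spec O_{Y,y} ⟶ Spec O_{Y,y} of f to the local scheme of Y at y admits such a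
factorization. (Pointwise criterion for pseudo-finite morphisms.) -/
theorem result {X Y : Scheme.{u}} (f : X ⟶ Y) [IsNoetherian Y]
    [LocallyOfFiniteType f] [QuasiCompact f] :
    (∃ (Y' : Scheme.{u}) (f' : X ⟶ Y') (u : Y' ⟶ Y), IsImmersion f' ∧ IsFinite u ∧ f' ≫ u = f) ↔
      ∀ y : Y, ∃ (Z : Scheme.{u}) (g : pullback f (Y.fromSpecStalk y) ⟶ Z) (u : Z ⟶ Spec (Y.presheaf.stalk y)),
        IsImmersion g ∧ IsFinite u ∧ g ≫ u = pullback.snd f (Y.fromSpecStalk y) := by
  constructor
  · rintro ⟨Y', f', u, hf', hu, h⟩ y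
    exact Groth.Agent.Lib.Helper27.StalkFacA.fac_baseChange f _ Y' f' u hf' hu h
  · intro H
    obtain ⟨h1, h2, h3⟩ := Groth.Agent.Lib.Helper27.StalkFacD.props_of_forall_stalk f H
    haveI := h1
    haveI := h2
    haveI := h3
    haveI : CompactSpace ↑Y := inferInstance
    haveI : QuasiSeparatedSpace ↑Y := inferInstance
    obtain ⟨T, j, π, hj, -, hπ, -, hfac⟩ := Groth.Agent.S1477.result f
    exact ⟨T, j, π, inferInstance, hπ, hfac⟩

end Groth.Agent.S4825
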