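import Groth.Statements.S4829
import Groth.Agent.S1496
import Groth.Agent.Lib.Helper3.AmpleFieldC
import Groth.Agent.Lib.Helper3.AmpleMisc
import Groth.Agent.Lib.Helper29.AssocBundle

set_option autoImplicit false
open CategoryTheory AlgebraicGeometry
universe u
open Cons9

namespace Groth.Agent.S4829

open CategoryTheory.Limits in
/-- every affine scheme carries an ample invertible module -/
private theorem exists_ample_of_isAffine (S : Scheme.{u}) [IsAffine S] :
    ∃ N : S.Modules, CohB1.IsAmple N :=
  ⟨Coh.structureModule S, Groth.Agent.Lib.Helper3.AmpleMisc.isAmple_of_isAffine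
    (Groth.Agent.Lib.Helper3.InvGen.isInvertible_structureModule S)⟩

open CategoryTheory.Limits in
/-- Let k be a field, X a scheme over k and K an extension field of k. If the base change X ⊗_k K admits
a closed immersion over K into a projective space P^n_K (X ⊗_k K is projective over K), then X
admits a closed immersion over k into some projective space P^n_k (X is projective over k). This is
the projective case (projective spaces are Proj of polynomial rings base-changed to the base; the
base change X ⊗_k K is the chosen fibre product). -/
theorem result {k : Type u} [Field k] {X : Scheme.{u}}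
    (p : X ⟶ Spec (CommRingCat.of k)) (K : Type u) [Field K] [Algebra k K]
    (h : ∃ (n : ℕ) (i : pullback p (Spec.map (CommRingCat.ofHom (algebraMap k K))) ⟶ CohB1.ProjSpaceOver n (Spec (CommRingCat.of K))),
      IsClosedImmersion i ∧ i ≫ CohB1.ProjSpaceOver.toBase n (Spec (CommRingCat.of K)) = pullback.snd p (Spec.map (CommRingCat.ofHom (algebraMap k K)))) :
    ∃ (n : ℕ) (i : X ⟶ CohB1.ProjSpaceOver n (Spec (CommRingCat.of k))),
      IsClosedImmersion i ∧ i ≫ CohB1.ProjSpaceOver.toBase n (Spec (CommRingCat.of k)) = p := by
  let _ : X.Over (Spec (CommRingCat.of k)) := ⟨p⟩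
  let g : Spec (CommRingCat.of K) ⟶ Spec (CommRingCat.of k) :=
    Spec.map (CommRingCat.ofHom (algebraMap k K))
  -- step 1: over `K`, proper + ample
  have h1 := ((Groth.Agent.S1496.result (exists_ample_of_isAffine (Spec (CommRingCat.of K)))
    (pullback.snd p g)).1).mp h
  obtain ⟨hprop', L', hL'⟩ := h1
  -- step 2: ample descends
  obtain ⟨L, hL⟩ := Groth.Agent.Lib.Helper3.AmpleField.exists_ample_of_ample_bc k X K L' hL'
  -- step 3: properness descends
  have hprop : IsProper p := by
    have := Groth.Agent.Lib.Helper29.AssocBundle.isProper_descendsAlong_fpqc.{u}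
    have hg : (@Surjective ⊓ @Flat ⊓ @QuasiCompact : MorphismProperty Scheme.{u}) g := by
      refine ⟨⟨?_, ?_⟩, ?_⟩
      · refine ⟨fun x => ?_⟩
        have : Subsingleton (Spec (CommRingCat.of k)) :=
          inferInstanceAs (Subsingleton (PrimeSpectrum k))
        have : Nonempty (Spec (CommRingCat.of K)) :=
          inferInstanceAs (Nonempty (PrimeSpectrum K))
        obtain ⟨z⟩ := ‹Nonempty (Spec (CommRingCat.of K))›
        exact ⟨z, Subsingleton.elim _ _⟩
      · change Flat (Spec.map (CommRingCat.ofHom (algebraMap k K)))
        rw [Flat.SpecMap_iff]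
        show (algebraMap k K).Flat
        rw [RingHom.flat_algebraMap_iff]
        infer_instance
      · change QuasiCompact g
        infer_instance
    exact MorphismProperty.of_pullback_snd_of_descendsAlong
      (P := @IsProper) (Q := (@Surjective ⊓ @Flat ⊓ @QuasiCompact : MorphismProperty Scheme.{u}))
      (f := p) (g := g) hg hprop'
  -- step 4: back to a closed immersion
  exact ((Groth.Agent.S1496.result (exists_ample_of_isAffine (Spec (CommRingCat.of k))) p).1).mpr
    ⟨hprop, L, hL⟩

end Groth.Agent.S4829
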