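import Groth.Statements.S4835
import Groth.Agent.Lib.Helper8.ModColim

set_option autoImplicit false
open CategoryTheory CategoryTheory.Limits
universe u
open Lim8

namespace Groth.Agent.S4835

/-- Let A be a commutative ring, M an A-module of finite presentation and (N_λ) an inductive system of
A-modules indexed by a nonempty directed preordered set. Then the canonical map colim_λ Hom_A(M,
N_λ) → Hom_A(M, colim_λ N_λ), sending a compatible system of homomorphisms to its inductive limit,
is bijective. This is the form established in the source's proof (finite presentation case). -/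
theorem result {A : Type u} [CommRing A] (M : ModuleCat.{u} A)
    [Module.FinitePresentation A M] {J : Type u} [Preorder J] [IsDirected J (· ≤ ·)] [Nonempty J]
    (N : J ⥤ ModuleCat.{u} A) :
    Function.Bijective (colimit.post N (coyoneda.obj (Opposite.op M))) := by
  have hF : IsFiltered J := inferInstance
  have hpost : ∀ (i : J) (χ : M ⟶ N.obj i),
      colimit.post N (coyoneda.obj (Opposite.op M))
        (colimit.ι (N ⋙ coyoneda.obj (Opposite.op M)) i χ) = χ ≫ colimit.ι N i := by
    intro i χ
    have := ConcreteCategory.congr_hom (colimit.ι_post N (coyoneda.obj (Opposite.op M)) i) χ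
    rw [ConcreteCategory.comp_apply] at this
    rw [this]
    rfl
  have hw : ∀ (i i' : J) (f : i ⟶ i') (χ : M ⟶ N.obj i),
      colimit.ι (N ⋙ coyoneda.obj (Opposite.op M)) i' (χ ≫ N.map f) =
        colimit.ι (N ⋙ coyoneda.obj (Opposite.op M)) i χ := by
    intro i i' f χ
    have := ConcreteCategory.congr_hom (colimit.w (N ⋙ coyoneda.obj (Opposite.op M)) f) χ
    rw [ConcreteCategory.comp_apply] at this
    rw [← this]
    rfl
  constructor
  · intro a b hab
    obtain ⟨j, φ, rfl⟩ := Types.jointly_surjective' a
    obtain ⟨j', ψ, rfl⟩ := Types.jointly_surjective' b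
    obtain ⟨k, hjk, hj'k⟩ := exists_ge_ge j j'
    rw [hpost, hpost] at hab
    rw [← hw j k (homOfLE hjk) φ, ← hw j' k (homOfLE hj'k) ψ]
    have h2 : (φ ≫ N.map (homOfLE hjk)) ≫ colimit.ι N k = (ψ ≫ N.map (homOfLE hj'k)) ≫ colimit.ι N k := by
      rw [Category.assoc, Category.assoc, colimit.w, colimit.w, hab]
    obtain ⟨l, f, hf⟩ := Groth.Agent.Lib.Helper8.modColim_hom_eq_at_stage N M _ _ h2
    rw [← hw k l f, ← hw k l f, hf]
  · intro G
    obtain ⟨j, φ, hφ⟩ := Groth.Agent.Lib.Helper8.modColim_hom_factors N M G
    exact ⟨colimit.ι (N ⋙ coyoneda.obj (Opposite.op M)) j φ, (hpost j φ).trans hφ⟩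

end Groth.Agent.S4835
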