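import Groth.Statements.S4837
import Mathlib

set_option autoImplicit false
set_option linter.style.haveILetI false
open CategoryTheory AlgebraicGeometry
universe u
open Lim8

namespace Groth.Agent.S4837

open Opposite TopologicalSpace

/-- `gammaAff` is an isomorphism (the chart is an open immersion onto the preimage of `U`). -/
theorem isIso_gammaAff {Y : Scheme.{u}} (C : RelSpec.QCAlg Y) (U : Y.Opens) (hU : IsAffineOpen U) :
    IsIso (C.gammaAff U hU) := by
  have hle : C.π ⁻¹ᵁ U ≤ (C.ι U hU).opensRange := (C.π_preimage U hU).le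
  haveI h1 : IsIso ((C.ι U hU).app (C.π ⁻¹ᵁ U)) := Scheme.Hom.isIso_app _ _ hle
  have e := C.top_le_preimage U hU
  have heq : (C.ι U hU) ⁻¹ᵁ (C.π ⁻¹ᵁ U) = ⊤ := top_le_iff.mp e
  haveI h2 : IsIso ((Spec (C.presheaf.obj (op U))).presheaf.map (homOfLE e).op) := by
    have : (homOfLE e).op = (eqToHom heq.symm).op := Subsingleton.elim _ _
    rw [this]
    infer_instance
  unfold RelSpec.QCAlg.gammaAff Scheme.Hom.appLE
  infer_instance

theorem result {X Y : Scheme.{u}} (f : X ⟶ Y)
    [QuasiCompact f] [QuasiSeparated f] (C : RelSpec.QCAlg Y) (g : X ⟶ C.spec) (w : g ≫ C.π = f)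
    [IsImmersion g] (φ : C ⟶ RelSpec.QCAlg.directImage f)
    (hφ : C.gammaMap ≫ φ.hom = AffAlg.algHom C.π f g w) :
    (g.ker = ⊥ ↔ ∀ U : Y.Opens, Function.Injective (φ.hom.app (Opposite.op U)).hom) ∧
      (g.ker = ⊥ → IsOpenImmersion g) := by
  subst w
  haveI : QuasiCompact g := QuasiCompact.of_comp g C.π
  -- key relation over affine opens
  have key : ∀ (U : Y.Opens) (hU : IsAffineOpen U),
      C.gammaAff U hU ≫ φ.hom.app (op U) = g.app (C.π ⁻¹ᵁ U) := by
    intro U hU
    have h := NatTrans.congr_app hφ (op U)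
    rw [NatTrans.comp_app, C.gammaMap_app U hU] at h
    rw [h]
    simp only [AffAlg.algHom, eqToHom_refl, Category.comp_id]
    rfl
  -- affine case equivalence
  have haff : ∀ (U : Y.Opens) (hU : IsAffineOpen U),
      (Function.Injective (φ.hom.app (op U)).hom ↔ Function.Injective (g.app (C.π ⁻¹ᵁ U)).hom) := by
    intro U hU
    haveI := isIso_gammaAff C U hU
    have hbij : Function.Bijective (C.gammaAff U hU).hom :=
      ConcreteCategory.bijective_of_isIso (C.gammaAff U hU)
    have hk : (g.app (C.π ⁻¹ᵁ U)).hom = (φ.hom.app (op U)).hom.comp (C.gammaAff U hU).hom := by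
      rw [← key U hU]; rfl
    rw [hk]
    constructor
    · intro h
      exact h.comp hbij.1
    · intro h
      intro a b hab
      obtain ⟨a', rfl⟩ := hbij.2 a
      obtain ⟨b', rfl⟩ := hbij.2 b
      have := h hab
      rw [this]
  have hker : ∀ (U : Y.Opens) (hU : IsAffineOpen U),
      g.ker.ideal ⟨C.π ⁻¹ᵁ U, hU.preimage C.π⟩ = RingHom.ker (g.app (C.π ⁻¹ᵁ U)).hom := by
    intro U hU
    exact Scheme.Hom.ker_apply g ⟨C.π ⁻¹ᵁ U, hU.preimage C.π⟩
  refine ⟨⟨?_, ?_⟩, ?_⟩
  · -- ker = ⊥ → injective on all opens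
    intro hbot U
    have haffinj : ∀ (V : Y.Opens) (hV : IsAffineOpen V),
        Function.Injective (φ.hom.app (op V)).hom := by
      intro V hV
      rw [haff V hV, injective_iff_map_eq_zero]
      intro a ha
      have : a ∈ RingHom.ker (g.app (C.π ⁻¹ᵁ V)).hom := ha
      rw [← hker V hV, hbot] at this
      exact this
    rw [injective_iff_map_eq_zero]
    intro c hc
    -- sheaf argument
    let F : TopCat.Sheaf CommRingCat.{u} Y.carrier := ⟨C.presheaf, C.isSheaf⟩
    apply TopCat.Sheaf.eq_of_locally_eq' F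
      (fun V : {V : Y.affineOpens // V.1 ≤ U} => V.1.1) U (fun V => homOfLE V.2)
    · intro x hx
      obtain ⟨_, ⟨V, hV, rfl⟩, hxV, hVU⟩ :=
        Y.isBasis_affineOpens.exists_subset_of_mem_open hx U.2
      exact Opens.mem_iSup.mpr ⟨⟨⟨V, hV⟩, hVU⟩, hxV⟩
    · intro V
      apply haffinj V.1.1 V.1.2
      have hnat := φ.hom.naturality (homOfLE V.2).op
      have h2 := congrArg (fun ψ => ψ.hom c) hnat
      simp only [CommRingCat.hom_comp, RingHom.coe_comp, Function.comp_apply] at h2
      rw [map_zero, map_zero]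
      change (φ.hom.app (op V.1.1)).hom ((C.presheaf.map (homOfLE V.2).op).hom c) = 0
      rw [h2, hc, map_zero]
  · -- injective on all opens → ker = ⊥
    intro hinj
    apply Scheme.IdealSheafData.ext_of_iSup_eq_top
      (fun V : Y.affineOpens => (⟨C.π ⁻¹ᵁ V.1, V.2.preimage C.π⟩ : C.spec.affineOpens))
    · have : (⨆ V : Y.affineOpens, C.π ⁻¹ᵁ V.1) = ⊤ := by
        rw [← Scheme.Hom.preimage_iSup, iSup_affineOpens_eq_top]
        rfl
      exact this
    · intro V
      rw [hker V.1 V.2, Scheme.IdealSheafData.ideal_bot]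
      change _ = ⊥
      rw [← RingHom.injective_iff_ker_eq_bot, ← haff V.1 V.2]
      exact hinj V.1
  · intro hbot
    have h1 : g.imageι.ker = ⊥ := by
      rw [Scheme.Hom.imageι, Scheme.IdealSheafData.ker_subschemeι, hbot]
    haveI : IsIso g.imageι := IsClosedImmersion.isIso_iff_ker_eq_bot.mpr h1
    rw [← g.toImage_imageι]
    infer_instance

end Groth.Agent.S4837
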