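import Groth.Statements.S4839
-- import your own Groth.Agent.* helpers here
import Mathlib
import Groth.Agent.Lib.Helper12.IsoFiniteExt
import Groth.Agent.Lib.Helper14.SmoothInsepSch
import Groth.Agent.Lib.Helper12.SecCompBC

set_option autoImplicit false
open CategoryTheory AlgebraicGeometry
universe u
open Cons9

namespace Groth.Agent.S4839

open CategoryTheory.Limits in
/-- Let k be a field and X, Y two schemes of finite type over k. If for some field extension K of k
there is a K-isomorphism X ⊗_k K ≅ Y ⊗_k K (X and Y are geometrically isomorphic), then there are a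
finite extension k' of k and a k'-isomorphism X ⊗_k k' ≅ Y ⊗_k k'. This is the case of the property
of being an isomorphism (base changes are the chosen fibre products with Spec of the extension). -/
theorem result {k : Type u} [Field k] {X Y : Scheme.{u}}
    (p : X ⟶ Spec (CommRingCat.of k)) (q : Y ⟶ Spec (CommRingCat.of k))
    [LocallyOfFiniteType p] [QuasiCompact p] [LocallyOfFiniteType q] [QuasiCompact q]
    (K : Type u) [Field K] [Algebra k K]
    (e : pullback p (Spec.map (CommRingCat.ofHom (algebraMap k K))) ≅ pullback q (Spec.map (CommRingCat.ofHom (algebraMap k K))))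
    (he : e.hom ≫ pullback.snd q (Spec.map (CommRingCat.ofHom (algebraMap k K))) = pullback.snd p (Spec.map (CommRingCat.ofHom (algebraMap k K)))) :
    ∃ (k' : Type u) (_ : Field k') (_ : Algebra k k') (_ : Module.Finite k k')
      (e' : pullback p (Spec.map (CommRingCat.ofHom (algebraMap k k'))) ≅ pullback q (Spec.map (CommRingCat.ofHom (algebraMap k k')))),
      e'.hom ≫ pullback.snd q (Spec.map (CommRingCat.ofHom (algebraMap k k'))) = pullback.snd p (Spec.map (CommRingCat.ofHom (algebraMap k k'))) := by
  classical
  haveI : IsNoetherian X := Groth.Agent.Lib.Helper14.SmoothInsepSch.isNoetherian_of_lft_qc k p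
  haveI : IsNoetherian Y := Groth.Agent.Lib.Helper14.SmoothInsepSch.isNoetherian_of_lft_qc k q
  haveI : LocallyOfFinitePresentation p :=
    Groth.Agent.Lib.Helper12.SecCompBC.locallyOfFinitePresentation_of_isLocallyNoetherian p
  haveI : LocallyOfFinitePresentation q :=
    Groth.Agent.Lib.Helper12.SecCompBC.locallyOfFinitePresentation_of_isLocallyNoetherian q
  haveI : QuasiSeparated p :=
    (HasAffineProperty.iff_of_isAffine (P := @QuasiSeparated)).mpr inferInstance
  haveI : QuasiSeparated q :=
    (HasAffineProperty.iff_of_isAffine (P := @QuasiSeparated)).mpr inferInstance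
  have H : Groth.Agent.Lib.Helper12.ConsPairGen.HasQHom
      (@IsOpenImmersion ⊓ @Surjective : MorphismProperty Scheme.{u}) p q
      (Spec.map (CommRingCat.ofHom (algebraMap k K))) :=
    ⟨_, _, pullback.snd p _, pullback.snd q _, pullback.fst p _, pullback.fst q _,
      IsPullback.of_hasPullback _ _, IsPullback.of_hasPullback _ _, e.hom, he,
      ⟨inferInstance, inferInstance⟩⟩
  obtain ⟨k', hk'1, hk'2, hfin, X', Y', gX', gY', eX, eY, hX, hY, g, hg, hQg⟩ :=
    Groth.Agent.Lib.Helper12.IsoFiniteExt.exists_finite_ext _
      Groth.Agent.Lib.Helper12.SpreadIso.descendsLim_iso p q K H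
  haveI : IsOpenImmersion g := hQg.1
  haveI : Surjective g := hQg.2
  haveI : IsIso g := by
    apply isIso_of_isOpenImmersion_of_opensRange_eq_top
    rw [eq_top_iff]
    intro x _
    exact g.surjective x
  refine ⟨k', hk'1, hk'2, hfin, hX.isoPullback.symm ≪≫ asIso g ≪≫ hY.isoPullback, ?_⟩
  simp [hg]

end Groth.Agent.S4839
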