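-- Statement S4850.
import Groth.Statements.S4850
import Mathlib
import Groth.Agent.Lib.Helper1.EssFPStalkSch
import Groth.Agent.Lib.Helper1.FlatCokerIff
import Groth.Agent.Lib.Helper17.StalkExact
import Groth.Agent.Lib.Helper14.FibreFreeSch

set_option autoImplicit false
universe u
open EGA43

namespace Groth.Agent.S4850

open AlgebraicGeometry CategoryTheory Limits in
/-- Equivalence of a: and b)): let f : X ⟶ Y be locally of finite presentation, F and F' quasi-coherent
O_X-modules of finite presentation, u : F' ⟶ F a homomorphism and x a point with y = f x, such that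
F is f-flat at x. Then the stalk map u_x is injective and Coker u is f-flat at x, if and only if u_x
induces an injective map F'_x / m_y F'_x → F_x / m_y F_x. The second condition is written out: an
element of F'_x whose image under u_x lies in m_y F_x already lies in m_y F'_x. (The vanishing of
the stalk (Ker u)_x is expressed as injectivity of u_x.) -/
theorem result {X Y : Scheme.{u}} (f : X ⟶ Y)
    [LocallyOfFinitePresentation f] (F F' : X.Modules) [Coh.IsQCoh F] [Coh.IsQCoh F']
    (hF : CohB1.IsFP F) (hF' : CohB1.IsFP F') (u : F' ⟶ F) (x : X) (hflat : FlatMod.IsFlatOverAt f F x) :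
    letI J : Ideal ↑(X.presheaf.stalk x) :=
      Ideal.map (f.stalkMap x).hom (IsLocalRing.maximalIdeal ↑(Y.presheaf.stalk (f x)))
    letI ux := (TopCat.Presheaf.stalkFunctor Ab x).map (Scheme.Modules.Hom.mapPresheaf u)
    (Function.Injective ux ∧ FlatMod.IsFlatOverAt f (cokernel u) x) ↔
      ∀ m : ↑(F'.presheaf.stalk x),
        ux m ∈ (J • (⊤ : Submodule ↑(X.presheaf.stalk x) ↑(F.presheaf.stalk x))) →
          m ∈ (J • (⊤ : Submodule ↑(X.presheaf.stalk x) ↑(F'.presheaf.stalk x))) := by
  letI a3 : Algebra (Y.presheaf.stalk (f x)) (X.presheaf.stalk x) := (f.stalkMap x).hom.toAlgebra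
  haveI : IsLocalHom (algebraMap (Y.presheaf.stalk (f x)) (X.presheaf.stalk x)) :=
    (inferInstance : IsLocalHom (f.stalkMap x).hom)
  have hS := Groth.Agent.Lib.Helper1.EssFPStalk.isEssFinitePresentation_stalkMap f x
  letI mF := FlatMod.moduleStalkOver f F x
  letI mF' := FlatMod.moduleStalkOver f F' x
  letI mC := FlatMod.moduleStalkOver f (cokernel u) x
  haveI : IsScalarTower (Y.presheaf.stalk (f x)) (X.presheaf.stalk x) (F.presheaf.stalk x) :=
    IsScalarTower.of_algebraMap_smul fun r n => rfl
  haveI : IsScalarTower (Y.presheaf.stalk (f x)) (X.presheaf.stalk x) (F'.presheaf.stalk x) :=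
    IsScalarTower.of_algebraMap_smul fun r n => rfl
  haveI : IsScalarTower (Y.presheaf.stalk (f x)) (X.presheaf.stalk x)
      ((cokernel u : X.Modules).presheaf.stalk x) :=
    IsScalarTower.of_algebraMap_smul fun r n => rfl
  haveI := hF
  haveI := hF'
  haveI := Groth.Agent.Lib.Helper14.FibreFree.finitePresentation_stalk F x
  haveI := Groth.Agent.Lib.Helper14.FibreFree.finitePresentation_stalk F' x
  haveI : Module.Flat (Y.presheaf.stalk (f x)) (F.presheaf.stalk x) := hflat
  -- exactness on stalks
  have w : image.ι u ≫ cokernel.π u = 0 := by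
    rw [← cancel_epi (factorThruImage u), ← Category.assoc, image.fac, cokernel.condition,
      comp_zero]
  let T₁ : ShortComplex X.Modules := ShortComplex.mk u (cokernel.π u) (cokernel.condition u)
  let T₂ : ShortComplex X.Modules := ShortComplex.mk (image.ι u) (cokernel.π u) w
  let φ : T₁ ⟶ T₂ :=
    { τ₁ := factorThruImage u
      τ₂ := 𝟙 _
      τ₃ := 𝟙 _
      comm₁₂ := by
        change factorThruImage u ≫ image.ι u = u ≫ 𝟙 _
        rw [image.fac, Category.comp_id]
      comm₂₃ := by
        change 𝟙 _ ≫ cokernel.π u = cokernel.π u ≫ 𝟙 _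
        rw [Category.id_comp, Category.comp_id] }
  haveI : Epi φ.τ₁ := (inferInstance : Epi (factorThruImage u))
  haveI : IsIso φ.τ₂ := (inferInstance : IsIso (𝟙 _))
  haveI : Mono φ.τ₃ := (inferInstance : Mono (𝟙 _))
  have hT₁ : T₁.Exact := ShortComplex.exact_cokernel u
  have hT₂ : T₂.Exact := (ShortComplex.exact_iff_of_epi_of_isIso_of_mono φ).mp hT₁
  haveI : Mono T₂.f := (inferInstance : Mono (image.ι u))
  have hex₂ := Groth.Agent.Lib.Helper17.StalkExact.stalkLin_exact T₂ hT₂ x
  have hsurj := Groth.Agent.Lib.Helper17.StalkExact.stalkLin_surjective (factorThruImage u) x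
  have hcomp : ∀ m, Groth.Agent.Lib.Helper17.StalkExact.stalkLin u x m =
      Groth.Agent.Lib.Helper17.StalkExact.stalkLin (image.ι u) x
        (Groth.Agent.Lib.Helper17.StalkExact.stalkLin (factorThruImage u) x m) := by
    intro m
    have := Groth.Agent.Lib.Helper3.QS.stalkMap_comp_apply (factorThruImage u) (image.ι u) x m
    rw [image.fac] at this
    exact this
  have hex : Function.Exact (Groth.Agent.Lib.Helper17.StalkExact.stalkLin u x)
      (Groth.Agent.Lib.Helper17.StalkExact.stalkLin (cokernel.π u) x) := by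
    intro n
    rw [hex₂ n]
    constructor
    · rintro ⟨m, rfl⟩
      obtain ⟨m', rfl⟩ := hsurj m
      exact ⟨m', hcomp m'⟩
    · rintro ⟨m, rfl⟩
      exact ⟨_, (hcomp m).symm⟩
  exact Groth.Agent.Lib.Helper1.FlatCokerIff.main_iff hS
    (Groth.Agent.Lib.Helper17.StalkExact.stalkLin u x)
    (Groth.Agent.Lib.Helper17.StalkExact.stalkLin (cokernel.π u) x)
    (Groth.Agent.Lib.Helper17.StalkExact.stalkLin_surjective (cokernel.π u) x) hex

end Groth.Agent.S4850
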