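import Groth.Statements.S4858
-- import your own Groth.Agent.* helpers here

set_option autoImplicit false
universe u
open EGA43

namespace Groth.Agent.S4858

/-- Conditions a), a′), c), c′) (very dense subsets): for a subset X₀ of a topological space X the
following are equivalent: every nonempty locally closed subset of X meets X₀; every closed subset Z
of X equals the closure of Z ∩ X₀; the map U ↦ U ∩ X₀ is injective on open subsets of X; the map F ↦
F ∩ X₀ is injective on closed subsets of X. -/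
theorem result {X : Type u} [TopologicalSpace X] (X₀ : Set X) :
    [∀ Z : Set X, IsLocallyClosed Z → Z.Nonempty → (Z ∩ X₀).Nonempty,
      ∀ Z : Set X, IsClosed Z → closure (Z ∩ X₀) = Z,
      ∀ U V : Set X, IsOpen U → IsOpen V → U ∩ X₀ = V ∩ X₀ → U = V,
      ∀ F F' : Set X, IsClosed F → IsClosed F' → F ∩ X₀ = F' ∩ X₀ → F = F'].TFAE := by
  tfae_have 1 → 2 := by
    intro h Z hZ
    apply subset_antisymm (hZ.closure_subset_iff.mpr Set.inter_subset_left)
    intro z hz
    by_contra hzc
    -- Z \ closure (Z ∩ X₀) is locally closed, nonempty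
    have hlc : IsLocallyClosed (Z ∩ (closure (Z ∩ X₀))ᶜ) :=
      hZ.isLocallyClosed.inter isClosed_closure.isOpen_compl.isLocallyClosed
    obtain ⟨w, ⟨hwZ, hwc⟩, hw0⟩ := h _ hlc ⟨z, hz, hzc⟩
    exact hwc (subset_closure ⟨hwZ, hw0⟩)
  tfae_have 2 → 4 := by
    intro h F F' hF hF' e
    rw [← h F hF, ← h F' hF', e]
  tfae_have 4 → 3 := by
    intro h U V hU hV e
    have := h Uᶜ Vᶜ hU.isClosed_compl hV.isClosed_compl (by
      ext x
      simp only [Set.mem_inter_iff, Set.mem_compl_iff]
      constructor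
      · rintro ⟨hxU, hx0⟩
        refine ⟨fun hxV => hxU ?_, hx0⟩
        have : x ∈ V ∩ X₀ := ⟨hxV, hx0⟩
        rw [← e] at this
        exact this.1
      · rintro ⟨hxV, hx0⟩
        refine ⟨fun hxU => hxV ?_, hx0⟩
        have : x ∈ U ∩ X₀ := ⟨hxU, hx0⟩
        rw [e] at this
        exact this.1)
    exact compl_injective this
  tfae_have 3 → 1 := by
    intro h Z hZ hne
    by_contra hempty
    rw [Set.not_nonempty_iff_eq_empty] at hempty
    obtain ⟨U, F, hU, hF, rfl⟩ := hZ
    -- U ∩ F ∩ X₀ = ∅, so U ∩ X₀ = (U ∩ Fᶜ) ∩ X₀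
    have := h U (U ∩ Fᶜ) hU (hU.inter hF.isOpen_compl) (by
      ext x
      simp only [Set.mem_inter_iff, Set.mem_compl_iff]
      constructor
      · rintro ⟨hxU, hx0⟩
        refine ⟨⟨hxU, fun hxF => ?_⟩, hx0⟩
        have : x ∈ U ∩ F ∩ X₀ := ⟨⟨hxU, hxF⟩, hx0⟩
        rw [hempty] at this
        exact this
      · rintro ⟨⟨hxU, _⟩, hx0⟩
        exact ⟨hxU, hx0⟩)
    obtain ⟨z, hzU, hzF⟩ := hne
    rw [this] at hzU
    exact hzU.2 hzF
  tfae_finish

end Groth.Agent.S4858
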