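import Groth.Statements.S4859
-- import your own Groth.Agent.* helpers here

set_option autoImplicit false
universe u
open EGA43

namespace Groth.Agent.S4859

theorem preimage_eq_iff {X₀ X : Type u} (f : X₀ → X) (U V : Set X) :
    f ⁻¹' U = f ⁻¹' V ↔ U ∩ Set.range f = V ∩ Set.range f := by
  constructor
  · intro h
    ext x
    simp only [Set.mem_inter_iff, Set.mem_range]
    constructor
    · rintro ⟨hx, y, rfl⟩
      refine ⟨?_, y, rfl⟩
      have : y ∈ f ⁻¹' U := hx
      rw [h] at this
      exact this
    · rintro ⟨hx, y, rfl⟩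
      refine ⟨?_, y, rfl⟩
      have : y ∈ f ⁻¹' V := hx
      rw [← h] at this
      exact this
  · intro h
    ext y
    simp only [Set.mem_preimage]
    constructor
    · intro hy
      have : f y ∈ U ∩ Set.range f := ⟨hy, y, rfl⟩
      rw [h] at this
      exact this.1
    · intro hy
      have : f y ∈ V ∩ Set.range f := ⟨hy, y, rfl⟩
      rw [← h] at this
      exact this.1

/-- Conditions a), a′), b) (quasi-homeomorphisms): for a continuous map f : X₀ → X the following are
equivalent: taking preimages is a bijection from the open subsets of X onto the open subsets of X₀;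
taking preimages is a bijection from the closed subsets of X onto the closed subsets of X₀; the
topology of X₀ is induced from X through f and the image f(X₀) is very dense in X, in the sense that
two open subsets of X with the same trace on f(X₀) coincide. -/
theorem result {X₀ X : Type u} [TopologicalSpace X₀] [TopologicalSpace X]
    (f : X₀ → X) (hf : Continuous f) :
    [Function.Bijective (fun U : TopologicalSpace.Opens X =>
        (⟨f ⁻¹' (U : Set X), U.isOpen.preimage hf⟩ : TopologicalSpace.Opens X₀)),
      Function.Bijective (fun F : TopologicalSpace.Closeds X =>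
        (⟨f ⁻¹' (F : Set X), F.isClosed.preimage hf⟩ : TopologicalSpace.Closeds X₀)),
      Topology.IsInducing f ∧
        ∀ U V : Set X, IsOpen U → IsOpen V → U ∩ Set.range f = V ∩ Set.range f → U = V].TFAE := by
  tfae_have 1 → 2 := by
    rintro ⟨hinj, hsurj⟩
    constructor
    · intro F F' h
      have h' : f ⁻¹' (F : Set X) = f ⁻¹' (F' : Set X) := congrArg (fun G : TopologicalSpace.Closeds X₀ => (G : Set X₀)) h
      have := @hinj ⟨(F : Set X)ᶜ, F.isClosed.isOpen_compl⟩ ⟨(F' : Set X)ᶜ, F'.isClosed.isOpen_compl⟩ (by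
        apply TopologicalSpace.Opens.ext
        simp only [TopologicalSpace.Opens.coe_mk, Set.preimage_compl, h'])
      have h2 : (F : Set X)ᶜ = (F' : Set X)ᶜ := congrArg (fun G : TopologicalSpace.Opens X => (G : Set X)) this
      exact TopologicalSpace.Closeds.ext (compl_injective h2)
    · intro G
      obtain ⟨U, hU⟩ := hsurj ⟨(G : Set X₀)ᶜ, G.isClosed.isOpen_compl⟩
      refine ⟨⟨(U : Set X)ᶜ, U.isOpen.isClosed_compl⟩, ?_⟩
      apply TopologicalSpace.Closeds.ext
      have h2 : f ⁻¹' (U : Set X) = (G : Set X₀)ᶜ := congrArg (fun G : TopologicalSpace.Opens X₀ => (G : Set X₀)) hU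
      simp only [TopologicalSpace.Closeds.coe_mk, Set.preimage_compl, h2, compl_compl]
  tfae_have 2 → 1 := by
    rintro ⟨hinj, hsurj⟩
    constructor
    · intro F F' h
      have h' : f ⁻¹' (F : Set X) = f ⁻¹' (F' : Set X) := congrArg (fun G : TopologicalSpace.Opens X₀ => (G : Set X₀)) h
      have := @hinj ⟨(F : Set X)ᶜ, F.isOpen.isClosed_compl⟩ ⟨(F' : Set X)ᶜ, F'.isOpen.isClosed_compl⟩ (by
        apply TopologicalSpace.Closeds.ext
        simp only [TopologicalSpace.Closeds.coe_mk, Set.preimage_compl, h'])
      have h2 : (F : Set X)ᶜ = (F' : Set X)ᶜ := congrArg (fun G : TopologicalSpace.Closeds X => (G : Set X)) this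
      exact TopologicalSpace.Opens.ext (compl_injective h2)
    · intro G
      obtain ⟨U, hU⟩ := hsurj ⟨(G : Set X₀)ᶜ, G.isOpen.isClosed_compl⟩
      refine ⟨⟨(U : Set X)ᶜ, U.isClosed.isOpen_compl⟩, ?_⟩
      apply TopologicalSpace.Opens.ext
      have h2 : f ⁻¹' (U : Set X) = (G : Set X₀)ᶜ := congrArg (fun G : TopologicalSpace.Closeds X₀ => (G : Set X₀)) hU
      simp only [TopologicalSpace.Opens.coe_mk, Set.preimage_compl, h2, compl_compl]
  tfae_have 1 → 3 := by
    rintro ⟨hinj, hsurj⟩
    constructor
    · refine ⟨?_⟩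
      apply le_antisymm
      · rw [← continuous_iff_le_induced]; exact hf
      · intro U hU
        obtain ⟨V, hV⟩ := hsurj ⟨U, hU⟩
        have h2 : f ⁻¹' (V : Set X) = U := congrArg (fun G : TopologicalSpace.Opens X₀ => (G : Set X₀)) hV
        exact ⟨V, V.isOpen, h2⟩
    · intro U V hU hV h
      have := @hinj ⟨U, hU⟩ ⟨V, hV⟩ (by
        apply TopologicalSpace.Opens.ext
        simp only [TopologicalSpace.Opens.coe_mk]
        exact (preimage_eq_iff f U V).mpr h)
      exact congrArg (fun G : TopologicalSpace.Opens X => (G : Set X)) this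
  tfae_have 3 → 1 := by
    rintro ⟨hind, hd⟩
    constructor
    · intro U V h
      have h' : f ⁻¹' (U : Set X) = f ⁻¹' (V : Set X) := congrArg (fun G : TopologicalSpace.Opens X₀ => (G : Set X₀)) h
      exact TopologicalSpace.Opens.ext (hd U V U.isOpen V.isOpen ((preimage_eq_iff f U V).mp h'))
    · intro G
      obtain ⟨V, hV, hVG⟩ := hind.isOpen_iff.mp G.isOpen
      exact ⟨⟨V, hV⟩, TopologicalSpace.Opens.ext hVG⟩
  tfae_finish

end Groth.Agent.S4859
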