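import Groth.Statements.S4861
import Groth.Agent.Lib.Helper8.Goldman

set_option autoImplicit false
set_option linter.style.haveILetI false
universe u
open EGA43

namespace Groth.Agent.S4861

open Groth.Agent.Lib.Helper8

theorem finite_primeSpectrum_of_away {B : Type u} [CommRing B] [IsDomain B] [IsNoetherianRing B]
    {f : B} (hf : f ≠ 0) (h : IsField (Localization.Away f)) :
    (∀ p : Ideal B, p.IsPrime → p ≠ ⊥ → p ∈ (Ideal.span {f}).minimalPrimes) ∧
      Finite (PrimeSpectrum B) := by
  have key : ∀ p : Ideal B, p.IsPrime → p ≠ ⊥ → f ∈ p := by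
    intro p hp hp0
    by_contra hfp
    exact hp0 ((away_isField_iff hf).mp h p hp hfp)
  have h1 : ∀ p : Ideal B, p.IsPrime → p ≠ ⊥ → p ∈ (Ideal.span {f}).minimalPrimes :=
    fun p hp hp0 => mem_minimalPrimes_span_of_forall_mem hf key p hp0
  refine ⟨h1, ?_⟩
  have hfin : (Ideal.span {f}).minimalPrimes.Finite :=
    Ideal.finite_minimalPrimes_of_isNoetherianRing B (Ideal.span {f})
  have hfin2 : (insert ⊥ (Ideal.span {f}).minimalPrimes).Finite := hfin.insert ⊥
  have hinj : Function.Injective (fun p : PrimeSpectrum B =>
      (⟨p.asIdeal, by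
        by_cases hp : p.asIdeal = ⊥
        · exact Set.mem_insert_iff.mpr (Or.inl hp)
        · exact Set.mem_insert_iff.mpr (Or.inr (h1 p.asIdeal p.2 hp))⟩ :
        (insert ⊥ (Ideal.span {f}).minimalPrimes : Set (Ideal B)))) := by
    intro p q hpq
    exact PrimeSpectrum.ext (congrArg Subtype.val hpq)
  haveI := hfin2.to_subtype
  exact Finite.of_injective _ hinj

/-- For a Noetherian integral domain B the following are equivalent (and hence equivalent to: the
fraction field of B is a finitely generated B-algebra; the generic point of Spec B is open): a) the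
localization B_f is a field for some nonzero f; e) Spec B is finite; f) B is semi-local (finitely
many maximal ideals) of Krull dimension at most 1. -/
theorem result (B : Type u) [CommRing B] [IsDomain B]
    [IsNoetherianRing B] :
    [∃ f : B, f ≠ 0 ∧ IsField (Localization.Away f),
      Finite (PrimeSpectrum B),
      Finite (MaximalSpectrum B) ∧ ringKrullDim B ≤ 1].TFAE := by
  tfae_have 1 → 2 := by
    rintro ⟨f, hf, h⟩
    exact (finite_primeSpectrum_of_away hf h).2
  tfae_have 2 → 1 := by
    intro h
    exact exists_away_isField_of_finite_primeSpectrum B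
  tfae_have 1 → 3 := by
    rintro ⟨f, hf, h⟩
    obtain ⟨h1, h2⟩ := finite_primeSpectrum_of_away hf h
    refine ⟨Finite.of_injective _ MaximalSpectrum.toPrimeSpectrum_injective, ?_⟩
    rw [ringKrullDim_le_iff_height_le]
    intro p hp
    by_cases hp0 : p = ⊥
    · rw [hp0, Ideal.height_bot]; exact zero_le_one
    · have := Ideal.height_le_one_of_isPrincipal_of_mem_minimalPrimes (Ideal.span {f}) p (h1 p hp hp0)
      exact_mod_cast this
  tfae_have 3 → 2 := by
    rintro ⟨hfin, hdim⟩
    rw [ringKrullDim_le_iff_height_le] at hdim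
    have hmax : ∀ p : PrimeSpectrum B, p.asIdeal ≠ ⊥ → p.asIdeal.IsMaximal := by
      intro p hp0
      haveI := p.2
      obtain ⟨m, hm, hpm⟩ := Ideal.exists_le_maximal p.asIdeal p.2.ne_top
      by_contra hnm
      have hne : p.asIdeal ≠ m := fun e => hnm (e ▸ hm)
      have hlt : p.asIdeal < m := lt_of_le_of_ne hpm hne
      haveI := hm.isPrime
      have h1 : p.asIdeal.height < m.height := Ideal.height_strict_mono_of_isPrime_of_isPrime hlt
      have h2 : (m.height : WithBot ℕ∞) ≤ 1 := hdim hm.isPrime
      have h2' : m.height ≤ 1 := by exact_mod_cast h2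
      have h3 : p.asIdeal.height < 1 := lt_of_lt_of_le h1 h2'
      rw [ENat.lt_one_iff_eq_zero] at h3
      exact hp0 (Ideal.height_eq_zero_iff_eq_bot.mp h3)
    classical
    have hinj : Function.Injective (fun p : PrimeSpectrum B =>
        (if hp : p.asIdeal = ⊥ then none else some ⟨p.asIdeal, hmax p hp⟩ :
          Option (MaximalSpectrum B))) := by
      intro p q hpq
      simp only at hpq
      by_cases hp : p.asIdeal = ⊥
      · by_cases hq : q.asIdeal = ⊥
        · exact PrimeSpectrum.ext (hp.trans hq.symm)
        · rw [dif_pos hp, dif_neg hq] at hpq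
          exact absurd hpq (by simp)
      · by_cases hq : q.asIdeal = ⊥
        · rw [dif_neg hp, dif_pos hq] at hpq
          exact absurd hpq (by simp)
        · rw [dif_neg hp, dif_neg hq, Option.some_inj] at hpq
          exact PrimeSpectrum.ext (congrArg MaximalSpectrum.asIdeal hpq)
    exact Finite.of_injective _ hinj
  tfae_finish

end Groth.Agent.S4861
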