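import Groth.Statements.S4872
import Groth.Agent.Lib.Helper8.SchDom

set_option autoImplicit false
set_option linter.style.haveILetI false
universe u
open CategoryTheory AlgebraicGeometry
open EGA43

namespace Groth.Agent.S4872

open Groth.Agent.Lib.Helper8 Limits

/-- (b) ⟹ (c) -/
theorem b_to_c {X : Scheme.{u}} {ι : Type u} (Z : ι → Scheme.{u}) (f : ∀ i, Z i ⟶ X)
    (hb : ∀ (V : (X).Opens) (t : Γ(X, V)), (∀ i, (f i).app V t = 0) → t = 0)
    (U : X.Opens) (Y : Scheme.{u}) (j : Y ⟶ (U : Scheme.{u})) (hj : IsClosedImmersion j)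
    (hg : ∀ i, ∃ g : ((f i) ⁻¹ᵁ U : Scheme.{u}) ⟶ Y, g ≫ j = (f i) ∣_ U) : IsIso j := by
  rw [IsClosedImmersion.isIso_iff_ker_eq_bot]
  apply Scheme.IdealSheafData.ext
  funext W
  rw [Scheme.Hom.ker_apply, Scheme.IdealSheafData.ideal_bot]
  change _ = ⊥
  rw [eq_bot_iff]
  intro s hs
  rw [RingHom.mem_ker] at hs
  rw [Ideal.mem_bot]
  change (j.app W.1) s = 0 at hs
  apply hb (U.ι ''ᵁ W.1) s
  intro i
  obtain ⟨g, hg⟩ := hg i
  rw [← morphismRestrict_app_eq_zero_iff]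
  apply app_eq_zero_of_eq hg.symm
  rw [comp_app_apply', hs, map_zero]
  rfl

/-- (c) ⟹ (d) -/
theorem c_to_d {X S : Scheme.{u}} (p : X ⟶ S) {ι : Type u} (Z : ι → Scheme.{u}) (f : ∀ i, Z i ⟶ X)
    (hc : ∀ (U : X.Opens) (Y : Scheme.{u}) (j : Y ⟶ (U : Scheme.{u})), IsClosedImmersion j →
        (∀ i, ∃ g : ((f i) ⁻¹ᵁ U : Scheme.{u}) ⟶ Y, g ≫ j = (f i) ∣_ U) → IsIso j)
    (X' : Scheme.{u}) (q : X' ⟶ S) (hq : IsSeparated q) (U : X.Opens) (u v : (U : Scheme.{u}) ⟶ X')
    (hu : u ≫ q = U.ι ≫ p) (hv : v ≫ q = U.ι ≫ p)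
    (huv : ∀ i, ((f i) ∣_ U) ≫ u = ((f i) ∣_ U) ≫ v) : u = v := by
  let U' : Over S := Over.mk (U.ι ≫ p)
  let X'' : Over S := Over.mk q
  let u' : U' ⟶ X'' := Over.homMk u hu
  let v' : U' ⟶ X'' := Over.homMk v hv
  haveI : IsSeparated X''.hom := hq
  have hcl : IsClosedImmersion (equalizer.ι u' v').left := inferInstance
  have hiso : IsIso (equalizer.ι u' v').left := by
    apply hc U _ _ hcl
    intro i
    let Zi : Over S := Over.mk (((f i) ∣_ U) ≫ U.ι ≫ p)
    let k : Zi ⟶ U' := Over.homMk ((f i) ∣_ U) rfl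
    have hk : k ≫ u' = k ≫ v' := by
      apply Over.OverMorphism.ext
      exact huv i
    refine ⟨(equalizer.lift k hk).left, ?_⟩
    rw [← Over.comp_left, equalizer.lift_ι]
    rfl
  have h2 : (equalizer.ι u' v' ≫ u').left = (equalizer.ι u' v' ≫ v').left := by
    rw [equalizer.condition]
  rw [Over.comp_left, Over.comp_left] at h2
  exact (cancel_epi (equalizer.ι u' v').left).mp h2

/-- (d) ⟹ (b) -/
theorem d_to_b {X S : Scheme.{u}} (p : X ⟶ S) {ι : Type u} (Z : ι → Scheme.{u}) (f : ∀ i, Z i ⟶ X)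
    (hd : ∀ (X' : Scheme.{u}) (q : X' ⟶ S), IsSeparated q → ∀ (U : X.Opens) (u v : (U : Scheme.{u}) ⟶ X'),
        u ≫ q = U.ι ≫ p → v ≫ q = U.ι ≫ p → (∀ i, ((f i) ∣_ U) ≫ u = ((f i) ∣_ U) ≫ v) → u = v)
    (V : X.Opens) (t : Γ(X, V)) (ht : ∀ i, (f i).app V t = 0) : t = 0 := by
  let t' : Γ(V, ⊤) := V.topIso.inv t
  let u : (V : Scheme.{u}) ⟶ AffineSpace PUnit.{u+1} S :=
    AffineSpace.homOfVector (V.ι ≫ p) (fun _ => t')
  let v : (V : Scheme.{u}) ⟶ AffineSpace PUnit.{u+1} S :=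
    AffineSpace.homOfVector (V.ι ≫ p) (fun _ => 0)
  have huv : u = v := by
    apply hd (AffineSpace PUnit.{u+1} S) (AffineSpace PUnit.{u+1} S ↘ S) inferInstance V u v
      (AffineSpace.homOfVector_over _ _) (AffineSpace.homOfVector_over _ _)
    intro i
    rw [AffineSpace.comp_homOfVector, AffineSpace.comp_homOfVector]
    congr 1
    funext _
    simp only [Function.comp_apply, map_zero]
    change ((f i) ∣_ V).app ⊤ t' = 0
    rw [morphismRestrict_app_eq_zero_iff]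
    exact app_map_eq_zero (f i) (eqToHom V.ι_image_top) t (ht i)
  have h1 : t' = 0 := by
    have h2 := congrArg (fun w => w.appTop (AffineSpace.coord S PUnit.unit)) huv
    simp only [u, v, AffineSpace.homOfVector_appTop_coord] at h2
    exact h2
  have hinj : Function.Injective V.topIso.inv :=
    ((ConcreteCategory.isIso_iff_bijective V.topIso.inv).mp inferInstance).1
  exact hinj (h1.trans (map_zero _).symm)

/-- Conditions b), c), d) (schematically dominant families): let p : X ⟶ S be a morphism and (f_i : Z_i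
⟶ X) a family of morphisms. The following are equivalent: b) for every open V of X, a section of O_X
over V whose images in all the Γ(f_i⁻¹(V), O_{Z_i}) are zero is zero; c) for every open U of X, a
closed immersion j : Y ⟶ U through which each restriction f_i⁻¹(U) ⟶ U factors is an isomorphism; d)
for every separated S-scheme X', every open U of X and every pair of S-morphisms u, v : U ⟶ X'
having the same composite with each f_i⁻¹(U) ⟶ U, one has u = v. -/
theorem result {X S : Scheme.{u}} (p : X ⟶ S) {ι : Type u} (Z : ι → Scheme.{u})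
    (f : ∀ i, Z i ⟶ X) :
    [(∀ (V : (X).Opens) (t : Γ(X, V)), (∀ i, (f i).app V t = 0) → t = 0),
      ∀ (U : X.Opens) (Y : Scheme.{u}) (j : Y ⟶ (U : Scheme.{u})), IsClosedImmersion j →
        (∀ i, ∃ g : ((f i) ⁻¹ᵁ U : Scheme.{u}) ⟶ Y, g ≫ j = (f i) ∣_ U) → IsIso j,
      ∀ (X' : Scheme.{u}) (q : X' ⟶ S), IsSeparated q → ∀ (U : X.Opens) (u v : (U : Scheme.{u}) ⟶ X'),
        u ≫ q = U.ι ≫ p → v ≫ q = U.ι ≫ p → (∀ i, ((f i) ∣_ U) ≫ u = ((f i) ∣_ U) ≫ v) → u = v].TFAE := by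
  tfae_have 1 → 2 := fun h U Y j hj hg => b_to_c Z f h U Y j hj hg
  tfae_have 2 → 3 := fun h X' q hq U u v hu hv huv => c_to_d p Z f h X' q hq U u v hu hv huv
  tfae_have 3 → 1 := fun h V t ht => d_to_b p Z f h V t ht
  tfae_finish

end Groth.Agent.S4872
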