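import Groth.Statements.S4878
import Mathlib

set_option autoImplicit false
universe u
open TensorProduct
open EGA43

namespace Groth.Agent.S4878

/-- Let A be a commutative ring, (u_i : M → M_i) a family of A-linear maps whose kernels have zero
intersection, and N a projective A-module. Then the kernels of the maps u_i ⊗ 1 : M ⊗_A N → M_i ⊗_A
N have zero intersection. -/
theorem result {A : Type u} [CommRing A]
    {M : Type u} [AddCommGroup M] [Module A M] {ι : Type u} (M' : ι → Type u)
    [∀ i, AddCommGroup (M' i)] [∀ i, Module A (M' i)] (u : ∀ i, M →ₗ[A] M' i)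
    (hu : ⨅ i, LinearMap.ker (u i) = ⊥)
    (N : Type u) [AddCommGroup N] [Module A N] [Module.Projective A N] :
    ⨅ i, LinearMap.ker ((u i).rTensor N) = ⊥ := by
  classical
  obtain ⟨s, hs⟩ := (Module.projective_def' (R := A) (P := N)).mp inferInstance
  rw [eq_bot_iff]
  intro z hz
  rw [Submodule.mem_iInf] at hz
  rw [Submodule.mem_bot]
  have hz' : ∀ i, (u i).rTensor (N →₀ A) (s.lTensor M z) = 0 := by
    intro i
    have comm : (u i).rTensor (N →₀ A) ∘ₗ s.lTensor M = s.lTensor (M' i) ∘ₗ (u i).rTensor N := by
      apply TensorProduct.ext'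
      intro m n
      simp
    have h1 := congrArg (fun φ => φ z) comm
    simp only [LinearMap.comp_apply] at h1
    rw [h1, LinearMap.mem_ker.mp (hz i), map_zero]
  have hz'0 : s.lTensor M z = 0 := by
    apply (TensorProduct.finsuppScalarRight A A M N).injective
    rw [map_zero]
    ext n
    rw [TensorProduct.finsuppScalarRight_apply, Finsupp.zero_apply]
    have hmem : TensorProduct.AlgebraTensorModule.rid A A M
        ((Finsupp.lapply n).lTensor M (s.lTensor M z)) ∈ ⨅ i, LinearMap.ker (u i) := by
      rw [Submodule.mem_iInf]; intro i
      rw [LinearMap.mem_ker]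
      have nat : ∀ y : M ⊗[A] (N →₀ A),
          u i (TensorProduct.AlgebraTensorModule.rid A A M ((Finsupp.lapply n).lTensor M y)) =
          TensorProduct.AlgebraTensorModule.rid A A (M' i)
            ((Finsupp.lapply n).lTensor (M' i) ((u i).rTensor (N →₀ A) y)) := by
        intro y
        induction y using TensorProduct.induction_on with
        | zero => simp
        | tmul m p => simp
        | add a b ha hb => simp only [map_add, ha, hb]
      rw [nat, hz' i, map_zero, map_zero]
    rw [hu] at hmem
    exact (Submodule.mem_bot A).mp hmem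
  have hz0 : z = (Finsupp.linearCombination A id).lTensor M (s.lTensor M z) := by
    rw [← LinearMap.comp_apply, ← LinearMap.lTensor_comp, hs, LinearMap.lTensor_id,
      LinearMap.id_apply]
  rw [hz0, hz'0, map_zero]

end Groth.Agent.S4878
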