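import Groth.Statements.S4879
import Mathlib
import Groth.Agent.Lib.Helper17.FibOpenSch3

set_option autoImplicit false
universe u
open CategoryTheory AlgebraicGeometry
open EGA43

namespace Groth.Agent.S4879

open CategoryTheory.Limits in
/-- Let f : X ⟶ S be locally of finite presentation, F a quasi-coherent f-flat O_X-module of finite
presentation, U an open subset of X and u : F → j_*j^*F the canonical map (j : U → X), i.e. the
restriction maps Γ(V, F) → Γ(V ∩ U, F). Then u is universally injective relative to S (the analogous
maps for the pullback of F to X ×_S S' and the preimage of U are injective for every S' ⟶ S) if and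
only if u_s is injective for every point s of S (the analogous maps for the pullback of F to the
fibre X_s and U_s = U ∩ X_s). -/
theorem result {X S : Scheme.{u}} (f : X ⟶ S)
    [LocallyOfFinitePresentation f] (F : X.Modules) [Coh.IsQCoh F] (hF : CohB1.IsFP F)
    (hflat : FlatMod.IsFlatOver f F) (U : X.Opens) :
    (∀ (S' : Scheme.{u}) (g : S' ⟶ S) (V : (↑(pullback f g) : Scheme.{u}).Opens),
      Function.Injective (((Scheme.Modules.pullback (pullback.fst f g)).obj F).presheaf.map
        (homOfLE (inf_le_left : V ⊓ (pullback.fst f g) ⁻¹ᵁ U ≤ V)).op)) ↔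
    ∀ (s : S) (V : (↑(f.fiber s) : Scheme.{u}).Opens),
      Function.Injective (((Scheme.Modules.pullback (f.fiberι s)).obj F).presheaf.map
        (homOfLE (inf_le_left : V ⊓ (f.fiberι s) ⁻¹ᵁ U ≤ V)).op) := by
  haveI : F.IsQuasicoherent := ‹Coh.IsQCoh F›
  haveI : SheafOfModules.IsFinitePresentation (R := X.ringCatSheaf) F := hF
  constructor
  · intro h s V
    exact h _ (S.fromSpecResidueField s) V
  · intro h S' g V a b hab
    have hfib : ∀ (s : S) (V : (pullback f (S.fromSpecResidueField s)).Opens)
        (t : Γ((Scheme.Modules.pullback (pullback.fst f (S.fromSpecResidueField s))).obj F, V)),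
        ((Scheme.Modules.pullback (pullback.fst f (S.fromSpecResidueField s))).obj F).presheaf.map
          (homOfLE (inf_le_left :
            V ⊓ (pullback.fst f (S.fromSpecResidueField s)) ⁻¹ᵁ U ≤ V)).op t = 0 → t = 0 := by
      intro s V t ht
      exact h s V (ht.trans (map_zero _).symm)
    have h0 := Groth.Agent.Lib.Helper17.FibOpenSch3.resInj_baseChange_of_fibres f F hflat U hfib
      g V (a - b) (by rw [map_sub, hab, sub_self])
    exact sub_eq_zero.1 h0

end Groth.Agent.S4879
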