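import Groth.Statements.S4880
import Groth.Agent.Lib.Helper8.NoethFinite

set_option autoImplicit false
universe u
open CategoryTheory AlgebraicGeometry
open EGA43

namespace Groth.Agent.S4880

/-- For a Noetherian irreducible scheme X the following are equivalent: a) the generic point of X is an
isolated point; b) the underlying set of X is finite; c) X has dimension at most 1 and finitely many
closed points. -/
theorem result (X : Scheme.{u}) [IsNoetherian X]
    [IrreducibleSpace X] :
    [IsOpen ({genericPoint X} : Set X),
      Finite X,
      topologicalKrullDim X ≤ 1 ∧ {x : X | IsClosed ({x} : Set X)}.Finite].TFAE := by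
  have hcl : closure ({genericPoint X} : Set X) = Set.univ := (genericPoint_spec X).def
  have key : IsOpen ({genericPoint X} : Set X) →
      Finite X ∧ ∀ y : X, y ≠ genericPoint X → IsClosed ({y} : Set X) := by
    intro h
    have h' : ({genericPoint X} : Set X) ∩ closure {genericPoint X} = {genericPoint X} := by
      rw [hcl, Set.inter_univ]
    obtain ⟨h1, h2⟩ := Groth.Agent.Lib.Helper8.scheme_key X (genericPoint X) _ h h'
    rw [hcl] at h1 h2
    exact ⟨Set.finite_univ_iff.mp h1, fun y hy => h2 y (Set.mem_univ y) hy⟩
  have dim_le : (∀ y : X, y ≠ genericPoint X → IsClosed ({y} : Set X)) →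
      topologicalKrullDim X ≤ 1 := by
    intro h
    rw [topologicalKrullDim, Order.krullDim_le_one_iff]
    intro Z
    obtain ⟨z, hz⟩ := QuasiSober.sober Z.isIrreducible Z.isClosed
    by_cases hzη : z = genericPoint X
    · right
      intro W _
      have hZu : (Z : Set X) = Set.univ := by rw [← hz.def, hzη, hcl]
      apply SetLike.coe_subset_coe.mp
      rw [hZu]; exact Set.subset_univ _
    · left
      intro W hWZ
      have hZs : (Z : Set X) = {z} := by rw [← hz.def, (h z hzη).closure_eq]
      obtain ⟨w, hw⟩ := W.isIrreducible.nonempty
      have hwz : w = z := by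
        have hwZ : w ∈ (Z : Set X) := SetLike.coe_subset_coe.mpr hWZ hw
        rw [hZs] at hwZ; exact hwZ
      apply SetLike.coe_subset_coe.mp
      rw [hZs, Set.singleton_subset_iff, ← hwz]; exact hw
  tfae_have 1 → 2 := fun h => (key h).1
  tfae_have 2 → 1 := by
    intro hfin
    have hEq : ({genericPoint X} : Set X)ᶜ =
        ⋃ x ∈ {x : X | x ≠ genericPoint X}, closure {x} := by
      ext y
      simp only [Set.mem_compl_iff, Set.mem_singleton_iff, Set.mem_iUnion, Set.mem_setOf_eq,
        exists_prop]
      constructor
      · intro hy; exact ⟨y, hy, subset_closure rfl⟩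
      · rintro ⟨x, hx, hyx⟩ rfl
        have h1 : x ⤳ genericPoint X := specializes_iff_mem_closure.mpr hyx
        have h2 : genericPoint X ⤳ x := (genericPoint_spec X).specializes (Set.mem_univ x)
        exact hx (h1.antisymm h2).eq
    rw [← isClosed_compl_iff, hEq]
    exact Set.Finite.isClosed_biUnion (Set.toFinite _) fun _ _ => isClosed_closure
  tfae_have 1 → 3 := fun h =>
    ⟨dim_le (key h).2, by haveI := (key h).1; exact Set.toFinite _⟩
  tfae_have 3 → 2 := by
    rintro ⟨hdim, hfin⟩
    rw [topologicalKrullDim, Order.krullDim_le_one_iff] at hdim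
    rw [← Set.finite_univ_iff]
    refine (hfin.union (Set.finite_singleton (genericPoint X))).subset ?_
    intro x _
    rcases hdim (⟨closure {x}, isIrreducible_singleton.closure, isClosed_closure⟩ :
      TopologicalSpace.IrreducibleCloseds X) with hmin | hmax
    · left
      obtain ⟨y, hy, hycl⟩ := IsClosed.exists_closed_singleton
        (isClosed_closure (s := ({x} : Set X))) ⟨x, subset_closure rfl⟩
      have hWZ : (⟨{y}, isIrreducible_singleton, hycl⟩ : TopologicalSpace.IrreducibleCloseds X) ≤
          ⟨closure {x}, isIrreducible_singleton.closure, isClosed_closure⟩ :=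
        SetLike.coe_subset_coe.mp (Set.singleton_subset_iff.mpr hy)
      have hZW := hmin hWZ
      have hx : x ∈ ({y} : Set X) := SetLike.coe_subset_coe.mpr hZW (subset_closure rfl)
      rw [Set.mem_singleton_iff] at hx
      show IsClosed {x}
      rw [hx]; exact hycl
    · right
      have hZT : (⟨closure {x}, isIrreducible_singleton.closure, isClosed_closure⟩ :
          TopologicalSpace.IrreducibleCloseds X) ≤
          ⟨Set.univ, IrreducibleSpace.isIrreducible_univ X, isClosed_univ⟩ :=
        SetLike.coe_subset_coe.mp (Set.subset_univ _)
      have hTZ := hmax hZT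
      have hxgen : IsGenericPoint x (⊤ : Set X) :=
        Set.Subset.antisymm (Set.subset_univ _) (SetLike.coe_subset_coe.mpr hTZ)
      exact hxgen.eq (genericPoint_spec X)
  tfae_finish

end Groth.Agent.S4880
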