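import Groth.Statements.S4882
import Mathlib

set_option autoImplicit false
universe u
open EGA43

namespace Groth.Agent.S4882

/-- Let X be a Jacobson space and Z a locally quasi-constructible subset of X, i.e. every point of X has
an open neighbourhood U such that U ∩ Z is a finite union of locally closed subsets of X. Then the
subspace Z is a Jacobson space, and a point of Z is closed in Z if and only if it is closed in X. -/
theorem result {X : Type u} [TopologicalSpace X] [JacobsonSpace X]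
    (Z : Set X)
    (hZ : ∀ x : X, ∃ U : Set X, IsOpen U ∧ x ∈ U ∧
      ∃ T : Set (Set X), T.Finite ∧ (∀ t ∈ T, IsLocallyClosed t) ∧ U ∩ Z = ⋃₀ T) :
    JacobsonSpace ↥Z ∧ ∀ z : ↥Z, IsClosed ({z} : Set ↥Z) ↔ IsClosed ({(z : X)} : Set X) := by
  have hJ := jacobsonSpace_iff_locallyClosed.mp (inferInstance : JacobsonSpace X)
  have hcl : ∀ z : ↥Z, IsClosed ({z} : Set ↥Z) ↔ IsClosed ({(z : X)} : Set X) := by
    intro z
    constructor
    · intro hz
      obtain ⟨U, hU, hzU, T, hT, hTl, hUZ⟩ := hZ z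
      have hzT : (z : X) ∈ ⋃₀ T := hUZ ▸ (⟨hzU, z.2⟩ : (z : X) ∈ U ∩ Z)
      obtain ⟨t, ht, hzt⟩ := hzT
      have htZ : t ⊆ Z := fun a ha =>
        ((hUZ.symm ▸ (⟨t, ht, ha⟩ : a ∈ ⋃₀ T) : a ∈ U ∩ Z)).2
      obtain ⟨C, hC, hCz⟩ := isClosed_induced_iff.mp hz
      have hzC : (z : X) ∈ C := by
        have hm : z ∈ (Subtype.val ⁻¹' C : Set ↥Z) := by rw [hCz]; exact rfl
        exact hm
      have hEq : ({(z : X)} : Set X) = C ∩ t := by
        ext a
        constructor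
        · intro ha
          rw [Set.mem_singleton_iff] at ha
          subst ha
          exact ⟨hzC, hzt⟩
        · rintro ⟨haC, hat⟩
          have hm : (⟨a, htZ hat⟩ : ↥Z) ∈ (Subtype.val ⁻¹' C : Set ↥Z) := haC
          rw [hCz, Set.mem_singleton_iff] at hm
          exact congrArg Subtype.val hm
      have hlc : IsLocallyClosed ({(z : X)} : Set X) :=
        hEq ▸ hC.isLocallyClosed.inter (hTl t ht)
      obtain ⟨w, hw, hwc⟩ := hJ _ (Set.singleton_nonempty _) hlc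
      rw [Set.mem_singleton_iff] at hw
      rw [← hw]
      exact hwc
    · intro hz
      have hEq : ({z} : Set ↥Z) = Subtype.val ⁻¹' {(z : X)} := by
        ext a
        simp only [Set.mem_singleton_iff, Set.mem_preimage]
        exact Subtype.ext_iff
      rw [hEq]; exact hz.preimage continuous_subtype_val
  refine ⟨?_, hcl⟩
  rw [jacobsonSpace_iff_locallyClosed]
  intro S hSne hS
  obtain ⟨s, hs⟩ := hSne
  obtain ⟨U, hU, hsU, T, hT, hTl, hUZ⟩ := hZ s
  have hsT : (s : X) ∈ ⋃₀ T := hUZ ▸ (⟨hsU, s.2⟩ : (s : X) ∈ U ∩ Z)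
  obtain ⟨t, ht, hst⟩ := hsT
  have htZ : t ⊆ Z := fun a ha =>
    ((hUZ.symm ▸ (⟨t, ht, ha⟩ : a ∈ ⋃₀ T) : a ∈ U ∩ Z)).2
  obtain ⟨S', hS', rfl⟩ := (Topology.IsInducing.subtypeVal.isLocallyClosed_iff).mp hS
  obtain ⟨w, ⟨hwS', hwt⟩, hwc⟩ := hJ (S' ∩ t) ⟨s, hs, hst⟩ (hS'.inter (hTl t ht))
  exact ⟨⟨w, htZ hwt⟩, hwS', (hcl ⟨w, htZ hwt⟩).mpr hwc⟩

end Groth.Agent.S4882
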