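import Groth.Statements.S4883
import Groth.Agent.Lib.Helper8.NoethFinite

set_option autoImplicit false
universe u
open CategoryTheory AlgebraicGeometry
open EGA43

namespace Groth.Agent.S4883

/-- Let X be a Noetherian scheme. Then the set of points x of X whose closure is finite is very dense in
X: every nonempty locally closed subset of X contains a point with finite closure. -/
theorem result (X : Scheme.{u}) [IsNoetherian X]
    (Z : Set X) (hZ : IsLocallyClosed Z) (hne : Z.Nonempty) :
    ∃ x ∈ Z, (closure ({x} : Set X)).Finite := by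
  obtain ⟨O, C, hO, hC, rfl⟩ := hZ
  have hSne : {c : TopologicalSpace.Closeds X |
      ∃ z ∈ O ∩ C, c = ⟨closure {z}, isClosed_closure⟩}.Nonempty := by
    obtain ⟨z, hz⟩ := hne
    exact ⟨_, z, hz, rfl⟩
  obtain ⟨c, ⟨x, hx, rfl⟩, hmin⟩ := WellFounded.has_min
    (wellFounded_lt (α := TopologicalSpace.Closeds X)) _ hSne
  refine ⟨x, hx, ?_⟩
  have hO' : O ∩ closure {x} = {x} := by
    apply Set.Subset.antisymm
    · rintro z ⟨hzO, hzx⟩
      have hzC : z ∈ C :=
        (hC.closure_subset_iff.mpr (Set.singleton_subset_iff.mpr hx.2)) hzx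
      have hle : (⟨closure {z}, isClosed_closure⟩ : TopologicalSpace.Closeds X) ≤
          ⟨closure {x}, isClosed_closure⟩ := by
        show closure {z} ⊆ closure {x}
        exact (isClosed_closure.closure_subset_iff).mpr (Set.singleton_subset_iff.mpr hzx)
      have hnlt := hmin _ ⟨z, ⟨hzO, hzC⟩, rfl⟩
      have heq : (⟨closure {z}, isClosed_closure⟩ : TopologicalSpace.Closeds X) =
          ⟨closure {x}, isClosed_closure⟩ := by
        rcases eq_or_lt_of_le hle with h | h
        · exact h
        · exact absurd h hnlt
      have hcc : closure ({z} : Set X) = closure {x} :=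
        congrArg (fun c : TopologicalSpace.Closeds X => (c : Set X)) heq
      exact (inseparable_iff_closure_eq.mpr hcc).eq
    · rintro z rfl; exact ⟨hx.1, subset_closure rfl⟩
  exact (Groth.Agent.Lib.Helper8.scheme_key X x O hO hO').1

end Groth.Agent.S4883
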