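-- Statement S4885 (row 4884). The statement below is byte-identical to the frozen
-- statement EGA43.GrothFrozen.S4885 (Groth/Statements/S4885.lean; the theorem EGA43.exists_directedColimit_finite_finitePresentation_of_finite).
import Groth.Statements.S4885
import Mathlib

set_option autoImplicit false
universe u
open EGA43

namespace Groth.Agent.S4885

noncomputable section Aux

variable {A A' : Type u} [CommRing A] [CommRing A'] [Algebra A A'] {n : ℕ}
  (φ : MvPolynomial (Fin n) A →ₐ[A] A') (S₀ : Finset (MvPolynomial (Fin n) A))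

/-- finite sets of relations containing a fixed finite set of relations -/
abbrev Idx : Type u :=
  {S : Finset (MvPolynomial (Fin n) A) // S₀ ⊆ S ∧ ∀ p ∈ S, φ p = 0}

variable {φ S₀}

abbrev idl (S : Idx φ S₀) : Ideal (MvPolynomial (Fin n) A) :=
  Ideal.span ((S.1 : Finset (MvPolynomial (Fin n) A)) : Set (MvPolynomial (Fin n) A))

theorem idl_le_ker (S : Idx φ S₀) (a : MvPolynomial (Fin n) A) (ha : a ∈ idl S) :
    φ.toRingHom a = 0 := by
  have hle : idl S ≤ RingHom.ker φ.toRingHom := by
    rw [Ideal.span_le]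
    intro p hp
    exact S.2.2 p (Finset.mem_coe.mp hp)
  exact hle ha

theorem idl_mono {S T : Idx φ S₀} (h : S ≤ T) : idl S ≤ idl T :=
  Ideal.span_mono (Finset.coe_subset.mpr h)

abbrev Gr (S : Idx φ S₀) : Type u := MvPolynomial (Fin n) A ⧸ idl S

def toA' (S : Idx φ S₀) : Gr S →+* A' :=
  Ideal.Quotient.lift (idl S) φ.toRingHom (idl_le_ker S)

theorem toA'_mk (S : Idx φ S₀) (p : MvPolynomial (Fin n) A) :
    toA' S (Ideal.Quotient.mk (idl S) p) = φ p := rfl

def trans {S T : Idx φ S₀} (h : S ≤ T) : Gr S →ₐ[A] Gr T :=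
  Ideal.Quotient.factorₐ A (idl_mono h)

theorem trans_mk {S T : Idx φ S₀} (h : S ≤ T) (p : MvPolynomial (Fin n) A) :
    trans h (Ideal.Quotient.mk (idl S) p) = Ideal.Quotient.mk (idl T) p := rfl

end Aux

/-- Every finite algebra A' over a commutative ring A is a directed colimit (filtered inductive limit)
of A-algebras which are finite and of finite presentation over A. -/
theorem result (A A' : Type u) [CommRing A] [CommRing A']
    [Algebra A A'] [Module.Finite A A'] :
    ∃ (ι : Type u) (_ : Preorder ι) (G : ι → Type u) (_ : ∀ i, CommRing (G i)) (_ : ∀ i, Algebra A (G i))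
      (g : ∀ i j, i ≤ j → G i →ₐ[A] G j) (_ : ∀ i, Algebra (G i) A') (_ : ∀ i, IsScalarTower A (G i) A'),
      FlatCA.IsDirectedColimitRing G (fun i j h => (g i j h).toRingHom) A' ∧
        ∀ i, Module.Finite A (G i) ∧ Algebra.FinitePresentation A (G i) := by
  classical
  obtain ⟨n, φ, hφ⟩ := Algebra.FiniteType.iff_quotient_mvPolynomial''.mp
    (inferInstance : Algebra.FiniteType A A')
  have hint : ∀ i : Fin n, ∃ p : Polynomial A, p.Monic ∧
      Polynomial.aeval (φ (MvPolynomial.X i)) p = 0 := fun i =>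
    Algebra.IsIntegral.isIntegral (R := A) (φ (MvPolynomial.X i))
  choose P hPm hP0 using hint
  have hQ : ∀ i, φ (Polynomial.aeval (MvPolynomial.X i : MvPolynomial (Fin n) A) (P i)) = 0 :=
    fun i => by rw [← Polynomial.aeval_algHom_apply]; exact hP0 i
  let S₀ : Finset (MvPolynomial (Fin n) A) := Finset.image
    (fun i => Polynomial.aeval (MvPolynomial.X i : MvPolynomial (Fin n) A) (P i)) Finset.univ
  have hS₀ : ∀ p ∈ S₀, φ p = 0 := by
    intro p hp
    obtain ⟨i, _, rfl⟩ := Finset.mem_image.mp hp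
    exact hQ i
  have hS₀mem : ∀ i, Polynomial.aeval (MvPolynomial.X i : MvPolynomial (Fin n) A) (P i) ∈ S₀ :=
    fun i => Finset.mem_image.mpr ⟨i, Finset.mem_univ i, rfl⟩
  refine ⟨Idx φ S₀, inferInstance, fun S => Gr S, fun S => inferInstance, fun S => inferInstance,
    fun S T h => trans h, fun S => (toA' S).toAlgebra, fun S => ?_, ?_, fun S => ⟨?_, ?_⟩⟩
  · let _ := (toA' S).toAlgebra
    refine IsScalarTower.of_algebraMap_eq fun a => ?_
    show algebraMap A A' a = toA' S (algebraMap A (Gr S) a)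
    rw [← Ideal.Quotient.mk_algebraMap, toA'_mk, φ.commutes]
  · unfold FlatCA.IsDirectedColimitRing
    refine ⟨⟨fun S T => ?_⟩, ⟨⟨S₀, subset_rfl, hS₀⟩⟩, fun S => ?_, fun S T U hST hTU => ?_,
      fun S T h => ?_, fun a => ?_, fun S x hx => ?_⟩
    · refine ⟨⟨S.1 ∪ T.1, S.2.1.trans Finset.subset_union_left, ?_⟩, ?_, ?_⟩
      · intro p hp
        rcases Finset.mem_union.mp hp with h | h
        · exact S.2.2 p h
        · exact T.2.2 p h
      · exact (Finset.subset_union_left : S.1 ⊆ S.1 ∪ T.1)
      · exact (Finset.subset_union_right : T.1 ⊆ S.1 ∪ T.1)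
    · refine RingHom.ext fun x => ?_
      obtain ⟨p, rfl⟩ := Ideal.Quotient.mk_surjective x
      rfl
    · refine RingHom.ext fun x => ?_
      obtain ⟨p, rfl⟩ := Ideal.Quotient.mk_surjective x
      rfl
    · refine RingHom.ext fun x => ?_
      obtain ⟨p, rfl⟩ := Ideal.Quotient.mk_surjective x
      rfl
    · obtain ⟨p, rfl⟩ := hφ a
      exact ⟨⟨S₀, subset_rfl, hS₀⟩, Ideal.Quotient.mk _ p, rfl⟩
    · obtain ⟨p, rfl⟩ := Ideal.Quotient.mk_surjective x
      have hp : φ p = 0 := hx
      refine ⟨⟨insert p S.1, S.2.1.trans (Finset.subset_insert _ _), ?_⟩, ?_, ?_⟩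
      · intro q hq
        rcases Finset.mem_insert.mp hq with h | h
        · rw [h]; exact hp
        · exact S.2.2 q h
      · exact (Finset.subset_insert p S.1 : S.1 ⊆ insert p S.1)
      · show trans _ (Ideal.Quotient.mk _ p) = 0
        rw [trans_mk, Ideal.Quotient.eq_zero_iff_mem]
        exact Ideal.subset_span (Finset.mem_coe.mpr (Finset.mem_insert_self p S.1))
  · -- finiteness
    have hintg : ∀ i : Fin n, IsIntegral A
        ((Ideal.Quotient.mkₐ A (idl S)) (MvPolynomial.X i)) := by
      intro i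
      refine ⟨P i, hPm i, ?_⟩
      rw [← Polynomial.aeval_def, Polynomial.aeval_algHom_apply]
      show Ideal.Quotient.mk (idl S) _ = 0
      rw [Ideal.Quotient.eq_zero_iff_mem]
      exact Ideal.subset_span (Finset.mem_coe.mpr (S.2.1 (hS₀mem i)))
    have hadj : Algebra.adjoin A (Set.range fun i : Fin n =>
        (Ideal.Quotient.mkₐ A (idl S)) (MvPolynomial.X i)) = ⊤ := by
      have h1 : (Set.range fun i : Fin n => (Ideal.Quotient.mkₐ A (idl S)) (MvPolynomial.X i)) =
          (Ideal.Quotient.mkₐ A (idl S)) '' Set.range (MvPolynomial.X : Fin n → _) := by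
        rw [← Set.range_comp]; rfl
      rw [h1, ← AlgHom.map_adjoin, MvPolynomial.adjoin_range_X, Algebra.map_top,
        AlgHom.range_eq_top]
      exact Ideal.Quotient.mkₐ_surjective A _
    have hfg := fg_adjoin_of_finite (R := A) (Set.finite_range fun i : Fin n =>
        (Ideal.Quotient.mkₐ A (idl S)) (MvPolynomial.X i))
      (by rintro _ ⟨i, rfl⟩; exact hintg i)
    rw [hadj, Algebra.top_toSubmodule] at hfg
    exact Module.finite_def.mpr hfg
  · exact Algebra.FinitePresentation.quotient ⟨S.1, rfl⟩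

end Groth.Agent.S4885
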