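import Groth.Statements.S4888
-- import your own Groth.Agent.* helpers here
import Mathlib
import Groth.Agent.Lib.Helper12.JacLocalDim

set_option autoImplicit false
universe u
open CategoryTheory AlgebraicGeometry
open EGA43

namespace Groth.Agent.S4888

open Groth.Agent.Lib.Helper12 Groth.Agent.Lib.Helper12.SchemeDimFT
open Groth.Agent.Lib.Helper12.SchemeDimIneq Groth.Agent.Lib.Helper12.OrdTools
open Groth.Agent.Lib.Helper12.JacDim Groth.Agent.Lib.Helper12.JacLocalDim

/-- Let X be a locally Noetherian Jacobson scheme whose local rings are universally catenary and whose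
irreducible components are equidimensional (for every irreducible component X' and closed point x of
X', dim X' equals the dimension of the space of generizations of x in X'); let Y be a closed subset
of X and x a point of Y. Then dim_x(Y) = dim(U ∩ Y) = dim cl{x} + codim(cl{x}, Y) = sup_i dim(Y_i);
that is, the local dimension of Y at x equals the dimension of the closure of x plus the codimension
of that closure in Y (the Krull dimension of the space of generizations of x in Y), equals the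
supremum of the dimensions of the irreducible components Y_i of Y through x, and equals dim(U ∩ Y)
for every open neighbourhood U of x meeting no irreducible component of Y that avoids x. (The
published statement assumes only the Jacobson and universally-catenary conditions; its proof applies
the dimension formula for dense opens to the irreducible components, which needs their
equidimensionality, and for an irreducible Noetherian Jacobson scheme with universally catenary
local rings having two closed points with local rings of different dimensions n − 1 and n — such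
schemes exist — the two sides differ at the first of these points; so equidimensionality of the
components is assumed here.) -/
theorem result (X : Scheme.{u}) [IsLocallyNoetherian X] [JacobsonSpace X]
    (h2 : ∀ x : X, CAlg.IsUniversallyCatenary (X.presheaf.stalk x))
    (h3 : ∀ X' ∈ irreducibleComponents (X : Type u), ∀ x ∈ X', IsClosed ({x} : Set X) →
      topologicalKrullDim (↥X' : Type u) = topologicalKrullDim ↥{t : X | t ∈ X' ∧ t ⤳ x})
    (Y : Set X) (hY : IsClosed Y) (x : X) (hx : x ∈ Y) :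
    FlatMor.localDim ↥Y ⟨x, hx⟩ =
        topologicalKrullDim ↥(closure ({x} : Set X)) + topologicalKrullDim ↥{t : X | t ∈ Y ∧ t ⤳ x} ∧
      FlatMor.localDim ↥Y ⟨x, hx⟩ =
        ⨆ C ∈ {C : Set ↥Y | C ∈ irreducibleComponents ↥Y ∧ (⟨x, hx⟩ : ↥Y) ∈ C}, topologicalKrullDim ↥C ∧
      ∀ U : Set X, IsOpen U → x ∈ U →
        (∀ C ∈ irreducibleComponents ↥Y, (⟨x, hx⟩ : ↥Y) ∉ C → Disjoint (Subtype.val ⁻¹' U) C) →
        topologicalKrullDim ↥(U ∩ Y) = FlatMor.localDim ↥Y ⟨x, hx⟩ := by
  classical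
  haveI : QuasiSober ↥Y := hY.isClosedEmbedding_subtypeVal.quasiSober
  -- description of the components through `x`
  have hcomp : ∀ C : Set ↥Y, C ∈ irreducibleComponents ↥Y → (⟨x, hx⟩ : ↥Y) ∈ C →
      ∃ η ∈ Y, (∀ z ∈ Y, z ⤳ η → z = η) ∧ η ⤳ x ∧
        topologicalKrullDim ↥C = topologicalKrullDim ↥(closure ({η} : Set X)) := by
    intro C hC hxC
    obtain ⟨η', hη', rfl⟩ := (mem_irreducibleComponents_iff_top (T := ↥Y) C).mp hC
    refine ⟨η'.1, η'.2, ?_, ?_, dim_component_eq Y hY η'⟩
    · intro z hz hzη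
      have := hη' ⟨z, hz⟩ ((subtype_specializes_iff (⟨z, hz⟩ : ↥Y) η').mpr hzη)
      exact congrArg Subtype.val this
    · have h1 : η' ⤳ (⟨x, hx⟩ : ↥Y) := specializes_iff_mem_closure.mpr hxC
      exact (subtype_specializes_iff η' ⟨x, hx⟩).mp h1
  have hcomp' : ∀ η : X, ∀ hηY : η ∈ Y, (∀ z ∈ Y, z ⤳ η → z = η) → η ⤳ x →
      topologicalKrullDim ↥(closure ({η} : Set X)) ≤
        ⨆ C ∈ {C : Set ↥Y | C ∈ irreducibleComponents ↥Y ∧ (⟨x, hx⟩ : ↥Y) ∈ C},
          topologicalKrullDim ↥C := by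
    intro η hηY hmax hηx
    have hmax' : ∀ z : ↥Y, z ⤳ (⟨η, hηY⟩ : ↥Y) → z = ⟨η, hηY⟩ := fun z hz =>
      Subtype.ext (hmax z.1 z.2 ((subtype_specializes_iff z ⟨η, hηY⟩).mp hz))
    have hC : closure ({(⟨η, hηY⟩ : ↥Y)} : Set ↥Y) ∈ irreducibleComponents ↥Y :=
      (closure_singleton_mem_irreducibleComponents_iff _).mpr hmax'
    have hxC : (⟨x, hx⟩ : ↥Y) ∈ closure ({(⟨η, hηY⟩ : ↥Y)} : Set ↥Y) :=
      specializes_iff_mem_closure.mp ((subtype_specializes_iff (⟨η, hηY⟩ : ↥Y) ⟨x, hx⟩).mpr hηx)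
    rw [← dim_component_eq Y hY ⟨η, hηY⟩]
    exact le_iSup₂ (f := fun (C : Set ↥Y)
      (_ : C ∈ {C : Set ↥Y | C ∈ irreducibleComponents ↥Y ∧ (⟨x, hx⟩ : ↥Y) ∈ C}) =>
        topologicalKrullDim ↥C) _ ⟨hC, hxC⟩
  -- lower and upper bounds for pieces of `Y`
  have hA : ∀ U : Set X, IsOpen U → x ∈ U →
      (⨆ C ∈ {C : Set ↥Y | C ∈ irreducibleComponents ↥Y ∧ (⟨x, hx⟩ : ↥Y) ∈ C},
        topologicalKrullDim ↥C) ≤ topologicalKrullDim ↥(U ∩ Y) := by
    intro U hU hxU
    refine iSup₂_le fun C hC => ?_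
    obtain ⟨η, hηY, -, hηx, hdim⟩ := hcomp C hC.1 hC.2
    rw [hdim]
    exact dim_closure_le_of_mem_open h2 h3 Y hY U hU η (hηx.mem_open hU hxU) hηY
  have hB : ∀ U : Set X, IsOpen U →
      (∀ η ∈ U ∩ Y, (∀ z ∈ Y, z ⤳ η → z = η) → η ⤳ x) →
      topologicalKrullDim ↥(U ∩ Y) ≤
        ⨆ C ∈ {C : Set ↥Y | C ∈ irreducibleComponents ↥Y ∧ (⟨x, hx⟩ : ↥Y) ∈ C},
          topologicalKrullDim ↥C := by
    intro U hU hmax
    apply dim_inter_le Y hY U hU
    intro η hη hηmax
    exact hcomp' η hη.2 hηmax (hmax η hη hηmax)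
  -- the local dimension
  have hloc : FlatMor.localDim ↥Y ⟨x, hx⟩ =
      ⨆ C ∈ {C : Set ↥Y | C ∈ irreducibleComponents ↥Y ∧ (⟨x, hx⟩ : ↥Y) ∈ C},
        topologicalKrullDim ↥C := by
    unfold FlatMor.localDim
    apply le_antisymm
    · obtain ⟨U, hU, hxU, hUmax⟩ := exists_open_maxPts_specialize_closed Y hY x hx
      refine (iInf_le _ (⟨⟨Subtype.val ⁻¹' U, hU.preimage continuous_subtype_val⟩, hxU⟩ :
        {W : TopologicalSpace.Opens ↥Y // (⟨x, hx⟩ : ↥Y) ∈ W})).trans ?_
      have h1 := dim_open_subspace Y (Subtype.val ⁻¹' U : Set ↥Y) U rfl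
      refine le_trans (le_of_eq ?_) (hB U hU hUmax)
      exact h1
    · refine le_iInf fun W => ?_
      obtain ⟨U', hU', hWU'⟩ := isOpen_induced_iff.mp W.1.2
      have hxU' : x ∈ U' := by
        have : (⟨x, hx⟩ : ↥Y) ∈ Subtype.val ⁻¹' U' := by rw [hWU']; exact W.2
        exact this
      have h1 := dim_open_subspace Y (W.1 : Set ↥Y) U' hWU'
      rw [show topologicalKrullDim ↥(W.1 : Set ↥Y) = topologicalKrullDim ↥(U' ∩ Y) from h1]
      exact hA U' hU' hxU'
  refine ⟨?_, hloc, ?_⟩
  · -- the formula with the generizations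
    rw [hloc]
    haveI := quasiSober_generizations Y hY x
    rw [topologicalKrullDim_eq_krullDim_of_quasiSober {t : X | t ∈ Y ∧ t ⤳ x}]
    apply le_antisymm
    · refine iSup₂_le fun C hC => ?_
      obtain ⟨η, hηY, -, hηx, hdim⟩ := hcomp C hC.1 hC.2
      rw [hdim, dim_closure_add h2 h3 x η hηx]
      refine add_le_add_right ?_ _
      refine Order.krullDim_le_of_strictMono
        (fun z : Set.Icc x η => (⟨z.1, hY.closure_subset_iff.mpr
          (Set.singleton_subset_iff.mpr hηY) (specializes_iff_mem_closure.mp (z.2.2 : η ⤳ z.1)),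
          (z.2.1 : z.1 ⤳ x)⟩ : ↥{t : X | t ∈ Y ∧ t ⤳ x})) ?_
      intro a b hab
      exact hab
    · -- the dimension of the space of generizations is attained
      have hbdd : Order.krullDim ↥{t : X | t ∈ Y ∧ t ⤳ x} ≤
          ((Order.coheight x : ℕ∞) : WithBot ℕ∞) := by
        rw [Order.coheight_eq_krullDim_Ici]
        exact Order.krullDim_le_of_strictMono
          (fun z : ↥{t : X | t ∈ Y ∧ t ⤳ x} => (⟨z.1, (z.2.2 : z.1 ⤳ x)⟩ : Set.Ici x))
          (fun _ _ h => h)
      rw [← ringKrullDim_stalk_eq_coheight] at hbdd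
      have hfin : ringKrullDim (X.presheaf.stalk x) ≠ ⊤ := ringKrullDim_ne_top
      haveI : Nonempty ↥{t : X | t ∈ Y ∧ t ⤳ x} := ⟨⟨x, hx, specializes_rfl⟩⟩
      have hnn : (0 : WithBot ℕ∞) ≤ Order.krullDim ↥{t : X | t ∈ Y ∧ t ⤳ x} :=
        Order.krullDim_nonneg
      obtain ⟨n, hn⟩ : ∃ n : ℕ, Order.krullDim ↥{t : X | t ∈ Y ∧ t ⤳ x} = (n : WithBot ℕ∞) := by
        rcases ProductDim.withBot_enat_cases (Order.krullDim ↥{t : X | t ∈ Y ∧ t ⤳ x})
          with h | h | ⟨m, h⟩
        · rw [h] at hnn; simp at hnn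
        · rw [h] at hbdd; exact absurd (top_le_iff.mp hbdd) hfin
        · exact ⟨m, h⟩
      obtain ⟨l, hl⟩ := (Order.le_krullDim_iff).mp (le_of_eq hn.symm)
      obtain ⟨η, hηY, hηmax, hηt⟩ := exists_max_in_closed Y hY l.last.1 l.last.2.1
      have hηx : η ⤳ x := hηt.trans l.last.2.2
      have h1 := hcomp' η hηY hηmax hηx
      rw [dim_closure_add h2 h3 x η hηx] at h1
      refine le_trans ?_ h1
      rw [hn]
      refine add_le_add_right ?_ _
      let l' : LTSeries (Set.Icc x η) :=
        { length := l.length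
          toFun := fun i => ⟨(l i).1, ((l i).2.2 : (l i).1 ⤳ x),
            le_trans (show (l i).1 ≤ l.last.1 from l.monotone (Fin.le_last i)) hηt⟩
          step := fun i => l.step i }
      have := Order.LTSeries.length_le_krullDim l'
      rw [← hl]
      exact this
  · intro U hU hxU hdisj
    rw [hloc]
    apply le_antisymm
    · apply hB U hU
      rintro η ⟨hηU, hηY⟩ hmax
      have hmax' : ∀ z : ↥Y, z ⤳ (⟨η, hηY⟩ : ↥Y) → z = ⟨η, hηY⟩ := fun z hz =>
        Subtype.ext (hmax z.1 z.2 ((subtype_specializes_iff z ⟨η, hηY⟩).mp hz))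
      have hC : closure ({(⟨η, hηY⟩ : ↥Y)} : Set ↥Y) ∈ irreducibleComponents ↥Y :=
        (closure_singleton_mem_irreducibleComponents_iff _).mpr hmax'
      by_contra hne
      have hxC : (⟨x, hx⟩ : ↥Y) ∉ closure ({(⟨η, hηY⟩ : ↥Y)} : Set ↥Y) := by
        intro h
        apply hne
        exact (subtype_specializes_iff (⟨η, hηY⟩ : ↥Y) ⟨x, hx⟩).mp
          (specializes_iff_mem_closure.mpr h)
      have := hdisj _ hC hxC
      exact Set.disjoint_left.mp this (show (⟨η, hηY⟩ : ↥Y) ∈ Subtype.val ⁻¹' U from hηU)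
        (subset_closure rfl)
    · exact hA U hU hxU

end Groth.Agent.S4888
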