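-- Statement S4891 (row 4890). The statement below is byte-identical to the frozen
-- statement EGA43.GrothFrozen.S4891 (Groth/Statements/S4891.lean; the theorem EGA43.flat_of_flat_and_flat_mod_nilpotent).
import Groth.Statements.S4891
import Groth.Agent.Lib.Helper8.LocalCriterion

set_option autoImplicit false
universe u
open TensorProduct
open EGA43

namespace Groth.Agent.S4891

section Aux

variable {A B : Type u} [CommRing A] [CommRing B] [Algebra A B] (J : Ideal A)
  (M : Type u) [AddCommGroup M] [Module B M] [Module A M] [IsScalarTower A B M]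

/-- `J → JB` -/
noncomputable def toJB : J →+ ↥(J.map (algebraMap A B)) where
  toFun j := ⟨algebraMap A B j.1, Ideal.mem_map_of_mem _ j.2⟩
  map_zero' := by apply Subtype.ext; simp
  map_add' j j' := by apply Subtype.ext; simp

theorem toJB_coe (j : J) : ((toJB (B := B) J j : ↥(J.map (algebraMap A B))) : B) =
    algebraMap A B j.1 := rfl

theorem toJB_smul (a : A) (j : J) :
    toJB (B := B) J (a • j) = algebraMap A B a • toJB (B := B) J j := by
  apply Subtype.ext
  simp [toJB_coe, Algebra.smul_def]

/-- the additive surjection `J ⊗[A] M → JB ⊗[B] M` -/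
noncomputable def sigma : (J ⊗[A] M) →+ (↥(J.map (algebraMap A B)) ⊗[B] M) :=
  TensorProduct.liftAddHom
    (AddMonoidHom.mk'
      (fun j : J => ((TensorProduct.mk B ↥(J.map (algebraMap A B)) M
        (toJB (B := B) J j)) : M →ₗ[B] _).toAddMonoidHom)
      (fun j j' => by
        ext m
        simp [map_add]))
    (fun a j m => by
      show toJB (B := B) J (a • j) ⊗ₜ[B] m = toJB (B := B) J j ⊗ₜ[B] (a • m)
      rw [toJB_smul, TensorProduct.smul_tmul, algebraMap_smul])

theorem sigma_tmul (j : J) (m : M) : sigma J M (j ⊗ₜ[A] m) = toJB (B := B) J j ⊗ₜ[B] m := rfl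

theorem sigma_surjective : Function.Surjective (sigma (B := B) J M) := by
  intro z
  induction z using TensorProduct.induction_on with
  | zero => exact ⟨0, map_zero _⟩
  | add x y hx hy =>
    obtain ⟨x', rfl⟩ := hx
    obtain ⟨y', rfl⟩ := hy
    exact ⟨x' + y', map_add _ _ _⟩
  | tmul x m =>
    obtain ⟨x, hx⟩ := x
    revert m
    refine Submodule.span_induction
      (p := fun b hb => ∀ m : M, ∃ w, sigma (B := B) J M w =
        (⟨b, hb⟩ : ↥(J.map (algebraMap A B))) ⊗ₜ[B] m) ?_ ?_ ?_ ?_ hx
    · rintro _ ⟨j, hj, rfl⟩ m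
      exact ⟨(⟨j, hj⟩ : J) ⊗ₜ[A] m, rfl⟩
    · intro m
      refine ⟨0, ?_⟩
      rw [map_zero]
      exact (TensorProduct.zero_tmul _ m).symm
    · intro b b' hb hb' ihb ihb' m
      obtain ⟨w, hw⟩ := ihb m
      obtain ⟨w', hw'⟩ := ihb' m
      refine ⟨w + w', ?_⟩
      rw [map_add, hw, hw', ← TensorProduct.add_tmul]
      rfl
    · intro c b hb ih m
      obtain ⟨w, hw⟩ := ih (c • m)
      refine ⟨w, ?_⟩
      rw [hw, ← TensorProduct.smul_tmul]
      rfl

theorem lid_rTensor_sigma (w : J ⊗[A] M) :
    TensorProduct.lid B M (((J.map (algebraMap A B)).subtype.rTensor M) (sigma J M w)) =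
      TensorProduct.lid A M ((J.subtype.rTensor M) w) := by
  induction w using TensorProduct.induction_on with
  | zero => simp
  | add x y hx hy => simp only [map_add, hx, hy]
  | tmul j m =>
    rw [sigma_tmul, LinearMap.rTensor_tmul, LinearMap.rTensor_tmul, TensorProduct.lid_tmul,
      TensorProduct.lid_tmul, Submodule.subtype_apply, Submodule.subtype_apply, toJB_coe,
      algebraMap_smul]

theorem injective_rTensor_map (hflat : Module.Flat A M) :
    Function.Injective ((J.map (algebraMap A B)).subtype.rTensor M) := by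
  rw [injective_iff_map_eq_zero]
  intro z hz
  obtain ⟨w, rfl⟩ := sigma_surjective (B := B) J M z
  have h1 := lid_rTensor_sigma (B := B) J M w
  rw [hz, map_zero] at h1
  have h2 : (J.subtype.rTensor M) w = 0 :=
    (TensorProduct.lid A M).injective (by rw [← h1, map_zero])
  have h3 : w = 0 := (injective_iff_map_eq_zero _).mp
    (Module.Flat.rTensor_preserves_injective_linearMap J.subtype (Submodule.subtype_injective J))
    w h2
  rw [h3, map_zero]

end Aux

/-- Let A be a commutative ring, J a nilpotent ideal of A, B a commutative A-algebra and M a B-module.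
If M is flat over A, M/JM is flat over B/JB, B/JB is flat over A/J and mM ≠ M for every maximal
ideal m of B containing JB, then B is flat over A. (Under the first two hypotheses M is also flat
over B; that implication is stated elsewhere and not repeated here.) -/
theorem result {A B : Type u} [CommRing A] [CommRing B] [Algebra A B]
    (J : Ideal A) (hJ : IsNilpotent J) (M : Type u) [AddCommGroup M] [Module B M] [Module A M] [IsScalarTower A B M]
    (hc1 : Module.Flat A M)
    (hc2 : Module.Flat (B ⧸ J.map (algebraMap A B)) ((B ⧸ J.map (algebraMap A B)) ⊗[B] M))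
    (hd1 : Module.Flat (A ⧸ J) ((A ⧸ J) ⊗[A] B))
    (hd2 : ∀ m : Ideal B, m.IsMaximal → J.map (algebraMap A B) ≤ m → (m • (⊤ : Submodule B M)) ≠ ⊤) :
    Module.Flat A B := by
  have hJB : IsNilpotent (J.map (algebraMap A B)) := by
    obtain ⟨n, hn⟩ := hJ
    refine ⟨n, ?_⟩
    rw [← Ideal.map_pow, hn, Ideal.zero_eq_bot, Ideal.map_bot]
    rfl
  have hMB : Module.Flat B M :=
    Groth.Agent.Lib.Helper8.flat_of_isNilpotent _ hJB hc2 (injective_rTensor_map J M hc1)
  have hff : Module.FaithfullyFlat B M := by
    refine ⟨fun m hm => hd2 m hm ?_⟩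
    obtain ⟨n, hn⟩ := hJB
    have := hm.isPrime
    refine Ideal.IsPrime.le_of_pow_le (n := n) ?_
    rw [hn]
    exact bot_le
  rw [Module.Flat.iff_lTensor_injective']
  intro 𝔞
  have h1 : Function.Injective ((𝔞.subtype.baseChange B).lTensor M) :=
    (Groth.Agent.Lib.Helper8.lTensor_baseChange_injective_iff (B := B) (N := M) 𝔞.subtype).mpr
      (Module.Flat.lTensor_preserves_injective_linearMap 𝔞.subtype
        (Submodule.subtype_injective 𝔞))
  have h2 : Function.Injective (𝔞.subtype.baseChange B) :=
    (Module.FaithfullyFlat.lTensor_injective_iff_injective B M _).mp h1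
  exact h2

end Groth.Agent.S4891
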