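import Mathlib
import Groth.Agent.Lib.Helper20.RectDepth5
import Groth.Agent.Lib.Helper9.TopDim
import Groth.Agent.Lib.Helper4.Depth
import Groth.Statements.S4895
-- import your own Groth.Agent.* helpers here

set_option autoImplicit false
universe u
open CategoryTheory AlgebraicGeometry
open EGA43

namespace Groth.Agent.S4895

/-- Let S be a locally Noetherian scheme which is Jacobson and regular and whose irreducible components
are equidimensional (for every irreducible component S' and every closed point s of S', dim S'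
equals the dimension of the space of generizations of s in S'); let g : X ⟶ S be locally of finite
type and F a coherent O_X-module. Then the rectified depth prof*_x(F) = prof(F_x) + dim cl{x} is
lower semicontinuous on X: for every integer n, the set of points x of X with prof(F_x) + dim cl{x}
≥ n is open. -/
theorem result {X S : Scheme.{u}} [IsLocallyNoetherian S] [JacobsonSpace S]
    (hreg : ∀ s : S, IsRegularLocalRing ↑(S.presheaf.stalk s))
    (h3 : ∀ S' ∈ irreducibleComponents (S : Type u), ∀ s ∈ S', IsClosed ({s} : Set S) →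
      topologicalKrullDim (↥S' : Type u) = topologicalKrullDim ↥{t : S | t ∈ S' ∧ t ⤳ s})
    (g : X ⟶ S) [LocallyOfFiniteType g] (F : X.Modules) (hF : Coh.IsCoh F) (n : ℕ) :
    IsOpen {x : X | (n : WithBot ℕ∞) ≤
      ((LocCoh.depth ↑(X.presheaf.stalk x) ↑(F.presheaf.stalk x) : ℕ∞) : WithBot ℕ∞) +
        topologicalKrullDim ↥(closure ({x} : Set X))} := by
  rw [isOpen_iff_forall_mem_open]
  intro x1 hx1
  obtain ⟨O, E, L, hO, hx1O, hL, hform⟩ :=
    Groth.Agent.Lib.Helper20.RectDepth.chart_main hreg h3 g F hF x1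
  refine ⟨O ∩ L (E + 1 - n), ?_, hO.inter (hL _), ⟨hx1O, ?_⟩⟩
  · rintro x ⟨hxO, hxL⟩
    show (n : WithBot ℕ∞) ≤ _
    by_cases hs : x ∈ CohB1.support F
    · obtain ⟨k, e, dl, hk, hdl, hsum, hLm⟩ := (hform x hxO).2 hs
      have h1 : e < E + 1 - n := (hLm _).mp hxL
      rw [hk, hdl]
      have h2 : n ≤ k + dl := by omega
      exact_mod_cast h2
    · have hsub : Subsingleton ↑(F.presheaf.stalk x) := not_not.1 hs
      haveI : IsLocalRing ↑(X.presheaf.stalk x) := inferInstance
      rw [Groth.Agent.Lib.Helper4.depth_eq_top_of_subsingleton]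
      haveI : Nonempty ↥(closure ({x} : Set X)) := ⟨⟨x, subset_closure rfl⟩⟩
      have h0 := Groth.Agent.Lib.Helper9.topologicalKrullDim_nonneg_of_nonempty
        (X := ↥(closure ({x} : Set X)))
      have h1 : (n : WithBot ℕ∞) ≤ ((⊤ : ℕ∞) : WithBot ℕ∞) := by
        exact_mod_cast (le_top : (n : ℕ∞) ≤ ⊤)
      calc (n : WithBot ℕ∞) ≤ ((⊤ : ℕ∞) : WithBot ℕ∞) + 0 := by rw [add_zero]; exact h1
        _ ≤ _ := by gcongr
  · by_cases hs : x1 ∈ CohB1.support F
    · obtain ⟨k, e, dl, hk, hdl, hsum, hLm⟩ := (hform x1 hx1O).2 hs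
      rw [hLm]
      have h1 : (n : WithBot ℕ∞) ≤
          ((LocCoh.depth ↑(X.presheaf.stalk x1) ↑(F.presheaf.stalk x1) : ℕ∞) : WithBot ℕ∞) +
            topologicalKrullDim ↥(closure ({x1} : Set X)) := hx1
      rw [hk, hdl] at h1
      have h2 : n ≤ k + dl := by exact_mod_cast h1
      omega
    · exact (hform x1 hx1O).1 hs _

end Groth.Agent.S4895
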