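import Mathlib
import Groth.Agent.Lib.Helper20.RectDepth5
import Groth.Agent.Lib.Helper9.TopDim
import Groth.Agent.Lib.Helper4.Depth
import Groth.Agent.S4895
import Groth.Statements.S4896
-- import your own Groth.Agent.* helpers here

set_option autoImplicit false
universe u
open CategoryTheory AlgebraicGeometry
open EGA43

namespace Groth.Agent.S4896

/-- Let S be locally Noetherian, Jacobson and regular with equidimensional irreducible components, g : X
⟶ S locally of finite type and F a coherent O_X-module. For every point x of X the rectified depth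
prof*_x(F) = prof(F_x) + dim cl{x} is the unique n (a natural number or ∞) such that, for some open
neighbourhood U of x, prof(F_{x'}) = n for every point x' of U ∩ cl{x} which is closed in U. -/
theorem result {X S : Scheme.{u}} [IsLocallyNoetherian S] [JacobsonSpace S]
    (hreg : ∀ s : S, IsRegularLocalRing ↑(S.presheaf.stalk s))
    (h3 : ∀ S' ∈ irreducibleComponents (S : Type u), ∀ s ∈ S', IsClosed ({s} : Set S) →
      topologicalKrullDim (↥S' : Type u) = topologicalKrullDim ↥{t : S | t ∈ S' ∧ t ⤳ s})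
    (g : X ⟶ S) [LocallyOfFiniteType g] (F : X.Modules) (hF : Coh.IsCoh F) (x : X) :
    letI pstar : WithBot ℕ∞ :=
      ((LocCoh.depth ↑(X.presheaf.stalk x) ↑(F.presheaf.stalk x) : ℕ∞) : WithBot ℕ∞) +
        topologicalKrullDim ↥(closure ({x} : Set X))
    ∀ n : ℕ∞,
      (∃ U : X.Opens, x ∈ U ∧ ∀ x' : ↥U, (x' : X) ∈ closure ({x} : Set X) → IsClosed ({x'} : Set ↥U) →
        LocCoh.depth ↑(X.presheaf.stalk (x' : X)) ↑(F.presheaf.stalk (x' : X)) = n) ↔
      ((n : WithBot ℕ∞) = pstar) := by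
  haveI : IsLocallyNoetherian X := LocallyOfFiniteType.isLocallyNoetherian g
  haveI : JacobsonSpace X := LocallyOfFiniteType.jacobsonSpace g
  have hopen : ∀ m : ℕ, IsOpen {x : X | (m : WithBot ℕ∞) ≤
      ((LocCoh.depth ↑(X.presheaf.stalk x) ↑(F.presheaf.stalk x) : ℕ∞) : WithBot ℕ∞) +
        topologicalKrullDim ↥(closure ({x} : Set X))} :=
    fun m => Groth.Agent.S4895.result hreg h3 g F hF m
  -- closed points have closure of dimension zero
  have hclosed : ∀ x' : X, IsClosed ({x'} : Set X) →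
      topologicalKrullDim ↥(closure ({x'} : Set X)) = 0 := by
    intro x' hx'
    rw [hx'.closure_eq]
    haveI : Nonempty ↥({x'} : Set X) := ⟨⟨x', rfl⟩⟩
    apply le_antisymm
    · exact topologicalKrullDim_zero_of_discreteTopology _
    · exact Groth.Agent.Lib.Helper9.topologicalKrullDim_nonneg_of_nonempty
  have hnonneg : ∀ x' : X, 0 ≤ topologicalKrullDim ↥(closure ({x'} : Set X)) := by
    intro x'
    haveI : Nonempty ↥(closure ({x'} : Set X)) := ⟨⟨x', subset_closure rfl⟩⟩
    exact Groth.Agent.Lib.Helper9.topologicalKrullDim_nonneg_of_nonempty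
  have hex : ∃ n₀ : ℕ∞, ((n₀ : ℕ∞) : WithBot ℕ∞) =
      ((LocCoh.depth ↑(X.presheaf.stalk x) ↑(F.presheaf.stalk x) : ℕ∞) : WithBot ℕ∞) +
        topologicalKrullDim ↥(closure ({x} : Set X)) ∧
      ∃ U₀ : X.Opens, x ∈ U₀ ∧ ∀ x' : X, x' ∈ U₀ → x' ∈ closure ({x} : Set X) →
        IsClosed ({x'} : Set X) →
        LocCoh.depth ↑(X.presheaf.stalk x') ↑(F.presheaf.stalk x') = n₀ := by
    obtain ⟨O, E, L, hO, hxO, hL, hform⟩ :=
      Groth.Agent.Lib.Helper20.RectDepth.chart_main hreg h3 g F hF x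
    by_cases hs : x ∈ CohB1.support F
    · obtain ⟨k, e, dl, hk, hdl, hsum, hLm⟩ := (hform x hxO).2 hs
      refine ⟨((k + dl : ℕ) : ℕ∞), ?_, ⟨_, hopen (k + dl)⟩, ?_, ?_⟩
      · rw [hk, hdl]
        push_cast
        rfl
      · show ((k + dl : ℕ) : WithBot ℕ∞) ≤ _
        rw [hk, hdl]
        push_cast
        exact le_rfl
      · intro x' hx'U hx'cl hx'c
        have h1 : ((k + dl : ℕ) : WithBot ℕ∞) ≤
            ((LocCoh.depth ↑(X.presheaf.stalk x') ↑(F.presheaf.stalk x') : ℕ∞) : WithBot ℕ∞) +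
              topologicalKrullDim ↥(closure ({x'} : Set X)) := hx'U
        rw [hclosed x' hx'c, add_zero] at h1
        have h2 : ¬ ((k + dl + 1 : ℕ) : WithBot ℕ∞) ≤
            ((LocCoh.depth ↑(X.presheaf.stalk x') ↑(F.presheaf.stalk x') : ℕ∞) : WithBot ℕ∞) +
              topologicalKrullDim ↥(closure ({x'} : Set X)) := by
          intro h
          have hsp : x ⤳ x' := specializes_iff_mem_closure.mpr hx'cl
          have hx : ((k + dl + 1 : ℕ) : WithBot ℕ∞) ≤
              ((LocCoh.depth ↑(X.presheaf.stalk x) ↑(F.presheaf.stalk x) : ℕ∞) : WithBot ℕ∞) +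
                topologicalKrullDim ↥(closure ({x} : Set X)) :=
            hsp.mem_open (hopen (k + dl + 1)) h
          rw [hk, hdl] at hx
          have : k + dl + 1 ≤ k + dl := by exact_mod_cast hx
          omega
        rw [hclosed x' hx'c, add_zero] at h2
        generalize LocCoh.depth ↑(X.presheaf.stalk x') ↑(F.presheaf.stalk x') = d at h1 h2
        induction d using ENat.recTopCoe with
        | top =>
          exfalso
          apply h2
          exact_mod_cast (le_top : ((k + dl + 1 : ℕ) : ℕ∞) ≤ ⊤)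
        | coe j =>
          have h1' : k + dl ≤ j := by exact_mod_cast h1
          have h2' : ¬ (k + dl + 1 ≤ j) := by
            intro h
            apply h2
            exact_mod_cast h
          have : j = k + dl := by omega
          rw [this]
    · have hsub : Subsingleton ↑(F.presheaf.stalk x) := not_not.1 hs
      refine ⟨⊤, ?_, ⟨O ∩ L 0, hO.inter (hL 0)⟩, ⟨hxO, (hform x hxO).1 hs 0⟩, ?_⟩
      · rw [Groth.Agent.Lib.Helper4.depth_eq_top_of_subsingleton]
        apply le_antisymm
        · calc ((⊤ : ℕ∞) : WithBot ℕ∞) = ((⊤ : ℕ∞) : WithBot ℕ∞) + 0 := (add_zero _).symm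
            _ ≤ _ := by gcongr; exact hnonneg x
        · exact le_top
      · rintro x' ⟨hx'O, hx'L⟩ - -
        have hns : x' ∉ CohB1.support F := by
          intro hs'
          obtain ⟨k, e, dl, hk, hdl, hsum, hLm⟩ := (hform x' hx'O).2 hs'
          have := (hLm 0).mp hx'L
          omega
        have hsub' : Subsingleton ↑(F.presheaf.stalk x') := not_not.1 hns
        exact Groth.Agent.Lib.Helper4.depth_eq_top_of_subsingleton
  intro n
  constructor
  · rintro ⟨U, hxU, hU⟩
    obtain ⟨n₀, hn₀, U₀, hxU₀, hU₀⟩ := hex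
    obtain ⟨x', ⟨hx'cl, hx'U, hx'U₀⟩, hx'c⟩ := nonempty_inter_closedPoints
      (Z := closure ({x} : Set X) ∩ ((U : Set X) ∩ (U₀ : Set X)))
      ⟨x, subset_closure rfl, hxU, hxU₀⟩
      (isClosed_closure.isLocallyClosed.inter (U.isOpen.inter U₀.isOpen).isLocallyClosed)
    have hx'c' : IsClosed ({x'} : Set X) := hx'c
    have hcU : IsClosed ({(⟨x', hx'U⟩ : ↥U)} : Set ↥U) := by
      have : ({(⟨x', hx'U⟩ : ↥U)} : Set ↥U) = Subtype.val ⁻¹' ({x'} : Set X) := by
        ext w
        simp [Subtype.ext_iff]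
      rw [this]
      exact hx'c'.preimage continuous_subtype_val
    have h1 := hU ⟨x', hx'U⟩ hx'cl hcU
    have h2 := hU₀ x' hx'U₀ hx'cl hx'c'
    rw [← hn₀, ← h1, h2]
  · intro hn
    obtain ⟨n₀, hn₀, U₀, hxU₀, hU₀⟩ := hex
    have hnn : n = n₀ := by exact_mod_cast (hn.trans hn₀.symm)
    subst hnn
    refine ⟨U₀, hxU₀, fun x' hx'cl hx'c => hU₀ x' x'.2 hx'cl ?_⟩
    have hpre := U₀.isOpen.isOpenEmbedding_subtypeVal.preimage_closedPoints
    have h1 : x' ∈ closedPoints { x // x ∈ (U₀ : Set X) } := hx'c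
    rw [← hpre] at h1
    exact h1

end Groth.Agent.S4896
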