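import Groth.Statements.S4901
import Mathlib
import Groth.Agent.Lib.Helper17.StalkInjRel

set_option autoImplicit false
universe u
open CategoryTheory AlgebraicGeometry
open EGA43

namespace Groth.Agent.S4901

open CategoryTheory.Limits in
/-- Let S be the limit of a cofiltered system (S_i) of schemes with affine transition morphisms, i₀ an
index, f₀ : X₀ ⟶ Y₀ a morphism locally of finite presentation of S_{i₀}-schemes, F₀ and G₀
quasi-coherent O_{X₀}-modules of finite presentation and h₀ : F₀ ⟶ G₀ a homomorphism; let f : X ⟶ Y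
and h = q^*h₀ be the base changes to S and x a point of X. Then the stalk map h_x is injective and
Coker h is f-flat at x if and only if there are an index i over i₀ and base changes f_i : X_i ⟶ Y_i,
h_i = p^*h₀ to S_i (pullback squares with the compatible morphisms X ⟶ X_i, Y ⟶ Y_i) such that
(h_i)_{x_i} is injective and Coker h_i is f_i-flat at the image x_i of x. -/
theorem result {I : Type u} [SmallCategory I] [IsCofiltered I]
    (D : I ⥤ Scheme.{u}) (c : Limits.Cone D) (hc : Limits.IsLimit c)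
    [∀ (i j : I) (φ : i ⟶ j), IsAffineHom (D.map φ)] (i₀ : I)
    {X₀ Y₀ : Scheme.{u}} (f₀ : X₀ ⟶ Y₀) (g₀ : Y₀ ⟶ D.obj i₀) [LocallyOfFinitePresentation f₀]
    (F₀ G₀ : X₀.Modules) [Coh.IsQCoh F₀] [Coh.IsQCoh G₀] (hF₀ : CohB1.IsFP F₀) (hG₀ : CohB1.IsFP G₀)
    (h₀ : F₀ ⟶ G₀)
    {X Y : Scheme.{u}} (f : X ⟶ Y) (g : Y ⟶ c.pt) (qY : Y ⟶ Y₀) (qX : X ⟶ X₀)
    (hY : IsPullback qY g g₀ (c.π.app i₀)) (hX : IsPullback qX f f₀ qY) (x : X) :
    (Function.Injective ((TopCat.Presheaf.stalkFunctor Ab x).map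
        (Scheme.Modules.Hom.mapPresheaf ((Scheme.Modules.pullback qX).map h₀))) ∧
      FlatMod.IsFlatOverAt f (cokernel ((Scheme.Modules.pullback qX).map h₀)) x) ↔
      ∃ (i : I) (φ : i ⟶ i₀) (Xi Yi : Scheme.{u}) (fi : Xi ⟶ Yi) (gi : Yi ⟶ D.obj i)
        (pY : Yi ⟶ Y₀) (pX : Xi ⟶ X₀) (vY : Y ⟶ Yi) (vX : X ⟶ Xi),
        IsPullback pY gi g₀ (D.map φ) ∧ IsPullback pX fi f₀ pY ∧
          vY ≫ pY = qY ∧ vY ≫ gi = g ≫ c.π.app i ∧ vX ≫ pX = qX ∧ vX ≫ fi = f ≫ vY ∧
          Function.Injective ((TopCat.Presheaf.stalkFunctor Ab (vX x)).map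
            (Scheme.Modules.Hom.mapPresheaf ((Scheme.Modules.pullback pX).map h₀))) ∧
          FlatMod.IsFlatOverAt fi (cokernel ((Scheme.Modules.pullback pX).map h₀)) (vX x) := by
  haveI : SheafOfModules.IsFinitePresentation (R := X₀.ringCatSheaf) F₀ := hF₀
  haveI : SheafOfModules.IsFinitePresentation (R := X₀.ringCatSheaf) G₀ := hG₀
  constructor
  · intro hP
    obtain ⟨i, φ, vY, vX, h1, h2, h3, h4, h5⟩ :=
      Groth.Agent.Lib.Helper17.StalkInjRel.exists_stage_of_pAt D c hc i₀ f₀ g₀ h₀ f g qY qX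
        hY hX x hP
    exact ⟨i, φ, Limits.pullback f₀ (Limits.pullback.fst g₀ (D.map φ)),
      Limits.pullback g₀ (D.map φ), Limits.pullback.snd f₀ _, Limits.pullback.snd g₀ (D.map φ),
      Limits.pullback.fst g₀ (D.map φ), Limits.pullback.fst f₀ _, vY, vX,
      IsPullback.of_hasPullback g₀ (D.map φ), IsPullback.of_hasPullback f₀ _, h1, h2, h3, h4,
      h5.1, h5.2⟩
  · rintro ⟨i, φ, Xi, Yi, fi, gi, pY, pX, vY, vX, hp1, hp2, hvY1, hvY2, hvX1, hvX2, hinj, hfl⟩
    have hsq : IsPullback vX f fi vY := by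
      refine IsPullback.of_right ?_ hvX2 hp2
      rw [hvX1, hvY1]
      exact hX
    haveI : LocallyOfFinitePresentation fi :=
      MorphismProperty.of_isPullback (P := @LocallyOfFinitePresentation) hp2 inferInstance
    exact Groth.Agent.Lib.Helper17.StalkInjBC.pAt_of_isPullback hsq pX qX hvX1 h₀ x ⟨hinj, hfl⟩

end Groth.Agent.S4901
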