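import Groth.Statements.S4903
import Groth.Agent.Lib.Helper8.QuasiHomeo

set_option autoImplicit false
universe u
open EGA43

namespace Groth.Agent.S4903

open Groth.Agent.Lib.Helper8

theorem preimage_val_eq_iff {X : Type u} (X₀ : Set X) (A B : Set X) :
    (Subtype.val ⁻¹' A : Set ↥X₀) = Subtype.val ⁻¹' B ↔ A ∩ X₀ = B ∩ X₀ := by
  constructor
  · intro h
    ext x
    simp only [Set.mem_inter_iff]
    constructor
    · rintro ⟨hxA, hx0⟩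
      have : (⟨x, hx0⟩ : ↥X₀) ∈ (Subtype.val ⁻¹' A : Set ↥X₀) := hxA
      rw [h] at this
      exact ⟨this, hx0⟩
    · rintro ⟨hxB, hx0⟩
      have : (⟨x, hx0⟩ : ↥X₀) ∈ (Subtype.val ⁻¹' B : Set ↥X₀) := hxB
      rw [← h] at this
      exact ⟨this, hx0⟩
  · intro h
    ext ⟨x, hx0⟩
    simp only [Set.mem_preimage]
    constructor
    · intro hxA
      have : x ∈ A ∩ X₀ := ⟨hxA, hx0⟩
      rw [h] at this
      exact this.1
    · intro hxB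
      have : x ∈ B ∩ X₀ := ⟨hxB, hx0⟩
      rw [← h] at this
      exact this.1

/-- a QC subset of the subspace is the trace of a QC subset. -/
theorem exists_isQC_preimage {X : Type u} [TopologicalSpace X] (X₀ : Set X) (Q₀ : Set ↥X₀)
    (h : IsQC Q₀) : ∃ Q : Set X, IsQC Q ∧ Subtype.val ⁻¹' Q = Q₀ := by
  obtain ⟨T, hT, hTl, rfl⟩ := h
  induction T, hT using Set.Finite.induction_on with
  | empty => exact ⟨∅, IsQC.empty, by simp⟩
  | @insert a s _ _ ih =>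
    obtain ⟨Q, hQ, hQe⟩ := ih fun t ht => hTl t (Set.mem_insert_of_mem a ht)
    obtain ⟨a', ha', hae⟩ := (Topology.IsInducing.subtypeVal.isLocallyClosed_iff).mp
      (hTl a (Set.mem_insert a s))
    refine ⟨a' ∪ Q, (IsQC.of_isLocallyClosed ha').union hQ, ?_⟩
    rw [Set.preimage_union, hae, hQe, Set.sUnion_insert]

theorem last_assertion {X : Type u} [TopologicalSpace X] (X₀ : Set X) (hvd : IsVeryDense X₀)
    (Z₀ : Set ↥X₀) (hZ₀ : IsLQC Z₀) : ∃ Z : Set X, IsLQC Z ∧ Subtype.val ⁻¹' Z = Z₀ := by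
  -- local data
  have hloc : ∀ x : ↥X₀, ∃ (U : Set X) (Q : Set X), IsOpen U ∧ x.1 ∈ U ∧ IsQC Q ∧ Q ⊆ U ∧
      (Subtype.val ⁻¹' Q : Set ↥X₀) = Subtype.val ⁻¹' U ∩ Z₀ := by
    intro x
    obtain ⟨U', hU', hxU', hq⟩ := hZ₀.exists_nhd x
    obtain ⟨U, hU, rfl⟩ := isOpen_induced_iff.mp hU'
    obtain ⟨Q, hQ, hQe⟩ := exists_isQC_preimage X₀ _ hq
    refine ⟨U, Q ∩ U, hU, hxU', hQ.inter (IsQC.of_isLocallyClosed hU.isLocallyClosed),
      Set.inter_subset_right, ?_⟩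
    rw [Set.preimage_inter, hQe]
    ext y
    simp only [Set.mem_inter_iff, Set.mem_preimage]
    tauto
  choose U Q hU hxU hQ hQU hQe using hloc
  have hcover : ∀ p : X, ∃ x : ↥X₀, p ∈ U x := by
    intro p
    by_contra hp
    push_neg at hp
    have hcl : IsClosed (⋃ x, U x)ᶜ := (isOpen_iUnion hU).isClosed_compl
    obtain ⟨w, hwc, hw0⟩ := hvd _ hcl.isLocallyClosed ⟨p, by
      simp only [Set.mem_compl_iff, Set.mem_iUnion, not_exists]; exact hp⟩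
    exact hwc (Set.mem_iUnion.mpr ⟨⟨w, hw0⟩, hxU ⟨w, hw0⟩⟩)
  have hoverlap : ∀ x y : ↥X₀, U x ∩ Q y = U y ∩ Q x := by
    intro x y
    apply hvd.eq_of_isLQC
      ((IsQC.of_isLocallyClosed (hU x).isLocallyClosed).inter (hQ y)).isLQC
      ((IsQC.of_isLocallyClosed (hU y).isLocallyClosed).inter (hQ x)).isLQC
    rw [← preimage_val_eq_iff, Set.preimage_inter, Set.preimage_inter, hQe, hQe]
    ext z
    simp only [Set.mem_inter_iff, Set.mem_preimage]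
    tauto
  refine ⟨⋃ x, Q x, ?_, ?_⟩
  · apply isLQC_of_forall_exists_nhd
    intro p
    obtain ⟨x, hpx⟩ := hcover p
    refine ⟨U x, hU x, hpx, ?_⟩
    have : U x ∩ ⋃ y, Q y = Q x := by
      apply Set.Subset.antisymm
      · rintro z ⟨hzU, hzQ⟩
        obtain ⟨y, hzy⟩ := Set.mem_iUnion.mp hzQ
        have : z ∈ U x ∩ Q y := ⟨hzU, hzy⟩
        rw [hoverlap] at this
        exact this.2
      · intro z hz
        exact ⟨hQU x hz, Set.mem_iUnion.mpr ⟨x, hz⟩⟩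
    rw [this]
    exact hQ x
  · rw [Set.preimage_iUnion]
    ext z
    simp only [Set.mem_iUnion]
    constructor
    · rintro ⟨x, hzx⟩
      have : z ∈ (Subtype.val ⁻¹' Q x : Set ↥X₀) := hzx
      rw [hQe] at this
      exact this.2
    · intro hz
      refine ⟨z, ?_⟩
      have : z ∈ (Subtype.val ⁻¹' U z ∩ Z₀ : Set ↥X₀) := ⟨hxU z, hz⟩
      rw [← hQe] at this
      exact this

theorem result {X : Type u} [TopologicalSpace X] (X₀ : Set X) :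
    [∀ Z : Set X, IsLocallyClosed Z → Z.Nonempty → (Z ∩ X₀).Nonempty,
      ∀ Z : Set X, (∀ x : X, ∃ U : Set X, IsOpen U ∧ x ∈ U ∧ ∃ T : Set (Set X), T.Finite ∧ (∀ t ∈ T, IsLocallyClosed t) ∧ U ∩ Z = ⋃₀ T) → Z.Nonempty → (Z ∩ X₀).Nonempty,
      ∀ Z : Set X, (∀ x : X, ∃ U : Set X, IsOpen U ∧ x ∈ U ∧ ∃ T : Set (Set X), T.Finite ∧ (∀ t ∈ T, IsLocallyClosed t) ∧ U ∩ Z = ⋃₀ T) → Z ⊆ closure (Z ∩ X₀),
      ∀ Z Z' : Set X, (∃ T : Set (Set X), T.Finite ∧ (∀ t ∈ T, IsLocallyClosed t) ∧ Z = ⋃₀ T) → (∃ T : Set (Set X), T.Finite ∧ (∀ t ∈ T, IsLocallyClosed t) ∧ Z' = ⋃₀ T) → Z ∩ X₀ = Z' ∩ X₀ → Z = Z',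
      ∀ Z Z' : Set X, (∀ x : X, ∃ U : Set X, IsOpen U ∧ x ∈ U ∧ ∃ T : Set (Set X), T.Finite ∧ (∀ t ∈ T, IsLocallyClosed t) ∧ U ∩ Z = ⋃₀ T) → (∀ x : X, ∃ U : Set X, IsOpen U ∧ x ∈ U ∧ ∃ T : Set (Set X), T.Finite ∧ (∀ t ∈ T, IsLocallyClosed t) ∧ U ∩ Z' = ⋃₀ T) → Z ∩ X₀ = Z' ∩ X₀ → Z = Z'].TFAE ∧
    ((∀ Z : Set X, IsLocallyClosed Z → Z.Nonempty → (Z ∩ X₀).Nonempty) →
      ∀ Z₀ : Set ↥X₀, (∀ x : ↥X₀, ∃ U : Set ↥X₀, IsOpen U ∧ x ∈ U ∧ ∃ T : Set (Set ↥X₀), T.Finite ∧ (∀ t ∈ T, IsLocallyClosed t) ∧ U ∩ Z₀ = ⋃₀ T) →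
        ∃ Z : Set X, (∀ x : X, ∃ U : Set X, IsOpen U ∧ x ∈ U ∧ ∃ T : Set (Set X), T.Finite ∧ (∀ t ∈ T, IsLocallyClosed t) ∧ U ∩ Z = ⋃₀ T) ∧ Subtype.val ⁻¹' Z = Z₀) := by
  constructor
  · tfae_have 1 → 2 := fun h Z hZ hne => IsVeryDense.inter_nonempty_of_isLQC h hZ hne
    tfae_have 2 → 3 := by
      intro h Z hZ z hz
      rw [mem_closure_iff]
      intro O hO hzO
      have hlqc : IsLQC (O ∩ Z) := (IsLQC.of_isOpen hO).inter hZ
      obtain ⟨w, ⟨hwO, hwZ⟩, hw0⟩ := h (O ∩ Z) hlqc ⟨z, hzO, hz⟩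
      exact ⟨w, hwO, hwZ, hw0⟩
    tfae_have 3 → 1 := by
      intro h Z hZ hne
      have h1 := h Z (IsLQC.of_isLocallyClosed hZ)
      obtain ⟨z, hz⟩ := hne
      have h2 : (closure (Z ∩ X₀)).Nonempty := ⟨z, h1 hz⟩
      exact closure_nonempty_iff.mp h2
    tfae_have 1 → 5 := fun h Z Z' hZ hZ' e => IsVeryDense.eq_of_isLQC h hZ hZ' e
    tfae_have 5 → 4 := fun h Z Z' hZ hZ' e => h Z Z' (IsQC.isLQC hZ) (IsQC.isLQC hZ') e
    tfae_have 4 → 1 := by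
      intro h Z hZ hne
      by_contra hempty
      rw [Set.not_nonempty_iff_eq_empty] at hempty
      have := h Z ∅ (IsQC.of_isLocallyClosed hZ) IsQC.empty (by rw [hempty, Set.empty_inter])
      rw [this] at hne
      exact Set.not_nonempty_empty hne
    tfae_finish
  · intro hvd Z₀ hZ₀
    exact last_assertion X₀ hvd Z₀ hZ₀

end Groth.Agent.S4903
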