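import Mathlib
import Groth.Agent.Lib.Helper20.Biequi1
import Groth.Statements.S4906
-- import your own Groth.Agent.* helpers here

set_option autoImplicit false
universe u
open CategoryTheory AlgebraicGeometry
open EGA43

namespace Groth.Agent.S4906

/-- Let X be a regular biequidimensional scheme — Noetherian, with regular local rings, of finite
dimension, with all irreducible components of dimension dim X and with dim T = dim cl{y} +
codim(cl{y}, T) for every closed irreducible T and point y of T — and F a coherent O_X-module. Then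
for every point x of the support of F one has prof(F_x) + dim cl{x} + proj.dim(F_x) = dim X, that
is, the rectified depth prof*_x(F) equals dim X − proj.dim_{O_{X,x}}(F_x). -/
theorem result (X : Scheme.{u}) [IsNoetherian X]
    (hreg : ∀ x : X, IsRegularLocalRing ↑(X.presheaf.stalk x))
    (hfin : topologicalKrullDim X < ⊤)
    (hcomp : ∀ C ∈ irreducibleComponents (X : Type u), topologicalKrullDim ↥C = topologicalKrullDim X)
    (hchain : ∀ (y : X) (T : Set X), IsClosed T → IsIrreducible T → y ∈ T →
      topologicalKrullDim ↥T = topologicalKrullDim ↥(closure ({y} : Set X)) + topologicalKrullDim ↥{t : X | t ∈ T ∧ t ⤳ y})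
    (F : X.Modules) (hF : Coh.IsCoh F) (x : X) (hx : x ∈ CohB1.support F) :
    ((LocCoh.depth ↑(X.presheaf.stalk x) ↑(F.presheaf.stalk x) : ℕ∞) : WithBot ℕ∞) +
        topologicalKrullDim ↥(closure ({x} : Set X)) +
        projectiveDimension (ModuleCat.of ↑(X.presheaf.stalk x) ↑(F.presheaf.stalk x)) =
      topologicalKrullDim X := by
  haveI : IsRegularLocalRing ↑(X.presheaf.stalk x) := hreg x
  haveI : IsDomain ↑(X.presheaf.stalk x) :=
    Groth.Agent.Lib.Helper9.RegLocal.isDomain_of_isRegularLocalRing _
  have hdim := Groth.Agent.Lib.Helper20.Biequi.dim_eq_add x hcomp hchain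
  obtain ⟨d, hd⟩ := Groth.Agent.Lib.Helper12.FibreMax.exists_nat_ringKrullDim_stalk X x
  haveI : Module.Finite ↑(X.presheaf.stalk x) ↑(F.presheaf.stalk x) :=
    Groth.Agent.Lib.Helper11.QFlat.finite_stalk F hF x
  haveI : Nontrivial ↑(F.presheaf.stalk x) := not_subsingleton_iff_nontrivial.1 hx
  have hpdlt : HasProjectiveDimensionLT
      (ModuleCat.of ↑(X.presheaf.stalk x) ↑(F.presheaf.stalk x)) (d + 1) :=
    Groth.Agent.S0563.result _ d hd _
  have hne_bot : projectiveDimension (ModuleCat.of ↑(X.presheaf.stalk x) ↑(F.presheaf.stalk x)) ≠ ⊥ := by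
    rw [Ne, projectiveDimension_eq_bot_iff]
    intro hz
    haveI : Subsingleton ↑(F.presheaf.stalk x) := ModuleCat.subsingleton_of_isZero hz
    exact not_subsingleton _ ‹_›
  have hlt : projectiveDimension (ModuleCat.of ↑(X.presheaf.stalk x) ↑(F.presheaf.stalk x)) <
      ((d + 1 : ℕ) : WithBot ℕ∞) := projectiveDimension_lt_iff.2 hpdlt
  obtain ⟨e, he⟩ : ∃ e : ℕ, projectiveDimension
      (ModuleCat.of ↑(X.presheaf.stalk x) ↑(F.presheaf.stalk x)) = e := by
    rcases Groth.Agent.Lib.Helper12.ProductDim.withBot_enat_cases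
      (projectiveDimension (ModuleCat.of ↑(X.presheaf.stalk x) ↑(F.presheaf.stalk x))) with h | h | ⟨m, h⟩
    · exact absurd h hne_bot
    · rw [h] at hlt
      exact absurd hlt (by simp)
    · exact ⟨m, h⟩
  have hAB := Groth.Agent.S0604.result ↑(X.presheaf.stalk x) ↑(F.presheaf.stalk x) e he
  have hreg' := Groth.Agent.Lib.Helper4.RegCM.depth_eq_ringKrullDim (R := ↑(X.presheaf.stalk x))
  rw [he, hdim, ← hreg', hAB]
  push_cast
  abel

end Groth.Agent.S4906
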