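import Mathlib
import Groth.Agent.Lib.Helper20.Biequi3
import Groth.Agent.Lib.Helper20.Biequi4
import Groth.Agent.S4906
import Groth.Agent.Lib.Helper9.TopDim
import Groth.Agent.Lib.Helper4.Depth
import Groth.Statements.S4907
-- import your own Groth.Agent.* helpers here

set_option autoImplicit false
universe u
open CategoryTheory AlgebraicGeometry
open EGA43

namespace Groth.Agent.S4907

/-- Let X be a regular biequidimensional scheme (Noetherian, regular local rings, finite dimension, all
irreducible components of dimension dim X, and dim T = dim cl{y} + codim(cl{y}, T) for every closed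
irreducible T and point y of T) and F a coherent O_X-module. Then the rectified depth x ↦ prof(F_x)
+ dim cl{x} is lower semicontinuous: for every integer n the set of x with prof(F_x) + dim cl{x} ≥ n
is open. -/
theorem result (X : Scheme.{u}) [IsNoetherian X]
    (hreg : ∀ x : X, IsRegularLocalRing ↑(X.presheaf.stalk x))
    (hfin : topologicalKrullDim X < ⊤)
    (hcomp : ∀ C ∈ irreducibleComponents (X : Type u), topologicalKrullDim ↥C = topologicalKrullDim X)
    (hchain : ∀ (y : X) (T : Set X), IsClosed T → IsIrreducible T → y ∈ T →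
      topologicalKrullDim ↥T = topologicalKrullDim ↥(closure ({y} : Set X)) + topologicalKrullDim ↥{t : X | t ∈ T ∧ t ⤳ y})
    (F : X.Modules) (hF : Coh.IsCoh F) (n : ℕ) :
    IsOpen {x : X | (n : WithBot ℕ∞) ≤
      ((LocCoh.depth ↑(X.presheaf.stalk x) ↑(F.presheaf.stalk x) : ℕ∞) : WithBot ℕ∞) +
        topologicalKrullDim ↥(closure ({x} : Set X))} := by
  by_cases hne : Nonempty ↥X
  swap
  · haveI : IsEmpty ↥X := not_nonempty_iff.1 hne
    exact isOpen_discrete _
  obtain ⟨D, hD⟩ : ∃ D : ℕ, topologicalKrullDim X = D := by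
    rcases Groth.Agent.Lib.Helper12.ProductDim.withBot_enat_cases (topologicalKrullDim X) with
      h | h | ⟨m, h⟩
    · have h0 := Groth.Agent.Lib.Helper9.topologicalKrullDim_nonneg_of_nonempty (X := ↥X)
      rw [h] at h0
      simp at h0
    · rw [h] at hfin
      exact absurd hfin (lt_irrefl _)
    · exact ⟨m, h⟩
  have hset : {x : X | (n : WithBot ℕ∞) ≤
      ((LocCoh.depth ↑(X.presheaf.stalk x) ↑(F.presheaf.stalk x) : ℕ∞) : WithBot ℕ∞) +
        topologicalKrullDim ↥(closure ({x} : Set X))} =
      {x : X | Groth.Agent.Lib.Helper20.Biequi.PdLT F x (D + 1 - n)} := by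
    ext x
    simp only [Set.mem_setOf_eq]
    by_cases hx : x ∈ CohB1.support F
    · have h := Groth.Agent.S4906.result X hreg hfin hcomp hchain F hF x hx
      rw [hD] at h
      obtain ⟨s₀, e, hs, he, hse⟩ := Groth.Agent.Lib.Helper20.Biequi.exists_nat_of_add_eq _ _ D h
      obtain ⟨k, c, hk, hc, hkc⟩ := Groth.Agent.Lib.Helper20.Biequi.exists_nat_of_add_eq _ _ s₀ hs
      rw [hk, hc]
      unfold Groth.Agent.Lib.Helper20.Biequi.PdLT
      rw [← projectiveDimension_lt_iff, he]
      constructor
      · intro h1
        have h2 : n ≤ k + c := by exact_mod_cast h1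
        exact_mod_cast (by omega : e < D + 1 - n)
      · intro h1
        have h2 : e < D + 1 - n := by exact_mod_cast h1
        exact_mod_cast (by omega : n ≤ k + c)
    · have hsub : Subsingleton ↑(F.presheaf.stalk x) := not_not.1 hx
      haveI : IsLocalRing ↑(X.presheaf.stalk x) := (hreg x).toIsLocalRing
      constructor
      · intro _
        unfold Groth.Agent.Lib.Helper20.Biequi.PdLT
        have hz : Limits.IsZero (ModuleCat.of ↑(X.presheaf.stalk x) ↑(F.presheaf.stalk x)) :=
          ModuleCat.isZero_of_subsingleton _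
        haveI := hz.hasProjectiveDimensionLT_zero
        exact hasProjectiveDimensionLT_of_ge _ 0 _ (Nat.zero_le _)
      · intro _
        rw [Groth.Agent.Lib.Helper4.depth_eq_top_of_subsingleton]
        haveI : Nonempty ↥(closure ({x} : Set X)) := ⟨⟨x, subset_closure rfl⟩⟩
        have h0 := Groth.Agent.Lib.Helper9.topologicalKrullDim_nonneg_of_nonempty
          (X := ↥(closure ({x} : Set X)))
        have h1 : (n : WithBot ℕ∞) ≤ ((⊤ : ℕ∞) : WithBot ℕ∞) := by
          exact_mod_cast (le_top : (n : ℕ∞) ≤ ⊤)
        calc (n : WithBot ℕ∞) ≤ ((⊤ : ℕ∞) : WithBot ℕ∞) + 0 := by rw [add_zero]; exact h1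
          _ ≤ _ := by gcongr
  rw [hset]
  exact Groth.Agent.Lib.Helper20.Biequi.isOpen_pdLT F hF _

end Groth.Agent.S4907
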