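import Groth.Statements.S4914
import Mathlib

set_option autoImplicit false
universe u v w
open CategoryTheory AlgebraicGeometry
open EGA43

namespace Groth.Agent.S4914

/-- Let ψ : X → Y be a continuous map, x a point of X, and (Y_i) a locally finite covering of Y by
closed subsets. If for every index i with ψ x ∈ Y_i the restriction ψ⁻¹(Y_i) → Y_i of ψ is open at
x, then ψ is open at x. -/
theorem result {α : Type u} {β : Type v} {ι : Type w} [TopologicalSpace α]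
    [TopologicalSpace β] (ψ : α → β) (hψ : Continuous ψ) (x : α) (Y : ι → Set β) (hY : LocallyFinite Y)
    (hcl : ∀ i, IsClosed (Y i)) (hcov : ⋃ i, Y i = Set.univ)
    (h : ∀ i, ∀ hi : ψ x ∈ Y i, EGA43.IsOpenAt ((Y i).restrictPreimage ψ) ⟨x, hi⟩) :
    EGA43.IsOpenAt ψ x := by
  classical
  intro U hU
  obtain ⟨W, hW, hfin⟩ := hY (ψ x)
  -- for each i, a neighbourhood of ψ x in β
  have hex : ∀ i, ∃ V : Set β, V ∈ nhds (ψ x) ∧ V ∩ Y i ⊆ ψ '' U := by
    intro i
    by_cases hi : ψ x ∈ Y i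
    · have h1 := h i hi (Subtype.val ⁻¹' U) (continuous_subtype_val.continuousAt hU)
      rw [mem_nhds_subtype] at h1
      obtain ⟨V, hV, hVs⟩ := h1
      refine ⟨V, hV, ?_⟩
      rintro z ⟨hzV, hzY⟩
      obtain ⟨⟨a, ha⟩, haU, hza⟩ := hVs (show (⟨z, hzY⟩ : Y i) ∈ Subtype.val ⁻¹' V from hzV)
      exact ⟨a, haU, congrArg Subtype.val hza⟩
    · refine ⟨(Y i)ᶜ, (hcl i).isOpen_compl.mem_nhds hi, ?_⟩
      rintro z ⟨hz1, hz2⟩
      exact absurd hz2 hz1
  choose V hV hVs using hex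
  have hinter : (⋂ i ∈ hfin.toFinset, V i) ∈ nhds (ψ x) :=
    (Filter.biInter_finset_mem hfin.toFinset).mpr fun i _ => hV i
  refine Filter.mem_of_superset (Filter.inter_mem hW hinter) ?_
  rintro z ⟨hzW, hzV⟩
  have hz : z ∈ ⋃ i, Y i := by rw [hcov]; trivial
  obtain ⟨i, hzi⟩ := Set.mem_iUnion.mp hz
  have hi : i ∈ hfin.toFinset := by
    rw [Set.Finite.mem_toFinset]
    exact ⟨z, hzi, hzW⟩
  have hzVi : z ∈ V i := Set.mem_iInter₂.mp hzV i hi
  exact hVs i ⟨hzVi, hzi⟩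

end Groth.Agent.S4914
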