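import Groth.Statements.S4917
-- import your own Groth.Agent.* helpers here
import Mathlib
import Groth.Agent.Lib.Helper12.EquidimOpen

set_option autoImplicit false
open CategoryTheory AlgebraicGeometry
universe u v w
open EGA43

namespace Groth.Agent.S4917

/-- Assume Y is a locally Noetherian scheme and X is an irreducible scheme, and consider a dominant
morphism f : X ⟶ Y that is locally of finite type. Fix a point x of X and write y = f x. If, for
every irreducible component of the fibre X_y that contains x, the morphism f is open at the generic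
point of that component, then f is equidimensional at x. -/
theorem result {X Y : Scheme.{u}} [IsLocallyNoetherian Y]
    [IrreducibleSpace X] (f : X ⟶ Y) [LocallyOfFiniteType f] [IsDominant f] (x : X)
    (h : ∀ z : ↥(f.fiber (f.base x)), f.asFiber x ∈ closure {z} →
      (∀ z' : ↥(f.fiber (f.base x)), z ∈ closure {z'} → z' = z) →
      EGA43.IsOpenAt f.base ((f.fiberι (f.base x)).base z)) :
    EGA43.IsEquidimAt f x := by
  apply Groth.Agent.Lib.Helper12.EquidimOpen.isEquidimAt_of_isOpenAt_irreducible f x
  intro z hz hzx hzmax
  have hζ : f.fiberι (f x) ((f.fiberHomeo (f x)).symm ⟨z, hz⟩) = z :=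
    f.fiberι_fiberHomeo_symm (f x) ⟨z, hz⟩
  have h1 := h ((f.fiberHomeo (f x)).symm ⟨z, hz⟩) ?_ ?_
  · rw [hζ] at h1; exact h1
  · rw [← specializes_iff_mem_closure]
    apply (f.fiberι (f x)).isEmbedding.isInducing.specializes_iff.mp
    rw [hζ, f.fiberι_asFiber x]
    exact hzx
  · intro z' hz'
    have h2 : z' ⤳ (f.fiberHomeo (f x)).symm ⟨z, hz⟩ := specializes_iff_mem_closure.mpr hz'
    have h3 := h2.map (f.fiberι (f x)).continuous
    rw [hζ] at h3
    have h4 : f (f.fiberι (f x) z') = f z := by
      rw [hz]
      exact Groth.Agent.Lib.Helper12.EquidimSub.apply_fiberι f (f x) z'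
    have h5 := hzmax _ h4 h3
    exact (f.fiberι (f x)).isEmbedding.injective (h5.trans hζ.symm)

end Groth.Agent.S4917
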