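import Groth.Statements.S4918
-- import your own Groth.Agent.* helpers here
import Mathlib
import Groth.Agent.Lib.Helper12.EquidimOpen2

set_option autoImplicit false
open CategoryTheory AlgebraicGeometry
universe u v w
open EGA43

namespace Groth.Agent.S4918

/-- Assume Y is a locally Noetherian scheme and consider a morphism f : X ⟶ Y that is locally of finite
type. Given a point x of X with image y = f x, suppose both local rings O_{X,x} and O_{Y,y} are
equidimensional. Whenever f is open at the generic point of each irreducible component of the fibre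
X_y that contains x, the morphism f is equidimensional at x. -/
theorem result {X Y : Scheme.{u}} [IsLocallyNoetherian Y] (f : X ⟶ Y)
    [LocallyOfFiniteType f] (x : X) (hX : EGA4.IsEquidim (X.presheaf.stalk x))
    (hY : EGA4.IsEquidim (Y.presheaf.stalk (f.base x)))
    (h : ∀ z : ↥(f.fiber (f.base x)), f.asFiber x ∈ closure {z} →
      (∀ z' : ↥(f.fiber (f.base x)), z ∈ closure {z'} → z' = z) →
      EGA43.IsOpenAt f.base ((f.fiberι (f.base x)).base z)) :
    EGA43.IsEquidimAt f x := by
  apply Groth.Agent.Lib.Helper12.EquidimOpen.isEquidimAt_of_dim_formula f x hX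
  apply Groth.Agent.Lib.Helper12.EquidimOpen.dim_formula_of_isOpenAt f x
  intro z hz hzx hzmax
  have hζ : f.fiberι (f x) ((f.fiberHomeo (f x)).symm ⟨z, hz⟩) = z :=
    f.fiberι_fiberHomeo_symm (f x) ⟨z, hz⟩
  have h1 := h ((f.fiberHomeo (f x)).symm ⟨z, hz⟩) ?_ ?_
  · rw [hζ] at h1; exact h1
  · rw [← specializes_iff_mem_closure]
    apply (f.fiberι (f x)).isEmbedding.isInducing.specializes_iff.mp
    rw [hζ, f.fiberι_asFiber x]
    exact hzx
  · intro z' hz'
    have h2 : z' ⤳ (f.fiberHomeo (f x)).symm ⟨z, hz⟩ := specializes_iff_mem_closure.mpr hz'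
    have h3 := h2.map (f.fiberι (f x)).continuous
    rw [hζ] at h3
    have h4 : f (f.fiberι (f x) z') = f z := by
      rw [hz]
      exact Groth.Agent.Lib.Helper12.EquidimSub.apply_fiberι f (f x) z'
    have h5 := hzmax _ h4 h3
    exact (f.fiberι (f x)).isEmbedding.injective (h5.trans hζ.symm)

end Groth.Agent.S4918
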