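import Groth.Statements.S4919
-- import your own Groth.Agent.* helpers here
import Mathlib
import Groth.Agent.Lib.Helper12.OpenFibre2

set_option autoImplicit false
open CategoryTheory AlgebraicGeometry
universe u v w
open EGA43

namespace Groth.Agent.S4919

/-- Let Y be an irreducible locally Noetherian scheme with generic point η, f : X ⟶ Y a morphism locally
of finite type, y a point of Y and Z an irreducible component of the fibre f⁻¹(y) (a maximal
irreducible subset of f⁻¹(y), with the topology induced from X) such that f is open at the generic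
point ζ of Z. Then there is an irreducible component X' of X containing Z and dominating Y such that
the local dimension of X' ∩ f⁻¹(y) at ζ equals dim Z, and dim Z = dim (X' ∩ f⁻¹(η)). (The published
statement writes the middle term as the dimension of the whole of X' ∩ f⁻¹(y); its proof yields only
the local dimension at the generic point of Z, and the global equality can fail: for the
endomorphism (a, b) ↦ (ab, b² − b) of the affine plane over a field, the fibre over the origin is
the line b = 0 together with the isolated point (0, 1), at which the map is étale, hence open; with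
Z that point, X' is the whole plane, X' ∩ f⁻¹(y) has dimension 1 and dim Z = 0. So the local form is
stated here.) -/
theorem result {X Y : Scheme.{u}} [IrreducibleSpace Y]
    [IsLocallyNoetherian Y] (f : X ⟶ Y) [LocallyOfFiniteType f] (y : Y) (Z : Set X)
    (hZy : Z ⊆ f.base ⁻¹' {y}) (hZ : IsIrreducible Z)
    (hZmax : ∀ Z' : Set X, IsIrreducible Z' → Z' ⊆ f.base ⁻¹' {y} → Z ⊆ Z' → Z' = Z)
    (hopen : ∀ ζ ∈ Z, Z ⊆ closure {ζ} → EGA43.IsOpenAt f.base ζ) :
    ∃ X' ∈ irreducibleComponents (X : Type u), Z ⊆ X' ∧ Dense (f.base '' X') ∧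
      (∀ ζ ∈ Z, Z ⊆ closure {ζ} → ∀ hζ : ζ ∈ X' ∩ f.base ⁻¹' {y},
        FlatMor.localDim ↥(X' ∩ f.base ⁻¹' {y}) ⟨ζ, hζ⟩ = topologicalKrullDim ↥Z) ∧
      topologicalKrullDim ↥Z = topologicalKrullDim ↥(X' ∩ f.base ⁻¹' {genericPoint Y}) := by
  classical
  obtain ⟨ζ, hζZ, hZζ, hfζ, hmax, hdim⟩ :=
    Groth.Agent.Lib.Helper12.OpenFibre.exists_generic_of_fibre_component f y Z hZy hZ hZmax
  subst hfζ
  have hopenζ := hopen ζ hζZ hZζ
  obtain ⟨ξ, hξmax, hξζ, hgen, htrn⟩ :=
    Groth.Agent.Lib.Helper12.OpenFibre.exists_component_of_isOpenAt f ζ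
      (fun z' h1 h2 => hmax z' h1 h2) hopenζ
  have huniq : ∀ ζ' ∈ Z, Z ⊆ closure {ζ'} → ζ' = ζ := by
    intro ζ' hζ' hZζ'
    have h1 : ζ ⤳ ζ' := specializes_iff_mem_closure.mpr (hZζ hζ')
    have h2 : ζ' ⤳ ζ := specializes_iff_mem_closure.mpr (hZζ' hζZ)
    exact (h2.antisymm h1).eq
  refine ⟨closure {ξ}, ?_, ?_, ?_, ?_, ?_⟩
  · exact (Groth.Agent.Lib.Helper12.SchemeDimFT.closure_singleton_mem_irreducibleComponents_iff
      ξ).mpr hξmax
  · exact hZζ.trans (specializes_iff_closure_subset.mp hξζ)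
  · rw [dense_iff_closure_eq, Groth.Agent.Lib.Helper12.EquidimComp.closure_image_closure_singleton',
      hgen]
    exact (genericPoint_spec Y).def
  · intro ζ' hζ' hZζ' hmem
    obtain rfl := huniq ζ' hζ' hZζ'
    obtain ⟨w, hw⟩ := Groth.Agent.Lib.Helper12.ClosedSub.exists_clSubι_eq (X := X) (ξ := ξ) ζ' hξζ
    have h1 := Groth.Agent.Lib.Helper12.EquidimSub.localDim_inter_fibre_eq
      (Groth.Agent.Lib.Helper12.ClosedSub.clSubι X ξ) f
      (Groth.Agent.Lib.Helper12.ClosedSub.clSubι X ξ).isEmbedding (closure {ξ})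
      (Groth.Agent.Lib.Helper12.ClosedSub.range_clSubι (X := X) (ξ := ξ)) w ζ' hw hmem.1
    rw [h1, Groth.Agent.Lib.Helper12.OpenFibre.fibreDimAt_clSub_of_max f ξ ζ' hξζ
      (fun z' h1 h2 => hmax z' h1 h2) w hw, hdim]
  · rw [hdim, ← htrn, ← hgen]
    exact (Groth.Agent.Lib.Helper12.EquidimComp.dim_generic_fibre_closure f ξ).symm

end Groth.Agent.S4919
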