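import Groth.Statements.S4920
-- import your own Groth.Agent.* helpers here
import Mathlib
import Groth.Agent.Lib.Helper12.OpenFibre2
import Groth.Agent.Lib.Helper9.TopDim

set_option autoImplicit false
open CategoryTheory AlgebraicGeometry
universe u v w
open EGA43

namespace Groth.Agent.S4920

/-- Let Y be an irreducible locally Noetherian scheme with generic point η, f : X ⟶ Y a morphism locally
of finite type and y a point of Y such that f is open at every point of the fibre over y. For z in Y
write E(z) for the set of dimensions of the irreducible components of the fibre X_z. Then E(y) ⊆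
E(η), and consequently dim X_y ≤ dim X_η. -/
theorem result {X Y : Scheme.{u}} [IrreducibleSpace Y] [IsLocallyNoetherian Y]
    (f : X ⟶ Y) [LocallyOfFiniteType f] (y : Y) (h : ∀ x : X, f.base x = y → EGA43.IsOpenAt f.base x) :
    letI E : Y → Set (WithBot ℕ∞) := fun z =>
      (fun Z : Set ↥(f.fiber z) => topologicalKrullDim ↥Z) '' irreducibleComponents ↥(f.fiber z)
    E y ⊆ E (genericPoint Y) ∧
      topologicalKrullDim ↥(f.fiber y) ≤ topologicalKrullDim ↥(f.fiber (genericPoint Y)) := by
  classical
  have key : ∀ C ∈ irreducibleComponents ↥(f.fiber y),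
      ∃ C' ∈ irreducibleComponents ↥(f.fiber (genericPoint Y)),
        topologicalKrullDim ↥C' = topologicalKrullDim ↥C := by
    intro C hC
    obtain ⟨ζF, hCeq, hfζ, hmax, hdim⟩ :=
      Groth.Agent.Lib.Helper12.OpenFibre.exists_generic_of_mem_irreducibleComponents_fiber f y C hC
    have hopen := h _ hfζ
    obtain ⟨ξ, hξmax, hξζ, hgen, htrn⟩ :=
      Groth.Agent.Lib.Helper12.OpenFibre.exists_component_of_isOpenAt f (f.fiberι y ζF)
        (fun z' h1 h2 => hmax z' (h1.trans hfζ) h2) hopen
    obtain ⟨C', hC', hdim'⟩ :=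
      Groth.Agent.Lib.Helper12.OpenFibre.exists_component_fiber_of_max f ξ (genericPoint Y) hgen
        (fun z' _ h2 => hξmax z' h2)
    exact ⟨C', hC', by rw [hdim', hdim, htrn]⟩
  refine ⟨?_, ?_⟩
  · rintro _ ⟨C, hC, rfl⟩
    obtain ⟨C', hC', hdim⟩ := key C hC
    exact ⟨C', hC', hdim⟩
  · rw [Groth.Agent.Lib.Helper9.topologicalKrullDim_eq_iSup_irreducibleComponents
      (X := ↥(f.fiber y))]
    apply iSup₂_le
    intro C hC
    obtain ⟨C', hC', hdim⟩ := key C hC
    rw [← hdim]
    exact topologicalKrullDim_subspace_le _ _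

end Groth.Agent.S4920
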