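import Groth.Statements.S4921
-- import your own Groth.Agent.* helpers here
import Mathlib
import Groth.Agent.Lib.Helper12.FibreDimConstr

set_option autoImplicit false
open CategoryTheory AlgebraicGeometry
universe u v w
open EGA43

namespace Groth.Agent.S4921

/-- Let Y be a locally Noetherian scheme, f : X ⟶ Y a proper morphism and y a point of Y such that f is
open at every point of the fibre over y. Then the function z ↦ dim X_z is constant on a
neighbourhood of y. -/
theorem result {X Y : Scheme.{u}} [IsLocallyNoetherian Y] (f : X ⟶ Y)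
    [IsProper f] (y : Y) (h : ∀ x : X, f.base x = y → EGA43.IsOpenAt f.base x) :
    ∃ V ∈ nhds y, ∀ z ∈ V, topologicalKrullDim ↥(f.fiber z) = topologicalKrullDim ↥(f.fiber y) := by
  classical
  apply Groth.Agent.Lib.Helper12.FibreDimConstr.dim_fiber_eventually_const f y
  intro z hz
  apply le_antisymm
  · have hcl : IsClosedMap f.base := f.isClosedMap
    obtain ⟨n, hn⟩ := Groth.Agent.Lib.Helper12.FibreDimConstr.exists_dim_fiber_le_pt f z
    rcases Groth.Agent.Lib.Helper12.ProductDim.withBot_enat_cases
      (topologicalKrullDim (f.fiber z)) with hd | hd | ⟨k, hd⟩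
    · rw [hd]; exact bot_le
    · rw [hd] at hn
      exact absurd hn (by
        rw [not_le]
        exact WithBot.coe_lt_coe.mpr (ENat.coe_lt_top n))
    · have h1 := Groth.Agent.Lib.Helper12.ChevalleyCor.isClosed_setOf_le_dim_fiber f hcl k
      have h2 : z ∈ {y : Y | (k : WithBot ℕ∞) ≤ topologicalKrullDim (f.fiber y)} := by
        rw [Set.mem_setOf_eq, hd]
      have h3 := hz.mem_closed h1 h2
      rw [hd]
      exact h3
  · exact Groth.Agent.Lib.Helper12.FibreDimConstr.dim_fiber_le_of_specializes f y z hz h

end Groth.Agent.S4921
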