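import Groth.Statements.S4922
-- import your own Groth.Agent.* helpers here
import Mathlib
import Groth.Agent.Lib.Helper12.FibreDimConstr

set_option autoImplicit false
open CategoryTheory AlgebraicGeometry
universe u v w
open EGA43

namespace Groth.Agent.S4922

/-- Let Y be a locally Noetherian scheme, f : X ⟶ Y an open morphism of finite type and y a point of Y.
If dim X_y = dim X_{η} for the generic point η of every irreducible component of Y containing y,
then z ↦ dim X_z is constant on a neighbourhood of y. -/
theorem result {X Y : Scheme.{u}} [IsLocallyNoetherian Y]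
    (f : X ⟶ Y) [LocallyOfFiniteType f] [QuasiCompact f] (hf : IsOpenMap f.base) (y : Y)
    (h : ∀ η : Y, y ∈ closure {η} → closure {η} ∈ irreducibleComponents (Y : Type u) →
      topologicalKrullDim ↥(f.fiber y) = topologicalKrullDim ↥(f.fiber η)) :
    ∃ V ∈ nhds y, ∀ z ∈ V, topologicalKrullDim ↥(f.fiber z) = topologicalKrullDim ↥(f.fiber y) := by
  classical
  have hopen : ∀ x : X, EGA43.IsOpenAt f.base x := fun x N hN => hf.image_mem_nhds hN
  apply Groth.Agent.Lib.Helper12.FibreDimConstr.dim_fiber_eventually_const f y
  intro z hz
  apply le_antisymm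
  · obtain ⟨η, hη, hηz⟩ := Groth.Agent.Lib.Helper12.SchemeDimIneq.exists_maximal_generization z
    have h1 := Groth.Agent.Lib.Helper12.FibreDimConstr.dim_fiber_le_of_specializes f z η hηz
      (fun x _ => hopen x)
    rw [h η (specializes_iff_mem_closure.mp (hηz.trans hz)) hη]
    exact h1
  · exact Groth.Agent.Lib.Helper12.FibreDimConstr.dim_fiber_le_of_specializes f y z hz
      (fun x _ => hopen x)

end Groth.Agent.S4922
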