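import Groth.Statements.S4923
-- import your own Groth.Agent.* helpers here
import Mathlib
import Groth.Agent.Lib.Helper12.FibreDimsConstr

set_option autoImplicit false
open CategoryTheory AlgebraicGeometry
universe u v w
open EGA43

namespace Groth.Agent.S4923

/-- Let Y be a locally Noetherian scheme, f : X ⟶ Y an open morphism of finite type and y a point of Y;
for z in Y let E(z) be the set of dimensions of the irreducible components of the fibre X_z. If E(y)
= E(η) for the generic point η of every irreducible component of Y containing y, then E is constant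
on a neighbourhood of y. -/
theorem result {X Y : Scheme.{u}}
    [IsLocallyNoetherian Y] (f : X ⟶ Y) [LocallyOfFiniteType f] [QuasiCompact f] (hf : IsOpenMap f.base) (y : Y) :
    letI E : Y → Set (WithBot ℕ∞) := fun z =>
      (fun Z : Set ↥(f.fiber z) => topologicalKrullDim ↥Z) '' irreducibleComponents ↥(f.fiber z)
    (∀ η : Y, y ∈ closure {η} → closure {η} ∈ irreducibleComponents (Y : Type u) → E y = E η) →
      ∃ V ∈ nhds y, ∀ z ∈ V, E z = E y := by
  classical
  intro hE
  set E : Y → Set (WithBot ℕ∞) := fun z =>
      (fun Z : Set ↥(f.fiber z) => topologicalKrullDim ↥Z) '' irreducibleComponents ↥(f.fiber z)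
    with hEdef
  have hopen : ∀ x : X, EGA43.IsOpenAt f.base x := fun x N hN => hf.image_mem_nhds hN
  have hEeq : ∀ z, E z = Groth.Agent.Lib.Helper12.FibreDimConstr.locDims f z := fun z =>
    (Groth.Agent.Lib.Helper12.FibreDimConstr.locDims_eq f z).symm
  have hsub : ∀ a b : Y, b ⤳ a → E a ⊆ E b := by
    rintro a b hba _ ⟨C, hC, rfl⟩
    obtain ⟨C', hC', hdim⟩ :=
      Groth.Agent.Lib.Helper12.FibreDimConstr.exists_component_fiber_of_specializes f a b hba
        (fun x _ => hopen x) C hC
    exact ⟨C', hC', hdim⟩
  have hgen : ∀ z : Y, z ⤳ y → E z = E y := by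
    intro z hz
    apply Set.Subset.antisymm
    · obtain ⟨η, hη, hηz⟩ := Groth.Agent.Lib.Helper12.SchemeDimIneq.exists_maximal_generization z
      rw [hE η (specializes_iff_mem_closure.mp (hηz.trans hz)) hη]
      exact hsub z η hηz
    · exact hsub y z hz
  simp only [hEeq] at hgen ⊢
  exact Groth.Agent.Lib.Helper12.FibreDimConstr.locDims_eventually_const f y hgen

end Groth.Agent.S4923
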