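import Groth.Statements.S4924
-- import your own Groth.Agent.* helpers here
import Mathlib
import Groth.Agent.Lib.Helper12.FibreDimConstr

set_option autoImplicit false
open CategoryTheory AlgebraicGeometry
universe u v w
open EGA43

namespace Groth.Agent.S4924

/-- Let Y be a locally Noetherian scheme, f : X ⟶ Y an open morphism of finite type and y a point of Y.
Then there is an open neighbourhood U of the fibre f⁻¹(y) in X such that the function z ↦ dim (U ∩
f⁻¹(z)) is constant on a neighbourhood of y. -/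
theorem result {X Y : Scheme.{u}} [IsLocallyNoetherian Y]
    (f : X ⟶ Y) [LocallyOfFiniteType f] [QuasiCompact f] (hf : IsOpenMap f.base) (y : Y) :
    ∃ U : X.Opens, f.base ⁻¹' {y} ⊆ (U : Set X) ∧ ∃ V ∈ nhds y, ∀ z ∈ V,
      topologicalKrullDim ↥((U : Set X) ∩ f.base ⁻¹' {z}) = topologicalKrullDim ↥((U : Set X) ∩ f.base ⁻¹' {y}) := by
  classical
  haveI : IsLocallyNoetherian X := LocallyOfFiniteType.isLocallyNoetherian f
  have hopen : ∀ (U : X.Opens) (x : U.toScheme), EGA43.IsOpenAt (U.ι ≫ f).base x := by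
    intro U x N hN
    have h1 : U.ι.base '' N ∈ nhds (U.ι.base x) := (U.ι.isOpenEmbedding.image_mem_nhds).mpr hN
    have h2 := hf.image_mem_nhds h1
    rw [← Set.image_comp] at h2
    exact h2
  have htrans : ∀ (U : X.Opens) (z : Y), topologicalKrullDim ↥((U : Set X) ∩ f.base ⁻¹' {z}) =
      topologicalKrullDim ((U.ι ≫ f).fiber z) := fun U z =>
    Groth.Agent.Lib.Helper12.FourCond.topologicalKrullDim_inter_fibre_eq U.ι f U.ι.isEmbedding
      (U : Set X) (by simp) z
  -- reduce to a statement on the fibres of `U.ι ≫ f`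
  suffices hmain : ∃ U : X.Opens, f.base ⁻¹' {y} ⊆ (U : Set X) ∧
      ∀ z : Y, z ⤳ y → topologicalKrullDim ((U.ι ≫ f).fiber z) =
        topologicalKrullDim ((U.ι ≫ f).fiber y) by
    obtain ⟨U, hU, hconst⟩ := hmain
    refine ⟨U, hU, ?_⟩
    obtain ⟨V, hV, hVc⟩ :=
      Groth.Agent.Lib.Helper12.FibreDimConstr.dim_fiber_eventually_const (U.ι ≫ f) y hconst
    refine ⟨V, hV, fun z hz => ?_⟩
    rw [htrans, htrans]
    exact hVc z hz
  obtain ⟨n, hn⟩ := Groth.Agent.Lib.Helper12.FibreDimConstr.exists_dim_fiber_le_pt f y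
  rcases Groth.Agent.Lib.Helper12.ProductDim.withBot_enat_cases
    (topologicalKrullDim (f.fiber y)) with hd | hd | ⟨k, hd⟩
  · -- empty fibre
    refine ⟨⊥, ?_, ?_⟩
    · intro x hx
      have h1 := (Groth.Agent.Lib.Helper12.ChevalleyCor.zero_le_dim_fiber_iff f y).mpr ⟨x, hx⟩
      rw [hd] at h1
      simp at h1
    · intro z _
      have hb : ∀ z : Y, topologicalKrullDim (((⊥ : X.Opens).ι ≫ f).fiber z) = ⊥ := by
        intro z
        apply le_bot_iff.mp
        rw [Groth.Agent.Lib.Helper12.ChevalleyCor.dim_fiber_le_iff]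
        intro x _
        exact False.elim x.2
      rw [hb, hb]
  · rw [hd] at hn
    exact absurd hn (by
      rw [not_le]
      exact WithBot.coe_lt_coe.mpr (ENat.coe_lt_top n))
  · let U : X.Opens := ⟨{x : X | FlatMor.fibreDimAt f x ≤ k},
      Groth.Agent.Lib.Helper12.Chevalley.isOpen_setOf_fibreDimAt_le f k⟩
    have hyU : f.base ⁻¹' {y} ⊆ (U : Set X) := by
      intro x hx
      exact (Groth.Agent.Lib.Helper12.ChevalleyCor.dim_fiber_le_iff f y k).mp (le_of_eq hd) x hx
    have hle : ∀ z : Y, topologicalKrullDim ((U.ι ≫ f).fiber z) ≤ k := by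
      intro z
      rw [Groth.Agent.Lib.Helper12.ChevalleyCor.dim_fiber_le_iff]
      intro x _
      rw [Groth.Agent.Lib.Helper12.Equidim.fibreDimAt_comp_openImmersion U.ι f x]
      exact x.2
    have hge : (k : WithBot ℕ∞) ≤ topologicalKrullDim ((U.ι ≫ f).fiber y) := by
      rw [← hd, Groth.Agent.Lib.Helper12.ChevalleyCor.dim_fiber_le_iff]
      intro x hx
      have hxU : x ∈ U := hyU hx
      have h1 := Groth.Agent.Lib.Helper12.Equidim.fibreDimAt_comp_openImmersion U.ι f ⟨x, hxU⟩
      have h2 := (Groth.Agent.Lib.Helper12.ChevalleyCor.dim_fiber_le_iff (U.ι ≫ f) y _).mp le_rfl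
        ⟨x, hxU⟩ hx
      rw [h1] at h2
      exact h2
    refine ⟨U, hyU, fun z hz => ?_⟩
    have h3 := Groth.Agent.Lib.Helper12.FibreDimConstr.dim_fiber_le_of_specializes (U.ι ≫ f) y z hz
      (fun x _ => hopen U x)
    exact le_antisymm ((hle z).trans hge) h3

end Groth.Agent.S4924
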