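import Groth.Statements.S4934
import Mathlib
import Groth.Agent.Lib.Helper8.ChevalleyPt

set_option autoImplicit false
open CategoryTheory AlgebraicGeometry
universe u v w
open EGA43

namespace Groth.Agent.S4934

/-- Let Y be a locally Noetherian scheme, f : X ⟶ Y a morphism locally of finite type, x a maximal point
of its fibre X_y, and suppose y = f x is a geometrically unibranch point of Y (so that y lies on
exactly one irreducible component Y₀ of Y, with generic point η). The following are equivalent: a) f
is universally open at x; b) there is an irreducible component Z of X containing x and dominating Y₀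
with dim_x(Z ∩ X_y) = dim(Z ∩ X_η); b') for every open neighbourhood U of x and every generization
y' of y, dim(U ∩ X_{y'}) ≥ dim_x(X_y); c) f is open at x. (The published statement asserts a) ⇔ b) ⇔
b') over an arbitrary base and adds c) for a locally Noetherian one; over the spectrum Y of an
infinite product of copies of a field, the inclusion of a non-open closed point satisfies b) and not
a), and the published proof of b) ⇒ a) uses the openness criterion by lifting of generizations and a
finiteness of irreducible components, both available over a locally Noetherian base, which is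
assumed here throughout.) -/
theorem result {X Y : Scheme.{u}} [IsLocallyNoetherian Y] (f : X ⟶ Y)
    [LocallyOfFiniteType f] (x : X) (hmax : ∀ x' : X, f.base x' = f.base x → x ∈ closure {x'} → x' = x)
    (hy : CAlg2.IsGeomUnibranch (Y.presheaf.stalk (f.base x))) :
    List.TFAE [EGA43.IsUnivOpenAt f x,
      (∀ Y₀ ∈ irreducibleComponents (Y : Type u), f.base x ∈ Y₀ →
        ∃ Z ∈ irreducibleComponents (X : Type u), ∃ hx : x ∈ Z, closure (f.base '' Z) = Y₀ ∧
          ∀ η : Y, closure ({η} : Set Y) = Y₀ →
            FlatMor.localDim ↥(Z ∩ f.base ⁻¹' {f.base x}) ⟨x, ⟨hx, rfl⟩⟩ =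
              topologicalKrullDim ↥(Z ∩ f.base ⁻¹' {η})),
      (∀ U : X.Opens, x ∈ U → ∀ y' : Y, y' ⤳ f.base x →
        FlatMor.fibreDimAt f x ≤ topologicalKrullDim ↥((U : Set X) ∩ f.base ⁻¹' {y'})),
      EGA43.IsOpenAt f.base x] := by
  tfae_have 1 → 3 := fun h U hxU y' hy' =>
    Groth.Agent.Lib.Helper12.UnivOpenDim.le_dim_of_isUnivOpenAt f x hmax h U hxU y' hy'
  tfae_have 3 → 2 := fun h Y₀ hY₀ hxY₀ => by
    obtain ⟨Z, hZ, hx, hcl, hη⟩ :=
      Groth.Agent.Lib.Helper12.UnivOpenDim.exists_component_of_le_dim f x hmax h Y₀ hY₀ hxY₀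
    exact ⟨Z, hZ, hx, hcl, fun η hηY => (hη η hηY).2⟩
  tfae_have 2 → 1 := fun h => by
    obtain ⟨Y₀, hY₀, hxY₀⟩ := exists_mem_irreducibleComponents_subset_of_isIrreducible
      ({f.base x} : Set Y) isIrreducible_singleton
    obtain ⟨Z, hZ, hx, hcl, hη⟩ := h Y₀ hY₀ (hxY₀ rfl)
    exact Groth.Agent.Lib.Helper8.ChevalleyPt.isUnivOpenAt_of_component f x hy Z hZ hx Y₀ hY₀ hcl hη
  tfae_have 1 → 4 := fun h => Groth.Agent.Lib.Helper8.ChevalleyPt.isOpenAt_of_isUnivOpenAt f x h
  tfae_have 4 → 3 := fun h U hxU y' hy' =>
    Groth.Agent.Lib.Helper8.ChevalleyPt.le_dim_of_isOpenAt f x hmax h U hxU y' hy'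
  tfae_finish


end Groth.Agent.S4934
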