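import Groth.Statements.S4935
import Groth.Agent.Lib.Helper8.Unibranch

set_option autoImplicit false
universe u
open EGA43

namespace Groth.Agent.S4935

/-- Let A be a unibranch local domain, B a domain containing A and integral over A, and 𝔫 a prime ideal
of B lying over the maximal ideal of A. Then Spec B_𝔫 → Spec A is surjective: for every prime ideal
𝔭 of A there is a prime ideal 𝔮 ⊆ 𝔫 of B with 𝔮 ∩ A = 𝔭. -/
theorem result {A B : Type u} [CommRing A] [IsDomain A]
    [IsLocalRing A] (hA : CAlg2.IsUnibranch A) [CommRing B] [IsDomain B] [Algebra A B]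
    (hinj : Function.Injective (algebraMap A B)) [Algebra.IsIntegral A B] (n : Ideal B) [n.IsPrime]
    (hn : n.comap (algebraMap A B) = IsLocalRing.maximalIdeal A) (p : Ideal A) [p.IsPrime] :
    ∃ q : Ideal B, q.IsPrime ∧ q ≤ n ∧ q.comap (algebraMap A B) = p := by
  classical
  obtain ⟨hdom, hloc⟩ := hA
  haveI := hdom
  have hnil : nilradical A = ⊥ := nilradical_eq_zero A
  have h0 : ∀ a ∈ nilradical A, algebraMap A B a = 0 := by
    intro a ha
    rw [hnil, Ideal.mem_bot] at ha
    rw [ha, map_zero]
  letI : Algebra (CAlg2.red A) B :=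
    (Ideal.Quotient.lift (nilradical A) (algebraMap A B) h0).toAlgebra
  haveI : IsScalarTower A (CAlg2.red A) B := IsScalarTower.of_algebraMap_eq (fun a => rfl)
  haveI : Algebra.IsIntegral (CAlg2.red A) B :=
    ⟨fun b => (Algebra.IsIntegral.isIntegral (R := A) b).tower_top⟩
  haveI : IsLocalRing (CAlg2.red A) :=
    IsLocalRing.of_surjective' (Ideal.Quotient.mk (nilradical A)) Ideal.Quotient.mk_surjective
  have hcomp : (algebraMap (CAlg2.red A) B).comp (Ideal.Quotient.mk (nilradical A)) =
      algebraMap A B := by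
    ext a; rfl
  have hρinj : Function.Injective (algebraMap (CAlg2.red A) B) := by
    intro x y hxy
    obtain ⟨a, rfl⟩ := Ideal.Quotient.mk_surjective x
    obtain ⟨b, rfl⟩ := Ideal.Quotient.mk_surjective y
    have h1 : algebraMap A B a = algebraMap A B b := hxy
    rw [hinj h1]
  have hmk : Ideal.comap (Ideal.Quotient.mk (nilradical A))
      (IsLocalRing.maximalIdeal (CAlg2.red A)) = IsLocalRing.maximalIdeal A := by
    have hmax : (Ideal.comap (Ideal.Quotient.mk (nilradical A))
        (IsLocalRing.maximalIdeal (CAlg2.red A))).IsMaximal :=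
      Ideal.comap_isMaximal_of_surjective _ Ideal.Quotient.mk_surjective
    exact IsLocalRing.eq_maximalIdeal hmax
  have hn' : n.comap (algebraMap (CAlg2.red A) B) = IsLocalRing.maximalIdeal (CAlg2.red A) := by
    apply Ideal.comap_injective_of_surjective (Ideal.Quotient.mk (nilradical A))
      Ideal.Quotient.mk_surjective
    show Ideal.comap _ (Ideal.comap _ n) = Ideal.comap _ _
    rw [Ideal.comap_comap, hcomp, hmk]
    exact hn
  haveI : (p.map (Ideal.Quotient.mk (nilradical A))).IsPrime :=
    Ideal.map_isPrime_of_surjective Ideal.Quotient.mk_surjective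
      (by rw [Ideal.mk_ker, hnil]; exact bot_le)
  obtain ⟨q, hq1, hq2, hq3⟩ := Groth.Agent.Lib.Helper8.exists_prime_le_of_unibranch
    (R := CAlg2.red A) (S := B) hloc hρinj n hn' (p.map (Ideal.Quotient.mk (nilradical A)))
  refine ⟨q, hq1, hq2, ?_⟩
  have h4 : q.comap (algebraMap A B) =
      (q.comap (algebraMap (CAlg2.red A) B)).comap (Ideal.Quotient.mk (nilradical A)) := by
    rw [Ideal.comap_comap, hcomp]
  rw [h4, hq3, Ideal.comap_map_of_surjective _ Ideal.Quotient.mk_surjective,
    ← RingHom.ker_eq_comap_bot, Ideal.mk_ker, hnil, sup_bot_eq]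

end Groth.Agent.S4935
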