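import Groth.Statements.S4937
import Mathlib
import Groth.Agent.Lib.Helper8.QFOpenAt

set_option autoImplicit false
open CategoryTheory AlgebraicGeometry
universe u v w
open EGA43

namespace Groth.Agent.S4937

/-- Let X and Y be irreducible schemes and f : X ⟶ Y a dominant morphism which is locally of finite
presentation and locally quasi-finite. If x is a point of X whose image y = f x has unibranch local
ring O_{Y,y}, then f is open at x. (Stated for f locally of finite presentation, the class to which
the openness criterion by lifting of generizations used in the published argument applies; the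
published hypothesis is 'locally quasi-finite', which includes locally of finite type.) -/
theorem result {X Y : Scheme.{u}} [IrreducibleSpace X]
    [IrreducibleSpace Y] (f : X ⟶ Y) [LocallyOfFinitePresentation f] [LocallyQuasiFinite f] [IsDominant f]
    (x : X) (hy : CAlg2.IsUnibranch (Y.presheaf.stalk (f.base x))) : EGA43.IsOpenAt f.base x := by
  refine Groth.Agent.Lib.Helper8.QFOpenAt.isOpenAt_of_unibranch f x hy ?_
  intro ξ hξ η' h
  have h1 : ξ = genericPoint X := (hξ (genericPoint X) (genericPoint_specializes ξ)).symm
  have h2 : f ξ ⤳ η' := by
    rw [specializes_iff_mem_closure]
    have h3 : Set.range f ⊆ closure {f ξ} := by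
      rintro _ ⟨z, rfl⟩
      have hz : z ∈ closure {ξ} := by
        rw [h1, genericPoint_closure]; trivial
      have h5 := image_closure_subset_closure_image f.continuous (s := {ξ}) ⟨z, hz, rfl⟩
      rwa [Set.image_singleton] at h5
    have h4 : closure (Set.range f) ⊆ closure {f ξ} := closure_minimal h3 isClosed_closure
    rw [f.denseRange.closure_range] at h4
    exact h4 (Set.mem_univ _)
  exact (h.antisymm h2).eq


end Groth.Agent.S4937
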