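import Groth.Statements.S4943
-- import your own Groth.Agent.* helpers here
import Mathlib
import Groth.Agent.Lib.Helper12.EquidimSub

set_option autoImplicit false
open CategoryTheory AlgebraicGeometry
universe u v w
open EGA43

namespace Groth.Agent.S4943

/-- Let Y be an irreducible locally Noetherian scheme, f : X ⟶ Y a morphism locally of finite type which
is equidimensional at the point x, y = f x and e = dim_x(X_y). Let X' be an irreducible closed
subset of X containing x, with generic point x', and n a natural number such that codim(X', X) ≤ n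
(the codimension being dim O_{X,x'}) and dim_x(X' ∩ X_y) ≤ e − n. Then codim(X', X) = n, dim_x(X' ∩
X_y) = e − n, and the restriction of f to X' with its reduced subscheme structure is equidimensional
at x. -/
theorem result {X Y : Scheme.{u}} [IrreducibleSpace Y]
    [IsLocallyNoetherian Y] (f : X ⟶ Y) [LocallyOfFiniteType f] (x : X) (hf : EGA43.IsEquidimAt f x)
    (X' : TopologicalSpace.Closeds X) (x' : X) (hx' : closure ({x'} : Set X) = (X' : Set X)) (hx : x ∈ X') (n : ℕ)
    (hcodim : ringKrullDim (X.presheaf.stalk x') ≤ n)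
    (hdim : FlatMor.localDim ↥((X' : Set X) ∩ f.base ⁻¹' {f.base x}) ⟨x, ⟨hx, rfl⟩⟩ + n ≤ FlatMor.fibreDimAt f x) :
    ringKrullDim (X.presheaf.stalk x') = n ∧
      FlatMor.localDim ↥((X' : Set X) ∩ f.base ⁻¹' {f.base x}) ⟨x, ⟨hx, rfl⟩⟩ + n = FlatMor.fibreDimAt f x ∧
      ∀ w : ↥(Scheme.IdealSheafData.vanishingIdeal X').subscheme,
        (Scheme.IdealSheafData.vanishingIdeal X').subschemeι.base w = x →
        EGA43.IsEquidimAt ((Scheme.IdealSheafData.vanishingIdeal X').subschemeι ≫ f) w := by
  obtain rfl : X' = ⟨closure {x'}, isClosed_closure⟩ := TopologicalSpace.Closeds.ext hx'.symm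
  have hsp : x' ⤳ x := specializes_iff_mem_closure.mpr hx
  have hLw : ∀ w : Groth.Agent.Lib.Helper12.ClosedSub.clSub X x',
      Groth.Agent.Lib.Helper12.ClosedSub.clSubι X x' w = x →
      FlatMor.fibreDimAt (Groth.Agent.Lib.Helper12.ClosedSub.clSubι X x' ≫ f) w =
        FlatMor.localDim ↥((closure ({x'} : Set X)) ∩ f.base ⁻¹' {f.base x}) ⟨x, ⟨hx, rfl⟩⟩ := by
    intro w hw
    exact (Groth.Agent.Lib.Helper12.EquidimSub.localDim_inter_fibre_eq
      (Groth.Agent.Lib.Helper12.ClosedSub.clSubι X x') f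
      (Groth.Agent.Lib.Helper12.ClosedSub.clSubι X x').isEmbedding (closure {x'})
      (Groth.Agent.Lib.Helper12.ClosedSub.range_clSubι X x') w x hw hx).symm
  obtain ⟨r1, r2, r3, r4⟩ := Groth.Agent.Lib.Helper12.EquidimSub.numeric f x hf x' hsp n hcodim _
    hLw hdim
  refine ⟨r1, r2, ?_⟩
  intro w hw
  obtain ⟨t, ht⟩ := Groth.Agent.Lib.Helper12.SchemeDimIneq.exists_trn_eq f x'
  apply Groth.Agent.Lib.Helper12.EquidimSub.isEquidimAt_clSub f x' t ht r4 w
  rw [hLw w hw, r3, ht]
  rfl

end Groth.Agent.S4943
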