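import Groth.Statements.S4945
import Mathlib
import Groth.Agent.Lib.Helper8.ChevalleyQS
import Groth.Agent.S4938

set_option autoImplicit false
open CategoryTheory AlgebraicGeometry
universe u v w
open EGA43

namespace Groth.Agent.S4945

/-- Let Y be an irreducible locally Noetherian scheme with generic point η, f : X ⟶ Y a morphism locally
of finite type and y a geometrically unibranch point of Y. The following are equivalent: a) f is
universally open at every point of X_y; b) f is open at every point of X_y; c) for every maximal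
point z of X_y there is an irreducible component Z of X containing z and dominating Y with dim_z(Z ∩
X_y) = dim(Z ∩ X_η); d) for every point x closed in X_y there are an irreducible reduced scheme T
and an immersion T ⟶ X with image containing x such that T ⟶ Y is quasi-finite and dominant. -/
theorem result {X Y : Scheme.{u}} [IrreducibleSpace Y]
    [IsLocallyNoetherian Y] (f : X ⟶ Y) [LocallyOfFiniteType f] (y : Y) (hy : CAlg2.IsGeomUnibranch (Y.presheaf.stalk y)) :
    List.TFAE [∀ x : X, f.base x = y → EGA43.IsUnivOpenAt f x,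
      ∀ x : X, f.base x = y → EGA43.IsOpenAt f.base x,
      ∀ z : X, ∀ hzy : f.base z = y, (∀ z' : X, f.base z' = y → z ∈ closure {z'} → z' = z) →
        ∃ Z ∈ irreducibleComponents (X : Type u), ∃ hz : z ∈ Z, Dense (f.base '' Z) ∧
          FlatMor.localDim ↥(Z ∩ f.base ⁻¹' {y}) ⟨z, ⟨hz, hzy⟩⟩ = topologicalKrullDim ↥(Z ∩ f.base ⁻¹' {genericPoint Y}),
      ∀ x : X, f.base x = y → (∀ x' : X, f.base x' = y → x ⤳ x' → x' = x) →
        ∃ (T : Scheme.{u}) (i : T ⟶ X), IsImmersion i ∧ IrreducibleSpace ↥T ∧ IsReduced T ∧ x ∈ Set.range i.base ∧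
        LocallyOfFiniteType (i ≫ f) ∧ LocallyQuasiFinite (i ≫ f) ∧ QuasiCompact (i ≫ f) ∧ IsDominant (i ≫ f)] := by
  have htfae := Groth.Agent.S4938.result f y hy
  have h30 : (∀ x : X, f.base x = y → EGA43.IsOpenAt f.base x) →
      (∀ x : X, f.base x = y → EGA43.IsUnivOpenAt f x) := (htfae.out 3 0).mp
  have h01 : (∀ x : X, f.base x = y → EGA43.IsUnivOpenAt f x) →
      (∀ x : X, f.base x = y → ∀ Y₀ ∈ irreducibleComponents (Y : Type u), y ∈ Y₀ →
        ∃ Z ∈ irreducibleComponents (X : Type u), ∃ hx : x ∈ Z, closure (f.base '' Z) = Y₀ ∧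
          ∀ η : Y, closure ({η} : Set Y) = Y₀ →
            FlatMor.localDim ↥(Z ∩ f.base ⁻¹' {f.base x}) ⟨x, ⟨hx, rfl⟩⟩ =
              topologicalKrullDim ↥(Z ∩ f.base ⁻¹' {η})) := (htfae.out 0 1).mp
  have huniv : (Set.univ : Set Y) ∈ irreducibleComponents (Y : Type u) := by
    rw [irreducibleComponents_eq_singleton]; rfl
  have hgen : closure ({genericPoint Y} : Set Y) = Set.univ := (genericPoint_spec Y).def
  tfae_have 1 → 2 := fun h x hx =>
    Groth.Agent.Lib.Helper8.ChevalleyPt.isOpenAt_of_isUnivOpenAt f x (h x hx)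
  tfae_have 2 → 1 := h30
  tfae_have 1 → 3 := fun h z hzy hzmax => by
    obtain ⟨Z, hZ, hz, hcl, hη⟩ := h01 h z hzy Set.univ huniv (Set.mem_univ y)
    refine ⟨Z, hZ, hz, dense_iff_closure_eq.mpr hcl, ?_⟩
    exact (Groth.Agent.Lib.Helper8.ChevalleyQS.localDim_fibre_congr f Z z hz y hzy).trans
      (hη (genericPoint Y) hgen)
  tfae_have 3 → 1 := fun h x hx => by
    have H : ∀ z : X, f.base z = f.base x →
        (∀ x' : X, f.base x' = f.base z → z ∈ closure {x'} → x' = z) →
        ∀ U : X.Opens, z ∈ U → ∀ η : Y, closure ({η} : Set Y) = Set.univ →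
          FlatMor.fibreDimAt f z ≤ topologicalKrullDim ↥((U : Set X) ∩ f.base ⁻¹' {η}) := by
      intro z hz hzmax U hzU η hη
      have hzy : f.base z = y := hz.trans hx
      obtain ⟨Z, hZ, hzZ, hdense, hdim⟩ :=
        h z hzy (fun z' hz' hcl => hzmax z' (hz'.trans hzy.symm) hcl)
      have huo := Groth.Agent.Lib.Helper8.ChevalleyQS.isUnivOpenAt_of_dense_component f z y hzy hy
        Z hZ hzZ hdense hdim
      exact Groth.Agent.Lib.Helper12.UnivOpenDim.le_dim_of_isUnivOpenAt f z hzmax huo U hzU η (by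
        rw [specializes_iff_mem_closure, hη]; exact Set.mem_univ _)
    obtain ⟨Z, hZ, hxZ, hcl, hη⟩ :=
      Groth.Agent.Lib.Helper8.ChevalleyFibre.exists_component_fibre f x Set.univ huniv
        (Set.mem_univ _) H
    exact Groth.Agent.Lib.Helper8.ChevalleyPt.isUnivOpenAt_of_component f x (by rw [hx]; exact hy)
      Z hZ hxZ Set.univ huniv hcl hη
  tfae_have 1 → 4 := fun h x hx hxcl => by
    obtain ⟨Z, hZ, hxZ, hcl, hη⟩ := h01 h x hx Set.univ huniv (Set.mem_univ y)
    exact Groth.Agent.Lib.Helper8.ChevalleyQS.exists_quasiSection_of_component f x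
      (fun x' hx' hsp => hxcl x' (hx'.trans hx) hsp) Z hZ hxZ Set.univ huniv hcl hη
  tfae_have 4 → 2 := fun h x₀ hx₀ => by
    refine Groth.Agent.Lib.Helper8.ChevalleyQS.isOpenAt_of_quasiSections f x₀
      (by rw [hx₀]; exact hy) ?_
    intro x hfx hxcl
    exact h x (hfx.trans hx₀) (fun x' hx' hsp => hxcl x' (hx'.trans hx₀.symm) hsp)
  tfae_finish


end Groth.Agent.S4945
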