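import Groth.Statements.S4947
import Groth.Agent.Lib.Helper9.OrdVal

set_option autoImplicit false
universe u
open EGA43

namespace Groth.Agent.S4947


section residue

open IsLocalRing Groth.Agent.Lib.Helper9

variable {A : Type u} [CommRing A] [IsLocalRing A] [IsNoetherianRing A] [IsDomain A] {n : ℕ}
  (y : Fin (n + 1) → A) (hspan : Ideal.span (Set.range y) = maximalIdeal A) (hQR : QuasiReg.QR y)
  (H : OrdVal.Hyp (maximalIdeal A)) (hy0 : OrdVal.ExactOrd (maximalIdeal A) 1 (y 0))
  [IsLocalRing (OrdVal.V (maximalIdeal A) H)]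
  [IsLocalHom (algebraMap A (OrdVal.V (maximalIdeal A) H))]

local notation "𝔪" => maximalIdeal A
local notation "K" => FractionRing A
local notation "V" => OrdVal.V (maximalIdeal A) H
local notation "ι" => algebraMap A (FractionRing A)
local notation "κ" => ResidueField (OrdVal.V (maximalIdeal A) H)
local notation "k" => ResidueField A
local notation "resV" => residue (OrdVal.V (maximalIdeal A) H)

include hspan hQR hy0 in
theorem residue_part :
    letI := (ResidueField.map (algebraMap A V)).toAlgebra
    ∃ (ι' : Type u) (t : ι' → κ), AlgebraicIndependent k t ∧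
      IntermediateField.adjoin k (Set.range t) = ⊤ := by
  classical
  letI : Algebra k κ := (ResidueField.map (algebraMap A V)).toAlgebra
  have hφres : ∀ a : A, algebraMap k κ (residue A a) = resV (algebraMap A V a) := fun a => rfl
  have h0 : ι (y 0) ≠ 0 := (map_ne_zero_iff _ (IsFractionRing.injective A K)).mpr hy0.ne_zero
  have hymem : ∀ i, y i ∈ 𝔪 := fun i => by
    rw [← hspan]
    exact Ideal.subset_span ⟨i, rfl⟩
  have hbigτ : ∀ i, OrdVal.Big 𝔪 (ι (y i) / ι (y 0)) := fun i =>
    ⟨1, y i, y 0, by rw [pow_one]; exact hymem i, hy0, div_mul_cancel₀ _ h0⟩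
  let τ : Fin (n + 1) → V := fun i => ⟨ι (y i) / ι (y 0), hbigτ i⟩
  have hτcoe : ∀ i, ((τ i : V) : K) = ι (y i) / ι (y 0) := fun i => rfl
  let t' : Fin n → κ := fun j => resV (τ j.succ)
  obtain ⟨E, hE⟩ : ∃ E : IntermediateField k κ, E = IntermediateField.adjoin k (Set.range t') :=
    ⟨_, rfl⟩
  have hτE : ∀ i, resV (τ i) ∈ E := by
    intro i
    refine Fin.cases ?_ (fun j => ?_) i
    · have h1 : τ 0 = 1 := by
        apply Subtype.ext
        rw [hτcoe, Subalgebra.coe_one, div_self h0]
      rw [h1, map_one]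
      exact E.one_mem
    · rw [hE]
      exact IntermediateField.subset_adjoin k _ ⟨j, rfl⟩
  -- (i) generation
  let W : ℕ → Ideal A := fun m =>
    { carrier := {a | ∃ v : V, (v : K) * ι (y 0) ^ m = ι a ∧ resV v ∈ E}
      add_mem' := by
        rintro a a' ⟨v, hv, hvE⟩ ⟨v', hv', hvE'⟩
        refine ⟨v + v', ?_, ?_⟩
        · rw [Subalgebra.coe_add, add_mul, hv, hv', map_add]
        · rw [map_add]
          exact E.add_mem hvE hvE'
      zero_mem' := ⟨0, by rw [Subalgebra.coe_zero, zero_mul, map_zero], by
        rw [map_zero]; exact E.zero_mem⟩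
      smul_mem' := by
        rintro c a ⟨v, hv, hvE⟩
        refine ⟨algebraMap A V c * v, ?_, ?_⟩
        · rw [Subalgebra.coe_mul, Subalgebra.coe_algebraMap, mul_assoc, hv, smul_eq_mul, map_mul]
        · rw [map_mul, ← hφres]
          exact E.mul_mem (E.algebraMap_mem _) hvE }
  have hWmem : ∀ m (a : A), a ∈ W m ↔ ∃ v : V, (v : K) * ι (y 0) ^ m = ι a ∧ resV v ∈ E :=
    fun m a => Iff.rfl
  have hW : ∀ m, 𝔪 ^ m ≤ W m := by
    intro m
    induction m with
    | zero =>
      intro a _
      rw [hWmem]
      exact ⟨algebraMap A V a, by rw [pow_zero, mul_one, Subalgebra.coe_algebraMap], by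
        rw [← hφres]; exact E.algebraMap_mem _⟩
    | succ m ih =>
      rw [pow_succ', Ideal.mul_le]
      intro r hr s hs
      obtain ⟨v, hv, hvE⟩ := (hWmem m s).mp (ih hs)
      have hgen : ∀ i, y i * s ∈ W (m + 1) := by
        intro i
        rw [hWmem]
        refine ⟨τ i * v, ?_, ?_⟩
        · rw [Subalgebra.coe_mul, hτcoe, map_mul, ← hv, pow_succ]
          field_simp
        · rw [map_mul]
          exact E.mul_mem (hτE i) hvE
      rw [← hspan] at hr
      induction hr using Submodule.span_induction with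
      | mem r hr =>
        obtain ⟨i, rfl⟩ := hr
        exact hgen i
      | zero =>
        rw [zero_mul]
        exact (W (m + 1)).zero_mem
      | add r r' _ _ h1 h2 =>
        rw [add_mul]
        exact (W (m + 1)).add_mem h1 h2
      | smul c r _ h1 =>
        rw [smul_eq_mul, mul_assoc]
        exact (W (m + 1)).mul_mem_left c h1
  have hEtop : E = ⊤ := by
    rw [eq_top_iff]
    intro ξ _
    obtain ⟨z, rfl⟩ := residue_surjective ξ
    obtain ⟨m, a, b, ha, hb, h⟩ := (z.2 : OrdVal.Big 𝔪 (z : K))
    obtain ⟨v, hv, hvE⟩ := (hWmem m a).mp (hW m ha)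
    obtain ⟨w, hw, hwE⟩ := (hWmem m b).mp (hW m hb.1)
    have hzw : z * w = v := by
      apply Subtype.ext
      rw [Subalgebra.coe_mul]
      have h1 : ((z : K) * (w : K)) * ι (y 0) ^ m = (v : K) * ι (y 0) ^ m := by
        rw [mul_assoc, hw, h, hv]
      exact mul_right_cancel₀ (pow_ne_zero m h0) h1
    have hwunit : IsUnit w := by
      rw [OrdVal.isUnit_iff]
      intro hs
      exact hb.2 (OrdVal.wd H hs hb.1 (OrdVal.exactOrd_pow H hy0 m) (by rw [map_pow]; exact hw))
    have hres : resV w ≠ 0 := by
      intro h0'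
      have h1 : w ∈ maximalIdeal V := (residue_eq_zero_iff w).mp h0'
      exact (mem_maximalIdeal w).mp h1 hwunit
    have h2 : resV z = resV v / resV w := by
      rw [eq_div_iff hres, ← map_mul, hzw]
    rw [h2]
    exact E.div_mem hvE hwE
  -- (ii) algebraic independence
  have hAI : AlgebraicIndependent k t' := by
    rw [algebraicIndependent_iff]
    intro p hp
    have hlift : ∀ α : Fin n →₀ ℕ, ∃ c : A, residue A c = p.coeff α :=
      fun α => residue_surjective _
    choose c hc using hlift
    obtain ⟨N, hN⟩ : ∃ N, N = p.totalDegree := ⟨_, rfl⟩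
    have hdeg : ∀ α ∈ p.support, α.degree ≤ N := fun α hα => by
      rw [hN]
      exact MvPolynomial.le_totalDegree hα
    let hh : (Fin n →₀ ℕ) → (Fin (n + 1) →₀ ℕ) := fun α => Finsupp.cons (N - α.degree) α
    have hhinj : Function.Injective hh := by
      intro α β hαβ
      have h1 := congrArg Finsupp.tail hαβ
      rwa [Finsupp.tail_cons, Finsupp.tail_cons] at h1
    have hh0 : ∀ α, hh α 0 = N - α.degree := fun α => by simp [hh]
    have hhs : ∀ α (j : Fin n), hh α j.succ = α j := fun α j => by simp [hh]
    let F : MvPolynomial (Fin (n + 1)) A := ∑ α ∈ p.support, MvPolynomial.monomial (hh α) (c α)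
    have hFhom : F.IsHomogeneous N := by
      apply MvPolynomial.IsHomogeneous.sum
      intro α hα
      apply MvPolynomial.isHomogeneous_monomial
      rw [Finsupp.degree_eq_sum, Fin.sum_univ_succ, hh0]
      simp only [hhs]
      rw [← Finsupp.degree_eq_sum]
      have := hdeg α hα
      omega
    have hFcoeff : ∀ α ∈ p.support, F.coeff (hh α) = c α := by
      intro α hα
      rw [MvPolynomial.coeff_sum, Finset.sum_eq_single α]
      · rw [MvPolynomial.coeff_monomial, if_pos rfl]
      · intro β _ hβα
        rw [MvPolynomial.coeff_monomial, if_neg (fun h => hβα (hhinj h))]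
      · intro h
        exact absurd hα h
    let v : V := ∑ α ∈ p.support, algebraMap A V (c α) * ∏ j : Fin n, τ j.succ ^ (α j)
    have hresv : resV v = MvPolynomial.aeval t' p := by
      rw [MvPolynomial.aeval_def, MvPolynomial.eval₂_eq', map_sum]
      refine Finset.sum_congr rfl fun α _ => ?_
      rw [map_mul, map_prod, ← hφres, hc]
      simp only [map_pow]
      rfl
    have hterm : ∀ α ∈ p.support,
        (ι (c α) * ∏ j : Fin n, (ι (y j.succ) / ι (y 0)) ^ (α j)) * ι (y 0) ^ N =
          ι (c α) * (ι (y 0) ^ (N - α.degree) * ∏ j : Fin n, ι (y j.succ) ^ (α j)) := by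
      intro α hα
      have hle := hdeg α hα
      have hsum : α.degree = ∑ j : Fin n, α j := Finsupp.degree_eq_sum α
      have hN' : ι (y 0) ^ N = ι (y 0) ^ (N - α.degree) * ι (y 0) ^ (α.degree) := by
        rw [← pow_add, Nat.sub_add_cancel hle]
      have hprod : ∏ j : Fin n, (ι (y j.succ) / ι (y 0)) ^ (α j) =
          (∏ j : Fin n, ι (y j.succ) ^ (α j)) / ι (y 0) ^ (α.degree) := by
        simp_rw [div_pow]
        rw [Finset.prod_div_distrib, Finset.prod_pow_eq_pow_sum, ← hsum]
      rw [hprod, hN']
      have hpow : ι (y 0) ^ (α.degree) ≠ 0 := pow_ne_zero _ h0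
      field_simp
    have hvK : (v : K) * ι (y 0) ^ N = ι (MvPolynomial.eval y F) := by
      have hv1 : (v : K) =
          ∑ α ∈ p.support, ι (c α) * ∏ j : Fin n, (ι (y j.succ) / ι (y 0)) ^ (α j) := by
        show (OrdVal.V (maximalIdeal A) H).val v = _
        simp only [v, map_sum, map_mul, map_prod, map_pow]
        rfl
      have hv2 : MvPolynomial.eval y F = ∑ α ∈ p.support,
          c α * (y 0 ^ (N - α.degree) * ∏ j : Fin n, y j.succ ^ (α j)) := by
        simp only [F, map_sum, MvPolynomial.eval_monomial]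
        refine Finset.sum_congr rfl fun α _ => ?_
        rw [Finsupp.prod_fintype _ _ (fun i => pow_zero _), Fin.prod_univ_succ, hh0]
        simp only [hhs]
      rw [hv1, hv2, Finset.sum_mul, map_sum]
      refine Finset.sum_congr rfl fun α hα => ?_
      rw [hterm α hα, map_mul, map_mul, map_pow, map_prod]
      simp only [map_pow]
    have hv0 : resV v = 0 := by rw [hresv, hp]
    have hvm : v ∈ maximalIdeal V := (residue_eq_zero_iff v).mp hv0
    have hvs : OrdVal.Small 𝔪 (v : K) := (OrdVal.mem_maximalIdeal_iff H v).mp hvm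
    have hevN : MvPolynomial.eval y F ∈ 𝔪 ^ N := by
      rw [← hspan]
      exact (Ideal.mem_span_pow_iff_exists_isHomogeneous y _).mpr ⟨F, hFhom, rfl⟩
    have hev : MvPolynomial.eval y F ∈ 𝔪 ^ (N + 1) :=
      OrdVal.wd H hvs hevN (OrdVal.exactOrd_pow H hy0 N) (by rw [map_pow]; exact hvK)
    have hFJ : F ∈ Ideal.map (MvPolynomial.C : A →+* MvPolynomial (Fin (n + 1)) A)
        (Ideal.span (Set.range y)) := hQR N F hFhom (by rw [hspan]; exact hev)
    rw [MvPolynomial.mem_map_C_iff] at hFJ
    ext α
    rw [MvPolynomial.coeff_zero]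
    by_cases hα : α ∈ p.support
    · have h1 := hFJ (hh α)
      rw [hFcoeff α hα, hspan] at h1
      rw [← hc α]
      exact (residue_eq_zero_iff _).mpr h1
    · by_contra hne
      exact hα (MvPolynomial.mem_support_iff.mpr hne)
  refine ⟨ULift.{u} (Fin n), fun j => t' j.down, hAI.comp ULift.down ULift.down_injective, ?_⟩
  have hrange : Set.range (fun j : ULift.{u} (Fin n) => t' j.down) = Set.range t' :=
    ULift.down_surjective.range_comp t'
  rw [hrange, ← hE]
  exact hEtop

end residue

/-- Let A be a regular local ring which is not a field, K its fraction field and k its residue field.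
Then there is a discrete valuation ring V between A and K, with fraction field K, dominating A,
whose residue field is a purely transcendental extension of k: for some ring map from k compatible
with A → V there is an algebraically independent family generating the residue field of V as a field
over k. -/
theorem result (A : Type u) [CommRing A] [IsRegularLocalRing A]
    (hA : ¬ IsField A) :
    ∃ (V : Subalgebra A (FractionRing A)) (_ : IsDomain V) (_ : IsDiscreteValuationRing V), IsFractionRing V (FractionRing A) ∧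
      (IsLocalRing.maximalIdeal V).comap (algebraMap A V) = IsLocalRing.maximalIdeal A ∧
      ∃ (φ : IsLocalRing.ResidueField A →+* IsLocalRing.ResidueField V),
        φ.comp (IsLocalRing.residue A) = (IsLocalRing.residue V).comp (algebraMap A V) ∧
        letI := φ.toAlgebra
        ∃ (ι : Type u) (t : ι → IsLocalRing.ResidueField V), AlgebraicIndependent (IsLocalRing.ResidueField A) t ∧
          IntermediateField.adjoin (IsLocalRing.ResidueField A) (Set.range t) = ⊤ := by
  classical
  haveI : IsDomain A := Groth.Agent.Lib.Helper9.RegLocal.isDomain_of_isRegularLocalRing A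
  obtain ⟨d, y, hspan, hQR, hy2⟩ := Groth.Agent.Lib.Helper9.OrdVal.exists_params A
  obtain ⟨n, rfl⟩ : ∃ n, d = n + 1 := by
    rcases Nat.eq_zero_or_pos d with h0 | hpos
    · exfalso
      subst h0
      apply hA
      rw [IsLocalRing.isField_iff_maximalIdeal_eq, ← hspan, Set.range_eq_empty y, Ideal.span_empty]
    · exact ⟨d - 1, by omega⟩
  have H : Groth.Agent.Lib.Helper9.OrdVal.Hyp (IsLocalRing.maximalIdeal A) :=
    Groth.Agent.Lib.Helper9.OrdVal.hyp_of_params y hspan hQR
  have hy0 : Groth.Agent.Lib.Helper9.OrdVal.ExactOrd (IsLocalRing.maximalIdeal A) 1 (y 0) := by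
    refine ⟨?_, hy2 0⟩
    rw [pow_one, ← hspan]
    exact Ideal.subset_span ⟨0, rfl⟩
  haveI hloc : IsLocalRing (Groth.Agent.Lib.Helper9.OrdVal.V (IsLocalRing.maximalIdeal A) H) :=
    Groth.Agent.Lib.Helper9.OrdVal.isLocalRing H
  have hdvr : IsDiscreteValuationRing
      (Groth.Agent.Lib.Helper9.OrdVal.V (IsLocalRing.maximalIdeal A) H) :=
    Groth.Agent.Lib.Helper9.OrdVal.isDVR H hy0
  haveI hlh : IsLocalHom (algebraMap A
      (Groth.Agent.Lib.Helper9.OrdVal.V (IsLocalRing.maximalIdeal A) H)) :=
    ((IsLocalRing.local_hom_TFAE (algebraMap A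
      (Groth.Agent.Lib.Helper9.OrdVal.V (IsLocalRing.maximalIdeal A) H))).out 0 4).mpr
      (Groth.Agent.Lib.Helper9.OrdVal.comap_maximalIdeal H)
  refine ⟨Groth.Agent.Lib.Helper9.OrdVal.V (IsLocalRing.maximalIdeal A) H, inferInstance, hdvr,
    Groth.Agent.Lib.Helper9.OrdVal.isFractionRing H,
    Groth.Agent.Lib.Helper9.OrdVal.comap_maximalIdeal H,
    IsLocalRing.ResidueField.map (algebraMap A
      (Groth.Agent.Lib.Helper9.OrdVal.V (IsLocalRing.maximalIdeal A) H)), rfl, ?_⟩
  exact residue_part y hspan hQR H hy0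

end Groth.Agent.S4947
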