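import Groth.Statements.S4951
import Groth.Agent.Lib.Helper8.Generize

set_option autoImplicit false
universe u
open EGA43

namespace Groth.Agent.S4951

/-- Let X be a locally Noetherian topological space in which every irreducible closed subset has a
unique generic point (X quasi-sober and T₀), and Z a closed nowhere dense subset of X such that for
every point x of Z the set of generizations of x distinct from x is connected (possibly empty). If X
is connected, then X − Z is connected. (Uniqueness of generic points, automatic for the underlying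
space of a scheme, is needed: in the four-point space {u, v, z₁, z₂} whose open sets are ∅, {u},
{v}, {u, v} and the whole space, the closed nowhere dense set Z = {z₁, z₂} satisfies the hypothesis,
since z₂ is a generization of z₁ and conversely, yet X − Z = {u, v} is not connected.) -/
theorem result {X : Type u} [TopologicalSpace X]
    [QuasiSober X] [T0Space X] (hloc : ∀ x : X, ∃ U ∈ nhds x, TopologicalSpace.NoetherianSpace ↥U) [ConnectedSpace X]
    (Z : Set X) (hZ : IsClosed Z) (hZn : IsNowhereDense Z)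
    (hgen : ∀ x ∈ Z, IsPreconnected ({x' : X | x' ⤳ x} \ {x})) :
    IsConnected Zᶜ := by
  classical
  have hdense : Dense Zᶜ := by
    have h : interior Z = ∅ := by
      have h' : interior (closure Z) = ∅ := hZn
      rwa [hZ.closure_eq] at h'
    exact interior_eq_empty_iff_dense_compl.mp h
  refine ⟨hdense.nonempty, ?_⟩
  intro u v hu hv hsub hnu hnv
  by_contra hcon
  rw [Set.not_nonempty_iff_eq_empty] at hcon
  obtain ⟨a, ha⟩ := hnu
  obtain ⟨b, hb⟩ := hnv
  have hU₁o : IsOpen (Zᶜ ∩ u) := hZ.isOpen_compl.inter hu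
  have hU₂o : IsOpen (Zᶜ ∩ v) := hZ.isOpen_compl.inter hv
  have hdisj : ∀ w, w ∈ Zᶜ ∩ u → w ∈ Zᶜ ∩ v → False := by
    intro w hw1 hw2
    have : w ∈ Zᶜ ∩ (u ∩ v) := ⟨hw1.1, hw1.2, hw2.2⟩
    rw [hcon] at this
    exact this
  have hcov : Zᶜ = (Zᶜ ∩ u) ∪ (Zᶜ ∩ v) := by
    ext w
    constructor
    · intro hw
      rcases hsub hw with h | h
      · exact Or.inl ⟨hw, h⟩
      · exact Or.inr ⟨hw, h⟩
    · rintro (h | h) <;> exact h.1
  have hcl : closure (Zᶜ ∩ u) ∪ closure (Zᶜ ∩ v) = Set.univ := by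
    rw [← closure_union, ← hcov]
    exact hdense.closure_eq
  have hpre : IsPreconnected (Set.univ : Set X) := isPreconnected_univ
  obtain ⟨c, -, hc⟩ := isPreconnected_closed_iff.mp hpre (closure (Zᶜ ∩ u)) (closure (Zᶜ ∩ v))
    isClosed_closure isClosed_closure (by rw [hcl])
    ⟨a, trivial, subset_closure ha⟩ ⟨b, trivial, subset_closure hb⟩
  obtain ⟨x, hxC, -, hmax⟩ := Groth.Agent.Lib.Helper8.exists_maximal_point
    (isClosed_closure.inter isClosed_closure :
      IsClosed (closure (Zᶜ ∩ u) ∩ closure (Zᶜ ∩ v))) hc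
  have hxZ : x ∈ Z := by
    by_contra hxZ
    have hx' : x ∈ Zᶜ := hxZ
    rw [hcov] at hx'
    rcases hx' with h | h
    · obtain ⟨w, hw1, hw2⟩ := mem_closure_iff.mp hxC.2 _ hU₁o h
      exact hdisj w hw1 hw2
    · obtain ⟨w, hw1, hw2⟩ := mem_closure_iff.mp hxC.1 _ hU₂o h
      exact hdisj w hw2 hw1
  obtain ⟨N, hN, hNoeth⟩ := hloc x
  haveI := hNoeth
  obtain ⟨ξ₁, hξ₁, hξ₁s⟩ := Groth.Agent.Lib.Helper8.exists_specializes_of_mem_closure hU₁o hxC.1 hN
  obtain ⟨ξ₂, hξ₂, hξ₂s⟩ := Groth.Agent.Lib.Helper8.exists_specializes_of_mem_closure hU₂o hxC.2 hN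
  have hne₁ : ξ₁ ≠ x := by
    rintro rfl
    exact hξ₁.1 hxZ
  have hne₂ : ξ₂ ≠ x := by
    rintro rfl
    exact hξ₂.1 hxZ
  obtain ⟨x', hx'G, hx'C⟩ := isPreconnected_closed_iff.mp (hgen x hxZ)
    (closure (Zᶜ ∩ u)) (closure (Zᶜ ∩ v)) isClosed_closure isClosed_closure
    (by rw [hcl]; exact Set.subset_univ _)
    ⟨ξ₁, ⟨hξ₁s, hne₁⟩, subset_closure hξ₁⟩ ⟨ξ₂, ⟨hξ₂s, hne₂⟩, subset_closure hξ₂⟩
  exact hx'G.2 (hmax x' hx'C hx'G.1)

end Groth.Agent.S4951
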