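import Groth.Statements.S4952
-- import your own Groth.Agent.* helpers here
import Mathlib
import Groth.Agent.Lib.Helper12.SecComp

set_option autoImplicit false
open CategoryTheory AlgebraicGeometry
universe u v w
open EGA43

namespace Groth.Agent.S4952
open Groth.Agent.Lib.Helper12 Groth.Agent.Lib.Helper12.SecComp
  Groth.Agent.Lib.Helper12.SchemeDimIneq Groth.Agent.Lib.Helper12.ClosedSub
  Groth.Agent.Lib.Helper12.FibreMax


/-- Let Y be a locally Noetherian scheme, f : X ⟶ Y a morphism locally of finite type and g : Y ⟶ X a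
section of f; for z in Y let X_z^0 be the connected component of the fibre f⁻¹(z) containing g z (a
subset of X with the induced topology). Let y be a point of Y and y' a generization of y. (i) If
there is an irreducible component Z of f⁻¹(y') containing g y' with dim Z = dim X_{y'}^0, then dim
X_y^0 ≥ dim X_{y'}^0. (ii) If moreover X_y^0 is irreducible and dim X_y^0 = dim X_{y'}^0, then X_y^0
is contained in the closure of X_{y'}^0 in X. -/
theorem result {X Y : Scheme.{u}} [IsLocallyNoetherian Y] (f : X ⟶ Y)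
    [LocallyOfFiniteType f] (g : Y ⟶ X) (hg : g ≫ f = 𝟙 Y) (y y' : Y) (hy : y' ⤳ y)
    (hZ : ∃ Z : Set X, Z ⊆ f.base ⁻¹' {y'} ∧ IsIrreducible Z ∧
      (∀ Z' : Set X, IsIrreducible Z' → Z' ⊆ f.base ⁻¹' {y'} → Z ⊆ Z' → Z' = Z) ∧ g.base y' ∈ Z ∧
      topologicalKrullDim ↥Z = topologicalKrullDim ↥(connectedComponentIn (f.base ⁻¹' {y'}) (g.base y'))) :
    topologicalKrullDim ↥(connectedComponentIn (f.base ⁻¹' {y'}) (g.base y')) ≤ topologicalKrullDim ↥(connectedComponentIn (f.base ⁻¹' {y}) (g.base y)) ∧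
      (IsIrreducible (connectedComponentIn (f.base ⁻¹' {y}) (g.base y)) → topologicalKrullDim ↥(connectedComponentIn (f.base ⁻¹' {y}) (g.base y)) = topologicalKrullDim ↥(connectedComponentIn (f.base ⁻¹' {y'}) (g.base y')) →
        connectedComponentIn (f.base ⁻¹' {y}) (g.base y) ⊆ closure (connectedComponentIn (f.base ⁻¹' {y'}) (g.base y'))) := by
  have hfg : ∀ y : Y, f.base (g.base y) = y := by
    intro y
    have := congrArg (fun φ => φ.base y) hg
    simpa using this
  have hCe : ∀ y : Y, connectedComponentIn (f.base ⁻¹' {y}) (g.base y) =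
      connectedComponentIn (f.base ⁻¹' {f.base (g.base y)}) (g.base y) := by
    intro y
    rw [hfg y]
  obtain ⟨Z, hZF, hZirr, hZmax, hgZ, hdimZ⟩ := hZ
  obtain ⟨ζ, hζZ, hZeq⟩ := exists_generic_of_maximal_irreducible f y' Z hZF hZirr hZmax
  have hζF : f.base ζ = y' := hZF hζZ
  have hdimZ2 : topologicalKrullDim ↥Z = ((trn f ζ : ℕ∞) : WithBot ℕ∞) := by
    rw [hZeq, ← hζF]
    exact dim_closure_inter_fibre f ζ
  have hζx' : ζ ⤳ g.base y' := by
    rw [hZeq] at hgZ
    exact specializes_iff_mem_closure.mpr hgZ.1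
  have hζx : ζ ⤳ g.base y := hζx'.trans (hy.map g.continuous)
  obtain ⟨z, hzF, hζz, hzx, htr⟩ := exists_between_trn_le f (g.base y) ζ hζx
  have hzC : z ∈ connectedComponentIn (f.base ⁻¹' {f.base (g.base y)}) (g.base y) :=
    mem_connectedComponentIn_of_specializes _ (g.base y) z rfl hzF hzx
  have hz1 := trn_le_dim_connectedComponentIn f (g.base y) z hzC
  rw [← hCe y] at hz1
  have hZsub : Z ⊆ connectedComponentIn (f.base ⁻¹' {y'}) (g.base y') :=
    (IsPreirreducible.isPreconnected hZirr.2).subset_connectedComponentIn hgZ hZF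
  refine ⟨?_, ?_⟩
  · rw [← hdimZ, hdimZ2]
    exact le_trans (WithBot.coe_le_coe.mpr htr) hz1
  · intro hirr hdimeq
    have hirr' := hirr
    rw [hCe y] at hirr'
    obtain ⟨ξ, hξC, hξ⟩ := exists_generic_of_isIrreducible f (g.base y) hirr'
    have h1 := dim_connectedComponentIn_eq_fibreDimAt f (g.base y) hirr'
    rw [fibreDimAt_eq_trn_of_generic f (g.base y) ξ hξC hξ, ← hCe y, hdimeq, ← hdimZ, hdimZ2] at h1
    have h2 : trn f ζ = trn f ξ := WithBot.coe_injective h1
    have hξz : ξ ⤳ z := hξ z hzC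
    have hξF' : ξ ∈ f.base ⁻¹' {f.base (g.base y)} := connectedComponentIn_subset _ _ hξC
    have hξF : f.base ξ = f.base (g.base y) := hξF'
    have hzξ : ξ = z := by
      by_contra hne
      have h3 := trn_lt_of_specializes f z ξ (hξF.trans hzF.symm) hξz hne
      rw [← h2] at h3
      exact absurd htr (not_le.mpr h3)
    rw [← hzξ] at hζz
    intro t ht
    rw [hCe y] at ht
    have h4 : ζ ⤳ t := hζz.trans (hξ t ht)
    have h5 : t ∈ closure ({ζ} : Set X) := specializes_iff_mem_closure.mp h4
    refine closure_mono ?_ h5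
    rw [Set.singleton_subset_iff]
    exact hZsub hζZ

end Groth.Agent.S4952
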