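import Groth.Statements.S4953
-- import your own Groth.Agent.* helpers here
import Mathlib
import Groth.Agent.Lib.Helper12.SecCompNhdPt

set_option autoImplicit false
open CategoryTheory AlgebraicGeometry
universe u v w
open EGA43

namespace Groth.Agent.S4953

/-- Let f : X ⟶ Y be a flat morphism of finite presentation with a section g : Y ⟶ X; for y in Y let
X_y^0 be the connected component of f⁻¹(y) containing g y, and X^0 ⊆ X the union of the X_y^0. If y
is a point such that X_y^0 is geometrically reduced over κ(y) (the fibre X_y is geometrically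
reduced at every point of X_y^0), then X^0 is a neighbourhood of X_y^0 in X. -/
theorem result {X Y : Scheme.{u}} (f : X ⟶ Y) [Flat f]
    [LocallyOfFinitePresentation f] [QuasiCompact f] [QuasiSeparated f] (g : Y ⟶ X) (hg : g ≫ f = 𝟙 Y) (y : Y)
    (hred : ∀ x' : ↥(f.fiber y), (f.fiberι y).base x' ∈ connectedComponentIn (f.base ⁻¹' {y}) (g.base y) →
      FBase.IsGeomReducedAt (f.fiberToSpecResidueField y) x') :
    connectedComponentIn (f.base ⁻¹' {y}) (g.base y) ⊆ interior (MoreMor.sectionComponents f g) := by
  refine Groth.Agent.Lib.Helper12.SecCompNhdPt.nhd_of_subset_W f g hg y ?_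
  intro x hx
  have hfx : f x = y := (connectedComponentIn_subset (f ⁻¹' {y}) (g y)) hx
  obtain ⟨x', hx'⟩ : x ∈ Set.range (f.fiberι y) := by
    rw [Scheme.Hom.range_fiberι]; exact hfx
  rw [Groth.Agent.Lib.Helper12.GeomRedPt.mem_W_iff f x y x' hx']
  apply hred x'
  show (f.fiberι y) x' ∈ connectedComponentIn (f ⁻¹' {y}) (g y)
  rw [hx']
  exact hx

end Groth.Agent.S4953
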