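import Groth.Statements.S4954
-- import your own Groth.Agent.* helpers here
import Mathlib
import Groth.Agent.Lib.Helper12.SecComp
import Groth.Agent.Lib.Helper12.Chevalley

set_option autoImplicit false
open CategoryTheory AlgebraicGeometry
universe u v w
open EGA43

namespace Groth.Agent.S4954
open Groth.Agent.Lib.Helper12 Groth.Agent.Lib.Helper12.SecComp

/-- Base change of a scheme over a field along a field extension is surjective onto it. -/
lemma surjective_bcπ {k : Type u} [Field k] {X : Scheme.{u}} (q : X ⟶ Spec (CommRingCat.of k))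
    (K : Type u) [Field K] [Algebra k K] : Function.Surjective (FBase.bcπ q K).base := by
  have hysurj : Surjective (Spec.map (CommRingCat.ofHom (algebraMap k K))) := by
    refine ⟨fun s => ?_⟩
    obtain ⟨t⟩ : Nonempty ↥(Spec (CommRingCat.of K)) := inferInstance
    exact ⟨t, Subsingleton.elim _ _⟩
  have h : Surjective (FBase.bcπ q K) := by
    unfold FBase.bcπ
    exact MorphismProperty.pullback_fst (P := @Surjective) _ _ hysurj
  exact h.surj


/-- Let f : X ⟶ Y be a morphism of finite presentation with a section g : Y ⟶ X, and for y in Y let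
X_y^0 be the connected component of f⁻¹(y) containing g y. Suppose that every X_y^0 is geometrically
irreducible over κ(y) (its preimage in X_y ⊗ K is irreducible for every field extension K of κ(y)).
Then the function y ↦ dim X_y^0 is upper semicontinuous on Y. -/
theorem result {X Y : Scheme.{u}} (f : X ⟶ Y)
    [LocallyOfFinitePresentation f] [QuasiCompact f] [QuasiSeparated f] (g : Y ⟶ X) (hg : g ≫ f = 𝟙 Y)
    (hirr : ∀ y : Y, (∀ (K : Type u) [Field K] [Algebra (IsLocalRing.ResidueField (Y.presheaf.stalk y)) K],
        IsIrreducible ((FBase.bcπ (f.fiberToSpecResidueField y) K ≫ f.fiberι y).base ⁻¹' connectedComponentIn (f.base ⁻¹' {y}) (g.base y)))) :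
    UpperSemicontinuous (fun y : Y => topologicalKrullDim ↥(connectedComponentIn (f.base ⁻¹' {y}) (g.base y))) := by
  have hfg : ∀ y : Y, f.base (g.base y) = y := by
    intro y
    have := congrArg (fun φ => φ.base y) hg
    simpa using this
  -- irreducibility of the components
  have hirr' : ∀ y : Y, IsIrreducible (connectedComponentIn (f.base ⁻¹' {y}) (g.base y)) := by
    intro y
    have h1 := hirr y (IsLocalRing.ResidueField (Y.presheaf.stalk y))
    have h2 := h1.image (FBase.bcπ (f.fiberToSpecResidueField y)
      (IsLocalRing.ResidueField (Y.presheaf.stalk y)) ≫ f.fiberι y).base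
      (Scheme.Hom.continuous _).continuousOn
    rw [Set.image_preimage_eq_inter_range] at h2
    have h3 : connectedComponentIn (f.base ⁻¹' {y}) (g.base y) ⊆
        Set.range (FBase.bcπ (f.fiberToSpecResidueField y)
          (IsLocalRing.ResidueField (Y.presheaf.stalk y)) ≫ f.fiberι y).base := by
      intro t ht
      have ht' : t ∈ f.base ⁻¹' {y} := connectedComponentIn_subset _ _ ht
      rw [← Scheme.Hom.range_fiberι f y] at ht'
      obtain ⟨w, rfl⟩ := ht'
      obtain ⟨w', rfl⟩ := surjective_bcπ (f.fiberToSpecResidueField y)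
        (IsLocalRing.ResidueField (Y.presheaf.stalk y)) w
      exact ⟨w', rfl⟩
    rwa [Set.inter_eq_left.mpr h3] at h2
  have hF : ∀ y : Y, topologicalKrullDim ↥(connectedComponentIn (f.base ⁻¹' {y}) (g.base y)) =
      FlatMor.fibreDimAt f (g.base y) :=
    fun y => dim_connectedComponentIn_eq_fibreDimAt' f (g.base y) y (hfg y) (hirr' y)
  intro y c hc
  simp only [hF] at hc ⊢
  obtain ⟨m, hm⟩ := exists_nat_fibreDimAt f (g.base y)
  have hopen := Chevalley.isOpen_setOf_fibreDimAt_le f m
  have hopen2 : IsOpen (g.base ⁻¹' {x : X | FlatMor.fibreDimAt f x ≤ m}) :=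
    hopen.preimage g.continuous
  have hy : y ∈ g.base ⁻¹' {x : X | FlatMor.fibreDimAt f x ≤ m} := by
    simp only [Set.mem_preimage, Set.mem_setOf_eq]
    rw [hm]
  refine Filter.eventually_of_mem (hopen2.mem_nhds hy) ?_
  intro y' hy'
  simp only [Set.mem_preimage, Set.mem_setOf_eq] at hy'
  rw [hm] at hc
  exact lt_of_le_of_lt hy' hc

end Groth.Agent.S4954
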