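import Groth.Statements.S4976
import Groth.Agent.Lib.Helper13.PropAtG
import Groth.Agent.Lib.Helper13.PropAtH

set_option autoImplicit false
open CategoryTheory AlgebraicGeometry
universe u v w
open EGA43

namespace Groth.Agent.S4976

/-- Let f : X ⟶ Y be a separated morphism of finite presentation with a section g : Y ⟶ X; let X_y^0 be
the connected component of f⁻¹(y) containing g y and X^0 ⊆ X the union of the X_y^0. If y is a point
of Y such that X_y^0, as an open subscheme of the fibre X_y, is proper over κ(y), then X^0 is proper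
over Y at y: there is an open neighbourhood U of y such that X^0 ∩ f⁻¹(U) is closed in f⁻¹(U) and
the reduced closed subscheme of f⁻¹(U) it carries is proper over U. -/
theorem result {X Y : Scheme.{u}} (f : X ⟶ Y) [IsSeparated f]
    [LocallyOfFinitePresentation f] [QuasiCompact f] [QuasiSeparated f] (g : Y ⟶ X) (hg : g ≫ f = 𝟙 Y) (y : Y)
    (hop : IsOpen ((f.fiberι y).base ⁻¹' connectedComponentIn (f.base ⁻¹' {y}) (g.base y)))
    (hprop : IsProper (Scheme.Opens.ι (⟨(f.fiberι y).base ⁻¹' connectedComponentIn (f.base ⁻¹' {y}) (g.base y), hop⟩ : (f.fiber y).Opens) ≫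
      f.fiberToSpecResidueField y)) :
    ∃ U : Y.Opens, y ∈ U ∧ ∃ hC : IsClosed ((f ⁻¹ᵁ U).ι.base ⁻¹' MoreMor.sectionComponents f g),
      IsProper ((Scheme.IdealSheafData.vanishingIdeal
        (⟨(f ⁻¹ᵁ U).ι.base ⁻¹' MoreMor.sectionComponents f g, hC⟩ : TopologicalSpace.Closeds ↥(f ⁻¹ᵁ U))).subschemeι ≫
        (f ∣_ U)) := by
  classical
  obtain ⟨Z, hZdef⟩ : ∃ Z : Set X, Z = MoreMor.sectionComponents f g := ⟨_, rfl⟩
  -- the hypotheses in pullback-invariant form
  have hfib : (f.fiberι y).base ⁻¹' connectedComponentIn (f.base ⁻¹' {y}) (g.base y) =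
      (f.fiberι y).base ⁻¹' Z := by
    ext w
    have hw : f (f.fiberι y w) = y := by
      have h1 : f.fiberι y w ∈ Set.range (f.fiberι y) := ⟨w, rfl⟩
      rw [f.range_fiberι y] at h1
      exact h1
    rw [hZdef]
    exact (Groth.Agent.Lib.Helper13.PropAtG.mem_sc_iff f g _ y hw).symm
  have h0 : Groth.Agent.Lib.Helper13.PropAtE.PropFib f Z y :=
    (Groth.Agent.Lib.Helper13.PropAtE.propW_congr _ hfib).mp ⟨hop, hprop⟩
  -- an affine open neighbourhood
  obtain ⟨V, hV, hyV, -⟩ := exists_isAffineOpen_mem_and_subset (x := y) (U := ⊤)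
    (TopologicalSpace.Opens.mem_top _)
  have sqV : IsPullback (f ⁻¹ᵁ V).ι (f ∣_ V) f V.ι := (isPullback_morphismRestrict f V).flip
  obtain ⟨sV, hsV1, hsV2⟩ := Groth.Agent.Lib.Helper12.SecCompCons.exists_section f g hg sqV
  have hZV := Groth.Agent.S1324.result f g hg (f ∣_ V) (f ⁻¹ᵁ V).ι V.ι sqV sV hsV1 hsV2
  rw [← hZdef] at hZV
  have h1 : Groth.Agent.Lib.Helper13.PropAtE.PropFib (f ∣_ V) ((f ⁻¹ᵁ V).ι ⁻¹' Z) ⟨y, hyV⟩ :=
    (Groth.Agent.Lib.Helper13.PropAtE.propFib_iff_of_isPullback sqV Z ⟨y, hyV⟩).mpr h0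
  haveI : IsSeparated (f ∣_ V) :=
    MorphismProperty.of_isPullback (P := @IsSeparated) sqV inferInstance
  haveI : LocallyOfFinitePresentation (f ∣_ V) :=
    MorphismProperty.of_isPullback (P := @LocallyOfFinitePresentation) sqV inferInstance
  haveI : QuasiCompact (f ∣_ V) :=
    MorphismProperty.of_isPullback (P := @QuasiCompact) sqV inferInstance
  haveI : QuasiSeparated (f ∣_ V) :=
    MorphismProperty.of_isPullback (P := @QuasiSeparated) sqV inferInstance
  haveI : LocallyOfFiniteType f := inferInstance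
  -- a Noetherian model
  obtain ⟨Yj, Xj, fj, sj, q, p, hN, hsj, sqj, hsq, hj1, hj2, hj3⟩ :=
    Groth.Agent.Lib.Helper13.PropAtH.exists_noeth_model V hV (f ∣_ V) sV hsV1
  haveI := hN; haveI := hj1; haveI := hj2; haveI := hj3
  have hZj := Groth.Agent.S1324.result fj sj hsj (f ∣_ V) q p sqj sV hsV1 hsq
  have hZeq : (f ⁻¹ᵁ V).ι ⁻¹' Z = q ⁻¹' MoreMor.sectionComponents fj sj := hZV.symm.trans hZj
  have h2 : Groth.Agent.Lib.Helper13.PropAtE.PropFib fj (MoreMor.sectionComponents fj sj)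
      (p ⟨y, hyV⟩) := by
    rw [← Groth.Agent.Lib.Helper13.PropAtE.propFib_iff_of_isPullback sqj, ← hZeq]
    exact h1
  obtain ⟨Uj, hyUj, hcj⟩ := Groth.Agent.Lib.Helper13.PropAtG.noeth_case fj sj hsj (p ⟨y, hyV⟩) h2
  have hc1 := Groth.Agent.Lib.Helper13.PropAtF.concl_of_isPullback sqj _ Uj hcj
  rw [← hZeq] at hc1
  have hc2 := Groth.Agent.Lib.Helper13.PropAtF.concl_of_restrict f Z V (p ⁻¹ᵁ Uj) hc1
  rw [hZdef] at hc2
  exact ⟨V.ι ''ᵁ (p ⁻¹ᵁ Uj), ⟨⟨y, hyV⟩, hyUj, rfl⟩, hc2⟩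

end Groth.Agent.S4976
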