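import Groth.Statements.S4958
-- import your own Groth.Agent.* helpers here
import Mathlib
import Groth.Agent.Lib.Helper12.OpenFibre3
import Groth.Agent.Lib.Helper9.TopDim

set_option autoImplicit false
open CategoryTheory AlgebraicGeometry
universe u v w
open EGA43

namespace Groth.Agent.S4958

/-- Let Y be an irreducible locally Noetherian scheme with generic point η, f : X ⟶ Y a morphism of
finite type and y a point of Y whose local ring O_{Y,y} is universally catenary. Suppose that dim
O_{X,z} = dim O_{Y,y} for every maximal point z of the fibre X_y. For z' in Y let E(z') be the set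
of dimensions of the irreducible components of X_{z'}. Then E(y) ⊆ E(η), and hence dim X_y ≤ dim
X_η. -/
theorem result {X Y : Scheme.{u}} [IrreducibleSpace Y]
    [IsLocallyNoetherian Y] (f : X ⟶ Y) [LocallyOfFiniteType f] [QuasiCompact f] (y : Y)
    (hcat : CAlg.IsUniversallyCatenary (Y.presheaf.stalk y))
    (hb : ∀ z : X, f.base z = y → (∀ z' : X, f.base z' = y → z ∈ closure {z'} → z' = z) →
      ringKrullDim (X.presheaf.stalk z) = ringKrullDim (Y.presheaf.stalk y)) :
    letI E : Y → Set (WithBot ℕ∞) := fun z =>
      (fun Z : Set ↥(f.fiber z) => topologicalKrullDim ↥Z) '' irreducibleComponents ↥(f.fiber z)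
    E y ⊆ E (genericPoint Y) ∧
      topologicalKrullDim ↥(f.fiber y) ≤ topologicalKrullDim ↥(f.fiber (genericPoint Y)) := by
  classical
  have key : ∀ C ∈ irreducibleComponents ↥(f.fiber y),
      ∃ C' ∈ irreducibleComponents ↥(f.fiber (genericPoint Y)),
        topologicalKrullDim ↥C' = topologicalKrullDim ↥C := by
    intro C hC
    refine Groth.Agent.Lib.Helper12.OpenFibre.dims_subset_generic_of_dim_le f y ?_ C hC
    intro z hz hmax
    subst hz
    exact (hb z rfl (fun z' h1 h2 => hmax z' h1 (specializes_iff_mem_closure.mpr h2))).ge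
  refine ⟨?_, ?_⟩
  · rintro _ ⟨C, hC, rfl⟩
    obtain ⟨C', hC', hdim⟩ := key C hC
    exact ⟨C', hC', hdim⟩
  · rw [Groth.Agent.Lib.Helper9.topologicalKrullDim_eq_iSup_irreducibleComponents
      (X := ↥(f.fiber y))]
    apply iSup₂_le
    intro C hC
    obtain ⟨C', hC', hdim⟩ := key C hC
    rw [← hdim]
    exact topologicalKrullDim_subspace_le _ _

end Groth.Agent.S4958
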