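import Groth.Statements.S4959
import Groth.Agent.Lib.Helper8.UnivOpen2

set_option autoImplicit false
open CategoryTheory AlgebraicGeometry
universe u v w
open EGA43

namespace Groth.Agent.S4959

open CategoryTheory.Limits in
/-- Let f : X ⟶ Y be a morphism of schemes and g : Y' ⟶ Y a surjective morphism which is either proper,
or flat and quasi-compact. If the base change f' : X ×_Y Y' ⟶ Y' is universally submersive (all of
its base changes are topological quotient maps), then f is universally submersive. -/
theorem result {X Y Y' : Scheme.{u}} (f : X ⟶ Y) (g : Y' ⟶ Y) [Surjective g]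
    (hg : IsProper g ∨ (Flat g ∧ QuasiCompact g))
    (h : MorphismProperty.universally (topologically @Topology.IsQuotientMap) (pullback.snd f g)) :
    MorphismProperty.universally (topologically @Topology.IsQuotientMap) f := by
  intro X₂ T i₁ i₂ f₂ sq
  -- reduce to the chosen pullback
  have key : Topology.IsQuotientMap (pullback.snd f i₂).base := by
    obtain ⟨c, -, hc2⟩ := Groth.Agent.Lib.Helper8.exists_isPullback_baseChange
      (CategoryTheory.IsPullback.of_hasPullback f g) i₂
    have h1 : Topology.IsQuotientMap
        (pullback.snd (pullback.snd f i₂) (pullback.snd g i₂)).base :=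
      h c (pullback.fst g i₂) (pullback.snd (pullback.snd f i₂) (pullback.snd g i₂)) hc2.flip
    have h2 : Topology.IsQuotientMap (pullback.snd g i₂).base := by
      rcases hg with hp | ⟨hfl, hqc⟩
      · exact (pullback.snd g i₂).isClosedMap.isQuotientMap (pullback.snd g i₂).continuous
          (pullback.snd g i₂).surjective
      · exact AlgebraicGeometry.Flat.isQuotientMap_of_surjective (pullback.snd g i₂)
    have h3 : Topology.IsQuotientMap
        ((pullback.snd g i₂).base ∘
          (pullback.snd (pullback.snd f i₂) (pullback.snd g i₂)).base) := h2.comp h1
    have h4 : (pullback.snd g i₂).base ∘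
          (pullback.snd (pullback.snd f i₂) (pullback.snd g i₂)).base =
        (pullback.snd f i₂).base ∘
          (pullback.fst (pullback.snd f i₂) (pullback.snd g i₂)).base := by
      funext p
      have := congrArg (fun φ : pullback (pullback.snd f i₂) (pullback.snd g i₂) ⟶ T => φ.base p)
        (pullback.condition (f := pullback.snd f i₂) (g := pullback.snd g i₂))
      simp only [AlgebraicGeometry.Scheme.Hom.comp_apply] at this
      exact this.symm
    rw [h4] at h3
    exact Topology.IsQuotientMap.of_comp
      (pullback.fst (pullback.snd f i₂) (pullback.snd g i₂)).continuous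
      (pullback.snd f i₂).continuous h3
  have hiso : f₂ = sq.flip.isoPullback.hom ≫ pullback.snd f i₂ :=
    (sq.flip.isoPullback_hom_snd).symm
  show Topology.IsQuotientMap f₂.base
  have h5 : (f₂.base : X₂ → T) = (pullback.snd f i₂).base ∘ sq.flip.isoPullback.hom.base := by
    funext p
    have := congrArg (fun φ : X₂ ⟶ T => φ.base p) hiso
    simp only [AlgebraicGeometry.Scheme.Hom.comp_apply] at this
    exact this
  rw [h5]
  exact key.comp (AlgebraicGeometry.Scheme.homeoOfIso sq.flip.isoPullback).isQuotientMap

end Groth.Agent.S4959
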