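import Groth.Statements.S4963
-- import your own Groth.Agent.* helpers here
import Mathlib
import Groth.Agent.Lib.Helper12.GeomRedPtMain
import Groth.Agent.S0386

set_option autoImplicit false
open CategoryTheory AlgebraicGeometry
universe u v w
open EGA43

namespace Groth.Agent.S4963

/-- Let f : X ⟶ Y be a morphism locally of finite presentation. The set of points x of X such that f is
flat at x and the fibre of f through x is geometrically reduced at x over the residue field of f x
(f is a reduced morphism at x) is open in X. -/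
theorem result {X Y : Scheme.{u}} (f : X ⟶ Y)
    [LocallyOfFinitePresentation f] :
    IsOpen {x : X | (f.stalkMap x).hom.Flat ∧ FBase.IsGeomReducedAt (f.fiberToSpecResidueField (f.base x)) (f.asFiber x)} := by
  have hF : IsOpen {x : X | (f.stalkMap x).hom.Flat} := Groth.Agent.S0386.result f
  let Uo : X.Opens := ⟨{x : X | (f.stalkMap x).hom.Flat}, hF⟩
  haveI : Flat (Uo.ι ≫ f) := by
    apply Flat.of_stalkMap
    intro u
    rw [Scheme.Hom.stalkMap_comp]
    show ((Uo.ι.stalkMap u).hom.comp (f.stalkMap (Uo.ι u)).hom).Flat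
    have h1 : (f.stalkMap (Uo.ι u)).hom.Flat := u.2
    have h2 : (Uo.ι.stalkMap u).hom.Flat :=
      RingHom.Flat.of_bijective
        (asIso (Uo.ι.stalkMap u)).commRingCatIsoToRingEquiv.bijective
    exact RingHom.Flat.comp h1 h2
  have hW : IsOpen (Groth.Agent.Lib.Helper12.GeomRedPt.W (Uo.ι ≫ f)) :=
    Groth.Agent.Lib.Helper12.GeomRedPtMain.isOpen_W (Uo.ι ≫ f)
  rw [Groth.Agent.Lib.Helper12.GeomRedPt.preimage_W_comp] at hW
  have h3 := Uo.ι.isOpenEmbedding.isOpenMap _ hW
  convert h3 using 1
  ext x
  constructor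
  · rintro ⟨hx1, hx2⟩
    exact ⟨⟨x, hx1⟩, hx2, rfl⟩
  · rintro ⟨u, hu, rfl⟩
    exact ⟨u.2, hu⟩

end Groth.Agent.S4963
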