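import Groth.Statements.S4971
import Mathlib.RingTheory.Nakayama

set_option autoImplicit false
universe u
open EGA43

namespace Groth.Agent.S4971

/-- Let B be a Noetherian local ring, M, N, P three B-modules with N finitely generated, u : M → N and v
: N → P linear maps with v ∘ u = 0, and t an element of the maximal ideal of B which is P-regular.
If the induced sequence M/tM → N/tN → P/tP is exact, then M → N → P is exact. -/
theorem result {B : Type u} [CommRing B] [IsNoetherianRing B] [IsLocalRing B]
    {M N P : Type u} [AddCommGroup M] [Module B M] [AddCommGroup N] [Module B N] [Module.Finite B N]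
    [AddCommGroup P] [Module B P] (u : M →ₗ[B] N) (v : N →ₗ[B] P) (huv : v ∘ₗ u = 0) (t : B)
    (ht : t ∈ IsLocalRing.maximalIdeal B) (hreg : IsSMulRegular P t)
    (hu : (Ideal.span {t} • ⊤ : Submodule B M) ≤ (Ideal.span {t} • ⊤ : Submodule B N).comap u)
    (hv : (Ideal.span {t} • ⊤ : Submodule B N) ≤ (Ideal.span {t} • ⊤ : Submodule B P).comap v)
    (hex : LinearMap.ker ((Ideal.span {t} • ⊤ : Submodule B N).mapQ (Ideal.span {t} • ⊤ : Submodule B P) v hv) ≤
      LinearMap.range ((Ideal.span {t} • ⊤ : Submodule B M).mapQ (Ideal.span {t} • ⊤ : Submodule B N) u hu)) :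
    LinearMap.ker v ≤ LinearMap.range u := by
  classical
  have hK : (LinearMap.ker v).FG := IsNoetherian.noetherian _
  have hJ : Ideal.span {t} ≤ Ideal.jacobson (⊥ : Ideal B) := by
    rw [IsLocalRing.jacobson_eq_maximalIdeal ⊥ bot_ne_top, Ideal.span_le]
    intro s hs
    rw [Set.mem_singleton_iff.mp hs]
    exact ht
  refine Submodule.le_of_le_smul_of_le_jacobson_bot hK hJ ?_
  intro n hn
  rw [LinearMap.mem_ker] at hn
  have h1 : (Ideal.span {t} • ⊤ : Submodule B N).mkQ n ∈
      LinearMap.ker ((Ideal.span {t} • ⊤ : Submodule B N).mapQ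
        (Ideal.span {t} • ⊤ : Submodule B P) v hv) := by
    rw [LinearMap.mem_ker, Submodule.mkQ_apply, Submodule.mapQ_apply, hn,
      Submodule.Quotient.mk_zero]
  obtain ⟨mbar, hm⟩ := hex h1
  obtain ⟨m, rfl⟩ := Submodule.mkQ_surjective _ mbar
  rw [Submodule.mkQ_apply, Submodule.mapQ_apply, Submodule.mkQ_apply,
    Submodule.Quotient.eq] at hm
  rw [Submodule.ideal_span_singleton_smul, Submodule.mem_smul_pointwise_iff_exists] at hm
  obtain ⟨n₁, -, hn₁⟩ := hm
  have hvn₁ : v n₁ = 0 := by
    apply hreg.right_eq_zero_of_smul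
    rw [← map_smul, hn₁, map_sub, hn, sub_zero]
    exact LinearMap.congr_fun huv m
  have hsplit : n = u m - t • n₁ := by
    rw [hn₁]; abel
  rw [hsplit]
  refine Submodule.sub_mem _ (Submodule.mem_sup_left ⟨m, rfl⟩) (Submodule.mem_sup_right ?_)
  exact Submodule.smul_mem_smul (Ideal.mem_span_singleton_self t) (LinearMap.mem_ker.mpr hvn₁)

end Groth.Agent.S4971
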