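import Groth.Statements.S4972
-- import your own Groth.Agent.* helpers here
import Mathlib
import Groth.Agent.Lib.Helper12.ValBaseFib
import Groth.Agent.Lib.Helper12.ValDimSch
import Groth.Agent.Lib.Helper12.ValStalk
import Groth.Agent.Lib.Helper12.SecCompBC

set_option autoImplicit false
open CategoryTheory AlgebraicGeometry
universe u v w
open EGA43

namespace Groth.Agent.S4972
open Groth.Agent.Lib.Helper12 Groth.Agent.Lib.Helper12.SecComp
  Groth.Agent.Lib.Helper12.SchemeDimIneq Groth.Agent.Lib.Helper12.ValBase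
  Groth.Agent.Lib.Helper12.ValBaseFib Groth.Agent.Lib.Helper12.ValStalk
  CategoryTheory.Limits IsLocalRing


/-- Let f : X ⟶ S be a morphism of finite type, (g_i : Y_i ⟶ S) a family of universally open morphisms
and (u_i : Y_i ⟶ X) a family of S-morphisms. For s in S let Z(s) be the closure, in the fibre f⁻¹(s)
(with the topology induced from X), of the union of the sets u_i(Y_i) ∩ f⁻¹(s) (the images of the
fibres of the Y_i over s), and let d(s) = dim Z(s). Then for every point s of S and every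
generization s' of s one has d(s) ≤ d(s'). -/
theorem result {X S : Scheme.{u}} (f : X ⟶ S) [LocallyOfFiniteType f]
    [QuasiCompact f] {ι : Type u} (Y : ι → Scheme.{u}) (g : ∀ i, Y i ⟶ S) [∀ i, UniversallyOpen (g i)]
    (v : ∀ i, Y i ⟶ X) (hv : ∀ i, v i ≫ f = g i) (s s' : S) (hs : s' ⤳ s) :
    letI d : S → WithBot ℕ∞ := fun t =>
      topologicalKrullDim ↥(f.base ⁻¹' {t} ∩ closure ((⋃ i, Set.range (v i).base) ∩ f.base ⁻¹' {t}))
    d s ≤ d s' := by
  change topologicalKrullDim ↥(f.base ⁻¹' {s} ∩ closure ((⋃ i, Set.range (v i).base) ∩ f.base ⁻¹' {s})) ≤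
    topologicalKrullDim ↥(f.base ⁻¹' {s'} ∩ closure ((⋃ i, Set.range (v i).base) ∩ f.base ⁻¹' {s'}))
  set W : Set X := ⋃ i, Set.range (v i).base with hW
  refine dim_fibre_inter_le f (closure (W ∩ f.base ⁻¹' {s})) isClosed_closure s _ ?_
  rintro z ⟨hzs, hzcl⟩
  have hzs' : f.base z = s := hzs
  obtain ⟨A, _, _, _, φ, η, hφc, hφη, hηgen, hbij⟩ := exists_valuationRing_spec S s s' hs
  haveI : ∀ i, UniversallyOpen (v i ≫ f) := fun i => by rw [hv i]; infer_instance
  obtain ⟨z₁, hz₁π, hz₁c, hz₁trn⟩ :=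
    exists_point_over_trn_eq f φ z (closedPoint A) (hφc.trans hzs'.symm)
  set π := pullback.fst f φ with hπ
  set f₁ := pullback.snd f φ with hf₁
  have hcomm : ∀ t : ↥(pullback f φ), f.base (π.base t) = φ.base (f₁.base t) :=
    fun t => SecCompBC.fst_snd_apply f φ t
  -- the point `z₁` lies in the closure of the preimage of `W` in its fibre
  have h4 : z₁ ∈ closure (π.base ⁻¹' W ∩ f₁.base ⁻¹' {f₁.base z₁}) := by
    refine mem_closure_preimage_fibre f φ W z₁ ?_
    rw [← hπ, hz₁π, hzs']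
    exact hzcl
  -- generization to the generic fibre
  set B : Set ↥(pullback f φ) := π.base ⁻¹' W ∩ f₁.base ⁻¹' {η} with hB
  have h5 : π.base ⁻¹' W ∩ f₁.base ⁻¹' {f₁.base z₁} ⊆ closure B := by
    rintro x₁ ⟨hx₁W, hx₁c⟩
    obtain ⟨i, hi⟩ := Set.mem_iUnion.mp hx₁W
    obtain ⟨x₁', hsp, hη', hW'⟩ := exists_generization_in_range f φ (v i) x₁ hi η (hηgen _)
    have hx₁'B : x₁' ∈ B := ⟨Set.mem_iUnion.mpr ⟨i, hW'⟩, hη'⟩
    exact closure_mono (Set.singleton_subset_iff.mpr hx₁'B) (specializes_iff_mem_closure.mp hsp)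
  have h6 : z₁ ∈ closure B := closure_minimal h5 isClosed_closure h4
  obtain ⟨a, haB, haη, haz⟩ :=
    exists_generization_of_mem_closure_fibre f₁ η B (fun b hb => hb.2) z₁ h6
  -- the valuation ring inequality
  obtain ⟨hdom, hval⟩ := stalk_valuation' A (f₁.base z₁)
  haveI := hdom
  haveI := hval
  have h7 : trn f₁ z₁ ≤ trn f₁ a := ValDim.trn_le_of_valuationRing_stalk f₁ z₁ a haz
  have hbij' : ∀ t : ↥(Spec (CommRingCat.of A)), t = η →
      Function.Bijective (φ.residueFieldMap t).hom := by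
    rintro t rfl
    exact hbij
  have h8 : trn f₁ a = trn f (π.base a) := trn_pullback_of_bijective f φ a (hbij' _ haη)
  have h9 : f.base (π.base a) = s' := by rw [hcomm, haη, hφη]
  have h10 : π.base a ∈ closure (W ∩ f.base ⁻¹' {s'}) := by
    have hsub : π.base '' B ⊆ W ∩ f.base ⁻¹' {s'} := by
      rintro _ ⟨b, ⟨hbW, hbη⟩, rfl⟩
      refine ⟨hbW, ?_⟩
      have hbη' : f₁.base b = η := hbη
      change f.base (π.base b) = s'
      rw [hcomm, hbη', hφη]
    exact closure_mono hsub (image_closure_subset_closure_image π.continuous ⟨a, haB, rfl⟩)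
  have h11 := trn_le_dim_fibre_inter f (closure (W ∩ f.base ⁻¹' {s'})) isClosed_closure
    (π.base a) h10
  rw [h9] at h11
  refine le_trans ?_ h11
  rw [← hz₁trn, ← h8]
  exact WithBot.coe_le_coe.mpr h7

end Groth.Agent.S4972
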