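import Groth.Statements.S4973
import Mathlib

set_option autoImplicit false
open CategoryTheory AlgebraicGeometry
universe u v w
open EGA43

namespace Groth.Agent.S4973

open CategoryTheory.Limits in
/-- Let Y₀ and Y be integral schemes, g : Y ⟶ Y₀ a dominant morphism, f₀ : X₀ ⟶ Y₀ a dominant morphism
whose fibre over the generic point of Y₀ is irreducible, and X'₀ an irreducible component of X₀
meeting that generic fibre (it is unique), regarded as a reduced closed subscheme of X₀. If X = X₀
×_{Y₀} Y is an integral scheme, then the morphism X'₀ ×_{Y₀} Y ⟶ X induced by the inclusion of X'₀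
is an isomorphism. -/
theorem result {X₀ Y₀ Y : Scheme.{u}} [IsIntegral Y₀] [IsIntegral Y]
    (g : Y ⟶ Y₀) [IsDominant g] (f₀ : X₀ ⟶ Y₀) [IsDominant f₀]
    (hirr : IsIrreducible (f₀.base ⁻¹' {genericPoint Y₀}))
    (C : TopologicalSpace.Closeds X₀) (hC : (C : Set X₀) ∈ irreducibleComponents (X₀ : Type u))
    (hCη : ((C : Set X₀) ∩ f₀.base ⁻¹' {genericPoint Y₀}).Nonempty) [IsIntegral (pullback f₀ g)]
    (e₁ : ((Scheme.IdealSheafData.vanishingIdeal C).subschemeι ≫ f₀) ≫ 𝟙 Y₀ =
      (Scheme.IdealSheafData.vanishingIdeal C).subschemeι ≫ f₀) (e₂ : g ≫ 𝟙 Y₀ = 𝟙 Y ≫ g) :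
    IsIso (pullback.map ((Scheme.IdealSheafData.vanishingIdeal C).subschemeι ≫ f₀) g f₀ g
      (Scheme.IdealSheafData.vanishingIdeal C).subschemeι (𝟙 Y) (𝟙 Y₀) e₁ e₂) := by
  classical
  set ι := (Scheme.IdealSheafData.vanishingIdeal C).subschemeι with hι
  have hrange : Set.range ι = (C : Set X₀) := by
    rw [hι, Scheme.IdealSheafData.range_subschemeι,
      Scheme.IdealSheafData.coe_support_vanishingIdeal]
  haveI hci : IsClosedImmersion (pullback.map (ι ≫ f₀) g f₀ g ι (𝟙 Y) (𝟙 Y₀) e₁ e₂) :=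
    MorphismProperty.pullbackMap (P := @IsClosedImmersion) (f := ι ≫ f₀) (g := g) (f' := f₀)
      (g' := g) (i₁ := ι) (i₂ := 𝟙 Y) inferInstance inferInstance rfl (Category.id_comp g).symm
  -- the generic point of `Y` maps to the generic point of `Y₀`
  have hgη : g (genericPoint Y) = genericPoint Y₀ := by
    have hd : DenseRange g := g.denseRange
    have h1 : IsGenericPoint (g (genericPoint Y)) (Set.univ : Set Y₀) := by
      show closure ({g (genericPoint Y)} : Set Y₀) = Set.univ
      apply Set.eq_univ_of_univ_subset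
      rw [← hd.closure_range]
      apply closure_minimal _ isClosed_closure
      rintro _ ⟨y, rfl⟩
      have h2 : genericPoint Y ⤳ y := genericPoint_specializes y
      exact specializes_iff_mem_closure.mp (h2.map g.continuous)
    exact h1.eq (genericPoint_spec Y₀)
  -- the generic fibre is contained in `C`
  have hFC : ∀ x : X₀, f₀ x = genericPoint Y₀ → x ∈ (C : Set X₀) := by
    obtain ⟨c₀, hc₀C, hc₀F⟩ := hCη
    have hc₀F' : f₀ c₀ = genericPoint Y₀ := hc₀F
    have hCirr : IsIrreducible (C : Set X₀) := hC.prop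
    have hCcl : IsClosed (C : Set X₀) := isClosed_of_mem_irreducibleComponents _ hC
    have hcgen : IsGenericPoint hCirr.genericPoint (C : Set X₀) :=
      hCirr.isGenericPoint_genericPoint hCcl
    have h1 : hCirr.genericPoint ⤳ c₀ := hcgen.specializes hc₀C
    have h2 : f₀ hCirr.genericPoint ⤳ f₀ c₀ := h1.map f₀.continuous
    rw [hc₀F'] at h2
    have h4 : f₀ hCirr.genericPoint = genericPoint Y₀ :=
      (h2.antisymm (genericPoint_specializes _)).eq
    have hFirr : IsIrreducible (closure (f₀.base ⁻¹' {genericPoint Y₀})) := hirr.closure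
    have hCle : (C : Set X₀) ≤ closure (f₀.base ⁻¹' {genericPoint Y₀}) := by
      rw [← hcgen.def]
      exact closure_mono (Set.singleton_subset_iff.mpr h4)
    have h5 : closure (f₀.base ⁻¹' {genericPoint Y₀}) ≤ (C : Set X₀) := hC.le_of_ge hFirr hCle
    intro x hx
    exact h5 (subset_closure hx)
  -- a point of the generic fibre of `X → Y`
  obtain ⟨x₀, hx₀⟩ := hirr.nonempty
  have hx₀' : f₀ x₀ = genericPoint Y₀ := hx₀
  obtain ⟨p, hp1, hp2⟩ := Scheme.Pullback.exists_preimage_pullback (f := f₀) (g := g) x₀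
    (genericPoint Y) (hx₀'.trans hgη.symm)
  have hξp : genericPoint ↥(pullback f₀ g) ⤳ p := genericPoint_specializes p
  have hsnd : pullback.snd f₀ g (genericPoint ↥(pullback f₀ g)) = genericPoint Y := by
    have h1 := hξp.map (pullback.snd f₀ g).continuous
    rw [hp2] at h1
    exact (h1.antisymm (genericPoint_specializes _)).eq
  have hfst : f₀ (pullback.fst f₀ g (genericPoint ↥(pullback f₀ g))) = genericPoint Y₀ := by
    rw [← Scheme.Hom.comp_apply, pullback.condition, Scheme.Hom.comp_apply, hsnd, hgη]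
  haveI : Surjective (pullback.map (ι ≫ f₀) g f₀ g ι (𝟙 Y) (𝟙 Y₀) e₁ e₂) := by
    constructor
    rw [← Set.range_eq_univ]
    have hcl : IsClosed (Set.range (pullback.map (ι ≫ f₀) g f₀ g ι (𝟙 Y) (𝟙 Y₀) e₁ e₂)) :=
      (Scheme.Hom.isClosedEmbedding _).isClosed_range
    have hmem : genericPoint ↥(pullback f₀ g) ∈
        Set.range (pullback.map (ι ≫ f₀) g f₀ g ι (𝟙 Y) (𝟙 Y₀) e₁ e₂) := by
      rw [Scheme.Pullback.range_map (ι ≫ f₀) g f₀ g ι (𝟙 Y) (𝟙 Y₀) e₁ e₂]
      refine ⟨?_, ?_⟩
      · rw [Set.mem_preimage, hrange]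
        exact hFC _ hfst
      · exact ⟨_, rfl⟩
    apply Set.eq_univ_of_univ_subset
    rw [← genericPoint_closure (α := ↥(pullback f₀ g))]
    exact hcl.closure_subset_iff.mpr (Set.singleton_subset_iff.mpr hmem)
  exact isIso_of_isClosedImmersion_of_surjective _

end Groth.Agent.S4973
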