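import Groth.Statements.S4977
import Groth.Agent.Lib.Helper13.PropAtD

set_option autoImplicit false
open CategoryTheory AlgebraicGeometry
universe u v w
open EGA43

namespace Groth.Agent.S4977

open CategoryTheory.Limits in
/-- Let Y be a locally Noetherian scheme, y a point of Y, f : X ⟶ Y a separated morphism of finite type,
and Z a locally constructible subset of X such that: (i) for every generization y' of y, Z ∩ f⁻¹(y')
is a connected component of the fibre f⁻¹(y') and is geometrically connected over κ(y'); (ii) Z ∩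
f⁻¹(y), an open and closed subscheme of the fibre X_y, is proper over κ(y); (iii) Z is universally
submersive onto f(Z): for every morphism h : Y' ⟶ Y, writing p and f' for the two projections of X
×_Y Y', a subset E of h⁻¹(f(Z)) is open in h⁻¹(f(Z)) as soon as f'⁻¹(E) ∩ p⁻¹(Z) is open in p⁻¹(Z)
(induced topologies). Then Z is proper over Y at y: there is an open neighbourhood U of y such that
Z ∩ f⁻¹(U) is closed in f⁻¹(U) and, with its reduced subscheme structure, proper over U. -/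
theorem result {X Y : Scheme.{u}} [IsLocallyNoetherian Y] (y : Y)
    (f : X ⟶ Y) [IsSeparated f] [LocallyOfFiniteType f] [QuasiCompact f] (Z : Set X)
    (hZ : Topology.IsLocallyConstructible Z)
    (h1 : ∀ y' : Y, y' ⤳ y → (∃ x ∈ Z, f.base x = y' ∧ Z ∩ f.base ⁻¹' {y'} = connectedComponentIn (f.base ⁻¹' {y'}) x) ∧
      ∀ (K : Type u) [Field K] [Algebra (IsLocalRing.ResidueField (Y.presheaf.stalk y')) K],
        _root_.IsPreconnected ((FBase.bcπ (f.fiberToSpecResidueField y') K ≫ f.fiberι y').base ⁻¹' Z))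
    (hop : IsOpen ((f.fiberι y).base ⁻¹' Z))
    (h2 : IsProper (Scheme.Opens.ι (⟨(f.fiberι y).base ⁻¹' Z, hop⟩ : (f.fiber y).Opens) ≫ f.fiberToSpecResidueField y))
    (h3 : ∀ (Y' : Scheme.{u}) (h : Y' ⟶ Y) (E : Set Y'), E ⊆ h.base ⁻¹' (f.base '' Z) →
      (∃ W : Set ↥(pullback f h), IsOpen W ∧
        W ∩ (pullback.fst f h).base ⁻¹' Z = (pullback.snd f h).base ⁻¹' E ∩ (pullback.fst f h).base ⁻¹' Z) →
      ∃ V : Set Y', IsOpen V ∧ V ∩ h.base ⁻¹' (f.base '' Z) = E) :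
    ∃ U : Y.Opens, y ∈ U ∧ ∃ hC : IsClosed ((f ⁻¹ᵁ U).ι.base ⁻¹' Z),
      IsProper ((Scheme.IdealSheafData.vanishingIdeal
        (⟨(f ⁻¹ᵁ U).ι.base ⁻¹' Z, hC⟩ : TopologicalSpace.Closeds ↥(f ⁻¹ᵁ U))).subschemeι ≫ (f ∣_ U)) := by
  classical
  have : IsLocallyNoetherian X := LocallyOfFiniteType.isLocallyNoetherian f
  let Cb : TopologicalSpace.Closeds X := ⟨closure Z, isClosed_closure⟩
  let i := (Scheme.IdealSheafData.vanishingIdeal Cb).subschemeι
  have hir : Set.range i = closure Z := by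
    rw [Scheme.IdealSheafData.range_subschemeι, Scheme.IdealSheafData.coe_support_vanishingIdeal]
    rfl
  obtain ⟨U₀, hyU₀, hU₀p⟩ :=
    Groth.Agent.Lib.Helper13.PropAtB.closure_proper_nhd f y Z hZ h1 hop h2 h3 i hir.le
  have hmem := Groth.Agent.Lib.Helper13.PropAtC.mem_of_mem_closure f y Z hZ h1 h3 i hir.ge U₀ hyU₀
  have hycl := Groth.Agent.Lib.Helper13.PropAtD.not_mem_closure_image f Z hZ y hmem
  let U₁ : Y.Opens := ⟨(closure (f '' (closure Z \ Z)))ᶜ, isClosed_closure.isOpen_compl⟩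
  let U : Y.Opens := U₀.ι ''ᵁ (U₀.ι ⁻¹ᵁ U₁)
  have hUU₁ : U ≤ U₁ := U₀.ι.image_preimage_le U₁
  have hyU : y ∈ U := ⟨⟨y, hyU₀⟩, hycl, rfl⟩
  have hUp : IsProper ((i ≫ f) ∣_ U) :=
    Groth.Agent.Lib.Helper13.ProperNhd.of_affine_nhd (i ≫ f) U₀ (U₀.ι ⁻¹ᵁ U₁)
      (inferInstance : IsProper (((i ≫ f) ∣_ U₀) ∣_ _))
  have hpre : (f ⁻¹ᵁ U).ι.base ⁻¹' Z = (f ⁻¹ᵁ U).ι.base ⁻¹' (closure Z) := by
    ext w
    refine ⟨fun h => subset_closure h, fun h => ?_⟩
    by_contra hw
    have hfw : f ((f ⁻¹ᵁ U).ι w) ∈ U₁ := hUU₁ w.2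
    exact hfw (subset_closure ⟨_, ⟨h, hw⟩, rfl⟩)
  have hC : IsClosed ((f ⁻¹ᵁ U).ι.base ⁻¹' Z) := by
    rw [hpre]
    exact isClosed_closure.preimage (f ⁻¹ᵁ U).ι.continuous
  refine ⟨U, hyU, hC, ?_⟩
  have : IsSeparated (f ∣_ U) :=
    MorphismProperty.of_isPullback (P := @IsSeparated)
      (isPullback_morphismRestrict f U).flip inferInstance
  have : LocallyOfFiniteType (f ∣_ U) :=
    MorphismProperty.of_isPullback (P := @LocallyOfFiniteType)
      (isPullback_morphismRestrict f U).flip inferInstance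
  have : UniversallyClosed ((i ∣_ (f ⁻¹ᵁ U)) ≫ (f ∣_ U)) := by
    rw [← morphismRestrict_comp]
    exact hUp.toUniversallyClosed
  refine Groth.Agent.Lib.Helper13.PropAtA.isProper_vanishing (f ∣_ U) _ (i ∣_ (f ⁻¹ᵁ U)) ?_
  rw [Groth.Agent.Lib.Helper13.PropAtC.range_of_isPullback
    (isPullback_morphismRestrict i (f ⁻¹ᵁ U)), hir]
  intro w hw
  exact subset_closure hw

end Groth.Agent.S4977
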