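-- Statement S4980.
import Groth.Statements.S4980
import Mathlib
import Groth.Agent.Lib.Helper1.GenLe7

set_option autoImplicit false
open CategoryTheory AlgebraicGeometry
universe u v w
open EGA43

namespace Groth.Agent.S4980

open Groth.Agent.Lib.Helper1.GenLe TopologicalSpace

/-- Let A be a discrete valuation ring, Y = Spec A with closed point y and generic point y', f : X ⟶ Y a
proper morphism and F a coherent O_X-module which is f-flat; write F_y, F_{y'} for the restrictions
of F to the two fibres and suppose F_y has no embedded associated point. Then the sum, over the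
maximal points z' of Supp(F_{y'}), of the lengths of the stalks (F_{y'})_{z'} is at most the sum,
over the maximal points z of Supp(F_y), of the lengths of the stalks (F_y)_z (lengths over the local
rings of the fibres). -/
theorem result {A : Type u} [CommRing A] [IsDomain A]
    [IsDiscreteValuationRing A] {X : Scheme.{u}} (f : X ⟶ Spec (CommRingCat.of A)) [IsProper f] (F : X.Modules)
    (hF : Coh.IsCoh F) (hflat : FlatMod.IsFlatOver f F)
    (hemb : AssSch.NoEmbedded ((Scheme.Modules.pullback (f.fiberι (IsLocalRing.closedPoint A))).obj F)) :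
    letI y : ↥(Spec (CommRingCat.of A)) := IsLocalRing.closedPoint A
    letI y' : ↥(Spec (CommRingCat.of A)) := genericPoint (Spec (CommRingCat.of A))
    ∑ᶠ z' : {v : ↥(f.fiber y') // Nontrivial (((Scheme.Modules.pullback (f.fiberι y')).obj F).presheaf.stalk v) ∧
        ∀ w : ↥(f.fiber y'), Nontrivial (((Scheme.Modules.pullback (f.fiberι y')).obj F).presheaf.stalk w) → v ∈ closure {w} → w = v},
        Module.length ((f.fiber y').presheaf.stalk z'.1) (((Scheme.Modules.pullback (f.fiberι y')).obj F).presheaf.stalk z'.1) ≤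
      ∑ᶠ z : {v : ↥(f.fiber y) // Nontrivial (((Scheme.Modules.pullback (f.fiberι y)).obj F).presheaf.stalk v) ∧
        ∀ w : ↥(f.fiber y), Nontrivial (((Scheme.Modules.pullback (f.fiberι y)).obj F).presheaf.stalk w) → v ∈ closure {w} → w = v},
        Module.length ((f.fiber y).presheaf.stalk z.1) (((Scheme.Modules.pullback (f.fiberι y)).obj F).presheaf.stalk z.1) := by
  classical
  haveI : F.IsQuasicoherent := hF.1
  haveI : F.IsFiniteType := hF.2
  haveI : IsLocallyNoetherian X := LocallyOfFiniteType.isLocallyNoetherian f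
  haveI : CompactSpace X := QuasiCompact.compactSpace_of_compactSpace f
  haveI : IsNoetherian X := {}
  obtain ⟨π, hπ⟩ := IsDiscreteValuationRing.exists_irreducible A
  have hfib : ∀ (s : ↥(Spec (CommRingCat.of A))) (v : ↥(f.fiber s)),
      f.base ((f.fiberι s).base v) = s := by
    intro s v
    have : (f.fiberι s).base v ∈ Set.range (f.fiberι s) := ⟨v, rfl⟩
    rw [f.range_fiberι s] at this
    exact this
  have hgen : ∀ (w x' : X), f.base x' = (genericPoint ↥(Spec (CommRingCat.of A))) → w ⤳ x' → f.base w = (genericPoint ↥(Spec (CommRingCat.of A))) := by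
    intro w x' hx' hw
    have h2 : f.base w ⤳ f.base x' := hw.map f.continuous
    rw [hx'] at h2
    exact (h2.antisymm (genericPoint_specializes _)).eq
  haveI hfinI : Finite {v : ↥(f.fiber (IsLocalRing.closedPoint A)) //
      Nontrivial (((Scheme.Modules.pullback (f.fiberι (IsLocalRing.closedPoint A))).obj F).presheaf.stalk v) ∧
        ∀ w : ↥(f.fiber (IsLocalRing.closedPoint A)),
          Nontrivial (((Scheme.Modules.pullback (f.fiberι (IsLocalRing.closedPoint A))).obj F).presheaf.stalk w) →
            v ∈ closure {w} → w = v} := by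
    have hfin := finite_maximal_points (Sy f F) (isClosed_Sy f F hF)
    haveI := hfin.to_subtype
    refine Finite.of_injective (fun z =>
      (⟨(f.fiberι (IsLocalRing.closedPoint A)).base z.1, ?_⟩ : {v : X | v ∈ Sy f F ∧ ∀ w ∈ Sy f F, w ⤳ v → w = v})) ?_
    · have h1 := (fibre_index_iff f F (IsLocalRing.closedPoint A) z.1).mp z.2
      exact ⟨⟨hfib (IsLocalRing.closedPoint A) z.1, h1.1⟩, fun w hw hwv => h1.2 w hw.1 hw.2 hwv⟩
    · intro a b hab
      exact Subtype.ext ((f.fiberι (IsLocalRing.closedPoint A)).isEmbedding.injective (congrArg Subtype.val hab))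
  refine finsum_le_finsum_of_rel _ _ (fun z' => (f.fiberι (genericPoint ↥(Spec (CommRingCat.of A)))).base z'.1) ?_
    (fun x => Module.length (X.presheaf.stalk x) (F.presheaf.stalk x)) ?_
    (fun z' z => (f.fiberι (genericPoint ↥(Spec (CommRingCat.of A)))).base z'.1 ⤳ (f.fiberι (IsLocalRing.closedPoint A)).base z.1) ?_ ?_
  · intro a b hab
    exact Subtype.ext ((f.fiberι (genericPoint ↥(Spec (CommRingCat.of A)))).isEmbedding.injective hab)
  · intro z'
    rw [length_fibre_stalk f F (genericPoint ↥(Spec (CommRingCat.of A))) z'.1 0 (map_maximalIdeal_generic f _ (hfib (genericPoint ↥(Spec (CommRingCat.of A))) z'.1))]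
    exact (Submodule.quotEquivOfEqBot _ (by simp)).length_eq
  · intro z'
    have h1 := (fibre_index_iff f F (genericPoint ↥(Spec (CommRingCat.of A))) z'.1).mp z'.2
    obtain ⟨x1, hx1S, hsp, hx1max⟩ := exists_max_closed f F hF hflat hemb _ h1.1
      (fun w hwne hw => h1.2 w (hgen w _ (hfib (genericPoint ↥(Spec (CommRingCat.of A))) z'.1) hw) hwne hw)
    obtain ⟨z1, rfl⟩ : x1 ∈ Set.range (f.fiberι (IsLocalRing.closedPoint A)) := by
      rw [f.range_fiberι (IsLocalRing.closedPoint A)]
      exact hx1S.1
    exact ⟨⟨z1, (fibre_index_iff f F (IsLocalRing.closedPoint A) z1).mpr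
      ⟨hx1S.2, fun w hw hwne hwz => hx1max w ⟨hw, hwne⟩ hwz⟩⟩, hsp⟩
  · intro z 𝒮 h𝒮
    have hfx := hfib (IsLocalRing.closedPoint A) z.1
    rw [length_fibre_stalk f F (IsLocalRing.closedPoint A) z.1 (cOf f π _) (map_maximalIdeal_closed f hπ _ hfx)]
    refine sum_length_le F _ (cOf f π _) ((cOf_mem_iff f hπ _).mpr hfx)
      (isSMulRegular_cOf f F hflat hπ.ne_zero _) 𝒮 ?_
    intro x' hx'
    obtain ⟨z', rfl, hrel⟩ := h𝒮 x' hx'
    have h1 := (fibre_index_iff f F (genericPoint ↥(Spec (CommRingCat.of A))) z'.1).mp z'.2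
    exact ⟨hrel, h1.1, fun w hwne hw => h1.2 w (hgen w _ (hfib (genericPoint ↥(Spec (CommRingCat.of A))) z'.1) hw) hwne hw⟩

end Groth.Agent.S4980
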