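import Groth.Statements.S4988
import Groth.Agent.Lib.Helper8.EqLocus

set_option autoImplicit false
universe u
open CategoryTheory CategoryTheory.Limits AlgebraicGeometry TopologicalSpace
open Unram17

namespace Groth.Agent.S4988

/-- Let h : Y ⟶ S be formally unramified, locally of finite type and separated, let f, g : X ⟶ Y be
morphisms over S whose common composite X ⟶ S is both open and closed as a map of topological
spaces, and let s be a point of S. If f and g have the same restriction to the scheme-theoretic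
fibre of X over s, then there is an open and closed subset V of S containing s such that f and g
agree on the preimage of V; in particular f = g when S is connected. -/
theorem result {X Y S : Scheme.{u}} (h : Y ⟶ S)
    [FormallyUnramified h] [LocallyOfFiniteType h] [IsSeparated h]
    (f g : X ⟶ Y) (w : g ≫ h = f ≫ h)
    (ho : IsOpenMap (f ≫ h).base) (hc : IsClosedMap (f ≫ h).base) (s : ↥S)
    (hs : (f ≫ h).fiberι s ≫ f = (f ≫ h).fiberι s ≫ g) :
    ∃ V : S.Opens, IsClosed (V : Set ↥S) ∧ s ∈ V ∧
      ((f ≫ h) ⁻¹ᵁ V).ι ≫ f = ((f ≫ h) ⁻¹ᵁ V).ι ≫ g := by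
  classical
  have hWeq := Groth.Agent.Lib.Helper8.eqOpens_ι_comp h f g w.symm
  have hfib : ∀ x : X, (f ≫ h).base x = s → x ∈ Groth.Agent.Lib.Helper8.eqOpens h f g w.symm := by
    intro x hx
    have hxr : x ∈ Set.range ((f ≫ h).fiberι s).base := by
      have h1 := (f ≫ h).range_fiberι s
      have h2 : x ∈ (f ≫ h).base ⁻¹' {s} := hx
      rw [← h1] at h2
      exact h2
    exact Groth.Agent.Lib.Helper8.range_subset_eqOpens h f g w.symm _ hs hxr
  have hWcl : IsClosed ((Groth.Agent.Lib.Helper8.eqOpens h f g w.symm : X.Opens) : Set X) := by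
    rw [Groth.Agent.Lib.Helper8.coe_eqOpens]
    exact (pullback.diagonal h).isClosedEmbedding.isClosed_range.preimage
      (pullback.lift f g w.symm).continuous
  let V : S.Opens := ⟨((f ≫ h).base ''
      ((Groth.Agent.Lib.Helper8.eqOpens h f g w.symm : X.Opens) : Set X)ᶜ)ᶜ,
    (hc _ (Groth.Agent.Lib.Helper8.eqOpens h f g w.symm).isOpen.isClosed_compl).isOpen_compl⟩
  have hVcl : IsClosed (V : Set ↥S) := by
    show IsClosed (((f ≫ h).base ''
      ((Groth.Agent.Lib.Helper8.eqOpens h f g w.symm : X.Opens) : Set X)ᶜ)ᶜ)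
    exact (ho _ hWcl.isOpen_compl).isClosed_compl
  have hsV : s ∈ V := by
    rintro ⟨x, hxW, hxs⟩
    exact hxW (hfib x hxs)
  have hle : (f ≫ h) ⁻¹ᵁ V ≤ Groth.Agent.Lib.Helper8.eqOpens h f g w.symm := by
    intro x hx
    by_contra hxW
    exact hx ⟨x, hxW, rfl⟩
  refine ⟨V, hVcl, hsV, ?_⟩
  rw [← X.homOfLE_ι hle, Category.assoc, Category.assoc, hWeq]

end Groth.Agent.S4988
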