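import Groth.Statements.S4990
-- import your own Groth.Agent.* helpers here
import Mathlib
import Groth.Agent.Lib.Helper4.FlatRing

set_option autoImplicit false
universe u
open CategoryTheory CategoryTheory.Limits AlgebraicGeometry TopologicalSpace
open Unram17

namespace Groth.Agent.S4990

/-- Let Y be locally Noetherian and f : X ⟶ Y locally of finite type, smooth on an open neighbourhood of
a point x with image y. Then the Krull dimension of the local ring of X at x is the sum of the Krull
dimension of the local ring of Y at y and of the Krull dimension of the local ring of the fibre, the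
quotient of the local ring at x by the extension of the maximal ideal at y. -/
theorem result {X Y : Scheme.{u}} (f : X ⟶ Y)
    [IsLocallyNoetherian Y] [LocallyOfFiniteType f] (x : ↥X)
    (hx : ∃ U : X.Opens, x ∈ U ∧ Smooth (U.ι ≫ f)) :
    ringKrullDim ↑(X.presheaf.stalk x) =
      ringKrullDim ↑(Y.presheaf.stalk (f.base x)) +
        ringKrullDim (↑(X.presheaf.stalk x) ⧸
          (IsLocalRing.maximalIdeal ↑(Y.presheaf.stalk (f.base x))).map (f.stalkMap x).hom) := by
  classical
  obtain ⟨U, hxU, hsm⟩ := hx
  haveI := hsm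
  haveI : IsLocallyNoetherian X := LocallyOfFiniteType.isLocallyNoetherian f
  -- flatness of the stalk map
  have hflat : (f.stalkMap x).hom.Flat := by
    let x' : ↥(U.toScheme) := ⟨x, hxU⟩
    have h1 : ((U.ι ≫ f).stalkMap x').hom.Flat := Flat.stalkMap (U.ι ≫ f) x'
    have h2 : (U.ι ≫ f).stalkMap x' = f.stalkMap (U.ι.base x') ≫ U.ι.stalkMap x' :=
      Scheme.Hom.stalkMap_comp U.ι f x'
    have h3 : f.stalkMap x = (U.ι ≫ f).stalkMap x' ≫ inv (U.ι.stalkMap x') :=
      (IsIso.eq_comp_inv (U.ι.stalkMap x')).mpr h2.symm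
    rw [h3]
    show ((inv (U.ι.stalkMap x')).hom.comp ((U.ι ≫ f).stalkMap x').hom).Flat
    refine RingHom.Flat.comp h1 ?_
    apply RingHom.Flat.of_bijective
    exact ConcreteCategory.bijective_of_isIso (inv (U.ι.stalkMap x'))
  letI : Algebra (Y.presheaf.stalk (f.base x)) (X.presheaf.stalk x) := (f.stalkMap x).hom.toAlgebra
  haveI : IsLocalHom (algebraMap (Y.presheaf.stalk (f.base x)) (X.presheaf.stalk x)) :=
    (inferInstance : IsLocalHom (f.stalkMap x).hom)
  haveI : Module.Flat (Y.presheaf.stalk (f.base x)) (X.presheaf.stalk x) := hflat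
  have hne : (IsLocalRing.maximalIdeal (Y.presheaf.stalk (f.base x))).map
      (algebraMap (Y.presheaf.stalk (f.base x)) (X.presheaf.stalk x)) ≠ ⊤ := by
    intro h
    have hle : (IsLocalRing.maximalIdeal (Y.presheaf.stalk (f.base x))).map
        (algebraMap (Y.presheaf.stalk (f.base x)) (X.presheaf.stalk x)) ≤
        IsLocalRing.maximalIdeal (X.presheaf.stalk x) :=
      Ideal.map_le_iff_le_comap.mpr (le_of_eq (IsLocalRing.maximalIdeal_comap
        (algebraMap (Y.presheaf.stalk (f.base x)) (X.presheaf.stalk x))).symm)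
    rw [h] at hle
    exact (IsLocalRing.maximalIdeal.isMaximal _).ne_top (top_le_iff.mp hle)
  haveI : Nontrivial (X.presheaf.stalk x ⧸ (IsLocalRing.maximalIdeal
      (Y.presheaf.stalk (f.base x))).map
      (algebraMap (Y.presheaf.stalk (f.base x)) (X.presheaf.stalk x))) :=
    Ideal.Quotient.nontrivial_iff.mpr hne
  haveI : IsLocalRing (X.presheaf.stalk x ⧸ (IsLocalRing.maximalIdeal
      (Y.presheaf.stalk (f.base x))).map
      (algebraMap (Y.presheaf.stalk (f.base x)) (X.presheaf.stalk x))) :=
    IsLocalRing.of_surjective' (Ideal.Quotient.mk _) Ideal.Quotient.mk_surjective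
  exact Groth.Agent.Lib.Helper4.FlatRing.dim_eq_add_fibRing (Y.presheaf.stalk (f.base x))
    (X.presheaf.stalk x)

end Groth.Agent.S4990
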