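import Groth.Statements.S4997
import Mathlib
import Groth.Agent.Lib.Helper6.UnramStalk
import Groth.Agent.S3830

set_option autoImplicit false
universe u
open CategoryTheory CategoryTheory.Limits AlgebraicGeometry TopologicalSpace
open Unram17

namespace Groth.Agent.S4997

/-- A morphism of schemes is etale if and only if it is smooth and locally quasi-finite. -/
theorem result {X Y : Scheme.{u}} (f : X ⟶ Y) :
    Etale f ↔ Smooth f ∧ LocallyQuasiFinite f := by
  constructor
  · intro hf
    refine ⟨inferInstance, ?_⟩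
    have key : ∀ {R S : Type u} [CommRing R] [CommRing S] {φ : R →+* S},
        φ.Etale → φ.QuasiFinite := by
      intro R S _ _ φ hφ
      letI := φ.toAlgebra
      haveI : Algebra.Etale R S := hφ
      change Algebra.QuasiFinite R S
      infer_instance
    rw [HasRingHomProperty.eq_affineLocally @LocallyQuasiFinite]
    rw [HasRingHomProperty.eq_affineLocally @Etale] at hf
    exact affineLocally_le key f hf
  · rintro ⟨hs, hq⟩
    haveI : FormallyUnramified f := by
      refine HasRingHomProperty.of_stalkMap RingHom.FormallyUnramified.ofLocalizationPrime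
        (fun x => ?_)
      obtain ⟨U, hU, hxU⟩ : ∃ U : Y.Opens, IsAffineOpen U ∧ f x ∈ U := by
        obtain ⟨_, ⟨U, hU, rfl⟩, hxU, -⟩ :=
          Y.isBasis_affineOpens.exists_subset_of_mem_open (Set.mem_univ (f x)) isOpen_univ
        exact ⟨U, hU, hxU⟩
      obtain ⟨V, hV, hxV, hVU⟩ : ∃ V : X.Opens, IsAffineOpen V ∧ x ∈ V ∧ V ≤ f ⁻¹ᵁ U := by
        obtain ⟨_, ⟨V, hV, rfl⟩, hxV, hVU⟩ :=
          X.isBasis_affineOpens.exists_subset_of_mem_open hxU (U.2.preimage f.continuous)
        exact ⟨V, hV, hxV, hVU⟩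
      have := f.finitePresentation_appLE hU hV hVU
      have hqf := (f.quasiFiniteAt x).quasiFiniteAt hV hU hVU hxV
      algebraize [(f.appLE U V hVU).hom]
      rw [Groth.Agent.Lib.Helper6.UnramStalk.formallyUnramified_stalkMap_iff U hU V hV hVU hxV]
      have hsm : Algebra.IsSmoothAt Γ(Y, U) (hV.primeIdealOf ⟨x, hxV⟩).asIdeal := by
        have hx : x ∈ f.smoothLocus := by
          rw [f.smoothLocus_eq_top]
          trivial
        exact (formallySmooth_stalkMap_iff U hU V hV hVU hxV).mp hx
      haveI : Algebra.QuasiFiniteAt Γ(Y, U) (hV.primeIdealOf ⟨x, hxV⟩).asIdeal := hqf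
      haveI : Algebra.IsEtaleAt Γ(Y, U) (hV.primeIdealOf ⟨x, hxV⟩).asIdeal :=
        Groth.Agent.S3830.result Γ(Y, U) Γ(X, V) _ hsm
      exact inferInstanceAs (Algebra.FormallyUnramified Γ(Y, U)
        (Localization.AtPrime (hV.primeIdealOf ⟨x, hxV⟩).asIdeal))
    exact Etale.of_formallyUnramified_of_flat f

end Groth.Agent.S4997
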