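import Groth.Statements.S4998
import Mathlib

set_option autoImplicit false
universe u
open Unram17

namespace Groth.Agent.S4998

/-- Let A be an algebra of finite type over a field k. Then A is formally unramified over k if and only
if A is finite over k and every element of A has separable minimal polynomial over k (equivalently,
A is a finite product of finite separable extensions of k). -/
theorem result (k A : Type u) [Field k] [CommRing A]
    [Algebra k A] [Algebra.FiniteType k A] :
    Algebra.FormallyUnramified k A ↔ Module.Finite k A ∧ Algebra.IsSeparable k A := by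
  classical
  constructor
  · intro h
    have hfin : Module.Finite k A := Algebra.FormallyUnramified.finite_of_free k A
    refine ⟨hfin, ⟨fun a => ?_⟩⟩
    have hE : Algebra.FormallyEtale k A :=
      Algebra.FormallyEtale.iff_formallyUnramified_of_field.mpr h
    obtain ⟨ι, hι, Ai, hF, hAlg, e, hsep⟩ :=
      (Algebra.FormallyEtale.iff_exists_algEquiv_prod k A).mp hE
    have := Fintype.ofFinite ι
    have hint : ∀ i, IsIntegral k (e a i) := fun i => ((hsep i).isSeparable' (e a i)).isIntegral
    have hP0 : Polynomial.aeval (e a) (∏ p ∈ Finset.univ.image (fun i => minpoly k (e a i)), p) =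
        0 := by
      funext i
      have h1 : (Polynomial.aeval (e a) (∏ p ∈ Finset.univ.image (fun i => minpoly k (e a i)), p)) i
          = Polynomial.aeval (e a i)
            (∏ p ∈ Finset.univ.image (fun i => minpoly k (e a i)), p) :=
        (Polynomial.aeval_algHom_apply (Pi.evalAlgHom k Ai i) (e a) _).symm
      rw [h1]
      obtain ⟨c, hc⟩ := Finset.dvd_prod_of_mem (fun p : Polynomial k => p)
        (Finset.mem_image_of_mem (fun i => minpoly k (e a i)) (Finset.mem_univ i))
      rw [hc, map_mul, minpoly.aeval, zero_mul]
      rfl
    have hPsep : (∏ p ∈ Finset.univ.image (fun i => minpoly k (e a i)), p).Separable := by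
      apply Polynomial.separable_prod'
      · intro p hp q hq hpq
        obtain ⟨i, -, rfl⟩ := Finset.mem_image.mp hp
        obtain ⟨j, -, rfl⟩ := Finset.mem_image.mp hq
        rw [(minpoly.irreducible (hint i)).coprime_iff_not_dvd]
        intro hdvd
        exact hpq (Polynomial.eq_of_monic_of_associated (minpoly.monic (hint i))
          (minpoly.monic (hint j))
          ((minpoly.irreducible (hint i)).associated_of_dvd (minpoly.irreducible (hint j)) hdvd))
      · intro p hp
        obtain ⟨i, -, rfl⟩ := Finset.mem_image.mp hp
        exact (hsep i).isSeparable' (e a i)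
    have hdvd := minpoly.dvd k (e a) hP0
    have hsepb : (minpoly k (e a)).Separable := hPsep.of_dvd hdvd
    show (minpoly k a).Separable
    rw [← minpoly.algEquiv_eq e a]
    exact hsepb
  · rintro ⟨hfin, hsep⟩
    rw [Algebra.FormallyUnramified.iff_comp_injective]
    intro B _ _ I hI f₁ f₂ e
    ext x
    have hmem : f₁ x - f₂ x ∈ I := by
      simpa [Ideal.Quotient.mk_eq_mk_iff_sub_mem] using AlgHom.congr_fun e x
    have := Polynomial.eval_add_of_sq_eq_zero ((minpoly k x).map (algebraMap k B)) (f₂ x)
      (f₁ x - f₂ x) (show (f₁ x - f₂ x) ^ 2 ∈ ⊥ from hI ▸ Ideal.pow_mem_pow hmem 2)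
    simp only [add_sub_cancel, Polynomial.eval_map_algebraMap, Polynomial.aeval_algHom_apply,
      minpoly.aeval, map_zero, Polynomial.derivative_map, zero_add] at this
    have hunit : IsUnit (Polynomial.aeval x (Polynomial.derivative (minpoly k x))) := by
      obtain ⟨a, b, hab⟩ := hsep.isSeparable' x
      have h1 := congrArg (Polynomial.aeval x) hab
      simp only [map_add, map_mul, minpoly.aeval, mul_zero, zero_add, map_one] at h1
      exact IsUnit.of_mul_eq_one _ (by rw [mul_comm]; exact h1)
    rwa [eq_comm, (hunit.map f₂).mul_right_eq_zero, sub_eq_zero] at this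

end Groth.Agent.S4998
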