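import Groth.Statements.S5000
import Groth.Agent.Lib.Helper26.CharZeroSmooth


set_option autoImplicit false
universe u
open Unram17

namespace Groth.Agent.S5000

/-- Let k be a field of characteristic zero, A a k-algebra of finite type and q a prime of A. Then A is
smooth over k at q if and only if the module of differentials of the local ring A_q over k is free. -/
theorem result (k A : Type u) [Field k] [CharZero k] [CommRing A]
    [Algebra k A] [Algebra.FiniteType k A] (q : Ideal A) [q.IsPrime] :
    Algebra.IsSmoothAt k q ↔
      Module.Free (Localization.AtPrime q) (KaehlerDifferential k (Localization.AtPrime q)) := by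
  haveI : Algebra.FinitePresentation k A :=
    Algebra.FinitePresentation.of_finiteType.mp inferInstance
  haveI : Algebra.EssFiniteType A (Localization.AtPrime q) :=
    Algebra.EssFiniteType.of_isLocalization _ q.primeCompl
  haveI : Algebra.EssFiniteType k (Localization.AtPrime q) := Algebra.EssFiniteType.comp k A _
  constructor
  · intro hsm
    haveI : Algebra.FormallySmooth k (Localization.AtPrime q) := hsm
    exact Module.free_of_flat_of_isLocalRing
  · intro hfree
    haveI := hfree
    have hq_free : (⟨q, inferInstance⟩ : PrimeSpectrum A) ∈ Module.freeLocus A Ω[A⁄k] := by
      rw [Module.mem_freeLocus]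
      have e := IsLocalizedModule.iso q.primeCompl
        (KaehlerDifferential.map k k A (Localization.AtPrime q))
      have e' := e.extendScalarsOfIsLocalization q.primeCompl (Localization.AtPrime q)
      exact Module.Free.of_equiv' hfree e'.symm
    obtain ⟨_, ⟨_, ⟨f, rfl⟩, rfl⟩, hqf, hsub⟩ :=
      PrimeSpectrum.isBasis_basic_opens.exists_subset_of_mem_open hq_free Module.isOpen_freeLocus
    have hproj : Module.Projective (Localization.Away f) Ω[Localization.Away f⁄k] := by
      rw [Module.basicOpen_subset_freeLocus_iff] at hsub
      have e := IsLocalizedModule.iso (.powers f)
        (KaehlerDifferential.map k k A (Localization.Away f))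
      have e' := e.extendScalarsOfIsLocalization (.powers f) (Localization.Away f)
      exact .of_equiv e'
    haveI := hproj
    haveI : Algebra.FinitePresentation A (Localization.Away f) :=
      IsLocalization.Away.finitePresentation f
    haveI : Algebra.FiniteType k (Localization.Away f) :=
      Algebra.FiniteType.trans (inferInstance : Algebra.FiniteType k A) inferInstance
    haveI : Algebra.Smooth k (Localization.Away f) :=
      Groth.Agent.Lib.Helper26.CharZeroSmooth.smooth_of_projective_of_charZero k _
    have hsm : ↑(PrimeSpectrum.basicOpen f) ⊆ Algebra.smoothLocus k A :=
      Algebra.basicOpen_subset_smoothLocus_iff_smooth.mpr inferInstance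
    exact hsm hqf

end Groth.Agent.S5000
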