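import Groth.Statements.S5026
-- import your own Groth.Agent.* helpers here
import Mathlib
import Groth.Agent.Lib.Helper22.EtaleDim4
import Groth.Agent.Lib.Helper22.EtaleDim5
import Groth.Agent.Lib.Helper22.EtaleDim6
import Groth.Agent.Lib.Helper22.EtaleDim7
import Groth.Agent.Lib.Helper22.EtaleDim8

set_option autoImplicit false
universe u
open Unram17

namespace Groth.Agent.S5026

/-- Let k be a field, A a k-algebra of finite type equipped with a k-algebra map from the polynomial
ring in n variables (images g_i of the variables), p a prime of A such that Spec A has local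
dimension n at p, r the Krull dimension of the local ring A_p, and suppose g_i ∈ p for the indices i
< r. Then A is etale at p over the polynomial ring if and only if the images of the g_i with i < r
generate the maximal ideal of A_p and the differentials of the residue classes of the g_i with i ≥ r
generate the module of differentials of the residue field κ(p) over k. (The published statement adds
that these conditions imply that A is smooth at p over k and that κ(p) is separable over k; this row
does not state that consequence.) -/
theorem result (k A : Type u) [Field k]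
    [CommRing A] [Algebra k A] [Algebra.FiniteType k A] (n r : ℕ) [Algebra (MvPolynomial (Fin n) k) A]
    [IsScalarTower k (MvPolynomial (Fin n) k) A] (p : Ideal A) [p.IsPrime]
    (hn : FlatMor.localDim (PrimeSpectrum A) ⟨p, inferInstance⟩ = (n : WithBot ℕ∞))
    (hr : ringKrullDim (Localization.AtPrime p) = (r : WithBot ℕ∞))
    (hg : ∀ i : Fin n, (i : ℕ) < r → algebraMap (MvPolynomial (Fin n) k) A (MvPolynomial.X i) ∈ p) :
    Algebra.IsEtaleAt (MvPolynomial (Fin n) k) p ↔
      Ideal.span ((fun i : Fin n =>
          algebraMap A (Localization.AtPrime p) (algebraMap (MvPolynomial (Fin n) k) A (MvPolynomial.X i))) ''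
            {i : Fin n | (i : ℕ) < r}) = IsLocalRing.maximalIdeal (Localization.AtPrime p) ∧
        Submodule.span p.ResidueField ((fun i : Fin n =>
          KaehlerDifferential.D k p.ResidueField
            (IsLocalRing.residue (Localization.AtPrime p)
              (algebraMap A (Localization.AtPrime p) (algebraMap (MvPolynomial (Fin n) k) A (MvPolynomial.X i))))) ''
            {i : Fin n | r ≤ (i : ℕ)}) = ⊤ := by
  haveI : Algebra.FiniteType (MvPolynomial (Fin n) k) A :=
    Algebra.FiniteType.of_restrictScalars_finiteType k (MvPolynomial (Fin n) k) A
  haveI : IsNoetherianRing A := Algebra.FiniteType.isNoetherianRing k A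
  have key := Groth.Agent.Lib.Helper22.EtaleDim.span_eq_top_iff_formallyUnramified k (Fin n)
    (Localization.AtPrime p)
  set y : Fin n → Localization.AtPrime p := fun i =>
    algebraMap (MvPolynomial (Fin n) k) (Localization.AtPrime p) (MvPolynomial.X i) with hy
  have hrw1 : (fun i : Fin n => algebraMap A (Localization.AtPrime p)
      (algebraMap (MvPolynomial (Fin n) k) A (MvPolynomial.X i))) = y := by
    funext i
    rw [hy, ← IsScalarTower.algebraMap_apply]
  have hrw2 : (fun i : Fin n => KaehlerDifferential.D k p.ResidueField
      (IsLocalRing.residue (Localization.AtPrime p) (algebraMap A (Localization.AtPrime p)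
        (algebraMap (MvPolynomial (Fin n) k) A (MvPolynomial.X i))))) =
      (fun i : Fin n => KaehlerDifferential.D k (IsLocalRing.ResidueField (Localization.AtPrime p))
        (IsLocalRing.residue (Localization.AtPrime p) (y i))) := by
    funext i
    rw [hy, ← IsScalarTower.algebraMap_apply]
  rw [hrw1, hrw2]
  have hym : ∀ i : Fin n, (i : ℕ) < r → y i ∈ IsLocalRing.maximalIdeal (Localization.AtPrime p) := by
    intro i hi
    have := hg i hi
    rw [hy]
    simp only
    rw [IsScalarTower.algebraMap_apply (MvPolynomial (Fin n) k) A (Localization.AtPrime p)]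
    exact (IsLocalization.AtPrime.to_map_mem_maximal_iff (Localization.AtPrime p) p _).mpr this
  -- `r ≤ n`
  have hrn : r ≤ n := by
    have h1 := Groth.Agent.Lib.Helper12.DimFT2.localDim_primeSpectrum k A ⟨p, inferInstance⟩
    rw [hn] at h1
    rw [IsLocalization.AtPrime.ringKrullDim_eq_height p (Localization.AtPrime p)] at hr
    have h2 : p.height = r := by exact_mod_cast hr
    have h3 : Order.height (⟨p, inferInstance⟩ : PrimeSpectrum A) = r := by
      rw [← h2]; exact (PrimeSpectrum.height_eq_orderHeight (⟨p, inferInstance⟩ : PrimeSpectrum A)).symm
    rw [h3] at h1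
    have h4 : (n : ℕ∞) = (r : ℕ∞) + Order.coheight (⟨p, inferInstance⟩ : PrimeSpectrum A) := by
      exact_mod_cast h1
    have h5 : (r : ℕ∞) ≤ n := by rw [h4]; exact le_self_add
    exact_mod_cast h5
  constructor
  · intro h
    haveI : Algebra.FormallyEtale (MvPolynomial (Fin n) k) (Localization.AtPrime p) := h
    have hspan := key.mpr inferInstance
    refine ⟨?_, ?_⟩
    · rw [Set.image_eq_range]
      refine Groth.Agent.Lib.Helper22.EtaleDim.span_eq_maximalIdeal_of_linearIndependent (k := k)
        (fun i : {i : Fin n | (i : ℕ) < r} => y i) (fun i => hym i i.2) ?_ ?_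
      · exact (Groth.Agent.Lib.Helper22.EtaleDim.linearIndependent_one_tmul_D k n A p h).comp
          Subtype.val Subtype.val_injective
      · haveI := Groth.Agent.Lib.Helper22.EtaleDim.isRegularLocalRing_of_isEtaleAt k n A p h
        have h1 := (IsRegularLocalRing.iff_finrank_cotangentSpace (Localization.AtPrime p)).mp
          inferInstance
        rw [hr] at h1
        have h2 : Module.finrank (IsLocalRing.ResidueField (Localization.AtPrime p))
            (IsLocalRing.CotangentSpace (Localization.AtPrime p)) = r := by exact_mod_cast h1
        rw [h2]
        have hinj : Function.Injective (fun j : Fin r =>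
            (⟨⟨j, lt_of_lt_of_le j.2 hrn⟩, j.2⟩ : {i : Fin n | (i : ℕ) < r})) := by
          intro a b hab
          have := congrArg (fun z : {i : Fin n | (i : ℕ) < r} => ((z : Fin n) : ℕ)) hab
          exact Fin.ext this
        have h3 := Fintype.card_le_of_injective _ hinj
        rw [Fintype.card_fin] at h3
        exact h3
    · exact Groth.Agent.Lib.Helper22.EtaleDim.span_D_residue_eq_top r y hym hspan
  · rintro ⟨h1, h2⟩
    haveI : Algebra.EssFiniteType k (Localization.AtPrime p) :=
      Algebra.EssFiniteType.comp k A (Localization.AtPrime p)
    have hspan := Groth.Agent.Lib.Helper22.EtaleDim.span_D_eq_top (k := k) r y h1 h2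
    haveI : Algebra.FormallyUnramified (MvPolynomial (Fin n) k) (Localization.AtPrime p) :=
      key.mp hspan
    haveI : Algebra.IsUnramifiedAt (MvPolynomial (Fin n) k) p := inferInstance
    exact Groth.Agent.Lib.Helper22.EtaleDim.isEtaleAt_of_unramified k n A p hn.ge

end Groth.Agent.S5026
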