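import Groth.Statements.S5001
-- import your own Groth.Agent.* helpers here
import Mathlib
import Groth.Agent.S5026

set_option autoImplicit false
universe u
open Unram17

namespace Groth.Agent.S5001

/-- Let k be a field, A a k-algebra of finite type equipped with a k-algebra map from the polynomial
ring in n variables, with images g_i of the variables, and p a prime of A such that Spec A has local
dimension n at p, the residue field of p is a finite separable extension of k, and every g_i lies in
p. Then A is etale over the polynomial ring at p if and only if the images of the g_i generate the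
maximal ideal of the local ring A_p. -/
theorem result (k A : Type u) [Field k] [CommRing A] [Algebra k A]
    [Algebra.FiniteType k A] (n : ℕ) [Algebra (MvPolynomial (Fin n) k) A]
    [IsScalarTower k (MvPolynomial (Fin n) k) A] (p : Ideal A) [p.IsPrime]
    (hn : FlatMor.localDim (PrimeSpectrum A) ⟨p, inferInstance⟩ = (n : WithBot ℕ∞))
    [Module.Finite k p.ResidueField] [Algebra.IsSeparable k p.ResidueField]
    (hg : ∀ i : Fin n, algebraMap (MvPolynomial (Fin n) k) A (MvPolynomial.X i) ∈ p) :
    Algebra.IsEtaleAt (MvPolynomial (Fin n) k) p ↔
      Ideal.span (Set.range fun i : Fin n =>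
        algebraMap A (Localization.AtPrime p) (algebraMap (MvPolynomial (Fin n) k) A (MvPolynomial.X i))) =
        IsLocalRing.maximalIdeal (Localization.AtPrime p) := by
  haveI : IsNoetherianRing A := Algebra.FiniteType.isNoetherianRing k A
  -- `p` is maximal
  have hpmax : p.IsMaximal := by
    haveI : Algebra.IsIntegral k (A ⧸ p) := by
      refine ⟨fun x => ?_⟩
      have hx : IsIntegral k (algebraMap (A ⧸ p) p.ResidueField x) :=
        Algebra.IsIntegral.isIntegral _
      exact (isIntegral_algHom_iff (IsScalarTower.toAlgHom k (A ⧸ p) p.ResidueField)
        p.injective_algebraMap_quotient_residueField).mp hx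
    exact Ideal.Quotient.maximal_of_isField p
      (isField_of_isIntegral_of_isField' (R := k) (Field.toIsField k))
  -- `dim A_p = n`
  have hr : ringKrullDim (Localization.AtPrime p) = (n : WithBot ℕ∞) := by
    have h1 := Groth.Agent.Lib.Helper12.DimFT2.localDim_primeSpectrum k A ⟨p, inferInstance⟩
    rw [hn] at h1
    have h2 : Order.coheight (⟨p, inferInstance⟩ : PrimeSpectrum A) = 0 := by
      rw [Order.coheight_eq_zero]
      intro q hq
      have hq' : p ≤ q.asIdeal := hq
      have := hpmax.eq_of_le q.2.ne_top hq'
      exact le_of_eq (PrimeSpectrum.ext this.symm)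
    rw [h2, add_zero] at h1
    rw [IsLocalization.AtPrime.ringKrullDim_eq_height p (Localization.AtPrime p), h1,
      ← PrimeSpectrum.height_eq_orderHeight]
  have main := Groth.Agent.S5026.result k A n n p hn hr (fun i _ => hg i)
  rw [main]
  have hS1 : {i : Fin n | (i : ℕ) < n} = Set.univ := by
    ext i; simp
  have hS2 : {i : Fin n | n ≤ (i : ℕ)} = ∅ := by
    ext i; simp
  rw [hS1, hS2, Set.image_univ, Set.image_empty, Submodule.span_empty]
  haveI : Algebra.FormallyUnramified k p.ResidueField :=
    Algebra.FormallyUnramified.of_isSeparable k p.ResidueField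
  haveI : Subsingleton (Ω[p.ResidueField⁄k]) := inferInstance
  constructor
  · exact fun h => h.1
  · exact fun h => ⟨h, Subsingleton.elim _ _⟩

end Groth.Agent.S5001
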