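import Groth.Statements.S5002
import Mathlib

set_option autoImplicit false
universe u
open PP16

namespace Groth.Agent.S5002

/-- Suppose A is a commutative ring and B is a finite-type A-algebra. For each n, the ring of principal
parts of order n of B over A is then finitely generated as a B-module, where B acts via the first
factor. -/
theorem result (n : ℕ) (A B : Type u) [CommRing A] [CommRing B] [Algebra A B]
    [Algebra.FiniteType A B] : Module.Finite B (PP16.P n A B) := by
  classical
  have hle : (KaehlerDifferential.ideal A B) ^ (n + 1) ≤ KaehlerDifferential.ideal A B :=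
    Ideal.pow_le_self (Nat.succ_ne_zero n)
  have hI : ∀ a : TensorProduct A B B, a ∈ (KaehlerDifferential.ideal A B) ^ (n + 1) →
      (Algebra.TensorProduct.lmul'' A : TensorProduct A B B →ₐ[B] B) a = 0 := by
    intro a ha
    have h1 : a ∈ KaehlerDifferential.ideal A B := hle ha
    exact h1
  let f : PP16.P n A B →ₐ[B] B :=
    Ideal.Quotient.liftₐ ((KaehlerDifferential.ideal A B) ^ (n + 1))
      (Algebra.TensorProduct.lmul'' A : TensorProduct A B B →ₐ[B] B) hI
  have hfsurj : Function.Surjective f := by
    intro b
    refine ⟨Ideal.Quotient.mk _ (TensorProduct.tmul A b (1 : B)), ?_⟩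
    show (Algebra.TensorProduct.lmul'' A : TensorProduct A B B →ₐ[B] B) (TensorProduct.tmul A b (1 : B)) = b
    simp [Algebra.TensorProduct.lmul'']
  have hker : RingHom.ker f =
      (KaehlerDifferential.ideal A B).map
        (Ideal.Quotient.mk ((KaehlerDifferential.ideal A B) ^ (n + 1))) := by
    have := Ideal.ker_quotient_lift (I := (KaehlerDifferential.ideal A B) ^ (n + 1))
      ((Algebra.TensorProduct.lmul'' A : TensorProduct A B B →ₐ[B] B) : TensorProduct A B B →+* B) hI
    exact this
  have hpow : (RingHom.ker f) ^ (n + 1) = ⊥ := by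
    rw [hker, ← Ideal.map_pow, Ideal.map_quotient_self]
  have hnil : RingHom.ker f ≤ nilradical (PP16.P n A B) := by
    intro x hx
    refine ⟨n + 1, ?_⟩
    have h1 : x ^ (n + 1) ∈ (RingHom.ker f) ^ (n + 1) := Ideal.pow_mem_pow hx _
    rw [hpow, Ideal.mem_bot] at h1
    exact h1
  have hfg : (RingHom.ker f).FG := by
    rw [hker]
    exact (KaehlerDifferential.ideal_fg A B).map _
  exact Module.finite_of_surjective_of_ker_le_nilradical f hfsurj hnil hfg

end Groth.Agent.S5002
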