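import Groth.Statements.S5006
import Mathlib

set_option autoImplicit false
universe u
open Nrm16

namespace Groth.Agent.S5006

/-- Let A be a commutative ring, I a finitely generated ideal and p a prime ideal containing I. Then
some basic open neighbourhood of p in Spec A is contained in the closed set V(I) (so that V(I) ⟶
Spec A is a local homeomorphism onto an open set near p) if and only if there is an integer n > 0
with I^n A_p = I^(n+1) A_p in the local ring at p. Affine form. -/
theorem result (A : Type u) [CommRing A] (I : Ideal A) (hI : I.FG)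
    (p : Ideal A) [p.IsPrime] (hp : I ≤ p) :
    (∃ f : A, f ∉ p ∧ ∀ q : Ideal A, q.IsPrime → f ∉ q → I ≤ q) ↔
      ∃ n : ℕ, 0 < n ∧
        (I ^ n).map (algebraMap A (Localization.AtPrime p)) =
          (I ^ (n + 1)).map (algebraMap A (Localization.AtPrime p)) := by
  classical
  constructor
  · rintro ⟨f, hfp, hf⟩
    have hJle : Ideal.span {f} * I ≤ nilradical A := by
      rw [nilradical_eq_sInf, le_sInf_iff]
      intro q hq
      have hqp : q.IsPrime := hq
      by_cases hfq : f ∈ q
      · exact Ideal.mul_le_left.trans ((Ideal.span_singleton_le_iff_mem q).mpr hfq)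
      · exact Ideal.mul_le_right.trans (hf q hqp hfq)
    have hJfg : (Ideal.span {f} * I).FG := (Submodule.fg_span_singleton f).mul hI
    obtain ⟨n, hn⟩ := hJfg.isNilpotent_iff_le_nilradical.mpr hJle
    have hzero : ∀ x ∈ I ^ (n + 1), f ^ (n + 1) * x = 0 := by
      intro x hx
      have h1 : f ^ (n + 1) * x ∈ (Ideal.span {f} * I) ^ (n + 1) := by
        rw [mul_pow, Ideal.span_singleton_pow]
        exact Ideal.mul_mem_mul (Ideal.mem_span_singleton_self _) hx
      rw [pow_succ, hn, zero_mul, Ideal.zero_eq_bot, Ideal.mem_bot] at h1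
      exact h1
    have hmap : ∀ m, n + 1 ≤ m →
        (I ^ m).map (algebraMap A (Localization.AtPrime p)) = ⊥ := by
      intro m hm
      rw [eq_bot_iff, Ideal.map_le_iff_le_comap]
      intro x hx
      have hx' : x ∈ I ^ (n + 1) := Ideal.pow_le_pow_right hm hx
      rw [Ideal.mem_comap, Ideal.mem_bot, IsLocalization.map_eq_zero_iff p.primeCompl]
      exact ⟨⟨f ^ (n + 1), fun h => hfp (Ideal.IsPrime.mem_of_pow_mem inferInstance _ h)⟩,
        hzero x hx'⟩
    exact ⟨n + 1, Nat.succ_pos n, by rw [hmap (n + 1) le_rfl, hmap (n + 1 + 1) (Nat.le_succ _)]⟩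
  · rintro ⟨n, hn0, hn⟩
    have hJfg : ((I ^ n).map (algebraMap A (Localization.AtPrime p))).FG := (hI.pow).map _
    have hmul : (I ^ n).map (algebraMap A (Localization.AtPrime p)) =
        (I.map (algebraMap A (Localization.AtPrime p))) *
          (I ^ n).map (algebraMap A (Localization.AtPrime p)) := by
      rw [← Ideal.map_mul, ← pow_succ', ← hn]
    have hle : I.map (algebraMap A (Localization.AtPrime p)) ≤ Ideal.jacobson ⊥ := by
      rw [IsLocalRing.jacobson_eq_maximalIdeal ⊥ bot_ne_top,
        ← Localization.AtPrime.map_eq_maximalIdeal]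
      exact Ideal.map_mono hp
    have hbot : (I ^ n).map (algebraMap A (Localization.AtPrime p)) = ⊥ :=
      Submodule.eq_bot_of_le_smul_of_le_jacobson_bot
        (I.map (algebraMap A (Localization.AtPrime p))) _ hJfg
        (by rw [smul_eq_mul]; exact hmul.le) hle
    obtain ⟨t, ht⟩ := hI.pow (n := n)
    have hkill : ∀ x ∈ t, ∃ s : A, s ∉ p ∧ s * x = 0 := by
      intro x hx
      have hxmem : x ∈ I ^ n := by rw [← ht]; exact Ideal.subset_span hx
      have h0 : algebraMap A (Localization.AtPrime p) x = 0 := by
        have h1 : algebraMap A (Localization.AtPrime p) x ∈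
            (I ^ n).map (algebraMap A (Localization.AtPrime p)) := Ideal.mem_map_of_mem _ hxmem
        rw [hbot, Ideal.mem_bot] at h1
        exact h1
      obtain ⟨s, hs⟩ := (IsLocalization.map_eq_zero_iff p.primeCompl
        (Localization.AtPrime p) x).mp h0
      exact ⟨s.1, s.2, hs⟩
    choose! s hs1 hs2 using hkill
    refine ⟨∏ x ∈ t, s x, ?_, ?_⟩
    · intro hmem
      obtain ⟨x, hx, hxp⟩ := Ideal.IsPrime.prod_mem_iff.mp hmem
      exact hs1 x hx hxp
    · intro q hq hfq y hy
      have hyn : y ^ n ∈ I ^ n := Ideal.pow_mem_pow hy n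
      have hz : (∏ x ∈ t, s x) * y ^ n = 0 := by
        rw [← ht] at hyn
        refine Submodule.span_induction ?_ ?_ ?_ ?_ hyn
        · intro x hx
          obtain ⟨c, hc⟩ := Finset.dvd_prod_of_mem s hx
          rw [hc, mul_comm (s x) c, mul_assoc, hs2 x hx, mul_zero]
        · exact mul_zero _
        · intro a b _ _ ha hb
          rw [mul_add, ha, hb, add_zero]
        · intro a b _ hb
          rw [smul_eq_mul, mul_left_comm, hb, mul_zero]
      have hmem : (∏ x ∈ t, s x) * y ^ n ∈ q := by rw [hz]; exact zero_mem _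
      rcases hq.mem_or_mem hmem with h | h
      · exact absurd h hfq
      · exact hq.mem_of_pow_mem n h

end Groth.Agent.S5006
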