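import Groth.Statements.S5009
import Mathlib
import Groth.Agent.Lib.Helper6.UnramStalk

set_option autoImplicit false
universe u
open CategoryTheory CategoryTheory.Limits AlgebraicGeometry TopologicalSpace
open Unram17

namespace Groth.Agent.S5009

open TensorProduct in
/-- A surjection onto a local ring with square-zero kernel has local source. -/
theorem isLocalRing_of_surjective_of_sq_zero {B' B : Type*} [CommRing B'] [CommRing B]
    [IsLocalRing B] (φ : B' →+* B) (hφ : Function.Surjective φ) (hker : RingHom.ker φ ^ 2 = ⊥) :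
    IsLocalRing B' := by
  haveI : Nontrivial B' := φ.domain_nontrivial
  have key : ∀ a : B', IsUnit (φ a) → IsUnit a := by
    intro a ha
    obtain ⟨c, hc⟩ := hφ (↑ha.unit⁻¹ : B)
    have h1 : φ (a * c) = 1 := by
      rw [map_mul, hc]; exact ha.mul_val_inv
    have hn : (1 - a * c) ∈ RingHom.ker φ := by
      rw [RingHom.mem_ker, map_sub, map_one, h1, sub_self]
    have hn2 : (1 - a * c) * (1 - a * c) = 0 := by
      have : (1 - a * c) * (1 - a * c) ∈ RingHom.ker φ ^ 2 := by
        rw [pow_two]; exact Ideal.mul_mem_mul hn hn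
      rw [hker] at this
      exact this
    have hnil : IsNilpotent (1 - a * c) := ⟨2, by rw [pow_two]; exact hn2⟩
    have hu : IsUnit (a * c) := by
      have := hnil.isUnit_one_sub
      rwa [sub_sub_cancel] at this
    exact isUnit_of_mul_isUnit_left hu
  refine IsLocalRing.of_nonunits_add ?_
  intro a b ha hb hab
  have ha' : φ a ∈ nonunits B := fun h => ha (key a h)
  have hb' : φ b ∈ nonunits B := fun h => hb (key b h)
  have := IsLocalRing.nonunits_add ha' hb'
  rw [← map_add] at this
  exact this (hab.map φ)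

open TensorProduct in
/-- If the two inclusions `S → (S ⊗[R] S) ⧸ I²` agree, then `S` is formally unramified over `R`. -/
theorem formallyUnramified_of_include_eq {R S : Type u} [CommRing R] [CommRing S] [Algebra R S]
    (h : ∀ s : S, Ideal.Quotient.mk ((KaehlerDifferential.ideal R S) ^ 2) (s ⊗ₜ[R] (1 : S)) =
      Ideal.Quotient.mk ((KaehlerDifferential.ideal R S) ^ 2) ((1 : S) ⊗ₜ[R] s)) :
    Algebra.FormallyUnramified R S := by
  rw [Algebra.formallyUnramified_iff]
  have h0 : ∀ s : S, KaehlerDifferential.D R S s = 0 := by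
    intro s
    rw [KaehlerDifferential.D_apply]
    refine (Ideal.toCotangent_eq_zero _ _).mpr ?_
    have := (Ideal.Quotient.eq.mp (h s))
    have h2 := Ideal.neg_mem_iff _ |>.mpr this
    rwa [neg_sub] at h2
  have htop : (⊤ : Submodule S Ω[S⁄R]) = ⊥ := by
    rw [← KaehlerDifferential.span_range_derivation, Submodule.span_eq_bot]
    rintro _ ⟨s, rfl⟩
    exact h0 s
  refine ⟨fun a b => ?_⟩
  have ha : a ∈ (⊤ : Submodule S Ω[S⁄R]) := trivial
  have hb : b ∈ (⊤ : Submodule S Ω[S⁄R]) := trivial
  rw [htop] at ha hb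
  rw [(Submodule.mem_bot S).mp ha, (Submodule.mem_bot S).mp hb]

open TensorProduct in
/-- The universal test object: a square-zero thickening `B' → S` by a local ring with two sections
over `R`, which agree only if `S` is formally unramified over `R`. -/
theorem exists_test {R S : Type u} [CommRing R] [CommRing S] [Algebra R S] [IsLocalRing S] :
    ∃ (B' : Type u) (_ : CommRing B') (_ : IsLocalRing B') (φ : B' →+* S) (g₁ g₂ : S →+* B'),
      Function.Surjective φ ∧ RingHom.ker φ ^ 2 = ⊥ ∧ φ.comp g₁ = RingHom.id S ∧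
      φ.comp g₂ = RingHom.id S ∧ g₁.comp (algebraMap R S) = g₂.comp (algebraMap R S) ∧
      (g₁ = g₂ → Algebra.FormallyUnramified R S) := by
  have hI2 : KaehlerDifferential.ideal R S ^ 2 ≤
      RingHom.ker (Algebra.TensorProduct.lmul' (S := S) R).toRingHom := by
    intro a ha
    exact Ideal.pow_le_self two_ne_zero ha
  let φ : (S ⊗[R] S) ⧸ (KaehlerDifferential.ideal R S ^ 2) →+* S :=
    Ideal.Quotient.lift (KaehlerDifferential.ideal R S ^ 2)
      (Algebra.TensorProduct.lmul' (S := S) R).toRingHom (fun a ha => hI2 ha)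
  have hφmk : ∀ t : S ⊗[R] S, φ (Ideal.Quotient.mk _ t) = Algebra.TensorProduct.lmul' (S := S) R t :=
    fun t => rfl
  have hφ : Function.Surjective φ := by
    intro s
    exact ⟨Ideal.Quotient.mk _ (s ⊗ₜ 1), by rw [hφmk]; simp⟩
  have hker : RingHom.ker φ ^ 2 = ⊥ := by
    rw [eq_bot_iff, show RingHom.ker φ ^ 2 = RingHom.ker φ * RingHom.ker φ from pow_two _,
      Ideal.mul_le]
    intro a ha b hb
    obtain ⟨a, rfl⟩ := Ideal.Quotient.mk_surjective a
    obtain ⟨b, rfl⟩ := Ideal.Quotient.mk_surjective b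
    have ha' : a ∈ KaehlerDifferential.ideal R S := by
      rw [RingHom.mem_ker, hφmk] at ha
      exact ha
    have hb' : b ∈ KaehlerDifferential.ideal R S := by
      rw [RingHom.mem_ker, hφmk] at hb
      exact hb
    rw [← map_mul, Ideal.mem_bot, Ideal.Quotient.eq_zero_iff_mem, pow_two]
    exact Ideal.mul_mem_mul ha' hb'
  haveI : IsLocalRing ((S ⊗[R] S) ⧸ (KaehlerDifferential.ideal R S ^ 2)) :=
    isLocalRing_of_surjective_of_sq_zero φ hφ hker
  let g₁ : S →+* (S ⊗[R] S) ⧸ (KaehlerDifferential.ideal R S ^ 2) :=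
    (Ideal.Quotient.mk (KaehlerDifferential.ideal R S ^ 2)).comp
      (Algebra.TensorProduct.includeLeft (R := R) (S := R) (A := S) (B := S)).toRingHom
  let g₂ : S →+* (S ⊗[R] S) ⧸ (KaehlerDifferential.ideal R S ^ 2) :=
    (Ideal.Quotient.mk (KaehlerDifferential.ideal R S ^ 2)).comp
      (Algebra.TensorProduct.includeRight (R := R) (A := S) (B := S)).toRingHom
  refine ⟨_, inferInstance, inferInstance, φ, g₁, g₂, hφ, hker, ?_, ?_, ?_, ?_⟩
  · ext s
    show φ (Ideal.Quotient.mk _ (s ⊗ₜ[R] (1 : S))) = s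
    rw [hφmk]; simp
  · ext s
    show φ (Ideal.Quotient.mk _ ((1 : S) ⊗ₜ[R] s)) = s
    rw [hφmk]; simp
  · ext r
    simp only [g₁, g₂, RingHom.comp_apply]
    congr 1
    have e1 := (Algebra.TensorProduct.includeLeft (R := R) (S := R) (A := S) (B := S)).commutes r
    have e2 := (Algebra.TensorProduct.includeRight (R := R) (A := S) (B := S)).commutes r
    exact e1.trans e2.symm
  · intro hg
    apply formallyUnramified_of_include_eq
    intro s
    exact congr($hg s)


/-- Let f : X ⟶ Y be locally of finite presentation and x a point of X. Then f is (formally) unramified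
on an open neighbourhood of x if and only if for every surjection of local rings B' → B with
square-zero kernel, every morphism Spec B ⟶ X sending the closed point to x and every morphism Spec
B' ⟶ Y making the square commute, any two lifts Spec B' ⟶ X compatible with both are equal. -/
theorem result {X Y : Scheme.{u}} (f : X ⟶ Y)
    [LocallyOfFinitePresentation f] (x : ↥X) :
    (∃ U : X.Opens, x ∈ U ∧ FormallyUnramified (U.ι ≫ f)) ↔
      ∀ (B B' : Type u) [CommRing B] [CommRing B'] [IsLocalRing B] [IsLocalRing B'] (φ : B' →+* B),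
      Function.Surjective φ → RingHom.ker φ ^ 2 = ⊥ →
      ∀ (α : Spec (CommRingCat.of B) ⟶ X) (β : Spec (CommRingCat.of B') ⟶ Y),
        α.base (IsLocalRing.closedPoint B) = x → Spec.map (CommRingCat.ofHom φ) ≫ β = α ≫ f →
        ∀ γ₁ γ₂ : Spec (CommRingCat.of B') ⟶ X,
          Spec.map (CommRingCat.ofHom φ) ≫ γ₁ = α → γ₁ ≫ f = β →
          Spec.map (CommRingCat.ofHom φ) ≫ γ₂ = α → γ₂ ≫ f = β → γ₁ = γ₂ := by
  constructor
  · rintro ⟨U, hxU, hUf⟩ B B' _ _ _ _ φ hφ hker α β hα hαβ γ₁ γ₂ h1 h1' h2 h2'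
    have hcl : ∀ γ : Spec (CommRingCat.of B') ⟶ X, Spec.map (CommRingCat.ofHom φ) ≫ γ = α →
        γ.base (IsLocalRing.closedPoint B') = x := by
      intro γ hγ
      haveI : IsLocalHom φ := hφ.isLocalHom
      have h3 : (Spec.map (CommRingCat.ofHom φ)).base (IsLocalRing.closedPoint B) =
          IsLocalRing.closedPoint B' := IsLocalRing.comap_closedPoint φ
      rw [← h3, ← hα, ← hγ]
      rfl
    have hrange : ∀ γ : Spec (CommRingCat.of B') ⟶ X, Spec.map (CommRingCat.ofHom φ) ≫ γ = α →
        Set.range γ.base ⊆ Set.range U.ι.base := by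
      intro γ hγ
      rintro _ ⟨z, rfl⟩
      have hz : z ⤳ IsLocalRing.closedPoint B' := IsLocalRing.specializes_closedPoint z
      have h3 : γ.base z ⤳ γ.base (IsLocalRing.closedPoint B') := hz.map γ.continuous
      rw [hcl γ hγ] at h3
      have : γ.base z ∈ U := h3.mem_open U.2 hxU
      simpa using this
    let g₁ := IsOpenImmersion.lift U.ι γ₁ (hrange γ₁ h1)
    let g₂ := IsOpenImmersion.lift U.ι γ₂ (hrange γ₂ h2)
    have hg₁ : g₁ ≫ U.ι = γ₁ := IsOpenImmersion.lift_fac _ _ _
    have hg₂ : g₂ ≫ U.ι = γ₂ := IsOpenImmersion.lift_fac _ _ _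
    haveI : IsClosedImmersion (Spec.map (CommRingCat.ofHom φ)) :=
      IsClosedImmersion.spec_of_surjective _ hφ
    have hnil : IsNilpotent (Spec.map (CommRingCat.ofHom φ)).ker := by
      refine ⟨2, ?_⟩
      apply Scheme.IdealSheafData.ext_of_isAffine
      rw [Scheme.IdealSheafData.ideal_pow, Pi.pow_apply, Scheme.Hom.ker_apply,
        Scheme.IdealSheafData.zero_eq_bot, Scheme.IdealSheafData.ideal_bot, Pi.bot_apply]
      rw [eq_bot_iff, pow_two, Ideal.mul_le]
      intro a ha b hb
      have hnat := Scheme.ΓSpecIso_naturality (CommRingCat.ofHom φ)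
      have hnat' : ∀ a, φ ((Scheme.ΓSpecIso (CommRingCat.of B')).hom.hom a) =
          (Scheme.ΓSpecIso (CommRingCat.of B)).hom.hom
            ((Spec.map (CommRingCat.ofHom φ)).appTop.hom a) := fun a => (congr($hnat a)).symm
      have ha' : (Scheme.ΓSpecIso (CommRingCat.of B')).hom.hom a ∈ RingHom.ker φ := by
        rw [RingHom.mem_ker, hnat' a]
        have ha0 : (Spec.map (CommRingCat.ofHom φ)).appTop.hom a = 0 := ha
        rw [ha0, map_zero]
      have hb' : (Scheme.ΓSpecIso (CommRingCat.of B')).hom.hom b ∈ RingHom.ker φ := by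
        rw [RingHom.mem_ker, hnat' b]
        have hb0 : (Spec.map (CommRingCat.ofHom φ)).appTop.hom b = 0 := hb
        rw [hb0, map_zero]
      have hab : (Scheme.ΓSpecIso (CommRingCat.of B')).hom.hom (a * b) = 0 := by
        rw [map_mul]
        have : (Scheme.ΓSpecIso (CommRingCat.of B')).hom.hom a *
            (Scheme.ΓSpecIso (CommRingCat.of B')).hom.hom b ∈ RingHom.ker φ ^ 2 := by
          rw [pow_two]; exact Ideal.mul_mem_mul ha' hb'
        rw [hker] at this
        exact this
      have hinj : Function.Injective (Scheme.ΓSpecIso (CommRingCat.of B')).hom.hom :=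
        (ConcreteCategory.bijective_of_isIso (Scheme.ΓSpecIso (CommRingCat.of B')).hom).1
      exact hinj (by rw [hab, map_zero])
    have : g₁ = g₂ := by
      refine FormallyUnramified.hom_ext (Spec.map (CommRingCat.ofHom φ)) hnil (U.ι ≫ f) ?_ ?_
      · rw [← cancel_mono U.ι, Category.assoc, Category.assoc, hg₁, hg₂, h1, h2]
      · rw [← Category.assoc, ← Category.assoc, hg₁, hg₂, h1', h2']
    rw [← hg₁, ← hg₂, this]
  · intro H
    apply Groth.Agent.Lib.Helper6.UnramStalk.exists_formallyUnramified_nhd f x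
    letI : Algebra ↑(Y.presheaf.stalk (f.base x)) ↑(X.presheaf.stalk x) :=
      (f.stalkMap x).hom.toAlgebra
    show Algebra.FormallyUnramified ↑(Y.presheaf.stalk (f.base x)) ↑(X.presheaf.stalk x)
    obtain ⟨B', _, _, φ, g₁, g₂, hφ, hker, hφg₁, hφg₂, hg, hconc⟩ :=
      exists_test (R := ↑(Y.presheaf.stalk (f.base x))) (S := ↑(X.presheaf.stalk x))
    apply hconc
    let α : Spec (CommRingCat.of ↑(X.presheaf.stalk x)) ⟶ X := X.fromSpecStalk x
    let γ₁ : Spec (CommRingCat.of B') ⟶ X := Spec.map (CommRingCat.ofHom g₁) ≫ α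
    let γ₂ : Spec (CommRingCat.of B') ⟶ X := Spec.map (CommRingCat.ofHom g₂) ≫ α
    have hs1 : Spec.map (CommRingCat.ofHom φ) ≫ Spec.map (CommRingCat.ofHom g₁) = 𝟙 _ := by
      rw [← Spec.map_comp, ← CommRingCat.ofHom_comp, hφg₁]
      exact Spec.map_id _
    have hs2 : Spec.map (CommRingCat.ofHom φ) ≫ Spec.map (CommRingCat.ofHom g₂) = 𝟙 _ := by
      rw [← Spec.map_comp, ← CommRingCat.ofHom_comp, hφg₂]
      exact Spec.map_id _
    have hγf : γ₂ ≫ f = γ₁ ≫ f := by
      simp only [γ₁, γ₂, α, Category.assoc]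
      rw [← Scheme.SpecMap_stalkMap_fromSpecStalk, ← Spec.map_comp_assoc, ← Spec.map_comp_assoc]
      congr 2
      ext r
      exact (congr($hg r)).symm
    have key := H ↑(X.presheaf.stalk x) B' φ hφ hker α (γ₁ ≫ f) Scheme.fromSpecStalk_closedPoint
      (by simp only [γ₁, Category.assoc]; rw [← Category.assoc, hs1, Category.id_comp])
      γ₁ γ₂
      (by simp only [γ₁]; rw [← Category.assoc, hs1, Category.id_comp])
      rfl
      (by simp only [γ₂]; rw [← Category.assoc, hs2, Category.id_comp])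
      hγf
    have key2 : Spec.map (CommRingCat.ofHom g₁) = Spec.map (CommRingCat.ofHom g₂) := by
      rw [← cancel_mono α]; exact key
    have := Spec.map_injective key2
    exact congr($(this).hom)

end Groth.Agent.S5009
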