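import Groth.Statements.S5012
import Groth.Agent.Lib.Helper26.GenSmoothRed


set_option autoImplicit false
universe u
open Unram17

namespace Groth.Agent.S5012

/-- Let A be an algebra of finite type over a field k. Then Spec A has a dense open subset consisting of
points at which A is smooth over k if and only if, for every minimal prime p of A, the local ring
A_p is geometrically reduced over k (that is, A_p is a field and a separable extension of k). -/
theorem result (k A : Type u) [Field k] [CommRing A] [Algebra k A]
    [Algebra.FiniteType k A] :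
    (∃ U : TopologicalSpace.Opens (PrimeSpectrum A), Dense (U : Set (PrimeSpectrum A)) ∧
        ∀ p ∈ U, Algebra.IsSmoothAt k p.asIdeal) ↔
      ∀ (p : Ideal A) [p.IsPrime], p ∈ minimalPrimes A →
        Algebra.IsGeometricallyReduced k (Localization.AtPrime p) := by
  haveI : IsNoetherianRing A := Algebra.FiniteType.isNoetherianRing k A
  haveI : Algebra.FinitePresentation k A :=
    Algebra.FinitePresentation.of_finiteType.mp inferInstance
  constructor
  · rintro ⟨U, hU, hsm⟩ p hpp hp
    have hmem := Groth.Agent.Lib.Helper26.GenSmoothRed.mem_of_dense_of_mem_minimalPrimes U hU p hp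
    haveI : Algebra.IsSmoothAt k p := hsm _ hmem
    exact Groth.Agent.Lib.Helper26.GenSmoothRed.geomRed_of_isSmoothAt k A p
  · intro h
    refine ⟨⟨Algebra.smoothLocus k A, Algebra.isOpen_smoothLocus⟩, ?_, fun p hp => hp⟩
    intro x
    obtain ⟨q, hq, hqx⟩ := Ideal.exists_minimalPrimes_le (J := x.asIdeal) (I := ⊥) bot_le
    haveI hqp : q.IsPrime := hq.1.1
    haveI := h q hq
    have hsm : Algebra.IsSmoothAt k q :=
      Groth.Agent.Lib.Helper26.GenSmoothRed.isSmoothAt_of_geomRed k A q hq
    have hsp : (⟨q, hqp⟩ : PrimeSpectrum A) ⤳ x := (PrimeSpectrum.le_iff_specializes _ _).mp hqx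
    exact closure_mono (Set.singleton_subset_iff.mpr
      (show (⟨q, hqp⟩ : PrimeSpectrum A) ∈ Algebra.smoothLocus k A from hsm))
      (specializes_iff_mem_closure.mp hsp)

end Groth.Agent.S5012
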