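import Groth.Statements.S5014
import Mathlib
import Groth.Agent.Lib.Helper6.KaehlerTower

set_option autoImplicit false
universe u
open Unram17

namespace Groth.Agent.S5014

/-- Let C be a smooth algebra over a commutative ring A, equipped with an A-algebra map from the
polynomial ring in r variables (images s_i of the variables), and let q be a prime of C. Then C is
etale at q over the polynomial ring if and only if the differentials of the s_i are linearly
independent and generate the module of differentials of the local ring C_q over A, i.e. form a basis
of it. -/
theorem result (A C : Type u) [CommRing A] [CommRing C]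
    [Algebra A C] [Algebra.Smooth A C] (r : ℕ) [Algebra (MvPolynomial (Fin r) A) C]
    [IsScalarTower A (MvPolynomial (Fin r) A) C] (q : Ideal C) [q.IsPrime] :
    Algebra.IsEtaleAt (MvPolynomial (Fin r) A) q ↔
      LinearIndependent (Localization.AtPrime q)
          (fun i : Fin r => KaehlerDifferential.D A (Localization.AtPrime q)
            (algebraMap C (Localization.AtPrime q) (algebraMap (MvPolynomial (Fin r) A) C (MvPolynomial.X i)))) ∧
        Submodule.span (Localization.AtPrime q)
          (Set.range fun i : Fin r => KaehlerDifferential.D A (Localization.AtPrime q)
            (algebraMap C (Localization.AtPrime q) (algebraMap (MvPolynomial (Fin r) A) C (MvPolynomial.X i)))) = ⊤ := by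
  classical
  haveI : Algebra.FormallySmooth A (Localization.AtPrime q) :=
    Algebra.FormallySmooth.comp A C (Localization.AtPrime q)
  let b : Module.Basis (Fin r) (Localization.AtPrime q)
      (TensorProduct (MvPolynomial (Fin r) A) (Localization.AtPrime q)
        (KaehlerDifferential A (MvPolynomial (Fin r) A))) :=
    (KaehlerDifferential.mvPolynomialBasis A (Fin r)).baseChange (Localization.AtPrime q)
  have hv : ∀ i, KaehlerDifferential.mapBaseChange A (MvPolynomial (Fin r) A)
      (Localization.AtPrime q) (b i) =
      KaehlerDifferential.D A (Localization.AtPrime q)
        (algebraMap C (Localization.AtPrime q)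
          (algebraMap (MvPolynomial (Fin r) A) C (MvPolynomial.X i))) := by
    intro i
    rw [Module.Basis.baseChange_apply, KaehlerDifferential.mapBaseChange_tmul, one_smul,
      KaehlerDifferential.mvPolynomialBasis_apply, KaehlerDifferential.map_D,
      IsScalarTower.algebraMap_apply (MvPolynomial (Fin r) A) C (Localization.AtPrime q)]
  have hiff : Algebra.IsEtaleAt (MvPolynomial (Fin r) A) q ↔
      Function.Bijective (KaehlerDifferential.mapBaseChange A (MvPolynomial (Fin r) A)
        (Localization.AtPrime q)) := by
    constructor
    · intro h
      haveI : Algebra.FormallyEtale (MvPolynomial (Fin r) A) (Localization.AtPrime q) := h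
      exact (KaehlerDifferential.tensorKaehlerEquivOfFormallyEtale A (MvPolynomial (Fin r) A)
        (Localization.AtPrime q)).bijective
    · intro h
      exact Groth.Agent.Lib.Helper6.KaehlerTower.formallyEtale_of_bijective A
        (MvPolynomial (Fin r) A) (Localization.AtPrime q) h
  rw [hiff]
  constructor
  · intro hbij
    let e := LinearEquiv.ofBijective (KaehlerDifferential.mapBaseChange A (MvPolynomial (Fin r) A)
        (Localization.AtPrime q)) hbij
    have hfun : (⇑(b.map e) : Fin r → KaehlerDifferential A (Localization.AtPrime q)) =
        fun i : Fin r => KaehlerDifferential.D A (Localization.AtPrime q)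
          (algebraMap C (Localization.AtPrime q)
            (algebraMap (MvPolynomial (Fin r) A) C (MvPolynomial.X i))) := by
      funext i
      rw [Module.Basis.map_apply]
      exact hv i
    exact ⟨hfun ▸ (b.map e).linearIndependent, hfun ▸ (b.map e).span_eq⟩
  · rintro ⟨hLI, hspan⟩
    let b' := Module.Basis.mk hLI hspan.ge
    let e := b.equiv b' (Equiv.refl _)
    have hfe : KaehlerDifferential.mapBaseChange A (MvPolynomial (Fin r) A)
        (Localization.AtPrime q) = e.toLinearMap := by
      refine b.ext (fun i => ?_)
      rw [hv i]
      simp [e, b']
    rw [hfe]
    exact e.bijective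

end Groth.Agent.S5014
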