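-- Statement S5015.
import Groth.Statements.S5015
import Mathlib
import Groth.Agent.Lib.Helper1.OmSeq
import Groth.Agent.Lib.Helper1.QcMono
import Groth.Agent.Lib.Helper1.DerExists
import Groth.Agent.Lib.Helper1.DerUnram
import Groth.Agent.Lib.Helper1.FSmoothHom
set_option linter.style.haveILetI false

set_option autoImplicit false
universe u
open CategoryTheory CategoryTheory.Limits AlgebraicGeometry TopologicalSpace
open Unram17

namespace Groth.Agent.S5015

open CategoryTheory CategoryTheory.Limits AlgebraicGeometry TopologicalSpace Opposite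
open Groth.Agent.Lib.Helper1

/-- Let g : Y ⟶ S and h : X ⟶ S be morphisms and f : X ⟶ Y with f ≫ g = h. Given sheaves of
differentials of Y over S and of X over S (universal derivations dY, dX) and the canonical map c
from the pullback of the former to the latter (the O_X-linear map carrying the pullback of dY s to
dX of the pullback of s), f is formally unramified if and only if c is an epimorphism of
O_X-modules. -/
theorem result {X Y S : Scheme.{u}} (g : Y ⟶ S) (h : X ⟶ S)
    (f : X ⟶ Y) (w : f ≫ g = h)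
    (ΩY : Y.Modules) (dY : OmegaSh.Der g ΩY) (hY : OmegaSh.IsUniversal dY)
    (ΩX : X.Modules) (dX : OmegaSh.Der h ΩX) (hX : OmegaSh.IsUniversal dX)
    (c : (Scheme.Modules.pullback f).obj ΩY ⟶ ΩX) (hc : OmegaSh.IsDiffCompat f dY dX c) :
    FormallyUnramified f ↔ Epi c := by
  subst w
  haveI : ΩY.IsQuasicoherent := DerSmooth.isQuasicoherent g dY hY
  haveI : ΩX.IsQuasicoherent := DerSmooth.isQuasicoherent (f ≫ g) dX hX
  haveI : ((Scheme.Modules.pullback f).obj ΩY).IsQuasicoherent :=
    Groth.Agent.Lib.Helper17.PbStalk.isQuasicoherent_pullback f ΩY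
  constructor
  · intro hf
    apply Groth.Agent.Lib.Helper3.QCExact.epi_of_surjective_on_affine_cover
    intro x
    obtain ⟨V, U₁, U₂, hV, hU₁, hU₂, hxU₂, -, e, e₁⟩ := OmSeq.exists_affine_triple g f x ⊤ trivial
    refine ⟨U₂, hU₂, hxU₂, ?_⟩
    exact (OmSeq.app_surjective_iff g f dY hY dX hX c hc hV hU₁ hU₂ e e₁).mpr
      (f.formallyUnramified_appLE hU₁ hU₂ e)
  · intro hepi
    have hs := (Groth.Agent.Lib.Helper3.QCExact.epi_iff_surjective_on_affines c).mp hepi
    rw [DerUnram.formallyUnramified_iff_isZero f _ (DerExists.dsh f) (DerExists.isUniversal_dsh f),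
      DerUnram.isZero_iff_forall_subsingleton]
    apply DerUnram.subsingleton_of_forall_exists
    intro x W hx
    obtain ⟨V, U₁, U₂, hV, hU₁, hU₂, hxU₂, hU₂W, e, e₁⟩ := OmSeq.exists_affine_triple g f x W hx
    refine ⟨U₂, hxU₂, hU₂W, ?_⟩
    have h1 := (OmSeq.app_surjective_iff g f dY hY dX hX c hc hV hU₁ hU₂ e e₁).mp (hs U₂ hU₂)
    have h2 := (DerUnram.subsingleton_kaehler_iff (f.appLE U₁ U₂ e)).mpr h1
    exact (DerStruct.toSect_bijective f (DerExists.dsh f) hU₂ hU₁ e
      (DerExists.isUniversal_dsh f)).2.subsingleton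

end Groth.Agent.S5015
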