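-- Statement S5016.
import Groth.Statements.S5016
import Mathlib
import Groth.Agent.Lib.Helper1.OmSeq
import Groth.Agent.Lib.Helper1.QcMono
import Groth.Agent.Lib.Helper1.DerExists
import Groth.Agent.Lib.Helper1.DerUnram
import Groth.Agent.Lib.Helper1.FSmoothHom
set_option linter.style.haveILetI false

set_option autoImplicit false
universe u
open CategoryTheory CategoryTheory.Limits AlgebraicGeometry TopologicalSpace
open Unram17

namespace Groth.Agent.S5016

open CategoryTheory CategoryTheory.Limits AlgebraicGeometry TopologicalSpace Opposite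
open Groth.Agent.Lib.Helper1

/-- Let g : Y ⟶ S, h : X ⟶ S and f : X ⟶ Y with f ≫ g = h, and suppose f is formally smooth. Given
sheaves of differentials of Y over S and of X over S (universal derivations) and the canonical
compatible map c from the pullback of the former to the latter, c is a monomorphism of O_X-modules.
(The published statement also identifies the cokernel of this map with the sheaf of differentials of
X over Y and splits the sequence locally; this row states only that the map is injective.) -/
theorem result {X Y S : Scheme.{u}} (g : Y ⟶ S) (h : X ⟶ S)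
    (f : X ⟶ Y) (w : f ≫ g = h) (hf : MoreMor.IsFormallySmoothHom f)
    (ΩY : Y.Modules) (dY : OmegaSh.Der g ΩY) (hY : OmegaSh.IsUniversal dY)
    (ΩX : X.Modules) (dX : OmegaSh.Der h ΩX) (hX : OmegaSh.IsUniversal dX)
    (c : (Scheme.Modules.pullback f).obj ΩY ⟶ ΩX) (hc : OmegaSh.IsDiffCompat f dY dX c) :
    Mono c := by
  subst w
  haveI : ΩY.IsQuasicoherent := DerSmooth.isQuasicoherent g dY hY
  haveI : ΩX.IsQuasicoherent := DerSmooth.isQuasicoherent (f ≫ g) dX hX
  haveI : ((Scheme.Modules.pullback f).obj ΩY).IsQuasicoherent :=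
    Groth.Agent.Lib.Helper17.PbStalk.isQuasicoherent_pullback f ΩY
  apply QcMono.mono_of_injective_on_affine_cover
  intro x
  obtain ⟨V, U₁, U₂, hV, hU₁, hU₂, hxU₂, -, e, e₁⟩ := OmSeq.exists_affine_triple g f x ⊤ trivial
  refine ⟨U₂, hU₂, hxU₂, ?_⟩
  exact OmSeq.app_injective_of_formallySmooth g f dY hY dX hX c hc hV hU₁ hU₂ e e₁
    (FSmoothHom.formallySmooth_appLE f hf hU₂ hU₁ e)

end Groth.Agent.S5016
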