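import Groth.Statements.S5021
-- import your own Groth.Agent.* helpers here
import Mathlib
import Groth.Agent.Lib.Helper22.ConormRank
import Groth.Agent.Lib.Helper1.ConormDiff
import Groth.Agent.Lib.Helper1.DerExists
import Groth.Agent.S5019

set_option autoImplicit false
universe u
open CategoryTheory CategoryTheory.Limits AlgebraicGeometry TopologicalSpace
open Unram17

namespace Groth.Agent.S5021

/-- Let f : X ⟶ Y be smooth and j : X' ⟶ X a quasi-compact immersion such that j ≫ f is smooth. Then for
every point x of X' there are an open neighbourhood U of x and an integer n with the conormal sheaf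
of j free of rank n on U, and the local dimension at j(x) of the fibre of f through j(x) equals the
local dimension at x of the fibre of j ≫ f through x plus n. (The published statement allows any
immersion j; this row assumes j quasi-compact, the case in which the conormal sheaf used here is
known to be the conormal sheaf of j.) -/
theorem result {X' X Y : Scheme.{u}} (f : X ⟶ Y) [Smooth f]
    (j : X' ⟶ X) [IsImmersion j] [QuasiCompact j] [Smooth (j ≫ f)] (x : ↥X') :
    ∃ (U : X'.Opens) (n : ℕ), x ∈ U ∧ Nonempty ((Omega.conormal j).restrict U.ι ≅ FlatMod.freeMod (↑U) n) ∧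
      FlatMor.fibreDimAt f (j.base x) = FlatMor.fibreDimAt (j ≫ f) x + (n : WithBot ℕ∞) := by
  have hdX := Groth.Agent.Lib.Helper1.DerExists.isUniversal_dsh f
  have hdZ := Groth.Agent.Lib.Helper1.DerExists.isUniversal_dsh (j ≫ f)
  obtain ⟨φ, hφ⟩ := Groth.Agent.Lib.Helper1.ConormDiff.exists_isConormalDiff j
    (Groth.Agent.Lib.Helper1.DerExists.dsh f)
  obtain ⟨UX, a, hxUX, ⟨eX⟩, ha⟩ :=
    Groth.Agent.S5019.main f _ (Groth.Agent.Lib.Helper1.DerExists.dsh f) hdX (j.base x)
  obtain ⟨UZ, b, hxUZ, ⟨eZ⟩, hb⟩ :=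
    Groth.Agent.S5019.main (j ≫ f) _ (Groth.Agent.Lib.Helper1.DerExists.dsh (j ≫ f)) hdZ x
  obtain ⟨W, r, hxW, hiso, hr⟩ := Groth.Agent.Lib.Helper22.ConormRank.conormal_free_rank f j
    (Groth.Agent.Lib.Helper1.DerExists.dsh f) hdX (Groth.Agent.Lib.Helper1.DerExists.dsh (j ≫ f))
    hdZ φ hφ x a b UX hxUX eX UZ hxUZ eZ
  refine ⟨W, r, hxW, hiso, ?_⟩
  rw [ha, hb, ← hr]
  push_cast
  rw [add_comm]

end Groth.Agent.S5021
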