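-- Statement S5023.
import Groth.Statements.S5023
import Mathlib
import Groth.Agent.Lib.Helper1.DerPb
import Groth.Agent.Lib.Helper1.DerBase
import Groth.Agent.Lib.Helper1.DerCompat
import Groth.Agent.Lib.Helper1.DerExists
import Groth.Agent.S9386
set_option linter.style.haveILetI false

set_option autoImplicit false
universe u
open CategoryTheory CategoryTheory.Limits AlgebraicGeometry TopologicalSpace
open Nrm16

namespace Groth.Agent.S5023

open TopologicalSpace Opposite
open Groth.Agent.Lib.Helper1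

/-- Let a : X ⟶ S and b : Y ⟶ S be morphisms and Z a fibre product of X and Y over S with projections p,
q and structure morphism h. Given sheaves of differentials (universal derivations) of X, Y and Z
over S and the canonical compatible maps c₁ : p^*Ω_X ⟶ Ω_Z and c₂ : q^*Ω_Y ⟶ Ω_Z, the induced map
from the coproduct p^*Ω_X ⨿ q^*Ω_Y to Ω_Z is an isomorphism. -/
theorem result {X Y S Z : Scheme.{u}} (a : X ⟶ S) (b : Y ⟶ S)
    (p : Z ⟶ X) (q : Z ⟶ Y) (h : Z ⟶ S) (wp : p ≫ a = h) (wq : q ≫ b = h) (hZ : IsPullback p q a b)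
    (ΩX : X.Modules) (dX : OmegaSh.Der a ΩX) (hX : OmegaSh.IsUniversal dX)
    (ΩY : Y.Modules) (dY : OmegaSh.Der b ΩY) (hY : OmegaSh.IsUniversal dY)
    (ΩZ : Z.Modules) (dZ : OmegaSh.Der h ΩZ) (hZu : OmegaSh.IsUniversal dZ)
    (c₁ : (Scheme.Modules.pullback p).obj ΩX ⟶ ΩZ) (hc₁ : OmegaSh.IsDiffCompat p dX dZ c₁)
    (c₂ : (Scheme.Modules.pullback q).obj ΩY ⟶ ΩZ) (hc₂ : OmegaSh.IsDiffCompat q dY dZ c₂) :
    IsIso (coprod.desc c₁ c₂) := by
  subst wp
  -- differentials of `Z` over `Y` and over `X`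
  have hd₁ := DerExists.isUniversal_dsh q
  have hd₂ := DerExists.isUniversal_dsh p
  obtain ⟨c', hc', hc'u⟩ := DerCompat.existsUnique_isDiffCompat a q p b wq dX (DerExists.dsh q) hX
  haveI : IsIso c' := OmBCApp.isIso_of_isPullback a b p q hZ ΩX dX hX _ (DerExists.dsh q) hd₁ c' hc'
  obtain ⟨c'', hc'', hc''u⟩ :=
    DerCompat.existsUnique_isDiffCompat b p q a wq.symm dY (DerExists.dsh p) hY
  haveI : IsIso c'' :=
    OmBCApp.isIso_of_isPullback b a q p hZ.flip ΩY dY hY _ (DerExists.dsh p) hd₂ c'' hc''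
  obtain ⟨π₁, hπ₁, -⟩ := hZu _ (DerBase.congr wq (DerBase.compRight q b (DerExists.dsh q)))
  obtain ⟨π₂, hπ₂, -⟩ := hZu _ (DerBase.compRight p a (DerExists.dsh p))
  have hπ₁' : ∀ (V : Z.Opens) (s : Γ(Z, V)),
      π₁.app V (dZ.app V s) = (DerExists.dsh q).app V s := by
    intro V s
    have := congr($(PresheafOfModules.Derivation.congr_d hπ₁ (X := op V) s))
    refine this.trans ?_
    change (DerBase.congr wq (DerBase.compRight q b (DerExists.dsh q))).app V s = _
    rw [DerBase.congr_app, DerBase.compRight_app]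
  have hπ₂' : ∀ (V : Z.Opens) (s : Γ(Z, V)),
      π₂.app V (dZ.app V s) = (DerExists.dsh p).app V s := by
    intro V s
    have := congr($(PresheafOfModules.Derivation.congr_d hπ₂ (X := op V) s))
    exact this
  -- the four identities
  have e11 : c₁ ≫ π₁ = c' := by
    apply hc'u
    intro U s
    change π₁.app _ (c₁.app _ _) = _
    rw [hc₁ U s, hπ₁']
  have e22 : c₂ ≫ π₂ = c'' := by
    apply hc''u
    intro U s
    change π₂.app _ (c₂.app _ _) = _
    rw [hc₂ U s, hπ₂']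
  have e21 : c₂ ≫ π₁ = 0 := by
    obtain ⟨c0, -, hc0u⟩ :=
      DerCompat.existsUnique_isDiffCompat b q q b rfl dY (DerExists.dsh q) hY
    refine (hc0u _ ?_).trans (hc0u _ ?_).symm
    · intro U s
      change π₁.app _ (c₂.app _ _) = _
      rw [hc₂ U s, hπ₁']
    · intro U s
      exact ((DerExists.dsh q).d_app (X := op U) s).symm
  have e12 : c₁ ≫ π₂ = 0 := by
    obtain ⟨c0, -, hc0u⟩ :=
      DerCompat.existsUnique_isDiffCompat a p p a rfl dX (DerExists.dsh p) hX
    refine (hc0u _ ?_).trans (hc0u _ ?_).symm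
    · intro U s
      change π₂.app _ (c₁.app _ _) = _
      rw [hc₁ U s, hπ₂']
    · intro U s
      exact ((DerExists.dsh p).d_app (X := op U) s).symm
  obtain ⟨r₁, hr₁⟩ : ∃ r₁, r₁ = π₁ ≫ inv c' := ⟨_, rfl⟩
  obtain ⟨r₂, hr₂⟩ : ∃ r₂, r₂ = π₂ ≫ inv c'' := ⟨_, rfl⟩
  have f11 : c₁ ≫ r₁ = 𝟙 _ := by
    rw [hr₁, ← Category.assoc, e11, IsIso.hom_inv_id]
  have f22 : c₂ ≫ r₂ = 𝟙 _ := by
    rw [hr₂, ← Category.assoc, e22, IsIso.hom_inv_id]
  have f21 : c₂ ≫ r₁ = 0 := by
    rw [hr₁, ← Category.assoc, e21, zero_comp]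
  have f12 : c₁ ≫ r₂ = 0 := by
    rw [hr₂, ← Category.assoc, e12, zero_comp]
  -- the sum of the two projections is the identity
  have fsum : r₁ ≫ c₁ + r₂ ≫ c₂ = 𝟙 ΩZ := by
    obtain ⟨α, -, hαu⟩ := hZu ΩZ dZ
    refine (hαu _ ?_).trans (hαu _ ?_).symm
    · apply PresheafOfModules.Derivation.ext
      funext W
      ext s
      have key := DerPb.eq_on_pullback (𝟙 Z) hZ (dZ.postcomp (r₁ ≫ c₁ + r₂ ≫ c₂).val) dZ ?_ ?_
        W.unop s
      · exact key
      · intro U r
        change (r₁ ≫ c₁ + r₂ ≫ c₂).app _ (dZ.app _ (p.app U r)) = dZ.app _ (p.app U r)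
        rw [← hc₁ U r]
        have h1 : (r₁ ≫ c₁).app _ (c₁.app _ (OmegaSh.pullSect p ΩX U (dX.app U r))) =
            c₁.app _ (OmegaSh.pullSect p ΩX U (dX.app U r)) := by
          change c₁.app _ ((c₁ ≫ r₁).app _ _) = _
          rw [f11]; rfl
        have h2 : (r₂ ≫ c₂).app _ (c₁.app _ (OmegaSh.pullSect p ΩX U (dX.app U r))) = 0 := by
          change c₂.app _ ((c₁ ≫ r₂).app _ _) = _
          rw [f12]
          exact map_zero _
        change (r₁ ≫ c₁).app _ _ + (r₂ ≫ c₂).app _ _ = _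
        rw [h1, h2, add_zero]
      · intro U r
        change (r₁ ≫ c₁ + r₂ ≫ c₂).app _ (dZ.app _ (q.app U r)) = dZ.app _ (q.app U r)
        rw [← hc₂ U r]
        have h1 : (r₂ ≫ c₂).app _ (c₂.app _ (OmegaSh.pullSect q ΩY U (dY.app U r))) =
            c₂.app _ (OmegaSh.pullSect q ΩY U (dY.app U r)) := by
          change c₂.app _ ((c₂ ≫ r₂).app _ _) = _
          rw [f22]; rfl
        have h2 : (r₁ ≫ c₁).app _ (c₂.app _ (OmegaSh.pullSect q ΩY U (dY.app U r))) = 0 := by
          change c₁.app _ ((c₂ ≫ r₁).app _ _) = _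
          rw [f21]
          exact map_zero _
        change (r₁ ≫ c₁).app _ _ + (r₂ ≫ c₂).app _ _ = _
        rw [h1, h2, zero_add]
    · exact DerStruct.postcomp_id dZ
  refine ⟨r₁ ≫ coprod.inl + r₂ ≫ coprod.inr, ?_, ?_⟩
  · apply coprod.hom_ext
    · rw [coprod.inl_desc_assoc, Preadditive.comp_add, ← Category.assoc c₁ r₁,
        ← Category.assoc c₁ r₂, f11, f12, zero_comp, add_zero, Category.id_comp, Category.comp_id]
    · rw [coprod.inr_desc_assoc, Preadditive.comp_add, ← Category.assoc c₂ r₁,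
        ← Category.assoc c₂ r₂, f21, f22, zero_comp, zero_add, Category.id_comp, Category.comp_id]
  · rw [Preadditive.add_comp, Category.assoc, Category.assoc, coprod.inl_desc, coprod.inr_desc, fsum]

end Groth.Agent.S5023
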