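import Groth.Statements.S5024
-- import your own Groth.Agent.* helpers here
import Mathlib
import Groth.Agent.Lib.Helper22.SmoothSkRk

set_option autoImplicit false
universe u
open CategoryTheory CategoryTheory.Limits AlgebraicGeometry TopologicalSpace
open Unram17

namespace Groth.Agent.S5024

/-- Let Y be locally Noetherian and f : X ⟶ Y locally of finite type, smooth on an open neighbourhood of
a point x with image y. Then for every n the local ring of X at x has Serre's property (S_n),
respectively (R_n), if and only if the local ring of Y at y has it. -/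
theorem result {X Y : Scheme.{u}} (f : X ⟶ Y)
    [IsLocallyNoetherian Y] [LocallyOfFiniteType f] (x : ↥X)
    (hx : ∃ U : X.Opens, x ∈ U ∧ Smooth (U.ι ≫ f)) (n : ℕ) :
    (LocCoh.HasSk n ↑(X.presheaf.stalk x) ↑(X.presheaf.stalk x) ↔
        LocCoh.HasSk n ↑(Y.presheaf.stalk (f.base x)) ↑(Y.presheaf.stalk (f.base x))) ∧
      (LocCoh.HasRk n ↑(X.presheaf.stalk x) ↔ LocCoh.HasRk n ↑(Y.presheaf.stalk (f.base x))) := by
  classical
  obtain ⟨U, hxU, hsm⟩ := hx
  haveI := hsm
  haveI : IsLocallyNoetherian X := LocallyOfFiniteType.isLocallyNoetherian f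
  let x' : ↥(U.toScheme) := ⟨x, hxU⟩
  have h := Groth.Agent.Lib.Helper22.SmoothSkRk.stalk_iff_of_smooth (U.ι ≫ f) x' n
  let e : X.presheaf.stalk x ≃+* (U : Scheme.{u}).presheaf.stalk x' :=
    (asIso (U.ι.stalkMap x')).commRingCatIsoToRingEquiv
  haveI : IsLocallyNoetherian (U : Scheme.{u}) :=
    LocallyOfFiniteType.isLocallyNoetherian (U.ι ≫ f)
  obtain ⟨h1, h2⟩ := h
  constructor
  · constructor
    · intro hh
      exact h1.mp (Groth.Agent.Lib.Helper14.SkTensor.hasSk_self_of_ringEquiv e n hh)
    · intro hh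
      exact Groth.Agent.Lib.Helper14.SkTensor.hasSk_self_of_ringEquiv e.symm n (h1.mpr hh)
  · constructor
    · intro hh
      exact h2.mp (Groth.Agent.Lib.Helper22.SmoothSkRk.hasRk_of_ringEquiv e n hh)
    · intro hh
      exact Groth.Agent.Lib.Helper22.SmoothSkRk.hasRk_of_ringEquiv e.symm n (h2.mpr hh)

end Groth.Agent.S5024
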