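import Groth.Statements.S5025
-- import your own Groth.Agent.* helpers here
import Mathlib
import Groth.Agent.Lib.Helper22.SmoothFibre

set_option autoImplicit false
universe u
open CategoryTheory CategoryTheory.Limits AlgebraicGeometry TopologicalSpace
open Unram17

namespace Groth.Agent.S5025

/-- Let Y be locally Noetherian and f : X ⟶ Y locally of finite type, smooth on an open neighbourhood of
a point x with image y. Then the local rings of X at x and of Y at y have the same codepth (Krull
dimension minus depth); written without subtraction: dim O_{X,x} + depth O_{Y,y} = dim O_{Y,y} +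
depth O_{X,x}. -/
theorem result {X Y : Scheme.{u}} (f : X ⟶ Y)
    [IsLocallyNoetherian Y] [LocallyOfFiniteType f] (x : ↥X)
    (hx : ∃ U : X.Opens, x ∈ U ∧ Smooth (U.ι ≫ f)) :
    ringKrullDim ↑(X.presheaf.stalk x) +
        ((LocCoh.depth ↑(Y.presheaf.stalk (f.base x)) ↑(Y.presheaf.stalk (f.base x)) : ℕ∞) : WithBot ℕ∞) =
      ringKrullDim ↑(Y.presheaf.stalk (f.base x)) +
        ((LocCoh.depth ↑(X.presheaf.stalk x) ↑(X.presheaf.stalk x) : ℕ∞) : WithBot ℕ∞) := by
  classical
  obtain ⟨U, hxU, hsm⟩ := hx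
  haveI := hsm
  haveI : IsLocallyNoetherian X := LocallyOfFiniteType.isLocallyNoetherian f
  have hflat : (f.stalkMap x).hom.Flat := by
    let x' : ↥(U.toScheme) := ⟨x, hxU⟩
    have h1 : ((U.ι ≫ f).stalkMap x').hom.Flat := Flat.stalkMap (U.ι ≫ f) x'
    have h2 : (U.ι ≫ f).stalkMap x' = f.stalkMap (U.ι.base x') ≫ U.ι.stalkMap x' :=
      Scheme.Hom.stalkMap_comp U.ι f x'
    have h3 : f.stalkMap x = (U.ι ≫ f).stalkMap x' ≫ inv (U.ι.stalkMap x') :=
      (IsIso.eq_comp_inv (U.ι.stalkMap x')).mpr h2.symm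
    rw [h3]
    show ((inv (U.ι.stalkMap x')).hom.comp ((U.ι ≫ f).stalkMap x').hom).Flat
    refine RingHom.Flat.comp h1 ?_
    apply RingHom.Flat.of_bijective
    exact ConcreteCategory.bijective_of_isIso (inv (U.ι.stalkMap x'))
  have hreg := Groth.Agent.Lib.Helper22.SmoothFibre.isRegularLocalRing_fibreQuot f x U hxU
  letI : Algebra (Y.presheaf.stalk (f.base x)) (X.presheaf.stalk x) := (f.stalkMap x).hom.toAlgebra
  haveI : IsLocalHom (algebraMap (Y.presheaf.stalk (f.base x)) (X.presheaf.stalk x)) :=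
    (inferInstance : IsLocalHom (f.stalkMap x).hom)
  haveI : Module.Flat (Y.presheaf.stalk (f.base x)) (X.presheaf.stalk x) := hflat
  haveI hreg' : IsRegularLocalRing (X.presheaf.stalk x ⧸ (IsLocalRing.maximalIdeal
      (Y.presheaf.stalk (f.base x))).map
      (algebraMap (Y.presheaf.stalk (f.base x)) (X.presheaf.stalk x))) := hreg
  have hdim := Groth.Agent.Lib.Helper4.FlatRing.dim_eq_add_fibRing (Y.presheaf.stalk (f.base x))
    (X.presheaf.stalk x)
  have hdepth := Groth.Agent.Lib.Helper4.FlatRing.depth_eq_add_fibRing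
    (Y.presheaf.stalk (f.base x)) (X.presheaf.stalk x)
  have hcm := Groth.Agent.Lib.Helper4.RegCM.depth_eq_ringKrullDim (X.presheaf.stalk x ⧸
    (IsLocalRing.maximalIdeal (Y.presheaf.stalk (f.base x))).map
      (algebraMap (Y.presheaf.stalk (f.base x)) (X.presheaf.stalk x)))
  rw [hdim, hdepth, ← hcm]
  push_cast
  abel

end Groth.Agent.S5025
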