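import Groth.Statements.S5029
import Groth.Agent.Lib.Helper3.PiLocal
import Groth.Agent.Lib.Helper3.LocFreeCrit
import Groth.Agent.Lib.Helper3.NormAlg

set_option autoImplicit false
universe u
open CategoryTheory CategoryTheory.Limits AlgebraicGeometry TopologicalSpace
open Unram17

namespace Groth.Agent.S5029

/-- Let S be a scheme and E a quasi-coherent O_S-module that is finite locally free. If A is a
quasi-coherent O_S-algebra which is the symmetric algebra of E (through j : E ⟶ A), then the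
structure morphism of the relative spectrum of A, i.e. of the vector bundle V(E), is smooth. -/
theorem result {S : Scheme.{u}} (E : S.Modules) (hE : Coh.IsQCoh E)
    (hlf : FlatMod.IsFinLocFree E) (A : RelSpec.QCAlg S) (j : E ⟶ A.toModule) (hA : RelSpec.IsSymAlg E A j) :
    Smooth A.π := by
  classical
  haveI : E.IsQuasicoherent := hE
  obtain ⟨a, -⟩ := Groth.Agent.Lib.Helper3.SymLocal.exists_iso
    (Groth.Agent.Lib.Helper3.SymSheaf.isSymAlg E) hA
  have hπ : RelSpec.QCAlg.specMap a.hom ≫ (Groth.Agent.Lib.Helper3.SymSheaf.symAlg E).π = A.π :=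
    RelSpec.QCAlg.specMap_π a.hom
  haveI : IsIso (RelSpec.QCAlg.specMap a.hom) :=
    Groth.Agent.Lib.Helper3.PiLocal.isIso_specMap_of_iso a
  suffices h : Smooth (Groth.Agent.Lib.Helper3.SymSheaf.symAlg E).π by
    rw [← hπ]
    infer_instance
  have key : ∀ x : S, ∃ W : S.Opens, IsAffineOpen W ∧ x ∈ W ∧
      Smooth (Spec.map ((Groth.Agent.Lib.Helper3.SymSheaf.symAlg E).str.app (Opposite.op W))) := by
    intro x
    obtain ⟨U, n, e, hxU, he⟩ := (Groth.Agent.Lib.Helper3.LocFreeCrit.isFinLocFree_iff.mp hlf) x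
    obtain ⟨W, hW, hxW, hWU⟩ := exists_isAffineOpen_mem_and_subset hxU
    refine ⟨W, hW, hxW, ?_⟩
    rw [HasRingHomProperty.Spec_iff (P := @Smooth)]
    let b : Module.Basis (Fin n) Γ(S, W) Γ(E, W) :=
      Groth.Agent.Lib.Helper3.NormAlg.basisOfBijective _ (he W hWU)
    have h1 := Groth.Agent.Lib.Helper3.PiLocal.smooth_algebraMap_symAlg b
    have h2 : ((Groth.Agent.Lib.Helper3.SymSheaf.symAlg E).str.app (Opposite.op W)).hom =
        (Groth.Agent.Lib.Helper3.SymSheaf.epsU E ⟨W, hW⟩).symm.toRingHom.comp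
          (algebraMap Γ(S, W) (SymmetricAlgebra Γ(S, W) Γ(E, W))) := by
      ext r
      exact (Groth.Agent.Lib.Helper3.SymSheaf.epsU_symm_algebraMap E ⟨W, hW⟩ r).symm
    rw [h2]
    exact h1.comp (RingHom.Smooth.of_bijective
      (Groth.Agent.Lib.Helper3.SymSheaf.epsU E ⟨W, hW⟩).symm.bijective)
  choose W hW hxW hsm using key
  refine Groth.Agent.Lib.Helper3.PiLocal.pi_of_charts @Smooth
    (Groth.Agent.Lib.Helper3.SymSheaf.symAlg E) W hW ?_ hsm
  rw [eq_top_iff]
  intro x _
  exact TopologicalSpace.Opens.mem_iSup.2 ⟨x, hxW x⟩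

end Groth.Agent.S5029
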