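import Groth.Statements.S5942
-- import your own Groth.Agent.* helpers here
import Mathlib
import Groth.Agent.Lib.Helper12.LimPb
import Groth.Agent.Lib.Helper12.LimPb2
import Groth.Agent.Lib.Helper12.LimSep
import Groth.Agent.S12442

set_option autoImplicit false
universe u
open CategoryTheory AlgebraicGeometry
open Unram17

namespace Groth.Agent.S5942
open Groth.Agent.Lib.Helper12 Groth.Agent.Lib.Helper12.PbDiag CategoryTheory.Limits

instance respectsRight_formallyUnramified :
    MorphismProperty.RespectsRight @FormallyUnramified @IsOpenImmersion where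
  postcomp i hi f hf := by
    haveI : IsOpenImmersion i := hi
    haveI : FormallyUnramified f := hf
    exact MorphismProperty.comp_mem (W := @FormallyUnramified) f i inferInstance inferInstance

/-- Let S = lim S_i be a cofiltered limit of schemes with affine transition maps, let X₀ and Y₀ be
schemes locally of finite presentation over a stage S_{i₀}, f₀ : X₀ ⟶ Y₀ an S_{i₀}-morphism, and f :
X ⟶ Y the base change of f₀ along S ⟶ S_{i₀} (base changes are expressed by pullback squares).
Assume X₀ quasi-compact. Then f is formally unramified if and only if, for some index j over i₀, the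
base change f_j : X_j ⟶ Y_j of f₀ along S_j ⟶ S_{i₀} is formally unramified (f and every f_j are
locally of finite presentation, being morphisms between schemes locally of finite presentation over
a common base, so formally unramified means unramified here). This is the case of unramified
morphisms. -/
theorem result {I : Type u} [SmallCategory I] [IsCofiltered I]
    (D : I ⥤ Scheme.{u}) (c : Limits.Cone D) (hc : Limits.IsLimit c)
    [∀ (i j : I) (f : i ⟶ j), IsAffineHom (D.map f)] (i₀ : I)
    {X₀ Y₀ : Scheme.{u}} (f₀ : X₀ ⟶ Y₀) (g₀ : Y₀ ⟶ D.obj i₀)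
    [LocallyOfFinitePresentation g₀] [LocallyOfFinitePresentation (f₀ ≫ g₀)]
    [CompactSpace ↥X₀]
    {X Y : Scheme.{u}} (f : X ⟶ Y) (g : Y ⟶ c.pt) (qY : Y ⟶ Y₀) (qX : X ⟶ X₀)
    (hY : IsPullback qY g g₀ (c.π.app i₀)) (hX : IsPullback qX f f₀ qY) :
    FormallyUnramified f ↔
      ∃ (j : I) (φ : j ⟶ i₀) (Xj Yj : Scheme.{u}) (fj : Xj ⟶ Yj) (gj : Yj ⟶ D.obj j) (pY : Yj ⟶ Y₀)
        (pX : Xj ⟶ X₀), IsPullback pY gj g₀ (D.map φ) ∧ IsPullback pX fj f₀ pY ∧ FormallyUnramified fj := by
  haveI hD : ∀ {i j : I} (f : i ⟶ j), IsAffineHom (D.map f) := fun f => inferInstance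
  haveI : LocallyOfFinitePresentation f₀ := Groth.Agent.S12442.result f₀ g₀
  constructor
  · intro hf
    haveI := hf
    haveI : LocallyOfFiniteType f :=
      MorphismProperty.of_isPullback (P := @LocallyOfFiniteType) hX inferInstance
    refine LimData.exists_stage D i₀ f₀ g₀ @FormallyUnramified
      (PbLocal.exists_stage_of_sourceLocal @FormallyUnramified fun U V e hU hV => ?_)
    haveI : IsAffine (U : Scheme.{u}) := hU
    haveI : IsAffine (V : Scheme.{u}) := hV
    haveI : LocallyOfFiniteType (f₀.resLE U V e) :=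
      IsZariskiLocalAtSource.resLE (P := @LocallyOfFiniteType) e inferInstance
    haveI : ∀ j, LocallyOfFiniteType ((LimData.ofPb' D c hc i₀ (f₀.resLE U V e) (U.ι ≫ g₀)
        (f.resLE (qY ⁻¹ᵁ U) (qX ⁻¹ᵁ V) (LimData.le_of_le hX e)) ((qY ⁻¹ᵁ U).ι ≫ g)
        (qY ∣_ U) (qX ∣_ V) (LimData.isPullback_restrict_Y c hY U)
        (LimData.isPullback_restrict_X hX U V e)).F.app j) := fun j =>
      MorphismProperty.of_isPullback (P := @LocallyOfFiniteType)
        (isPullback_pbMap_app D i₀ (U.ι ≫ g₀) _ j) inferInstance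
    haveI : LocallyOfFiniteType (LimData.ofPb' D c hc i₀ (f₀.resLE U V e) (U.ι ≫ g₀)
        (f.resLE (qY ⁻¹ᵁ U) (qX ⁻¹ᵁ V) (LimData.le_of_le hX e)) ((qY ⁻¹ᵁ U).ι ≫ g)
        (qY ∣_ U) (qX ∣_ V) (LimData.isPullback_restrict_Y c hY U)
        (LimData.isPullback_restrict_X hX U V e)).f :=
      IsZariskiLocalAtSource.resLE (P := @LocallyOfFiniteType) _ inferInstance
    have hfU : FormallyUnramified (f.resLE (qY ⁻¹ᵁ U) (qX ⁻¹ᵁ V) (LimData.le_of_le hX e)) :=
      IsZariskiLocalAtSource.resLE (P := @FormallyUnramified) _ inferInstance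
    exact (LimData.ofPb' D c hc i₀ (f₀.resLE U V e) (U.ι ≫ g₀)
        (f.resLE (qY ⁻¹ᵁ U) (qX ⁻¹ᵁ V) (LimData.le_of_le hX e)) ((qY ⁻¹ᵁ U).ι ≫ g)
        (qY ∣_ U) (qX ∣_ V) (LimData.isPullback_restrict_Y c hY U)
        (LimData.isPullback_restrict_X hX U V e)).exists_formallyUnramified hfU
  · intro h
    exact LimData.of_stage c hY hX @FormallyUnramified h

end Groth.Agent.S5942
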