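import Groth.Statements.S5033
import Groth.Agent.Lib.Helper5.RegQuot

set_option autoImplicit false
universe u
open CInt

namespace Groth.Agent.S5033

/-- Let A be a Noetherian local ring and J an ideal such that A/J is a regular local ring. Then A is a
regular local ring if and only if J is generated by a regular sequence of A. -/
theorem result (A : Type u) [CommRing A] [IsNoetherianRing A]
    [IsLocalRing A] (J : Ideal A) [IsRegularLocalRing (A ⧸ J)] :
    IsRegularLocalRing A ↔ CInt.IsRegularIdeal J := by
  have hJ : J ≠ ⊤ := by
    intro h
    haveI : Nontrivial (A ⧸ J) := inferInstance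
    exact (Ideal.Quotient.nontrivial_iff.mp this) h
  constructor
  · intro hreg
    obtain ⟨rs, hrs, hJrs⟩ :=
      Groth.Agent.Lib.Helper5.RegQuot.exists_isRegular_of_quotient_regular A J hJ
    exact ⟨rs, hrs, hJrs.symm⟩
  · rintro ⟨rs, hrs, hJrs⟩
    subst hJrs
    exact Groth.Agent.Lib.Helper5.RegQuot.isRegularLocalRing_of_quotient A rs hrs inferInstance

end Groth.Agent.S5033
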