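import Groth.Statements.S5035
import Groth.Agent.S0502
import Groth.Agent.Lib.Helper8.HenselSplitConv
import Groth.Agent.Lib.Helper8.Hzl.QuasiFiniteLoc

set_option autoImplicit false
universe u
open Hensel

namespace Groth.Agent.S5035

/-- a) iff c') (affine form): a local ring R is henselian if and only if, for every R-algebra S of
finite type and every prime q of S lying over the maximal ideal of R such that S is quasi-finite
over R at q, the local ring S_q is a finitely generated R-module. -/
theorem result (R : Type u) [CommRing R] [IsLocalRing R] :
    HenselianLocalRing R ↔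
      ∀ (S : Type u) [CommRing S] [Algebra R S] [Algebra.FiniteType R S] (q : Ideal S) [q.IsPrime],
        q.LiesOver (IsLocalRing.maximalIdeal R) → Algebra.QuasiFiniteAt R q →
          Module.Finite R (Localization.AtPrime q) := by
  constructor
  · intro hR S _ _ _ q _ hq hqf
    haveI := hR
    haveI := hq
    haveI := hqf
    obtain ⟨J, hfin, -, hloc⟩ :=
      Groth.Agent.Lib.Helper8.Hzl.exists_finite_quotient_isLocalization R S q
    let e : (S ⧸ J) ≃ₐ[S] Localization.AtPrime q :=
      IsLocalization.algEquiv q.primeCompl (S ⧸ J) (Localization.AtPrime q)
    exact Module.Finite.equiv (e.restrictScalars R).toLinearEquiv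
  · intro H
    refine Groth.Agent.S0502.result R fun S _ _ _ q _ hq hsurj => ?_
    have hfin : Module.Finite R (Localization.AtPrime q) := H S q hq inferInstance
    haveI : Module.Flat R (Localization.AtPrime q) := Module.Flat.trans R S (Localization.AtPrime q)
    have hres : ∀ a : Localization.AtPrime q, ∃ r : R,
        a - algebraMap R (Localization.AtPrime q) r ∈
          IsLocalRing.maximalIdeal (Localization.AtPrime q) := by
      intro a
      obtain ⟨r, hr⟩ := hsurj (IsLocalRing.residue _ a)
      refine ⟨r, ?_⟩
      rw [← Ideal.Quotient.eq_zero_iff_mem]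
      change IsLocalRing.residue _ (a - _) = 0
      rw [map_sub, ← hr, sub_eq_zero]
      rfl
    have hbij := Groth.Agent.Lib.Helper8.HenselSplitConv.algebraMap_bijective_of_finite_flat_unramified
      R (Localization.AtPrime q) hres
    let eq : R ≃ₐ[R] Localization.AtPrime q :=
      AlgEquiv.ofBijective (Algebra.ofId R (Localization.AtPrime q)) hbij
    exact ⟨eq.symm.toAlgHom.comp (IsScalarTower.toAlgHom R S (Localization.AtPrime q))⟩

end Groth.Agent.S5035
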