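import Groth.Statements.S5039
import Groth.Agent.Lib.Helper27.NagataFF
open Groth.Agent.Lib.Helper27

set_option autoImplicit false
universe u
open Hensel

namespace Groth.Agent.S5039

/-- Let R be a Noetherian local ring and S its henselization. Then S is universally Japanese if and only
if R is. -/
theorem result (R S : Type u) [CommRing R] [IsLocalRing R] [IsNoetherianRing R]
    [CommRing S] [IsLocalRing S] [Algebra R S] [IsLocalHom (algebraMap R S)] [Hensel.IsHenselization R S] :
    CAlg.IsUniversallyJapanese S ↔ CAlg.IsUniversallyJapanese R := by
  haveI : IsNoetherianRing S := (Groth.Agent.S0511.result R S).mp inferInstance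
  rw [NagataFF.isUniversallyJapanese_iff_isNagata, NagataFF.isUniversallyJapanese_iff_isNagata]
  exact NagataFF.isNagata_henselization_iff R S

end Groth.Agent.S5039
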