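import Groth.Statements.S5048
import Mathlib

set_option autoImplicit false
open CategoryTheory AlgebraicGeometry
universe u
open Unram

namespace Groth.Agent.S5048

/-- Let Y be an irreducible scheme with generic point η and f : X ⟶ Y flat, locally of finite type and
locally quasi-finite. Then a point x of X maps to η if and only if its closure is an irreducible
component of X; thus the irreducible components of X are in canonical bijection with the fibre over
η. -/
theorem result {X Y : Scheme.{u}} [IrreducibleSpace ↥Y] (f : X ⟶ Y)
    [Flat f] [LocallyOfFiniteType f] [LocallyQuasiFinite f] (x : X) :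
    f.base x = genericPoint Y ↔ closure ({x} : Set ↥X) ∈ irreducibleComponents ↥X := by
  classical
  have hdisc : ∀ (y : Y) (a b : X), f.base a = y → f.base b = y → a ⤳ b → a = b := by
    intro y a b ha hb hab
    have hd := f.isDiscrete_preimage_singleton y
    rw [isDiscrete_iff_forall_mem_exists_isOpen] at hd
    obtain ⟨u, hu, hus⟩ := hd b hb
    have hbu : b ∈ u := by
      have : b ∈ u ∩ (f ⁻¹' {y}) := by rw [hus]; rfl
      exact this.1
    have hau : a ∈ u := hab.mem_open hu hbu
    have : a ∈ u ∩ (f ⁻¹' {y}) := ⟨hau, ha⟩
    rw [hus] at this
    exact this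
  constructor
  · intro hx
    refine ⟨isIrreducible_singleton.closure, ?_⟩
    intro Z hZ hxZ
    have hZc : IsIrreducible (closure Z) := hZ.closure
    obtain ⟨x', hx'⟩ := QuasiSober.sober hZc isClosed_closure
    have hx'x : x' ⤳ x := by
      rw [specializes_iff_mem_closure, hx'.def]
      exact subset_closure (hxZ (subset_closure rfl))
    have h1 : f.base x' ⤳ f.base x := hx'x.map f.continuous
    have h2 : f.base x' = genericPoint Y := by
      rw [hx] at h1
      exact (h1.antisymm (genericPoint_specializes _)).eq
    have h3 := hdisc _ x' x h2 hx hx'x
    subst h3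
    calc Z ⊆ closure Z := subset_closure
      _ = closure {x'} := hx'.def.symm
  · intro hx
    have hgen : GeneralizingMap f.base := Flat.generalizingMap f
    obtain ⟨x', hx'x, hfx'⟩ := hgen (genericPoint_specializes (f.base x))
    have hsub : closure {x} ⊆ closure {x'} := specializes_iff_closure_subset.mp hx'x
    have hsub' : closure {x'} ⊆ closure {x} := hx.2 isIrreducible_singleton.closure hsub
    have hxx' : x ⤳ x' := specializes_iff_closure_subset.mpr hsub'
    have h1 : f.base x ⤳ f.base x' := hxx'.map f.continuous
    rw [hfx'] at h1
    exact (h1.antisymm (genericPoint_specializes _)).eq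

end Groth.Agent.S5048
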