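import Groth.Statements.S5049
import Mathlib

set_option autoImplicit false
open CategoryTheory AlgebraicGeometry
universe u
open Unram

namespace Groth.Agent.S5049

/-- Let f : X ⟶ Y be flat, locally of finite type and locally quasi-finite. If the irreducible
components of Y form a locally finite family of subsets, then so do the irreducible components of X. -/
theorem result {X Y : Scheme.{u}} (f : X ⟶ Y)
    [Flat f] [LocallyOfFiniteType f] [LocallyQuasiFinite f]
    (hY : LocallyFinite (fun Z : ↥(irreducibleComponents ↥Y) => (Z : Set ↥Y))) :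
    LocallyFinite (fun Z : ↥(irreducibleComponents ↥X) => (Z : Set ↥X)) := by
  classical
  have hgen : GeneralizingMap f.base := Flat.generalizingMap f
  have hcomp : ∀ ξ : X, closure ({ξ} : Set X) ∈ irreducibleComponents X →
      closure ({f.base ξ} : Set Y) ∈ irreducibleComponents Y := by
    intro ξ hξ
    refine ⟨isIrreducible_singleton.closure, ?_⟩
    intro W hW hsub
    obtain ⟨w, hw⟩ := QuasiSober.sober hW.closure isClosed_closure
    have hwf : w ⤳ f.base ξ := by
      rw [specializes_iff_mem_closure, hw.def]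
      exact subset_closure (hsub (subset_closure rfl))
    obtain ⟨ξ', hξ'ξ, hfξ'⟩ := hgen hwf
    have hsub1 : closure {ξ} ⊆ closure {ξ'} := specializes_iff_closure_subset.mp hξ'ξ
    have hsub2 : closure {ξ'} ⊆ closure {ξ} := hξ.2 isIrreducible_singleton.closure hsub1
    have h1 : f.base ξ ⤳ f.base ξ' :=
      (specializes_iff_closure_subset.mpr hsub2).map f.continuous
    rw [hfξ'] at h1
    calc W ⊆ closure W := subset_closure
      _ = closure {w} := hw.def.symm
      _ ⊆ closure {f.base ξ} := specializes_iff_closure_subset.mp h1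
  intro x
  obtain ⟨t, ht, htfin⟩ := hY (f.base x)
  obtain ⟨W', hW't, hW'o, hyW'⟩ := mem_nhds_iff.mp ht
  obtain ⟨V, hV, hyV, hVW⟩ := TopologicalSpace.Opens.isBasis_iff_nbhd.mp Y.isBasis_affineOpens
    (U := ⟨W', hW'o⟩) hyW'
  obtain ⟨U, hU, hxU, hUV⟩ := TopologicalSpace.Opens.isBasis_iff_nbhd.mp X.isBasis_affineOpens
    (U := f ⁻¹ᵁ V) (show x ∈ f ⁻¹ᵁ V from hyV)
  haveI : IsAffine (U : Scheme) := hU
  haveI : IsAffine (V : Scheme) := hV
  have key : ∀ u : U, ((f.resLE V U hUV).base u).1 = f.base u.1 := by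
    intro u
    have := congrArg (fun h : (U : Scheme) ⟶ Y => h.base u) (f.resLE_comp_ι hUV)
    simpa using this
  have hF : ∀ C : Set Y, {x : X | x ∈ U ∧ closure ({f.base x} : Set Y) = C}.Finite := by
    intro C
    by_cases hne : ∃ x₀ : X, x₀ ∈ U ∧ closure ({f.base x₀} : Set Y) = C
    · obtain ⟨x₀, hx₀U, hx₀C⟩ := hne
      have hfin := (f.resLE V U hUV).finite_preimage_singleton
        ((f.resLE V U hUV).base ⟨x₀, hx₀U⟩)
      refine (hfin.image Subtype.val).subset ?_
      rintro x ⟨hxU', hxC⟩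
      refine ⟨⟨x, hxU'⟩, ?_, rfl⟩
      have heq : f.base x = f.base x₀ :=
        (inseparable_iff_closure_eq.mpr (hxC.trans hx₀C.symm)).eq
      show (f.resLE V U hUV).base ⟨x, hxU'⟩ ∈
        ({(f.resLE V U hUV).base ⟨x₀, hx₀U⟩} : Set V)
      rw [Set.mem_singleton_iff]
      apply Subtype.ext
      rw [key, key]
      exact heq
    · convert Set.finite_empty
      ext x
      simp only [Set.mem_setOf_eq, Set.mem_empty_iff_false, iff_false]
      rintro ⟨h1, h2⟩
      exact hne ⟨x, h1, h2⟩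
  refine ⟨(U : Set X), U.isOpen.mem_nhds hxU, ?_⟩
  have hξ : ∀ Z : ↥(irreducibleComponents ↥X), ∃ ξ : X, closure ({ξ} : Set X) = Z.1 := fun Z =>
    QuasiSober.sober Z.2.1 (isClosed_of_mem_irreducibleComponents _ Z.2)
  choose ξ hξ using hξ
  have hinj : Function.Injective ξ := by
    intro Z Z' h
    apply Subtype.ext
    rw [← hξ Z, ← hξ Z', h]
  apply Set.Finite.of_finite_image _ hinj.injOn
  refine Set.Finite.subset (Set.Finite.biUnion htfin (fun C _ => hF C.1)) ?_
  rintro _ ⟨Z, hZ, rfl⟩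
  obtain ⟨z, hzZ, hzU⟩ := hZ
  have hspec : ξ Z ⤳ z := by
    rw [specializes_iff_mem_closure, hξ Z]; exact hzZ
  have hξU : ξ Z ∈ U := hspec.mem_open U.isOpen hzU
  have hC : closure ({f.base (ξ Z)} : Set Y) ∈ irreducibleComponents Y :=
    hcomp _ (by rw [hξ Z]; exact Z.2)
  rw [Set.mem_iUnion₂]
  have hmem : ((closure ({f.base (ξ Z)} : Set Y)) ∩ t).Nonempty :=
    ⟨f.base (ξ Z), subset_closure rfl, hW't (hVW (hUV hξU))⟩
  exact ⟨⟨_, hC⟩, hmem, show _ ∧ _ from ⟨hξU, rfl⟩⟩

end Groth.Agent.S5049
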