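import Groth.Statements.S5050
import Mathlib

set_option autoImplicit false
universe u v
open CInt

namespace Groth.Agent.S5050

/-- Let A be a Noetherian ring, N a finitely generated A-module, E and F submodules of N and Q an ideal
of A. For every natural number k there is h > 0 with E ⊓ (F ⊔ Q^h N) ≤ (E ⊓ F) ⊔ Q^k N. -/
theorem result {A : Type u} [CommRing A] [IsNoetherianRing A] {N : Type v} [AddCommGroup N]
    [Module A N] [Module.Finite A N] (E F : Submodule A N) (Q : Ideal A) (k : ℕ) :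
    ∃ h : ℕ, 0 < h ∧ E ⊓ (F ⊔ Q ^ h • (⊤ : Submodule A N)) ≤ (E ⊓ F) ⊔ Q ^ k • (⊤ : Submodule A N) := by
  classical
  obtain ⟨c, hc⟩ := Ideal.exists_pow_inf_eq_pow_smul Q (E.map F.mkQ)
  refine ⟨k + c + 1, Nat.succ_pos _, ?_⟩
  rintro x ⟨hxE, hxF⟩
  have h1 : F.mkQ x ∈ E.map F.mkQ := Submodule.mem_map_of_mem hxE
  have h2 : F.mkQ x ∈ Q ^ (k + c + 1) • (⊤ : Submodule A (N ⧸ F)) := by
    obtain ⟨f, hf, y, hy, rfl⟩ := Submodule.mem_sup.mp hxF
    have hf0 : F.mkQ f = 0 := by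
      rw [Submodule.mkQ_apply, Submodule.Quotient.mk_eq_zero]; exact hf
    rw [map_add, hf0, zero_add]
    have h3 : F.mkQ y ∈ (Q ^ (k + c + 1) • (⊤ : Submodule A N)).map F.mkQ :=
      Submodule.mem_map_of_mem hy
    rw [Submodule.map_smul''] at h3
    exact Submodule.smul_mono le_rfl le_top h3
  have h4 : F.mkQ x ∈ Q ^ (k + c + 1) • (⊤ : Submodule A (N ⧸ F)) ⊓ E.map F.mkQ := ⟨h2, h1⟩
  rw [hc (k + c + 1) (by omega)] at h4
  have h5 : k + c + 1 - c = k + 1 := by omega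
  rw [h5] at h4
  have h6 : F.mkQ x ∈ Q ^ k • E.map F.mkQ := by
    refine Submodule.smul_mono (Ideal.pow_le_pow_right (Nat.le_succ k)) inf_le_right h4
  rw [← Submodule.map_smul''] at h6
  obtain ⟨z, hz, hzx⟩ := h6
  have hzE : z ∈ E := Submodule.smul_le_right hz
  have hdiff : x - z ∈ F := by
    have : F.mkQ (x - z) = 0 := by rw [map_sub, hzx, sub_self]
    rwa [Submodule.mkQ_apply, Submodule.Quotient.mk_eq_zero] at this
  have hsplit : x = (x - z) + z := by abel
  rw [hsplit]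
  exact Submodule.add_mem_sup ⟨E.sub_mem hxE hzE, hdiff⟩
    (Submodule.smul_mono le_rfl le_top hz)

end Groth.Agent.S5050
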