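import Groth.Statements.S5051
import Mathlib
import Groth.Agent.Lib.Helper8.FibIntN2

set_option autoImplicit false
open CategoryTheory AlgebraicGeometry
universe u
open Unram

namespace Groth.Agent.S5051

/-- Let f : X ⟶ Y be étale, separated and of finite type. Then y ↦ (number of points of the geometric
fibre of f at y) is lower semicontinuous on Y. -/
theorem result {X Y : Scheme.{u}} (f : X ⟶ Y) [Etale f] [IsSeparated f]
    [LocallyOfFiniteType f] [QuasiCompact f] :
    LowerSemicontinuous (fun y : Y => ENat.card ↥(MoreMor.geomFiber f y)) := by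
  haveI : LocallyQuasiFinite f := Groth.Agent.Lib.Helper8.FibIntN2.locallyQuasiFinite_of_unramified f
  have hfin : ∀ y : Y, (f ⁻¹' {y}).Finite := fun y => f.finite_preimage_singleton y
  haveI : UniversallyOpen f := UniversallyOpen.of_flat f
  have hn : ∀ z, ENat.card ↥(MoreMor.geomFiber f z) =
      ((MoreMor.fibreIntegral f (fun _ => 1) z).toNat : ℕ∞) := fun z =>
    Groth.Agent.Lib.Helper8.FibIntN2.card_geomFiber_eq f z (hfin z)
  intro y c hc
  obtain ⟨U, hUo, hyU, hU⟩ := Groth.Agent.Lib.Helper8.FibIntN.fibreIntegral_one_ge_nhds f hfin y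
    (fun x _ => Groth.Agent.Lib.Helper8.FibIntN.isUnivOpenAt_of_universallyOpen f x)
  refine Filter.eventually_of_mem (hUo.mem_nhds hyU) fun y' hy' => ?_
  have hc' : c < ((MoreMor.fibreIntegral f (fun _ => 1) y).toNat : ℕ∞) := by
    rw [← hn]; exact hc
  show c < ENat.card ↥(MoreMor.geomFiber f y')
  rw [hn]
  exact lt_of_lt_of_le hc' (by exact_mod_cast Int.toNat_le_toNat (hU y' hy'))

end Groth.Agent.S5051
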