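import Groth.Statements.S5053
import Mathlib
import Groth.Agent.Lib.Helper8.FibIntE

set_option autoImplicit false
open CategoryTheory AlgebraicGeometry
universe u
open Unram

namespace Groth.Agent.S5053

/-- Let Y be a connected scheme and f : X ⟶ Y étale, separated and of finite type. Then f is finite if
and only if all geometric fibres of f have the same number of points. -/
theorem result {X Y : Scheme.{u}} [ConnectedSpace ↥Y] (f : X ⟶ Y)
    [Etale f] [IsSeparated f] [LocallyOfFiniteType f] [QuasiCompact f] :
    IsFinite f ↔ ∃ n : ℕ∞, ∀ y : Y, ENat.card ↥(MoreMor.geomFiber f y) = n := by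
  constructor
  · intro hf
    haveI := hf
    have hlc := Groth.Agent.Lib.Helper8.FibIntE.isLocallyConstant_of_finite_etale f
    obtain ⟨c, hc⟩ := hlc.exists_eq_const
    haveI : LocallyQuasiFinite f :=
      Groth.Agent.Lib.Helper8.FibIntN2.locallyQuasiFinite_of_unramified f
    refine ⟨(c.toNat : ℕ∞), fun y => ?_⟩
    have h1 := congrFun hc y
    rw [Groth.Agent.Lib.Helper8.FibIntN2.card_geomFiber_eq f y (f.finite_preimage_singleton y), h1]
    rfl
  · rintro ⟨n, hn⟩
    refine IsZariskiLocalAtTarget.of_forall_exists_morphismRestrict (P := @IsFinite) fun y => ?_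
    exact Groth.Agent.Lib.Helper8.FibIntE.exists_finite_nhds_of_const f y
      ⟨Set.univ, Filter.univ_mem, fun z _ =>
        (Groth.Agent.Lib.Helper8.FibIntE.card_geomFiber_eq_iff f z y).mp (by rw [hn, hn])⟩

end Groth.Agent.S5053
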