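import Groth.Statements.S5058
-- import your own Groth.Agent.* helpers here
import Mathlib
import Groth.Agent.Lib.Helper12.FpLimit
import Groth.Agent.Lib.Helper12.FpDesc
import Groth.Agent.S0506
import Groth.Agent.S0507
import Groth.Agent.S0511

set_option autoImplicit false
open CategoryTheory CategoryTheory.Limits AlgebraicGeometry
universe u
open Hensel

namespace Groth.Agent.S5058
open CategoryTheory Limits AlgebraicGeometry Groth.Agent.Lib.Helper12
set_option backward.isDefEq.respectTransparency false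
set_option linter.style.haveILetI false

/-- Ring-theoretic core: a ring map from a Noetherian ring to a henselian local ring factors
through a Noetherian henselian local ring, with local second map. -/
lemma exists_hens_factor {R A : Type u} [CommRing R] [IsNoetherianRing R] [CommRing A]
    [HenselianLocalRing A] (ψ : R →+* A) :
    ∃ (A₀ : Type u) (_ : CommRing A₀) (_ : HenselianLocalRing A₀) (_ : IsNoetherianRing A₀)
      (β : R →+* A₀) (φ : A₀ →+* A), IsLocalHom φ ∧ φ.comp β = ψ := by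
  classical
  let p : Ideal R := Ideal.comap ψ (IsLocalRing.maximalIdeal A)
  haveI hp : p.IsPrime := Ideal.comap_isPrime ψ _
  let B := Localization.AtPrime p
  have hg : ∀ y : p.primeCompl, IsUnit (ψ y) := by
    intro y
    by_contra h
    exact y.2 ((IsLocalRing.mem_maximalIdeal _).mpr h)
  let ψ' : B →+* A := IsLocalization.lift (M := p.primeCompl) (S := B) hg
  have hψ' : ψ'.comp (algebraMap R B) = ψ := IsLocalization.lift_comp hg
  have hloc' : IsLocalHom ψ' := by
    constructor
    intro x hx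
    obtain ⟨a, s, rfl⟩ := IsLocalization.exists_mk'_eq (S := B) p.primeCompl x
    rw [IsLocalization.AtPrime.isUnit_mk'_iff B p]
    have h1 : ψ' (IsLocalization.mk' B a s) * ψ s = ψ a := by
      rw [← hψ', RingHom.comp_apply, RingHom.comp_apply, ← map_mul,
        IsLocalization.mk'_spec]
    have h2 : IsUnit (ψ a) := by
      rw [← h1]
      exact hx.mul (hg s)
    intro ha
    exact (IsLocalRing.mem_maximalIdeal _).mp ha h2
  obtain ⟨A₀, iC, iL, iAlg, hloc, hH⟩ := Groth.Agent.S0506.result B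
  haveI := hloc
  haveI := hH
  have hN : IsNoetherianRing A₀ := (Groth.Agent.S0511.result B A₀).mp inferInstance
  obtain ⟨g, hg1, -⟩ := hH.universal A ψ' hloc'
  have hmax := Groth.Agent.S0507.result B A₀
  refine ⟨A₀, iC, hH.henselian, hN, (algebraMap B A₀).comp (algebraMap R B), g, ?_, ?_⟩
  · constructor
    intro x hx
    by_contra hx'
    have h1 : x ∈ IsLocalRing.maximalIdeal A₀ := (IsLocalRing.mem_maximalIdeal _).mpr hx'
    rw [← hmax] at h1
    have h2 : g x ∈ Ideal.map g (Ideal.map (algebraMap B A₀) (IsLocalRing.maximalIdeal B)) :=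
      Ideal.mem_map_of_mem g h1
    rw [Ideal.map_map, hg1] at h2
    have h3 : Ideal.map ψ' (IsLocalRing.maximalIdeal B) ≤ IsLocalRing.maximalIdeal A :=
      ((IsLocalRing.local_hom_TFAE ψ').out 0 2).mp hloc'
    exact (IsLocalRing.mem_maximalIdeal _).mp (h3 h2) hx
  · rw [← RingHom.comp_assoc, hg1, hψ']

/-- A finitely presented scheme over an affine scheme descends to a Noetherian ring. -/
lemma exists_noeth_descent (A : Type u) [CommRing A]
    {X : Scheme.{u}} (f : X ⟶ Spec (CommRingCat.of A)) [LocallyOfFinitePresentation f]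
    [QuasiCompact f] [QuasiSeparated f] :
    ∃ (R : Type u) (_ : CommRing R) (_ : IsNoetherianRing R) (ψ : R →+* A) (Xj : Scheme.{u})
      (hj : Xj ⟶ Spec (CommRingCat.of R)) (g : X ⟶ Xj),
      LocallyOfFinitePresentation hj ∧ QuasiCompact hj ∧ QuasiSeparated hj ∧
        IsPullback g f hj (Spec.map (CommRingCat.ofHom ψ)) := by
  let φ0 : CommRingCat.of (ULift.{u} ℤ) ⟶ CommRingCat.of A :=
    CommRingCat.ofHom ((Int.castRingHom A).comp (ULift.ringEquiv : ULift.{u} ℤ ≃+* ℤ).toRingHom)
  obtain ⟨J, _, _, 𝔇, τ, π, hπ, haff, hfp, hcomp⟩ := FpLimit.exists_limit_of_ringHom φ0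
  haveI : ∀ j, IsAffine (𝔇.obj j) := haff
  haveI : ∀ {i j : J} (a : i ⟶ j), IsAffineHom (𝔇.map a) := fun a => inferInstance
  obtain ⟨j, Xj, hj, g, hlfp, hqc, hqs, hpb⟩ :=
    FpDesc.descends_of_fp (D := 𝔇) (c := Cone.mk _ π) hπ f
  haveI := hlfp
  haveI := hqc
  haveI := hqs
  let e : 𝔇.obj j ≅ Spec Γ(𝔇.obj j, ⊤) := (𝔇.obj j).isoSpec
  obtain ⟨ψ, hψ⟩ := Spec.map_surjective (π.app j ≫ e.hom)
  obtain ⟨θ, hθ⟩ := Spec.map_surjective (e.inv ≫ τ.app j)
  have hθfp : θ.hom.FinitePresentation := by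
    haveI := hfp j
    have : LocallyOfFinitePresentation (Spec.map θ) := by rw [hθ]; infer_instance
    exact (HasRingHomProperty.Spec_iff (P := @LocallyOfFinitePresentation)).mp this
  have hN : IsNoetherianRing Γ(𝔇.obj j, ⊤) := by
    letI : Algebra (ULift.{u} ℤ) Γ(𝔇.obj j, ⊤) := θ.hom.toAlgebra
    haveI : IsNoetherianRing (ULift.{u} ℤ) :=
      isNoetherianRing_of_ringEquiv ℤ (ULift.ringEquiv : ULift.{u} ℤ ≃+* ℤ).symm
    haveI : Algebra.FinitePresentation (ULift.{u} ℤ) Γ(𝔇.obj j, ⊤) := hθfp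
    haveI : Algebra.FiniteType (ULift.{u} ℤ) Γ(𝔇.obj j, ⊤) := inferInstance
    exact Algebra.FiniteType.isNoetherianRing (ULift.{u} ℤ) _
  refine ⟨Γ(𝔇.obj j, ⊤), inferInstance, hN, ψ.hom, Xj, hj ≫ e.hom, g, inferInstance,
    inferInstance, inferInstance, ?_⟩
  have : Spec.map (CommRingCat.ofHom ψ.hom) = π.app j ≫ e.hom := hψ
  rw [this]
  have sq2 : IsPullback (π.app j) (𝟙 _) e.hom (π.app j ≫ e.hom) :=
    IsPullback.of_vert_isIso ⟨by simp⟩
  have h3 := hpb.paste_vert sq2
  have h4 : f ≫ 𝟙 (Spec (CommRingCat.of A)) = f := Category.comp_id f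
  exact h4 ▸ h3

/-- Let A be a henselian local ring and f : X ⟶ Spec A a morphism of finite presentation. Then there
exist a Noetherian henselian local ring A₀, a local ring homomorphism φ : A₀ → A, a morphism of
finite type f₀ : X₀ ⟶ Spec A₀ and a cartesian square exhibiting X as the base change of X₀ along
Spec φ. -/
theorem result (A : Type u) [CommRing A] [HenselianLocalRing A]
    {X : Scheme.{u}} (f : X ⟶ Spec (CommRingCat.of A)) [LocallyOfFinitePresentation f] [QuasiCompact f] [QuasiSeparated f] :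
    ∃ (A₀ : Type u) (_ : CommRing A₀) (_ : HenselianLocalRing A₀) (_ : IsNoetherianRing A₀) (φ : A₀ →+* A) (_ : IsLocalHom φ)
      (X₀ : Scheme.{u}) (f₀ : X₀ ⟶ Spec (CommRingCat.of A₀)) (g : X ⟶ X₀),
      LocallyOfFiniteType f₀ ∧ QuasiCompact f₀ ∧ IsPullback g f f₀ (Spec.map (CommRingCat.ofHom φ)) := by
  obtain ⟨R, _, hN, ψ, Xj, hj, g, hlfp, hqc, hqs, hpb⟩ := exists_noeth_descent A f
  obtain ⟨A₀, iC, iH, iN, β, φ, hφ, hcomp⟩ := exists_hens_factor ψ
  haveI := hlfp
  haveI := hqc
  let b : Spec (CommRingCat.of A₀) ⟶ Spec (CommRingCat.of R) := Spec.map (CommRingCat.ofHom β)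
  have hb : Spec.map (CommRingCat.ofHom φ) ≫ b = Spec.map (CommRingCat.ofHom ψ) := by
    rw [← Spec.map_comp, ← CommRingCat.ofHom_comp, hcomp]
  refine ⟨A₀, iC, iH, iN, φ, hφ, pullback hj b, pullback.snd hj b,
    pullback.lift g (f ≫ Spec.map (CommRingCat.ofHom φ))
      (by rw [Category.assoc, hb]; exact hpb.w), inferInstance, inferInstance, ?_⟩
  refine IsPullback.of_right ?_ (pullback.lift_snd _ _ _) (IsPullback.of_hasPullback hj b)
  rw [pullback.lift_fst, hb]
  exact hpb

end Groth.Agent.S5058
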