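import Groth.Statements.S5062
import Groth.Agent.Lib.Helper15.EtalePoint
import Groth.Agent.Lib.Helper15.HenselSection

set_option autoImplicit false
open CategoryTheory AlgebraicGeometry
universe u
open Hensel

namespace Groth.Agent.S5062


open Groth.Agent.Lib.Helper15 IsLocalRing Polynomial

lemma forward (A : Type u) [CommRing A] [HenselianLocalRing A]
    [IsSepClosed (IsLocalRing.ResidueField A)]
    (X : Scheme.{u}) (f : X ⟶ Spec (CommRingCat.of A)) [Etale f] (x : X)
    (hx : f.base x = IsLocalRing.closedPoint A) :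
    ∃ u : Spec (CommRingCat.of A) ⟶ X, u ≫ f = 𝟙 _ ∧ u.base (IsLocalRing.closedPoint A) = x := by
  obtain ⟨B, j, hj, ⟨u', hu'⟩, -⟩ := Scheme.exists_affine_mem_range_and_range_subset
    (x := x) (U := ⊤) (by simp)
  haveI := hj
  obtain ⟨φ, hφ⟩ := Spec.map_surjective (j ≫ f)
  have hφet : φ.hom.Etale := by
    haveI : Etale (Spec.map φ) := by rw [hφ]; infer_instance
    exact (HasRingHomProperty.Spec_iff (P := @Etale)).1 inferInstance
  letI : Algebra A B := φ.hom.toAlgebra
  haveI : Algebra.Etale A B := hφet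
  haveI : u'.asIdeal.IsPrime := u'.isPrime
  have e1 : (Spec.map φ).base u' = f.base x := by
    rw [hφ, ← hu']; rfl
  have hcomap : u'.asIdeal.comap (algebraMap A B) =
      RingHom.ker (algebraMap A (IsLocalRing.ResidueField A)) := by
    have h3 : ((Spec.map φ).base u').asIdeal = IsLocalRing.maximalIdeal A := by
      rw [e1, hx]; rfl
    rw [IsLocalRing.ResidueField.algebraMap_eq, IsLocalRing.ker_residue, ← h3]
    rfl
  obtain ⟨e', he'⟩ := EtalePoint.exists_algHom_ker_eq
    (κ := IsLocalRing.ResidueField A) IsLocalRing.residue_surjective B u'.asIdeal hcomap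
  obtain ⟨σ, hσ⟩ := HenselSection.exists_section_alg A B e'
  refine ⟨Spec.map (CommRingCat.ofHom σ.toRingHom) ≫ j, ?_, ?_⟩
  · rw [Category.assoc, ← hφ, ← Spec.map_comp]
    have h4 : φ ≫ CommRingCat.ofHom σ.toRingHom = 𝟙 _ := by
      ext r
      exact σ.commutes r
    rw [h4, Spec.map_id]
  · have h4 : (Spec.map (CommRingCat.ofHom σ.toRingHom)).base (IsLocalRing.closedPoint A) = u' := by
      apply PrimeSpectrum.ext
      ext b
      show σ b ∈ IsLocalRing.maximalIdeal A ↔ b ∈ u'.asIdeal
      rw [← he', ← hσ, IsLocalRing.residue_eq_zero_iff]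
    rw [← hu']
    show j.base ((Spec.map (CommRingCat.ofHom σ.toRingHom)).base (IsLocalRing.closedPoint A)) =
      j.base u'
    rw [h4]

/-- the standard étale pair `(f, f')` -/
noncomputable def mkPair {A : Type u} [CommRing A] (f : A[X]) (hf : f.Monic) :
    StandardEtalePair A :=
  ⟨f, hf, derivative f, ⟨1, 0, 1, by simp⟩⟩

lemma exists_root_of_sections (A : Type u) [CommRing A] [IsLocalRing A]
    (hc : ∀ (X : Scheme.{u}) (f : X ⟶ Spec (CommRingCat.of A)), Etale f →
        ∀ x : X, f.base x = IsLocalRing.closedPoint A →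
          ∃ u : Spec (CommRingCat.of A) ⟶ X, u ≫ f = 𝟙 _ ∧
            u.base (IsLocalRing.closedPoint A) = x)
    (f : A[X]) (hf : f.Monic) {L : Type u} [Field L] [Algebra A L]
    (hker : RingHom.ker (algebraMap A L) = IsLocalRing.maximalIdeal A)
    (r : L) (hr : aeval r f = 0) (hr' : aeval r (derivative f) ≠ 0) :
    ∃ a : A, f.IsRoot a ∧ algebraMap A L a = r := by
  have hmap : (mkPair f hf).HasMap r := ⟨hr, IsUnit.mk0 _ hr'⟩
  obtain ⟨ψ, hψ⟩ : ∃ ψ : (mkPair f hf).Ring →ₐ[A] L, ψ = (mkPair f hf).lift r hmap := ⟨_, rfl⟩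
  have hψX : ψ (mkPair f hf).X = r := by rw [hψ, StandardEtalePair.lift_X]
  haveI : Etale (Spec.map (CommRingCat.ofHom (algebraMap A (mkPair f hf).Ring))) :=
    (HasRingHomProperty.Spec_iff (P := @Etale)).2 (RingHom.etale_algebraMap.2 inferInstance)
  haveI hprime : (RingHom.ker ψ.toRingHom).IsPrime := RingHom.ker_isPrime _
  obtain ⟨x, hxdef⟩ : ∃ x : Spec (CommRingCat.of (mkPair f hf).Ring),
      x.asIdeal = RingHom.ker ψ.toRingHom := ⟨⟨RingHom.ker ψ.toRingHom, hprime⟩, rfl⟩
  have hx : (Spec.map (CommRingCat.ofHom (algebraMap A (mkPair f hf).Ring))).base x =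
      IsLocalRing.closedPoint A := by
    apply PrimeSpectrum.ext
    ext a
    show algebraMap A (mkPair f hf).Ring a ∈ x.asIdeal ↔ a ∈ IsLocalRing.maximalIdeal A
    rw [hxdef, RingHom.mem_ker, ← hker, RingHom.mem_ker]
    show ψ (algebraMap A (mkPair f hf).Ring a) = 0 ↔ _
    rw [AlgHom.commutes]
  obtain ⟨u, hu1, hu2⟩ := hc _ _ inferInstance x hx
  obtain ⟨τ, hτ⟩ := Spec.map_surjective u
  have hτ1 : CommRingCat.ofHom (algebraMap A (mkPair f hf).Ring) ≫ τ = 𝟙 _ := by
    apply Spec.map_injective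
    rw [Spec.map_comp, hτ, hu1, Spec.map_id]
  have hτ2 : ∀ a : A, τ.hom (algebraMap A (mkPair f hf).Ring a) = a := fun a =>
    congrArg (fun g => g.hom a) hτ1
  obtain ⟨τA, hτA⟩ : ∃ τA : (mkPair f hf).Ring →ₐ[A] A, ∀ c, τA c = τ.hom c :=
    ⟨{ toRingHom := τ.hom
       commutes' := hτ2 }, fun c => rfl⟩
  refine ⟨τA (mkPair f hf).X, ?_, ?_⟩
  · have h3 := ((mkPair f hf).hasMap_X.map τA).1
    rw [Polynomial.coe_aeval_eq_eval] at h3
    exact h3
  · have h3 : ((Spec.map τ).base (IsLocalRing.closedPoint A)).asIdeal = x.asIdeal := by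
      rw [hτ, hu2]
    have h4 : (mkPair f hf).X - algebraMap A (mkPair f hf).Ring (τA (mkPair f hf).X) ∈
        x.asIdeal := by
      rw [← h3]
      show τ.hom _ ∈ IsLocalRing.maximalIdeal A
      rw [map_sub, hτ2, hτA, sub_self]
      exact zero_mem _
    rw [hxdef, RingHom.mem_ker] at h4
    have h5 : ψ ((mkPair f hf).X - algebraMap A (mkPair f hf).Ring (τA (mkPair f hf).X)) = 0 := h4
    rw [map_sub, hψX, AlgHom.commutes, sub_eq_zero] at h5
    exact h5.symm

lemma henselian_of_sections (A : Type u) [CommRing A] [IsLocalRing A]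
    (hc : ∀ (X : Scheme.{u}) (f : X ⟶ Spec (CommRingCat.of A)), Etale f →
        ∀ x : X, f.base x = IsLocalRing.closedPoint A →
          ∃ u : Spec (CommRingCat.of A) ⟶ X, u ≫ f = 𝟙 _ ∧
            u.base (IsLocalRing.closedPoint A) = x) :
    HenselianLocalRing A := by
  refine { is_henselian := fun f hf a₀ h1 h2 => ?_ }
  have hev : ∀ q : A[X], aeval (residue A a₀) q = residue A (q.eval a₀) := fun q => by
    rw [aeval_def, IsLocalRing.ResidueField.algebraMap_eq, eval₂_at_apply]
  obtain ⟨a, ha, har⟩ := exists_root_of_sections A hc f hf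
    (L := IsLocalRing.ResidueField A)
    (by rw [IsLocalRing.ResidueField.algebraMap_eq, IsLocalRing.ker_residue])
    (residue A a₀)
    (by rw [hev]; exact (IsLocalRing.residue_eq_zero_iff _).2 h1)
    (by rw [hev]; exact (h2.map (residue A)).ne_zero)
  refine ⟨a, ha, ?_⟩
  rw [← IsLocalRing.residue_eq_zero_iff, map_sub, sub_eq_zero]
  exact har

lemma sepClosed_of_sections (A : Type u) [CommRing A] [IsLocalRing A]
    (hc : ∀ (X : Scheme.{u}) (f : X ⟶ Spec (CommRingCat.of A)), Etale f →
        ∀ x : X, f.base x = IsLocalRing.closedPoint A →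
          ∃ u : Spec (CommRingCat.of A) ⟶ X, u ≫ f = 𝟙 _ ∧
            u.base (IsLocalRing.closedPoint A) = x) :
    IsSepClosed (IsLocalRing.ResidueField A) := by
  refine IsSepClosed.of_exists_root _ fun p hpm hpi hps => ?_
  obtain ⟨f, hfmap, -, hfm⟩ := Polynomial.lifts_and_degree_eq_and_monic
    (Polynomial.mem_lifts_of_surjective (f := residue A) IsLocalRing.residue_surjective p) hpm
  haveI : Fact (Irreducible p) := ⟨hpi⟩
  letI : Algebra A (AdjoinRoot p) :=
    ((algebraMap (IsLocalRing.ResidueField A) (AdjoinRoot p)).comp (residue A)).toAlgebra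
  have hker : RingHom.ker (algebraMap A (AdjoinRoot p)) = IsLocalRing.maximalIdeal A := by
    ext a
    rw [RingHom.mem_ker, RingHom.algebraMap_toAlgebra, RingHom.comp_apply, map_eq_zero,
      IsLocalRing.residue_eq_zero_iff]
  have haev : ∀ q : A[X], aeval (AdjoinRoot.root p) q =
      aeval (AdjoinRoot.root p) (q.map (residue A)) := fun q => by
    rw [aeval_def, aeval_def, eval₂_map]
    rfl
  have hroot : aeval (AdjoinRoot.root p) p = 0 := by
    rw [aeval_def, AdjoinRoot.algebraMap_eq]
    exact AdjoinRoot.eval₂_root p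
  obtain ⟨a, ha, -⟩ := exists_root_of_sections A hc f hfm hker (AdjoinRoot.root p)
    (by rw [haev, hfmap]; exact hroot)
    (by rw [haev, ← derivative_map, hfmap]; exact hps.aeval_derivative_ne_zero hroot)
  refine ⟨residue A a, ?_⟩
  rw [← hfmap, Polynomial.eval_map, Polynomial.eval₂_at_apply, ha.eq_zero, map_zero]

/-- a) iff c): a local ring A is henselian with separably closed residue field if and only if, for every
étale morphism f : X ⟶ Spec A and every point x of X lying over the closed point s, there is a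
section u of f with u s = x. -/
theorem result (A : Type u) [CommRing A] [IsLocalRing A] :
    (HenselianLocalRing A ∧ IsSepClosed (IsLocalRing.ResidueField A)) ↔
      ∀ (X : Scheme.{u}) (f : X ⟶ Spec (CommRingCat.of A)), Etale f →
        ∀ x : X, f.base x = IsLocalRing.closedPoint A →
          ∃ u : Spec (CommRingCat.of A) ⟶ X, u ≫ f = 𝟙 _ ∧ u.base (IsLocalRing.closedPoint A) = x := by
  constructor
  · rintro ⟨hH, hS⟩ X f hf x hx
    haveI := hH
    haveI := hS
    haveI := hf
    exact forward A X f x hx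
  · intro hc
    exact ⟨henselian_of_sections A hc, sepClosed_of_sections A hc⟩

end Groth.Agent.S5062
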