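import Groth.Statements.S5063
import Mathlib
import Groth.Agent.Lib.Helper8.UnramDescentSch
import Groth.Agent.Lib.Helper8.UnramLocalStructSch

set_option autoImplicit false
open CategoryTheory CategoryTheory.Limits AlgebraicGeometry
universe u
open Unram

namespace Groth.Agent.S5063

/-- Let f : X ⟶ Y be locally of finite presentation. If f is unramified then there are étale morphisms
g_a : Y'_a ⟶ Y and opens U_a of the fibre products X ×_Y Y'_a whose images under the first
projections cover X, such that each U_a ⟶ Y'_a (inclusion followed by the second projection) is a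
closed immersion. Conversely, the existence of such a family with the g_a only assumed flat implies
that f is unramified. -/
theorem result {X Y : Scheme.{u}} (f : X ⟶ Y) [LocallyOfFinitePresentation f] :
    (FormallyUnramified f → ∃ (ι : Type u) (Y' : ι → Scheme.{u}) (g : ∀ a, Y' a ⟶ Y) (U : ∀ a, (pullback f (g a)).Opens),
      (∀ a, Etale (g a)) ∧ (∀ x : X, ∃ a, x ∈ (pullback.fst f (g a)).base '' (U a : Set ↥(pullback f (g a)))) ∧
        ∀ a, IsClosedImmersion ((U a).ι ≫ pullback.snd f (g a))) ∧
    ((∃ (ι : Type u) (Y' : ι → Scheme.{u}) (g : ∀ a, Y' a ⟶ Y) (U : ∀ a, (pullback f (g a)).Opens),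
      (∀ a, Flat (g a)) ∧ (∀ x : X, ∃ a, x ∈ (pullback.fst f (g a)).base '' (U a : Set ↥(pullback f (g a)))) ∧
        ∀ a, IsClosedImmersion ((U a).ι ≫ pullback.snd f (g a))) → FormallyUnramified f) := by
  refine ⟨fun hf => ?_, ?_⟩
  · have := hf
    choose Y' g U hg hx hU using
      Groth.Agent.Lib.Helper8.exists_etale_closedImmersion_of_formallyUnramified f
    exact ⟨X, Y', g, U, hg, fun x => ⟨x, hx x⟩, hU⟩
  · rintro ⟨ι, Y', g, U, -, hcov, hU⟩
    exact Groth.Agent.Lib.Helper8.formallyUnramified_of_pointwise_cover f (fun x => by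
      obtain ⟨a, z, hz, hzx⟩ := hcov x
      have := hU a
      exact ⟨Y' a, g a, U a, ⟨z, hz, hzx⟩, inferInstance⟩)

end Groth.Agent.S5063
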