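import Groth.Statements.S5064
import Mathlib
import Groth.Agent.Lib.Helper8.UnramDescentSch
import Groth.Agent.Lib.Helper8.FlatDescentSch

set_option autoImplicit false
open CategoryTheory CategoryTheory.Limits AlgebraicGeometry
universe u
open Unram

namespace Groth.Agent.S5064

/-- Let f : X ⟶ Y be locally of finite presentation. If f is étale then there are étale morphisms g_a :
Y'_a ⟶ Y and opens U_a of the fibre products X ×_Y Y'_a whose images under the first projections
cover X, such that each U_a ⟶ Y'_a (inclusion followed by the second projection) is an open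
immersion. Conversely, the existence of such a family with the g_a only assumed flat implies that f
is étale. -/
theorem result {X Y : Scheme.{u}} (f : X ⟶ Y) [LocallyOfFinitePresentation f] :
    (Etale f → ∃ (ι : Type u) (Y' : ι → Scheme.{u}) (g : ∀ a, Y' a ⟶ Y) (U : ∀ a, (pullback f (g a)).Opens),
      (∀ a, Etale (g a)) ∧ (∀ x : X, ∃ a, x ∈ (pullback.fst f (g a)).base '' (U a : Set ↥(pullback f (g a)))) ∧
        ∀ a, IsOpenImmersion ((U a).ι ≫ pullback.snd f (g a))) ∧
    ((∃ (ι : Type u) (Y' : ι → Scheme.{u}) (g : ∀ a, Y' a ⟶ Y) (U : ∀ a, (pullback f (g a)).Opens),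
      (∀ a, Flat (g a)) ∧ (∀ x : X, ∃ a, x ∈ (pullback.fst f (g a)).base '' (U a : Set ↥(pullback f (g a)))) ∧
        ∀ a, IsOpenImmersion ((U a).ι ≫ pullback.snd f (g a))) → Etale f) := by
  refine ⟨fun hf => ?_, ?_⟩
  · have := hf
    refine ⟨PUnit.{u+1}, fun _ => X, fun _ => f, fun _ => (pullback.diagonal f).opensRange,
      fun _ => hf, ?_, ?_⟩
    · intro x
      refine ⟨PUnit.unit, pullback.diagonal f x, ⟨x, rfl⟩, ?_⟩
      rw [← Scheme.Hom.comp_apply, pullback.diagonal_fst]
      rfl
    · intro _
      have h : (pullback.diagonal f).opensRange.ι ≫ pullback.snd f f =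
          (pullback.diagonal f).isoOpensRange.inv := by
        rw [← cancel_epi (pullback.diagonal f).isoOpensRange.hom,
          Scheme.Hom.isoOpensRange_hom_ι_assoc, pullback.diagonal_snd, Iso.hom_inv_id]
      rw [h]
      infer_instance
  · rintro ⟨ι, Y', g, U, hg, hcov, hU⟩
    have hflat : Flat f := Groth.Agent.Lib.Helper8.flat_of_pointwise_cover f (fun x => by
      obtain ⟨a, z, hz, hzx⟩ := hcov x
      have := hU a
      exact ⟨Y' a, g a, U a, hg a, ⟨z, hz, hzx⟩, inferInstance⟩)
    have hunr : FormallyUnramified f :=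
      Groth.Agent.Lib.Helper8.formallyUnramified_of_pointwise_cover f (fun x => by
        obtain ⟨a, z, hz, hzx⟩ := hcov x
        have := hU a
        exact ⟨Y' a, g a, U a, ⟨z, hz, hzx⟩, inferInstance⟩)
    exact Etale.of_formallyUnramified_of_flat f

end Groth.Agent.S5064
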