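import Groth.Statements.S5065
-- import your own Groth.Agent.* helpers here
import Groth.Agent.Lib.Helper12.EtaleCompositum

set_option autoImplicit false
universe u
open Unram

namespace Groth.Agent.S5065
open TensorProduct

/-- Let A ⊆ A' be integrally closed domains, L a field algebraic over the fraction field of A in which A
embeds and whose integral closure C over A is an étale A-algebra, and L₁ a field in which A' and L
both embed, compatibly over A, and which is generated as a field by the images of A' and L (a
compositum of L with the fraction field of A'; the map A' → L₁ is injective, so that the fraction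
field of A' is a subfield of L₁). Then the integral closure of A' in L₁ is an étale A'-algebra and
coincides with the A'-subalgebra generated by the image of C. -/
theorem result (A A' L L₁ : Type u) [CommRing A] [IsDomain A]
    [IsIntegrallyClosed A] [CommRing A'] [IsDomain A'] [IsIntegrallyClosed A'] [Algebra A A']
    [Field L] [Algebra A L] [Algebra.IsAlgebraic A L] (hinj : Function.Injective (algebraMap A L))
    [Algebra.Etale A ↥(integralClosure A L)]
    [Field L₁] [Algebra A' L₁] [Algebra L L₁] [Algebra A L₁] [IsScalarTower A A' L₁] [IsScalarTower A L L₁]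
    (hinj' : Function.Injective (algebraMap A' L₁))
    (hgen : Subfield.closure (Set.range (algebraMap A' L₁) ∪ Set.range (algebraMap L L₁)) = ⊤) :
    Algebra.Etale A' ↥(integralClosure A' L₁) ∧
      integralClosure A' L₁ = Algebra.adjoin A' ((algebraMap L L₁) '' {x : L | IsIntegral A x}) := by
  classical
  let C := integralClosure A L
  let g : ↥C →ₐ[A] L₁ := (IsScalarTower.toAlgHom A L L₁).comp C.val
  let φ : A' ⊗[A] ↥C →ₐ[A'] L₁ :=
    Algebra.TensorProduct.lift (Algebra.ofId A' L₁) g (fun _ _ => Commute.all _ _)
  have hφ : ∀ (a : A') (c : ↥C), φ (a ⊗ₜ c) = algebraMap A' L₁ a * algebraMap L L₁ (c : L) :=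
    fun a c => Algebra.TensorProduct.lift_tmul _ _ _ _ _
  have hgen' : Subfield.closure (Set.range (algebraMap A' L₁) ∪ Set.range φ) = ⊤ := by
    rw [eq_top_iff, ← hgen, Subfield.closure_le]
    rintro z (⟨a, rfl⟩ | ⟨x, rfl⟩)
    · exact Subfield.subset_closure (Or.inl ⟨a, rfl⟩)
    · obtain ⟨y, hy0, hy⟩ := (Algebra.IsAlgebraic.isAlgebraic (R := A) x).exists_integral_multiple
      have hyL : algebraMap A L y ≠ 0 := fun h => hy0 (hinj (by rw [h, map_zero]))
      have h1 : algebraMap L L₁ x =
          φ (1 ⊗ₜ ⟨y • x, hy⟩) / algebraMap A' L₁ (algebraMap A A' y) := by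
        have hne : algebraMap A' L₁ (algebraMap A A' y) ≠ 0 := by
          rw [← IsScalarTower.algebraMap_apply A A' L₁, IsScalarTower.algebraMap_apply A L L₁]
          exact (map_ne_zero _).mpr hyL
        rw [eq_div_iff hne, hφ, map_one, one_mul]
        change _ = algebraMap L L₁ (y • x)
        rw [Algebra.smul_def, map_mul, ← IsScalarTower.algebraMap_apply A A' L₁,
          IsScalarTower.algebraMap_apply A L L₁, mul_comm]
      rw [SetLike.mem_coe, h1]
      exact div_mem (Subfield.subset_closure (Or.inr ⟨_, rfl⟩))
        (Subfield.subset_closure (Or.inl ⟨_, rfl⟩))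
  obtain ⟨hIC, hEt⟩ := Groth.Agent.Lib.Helper12.EtaleCompositum.main A' (A' ⊗[A] ↥C) L₁ hinj' φ hgen'
  have hrange : φ.range = Algebra.adjoin A' ((algebraMap L L₁) '' {x : L | IsIntegral A x}) := by
    apply le_antisymm
    · rintro _ ⟨t, rfl⟩
      change φ t ∈ _
      induction t using TensorProduct.induction_on with
      | zero => rw [map_zero]; exact zero_mem _
      | tmul a c =>
        rw [hφ]
        exact mul_mem (Subalgebra.algebraMap_mem _ a)
          (Algebra.subset_adjoin ⟨(c : L), c.2, rfl⟩)
      | add x y hx hy => rw [map_add]; exact add_mem hx hy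
    · rw [Algebra.adjoin_le_iff]
      rintro _ ⟨x, hx, rfl⟩
      refine ⟨1 ⊗ₜ ⟨x, hx⟩, ?_⟩
      change φ (1 ⊗ₜ ⟨x, hx⟩) = _
      rw [hφ, map_one, one_mul]
  refine ⟨?_, hIC.trans hrange⟩
  exact Algebra.Etale.of_equiv (Subalgebra.equivOfEq _ _ hIC.symm)

end Groth.Agent.S5065
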