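import Groth.Statements.S5066
import Groth.Agent.Lib.Helper26.HenselFEt

set_option autoImplicit false
universe u
open Hensel

namespace Groth.Agent.S5066

open Groth.Agent.Lib.Helper26.HenselTFAE Groth.Agent.Lib.Helper26.HenselFEt TensorProduct

theorem henselianLocalRing_of_henselianRing (A : Type u) [CommRing A] [IsLocalRing A]
    (h : HenselianRing A (IsLocalRing.maximalIdeal A)) : HenselianLocalRing A where
  is_henselian := by
    intro f hf a₀ h₁ h₂
    refine h.is_henselian f hf a₀ h₁ ?_
    exact h₂.map (Ideal.Quotient.mk _)

theorem forward (A : Type u) [CommRing A] [IsLocalRing A] [HenselianLocalRing A]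
    (C : Type u) [CommRing C] [Algebra A C] [Module.Finite A C] (E : Type u) [CommRing E]
    [Algebra A E] [Algebra.Etale A E] :
    Function.Bijective (fun φ : E →ₐ[A] C =>
      (Ideal.Quotient.mkₐ A (Ideal.map (algebraMap A C) (IsLocalRing.maximalIdeal A))).comp φ) := by
  set I := IsLocalRing.maximalIdeal A with hIdef
  have hI : I ≤ Ideal.jacobson ⊥ := HenselianRing.jac
  haveI : Algebra.IsIntegral A C := Algebra.IsIntegral.of_finite A C
  constructor
  · intro φ φ' h
    apply algHom_eq_of_sub_mem I hI
    intro s
    have := DFunLike.congr_fun h s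
    simp only [AlgHom.comp_apply, Ideal.Quotient.mkₐ_eq_mk] at this
    rw [← Ideal.Quotient.eq]
    exact this
  · intro g
    haveI : HenselianRing C (I.map (algebraMap A C)) := Groth.Agent.S0526.result A I C
    let σ : C ⊗[A] E →ₐ[C] C ⧸ I.map (algebraMap A C) :=
      Algebra.TensorProduct.lift (Algebra.ofId C _) g (fun _ _ => Commute.all _ _)
    obtain ⟨τ, hτ⟩ := liftsEtale_of_henselianRing (I.map (algebraMap A C)) (C ⊗[A] E) σ
    refine ⟨(τ.restrictScalars A).comp
      (Algebra.TensorProduct.includeRight : E →ₐ[A] C ⊗[A] E), ?_⟩
    ext b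
    have := DFunLike.congr_fun hτ ((1 : C) ⊗ₜ[A] b)
    simp only [AlgHom.comp_apply] at this
    have e2 : σ ((1 : C) ⊗ₜ[A] b) = g b := by simp [σ]
    rw [e2] at this
    simpa using this

/-- Case of a local ring, affine étale schemes: a local ring A with maximal ideal m is henselian if and
only if, for every finite A-algebra C and every étale A-algebra E, composing with the projection C →
C/mC is a bijection from the set of A-algebra homomorphisms E → C onto the set of A-algebra
homomorphisms E → C/mC. -/
theorem result (A : Type u) [CommRing A] [IsLocalRing A] :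
    HenselianLocalRing A ↔
      ∀ (C : Type u) [CommRing C] [Algebra A C] [Module.Finite A C] (E : Type u) [CommRing E] [Algebra A E] [Algebra.Etale A E],
        Function.Bijective (fun φ : E →ₐ[A] C =>
          (Ideal.Quotient.mkₐ A (Ideal.map (algebraMap A C) (IsLocalRing.maximalIdeal A))).comp φ) := by
  constructor
  · intro h C _ _ _ E _ _ _
    exact forward A C E
  · intro h
    apply henselianLocalRing_of_henselianRing
    apply henselianRing_of_liftsEtale
    intro A' _ _ _ σ
    have hmap : Ideal.map (algebraMap A A) (IsLocalRing.maximalIdeal A) =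
        IsLocalRing.maximalIdeal A := Ideal.map_id _
    let e := Ideal.quotientEquivAlgOfEq A hmap
    obtain ⟨τ, hτ⟩ := (h A A').2 ((e.symm : _ →ₐ[A] _).comp σ)
    refine ⟨τ, ?_⟩
    ext x
    have := DFunLike.congr_fun hτ x
    simp only [AlgHom.comp_apply] at this
    have h2 := congrArg e this
    simp only [AlgEquiv.coe_algHom, AlgEquiv.apply_symm_apply] at h2
    rw [← h2]
    simp [e]

end Groth.Agent.S5066
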