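import Groth.Statements.S5067
import Mathlib
import Groth.Agent.Lib.Helper8.PullbackPoint

set_option autoImplicit false
open CategoryTheory AlgebraicGeometry
universe u
open Unram

namespace Groth.Agent.S5067

/-- Let f : X ⟶ Y be an étale separated morphism of integral schemes which maps the generic point of X
to the generic point of Y and induces a bijection between the residue fields of the generic points
(f is birational). Then f is an open immersion. -/
theorem result {X Y : Scheme.{u}} [IsIntegral X] [IsIntegral Y]
    (f : X ⟶ Y) [Etale f] [IsSeparated f] (hgen : f.base (genericPoint X) = genericPoint Y)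
    (hbir : Function.Bijective (f.residueFieldMap (genericPoint X)).hom) : IsOpenImmersion f := by
  suffices hmono : Mono f from IsOpenImmersion.of_flat_of_mono f
  rw [← CategoryTheory.Limits.pullback.isIso_diagonal_iff]
  have hsurj : Function.Surjective (Limits.pullback.diagonal f) := by
    intro w
    obtain ⟨w₀, hw₀w, hw₀⟩ := (Flat.generalizingMap (f := Limits.pullback.fst f f))
      (genericPoint_specializes (Limits.pullback.fst f f w))
    have hx₂ : Limits.pullback.snd f f w₀ = genericPoint X :=
      Groth.Agent.Lib.Helper8.eq_genericPoint_of_map_eq_genericPoint f _ (by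
        rw [← Scheme.Hom.comp_apply, ← Limits.pullback.condition, Scheme.Hom.comp_apply, hw₀]
        exact hgen)
    have hw₀Δ : w₀ = Limits.pullback.diagonal f (genericPoint X) := by
      apply Groth.Agent.Lib.Helper8.pullback_point_ext
      · rw [hw₀, ← Scheme.Hom.comp_apply, Limits.pullback.diagonal_fst]; rfl
      · rw [hx₂, ← Scheme.Hom.comp_apply, Limits.pullback.diagonal_snd]; rfl
      · have h : Limits.pullback.snd f f (Limits.pullback.diagonal f (genericPoint X)) = genericPoint X := by
          rw [← Scheme.Hom.comp_apply, Limits.pullback.diagonal_snd]; rfl
        rw [h]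
        exact hbir
    have hcl : IsClosed (Set.range (Limits.pullback.diagonal f)) :=
      (Limits.pullback.diagonal f).isClosedEmbedding.isClosed_range
    exact hw₀w.mem_closed hcl ⟨_, hw₀Δ.symm⟩
  have : Epi (Limits.pullback.diagonal f).base := (TopCat.epi_iff_surjective _).mpr hsurj
  exact IsOpenImmersion.isIso _

end Groth.Agent.S5067
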