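import Groth.Statements.S5068
import Groth.Agent.Lib.Helper4.TransReg

set_option autoImplicit false
universe u
open CInt

namespace Groth.Agent.S5068

/-- Suppose A and C are Noetherian local rings joined by a flat local homomorphism A → C whose closed
fibre C/m_A C is a regular local ring, and consider a local ring B obtained as a quotient of C by an
ideal J (encoded as a surjective C-algebra B, with J taken to be the kernel). The ideal J admits a
generating sequence that is transversally regular relative to A (each term a non-zero-divisor modulo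
the previous ones, and every partial quotient C/(f_1, …, f_j) A-flat) exactly when two things hold:
B is A-flat, and B/m_A B is a complete intersection (meaning its completion is a regular local ring
divided by a regular sequence). -/
theorem result (A C B : Type u) [CommRing A] [IsLocalRing A]
    [IsNoetherianRing A] [CommRing C] [IsLocalRing C] [IsNoetherianRing C] [Algebra A C] [IsLocalHom (algebraMap A C)]
    [Module.Flat A C] (hreg : IsRegularLocalRing (EGA4.FibRing A C))
    [CommRing B] [IsLocalRing B] [Algebra C B] [Algebra A B] [IsScalarTower A C B] [IsLocalHom (algebraMap A B)]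
    (hsurj : Function.Surjective (algebraMap C B)) :
    (∃ rs : List C, Ideal.ofList rs = RingHom.ker (algebraMap C B) ∧ RegImm.IsTransRegularSeq A C rs) ↔
      (Module.Flat A B ∧ Pi1.IsCompleteIntersection (EGA4.FibRing A B)) := by
  classical
  haveI hregI : IsRegularLocalRing (EGA4.FibRing A C) := hreg
  obtain ⟨Jb, hJb⟩ : ∃ Jb : Ideal (EGA4.FibRing A C),
      Jb = (RingHom.ker (algebraMap C B)).map (Ideal.Quotient.mk (EGA4.mB A C)) := ⟨_, rfl⟩
  have he : Nonempty (EGA4.FibRing A B ≃+* EGA4.FibRing A C ⧸ Jb) := by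
    rw [hJb]; exact Groth.Agent.Lib.Helper4.TransReg.nonempty_fibEquiv A C B hsurj
  obtain ⟨e⟩ := he
  haveI hnt : Nontrivial (EGA4.FibRing A C ⧸ Jb) := e.symm.surjective.nontrivial
  have hJbtop : Jb ≠ ⊤ := Ideal.Quotient.nontrivial_iff.mp hnt
  haveI hloc : IsLocalRing (EGA4.FibRing A C ⧸ Jb) :=
    IsLocalRing.of_surjective' (Ideal.Quotient.mk Jb) Ideal.Quotient.mk_surjective
  haveI hBN : IsNoetherianRing B := isNoetherianRing_of_surjective C B _ hsurj
  have hflatiff := Groth.Agent.Lib.Helper4.TransReg.flat_quot_ker_iff A C B hsurj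
  have hci_iff : Pi1.IsCompleteIntersection (EGA4.FibRing A B) ↔
      Pi1.IsCompleteIntersection (EGA4.FibRing A C ⧸ Jb) :=
    ⟨Groth.Agent.Lib.Helper27.CILocus.isCompleteIntersection_of_ringEquiv e,
      Groth.Agent.Lib.Helper27.CILocus.isCompleteIntersection_of_ringEquiv e.symm⟩
  constructor
  · rintro ⟨rs, hofl, hw, hfl⟩
    have hflatB : Module.Flat A B := by
      rw [← hflatiff, ← hofl]
      have := hfl rs.length le_rfl
      rwa [List.take_length] at this
    refine ⟨hflatB, hci_iff.mpr ?_⟩
    rw [Groth.Agent.Lib.Helper27.CILocus.ci_iff_dim (EGA4.FibRing A C) Jb hJbtop]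
    haveI := hflatB
    have hmu : Jb.spanFinrank ≤ rs.length := by
      have h := Groth.Agent.Lib.Helper27.KosH1.spanFinrank_ofList_le
        (rs.map (Ideal.Quotient.mk (EGA4.mB A C)))
      rw [← Groth.Agent.Lib.Helper4.TransReg.map_ofList, hofl, ← hJb, List.length_map] at h
      exact h
    have hne : Ideal.ofList rs ≠ ⊤ := by rw [hofl]; exact RingHom.ker_ne_top _
    have hregC : RingTheory.Sequence.IsRegular C rs := ⟨hw, by
      have h0 : (Ideal.ofList rs • (⊤ : Submodule C C)) = Ideal.ofList rs := by simp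
      rw [h0]; exact hne.symm⟩
    have h1 := ringKrullDim_add_length_eq_ringKrullDim_of_isRegular rs hregC
    have h2 : ringKrullDim (C ⧸ Ideal.ofList rs) = ringKrullDim B := by
      rw [hofl]
      exact ringKrullDim_eq_of_ringEquiv (RingHom.quotientKerEquivOfSurjective hsurj)
    have h3 : ringKrullDim (EGA4.FibRing A B) = ringKrullDim (EGA4.FibRing A C ⧸ Jb) :=
      ringKrullDim_eq_of_ringEquiv e
    have hdC : ringKrullDim C = ringKrullDim A + ringKrullDim (EGA4.FibRing A C) :=
      Groth.Agent.Lib.Helper4.FlatRing.dim_eq_add_fibRing A C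
    have hdB : ringKrullDim B = ringKrullDim A + ringKrullDim (EGA4.FibRing A B) :=
      Groth.Agent.Lib.Helper4.FlatRing.dim_eq_add_fibRing A B
    have h4 : ringKrullDim (EGA4.FibRing A C) ≤
        ringKrullDim (EGA4.FibRing A C ⧸ Jb) + Jb.spanFinrank :=
      ringKrullDim_le_ringKrullDim_quotient_add_spanFinrank _ (by
        rw [IsLocalRing.ringJacobson_eq_maximalIdeal]; exact IsLocalRing.le_maximalIdeal hJbtop)
    obtain ⟨a, ha⟩ := Groth.Agent.Lib.Helper27.KosH1.exists_nat_dim A
    obtain ⟨dC, hdC'⟩ := Groth.Agent.Lib.Helper27.KosH1.exists_nat_dim C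
    obtain ⟨dB, hdB'⟩ := Groth.Agent.Lib.Helper27.KosH1.exists_nat_dim B
    obtain ⟨c, hc⟩ := Groth.Agent.Lib.Helper27.KosH1.exists_nat_dim (EGA4.FibRing A C)
    obtain ⟨b, hb⟩ := Groth.Agent.Lib.Helper27.KosH1.exists_nat_dim (EGA4.FibRing A C ⧸ Jb)
    rw [h2, hdB', hdC'] at h1
    rw [hdC', ha, hc] at hdC
    rw [hdB', ha, h3, hb] at hdB
    rw [hc, hb] at h4
    rw [hb, hc]
    have e1 : dB + rs.length = dC := by exact_mod_cast h1
    have e2 : dC = a + c := by exact_mod_cast hdC
    have e3 : dB = a + b := by exact_mod_cast hdB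
    have e4 : c ≤ b + Jb.spanFinrank := by exact_mod_cast h4
    have e5 : b + Jb.spanFinrank = c := by omega
    exact_mod_cast e5
  · rintro ⟨hflatB, hci⟩
    haveI := hflatB
    haveI hflatJ : Module.Flat A (C ⧸ RingHom.ker (algebraMap C B)) := hflatiff.mpr hflatB
    have hciJ : Pi1.IsCompleteIntersection (EGA4.FibRing A C ⧸ Jb) := hci_iff.mp hci
    obtain ⟨rbs, hrbs, hrbreg⟩ := (Groth.Agent.S2166.result Jb hJbtop).1 hciJ
    obtain ⟨rs, hmap, hmem⟩ := Groth.Agent.Lib.Helper4.TransReg.exists_list_lift
      (Ideal.Quotient.mk (EGA4.mB A C)) Ideal.Quotient.mk_surjective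
      (RingHom.ker (algebraMap C B)) rbs (fun d hd => by
        rw [← hJb, ← hrbs]
        exact (Ideal.subset_span (show d ∈ {r | r ∈ rbs} from hd) :
          d ∈ Ideal.span {r | r ∈ rbs}))
    have hwb : RingTheory.Sequence.IsWeaklyRegular (EGA4.FibRing A C) rbs :=
      hrbreg.toIsWeaklyRegular
    have hwb2 : RingTheory.Sequence.IsWeaklyRegular (EGA4.FibRing A C) rs := by
      rw [← hmap, ← Ideal.Quotient.algebraMap_eq] at hwb
      exact (RingTheory.Sequence.isWeaklyRegular_map_algebraMap_iff (EGA4.FibRing A C)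
        (EGA4.FibRing A C) rs).mp hwb
    have heq0 : (EGA4.mB A C : Submodule C C) =
        ((IsLocalRing.maximalIdeal A).map (algebraMap A C) • (⊤ : Submodule C C)) := by
      simp
    have hfib : RingTheory.Sequence.IsWeaklyRegular
        (C ⧸ ((IsLocalRing.maximalIdeal A).map (algebraMap A C) • (⊤ : Submodule C C))) rs :=
      ((Submodule.quotEquivOfEq _ _ heq0).isWeaklyRegular_congr rs).mp hwb2
    obtain ⟨hw, hfl⟩ := Groth.Agent.Lib.Helper4.TransReg.transReg_of_fibre (R := A) (S := C)
      rs C hfib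
    have hle : Ideal.ofList rs ≤ RingHom.ker (algebraMap C B) :=
      Ideal.span_le.mpr (fun x hx => hmem x hx)
    have hmapeq : (Ideal.ofList rs).map (Ideal.Quotient.mk (EGA4.mB A C)) = Jb := by
      rw [Groth.Agent.Lib.Helper4.TransReg.map_ofList, hmap, hrbs]
    have hge : RingHom.ker (algebraMap C B) ≤ Ideal.ofList rs := by
      refine Submodule.le_of_le_smul_of_le_jacobson_bot (I := EGA4.mB A C)
        (IsNoetherian.noetherian _) ?_ ?_
      · rw [IsLocalRing.jacobson_eq_maximalIdeal ⊥ bot_ne_top]
        exact IsLocalRing.map_maximalIdeal_le (algebraMap A C)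
      · intro x hx
        have hx1 : Ideal.Quotient.mk (EGA4.mB A C) x ∈ Jb := by
          rw [hJb]; exact Ideal.mem_map_of_mem _ hx
        rw [← hmapeq] at hx1
        obtain ⟨x', hx', hxx'⟩ :=
          (Ideal.mem_map_iff_of_surjective _ Ideal.Quotient.mk_surjective).mp hx1
        have hzJ : x - x' ∈ RingHom.ker (algebraMap C B) := Ideal.sub_mem _ hx (hle hx')
        have hzm : x - x' ∈ (IsLocalRing.maximalIdeal A).map (algebraMap A C) := by
          rw [← Ideal.Quotient.eq_zero_iff_mem, map_sub, hxx', sub_self]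
        have hz := Groth.Agent.Lib.Helper4.TransReg.mem_mul_of_flat
          (RingHom.ker (algebraMap C B)) (IsLocalRing.maximalIdeal A) hzJ hzm
        refine Submodule.mem_sup.mpr ⟨x', hx', x - x', hz, by ring⟩
    have hofl : Ideal.ofList rs = RingHom.ker (algebraMap C B) := le_antisymm hle hge
    refine ⟨rs, hofl, hw, fun j hj => ?_⟩
    have hfj := hfl j hj
    have heqj : (Ideal.ofList (rs.take j) : Submodule C C) =
        (Ideal.ofList (rs.take j) • (⊤ : Submodule C C)) := by simp
    exact Module.Flat.of_linearEquiv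
      ((Submodule.quotEquivOfEq _ _ heqj).restrictScalars A)

end Groth.Agent.S5068
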