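import Groth.Statements.S5073
import Mathlib

set_option autoImplicit false
universe u
open EGA418

namespace Groth.Agent.S5073

/-- Let A be a Noetherian local ring, p a prime ideal and x an element of A. Then there is an element x'
of A whose image in A_p equals that of x and which belongs to no minimal prime ideal of A not
contained in p. -/
theorem result (A : Type u) [CommRing A] [IsNoetherianRing A] [IsLocalRing A]
    (p : Ideal A) [p.IsPrime] (x : A) :
    ∃ x' : A, algebraMap A (Localization.AtPrime p) x' = algebraMap A (Localization.AtPrime p) x ∧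
      ∀ q ∈ minimalPrimes A, ¬ q ≤ p → x' ∉ q := by
  classical
  have hfin : (minimalPrimes A).Finite := minimalPrimes.finite_of_isNoetherianRing A
  set I : Ideal A := RingHom.ker (algebraMap A (Localization.AtPrime p)) with hI
  have key : ∀ q ∈ minimalPrimes A, ¬ q ≤ p → ¬ I ≤ q := by
    intro q hq hqp hIq
    have : q.IsPrime := hq.1.1
    obtain ⟨s, hsq, hsp⟩ := SetLike.not_le_iff_exists.mp hqp
    have hrad := IsLocalization.AtPrime.radical_map_of_mem_minimalPrimes
      (A := Localization.AtPrime q) q ⊥ hq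
    have hs : algebraMap A (Localization.AtPrime q) s ∈
        (Ideal.map (algebraMap A (Localization.AtPrime q)) ⊥).radical := by
      rw [hrad]; exact Ideal.mem_map_of_mem _ hsq
    obtain ⟨n, hn⟩ := hs
    rw [Ideal.map_bot, Ideal.mem_bot, ← map_pow,
      IsLocalization.map_eq_zero_iff q.primeCompl] at hn
    obtain ⟨m, hm⟩ := hn
    have : (m : A) ∈ I := by
      rw [hI, RingHom.mem_ker, IsLocalization.map_eq_zero_iff p.primeCompl]
      exact ⟨⟨s ^ n, p.primeCompl.pow_mem hsp n⟩, by simpa [mul_comm] using hm⟩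
    exact m.2 (hIq this)
  let S : Finset (Ideal A) := hfin.toFinset.filter (fun q => ¬ q ≤ p)
  have memS : ∀ q, q ∈ S ↔ q ∈ minimalPrimes A ∧ ¬ q ≤ p := by
    intro q; simp [S]
  let T₁ : Finset (Ideal A) := S.filter (fun q => x ∈ q)
  let T₂ : Finset (Ideal A) := S.filter (fun q => x ∉ q)
  let J : Ideal A := I * ∏ q ∈ T₂, q
  have hJ1 : ¬ ((J : Set A) ⊆ ⋃ q ∈ (↑T₁ : Set (Ideal A)),
      (((fun q : Ideal A => q) q : Ideal A) : Set A)) := by
    rw [Ideal.subset_union_prime (f := fun q : Ideal A => q) ⊥ ⊥]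
    · rintro ⟨q', hq'T, hJq'⟩
      have hq'S : q' ∈ S := (Finset.mem_filter.mp hq'T).1
      have hxq' : x ∈ q' := (Finset.mem_filter.mp hq'T).2
      obtain ⟨hq'min, hq'p⟩ := (memS q').mp hq'S
      have hq'prime : q'.IsPrime := hq'min.1.1
      rcases (Ideal.IsPrime.mul_le hq'prime).mp hJq' with h | h
      · exact key q' hq'min hq'p h
      · obtain ⟨q, hqT, hqq'⟩ := (Ideal.IsPrime.prod_le hq'prime).mp h
        have hqS : q ∈ S := (Finset.mem_filter.mp hqT).1
        have hxq : x ∉ q := (Finset.mem_filter.mp hqT).2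
        obtain ⟨hqmin, hqp⟩ := (memS q).mp hqS
        have : q' ≤ q := hq'min.2 ⟨hqmin.1.1, bot_le⟩ hqq'
        exact hxq (this hxq')
    · intro q hq _ _
      exact ((memS q).mp (Finset.mem_filter.mp hq).1).1.1.1
  obtain ⟨i, hiJ, hi⟩ := Set.not_subset.mp hJ1
  refine ⟨x + i, ?_, ?_⟩
  · have hle : J ≤ I := Ideal.mul_le_left (I := I) (J := ∏ q ∈ T₂, q)
    have : i ∈ I := hle (SetLike.mem_coe.mp hiJ)
    rw [map_add, (RingHom.mem_ker.mp this), add_zero]
  · intro q hq hqp hxi
    have hqS : q ∈ S := (memS q).mpr ⟨hq, hqp⟩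
    by_cases hxq : x ∈ q
    · have hq1 : q ∈ T₁ := Finset.mem_filter.mpr ⟨hqS, hxq⟩
      apply hi
      exact Set.mem_iUnion₂.mpr ⟨q, Finset.mem_coe.mpr hq1, (Ideal.add_mem_iff_right q hxq).mp hxi⟩
    · have hq2 : q ∈ T₂ := Finset.mem_filter.mpr ⟨hqS, hxq⟩
      have hiq : i ∈ q := by
        have h1 : J ≤ ∏ q ∈ T₂, q := Ideal.mul_le_right (I := I) (J := ∏ q ∈ T₂, q)
        have h2 : ∏ q ∈ T₂, q ≤ q :=
          (Ideal.prod_le_inf (s := T₂) (f := fun q : Ideal A => q)).trans (Finset.inf_le hq2)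
        exact h2 (h1 (SetLike.mem_coe.mp hiJ))
      exact hxq ((Ideal.add_mem_iff_left q hiq).mp hxi)

end Groth.Agent.S5073
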