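import Groth.Statements.S5075
import Groth.Agent.Lib.Helper15.ThickLift

set_option autoImplicit false
open CategoryTheory AlgebraicGeometry
universe u
open Unram

namespace Groth.Agent.S5075


open Groth.Agent.Lib.Helper15

/-- Let p : X ⟶ S be étale, g : S' ⟶ S a morphism and i : S'₀ ⟶ S' a surjective closed immersion (a
closed subscheme with the same underlying space). Then for every f₀ : S'₀ ⟶ X over S there is
exactly one f : S' ⟶ X over S with i ≫ f = f₀. -/
theorem result {X S S' S'₀ : Scheme.{u}} (p : X ⟶ S) [Etale p]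
    (g : S' ⟶ S) (i : S'₀ ⟶ S') [IsClosedImmersion i] [Surjective i]
    (f₀ : S'₀ ⟶ X) (h₀ : f₀ ≫ p = i ≫ g) :
    ∃! f : S' ⟶ X, f ≫ p = g ∧ i ≫ f = f₀ := by
  obtain ⟨f, hf1, hf2⟩ := ThickLift.exists_lift p g i f₀ h₀
  refine ⟨f, ⟨hf1, hf2⟩, ?_⟩
  rintro f' ⟨hf'1, hf'2⟩
  exact ThickLift.unique_lift p g i f' f hf'1 hf1 (hf'2.trans hf2.symm)

end Groth.Agent.S5075
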