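import Groth.Statements.S5076
import Groth.Agent.Lib.Helper8.MonogenicLoc

set_option autoImplicit false
universe u
open Unram

namespace Groth.Agent.S5076

/-- Let A be a local ring with maximal ideal m, C a finite A-algebra, r a maximal ideal of C, and u an
element of C which lies in every maximal ideal of C other than r, does not lie in r, and whose image
generates C_r modulo m C_r as an A-algebra. Let B = A[u] be the A-subalgebra of C generated by u and
n the inverse image of r in B. Then the canonical homomorphism B_n → C_r is bijective. -/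
theorem result (A C : Type u) [CommRing A] [IsLocalRing A]
    [CommRing C] [Algebra A C] [Module.Finite A C] (r : Ideal C) [r.IsMaximal] (u : C)
    (hu₁ : ∀ r' : Ideal C, r'.IsMaximal → r' ≠ r → u ∈ r') (hu₂ : u ∉ r)
    (hu₃ : Subalgebra.toSubmodule (Algebra.adjoin A {algebraMap C (Localization.AtPrime r) u}) ⊔
        Submodule.restrictScalars A (Ideal.map (algebraMap A (Localization.AtPrime r)) (IsLocalRing.maximalIdeal A)) = ⊤) :
    Function.Bijective (Localization.localRingHom (Ideal.comap (Algebra.adjoin A ({u} : Set C)).val.toRingHom r) r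
      (Algebra.adjoin A ({u} : Set C)).val.toRingHom rfl) := by
  refine Groth.Agent.Lib.Helper8.MonogenicLoc.localRingHom_bijective
    (Algebra.adjoin A ({u} : Set C)) r ?_ ?_
  · intro r' hr' hne
    exact ⟨⟨u, Algebra.subset_adjoin (Set.mem_singleton u)⟩, hu₁ r' hr' hne, hu₂⟩
  · intro x
    have hx : x ∈ (⊤ : Submodule A (Localization.AtPrime r)) := Submodule.mem_top
    rw [← hu₃, Submodule.mem_sup] at hx
    obtain ⟨a, ha, b, hb, rfl⟩ := hx
    have hmap : Algebra.adjoin A {algebraMap C (Localization.AtPrime r) u} =
        (Algebra.adjoin A ({u} : Set C)).map (IsScalarTower.toAlgHom A C (Localization.AtPrime r)) := by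
      rw [AlgHom.map_adjoin, Set.image_singleton]
      rfl
    rw [Subalgebra.mem_toSubmodule, hmap] at ha
    obtain ⟨b₀, hb₀, rfl⟩ := ha
    refine ⟨⟨b₀, hb₀⟩, ?_⟩
    change (IsScalarTower.toAlgHom A C (Localization.AtPrime r)) b₀ + b -
      algebraMap C (Localization.AtPrime r) b₀ ∈ _
    rw [IsScalarTower.coe_toAlgHom', add_sub_cancel_left]
    exact hb

end Groth.Agent.S5076
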