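import Groth.Statements.S5078
import Mathlib.RingTheory.Finiteness.Projective
import Mathlib.RingTheory.AdicCompletion.Basic

set_option autoImplicit false
universe u v
open Hensel

namespace Groth.Agent.S5078

theorem smodEq_map_of {A : Type*} [CommRing A] (I : Ideal A) {M N : Type*} [AddCommGroup M] [Module A M]
    [AddCommGroup N] [Module A N] (f : M →ₗ[A] N) {x y : M} (n : ℕ)
    (h : x ≡ y [SMOD (I ^ n • ⊤ : Submodule A M)]) : f x ≡ f y [SMOD (I ^ n • ⊤ : Submodule A N)] := by
  refine (h.map f).mono ?_
  rw [Submodule.map_smul'']
  exact Submodule.smul_mono le_rfl le_top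

/-- A retract of an adically complete module is adically complete. -/
theorem isAdicComplete_of_retract {A : Type*} [CommRing A] (I : Ideal A) {M N : Type*}
    [AddCommGroup M] [Module A M] [AddCommGroup N] [Module A N] [IsAdicComplete I N]
    (i : M →ₗ[A] N) (π : N →ₗ[A] M) (h : π ∘ₗ i = LinearMap.id) : IsAdicComplete I M := by
  have hπi : ∀ x, π (i x) = x := fun x => LinearMap.congr_fun h x
  refine { haus' := ?_, prec' := ?_ }
  · intro x hx
    have : i x = 0 := by
      apply IsHausdorff.haus' (I := I)
      intro n
      simpa using smodEq_map_of I i n (hx n)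
    rw [← hπi x, this, map_zero]
  · intro f hf
    obtain ⟨L, hL⟩ := IsPrecomplete.prec' (I := I) (fun k => i (f k))
      (fun {m n} hmn => smodEq_map_of I i m (hf hmn))
    refine ⟨π L, fun n => ?_⟩
    simpa [hπi] using smodEq_map_of I π n (hL n)

/-- Finite powers of an adically complete ring are adically complete. -/
theorem isAdicComplete_pi {A : Type*} [CommRing A] (I : Ideal A) [IsAdicComplete I A]
    (ι : Type*) [Fintype ι] [DecidableEq ι] : IsAdicComplete I (ι → A) := by
  have hmem : ∀ (n : ℕ) (y : ι → A), (∀ j, y j ∈ (I ^ n • ⊤ : Submodule A A)) →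
      y ∈ (I ^ n • ⊤ : Submodule A (ι → A)) := by
    intro n y hy
    have hsum : y = ∑ j, (LinearMap.single A (fun _ => A) j) (y j) := by
      ext k
      simp [Finset.sum_apply, Pi.single_apply]
    rw [hsum]
    refine Submodule.sum_mem _ fun j _ => ?_
    have : (I ^ n • ⊤ : Submodule A A).map (LinearMap.single A (fun _ => A) j) ≤
        (I ^ n • ⊤ : Submodule A (ι → A)) := by
      rw [Submodule.map_smul'']
      exact Submodule.smul_mono le_rfl le_top
    exact this (Submodule.mem_map_of_mem (hy j))
  refine { haus' := ?_, prec' := ?_ }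
  · intro x hx
    ext j
    apply IsHausdorff.haus' (I := I)
    intro n
    simpa using smodEq_map_of I (LinearMap.proj (R := A) (φ := fun _ => A) j) n (hx n)
  · intro f hf
    have hc : ∀ j, ∃ L : A, ∀ n, f n j ≡ L [SMOD (I ^ n • ⊤ : Submodule A A)] := by
      intro j
      exact IsPrecomplete.prec' (I := I) (fun k => f k j)
        (fun {m n} hmn => smodEq_map_of I (LinearMap.proj (R := A) (φ := fun _ => A) j) m (hf hmn))
    choose L hL using hc
    refine ⟨L, fun n => ?_⟩
    rw [SModEq.sub_mem]
    apply hmem
    intro j
    have := hL j n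
    rw [SModEq.sub_mem] at this
    exact this

/-- Let A be a ring, I an ideal such that A is I-adically separated and complete, and M a finitely
generated projective A-module. Then M is I-adically separated and complete. -/
theorem result {A : Type u} [CommRing A] (I : Ideal A) [IsAdicComplete I A]
    (M : Type v) [AddCommGroup M] [Module A M] [Module.Finite A M] [Module.Projective A M] :
    IsAdicComplete I M := by
  classical
  obtain ⟨n, f, g, -, -, hfg⟩ := Module.Finite.exists_comp_eq_id_of_projective A M
  have := isAdicComplete_pi I (Fin n)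
  exact isAdicComplete_of_retract I g f hfg

end Groth.Agent.S5078
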