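import Groth.Statements.S5081
import Mathlib.Algebra.DualNumber
import Mathlib.Algebra.Polynomial.Taylor
import Mathlib.RingTheory.Kaehler.Basic
import Mathlib.RingTheory.Adjoin.Polynomial.Basic

set_option autoImplicit false
universe u
open Unram

namespace Groth.Agent.S5081

open Polynomial TrivSqZeroExt in
theorem ann_le (A B : Type u) [CommRing A] [CommRing B] [Algebra A B] (u : B)
    (hu : Function.Surjective (aeval u : A[X] →ₐ[A] B)) (F : A[X])
    (hker : RingHom.ker (aeval u : A[X] →ₐ[A] B) = Ideal.span {F}) :
    Module.annihilator B (KaehlerDifferential A B) ≤ Ideal.span {aeval u (derivative F)} := by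
  have hFu : aeval u F = 0 := by
    have : F ∈ RingHom.ker (aeval u : A[X] →ₐ[A] B) := hker ▸ Ideal.mem_span_singleton_self F
    exact this
  set J : Ideal B := Ideal.span {aeval u (derivative F)} with hJ
  let g : B →ₐ[A] DualNumber (B ⧸ J) :=
    (TrivSqZeroExt.inlAlgHom A (B ⧸ J) (B ⧸ J)).comp (Ideal.Quotient.mkₐ A J)
  let t : DualNumber (B ⧸ J) := g u + DualNumber.eps
  let ψ : A[X] →ₐ[A] DualNumber (B ⧸ J) := aeval t
  have hψF : ψ F = 0 := by
    change aeval (g u + DualNumber.eps) F = 0
    rw [aeval_add_of_sq_eq_zero _ _ _ (by rw [pow_two, DualNumber.eps_mul_eps]),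
      aeval_algHom_apply, aeval_algHom_apply, hFu, map_zero, zero_add]
    have : g (aeval u (derivative F)) = 0 := by
      change TrivSqZeroExt.inl (Ideal.Quotient.mk J (aeval u (derivative F))) = 0
      rw [Ideal.Quotient.eq_zero_iff_mem.mpr (Ideal.mem_span_singleton_self _), TrivSqZeroExt.inl_zero]
    rw [this, zero_mul]
  have hle : RingHom.ker (aeval u : A[X] →ₐ[A] B).toRingHom ≤ RingHom.ker ψ.toRingHom := by
    change RingHom.ker (aeval u : A[X] →ₐ[A] B) ≤ RingHom.ker ψ
    rw [hker, Ideal.span_le, Set.singleton_subset_iff]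
    exact hψF
  let φ : B →ₐ[A] DualNumber (B ⧸ J) := AlgHom.liftOfSurjective (aeval u) hu ψ hle
  have hφ : ∀ G : A[X], φ (aeval u G) = aeval t G := fun G =>
    AlgHom.liftOfSurjective_apply (aeval u) hu ψ hle G
  have hfst : ∀ b : B, TrivSqZeroExt.fst (φ b) = Ideal.Quotient.mk J b := by
    intro b
    obtain ⟨G, rfl⟩ := hu b
    rw [hφ]
    change (TrivSqZeroExt.fstHom A (B ⧸ J) (B ⧸ J)) (aeval t G) = _
    rw [← aeval_algHom_apply]
    have : (TrivSqZeroExt.fstHom A (B ⧸ J) (B ⧸ J)) t = Ideal.Quotient.mkₐ A J u := by
      change TrivSqZeroExt.fst (TrivSqZeroExt.inl (Ideal.Quotient.mk J u) + DualNumber.eps) = _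
      rw [TrivSqZeroExt.fst_add, TrivSqZeroExt.fst_inl, DualNumber.fst_eps, add_zero]
      rfl
    rw [this, aeval_algHom_apply]
    rfl
  let D : Derivation A B (B ⧸ J) :=
    { toLinearMap := ((TrivSqZeroExt.sndHom (B ⧸ J) (B ⧸ J)).restrictScalars A) ∘ₗ φ.toLinearMap
      map_one_eq_zero' := by
        change TrivSqZeroExt.snd (φ 1) = 0
        rw [map_one, TrivSqZeroExt.snd_one]
      leibniz' := fun x y => by
        change TrivSqZeroExt.snd (φ (x * y)) = x • TrivSqZeroExt.snd (φ y) + y • TrivSqZeroExt.snd (φ x)
        have e1 : ∀ (b : B) (c : B ⧸ J), b • c = Ideal.Quotient.mk J b * c := fun b c => by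
          rw [Algebra.smul_def]; rfl
        rw [map_mul, TrivSqZeroExt.snd_mul, hfst, hfst, e1, e1, smul_eq_mul,
          MulOpposite.smul_eq_mul_unop, MulOpposite.unop_op]
        ring }
  have hDu : D u = 1 := by
    change TrivSqZeroExt.snd (φ u) = 1
    have : φ u = t := by
      have := hφ X
      rwa [aeval_X, aeval_X] at this
    rw [this]
    change TrivSqZeroExt.snd (TrivSqZeroExt.inl (Ideal.Quotient.mk J u) + DualNumber.eps) = 1
    rw [TrivSqZeroExt.snd_add, TrivSqZeroExt.snd_inl, DualNumber.snd_eps, zero_add]
  intro b hb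
  have h0 : b • (KaehlerDifferential.D A B u) = 0 := Module.mem_annihilator.mp hb _
  have h1 := congrArg D.liftKaehlerDifferential h0
  rw [map_smul, Derivation.liftKaehlerDifferential_comp_D, hDu, map_zero, Algebra.smul_def, mul_one,
    Ideal.Quotient.algebraMap_eq, Ideal.Quotient.eq_zero_iff_mem] at h1
  exact h1

/-- Let B be a finite A-algebra generated by a single element u and F a polynomial with coefficients in
A such that F(u) = 0. Then the ideal generated by F'(u) is contained in the annihilator of the
module of differentials of B over A, and equals it when the kernel of the surjection A[T] → B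
sending T to u is generated by F. -/
theorem result (A B : Type u) [CommRing A] [CommRing B] [Algebra A B]
    [Module.Finite A B] (u : B) (hu : Algebra.adjoin A ({u} : Set B) = ⊤) (F : Polynomial A) (hF : Polynomial.aeval u F = 0) :
    Ideal.span {Polynomial.aeval u (Polynomial.derivative F)} ≤ Module.annihilator B (KaehlerDifferential A B) ∧
      (RingHom.ker (Polynomial.aeval u : Polynomial A →ₐ[A] B) = Ideal.span {F} →
        Module.annihilator B (KaehlerDifferential A B) = Ideal.span {Polynomial.aeval u (Polynomial.derivative F)}) := by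
  have hsurj : Function.Surjective (Polynomial.aeval u : Polynomial A →ₐ[A] B) := by
    rw [← AlgHom.range_eq_top, ← Algebra.adjoin_singleton_eq_range_aeval, hu]
  have h1 : Ideal.span {Polynomial.aeval u (Polynomial.derivative F)} ≤
      Module.annihilator B (KaehlerDifferential A B) := by
    rw [Ideal.span_le, Set.singleton_subset_iff, SetLike.mem_coe, Module.mem_annihilator]
    have hdu : Polynomial.aeval u (Polynomial.derivative F) • KaehlerDifferential.D A B u = 0 := by
      rw [← Derivation.map_aeval, hF, map_zero]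
    intro m
    have hm : m ∈ Submodule.span B (Set.range (KaehlerDifferential.D A B)) := by
      rw [KaehlerDifferential.span_range_derivation]; trivial
    induction hm using Submodule.span_induction with
    | mem x hx =>
      obtain ⟨b, rfl⟩ := hx
      obtain ⟨G, rfl⟩ := hsurj b
      rw [Derivation.map_aeval, smul_comm, hdu, smul_zero]
    | zero => rw [smul_zero]
    | add x y _ _ hx hy => rw [smul_add, hx, hy, add_zero]
    | smul a x _ hx => rw [smul_comm, hx, smul_zero]
  exact ⟨h1, fun hker => le_antisymm (ann_le A B u hsurj F hker) h1⟩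

end Groth.Agent.S5081
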