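import Groth.Statements.S5082
import Groth.Agent.Lib.Helper28.MeroDivTriv
import Groth.Agent.Lib.Helper4.Depth

set_option autoImplicit false
universe u
open CategoryTheory CategoryTheory.Limits AlgebraicGeometry TopologicalSpace
open Mero

namespace Groth.Agent.S5082

section aux

variable (A : Type u) [CommRing A]

/-- the `A`-algebra structure on the stalks of `Spec A` -/
@[instance_reducible]
noncomputable def stalkAlg (y : Spec (CommRingCat.of A)) :
    Algebra A ((Spec (CommRingCat.of A)).presheaf.stalk y) :=
  StructureSheaf.stalkAlgebra (R := A) y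

set_option backward.isDefEq.respectTransparency false in
theorem stalk_isLocalization (y : Spec (CommRingCat.of A)) :
    @IsLocalization.AtPrime A _ ((Spec (CommRingCat.of A)).presheaf.stalk y) _ (stalkAlg A y)
      y.asIdeal _ :=
  StructureSheaf.IsLocalization.to_stalk (R := A) y

set_option backward.isDefEq.respectTransparency false in
theorem germ_inv (y : Spec (CommRingCat.of A)) (a : A) :
    (Spec (CommRingCat.of A)).presheaf.germ ⊤ y trivial
      ((Scheme.ΓSpecIso (CommRingCat.of A)).inv a) =
    @algebraMap A ((Spec (CommRingCat.of A)).presheaf.stalk y) _ _ (stalkAlg A y) a := rfl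

end aux

/-- Let A be a Noetherian local ring. Then the group of divisors of Spec A is trivial (every divisor
equals the unit divisor, divisors being written multiplicatively) if and only if A has depth 0, that
is, if and only if every element of the maximal ideal of A is a zero-divisor. -/
theorem result (A : Type u) [CommRing A] [IsNoetherianRing A] [IsLocalRing A] :
    (∀ D : Mero.Divisor (Spec (CommRingCat.of A)), D = 1) ↔ LocCoh.depth A A = 0 := by
  have hdepth : LocCoh.depth A A = 0 ↔
      ∀ x ∈ IsLocalRing.maximalIdeal A, ¬ IsSMulRegular A x := by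
    rw [LocCoh.depth]
    exact Groth.Agent.Lib.Helper4.idealDepth_eq_zero_iff _
      Groth.Agent.Lib.Helper4.maximalIdeal_smul_top_ne_top
  rw [hdepth]
  let x₀ : Spec (CommRingCat.of A) := IsLocalRing.closedPoint A
  have hx₀ : ∀ U : (Spec (CommRingCat.of A)).Opens, x₀ ∈ U → U = ⊤ := fun U hU =>
    IsLocalRing.closed_point_mem_iff.mp hU
  have hx₀m : x₀.asIdeal = IsLocalRing.maximalIdeal A := rfl
  constructor
  · intro h x hx hreg
    -- the regular element `x` gives a non-trivial divisor
    have hxnzd : x ∈ nonZeroDivisors A := by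
      rw [mem_nonZeroDivisors_iff_left]
      intro c hc
      exact (isSMulRegular_iff_right_eq_zero_of_smul.mp hreg) c hc
    let t : Γ(Spec (CommRingCat.of A), ⊤) := (Scheme.ΓSpecIso (CommRingCat.of A)).inv x
    have ht : t ∈ regSub (Spec (CommRingCat.of A)) ⊤ := by
      intro y
      change (Spec (CommRingCat.of A)).presheaf.germ ⊤ y.1 y.2 t ∈ _
      have h1 : (Spec (CommRingCat.of A)).presheaf.germ ⊤ y.1 y.2 t =
          @algebraMap A ((Spec (CommRingCat.of A)).presheaf.stalk y.1) _ _ (stalkAlg A y.1) x :=
        germ_inv A y.1 x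
      rw [h1]
      let _ := stalkAlg A y.1
      have := stalk_isLocalization A y.1
      exact IsLocalization.map_nonZeroDivisors_le y.1.asIdeal.primeCompl _
        (Submonoid.mem_map_of_mem _ hxnzd)
    have hnu : ¬ IsUnit ((Spec (CommRingCat.of A)).presheaf.germ ⊤ x₀ trivial t) := by
      have h1 : (Spec (CommRingCat.of A)).presheaf.germ ⊤ x₀ trivial t =
          @algebraMap A ((Spec (CommRingCat.of A)).presheaf.stalk x₀) _ _ (stalkAlg A x₀) x :=
        germ_inv A x₀ x
      rw [h1]
      let _ := stalkAlg A x₀
      have := stalk_isLocalization A x₀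
      rw [IsLocalization.AtPrime.isUnit_to_map_iff _ x₀.asIdeal x]
      intro hx'
      exact hx' hx
    obtain ⟨D, hD⟩ := Groth.Agent.Lib.Helper28.MeroDivTriv.exists_divisor_ne_one t ht x₀ hnu
    exact hD (h D)
  · intro h D
    refine Groth.Agent.Lib.Helper28.MeroDivTriv.divisor_eq_one x₀ hx₀ ?_ D
    let _ := stalkAlg A x₀
    have := stalk_isLocalization A x₀
    intro a ha
    obtain ⟨r, s, rfl⟩ := IsLocalization.exists_mk'_eq x₀.asIdeal.primeCompl a
    rw [IsLocalization.AtPrime.isUnit_mk'_iff _ x₀.asIdeal]
    intro hr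
    refine h r hr ?_
    rw [isSMulRegular_iff_right_eq_zero_of_smul]
    intro d hd
    have hd' : r * d = 0 := hd
    have h2 : IsLocalization.mk' ((Spec (CommRingCat.of A)).presheaf.stalk x₀) r s *
        algebraMap A ((Spec (CommRingCat.of A)).presheaf.stalk x₀) d = 0 := by
      rw [mul_comm, IsLocalization.mul_mk'_eq_mk'_of_mul, mul_comm, hd', IsLocalization.mk'_zero]
    have h3 : algebraMap A ((Spec (CommRingCat.of A)).presheaf.stalk x₀) d = 0 :=
      (mem_nonZeroDivisors_iff_left.mp ha) _ h2
    obtain ⟨c, hc⟩ := (IsLocalization.map_eq_zero_iff x₀.asIdeal.primeCompl _ d).mp h3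
    have hcu : IsUnit (c : A) := by
      have : (c : A) ∉ IsLocalRing.maximalIdeal A := c.2
      rwa [IsLocalRing.mem_maximalIdeal, mem_nonunits_iff, not_not] at this
    exact (hcu.mul_right_eq_zero).mp hc

end Groth.Agent.S5082
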