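import Groth.Statements.S5083
import Groth.Agent.Lib.Helper28.MeroHom

set_option autoImplicit false
universe u
open CategoryTheory CategoryTheory.Limits AlgebraicGeometry TopologicalSpace
open Mero

namespace Groth.Agent.S5083

open Mero in
/-- the value at `x` of a global unit of `K_X` -/
noncomputable abbrev valAt {X : Scheme.{u}} (f : (Γ(Mero.kmod X, ⊤))ˣ) (x : X) : (Mero.KStalk X x)ˣ :=
  Units.map (Mero.evalK X ⊤ ⟨x, Opens.mem_top x⟩).toMonoidHom f

open Mero in
theorem mulPred {X : Scheme.{u}} (D D' : Mero.Divisor X) (f : (Γ(Mero.kmod X, ⊤))ˣ)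
    (hDD' : ∀ x : X, D.1 x = QuotientGroup.mk (valAt f x) * D'.1 x)
    (U : X.Opens) (g : ∀ x : U, Mero.KStalk X x.1) (hg : (Mero.divLoc X D).pred g) :
    (Mero.divLoc X D').pred (fun x => LinearMap.mulLeft (X.presheaf.stalk x.1)
      ((valAt f x.1 : (Mero.KStalk X x.1)ˣ) : Mero.KStalk X x.1) (g x)) := by
  refine ⟨?_, ?_⟩
  · have h1 : (Mero.kLoc X).pred (fun x : U => (f : Γ(Mero.kmod X, ⊤)).1 ⟨x.1, Opens.mem_top x.1⟩) :=
      (Mero.kLoc X).res (homOfLE (le_top : U ≤ ⊤)) _ (f : Γ(Mero.kmod X, ⊤)).2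
    exact Mero.kLoc_mul X U _ g h1 hg.1
  · intro x g' hg'
    have h2 := hg.2 x (valAt f x.1 * g') (by rw [hDD' x.1, hg', QuotientGroup.mk_mul])
    change ((valAt f x.1 : (Mero.KStalk X x.1)ˣ) : Mero.KStalk X x.1) * g x * (g' : Mero.KStalk X x.1) ∈ _
    rw [Units.val_mul] at h2
    have e : ((valAt f x.1 : (Mero.KStalk X x.1)ˣ) : Mero.KStalk X x.1) * g x * (g' : Mero.KStalk X x.1) =
        g x * (((valAt f x.1 : (Mero.KStalk X x.1)ˣ) : Mero.KStalk X x.1) * g') := by ring
    rw [e]
    exact h2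

/-- Let X be a scheme and D, D' divisors on X (global sections of the sheaf of units of K_X modulo units
of O_X, written multiplicatively). If D and D' are linearly equivalent, i.e. D · D'⁻¹ is the divisor
of a unit of the ring of global sections of K_X, then the O_X-modules O_X(D) and O_X(D') are
isomorphic. (The published statement is an equivalence: O_X(D) and O_X(D') are isomorphic if and
only if D and D' are linearly equivalent; this row states only that linearly equivalent divisors
have isomorphic modules.) -/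
theorem result (X : Scheme.{u}) (D D' : Mero.Divisor X) (h : Mero.LinEquiv D D') :
    Nonempty (Mero.divMod D ≅ Mero.divMod D') := by
  obtain ⟨f, hf⟩ := h
  have hD : D = Mero.div f * D' := mul_inv_eq_iff_eq_mul.mp hf
  have hDD' : ∀ x : X, D.1 x = QuotientGroup.mk (valAt f x) * D'.1 x := by
    intro x
    rw [hD]
    rfl
  have hD'D : ∀ x : X, D'.1 x = QuotientGroup.mk (valAt f⁻¹ x) * D.1 x := by
    intro x
    rw [hDD' x]
    have : (QuotientGroup.mk (valAt f⁻¹ x) : Mero.Germ X x) = (QuotientGroup.mk (valAt f x))⁻¹ := by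
      rw [← QuotientGroup.mk_inv]
      congr 1
    rw [this, inv_mul_cancel_left]
  refine ⟨Groth.Agent.Lib.Helper28.MeroHom.modOfIso (Mero.divLoc X D) (Mero.divLoc X D')
    (fun x => LinearMap.mulLeft (X.presheaf.stalk x) ((valAt f x : (Mero.KStalk X x)ˣ) : Mero.KStalk X x))
    (fun x => LinearMap.mulLeft (X.presheaf.stalk x) ((valAt f⁻¹ x : (Mero.KStalk X x)ˣ) : Mero.KStalk X x))
    (mulPred D D' f hDD') (mulPred D' D f⁻¹ hD'D) ?_ ?_⟩
  · intro x t
    rw [LinearMap.mulLeft_apply, LinearMap.mulLeft_apply, ← mul_assoc, ← Units.val_mul]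
    have : valAt f⁻¹ x * valAt f x = 1 := by
      rw [← map_mul, inv_mul_cancel, map_one]
    rw [this, Units.val_one, one_mul]
  · intro x t
    rw [LinearMap.mulLeft_apply, LinearMap.mulLeft_apply, ← mul_assoc, ← Units.val_mul]
    have : valAt f x * valAt f⁻¹ x = 1 := by
      rw [← map_mul, mul_inv_cancel, map_one]
    rw [this, Units.val_one, one_mul]

end Groth.Agent.S5083
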