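-- Statement S5084.
import Groth.Statements.S5084
import Mathlib
import Groth.Agent.Lib.Helper1.MeroTF2

set_option autoImplicit false
universe u
open CategoryTheory CategoryTheory.Limits AlgebraicGeometry TopologicalSpace
open Mero

namespace Groth.Agent.S5084

/-- Let X be a locally Noetherian scheme and F a quasi-coherent O_X-module. Then F is torsion-free — the
canonical map from F to its sheaf of meromorphic sections K_X(F), m ↦ m/1, is a monomorphism, i.e.
at every point no germ of a regular function kills a nonzero element of the stalk of F — if and only
if every associated point of F is an associated point of the structure sheaf (a point x such that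
the maximal ideal of O_{X,x} is an associated prime of O_{X,x}). -/
theorem result (X : Scheme.{u}) [IsLocallyNoetherian X]
    (F : X.Modules) (hF : Coh.IsQCoh F) :
    Mono (Mero.toMer F) ↔
      ∀ x : ↥X, Curv2.IsAssPoint F x →
        IsAssociatedPrime (IsLocalRing.maximalIdeal ↑(X.presheaf.stalk x)) ↑(X.presheaf.stalk x) := by
  haveI : F.IsQuasicoherent := hF
  rw [Groth.Agent.Lib.Helper1.MeroTF.mono_toMer_iff]
  exact ⟨fun h x hx => Groth.Agent.Lib.Helper1.MeroTF.ass_of_torsionFree F h x hx,
    fun h U m hm => Groth.Agent.Lib.Helper1.MeroTF.eq_zero_of_ass F h U m hm⟩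

end Groth.Agent.S5084
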