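import Groth.Statements.S5090
import Mathlib
import Groth.Agent.Lib.Lead.CycPullGeo

set_option autoImplicit false
universe u
open CategoryTheory CategoryTheory.Limits AlgebraicGeometry TopologicalSpace
open Div21

namespace Groth.Agent.S5090

open Groth.Agent.Lib.Lead.CycPull

/-- A Noetherian local ring whose maximal ideal is not a minimal prime and all of whose height-one
primes are generated by a nonzerodivisor is a unique factorisation domain. -/
theorem domain_ufd_of_height_one {A : Type*} [CommRing A] [IsNoetherianRing A] [IsLocalRing A]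
    (hm : IsLocalRing.maximalIdeal A ∉ minimalPrimes A)
    (h : ∀ p : Ideal A, p.IsPrime → p.height = 1 →
      ∃ t ∈ nonZeroDivisors A, p = Ideal.span {t}) :
    ∃ _ : IsDomain A, UniqueFactorizationMonoid A := by
  have hht : (IsLocalRing.maximalIdeal A).height ≠ 0 :=
    fun h0 => hm (Ideal.height_eq_zero_iff.mp h0)
  obtain ⟨p, hp, hp1⟩ : ∃ p : Ideal A, p.IsPrime ∧ p.height = 1 := by
    by_cases h1 : (IsLocalRing.maximalIdeal A).height = 1
    · exact ⟨_, inferInstance, h1⟩
    · have hlt : (1 : ℕ∞) < (IsLocalRing.maximalIdeal A).height :=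
        lt_of_le_of_ne (Order.one_le_iff_ne_zero.mpr hht) (Ne.symm h1)
      have hfin : (IsLocalRing.maximalIdeal A).height < ⊤ := Ideal.height_lt_top_of_isPrime
      have e := PrimeSpectrum.height_eq_orderHeight (IsLocalRing.closedPoint A)
      change (IsLocalRing.maximalIdeal A).height = _ at e
      rw [e] at hlt hfin
      obtain ⟨y, hy, hy1⟩ := (Order.coe_lt_height_iff (n := 1) hfin).mp (by exact_mod_cast hlt)
      exact ⟨y.asIdeal, y.2, by rw [PrimeSpectrum.height_eq_orderHeight]; exact_mod_cast hy1⟩
  obtain ⟨t, ht, hpt⟩ := h p hp hp1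
  obtain ⟨q, hq, hqp⟩ := Ideal.exists_minimalPrimes_le (bot_le : (⊥ : Ideal A) ≤ p)
  haveI hqprime : q.IsPrime := hq.1.1
  have hq0 : q.height = 0 := Ideal.height_eq_zero_iff.mpr hq
  have htq : t ∉ q := by
    intro htq
    have : p ≤ q := by rw [hpt, Ideal.span_singleton_le_iff_mem]; exact htq
    have hpq : p = q := le_antisymm this hqp
    rw [hpq, hq0] at hp1
    exact zero_ne_one hp1
  have htm : t ∈ IsLocalRing.maximalIdeal A := by
    have : t ∈ p := by rw [hpt]; exact Ideal.mem_span_singleton_self t
    exact IsLocalRing.le_maximalIdeal hp.ne_top this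
  have hqbot : q = ⊥ := by
    apply Submodule.eq_bot_of_le_smul_of_le_jacobson_bot (IsLocalRing.maximalIdeal A) q
      (IsNoetherian.noetherian q)
    · intro z hz
      have hzp : z ∈ p := hqp hz
      rw [hpt, Ideal.mem_span_singleton'] at hzp
      obtain ⟨a, rfl⟩ := hzp
      have ha : a ∈ q := (hqprime.mem_or_mem hz).resolve_right htq
      rw [mul_comm]
      exact Submodule.smul_mem_smul htm ha
    · exact IsLocalRing.maximalIdeal_le_jacobson ⊥
  haveI : (⊥ : Ideal A).IsPrime := hqbot ▸ hqprime
  haveI : IsDomain A := IsDomain.of_bot_isPrime A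
  refine ⟨inferInstance, ?_⟩
  apply UniqueFactorizationMonoid.of_forall_isPrincipal_of_height_eq_one
  intro P hP hP1
  obtain ⟨t', -, hP'⟩ := h P hP hP1
  exact ⟨⟨t', hP'⟩⟩

/-- In a Noetherian ring, a prime which is both minimal and maximal is an open point. -/
theorem isOpen_singleton_of_minimal_maximal {A : Type*} [CommRing A] [IsNoetherianRing A]
    (p : PrimeSpectrum A) (hmin : p.asIdeal ∈ minimalPrimes A)
    (hmax : ∀ r : PrimeSpectrum A, p.asIdeal ≤ r.asIdeal → r = p) :
    IsOpen ({p} : Set (PrimeSpectrum A)) := by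
  classical
  have hfin : (minimalPrimes A).Finite := minimalPrimes.finite_of_isNoetherianRing A
  set S : Finset (Ideal A) := hfin.toFinset.erase p.asIdeal with hS
  have hcompl : ({p} : Set (PrimeSpectrum A))ᶜ =
      PrimeSpectrum.zeroLocus (↑(∏ q ∈ S, q) : Set A) := by
    ext r
    rw [Set.mem_compl_iff, Set.mem_singleton_iff, PrimeSpectrum.mem_zeroLocus,
      SetLike.coe_subset_coe, Ideal.IsPrime.prod_le r.2]
    constructor
    · intro hr
      obtain ⟨q, hq, hqr⟩ := Ideal.exists_minimalPrimes_le (bot_le : (⊥ : Ideal A) ≤ r.asIdeal)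
      refine ⟨q, ?_, hqr⟩
      rw [hS, Finset.mem_erase, Set.Finite.mem_toFinset]
      refine ⟨?_, hq⟩
      rintro rfl
      exact hr (hmax r hqr)
    · rintro ⟨q, hq, hqr⟩ hrp
      rw [hS, Finset.mem_erase, Set.Finite.mem_toFinset] at hq
      subst hrp
      have : r.asIdeal ≤ q := hmin.2 ⟨hq.2.1.1, bot_le⟩ hqr
      exact hq.1 (le_antisymm hqr this)
  rw [← isClosed_compl_iff, hcompl]
  exact PrimeSpectrum.isClosed_zeroLocus _

theorem comap_eq_ker {X : Scheme.{u}} (x ζ : X) (h : ζ ⤳ x) :
    (IsLocalRing.maximalIdeal ↑(X.presheaf.stalk ζ)).comap (X.presheaf.stalkSpecializes h).hom =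
      RingHom.ker (Cyc.specMap x ζ h) := by
  rw [← primeOf_asIdeal]
  rfl


/-- Equivalence of conditions a'') and c): let X be a locally Noetherian scheme which is reduced at each
of its isolated points (for every point x such that {x} is open, the local ring O_{X,x} is reduced).
Then the following are equivalent. (a'') Every integral closed subscheme of X of codimension 1 is
regularly immersed in X: for every point ζ whose local ring has dimension 1 and every specialization
x of ζ, the ideal of O_{X,x} defining the closure of ζ with its reduced structure (the preimage of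
the maximal ideal of O_{X,ζ} under the specialization map) is generated by one non-zero-divisor of
O_{X,x}. (c) X is locally factorial: every local ring of X is a unique factorisation domain. -/
theorem result (X : Scheme.{u}) [IsLocallyNoetherian X]
    (hred : ∀ x : ↥X, IsOpen ({x} : Set ↥X) → IsReduced ↑(X.presheaf.stalk x)) :
    (∀ ζ : ↥X, ringKrullDim ↑(X.presheaf.stalk ζ) = 1 → ∀ (x : ↥X) (h : ζ ⤳ x),
        ∃ t : ↑(X.presheaf.stalk x), t ∈ nonZeroDivisors ↑(X.presheaf.stalk x) ∧
          (IsLocalRing.maximalIdeal ↑(X.presheaf.stalk ζ)).comap (X.presheaf.stalkSpecializes h).hom =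
            Ideal.span {t}) ↔
      ∀ x : ↥X, ∃ _ : IsDomain ↑(X.presheaf.stalk x), UniqueFactorizationMonoid ↑(X.presheaf.stalk x) := by
  constructor
  · intro Ha
    have C1 : ∀ x : X, IsLocalRing.maximalIdeal ↑(X.presheaf.stalk x) ∉
        minimalPrimes ↑(X.presheaf.stalk x) →
        ∃ _ : IsDomain ↑(X.presheaf.stalk x),
          UniqueFactorizationMonoid ↑(X.presheaf.stalk x) := by
      intro x hm
      apply domain_ufd_of_height_one hm
      intro p hp hp1
      obtain ⟨ζ, hζ, hpζ⟩ := exists_eq_ker_specMap x p hp
      have hdim : ringKrullDim ↑(X.presheaf.stalk ζ) = 1 := by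
        letI := (X.presheaf.stalkSpecializes hζ).hom.toAlgebra
        haveI : (RingHom.ker (Cyc.specMap x ζ hζ)).IsPrime := RingHom.ker_isPrime _
        haveI := isLocalization_stalkSpecializes x ζ hζ
        rw [IsLocalization.AtPrime.ringKrullDim_eq_height (RingHom.ker (Cyc.specMap x ζ hζ))
          ↑(X.presheaf.stalk ζ), ← hpζ, hp1]
        rfl
      obtain ⟨t, ht, hcomap⟩ := Ha ζ hdim x hζ
      refine ⟨t, ht, ?_⟩
      rw [hpζ, ← comap_eq_ker]
      exact hcomap
    intro x
    by_cases hm : IsLocalRing.maximalIdeal ↑(X.presheaf.stalk x) ∈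
        minimalPrimes ↑(X.presheaf.stalk x)
    swap
    · exact C1 x hm
    by_cases hsp : ∃ x' : X, x ⤳ x' ∧ x' ≠ x
    · obtain ⟨x', hxx', hne⟩ := hsp
      haveI hkp : (RingHom.ker (Cyc.specMap x' x hxx')).IsPrime := RingHom.ker_isPrime _
      have hm' : IsLocalRing.maximalIdeal ↑(X.presheaf.stalk x') ∉
          minimalPrimes ↑(X.presheaf.stalk x') := by
        intro hmin
        have hle : RingHom.ker (Cyc.specMap x' x hxx') ≤
            IsLocalRing.maximalIdeal ↑(X.presheaf.stalk x') :=
          IsLocalRing.le_maximalIdeal hkp.ne_top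
        have hge := hmin.2 ⟨hkp, bot_le⟩ hle
        have heq : RingHom.ker (Cyc.specMap x' x hxx') =
            RingHom.ker (Cyc.specMap x' x' specializes_rfl) := by
          rw [ker_specMap_self]; exact le_antisymm hle hge
        exact hne (ker_specMap_injective x' x x' hxx' specializes_rfl heq).symm
      obtain ⟨hdom, hufd⟩ := C1 x' hm'
      letI := (X.presheaf.stalkSpecializes hxx').hom.toAlgebra
      haveI := isLocalization_stalkSpecializes x' x hxx'
      haveI : IsDomain ↑(X.presheaf.stalk x) :=
        IsLocalization.isDomain_of_le_nonZeroDivisors ↑(X.presheaf.stalk x)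
          (Ideal.primeCompl_le_nonZeroDivisors (RingHom.ker (Cyc.specMap x' x hxx')))
      exact ⟨inferInstance, UniqueFactorizationMonoid.of_isLocalization
        (RingHom.ker (Cyc.specMap x' x hxx')).primeCompl _⟩
    · push Not at hsp
      have hopen : IsOpen ({x} : Set X) := by
        obtain ⟨_, ⟨U, hU, rfl⟩, hxU, -⟩ :=
          X.isBasis_affineOpens.exists_subset_of_mem_open (Set.mem_univ x) isOpen_univ
        have hU' : IsAffineOpen U := hU
        haveI : IsNoetherianRing Γ(X, U) := IsLocallyNoetherian.component_noetherian ⟨U, hU⟩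
        set p := hU'.primeIdealOf ⟨x, hxU⟩ with hp
        have hpx : hU'.fromSpec p = x := hU'.fromSpec_primeIdealOf ⟨x, hxU⟩
        have hmin : p.asIdeal ∈ minimalPrimes Γ(X, U) := by
          rw [← Ideal.height_eq_zero_iff]
          letI := X.presheaf.algebra_section_stalk ⟨x, hxU⟩
          haveI := hU'.isLocalization_stalk ⟨x, hxU⟩
          have h1 := IsLocalization.AtPrime.ringKrullDim_eq_height p.asIdeal
            ↑(X.presheaf.stalk x)
          rw [← IsLocalRing.maximalIdeal_height_eq_ringKrullDim,
            Ideal.height_eq_zero_iff.mpr hm] at h1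
          exact_mod_cast h1.symm
        have hmax : ∀ r : PrimeSpectrum Γ(X, U), p.asIdeal ≤ r.asIdeal → r = p := by
          intro r hr
          have h1 : p ⤳ r := (PrimeSpectrum.le_iff_specializes _ _).mp hr
          have h2 := h1.map hU'.fromSpec.continuous
          rw [hpx] at h2
          have h3 := hsp _ h2
          exact hU'.fromSpec.isOpenEmbedding.injective (h3.trans hpx.symm)
        have h4 := hU'.fromSpec.isOpenEmbedding.isOpenMap _
          (isOpen_singleton_of_minimal_maximal p hmin hmax)
        have h5 : (⇑hU'.fromSpec '' ({p} : Set (PrimeSpectrum Γ(X, U)))) = {x} := by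
          ext y
          constructor
          · rintro ⟨q, hq, rfl⟩
            have hq' : q = p := hq
            show hU'.fromSpec q = x
            rw [hq']; exact hpx
          · intro hy
            have hy' : y = x := hy
            exact ⟨p, rfl, hpx.trans hy'.symm⟩
        rw [← h5]
        exact h4
      have hred' := hred x hopen
      have hnil : IsLocalRing.maximalIdeal ↑(X.presheaf.stalk x) = ⊥ := by
        have h0 : nilradical ↑(X.presheaf.stalk x) = ⊥ := nilradical_eq_bot_iff.mpr hred'
        rw [← h0, nilradical_eq_sInf]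
        apply le_antisymm
        · apply le_sInf
          intro J hJ
          exact hm.2 ⟨hJ, bot_le⟩ (IsLocalRing.le_maximalIdeal (Ideal.IsPrime.ne_top hJ))
        · exact sInf_le (show (IsLocalRing.maximalIdeal ↑(X.presheaf.stalk x)).IsPrime from
            inferInstance)
      have hfield : IsField ↑(X.presheaf.stalk x) :=
        IsLocalRing.isField_iff_maximalIdeal_eq.mpr hnil
      haveI : IsDomain ↑(X.presheaf.stalk x) := hfield.isDomain
      refine ⟨inferInstance,
        UniqueFactorizationMonoid.of_forall_isPrincipal_of_height_eq_one ?_⟩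
      intro P hP hP1
      exfalso
      have hPbot : P = ⊥ :=
        le_bot_iff.mp (hnil ▸ IsLocalRing.le_maximalIdeal hP.ne_top)
      rw [hPbot, Ideal.height_bot] at hP1
      exact zero_ne_one hP1
  · intro Hc ζ hdim x h
    obtain ⟨hdom, hufd⟩ := Hc x
    letI := (X.presheaf.stalkSpecializes h).hom.toAlgebra
    haveI hprime : (RingHom.ker (Cyc.specMap x ζ h)).IsPrime := RingHom.ker_isPrime _
    haveI := isLocalization_stalkSpecializes x ζ h
    have hht : (RingHom.ker (Cyc.specMap x ζ h)).height = 1 := by
      have := IsLocalization.AtPrime.ringKrullDim_eq_height (RingHom.ker (Cyc.specMap x ζ h))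
        ↑(X.presheaf.stalk ζ)
      rw [hdim] at this
      exact_mod_cast this.symm
    obtain ⟨t, ht⟩ := UniqueFactorizationMonoid.isPrincipal_of_height_eq_one hht
    refine ⟨t, ?_, ?_⟩
    · apply mem_nonZeroDivisors_of_ne_zero
      rintro rfl
      have hb : RingHom.ker (Cyc.specMap x ζ h) = ⊥ := by rw [ht]; simp
      exact Ideal.ne_bot_of_height_eq_one hht hb
    · rw [comap_eq_ker]
      exact ht

end Groth.Agent.S5090
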