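import Groth.Statements.S5091
import Groth.Agent.Lib.Helper28.StalkAss

set_option autoImplicit false
universe u
open CategoryTheory CategoryTheory.Limits AlgebraicGeometry TopologicalSpace
open Div21

namespace Groth.Agent.S5091

/-- Let X be a locally Noetherian scheme, Y a closed subset and U = X − Y, with j : U → X the inclusion.
Then O_X → j_*O_U is injective — restriction of functions from every open V to V ∩ U is injective,
i.e. U is schematically dense in X — if and only if the local ring of X at every point of Y has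
depth at least 1. -/
theorem result (X : Scheme.{u}) [IsLocallyNoetherian X] (U : X.Opens) :
    CInt.IsSchematicallyDense U ↔
      ∀ x : ↥X, x ∉ U → (1 : ℕ∞) ≤ LocCoh.depth ↑(X.presheaf.stalk x) ↑(X.presheaf.stalk x) := by
  constructor
  · intro hdense x hxU
    by_contra hlt
    have h0 : LocCoh.depth ↑(X.presheaf.stalk x) ↑(X.presheaf.stalk x) = 0 := by
      rw [not_le] at hlt
      exact Order.lt_one_iff.mp hlt
    obtain ⟨V, hV, hxV, -⟩ := TopologicalSpace.Opens.isBasis_iff_nbhd.mp X.isBasis_affineOpens
      (show x ∈ (⊤ : X.Opens) from trivial)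
    have hV' : IsAffineOpen V := hV
    have : IsNoetherianRing Γ(X, V) := IsLocallyNoetherian.component_noetherian ⟨V, hV'⟩
    have hass := (Groth.Agent.Lib.Helper28.StalkAss.depth_eq_zero_iff hV' x hxV).mp h0
    obtain ⟨hprime, s, hs⟩ := (isAssociatedPrime_iff (R := Γ(X, V)) (M := Γ(X, V))).mp hass
    have hres : X.presheaf.map (homOfLE (inf_le_left : V ⊓ U ≤ V)).op s = 0 := by
      apply Groth.Agent.Lib.Helper28.StalkAss.section_eq_zero
      intro y hy
      rw [TopCat.Presheaf.germ_res_apply]
      rw [Groth.Agent.Lib.Helper28.StalkAss.germ_eq_zero_iff hV' y hy.1 s]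
      by_contra hcon
      simp only [not_exists, not_and] at hcon
      have hle : (hV'.primeIdealOf ⟨x, hxV⟩).asIdeal ≤ (hV'.primeIdealOf ⟨y, hy.1⟩).asIdeal := by
        intro c hc
        by_contra hcy
        apply hcon c hcy
        rw [hs, Submodule.mem_colon_singleton] at hc
        simpa using hc
      have hspec := Groth.Agent.Lib.Helper28.StalkAss.specializes_of_le hV' x y hxV hy.1 hle
      exact hxU (hspec.mem_open U.2 hy.2)
    have hs0 : s = 0 := by
      apply hdense V
      rw [hres, map_zero]
    apply hprime.ne_top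
    rw [hs, hs0, eq_top_iff]
    intro c _
    rw [Submodule.mem_colon_singleton, smul_zero]
    exact Submodule.zero_mem _
  · intro hdepth V
    rw [injective_iff_map_eq_zero]
    intro s hs
    apply Groth.Agent.Lib.Helper28.StalkAss.section_eq_zero
    intro x hx
    obtain ⟨W, hW, hxW, hWV⟩ := TopologicalSpace.Opens.isBasis_iff_nbhd.mp X.isBasis_affineOpens hx
    have hW' : IsAffineOpen W := hW
    have : IsNoetherianRing Γ(X, W) := IsLocallyNoetherian.component_noetherian ⟨W, hW'⟩
    have hWV' : W ≤ V := hWV
    rw [← TopCat.Presheaf.germ_res_apply X.presheaf (homOfLE hWV') x hxW s]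
    suffices h : X.presheaf.map (homOfLE hWV').op s = 0 by rw [h, map_zero]
    by_contra hs0
    obtain ⟨P, hP, hle⟩ := exists_le_isAssociatedPrime_of_isNoetherianRing
      (R := Γ(X, W)) (M := Γ(X, W)) _ hs0
    have := hP.isPrime
    obtain ⟨z, hz, hzP⟩ := Groth.Agent.Lib.Helper28.StalkAss.exists_point_of_prime hW' P
    have hz0 : LocCoh.depth ↑(X.presheaf.stalk z) ↑(X.presheaf.stalk z) = 0 := by
      rw [Groth.Agent.Lib.Helper28.StalkAss.depth_eq_zero_iff hW' z hz, hzP]
      exact hP
    have hzU : z ∈ U := by
      by_contra hzU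
      have := hdepth z hzU
      rw [hz0] at this
      exact absurd this (by norm_num)
    have hgerm : X.presheaf.germ W z hz (X.presheaf.map (homOfLE hWV').op s) = 0 := by
      rw [TopCat.Presheaf.germ_res_apply]
      have h1 := TopCat.Presheaf.germ_res_apply X.presheaf
        (homOfLE (inf_le_left : V ⊓ U ≤ V)) z ⟨hWV' hz, hzU⟩ s
      rw [← h1, hs, map_zero]
    obtain ⟨c, hc, hcs⟩ := (Groth.Agent.Lib.Helper28.StalkAss.germ_eq_zero_iff hW' z hz _).mp hgerm
    apply hc
    rw [hzP]
    apply hle
    rw [Submodule.mem_colon_singleton, smul_eq_mul, hcs]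
    exact Submodule.zero_mem _

end Groth.Agent.S5091
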