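import Groth.Statements.S5092
import Groth.Agent.Lib.Helper28.StalkAss

set_option autoImplicit false
universe u
open CategoryTheory CategoryTheory.Limits AlgebraicGeometry TopologicalSpace
open Mero

namespace Groth.Agent.S5092

/-- Suppose X and Y are schemes, both locally Noetherian, and f : X → Y is a morphism carrying each
associated point of O_X (that is, a point whose local ring has its maximal ideal among its
associated primes) to an associated point of O_Y. Then, given any open subset U of Y and any regular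
function s on U (one whose germ at each point of U is a non-zero-divisor), the function on f⁻¹(U)
obtained by pulling s back along f is again regular; as a result, every meromorphic function and
every divisor on Y admits a well-defined pullback along f. -/
theorem result {X Y : Scheme.{u}} [IsLocallyNoetherian X] [IsLocallyNoetherian Y]
    (f : X ⟶ Y)
    (hf : ∀ x : ↥X, IsAssociatedPrime (IsLocalRing.maximalIdeal ↑(X.presheaf.stalk x)) ↑(X.presheaf.stalk x) →
      IsAssociatedPrime (IsLocalRing.maximalIdeal ↑(Y.presheaf.stalk (f x))) ↑(Y.presheaf.stalk (f x))) :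
    ∀ (U : Y.Opens) (s : Γ(Y, U)), s ∈ Mero.regSub Y U → f.app U s ∈ Mero.regSub X (f ⁻¹ᵁ U) := by
  intro U s hs x
  by_contra hnz
  have hmem : X.presheaf.germ (f ⁻¹ᵁ U) x.1 x.2 (f.app U s) ∈
      ⋃ p ∈ associatedPrimes (X.presheaf.stalk x.1) (X.presheaf.stalk x.1), (p : Set _) := by
    rw [biUnion_associatedPrimes_eq_compl_nonZeroDivisors]
    exact hnz
  obtain ⟨q, hq, htq⟩ := Set.mem_iUnion₂.mp hmem
  obtain ⟨V, hV, hxV, hVU⟩ := TopologicalSpace.Opens.isBasis_iff_nbhd.mp X.isBasis_affineOpens x.2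
  have hV' : IsAffineOpen V := hV
  have hNoeth : IsNoetherianRing Γ(X, V) := IsLocallyNoetherian.component_noetherian ⟨V, hV'⟩
  let algx := X.presheaf.algebra_section_stalk ⟨x.1, hxV⟩
  have hlocx := hV'.isLocalization_stalk ⟨x.1, hxV⟩
  have h3 := Module.associatedPrimes.preimage_comap_associatedPrimes_eq_associatedPrimes_of_isLocalizedModule
    (hV'.primeIdealOf ⟨x.1, hxV⟩).asIdeal.primeCompl (X.presheaf.stalk x.1)
    (Algebra.linearMap Γ(X, V) (X.presheaf.stalk x.1))
  have hQ : q.comap (algebraMap Γ(X, V) (X.presheaf.stalk x.1)) ∈ associatedPrimes Γ(X, V) Γ(X, V) := by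
    rw [← h3] at hq
    exact hq
  have hQprime := hQ.isPrime
  obtain ⟨x', hx'V, hx'Q⟩ := Groth.Agent.Lib.Helper28.StalkAss.exists_point_of_prime hV'
    (q.comap (algebraMap Γ(X, V) (X.presheaf.stalk x.1)))
  have hrQ : X.presheaf.map (homOfLE hVU).op (f.app U s) ∈
      q.comap (algebraMap Γ(X, V) (X.presheaf.stalk x.1)) := by
    rw [Ideal.mem_comap]
    change X.presheaf.germ V x.1 hxV (X.presheaf.map (homOfLE hVU).op (f.app U s)) ∈ q
    rw [TopCat.Presheaf.germ_res_apply]
    exact htq
  have hx'ass : IsAssociatedPrime (IsLocalRing.maximalIdeal (X.presheaf.stalk x'))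
      (X.presheaf.stalk x') :=
    (Groth.Agent.Lib.Helper28.StalkAss.ass_stalk_iff hV' x' hx'V).mpr (hx'Q ▸ hQ)
  have hy := hf x' hx'ass
  have hgx' : X.presheaf.germ V x' hx'V (X.presheaf.map (homOfLE hVU).op (f.app U s)) ∈
      IsLocalRing.maximalIdeal (X.presheaf.stalk x') := by
    let algx' := X.presheaf.algebra_section_stalk ⟨x', hx'V⟩
    have hlocx' := hV'.isLocalization_stalk ⟨x', hx'V⟩
    exact (IsLocalization.AtPrime.to_map_mem_maximal_iff (X.presheaf.stalk x')
      (hV'.primeIdealOf ⟨x', hx'V⟩).asIdeal _).mpr (hx'Q ▸ hrQ)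
  have hfx' : f x' ∈ U := hVU hx'V
  have hgs : Y.presheaf.germ U (f x') hfx' s ∈ IsLocalRing.maximalIdeal (Y.presheaf.stalk (f x')) := by
    by_contra hunit
    have hu : IsUnit (Y.presheaf.germ U (f x') hfx' s) := by
      rwa [IsLocalRing.mem_maximalIdeal, mem_nonunits_iff, not_not] at hunit
    have hu' := hu.map (f.stalkMap x').hom
    have e1 : (f.stalkMap x').hom (Y.presheaf.germ U (f x') hfx' s) =
        X.presheaf.germ (f ⁻¹ᵁ U) x' hfx' (f.app U s) := Scheme.Hom.germ_stalkMap_apply f U x' hfx' s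
    rw [e1, ← TopCat.Presheaf.germ_res_apply X.presheaf (homOfLE hVU) x' hx'V] at hu'
    exact hgx' hu'
  have hreg := hs ⟨f x', hfx'⟩
  have hmem2 : Y.presheaf.germ U (f x') hfx' s ∈
      ⋃ p ∈ associatedPrimes (Y.presheaf.stalk (f x')) (Y.presheaf.stalk (f x')), (p : Set _) :=
    Set.mem_iUnion₂.mpr ⟨IsLocalRing.maximalIdeal _, hy, hgs⟩
  rw [biUnion_associatedPrimes_eq_compl_nonZeroDivisors] at hmem2
  exact hmem2 hreg

end Groth.Agent.S5092
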