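import Groth.Statements.S5093
import Groth.Agent.Lib.Helper28.MaxPoint

set_option autoImplicit false
universe u
open CategoryTheory CategoryTheory.Limits AlgebraicGeometry TopologicalSpace
open Mero

namespace Groth.Agent.S5093

/-- Let f : X → Y be a morphism of schemes such that the set of irreducible components of Y is locally
finite, X is reduced, and every irreducible component of X dominates an irreducible component of Y
(f sends every maximal point of X, i.e. every point with no proper generization, to a maximal point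
of Y). Then for every open subset U of Y and every regular function s on U (germ a non-zero-divisor
at every point of U), the pulled-back function on f⁻¹(U) is regular; consequently the pullback along
f of every meromorphic function and of every divisor on Y is defined. -/
theorem result {X Y : Scheme.{u}} [IsReduced X] (f : X ⟶ Y)
    (hY : ∀ y : ↥Y, ∃ W : Y.Opens, y ∈ W ∧
      {Z : Set ↥Y | Z ∈ irreducibleComponents ↥Y ∧ (Z ∩ (W : Set ↥Y)).Nonempty}.Finite)
    (hf : ∀ ξ : ↥X, (∀ z : ↥X, z ⤳ ξ → z = ξ) → ∀ z : ↥Y, z ⤳ f ξ → z = f ξ) :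
    ∀ (U : Y.Opens) (s : Γ(Y, U)), s ∈ Mero.regSub Y U → f.app U s ∈ Mero.regSub X (f ⁻¹ᵁ U) := by
  intro U s hs x
  obtain ⟨V, hV, hxV, hVU⟩ := TopologicalSpace.Opens.isBasis_iff_nbhd.mp X.isBasis_affineOpens x.2
  have hV' : IsAffineOpen V := hV
  set r : Γ(X, V) := X.presheaf.map (homOfLE hVU).op (f.app U s) with hr
  -- `r` avoids every minimal prime of `Γ(X, V)`
  have havoid : ∀ Q ∈ minimalPrimes Γ(X, V), r ∉ Q := by
    intro Q hQ hrQ
    have hQprime : Q.IsPrime := hQ.1.1
    obtain ⟨ξ, hξV, hξQ⟩ := Groth.Agent.Lib.Helper28.StalkAss.exists_point_of_prime hV' Q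
    have hξmax : ∀ z : X, z ⤳ ξ → z = ξ :=
      (Groth.Agent.Lib.Helper28.MaxPoint.isMaxPoint_iff_minimalPrimes hV' ξ hξV).mpr (hξQ ▸ hQ)
    have hfξmax := hf ξ hξmax
    have hgξ : X.presheaf.germ V ξ hξV r ∈ IsLocalRing.maximalIdeal (X.presheaf.stalk ξ) := by
      let algξ := X.presheaf.algebra_section_stalk ⟨ξ, hξV⟩
      have hlocξ := hV'.isLocalization_stalk ⟨ξ, hξV⟩
      exact (IsLocalization.AtPrime.to_map_mem_maximal_iff (X.presheaf.stalk ξ)
        (hV'.primeIdealOf ⟨ξ, hξV⟩).asIdeal _).mpr (hξQ ▸ hrQ)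
    have hfξ : f ξ ∈ U := hVU hξV
    have hgs : Y.presheaf.germ U (f ξ) hfξ s ∈ IsLocalRing.maximalIdeal (Y.presheaf.stalk (f ξ)) := by
      by_contra hunit
      have hu : IsUnit (Y.presheaf.germ U (f ξ) hfξ s) := by
        rwa [IsLocalRing.mem_maximalIdeal, mem_nonunits_iff, not_not] at hunit
      have hu' := hu.map (f.stalkMap ξ).hom
      have e1 : (f.stalkMap ξ).hom (Y.presheaf.germ U (f ξ) hfξ s) =
          X.presheaf.germ (f ⁻¹ᵁ U) ξ hfξ (f.app U s) := Scheme.Hom.germ_stalkMap_apply f U ξ hfξ s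
      rw [e1, ← TopCat.Presheaf.germ_res_apply X.presheaf (homOfLE hVU) ξ hξV] at hu'
      exact hgξ hu'
    exact Groth.Agent.Lib.Helper28.MaxPoint.notMem_nonZeroDivisors_of_mem_maximalIdeal (f ξ) hfξmax _ hgs
      (hs ⟨f ξ, hfξ⟩)
  -- hence `r` is a non-zero-divisor of the reduced ring `Γ(X, V)`
  have hrnzd : r ∈ nonZeroDivisors Γ(X, V) := by
    rw [mem_nonZeroDivisors_iff_right]
    intro y hy
    have hynil : y ∈ nilradical Γ(X, V) := by
      rw [nilradical, ← Ideal.sInf_minimalPrimes, Ideal.mem_sInf]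
      intro Q hQ
      have hQprime : Q.IsPrime := hQ.1.1
      have : y * r ∈ Q := by rw [hy]; exact Q.zero_mem
      exact (hQprime.mem_or_mem this).resolve_right (havoid Q hQ)
    rw [nilradical_eq_zero] at hynil
    exact hynil
  -- and so is its germ
  let algx := X.presheaf.algebra_section_stalk ⟨x.1, hxV⟩
  have hlocx := hV'.isLocalization_stalk ⟨x.1, hxV⟩
  have h1 := IsLocalization.nonZeroDivisors_le_comap (hV'.primeIdealOf ⟨x.1, hxV⟩).asIdeal.primeCompl
    (X.presheaf.stalk x.1) hrnzd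
  change X.presheaf.germ V x.1 hxV r ∈ nonZeroDivisors (X.presheaf.stalk x.1) at h1
  rw [hr, TopCat.Presheaf.germ_res_apply] at h1
  exact h1

end Groth.Agent.S5093
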