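import Groth.Statements.S5097
import Groth.Agent.Lib.Helper28.MeroBasic

set_option autoImplicit false
universe u
open CategoryTheory CategoryTheory.Limits AlgebraicGeometry TopologicalSpace
open Mero

namespace Groth.Agent.S5097

open Mero in
theorem eval_inv_val {X : Scheme.{u}} (U : X.Opens) (f : (Γ(Mero.kmod X, U))ˣ) (y : U) :
    (↑((Units.map (Mero.evalK X U y).toMonoidHom f)⁻¹) : Mero.KStalk X y.1) =
      (↑f⁻¹ : Γ(Mero.kmod X, U)).1 y := by
  rw [← map_inv]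
  rfl

open Mero in
/-- the inverse of a local equation of `D` is a section of `O_X(D)` -/
theorem divCond_inv {X : Scheme.{u}} (D : Mero.Divisor X) (U : X.Opens) (f : (Γ(Mero.kmod X, U))ˣ)
    (hf : ∀ y : U, D.1 y.1 = Mero.germOf f y) (y : U) :
    Mero.DivCond D y.1 ((↑f⁻¹ : Γ(Mero.kmod X, U)).1 y) := by
  intro g hg
  have h1 : (QuotientGroup.mk (Units.map (Mero.evalK X U y).toMonoidHom f) : Mero.Germ X y.1) =
      QuotientGroup.mk g := by
    rw [← hg, hf y]
  rw [QuotientGroup.eq] at h1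
  obtain ⟨u, hu⟩ := h1
  refine ⟨(u : X.presheaf.stalk y.1), ?_⟩
  have h2 := congrArg (fun v : (Mero.KStalk X y.1)ˣ => (v : Mero.KStalk X y.1)) hu
  simp only [Units.coe_map, Units.val_mul, MonoidHom.coe_coe, RingHom.toMonoidHom_eq_coe] at h2
  rw [h2]
  exact congrArg (· * (g : Mero.KStalk X y.1)) (eval_inv_val U f y)

open Mero in
theorem key {X : Scheme.{u}} (D D' : Mero.Divisor X)
    (h : ∀ (U : X.Opens) (t : Γ(Mero.kmod X, U)),
      (∀ x : ↥U, Mero.DivCond D x.1 (t.1 x)) → (∀ x : ↥U, Mero.DivCond D' x.1 (t.1 x)))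
    (x : X) (fx f'x : (Mero.KStalk X x)ˣ) (hD' : D'.1 x = QuotientGroup.mk f'x)
    (U : X.Opens) (hxU : x ∈ U) (f : (Γ(Mero.kmod X, U))ˣ) (hf : ∀ y : U, D.1 y.1 = Mero.germOf f y)
    (hfx : fx = Units.map (Mero.evalK X U ⟨x, hxU⟩).toMonoidHom f) :
    ∃ r : X.presheaf.stalk x, algebraMap _ (Mero.KStalk X x) r = (↑fx⁻¹ : Mero.KStalk X x) * f'x := by
  have h1 := h U (↑f⁻¹ : Γ(Mero.kmod X, U)) (divCond_inv D U f hf) ⟨x, hxU⟩ f'x hD'
  obtain ⟨r, hr⟩ := h1
  refine ⟨r, ?_⟩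
  rw [hr, hfx]
  exact congrArg (· * (f'x : Mero.KStalk X x)) (eval_inv_val U f ⟨x, hxU⟩).symm

/-- Injectivity of the canonical homomorphism from divisors to invertible fractional ideals: let X be a
scheme and D, D' two divisors on X such that, over every open subset U, a section t of the sheaf of
meromorphic functions lies in O_X(D) (t_x · g ∈ O_{X,x} for a representative g of the germ of D at
x, for all x in U) if and only if it lies in O_X(D'). Then D = D'. -/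
theorem result (X : Scheme.{u}) (D D' : Mero.Divisor X)
    (h : ∀ (U : X.Opens) (t : Γ(Mero.kmod X, U)),
      (∀ x : ↥U, Mero.DivCond D x.1 (t.1 x)) ↔ (∀ x : ↥U, Mero.DivCond D' x.1 (t.1 x))) :
    D = D' := by
  apply Subtype.ext
  funext x
  obtain ⟨U, hxU, f, hf⟩ := D.2 x
  obtain ⟨U', hxU', f', hf'⟩ := D'.2 x
  set fx : (Mero.KStalk X x)ˣ := Units.map (Mero.evalK X U ⟨x, hxU⟩).toMonoidHom f with hfx
  set f'x : (Mero.KStalk X x)ˣ := Units.map (Mero.evalK X U' ⟨x, hxU'⟩).toMonoidHom f' with hf'x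
  have hD : D.1 x = QuotientGroup.mk fx := hf ⟨x, hxU⟩
  have hD' : D'.1 x = QuotientGroup.mk f'x := hf' ⟨x, hxU'⟩
  obtain ⟨r, hr⟩ := key D D' (fun U t => (h U t).mp) x fx f'x hD' U hxU f hf hfx
  obtain ⟨r', hr'⟩ := key D' D (fun U t => (h U t).mpr) x f'x fx hD U' hxU' f' hf' hf'x
  have hinj := Mero.algebraMap_KStalk_injective x
  have h1 : r * r' = 1 := by
    apply hinj
    rw [map_mul, hr, hr', map_one]
    have : (↑fx⁻¹ : Mero.KStalk X x) * ↑f'x * (↑f'x⁻¹ * ↑fx) = ((fx⁻¹ * f'x * (f'x⁻¹ * fx) : (Mero.KStalk X x)ˣ) : Mero.KStalk X x) := by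
      simp only [Units.val_mul]
    rw [this]
    simp
  let u : (X.presheaf.stalk x)ˣ := ⟨r, r', h1, by rw [mul_comm]; exact h1⟩
  rw [hD, hD', QuotientGroup.eq]
  refine ⟨u, ?_⟩
  apply Units.ext
  rw [Units.coe_map, Units.val_mul]
  exact hr

end Groth.Agent.S5097
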