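import Groth.Statements.S5105
import Groth.Agent.Lib.Helper26.RefShT
import Groth.Agent.Lib.Helper26.RefShU
import Groth.Agent.S16087

set_option autoImplicit false
universe u
open CategoryTheory CategoryTheory.Limits AlgebraicGeometry TopologicalSpace
open Div21

namespace Groth.Agent.S5105

open Groth.Agent.Lib.Helper26 in

/-- For an integral scheme (X is locally factorial exactly when the canonical map Pic(X) → Cl(X) is a
bijection; in the presence of (i), being bijective means that each codimension-1 cycle arises as the
Weil divisor of some rational section of an invertible module): suppose X is an integral scheme that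
is normal and locally Noetherian. Then these two conditions are equivalent: (1) whenever Z is a
function from the points of X to the integers that is zero away from the points of codimension 1
(coheight 1) and whose support is locally finite, one can find an invertible O_X-module L together
with a nonzero rational section s of L (a nonzero element of the generic fibre of L) such that, at
each point of codimension 1, the order of s equals the value Z takes there; (2) each local ring of X
is a unique factorisation domain. -/
theorem result (X : Scheme.{u}) [IsIntegral X]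
    [IsLocallyNoetherian X] (hX : Pi1.IsNormalScheme X) :
    (∀ Z : ↥X → ℤ, (∀ x : ↥X, Order.coheight x ≠ 1 → Z x = 0) →
        (∀ x : ↥X, ∃ W : X.Opens, x ∈ W ∧ {z : ↥X | z ∈ W ∧ Z z ≠ 0}.Finite) →
        ∃ (L : X.Modules) (_ : PicF.IsInvertible L) (s : Cyc.secFibre L (genericPoint ↥X)), s ≠ 0 ∧
          ∀ x : ↥X, Order.coheight x = 1 →
            Cyc.secOrdAt L (genericPoint ↥X) x (genericPoint_specializes x) s = Z x) ↔
      ∀ x : ↥X, UniqueFactorizationMonoid ↑(X.presheaf.stalk x) := by
  classical
  constructor
  · intro h1 x
    haveI : IsNoetherianRing (X.presheaf.stalk x) := inferInstance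
    apply UniqueFactorizationMonoid.of_exists_prime_factors
    intro a ha
    obtain ⟨f, hf, hfa⟩ := WfDvdMonoid.exists_factors a ha
    refine ⟨f, fun q hq => ?_, hfa⟩
    have hqi : Irreducible q := hf q hq
    have hq0 : q ≠ 0 := hqi.ne_zero
    -- a point of codimension one where `q` vanishes
    have hex : ∃ y : X, y ⤳ x ∧ Order.coheight y = 1 ∧
        1 ≤ Scheme.ord (algebraMap (X.presheaf.stalk x) X.functionField q) y := by
      by_contra hcon
      push_neg at hcon
      apply hqi.not_isUnit
      apply RefSh.isUnit_of_ord_eq_zero hX x q hq0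
      intro z hzx hz
      have h1 := RefSh.ord_algebraMap_nonneg hX hzx hz q hq0
      have h2 := hcon z hzx hz
      omega
    obtain ⟨y, hyx, hy, hqy⟩ := hex
    have hZ0 : ∀ z : X, Order.coheight z ≠ 1 → (if z = y then (1 : ℤ) else 0) = 0 := by
      intro z hz
      rw [if_neg]
      rintro rfl
      exact hz hy
    have hZfin : ∀ z : X, ∃ W : X.Opens, z ∈ W ∧
        {z' : X | z' ∈ W ∧ (if z' = y then (1 : ℤ) else 0) ≠ 0}.Finite := by
      intro z
      refine ⟨⊤, trivial, (Set.finite_singleton y).subset ?_⟩
      rintro z' ⟨-, hz'⟩
      by_contra hne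
      exact hz' (if_neg hne)
    obtain ⟨L, hL, s, hs, hord⟩ := h1 (fun z => if z = y then (1 : ℤ) else 0) hZ0 hZfin
    have hy1 : Cyc.secOrdAt L (genericPoint X) y (genericPoint_specializes y) s = 1 :=
      (hord y hy).trans (if_pos rfl)
    have hz0 : ∀ z : X, Order.coheight z = 1 → z ≠ y →
        Cyc.secOrdAt L (genericPoint X) z (genericPoint_specializes z) s = 0 :=
      fun z hz hzy => (hord z hz).trans (if_neg hzy)
    obtain ⟨π, hπ, key⟩ := RefSh.exists_prime_of_indicator hX hL s hs y hy hy1 hz0 x hyx
    have hπq : π ∣ q := key q hq0 hqy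
    exact (hπ.irreducible.associated_of_dvd hqi hπq).prime hπ
  · intro hufd Z hZ0 hZfin
    let D : AlgebraicCycle X ℤ := ⟨Z, fun _ _ => Set.mem_univ _, fun z _ => by
      obtain ⟨W, hzW, hfin⟩ := hZfin z
      exact ⟨W, W.isOpen.mem_nhds hzW, hfin.subset (fun z' hz' => ⟨hz'.1, hz'.2⟩)⟩⟩
    obtain ⟨F, hF, s, hs, hord⟩ := (Groth.Agent.S16087.result X hX).2 D hZ0
    exact ⟨F, RefSh.isInvertible_of_isRef1_of_ufd hF hufd, s, hs,
      fun x hx => (hord x hx).symm⟩

end Groth.Agent.S5105
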