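import Groth.Statements.S5110
-- import your own Groth.Agent.* helpers here
import Mathlib
import Groth.Agent.Lib.Helper12.LimMaxPts

set_option autoImplicit false
universe u
open CategoryTheory CategoryTheory.Limits AlgebraicGeometry TopologicalSpace
open Lim8

namespace Groth.Agent.S5110
open Limits Groth.Agent.Lib.Helper12.LimMaxPts
set_option backward.isDefEq.respectTransparency false

/-- Let (S_i) be a cofiltered system of schemes with affine transition morphisms and S its limit, such
that every S_i has finitely many maximal points and the transition morphisms send maximal points to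
maximal points; let S_{i₀} be quasi-compact and V₀ an open subset of S_{i₀}, with inverse images V_i
in the S_i over i₀ and V in S. If V₀ is dense in S_{i₀} then every V_i and V are dense. Conversely,
if V is dense in S and S has only finitely many maximal points, then V_i is dense in S_i for some i
over i₀. -/
theorem result {I : Type u} [SmallCategory I] [IsCofiltered I]
    (D : I ⥤ Scheme.{u}) (c : Limits.Cone D) (hc : Limits.IsLimit c)
    [∀ (i j : I) (g : i ⟶ j), IsAffineHom (D.map g)]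
    (hfin : ∀ i : I, {s : ↥(D.obj i) | ∀ z : ↥(D.obj i), z ⤳ s → z = s}.Finite)
    (hsys : ∀ (i j : I) (g : i ⟶ j) (s : ↥(D.obj i)), (∀ z : ↥(D.obj i), z ⤳ s → z = s) →
      ∀ z : ↥(D.obj j), z ⤳ D.map g s → z = D.map g s)
    (i₀ : I) [CompactSpace ↥(D.obj i₀)] (V₀ : (D.obj i₀).Opens) :
    (Dense (V₀ : Set ↥(D.obj i₀)) →
        (∀ (i : I) (g : i ⟶ i₀), Dense (((D.map g) ⁻¹ᵁ V₀ : (D.obj i).Opens) : Set ↥(D.obj i))) ∧
          Dense (((c.π.app i₀) ⁻¹ᵁ V₀ : c.pt.Opens) : Set ↥c.pt)) ∧
      (Dense (((c.π.app i₀) ⁻¹ᵁ V₀ : c.pt.Opens) : Set ↥c.pt) →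
        {s : ↥c.pt | ∀ z : ↥c.pt, z ⤳ s → z = s}.Finite →
          ∃ (i : I) (g : i ⟶ i₀), Dense (((D.map g) ⁻¹ᵁ V₀ : (D.obj i).Opens) : Set ↥(D.obj i))) := by
  constructor
  · intro hd
    have hM : ∀ m : D.obj i₀, (∀ z : D.obj i₀, z ⤳ m → z = m) → m ∈ V₀ :=
      fun m hm => maximal_mem_of_dense V₀.2 hd (hfin i₀) m hm
    refine ⟨fun i g => ?_, ?_⟩
    · refine dense_of_maximal_subset ((D.map g) ⁻¹ᵁ V₀).2 (fun m hm => ?_)
      exact hM _ (hsys i i₀ g m hm)
    · refine dense_of_maximal_subset ((c.π.app i₀) ⁻¹ᵁ V₀).2 (fun s hs => ?_)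
      exact hM _ (fun z hz => isMax_π_of_isMax D c hc hfin hsys hs i₀ z hz)
  · intro hd hfinS
    by_contra hcon
    push_neg at hcon
    let D' : Over i₀ ⥤ Scheme.{u} := Over.forget i₀ ⋙ D
    let c' : Cone D' := c.whisker (Over.forget i₀)
    have hc' : IsLimit c' := (Functor.Initial.isLimitWhiskerEquiv (Over.forget i₀) c).symm hc
    haveI : ∀ (j k : Over i₀) (f : j ⟶ k), IsAffineHom (D'.map f) := fun j k f =>
      inferInstanceAs (IsAffineHom (D.map f.left))
    obtain ⟨t, ht⟩ := exists_point_mem_of_finite D' c' hc'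
      (fun k => {m : D.obj k.left | (∀ z : D.obj k.left, z ⤳ m → z = m) ∧
        m ∉ ((D.map k.hom) ⁻¹ᵁ V₀ : (D.obj k.left).Opens)})
      (fun k => (hfin k.left).subset (fun m h => h.1))
      (fun k => by
        by_contra hemp
        rw [Set.not_nonempty_iff_eq_empty] at hemp
        apply hcon k.left k.hom
        refine dense_of_maximal_subset ((D.map k.hom) ⁻¹ᵁ V₀).2 (fun m hm => ?_)
        by_contra hmV
        have : m ∈ (∅ : Set (D.obj k.left)) := by
          rw [← hemp]; exact ⟨hm, hmV⟩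
        exact this)
      (fun {j k} a m hm => ⟨hsys j.left k.left a.left m hm.1, fun hmem => hm.2 (by
        show D.map j.hom m ∈ V₀
        have h1 : D.map k.hom (D.map a.left m) ∈ V₀ := hmem
        have h2 : D.map j.hom = D.map a.left ≫ D.map k.hom := by
          rw [← D.map_comp, Over.w a]
        rw [h2]
        exact h1)⟩)
    have htmax : ∀ z : c.pt, z ⤳ t → z = t :=
      isMax_of_forall_π D' c' hc' (fun k z hz => (ht k).1 z hz)
    have htV : t ∈ ((c.π.app i₀) ⁻¹ᵁ V₀ : c.pt.Opens) :=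
      maximal_mem_of_dense ((c.π.app i₀) ⁻¹ᵁ V₀).2 hd hfinS t htmax
    apply (ht (Over.mk (𝟙 i₀))).2
    show D.map (𝟙 i₀) (c.π.app i₀ t) ∈ V₀
    rw [D.map_id]
    exact htV

end Groth.Agent.S5110
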