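import Groth.Statements.S5113
import Mathlib.AlgebraicGeometry.PullbackCarrier

set_option autoImplicit false
universe u
open SGA1

namespace Groth.Agent.S5113

open AlgebraicGeometry CategoryTheory CategoryTheory.Limits in
/-- Let g : S' ⟶ S be submersive, i.e. surjective and making S a topological quotient of S'. Then the
sequence of sets of open subsets Ouv(S) → Ouv(S') ⇉ Ouv(S' ×_S S') (inverse images along g and along
the two projections) is exact: an open subset U' of S' whose inverse images under the two
projections of S' ×_S S' agree is the inverse image of one and only one open subset of S. -/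
theorem result {S' S : Scheme.{u}} (g : S' ⟶ S)
    (hg : Topology.IsQuotientMap g.base) (U' : S'.Opens)
    (h : (pullback.fst g g) ⁻¹ᵁ U' = (pullback.snd g g) ⁻¹ᵁ U') :
    ∃! U : S.Opens, g ⁻¹ᵁ U = U' := by
  have hsat : g.base ⁻¹' (g.base '' (U' : Set S')) = (U' : Set S') := by
    apply Set.Subset.antisymm
    · rintro s1 ⟨s2, hs2, h12⟩
      obtain ⟨z, hz1, hz2⟩ :=
        AlgebraicGeometry.Scheme.Pullback.exists_preimage_pullback (f := g) (g := g) s1 s2 h12.symm
      have hz : z ∈ (pullback.snd g g) ⁻¹ᵁ U' := by
        change (pullback.snd g g) z ∈ U'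
        rw [hz2]; exact hs2
      rw [← h] at hz
      change (pullback.fst g g) z ∈ U' at hz
      rwa [hz1] at hz
    · exact Set.subset_preimage_image _ _
  have hopen : IsOpen (g.base '' (U' : Set S')) := by
    rw [← hg.isOpen_preimage, hsat]
    exact U'.2
  refine ⟨⟨g.base '' (U' : Set S'), hopen⟩, ?_, ?_⟩
  · ext s
    change s ∈ g.base ⁻¹' (g.base '' (U' : Set S')) ↔ s ∈ (U' : Set S')
    rw [hsat]
  · intro V hV
    ext t
    obtain ⟨s, rfl⟩ := hg.surjective t
    change g.base s ∈ V ↔ g.base s ∈ g.base '' (U' : Set S')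
    have h1 : g.base s ∈ V ↔ s ∈ U' := by
      rw [← hV]; rfl
    rw [h1]
    constructor
    · intro hs; exact ⟨s, hs, rfl⟩
    · intro hs
      have : s ∈ g.base ⁻¹' (g.base '' (U' : Set S')) := hs
      rwa [hsat] at this

end Groth.Agent.S5113
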