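import Groth.Statements.S5114
-- import your own Groth.Agent.* helpers here
import Mathlib
import Groth.Agent.Lib.Helper8.HenselQFSch

set_option autoImplicit false
universe u
open SGA1

namespace Groth.Agent.S5114

open Topology TopologicalSpace IsLocalRing

set_option backward.isDefEq.respectTransparency false

open AlgebraicGeometry CategoryTheory CategoryTheory.Limits in
/-- Let A be a complete Noetherian local ring, S = Spec A, and g : S' ⟶ S a surjective morphism of
finite type whose fibre over the closed point s is finite. If every point of S' specialises to some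
point of the fibre over s (equivalently: the disjoint union of the spectra of the local rings of S'
at the points over s maps onto S'), then g is universally submersive. (The published statement
asserts an equivalence and does not mention surjectivity of g; the converse fails: for A a complete
discrete valuation ring with fraction field K, S' = S ⊔ Spec K ⟶ S has a section, hence is
universally submersive, while the isolated point Spec K specialises to no point over s. This row
states the implication the published proof establishes, with the surjectivity it uses.) -/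
theorem result (A : Type u) [CommRing A]
    [IsNoetherianRing A] [IsLocalRing A] [IsAdicComplete (IsLocalRing.maximalIdeal A) A]
    {S' : Scheme.{u}} (g : S' ⟶ Spec (CommRingCat.of A)) [LocallyOfFiniteType g] [QuasiCompact g]
    [Surjective g]
    (hfin : (g.base ⁻¹' {IsLocalRing.closedPoint A}).Finite)
    (hsp : ∀ t : S', ∃ s' : S', g.base s' = IsLocalRing.closedPoint A ∧ t ⤳ s') :
    SGA1.UnivSubmersive g := by
  haveI : HenselianLocalRing A :=
    { is_henselian := fun f hf a₀ h₁ h₂ =>
        HenselianRing.is_henselian (I := IsLocalRing.maximalIdeal A) f hf a₀ h₁ (h₂.map _) }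
  classical
  have key : ∀ x : S', g x = closedPoint A → ∃ W : S'.Opens, x ∈ W ∧ IsFinite (W.ι ≫ g) := by
    intro x hx
    have hqf : g.QuasiFiniteAt x := by
      rw [Scheme.Hom.quasiFiniteAt_iff_isOpen_singleton_asFiber]
      haveI : Finite (g.fiber (g x)) := by
        have h1 : (g ⁻¹' {g x}).Finite := by rw [hx]; exact hfin
        haveI := h1.to_subtype
        exact Finite.of_equiv _ (g.fiberHomeo (g x)).toEquiv.symm
      exact isOpen_discrete _
    obtain ⟨U, hU, hxU⟩ : ∃ U : S'.Opens, IsAffineOpen U ∧ x ∈ U := by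
      obtain ⟨U, hU, hxU, -⟩ := (Opens.isBasis_iff_nbhd.mp S'.isBasis_affineOpens)
        (show x ∈ (⊤ : S'.Opens) from trivial)
      exact ⟨U, hU, hxU⟩
    haveI : IsAffine (U : Scheme.{u}) := hU
    have hqfU : (U.ι ≫ g).QuasiFiniteAt (⟨x, hxU⟩ : (U : Scheme.{u})) :=
      Scheme.Hom.quasiFiniteAt_comp_iff_of_isOpenImmersion.mpr hqf
    obtain ⟨W, hxW, -, hWf⟩ := Groth.Agent.Lib.Helper8.HenselQFSch.exists_clopen_finite
      (U.ι ≫ g) (⟨x, hxU⟩ : (U : Scheme.{u})) (by simpa using hx) hqfU
    refine ⟨U.ι ''ᵁ W, ⟨⟨x, hxU⟩, hxW, rfl⟩, ?_⟩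
    have h2 : (U.ι ''ᵁ W).ι = (U.ι.isoImage W).inv ≫ W.ι ≫ U.ι := by
      rw [Iso.eq_inv_comp]; exact Scheme.Hom.isoImage_hom_ι _ _
    rw [h2, Category.assoc, Category.assoc]
    infer_instance
  choose! W hxW hWf using key
  have hcov : ∀ t : S', ∃ x, g x = closedPoint A ∧ t ∈ W x := by
    intro t
    obtain ⟨s', hs', hts'⟩ := hsp t
    exact ⟨s', hs', hts'.mem_open (W s').2 (hxW s' hs')⟩
  intro X' Y' i₁ i₂ g' hpb
  haveI : Surjective g' :=
    MorphismProperty.of_isPullback (P := @Surjective) hpb.flip inferInstance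
  show Topology.IsQuotientMap g'
  rw [Topology.isQuotientMap_iff_isClosed]
  refine ⟨g'.surjective, fun s => ⟨fun hs => hs.preimage g'.continuous, fun hs => ?_⟩⟩
  have hfinW : ∀ x, g x = closedPoint A → IsFinite ((i₁ ⁻¹ᵁ W x).ι ≫ g') := by
    intro x hx
    have sq := ((isPullback_morphismRestrict i₁ (W x)).flip.paste_horiz hpb)
    haveI := hWf x hx
    exact MorphismProperty.of_isPullback (P := @IsFinite) sq.flip inferInstance
  have heq : s = ⋃ x ∈ (g ⁻¹' {closedPoint A}),
      ((i₁ ⁻¹ᵁ W x).ι ≫ g') '' ((i₁ ⁻¹ᵁ W x).ι ⁻¹' (g' ⁻¹' s)) := by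
    apply subset_antisymm
    · intro y hy
      obtain ⟨p, rfl⟩ := g'.surjective y
      obtain ⟨x, hx, hpx⟩ := hcov (i₁ p)
      simp only [Set.mem_iUnion]
      exact ⟨x, hx, ⟨p, hpx⟩, hy, rfl⟩
    · intro y hy
      simp only [Set.mem_iUnion] at hy
      obtain ⟨x, hx, p, hp, rfl⟩ := hy
      exact hp
  rw [heq]
  refine hfin.isClosed_biUnion fun x hx => ?_
  haveI := hfinW x hx
  exact ((i₁ ⁻¹ᵁ W x).ι ≫ g').isClosedMap _ (hs.preimage (i₁ ⁻¹ᵁ W x).ι.continuous)

end Groth.Agent.S5114
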