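import Groth.Statements.S5118
import Groth.Agent.S5081
import Mathlib.RingTheory.Etale.StandardEtale
import Mathlib.RingTheory.Unramified.Basic

set_option autoImplicit false
universe u
open SGA1t

namespace Groth.Agent.S5118

open Polynomial in
/-- the standard étale pair `(X^n - 1, 1)` when `n` is invertible -/
noncomputable def pair (A : Type u) [CommRing A] (n : ℕ) (hn : 1 ≤ n) (m : A) (hm : (n : A) * m = 1) :
    StandardEtalePair A where
  f := X ^ n - 1
  monic_f := monic_X_pow_sub_C (1 : A) (by omega)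
  g := 1
  cond := by
    refine ⟨C m * X, -1, 0, ?_⟩
    obtain ⟨k, rfl⟩ : ∃ k, n = k + 1 := ⟨n - 1, by omega⟩
    rw [derivative_sub, derivative_X_pow, derivative_one, sub_zero, pow_zero]
    have h1 : (C ((k + 1 : ℕ) : A) : A[X]) * C m = 1 := by
      rw [← C_mul, hm, C_1]
    have h2 : (C ((k + 1 : ℕ) : A) : A[X]) * X ^ (k + 1 - 1) * (C m * X) =
        (C ((k + 1 : ℕ) : A) * C m) * X ^ (k + 1) := by
      rw [Nat.add_sub_cancel, pow_succ]; ring
    rw [h2, h1]
    ring

open Polynomial in
theorem etale_of_isUnit (A : Type u) [CommRing A] (n : ℕ) (hn : 1 ≤ n) (h : IsUnit ((n : ℕ) : A)) :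
    Algebra.Etale A (AdjoinRoot ((X : A[X]) ^ n - 1)) := by
  obtain ⟨m, hm⟩ := h.exists_right_inv
  let P := pair A n hn m hm
  have hroot : P.HasMap (AdjoinRoot.root ((X : A[X]) ^ n - 1)) := by
    refine ⟨?_, ?_⟩
    · change aeval (AdjoinRoot.root ((X : A[X]) ^ n - 1)) ((X : A[X]) ^ n - 1) = 0
      rw [AdjoinRoot.aeval_eq, AdjoinRoot.mk_self]
    · change IsUnit (aeval (AdjoinRoot.root ((X : A[X]) ^ n - 1)) (1 : A[X]))
      rw [map_one]
      exact isUnit_one
  let φ : P.Ring →ₐ[A] AdjoinRoot ((X : A[X]) ^ n - 1) := P.lift _ hroot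
  let ψ : AdjoinRoot ((X : A[X]) ^ n - 1) →ₐ[A] P.Ring :=
    AdjoinRoot.liftAlgHom _ (Algebra.ofId A _) P.X P.hasMap_X.1
  have h1 : φ.comp ψ = AlgHom.id A _ := by
    apply AdjoinRoot.algHom_ext
    change φ (ψ (AdjoinRoot.root _)) = AdjoinRoot.root _
    rw [AdjoinRoot.liftAlgHom_root, StandardEtalePair.lift_X]
  have h2 : ψ.comp φ = AlgHom.id A _ := by
    apply StandardEtalePair.hom_ext
    change ψ (φ P.X) = P.X
    rw [StandardEtalePair.lift_X, AdjoinRoot.liftAlgHom_root]
  exact Algebra.Etale.of_equiv (AlgEquiv.ofAlgHom φ ψ h1 h2)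

open Polynomial in
/-- The etaleness criterion for the Kummer group scheme: Let A be a commutative ring and n ≥ 1. The
group scheme μ_n over Spec A is the spectrum of A[t]/(t^n − 1), a free A-module of rank n; it is
etale over A if and only if n is a unit of A (equivalently, n is prime to the characteristic of the
residue field at every point of Spec A). -/
theorem result (A : Type u) [CommRing A] (n : ℕ) (hn : 1 ≤ n) :
    Algebra.Etale A (AdjoinRoot ((X : A[X]) ^ n - 1)) ↔ IsUnit ((n : ℕ) : A) := by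
  constructor
  · intro hE
    set f : A[X] := (X : A[X]) ^ n - 1 with hf
    have hsurj : Function.Surjective (aeval (AdjoinRoot.root f) : A[X] →ₐ[A] AdjoinRoot f) := by
      intro b
      obtain ⟨g, rfl⟩ := AdjoinRoot.mk_surjective b
      exact ⟨g, AdjoinRoot.aeval_eq g⟩
    have hker : RingHom.ker (aeval (AdjoinRoot.root f) : A[X] →ₐ[A] AdjoinRoot f) = Ideal.span {f} := by
      ext g
      rw [RingHom.mem_ker, AdjoinRoot.aeval_eq, AdjoinRoot.mk_eq_zero, Ideal.mem_span_singleton]
    have hann := Groth.Agent.S5081.ann_le A (AdjoinRoot f) (AdjoinRoot.root f) hsurj f hker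
    have hsub : Subsingleton (KaehlerDifferential A (AdjoinRoot f)) := inferInstance
    have htop : Module.annihilator (AdjoinRoot f) (KaehlerDifferential A (AdjoinRoot f)) = ⊤ := by
      rw [eq_top_iff]
      intro b _
      rw [Module.mem_annihilator]
      intro x
      exact Subsingleton.elim _ _
    rw [htop, top_le_iff, Ideal.span_singleton_eq_top] at hann
    -- the augmentation `X ↦ 1`
    have h1 : eval₂ (Algebra.ofId A A : A →+* A) (1 : A) f = 0 := by
      rw [hf]
      simp
    let ε : AdjoinRoot f →ₐ[A] A := AdjoinRoot.liftAlgHom f (Algebra.ofId A A) 1 h1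
    have hε := hann.map ε
    have hcomp : ε (aeval (AdjoinRoot.root f) (derivative f)) = ((n : ℕ) : A) := by
      rw [← aeval_algHom_apply, AdjoinRoot.liftAlgHom_root, hf]
      simp [derivative_X_pow]
    rwa [hcomp] at hε
  · exact etale_of_isUnit A n hn

end Groth.Agent.S5118
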