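import Groth.Statements.S5119
import Mathlib.Tactic.Linarith
import Mathlib.Tactic.Ring

set_option autoImplicit false
universe u
open scoped LaurentPolynomial
open SGA1t

namespace Groth.Agent.S5119

open AddMonoidAlgebra in
theorem coeff_key (A : Type u) [CommRing A] (n : ℕ) (hn : 1 ≤ n) (c : Fin n → A[T;T⁻¹]) (k : ℤ)
    (j : Fin n) :
    (∑ i : Fin n, (AddMonoidAlgebra.mapDomainRingHom A (AddMonoidHom.mulLeft (n : ℤ)) :
      A[T;T⁻¹] →+* A[T;T⁻¹]) (c i) * LaurentPolynomial.T (i : ℤ)).coeff ((n : ℤ) * k + (j : ℤ)) =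
      (c j).coeff k := by
  have hn0 : (n : ℤ) ≠ 0 := by
    have : (0 : ℤ) < n := by exact_mod_cast hn
    exact this.ne'
  have hinj : Function.Injective (AddMonoidHom.mulLeft (n : ℤ)) := by
    intro a b hab
    exact mul_left_cancel₀ hn0 hab
  rw [AddMonoidAlgebra.coeff_sum, Finsupp.finsetSum_apply, Finset.sum_eq_single j]
  · rw [LaurentPolynomial.T, AddMonoidAlgebra.coeff_mul_single_apply, mul_one]
    have h1 : (n : ℤ) * k + (j : ℤ) + -(j : ℤ) = (AddMonoidHom.mulLeft (n : ℤ)) k := by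
      simp
    rw [h1]
    exact Finsupp.mapDomain_apply hinj _ _
  · intro i _ hij
    rw [LaurentPolynomial.T, AddMonoidAlgebra.coeff_mul_single_apply, mul_one]
    apply Finsupp.mapDomain_of_notMem_range
    rintro ⟨k', hk'⟩
    have hk'' : (n : ℤ) * k' = (n : ℤ) * k + (j : ℤ) + -(i : ℤ) := hk'
    have hdvd : (n : ℤ) ∣ ((j : ℤ) - (i : ℤ)) := ⟨k' - k, by linarith [hk'', mul_sub (n : ℤ) k' k]⟩
    have habs : |(j : ℤ) - (i : ℤ)| < (n : ℤ) := by
      have hi : (i : ℕ) < n := i.2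
      have hj : (j : ℕ) < n := j.2
      rw [abs_lt]
      constructor <;> omega
    have h0 := Int.eq_zero_of_abs_lt_dvd hdvd habs
    apply hij
    apply Fin.ext
    omega
  · intro h
    exact absurd (Finset.mem_univ j) h

/-- The computation behind the exactness of the Kummer sequence 0 → μ_n → G_m → G_m → 0, i.e. faithful
flatness of the n-th power map u_n of G_m: Let A be a commutative ring and n ≥ 1, and let u_n be the
ring endomorphism of A[t, t⁻¹] with u_n(t) = t^n (on monomials, t^k ↦ t^{nk}). Then A[t, t⁻¹] is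
free of rank n over itself via u_n, with basis 1, t, …, t^{n−1}: every Laurent polynomial q can be
written in exactly one way as Σ_{i<n} u_n(c_i) t^i. -/
theorem result (A : Type u) [CommRing A] (n : ℕ) (hn : 1 ≤ n) (q : A[T;T⁻¹]) :
    ∃! c : Fin n → A[T;T⁻¹],
      q = ∑ i : Fin n, (AddMonoidAlgebra.mapDomainRingHom A (AddMonoidHom.mulLeft (n : ℤ)) : A[T;T⁻¹] →+* A[T;T⁻¹]) (c i) *
        LaurentPolynomial.T (i : ℤ) := by
  have hn0 : (0 : ℤ) < n := by exact_mod_cast hn
  have hinj : ∀ j : Fin n, Function.Injective (fun k : ℤ => (n : ℤ) * k + (j : ℤ)) := by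
    intro j a b hab
    have : (n : ℤ) * a = (n : ℤ) * b := by simpa using hab
    exact mul_left_cancel₀ hn0.ne' this
  refine ⟨fun j => AddMonoidAlgebra.comapDomain (fun k : ℤ => (n : ℤ) * k + (j : ℤ)) (hinj j) q, ?_, ?_⟩
  · apply AddMonoidAlgebra.ext
    ext m
    have hm1 : 0 ≤ m % (n : ℤ) := Int.emod_nonneg m hn0.ne'
    have hm2 : m % (n : ℤ) < n := Int.emod_lt_of_pos m hn0
    have hlt : (m % (n : ℤ)).toNat < n := by omega
    have hm : m = (n : ℤ) * (m / (n : ℤ)) + ((⟨(m % (n : ℤ)).toNat, hlt⟩ : Fin n) : ℤ) := by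
      change m = (n : ℤ) * (m / (n : ℤ)) + (((m % (n : ℤ)).toNat : ℕ) : ℤ)
      rw [Int.toNat_of_nonneg hm1]
      exact (Int.mul_ediv_add_emod m n).symm
    conv_rhs => rw [hm]
    rw [coeff_key A n hn _ _ _, AddMonoidAlgebra.coeff_comapDomain, Finsupp.comapDomain_apply]
    change q.coeff m = q.coeff ((n : ℤ) * (m / (n : ℤ)) + ((⟨(m % (n : ℤ)).toNat, hlt⟩ : Fin n) : ℤ))
    rw [← hm]
  · intro c' hc'
    funext j
    apply AddMonoidAlgebra.ext
    ext k
    rw [AddMonoidAlgebra.coeff_comapDomain, Finsupp.comapDomain_apply]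
    change (c' j).coeff k = q.coeff ((n : ℤ) * k + (j : ℤ))
    rw [hc', coeff_key A n hn c' k j]

end Groth.Agent.S5119
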