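import Groth.Statements.S5120
import Mathlib.Algebra.Polynomial.Div
import Mathlib.Algebra.Polynomial.Inductions
import Mathlib.Algebra.Polynomial.AlgebraMap
import Mathlib.Algebra.CharP.Lemmas
import Mathlib.Tactic.Ring
import Mathlib.Tactic.Linarith

set_option autoImplicit false
universe u
open SGA1t

namespace Groth.Agent.S5120

open Polynomial in
theorem monic_g (A : Type u) [CommRing A] [Nontrivial A] (p : ℕ) (hp : 2 ≤ p) :
    (X ^ p - X : A[X]).Monic := by
  apply monic_X_pow_sub
  rw [degree_X]
  exact_mod_cast hp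

open Polynomial in
theorem degree_g (A : Type u) [CommRing A] [Nontrivial A] (p : ℕ) (hp : 2 ≤ p) :
    (X ^ p - X : A[X]).degree = p := by
  rw [degree_sub_eq_left_of_degree_lt, degree_X_pow]
  rw [degree_X, degree_X_pow]
  exact_mod_cast hp

open Polynomial in
theorem coeff_R (A : Type u) [CommRing A] (p : ℕ) (a : Fin p → A) (j : Fin p) :
    (∑ i : Fin p, C (a i) * X ^ (i : ℕ)).coeff (j : ℕ) = a j := by
  rw [finsetSum_coeff, Finset.sum_eq_single j]
  · rw [coeff_C_mul_X_pow, if_pos rfl]
  · intro i _ hij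
    rw [coeff_C_mul_X_pow, if_neg]
    intro h
    exact hij (Fin.ext h.symm)
  · intro h; exact absurd (Finset.mem_univ j) h

open Polynomial in
theorem sum_step (A : Type u) [CommRing A] (p : ℕ) (c' : Fin p → A[X]) (a : Fin p → A) :
    ∑ i : Fin p, aeval (X - X ^ p : A[X]) (X * c' i + C (a i)) * X ^ (i : ℕ) =
      (X - X ^ p) * (∑ i : Fin p, aeval (X - X ^ p : A[X]) (c' i) * X ^ (i : ℕ)) +
        ∑ i : Fin p, C (a i) * X ^ (i : ℕ) := by
  rw [Finset.mul_sum, ← Finset.sum_add_distrib]
  refine Finset.sum_congr rfl fun i _ => ?_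
  rw [map_add, map_mul, aeval_X, aeval_C]
  simp only [Polynomial.algebraMap_apply, Algebra.algebraMap_self, RingHom.id_apply]
  ring

open Polynomial in
theorem li (A : Type u) [CommRing A] [Nontrivial A] (p : ℕ) (hp : 2 ≤ p) :
    ∀ (d : ℕ) (e : Fin p → A[X]), (∀ i, (e i).degree < d) →
      ∑ i : Fin p, aeval (X - X ^ p : A[X]) (e i) * X ^ (i : ℕ) = 0 → ∀ i, e i = 0 := by
  intro d
  induction d with
  | zero =>
    intro e he _ i
    have := he i
    rw [Nat.cast_zero, Nat.WithBot.lt_zero_iff] at this
    exact degree_eq_bot.mp this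
  | succ d ih =>
    intro e he h0 
    have hdec : ∀ i, e i = X * divX (e i) + C ((e i).coeff 0) := fun i => (X_mul_divX_add (e i)).symm
    have h1 : ∑ i : Fin p, aeval (X - X ^ p : A[X]) (e i) * X ^ (i : ℕ) =
        (X - X ^ p) * (∑ i : Fin p, aeval (X - X ^ p : A[X]) (divX (e i)) * X ^ (i : ℕ)) +
          ∑ i : Fin p, C ((e i).coeff 0) * X ^ (i : ℕ) := by
      rw [← sum_step]
      refine Finset.sum_congr rfl fun i _ => ?_
      rw [← hdec i]
    rw [h1] at h0
    set Q := ∑ i : Fin p, aeval (X - X ^ p : A[X]) (divX (e i)) * X ^ (i : ℕ) with hQ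
    set R := ∑ i : Fin p, C ((e i).coeff 0) * X ^ (i : ℕ) with hR
    have hRdeg : R.degree < (X ^ p - X : A[X]).degree := by
      rw [degree_g A p hp]
      exact degree_sum_fin_lt _
    have huniq := div_modByMonic_unique (f := (0 : A[X])) (-Q) R (monic_g A p hp)
      ⟨by rw [← h0]; ring, hRdeg⟩
    rw [zero_divByMonic, zero_modByMonic] at huniq
    have hQ0 : Q = 0 := by
      have := huniq.1
      rw [eq_comm, neg_eq_zero] at this
      exact this
    have hR0 : R = 0 := huniq.2.symm
    have hdiv : ∀ i, divX (e i) = 0 := by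
      apply ih (fun i => divX (e i)) _ hQ0
      intro i
      by_cases hei : e i = 0
      · rw [hei, divX_zero, degree_zero]
        exact WithBot.bot_lt_coe _
      · have h2 := degree_divX_lt hei
        have h3 := he i
        have h4 : (e i).degree ≤ d := by
          have h5 : (e i).natDegree < d + 1 := (natDegree_lt_iff_degree_lt hei).mpr h3
          exact degree_le_of_natDegree_le (Nat.lt_succ_iff.mp h5)
        exact lt_of_lt_of_le h2 h4
    intro i
    have hc0 : (e i).coeff 0 = 0 := by
      have := coeff_R A p (fun i => (e i).coeff 0) i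
      rw [← hR, hR0, coeff_zero] at this
      exact this.symm
    rw [hdec i, hdiv i, hc0, mul_zero, map_zero, add_zero]

open Polynomial in
theorem ex (A : Type u) [CommRing A] [Nontrivial A] (p : ℕ) (hp : 2 ≤ p) :
    ∀ (n : ℕ) (q : A[X]), q.natDegree = n →
      ∃ c : Fin p → A[X], q = ∑ i : Fin p, aeval (X - X ^ p : A[X]) (c i) * X ^ (i : ℕ) := by
  intro n
  induction n using Nat.strong_induction_on with
  | _ n ih =>
    intro q hqn
    have hmon := monic_g A p hp
    have hgd : (X ^ p - X : A[X]).natDegree = p := natDegree_eq_of_degree_eq_some (degree_g A p hp)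
    -- remainder as a sum
    have hrem : ∀ r : A[X], r.natDegree < p → r = ∑ i : Fin p, C (r.coeff i) * X ^ (i : ℕ) := by
      intro r hr
      conv_lhs => rw [as_sum_range' r p hr]
      rw [← Fin.sum_univ_eq_sum_range (fun i => monomial i (r.coeff i)) p]
      refine Finset.sum_congr rfl fun i _ => ?_
      rw [C_mul_X_pow_eq_monomial]
    by_cases hlt : q.natDegree < p
    · refine ⟨fun i => C (q.coeff i), ?_⟩
      conv_lhs => rw [hrem q hlt]
      refine Finset.sum_congr rfl fun i _ => ?_
      rw [aeval_C]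
      rfl
    · have hge : p ≤ q.natDegree := not_lt.mp hlt
      have hQdeg : (q /ₘ (X ^ p - X : A[X])).natDegree < n := by
        rw [natDegree_divByMonic q hmon, hgd, ← hqn]
        omega
      obtain ⟨c', hc'⟩ := ih _ hQdeg (q /ₘ (X ^ p - X : A[X])) rfl
      have hrdeg : (q %ₘ (X ^ p - X : A[X])).natDegree < p := by
        have h1 := degree_modByMonic_lt q hmon
        rw [degree_g A p hp] at h1
        by_cases h0 : q %ₘ (X ^ p - X : A[X]) = 0
        · rw [h0, natDegree_zero]; omega
        · exact (natDegree_lt_iff_degree_lt h0).mpr h1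
      refine ⟨fun i => X * (-(c' i)) + C ((q %ₘ (X ^ p - X : A[X])).coeff i), ?_⟩
      rw [sum_step, ← hrem _ hrdeg]
      conv_lhs => rw [← modByMonic_add_div q (X ^ p - X : A[X])]
      conv_lhs => rw [hc']
      simp only [map_neg, neg_mul, Finset.sum_neg_distrib]
      ring

open Polynomial in
/-- The computation behind the exactness of the Artin-Schreier sequence 0 → Z/p → G_a → G_a → 0 in
characteristic p, i.e. faithful flatness of ℘ = id − F: Let p be a prime and A a ring of
characteristic p. Then A[t] is free of rank p over itself via the endomorphism t ↦ t − t^p, with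
basis 1, t, …, t^{p−1}: every polynomial q can be written in exactly one way as Σ_{i<p} c_i(t − t^p)
t^i. -/
theorem result (p : ℕ) [Fact p.Prime] (A : Type u) [CommRing A] [CharP A p]
    (q : A[X]) :
    ∃! c : Fin p → A[X], q = ∑ i : Fin p, aeval (X - X ^ p : A[X]) (c i) * X ^ (i : ℕ) := by
  have hp2 : 2 ≤ p := (Fact.out : p.Prime).two_le
  have : Nontrivial A := CharP.nontrivial_of_char_ne_one (R := A) (Fact.out : p.Prime).ne_one
  obtain ⟨c, hc⟩ := ex A p hp2 _ q rfl
  refine ⟨c, hc, ?_⟩
  intro c' hc'
  funext i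
  have h0 : ∑ i : Fin p, aeval (X - X ^ p : A[X]) (c' i - c i) * X ^ (i : ℕ) = 0 := by
    simp only [map_sub, sub_mul, Finset.sum_sub_distrib]
    rw [← hc, ← hc', sub_self]
  have hbound : ∃ d : ℕ, ∀ i, (c' i - c i).degree < d := by
    refine ⟨(Finset.univ.sup fun i => (c' i - c i).natDegree) + 1, fun i => ?_⟩
    have h1 : (c' i - c i).natDegree ≤ Finset.univ.sup fun i => (c' i - c i).natDegree :=
      Finset.le_sup (f := fun i => (c' i - c i).natDegree) (Finset.mem_univ i)
    calc (c' i - c i).degree ≤ ((c' i - c i).natDegree : WithBot ℕ) := degree_le_natDegree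
      _ < ((Finset.univ.sup fun i => (c' i - c i).natDegree) + 1 : ℕ) := by
          exact_mod_cast Nat.lt_succ_of_le h1
  obtain ⟨d, hd⟩ := hbound
  have := li A p hp2 d (fun i => c' i - c i) hd h0 i
  exact sub_eq_zero.mp this

end Groth.Agent.S5120
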