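import Groth.Statements.S5128
-- import your own Groth.Agent.* helpers here
import Mathlib

set_option autoImplicit false
universe u
open SGA1

namespace Groth.Agent.S5128

open AlgebraicGeometry CategoryTheory CategoryTheory.Limits in
/-- Let X and Y be S-schemes with Y etale over S. The map f ↦ Γ_f sending an S-morphism f : X ⟶ Y to the
subset of X ×_S Y underlying its graph is a bijection from Hom_S(X, Y) onto the set of open subsets
Γ of X ×_S Y for which the restriction Γ → X of the first projection is radicial (universally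
injective) and surjective. Stated as: the graph of every S-morphism is an open immersion, and every
such open Γ is the image of the graph of exactly one S-morphism. -/
theorem result {S X Y : Scheme.{u}} (p : X ⟶ S)
    (q : Y ⟶ S) [Etale q] :
    (∀ f : {f : X ⟶ Y // f ≫ q = p},
      IsOpenImmersion (pullback.lift (𝟙 X) f.1 ((Category.id_comp p).trans f.2.symm) : X ⟶ pullback p q)) ∧
    ∀ Γ : (pullback p q).Opens, UniversallyInjective (Γ.ι ≫ pullback.fst p q) → Surjective (Γ.ι ≫ pullback.fst p q) →
      ∃! f : {f : X ⟶ Y // f ≫ q = p},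
        Set.range (pullback.lift (𝟙 X) f.1 ((Category.id_comp p).trans f.2.symm) : X ⟶ pullback p q).base =
          (Γ : Set ↥(pullback p q)) := by
  have key : ∀ {Z : Scheme.{u}} (g : Z ⟶ X) [Etale g] [UniversallyInjective g] [Surjective g],
      IsIso g := by
    intro Z g _ hui _
    have h1 : Surjective (pullback.diagonal g) := (UniversallyInjective.iff_diagonal g).mp hui
    have h2 : IsOpenImmersion (pullback.diagonal g) := inferInstance
    have h3 : IsIso (pullback.diagonal g) :=
      (isIso_iff_isOpenImmersion_and_surjective _).mpr ⟨h2, h1⟩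
    have h4 : Mono g := (pullback.isIso_diagonal_iff g).mp h3
    have h5 : IsOpenImmersion g := IsOpenImmersion.of_flat_of_mono g
    exact (isIso_iff_isOpenImmersion_and_surjective _).mpr ⟨h5, inferInstance⟩
  have part1 : ∀ f : {f : X ⟶ Y // f ≫ q = p},
      IsOpenImmersion (pullback.lift (𝟙 X) f.1 ((Category.id_comp p).trans f.2.symm) :
        X ⟶ pullback p q) := by
    intro f
    set s : X ⟶ pullback p q := pullback.lift (𝟙 X) f.1 ((Category.id_comp p).trans f.2.symm)
      with hs
    have hfst : s ≫ pullback.fst p q = 𝟙 X := pullback.lift_fst _ _ _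
    haveI : Etale (s ≫ pullback.fst p q) := by rw [hfst]; infer_instance
    haveI : Etale s := Etale.of_comp s (pullback.fst p q)
    haveI : Mono s := mono_of_mono_fac hfst
    exact IsOpenImmersion.of_flat_of_mono s
  refine ⟨part1, ?_⟩
  intro Γ hui hsurj
  set g : (Γ : Scheme) ⟶ X := Γ.ι ≫ pullback.fst p q with hg
  haveI : UniversallyInjective g := hui
  haveI : Surjective g := hsurj
  haveI : IsIso g := key g
  have hcond : (inv g ≫ Γ.ι ≫ pullback.snd p q) ≫ q = p := by
    rw [Category.assoc, Category.assoc, ← pullback.condition, ← Category.assoc Γ.ι, ← hg,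
      IsIso.inv_hom_id_assoc]
  have hgraph : (pullback.lift (𝟙 X) (inv g ≫ Γ.ι ≫ pullback.snd p q)
      ((Category.id_comp p).trans hcond.symm) : X ⟶ pullback p q) = inv g ≫ Γ.ι := by
    apply pullback.hom_ext
    · rw [pullback.lift_fst, Category.assoc, ← hg, IsIso.inv_hom_id]
    · rw [pullback.lift_snd, Category.assoc]
  refine ⟨⟨inv g ≫ Γ.ι ≫ pullback.snd p q, hcond⟩, ?_, ?_⟩
  · show Set.range (pullback.lift (𝟙 X) (inv g ≫ Γ.ι ≫ pullback.snd p q)
      ((Category.id_comp p).trans hcond.symm) : X ⟶ pullback p q).base = _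
    rw [hgraph]
    have : Set.range (inv g ≫ Γ.ι).base = Set.range Γ.ι.base := by
      rw [Scheme.Hom.comp_base, TopCat.coe_comp, Set.range_comp]
      have hsur : Function.Surjective (inv g).base := by
        have : IsIso (inv g) := inferInstance
        exact (inv g).surjective
      rw [hsur.range_eq, Set.image_univ]
    rw [this]
    exact Γ.range_ι
  · rintro ⟨f', hf'⟩ hrange
    set s' : X ⟶ pullback p q := pullback.lift (𝟙 X) f' ((Category.id_comp p).trans hf'.symm)
      with hs'
    have hfst : s' ≫ pullback.fst p q = 𝟙 X := pullback.lift_fst _ _ _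
    have hsnd : s' ≫ pullback.snd p q = f' := pullback.lift_snd _ _ _
    have hle : Set.range s'.base ⊆ Set.range Γ.ι.base := by
      rw [Γ.range_ι]; exact hrange.le
    let t : X ⟶ (Γ : Scheme) := IsOpenImmersion.lift Γ.ι s' hle
    have ht : t ≫ Γ.ι = s' := IsOpenImmersion.lift_fac _ _ _
    have htg : t ≫ g = 𝟙 X := by rw [hg, ← Category.assoc, ht, hfst]
    have ht' : t = inv g := by
      rw [← cancel_mono g, htg, IsIso.inv_hom_id]
    apply Subtype.ext
    show f' = inv g ≫ Γ.ι ≫ pullback.snd p q
    rw [← hsnd, ← ht, ht', Category.assoc]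

end Groth.Agent.S5128
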