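import Groth.Statements.S5129
import Groth.Agent.S0239
import Groth.Agent.S0243
import Groth.Agent.S0268

set_option autoImplicit false
universe u
open Pi1

namespace Groth.Agent.S5129

open AlgebraicGeometry CategoryTheory CategoryTheory.Limits in
/-- Surjectivity of π₁(X) → π₁(Spec A), in terms of covers. Let A be a complete Noetherian local ring
with residue field k, k̄ an algebraic closure of k, ξ : Spec k̄ ⟶ Spec A the resulting geometric
point, and X a proper A-scheme with X ×_A Spec k̄ connected. Then pulling back finite etale covers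
along X ⟶ Spec A is fully faithful. -/
theorem result (A : Type u) [CommRing A]
    [IsNoetherianRing A] [IsLocalRing A] [IsAdicComplete (IsLocalRing.maximalIdeal A) A]
    {X : Scheme.{u}} (f : X ⟶ Spec (CommRingCat.of A)) [IsProper f]
    (ξ : Spec (CommRingCat.of (AlgebraicClosure (IsLocalRing.ResidueField A))) ⟶ Spec (CommRingCat.of A))
    (hξ : ξ = Spec.map (CommRingCat.ofHom ((algebraMap (IsLocalRing.ResidueField A)
      (AlgebraicClosure (IsLocalRing.ResidueField A))).comp (IsLocalRing.residue A))))
    [ConnectedSpace ↥(pullback f ξ)] :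
    (FEt.restrict f).Full ∧ (FEt.restrict f).Faithful := by
  subst hξ
  -- notation
  let j : Spec (CommRingCat.of (IsLocalRing.ResidueField A)) ⟶ Spec (CommRingCat.of A) :=
    Spec.map (CommRingCat.ofHom (IsLocalRing.residue A))
  let g : Spec (CommRingCat.of (AlgebraicClosure (IsLocalRing.ResidueField A))) ⟶
      Spec (CommRingCat.of (IsLocalRing.ResidueField A)) :=
    Spec.map (CommRingCat.ofHom (algebraMap (IsLocalRing.ResidueField A)
      (AlgebraicClosure (IsLocalRing.ResidueField A))))
  have hgj : Spec.map (CommRingCat.ofHom ((algebraMap (IsLocalRing.ResidueField A)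
      (AlgebraicClosure (IsLocalRing.ResidueField A))).comp (IsLocalRing.residue A))) = g ≫ j := by
    rw [← Spec.map_comp]
    rfl
  haveI : IsClosedImmersion j :=
    IsClosedImmersion.spec_of_surjective _ Ideal.Quotient.mk_surjective
  -- closed fibre
  let i : pullback f j ⟶ X := pullback.fst f j
  let f₀ : pullback f j ⟶ Spec (CommRingCat.of (IsLocalRing.ResidueField A)) := pullback.snd f j
  have hcond : i ≫ f = f₀ ≫ j := pullback.condition
  haveI : CompactSpace ↥(pullback f j) := QuasiCompact.compactSpace_of_compactSpace f₀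
  haveI : QuasiSeparatedSpace ↥(pullback f j) := quasiSeparatedSpace_of_quasiSeparated f₀
  -- connectedness of the geometric closed fibre
  haveI : ConnectedSpace ↥(pullback f₀ g) := by
    let e : pullback f₀ g ≅ pullback f (g ≫ j) := pullbackLeftPullbackSndIso f j g
    haveI : ConnectedSpace ↥(pullback f (g ≫ j)) := by
      rw [← hgj]; infer_instance
    exact (Scheme.homeoOfIso e).symm.surjective.connectedSpace (Scheme.homeoOfIso e).symm.continuous
  -- the three ingredients
  obtain ⟨hK1, hK2⟩ := Groth.Agent.S0268.result (IsLocalRing.ResidueField A) f₀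
  haveI hH : (FEt.restrict j).IsEquivalence :=
    Groth.Agent.S0239.result A (IsLocalRing.maximalIdeal A)
  haveI hG : (FEt.restrict i).Faithful := by
    apply Groth.Agent.S0243.result i
    intro x
    have hC : IsClosed (f.base '' connectedComponent x) :=
      f.isClosedMap _ isClosed_connectedComponent
    have hne : (f.base '' connectedComponent x).Nonempty := ⟨f.base x, x, mem_connectedComponent, rfl⟩
    have hcp : IsLocalRing.closedPoint A ∈ f.base '' connectedComponent x := by
      by_contra hcon
      have h1 : IsLocalRing.closedPoint A ∈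
          (⟨(f.base '' connectedComponent x)ᶜ, hC.isOpen_compl⟩ :
            TopologicalSpace.Opens (PrimeSpectrum A)) := hcon
      rw [IsLocalRing.closedPoint_mem_iff] at h1
      obtain ⟨y, hy⟩ := hne
      have h2 : y ∈ (⟨(f.base '' connectedComponent x)ᶜ, hC.isOpen_compl⟩ :
            TopologicalSpace.Opens (PrimeSpectrum A)) := by rw [h1]; trivial
      exact h2 hy
    obtain ⟨c, hcC, hc⟩ := hcp
    refine ⟨c, hcC, ?_⟩
    show c ∈ Set.range (pullback.fst f j).base
    rw [Scheme.Pullback.range_fst]
    refine ⟨IsLocalRing.closedPoint (IsLocalRing.ResidueField A), ?_⟩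
    rw [hc]
    exact IsLocalRing.PrimeSpectrum.comap_residue A _
  -- compatibility of restrictions
  let e1 : FEt.restrict (i ≫ f) ≅ FEt.restrict f ⋙ FEt.restrict i :=
    MorphismProperty.Over.pullbackComp i f
  let e2 : FEt.restrict (i ≫ f) ≅ FEt.restrict j ⋙ FEt.restrict f₀ :=
    MorphismProperty.Over.pullbackComp f₀ j (i ≫ f) hcond
  let e : FEt.restrict f ⋙ FEt.restrict i ≅ FEt.restrict j ⋙ FEt.restrict f₀ := e1.symm ≪≫ e2
  haveI := hK1
  haveI := hK2
  haveI : (FEt.restrict j ⋙ FEt.restrict f₀).Full := inferInstance
  haveI : (FEt.restrict j ⋙ FEt.restrict f₀).Faithful := inferInstance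
  haveI : (FEt.restrict f ⋙ FEt.restrict i).Full := Functor.Full.of_iso e.symm
  haveI : (FEt.restrict f ⋙ FEt.restrict i).Faithful := Functor.Faithful.of_iso e.symm
  exact ⟨Functor.Full.of_comp_faithful (FEt.restrict f) (FEt.restrict i),
    Functor.Faithful.of_comp (FEt.restrict f) (FEt.restrict i)⟩

end Groth.Agent.S5129
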