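import Groth.Statements.S5135
import Mathlib

set_option autoImplicit false
universe u
open scoped TensorProduct
open SGA1

namespace Groth.Agent.S5135

/-- The affine case, in submodule form (descent of submodules, equivalently of quotient modules): for A
⟶ A' faithfully flat, M an A-module and N' an A'-submodule of A' ⊗ M whose two extensions to (A' ⊗
A') ⊗ M, along a ↦ a ⊗ 1 and a ↦ 1 ⊗ a, generate the same submodule, N' is the base change of the
submodule of M formed by the elements m with 1 ⊗ m in N'. -/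
theorem result (A A' : Type u) [CommRing A] [CommRing A'] [Algebra A A']
    [Module.FaithfullyFlat A A'] (M : Type u) [AddCommGroup M] [Module A M] (N' : Submodule A' (A' ⊗[A] M))
    (h : Submodule.span (A' ⊗[A] A')
          ((N'.restrictScalars A).map
            ((Algebra.TensorProduct.includeLeft : A' →ₐ[A] A' ⊗[A] A').toLinearMap.rTensor M) : Set ((A' ⊗[A] A') ⊗[A] M)) =
        Submodule.span (A' ⊗[A] A')
          ((N'.restrictScalars A).map
            ((Algebra.TensorProduct.includeRight : A' →ₐ[A] A' ⊗[A] A').toLinearMap.rTensor M) : Set ((A' ⊗[A] A') ⊗[A] M))) :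
    ((N'.restrictScalars A).comap (TensorProduct.mk A A' M 1)).baseChange A' = N' := by
  classical
  apply le_antisymm
  · rw [Submodule.baseChange_eq_span, Submodule.span_le]
    rintro _ ⟨m, hm, rfl⟩
    exact hm
  · intro x hx
    obtain ⟨πA, hπA⟩ : ∃ πA : A' ⊗[A] M →ₗ[A] (A' ⊗[A] M) ⧸ N',
        πA = (N'.mkQ).restrictScalars A := ⟨_, rfl⟩
    have hπ0 : ∀ y : A' ⊗[A] M, y ∈ N' → πA y = 0 := by
      intro y hy
      rw [hπA]
      exact (Submodule.Quotient.mk_eq_zero N').mpr hy
    have hπ0' : ∀ y : A' ⊗[A] M, πA y = 0 → y ∈ N' := by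
      intro y hy
      rw [hπA] at hy
      exact (Submodule.Quotient.mk_eq_zero N').mp hy
    obtain ⟨g, hg⟩ : ∃ g : M →ₗ[A] (A' ⊗[A] M) ⧸ N',
        g = πA ∘ₗ (TensorProduct.mk A A' M 1) := ⟨_, rfl⟩
    have hgm : ∀ m : M, g m = πA (1 ⊗ₜ[A] m) := by intro m; rw [hg]; rfl
    obtain ⟨ψ, hψ⟩ : ∃ ψ : (A' ⊗[A] A') ⊗[A] M →ₗ[A] A' ⊗[A] ((A' ⊗[A] M) ⧸ N'),
        ψ = (LinearMap.lTensor A' πA) ∘ₗ (TensorProduct.assoc A A' A' M).toLinearMap := ⟨_, rfl⟩
    have hψt : ∀ (b₁ b₂ : A') (m : M), ψ ((b₁ ⊗ₜ[A] b₂) ⊗ₜ[A] m) = b₁ ⊗ₜ[A] πA (b₂ ⊗ₜ[A] m) := by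
      intro b₁ b₂ m
      rw [hψ, LinearMap.comp_apply, LinearEquiv.coe_coe, TensorProduct.assoc_tmul,
        LinearMap.lTensor_tmul]
    -- Claim 1
    have hc1 : ∀ y : A' ⊗[A] M,
        ψ (((Algebra.TensorProduct.includeLeft : A' →ₐ[A] A' ⊗[A] A').toLinearMap.rTensor M) y) =
          (LinearMap.lTensor A' g) y := by
      intro y
      induction y using TensorProduct.induction_on with
      | zero => rw [map_zero, map_zero, map_zero]
      | tmul a' m =>
        rw [LinearMap.rTensor_tmul, AlgHom.toLinearMap_apply,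
          Algebra.TensorProduct.includeLeft_apply, hψt, LinearMap.lTensor_tmul, hgm]
      | add y z hy hz => rw [map_add, map_add, map_add, hy, hz]
    -- Claim 2
    have hc2 : ∀ (b₁ b₂ : A') (y : A' ⊗[A] M),
        ψ ((b₁ ⊗ₜ[A] b₂) •
          (((Algebra.TensorProduct.includeRight : A' →ₐ[A] A' ⊗[A] A').toLinearMap.rTensor M) y)) =
          b₁ ⊗ₜ[A] πA (b₂ • y) := by
      intro b₁ b₂ y
      induction y using TensorProduct.induction_on with
      | zero => rw [map_zero, smul_zero, map_zero, smul_zero, map_zero, TensorProduct.tmul_zero]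
      | tmul a' m =>
        rw [LinearMap.rTensor_tmul, AlgHom.toLinearMap_apply,
          Algebra.TensorProduct.includeRight_apply, TensorProduct.smul_tmul', smul_eq_mul,
          Algebra.TensorProduct.tmul_mul_tmul, mul_one, hψt, TensorProduct.smul_tmul',
          smul_eq_mul]
      | add y z hy hz =>
        rw [map_add, smul_add, map_add, hy, hz, smul_add, map_add, TensorProduct.tmul_add]
    -- Claim 3
    have hc3 : ∀ y : A' ⊗[A] M, y ∈ N' → ∀ c : A' ⊗[A] A',
        ψ (c • (((Algebra.TensorProduct.includeRight : A' →ₐ[A] A' ⊗[A] A').toLinearMap.rTensor M)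
          y)) = 0 := by
      intro y hy c
      induction c using TensorProduct.induction_on with
      | zero => rw [zero_smul, map_zero]
      | tmul b₁ b₂ =>
        rw [hc2, hπ0 _ (N'.smul_mem b₂ hy), TensorProduct.tmul_zero]
      | add c d hc hd => rw [add_smul, map_add, hc, hd, add_zero]
    -- the submodule K
    let K : Submodule (A' ⊗[A] A') ((A' ⊗[A] A') ⊗[A] M) :=
      { carrier := {y | ∀ c : A' ⊗[A] A', ψ (c • y) = 0}
        add_mem' := fun {y z} hy hz c => by rw [smul_add, map_add, hy c, hz c, add_zero]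
        zero_mem' := fun c => by rw [smul_zero, map_zero]
        smul_mem' := fun d y hy c => by rw [smul_smul]; exact hy (c * d) }
    have hRK : Submodule.span (A' ⊗[A] A')
        ((N'.restrictScalars A).map
          ((Algebra.TensorProduct.includeRight : A' →ₐ[A] A' ⊗[A] A').toLinearMap.rTensor M) :
            Set ((A' ⊗[A] A') ⊗[A] M)) ≤ K := by
      rw [Submodule.span_le]
      rintro _ ⟨y, hy, rfl⟩
      exact fun c => hc3 y hy c
    have hi₁ : ((Algebra.TensorProduct.includeLeft : A' →ₐ[A] A' ⊗[A] A').toLinearMap.rTensor M) x ∈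
        Submodule.span (A' ⊗[A] A')
          ((N'.restrictScalars A).map
            ((Algebra.TensorProduct.includeLeft : A' →ₐ[A] A' ⊗[A] A').toLinearMap.rTensor M) :
              Set ((A' ⊗[A] A') ⊗[A] M)) :=
      Submodule.subset_span ⟨x, hx, rfl⟩
    rw [h] at hi₁
    have hK := hRK hi₁ 1
    rw [one_smul, hc1] at hK
    have hexact := Module.Flat.lTensor_exact A' (LinearMap.exact_subtype_ker_map g)
    obtain ⟨z, hz⟩ := (hexact x).mp hK
    have hker : LinearMap.ker g = (N'.restrictScalars A).comap (TensorProduct.mk A A' M 1) := by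
      ext m
      rw [LinearMap.mem_ker, hgm, Submodule.mem_comap]
      constructor
      · intro hm; exact hπ0' _ hm
      · intro hm; exact hπ0 _ hm
    rw [← hker]
    exact ⟨z, (congrFun (LinearMap.baseChange_eq_ltensor _) z).trans hz⟩

end Groth.Agent.S5135
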