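import Groth.Statements.S5138
import Mathlib
import Groth.Agent.Lib.Helper6.EtaleStalk
import Groth.Agent.S2806

set_option autoImplicit false
open CategoryTheory AlgebraicGeometry
universe u
open SGA1

namespace Groth.Agent.S5138

/-- For X ⟶ X' ⟶ Y locally of finite type over a locally Noetherian Y and a point x of X, if X ⟶ X' and
the composite X ⟶ Y are both etale near x then X' ⟶ Y is etale near the image of x; 'etale near a
point' is membership in the etale locus, the union of the opens on which the morphism is etale. (The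
published statement takes the morphisms of finite type; quasi-compactness plays no role in this
assertion about single points, so only local finiteness is assumed.) -/
theorem result {X X' Y : Scheme.{u}} (f : X ⟶ X') (g : X' ⟶ Y)
    [IsLocallyNoetherian Y] [LocallyOfFiniteType f] [LocallyOfFiniteType g] (x : X)
    (hf : x ∈ Pi1X.etaleLocus f) (hfg : x ∈ Pi1X.etaleLocus (f ≫ g)) : f.base x ∈ Pi1X.etaleLocus g := by
  unfold Pi1X.etaleLocus at hf hfg ⊢
  obtain ⟨U₁, hU₁, hxU₁⟩ : ∃ U₁ : X.Opens, Etale (U₁.ι ≫ f) ∧ x ∈ U₁ :=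
    TopologicalSpace.Opens.mem_sSup.mp hf
  obtain ⟨U₂, hU₂, hxU₂⟩ : ∃ U₂ : X.Opens, Etale (U₂.ι ≫ f ≫ g) ∧ x ∈ U₂ :=
    TopologicalSpace.Opens.mem_sSup.mp hfg
  haveI := hU₁
  have hflat : (f.stalkMap x).hom.Flat :=
    Groth.Agent.Lib.Helper6.EtaleStalk.stalkMap_flat_of_nhd f x ⟨U₁, hxU₁, inferInstance⟩
  obtain ⟨V, hxV, hV⟩ := Groth.Agent.S2806.result g (f ≫ g) f rfl x hflat ⟨U₂, hxU₂, hU₂⟩
  exact TopologicalSpace.Opens.mem_sSup.mpr ⟨V, hV, hxV⟩

end Groth.Agent.S5138
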