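import Groth.Statements.S5140
import Mathlib
import Groth.Agent.Lib.Helper10.Fib4

set_option autoImplicit false
open CategoryTheory
universe u v u₂ v₂
open FibCat

namespace Groth.Agent.S5140

/-- If the structure functor of 𝒳 is transportable (isomorphisms of C lift to isomorphisms of 𝒳 with any
prescribed source over their source), then a functor 𝒳 ⟶ 𝒴 over C whose underlying functor is an
equivalence of categories is an equivalence over C. -/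
theorem result {C : Type u} [Category.{v} C]
    {𝒳 𝒴 : BasedCategory.{v₂, u₂} C}
    (h𝒳 : ∀ ⦃T S : C⦄ (α : T ≅ S) (ξ : 𝒳.obj), 𝒳.p.obj ξ = T →
      ∃ (ξ' : 𝒳.obj) (e : ξ ≅ ξ'), 𝒳.p.IsHomLift α.hom e.hom)
    (F : 𝒳 ⥤ᵇ 𝒴) [F.toFunctor.IsEquivalence] : FibCat.IsEquivOver F := by
  apply Groth.Agent.Lib.Helper10.Fib.isEquivOver_of_ff F
  intro y
  let x₀ := F.toFunctor.objPreimage y
  let e₀ : F.obj x₀ ≅ y := F.toFunctor.objObjPreimageIso y
  obtain ⟨g, hg⟩ : ∃ g : 𝒳.p.obj x₀ ⟶ 𝒴.p.obj y, 𝒴.p.IsHomLift g e₀.hom :=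
    ⟨_, CategoryTheory.IsHomLift.of_fac 𝒴.p _ e₀.hom (F.w_obj x₀) rfl rfl⟩
  haveI := hg
  haveI hgiso : IsIso g := CategoryTheory.IsHomLift.isIso_of_lift_isIso 𝒴.p g e₀.hom
  obtain ⟨x, e, he⟩ := h𝒳 (asIso g) x₀ rfl
  haveI : 𝒳.p.IsHomLift (asIso g).hom e.hom := he
  haveI h1 : 𝒳.p.IsHomLift (asIso g).inv e.inv := inferInstance
  haveI h2 : 𝒴.p.IsHomLift (asIso g).inv (F.map e.inv) := inferInstance
  have hl : 𝒴.p.IsHomLift (𝟙 (𝒴.p.obj y)) (F.map e.inv ≫ e₀.hom) := by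
    have h0 : 𝒴.p.IsHomLift ((asIso g).inv ≫ g) (F.map e.inv ≫ e₀.hom) := inferInstance
    simpa using h0
  exact ⟨x, F.toFunctor.mapIso e.symm ≪≫ e₀, hl⟩

end Groth.Agent.S5140
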