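import Groth.Statements.S5142
import Mathlib
import Groth.Agent.Lib.Helper10.FibCart

set_option autoImplicit false
open CategoryTheory
universe u v u₂ v₂
open FibCat

namespace Groth.Agent.S5142

open Groth.Agent.Lib.Helper10.Fib

/-- A morphism of the fibre product 𝒳 ×_C 𝒴 of two categories over C is cartesian if and only if its two
components are cartesian (each over its image in C). The fibre product is taken as the 2-fibre
product over C of the two structure functors, whose objects are pairs over one object of C together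
with an isomorphism of C lying over an identity. -/
theorem result {C : Type u} [Category.{v} C] {𝒳 𝒴 : BasedCategory.{v₂, u₂} C}
    {x y : (FibCat.fp (FibCat.toSelf 𝒳) (FibCat.toSelf 𝒴)).obj} (φ : x ⟶ y) :
    (FibCat.fp (FibCat.toSelf 𝒳) (FibCat.toSelf 𝒴)).p.IsCartesian
        ((FibCat.fp (FibCat.toSelf 𝒳) (FibCat.toSelf 𝒴)).p.map φ) φ ↔
      𝒳.p.IsCartesian (𝒳.p.map φ.hom.fst) φ.hom.fst ∧ 𝒴.p.IsCartesian (𝒴.p.map φ.hom.snd) φ.hom.snd := by
  constructor
  · intro h
    haveI := h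
    have h1 : 𝒳.p.IsCartesian ((FibCat.fp (FibCat.toSelf 𝒳) (FibCat.toSelf 𝒴)).p.map φ)
        φ.hom.fst := fpSelf_cart_fst φ _
    have h2 : 𝒴.p.IsCartesian ((FibCat.fp (FibCat.toSelf 𝒳) (FibCat.toSelf 𝒴)).p.map φ)
        φ.hom.snd := fpSelf_cart_snd φ _
    exact ⟨h1, cart_map 𝒴.p ((FibCat.fp (FibCat.toSelf 𝒳) (FibCat.toSelf 𝒴)).p.map φ) φ.hom.snd⟩
  · rintro ⟨h1, h2⟩
    have h1' : 𝒳.p.IsCartesian ((FibCat.fp (FibCat.toSelf 𝒳) (FibCat.toSelf 𝒴)).p.map φ)
        φ.hom.fst := h1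
    have h2' : 𝒴.p.IsCartesian ((FibCat.fp (FibCat.toSelf 𝒳) (FibCat.toSelf 𝒴)).p.map φ)
        φ.hom.snd := cart_of_map 𝒴.p _ _ h2
    exact fpSelf_cart φ _

end Groth.Agent.S5142
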