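import Groth.Statements.S5150
import Mathlib

set_option autoImplicit false
universe u
open CategoryTheory
open LocCoh

namespace Groth.Agent.S5150

/-- Let A be a commutative ring, I an ideal, M and N A-modules, and f_1, …, f_r a weakly M-regular
sequence of elements of I. If N is killed by a power of I then Ext^i_A(N, M) vanishes for all i < r.
(No Noetherian or finiteness hypothesis on A, M or N.) -/
theorem result (A : Type u) [CommRing A] (I : Ideal A) (M N : Type u) [AddCommGroup M] [Module A M] [AddCommGroup N] [Module A N] (rs : List A) (hreg : RingTheory.Sequence.IsWeaklyRegular M rs) (hI : ∀ r ∈ rs, r ∈ I) (k : ℕ) (hN : (I ^ k) • (⊤ : Submodule A N) = ⊥) (i : ℕ) (hi : i < rs.length) : Subsingleton (Abelian.Ext (ModuleCat.of A N) (ModuleCat.of A M) i) := by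
  classical
  have hann : ∀ a ∈ I, a ^ k ∈ Module.annihilator A N := by
    intro a ha
    rw [Module.mem_annihilator]
    intro n
    have h1 : a ^ k • n ∈ (I ^ k) • (⊤ : Submodule A N) :=
      Submodule.smul_mem_smul (Ideal.pow_mem_pow ha k) Submodule.mem_top
    rw [hN] at h1
    simpa using h1
  suffices H : ∀ (rs : List A) (M : ModuleCat.{u} A), RingTheory.Sequence.IsWeaklyRegular M rs →
      (∀ r ∈ rs, r ∈ I) → ∀ i < rs.length,
        Subsingleton (Abelian.Ext (ModuleCat.of A N) M i) from
    H rs (ModuleCat.of A M) hreg hI i hi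
  intro rs
  induction rs with
  | nil => intro M _ _ i hi; simp at hi
  | cons a rs' ih =>
    intro M reg mem i hi
    simp only [RingTheory.Sequence.isWeaklyRegular_cons_iff] at reg
    simp only [List.mem_cons, forall_eq_or_imp] at mem
    match i, hi with
    | 0, _ =>
      have : Subsingleton ((ModuleCat.of A N) →ₗ[A] M) :=
        IsSMulRegular.linearMap_subsingleton_of_mem_annihilator (reg.1.pow k) (hann a mem.1)
      exact (Abelian.Ext.addEquiv₀.trans ModuleCat.homAddEquiv).subsingleton
    | i + 1, hi =>
      let g := (AddCommGrpCat.ofHom ((Abelian.Ext.mk₀ (ModuleCat.smulShortComplex M a).f).postcomp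
        (ModuleCat.of A N) (add_zero (i + 1))))
      have mono_g : Mono g := by
        apply (Abelian.Ext.covariant_sequence_exact₁' (ModuleCat.of A N)
          reg.1.smulShortComplex_shortExact i (i + 1) rfl).mono_g
            ((AddCommGrpCat.isZero_of_iff_subsingleton.mpr ?_).eq_zero_of_src _)
        exact ih (ModuleCat.of A (QuotSMulTop a M)) reg.2 mem.2 i (by simpa using hi)
      let gk := AddCommGrpCat.ofHom ((Abelian.Ext.mk₀ (M.smulShortComplex (a ^ k)).f).postcomp
        (ModuleCat.of A N) (add_zero (i + 1)))
      have mono_gk : Mono gk := by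
        simp only [ModuleCat.smulShortComplex_f_eq_smul_id, g, gk] at mono_g ⊢
        exact (Abelian.Ext.postcomp_smul_id_mono_iff (a ^ k) (i + 1)).mpr <|
          ((Abelian.Ext.postcomp_smul_id_mono_iff a (i + 1)).mp mono_g).pow k
      have zero_gk : gk = 0 :=
        Abelian.Ext.postcomp_smul_id_eq_zero_of_mem_annihilator (hann a mem.1) (i + 1)
      exact AddCommGrpCat.subsingleton_of_isZero (Limits.IsZero.of_mono_eq_zero _ zero_gk)

end Groth.Agent.S5150
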