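import Groth.Statements.S5157
import Mathlib
import Groth.Agent.Lib.Helper4.Matlis

set_option autoImplicit false
universe u
open Matlis

namespace Groth.Agent.S5157

/-- Let A be a Noetherian local ring, a an ideal with A/a local (i.e. a ≠ A) and E an injective hull of
the residue field of A. Then the annihilator of a in E, E[a] = {e | a e = 0}, is an injective hull
of the residue field of A/a over A/a. -/
theorem result (A : Type u) [CommRing A] [IsLocalRing A] [IsNoetherianRing A] (a : Ideal A) [IsLocalRing (A ⧸ a)] (E : Type u) [AddCommGroup E] [Module A E] (f : IsLocalRing.ResidueField A →ₗ[A] E) (hf : InjHull.IsInjectiveHull f) : ∃ g : IsLocalRing.ResidueField (A ⧸ a) →ₗ[A ⧸ a] (LocCoh.torsionBy a E), InjHull.IsInjectiveHull g := by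
  classical
  have hntB : Nontrivial (A ⧸ a) := inferInstance
  have ha_ne : a ≠ ⊤ := by
    intro h
    have hsub : Subsingleton (A ⧸ a) := Ideal.Quotient.subsingleton_iff.mpr h
    exact false_of_nontrivial_of_subsingleton (A ⧸ a)
  have ham : a ≤ IsLocalRing.maximalIdeal A := IsLocalRing.le_maximalIdeal ha_ne
  have hmap : IsLocalRing.maximalIdeal (A ⧸ a) =
      Ideal.map (Ideal.Quotient.mk a) (IsLocalRing.maximalIdeal A) := by
    apply le_antisymm
    · intro b' hb'
      obtain ⟨b, rfl⟩ := Ideal.Quotient.mk_surjective b'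
      have hbm : b ∈ IsLocalRing.maximalIdeal A := by
        by_contra hb
        have hu : IsUnit b := IsLocalRing.notMem_maximalIdeal.mp hb
        exact (IsLocalRing.mem_maximalIdeal _).mp hb' (hu.map (Ideal.Quotient.mk a))
      exact Ideal.mem_map_of_mem _ hbm
    · apply IsLocalRing.le_maximalIdeal
      intro htop
      have h1 : (1 : A ⧸ a) ∈ Ideal.map (Ideal.Quotient.mk a) (IsLocalRing.maximalIdeal A) := by
        rw [htop]; exact Submodule.mem_top
      obtain ⟨x, hx, hx1⟩ :=
        (Ideal.mem_map_iff_of_surjective _ Ideal.Quotient.mk_surjective).mp h1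
      have h2 : x - 1 ∈ a := by
        rw [← Ideal.Quotient.eq_zero_iff_mem, map_sub, hx1, map_one, sub_self]
      have h3 : (1 : A) ∈ IsLocalRing.maximalIdeal A := by
        have := Ideal.sub_mem _ hx (ham h2)
        rwa [sub_sub_cancel] at this
      exact (Ideal.ne_top_iff_one _).mp (Ideal.IsPrime.ne_top inferInstance) h3
  have hf1mem : f 1 ∈ LocCoh.torsionBy a E := by
    rw [Submodule.mem_torsionBySet_iff]
    rintro ⟨y, hy⟩
    exact Groth.Agent.Lib.Helper4.Matlis.maximalIdeal_smul_apply f 1 y (ham hy)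
  have hcoe : ∀ (c : A) (x : LocCoh.torsionBy a E),
      (((Ideal.Quotient.mk a c) • x : LocCoh.torsionBy a E) : E) = c • (x : E) := fun c x => rfl
  rw [Groth.Agent.Lib.Helper4.Matlis.exists_isInjectiveHull_iff]
  refine ⟨?_, ?_, ?_⟩
  · -- injectivity via Baer
    have hinjE : Module.Injective A E := hf.isInjective
    apply Module.Baer.injective
    intro J g
    obtain ⟨J', hJ'⟩ : ∃ J' : Ideal A, J' = J.comap (Ideal.Quotient.mk a) := ⟨_, rfl⟩
    have hmemJ' : ∀ x : A, x ∈ J' → Ideal.Quotient.mk a x ∈ J := by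
      intro x hx
      rw [hJ'] at hx
      exact hx
    have hmemJ : ∀ x : J', Ideal.Quotient.mk a x.1 ∈ J := fun x => hmemJ' x.1 x.2
    let g' : J' →ₗ[A] E :=
      { toFun := fun x => ((g ⟨Ideal.Quotient.mk a x.1, hmemJ x⟩ : LocCoh.torsionBy a E) : E)
        map_add' := fun x y => by
          have h1 : (⟨Ideal.Quotient.mk a (x + y).1, hmemJ (x + y)⟩ : J) =
              ⟨Ideal.Quotient.mk a x.1, hmemJ x⟩ + ⟨Ideal.Quotient.mk a y.1, hmemJ y⟩ :=
            Subtype.ext (map_add _ _ _)
          rw [h1, map_add]; rfl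
        map_smul' := fun r x => by
          have h1 : (⟨Ideal.Quotient.mk a (r • x).1, hmemJ (r • x)⟩ : J) =
              (Ideal.Quotient.mk a r) • ⟨Ideal.Quotient.mk a x.1, hmemJ x⟩ :=
            Subtype.ext (by
              change Ideal.Quotient.mk a (r • x.1) = Ideal.Quotient.mk a r • Ideal.Quotient.mk a x.1
              rw [smul_eq_mul, smul_eq_mul, map_mul])
          rw [h1, map_smul, hcoe]; rfl }
    obtain ⟨G, hG⟩ := Module.Baer.of_injective hinjE J' g'
    have hGx : ∀ x : A, G x = x • G 1 := by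
      intro x
      rw [← map_smul, smul_eq_mul, mul_one]
    have he : G 1 ∈ LocCoh.torsionBy a E := by
      rw [Submodule.mem_torsionBySet_iff]
      rintro ⟨x, hx⟩
      have hxJ' : x ∈ J' := by
        rw [hJ']
        change Ideal.Quotient.mk a x ∈ J
        rw [Ideal.Quotient.eq_zero_iff_mem.mpr hx]; exact J.zero_mem
      have h1 := hG x hxJ'
      rw [hGx] at h1
      change x • G 1 = 0
      rw [h1]
      change ((g ⟨Ideal.Quotient.mk a x, _⟩ : LocCoh.torsionBy a E) : E) = 0
      have h2 : (⟨Ideal.Quotient.mk a x, hmemJ ⟨x, hxJ'⟩⟩ : J) = 0 :=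
        Subtype.ext (Ideal.Quotient.eq_zero_iff_mem.mpr hx)
      rw [h2, map_zero]; rfl
    refine ⟨LinearMap.toSpanSingleton (A ⧸ a) (LocCoh.torsionBy a E) ⟨G 1, he⟩, ?_⟩
    intro x' hx'
    obtain ⟨x, rfl⟩ := Ideal.Quotient.mk_surjective x'
    have hxJ' : x ∈ J' := by rw [hJ']; exact hx'
    rw [LinearMap.toSpanSingleton_apply]
    apply Subtype.ext
    rw [hcoe]
    change x • G 1 = _
    rw [← hGx, hG x hxJ']
    rfl
  · -- power torsion
    have hptE := Groth.Agent.Lib.Helper4.Matlis.isPowerTorsion_of_isEssentialInj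
      hf.toIsEssentialInj
    intro x
    obtain ⟨n, hn⟩ := hptE (x : E)
    refine ⟨n, fun b' hb' => ?_⟩
    rw [hmap, ← Ideal.map_pow] at hb'
    obtain ⟨b, hb, rfl⟩ :=
      (Ideal.mem_map_iff_of_surjective _ Ideal.Quotient.mk_surjective).mp hb'
    apply Subtype.ext
    rw [hcoe]
    exact hn b hb
  · -- simple Hom
    refine Groth.Agent.Lib.Helper4.Matlis.isSimpleModule_hom_of_socle
      (⟨f 1, hf1mem⟩ : LocCoh.torsionBy a E) ?_ ?_ ?_
    · intro h
      exact Groth.Agent.Lib.Helper4.Matlis.apply_one_ne_zero hf.injective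
        (congrArg Subtype.val h)
    · intro b' hb'
      rw [hmap] at hb'
      obtain ⟨b, hb, rfl⟩ :=
        (Ideal.mem_map_iff_of_surjective _ Ideal.Quotient.mk_surjective).mp hb'
      apply Subtype.ext
      rw [hcoe]
      exact Groth.Agent.Lib.Helper4.Matlis.maximalIdeal_smul_apply f 1 b hb
    · intro x hx
      have hsoc : ∀ b ∈ IsLocalRing.maximalIdeal A, b • (x : E) = 0 := by
        intro b hb
        have h1 : Ideal.Quotient.mk a b ∈ IsLocalRing.maximalIdeal (A ⧸ a) := by
          rw [hmap]; exact Ideal.mem_map_of_mem _ hb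
        have h2 := hx _ h1
        rw [← hcoe, h2]; rfl
      obtain ⟨c, hc⟩ := Groth.Agent.Lib.Helper4.Matlis.socle_subset_range
        hf.toIsEssentialInj (x : E) hsoc
      refine ⟨Ideal.Quotient.mk a c, Subtype.ext ?_⟩
      rw [hcoe]
      exact hc

end Groth.Agent.S5157
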