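import Groth.Statements.S5158
import Mathlib

set_option autoImplicit false
universe u
open scoped TensorProduct
open Matlis

namespace Groth.Agent.S5158

/-- Let A be a Noetherian local ring, Â its m-adic completion and I an m-power torsion A-module (a union
of submodules of finite length). Then x ↦ 1 ⊗ x is a bijection I → Â ⊗_A I. -/
theorem result (A : Type u) [CommRing A] [IsLocalRing A] [IsNoetherianRing A] (I : Type u) [AddCommGroup I] [Module A I] (hI : LocCoh.IsPowerTorsion (IsLocalRing.maximalIdeal A) I) : Function.Bijective (TensorProduct.mk A (AdicCompletion (IsLocalRing.maximalIdeal A) A) I 1) := by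
  classical
  set m := IsLocalRing.maximalIdeal A with hm
  haveI : Module.Flat A (AdicCompletion m A) := AdicCompletion.flat_of_isNoetherian m
  haveI : Module.FaithfullyFlat A (AdicCompletion m A) :=
    Module.FaithfullyFlat.of_flat_of_isLocalHom
  refine ⟨Module.FaithfullyFlat.tensorProduct_mk_injective I, ?_⟩
  have fg : m.FG := m.fg_of_isNoetherianRing
  -- key vanishing
  have van : ∀ (n : ℕ) (x : I), (∀ a ∈ m ^ n, a • x = 0) →
      ∀ b ∈ (m ^ n • ⊤ : Submodule A (AdicCompletion m A)), b ⊗ₜ[A] x = 0 := by
    intro n x hx b hb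
    refine Submodule.smul_induction_on hb (fun c hc b' _ => ?_) (fun b₁ b₂ h₁ h₂ => ?_)
    · rw [TensorProduct.smul_tmul, hx c hc, TensorProduct.tmul_zero]
    · rw [TensorProduct.add_tmul, h₁, h₂, add_zero]
  intro t
  induction t using TensorProduct.induction_on with
  | zero => exact ⟨0, by simp⟩
  | add t₁ t₂ h₁ h₂ =>
    obtain ⟨x₁, rfl⟩ := h₁
    obtain ⟨x₂, rfl⟩ := h₂
    exact ⟨x₁ + x₂, by simp [TensorProduct.tmul_add]⟩
  | tmul b x =>
    obtain ⟨n, hn⟩ := hI x
    obtain ⟨a, ha⟩ := Submodule.mkQ_surjective _ (AdicCompletion.eval m A n b)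
    have hker : b - AdicCompletion.of m A a ∈ LinearMap.ker (AdicCompletion.eval m A n) := by
      rw [LinearMap.mem_ker, map_sub, AdicCompletion.eval_of, ha, sub_self]
    rw [← AdicCompletion.pow_smul_top_eq_ker_eval fg] at hker
    have h0 := van n x hn _ hker
    rw [TensorProduct.sub_tmul, sub_eq_zero] at h0
    refine ⟨a • x, ?_⟩
    rw [h0]
    have h1 : AdicCompletion.of m A a = a • (1 : AdicCompletion m A) := by
      rw [Algebra.smul_def, mul_one, AdicCompletion.algebraMap_apply]
      rfl
    rw [h1, TensorProduct.smul_tmul]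
    rfl

end Groth.Agent.S5158
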