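import Groth.Statements.S5163
import Mathlib
import Groth.Agent.Lib.Helper4.CM

set_option autoImplicit false
universe u
open LocCoh

namespace Groth.Agent.S5163

/-- For modules over a Noetherian ring. Let P be a finite A-module and H any A-module with Supp H ⊆ Supp
P. If Hom_A(P, H) = 0 then H = 0. (The published lemma is stated over an arbitrary prescheme; its
proof uses that a nonzero module has an associated prime, so the ring is taken Noetherian here.) -/
theorem result (A : Type u) [CommRing A] [IsNoetherianRing A] (P H : Type u) [AddCommGroup P] [Module A P] [Module.Finite A P] [AddCommGroup H] [Module A H] (hsupp : Module.support A H ⊆ Module.support A P) (hhom : Subsingleton (P →ₗ[A] H)) : Subsingleton H := by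
  classical
  by_contra hH
  rw [not_subsingleton_iff_nontrivial] at hH
  obtain ⟨x, hx⟩ := exists_ne (0 : H)
  obtain ⟨H', hH'⟩ : ∃ H' : Submodule A H, H' = Submodule.span A {x} := ⟨_, rfl⟩
  have hfin : Module.Finite A H' := by
    rw [hH']
    exact Module.Finite.span_singleton A x
  have hsub : Subsingleton (P →ₗ[A] H') := by
    refine ⟨fun f g => ?_⟩
    have h1 := Subsingleton.elim (H'.subtype ∘ₗ f) (H'.subtype ∘ₗ g)
    refine LinearMap.ext fun p => Subtype.ext ?_
    exact LinearMap.congr_fun h1 p
  obtain ⟨r, hr, hreg⟩ := IsSMulRegular.subsingleton_linearMap_iff.mp hsub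
  have hnt : Nontrivial H' := by
    refine ⟨⟨⟨x, ?_⟩, 0, ?_⟩⟩
    · rw [hH']; exact Submodule.mem_span_singleton_self x
    · intro h
      exact hx (congrArg Subtype.val h)
  obtain ⟨q, hq⟩ := associatedPrimes.nonempty A H'
  have hqprime : q.IsPrime := IsAssociatedPrime.isPrime hq
  have hqsupp : (⟨q, hqprime⟩ : PrimeSpectrum A) ∈ Module.support A H' :=
    Groth.Agent.Lib.Helper4.mem_support_of_mem_associatedPrimes hq
  have h1 : (⟨q, hqprime⟩ : PrimeSpectrum A) ∈ Module.support A H :=
    Module.support_subset_of_injective H'.subtype Subtype.val_injective hqsupp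
  have h2 := hsupp h1
  rw [Module.mem_support_iff_of_finite] at h2
  have hrq : r ∈ q := h2 hr
  have h3 : r ∈ ({r | IsSMulRegular H' r}ᶜ : Set A) := by
    rw [← biUnion_associatedPrimes_eq_compl_regular A H']
    exact Set.mem_biUnion hq hrq
  exact h3 hreg

end Groth.Agent.S5163
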