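import Groth.Statements.S5164
import Groth.Agent.Lib.Helper4.StalkDual2

set_option autoImplicit false
universe u
open LocCoh

namespace Groth.Agent.S5164

/-- Affine form. Let A be a Noetherian ring which is a quotient of a regular ring, I an ideal, M a
finite A-module and i ≥ 0; c(p) denotes the codimension of V(p) ∩ V(I) in V(p). Then the hypothesis
of the finiteness criterion — H^{i−c(p)}_{pA_p}(M_p) = 0 for all primes p ⊉ I — is equivalent to its
codimension-one case: H^{i−1}_{pA_p}(M_p) = 0 for all primes p ⊉ I with c(p) = 1. -/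
theorem result (R : Type u) [CommRing R] [IsRegularRing R] (A : Type u) [CommRing A] [IsNoetherianRing A] (π : R →+* A) (hπ : Function.Surjective π) (I : Ideal A) (M : Type u) [AddCommGroup M] [Module A M] [Module.Finite A M] (i : ℕ) : (∀ p : PrimeSpectrum A, ¬ I ≤ p.asIdeal → ∀ (c j : ℕ), SGA2.relCodim I p = c → j + c = i → Subsingleton (LocCoh.H (IsLocalRing.maximalIdeal (Localization.AtPrime p.asIdeal)) j (LocalizedModule p.asIdeal.primeCompl M))) ↔ (∀ p : PrimeSpectrum A, ¬ I ≤ p.asIdeal → SGA2.relCodim I p = 1 → ∀ j : ℕ, j + 1 = i → Subsingleton (LocCoh.H (IsLocalRing.maximalIdeal (Localization.AtPrime p.asIdeal)) j (LocalizedModule p.asIdeal.primeCompl M))) := by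
  constructor
  · intro h p hp hc1 j hj
    exact h p hp 1 j (by rw [hc1, Nat.cast_one]) hj
  · intro h1 p hp c j hc hj
    obtain ⟨p', hpp', hIp', hc1, hht⟩ :=
      Groth.Agent.Lib.Helper4.exists_relCodim_eq_one I p hp c hc
    rw [Groth.Agent.Lib.Helper4.height_Ici_eq p p' hpp'] at hht
    haveI := p.2
    haveI := p'.2
    have hne : (p'.asIdeal.map (Ideal.Quotient.mk p.asIdeal)).height ≠ ⊤ := by
      intro htop
      rw [htop, top_add] at hht
      exact ENat.top_ne_coe c hht
    obtain ⟨d, hd⟩ : ∃ d : ℕ, (p'.asIdeal.map (Ideal.Quotient.mk p.asIdeal)).height = d :=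
      ⟨_, (ENat.coe_toNat hne).symm⟩
    rw [hd] at hht
    have hdc : d + 1 = c := by exact_mod_cast hht
    have h2 := h1 p' hIp' hc1 (j + d) (by omega)
    exact Groth.Agent.Lib.Helper4.StalkDual.H_stalk_vanishing_of_le R A π hπ M p.asIdeal
      p'.asIdeal hpp' j d hd h2

end Groth.Agent.S5164
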