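import Groth.Statements.S5166
import Mathlib

set_option autoImplicit false
universe u
open LocCoh

namespace Groth.Agent.S5166

/-- In its local form at a point y ∈ Y (A = O_{X,y}). Let A be a Noetherian local ring and I ≠ A an
ideal contained in no minimal prime of A. Then some prime p ⊉ I has dim A/p = 1. -/
theorem result (A : Type u) [CommRing A] [IsLocalRing A] [IsNoetherianRing A] (I : Ideal A) (hI : I ≠ ⊤) (hdense : ∀ q ∈ minimalPrimes A, ¬ I ≤ q) : ∃ p : PrimeSpectrum A, ¬ I ≤ p.asIdeal ∧ ringKrullDim (A ⧸ p.asIdeal) = 1 := by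
  classical
  obtain ⟨S, hS⟩ : ∃ S : Set (Ideal A), S = {q | q.IsPrime ∧ ¬ I ≤ q} := ⟨_, rfl⟩
  have hSne : S.Nonempty := by
    obtain ⟨q, hq, -⟩ := Ideal.exists_minimalPrimes_le (I := (⊥ : Ideal A))
      (J := IsLocalRing.maximalIdeal A) bot_le
    refine ⟨q, ?_⟩
    rw [hS]
    exact ⟨hq.1.1, hdense q hq⟩
  obtain ⟨p, hpS, hpmax⟩ : ∃ p : Ideal A, p ∈ S ∧ ∀ J ∈ S, ¬ p < J :=
    set_has_maximal_iff_noetherian.mpr (inferInstance : IsNoetherian A A) S hSne
  rw [hS] at hpS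
  obtain ⟨hpprime, hpI⟩ := hpS
  haveI := hpprime
  refine ⟨⟨p, hpprime⟩, hpI, ?_⟩
  change ringKrullDim (A ⧸ p) = 1
  haveI : IsLocalRing (A ⧸ p) :=
    IsLocalRing.of_surjective' (Ideal.Quotient.mk p) Ideal.Quotient.mk_surjective
  obtain ⟨a, haI, hap⟩ := SetLike.not_le_iff_exists.mp hpI
  obtain ⟨ab, hab⟩ : ∃ ab : A ⧸ p, ab = Ideal.Quotient.mk p a := ⟨_, rfl⟩
  have ha0 : ab ≠ 0 := by
    rw [hab, Ne, Ideal.Quotient.eq_zero_iff_mem]; exact hap
  have hcont : ∀ Q : Ideal (A ⧸ p), Q.IsPrime → Q ≠ ⊥ → ab ∈ Q := by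
    intro Q hQ hQ0
    haveI := hQ
    have hq : (Q.comap (Ideal.Quotient.mk p)).IsPrime := inferInstance
    have hle : p ≤ Q.comap (Ideal.Quotient.mk p) := by
      intro x hx
      rw [Ideal.mem_comap, Ideal.Quotient.eq_zero_iff_mem.mpr hx]
      exact Q.zero_mem
    have hne : p ≠ Q.comap (Ideal.Quotient.mk p) := by
      intro heq
      apply hQ0
      rw [eq_bot_iff]
      intro b hb
      obtain ⟨x, rfl⟩ := Ideal.Quotient.mk_surjective b
      have hx : x ∈ Q.comap (Ideal.Quotient.mk p) := hb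
      rw [← heq] at hx
      rw [Ideal.mem_bot, Ideal.Quotient.eq_zero_iff_mem]; exact hx
    have hlt : p < Q.comap (Ideal.Quotient.mk p) := lt_of_le_of_ne hle hne
    have hnotS : Q.comap (Ideal.Quotient.mk p) ∉ S := fun h => hpmax _ h hlt
    rw [hS] at hnotS
    have hIq : I ≤ Q.comap (Ideal.Quotient.mk p) := by
      by_contra h
      exact hnotS ⟨hq, h⟩
    rw [hab]
    exact hIq haI
  have hchain : ∀ P₁ P₂ : Ideal (A ⧸ p), P₁.IsPrime → P₁ ≠ ⊥ → P₁ < P₂ → ¬ P₂.height ≤ 1 := by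
    intro P₁ P₂ h1 h10 hlt h3
    haveI := h1
    have e1 : (⊥ : Ideal (A ⧸ p)).height < P₁.height :=
      Ideal.height_strict_mono_of_isPrime (bot_lt_iff_ne_bot.mpr h10)
    have e2 : P₁.height < P₂.height := Ideal.height_strict_mono_of_isPrime hlt
    have e3 : P₁.height < 1 := lt_of_lt_of_le e2 h3
    have e4 : P₁.height = 0 := ENat.lt_one_iff_eq_zero.mp e3
    rw [e4] at e1
    exact absurd e1 (by simp)
  have hnf : ¬ IsField (A ⧸ p) := by
    intro hf
    have hmax : p.IsMaximal := Ideal.Quotient.maximal_of_isField p hf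
    have hpm : p = IsLocalRing.maximalIdeal A := IsLocalRing.eq_maximalIdeal hmax
    apply hpI
    rw [hpm]
    exact IsLocalRing.le_maximalIdeal hI
  have hmaxl : ∀ Q : Ideal (A ⧸ p), Q ≠ ⊥ → Q.IsPrime → Q.IsMaximal := by
    intro Q hQ0 hQ
    haveI := hQ
    by_contra hQmax
    have hQle : Q ≤ IsLocalRing.maximalIdeal (A ⧸ p) := IsLocalRing.le_maximalIdeal hQ.ne_top
    have hQlt : Q < IsLocalRing.maximalIdeal (A ⧸ p) := by
      refine lt_of_le_of_ne hQle ?_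
      intro h
      exact hQmax (h ▸ IsLocalRing.maximalIdeal.isMaximal _)
    have hT := Ideal.finite_minimalPrimes_of_isNoetherianRing (A ⧸ p) (Ideal.span {ab})
    have hTh : ∀ q ∈ (Ideal.span {ab}).minimalPrimes, q.height ≤ 1 := fun q hq =>
      Ideal.height_le_one_of_isPrincipal_of_mem_minimalPrimes (Ideal.span {ab}) q hq
    obtain ⟨q₀, hq₀, hq₀Q⟩ := Ideal.exists_minimalPrimes_le (I := Ideal.span {ab}) (J := Q)
      ((Ideal.span_singleton_le_iff_mem _).mpr (hcont Q hQ hQ0))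
    have hnotsub : ¬ ((IsLocalRing.maximalIdeal (A ⧸ p) : Set (A ⧸ p)) ⊆
        ⋃ q ∈ (Ideal.span {ab}).minimalPrimes, ((fun q : Ideal (A ⧸ p) => q) q : Set (A ⧸ p))) := by
      intro hsub
      obtain ⟨q, hq, hmq⟩ := (Ideal.subset_union_prime_finite hT (f := fun q => q) q₀ q₀
        (fun q hq _ _ => hq.1.1)).mp hsub
      have hqm : q = IsLocalRing.maximalIdeal (A ⧸ p) :=
        ((IsLocalRing.maximalIdeal.isMaximal _).eq_of_le hq.1.1.ne_top hmq).symm
      refine hchain Q _ hQ hQ0 hQlt ?_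
      rw [← hqm]
      exact hTh q hq
    obtain ⟨b, hbm, hbU⟩ := Set.not_subset.mp hnotsub
    obtain ⟨Q', hQ', hQ'm⟩ := Ideal.exists_minimalPrimes_le (I := Ideal.span {b})
      (J := IsLocalRing.maximalIdeal (A ⧸ p)) ((Ideal.span_singleton_le_iff_mem _).mpr hbm)
    have hbQ' : b ∈ Q' := hQ'.1.2 (Ideal.mem_span_singleton_self b)
    have hb0 : b ≠ 0 := by
      rintro rfl
      exact hbU (Set.mem_biUnion hq₀ q₀.zero_mem)
    have hQ'0 : Q' ≠ ⊥ := by
      intro h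
      rw [h] at hbQ'
      exact hb0 (by simpa using hbQ')
    have hQ'prime : Q'.IsPrime := hQ'.1.1
    obtain ⟨q₁, hq₁, hq₁Q'⟩ := Ideal.exists_minimalPrimes_le (I := Ideal.span {ab}) (J := Q')
      ((Ideal.span_singleton_le_iff_mem _).mpr (hcont Q' hQ'prime hQ'0))
    have hq₁0 : q₁ ≠ ⊥ := by
      intro h
      have h2 : ab ∈ q₁ := hq₁.1.2 (Ideal.mem_span_singleton_self ab)
      rw [h] at h2
      exact ha0 (by simpa using h2)
    have hq₁eq : q₁ = Q' := by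
      by_contra hne
      exact hchain q₁ Q' hq₁.1.1 hq₁0 (lt_of_le_of_ne hq₁Q' hne)
        (Ideal.height_le_one_of_isPrincipal_of_mem_minimalPrimes (Ideal.span {b}) Q' hQ')
    apply hbU
    refine Set.mem_biUnion hq₁ ?_
    change b ∈ q₁
    rw [hq₁eq]; exact hbQ'
  have h0 : ¬ ringKrullDim (A ⧸ p) ≤ 0 := fun h ↦ by
    have : Ring.KrullDimLE 0 (A ⧸ p) := Ring.krullDimLE_iff.mpr h
    exact hnf Ring.KrullDimLE.isField_of_isDomain
  have h1 : Ring.KrullDimLE 1 (A ⧸ p) := Ring.krullDimLE_one_iff_of_noZeroDivisors.mpr hmaxl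
  rw [Ring.krullDimLE_iff] at h1
  exact le_antisymm h1 (Order.succ_le_of_lt (lt_of_not_ge h0))

end Groth.Agent.S5166
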