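import Groth.Statements.S5167
import Mathlib
import Groth.Agent.Lib.Helper4.FaltLocal

set_option autoImplicit false
universe u
open LocCoh

namespace Groth.Agent.S5167

/-- Let A be a Noetherian local ring which is a quotient of a regular local ring, m its maximal ideal, M
a finite A-module and n ≥ 0. Then H^i_m(M) is of finite length for all i ≤ n if and only if
depth(M_p) > n − dim(A/p) for every prime p ≠ m. -/
theorem result (R : Type u) [CommRing R] [IsRegularLocalRing R] (A : Type u) [CommRing A] [IsLocalRing A] [IsNoetherianRing A] (π : R →+* A) (hπ : Function.Surjective π) (M : Type u) [AddCommGroup M] [Module A M] [Module.Finite A M] (n : ℕ) : (∀ i : ℕ, i ≤ n → IsFiniteLength A (LocCoh.H (IsLocalRing.maximalIdeal A) i M)) ↔ ∀ p : PrimeSpectrum A, p.asIdeal ≠ IsLocalRing.maximalIdeal A → ∀ e : ℕ, ringKrullDim (A ⧸ p.asIdeal) = e → (n : ℕ∞) < LocCoh.depth (Localization.AtPrime p.asIdeal) (LocalizedModule p.asIdeal.primeCompl M) + e := by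
  haveI : IsRegularRing R :=
    Groth.Agent.Lib.Helper26.RegularRing.isRegularRing_of_isRegularLocalRing R
  have hA : (∀ i : ℕ, i ≤ n → IsFiniteLength A (LocCoh.H (IsLocalRing.maximalIdeal A) i M)) ↔
      (∀ i : ℕ, i ≤ n → Module.Finite A (LocCoh.H (IsLocalRing.maximalIdeal A) i M)) := by
    constructor
    · intro h i hi
      exact (Groth.Agent.Lib.Helper4.Falt.isFiniteLength_iff_finite M i).1 (h i hi)
    · intro h i hi
      exact (Groth.Agent.Lib.Helper4.Falt.isFiniteLength_iff_finite M i).2 (h i hi)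
  rw [hA, Groth.Agent.Lib.Helper4.Falt.finite_iff_lt_minAdjDepth R A π hπ,
    Groth.Agent.Lib.Helper4.Falt.lt_minAdjDepth_iff]
  constructor
  · intro h p hp e he
    have h1 := h p ((Groth.Agent.Lib.Helper4.Falt.not_maximalIdeal_le_iff p).2 hp)
    rwa [Groth.Agent.Lib.Helper4.Falt.adjDepth_maximalIdeal M p e he] at h1
  · intro h p hp
    haveI := p.2
    obtain ⟨e, he⟩ := Groth.Agent.Lib.Helper4.Falt.exists_nat_ringKrullDim_quotient p.asIdeal
    rw [Groth.Agent.Lib.Helper4.Falt.adjDepth_maximalIdeal M p e he]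
    exact h p ((Groth.Agent.Lib.Helper4.Falt.not_maximalIdeal_le_iff p).1 hp) e he

end Groth.Agent.S5167
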