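import Groth.Statements.S5170
import Mathlib
import Groth.Agent.Lib.Helper4.Matlis

set_option autoImplicit false
universe u
open Matlis

namespace Groth.Agent.S5170

/-- Applied to the dualizing functor Hom_A(−, E). Let A be a Noetherian local ring, E an injective hull
of the residue field and M an A-module of finite length. Then length Hom_A(M, E) = length M. -/
theorem result (A : Type u) [CommRing A] [IsLocalRing A] [IsNoetherianRing A] (E : Type u) [AddCommGroup E] [Module A E] (f : IsLocalRing.ResidueField A →ₗ[A] E) (hf : InjHull.IsInjectiveHull f) (M : Type u) [AddCommGroup M] [Module A M] (hM : IsFiniteLength A M) : Module.length A (M →ₗ[A] E) = Module.length A M := by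
  have hinj : Module.Injective A E := hf.isInjective
  have hsimple : IsSimpleModule A (IsLocalRing.ResidueField A →ₗ[A] E) :=
    Groth.Agent.Lib.Helper4.Matlis.isSimpleModule_hom_of_isEssentialInj hf.toIsEssentialInj
  induction hM with
  | of_subsingleton =>
    rename_i M _ _ _
    haveI : Subsingleton (M →ₗ[A] E) :=
      ⟨fun g h => LinearMap.ext fun x => by rw [Subsingleton.elim x 0, map_zero, map_zero]⟩
    rw [Module.length_eq_zero, Module.length_eq_zero]
  | @of_simple_quotient M _ _ N hs hN ih =>
    have h1 : Module.length A M = Module.length A N + Module.length A (M ⧸ N) :=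
      Module.length_eq_add_of_exact N.subtype N.mkQ N.injective_subtype N.mkQ_surjective
        (LinearMap.exact_subtype_mkQ N)
    have h2 : Module.length A (M ⧸ N) = 1 := Module.length_eq_one_iff.mpr hs
    obtain ⟨f', hf'def⟩ : ∃ f' : ((M ⧸ N) →ₗ[A] E) →ₗ[A] (M →ₗ[A] E),
      f' = LinearMap.lcomp A E N.mkQ := ⟨_, rfl⟩
    obtain ⟨g', hg'def⟩ : ∃ g' : (M →ₗ[A] E) →ₗ[A] (N →ₗ[A] E),
      g' = LinearMap.lcomp A E N.subtype := ⟨_, rfl⟩
    have hf'a : ∀ (h : (M ⧸ N) →ₗ[A] E) (x : M), f' h x = h (N.mkQ x) := by
      intro h x; rw [hf'def]; rfl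
    have hg'a : ∀ (h : M →ₗ[A] E) (x : N), g' h x = h x := by
      intro h x; rw [hg'def]; rfl
    have hf' : Function.Injective f' := by
      intro a b hab
      refine LinearMap.ext fun x => ?_
      obtain ⟨y, rfl⟩ := N.mkQ_surjective x
      have := LinearMap.congr_fun hab y
      rwa [hf'a, hf'a] at this
    have hg' : Function.Surjective g' := by
      intro h
      obtain ⟨h', hh'⟩ := Module.Injective.extension_property A E N M N.subtype
        N.injective_subtype h
      refine ⟨h', LinearMap.ext fun x => ?_⟩
      rw [hg'a, ← hh']; rfl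
    have hex : Function.Exact f' g' := by
      intro h
      constructor
      · intro hh
        have hle : N ≤ LinearMap.ker h := by
          intro x hx
          rw [LinearMap.mem_ker]
          have := LinearMap.congr_fun hh ⟨x, hx⟩
          rwa [hg'a] at this
        refine ⟨N.liftQ h hle, LinearMap.ext fun x => ?_⟩
        rw [hf'a]; rfl
      · rintro ⟨h', rfl⟩
        refine LinearMap.ext fun x => ?_
        rw [hg'a, hf'a, Submodule.mkQ_apply, (Submodule.Quotient.mk_eq_zero N).mpr x.2, map_zero]
        rfl
    have h3 := Module.length_eq_add_of_exact f' g' hf' hg' hex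
    have h4 : Module.length A ((M ⧸ N) →ₗ[A] E) = 1 := by
      obtain ⟨I, hImax, ⟨e⟩⟩ := isSimpleModule_iff_quot_maximal.mp hs
      have hI : I = IsLocalRing.maximalIdeal A := IsLocalRing.eq_maximalIdeal hImax
      subst hI
      have e' : (M ⧸ N) ≃ₗ[A] IsLocalRing.ResidueField A := e
      have e'' := LinearEquiv.congrLeft E A e'
      rw [e''.length_eq]
      exact Module.length_eq_one_iff.mpr hsimple
    rw [h3, h4, ih, h1, h2, add_comm]

end Groth.Agent.S5170
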