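import Mathlib
import Groth.Agent.Lib.Helper28.DepthLoc
import Groth.Agent.Lib.Helper4.LC3
import Groth.Statements.S5171
-- import your own Groth.Agent.* helpers here

set_option autoImplicit false
universe u
open LocCoh

namespace Groth.Agent.S5171

/-- Let A be a Noetherian ring, J an ideal, n ≥ 0 and G a finite Cohen–Macaulay A-module (each
localization G_p is zero or Cohen–Macaulay). Then H^i_J(G) = 0 for i < n if and only if codim(V(J) ∩
Supp G, Supp G) ≥ n, i.e. dim Supp(G_p) ≥ n for every p ∈ V(J) ∩ Supp G. -/
theorem result (A : Type u) [CommRing A] [IsNoetherianRing A] (J : Ideal A) (G : Type u) [AddCommGroup G] [Module A G] [Module.Finite A G] (hCM : ∀ p : PrimeSpectrum A, Subsingleton (LocalizedModule p.asIdeal.primeCompl G) ∨ LocCoh.IsCohenMacaulayModule (Localization.AtPrime p.asIdeal) (LocalizedModule p.asIdeal.primeCompl G)) (n : ℕ) : (∀ i : ℕ, i < n → Subsingleton (LocCoh.H J i G)) ↔ ∀ p : PrimeSpectrum A, J ≤ p.asIdeal → p ∈ Module.support A G → (n : WithBot ℕ∞) ≤ Module.supportDim (Localization.AtPrime p.asIdeal) (LocalizedModule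 p.asIdeal.primeCompl G) := by
  open Groth.Agent.Lib.Helper4 Groth.Agent.Lib.Helper4.LC Groth.Agent.Lib.Helper28 in
  constructor
  · intro hvan p hJp hp
    haveI : Nontrivial (LocalizedModule p.asIdeal.primeCompl G) :=
      (Module.mem_support_iff (p := p)).1 hp
    have hIM : J • (⊤ : Submodule A G) ≠ ⊤ := by
      intro h
      have := subsingleton_localizedModule_of_smul_top_eq (M := G) J p.asIdeal hJp h
      exact false_of_nontrivial_of_subsingleton (LocalizedModule p.asIdeal.primeCompl G)
    have hne := idealDepth_ne_top J hIM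
    obtain ⟨d, hd⟩ := ENat.ne_top_iff_exists.1 hne
    have hnd : n ≤ d := by
      by_contra hlt
      push Not at hlt
      have h3 := hvan d hlt
      rw [subsingleton_H_iff] at h3
      haveI hnt := HH.nontrivial_of_idealDepth_eq J d (ModuleCat.of A G) hIM hd.symm
      exact not_subsingleton _ h3
    have h1 := idealDepth_le_supportDim_localization (M := G) J p.asIdeal hJp
    rw [← hd] at h1
    refine le_trans ?_ h1
    exact_mod_cast hnd
  · intro h i hi
    rw [subsingleton_H_iff]
    apply HH.subsingleton_of_lt_idealDepth J (ModuleCat.of A G) i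
    refine lt_of_lt_of_le (b := (n : ℕ∞)) (by exact_mod_cast hi) ?_
    apply le_idealDepth_of_forall_localization (M := G) J n
    intro p _ hJp hnt
    have hp : (⟨p, inferInstance⟩ : PrimeSpectrum A) ∈ Module.support A G :=
      (Module.mem_support_iff (p := ⟨p, inferInstance⟩)).2 hnt
    have h1 := h ⟨p, inferInstance⟩ hJp hp
    rcases hCM ⟨p, inferInstance⟩ with hs | hcm
    · exact absurd hs (not_subsingleton_iff_nontrivial.2 hnt)
    · rw [LocCoh.IsCohenMacaulayModule] at hcm
      rw [hcm] at h1
      exact_mod_cast h1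

end Groth.Agent.S5171
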