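import Groth.Statements.S5172
import Mathlib
import Groth.Agent.Lib.Helper4.RelCodim
import Groth.Agent.S11650

set_option autoImplicit false
universe u
open LocCoh

namespace Groth.Agent.S5172

/-- Let A be a Noetherian ring which is a quotient of a regular ring, I an ideal, M a finite A-module
and n ≥ 0; c(p) = codim(V(p) ∩ V(I), V(p)). Then depth M_p > n − c(p) for all primes p ⊉ I if and
only if depth M_p ≥ n for all primes p ⊉ I with c(p) = 1. -/
theorem result (R : Type u) [CommRing R] [IsRegularRing R] (A : Type u) [CommRing A] [IsNoetherianRing A] (π : R →+* A) (hπ : Function.Surjective π) (I : Ideal A) (M : Type u) [AddCommGroup M] [Module A M] [Module.Finite A M] (n : ℕ) : (∀ p : PrimeSpectrum A, ¬ I ≤ p.asIdeal → (n : ℕ∞) < LocCoh.depth (Localization.AtPrime p.asIdeal) (LocalizedModule p.asIdeal.primeCompl M) + SGA2.relCodim I p) ↔ (∀ p : PrimeSpectrum A, ¬ I ≤ p.asIdeal → SGA2.relCodim I p = 1 → (n : ℕ∞) ≤ LocCoh.depth (Localization.AtPrime p.asIdeal) (LocalizedModule p.asIdeal.primeCompl M))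 := by
  constructor
  · intro h p hp hc
    have h1 := h p hp
    rw [hc] at h1
    by_cases hd : LocCoh.depth (Localization.AtPrime p.asIdeal)
        (LocalizedModule p.asIdeal.primeCompl M) = ⊤
    · rw [hd]; exact le_top
    · exact (ENat.lt_add_one_iff hd).mp h1
  · intro h p hp
    by_cases hctop : SGA2.relCodim I p = ⊤
    · rw [hctop, add_top]; exact ENat.coe_lt_top n
    obtain ⟨c, hc⟩ := ENat.ne_top_iff_exists.mp hctop
    obtain ⟨p', hpp', hIp', hc', hht⟩ :=
      Groth.Agent.Lib.Helper4.exists_relCodim_eq_one I p hp c hc.symm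
    have h1 := h p' hIp' hc'
    have h2 := Groth.Agent.S11650.result A M p.asIdeal p'.asIdeal hpp'
    rw [← Groth.Agent.Lib.Helper4.height_Ici_eq p p' hpp'] at h2
    rw [← hc]
    by_cases hd : LocCoh.depth (Localization.AtPrime p.asIdeal)
        (LocalizedModule p.asIdeal.primeCompl M) = ⊤
    · rw [hd, top_add]; exact ENat.coe_lt_top n
    obtain ⟨d, hd'⟩ := ENat.ne_top_iff_exists.mp hd
    have hxfin : Order.height (⟨p', hpp'⟩ : Set.Ici p) ≠ ⊤ := by
      intro htop
      rw [htop, top_add] at hht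
      exact ENat.top_ne_coe c hht
    obtain ⟨x, hx⟩ := ENat.ne_top_iff_exists.mp hxfin
    rw [← hd', ← hx] at h2
    rw [← hx] at hht
    rw [← hd']
    have h3 : (n : ℕ∞) ≤ (d : ℕ∞) + (x : ℕ∞) := le_trans h1 h2
    have h4 : n ≤ d + x := by exact_mod_cast h3
    have h5 : x + 1 = c := by exact_mod_cast hht
    have h6 : n < d + c := by omega
    exact_mod_cast h6

end Groth.Agent.S5172
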