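import Mathlib
import Groth.Agent.Lib.Helper20.ExtRep
import Groth.Statements.S5174
-- import your own Groth.Agent.* helpers here

set_option autoImplicit false
universe u
open CategoryTheory Opposite
open LocCoh

namespace Groth.Agent.S5174

/-- Affine case with Z = X. Let A be a Noetherian ring, J an ideal, G any A-module and n ≥ 0 with
Ext^{n−1}_A(F', G) = 0 for all finite F' supported in V(J). Then for every finite A-module F with
Supp F ⊆ V(J) there is an A-linear isomorphism Ext^n_A(F, G) ≅ Hom_A(F, H^n_J(G)). (Existence of the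
isomorphism is asserted; in the source it is the canonical one expressing that Ext^n_A(−, G), left
exact on such F, is represented by H^n_J(G).) -/
theorem result (A : Type u) [CommRing A] [IsNoetherianRing A] (J : Ideal A) (G : Type u) [AddCommGroup G] [Module A G] (n : ℕ) (hvan : ∀ (F' : Type u) [AddCommGroup F'] [Module A F'], Module.Finite A F' → Module.support A F' ⊆ PrimeSpectrum.zeroLocus (J : Set A) → ∀ i : ℕ, i + 1 = n → Subsingleton (((Ext A (ModuleCat.{u} A) i).obj (op (ModuleCat.of A F'))).obj (ModuleCat.of A G))) (F : Type u) [AddCommGroup F] [Module A F] [Module.Finite A F] (hF : Module.support A F ⊆ PrimeSpectrum.zeroLocus (J : Set A)) : Nonempty ((((Ext A (ModuleCat.{u} A) n).obj (op (ModuleCat.of A F))).obj (ModuleCat.of A G)) ≃ₗ[A] (F →ₗ[A] LocCoh.H J n G)) := by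
  open Groth.Agent.Lib.Helper4.LC Groth.Agent.Lib.Helper4.LCBridge Groth.Agent.Lib.Helper20.ExtRep in
  have hV : Van J (ModuleCat.of A G) n := by
    intro K k hKfin hK i hi
    have hsupp : Module.support A K ⊆ PrimeSpectrum.zeroLocus (J : Set A) := by
      intro p hp
      have h1 : Module.annihilator A K ≤ p.asIdeal := Module.mem_support_iff_of_finite.1 hp
      have h2 : J ^ k ≤ Module.annihilator A K := by
        intro r hr
        rw [Module.mem_annihilator]
        exact hK r hr
      exact Ideal.IsPrime.le_of_pow_le (h2.trans h1)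
    haveI := hvan K hKfin hsupp i hi
    exact (extBridge (R := A) K (ModuleCat.of A G) i).symm.toEquiv.subsingleton
  have hk : ∃ k, Killed J k (ModuleCat.of A F) := by
    rw [Module.support_eq_zeroLocus, PrimeSpectrum.zeroLocus_subset_zeroLocus_iff] at hF
    obtain ⟨k, hk⟩ := Ideal.exists_pow_le_of_le_radical_of_fg hF
      ((isNoetherianRing_iff_ideal_fg A).1 inferInstance J)
    exact ⟨k, fun r hr f => Module.mem_annihilator.1 (hk hr) f⟩
  obtain ⟨k, hk⟩ := hk
  obtain ⟨e⟩ := nonempty_equiv hV (ModuleCat.of A F) hk
  exact ⟨(extBridge (R := A) (ModuleCat.of A F) (ModuleCat.of A G) n).trans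
    (e.trans (LinearEquiv.congrRight (lcEquiv J (ModuleCat.of A G) n).symm))⟩

end Groth.Agent.S5174
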