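import Groth.Statements.S5175
import Mathlib
import Groth.Agent.Lib.Helper4.Matlis2

set_option autoImplicit false
universe u
open Matlis

namespace Groth.Agent.S5175

/-- Let k₀ be a field and A a Noetherian local k₀-algebra with [k : k₀] finite, k the residue field.
Then the topological dual A' = colim_n Hom_{k₀}(A/m^n, k₀), i.e. the submodule of Hom_{k₀}(A, k₀) of
forms killing some power of m (A acting through the source), is an injective hull of k (it is the
dualizing module of A). -/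
theorem result (k₀ : Type u) [Field k₀] (A : Type u) [CommRing A] [IsLocalRing A] [IsNoetherianRing A] [Algebra k₀ A] [Module.Finite k₀ (A ⧸ IsLocalRing.maximalIdeal A)] : ∃ f : IsLocalRing.ResidueField A →ₗ[A] ↥(⨆ n : ℕ, Submodule.torsionBySet A ((ModuleCat.coextendScalars (algebraMap k₀ A)).obj (ModuleCat.of k₀ k₀)) ((IsLocalRing.maximalIdeal A ^ n : Ideal A) : Set A)), InjHull.IsInjectiveHull f := by
  classical
  suffices H : ∀ E : Submodule A (Groth.Agent.Lib.Helper4.Matlis.Dmod k₀ A),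
      E = (⨆ n : ℕ, Submodule.torsionBySet A (Groth.Agent.Lib.Helper4.Matlis.Dmod k₀ A)
        ((IsLocalRing.maximalIdeal A ^ n : Ideal A) : Set A)) →
      ∃ f : IsLocalRing.ResidueField A →ₗ[A] ↥E, InjHull.IsInjectiveHull f from H _ rfl
  intro E hE
  have hdir : Directed (· ≤ ·) (fun n : ℕ => Submodule.torsionBySet A
      (Groth.Agent.Lib.Helper4.Matlis.Dmod k₀ A)
      ((IsLocalRing.maximalIdeal A ^ n : Ideal A) : Set A)) :=
    Monotone.directed_le (fun i j hij => Submodule.torsionBySet_le_torsionBySet_pow i j hij _)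
  have hmemE : ∀ ψ : Groth.Agent.Lib.Helper4.Matlis.Dmod k₀ A,
      ψ ∈ E ↔ ∃ n : ℕ, ∀ a ∈ IsLocalRing.maximalIdeal A ^ n, a • ψ = 0 := by
    intro ψ
    rw [hE, Submodule.mem_iSup_of_directed _ hdir]
    constructor
    · rintro ⟨n, hn⟩
      refine ⟨n, fun a ha => ?_⟩
      exact (Submodule.mem_torsionBySet_iff _ _).mp hn ⟨a, ha⟩
    · rintro ⟨n, hn⟩
      refine ⟨n, (Submodule.mem_torsionBySet_iff _ _).mpr ?_⟩
      rintro ⟨a, ha⟩
      exact hn a ha
  rw [Groth.Agent.Lib.Helper4.Matlis.exists_isInjectiveHull_iff]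
  have hpt : LocCoh.IsPowerTorsion (IsLocalRing.maximalIdeal A) ↥E := by
    intro x
    obtain ⟨n, hn⟩ := (hmemE x.1).mp x.2
    exact ⟨n, fun a ha => Subtype.ext (hn a ha)⟩
  refine ⟨?_, hpt, ?_⟩
  · rw [Groth.Agent.S5168.result A (IsLocalRing.maximalIdeal A) ↥E hpt]
    intro M _ _ hfin hk N g
    obtain ⟨k, hk⟩ := hk
    have hinjD := Groth.Agent.Lib.Helper4.Matlis.injective_Dmod (k₀ := k₀) (A := A)
    obtain ⟨G, hG⟩ := Module.Injective.extension_property A
      (Groth.Agent.Lib.Helper4.Matlis.Dmod k₀ A) N M N.subtype N.injective_subtype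
      (E.subtype ∘ₗ g)
    have hGE : ∀ x : M, G x ∈ E := by
      intro x
      rw [hmemE]
      refine ⟨k, fun a ha => ?_⟩
      rw [← map_smul]
      have h1 : a • x ∈ (IsLocalRing.maximalIdeal A ^ k) • (⊤ : Submodule A M) :=
        Submodule.smul_mem_smul ha Submodule.mem_top
      rw [hk] at h1
      rw [(Submodule.mem_bot A).mp h1, map_zero]
    refine ⟨G.codRestrict E hGE, ?_⟩
    refine LinearMap.ext fun x => Subtype.ext ?_
    exact LinearMap.congr_fun hG x
  · obtain ⟨ψ₀, hψ₀ne, hψ₀m, hgen⟩ :=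
      Groth.Agent.Lib.Helper4.Matlis.exists_socle_generator (k₀ := k₀) (A := A)
    have hψ₀E : ψ₀ ∈ E := by
      rw [hmemE]
      refine ⟨1, fun a ha => ?_⟩
      rw [pow_one] at ha
      exact hψ₀m a ha
    refine Groth.Agent.Lib.Helper4.Matlis.isSimpleModule_hom_of_socle (⟨ψ₀, hψ₀E⟩ : ↥E) ?_ ?_ ?_
    · intro h; exact hψ₀ne (congrArg Subtype.val h)
    · intro b hb; exact Subtype.ext (hψ₀m b hb)
    · intro x hx
      obtain ⟨a, ha⟩ := hgen x.1 (fun b hb => congrArg Subtype.val (hx b hb))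
      exact ⟨a, Subtype.ext ha⟩

end Groth.Agent.S5175
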