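import Groth.Statements.S5176
import Groth.Agent.Lib.Helper13.FlatPullback
import Groth.Agent.Lib.Helper13.EtaleRestr
import Groth.Agent.Lib.Helper2.RDBridge

set_option autoImplicit false
universe u
open CategoryTheory CategoryTheory.Limits AlgebraicGeometry Opposite
open EtDepth

namespace Groth.Agent.S5176


open Groth.Agent.Lib.Helper13 Groth.Agent.Lib.Helper13.FlatPullback Groth.Agent.Lib.Helper13.EtaleRestr
open Groth.Agent.Lib.Helper2.RDBridge

section General

variable {X U : Scheme.{u}} (j : U ⟶ X)

lemma mono_pushPull {F G : EtCoh.Ab X} (f : F ⟶ G) [Mono f] :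
    Mono ((EtCoh.push j).map ((EtCoh.pull j).map f)) := by
  have h1 : Mono ((EtCoh.pull j).map f) := inferInstance
  have : PreservesLimitsOfSize.{0, 0} (EtCoh.push j) :=
    (EtCoh.pullPushAdj j).rightAdjoint_preservesLimits
  infer_instance

/-- `secSupp j` is left exact. -/
instance secSupp_preservesFiniteLimits : PreservesFiniteLimits (EtDual.secSupp j) := by
  rw [Functor.preservesFiniteLimits_iff_forall_exact_map_and_mono]
  intro S hS
  have := hS.mono_f
  have hf : (EtDual.secSupp j).map S.f ≫ kernel.ι (EtDual.unitApp j S.X₂) =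
      kernel.ι (EtDual.unitApp j S.X₁) ≫ S.f := kernel.lift_ι _ _ _
  have hg : (EtDual.secSupp j).map S.g ≫ kernel.ι (EtDual.unitApp j S.X₃) =
      kernel.ι (EtDual.unitApp j S.X₂) ≫ S.g := kernel.lift_ι _ _ _
  have hmono : Mono ((EtDual.secSupp j).map S.f) := by
    have : Mono ((EtDual.secSupp j).map S.f ≫ kernel.ι (EtDual.unitApp j S.X₂)) := by
      rw [hf]; infer_instance
    exact mono_of_mono _ (kernel.ι (EtDual.unitApp j S.X₂))
  refine ⟨?_, hmono⟩
  have key : ∀ {A : EtCoh.Ab X} (x : A ⟶ kernel (EtDual.unitApp j S.X₂))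
      (_ : x ≫ (EtDual.secSupp j).map S.g = 0),
      ∃ l : A ⟶ kernel (EtDual.unitApp j S.X₁), l ≫ (EtDual.secSupp j).map S.f = x := by
    intro A x hx'
    have h1 : (x ≫ kernel.ι (EtDual.unitApp j S.X₂)) ≫ S.g = 0 := by
      rw [Category.assoc, ← hg, ← Category.assoc, hx', zero_comp]
    let y : A ⟶ S.X₁ := hS.exact.lift _ h1
    have hy : y ≫ S.f = x ≫ kernel.ι (EtDual.unitApp j S.X₂) := hS.exact.lift_f _ h1
    have hmonoT := mono_pushPull j S.f
    have h2 : y ≫ EtDual.unitApp j S.X₁ = 0 := by
      rw [← cancel_mono ((EtCoh.push j).map ((EtCoh.pull j).map S.f)), Category.assoc, zero_comp]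
      have := (EtCoh.pullPushAdj j).unit.naturality S.f
      simp only [Functor.id_obj, Functor.id_map, Functor.comp_obj, Functor.comp_map] at this
      rw [← this, ← Category.assoc, hy, Category.assoc, kernel.condition, comp_zero]
    refine ⟨kernel.lift _ y h2, ?_⟩
    rw [← cancel_mono (kernel.ι (EtDual.unitApp j S.X₂))]
    rw [Category.assoc, hf, ← Category.assoc, kernel.lift_ι, hy]
  apply ShortComplex.exact_of_f_is_kernel
  haveI : Mono (S.map (EtDual.secSupp j)).f := hmono
  exact KernelFork.IsLimit.ofι' _ _ (fun {A} x hx => ⟨(key x hx).choose, (key x hx).choose_spec⟩)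

/-- a morphism killed by `pull j` is killed by the unit. -/
lemma comp_unit_eq_zero_of_pull {A F : EtCoh.Ab X} (m : A ⟶ F) (h : (EtCoh.pull j).map m = 0) :
    m ≫ EtDual.unitApp j F = 0 := by
  have := (EtCoh.pullPushAdj j).unit.naturality m
  simp only [Functor.id_obj, Functor.id_map, Functor.comp_obj, Functor.comp_map] at this
  change m ≫ (EtCoh.pullPushAdj j).unit.app F = 0
  rw [this, h, Functor.map_zero, comp_zero]

lemma pull_eq_zero_of_comp_unit {A F : EtCoh.Ab X} (m : A ⟶ F) (h : m ≫ EtDual.unitApp j F = 0) :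
    (EtCoh.pull j).map m = 0 := by
  apply ((EtCoh.pullPushAdj j).homEquiv _ _).injective
  rw [Adjunction.homEquiv_unit, Adjunction.homEquiv_unit, Functor.map_zero, comp_zero]
  have := (EtCoh.pullPushAdj j).unit.naturality m
  simp only [Functor.id_obj, Functor.id_map, Functor.comp_obj, Functor.comp_map] at this
  rw [← this]
  exact h

/-- sections with support off `U` of a direct image from `U` vanish. -/
lemma isZero_secSupp_push (G : EtCoh.Ab U) :
    IsZero ((EtDual.secSupp j).obj ((EtCoh.push j).obj G)) := by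
  have h1 : kernel.ι (EtDual.unitApp j ((EtCoh.push j).obj G)) = 0 := by
    have ht := (EtCoh.pullPushAdj j).right_triangle_components G
    have hc := kernel.condition (EtDual.unitApp j ((EtCoh.push j).obj G))
    calc kernel.ι (EtDual.unitApp j ((EtCoh.push j).obj G))
        = kernel.ι (EtDual.unitApp j ((EtCoh.push j).obj G)) ≫
            ((EtCoh.pullPushAdj j).unit.app ((EtCoh.push j).obj G) ≫
              (EtCoh.push j).map ((EtCoh.pullPushAdj j).counit.app G)) := by
          rw [ht, Category.comp_id]
      _ = 0 := by rw [← Category.assoc]; erw [hc]; rw [zero_comp]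
  exact IsZero.of_mono_eq_zero _ h1

end General

section Two

variable {X U V : Scheme.{u}} (j : U ⟶ X) (k : V ⟶ X) (j' : U ⟶ V) (hj : j' ≫ k = j)

include hj in
lemma ι_comp_unit_eq_zero (F : EtCoh.Ab X) :
    kernel.ι (EtDual.unitApp k F) ≫ EtDual.unitApp j F = 0 := by
  subst hj
  apply comp_unit_eq_zero_of_pull
  have h1 : (EtCoh.pull k).map (kernel.ι (EtDual.unitApp k F)) = 0 :=
    pull_eq_zero_of_comp_unit k _ (kernel.condition _)
  have h2 := (EtCore.pullComp j' k).hom.naturality (kernel.ι (EtDual.unitApp k F))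
  simp only [Functor.comp_map] at h2
  rw [h1, Functor.map_zero, comp_zero] at h2
  have : Mono ((EtCore.pullComp j' k).hom.app F) := inferInstance
  exact (cancel_mono ((EtCore.pullComp j' k).hom.app F)).1 (by rw [h2, zero_comp])

include hj in
lemma isZero_secSupp_of_isZero (F : EtCoh.Ab X) (h : IsZero ((EtDual.secSupp j).obj F)) :
    IsZero ((EtDual.secSupp k).obj F) := by
  let φ : kernel (EtDual.unitApp k F) ⟶ kernel (EtDual.unitApp j F) :=
    kernel.lift _ (kernel.ι (EtDual.unitApp k F)) (ι_comp_unit_eq_zero j k j' hj F)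
  have hφ : φ ≫ kernel.ι (EtDual.unitApp j F) = kernel.ι (EtDual.unitApp k F) := kernel.lift_ι _ _ _
  have : Mono φ := by
    have : Mono (φ ≫ kernel.ι (EtDual.unitApp j F)) := by rw [hφ]; infer_instance
    exact mono_of_mono _ (kernel.ι (EtDual.unitApp j F))
  exact IsZero.of_mono φ h

end Two

section Shift

variable {C : Type*} [Category C] [Abelian C] [EnoughInjectives C]
  {D : Type*} [Category D] [Abelian D]
  (Fn : C ⥤ D) [Fn.Additive] [PreservesFiniteLimits Fn]

lemma isZero_rightDerived_of_injective_of_isZero (J : C) [Injective J] (hJ : IsZero (Fn.obj J))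
    (p : ℕ) : IsZero ((Fn.rightDerived p).obj J) := by
  cases p with
  | zero => exact IsZero.of_iso hJ (Fn.rightDerivedZeroIsoSelf.app J)
  | succ p => exact Fn.isZero_rightDerived_obj_injective_succ p J

lemma shift_iff (S : ShortComplex C) (hS : S.ShortExact) [Injective S.X₂]
    (hJ : IsZero (Fn.obj S.X₂)) (p : ℕ) :
    IsZero ((Fn.rightDerived (p + 1)).obj S.X₁) ↔ IsZero ((Fn.rightDerived p).obj S.X₃) := by
  obtain ⟨δ, z1, z2, z3, e1, e2, e3⟩ := rightDerived_les' Fn S hS p
  have hz := isZero_rightDerived_of_injective_of_isZero Fn S.X₂ hJ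
  constructor
  · intro h
    exact e2.isZero_of_both_zeros ((hz p).eq_of_src _ _) (h.eq_of_tgt _ _)
  · intro h
    exact e3.isZero_of_both_zeros (h.eq_of_src _ _) ((hz (p + 1)).eq_of_tgt _ _)

end Shift

section Main

variable {X U V : Scheme.{u}} (j : U ⟶ X) [IsOpenImmersion j] (k : V ⟶ X)
  (j' : U ⟶ V) (hj : j' ≫ k = j)

/-- a sheaf without sections supported off `U` embeds into an injective direct image from `U`. -/
lemma exists_embedding (F : EtCoh.Ab X) (hF : IsZero ((EtDual.secSupp j).obj F)) :
    ∃ (G : EtCoh.Ab U) (a : F ⟶ (EtCoh.push j).obj G), Mono a ∧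
      Injective ((EtCoh.push j).obj G) := by
  let I := Injective.under F
  let ι : F ⟶ I := Injective.ι F
  refine ⟨(EtCoh.pull j).obj I, ι ≫ EtDual.unitApp j I, ?_, ?_⟩
  · have hnat := (EtCoh.pullPushAdj j).unit.naturality ι
    simp only [Functor.id_obj, Functor.id_map, Functor.comp_obj, Functor.comp_map] at hnat
    have h1 : Mono (EtDual.unitApp j F) :=
      Preadditive.mono_of_kernel_zero (hF.eq_of_src _ _)
    have h2 := mono_pushPull j ι
    change Mono (ι ≫ (EtCoh.pullPushAdj j).unit.app I)
    rw [hnat]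
    exact mono_comp _ _
  · have hI : Injective ((EtCoh.pull j).obj I) :=
      (EtCoh.pull j).injective_obj_of_injective inferInstance
    have : (EtCoh.pull j).PreservesMonomorphisms := inferInstance
    exact Injective.injective_of_adjoint (EtCoh.pullPushAdj j) _

include hj in
theorem main (n : ℕ) : ∀ (F : EtCoh.Ab X), EtDepth.DepthGE j F n → EtDepth.DepthGE k F n := by
  induction n with
  | zero => intro F _ p hp; omega
  | succ n ih =>
    intro F h
    have hF0 : IsZero ((EtDual.secSupp j).obj F) :=
      IsZero.of_iso (h 0 (by omega)) ((EtDual.secSupp j).rightDerivedZeroIsoSelf.app F).symm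
    obtain ⟨G, a, ha, hinj⟩ := exists_embedding j F hF0
    let S : ShortComplex (EtCoh.Ab X) := ShortComplex.mk a (cokernel.π a) (cokernel.condition a)
    have hS : S.ShortExact :=
      ShortComplex.ShortExact.mk' (ShortComplex.exact_cokernel a) ha inferInstance
    haveI : Injective S.X₂ := hinj
    have hJj : IsZero ((EtDual.secSupp j).obj S.X₂) := isZero_secSupp_push j G
    have hJk : IsZero ((EtDual.secSupp k).obj S.X₂) :=
      isZero_secSupp_of_isZero j k j' hj _ hJj
    have hQ : EtDepth.DepthGE j S.X₃ n := by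
      intro p hp
      exact (shift_iff (EtDual.secSupp j) S hS hJj p).1 (h (p + 1) (by omega))
    have hQk := ih S.X₃ hQ
    intro p hp
    cases p with
    | zero =>
      exact IsZero.of_iso (isZero_secSupp_of_isZero j k j' hj F hF0)
        ((EtDual.secSupp k).rightDerivedZeroIsoSelf.app F)
    | succ p =>
      exact (shift_iff (EtDual.secSupp k) S hS hJk p).2 (hQk p (by omega))

end Main

/-- For an abelian sheaf. Let X be a scheme, j : U → X and k : V → X open immersions with U ⊆ V, so that
the closed complement Z of V is contained in the closed complement Y of U, F an abelian sheaf on the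
small étale site of X and n ≥ 0. If the Y-étale depth of F is ≥ n (the local cohomology sheaves
H^p_Y(F) vanish for p < n), then the Z-étale depth of F is ≥ n. -/
theorem result {X U V : Scheme.{u}} (j : U ⟶ X) [IsOpenImmersion j] [EtCoh.BCCont j] (k : V ⟶ X) [IsOpenImmersion k] [EtCoh.BCCont k] (hUV : Set.range j.base ⊆ Set.range k.base) (F : EtCoh.Ab X) (n : ℕ) (h : EtDepth.DepthGE j F n) : EtDepth.DepthGE k F n := by
  have hfac : IsOpenImmersion.lift k j hUV ≫ k = j := IsOpenImmersion.lift_fac k j hUV
  exact main j k (IsOpenImmersion.lift k j hUV) hfac n F h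

end Groth.Agent.S5176
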