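import Groth.Statements.S5178
import Groth.Agent.Lib.Helper27.KosH1CI
import Groth.Agent.Lib.Helper8.ComplDim

set_option autoImplicit false
universe u
open CInt

namespace Groth.Agent.S5178

/-- Let A be a Noetherian local ring of dimension d, and let the completion of A be presented as B/I
with B a regular local ring of dimension e and I an ideal whose minimal number of generators is q,
so that e − q is the geometric depth of A (this number does not depend on the presentation). Then e
− q ≤ d, and equality holds if and only if A is a complete intersection, i.e. its completion is a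
regular local ring modulo an ideal generated by a regular sequence. -/
theorem result (A : Type u) [CommRing A] [IsLocalRing A] [IsNoetherianRing A] (B : Type u) [CommRing B] [IsRegularLocalRing B] (I : Ideal B) (hpres : Nonempty (AdicCompletion (IsLocalRing.maximalIdeal A) A ≃+* B ⧸ I)) (d e : ℕ) (hd : ringKrullDim A = (d : WithBot ℕ∞)) (he : ringKrullDim B = (e : WithBot ℕ∞)) : (e : ℤ) - (I.spanFinrank : ℤ) ≤ (d : ℤ) ∧ ((e : ℤ) - (I.spanFinrank : ℤ) = (d : ℤ) ↔ Pi1.IsCompleteIntersection A) := by
  classical
  obtain ⟨ψ⟩ := hpres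
  have hdA : ringKrullDim (AdicCompletion (IsLocalRing.maximalIdeal A) A) = d := by
    rw [Groth.Agent.Lib.Helper8.ringKrullDim_adicCompletion, hd]
  have hdQ : ringKrullDim (B ⧸ I) = d := by
    rw [← ringKrullDim_eq_of_ringEquiv ψ, hdA]
  have hI : I ≠ ⊤ := by
    intro htop
    have : Subsingleton (B ⧸ I) := by rw [htop]; infer_instance
    have : Subsingleton (AdicCompletion (IsLocalRing.maximalIdeal A) A) := ψ.injective.subsingleton
    exact not_subsingleton _ this
  have h1 : ringKrullDim B ≤ ringKrullDim (B ⧸ I) + I.spanFinrank :=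
    ringKrullDim_le_ringKrullDim_quotient_add_spanFinrank _ (by
      rw [IsLocalRing.ringJacobson_eq_maximalIdeal]; exact IsLocalRing.le_maximalIdeal hI)
  rw [hdQ, he] at h1
  have h1' : e ≤ d + I.spanFinrank := by exact_mod_cast h1
  let f : B →+* AdicCompletion (IsLocalRing.maximalIdeal A) A :=
    ψ.symm.toRingHom.comp (Ideal.Quotient.mk I)
  have hf : Function.Surjective f := ψ.symm.surjective.comp Ideal.Quotient.mk_surjective
  have hkerf : RingHom.ker f = I := by
    ext b
    rw [RingHom.mem_ker]
    show ψ.symm (Ideal.Quotient.mk I b) = 0 ↔ b ∈ I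
    rw [EmbeddingLike.map_eq_zero_iff, Ideal.Quotient.eq_zero_iff_mem]
  refine ⟨by omega, ?_, ?_⟩
  · intro heq
    have h2 : ringKrullDim (B ⧸ I) + (I.spanFinrank : WithBot ℕ∞) = ringKrullDim B := by
      rw [hdQ, he]
      have : d + I.spanFinrank = e := by omega
      exact_mod_cast this
    obtain ⟨rs, hof, hreg, -⟩ := Groth.Agent.Lib.Helper27.KosH1.exists_regular_of_dim B I hI h2
    refine ⟨B, inferInstance, inferInstance, rs, ?_, hreg, ⟨ψ.trans (Ideal.quotEquivOfEq ?_)⟩⟩
    · intro r hr
      have : r ∈ I := by rw [← hof]; exact Ideal.subset_span hr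
      exact IsLocalRing.le_maximalIdeal hI this
    · rw [← hof]
  · rintro ⟨B', _, _, rs', hmem', hreg', ⟨e'⟩⟩
    let g : B' →+* AdicCompletion (IsLocalRing.maximalIdeal A) A :=
      e'.symm.toRingHom.comp (Ideal.Quotient.mk (Ideal.span {r | r ∈ rs'}))
    have hg : Function.Surjective g := e'.symm.surjective.comp Ideal.Quotient.mk_surjective
    have hker : RingHom.ker g = Ideal.ofList rs' := by
      ext b
      rw [RingHom.mem_ker]
      show e'.symm (Ideal.Quotient.mk _ b) = 0 ↔ b ∈ Ideal.span {r | r ∈ rs'}
      rw [EmbeddingLike.map_eq_zero_iff, Ideal.Quotient.eq_zero_iff_mem]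
    have h := Groth.Agent.Lib.Helper27.KosH1.dim_add_spanFinrank_of_presentation
      (AdicCompletion (IsLocalRing.maximalIdeal A) A) B B' f hf g hg rs' hreg' hker
    rw [hkerf, hdA, he] at h
    have : d + I.spanFinrank = e := by exact_mod_cast h
    omega

end Groth.Agent.S5178
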