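import Groth.Statements.S5179
import Mathlib
import Groth.Agent.Lib.Helper10.GeomDepthInv
-- import your own Groth.Agent.* helpers here

set_option autoImplicit false
universe u
open CInt

namespace Groth.Agent.S5179

/-- Let A → A' be a flat local homomorphism of Noetherian local rings such that m_A A' is the maximal
ideal of A' and the residue field of A' is a separable extension of the residue field k of A
(separable in the sense that it is formally smooth over k; so A' ⊗_A k is a field separable over k).
Present the completions as Â ≅ B/I and Â' ≅ B'/I' with B, B' regular local rings of dimensions e,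
e'. Then e − μ(I) = e' − μ(I'), μ denoting the minimal number of generators: A and A' have the same
geometric depth. -/
theorem result (A A' : Type u) [CommRing A] [IsLocalRing A] [IsNoetherianRing A] [CommRing A'] [IsLocalRing A'] [IsNoetherianRing A'] [Algebra A A'] [IsLocalHom (algebraMap A A')] [Module.Flat A A'] (hmax : Ideal.map (algebraMap A A') (IsLocalRing.maximalIdeal A) = IsLocalRing.maximalIdeal A') (hsep : Algebra.FormallySmooth (IsLocalRing.ResidueField A) (IsLocalRing.ResidueField A')) (B B' : Type u) [CommRing B] [IsRegularLocalRing B] [CommRing B'] [IsRegularLocalRing B'] (I : Ideal B) (I' : Ideal B') (hpres : Nonempty (AdicCompletion (IsLocalRing.maximalIdeal A) A ≃+* B ⧸ I)) (hpres' : Nonempty (AdicCompletion (IsLocalRing.maximalIdeal A') A' ≃+* B' ⧸ I')) (e e' : ℕ) (he : ringKrullDim B = (e : WithBot ℕ∞)) (he' : ringKrullDim B' = (e' : WithBot ℕ∞)) : (e : ℤ) - (I.spanFinrank : ℤ) = (e' : ℤ) - (I'.spanFinrank : ℤ) := by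
  classical
  open IsLocalRing Groth.Agent.Lib.Helper27.KosH1 Groth.Agent.Lib.Helper10.GeomDepthInv in
  -- a generating family of the maximal ideal of `A`
  obtain ⟨s, hs⟩ := (IsNoetherian.noetherian (maximalIdeal A) : (maximalIdeal A).FG)
  let y : {a // a ∈ s} → A := Subtype.val
  have hy : Ideal.span (Set.range y) = maximalIdeal A := by
    have : Set.range y = (↑s : Set A) := Subtype.range_coe
    rw [this]; exact hs
  -- completions
  have hmA : (maximalIdeal A).map (algebraMap A (AdicCompletion (maximalIdeal A) A)) =
      maximalIdeal (AdicCompletion (maximalIdeal A) A) := AdicCompletion.maximalIdeal_eq_map.symm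
  have hmA' : (maximalIdeal A').map (algebraMap A' (AdicCompletion (maximalIdeal A') A')) =
      maximalIdeal (AdicCompletion (maximalIdeal A') A') := AdicCompletion.maximalIdeal_eq_map.symm
  have hy' := span_range_map hmax y hy
  have hyh := span_range_map hmA y hy
  have hyh' := span_range_map hmA' _ hy'
  have L1 := length_H_baseChange hmA y hy
  have L2 := length_H_baseChange hmax y hy
  have L3 := length_H_baseChange hmA' _ hy'
  obtain ⟨ε⟩ := hpres
  obtain ⟨ε'⟩ := hpres'
  have hf : Function.Surjective (ε.symm.toRingHom.comp (Ideal.Quotient.mk I)) :=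
    ε.symm.surjective.comp Ideal.Quotient.mk_surjective
  have hf' : Function.Surjective (ε'.symm.toRingHom.comp (Ideal.Quotient.mk I')) :=
    ε'.symm.surjective.comp Ideal.Quotient.mk_surjective
  have hk : RingHom.ker (ε.symm.toRingHom.comp (Ideal.Quotient.mk I)) = I := by
    rw [RingHom.ker_equiv_comp, Ideal.mk_ker]
  have hk' : RingHom.ker (ε'.symm.toRingHom.comp (Ideal.Quotient.mk I')) = I' := by
    rw [RingHom.ker_equiv_comp, Ideal.mk_ker]
  have K1 := lemmaK _ B _ hf e he _ _ hyh
  have K2 := lemmaK _ B' _ hf' e' he' _ _ hyh'
  rw [hk, L1] at K1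
  rw [hk', L3, L2] at K2
  generalize Module.length A (H (Fintype.linearCombination A y)) = ℓ at K1 K2
  have hℓ : ℓ ≠ ⊤ := by
    intro h
    rw [h, add_top] at K1
    exact ENat.coe_ne_top _ (by exact_mod_cast K1)
  lift ℓ to ℕ using hℓ
  have K1' : Fintype.card {a // a ∈ s} + I.spanFinrank = e + ℓ := by exact_mod_cast K1
  have K2' : Fintype.card {a // a ∈ s} + I'.spanFinrank = e' + ℓ := by exact_mod_cast K2
  omega

end Groth.Agent.S5179
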