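-- Statement S5195.
import Groth.Statements.S5195
import Groth.Agent.Lib.Helper1.IdealSec
import Groth.Agent.Lib.Helper14.FlatStalkDepth

set_option autoImplicit false
universe u
open CategoryTheory CategoryTheory.Limits AlgebraicGeometry
open Lef

namespace Groth.Agent.S5195

/-- For the structure sheaf, with the key step of its proof made explicit. Let A be a Noetherian ring, X
a proper A-scheme and 𝓘 a quasi-coherent ideal whose ideal module is invertible with ample inverse L
(Y = V(𝓘) is an ample effective Cartier divisor), and let Z be a closed subset of X not meeting Y.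
Then (1) every point of Z is closed in its fibre over Spec A (indeed Z is finite over A, being
proper and contained in the affine X − Y); and (2) if moreover X is flat over A and for every s the
fibre X_s has depth ≥ n at each of its closed points, then the local ring O_{X,z} has depth ≥ n at
every point z of Z. (The published statement allows any coherent module flat over the base whose
fibres have depth ≥ n at closed points; this row takes the structure sheaf.) -/
theorem result (A : Type u) [CommRing A] [IsNoetherianRing A] (X : Scheme.{u}) [X.Over (Spec (CommRingCat.of A))] [IsProper (X ↘ Spec (CommRingCat.of A))] (𝓘 : X.IdealSheafData) (L : X.Modules) (hL : ClSub.IsInverseOf L (ClSub.idealMod 𝓘)) (hamp : CohB1.IsAmple L) (Z : Set X) (hZ : IsClosed Z) (hZY : Disjoint Z (𝓘.support : Set X)) (n : ℕ) : (∀ z : X, z ∈ Z → IsClosed ({((X ↘ Spec (CommRingCat.of A))).asFiber z} : Set ↥(((X ↘ Spec (CommRingCat.of A))).fiber (((X ↘ Spec (CommRingCat.of A))).base z)))) ∧ (Flat (X ↘ Spec (CommRingCat.of A)) → (∀ x : X, IsClosed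 ({((X ↘ Spec (CommRingCat.of A))).asFiber x} : Set ↥(((X ↘ Spec (CommRingCat.of A))).fiber (((X ↘ Spec (CommRingCat.of A))).base x))) → (n : ℕ∞) ≤ LocCoh.depth ↑(CInt.fiberStalk (X ↘ Spec (CommRingCat.of A)) x) ↑(CInt.fiberStalk (X ↘ Spec (CommRingCat.of A)) x)) → ∀ z : X, z ∈ Z → (n : ℕ∞) ≤ LocCoh.depth (X.presheaf.stalk z) (X.presheaf.stalk z)) := by
  obtain ⟨e⟩ := hL
  have hLi := hamp.1
  have hMi : PicF.IsInvertible (ClSub.idealMod 𝓘) :=
    Groth.Agent.Lib.Helper7.AmpleRes2.isInvertible_of_isInverseOf hLi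
      ⟨Groth.Agent.Lib.Helper3.InvMonoidal.braid _ _ ≪≫ e⟩
  have hcompl := Groth.Agent.Lib.Helper1.IdealSec.compl_genLocus_secOfIdeal 𝓘 e hLi hMi
  have hZU : Z ⊆ (CohB1.genLocus L (Groth.Agent.Lib.Helper1.IdealSec.secOfIdeal 𝓘 e) : Set X) := by
    intro z hz
    by_contra h
    have h' : z ∈ (𝓘.support : Set X) := by rw [← hcompl]; exact h
    exact Set.disjoint_left.mp hZY hz h'
  have h1 : ∀ z : X, z ∈ Z → IsClosed ({((X ↘ Spec (CommRingCat.of A))).asFiber z} :
      Set ↥(((X ↘ Spec (CommRingCat.of A))).fiber (((X ↘ Spec (CommRingCat.of A))).base z))) := by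
    intro z hz
    rw [← closure_subset_iff_isClosed]
    intro q hq
    have hpq : (X ↘ Spec (CommRingCat.of A)).asFiber z ⤳ q := specializes_iff_mem_closure.mpr hq
    have h2 := hpq.map ((X ↘ Spec (CommRingCat.of A)).fiberι _).continuous
    rw [Scheme.Hom.fiberι_asFiber] at h2
    have h3 : (X ↘ Spec (CommRingCat.of A)) (((X ↘ Spec (CommRingCat.of A))).fiberι _ q) =
        (X ↘ Spec (CommRingCat.of A)) z := by
      have h : ((X ↘ Spec (CommRingCat.of A))).fiberι _ q ∈
          Set.range (((X ↘ Spec (CommRingCat.of A))).fiberι ((X ↘ Spec (CommRingCat.of A)) z)) := ⟨q, rfl⟩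
      rw [Scheme.Hom.range_fiberι] at h
      exact h
    have h4 := Groth.Agent.Lib.Helper1.IdealSec.eq_of_specializes_of_subset_genLocus
      (X ↘ Spec (CommRingCat.of A)) hamp _ Z hZ hZU hz h2 h3.symm
    rw [Set.mem_singleton_iff]
    apply ((X ↘ Spec (CommRingCat.of A)).fiberι _).isEmbedding.injective
    rw [Scheme.Hom.fiberι_asFiber]
    exact h4.symm
  refine ⟨h1, fun hflat hdep z hz => ?_⟩
  haveI : Flat (X ↘ Spec (CommRingCat.of A)) := hflat
  haveI : IsLocallyNoetherian X :=
    LocallyOfFiniteType.isLocallyNoetherian (X ↘ Spec (CommRingCat.of A))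
  rw [(Groth.Agent.Lib.Helper14.FlatStalkDepth.depth_dim_stalk_eq
    (X ↘ Spec (CommRingCat.of A)) z).1]
  exact (hdep z (h1 z hz)).trans le_add_self

end Groth.Agent.S5195
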