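import Groth.Statements.S5201
import Groth.Agent.Lib.Helper5.TateLocal
import Groth.Agent.Lib.Helper5.FlcRestr
import Groth.Agent.Lib.Helper5.DepthDevissage

set_option autoImplicit false
universe u
open CategoryTheory CategoryTheory.Limits AlgebraicGeometry Opposite
open EtDepth

namespace Groth.Agent.S5201

open Helper15.LcStruct Groth.Agent.Lib.Helper5 Groth.Agent.Lib.Helper5.EtaleLocSupp

set_option backward.isDefEq.respectTransparency.types false

lemma lprimary_of_isConstVia {X : Scheme.{u}} {F : EtCoh.Ab X} {V : X.Etale}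
    {M : AddCommGrpCat.{u+1}} {c : M →+ F.obj.obj (op V)} (hc : IsConstVia F V M c)
    (ℓ : ℕ) (hFt : EtDepth.IsLTorsion ℓ F) (x : V.left) (m : M) : ∃ k : ℕ, ℓ ^ k • m = 0 := by
  obtain ⟨V', g, ⟨v, hv⟩, k, hk⟩ := hFt V (c m) x
  refine ⟨k, ?_⟩
  haveI : Nonempty V'.left := ⟨v⟩
  refine hc.inj g (ℓ ^ k • m) (bot_not_mem_of_nonempty V') ?_
  rw [map_nsmul, map_nsmul]
  exact hk

/-- For a finite locally constant sheaf and a single prime ℓ. Let X be a scheme, j : U → X a
quasi-compact open immersion (U retrocompact in X) with closed complement Y, ℓ a prime and n ≥ 0,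
and suppose the Y-étale depth of X for ℓ is ≥ n, i.e. the local cohomology sheaves H^p_Y(Z/ℓ) vanish
for p < n. Then for every finite locally constant abelian sheaf F on the small étale site of X which
is ℓ-torsion (every section étale-locally killed by a power of ℓ), the Y-étale depth of F is ≥ n. -/
theorem result {X U : Scheme.{u}} (j : U ⟶ X) [IsOpenImmersion j] [QuasiCompact j] [EtCoh.BCCont j] (ℓ : ℕ) (hℓ : ℓ.Prime) (n : ℕ) (hX : EtDepth.DepthGE j (EtCoh.const X (ZMod ℓ)) n) (F : EtCoh.Ab X) (hFlc : EtCoh.IsFiniteLocallyConstant F) (hFt : EtDepth.IsLTorsion ℓ F) : EtDepth.DepthGE j F n := by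
  intro p hp
  apply LocZero.isZero_of_locally
  intro x
  obtain ⟨ι, U, hU, hc⟩ := hFlc
  obtain ⟨i, y, hy⟩ := hU x
  obtain ⟨M, iM, fM, ⟨a⟩⟩ := hc i
  haveI : Etale (U i).hom := (U i).prop
  refine ⟨(U i).left, (U i).hom, inferInstance, ⟨y, hy⟩, ?_⟩
  have a' : F.over (U i) ≅ (cst X (AddCommGrpCat.of (ULift.{u+1} M))).over (U i) :=
    a ≪≫ ((kappa (U i)).app _).symm
  have hcv := isConstVia_of_iso _ a'
  obtain ⟨e⟩ := FlcRestr.nonempty_iso_of_isConstVia hcv
  have hprim : ∀ m : AddCommGrpCat.of (ULift.{u+1} M), ∃ k : ℕ, ℓ ^ k • m = 0 :=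
    fun m => lprimary_of_isConstVia hcv ℓ hFt y m
  have hr : Set.range (pullback.snd j (U i).hom).base = (U i).hom.base ⁻¹' Set.range j.base :=
    Scheme.Pullback.range_snd j (U i).hom
  have hY : EtDepth.DepthGE (pullback.snd j (U i).hom) (EtCoh.const (U i).left (ZMod ℓ)) n :=
    fun q hq => IsZero.of_iso ((EtShriek.restrAlong (U i).hom).map_isZero (hX q hq))
      ((EtDual.locCoh _ q).mapIso (TateLocal.constRestrIso (U i).hom (ZMod ℓ)).symm ≪≫
        (locCohRestrIso j (U i).hom _ hr q _).symm)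
  haveI : Fact ℓ.Prime := ⟨hℓ⟩
  haveI : Finite (AddCommGrpCat.of (ULift.{u+1} M)) := by
    show Finite (ULift.{u+1} M); infer_instance
  have hd := DepthDevissage.depthGE_cst (pullback.snd j (U i).hom) ℓ n hY _
    (AddCommGrpCat.of (ULift.{u+1} M)) rfl hprim p hp
  exact IsZero.of_iso hd (locCohRestrIso j (U i).hom _ hr p F ≪≫ (EtDual.locCoh _ p).mapIso e)

end Groth.Agent.S5201
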