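import Groth.Statements.S5212
import Mathlib

set_option autoImplicit false
universe u
open GrpQ

namespace Groth.Agent.S5212

/-- `algebraMap (norm a)` is a multiple of `a` (Cayley–Hamilton). -/
theorem aux_dvd {A A' : Type u} [CommRing A] [CommRing A'] [Algebra A A']
    [Module.Free A A'] [Module.Finite A A'] (a : A') : a ∣ algebraMap A A' (Algebra.norm A a) := by
  have h0 : Polynomial.aeval a (Algebra.lmul A A' a).charpoly = 0 := by
    have h1 := LinearMap.aeval_self_charpoly (Algebra.lmul A A' a)
    rw [Polynomial.aeval_algHom_apply] at h1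
    have h2 := congrArg (fun f : Module.End A A' => f 1) h1
    simpa using h2
  have h3 : (Algebra.lmul A A' a).charpoly =
      (Algebra.lmul A A' a).charpoly.divX * Polynomial.X +
        Polynomial.C ((Algebra.lmul A A' a).charpoly.coeff 0) :=
    (Polynomial.divX_mul_X_add _).symm
  rw [h3] at h0
  simp only [map_add, map_mul, Polynomial.aeval_X, Polynomial.aeval_C] at h0
  rw [Algebra.norm_apply, LinearMap.det_eq_sign_charpoly_coeff, map_mul]
  refine Dvd.dvd.mul_left ?_ _
  refine ⟨-(Polynomial.aeval a (Algebra.lmul A A' a).charpoly.divX), ?_⟩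
  linear_combination h0

/-- For `A'` finite and free as an `A`-module, a prime `p` of `A` and `a ∈ A'`, the element `a` belongs
to some prime of `A'` lying over `p` if and only if its norm belongs to `p`. (The published
statement allows `A'` projective of constant rank over `A`; this row takes `A'` free, where the norm
is the determinant of multiplication.) -/
theorem result {A A' : Type u} [CommRing A] [CommRing A'] [Algebra A A']
    [Module.Free A A'] [Module.Finite A A'] (p : Ideal A) [p.IsPrime] (a : A') :
    (∃ q : Ideal A', q.IsPrime ∧ q.LiesOver p ∧ a ∈ q) ↔ Algebra.norm A a ∈ p := by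
  classical
  constructor
  · rintro ⟨q, hq, hqp, haq⟩
    rw [hqp.over, Ideal.mem_comap]
    exact q.mem_of_dvd (aux_dvd a) haq
  · intro hN
    let b := Module.Free.chooseBasis A A'
    let φ := Ideal.Quotient.mk p
    let ψ : A' →+* Matrix (Module.Free.ChooseBasisIndex A A') (Module.Free.ChooseBasisIndex A A') (A ⧸ p) :=
      (φ.mapMatrix).comp (Algebra.leftMulMatrix b).toRingHom
    have hψalg : ∀ r : A, ψ (algebraMap A A' r) = Matrix.scalar _ (φ r) := by
      intro r
      simp only [ψ, RingHom.comp_apply, AlgHom.toRingHom_eq_coe, RingHom.coe_coe, AlgHom.commutes]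
      rw [Matrix.algebraMap_eq_diagonal]
      ext i j
      simp [Matrix.diagonal_apply, Matrix.map_apply]
      split_ifs <;> simp
    have hdet : ∀ y : A', (ψ y).det = φ (Algebra.norm A y) := by
      intro y
      rw [Algebra.norm_eq_matrix_det b, RingHom.map_det]
      rfl
    have hker : Ideal.map (algebraMap A A') p ≤ RingHom.ker ψ := by
      rw [Ideal.map_le_iff_le_comap]
      intro r hr
      rw [Ideal.mem_comap, RingHom.mem_ker, hψalg, Ideal.Quotient.eq_zero_iff_mem.2 hr, map_zero]
    have hdisj : Disjoint ((Ideal.map (algebraMap A A') p ⊔ Ideal.span {a} : Ideal A') : Set A')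
        ((p.primeCompl.map (algebraMap A A') : Submonoid A') : Set A') := by
      rw [Set.disjoint_left]
      rintro y hy ⟨s, hs, rfl⟩
      obtain ⟨x, hx, z, hz, hxz⟩ := Submodule.mem_sup.1 hy
      obtain ⟨c, rfl⟩ := Ideal.mem_span_singleton'.1 hz
      have h1 : ψ (algebraMap A A' s) = ψ c * ψ a := by
        rw [← hxz, map_add, map_mul, RingHom.mem_ker.1 (hker hx), zero_add]
      have h2 := congrArg Matrix.det h1
      rw [hψalg, Matrix.det_mul, hdet, hdet, Ideal.Quotient.eq_zero_iff_mem.2 hN, mul_zero] at h2
      simp only [Matrix.scalar_apply, Matrix.det_diagonal, Finset.prod_const] at h2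
      have h3 : φ s ≠ 0 := fun h => hs (Ideal.Quotient.eq_zero_iff_mem.1 h)
      exact pow_ne_zero _ h3 h2
    obtain ⟨q, hq, hJq, hqS⟩ := Ideal.exists_le_prime_disjoint _ _ hdisj
    refine ⟨q, hq, ⟨?_⟩, hJq (Ideal.mem_sup_right (Ideal.mem_span_singleton_self a))⟩
    apply le_antisymm
    · intro r hr
      exact hJq (Ideal.mem_sup_left (Ideal.mem_map_of_mem _ hr))
    · intro r hr
      by_contra hrp
      exact Set.disjoint_left.1 hqS hr ⟨r, hrp, rfl⟩

end Groth.Agent.S5212
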