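import Groth.Statements.S5213
import Mathlib

set_option autoImplicit false
universe u
open GrpQ

namespace Groth.Agent.S5213

theorem exists_eq_top_of_cover {B : Type*} [CommRing B] [IsLocalRing B]
    [Infinite (IsLocalRing.ResidueField B)]
    {N : Type*} [AddCommGroup N] [Module B N] {J : Type*} (P : J → Submodule B N) (s : Finset J) :
    (∀ y : N, ∃ j ∈ s, y ∈ P j) → ∃ j ∈ s, P j = ⊤ := by
  classical
  induction s using Finset.induction_on with
  | empty =>
    intro h
    obtain ⟨j, hj, _⟩ := h 0
    exact absurd hj (Finset.notMem_empty j)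
  | insert a t hat ih =>
    intro hcov
    by_cases hPa : P a = ⊤
    · exact ⟨a, Finset.mem_insert_self a t, hPa⟩
    by_cases ht : ∀ y : N, ∃ j ∈ t, y ∈ P j
    · obtain ⟨j, hj, hjt⟩ := ih ht
      exact ⟨j, Finset.mem_insert_of_mem hj, hjt⟩
    exfalso
    simp only [not_forall, not_exists, not_and] at ht
    obtain ⟨u, hu⟩ := ht
    obtain ⟨v, hv⟩ : ∃ v, v ∉ P a := by
      by_contra h
      simp only [not_exists, not_not] at h
      exact hPa (eq_top_iff.mpr fun y _ => h y)
    have hua : u ∈ P a := by
      obtain ⟨j, hj, hjm⟩ := hcov u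
      rcases Finset.mem_insert.mp hj with rfl | hjt
      · exact hjm
      · exact absurd hjm (hu j hjt)
    have hres := IsLocalRing.residue_surjective (R := B)
    have hrep : ∀ c, IsLocalRing.residue B (Function.surjInv hres c) = c :=
      Function.surjInv_eq hres
    have hw : ∀ c, ∃ j ∈ t, v + Function.surjInv hres c • u ∈ P j := by
      intro c
      obtain ⟨j, hj, hjm⟩ := hcov (v + Function.surjInv hres c • u)
      rcases Finset.mem_insert.mp hj with rfl | hjt
      · exfalso
        apply hv
        have := (P j).sub_mem hjm ((P j).smul_mem (Function.surjInv hres c) hua)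
        simpa using this
      · exact ⟨j, hjt, hjm⟩
    choose F hFt hFm using hw
    obtain ⟨c, c', hne, heq⟩ := Finite.exists_ne_map_eq_of_infinite
      (fun c => (⟨F c, hFt c⟩ : t))
    have hj : F c = F c' := congrArg Subtype.val heq
    have h1 := hFm c
    have h2 := hFm c'
    rw [← hj] at h2
    have h3 : (Function.surjInv hres c - Function.surjInv hres c') • u ∈ P (F c) := by
      have := (P (F c)).sub_mem h1 h2
      rw [sub_smul]
      convert this using 1
      abel
    have hunit : IsUnit (Function.surjInv hres c - Function.surjInv hres c') := by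
      rw [← IsLocalRing.notMem_maximalIdeal, ← IsLocalRing.residue_eq_zero_iff, map_sub, hrep,
        hrep, sub_eq_zero]
      exact hne
    obtain ⟨w, hw⟩ := hunit
    have hmem : u ∈ P (F c) := by
      have := (P (F c)).smul_mem (↑w⁻¹ : B) h3
      rwa [← hw, smul_smul, Units.inv_mul, one_smul] at this
    exact hu _ (hFt c) hmem

theorem main {B A M : Type u} [CommRing B] [CommRing A]
    [IsLocalRing B] [Infinite (IsLocalRing.ResidueField B)] [Algebra B A]
    [Finite (MaximalSpectrum A)]
    [AddCommGroup M] [Module A M] [Module B M] [IsScalarTower B A M]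
    [Module.Free A M] [Module.Finite A M]
    (N : Submodule B M) (hN : Submodule.span A (N : Set M) = ⊤) :
    ∃ b : Module.Basis (Fin (Module.finrank A M)) A M, ∀ i, b i ∈ N := by
  classical
  rcases subsingleton_or_nontrivial A with hA | hA
  · haveI : Subsingleton M := Module.subsingleton A M
    refine ⟨Module.Basis.ofRepr (LinearEquiv.ofSubsingleton M _), fun i => ?_⟩
    rw [Subsingleton.elim (Module.Basis.ofRepr (LinearEquiv.ofSubsingleton M _) i) 0]
    exact N.zero_mem
  set n := Module.finrank A M with hn
  let e : Module.Basis (Fin n) A M := Module.finBasis A M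
  let red : ∀ 𝔪 : MaximalSpectrum A, M → (Fin n → A ⧸ 𝔪.asIdeal) :=
    fun 𝔪 m j => Ideal.Quotient.mk 𝔪.asIdeal (e.repr m j)
  have red_add : ∀ 𝔪 m m', red 𝔪 (m + m') = red 𝔪 m + red 𝔪 m' := by
    intro 𝔪 m m'; ext j; simp [red]
  have red_smul : ∀ 𝔪 (a : A) m, red 𝔪 (a • m) = Ideal.Quotient.mk 𝔪.asIdeal a • red 𝔪 m := by
    intro 𝔪 a m; ext j; simp [red]
  have red_zero : ∀ 𝔪, red 𝔪 0 = 0 := by
    intro 𝔪; ext j; simp [red]
  have red_surj : ∀ 𝔪, Function.Surjective (red 𝔪) := by
    intro 𝔪 v
    choose a ha using fun j => Ideal.Quotient.mk_surjective (v j)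
    refine ⟨e.repr.symm (Finsupp.equivFunOnFinite.symm a), ?_⟩
    ext j
    simp [red, ha]
  haveI : ∀ 𝔪 : MaximalSpectrum A, 𝔪.asIdeal.IsMaximal := fun 𝔪 => 𝔪.isMaximal
  letI : ∀ 𝔪 : MaximalSpectrum A, Field (A ⧸ 𝔪.asIdeal) := fun 𝔪 => Ideal.Quotient.field 𝔪.asIdeal
  have key : ∀ i, i ≤ n → ∃ x : Fin i → M, (∀ l, x l ∈ N) ∧ ∀ 𝔪 : MaximalSpectrum A,
      LinearIndependent (A ⧸ 𝔪.asIdeal) (fun l => red 𝔪 (x l)) := by
    intro i
    induction i with
    | zero =>
      intro _
      exact ⟨Fin.elim0, fun l => l.elim0, fun 𝔪 => linearIndependent_empty_type⟩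
    | succ i ih =>
      intro hi
      obtain ⟨x, hxN, hxli⟩ := ih (by omega)
      obtain ⟨y, hyN, hy⟩ : ∃ y ∈ N, ∀ 𝔪 : MaximalSpectrum A, red 𝔪 y ∉
          Submodule.span (A ⧸ 𝔪.asIdeal) (Set.range fun l => red 𝔪 (x l)) := by
        by_contra hcon
        simp only [not_exists, not_and, not_forall, not_not] at hcon
        let P : MaximalSpectrum A → Submodule B N := fun 𝔪 =>
          { carrier := {y | red 𝔪 y.1 ∈
              Submodule.span (A ⧸ 𝔪.asIdeal) (Set.range fun l => red 𝔪 (x l))}
            add_mem' := by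
              intro a b ha hb
              simp only [Set.mem_setOf_eq, Submodule.coe_add, red_add] at ha hb ⊢
              exact Submodule.add_mem _ ha hb
            zero_mem' := by
              simp only [Set.mem_setOf_eq, ZeroMemClass.coe_zero, red_zero]
              exact Submodule.zero_mem _
            smul_mem' := by
              intro b a ha
              simp only [Set.mem_setOf_eq, Submodule.coe_smul] at ha ⊢
              rw [← algebraMap_smul A b (a : M), red_smul]
              exact Submodule.smul_mem _ _ ha }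
        haveI : Fintype (MaximalSpectrum A) := Fintype.ofFinite _
        obtain ⟨𝔪, -, h𝔪⟩ := exists_eq_top_of_cover P Finset.univ (fun y => by
          obtain ⟨𝔪, h⟩ := hcon y.1 y.2
          exact ⟨𝔪, Finset.mem_univ _, h⟩)
        have hall : ∀ m : M, red 𝔪 m ∈
            Submodule.span (A ⧸ 𝔪.asIdeal) (Set.range fun l => red 𝔪 (x l)) := by
          intro m
          have hm : m ∈ Submodule.span A (N : Set M) := by rw [hN]; trivial
          induction hm using Submodule.span_induction with
          | mem m hm =>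
            have : (⟨m, hm⟩ : N) ∈ P 𝔪 := by rw [h𝔪]; trivial
            exact this
          | zero => rw [red_zero]; exact Submodule.zero_mem _
          | add a b _ _ ha hb => rw [red_add]; exact Submodule.add_mem _ ha hb
          | smul a m _ hm => rw [red_smul]; exact Submodule.smul_mem _ _ hm
        have htop : Submodule.span (A ⧸ 𝔪.asIdeal) (Set.range fun l => red 𝔪 (x l)) = ⊤ :=
          eq_top_iff.mpr fun v _ => by
            obtain ⟨m, rfl⟩ := red_surj 𝔪 v
            exact hall m
        have h1 : Module.finrank (A ⧸ 𝔪.asIdeal)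
            (Submodule.span (A ⧸ 𝔪.asIdeal) (Set.range fun l => red 𝔪 (x l))) ≤ i := by
          have := finrank_range_le_card (R := A ⧸ 𝔪.asIdeal) (fun l => red 𝔪 (x l))
          simpa [Set.finrank] using this
        rw [htop, finrank_top, Module.finrank_fin_fun] at h1
        omega
      refine ⟨Fin.snoc x y, ?_, ?_⟩
      · intro l
        refine Fin.lastCases ?_ (fun l' => ?_) l
        · simpa using hyN
        · simpa using hxN l'
      · intro 𝔪
        have : (fun l => red 𝔪 ((Fin.snoc x y : Fin (i + 1) → M) l)) =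
            Fin.snoc (fun l => red 𝔪 (x l)) (red 𝔪 y) := by
          ext l
          refine Fin.lastCases ?_ (fun l' => ?_) l <;> simp
        rw [this, linearIndependent_fin_snoc]
        exact ⟨hxli 𝔪, hy 𝔪⟩
  obtain ⟨x, hxN, hxli⟩ := key n le_rfl
  let T : Matrix (Fin n) (Fin n) A := fun l j => e.repr (x l) j
  have hdet : IsUnit T.det := by
    by_contra hnu
    obtain ⟨𝔪', h𝔪', hmem⟩ := exists_max_ideal_of_mem_nonunits hnu
    have hli := hxli ⟨𝔪', h𝔪'⟩
    letI : Field (A ⧸ 𝔪') := Ideal.Quotient.field 𝔪'
    have hrow0 : LinearIndependent (A ⧸ 𝔪') (T.map (Ideal.Quotient.mk 𝔪')).row := hli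
    have hrow := (Matrix.isUnit_iff_isUnit_det _).mp
      ((Matrix.linearIndependent_rows_iff_isUnit (K := A ⧸ 𝔪')).mp hrow0)
    have hd : (T.map (Ideal.Quotient.mk 𝔪')).det = Ideal.Quotient.mk 𝔪' T.det :=
      (RingHom.map_det _ _).symm
    rw [hd] at hrow
    exact hrow.ne_zero (Ideal.Quotient.eq_zero_iff_mem.mpr hmem)
  have hφ : LinearMap.toMatrix e e (e.constr A x) = T.transpose := by
    ext i j
    simp [LinearMap.toMatrix_apply, T]
  have hφdet : IsUnit (LinearMap.toMatrix e e (e.constr A x)).det := by
    rw [hφ, Matrix.det_transpose]; exact hdet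
  refine ⟨e.map (LinearEquiv.ofIsUnitDet hφdet), fun i => ?_⟩
  have : (e.map (LinearEquiv.ofIsUnitDet hφdet)) i = x i := by
    rw [Module.Basis.map_apply]
    show (LinearEquiv.ofIsUnitDet hφdet : M →ₗ[A] M) (e i) = x i
    rw [LinearEquiv.coe_ofIsUnitDet]
    simp
  rw [this]
  exact hxN i

/-- Let `B` be a local ring with infinite residue field, `A` a semi-local ring, `B → A` a ring map
carrying the maximal ideal of `B` into the Jacobson radical of `A`, `M` a finite free `A`-module and
`N` a `B`-submodule of `M` generating `M` as an `A`-module. Then `N` contains a basis of `M` over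
`A`. -/
theorem result {B A M : Type u} [CommRing B] [CommRing A]
    [IsLocalRing B] [Infinite (IsLocalRing.ResidueField B)] [Algebra B A]
    [Finite (MaximalSpectrum A)]
    (hBA : (IsLocalRing.maximalIdeal B).map (algebraMap B A) ≤ (⊥ : Ideal A).jacobson)
    [AddCommGroup M] [Module A M] [Module B M] [IsScalarTower B A M]
    [Module.Free A M] [Module.Finite A M]
    (N : Submodule B M) (hN : Submodule.span A (N : Set M) = ⊤) :
    ∃ b : Module.Basis (Fin (Module.finrank A M)) A M, ∀ i, b i ∈ N := by
  exact main N hN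

end Groth.Agent.S5213
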