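import Groth.Statements.S5222
import Mathlib

set_option autoImplicit false
open CategoryTheory CategoryTheory.Limits MonoidalCategory
universe v₁ u₁
open DescCat

namespace Groth.Agent.S5222

open MonObj CartesianMonoidalCategory SemiCartesianMonoidalCategory in
/-- In a cartesian monoidal category with pullbacks: for a homomorphism `f : G ⟶ G'` of group objects
with kernel `K = G ×_{G'} e`, the pair `G × K ⇉ G` given by the projection and by multiplication is
the kernel pair of `f`. -/
theorem result {C : Type u₁} [Category.{v₁} C]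
    [CartesianMonoidalCategory C] [HasPullbacks C]
    {G G' : C} [GrpObj G] [GrpObj G'] (f : G ⟶ G') [IsMonHom f] :
    IsKernelPair f (fst G (pullback f η[G']))
      ((G ◁ pullback.fst f η[G']) ≫ μ[G]) := by
  have hκ : ∀ (T : C) (x : T ⟶ pullback f η[G']), (x ≫ pullback.fst f η[G']) ≫ f = 1 := by
    intro T x
    rw [Category.assoc, pullback.condition, Hom.one_def, ← Category.assoc]
    congr 1
    exact toUnit_unique _ _
  have hmul : ∀ (T : C) (m : T ⟶ G ⊗ pullback f η[G']),
      m ≫ (G ◁ pullback.fst f η[G']) ≫ μ[G] =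
        (m ≫ fst G (pullback f η[G'])) *
          ((m ≫ snd G (pullback f η[G'])) ≫ pullback.fst f η[G']) := by
    intro T m
    rw [Hom.mul_def, ← lift_whiskerLeft, lift_comp_fst_snd, Category.assoc]
  have hw : fst G (pullback f η[G']) ≫ f =
      ((G ◁ pullback.fst f η[G']) ≫ μ[G]) ≫ f := by
    have := hmul _ (𝟙 (G ⊗ pullback f η[G']))
    rw [Category.id_comp, Category.id_comp, Category.id_comp] at this
    rw [this, MonObj.mul_comp, hκ, _root_.mul_one]
  have key : ∀ (T : C) (g₁ g₂ : T ⟶ G), g₁ ≫ f = g₂ ≫ f →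
      (g₁⁻¹ * g₂) ≫ f = toUnit T ≫ η[G'] := by
    intro T g₁ g₂ h
    rw [MonObj.mul_comp, GrpObj.inv_comp, h, inv_mul_cancel, Hom.one_def]
  refine IsPullback.mk ⟨hw⟩ ⟨PullbackCone.IsLimit.mk _
    (fun s => lift s.fst (pullback.lift (s.fst⁻¹ * s.snd) (toUnit s.pt) (key _ _ _ s.condition)))
    (fun s => lift_fst _ _) (fun s => ?_) (fun s m h1 h2 => ?_)⟩
  · rw [hmul, lift_fst, lift_snd, pullback.lift_fst, mul_inv_cancel_left]
  · have e1 : (m ≫ snd G (pullback f η[G'])) ≫ pullback.fst f η[G'] = s.fst⁻¹ * s.snd := by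
      have := hmul _ m
      rw [h2, h1] at this
      rw [this, inv_mul_cancel_left]
    have e2 : m ≫ snd G (pullback f η[G']) =
        pullback.lift (s.fst⁻¹ * s.snd) (toUnit s.pt) (key _ _ _ s.condition) := by
      apply pullback.hom_ext
      · rw [pullback.lift_fst, e1]
      · exact toUnit_unique _ _
    rw [← e2, ← h1, lift_comp_fst_snd]

end Groth.Agent.S5222
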