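import Groth.Statements.S5223
import Mathlib
import Groth.Agent.Lib.Helper17.FibreFlat

set_option autoImplicit false
open CategoryTheory CategoryTheory.Limits AlgebraicGeometry
universe u
open GrpQ

namespace Groth.Agent.S5223

theorem flat_of_comp_faithfullyFlat {A B C : Type*} [CommRing A] [CommRing B] [CommRing C]
    (φ : A →+* B) (ψ : B →+* C) (hψ : ψ.FaithfullyFlat) (h : (ψ.comp φ).Flat) : φ.Flat := by
  letI := φ.toAlgebra
  letI := ψ.toAlgebra
  letI := (ψ.comp φ).toAlgebra
  haveI : IsScalarTower A B C := IsScalarTower.of_algebraMap_eq fun _ => rfl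
  haveI : Module.FaithfullyFlat B C := hψ
  haveI : Module.Flat A C := h
  exact (Groth.Agent.Lib.Helper17.FlatMixed.flat_iff_of_isBaseChange (R := A) (A := B) (B := C)
    (Algebra.linearMap B C) (IsBaseChange.linearMap B C)).mp inferInstance

/-- In a cartesian square of schemes `F₂ = F₁ ×_{X₀} X₁` whose bottom map `u : X₁ ⟶ X₀` is flat, the
base-changed map `d' : F₂ ⟶ X₁` is flat at a point `x` if and only if `d : F₁ ⟶ X₀` is flat at the
image of `x` in `F₁`. -/
theorem result {F₂ F₁ X₁ X₀ : Scheme.{u}}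
    {v : F₂ ⟶ F₁} {d' : F₂ ⟶ X₁} {d : F₁ ⟶ X₀} {u : X₁ ⟶ X₀}
    (h : IsPullback v d' d u) [Flat u] (x : F₂) :
    (d'.stalkMap x).hom.Flat ↔ (d.stalkMap (v.base x)).hom.Flat := by
  constructor
  · intro hd'
    have hu : (u.stalkMap (d' x)).hom.Flat := AlgebraicGeometry.Flat.stalkMap u _
    have h1 : ((d' ≫ u).stalkMap x).hom.Flat := by
      rw [Scheme.Hom.stalkMap_comp]
      exact RingHom.Flat.comp hu hd'
    rw [← h.w, Scheme.Hom.stalkMap_comp] at h1
    haveI : Flat v := MorphismProperty.of_isPullback h.flip inferInstance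
    have hv : (v.stalkMap x).hom.Flat := AlgebraicGeometry.Flat.stalkMap v x
    have hvff : (v.stalkMap x).hom.FaithfullyFlat := by
      letI := (v.stalkMap x).hom.toAlgebra
      haveI : Module.Flat (F₁.presheaf.stalk (v x)) (F₂.presheaf.stalk x) := hv
      haveI : IsLocalHom (algebraMap (F₁.presheaf.stalk (v x)) (F₂.presheaf.stalk x)) :=
        inferInstanceAs (IsLocalHom (v.stalkMap x).hom)
      exact (Module.FaithfullyFlat.of_flat_of_isLocalHom :
        Module.FaithfullyFlat (F₁.presheaf.stalk (v x)) (F₂.presheaf.stalk x))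
    exact flat_of_comp_faithfullyFlat _ _ hvff h1
  · intro hd
    exact Groth.Agent.Lib.Helper17.FibreFlat.flat_stalkMap_baseChange h.flip x hd

end Groth.Agent.S5223
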