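import Groth.Statements.S5226
import Groth.Agent.S5218
import Groth.Agent.Lib.Helper3.UnivEffEpi

set_option autoImplicit false
open CategoryTheory CategoryTheory.Limits
universe w v₁ u₁
open ShfCat

namespace Groth.Agent.S5226

/-- For sheaves of sets on a site with sheafification: if `R ⇉ X` is an equivalence relation with
(universally effective) quotient `X/R` and `Y ⊆ X` is a subsheaf with induced relation `R_Y`, then
the canonical map `Y/R_Y ⟶ X/R` is a monomorphism. Here `R_Y` is built as the iterated pullback of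
`R` along `Y ⟶ X` on both sides. -/
theorem result {C : Type u₁} [Category.{v₁} C]
    (J : GrothendieckTopology C) [HasSheafify J (Type w)]
    {R X Y : Sheaf J (Type w)} {p₁ p₂ : R ⟶ X} (e : UniversallyEffectiveEquivalenceRelation p₁ p₂)
    (ι : Y ⟶ X) [Mono ι]
    [HasCoequalizer (pullback.fst (pullback.fst p₁ ι ≫ p₂) ι ≫ pullback.snd p₁ ι)
      (pullback.snd (pullback.fst p₁ ι ≫ p₂) ι)]
    (g : coequalizer (pullback.fst (pullback.fst p₁ ι ≫ p₂) ι ≫ pullback.snd p₁ ι)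
      (pullback.snd (pullback.fst p₁ ι ≫ p₂) ι) ⟶ e.B)
    (hg : coequalizer.π _ _ ≫ g = ι ≫ e.π) :
    Mono g := by
  have hUE : Groth.Agent.Lib.Helper3.UnivEffEpi.UE
      (coequalizer.π (pullback.fst (pullback.fst p₁ ι ≫ p₂) ι ≫ pullback.snd p₁ ι)
      (pullback.snd (pullback.fst p₁ ι ≫ p₂) ι)) :=
    Groth.Agent.Lib.Helper3.UnivEffEpi.uee_le_ue _ (Groth.Agent.S5218.result J _)
  refine Groth.Agent.Lib.Helper3.UnivEffEpi.mono_of_ue_of_coeq _ hUE g ?_
  intro W x y hxy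
  rw [hg] at hxy
  obtain ⟨l, hl⟩ : ∃ l, l = e.isKernelPair.lift (x ≫ ι) (y ≫ ι) (by simpa using hxy) := ⟨_, rfl⟩
  have hl₁ : l ≫ p₁ = x ≫ ι := by rw [hl]; exact e.isKernelPair.lift_fst _ _ _
  have hl₂ : l ≫ p₂ = y ≫ ι := by rw [hl]; exact e.isKernelPair.lift_snd _ _ _
  have hc : pullback.lift l x hl₁ ≫ pullback.fst p₁ ι ≫ p₂ = y ≫ ι := by
    rw [pullback.lift_fst_assoc, hl₂]
  have h1 : pullback.lift (pullback.lift l x hl₁) y hc ≫
      (pullback.fst (pullback.fst p₁ ι ≫ p₂) ι ≫ pullback.snd p₁ ι) = x := by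
    rw [pullback.lift_fst_assoc, pullback.lift_snd]
  have h2 : pullback.lift (pullback.lift l x hl₁) y hc ≫
      (pullback.snd (pullback.fst p₁ ι ≫ p₂) ι) = y := by
    rw [pullback.lift_snd]
  calc x ≫ coequalizer.π _ _ = (pullback.lift (pullback.lift l x hl₁) y hc ≫
      (pullback.fst (pullback.fst p₁ ι ≫ p₂) ι ≫ pullback.snd p₁ ι)) ≫ coequalizer.π _ _ := by rw [h1]
    _ = pullback.lift (pullback.lift l x hl₁) y hc ≫ (pullback.fst (pullback.fst p₁ ι ≫ p₂) ι ≫ pullback.snd p₁ ι) ≫ coequalizer.π _ _ := Category.assoc _ _ _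
    _ = pullback.lift (pullback.lift l x hl₁) y hc ≫ (pullback.snd (pullback.fst p₁ ι ≫ p₂) ι) ≫ coequalizer.π _ _ := by rw [coequalizer.condition]
    _ = (pullback.lift (pullback.lift l x hl₁) y hc ≫ (pullback.snd (pullback.fst p₁ ι ≫ p₂) ι)) ≫ coequalizer.π _ _ := (Category.assoc _ _ _).symm
    _ = y ≫ coequalizer.π _ _ := by rw [h2]

end Groth.Agent.S5226
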