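-- Statement S5229.
import Groth.Statements.S5229
import Mathlib

set_option autoImplicit false
open CategoryTheory CategoryTheory.Limits
universe v₁ u₁
open DescCat

namespace Groth.Agent.S5229


theorem isPullback_prodMap {C : Type u₁} [Category.{v₁} C] [HasBinaryProducts C]
    {P X Y Z P' X' Y' Z' : C} {fst : P ⟶ X} {snd : P ⟶ Y} {f : X ⟶ Z} {g : Y ⟶ Z}
    {fst' : P' ⟶ X'} {snd' : P' ⟶ Y'} {f' : X' ⟶ Z'} {g' : Y' ⟶ Z'}
    (h : IsPullback fst snd f g) (h' : IsPullback fst' snd' f' g') :
    IsPullback (prod.map fst fst') (prod.map snd snd') (prod.map f f') (prod.map g g') := by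
  have hw : prod.map fst fst' ≫ prod.map f f' = prod.map snd snd' ≫ prod.map g g' := by
    rw [prod.map_map, prod.map_map, h.w, h'.w]
  have c1 : ∀ s : PullbackCone (prod.map f f') (prod.map g g'),
      (s.fst ≫ prod.fst) ≫ f = (s.snd ≫ prod.fst) ≫ g := by
    intro s
    have := congrArg (· ≫ prod.fst) s.condition
    simpa [Category.assoc] using this
  have c2 : ∀ s : PullbackCone (prod.map f f') (prod.map g g'),
      (s.fst ≫ prod.snd) ≫ f' = (s.snd ≫ prod.snd) ≫ g' := by
    intro s
    have := congrArg (· ≫ prod.snd) s.condition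
    simpa [Category.assoc] using this
  refine ⟨⟨hw⟩, ⟨PullbackCone.IsLimit.mk hw
    (fun s => prod.lift (h.lift (s.fst ≫ prod.fst) (s.snd ≫ prod.fst) (c1 s))
      (h'.lift (s.fst ≫ prod.snd) (s.snd ≫ prod.snd) (c2 s))) ?_ ?_ ?_⟩⟩
  · intro s
    apply Limits.prod.hom_ext
    · rw [Category.assoc, prod.map_fst, ← Category.assoc, prod.lift_fst, h.lift_fst]
    · rw [Category.assoc, prod.map_snd, ← Category.assoc, prod.lift_snd, h'.lift_fst]
  · intro s
    apply Limits.prod.hom_ext
    · rw [Category.assoc, prod.map_fst, ← Category.assoc, prod.lift_fst, h.lift_snd]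
    · rw [Category.assoc, prod.map_snd, ← Category.assoc, prod.lift_snd, h'.lift_snd]
  · intro s m hm1 hm2
    apply Limits.prod.hom_ext
    · simp only [prod.lift_fst]
      apply h.hom_ext
      · simp only [IsPullback.lift_fst, Category.assoc, ← hm1, prod.map_fst]
      · simp only [IsPullback.lift_snd, Category.assoc, ← hm2, prod.map_fst]
    · simp only [prod.lift_snd]
      apply h'.hom_ext
      · simp only [IsPullback.lift_fst, Category.assoc, ← hm1, prod.map_snd]
      · simp only [IsPullback.lift_snd, Category.assoc, ← hm2, prod.map_snd]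

/-- For universal effective epimorphisms, in a category with pullbacks and binary products: for two
universally effective equivalence relations `R ⇉ X` and `R' ⇉ X'` with quotient maps `π` and `π'`,
the product relation `R × R' ⇉ X × X'` is the kernel pair of `π × π'`. (Together with the fact that
a product of two universal effective epimorphisms is again one, this says that `(X × X')/(R × R')`
is `(X/R) × (X'/R')`; only the kernel-pair assertion is stated here.) -/
theorem result {C : Type u₁} [Category.{v₁} C]
    [HasPullbacks C] [HasBinaryProducts C]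
    {R X R' X' : C} {p₁ p₂ : R ⟶ X} {p₁' p₂' : R' ⟶ X'}
    (e : UniversallyEffectiveEquivalenceRelation p₁ p₂)
    (e' : UniversallyEffectiveEquivalenceRelation p₁' p₂') :
    IsKernelPair (prod.map e.π e'.π) (prod.map p₁ p₁') (prod.map p₂ p₂') := by
  exact isPullback_prodMap e.isKernelPair e'.isKernelPair

end Groth.Agent.S5229
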