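import Groth.Statements.S5231


set_option autoImplicit false
open CategoryTheory
universe w v₁ u₁
open ShfCat

namespace Groth.Agent.S5231

lemma app_eq_of_overPullback_eq {C : Type u₁} [Category.{v₁} C]
    (J : GrothendieckTopology C) {F G : Sheaf J (Type w)} (a b : F ⟶ G) (T : C)
    (h : (J.overPullback (Type w) T).map a = (J.overPullback (Type w) T).map b) :
    a.hom.app (Opposite.op T) = b.hom.app (Opposite.op T) := by
  have := congrArg (fun t => t.hom.app (Opposite.op (Over.mk (𝟙 T)))) h
  exact this

lemma eq_of_locally_eq {C : Type u₁} [Category.{v₁} C]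
    (J : GrothendieckTopology C) {F G : Sheaf J (Type w)} (a b : F ⟶ G)
    (h : ∀ S : C, ∃ R : Sieve S, R ∈ J S ∧ ∀ ⦃T : C⦄ (g : T ⟶ S), R g →
      a.hom.app (Opposite.op T) = b.hom.app (Opposite.op T)) : a = b := by
  apply Sheaf.hom_ext
  ext ⟨S⟩ z
  obtain ⟨R, hR, hRab⟩ := h S
  have hsep : Presieve.IsSeparatedFor G.obj R.arrows :=
    ((isSheaf_iff_isSheaf_of_type J G.obj).1 G.property).isSeparated R hR
  refine hsep.ext fun T g hg => ?_
  have n1 := ConcreteCategory.congr_hom (a.hom.naturality g.op) z
  have n2 := ConcreteCategory.congr_hom (b.hom.naturality g.op) z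
  simp only [ConcreteCategory.comp_apply] at n1 n2
  exact (n1.symm.trans (by rw [hRab g hg])).trans n2


/-- (iii) ⇒ (i): a morphism `f` of sheaves of sets on a site is a monomorphism (resp. an epimorphism) as
soon as, for every object `S`, the morphisms `T ⟶ S` over which the restriction of `f` to the
induced site `C/T` is a monomorphism (resp. an epimorphism) form a covering sieve. No sheafification
is assumed. (The published statement also treats isomorphisms in the same way; that case is left out
here.) -/
theorem result {C : Type u₁} [Category.{v₁} C]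
    (J : GrothendieckTopology C) {F G : Sheaf J (Type w)} (f : F ⟶ G) :
    ((∀ S : C, ∃ R : Sieve S, R ∈ J S ∧ ∀ ⦃T : C⦄ (g : T ⟶ S), R g →
        Mono ((J.overPullback (Type w) T).map f)) → Mono f) ∧
    ((∀ S : C, ∃ R : Sieve S, R ∈ J S ∧ ∀ ⦃T : C⦄ (g : T ⟶ S), R g →
        Epi ((J.overPullback (Type w) T).map f)) → Epi f) := by
  constructor
  · intro h
    refine ⟨fun {Z} a b hab => ?_⟩
    refine eq_of_locally_eq J a b fun S => ?_
    obtain ⟨R, hR, hmono⟩ := h S
    refine ⟨R, hR, fun T g hg => ?_⟩
    haveI := hmono g hg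
    apply app_eq_of_overPullback_eq
    rw [← cancel_mono ((J.overPullback (Type w) T).map f), ← Functor.map_comp, ← Functor.map_comp,
      hab]
  · intro h
    refine ⟨fun {Z} a b hab => ?_⟩
    refine eq_of_locally_eq J a b fun S => ?_
    obtain ⟨R, hR, hepi⟩ := h S
    refine ⟨R, hR, fun T g hg => ?_⟩
    haveI := hepi g hg
    apply app_eq_of_overPullback_eq
    rw [← cancel_epi ((J.overPullback (Type w) T).map f), ← Functor.map_comp, ← Functor.map_comp,
      hab]

end Groth.Agent.S5231
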