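import Groth.Statements.S5232
import Mathlib
import Groth.Agent.Lib.Helper10.DescH
import Groth.Agent.Lib.Helper16.SpCoprod
import Groth.Agent.Lib.Helper28.EffDesc.Glue
import Groth.Agent.S0082

set_option autoImplicit false
open CategoryTheory CategoryTheory.Limits AlgebraicGeometry
universe u
open GrpQ

namespace Groth.Agent.S5232

/-- On the big fppf site of a scheme `S`, in the case where the local representing objects are affine
over the cover (so that the canonical descent datum is effective): if `Z` is an fppf sheaf over `S`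
and, for an fppf cover `S' ⟶ S`, the sheaf `Z ×_S S'` is represented over `S'` by a scheme affine
over `S'`, then `Z` is represented by a scheme affine over `S`. -/
theorem result {S S' : Scheme.{u}} (f : S' ⟶ S)
    [Flat f] [Surjective f] [LocallyOfFinitePresentation f]
    (Z : QuotSh.Sh Scheme.fppfPrecoverage S)
    (T' : Over S) (a : T' ⟶ Over.mk f) [IsAffineHom a.left]
    (φ : QuotSh.rep Scheme.fppfPrecoverage T' ≅ Z ⨯ QuotSh.rep Scheme.fppfPrecoverage (Over.mk f))
    (hφ : φ.hom ≫ prod.snd = QuotSh.repMap Scheme.fppfPrecoverage a) :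
    ∃ T : Over S, IsAffineHom T.hom ∧ Nonempty (QuotSh.rep Scheme.fppfPrecoverage T ≅ Z) := by
  have N' : ∀ {V W : Over S} (g : V ⟶ W), QuotSh.repMap Scheme.fppfPrecoverage g ≫
      (QuotSh.repIsoUliftYoneda Scheme.fppfPrecoverage W).hom =
      (QuotSh.repIsoUliftYoneda Scheme.fppfPrecoverage V).hom ≫ (AlgSp.yon S).map g := fun {V W} g => by
    have N : (AlgSp.yon S).map g ≫ (QuotSh.repIsoUliftYoneda Scheme.fppfPrecoverage W).inv =
        (QuotSh.repIsoUliftYoneda Scheme.fppfPrecoverage V).inv ≫ QuotSh.repMap Scheme.fppfPrecoverage g :=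
      (sheafificationNatIso (AlgSp.J S) (Type (u + 1))).hom.naturality ((AlgSp.yon S).map g)
    rw [← Iso.inv_comp_eq, ← Category.assoc, ← N, Category.assoc, Iso.inv_hom_id, Category.comp_id]
  have hterm := Groth.Agent.Lib.Helper16.SpCoprod.isTerminalOne S
  obtain ⟨po, hpo⟩ : ∃ po : Over.mk f ⟶ Over.mk (𝟙 S), po.left = f :=
    ⟨Over.homMk f (Category.comp_id _), rfl⟩
  have sq0 : IsPullback (prod.fst : Z ⨯ QuotSh.rep Scheme.fppfPrecoverage (Over.mk f) ⟶ Z) prod.snd
      (hterm.from _) (hterm.from _) := IsPullback.of_is_product' (prodIsProd _ _) hterm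
  have sq : IsPullback ((QuotSh.repIsoUliftYoneda Scheme.fppfPrecoverage T').inv ≫ φ.hom ≫ prod.fst)
      ((AlgSp.yon S).map a) (hterm.from Z) ((AlgSp.yon S).map po) := by
    refine IsPullback.of_iso sq0 (φ.symm ≪≫ QuotSh.repIsoUliftYoneda Scheme.fppfPrecoverage T') (Iso.refl _)
      (QuotSh.repIsoUliftYoneda Scheme.fppfPrecoverage (Over.mk f)) (Iso.refl _) ?_ ?_ ?_ ?_
    · simp
    · rw [Iso.trans_hom, Iso.symm_hom, Category.assoc, ← N' a, ← hφ]
      simp
    · exact hterm.hom_ext _ _
    · exact hterm.hom_ext _ _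
  haveI : Flat po.left := by rw [hpo]; infer_instance
  haveI : Surjective po.left := by rw [hpo]; infer_instance
  haveI : LocallyOfFinitePresentation po.left := by rw [hpo]; infer_instance
  obtain ⟨W, w, q, ε, hpbW, -, -⟩ := H10PT.Desc.rep_of_affine_case (hterm.from Z) po a _ sq @IsAffineHom
    (fun {X' S'} p' hfl hsurj hlfp hX hS D' hD' => by
      haveI := hfl
      haveI := hsurj
      haveI := hX
      haveI := hS
      haveI : IsAffineHom D'.obj.hom := hD'
      haveI : QuasiCompact p' :=
        HasAffineProperty.iff_of_isAffine.mpr (inferInstance : CompactSpace X')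
      exact Groth.Agent.Lib.Helper28.EffDesc.schDD_effective_of_affine D')
    (inferInstance : IsAffineHom a.left)
  haveI := Groth.Agent.S0082.result.{u}
  have haff : IsAffineHom w.left :=
    MorphismProperty.of_isPullback_of_descendsAlong (P := @IsAffineHom)
      (Q := (@Surjective ⊓ @Flat ⊓ @LocallyOfFinitePresentation : MorphismProperty Scheme.{u})) hpbW
      ⟨⟨inferInstance, inferInstance⟩, inferInstance⟩ (inferInstance : IsAffineHom a.left)
  refine ⟨W, ?_, ⟨QuotSh.repIsoUliftYoneda Scheme.fppfPrecoverage W ≪≫ ε⟩⟩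
  have e : W.hom = w.left := by
    have := Over.w w
    rw [← this]
    exact (Category.comp_id _).symm
  rw [e]
  exact haff

end Groth.Agent.S5232
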