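-- Statement S5235.
import Groth.Statements.S5235
import Mathlib

set_option autoImplicit false
open CategoryTheory CategoryTheory.Limits AlgebraicGeometry
universe u
open GrpQ

namespace Groth.Agent.S5235


/-- range of the arrow of `Subobject.mk` -/
lemma range_mk_arrow {X A : Scheme.{u}} (j : A ⟶ X) [Mono j] :
    Set.range (Subobject.mk j).arrow = Set.range j := by
  ext x
  constructor
  · rintro ⟨a, rfl⟩
    refine ⟨(Subobject.underlyingIso j).hom a, ?_⟩
    rw [← Scheme.Hom.comp_apply, Subobject.underlyingIso_hom_comp_eq_mk]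
  · rintro ⟨a, rfl⟩
    refine ⟨(Subobject.underlyingIso j).inv a, ?_⟩
    rw [← Scheme.Hom.comp_apply, Subobject.underlyingIso_arrow]

/-- range of the pullback of a subobject -/
lemma range_pullback_arrow {X X' : Scheme.{u}} (f : X ⟶ X') (Y' : Subobject X') :
    Set.range ((Subobject.pullback f).obj Y').arrow = f ⁻¹' Set.range Y'.arrow := by
  rw [Subobject.pullback_obj, range_mk_arrow, Scheme.Pullback.range_snd]

lemma isOpenImmersion_mk_arrow {X A : Scheme.{u}} (j : A ⟶ X) [IsOpenImmersion j] :
    IsOpenImmersion (Subobject.mk j).arrow := by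
  rw [← Subobject.underlyingIso_hom_comp_eq_mk j]
  infer_instance

lemma isOpenImmersion_pullback_arrow {X X' : Scheme.{u}} (f : X ⟶ X') (Y' : Subobject X')
    [IsOpenImmersion Y'.arrow] : IsOpenImmersion ((Subobject.pullback f).obj Y').arrow := by
  rw [Subobject.pullback_obj]
  exact isOpenImmersion_mk_arrow _

/-- open subobjects are determined by their range -/
lemma eq_of_range_eq {X : Scheme.{u}} (Y₁ Y₂ : Subobject X) [IsOpenImmersion Y₁.arrow]
    [IsOpenImmersion Y₂.arrow] (h : Set.range Y₁.arrow = Set.range Y₂.arrow) : Y₁ = Y₂ :=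
  Subobject.eq_of_comm (IsOpenImmersion.isoOfRangeEq Y₁.arrow Y₂.arrow h)
    (IsOpenImmersion.isoOfRangeEq_hom_fac _ _ h)

/-- For schemes, with (M) the faithfully flat quasi-compact morphisms and (N) the open immersions: if `π
: X ⟶ X'` is flat, surjective and quasi-compact, then `Y' ↦ π⁻¹(Y')` is a bijection from open
subschemes of `X'` onto the open subschemes of `X` stable under the kernel pair of `π`. -/
theorem result {X X' : Scheme.{u}} (π : X ⟶ X')
    [Flat π] [Surjective π] [QuasiCompact π] :
    Set.BijOn (Subobject.pullback π).obj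
      {Y' : Subobject X' | IsOpenImmersion Y'.arrow}
      {Y : Subobject X | IsOpenImmersion Y.arrow ∧
        (Subobject.pullback (pullback.fst π π)).obj Y = (Subobject.pullback (pullback.snd π π)).obj Y} := by
  refine ⟨?_, ?_, ?_⟩
  · -- MapsTo
    intro Y' hY'
    have : IsOpenImmersion Y'.arrow := hY'
    refine ⟨isOpenImmersion_pullback_arrow π Y', ?_⟩
    rw [← Subobject.pullback_comp, ← Subobject.pullback_comp, pullback.condition]
  · -- InjOn
    intro Y₁ h₁ Y₂ h₂ h
    have : IsOpenImmersion Y₁.arrow := h₁
    have : IsOpenImmersion Y₂.arrow := h₂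
    apply eq_of_range_eq
    have h' := congrArg (fun Z : Subobject X => Set.range Z.arrow) h
    simp only [range_pullback_arrow] at h'
    exact (Surjective.surj (f := π) : Function.Surjective π).preimage_injective h'
  · -- SurjOn
    rintro Y ⟨hY, hst⟩
    have : IsOpenImmersion Y.arrow := hY
    set U : Set X := Set.range Y.arrow with hU
    have hUo : IsOpen U := Y.arrow.isOpenEmbedding.isOpen_range
    have hst' : (pullback.fst π π) ⁻¹' U = (pullback.snd π π) ⁻¹' U := by
      have h' := congrArg (fun Z : Subobject (pullback π π) => Set.range Z.arrow) hst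
      simpa only [range_pullback_arrow] using h'
    have hsat : π ⁻¹' (π '' U) = U := by
      apply Set.Subset.antisymm
      · rintro x' ⟨x, hxU, hx⟩
        obtain ⟨z, hz1, hz2⟩ := Scheme.Pullback.exists_preimage_pullback x x' hx
        have : z ∈ (pullback.fst π π) ⁻¹' U := by
          change (pullback.fst π π) z ∈ U
          rw [hz1]; exact hxU
        rw [hst'] at this
        change (pullback.snd π π) z ∈ U at this
        rwa [hz2] at this
      · exact Set.subset_preimage_image _ _
    have hVo : IsOpen (π '' U) := by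
      rw [← (Flat.isQuotientMap_of_surjective π).isOpen_preimage, hsat]
      exact hUo
    let V : X'.Opens := ⟨π '' U, hVo⟩
    refine ⟨Subobject.mk V.ι, isOpenImmersion_mk_arrow _, ?_⟩
    have : IsOpenImmersion (Subobject.mk V.ι).arrow := isOpenImmersion_mk_arrow _
    have := isOpenImmersion_pullback_arrow π (Subobject.mk V.ι)
    apply eq_of_range_eq
    rw [range_pullback_arrow, range_mk_arrow, Scheme.Opens.range_ι]
    exact hsat

end Groth.Agent.S5235
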