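import Mathlib
import Groth.Statements.S5242
import Groth.Agent.Lib.Helper28.MultFin

set_option autoImplicit false
universe u
open TensorProduct SGA3b
open SGA3b

namespace Groth.Agent.S5242

open Groth.Agent.Lib.Helper19 Groth.Agent.Lib.Helper28

section Gen

variable {T : Type u} [CommRing T] {B : Type u} [CommRing B] [HopfAlgebra T B]

lemma powConv_mem (n : ℕ) (x : B) (hx : Coalgebra.counit (R := T) x = 0) :
    powConv T B n x ∈ torsionIdeal T B n :=
  Ideal.mem_map_of_mem _
    ((RingHom.mem_ker (f := Bialgebra.counitAlgHom T B)).2 hx)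

lemma tors_le (n : ℕ) (I : Ideal B)
    (h : ∀ x : B, Coalgebra.counit (R := T) x = 0 → powConv T B n x ∈ I) :
    torsionIdeal T B n ≤ I :=
  Ideal.map_le_iff_le_comap.2 fun x hx =>
    h x ((RingHom.mem_ker (f := Bialgebra.counitAlgHom T B)).1 hx)

lemma powConv_comm {B' : Type u} [CommRing B'] [HopfAlgebra T B'] (g : B →ₐc[T] B') (n : ℕ)
    (x : B) : g (powConv T B n x) = powConv T B' n (g x) := by
  have h1 := ConvBC.comp_pow (g : B →ₐ[T] B') (WithConv.toConv (AlgHom.id T B)) n
  have h2 := ConvBC.pow_comp g (WithConv.toConv (AlgHom.id T B')) n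
  rw [WithConv.ofConv_toConv, AlgHom.comp_id] at h1
  rw [WithConv.ofConv_toConv, AlgHom.id_comp] at h2
  have h3 := h1.trans h2.symm
  exact congrArg (fun φ : B →ₐ[T] B' => φ x) h3

lemma map_mem_tors {B' : Type u} [CommRing B'] [HopfAlgebra T B'] (g : B →ₐc[T] B') (n : ℕ)
    {x : B} (hx : x ∈ torsionIdeal T B n) : g x ∈ torsionIdeal T B' n := by
  have hle : torsionIdeal T B n ≤ Ideal.comap (g : B →ₐ[T] B') (torsionIdeal T B' n) := by
    apply tors_le
    intro y hy
    show g (powConv T B n y) ∈ torsionIdeal T B' n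
    rw [powConv_comm]
    exact powConv_mem n _ (by rw [CoalgHomClass.counit_comp_apply]; exact hy)
  exact hle hx

theorem nonempty_equiv_of_ker_iff {B C₁ C₂ : Type u} [CommRing B] [CommRing C₁] [CommRing C₂]
    [Bialgebra T B] [Bialgebra T C₁] [Bialgebra T C₂]
    (p₁ : B →ₐc[T] C₁) (p₂ : B →ₐc[T] C₂) (h₁ : Function.Surjective p₁)
    (h₂ : Function.Surjective p₂) (hk : ∀ x, p₁ x = 0 ↔ p₂ x = 0) :
    Nonempty (C₁ ≃ₐc[T] C₂) := by
  have H : RingHom.ker (p₁ : B →ₐ[T] C₁).toRingHom ≤ RingHom.ker (p₂ : B →ₐ[T] C₂).toRingHom :=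
    fun x hx => (RingHom.mem_ker).2 ((hk x).1 ((RingHom.mem_ker).1 hx))
  let φ : C₁ →ₐ[T] C₂ := AlgHom.liftOfSurjective (p₁ : B →ₐ[T] C₁) h₁ (p₂ : B →ₐ[T] C₂) H
  have hφ : ∀ b, φ (p₁ b) = p₂ b := fun b =>
    AlgHom.liftOfSurjective_apply (p₁ : B →ₐ[T] C₁) h₁ (p₂ : B →ₐ[T] C₂) H b
  have hcounit : (Bialgebra.counitAlgHom T C₂).comp φ = Bialgebra.counitAlgHom T C₁ := by
    apply AlgHom.ext
    intro c
    obtain ⟨b, rfl⟩ := h₁ c
    show Coalgebra.counit (R := T) (φ (p₁ b)) = Coalgebra.counit (R := T) (p₁ b)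
    rw [hφ, CoalgHomClass.counit_comp_apply, CoalgHomClass.counit_comp_apply]
  have hcomul : (Algebra.TensorProduct.map φ φ).comp (Bialgebra.comulAlgHom T C₁) =
      (Bialgebra.comulAlgHom T C₂).comp φ := by
    apply AlgHom.ext
    intro c
    obtain ⟨b, rfl⟩ := h₁ c
    show Algebra.TensorProduct.map φ φ (Coalgebra.comul (R := T) (p₁ b)) =
      Coalgebra.comul (R := T) (φ (p₁ b))
    have e1 := CoalgHomClass.map_comp_comul_apply p₁ b
    have e2 := CoalgHomClass.map_comp_comul_apply p₂ b
    rw [hφ, ← e1, ← e2]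
    generalize Coalgebra.comul (R := T) b = t
    induction t using TensorProduct.induction_on with
    | zero => simp only [map_zero]
    | tmul x y =>
      show φ (p₁ x) ⊗ₜ[T] φ (p₁ y) = p₂ x ⊗ₜ[T] p₂ y
      rw [hφ, hφ]
    | add t t' ht ht' => simp only [map_add, ht, ht']
  let Φ : C₁ →ₐc[T] C₂ := BialgHom.ofAlgHom φ hcounit hcomul
  have hbij : Function.Bijective Φ := by
    constructor
    · apply (injective_iff_map_eq_zero φ).2
      intro c hc
      obtain ⟨b, rfl⟩ := h₁ c
      rw [hφ] at hc
      exact (hk b).2 hc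
    · intro c
      obtain ⟨b, rfl⟩ := h₂ c
      exact ⟨p₁ b, hφ b⟩
  exact ⟨BialgEquiv.ofBijective Φ hbij⟩

end Gen

section BC

variable (R : Type u) [CommRing R] (A : Type u) [CommRing A] [HopfAlgebra R A]
  (T : Type u) [CommRing T] [Algebra R T]

lemma powConv_tmul (n : ℕ) (t : T) (a : A) :
    powConv T (T ⊗[R] A) n (t ⊗ₜ[R] a) = t ⊗ₜ[R] powConv R A n a := by
  have e1 : t ⊗ₜ[R] a = t • ((1 : T) ⊗ₜ[R] a) := by
    rw [TensorProduct.smul_tmul', smul_eq_mul, mul_one]
  have e2 : powConv T (T ⊗[R] A) n ((1 : T) ⊗ₜ[R] a) = (1 : T) ⊗ₜ[R] powConv R A n a :=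
    ConvBC.pow_id_one_tmul R T A n a
  rw [e1, map_smul, e2, TensorProduct.smul_tmul', smul_eq_mul, mul_one]

lemma algebraMap_counit_tmul (t : T) (a : A) :
    algebraMap T (T ⊗[R] A) (Coalgebra.counit (R := T) (t ⊗ₜ[R] a)) =
      t ⊗ₜ[R] algebraMap R A (Coalgebra.counit (R := R) a) := by
  have hct : Coalgebra.counit (R := T) (t ⊗ₜ[R] a) = Coalgebra.counit (R := R) a • t := by
    rfl
  rw [hct, Algebra.TensorProduct.algebraMap_apply, Algebra.algebraMap_self_apply,
    TensorProduct.smul_tmul, Algebra.algebraMap_eq_smul_one]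

theorem tors_baseChange (n : ℕ) :
    Ideal.map (Algebra.TensorProduct.includeRight : A →ₐ[R] T ⊗[R] A) (torsionIdeal R A n) =
      torsionIdeal T (T ⊗[R] A) n := by
  apply le_antisymm
  · rw [Ideal.map_le_iff_le_comap]
    apply tors_le
    intro a ha
    show (1 : T) ⊗ₜ[R] (powConv R A n a) ∈ torsionIdeal T (T ⊗[R] A) n
    rw [← powConv_tmul]
    apply powConv_mem
    rw [ConvBC.counit_one_tmul, ha, map_zero]
  · apply tors_le
    intro x hx
    have key : ∀ y : T ⊗[R] A, powConv T (T ⊗[R] A) n y -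
        algebraMap T (T ⊗[R] A) (Coalgebra.counit (R := T) y) ∈
        Ideal.map (Algebra.TensorProduct.includeRight : A →ₐ[R] T ⊗[R] A)
          (torsionIdeal R A n) := by
      intro y
      induction y using TensorProduct.induction_on with
      | zero =>
        rw [map_zero, map_zero, map_zero, sub_zero]
        exact Ideal.zero_mem _
      | tmul t a =>
        have e2 : powConv T (T ⊗[R] A) n (t ⊗ₜ[R] a) -
            algebraMap T (T ⊗[R] A) (Coalgebra.counit (R := T) (t ⊗ₜ[R] a)) =
            algebraMap T (T ⊗[R] A) t * ((1 : T) ⊗ₜ[R]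
              (powConv R A n (a - algebraMap R A (Coalgebra.counit (R := R) a)))) := by
          rw [powConv_tmul, algebraMap_counit_tmul, map_sub, AlgHom.commutes,
            Algebra.TensorProduct.algebraMap_apply, Algebra.algebraMap_self_apply,
            Algebra.TensorProduct.tmul_mul_tmul, mul_one, one_mul, TensorProduct.tmul_sub]
        rw [e2]
        apply Ideal.mul_mem_left
        have hmem : powConv R A n (a - algebraMap R A (Coalgebra.counit (R := R) a)) ∈
            torsionIdeal R A n := by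
          apply powConv_mem
          rw [map_sub, Bialgebra.counit_algebraMap, sub_self]
        exact Ideal.mem_map_of_mem (Algebra.TensorProduct.includeRight : A →ₐ[R] T ⊗[R] A) hmem
      | add y z hy hz =>
        have e3 : powConv T (T ⊗[R] A) n (y + z) -
            algebraMap T (T ⊗[R] A) (Coalgebra.counit (R := T) (y + z)) =
            (powConv T (T ⊗[R] A) n y - algebraMap T (T ⊗[R] A) (Coalgebra.counit (R := T) y)) +
            (powConv T (T ⊗[R] A) n z - algebraMap T (T ⊗[R] A) (Coalgebra.counit (R := T) z)) := by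
          rw [map_add, map_add, map_add]; ring
        rw [e3]
        exact Ideal.add_mem _ hy hz
    have h := key x
    rw [hx, map_zero, sub_zero] at h
    exact h

variable {A} {C : Type u} [CommRing C] [HopfAlgebra R C]

lemma map_surj (π : A →ₐc[R] C) (hπ : Function.Surjective π) :
    Function.Surjective (Bialgebra.TensorProduct.map (BialgHom.id T T) π) := by
  intro z
  induction z using TensorProduct.induction_on with
  | zero => exact ⟨0, map_zero _⟩
  | tmul t c =>
    obtain ⟨a, rfl⟩ := hπ c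
    exact ⟨t ⊗ₜ[R] a, rfl⟩
  | add z w hz hw =>
    obtain ⟨z', rfl⟩ := hz
    obtain ⟨w', rfl⟩ := hw
    exact ⟨z' + w', map_add _ _ _⟩

theorem ker_baseChange (π : A →ₐc[R] C) (hπ : Function.Surjective π) (n : ℕ)
    (hk : ∀ a, π a = 0 ↔ a ∈ torsionIdeal R A n) (y : T ⊗[R] A) :
    Bialgebra.TensorProduct.map (BialgHom.id T T) π y = 0 ↔
      y ∈ torsionIdeal T (T ⊗[R] A) n := by
  have h1 : RingHom.ker (Algebra.TensorProduct.map (AlgHom.id R T) (π : A →ₐ[R] C)) =
      Ideal.map (Algebra.TensorProduct.includeRight : A →ₐ[R] T ⊗[R] A)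
        (RingHom.ker (π : A →ₐ[R] C)) :=
    Algebra.TensorProduct.lTensor_ker (A := T) (π : A →ₐ[R] C) hπ
  have h2 : RingHom.ker (π : A →ₐ[R] C) = torsionIdeal R A n := by
    ext a
    rw [RingHom.mem_ker]
    exact hk a
  rw [h2, tors_baseChange] at h1
  have h3 : Bialgebra.TensorProduct.map (BialgHom.id T T) π y =
      Algebra.TensorProduct.map (AlgHom.id R T) (π : A →ₐ[R] C) y := by
    induction y using TensorProduct.induction_on with
    | zero => rw [map_zero, map_zero]
    | tmul t a => rfl
    | add y z hy hz => rw [map_add, map_add, hy, hz]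
  rw [← h1, RingHom.mem_ker, h3]

end BC

section GrpAlg

variable (T : Type u) [CommRing T] (M : Type u) [CommGroup M]

theorem ker_q (n : ℕ) (y : MonoidAlgebra T M) :
    MonoidAlgebra.mapDomainBialgHom T
        (QuotientGroup.mk' ((powMonoidHom n : M →* M).range)) y = 0 ↔
      y ∈ torsionIdeal T (MonoidAlgebra T M) n := by
  set H : Subgroup M := (powMonoidHom n : M →* M).range with hH
  set q : MonoidAlgebra T M →ₐc[T] MonoidAlgebra T (M ⧸ H) :=
    MonoidAlgebra.mapDomainBialgHom T (QuotientGroup.mk' H) with hq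
  constructor
  · intro hy
    let t : M ⧸ H → M := Function.surjInv (QuotientGroup.mk'_surjective H)
    have ht : ∀ c, QuotientGroup.mk' H (t c) = c :=
      Function.surjInv_eq (QuotientGroup.mk'_surjective H)
    have key : ∀ x : MonoidAlgebra T M,
        x - MonoidAlgebra.mapDomain t (q x) ∈ torsionIdeal T (MonoidAlgebra T M) n := by
      intro x
      induction x using MonoidAlgebra.induction_linear with
      | zero =>
        rw [map_zero, MonoidAlgebra.mapDomain_zero, sub_zero]
        exact Ideal.zero_mem _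
      | add x y hx hy =>
        have e : (x + y) - MonoidAlgebra.mapDomain t (q (x + y)) =
            (x - MonoidAlgebra.mapDomain t (q x)) + (y - MonoidAlgebra.mapDomain t (q y)) := by
          rw [map_add, MonoidAlgebra.mapDomain_add]; abel
        rw [e]
        exact Ideal.add_mem _ hx hy
      | single m r =>
        rw [hq, MonoidAlgebra.mapDomainBialgHom_single, MonoidAlgebra.mapDomain_single]
        have h1 : QuotientGroup.mk' H (t (QuotientGroup.mk' H m)) = QuotientGroup.mk' H m :=
          ht _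
        have h2 : (t (QuotientGroup.mk' H m))⁻¹ * m ∈ H := QuotientGroup.eq.1 h1
        obtain ⟨g, hg⟩ := h2
        have hg' : g ^ n = (t (QuotientGroup.mk' H m))⁻¹ * m := hg
        have h3 : MonoidAlgebra.single m r -
            MonoidAlgebra.single (t (QuotientGroup.mk' H m)) r =
            MonoidAlgebra.single (t (QuotientGroup.mk' H m)) r *
              (powConv T (MonoidAlgebra T M) n (MonoidAlgebra.single g 1 - 1)) := by
          rw [map_sub, map_one]
          have e4 : powConv T (MonoidAlgebra T M) n (MonoidAlgebra.single g 1) =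
              MonoidAlgebra.single (g ^ n) 1 := MultFin.pow_id_single M n g 1
          rw [e4, mul_sub, mul_one, MonoidAlgebra.single_mul_single, mul_one, hg',
            mul_inv_cancel_left]
        rw [h3]
        apply Ideal.mul_mem_left
        apply powConv_mem
        rw [map_sub, MonoidAlgebra.counit_single, CommSemiring.counit_apply,
          Bialgebra.counit_one, sub_self]
    have h := key y
    rw [hy, MonoidAlgebra.mapDomain_zero, sub_zero] at h
    exact h
  · intro hy
    have hexp : ∀ c : M ⧸ H, c ^ n = 1 := by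
      intro c
      obtain ⟨m, rfl⟩ := QuotientGroup.mk'_surjective H c
      rw [← map_pow]
      exact (QuotientGroup.eq_one_iff (m ^ n)).2 ⟨m, rfl⟩
    have hle : torsionIdeal T (MonoidAlgebra T M) n ≤
        RingHom.ker (q : MonoidAlgebra T M →ₐ[T] MonoidAlgebra T (M ⧸ H)) := by
      apply tors_le
      intro x hx
      rw [RingHom.mem_ker]
      show q (powConv T (MonoidAlgebra T M) n x) = 0
      rw [powConv_comm q n x]
      have h1 : (WithConv.toConv (AlgHom.id T (MonoidAlgebra T (M ⧸ H)))) ^ n = 1 :=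
        MultFin.pow_id_of_pow_eq_one (M ⧸ H) n hexp
      show ((WithConv.toConv (AlgHom.id T (MonoidAlgebra T (M ⧸ H)))) ^ n).ofConv (q x) = 0
      rw [h1, MultFin.one_apply, CoalgHomClass.counit_comp_apply, hx, map_zero]
    exact (RingHom.mem_ker).1 (hle hy)

lemma q_surj (H : Subgroup M) :
    Function.Surjective (MonoidAlgebra.mapDomainBialgHom T (QuotientGroup.mk' H)) := by
  intro z
  induction z using MonoidAlgebra.induction_linear with
  | zero => exact ⟨0, map_zero _⟩
  | add z w hz hw =>
    obtain ⟨z', rfl⟩ := hz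
    obtain ⟨w', rfl⟩ := hw
    exact ⟨z' + w', map_add _ _ _⟩
  | single c r =>
    obtain ⟨m, rfl⟩ := QuotientGroup.mk'_surjective H c
    exact ⟨MonoidAlgebra.single m r, MonoidAlgebra.mapDomainBialgHom_single _ _ _⟩

variable {M}

theorem isDiag_of_surj {B C : Type u} [CommRing B] [HopfAlgebra T B] [CommRing C]
    [HopfAlgebra T C] (n : ℕ) (ψ : B ≃ₐc[T] MonoidAlgebra T M) (p : B →ₐc[T] C)
    (hp : Function.Surjective p) (hk : ∀ y, p y = 0 ↔ y ∈ torsionIdeal T B n) :
    IsDiag T C := by
  refine ⟨M ⧸ (powMonoidHom n : M →* M).range, inferInstance, ?_⟩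
  let p' : MonoidAlgebra T M →ₐc[T] C := p.comp (ψ.symm : MonoidAlgebra T M →ₐc[T] B)
  have hp's : Function.Surjective p' := hp.comp (EquivLike.surjective ψ.symm)
  have hp'k : ∀ y, p' y = 0 ↔ y ∈ torsionIdeal T (MonoidAlgebra T M) n := fun y => by
    show p (ψ.symm y) = 0 ↔ _
    rw [hk]
    constructor
    · intro hy
      have h := map_mem_tors (ψ : B →ₐc[T] MonoidAlgebra T M) n hy
      rwa [show (ψ : B →ₐc[T] MonoidAlgebra T M) (ψ.symm y) = y from ψ.apply_symm_apply y] at h
    · intro hy
      exact map_mem_tors (ψ.symm : MonoidAlgebra T M →ₐc[T] B) n hy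
  exact nonempty_equiv_of_ker_iff p'
    (MonoidAlgebra.mapDomainBialgHom T (QuotientGroup.mk' ((powMonoidHom n : M →* M).range)))
    hp's (q_surj T M _) (fun y => (hp'k y).trans (ker_q T M n y).symm)

end GrpAlg

section Main

variable (R : Type u) [CommRing R] (A : Type u) [CommRing A] [HopfAlgebra R A]

lemma tors_quot_eq_bot (n : ℕ) (J : Ideal A) [J.IsHopfIdeal R] (hJ : J = torsionIdeal R A n) :
    torsionIdeal R (A ⧸ J) n = ⊥ := by
  rw [eq_bot_iff]
  apply tors_le
  intro y hy
  obtain ⟨a, rfl⟩ := Ideal.Quotient.mk_surjective y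
  have h1 : powConv R (A ⧸ J) n (Ideal.Quotient.mk J a) =
      Ideal.Quotient.mk J (powConv R A n a) :=
    (powConv_comm (T := R) (B := A) (B' := A ⧸ J)
      (Bialgebra.Quotient.mkBialgHom (R := R) J) n a).symm
  rw [h1, Ideal.mem_bot, Ideal.Quotient.eq_zero_iff_mem, hJ]
  exact powConv_mem n a hy

theorem isMultType_quot (h : IsMultType R A) (n : ℕ) (J : Ideal A) [J.IsHopfIdeal R]
    (hJ : J = torsionIdeal R A n) : IsMultType R (A ⧸ J) := by
  obtain ⟨s, hs, hmt⟩ := h
  refine ⟨s, hs, fun f hf => ?_⟩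
  obtain ⟨R', _, _, hff, M, _, ⟨ψ⟩⟩ := hmt f hf
  refine ⟨R', inferInstance, inferInstance, hff, ?_⟩
  have hπs : Function.Surjective (Bialgebra.Quotient.mkBialgHom (R := R) J) :=
    Ideal.Quotient.mk_surjective
  have hπk : ∀ a, Bialgebra.Quotient.mkBialgHom (R := R) J a = 0 ↔ a ∈ torsionIdeal R A n :=
    fun a => by
      show Ideal.Quotient.mk J a = 0 ↔ _
      rw [Ideal.Quotient.eq_zero_iff_mem, hJ]
  have hπ₁s := map_surj R (Localization.Away f) (Bialgebra.Quotient.mkBialgHom (R := R) J) hπs
  have hπ₁k := ker_baseChange R (Localization.Away f)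
    (Bialgebra.Quotient.mkBialgHom (R := R) J) hπs n hπk
  have hπ₂s := map_surj (Localization.Away f) R'
    (Bialgebra.TensorProduct.map (BialgHom.id (Localization.Away f) (Localization.Away f))
      (Bialgebra.Quotient.mkBialgHom (R := R) J)) hπ₁s
  have hπ₂k := ker_baseChange (Localization.Away f) R'
    (Bialgebra.TensorProduct.map (BialgHom.id (Localization.Away f) (Localization.Away f))
      (Bialgebra.Quotient.mkBialgHom (R := R) J)) hπ₁s n hπ₁k
  exact isDiag_of_surj R' n ψ _ hπ₂s hπ₂k

end Main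


/-- Let G = Spec A be an R-group of multiplicative type and of finite type and n > 0 an integer. Then
the kernel ₙG = Spec (A/J) of the n-th power map of G, J being the ideal generated by the image of
the augmentation ideal under the n-th power endomorphism (a Hopf ideal; the instance hypothesis
holds automatically for this J), is an R-group of multiplicative type which is finite over R.
(Affine group schemes over an affine base are taken in Hopf-algebra form; base change is the tensor
product; a homomorphism of groups Spec A ⟶ Spec C is a bialgebra map C → A.) -/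
theorem result (R : Type u) [CommRing R] (A : Type u) [CommRing A] [HopfAlgebra R A]
    (hft : Algebra.FiniteType R A) (h : IsMultType R A) (n : ℕ) (hn : 0 < n)
    (J : Ideal A) [J.IsHopfIdeal R] (hJ : J = torsionIdeal R A n) :
    IsMultType R (A ⧸ J) ∧ Module.Finite R (A ⧸ J) := by
  have hmt : IsMultType R (A ⧸ J) := isMultType_quot R A h n J hJ
  refine ⟨hmt, ?_⟩
  have hft' : Algebra.FiniteType R (A ⧸ J) :=
    hft.of_surjective (Ideal.Quotient.mkₐ R J) (Ideal.Quotient.mkₐ_surjective R J)
  rw [MultFin.finite_iff R (A ⧸ J) hft' hmt]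
  exact ⟨n, hn, tors_quot_eq_bot R A n J hJ⟩

end Groth.Agent.S5242
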