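import Groth.Statements.S5245
import Groth.Agent.Lib.Helper19.MultRigid2

set_option autoImplicit false
universe u
open TensorProduct SGA3b
open SGA3b

namespace Groth.Agent.S5245

/-- Over a local base, where an open neighbourhood of the closed point is the whole base; affine target
group: Let R be a local ring with maximal ideal 𝔪, H = Spec A an R-group of multiplicative type and
of finite type, G = Spec C an affine R-group, with R Noetherian or C of finite presentation over R,
and u : H ⟶ G a homomorphism given by the bialgebra map φ : C → A. If the restriction of u to the
closed fibre is the unit homomorphism (φ c − ε(c)·1 ∈ 𝔪A for every c), then u is the unit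
homomorphism. (Affine group schemes over an affine base are taken in Hopf-algebra form; base change
is the tensor product; a homomorphism of groups Spec A ⟶ Spec C is a bialgebra map C → A.) -/
theorem result (R : Type u) [CommRing R] [IsLocalRing R]
    (A : Type u) [CommRing A] [HopfAlgebra R A] (hft : Algebra.FiniteType R A) (hH : IsMultType R A)
    (C : Type u) [CommRing C] [HopfAlgebra R C] (hC : IsNoetherianRing R ∨ Algebra.FinitePresentation R C)
    (φ : C →ₐc[R] A)
    (hs : ∀ c : C, φ c - algebraMap R A (Coalgebra.counit c) ∈ Ideal.map (algebraMap R A) (IsLocalRing.maximalIdeal R)) :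
    ∀ c : C, φ c = algebraMap R A (Coalgebra.counit c) := by
  apply Groth.Agent.Lib.Helper19.MultRigid.bialgHom_eq_trivial_local hH φ _ hs
  rcases hC with hN | hfp
  · haveI := hN
    haveI := hft
    haveI : IsNoetherianRing A := Algebra.FiniteType.isNoetherianRing R A
    exact (isNoetherianRing_iff_ideal_fg A).1 inferInstance _
  · haveI := hfp
    haveI : Algebra.FiniteType R C := inferInstance
    exact Groth.Agent.Lib.Helper19.MultRigid.span_range_sub_fg (φ : C →ₐ[R] A)
      ((Algebra.ofId R A).comp (Bialgebra.counitAlgHom R C))

end Groth.Agent.S5245
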