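-- Statement S5270.
import Groth.Statements.S5270
import Mathlib

set_option autoImplicit false
universe u
open TensorProduct SGA3b
open SGA3b

namespace Groth.Agent.S5270

/-- Injectivity of the map to formal homomorphisms. Let A be a Noetherian ring, separated and complete
for the I-adic topology, H = Spec B an isotrivial A-group of multiplicative type and G = Spec C an
affine A-group. If two homomorphisms H ⟶ G, given by bialgebra maps φ, ψ : C → B, have the same
reduction modulo I^(n+1) for every n ≥ 0, then φ = ψ. (Affine group schemes over an affine base are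
taken in Hopf-algebra form; base change is the tensor product; a homomorphism of groups Spec A ⟶
Spec C is a bialgebra map C → A.) -/
theorem result (A : Type u) [CommRing A] [IsNoetherianRing A] (I : Ideal A) [IsAdicComplete I A]
    (B : Type u) [CommRing B] [HopfAlgebra A B] (hH : IsIsotrivial A B)
    (C : Type u) [CommRing C] [HopfAlgebra A C] (φ ψ : C →ₐc[A] B)
    (h : ∀ (n : ℕ) (c : C), (1 : A ⧸ I ^ (n + 1)) ⊗ₜ[A] (φ c) = (1 : A ⧸ I ^ (n + 1)) ⊗ₜ[A] (ψ c)) :
    φ = ψ := by
  classical
  obtain ⟨A', _, _, -, hfin, hff, M, _, ⟨e⟩⟩ := hH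
  have hjac : I ≤ (⊥ : Ideal A).jacobson := IsAdicComplete.le_jacobson_bot I
  have hkrull : (⨅ i : ℕ, I ^ i • ⊤ : Submodule A A') = ⊥ :=
    Ideal.iInf_pow_smul_eq_bot_of_le_jacobson I hjac
  apply DFunLike.ext
  intro c
  rw [← sub_eq_zero]
  set d := φ c - ψ c with hd_def
  have hd : ∀ n : ℕ, d ∈ (I ^ (n + 1) • ⊤ : Submodule A B) := by
    intro n
    have h1 := congrArg (TensorProduct.quotTensorEquivQuotSMul B (I ^ (n + 1))) (h n c)
    rw [TensorProduct.quotTensorEquivQuotSMul_mk_one_tmul,
      TensorProduct.quotTensorEquivQuotSMul_mk_one_tmul] at h1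
    exact (Submodule.Quotient.eq _).mp h1
  -- the embedding into the group algebra
  let ι : B →ₗ[A] MonoidAlgebra A' M :=
    (e.toLinearEquiv.toLinearMap.restrictScalars A).comp (TensorProduct.mk A A' B 1)
  have hι : Function.Injective ι := by
    intro x y hxy
    have h1 : e ((1 : A') ⊗ₜ[A] x) = e ((1 : A') ⊗ₜ[A] y) := hxy
    exact Module.FaithfullyFlat.tensorProduct_mk_injective (A := A) (B := A') B (e.injective h1)
  apply hι
  rw [map_zero]
  apply (MonoidAlgebra.coeffLinearEquiv A (S := A') (M := M)).injective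
  rw [map_zero]
  ext m
  let κ : B →ₗ[A] A' := (Finsupp.lapply m : (M →₀ A') →ₗ[A] A').comp
    ((MonoidAlgebra.coeffLinearEquiv A (S := A') (M := M)).toLinearMap.comp ι)
  change κ d = 0
  have hκ : κ d ∈ (⨅ i : ℕ, I ^ i • ⊤ : Submodule A A') := by
    rw [Submodule.mem_iInf]
    intro i
    cases i with
    | zero =>
      rw [pow_zero, Ideal.one_eq_top, Submodule.top_smul]
      exact Submodule.mem_top
    | succ n =>
      have h2 : κ d ∈ ((I ^ (n + 1) • ⊤ : Submodule A B)).map κ := Submodule.mem_map_of_mem (hd n)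
      rw [Submodule.map_smul''] at h2
      exact Submodule.smul_mono le_rfl le_top h2
  rw [hkrull] at hκ
  exact hκ

end Groth.Agent.S5270
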