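import Groth.Statements.S5278
import Mathlib

set_option autoImplicit false
open CategoryTheory AlgebraicGeometry
universe u
open SGA3x

namespace Groth.Agent.S5278

/-- Splitting a non-preconnected clopen set into two nonempty clopen pieces. -/
theorem exists_clopen_split {α : Type*} [TopologicalSpace α] (T : Set α) (hT : IsClopen T)
    (hn : ¬ _root_.IsPreconnected T) :
    ∃ A B : Set α, IsClopen A ∧ IsClopen B ∧ A.Nonempty ∧ B.Nonempty ∧ Disjoint A B ∧
      A ∪ B = T := by
  rw [isPreconnected_iff_subset_of_fully_disjoint_closed hT.1] at hn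
  push_neg at hn
  obtain ⟨u, v, hu, hv, hsub, hdisj, hnu, hnv⟩ := hn
  have hA : T ∩ u = T \ v := by
    ext z
    constructor
    · rintro ⟨hz, hzu⟩
      exact ⟨hz, fun hzv => Set.disjoint_left.mp hdisj hzu hzv⟩
    · rintro ⟨hz, hzv⟩
      rcases hsub hz with h | h
      · exact ⟨hz, h⟩
      · exact absurd h hzv
  have hB : T ∩ v = T \ u := by
    ext z
    constructor
    · rintro ⟨hz, hzv⟩
      exact ⟨hz, fun hzu => Set.disjoint_left.mp hdisj hzu hzv⟩
    · rintro ⟨hz, hzu⟩
      rcases hsub hz with h | h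
      · exact absurd h hzu
      · exact ⟨hz, h⟩
  refine ⟨T ∩ u, T ∩ v, ⟨hT.1.inter hu, ?_⟩, ⟨hT.1.inter hv, ?_⟩, ?_, ?_, ?_, ?_⟩
  · rw [hA]; exact hT.2.sdiff hv
  · rw [hB]; exact hT.2.sdiff hu
  · rw [hA]
    by_contra h
    rw [Set.not_nonempty_iff_eq_empty, Set.diff_eq_empty] at h
    exact hnv h
  · rw [hB]
    by_contra h
    rw [Set.not_nonempty_iff_eq_empty, Set.diff_eq_empty] at h
    exact hnu h
  · exact Set.disjoint_left.mpr fun z hz hz' => Set.disjoint_left.mp hdisj hz.2 hz'.2
  · rw [← Set.inter_union_distrib_left]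
    exact Set.inter_eq_left.mpr hsub

/-- If every nonempty clopen set meets a fixed finite set `Φ`, every connected component meets `Φ`. -/
theorem connectedComponent_meets_of_finite {α : Type*} [TopologicalSpace α] (Φ : Set α)
    (hΦ : Φ.Finite) (hmeet : ∀ T : Set α, IsClopen T → T.Nonempty → (T ∩ Φ).Nonempty) (c : α) :
    ∃ z ∈ Φ, z ∈ connectedComponent c := by
  classical
  have key : ∀ n : ℕ, ∀ T : Set α, IsClopen T → c ∈ T → (T ∩ Φ).ncard ≤ n →
      ∃ z ∈ Φ, z ∈ connectedComponent c := by
    intro n
    induction n with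
    | zero =>
      intro T hT hc hcard
      have hfin : (T ∩ Φ).Finite := hΦ.subset Set.inter_subset_right
      have h0 : T ∩ Φ = ∅ := by
        have := Nat.le_zero.mp hcard
        exact (Set.ncard_eq_zero hfin).mp this
      have := hmeet T hT ⟨c, hc⟩
      rw [h0] at this
      exact absurd this Set.not_nonempty_empty
    | succ n ih =>
      intro T hT hc hcard
      by_cases hpre : _root_.IsPreconnected T
      · obtain ⟨z, hzT, hzΦ⟩ := hmeet T hT ⟨c, hc⟩
        exact ⟨z, hzΦ, hpre.subset_connectedComponent hc hzT⟩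
      · obtain ⟨A, B, hA, hB, hAne, hBne, hdisj, hAB⟩ := exists_clopen_split T hT hpre
        have hfin : (T ∩ Φ).Finite := hΦ.subset Set.inter_subset_right
        have hc' : c ∈ A ∪ B := by rw [hAB]; exact hc
        rcases hc' with hcA | hcB
        · obtain ⟨b, hbB, hbΦ⟩ := hmeet B hB hBne
          have hlt : (A ∩ Φ).ncard < (T ∩ Φ).ncard := by
            apply Set.ncard_lt_ncard _ hfin
            refine ⟨fun z hz => ⟨by rw [← hAB]; exact Or.inl hz.1, hz.2⟩, fun hsub => ?_⟩
            have : b ∈ A ∩ Φ := hsub ⟨by rw [← hAB]; exact Or.inr hbB, hbΦ⟩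
            exact Set.disjoint_left.mp hdisj this.1 hbB
          exact ih A hA hcA (by omega)
        · obtain ⟨a, haA, haΦ⟩ := hmeet A hA hAne
          have hlt : (B ∩ Φ).ncard < (T ∩ Φ).ncard := by
            apply Set.ncard_lt_ncard _ hfin
            refine ⟨fun z hz => ⟨by rw [← hAB]; exact Or.inr hz.1, hz.2⟩, fun hsub => ?_⟩
            have : a ∈ B ∩ Φ := hsub ⟨by rw [← hAB]; exact Or.inl haA, haΦ⟩
            exact Set.disjoint_left.mp hdisj haA this.1
          exact ih B hB hcB (by omega)
  exact key _ Set.univ isClopen_univ (Set.mem_univ c) le_rfl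

open AlgebraicGeometry in
/-- Finite, universally open morphism onto a preconnected scheme: each connected component of the
source meets every fibre. -/
theorem meets_fibre {X X' : Scheme.{u}} [PreconnectedSpace X] (f : X' ⟶ X)
    [IsFinite f] [UniversallyOpen f] (x : X) (c : X') :
    ∃ x' : X', f x' = x ∧ x' ∈ connectedComponent c := by
  have hfin : (f ⁻¹' {x}).Finite := f.finite_preimage_singleton x
  have hmeet : ∀ T : Set X', IsClopen T → T.Nonempty → (T ∩ f ⁻¹' {x}).Nonempty := by
    intro T hT hne
    have h1 : IsClopen (f '' T) := ⟨f.isClosedMap _ hT.1, f.isOpenMap _ hT.2⟩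
    have h2 : f '' T = Set.univ := h1.eq_univ (hne.image _)
    have h3 : x ∈ f '' T := by rw [h2]; trivial
    obtain ⟨z, hzT, hz⟩ := h3
    exact ⟨z, hzT, hz⟩
  obtain ⟨z, hz, hzc⟩ := connectedComponent_meets_of_finite _ hfin hmeet c
  exact ⟨z, hz, hzc⟩

/-- Let X be a connected scheme, f : X' ⟶ X a finite etale morphism and x a point of X. Then every
connected component of X' meets the fibre of f over x; equivalently the map from the connected
components of the fibre (or of the geometric fibre) to those of X' is surjective. -/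
theorem result {X X' : Scheme.{u}} [ConnectedSpace X] (f : X' ⟶ X)
    [IsFinite f] [Etale f] (x : X) (c : X') :
    ∃ x' : X', f.base x' = x ∧ x' ∈ connectedComponent c := by

  haveI : UniversallyOpen f := inferInstance
  exact meets_fibre f x c

end Groth.Agent.S5278
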