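import Groth.Statements.S5333
import Mathlib
import Groth.Agent.Lib.Helper11.Birat7

set_option autoImplicit false
universe u
open CategoryTheory CategoryTheory.Limits MonoidalCategory CartesianMonoidalCategory MonObj GrpObj AlgebraicGeometry
open SGA3

namespace Groth.Agent.S5333

open AlgebraicGeometry CategoryTheory CategoryTheory.Limits in
theorem isSeparated_of_local {X S : Scheme.{u}} (f : X ⟶ S)
    (h : ∀ x₁ x₂ : X, f x₁ = f x₂ → ∃ V : X.Opens, x₁ ∈ V ∧ x₂ ∈ V ∧ IsSeparated (V.ι ≫ f)) :
    IsSeparated f := by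
  have hcl : IsClosed (Set.range (pullback.diagonal f)) := by
    rw [← closure_subset_iff_isClosed]
    intro z hz
    have hx : f (pullback.fst f f z) = f (pullback.snd f f z) := by
      rw [← Scheme.Hom.comp_apply, ← Scheme.Hom.comp_apply, pullback.condition]
    obtain ⟨V, h1, h2, hV⟩ := h _ _ hx
    let j : pullback (V.ι ≫ f) (V.ι ≫ f) ⟶ pullback f f :=
      pullback.map (V.ι ≫ f) (V.ι ≫ f) f f V.ι V.ι (𝟙 S) (by simp) (by simp)
    haveI : IsOpenImmersion j := inferInstance
    have hrange : Set.range j =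
        (pullback.fst f f) ⁻¹' (Set.range V.ι) ∩ (pullback.snd f f) ⁻¹' (Set.range V.ι) :=
      Scheme.Pullback.range_map _ _ _ _ _ _ _ _ _
    have hzj : z ∈ Set.range j := by
      rw [hrange]
      refine ⟨?_, ?_⟩
      · show pullback.fst f f z ∈ Set.range V.ι
        rw [Scheme.Opens.range_ι]; exact h1
      · show pullback.snd f f z ∈ Set.range V.ι
        rw [Scheme.Opens.range_ι]; exact h2
    obtain ⟨w, rfl⟩ := hzj
    have hjfst : j ≫ pullback.fst f f = pullback.fst (V.ι ≫ f) (V.ι ≫ f) ≫ V.ι :=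
      pullback.lift_fst _ _ _
    have hjsnd : j ≫ pullback.snd f f = pullback.snd (V.ι ≫ f) (V.ι ≫ f) ≫ V.ι :=
      pullback.lift_snd _ _ _
    have hjΔ : pullback.diagonal (V.ι ≫ f) ≫ j = V.ι ≫ pullback.diagonal f := by
      apply pullback.hom_ext
      · rw [Category.assoc, hjfst, ← Category.assoc, pullback.diagonal_fst, Category.id_comp,
          Category.assoc, pullback.diagonal_fst, Category.comp_id]
      · rw [Category.assoc, hjsnd, ← Category.assoc, pullback.diagonal_snd, Category.id_comp,
          Category.assoc, pullback.diagonal_snd, Category.comp_id]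
    haveI := hV.isClosedImmersion_diagonal
    have hclV : IsClosed (Set.range (pullback.diagonal (V.ι ≫ f))) :=
      (pullback.diagonal (V.ι ≫ f)).isClosedEmbedding.isClosed_range
    have hw : w ∈ closure (Set.range (pullback.diagonal (V.ι ≫ f))) := by
      rw [j.isOpenEmbedding.isInducing.closure_eq_preimage_closure_image]
      show j w ∈ closure (j '' Set.range (pullback.diagonal (V.ι ≫ f)))
      have hopen : IsOpen (Set.range j) := j.isOpenEmbedding.isOpen_range
      have h3 : j w ∈ closure (Set.range j ∩ Set.range (pullback.diagonal f)) :=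
        hopen.inter_closure ⟨⟨w, rfl⟩, hz⟩
      refine closure_mono ?_ h3
      rintro _ ⟨⟨w', rfl⟩, ⟨x, hx'⟩⟩
      refine ⟨w', ?_, rfl⟩
      let v := pullback.fst (V.ι ≫ f) (V.ι ≫ f) w'
      have hv : V.ι v = x := by
        have e1 : V.ι v = pullback.fst f f (j w') := by
          rw [← Scheme.Hom.comp_apply, ← Scheme.Hom.comp_apply, hjfst]
        rw [e1, ← hx', ← Scheme.Hom.comp_apply, pullback.diagonal_fst]
        rfl
      have e2 : j (pullback.diagonal (V.ι ≫ f) v) = j w' := by
        rw [← Scheme.Hom.comp_apply, hjΔ, Scheme.Hom.comp_apply, hv, hx']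
      exact ⟨v, j.isOpenEmbedding.injective e2⟩
    rw [hclV.closure_eq] at hw
    obtain ⟨v, rfl⟩ := hw
    exact ⟨V.ι v, by rw [← Scheme.Hom.comp_apply, ← hjΔ, Scheme.Hom.comp_apply]⟩
  haveI : IsClosedImmersion (pullback.diagonal f) := IsClosedImmersion.of_isPreimmersion _ hcl
  exact ⟨inferInstance⟩

open AlgebraicGeometry CategoryTheory CategoryTheory.Limits in
theorem isSeparated_of_ext {X S : Scheme.{u}} (f : X ⟶ S)
    (h : ∀ (T : Scheme.{u}) [IsReduced T] (g₁ g₂ : T ⟶ X) (U : T.Opens), g₁ ≫ f = g₂ ≫ f →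
      Dense (U : Set T) → U.ι ≫ g₁ = U.ι ≫ g₂ → g₁ = g₂) : IsSeparated f := by
  let Xr := X.nilradical.subscheme
  let ρ : Xr ⟶ X := X.nilradical.subschemeι
  haveI : IsReduced Xr := Groth.Agent.Lib.Helper7.isReduced_nilradical_subscheme X
  have hρ : Function.Surjective ρ := by
    rw [← Set.range_eq_univ]
    show Set.range X.nilradical.subschemeι = _
    rw [Scheme.IdealSheafData.range_subschemeι, Scheme.support_nilradical]
    rfl
  let g : Xr ⟶ pullback f f := ρ ≫ pullback.diagonal f
  haveI : IsImmersion g := inferInstance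
  haveI hT : IsReduced g.image := Groth.Agent.Lib.Helper11.Birat7.isReduced_image_of_isReduced g
  haveI hopen : IsOpenImmersion g.toImage :=
    Groth.Agent.Lib.Helper11.Birat7.isOpenImmersion_toImage_of_isReduced g
  let U : g.image.Opens := g.toImage.opensRange
  have hU : Dense (U : Set g.image) :=
    Groth.Agent.Lib.Helper11.Birat7.denseRange_toImage_of_isReduced g
  let g₁ : g.image ⟶ X := g.imageι ≫ pullback.fst f f
  let g₂ : g.image ⟶ X := g.imageι ≫ pullback.snd f f
  have h12 : g₁ ≫ f = g₂ ≫ f := by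
    simp only [g₁, g₂, Category.assoc, pullback.condition]
  have hUeq : U.ι ≫ g₁ = U.ι ≫ g₂ := by
    rw [← cancel_epi g.toImage.isoOpensRange.hom]
    show g.toImage.isoOpensRange.hom ≫ g.toImage.opensRange.ι ≫ g.imageι ≫ pullback.fst f f =
      g.toImage.isoOpensRange.hom ≫ g.toImage.opensRange.ι ≫ g.imageι ≫ pullback.snd f f
    rw [Scheme.Hom.isoOpensRange_hom_ι_assoc, Scheme.Hom.isoOpensRange_hom_ι_assoc,
      Scheme.Hom.toImage_imageι_assoc, Scheme.Hom.toImage_imageι_assoc]
    simp [g]
  have hg : g₁ = g₂ := h g.image g₁ g₂ U h12 hU hUeq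
  have hfac : g₁ ≫ pullback.diagonal f = g.imageι := by
    apply pullback.hom_ext
    · simp [g₁]
    · rw [Category.assoc, pullback.diagonal_snd, Category.comp_id]
      exact hg
  have hcl : IsClosed (Set.range (pullback.diagonal f)) := by
    rw [← closure_subset_iff_isClosed]
    have h1 : Set.range g = Set.range (pullback.diagonal f) := by
      ext z
      constructor
      · rintro ⟨x, hx⟩
        exact ⟨ρ x, by rw [← Scheme.Hom.comp_apply]; exact hx⟩
      · rintro ⟨x, hx⟩
        obtain ⟨x', rfl⟩ := hρ x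
        exact ⟨x', by rw [Scheme.Hom.comp_apply]; exact hx⟩
    rw [← h1, ← Groth.Agent.Lib.Helper11.Birat7.range_imageι_of_isReduced g, h1]
    rintro _ ⟨t, rfl⟩
    exact ⟨g₁ t, by rw [← Scheme.Hom.comp_apply, hfac]⟩
  haveI : IsClosedImmersion (pullback.diagonal f) := IsClosedImmersion.of_isPreimmersion _ hcl
  exact ⟨inferInstance⟩

/-- (i) ⟺ (iii) ⟺ (iv'): let f : X → S be a morphism of schemes. Then X is separated over S if and only
if for every reduced scheme T and every two morphisms T → X with the same composite to S which agree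
on a dense open subscheme of T are equal; and X is separated over S if and only if every two points
of X in the same fibre over S lie in a common open subscheme of X which is separated over S. -/
theorem result (X S : Scheme.{u}) (f : X ⟶ S) :
    (IsSeparated f ↔ ∀ (T : Scheme.{u}) [IsReduced T] (g₁ g₂ : T ⟶ X) (U : T.Opens), g₁ ≫ f = g₂ ≫ f →
      Dense (U : Set T) → U.ι ≫ g₁ = U.ι ≫ g₂ → g₁ = g₂) ∧
    (IsSeparated f ↔ ∀ x₁ x₂ : X, f.base x₁ = f.base x₂ →
      ∃ V : X.Opens, x₁ ∈ V ∧ x₂ ∈ V ∧ IsSeparated (V.ι ≫ f)) := by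

  refine ⟨⟨?_, fun h => isSeparated_of_ext f h⟩, ⟨?_, fun h => isSeparated_of_local f h⟩⟩
  · intro hsep T _ g₁ g₂ U h12 hU hUeq
    haveI : IsDominant U.ι := ⟨by
      show Dense (Set.range U.ι)
      rw [Scheme.Opens.range_ι]
      exact hU⟩
    exact ext_of_isDominant_of_isSeparated f h12 U.ι hUeq
  · intro hsep x₁ x₂ _
    refine ⟨⊤, trivial, trivial, ?_⟩
    infer_instance

end Groth.Agent.S5333
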