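import Groth.Statements.S5335
import Mathlib
import Groth.Agent.Lib.Helper11.ArtB

set_option autoImplicit false
universe u
open CategoryTheory CategoryTheory.Limits MonoidalCategory CartesianMonoidalCategory MonObj GrpObj AlgebraicGeometry
open SGA3

namespace Groth.Agent.S5335

/-- Let A be a local artinian ring and f : X' → X, g : Y' → Y two quasi-compact dominant morphisms of
schemes over A. Then the product morphism f ×_A g : X' ×_A Y' → X ×_A Y is dominant (and
quasi-compact). -/
theorem result (A : Type u) [CommRing A] [IsArtinianRing A] [IsLocalRing A] (X X' Y Y' : Over (Spec (CommRingCat.of A)))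
    (f : X' ⟶ X) (g : Y' ⟶ Y) [QuasiCompact f.left] [QuasiCompact g.left]
    (hf : DenseRange f.left.base) (hg : DenseRange g.left.base) :
    DenseRange (f ⊗ₘ g).left.base ∧ QuasiCompact (f ⊗ₘ g).left := by
  haveI hX : UniversallyOpen X.hom :=
    Groth.Agent.Lib.Helper11.ArtB.universallyOpen_of_artinianLocal A X.hom
  haveI hY' : UniversallyOpen Y'.hom :=
    Groth.Agent.Lib.Helper11.ArtB.universallyOpen_of_artinianLocal A Y'.hom
  have h1 := Groth.Agent.Lib.Helper11.ArtB.isPullback_whiskerRight f Y'
  have h2 := Groth.Agent.Lib.Helper11.ArtB.isPullback_whiskerLeft g X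
  have d1 : DenseRange ⇑(f ▷ Y').left :=
    Groth.Agent.Lib.Helper11.ArtB.denseRange_of_isPullback h1
      (pullback.fst X.hom Y'.hom).isOpenMap hf
  have d2 : DenseRange ⇑(X ◁ g).left :=
    Groth.Agent.Lib.Helper11.ArtB.denseRange_of_isPullback h2
      (pullback.snd X.hom Y.hom).isOpenMap hg
  have e : (f ⊗ₘ g).left = (f ▷ Y').left ≫ (X ◁ g).left := by
    rw [← Over.comp_left, ← MonoidalCategory.tensorHom_def]
  haveI q1 : QuasiCompact (f ▷ Y').left :=
    MorphismProperty.of_isPullback (P := @QuasiCompact) h1.flip inferInstance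
  haveI q2 : QuasiCompact (X ◁ g).left :=
    MorphismProperty.of_isPullback (P := @QuasiCompact) h2.flip inferInstance
  refine ⟨?_, ?_⟩
  · rw [e]
    have h3 := d2.comp d1 (X ◁ g).left.continuous
    have h4 : ⇑((f ▷ Y').left ≫ (X ◁ g).left) = ⇑(X ◁ g).left ∘ ⇑(f ▷ Y').left := by
      ext z
      exact Scheme.Hom.comp_apply _ _ _
    show DenseRange ⇑((f ▷ Y').left ≫ (X ◁ g).left)
    rw [h4]
    exact h3
  · rw [e]
    infer_instance

end Groth.Agent.S5335
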