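import Groth.Statements.S5343
import Mathlib

set_option autoImplicit false
universe u
open CategoryTheory CategoryTheory.Limits MonoidalCategory CartesianMonoidalCategory MonObj GrpObj AlgebraicGeometry
open SGA3

namespace Groth.Agent.S5343


theorem map_mem_of_mem_map {R B : Type*} [CommRing R] [CommRing B] [Algebra R B] (p : Ideal R)
    (y : B) (hy : y ∈ p.map (algebraMap R B)) : ∀ ψ : B →ₗ[R] R, ψ y ∈ p := by
  unfold Ideal.map at hy
  refine Submodule.span_induction (p := fun y _ => ∀ ψ : B →ₗ[R] R, ψ y ∈ p) ?_ ?_ ?_ ?_ hy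
  · rintro _ ⟨a, ha, rfl⟩ ψ
    rw [Algebra.algebraMap_eq_smul_one, map_smul, smul_eq_mul]
    exact Ideal.mul_mem_right _ _ ha
  · intro ψ
    rw [map_zero]
    exact zero_mem _
  · intro x y _ _ hx hy ψ
    rw [map_add]
    exact Ideal.add_mem _ (hx ψ) (hy ψ)
  · intro c x _ hx ψ
    exact hx (ψ ∘ₗ LinearMap.mulLeft R c)

open Matrix in
theorem exists_kill_one {R B : Type*} [CommRing R] [CommRing B] [Algebra R B]
    (s : B →ₗ[R] (B →₀ R))
    (hs : Finsupp.linearCombination R (id : B → B) ∘ₗ s = LinearMap.id)
    (p : Ideal R) [p.IsPrime] (hp : ∀ x b : B, s x b ∈ p) :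
    ∃ d : R, d ∉ p ∧ algebraMap R B d = 0 := by
  classical
  have hlc : ∀ y : B, Finsupp.linearCombination R (id : B → B) (s y) = y :=
    fun y => LinearMap.congr_fun hs y
  have h1 : ∑ i ∈ (s 1).support, (s 1) i • i = (1 : B) := by
    have := hlc 1
    simpa only [Finsupp.linearCombination_apply, Finsupp.sum, id] using this
  have h2 : s 1 = ∑ i ∈ (s 1).support, (s 1) i • s i := by
    conv_lhs => rw [← h1]
    rw [map_sum]
    exact Finset.sum_congr rfl (fun i _ => map_smul s _ _)
  let S := (s 1).support
  let A : Matrix S S R := fun i j => s (i : B) (j : B)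
  let w : S → R := fun i => s 1 (i : B)
  have hw : (1 - Aᵀ).mulVec w = 0 := by
    funext j
    rw [Matrix.sub_mulVec, Matrix.one_mulVec, Pi.sub_apply, Pi.zero_apply, sub_eq_zero]
    have := congrArg (fun t => t (j : B)) h2
    simp only [Finsupp.coe_finset_sum, Finset.sum_apply, Finsupp.coe_smul, Pi.smul_apply,
      smul_eq_mul] at this
    show w j = ∑ i : S, Aᵀ j i * w i
    calc w j = ∑ i ∈ S, s 1 i * s i (j : B) := this
      _ = ∑ i : S, s 1 (i : B) * s (i : B) (j : B) :=
          (Finset.sum_coe_sort S (fun i => s 1 i * s i (j : B))).symm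
      _ = ∑ i : S, Aᵀ j i * w i := Finset.sum_congr rfl (fun i _ => mul_comm _ _)
  have hdw : (1 - Aᵀ).det • w = 0 := by
    have := congrArg (fun M => Matrix.mulVec M w) (Matrix.adjugate_mul (1 - Aᵀ))
    simp only [← Matrix.mulVec_mulVec, hw, Matrix.mulVec_zero, Matrix.smul_mulVec,
      Matrix.one_mulVec] at this
    exact this.symm
  have hd : (1 - Aᵀ).det ∉ p := by
    intro hmem
    have h0 : Ideal.Quotient.mk p (1 - Aᵀ).det = 0 := Ideal.Quotient.eq_zero_iff_mem.2 hmem
    rw [RingHom.map_det] at h0
    have hmap : (Ideal.Quotient.mk p).mapMatrix (1 - Aᵀ) = 1 := by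
      ext i j
      simp only [RingHom.mapMatrix_apply, Matrix.map_apply, Matrix.sub_apply,
        Matrix.transpose_apply, map_sub]
      have : Ideal.Quotient.mk p (A j i) = 0 := Ideal.Quotient.eq_zero_iff_mem.2 (hp _ _)
      rw [this, sub_zero]
      by_cases hij : i = j
      · subst hij
        simp
      · simp [hij]
    rw [hmap, Matrix.det_one] at h0
    exact one_ne_zero h0
  refine ⟨(1 - Aᵀ).det, hd, ?_⟩
  calc algebraMap R B (1 - Aᵀ).det = (1 - Aᵀ).det • (1 : B) := Algebra.algebraMap_eq_smul_one _
    _ = (1 - Aᵀ).det • ∑ i ∈ S, (s 1) i • i := by rw [h1]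
    _ = 0 := by
      rw [Finset.smul_sum]
      apply Finset.sum_eq_zero
      intro i hi
      rw [smul_smul]
      have := congrFun hdw ⟨i, hi⟩
      simp only [Pi.smul_apply, smul_eq_mul, Pi.zero_apply] at this
      rw [this, zero_smul]



/-- Let R be a commutative ring and B a commutative R-algebra which is projective as an R-module. Then
the image of Spec B → Spec R is an open and closed subset of Spec R. (The published statement
concerns a quasi-coherent algebra on any scheme which is a direct summand of a free module; this row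
is the affine case.) -/
theorem result (R B : Type u) [CommRing R] [CommRing B] [Algebra R B] [Module.Projective R B] :
    IsClopen (Set.range (PrimeSpectrum.comap (algebraMap R B))) := by
  classical
  obtain ⟨s, hs⟩ := (Module.projective_def' (R := R) (P := B)).1 inferInstance
  have hchar : ∀ p : PrimeSpectrum R, p ∈ Set.range (PrimeSpectrum.comap (algebraMap R B)) ↔
      ∃ x b : B, s x b ∉ p.asIdeal := by
    intro p
    constructor
    · rintro ⟨q, rfl⟩
      by_contra hcon
      push Not at hcon
      obtain ⟨d, hd, hd0⟩ := exists_kill_one s hs (q.asIdeal.comap (algebraMap R B)) hcon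
      apply hd
      show algebraMap R B d ∈ q.asIdeal
      rw [hd0]
      exact zero_mem _
    · rintro ⟨x, b, hxb⟩
      rw [PrimeSpectrum.mem_range_comap_iff]
      apply le_antisymm _ Ideal.le_comap_map
      intro r hr
      rw [Ideal.mem_comap] at hr
      let φ : B →ₗ[R] R := (Finsupp.lapply b) ∘ₗ s ∘ₗ (LinearMap.mulRight R x)
      have h3 := map_mem_of_mem_map p.asIdeal _ hr φ
      have h4 : φ (algebraMap R B r) = r * s x b := by
        rw [Algebra.algebraMap_eq_smul_one, map_smul, smul_eq_mul]
        congr 1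
        show s (1 * x) b = s x b
        rw [_root_.one_mul]
      rw [h4] at h3
      exact (p.isPrime.mem_or_mem h3).resolve_right hxb
  constructor
  · rw [← isOpen_compl_iff, isOpen_iff_forall_mem_open]
    intro p hp
    have hall : ∀ x b : B, s x b ∈ p.asIdeal := by
      intro x b
      by_contra h
      exact hp ((hchar p).2 ⟨x, b, h⟩)
    obtain ⟨d, hd, hd0⟩ := exists_kill_one s hs p.asIdeal hall
    refine ⟨(PrimeSpectrum.basicOpen d : Set (PrimeSpectrum R)), ?_,
      (PrimeSpectrum.basicOpen d).isOpen, hd⟩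
    rintro p' hp' ⟨q, rfl⟩
    have hp'' : d ∉ (PrimeSpectrum.comap (algebraMap R B) q).asIdeal := hp'
    apply hp''
    show algebraMap R B d ∈ q.asIdeal
    rw [hd0]
    exact zero_mem _
  · have : Set.range (PrimeSpectrum.comap (algebraMap R B)) =
        ⋃ (x : B) (b : B), (PrimeSpectrum.basicOpen (s x b) : Set (PrimeSpectrum R)) := by
      ext p
      rw [hchar p]
      simp only [Set.mem_iUnion, SetLike.mem_coe, PrimeSpectrum.mem_basicOpen]
    rw [this]
    exact isOpen_iUnion fun x => isOpen_iUnion fun b => (PrimeSpectrum.basicOpen (s x b)).isOpen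

end Groth.Agent.S5343
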