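import Groth.Statements.S5349
import Mathlib
import Groth.Agent.Lib.Helper11.ActF

set_option autoImplicit false
universe u
open CategoryTheory CategoryTheory.Limits MonoidalCategory CartesianMonoidalCategory MonObj GrpObj AlgebraicGeometry
open SGA3

namespace Groth.Agent.S5349

/-- Let G be a group scheme over a field k (not assumed of finite type) acting on an irreducible
k-scheme X so that the morphism G ×_k X → X ×_k X, (g, x) ↦ (gx, x), is surjective. Then X is
quasi-compact. -/
theorem result (k : Type u) [Field k] (G X : Over (Spec (CommRingCat.of k))) [GrpObj G] (a : AlgGrp.Action G X) (hΦ : Surjective (lift a.act (snd G X)).left)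
    [IrreducibleSpace X.left] : CompactSpace X.left := by
  let pt : ↥(Spec (CommRingCat.of k)) :=
    @Classical.arbitrary _ Groth.Agent.Lib.Helper11.GrpB.nonempty_spec_field
  have hZ := irreducibleComponent_mem_irreducibleComponents (η[G].left pt)
  have he : η[G].left pt ∈ irreducibleComponent (η[G].left pt) := mem_irreducibleComponent
  obtain ⟨U, hU, hξU, -⟩ := exists_isAffineOpen_mem_and_subset (x := genericPoint ↥X.left)
    (U := ⊤) trivial
  have hc := Groth.Agent.Lib.Helper11.ActF.isCompact_act a pt _ hZ he U hU
  have hgen : closure {genericPoint ↥X.left} = Set.univ := (genericPoint_spec (α := ↥X.left)).def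
  have hcomp : closure {genericPoint ↥X.left} ∈ irreducibleComponents ↥X.left := by
    rw [hgen, irreducibleComponents_eq_singleton]
    exact Set.mem_singleton _
  have huniv : a.act.left '' ((fst G X).left ⁻¹' irreducibleComponent (η[G].left pt) ∩
      (snd G X).left ⁻¹' (U : Set ↥X.left)) = Set.univ := by
    apply Set.eq_univ_of_forall
    intro y
    obtain ⟨ζ, h1, h2, h3⟩ := Groth.Agent.Lib.Helper11.ActF.mem_act_of_mem_component a pt _
      hZ he hΦ U _ hξU hcomp y (by rw [hgen]; trivial)
    exact ⟨ζ, ⟨h1, h2⟩, h3⟩
  rw [huniv] at hc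
  exact ⟨hc⟩

end Groth.Agent.S5349
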