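import Groth.Statements.S5350
import Mathlib
import Groth.Agent.Lib.Helper11.ActF

set_option autoImplicit false
universe u
open CategoryTheory CategoryTheory.Limits MonoidalCategory CartesianMonoidalCategory MonObj GrpObj AlgebraicGeometry
open SGA3

namespace Groth.Agent.S5350

/-- Let G be a group scheme over a field k (not assumed of finite type) acting on a k-scheme X so that G
×_k X → X ×_k X, (g, x) ↦ (gx, x), is surjective; let C⁰ be an irreducible component of G containing
the unit point and U an open subset of X. Let C⁰·U be the image under the action of the set of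
points of G ×_k X whose projections lie in C⁰ and in U. Then (i) C⁰·U is open in X and equals the
union of the irreducible components of X whose generic point lies in U; (ii) if U is retrocompact in
X then C⁰·U is the closure of U (so is open and closed). -/
theorem result (k : Type u) [Field k] (G X : Over (Spec (CommRingCat.of k))) [GrpObj G] (a : AlgGrp.Action G X) (hΦ : Surjective (lift a.act (snd G X)).left)
    (pt : ↥(𝟙_ (Over (Spec (CommRingCat.of k)))).left) (C0 : Set G.left) (hC0 : C0 ∈ irreducibleComponents ↥G.left)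
    (he : η[G].left.base pt ∈ C0) (U : X.left.Opens) :
    letI V : Set X.left := a.act.left.base '' {z : ↥(G ⊗ X).left | (fst G X).left.base z ∈ C0 ∧ (snd G X).left.base z ∈ U}
    IsOpen V ∧ V = ⋃₀ {Z : Set X.left | Z ∈ irreducibleComponents ↥X.left ∧ ∃ ξ ∈ U, closure {ξ} = Z} ∧
    (IsRetrocompact (U : Set X.left) → V = closure (U : Set X.left)) := by
  have hC0cl := isClosed_of_mem_irreducibleComponents _ hC0
  have hset : {z : ↥(G ⊗ X).left | (fst G X).left.base z ∈ C0 ∧ (snd G X).left.base z ∈ U} =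
      (fst G X).left ⁻¹' C0 ∩ (snd G X).left ⁻¹' (U : Set ↥X.left) := rfl
  have hopen := Groth.Agent.Lib.Helper11.ActF.isOpen_act a C0 hC0cl U
  have hdesc : a.act.left '' ((fst G X).left ⁻¹' C0 ∩ (snd G X).left ⁻¹' (U : Set ↥X.left)) =
      ⋃₀ {Z : Set X.left | Z ∈ irreducibleComponents ↥X.left ∧ ∃ ξ ∈ U, closure {ξ} = Z} := by
    ext x
    constructor
    · rintro ⟨ζ, ⟨h1, h2⟩, rfl⟩
      obtain ⟨C, hC, h3, h4⟩ :=
        Groth.Agent.Lib.Helper11.ActF.exists_component_of_mem_act a pt C0 hC0 he ζ h1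
      obtain ⟨ξ, hξ⟩ := QuasiSober.sober hC.1 (isClosed_of_mem_irreducibleComponents _ hC)
      exact ⟨C, ⟨hC, ξ, (hξ.specializes h3).mem_open U.isOpen h2, hξ.def⟩, h4⟩
    · rintro ⟨C, ⟨hC, ξ, hξU, rfl⟩, hx⟩
      obtain ⟨ζ, h1, h2, h3⟩ := Groth.Agent.Lib.Helper11.ActF.mem_act_of_mem_component a pt C0
        hC0 he hΦ U ξ hξU hC x hx
      exact ⟨ζ, ⟨h1, h2⟩, h3⟩
  show IsOpen (a.act.left '' {z : ↥(G ⊗ X).left | (fst G X).left.base z ∈ C0 ∧
      (snd G X).left.base z ∈ U}) ∧
    a.act.left '' {z : ↥(G ⊗ X).left | (fst G X).left.base z ∈ C0 ∧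
      (snd G X).left.base z ∈ U} =
      ⋃₀ {Z : Set X.left | Z ∈ irreducibleComponents ↥X.left ∧ ∃ ξ ∈ U, closure {ξ} = Z} ∧
    (IsRetrocompact (U : Set X.left) → a.act.left '' {z : ↥(G ⊗ X).left |
      (fst G X).left.base z ∈ C0 ∧ (snd G X).left.base z ∈ U} = closure (U : Set X.left))
  rw [hset]
  refine ⟨hopen, hdesc, fun hret => ?_⟩
  apply Set.Subset.antisymm
  · rw [hdesc]
    rintro x ⟨C, ⟨hC, ξ, hξU, rfl⟩, hx⟩
    exact closure_mono (Set.singleton_subset_iff.mpr hξU) hx
  · intro x hx
    obtain ⟨W, hW, hxW, -⟩ := exists_isAffineOpen_mem_and_subset (x := x) (U := ⊤) trivial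
    have hUc : IsCompact ((U : Set ↥X.left) ∩ W) := hret hW.isCompact W.isOpen
    obtain ⟨u, hu, hux⟩ :=
      Groth.Agent.Lib.Helper11.ActF.exists_specializes_of_mem_closure W hW U hUc x hxW hx
    obtain ⟨ξ, hξ⟩ := QuasiSober.sober (isIrreducible_irreducibleComponent (x := u))
      isClosed_irreducibleComponent
    have hξU : ξ ∈ U := (hξ.specializes mem_irreducibleComponent).mem_open U.isOpen hu
    have hcomp : closure {ξ} ∈ irreducibleComponents ↥X.left := by
      rw [hξ.def]; exact irreducibleComponent_mem_irreducibleComponents u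
    have hxC : x ∈ closure {ξ} := by
      rw [hξ.def]
      exact hux.mem_closed isClosed_irreducibleComponent mem_irreducibleComponent
    obtain ⟨ζ, h1, h2, h3⟩ := Groth.Agent.Lib.Helper11.ActF.mem_act_of_mem_component a pt C0
      hC0 he hΦ U ξ hξU hcomp x hxC
    exact ⟨ζ, ⟨h1, h2⟩, h3⟩

end Groth.Agent.S5350
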