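import Groth.Statements.S5357
import Groth.Agent.Lib.Helper11.FP4
import Groth.Agent.Lib.Helper11.GrpD

set_option autoImplicit false
universe u
open CategoryTheory CategoryTheory.Limits MonoidalCategory CartesianMonoidalCategory MonObj GrpObj AlgebraicGeometry
open SGA3

namespace Groth.Agent.S5357

/-- Let G be a group scheme over a field k, X a k-scheme and u, v : X → G two morphisms of k-schemes.
Then the transporter of u into v, the subfunctor of G whose points with values in S' are the g such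
that g u(x) g⁻¹ = v(x) for every S'' → S' and every point x of X with values in S'', is represented
by a closed subscheme of G. (For u = v this says that the centralizer of u is represented by a
closed subscheme of G; that it is a subgroup scheme is not stated here.) -/
theorem result (k : Type u) [Field k] (G X : Over (Spec (CommRingCat.of k))) [GrpObj G]
    (u v : X ⟶ G) :
    ∃ (T : Over (Spec (CommRingCat.of k))) (t : T ⟶ G), IsClosedImmersion t.left ∧
      ∀ (S' : Over (Spec (CommRingCat.of k))) (g : S' ⟶ G), (∃ z : S' ⟶ T, z ≫ t = g) ↔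
        ∀ (S'' : Over (Spec (CommRingCat.of k))) (s : S'' ⟶ S') (x : S'' ⟶ X), (s ≫ g) * (x ≫ u) * (s ≫ g)⁻¹ = x ≫ v := by
  haveI : IsSeparated G.hom := Groth.Agent.Lib.Helper11.GrpD.isSeparated_hom G
  let a : X ⊗ G ⟶ G := ((fst X G ≫ v)⁻¹ * snd X G) * (fst X G ≫ u)
  obtain ⟨Z, j, hj, hin, huniv⟩ := Groth.Agent.Lib.Helper11.FP4.exists_fixed G X a
  have key : ∀ (T : Over (Spec (CommRingCat.of k))) (g : T ⟶ G),
      Groth.Agent.Lib.Helper11.FP4.InF a g ↔
        ∀ (S'' : Over (Spec (CommRingCat.of k))) (s : S'' ⟶ T) (x : S'' ⟶ X),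
          (s ≫ g) * (x ≫ u) * (s ≫ g)⁻¹ = x ≫ v := by
    intro T g
    rw [Groth.Agent.Lib.Helper11.FP4.inF_iff_points]
    have e : ∀ (T' : Over (Spec (CommRingCat.of k))) (t : T' ⟶ T) (y : T' ⟶ X),
        lift y (t ≫ g) ≫ a = ((y ≫ v)⁻¹ * (t ≫ g)) * (y ≫ u) := by
      intro T' t y
      show lift y (t ≫ g) ≫ (((fst X G ≫ v)⁻¹ * snd X G) * (fst X G ≫ u)) = _
      rw [MonObj.comp_mul, MonObj.comp_mul, GrpObj.comp_inv, lift_fst_assoc, lift_snd, lift_fst_assoc]
    constructor
    · intro h S'' s x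
      have h1 := h S'' s x
      rw [e] at h1
      rw [mul_inv_eq_iff_eq_mul]
      have h2 : (s ≫ g) * (x ≫ u) = (x ≫ v) * (((x ≫ v)⁻¹ * (s ≫ g)) * (x ≫ u)) := by
        rw [_root_.mul_assoc, mul_inv_cancel_left]
      rw [h2, h1]
    · intro h T' t y
      rw [e]
      have h1 := h T' t y
      rw [mul_inv_eq_iff_eq_mul] at h1
      rw [_root_.mul_assoc, h1, inv_mul_cancel_left]
  refine ⟨Z, j, hj, fun T g => ?_⟩
  constructor
  · rintro ⟨z, rfl⟩
    exact (key T (z ≫ j)).mp (hin.comp z)
  · intro h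
    exact huniv T g ((key T g).mpr h)

end Groth.Agent.S5357
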