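import Groth.Statements.S5358
import Groth.Agent.Lib.Helper11.TP2
import Groth.Agent.Lib.Helper11.SubG
import Groth.Agent.S0351

set_option autoImplicit false
universe u
open CategoryTheory CategoryTheory.Limits MonoidalCategory CartesianMonoidalCategory MonObj GrpObj AlgebraicGeometry
open SGA3

namespace Groth.Agent.S5358

open Groth.Agent.Lib.Helper11 in
theorem transp {k : Type u} [Field k] (G A E : Over (Spec (CommRingCat.of k))) [GrpObj G]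
    (a : A ⟶ G) (e : E ⟶ G) [IsClosedImmersion e.left] :
    ∃ (T : Over (Spec (CommRingCat.of k))) (t : T ⟶ G), IsClosedImmersion t.left ∧
      ∀ (S' : Over (Spec (CommRingCat.of k))) (g : S' ⟶ G), (∃ z : S' ⟶ T, z ≫ t = g) ↔
        ∀ (S'' : Over (Spec (CommRingCat.of k))) (s : S'' ⟶ S') (x : S'' ⟶ A),
          ∃ x' : S'' ⟶ E, (s ≫ g) * (x ≫ a) * (s ≫ g)⁻¹ = x' ≫ e := by
  let c : A ⊗ G ⟶ G := (snd A G * (fst A G ≫ a)) * (snd A G)⁻¹
  obtain ⟨Z, iz, hι, hiff⟩ := TP2.exists_transporter G A G E c e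
  refine ⟨Z, iz, hι, fun S' g => ?_⟩
  rw [hiff]
  have key : ∀ (T' : Over (Spec (CommRingCat.of k))) (t : T' ⟶ S') (y : T' ⟶ A),
      lift y (t ≫ g) ≫ c = ((t ≫ g) * (y ≫ a)) * (t ≫ g)⁻¹ := by
    intro T' t y
    show lift y (t ≫ g) ≫ ((snd A G * (fst A G ≫ a)) * (snd A G)⁻¹) = _
    rw [MonObj.comp_mul, MonObj.comp_mul, GrpObj.comp_inv, lift_snd, lift_fst_assoc]
  constructor
  · intro h S'' s x
    obtain ⟨e', he'⟩ := h S'' s x
    exact ⟨e', by rw [he', key]⟩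
  · intro h T' t y
    obtain ⟨x', hx'⟩ := h T' t y
    exact ⟨x', by rw [key, hx']⟩

open Groth.Agent.Lib.Helper11 in
theorem transp' {k : Type u} [Field k] (G A E : Over (Spec (CommRingCat.of k))) [GrpObj G]
    (a : A ⟶ G) (e : E ⟶ G) [IsClosedImmersion e.left] :
    ∃ (T : Over (Spec (CommRingCat.of k))) (t : T ⟶ G), IsClosedImmersion t.left ∧
      ∀ (S' : Over (Spec (CommRingCat.of k))) (g : S' ⟶ G), (∃ z : S' ⟶ T, z ≫ t = g) ↔
        ∀ (S'' : Over (Spec (CommRingCat.of k))) (s : S'' ⟶ S') (x : S'' ⟶ A),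
          ∃ x' : S'' ⟶ E, (s ≫ g)⁻¹ * (x ≫ a) * (s ≫ g) = x' ≫ e := by
  let c : A ⊗ G ⟶ G := ((snd A G)⁻¹ * (fst A G ≫ a)) * snd A G
  obtain ⟨Z, iz, hι, hiff⟩ := TP2.exists_transporter G A G E c e
  refine ⟨Z, iz, hι, fun S' g => ?_⟩
  rw [hiff]
  have key : ∀ (T' : Over (Spec (CommRingCat.of k))) (t : T' ⟶ S') (y : T' ⟶ A),
      lift y (t ≫ g) ≫ c = ((t ≫ g)⁻¹ * (y ≫ a)) * (t ≫ g) := by
    intro T' t y
    show lift y (t ≫ g) ≫ (((snd A G)⁻¹ * (fst A G ≫ a)) * snd A G) = _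
    rw [MonObj.comp_mul, MonObj.comp_mul, GrpObj.comp_inv, lift_snd, lift_fst_assoc]
  constructor
  · intro h S'' s x
    obtain ⟨e', he'⟩ := h S'' s x
    exact ⟨e', by rw [he', key]⟩
  · intro h T' t y
    obtain ⟨x', hx'⟩ := h T' t y
    exact ⟨x', by rw [key, hx']⟩

theorem inter {S : Scheme.{u}} (G T₁ T₂ : Over S) (t₁ : T₁ ⟶ G) (t₂ : T₂ ⟶ G)
    [IsClosedImmersion t₁.left] [IsClosedImmersion t₂.left] :
    ∃ (T : Over S) (t : T ⟶ G), IsClosedImmersion t.left ∧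
      ∀ (S' : Over S) (g : S' ⟶ G), (∃ z : S' ⟶ T, z ≫ t = g) ↔
        ((∃ z₁ : S' ⟶ T₁, z₁ ≫ t₁ = g) ∧ (∃ z₂ : S' ⟶ T₂, z₂ ≫ t₂ = g)) := by
  let T : Over S := Over.mk (Limits.pullback.fst t₁.left t₂.left ≫ T₁.hom)
  let p₁ : T ⟶ T₁ := Over.homMk (Limits.pullback.fst t₁.left t₂.left) rfl
  let p₂ : T ⟶ T₂ := Over.homMk (Limits.pullback.snd t₁.left t₂.left) (by
    show Limits.pullback.snd t₁.left t₂.left ≫ T₂.hom = Limits.pullback.fst t₁.left t₂.left ≫ T₁.hom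
    rw [← Over.w t₂, ← Over.w t₁, ← Category.assoc, ← Category.assoc, Limits.pullback.condition])
  have hp : p₁ ≫ t₁ = p₂ ≫ t₂ := by
    ext1
    exact Limits.pullback.condition
  refine ⟨T, p₁ ≫ t₁, ?_, fun S' g => ⟨?_, ?_⟩⟩
  · show IsClosedImmersion (Limits.pullback.fst t₁.left t₂.left ≫ t₁.left)
    infer_instance
  · rintro ⟨z, rfl⟩
    exact ⟨⟨z ≫ p₁, Category.assoc _ _ _⟩, ⟨z ≫ p₂, by rw [Category.assoc, hp]⟩⟩
  · rintro ⟨⟨z₁, h₁⟩, ⟨z₂, h₂⟩⟩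
    have hc : z₁.left ≫ t₁.left = z₂.left ≫ t₂.left := by
      have := h₁.trans h₂.symm
      exact congrArg (·.left) this
    refine ⟨Over.homMk (Limits.pullback.lift z₁.left z₂.left hc) ?_, ?_⟩
    · show Limits.pullback.lift z₁.left z₂.left hc ≫ Limits.pullback.fst t₁.left t₂.left ≫ T₁.hom
        = S'.hom
      rw [Limits.pullback.lift_fst_assoc, Over.w]
    · rw [← h₁]
      ext1
      show Limits.pullback.lift z₁.left z₂.left hc ≫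
        Limits.pullback.fst t₁.left t₂.left ≫ t₁.left = z₁.left ≫ t₁.left
      rw [Limits.pullback.lift_fst_assoc]

/-- group-theoretic closure of the normalising condition -/
theorem nm_mul {Γ : Type*} [Group Γ] (Hs : Set Γ) {g₁ g₂ : Γ}
    (h₁ : (∀ a ∈ Hs, g₁ * a * g₁⁻¹ ∈ Hs) ∧ (∀ a ∈ Hs, g₁⁻¹ * a * g₁ ∈ Hs))
    (h₂ : (∀ a ∈ Hs, g₂ * a * g₂⁻¹ ∈ Hs) ∧ (∀ a ∈ Hs, g₂⁻¹ * a * g₂ ∈ Hs)) :
    (∀ a ∈ Hs, (g₁ * g₂) * a * (g₁ * g₂)⁻¹ ∈ Hs) ∧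
      (∀ a ∈ Hs, (g₁ * g₂)⁻¹ * a * (g₁ * g₂) ∈ Hs) := by
  constructor
  · intro a ha
    have : (g₁ * g₂) * a * (g₁ * g₂)⁻¹ = g₁ * (g₂ * a * g₂⁻¹) * g₁⁻¹ := by group
    rw [this]
    exact h₁.1 _ (h₂.1 _ ha)
  · intro a ha
    have : (g₁ * g₂)⁻¹ * a * (g₁ * g₂) = g₂⁻¹ * (g₁⁻¹ * a * g₁) * g₂ := by group
    rw [this]
    exact h₂.2 _ (h₁.2 _ ha)

theorem nm_inv {Γ : Type*} [Group Γ] (Hs : Set Γ) {g : Γ}
    (h : (∀ a ∈ Hs, g * a * g⁻¹ ∈ Hs) ∧ (∀ a ∈ Hs, g⁻¹ * a * g ∈ Hs)) :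
    (∀ a ∈ Hs, g⁻¹ * a * g⁻¹⁻¹ ∈ Hs) ∧ (∀ a ∈ Hs, g⁻¹⁻¹ * a * g⁻¹ ∈ Hs) := by
  rw [_root_.inv_inv]
  exact ⟨h.2, h.1⟩

theorem nm_one {Γ : Type*} [Group Γ] (Hs : Set Γ) :
    (∀ a ∈ Hs, (1 : Γ) * a * 1⁻¹ ∈ Hs) ∧ (∀ a ∈ Hs, (1 : Γ)⁻¹ * a * 1 ∈ Hs) := by
  constructor <;> intro a ha <;> simpa using ha

/-- Let G be a group scheme over a field k, y' : Y' → G an immersion and y : Y → G a closed immersion.
(ii) The transporter of Y' into Y, whose points with values in S' are the g such that conjugation by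
g carries every point of Y' (after any base change S'' → S') into Y, is represented by a closed
subscheme of G; if y' is also a closed immersion, so is the strict transporter (g Y' g⁻¹ = Y
functorially). (iii) For every subgroup scheme h : H → G (a homomorphism which is an immersion), the
normalizer of H in G is represented by a closed subscheme of G. -/
theorem result (k : Type u) [Field k] (G Y Y' : Over (Spec (CommRingCat.of k))) [GrpObj G]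
    (y : Y ⟶ G) [IsClosedImmersion y.left] (y' : Y' ⟶ G) [IsImmersion y'.left] :
    (∃ (T : Over (Spec (CommRingCat.of k))) (t : T ⟶ G), IsClosedImmersion t.left ∧
      ∀ (S' : Over (Spec (CommRingCat.of k))) (g : S' ⟶ G), (∃ z : S' ⟶ T, z ≫ t = g) ↔
        ∀ (S'' : Over (Spec (CommRingCat.of k))) (s : S'' ⟶ S') (x : S'' ⟶ Y'),
          ∃ x' : S'' ⟶ Y, (s ≫ g) * (x ≫ y') * (s ≫ g)⁻¹ = x' ≫ y) ∧
    (IsClosedImmersion y'.left →
      ∃ (T : Over (Spec (CommRingCat.of k))) (t : T ⟶ G), IsClosedImmersion t.left ∧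
      ∀ (S' : Over (Spec (CommRingCat.of k))) (g : S' ⟶ G), (∃ z : S' ⟶ T, z ≫ t = g) ↔
        ((∀ (S'' : Over (Spec (CommRingCat.of k))) (s : S'' ⟶ S') (x : S'' ⟶ Y'),
          ∃ x' : S'' ⟶ Y, (s ≫ g) * (x ≫ y') * (s ≫ g)⁻¹ = x' ≫ y) ∧
        (∀ (S'' : Over (Spec (CommRingCat.of k))) (s : S'' ⟶ S') (x' : S'' ⟶ Y),
          ∃ x : S'' ⟶ Y', (s ≫ g)⁻¹ * (x' ≫ y) * (s ≫ g) = x ≫ y'))) ∧
    (∀ (H : Over (Spec (CommRingCat.of k))) [GrpObj H] (h : H ⟶ G) [IsMonHom h] [IsImmersion h.left],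
      ∃ (N : Over (Spec (CommRingCat.of k))) (_ : GrpObj N) (n : N ⟶ G), IsClosedImmersion n.left ∧
        Red.IsNormalizerOf h n) := by
  refine ⟨transp G Y' Y y' y, ?_, ?_⟩
  · intro hy'
    obtain ⟨T₁, t₁, ht₁, h₁⟩ := transp G Y' Y y' y
    obtain ⟨T₂, t₂, ht₂, h₂⟩ := transp' G Y Y' y y'
    obtain ⟨T, t, ht, hT⟩ := inter G T₁ T₂ t₁ t₂
    refine ⟨T, t, ht, fun S' g => ?_⟩
    rw [hT, h₁, h₂]
  · intro H _ h _ _
    haveI hcl : IsClosedImmersion h.left := Groth.Agent.S0351.result k H G h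
    obtain ⟨T₁, t₁, ht₁, h₁⟩ := transp G H H h h
    obtain ⟨T₂, t₂, ht₂, h₂⟩ := transp' G H H h h
    obtain ⟨N, n, hn, hN⟩ := inter G T₁ T₂ t₁ t₂
    -- the normalising condition on points
    let Hs : ∀ (T : Over (Spec (CommRingCat.of k))), Set (T ⟶ G) :=
      fun T => {a | ∃ x' : T ⟶ H, a = x' ≫ h}
    let Nm₀ : ∀ (T : Over (Spec (CommRingCat.of k))), (T ⟶ G) → Prop := fun T g =>
      (∀ a ∈ Hs T, g * a * g⁻¹ ∈ Hs T) ∧ (∀ a ∈ Hs T, g⁻¹ * a * g ∈ Hs T)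
    have hN' : ∀ (S' : Over (Spec (CommRingCat.of k))) (g : S' ⟶ G),
        (∃ z : S' ⟶ N, z ≫ n = g) ↔
          ∀ (S'' : Over (Spec (CommRingCat.of k))) (s : S'' ⟶ S'), Nm₀ S'' (s ≫ g) := by
      intro S' g
      rw [hN, h₁, h₂]
      constructor
      · rintro ⟨ha, hb⟩ S'' s
        refine ⟨?_, ?_⟩
        · rintro _ ⟨x, rfl⟩
          exact ha S'' s x
        · rintro _ ⟨x, rfl⟩
          exact hb S'' s x
      · intro hh
        exact ⟨fun S'' s x => (hh S'' s).1 _ ⟨x, rfl⟩, fun S'' s x => (hh S'' s).2 _ ⟨x, rfl⟩⟩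
    have hNn : ∀ (S'' : Over (Spec (CommRingCat.of k))) (z : S'' ⟶ N), Nm₀ S'' (z ≫ n) := by
      intro S'' z
      have := (hN' S'' (z ≫ n)).mp ⟨z, rfl⟩ S'' (𝟙 _)
      rwa [Category.id_comp] at this
    haveI : Mono n.left := inferInstance
    haveI : Mono n := (Over.forget _).mono_of_mono_map (by exact ‹Mono n.left›)
    obtain ⟨Gr, hmon⟩ := Groth.Agent.Lib.Helper11.SubG.exists_grpObj_of_mono n
      ((hN' _ η[G]).mpr (fun S'' s => by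
        have e1 : s ≫ η[G] = 1 := by rw [MonObj.one_eq_one, MonObj.comp_one]
        rw [e1]
        exact nm_one (Hs S'')))
      ((hN' _ ((fst N N ≫ n) * (snd N N ≫ n))).mpr (fun S'' s => by
        rw [MonObj.comp_mul, ← Category.assoc, ← Category.assoc]
        exact nm_mul (Hs S'') (hNn S'' _) (hNn S'' _)))
      ((hN' _ n⁻¹).mpr (fun S'' s => by
        rw [GrpObj.comp_inv]
        exact nm_inv (Hs S'') (hNn S'' s)))
    refine ⟨N, Gr, n, hn, hmon, inferInstance, fun X g => ?_⟩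
    rw [hN, h₁, h₂]
    constructor
    · rintro ⟨ha, hb⟩ X' x h'
      exact ⟨ha X' x h', hb X' x h'⟩
    · intro hh
      exact ⟨fun X' x h' => (hh X' x h').1, fun X' x h' => (hh X' x h').2⟩

end Groth.Agent.S5358
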