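import Groth.Statements.S5362
import Groth.Agent.Lib.Helper11.IM3
import Groth.Agent.Lib.Helper11.GrpD
import Groth.Agent.Lib.Helper22.SmoothRed

set_option autoImplicit false
universe u
open CategoryTheory CategoryTheory.Limits MonoidalCategory CartesianMonoidalCategory MonObj GrpObj AlgebraicGeometry
open SGA3

namespace Groth.Agent.S5362

theorem ker_toImage {X Y : Scheme.{u}} (f : X ⟶ Y) [QuasiCompact f] : f.toImage.ker = ⊥ := by
  refine Scheme.IdealSheafData.ext_of_iSup_eq_top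
    (fun U : Y.affineOpens => ⟨f.imageι ⁻¹ᵁ (U : Y.Opens), U.2.preimage f.imageι⟩) ?_ ?_
  · show (⨆ U : Y.affineOpens, f.imageι ⁻¹ᵁ (U : Y.Opens)) = ⊤
    rw [← Scheme.Hom.preimage_iSup, AlgebraicGeometry.iSup_affineOpens_eq_top]
    rfl
  · intro U
    rw [Scheme.Hom.ker_apply, Scheme.IdealSheafData.ideal_bot, Pi.bot_apply]
    exact (RingHom.injective_iff_ker_eq_bot _).mp (f.toImage_app_injective U)

/-- Let G be a group scheme locally of finite type over a field k, and a : A → G, b : B → G two closed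
subgroup schemes which are smooth and of finite type over k, such that B normalizes A (conjugating a
point of A by a point of B gives a point of A). Let i : Γ → G be the smallest closed subgroup scheme
of G through which both a and b factor. Then Γ is reduced and its underlying set is A·B, the image
of A ×_k B under (x, y) ↦ a(x) b(y). -/
theorem result (k : Type u) [Field k] (G A B : Over (Spec (CommRingCat.of k))) [GrpObj G] [GrpObj A] [GrpObj B]
    [LocallyOfFiniteType G.hom] (a : A ⟶ G) [IsMonHom a] [IsClosedImmersion a.left] (b : B ⟶ G) [IsMonHom b]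
    [IsClosedImmersion b.left] [Smooth A.hom] [QuasiCompact A.hom] [Smooth B.hom] [QuasiCompact B.hom]
    (hN : ∀ (T : Over (Spec (CommRingCat.of k))) (y : T ⟶ B) (x : T ⟶ A), ∃ x' : T ⟶ A, (y ≫ b) * (x ≫ a) * (y ≫ b)⁻¹ = x' ≫ a)
    (Γ : Over (Spec (CommRingCat.of k))) [GrpObj Γ] (i : Γ ⟶ G) [IsMonHom i] [IsClosedImmersion i.left]
    (ha : ∃ a' : A ⟶ Γ, a' ≫ i = a) (hb : ∃ b' : B ⟶ Γ, b' ≫ i = b)
    (hmin : ∀ (Γ' : Over (Spec (CommRingCat.of k))) (_ : GrpObj Γ') (i' : Γ' ⟶ G), IsMonHom i' → IsClosedImmersion i'.left →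
        (∃ a'' : A ⟶ Γ', a'' ≫ i' = a) → (∃ b'' : B ⟶ Γ', b'' ≫ i' = b) → ∃ j : Γ ⟶ Γ', j ≫ i' = i) :
    IsReduced Γ.left ∧ Set.range i.left.base = Set.range ((a ⊗ₘ b) ≫ μ[G]).left.base := by

  classical
  let P : Over (Spec (CommRingCat.of k)) := A ⊗ B
  let f : P ⟶ G := (a ⊗ₘ b) ≫ μ[G]
  have hf : f = (fst A B ≫ a) * (snd A B ≫ b) := by
    have h0 : (a ⊗ₘ b) = lift (fst A B ≫ a) (snd A B ≫ b) := by
      apply CartesianMonoidalCategory.hom_ext
      · rw [tensorHom_fst, lift_fst]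
      · rw [tensorHom_snd, lift_snd]
    show (a ⊗ₘ b) ≫ μ[G] = _
    rw [Hom.mul_def, h0]
  have hpf : ∀ (T : Over (Spec (CommRingCat.of k))) (p : T ⟶ P),
      p ≫ f = ((p ≫ fst A B) ≫ a) * ((p ≫ snd A B) ≫ b) := by
    intro T p
    rw [hf, MonObj.comp_mul, Category.assoc, Category.assoc]
  have hlift : ∀ (T : Over (Spec (CommRingCat.of k))) (x : T ⟶ A) (y : T ⟶ B),
      (lift x y : T ⟶ P) ≫ f = (x ≫ a) * (y ≫ b) := by
    intro T x y
    rw [hpf, lift_fst, lift_snd]
  -- closure under division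
  have hdiv : ∀ (T : Over (Spec (CommRingCat.of k))) (p₁ p₂ : T ⟶ P),
      ∃ p₃ : T ⟶ P, p₃ ≫ f = (p₁ ≫ f)⁻¹ * (p₂ ≫ f) := by
    intro T p₁ p₂
    obtain ⟨x', hx'⟩ := hN T (p₁ ≫ snd A B)⁻¹ ((p₁ ≫ fst A B)⁻¹ * (p₂ ≫ fst A B))
    refine ⟨lift x' ((p₁ ≫ snd A B)⁻¹ * (p₂ ≫ snd A B)), ?_⟩
    rw [hlift, ← hx', hpf, hpf]
    simp only [GrpObj.inv_comp, MonObj.mul_comp]
    group
  let e : 𝟙_ (Over (Spec (CommRingCat.of k))) ⟶ P := lift η[A] η[B]
  have he : e ≫ f = η[G] := by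
    rw [hlift, IsMonHom.one_hom, IsMonHom.one_hom, MonObj.one_eq_one, _root_.mul_one]
  have hinv : ∀ (T : Over (Spec (CommRingCat.of k))) (p₁ : T ⟶ P),
      ∃ p₃ : T ⟶ P, p₃ ≫ f = (p₁ ≫ f)⁻¹ := by
    intro T p₁
    obtain ⟨p₃, h₃⟩ := hdiv T p₁ (toUnit T ≫ e)
    refine ⟨p₃, ?_⟩
    rw [h₃, Category.assoc, he]
    have : toUnit T ≫ η[G] = 1 := rfl
    rw [this, _root_.mul_one]
  have hmul : ∀ (T : Over (Spec (CommRingCat.of k))) (p₁ p₂ : T ⟶ P),
      ∃ p₃ : T ⟶ P, p₃ ≫ f = (p₁ ≫ f) * (p₂ ≫ f) := by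
    intro T p₁ p₂
    obtain ⟨q, hq⟩ := hinv T p₁
    obtain ⟨p₃, h₃⟩ := hdiv T q p₂
    exact ⟨p₃, by rw [h₃, hq, _root_.inv_inv]⟩
  -- quasi-compactness
  haveI hsep : IsSeparated G.hom := Groth.Agent.Lib.Helper11.GrpD.isSeparated_hom G
  haveI : QuasiCompact f.left := by
    haveI : QuasiCompact P.hom := by
      show QuasiCompact (Limits.pullback.fst A.hom B.hom ≫ A.hom)
      infer_instance
    haveI : QuasiCompact (f.left ≫ G.hom) := by rw [Over.w f]; infer_instance
    exact QuasiCompact.of_comp f.left G.hom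
  -- the image
  let K : Over (Spec (CommRingCat.of k)) := Over.mk (f.left.imageι ≫ G.hom)
  let iK : K ⟶ G := Over.homMk f.left.imageι rfl
  let g : P ⟶ K := Over.homMk f.left.toImage (by
    show f.left.toImage ≫ f.left.imageι ≫ G.hom = P.hom
    rw [Scheme.Hom.toImage_imageι_assoc, Over.w f])
  have hgi : g ≫ iK = f := by
    apply Over.OverMorphism.ext
    exact f.left.toImage_imageι
  haveI : IsClosedImmersion iK.left := by
    show IsClosedImmersion f.left.imageι; infer_instance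
  haveI : QuasiCompact g.left := by
    show QuasiCompact f.left.toImage; infer_instance
  have hker : g.left.ker = ⊥ := ker_toImage f.left
  haveI : IsSchemeTheoreticallyDominant g.left := ⟨hker⟩
  obtain ⟨q₀, hq₀⟩ := hdiv (P ⊗ P) (fst P P) (snd P P)
  obtain ⟨GrK, hiK⟩ := Groth.Agent.Lib.Helper11.IM3.image_grpObj' P G K f iK g hgi ⟨e, he⟩
    ⟨q₀, hq₀⟩
  letI := GrK
  haveI := hiK
  haveI : Mono iK.left := inferInstance
  haveI : Mono iK := (Over.forget _).mono_of_mono_map (by exact ‹Mono iK.left›)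
  haveI : Mono i.left := inferInstance
  haveI : Mono i := (Over.forget _).mono_of_mono_map (by exact ‹Mono i.left›)
  -- a, b factor through K
  have haK : (lift (𝟙 A) (toUnit A ≫ η[B]) ≫ g) ≫ iK = a := by
    rw [Category.assoc, hgi, hlift, Category.id_comp, Category.assoc, IsMonHom.one_hom]
    have : toUnit A ≫ η[G] = 1 := rfl
    rw [this, _root_.mul_one]
  have hbK : (lift (toUnit B ≫ η[A]) (𝟙 B) ≫ g) ≫ iK = b := by
    rw [Category.assoc, hgi, hlift, Category.id_comp, Category.assoc, IsMonHom.one_hom]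
    have : toUnit B ≫ η[G] = 1 := rfl
    rw [this, _root_.one_mul]
  obtain ⟨j, hj⟩ := hmin K GrK iK hiK inferInstance ⟨_, haK⟩ ⟨_, hbK⟩
  -- K is contained in Γ
  obtain ⟨a', ha'⟩ := ha
  obtain ⟨b', hb'⟩ := hb
  let f' : P ⟶ Γ := (fst A B ≫ a') * (snd A B ≫ b')
  have hf' : f' ≫ i = f := by
    show ((fst A B ≫ a') * (snd A B ≫ b')) ≫ i = f
    rw [MonObj.mul_comp, Category.assoc, Category.assoc, ha', hb', hf]
  let π := Limits.pullback.fst iK.left i.left
  let m' : P.left ⟶ Limits.pullback iK.left i.left :=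
    Limits.pullback.lift g.left f'.left (by
      rw [← Over.comp_left, ← Over.comp_left, hgi, hf'])
  have hm' : m' ≫ π = g.left := Limits.pullback.lift_fst _ _ _
  haveI : IsIso π := Groth.Agent.Lib.Helper11.IM1.isIso_of_dominant_factor π g.left m' hm'
  let j'₀ : K.left ⟶ Γ.left := inv π ≫ Limits.pullback.snd iK.left i.left
  have hj'₀ : j'₀ ≫ i.left = iK.left := by
    show (inv π ≫ Limits.pullback.snd iK.left i.left) ≫ i.left = iK.left
    rw [Category.assoc, ← Limits.pullback.condition, IsIso.inv_hom_id_assoc]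
  let j' : K ⟶ Γ := Over.homMk j'₀ (by
    rw [← Over.w i, ← Category.assoc, hj'₀, Over.w iK])
  have hj' : j' ≫ i = iK := by
    apply Over.OverMorphism.ext
    exact hj'₀
  have h1 : j ≫ j' = 𝟙 Γ := by
    rw [← cancel_mono i, Category.assoc, hj', hj, Category.id_comp]
  have h2 : j' ≫ j = 𝟙 K := by
    rw [← cancel_mono iK, Category.assoc, hj, hj', Category.id_comp]
  haveI : IsIso j := ⟨j', h1, h2⟩
  haveI : IsIso j.left := (Over.forget _).map_isIso j
  -- reducedness
  haveI : IsReduced A.left := Groth.Agent.Lib.Helper22.SmoothRed.isReduced_of_smooth A.hom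
  haveI : IsReduced P.left := by
    haveI : Smooth (fst A B).left := by
      show Smooth (Limits.pullback.fst A.hom B.hom); infer_instance
    exact Groth.Agent.Lib.Helper22.SmoothRed.isReduced_of_smooth (fst A B).left
  haveI : IsReduced K.left := IsSchemeTheoreticallyDominant.isReduced g.left
  refine ⟨isReduced_of_isOpenImmersion j.left, ?_⟩
  -- surjectivity
  have hmulK : ∀ (T : Over (Spec (CommRingCat.of k))) (p₁ p₂ : T ⟶ P),
      ∃ p₃ : T ⟶ P, p₃ ≫ g = (p₁ ≫ g) * (p₂ ≫ g) := by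
    intro T p₁ p₂
    obtain ⟨p₃, h₃⟩ := hmul T p₁ p₂
    refine ⟨p₃, ?_⟩
    rw [← cancel_mono iK, MonObj.mul_comp, Category.assoc, Category.assoc, Category.assoc, hgi, h₃]
  have hsurj : Surjective g.left :=
    Groth.Agent.Lib.Helper11.IM3.surjective_of_dominant' P K g hmulK
  have hil : i.left = j.left ≫ iK.left := by rw [← Over.comp_left, hj]
  have hfl : f.left = g.left ≫ iK.left := by rw [← Over.comp_left, hgi]
  show Set.range i.left.base = Set.range f.left.base
  ext x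
  constructor
  · rintro ⟨w₀, rfl⟩
    obtain ⟨p, hp⟩ := hsurj.surj (j.left w₀)
    refine ⟨p, ?_⟩
    rw [hfl, hil, Scheme.Hom.comp_base, Scheme.Hom.comp_base, TopCat.comp_app, TopCat.comp_app]
    exact congrArg _ hp
  · rintro ⟨p, rfl⟩
    obtain ⟨w₀, hw0⟩ := j.left.surjective (g.left p)
    refine ⟨w₀, ?_⟩
    rw [hfl, hil, Scheme.Hom.comp_base, Scheme.Hom.comp_base, TopCat.comp_app, TopCat.comp_app]
    exact congrArg _ hw0

end Groth.Agent.S5362
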