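import Groth.Statements.S5363
import Groth.Agent.Lib.Helper11.TP2
import Groth.Agent.Lib.Helper11.SubG
import Groth.Agent.Lib.Helper11.GrpD

set_option autoImplicit false
universe u
open CategoryTheory CategoryTheory.Limits MonoidalCategory CartesianMonoidalCategory MonObj GrpObj AlgebraicGeometry
open SGA3

namespace Groth.Agent.S5363

open Groth.Agent.Lib.Helper11 in
theorem isClosedImmersion_unit {k : Type u} [Field k] (G : Over (Spec (CommRingCat.of k))) [GrpObj G] :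
    IsClosedImmersion (η[G] : 𝟙_ (Over (Spec (CommRingCat.of k))) ⟶ G).left := by
  haveI := GrpD.isSeparated_hom G
  haveI : IsClosedImmersion ((η[G] : 𝟙_ (Over (Spec (CommRingCat.of k))) ⟶ G).left ≫ G.hom) := by
    rw [Over.w]
    show IsClosedImmersion (𝟙 _)
    infer_instance
  exact IsClosedImmersion.of_comp _ G.hom

open Groth.Agent.Lib.Helper11 in
theorem centralizer {k : Type u} [Field k] (G A : Over (Spec (CommRingCat.of k))) [GrpObj G]
    (a : A ⟶ G) :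
    ∃ (Z : Over (Spec (CommRingCat.of k))) (_ : GrpObj Z) (z : Z ⟶ G), IsMonHom z ∧
      IsClosedImmersion z.left ∧
      ∀ (T : Over (Spec (CommRingCat.of k))) (x : T ⟶ G), (∃ w : T ⟶ Z, w ≫ z = x) ↔
        ∀ (T' : Over (Spec (CommRingCat.of k))) (t : T' ⟶ T) (y : T' ⟶ A),
          (y ≫ a) * (t ≫ x) = (t ≫ x) * (y ≫ a) := by
  haveI := isClosedImmersion_unit G
  let c : A ⊗ G ⟶ G := ((snd A G * (fst A G ≫ a)) * (snd A G)⁻¹) * (fst A G ≫ a)⁻¹
  obtain ⟨Z, z, hz, hiff⟩ := TP2.exists_transporter G A G (𝟙_ _) c η[G]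
  have key : ∀ (T' T : Over (Spec (CommRingCat.of k))) (x : T ⟶ G) (t : T' ⟶ T) (y : T' ⟶ A),
      lift y (t ≫ x) ≫ c = (((t ≫ x) * (y ≫ a)) * (t ≫ x)⁻¹) * (y ≫ a)⁻¹ := by
    intro T' T x t y
    show lift y (t ≫ x) ≫ (((snd A G * (fst A G ≫ a)) * (snd A G)⁻¹) * (fst A G ≫ a)⁻¹) = _
    rw [MonObj.comp_mul, MonObj.comp_mul, MonObj.comp_mul, GrpObj.comp_inv, GrpObj.comp_inv,
      lift_snd, lift_fst_assoc]
  have hZ : ∀ (T : Over (Spec (CommRingCat.of k))) (x : T ⟶ G), (∃ w : T ⟶ Z, w ≫ z = x) ↔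
        ∀ (T' : Over (Spec (CommRingCat.of k))) (t : T' ⟶ T),
          (t ≫ x) ∈ Subgroup.centralizer {b : T' ⟶ G | ∃ y : T' ⟶ A, b = y ≫ a} := by
    intro T x
    rw [hiff]
    constructor
    · intro h T' t
      rw [Subgroup.mem_centralizer_iff]
      rintro _ ⟨y, rfl⟩
      obtain ⟨e, he⟩ := h T' t y
      rw [key] at he
      have e1 : e ≫ η[G] = 1 := by rw [MonObj.one_eq_one, MonObj.comp_one]
      rw [e1] at he
      have he' := he.symm
      rw [mul_inv_eq_one, mul_inv_eq_iff_eq_mul] at he'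
      exact he'.symm
    · intro h T' t y
      refine ⟨toUnit _, ?_⟩
      rw [key]
      have h' := Subgroup.mem_centralizer_iff.mp (h T' t) _ ⟨y, rfl⟩
      have e1 : toUnit T' ≫ η[G] = 1 := by rw [MonObj.one_eq_one, MonObj.comp_one]
      rw [e1]
      symm
      rw [mul_inv_eq_one, mul_inv_eq_iff_eq_mul]
      exact h'.symm
  have hZz : ∀ (T : Over (Spec (CommRingCat.of k))) (w : T ⟶ Z),
      (w ≫ z) ∈ Subgroup.centralizer {b : T ⟶ G | ∃ y : T ⟶ A, b = y ≫ a} := by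
    intro T w
    have := (hZ T (w ≫ z)).mp ⟨w, rfl⟩ T (𝟙 _)
    rwa [Category.id_comp] at this
  haveI : Mono z.left := inferInstance
  haveI : Mono z := (Over.forget _).mono_of_mono_map (by exact ‹Mono z.left›)
  obtain ⟨Gr, hmon⟩ := SubG.exists_grpObj_of_mono z
    ((hZ _ η[G]).mpr (fun T' t => by
      have e1 : t ≫ η[G] = 1 := by rw [MonObj.one_eq_one, MonObj.comp_one]
      rw [e1]
      exact Subgroup.one_mem _))
    ((hZ _ ((fst Z Z ≫ z) * (snd Z Z ≫ z))).mpr (fun T' t => by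
      rw [MonObj.comp_mul, ← Category.assoc, ← Category.assoc]
      exact Subgroup.mul_mem _ (hZz _ _) (hZz _ _)))
    ((hZ _ z⁻¹).mpr (fun T' t => by
      rw [GrpObj.comp_inv]
      exact Subgroup.inv_mem _ (hZz _ _)))
  refine ⟨Z, Gr, z, hmon, hz, fun T x => ?_⟩
  rw [hZ]
  constructor
  · intro h T' t y
    exact Subgroup.mem_centralizer_iff.mp (h T' t) _ ⟨y, rfl⟩
  · intro h T' t
    rw [Subgroup.mem_centralizer_iff]
    rintro _ ⟨y, rfl⟩
    exact h T' t y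

/-- Let G be a group scheme over a field k and g a k-rational point of G. Then the smallest closed
subgroup scheme Γ of G through which g factors (the closed subgroup generated by g) is commutative. -/
theorem result (k : Type u) [Field k] (G : Over (Spec (CommRingCat.of k))) [GrpObj G]
    (g : 𝟙_ (Over (Spec (CommRingCat.of k))) ⟶ G) (Γ : Over (Spec (CommRingCat.of k))) [GrpObj Γ] (i : Γ ⟶ G) [IsMonHom i] [IsClosedImmersion i.left]
    (hf : ∃ f' : 𝟙_ (Over (Spec (CommRingCat.of k))) ⟶ Γ, f' ≫ i = g)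
    (hmin : ∀ (Γ' : Over (Spec (CommRingCat.of k))) (_ : GrpObj Γ') (i' : Γ' ⟶ G), IsMonHom i' → IsClosedImmersion i'.left →
        (∃ f'' : 𝟙_ (Over (Spec (CommRingCat.of k))) ⟶ Γ', f'' ≫ i' = g) → ∃ j : Γ ⟶ Γ', j ≫ i' = i) :
    IsCommMonObj Γ := by

  obtain ⟨Z₁, Gr₁, z₁, hm₁, hc₁, h₁⟩ := centralizer G (𝟙_ _) g
  obtain ⟨j₁, hj₁⟩ := hmin Z₁ Gr₁ z₁ hm₁ hc₁ ((h₁ _ g).mpr (fun T' t y => by
    have : t = y := Subsingleton.elim _ _
    rw [this]))
  have step1 : ∀ (T : Over (Spec (CommRingCat.of k))) (y : T ⟶ Γ)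
      (u : T ⟶ 𝟙_ (Over (Spec (CommRingCat.of k)))), (u ≫ g) * (y ≫ i) = (y ≫ i) * (u ≫ g) := by
    intro T y u
    have := (h₁ T (y ≫ i)).mp ⟨y ≫ j₁, by rw [Category.assoc, hj₁]⟩ T (𝟙 _) u
    rwa [Category.id_comp] at this
  obtain ⟨Z₂, Gr₂, z₂, hm₂, hc₂, h₂⟩ := centralizer G Γ i
  obtain ⟨j₂, hj₂⟩ := hmin Z₂ Gr₂ z₂ hm₂ hc₂
    ((h₂ _ g).mpr (fun T' t y => (step1 T' y t).symm))
  have step2 := (h₂ Γ i).mp ⟨j₂, hj₂⟩ (Γ ⊗ Γ) (fst Γ Γ) (snd Γ Γ)
  haveI : Mono i.left := inferInstance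
  haveI : Mono i := (Over.forget _).mono_of_mono_map (by exact ‹Mono i.left›)
  refine ⟨?_⟩
  rw [← cancel_mono i]
  have e1 : μ[Γ] = fst Γ Γ * snd Γ Γ := by rw [Hom.mul_def, lift_fst_snd, Category.id_comp]
  rw [e1, MonObj.comp_mul, braiding_hom_fst, braiding_hom_snd, MonObj.mul_comp, MonObj.mul_comp]
  exact step2

end Groth.Agent.S5363
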