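import Groth.Statements.S5364
import Groth.Agent.Lib.Helper11.TP2
import Groth.Agent.Lib.Helper11.SubG

set_option autoImplicit false
universe u
open CategoryTheory CategoryTheory.Limits MonoidalCategory CartesianMonoidalCategory MonObj GrpObj AlgebraicGeometry
open SGA3

namespace Groth.Agent.S5364

open Groth.Agent.Lib.Helper11 in
theorem conjcore {k : Type u} [Field k] (G E : Over (Spec (CommRingCat.of k))) [GrpObj G] [GrpObj E]
    (e : E ⟶ G) [IsMonHom e] [IsClosedImmersion e.left] :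
    ∃ (Z : Over (Spec (CommRingCat.of k))) (_ : GrpObj Z) (z : Z ⟶ G), IsMonHom z ∧
      IsClosedImmersion z.left ∧
      ∀ (T : Over (Spec (CommRingCat.of k))) (x : T ⟶ G), (∃ w : T ⟶ Z, w ≫ z = x) ↔
        ∀ (T' : Over (Spec (CommRingCat.of k))) (t : T' ⟶ T) (y : T' ⟶ G),
          ∃ x' : T' ⟶ E, y * (t ≫ x) * y⁻¹ = x' ≫ e := by
  let c : G ⊗ G ⟶ G := (fst G G * snd G G) * (fst G G)⁻¹
  obtain ⟨Z, z, hz, hiff⟩ := TP2.exists_transporter G G G E c e
  have key : ∀ (T' T : Over (Spec (CommRingCat.of k))) (x : T ⟶ G) (t : T' ⟶ T) (y : T' ⟶ G),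
      lift y (t ≫ x) ≫ c = (y * (t ≫ x)) * y⁻¹ := by
    intro T' T x t y
    show lift y (t ≫ x) ≫ ((fst G G * snd G G) * (fst G G)⁻¹) = _
    rw [MonObj.comp_mul, MonObj.comp_mul, GrpObj.comp_inv, lift_snd, lift_fst]
  have hZ : ∀ (T : Over (Spec (CommRingCat.of k))) (x : T ⟶ G), (∃ w : T ⟶ Z, w ≫ z = x) ↔
        ∀ (T' : Over (Spec (CommRingCat.of k))) (t : T' ⟶ T) (y : T' ⟶ G),
          ∃ x' : T' ⟶ E, y * (t ≫ x) * y⁻¹ = x' ≫ e := by
    intro T x
    rw [hiff]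
    constructor
    · intro h T' t y
      obtain ⟨e', he'⟩ := h T' t y
      exact ⟨e', by rw [he', key]⟩
    · intro h T' t y
      obtain ⟨x', hx'⟩ := h T' t y
      exact ⟨x', by rw [key, hx']⟩
  have hZz : ∀ (T : Over (Spec (CommRingCat.of k))) (w : T ⟶ Z) (y : T ⟶ G),
      ∃ x' : T ⟶ E, y * (w ≫ z) * y⁻¹ = x' ≫ e := by
    intro T w y
    have := (hZ T (w ≫ z)).mp ⟨w, rfl⟩ T (𝟙 _) y
    rwa [Category.id_comp] at this
  haveI : Mono z.left := inferInstance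
  haveI : Mono z := (Over.forget _).mono_of_mono_map (by exact ‹Mono z.left›)
  obtain ⟨Gr, hmon⟩ := SubG.exists_grpObj_of_mono z
    ((hZ _ η[G]).mpr (fun T' t y => by
      have e1 : t ≫ η[G] = 1 := by rw [MonObj.one_eq_one, MonObj.comp_one]
      rw [e1]
      refine ⟨1, ?_⟩
      rw [MonObj.one_comp]
      group))
    ((hZ _ ((fst Z Z ≫ z) * (snd Z Z ≫ z))).mpr (fun T' t y => by
      rw [MonObj.comp_mul, ← Category.assoc, ← Category.assoc]
      obtain ⟨x₁, h₁⟩ := hZz T' (t ≫ fst Z Z) y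
      obtain ⟨x₂, h₂⟩ := hZz T' (t ≫ snd Z Z) y
      refine ⟨x₁ * x₂, ?_⟩
      rw [MonObj.mul_comp, ← h₁, ← h₂]
      group))
    ((hZ _ z⁻¹).mpr (fun T' t y => by
      rw [GrpObj.comp_inv]
      obtain ⟨x₁, h₁⟩ := hZz T' t y
      refine ⟨x₁⁻¹, ?_⟩
      rw [GrpObj.inv_comp, ← h₁]
      group))
  exact ⟨Z, Gr, z, hmon, hz, hZ⟩

/-- Let G be a group scheme over a field k and a : A → G, b : B → G two closed subgroup schemes which
are geometrically reduced over k and normal in G. Let i : Γ → G be the commutator subgroup scheme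
(A, B): the smallest closed subgroup scheme of G through which the morphism A ×_k B → G, (x, y) ↦
a(x) b(y) a(x)⁻¹ b(y)⁻¹, factors. Then Γ is normal in G. (The published statement also covers
characteristic subgroups; this row states the case of normal subgroups only.) -/
theorem result (k : Type u) [Field k] (G A B : Over (Spec (CommRingCat.of k))) [GrpObj G] [GrpObj A] [GrpObj B]
    (a : A ⟶ G) [IsMonHom a] [IsClosedImmersion a.left] (b : B ⟶ G) [IsMonHom b] [IsClosedImmersion b.left]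
    [GeometricallyReduced A.hom] [GeometricallyReduced B.hom] (hA : AlgGrp.IsNormalHom a) (hB : AlgGrp.IsNormalHom b)
    (Γ : Over (Spec (CommRingCat.of k))) [GrpObj Γ] (i : Γ ⟶ G) [IsMonHom i] [IsClosedImmersion i.left]
    (hf : ∃ f' : A ⊗ B ⟶ Γ, f' ≫ i = (((fst A B) ≫ a) * ((snd A B) ≫ b) * ((fst A B) ≫ a)⁻¹ * ((snd A B) ≫ b)⁻¹))
    (hmin : ∀ (Γ' : Over (Spec (CommRingCat.of k))) (_ : GrpObj Γ') (i' : Γ' ⟶ G), IsMonHom i' → IsClosedImmersion i'.left →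
        (∃ f'' : A ⊗ B ⟶ Γ', f'' ≫ i' = (((fst A B) ≫ a) * ((snd A B) ≫ b) * ((fst A B) ≫ a)⁻¹ * ((snd A B) ≫ b)⁻¹)) → ∃ j : Γ ⟶ Γ', j ≫ i' = i) :
    AlgGrp.IsNormalHom i := by

  obtain ⟨Z, Gr, z, hm, hc, hZ⟩ := conjcore G Γ i
  obtain ⟨f', hf'⟩ := hf
  obtain ⟨j, hj⟩ := hmin Z Gr z hm hc ((hZ _ _).mpr (fun T' t y => by
    obtain ⟨α', hα⟩ := hA T' y (t ≫ fst A B)
    obtain ⟨β', hβ⟩ := hB T' y (t ≫ snd A B)
    refine ⟨lift α' β' ≫ f', ?_⟩
    rw [Category.assoc, hf', MonObj.comp_mul, MonObj.comp_mul, MonObj.comp_mul, GrpObj.comp_inv,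
      GrpObj.comp_inv, MonObj.comp_mul, MonObj.comp_mul, MonObj.comp_mul, GrpObj.comp_inv,
      GrpObj.comp_inv, lift_fst_assoc, lift_snd_assoc, ← hα, ← hβ, ← Category.assoc,
      ← Category.assoc]
    group))
  intro T g n
  have := (hZ T (n ≫ i)).mp ⟨n ≫ j, by rw [Category.assoc, hj]⟩ T (𝟙 _) g
  rwa [Category.id_comp] at this

end Groth.Agent.S5364
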