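import Groth.Statements.S5366
import Groth.Agent.Lib.Helper11.KPts3
import Groth.Agent.Lib.Helper11.WordLaw
import Groth.Agent.Lib.Helper11.GrpD

set_option autoImplicit false
universe u
open CategoryTheory CategoryTheory.Limits MonoidalCategory CartesianMonoidalCategory MonObj GrpObj AlgebraicGeometry
open SGA3

namespace Groth.Agent.S5366

open scoped commutatorElement
open Groth.Agent.Lib.Helper11 Groth.Agent.Lib.Helper11.WordLaw

/-- a "word": a smooth scheme with a morphism to `G` -/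
structure Wd {k : Type u} [Field k] (G : Over (Spec (CommRingCat.of k))) where
  X : Over (Spec (CommRingCat.of k))
  w : X ⟶ G
  sm : Smooth X.hom

/-- the values of a word on `T`-points -/
def Wd.vals {k : Type u} [Field k] {G : Over (Spec (CommRingCat.of k))} (D : Wd G)
    (T : Over (Spec (CommRingCat.of k))) : Set (T ⟶ G) := {a | ∃ x : T ⟶ D.X, a = x ≫ D.w}

theorem smooth_tensor {k : Type u} [Field k] (X₁ X₂ : Over (Spec (CommRingCat.of k)))
    [Smooth X₁.hom] [Smooth X₂.hom] : Smooth (X₁ ⊗ X₂).hom := by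
  show Smooth (Limits.pullback.fst X₁.hom X₂.hom ≫ X₁.hom)
  infer_instance

/-- the commutator of two words -/
noncomputable def Wd.comm {k : Type u} [Field k] {G : Over (Spec (CommRingCat.of k))} [GrpObj G]
    (D₁ D₂ : Wd G) : Wd G :=
  haveI := D₁.sm
  haveI := D₂.sm
  ⟨D₁.X ⊗ D₂.X, ⁅fst D₁.X D₂.X ≫ D₁.w, snd D₁.X D₂.X ≫ D₂.w⁆, smooth_tensor D₁.X D₂.X⟩

theorem comp_commutator {k : Type u} [Field k] {G : Over (Spec (CommRingCat.of k))} [GrpObj G]
    {T X : Over (Spec (CommRingCat.of k))} (x : T ⟶ X) (u v : X ⟶ G) :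
    x ≫ ⁅u, v⁆ = ⁅x ≫ u, x ≫ v⁆ := by
  simp only [commutatorElement_def, MonObj.comp_mul, GrpObj.comp_inv]

theorem vals_comm {k : Type u} [Field k] {G : Over (Spec (CommRingCat.of k))} [GrpObj G]
    (D₁ D₂ : Wd G) (T : Over (Spec (CommRingCat.of k))) :
    (D₁.comm D₂).vals T = cset (D₁.vals T) (D₂.vals T) := by
  ext a
  constructor
  · rintro ⟨x, rfl⟩
    change T ⟶ D₁.X ⊗ D₂.X at x
    refine ⟨(x ≫ fst D₁.X D₂.X) ≫ D₁.w, ⟨_, rfl⟩, (x ≫ snd D₁.X D₂.X) ≫ D₂.w, ⟨_, rfl⟩, ?_⟩
    show x ≫ (⁅fst D₁.X D₂.X ≫ D₁.w, snd D₁.X D₂.X ≫ D₂.w⁆ : D₁.X ⊗ D₂.X ⟶ G) = _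
    rw [comp_commutator, Category.assoc, Category.assoc]
  · rintro ⟨_, ⟨x₁, rfl⟩, _, ⟨x₂, rfl⟩, rfl⟩
    refine ⟨(lift x₁ x₂ : T ⟶ D₁.X ⊗ D₂.X), ?_⟩
    show _ = (lift x₁ x₂ : T ⟶ D₁.X ⊗ D₂.X) ≫
      (⁅fst D₁.X D₂.X ≫ D₁.w, snd D₁.X D₂.X ≫ D₂.w⁆ : D₁.X ⊗ D₂.X ⟶ G)
    rw [comp_commutator, lift_fst_assoc, lift_snd_assoc]

/-- a word which is trivial on `Ω`-points is trivial on all points -/
theorem vals_trivial {k : Type u} [Field k] {G : Over (Spec (CommRingCat.of k))} [GrpObj G]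
    (Ω : Type u) [Field Ω] [Algebra k Ω] [IsSepClosed Ω] (D : Wd G)
    (h : ∀ a ∈ D.vals (Over.mk (Spec.map (CommRingCat.ofHom (algebraMap k Ω)))), a = 1)
    (T : Over (Spec (CommRingCat.of k))) : ∀ a ∈ D.vals T, a = 1 := by
  haveI := D.sm
  haveI : IsSeparated G.hom := GrpD.isSeparated_hom G
  haveI : IsReduced D.X.left := Groth.Agent.Lib.Helper22.SmoothRed.isReduced_of_smooth D.X.hom
  have hw : D.w = 1 := by
    apply Over.OverMorphism.ext
    refine KPts.eq_of_pts k Ω D.X.hom (KPts.dense_pts_of_smooth k Ω D.X.hom) D.w.left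
      (1 : D.X ⟶ G).left G.hom ?_ ?_
    · rw [Over.w, Over.w]
    · intro p hp
      let p' : (Over.mk (Spec.map (CommRingCat.ofHom (algebraMap k Ω))) :
          Over (Spec (CommRingCat.of k))) ⟶ D.X := Over.homMk p hp
      have h1 : p' ≫ D.w = 1 := h _ ⟨p', rfl⟩
      have h2 : p' ≫ (1 : D.X ⟶ G) = 1 := MonObj.comp_one _
      have := h1.trans h2.symm
      exact congrArg (·.left) this
  rintro _ ⟨x, rfl⟩
  rw [hw, MonObj.comp_one]

/-- the derived words -/
noncomputable def dW {k : Type u} [Field k] (G : Over (Spec (CommRingCat.of k))) [GrpObj G]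
    [Smooth G.hom] : ℕ → Wd G
  | 0 => ⟨G, 𝟙 G, inferInstance⟩
  | n + 1 => (dW G n).comm (dW G n)

/-- the lower central words -/
noncomputable def lW {k : Type u} [Field k] (G : Over (Spec (CommRingCat.of k))) [GrpObj G]
    [Smooth G.hom] : ℕ → Wd G
  | 0 => ⟨G, 𝟙 G, inferInstance⟩
  | n + 1 => (lW G n).comm ⟨G, 𝟙 G, inferInstance⟩

theorem vals_id {k : Type u} [Field k] (G : Over (Spec (CommRingCat.of k)))
    [Smooth G.hom] (T : Over (Spec (CommRingCat.of k))) :
    (⟨G, 𝟙 G, inferInstance⟩ : Wd G).vals T = Set.univ := by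
  ext a
  simp only [Set.mem_univ, iff_true]
  exact ⟨a, (Category.comp_id a).symm⟩

theorem vals_dW {k : Type u} [Field k] (G : Over (Spec (CommRingCat.of k))) [GrpObj G]
    [Smooth G.hom] (T : Over (Spec (CommRingCat.of k))) (n : ℕ) :
    (dW G n).vals T = dV n := by
  induction n with
  | zero => exact vals_id G T
  | succ n ih =>
    show ((dW G n).comm (dW G n)).vals T = cset (dV n) (dV n)
    rw [vals_comm, ih]

theorem vals_lW {k : Type u} [Field k] (G : Over (Spec (CommRingCat.of k))) [GrpObj G]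
    [Smooth G.hom] (T : Over (Spec (CommRingCat.of k))) (n : ℕ) :
    (lW G n).vals T = lV n := by
  induction n with
  | zero => exact vals_id G T
  | succ n ih =>
    show ((lW G n).comm ⟨G, 𝟙 G, inferInstance⟩).vals T = cset (lV n) Set.univ
    rw [vals_comm, ih, vals_id]

/-- (i) ⟺ (iii): let G be a smooth group scheme of finite type over a field k, Ω an algebraically closed
extension field of k and n a natural number. Then G is solvable of class n (the n-th term of the
derived series of the group G(T) is trivial for every k-scheme T) if and only if the n-th term of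
the derived series of the group of Ω-points G(Ω) is trivial; and G is nilpotent of class n (the n-th
term of the lower central series of G(T) is trivial for every T) if and only if the n-th term of the
lower central series of G(Ω) is trivial. -/
theorem result (k : Type u) [Field k] (G : Over (Spec (CommRingCat.of k))) [GrpObj G]
    [Smooth G.hom] [QuasiCompact G.hom] (Ω : Type u) [Field Ω] [Algebra k Ω] [IsAlgClosed Ω] (n : ℕ) :
    ((∀ T : Over (Spec (CommRingCat.of k)), derivedSeries (T ⟶ G) n = ⊥) ↔ derivedSeries ((Over.mk (Spec.map (CommRingCat.ofHom (algebraMap k Ω))) : Over (Spec (CommRingCat.of k))) ⟶ G) n = ⊥) ∧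
    ((∀ T : Over (Spec (CommRingCat.of k)), Subgroup.lowerCentralSeries (⊤ : Subgroup (T ⟶ G)) n = ⊥) ↔ Subgroup.lowerCentralSeries (⊤ : Subgroup (((Over.mk (Spec.map (CommRingCat.ofHom (algebraMap k Ω))) : Over (Spec (CommRingCat.of k))) ⟶ G))) n = ⊥) := by

  haveI : IsSepClosed Ω := inferInstance
  refine ⟨⟨fun h => h _, fun h T => ?_⟩, ⟨fun h => h _, fun h T => ?_⟩⟩
  · rw [derivedSeries_eq_bot_iff, ← vals_dW G _ n] at h ⊢
    exact vals_trivial Ω (dW G n) h T
  · rw [lowerCentralSeries_eq_bot_iff, ← vals_lW G _ n] at h ⊢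
    exact vals_trivial Ω (lW G n) h T

end Groth.Agent.S5366
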