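import Groth.Statements.S5377
import Mathlib.Algebra.Category.Ring.FilteredColimits
import Mathlib.CategoryTheory.Limits.ConcreteCategory.Basic
import Mathlib.RingTheory.RingHom.FaithfullyFlat
import Mathlib.RingTheory.Flat.EquationalCriterion
import Mathlib.RingTheory.Flat.FaithfullyFlat.Algebra

set_option autoImplicit false
universe u
open CategoryTheory CategoryTheory.Limits MonoidalCategory CartesianMonoidalCategory MonObj GrpObj AlgebraicGeometry
open SGA3

namespace Groth.Agent.S5377

section aux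
variable {J : Type u} [SmallCategory J] [IsFiltered J]
    {C A : J ⥤ CommRingCat.{u}} (φ : C ⟶ A)

lemma rep (F : J ⥤ CommRingCat.{u}) (x : (colimit F : CommRingCat.{u})) :
    ∃ j, ∃ c : F.obj j, (colimit.ι F j).hom c = x := by
  obtain ⟨j, y, h⟩ := Concrete.colimit_exists_rep F x
  exact ⟨j, y, h⟩

lemma rep_eq (F : J ⥤ CommRingCat.{u}) (i j : J) (x : F.obj i) (y : F.obj j)
    (h : (colimit.ι F i).hom x = (colimit.ι F j).hom y) :
    ∃ k, ∃ (f : i ⟶ k) (g : j ⟶ k), (F.map f).hom x = (F.map g).hom y := by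
  obtain ⟨k, f, g, h⟩ := Concrete.colimit_exists_of_rep_eq F x y h
  exact ⟨k, f, g, h⟩

lemma ι_map (F : J ⥤ CommRingCat.{u}) {i j : J} (g : i ⟶ j) (x : F.obj i) :
    (colimit.ι F j).hom ((F.map g).hom x) = (colimit.ι F i).hom x := by
  have := colimit.w F g
  have h2 := congrArg (fun t => t.hom x) this
  simpa using h2

lemma colimMap_ι (j : J) (c : C.obj j) :
    (colimMap φ).hom ((colimit.ι C j).hom c) = (colimit.ι A j).hom ((φ.app j).hom c) := by
  have := ι_colimMap φ j
  have h2 := congrArg (fun t => t.hom c) this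
  simpa using h2

lemma nat_apply {i j : J} (g : i ⟶ j) (c : C.obj i) :
    (φ.app j).hom ((C.map g).hom c) = (A.map g).hom ((φ.app i).hom c) := by
  have := φ.naturality g
  have h2 := congrArg (fun t => t.hom c) this
  simpa using h2

/-- zero at a later stage -/
lemma rep_zero (F : J ⥤ CommRingCat.{u}) (i : J) (x : F.obj i)
    (h : (colimit.ι F i).hom x = 0) :
    ∃ k, ∃ (f : i ⟶ k), (F.map f).hom x = 0 := by
  have h' : (colimit.ι F i).hom x = (colimit.ι F i).hom 0 := by rw [h, map_zero]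
  obtain ⟨k, f, g, hfg⟩ := rep_eq F i i x 0 h'
  exact ⟨k, f, by rw [hfg, map_zero]⟩

/-- finite families lift to a common stage -/
lemma rep_fin (F : J ⥤ CommRingCat.{u}) {l : ℕ} (x : Fin l → (colimit F : CommRingCat.{u})) (j0 : J) :
    ∃ j, ∃ (_ : j0 ⟶ j) (c : Fin l → F.obj j), ∀ i, (colimit.ι F j).hom (c i) = x i := by
  induction l with
  | zero => exact ⟨j0, 𝟙 _, fun i => i.elim0, fun i => i.elim0⟩
  | succ l ih =>
    obtain ⟨j1, g1, c1, h1⟩ := ih (fun i => x i.succ)
    obtain ⟨j2, c2, h2⟩ := rep F (x 0)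
    refine ⟨IsFiltered.max j1 j2, g1 ≫ IsFiltered.leftToMax j1 j2,
      Fin.cons ((F.map (IsFiltered.rightToMax j1 j2)).hom c2)
        (fun i => (F.map (IsFiltered.leftToMax j1 j2)).hom (c1 i)), ?_⟩
    intro i
    refine Fin.cases ?_ (fun i => ?_) i
    · rw [Fin.cons_zero, ι_map, h2]
    · rw [Fin.cons_succ, ι_map, h1]

lemma flat_colim (h : ∀ j : J, (φ.app j).hom.Flat) : (colimMap φ).hom.Flat := by
  letI : Algebra (colimit C : CommRingCat.{u}) (colimit A : CommRingCat.{u}) :=
    (colimMap φ).hom.toAlgebra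
  have halg : ∀ r : (colimit C : CommRingCat.{u}),
      algebraMap (colimit C : CommRingCat.{u}) (colimit A : CommRingCat.{u}) r =
        (colimMap φ).hom r := fun _ => rfl
  change Module.Flat (colimit C : CommRingCat.{u}) (colimit A : CommRingCat.{u})
  rw [Module.Flat.iff_forall_isTrivialRelation]
  intro l r x hrel
  obtain ⟨j0⟩ := IsFiltered.nonempty (C := J)
  obtain ⟨j1, _, r1, hr1⟩ := rep_fin C r j0
  obtain ⟨j2, g12, x2, hx2⟩ := rep_fin A x j1
  set r2 : Fin l → C.obj j2 := fun i => (C.map g12).hom (r1 i) with hr2def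
  have hr2 : ∀ i, (colimit.ι C j2).hom (r2 i) = r i := fun i => by rw [hr2def, ι_map, hr1]
  have hz : (colimit.ι A j2).hom (∑ i, (φ.app j2).hom (r2 i) * x2 i) = 0 := by
    rw [map_sum, ← hrel]
    refine Finset.sum_congr rfl fun i _ => ?_
    rw [map_mul, ← colimMap_ι, hr2, hx2, Algebra.smul_def, halg]
  obtain ⟨k, g, hk⟩ := rep_zero A j2 _ hz
  set r3 : Fin l → C.obj k := fun i => (C.map g).hom (r2 i) with hr3def
  set x3 : Fin l → A.obj k := fun i => (A.map g).hom (x2 i) with hx3def
  have hrel3 : ∑ i, (φ.app k).hom (r3 i) * x3 i = 0 := by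
    rw [← hk, map_sum]
    refine Finset.sum_congr rfl fun i _ => ?_
    rw [map_mul, hr3def, nat_apply]
  letI : Algebra (C.obj k) (A.obj k) := (φ.app k).hom.toAlgebra
  have halgk : ∀ c : C.obj k, algebraMap (C.obj k) (A.obj k) c = (φ.app k).hom c := fun _ => rfl
  haveI : Module.Flat (C.obj k) (A.obj k) := h k
  have hrel3' : ∑ i, r3 i • x3 i = 0 := by
    rw [← hrel3]
    refine Finset.sum_congr rfl fun i _ => ?_
    rw [Algebra.smul_def, halgk]
  obtain ⟨K, a, y, hxy, hra⟩ := Module.Flat.isTrivialRelation_of_sum_smul_eq_zero hrel3'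
  refine ⟨K, fun i j => (colimit.ι C k).hom (a i j), fun j => (colimit.ι A k).hom (y j), ?_, ?_⟩
  · intro i
    have hxi : x i = (colimit.ι A k).hom (x3 i) := by rw [hx3def, ι_map, hx2]
    rw [hxi, hxy i, map_sum]
    refine Finset.sum_congr rfl fun j _ => ?_
    rw [Algebra.smul_def, Algebra.smul_def, map_mul, halg, halgk, colimMap_ι]
  · intro j
    have hri : ∀ i, r i = (colimit.ι C k).hom (r3 i) := fun i => by rw [hr3def, ι_map, hr2]
    simp_rw [hri, ← map_mul, ← map_sum, hra j, map_zero]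

lemma stage_mono (I : Ideal (colimit C : CommRingCat.{u})) {j k : J} (g : j ⟶ k) (a' : A.obj j)
    (ha' : a' ∈ (I.comap (colimit.ι C j).hom).map (φ.app j).hom) :
    (A.map g).hom a' ∈ (I.comap (colimit.ι C k).hom).map (φ.app k).hom := by
  have hle : (I.comap (colimit.ι C j).hom).map (φ.app j).hom ≤
      ((I.comap (colimit.ι C k).hom).map (φ.app k).hom).comap (A.map g).hom := by
    rw [Ideal.map_le_iff_le_comap]
    intro c hc
    rw [Ideal.mem_comap, Ideal.mem_comap, ← nat_apply]
    refine Ideal.mem_map_of_mem _ ?_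
    rw [Ideal.mem_comap, ι_map]
    exact hc
  exact hle ha'

lemma ff_colim (h : ∀ j : J, (φ.app j).hom.FaithfullyFlat) :
    (colimMap φ).hom.FaithfullyFlat := by
  have hflat := flat_colim φ (fun j => (h j).flat)
  letI : Algebra (colimit C : CommRingCat.{u}) (colimit A : CommRingCat.{u}) :=
    (colimMap φ).hom.toAlgebra
  have halg : ∀ r : (colimit C : CommRingCat.{u}),
      algebraMap (colimit C : CommRingCat.{u}) (colimit A : CommRingCat.{u}) r =
        (colimMap φ).hom r := fun _ => rfl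
  change Module.FaithfullyFlat (colimit C : CommRingCat.{u}) (colimit A : CommRingCat.{u})
  rw [Module.FaithfullyFlat.iff_flat_and_ideal_smul_eq_top]
  refine ⟨hflat, fun I hI => ?_⟩
  have h1 : (1 : (colimit A : CommRingCat.{u})) ∈
      I.map (algebraMap (colimit C : CommRingCat.{u}) (colimit A : CommRingCat.{u})) := by
    have : (1 : (colimit A : CommRingCat.{u})) ∈
        (I • ⊤ : Submodule (colimit C : CommRingCat.{u}) (colimit A : CommRingCat.{u})) := by
      rw [hI]; exact Submodule.mem_top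
    rw [Ideal.smul_top_eq_map] at this
    exact this
  have key : ∀ a ∈ I.map (algebraMap (colimit C : CommRingCat.{u}) (colimit A : CommRingCat.{u})),
      ∃ j, ∃ a' : A.obj j, a' ∈ (I.comap (colimit.ι C j).hom).map (φ.app j).hom ∧
        (colimit.ι A j).hom a' = a := by
    intro a ha
    refine Submodule.span_induction (p := fun a _ => ∃ j, ∃ a' : A.obj j,
      a' ∈ (I.comap (colimit.ι C j).hom).map (φ.app j).hom ∧
        (colimit.ι A j).hom a' = a) ?_ ?_ ?_ ?_ ha
    · rintro _ ⟨c, hc, rfl⟩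
      obtain ⟨j, c', rfl⟩ := rep C c
      refine ⟨j, (φ.app j).hom c', Ideal.mem_map_of_mem _ hc, ?_⟩
      rw [halg, colimMap_ι]
    · obtain ⟨j0⟩ := IsFiltered.nonempty (C := J)
      exact ⟨j0, 0, zero_mem _, map_zero _⟩
    · rintro _ _ _ _ ⟨j1, a1, h1, rfl⟩ ⟨j2, a2, h2, rfl⟩
      refine ⟨IsFiltered.max j1 j2, (A.map (IsFiltered.leftToMax j1 j2)).hom a1 +
        (A.map (IsFiltered.rightToMax j1 j2)).hom a2,
        add_mem (stage_mono φ I _ _ h1) (stage_mono φ I _ _ h2), ?_⟩
      rw [map_add, ι_map, ι_map]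
    · rintro s _ _ ⟨j1, a1, h1, rfl⟩
      obtain ⟨j2, s', rfl⟩ := rep A s
      refine ⟨IsFiltered.max j1 j2, (A.map (IsFiltered.rightToMax j1 j2)).hom s' *
        (A.map (IsFiltered.leftToMax j1 j2)).hom a1,
        Ideal.mul_mem_left _ _ (stage_mono φ I _ _ h1), ?_⟩
      rw [map_mul, ι_map, ι_map, smul_eq_mul]
  obtain ⟨j, a', ha', h1'⟩ := key 1 h1
  have h1'' : (colimit.ι A j).hom a' = (colimit.ι A j).hom 1 := by rw [h1', map_one]
  obtain ⟨k, f, g, hfg⟩ := rep_eq A j j a' 1 h1''
  rw [map_one] at hfg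
  have hk := stage_mono φ I f a' ha'
  rw [hfg, ← Ideal.eq_top_iff_one] at hk
  -- faithful flatness at stage k
  letI : Algebra (C.obj k) (A.obj k) := (φ.app k).hom.toAlgebra
  haveI : Module.FaithfullyFlat (C.obj k) (A.obj k) := h k
  have hcm := Ideal.comap_map_eq_self_of_faithfullyFlat (B := A.obj k)
    (I.comap (colimit.ι C k).hom)
  have : I.comap (colimit.ι C k).hom = ⊤ := by
    rw [← hcm]
    change Ideal.comap _ (Ideal.map (φ.app k).hom _) = ⊤
    rw [hk, Ideal.comap_top]
  rw [Ideal.eq_top_iff_one] at this ⊢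
  rw [Ideal.mem_comap, map_one] at this
  exact this

end aux


/-- Let (C_i → A_i)_i be a filtered direct system of homomorphisms of commutative rings, each of which
is faithfully flat. Then the induced homomorphism colim C_i → colim A_i is faithfully flat. -/
theorem result (J : Type u) [SmallCategory J] [IsFiltered J]
    (C A : J ⥤ CommRingCat.{u}) (φ : C ⟶ A) (h : ∀ j : J, (φ.app j).hom.FaithfullyFlat) :
    (colimMap φ).hom.FaithfullyFlat := by
  exact ff_colim φ h

end Groth.Agent.S5377
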