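import Groth.Statements.S5380
import Mathlib
import Groth.Agent.Lib.Helper8.LocalCriterion3

set_option autoImplicit false
universe u
open CategoryTheory CategoryTheory.Limits MonoidalCategory CartesianMonoidalCategory MonObj GrpObj AlgebraicGeometry
open SGA3

namespace Groth.Agent.S5380


open TensorProduct

section flatfib
universe v
variable {A : Type v} [CommRing A] (t : A) (M : Type v) [AddCommGroup M] [Module A M]

/-- `(t) ⊗ M → A ⊗ M` is injective when `t` is `M`-regular. -/
lemma rInj_span_singleton (hM : IsSMulRegular M t) :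
    Function.Injective ((Ideal.span {t}).subtype.rTensor M) := by
  set I : Ideal A := Ideal.span {t} with hI
  have htI : t ∈ I := Ideal.subset_span rfl
  let e : A →ₗ[A] I := LinearMap.toSpanSingleton A I ⟨t, htI⟩
  have he : Function.Surjective e := by
    rintro ⟨a, ha⟩
    obtain ⟨b, rfl⟩ := Ideal.mem_span_singleton'.mp ha
    exact ⟨b, Subtype.ext (by simp [e, LinearMap.toSpanSingleton_apply])⟩
  have hcomp : I.subtype ∘ₗ e = LinearMap.lsmul A A t := by
    apply LinearMap.ext
    intro a
    simp [e, LinearMap.toSpanSingleton_apply, mul_comm]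
  rw [injective_iff_map_eq_zero]
  intro x hx
  obtain ⟨y, rfl⟩ := LinearMap.rTensor_surjective M he x
  rw [← LinearMap.comp_apply, ← LinearMap.rTensor_comp, hcomp] at hx
  have h1 : ∀ z : A ⊗[A] M, ((LinearMap.lsmul A A t).rTensor M) z = t • z := by
    intro z
    induction z using TensorProduct.induction_on with
    | zero => simp
    | tmul a m => simp [TensorProduct.smul_tmul']
    | add y z hy hz => rw [map_add, smul_add, hy, hz]
  rw [h1] at hx
  have h2 : (TensorProduct.lid A M) y = 0 := by
    apply hM
    show t • (TensorProduct.lid A M) y = t • 0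
    rw [← map_smul, hx, map_zero, smul_zero]
  have h3 : y = 0 := (TensorProduct.lid A M).injective (by rw [h2, map_zero])
  rw [h3, map_zero]

/-- `t` is regular on `K ⊗ M` when it is regular on `K`, on `M`, and `M/tM` is flat over `A/t`. -/
lemma isSMulRegular_tensor (hM : IsSMulRegular M t)
    (H1 : Module.Flat (A ⧸ Ideal.span {t}) ((A ⧸ Ideal.span {t}) ⊗[A] M))
    (K : Type v) [AddCommGroup K] [Module A K] (hK : IsSMulRegular K t) :
    IsSMulRegular (K ⊗[A] M) t := by
  have hπ : Function.Surjective (Finsupp.linearCombination A (id : M → M)) :=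
    Finsupp.linearCombination_surjective _ Function.surjective_id
  have hex : Function.Exact (LinearMap.ker (Finsupp.linearCombination A (id : M → M))).subtype
      (Finsupp.linearCombination A (id : M → M)) := LinearMap.exact_subtype_ker_map _
  have hι : Function.Injective
      (LinearMap.ker (Finsupp.linearCombination A (id : M → M))).subtype :=
    Submodule.subtype_injective _
  have H0 := Groth.Agent.Lib.Helper8.lTensor_quotient_injective (M := M)
    (K := LinearMap.ker (Finsupp.linearCombination A (id : M → M))) (F := M →₀ A)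
    (Ideal.span {t})
    (LinearMap.ker (Finsupp.linearCombination A (id : M → M))).subtype
    (Finsupp.linearCombination A (id : M → M)) hι hex hπ (rInj_span_singleton t M hM)
  have hinj : Function.Injective ((LinearMap.lsmul A K t).rTensor M) := by
    apply Groth.Agent.Lib.Helper8.rTensor_injective_of_smul_le_range (M := M)
      (K := LinearMap.ker (Finsupp.linearCombination A (id : M → M))) (F := M →₀ A)
      (Ideal.span {t})
      (LinearMap.ker (Finsupp.linearCombination A (id : M → M))).subtype
      (Finsupp.linearCombination A (id : M → M)) hex hπ H1 H0 (LinearMap.lsmul A K t) hK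
    rw [Submodule.smul_le]
    intro a ha k _
    obtain ⟨b, rfl⟩ := Ideal.mem_span_singleton'.mp ha
    exact ⟨b • k, by simp [mul_smul, smul_comm t b k]⟩
  intro x y hxy
  apply hinj
  have h1 : ∀ z : K ⊗[A] M, ((LinearMap.lsmul A K t).rTensor M) z = t • z := by
    intro z
    induction z using TensorProduct.induction_on with
    | zero => simp
    | tmul a m => simp [TensorProduct.smul_tmul']
    | add y z hy hz => rw [map_add, smul_add, hy, hz]
  rw [h1, h1]
  exact hxy

/-- elements of the kernel of `𝔞 ⊗ M → A ⊗ M` are killed by a power of `t` when `M_t` is flat. -/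
lemma exists_pow_smul_eq_zero
    (H2 : Module.Flat (Localization (Submonoid.powers t)) (LocalizedModule (Submonoid.powers t) M))
    (𝔞 : Ideal A) (x : 𝔞 ⊗[A] M) (hx : (𝔞.subtype.rTensor M) x = 0) :
    ∃ k : ℕ, t ^ k • x = 0 := by
  set S := Submonoid.powers t with hS
  let ℓ : M →ₗ[A] LocalizedModule S M := LocalizedModule.mkLinearMap S M
  haveI : Module.Flat A (LocalizedModule S M) :=
    Module.Flat.trans A (Localization S) (LocalizedModule S M)
  have hinj : Function.Injective (𝔞.subtype.rTensor (LocalizedModule S M)) :=
    Module.Flat.rTensor_preserves_injective_linearMap _ (Submodule.subtype_injective _)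
  have h1 : (ℓ.lTensor 𝔞) x = 0 := by
    apply hinj
    rw [map_zero, ← LinearMap.comp_apply, LinearMap.rTensor_comp_lTensor,
      ← LinearMap.lTensor_comp_rTensor, LinearMap.comp_apply, hx, map_zero]
  have h2 : (AlgebraTensorModule.rTensor A 𝔞 ℓ) ((TensorProduct.comm A 𝔞 M) x) = 0 := by
    have h3 : ∀ z : 𝔞 ⊗[A] M, (AlgebraTensorModule.rTensor A 𝔞 ℓ) ((TensorProduct.comm A 𝔞 M) z) =
        (TensorProduct.comm A 𝔞 (LocalizedModule S M)) ((ℓ.lTensor 𝔞) z) := by
      intro z
      induction z using TensorProduct.induction_on with
      | zero => simp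
      | tmul a m => simp
      | add y z hy hz => simp only [map_add, hy, hz]
    rw [h3, h1, map_zero]
  obtain ⟨⟨s, k, hk⟩, hs⟩ := (IsLocalizedModule.eq_zero_iff S
    (AlgebraTensorModule.rTensor A 𝔞 ℓ)).mp h2
  refine ⟨k, ?_⟩
  apply (TensorProduct.comm A 𝔞 M).injective
  rw [map_smul, map_zero]
  have : (⟨s, k, hk⟩ : S) • (TensorProduct.comm A 𝔞 M) x = s • (TensorProduct.comm A 𝔞 M) x := rfl
  rw [this] at hs
  rw [← hk] at hs
  exact hs

theorem flat_of_fibres (ht : IsSMulRegular A t) (hM : IsSMulRegular M t)
    (H1 : Module.Flat (A ⧸ Ideal.span {t}) ((A ⧸ Ideal.span {t}) ⊗[A] M))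
    (H2 : Module.Flat (Localization (Submonoid.powers t)) (LocalizedModule (Submonoid.powers t) M)) :
    Module.Flat A M := by
  rw [Module.Flat.iff_rTensor_injective']
  intro 𝔞
  rw [injective_iff_map_eq_zero]
  intro x hx
  obtain ⟨k, hk⟩ := exists_pow_smul_eq_zero t M H2 𝔞 x hx
  have h𝔞 : IsSMulRegular 𝔞 t := by
    intro a b hab
    apply Subtype.ext
    apply ht
    exact congrArg Subtype.val hab
  have hreg := (isSMulRegular_tensor t M hM H1 𝔞 h𝔞).pow k
  apply hreg
  show t ^ k • x = t ^ k • 0
  rw [hk, smul_zero]

end flatfib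

/-- Let R be a discrete valuation ring with uniformizer π, A a flat commutative R-algebra and M an
A-module which is flat over R. Suppose that M/πM is a flat module over A/πA and that M ⊗_R K is a
flat module over A ⊗_R K, K the fraction field of R (equivalently, M[1/π] is flat over A[1/π], the
form used here). Then M is a flat A-module. -/
theorem result (R : Type u) [CommRing R] [IsDomain R] [IsDiscreteValuationRing R]
    (π : R) (hπ : Irreducible π) (A : Type u) [CommRing A] [Algebra R A] [Module.Flat R A]
    (M : Type u) [AddCommGroup M] [Module A M] [Module R M] [IsScalarTower R A M] [Module.Flat R M]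
    (h1 : Module.Flat (A ⧸ Ideal.span {algebraMap R A π}) (M ⧸ (Ideal.span {algebraMap R A π} • (⊤ : Submodule A M))))
    (h2 : Module.Flat (Localization.Away (algebraMap R A π)) (LocalizedModule (Submonoid.powers (algebraMap R A π)) M)) :
    Module.Flat A M := by
  have hπ0 : π ≠ 0 := hπ.ne_zero
  have hπreg : π ∈ nonZeroDivisors R := mem_nonZeroDivisors_of_ne_zero hπ0
  have ht : IsSMulRegular A (algebraMap R A π) := by
    have h := Module.Flat.isSMulRegular_of_nonZeroDivisors (M := A) hπreg
    intro a b hab
    apply h
    show π • a = π • b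
    rw [Algebra.smul_def, Algebra.smul_def]
    exact hab
  have hM : IsSMulRegular M (algebraMap R A π) := by
    have h := Module.Flat.isSMulRegular_of_nonZeroDivisors (M := M) hπreg
    intro a b hab
    apply h
    show π • a = π • b
    rw [← algebraMap_smul A π a, ← algebraMap_smul A π b]
    exact hab
  have H1 : Module.Flat (A ⧸ Ideal.span {algebraMap R A π})
      ((A ⧸ Ideal.span {algebraMap R A π}) ⊗[A] M) := by
    have e := LinearEquiv.extendScalarsOfSurjective
      (Ideal.Quotient.mk_surjective : Function.Surjective
        (algebraMap A (A ⧸ Ideal.span {algebraMap R A π})))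
      (TensorProduct.quotTensorEquivQuotSMul M (Ideal.span {algebraMap R A π}))
    exact Module.Flat.of_linearEquiv e
  exact flat_of_fibres (algebraMap R A π) M ht hM H1 h2

end Groth.Agent.S5380
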