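import Groth.Statements.S5381
import Mathlib

set_option autoImplicit false
universe u
open CategoryTheory CategoryTheory.Limits MonoidalCategory CartesianMonoidalCategory MonObj GrpObj AlgebraicGeometry
open SGA3

namespace Groth.Agent.S5381

/-- For S the spectrum of a Dedekind domain R: let X be a scheme which is flat, quasi-compact and
quasi-separated over R. Then the ring of global sections Γ(X, O_X) is a flat R-module. (The
published remark takes S locally noetherian and regular of dimension 1 and also observes, when S is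
local with closed point s and uniformizer π, that Γ(X, O_X)/πΓ(X, O_X) → Γ(X_s, O_{X_s}) is
injective; this row takes S the spectrum of a Dedekind domain and omits the injectivity.) -/
theorem result (R : Type u) [CommRing R] [IsDedekindDomain R]
    (X : Scheme.{u}) (f : X ⟶ Spec (CommRingCat.of R)) [Flat f] [QuasiCompact f] [QuasiSeparated f] :
    letI := ((Scheme.ΓSpecIso (CommRingCat.of R)).inv ≫ f.appTop).hom.toAlgebra
    Module.Flat R Γ(X, ⊤) := by

  letI alg : Algebra R Γ(X, ⊤) :=
    ((Scheme.ΓSpecIso (CommRingCat.of R)).inv ≫ f.appTop).hom.toAlgebra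
  show Module.Flat R Γ(X, ⊤)
  haveI : Module.IsTorsionFree R Γ(X, ⊤) := by
    refine ⟨fun r hr s₁ s₂ hs => ?_⟩
    have hs' : (algebraMap R Γ(X, ⊤) r) * s₁ = (algebraMap R Γ(X, ⊤) r) * s₂ := by
      simpa [Algebra.smul_def] using hs
    apply X.sheaf.eq_of_locally_eq' (fun U : X.affineOpens => (U : X.Opens)) ⊤
      (fun U => homOfLE le_top) (by rw [iSup_affineOpens_eq_top])
    intro U
    let ρ : Γ(X, ⊤) ⟶ Γ(X, U.1) := X.presheaf.map (homOfLE (le_top : U.1 ≤ ⊤)).op
    let φ : R →+* Γ(X, U.1) :=
      (f.appLE ⊤ U.1 le_top).hom.comp ((Scheme.ΓSpecIso (CommRingCat.of R)).inv).hom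
    have hφ : φ.Flat := by
      have h1 : (f.appLE ⊤ U.1 le_top).hom.Flat :=
        HasRingHomProperty.appLE (P := @Flat) f inferInstance ⟨⊤, isAffineOpen_top _⟩ U le_top
      have h2 : ((Scheme.ΓSpecIso (CommRingCat.of R)).inv).hom.Flat :=
        RingHom.Flat.of_bijective (ConcreteCategory.bijective_of_isIso _)
      exact RingHom.Flat.comp h2 h1
    have hφρ : ∀ a : R, φ a = ρ.hom (algebraMap R Γ(X, ⊤) a) := by
      intro a
      show (f.appLE ⊤ U.1 le_top).hom (((Scheme.ΓSpecIso (CommRingCat.of R)).inv).hom a) =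
        ρ.hom ((f.appTop).hom (((Scheme.ΓSpecIso (CommRingCat.of R)).inv).hom a))
      rw [Scheme.Hom.appLE]
      rfl
    letI := φ.toAlgebra
    haveI : Module.Flat R Γ(X, U.1) := hφ
    have hreg : IsSMulRegular Γ(X, U.1) r := Module.Flat.isSMulRegular_of_isRegular hr
    apply hreg
    show φ r * ρ.hom s₁ = φ r * ρ.hom s₂
    rw [hφρ, ← map_mul, ← map_mul, hs']
  infer_instance

end Groth.Agent.S5381
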