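import Groth.Statements.S5387
-- import your own Groth.Agent.* helpers here
import Mathlib

set_option autoImplicit false
universe u
open CategoryTheory CategoryTheory.Limits MonoidalCategory CartesianMonoidalCategory MonObj GrpObj AlgebraicGeometry
open SGA3

namespace Groth.Agent.S5387

/-- Let k be an algebraically closed field, G a group scheme locally of finite type over k and x a
closed point of G. Then the local ring of G at x is isomorphic to the local ring of G at the unit
point (an isomorphism is induced by a translation; this row asserts the existence of an isomorphism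
of rings). -/
theorem result (k : Type u) [Field k] [IsAlgClosed k] (G : Over (Spec (CommRingCat.of k))) [GrpObj G]
    [LocallyOfFiniteType G.hom] (pt : ↥(𝟙_ (Over (Spec (CommRingCat.of k)))).left) (x : G.left) (hx : IsClosed ({x} : Set G.left)) :
    Nonempty (G.left.presheaf.stalk (η[G].left.base pt) ≅ G.left.presheaf.stalk x) := by
  classical
  have hxc : x ∈ closedPoints G.left := hx
  let x₀ : Spec (CommRingCat.of k) ⟶ G.left := pointOfClosedPoint G.hom x hxc
  have hx₀ : x₀ ≫ G.hom = 𝟙 _ := pointOfClosedPoint_comp G.hom x hxc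
  let a : 𝟙_ (Over (Spec (CommRingCat.of k))) ⟶ G := Over.homMk x₀ (by simpa using hx₀)
  have ha : a.left.base pt = x := pointOfClosedPoint_apply G.hom x hxc pt
  -- translation
  let τ : ∀ b : 𝟙_ (Over (Spec (CommRingCat.of k))) ⟶ G, G ⟶ G := fun b => (toUnit G ≫ b) * 𝟙 G
  have hτ : ∀ (b : 𝟙_ (Over (Spec (CommRingCat.of k))) ⟶ G) (T : Over (Spec (CommRingCat.of k)))
      (h : T ⟶ G), h ≫ τ b = (toUnit T ≫ b) * h := by
    intro b T h
    show h ≫ ((toUnit G ≫ b) * 𝟙 G) = _
    rw [MonObj.comp_mul, Category.comp_id, ← Category.assoc, toUnit_unique (h ≫ toUnit G) (toUnit T)]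
  have hcomp : ∀ b c : 𝟙_ (Over (Spec (CommRingCat.of k))) ⟶ G, τ c ≫ τ b = τ (b * c) := by
    intro b c
    rw [hτ]
    show (toUnit G ≫ b) * ((toUnit G ≫ c) * 𝟙 G) = (toUnit G ≫ (b * c)) * 𝟙 G
    rw [← _root_.mul_assoc, MonObj.comp_mul]
  have hone : τ 1 = 𝟙 G := by
    show (toUnit G ≫ 1) * 𝟙 G = 𝟙 G
    rw [MonObj.comp_one, _root_.one_mul]
  let e : G ≅ G := ⟨τ a, τ a⁻¹, by rw [hcomp, inv_mul_cancel, hone], by rw [hcomp, mul_inv_cancel, hone]⟩
  have hη : η[G] ≫ e.hom = a := by
    show η[G] ≫ τ a = a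
    rw [hτ, toUnit_unique (toUnit _) (𝟙 _), Category.id_comp]
    have : (η[G] : 𝟙_ (Over (Spec (CommRingCat.of k))) ⟶ G) = 1 := by
      rw [Hom.one_def, toUnit_unique (toUnit _) (𝟙 _), Category.id_comp]
    rw [this, _root_.mul_one]
  let f : G.left ⟶ G.left := e.hom.left
  haveI : IsIso f := by
    haveI : IsIso e.hom := Iso.isIso_hom e
    exact Functor.map_isIso (Over.forget _) e.hom
  have hfe : f.base (η[G].left.base pt) = x := by
    rw [← ha, ← hη]
    rfl
  have i1 := asIso (f.stalkMap (η[G].left.base pt))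
  rw [hfe] at i1
  exact ⟨i1.symm⟩

end Groth.Agent.S5387
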