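import Groth.Statements.S5388
-- import your own Groth.Agent.* helpers here
import Mathlib
import Groth.Agent.Lib.Helper22.GrpSmoothDim2

set_option autoImplicit false
universe u
open CategoryTheory CategoryTheory.Limits MonoidalCategory CartesianMonoidalCategory MonObj GrpObj AlgebraicGeometry
open SGA3

namespace Groth.Agent.S5388

/-- Let G be a group scheme locally of finite type over a field k, e its unit point and K a perfect
extension field of k. If K ⊗_k O_{G,e} is a reduced ring, then G is smooth over k. (The published
statement is for a group flat and locally of finite type over a local artinian ring, with K the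
perfect closure of the residue field; this row is the case of a base field, with K any perfect
extension.) -/
theorem result (k : Type u) [Field k] (G : Over (Spec (CommRingCat.of k))) [GrpObj G]
    [LocallyOfFiniteType G.hom] (pt : ↥(𝟙_ (Over (Spec (CommRingCat.of k)))).left) (K : Type u) [Field K] [Algebra k K] [PerfectField K] :
    letI := ((Scheme.ΓSpecIso (CommRingCat.of k)).inv ≫ G.hom.appTop ≫ G.left.presheaf.germ ⊤ (η[G].left.base pt) trivial).hom.toAlgebra
    IsReduced (TensorProduct k K (G.left.presheaf.stalk (η[G].left.base pt))) → Smooth G.hom := by
  intro hred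
  exact @Groth.Agent.Lib.Helper22.GrpSmoothDim.smooth_of_isReduced_tensor k _ G _ _
    (η[G].left.base pt) K _ _ _
    (((Scheme.ΓSpecIso (CommRingCat.of k)).inv ≫ G.hom.appTop ≫
      G.left.presheaf.germ ⊤ (η[G].left.base pt) trivial).hom.toAlgebra)
    (Groth.Agent.Lib.Helper22.GrpSmoothDim.fromSpecStalk_comp_eq G.hom (η[G].left.base pt)) hred

end Groth.Agent.S5388
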