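import Groth.Statements.S5394
import Groth.Agent.Lib.Helper27.MulCoverC

set_option autoImplicit false
universe u
open CategoryTheory CategoryTheory.Limits MonoidalCategory CartesianMonoidalCategory MonObj GrpObj AlgebraicGeometry
open SGA3

namespace Groth.Agent.S5394

/-- Let G be an S-group scheme which is flat and locally of finite presentation over S and f : X → G a
morphism of S-schemes with X locally of finite presentation over S. Suppose that for every point s
of S and every maximal point g of the fibre G_s (generic point of an irreducible component) there is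
a point x of X with f(x) = g at which f is flat. Let V be the open subscheme of X where f is flat.
Then the morphism V ×_S V → G, (x, y) ↦ f(x)·f(y), is flat, locally of finite presentation and
surjective; in particular X ×_S X → G, (x, y) ↦ f(x)·f(y), is covering for the fppf topology. (The
published statement does not assume G flat over S and asserts only the covering property; this row
assumes G flat over S, as the flatness step of the printed proof does, and concludes the flat,
locally finitely presented, surjective form that proof establishes. Without flatness of G the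
flatness conclusion fails, e.g. for the identity of the closed subgroup tx = 0 of the additive group
over k[t].) -/
theorem result (S : Scheme.{u}) (G X : Over S) [GrpObj G] [LocallyOfFinitePresentation G.hom] [Flat G.hom]
    [LocallyOfFinitePresentation X.hom] (f : X ⟶ G)
    (hf : ∀ (s : S) (g : ↥(G.hom.base ⁻¹' {s})), closure {g} ∈ irreducibleComponents ↥(G.hom.base ⁻¹' {s}) →
      ∃ x : X.left, f.left.base x = g.1 ∧ (f.left.stalkMap x).hom.Flat)
    (V : X.left.Opens) (hV : (V : Set X.left) = {x : X.left | (f.left.stalkMap x).hom.Flat}) :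
    letI fV : Over.mk (V.ι ≫ X.hom) ⟶ G := Over.homMk (V.ι ≫ f.left) ((Category.assoc _ _ _).trans (congrArg (V.ι ≫ ·) (Over.w f)))
    Flat ((fV ⊗ₘ fV) ≫ μ[G]).left ∧ LocallyOfFinitePresentation ((fV ⊗ₘ fV) ≫ μ[G]).left ∧
      Surjective ((fV ⊗ₘ fV) ≫ μ[G]).left := by
  let fV : Over.mk (V.ι ≫ X.hom) ⟶ G := Over.homMk (V.ι ≫ f.left)
    ((Category.assoc _ _ _).trans (congrArg (V.ι ≫ ·) (Over.w f)))
  show Flat ((fV ⊗ₘ fV) ≫ μ[G]).left ∧ LocallyOfFinitePresentation ((fV ⊗ₘ fV) ≫ μ[G]).left ∧
      Surjective ((fV ⊗ₘ fV) ≫ μ[G]).left
  have hfVleft : fV.left = V.ι ≫ f.left := rfl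
  haveI hlfpf : LocallyOfFinitePresentation f.left := by
    haveI : LocallyOfFinitePresentation (f.left ≫ G.hom) := by rw [Over.w f]; infer_instance
    exact Groth.Agent.Lib.Helper27.MulCoverC.locallyOfFinitePresentation_of_comp f.left G.hom
  haveI h1 : LocallyOfFinitePresentation fV.left := by rw [hfVleft]; infer_instance
  haveI h2 : Flat fV.left := by
    rw [hfVleft, Flat.iff_flat_stalkMap]
    intro v
    rw [Scheme.Hom.stalkMap_comp]
    show ((V.ι.stalkMap v).hom.comp (f.left.stalkMap (V.ι v)).hom).Flat
    refine RingHom.Flat.comp ?_ ?_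
    · have hv : (V.ι v) ∈ (V : Set X.left) := v.2
      rw [hV] at hv
      exact hv
    · exact RingHom.Flat.of_bijective (ConcreteCategory.bijective_of_isIso (V.ι.stalkMap v))
  refine Groth.Agent.Lib.Helper27.MulCoverC.core G fV ?_
  intro s g hg
  obtain ⟨x, hx1, hx2⟩ := hf s g hg
  have hxV : x ∈ (V : Set X.left) := by rw [hV]; exact hx2
  refine ⟨⟨x, hxV⟩, ?_⟩
  rw [hfVleft, Scheme.Hom.comp_apply]
  exact hx1

end Groth.Agent.S5394
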