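import Groth.Statements.S5403
import Mathlib
import Groth.Agent.Lib.Helper11.ActG

set_option autoImplicit false
universe u
open CategoryTheory CategoryTheory.Limits MonoidalCategory CartesianMonoidalCategory MonObj GrpObj AlgebraicGeometry
open SGA3

namespace Groth.Agent.S5403

/-- Let G be a group scheme over a field k (not assumed of finite type) acting on a quasi-separated
k-scheme X so that G ×_k X → X ×_k X, (g, x) ↦ (gx, x), is surjective, and let x be a k-rational
point of X and C the connected component of X containing x. Then the orbit morphism g ↦ g·x maps the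
irreducible component of G containing the unit point (the underlying set of the neutral component
G⁰) onto C, and for every field extension K of k the inverse image of C in X ⊗_k K is irreducible. -/
theorem result (k : Type u) [Field k] (G X : Over (Spec (CommRingCat.of k)))
    [GrpObj G] [QuasiSeparatedSpace X.left] (a : AlgGrp.Action G X) (hΦ : Surjective (lift a.act (snd G X)).left)
    (x : 𝟙_ (Over (Spec (CommRingCat.of k))) ⟶ X) (pt : ↥(𝟙_ (Over (Spec (CommRingCat.of k)))).left)
    (C0 : Set G.left) (hC0 : C0 ∈ irreducibleComponents ↥G.left) (he : η[G].left.base pt ∈ C0) :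
    (a.orbitMap x).left.base '' C0 = connectedComponent (x.left.base pt) ∧
    ∀ (K : Type u) [Field K] [Algebra k K],
      IsIrreducible ((pullback.fst X.hom (Spec.map (CommRingCat.ofHom (algebraMap k K)))).base ⁻¹' connectedComponent (x.left.base pt)) := by
  have hcc := Groth.Agent.Lib.Helper11.ActG.connectedComponent_eq_irreducibleComponent a hΦ
    (x.left.base pt)
  have hC := irreducibleComponent_mem_irreducibleComponents (x.left.base pt)
  refine ⟨?_, ?_⟩
  · apply Set.Subset.antisymm
    · have hirr : IsIrreducible ((a.orbitMap x).left.base '' C0) :=
        hC0.1.image _ (a.orbitMap x).left.continuous.continuousOn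
      refine hirr.isConnected.isPreconnected.subset_connectedComponent ?_
      refine ⟨η[G].left.base pt, he, ?_⟩
      exact congrArg (fun f : 𝟙_ (Over (Spec (CommRingCat.of k))) ⟶ X => f.left.base pt)
        (Groth.Agent.Lib.Helper11.ActG.unit_orbitMap a x)
    · intro y hy
      rw [hcc] at hy
      obtain ⟨w, hw, hwy⟩ := Groth.Agent.Lib.Helper11.ActG.mem_orbitMap_image a pt C0 hC0 he hΦ x y hy
      exact ⟨w, hw, hwy⟩
  · intro K _ _
    rw [hcc]
    exact Groth.Agent.Lib.Helper11.ActD.isIrreducible_preimage_component a hΦ x pt _ hC
      mem_irreducibleComponent K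

end Groth.Agent.S5403
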