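import Groth.Statements.S5422
import Groth.Agent.Lib.Helper19.UnipExt

set_option autoImplicit false
universe u
open TensorProduct
open SGA3t2b

namespace Groth.Agent.S5422

/-- Parts (ii), (iii) and (iv) (Hopf-algebra form; 'unipotent' in the fixed-vector form: every non-zero
finite-dimensional representation has a non-zero fixed vector, which is equivalent to the published
definition for affine algebraic groups): let k be a field and A the coordinate Hopf algebra of an
affine algebraic k-group E. (ii) If E is unipotent, so is every closed subgroup Spec B (B a Hopf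
quotient of A, φ : A → B a surjective bialgebra map). (iii) If E is unipotent, so is every quotient
group Spec C (ψ : C → A an injective bialgebra map). (iv) If ψ : C → A is an injective bialgebra map
(quotient U = Spec C), J the Hopf ideal of A generated by the image of the augmentation ideal of C
(kernel N = Spec (A/J)), and both U and N are unipotent, then E is unipotent. -/
theorem result (k : Type u) [Field k] (A : Type u) [CommRing A] [HopfAlgebra k A] [Algebra.FiniteType k A] :
    (∀ (B : Type u) [CommRing B] [HopfAlgebra k B] [Algebra.FiniteType k B] (φ : A →ₐc[k] B),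
      Function.Surjective φ → HopfRep.IsUnipotent k A → HopfRep.IsUnipotent k B) ∧
    (∀ (C : Type u) [CommRing C] [HopfAlgebra k C] [Algebra.FiniteType k C] (ψ : C →ₐc[k] A),
      Function.Injective ψ → HopfRep.IsUnipotent k A → HopfRep.IsUnipotent k C) ∧
    (∀ (C : Type u) [CommRing C] [HopfAlgebra k C] [Algebra.FiniteType k C] (ψ : C →ₐc[k] A)
      (J : Ideal A) [J.IsHopfIdeal k],
      Function.Injective ψ → J = Ideal.map (ψ : C →+* A) (RingHom.ker (Bialgebra.counitAlgHom k C)) →
      HopfRep.IsUnipotent k C → HopfRep.IsUnipotent k (A ⧸ J) → HopfRep.IsUnipotent k A) := by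
  refine ⟨?_, ?_, ?_⟩
  · intro B _ _ _ φ hφ hA
    apply Groth.Agent.Lib.Helper19.Unip.isUnipotent_of_utSpan
    rw [eq_top_iff]
    intro b _
    obtain ⟨a, rfl⟩ := hφ b
    have ha : a ∈ Groth.Agent.Lib.Helper19.Unip.utSpan k A := by
      rw [Groth.Agent.Lib.Helper19.Unip.utSpan_eq_top_of_isUnipotent hA]
      trivial
    exact Groth.Agent.Lib.Helper19.Unip.utSpan_map_le k φ ⟨a, ha, rfl⟩
  · intro C _ _ _ ψ hψ hA V _ _ cV hfin hnt
    letI cA : HopfRep.Comod k A V := GLin.comodAlong ψ cV
    obtain ⟨v, hv, hv0⟩ := Submodule.exists_mem_ne_zero_of_ne_bot (hA V hfin hnt)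
    have hv' : TensorProduct.map LinearMap.id (ψ : C →ₗ[k] A) (cV.coact v) = v ⊗ₜ[k] (1 : A) := hv
    have hinj : Function.Injective (LinearMap.lTensor V (ψ : C →ₗ[k] A)) :=
      Module.Flat.lTensor_preserves_injective_linearMap _ hψ
    have hvC : v ∈ HopfRep.fixedPts k C V := by
      show cV.coact v = v ⊗ₜ[k] (1 : C)
      apply hinj
      show TensorProduct.map LinearMap.id (ψ : C →ₗ[k] A) (cV.coact v) =
        TensorProduct.map LinearMap.id (ψ : C →ₗ[k] A) (v ⊗ₜ[k] (1 : C))
      rw [hv', TensorProduct.map_tmul, LinearMap.id_apply]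
      congr 1
      exact (map_one ψ).symm
    intro hbot
    rw [hbot, Submodule.mem_bot] at hvC
    exact hv0 hvC
  · intro C _ _ _ ψ J _ _ hJ hC hN
    exact Groth.Agent.Lib.Helper19.UnipExt.isUnipotent_of_extension ψ J hJ hC hN

end Groth.Agent.S5422
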