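import Groth.Statements.S5423
import Groth.Agent.Lib.Helper19.Unip4

set_option autoImplicit false
universe u
open TensorProduct
open SGA3t2b

namespace Groth.Agent.S5423

/-- Let k be an algebraically closed field and A a reduced finitely generated commutative Hopf algebra
over k (a smooth affine algebraic k-group G). Then G is unipotent (every non-zero finite-dimensional
representation has a non-zero fixed vector) if and only if every element of G(k) is unipotent, i.e.
every k-point g : A → k acts on every finite-dimensional comodule V by an endomorphism g_V with g_V
− 1 nilpotent. -/
theorem result (k : Type u) [Field k] [IsAlgClosed k] (A : Type u) [CommRing A] [HopfAlgebra k A] [Algebra.FiniteType k A]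
    [IsReduced A] :
    HopfRep.IsUnipotent k A ↔
      ∀ (g : A →ₐ[k] k) (V : Type u) [AddCommGroup V] [Module k V] [HopfRep.Comod k A V],
        Module.Finite k V → IsNilpotent (HopfRep.Comod.act k A V g - LinearMap.id) := by
  constructor
  · intro hU g V _ _ _ hfin
    haveI := hfin
    obtain ⟨b, hl, hd⟩ := Groth.Agent.Lib.Helper19.Unip.exists_ut_basis hU (Module.finrank k V) V rfl
    exact Groth.Agent.Lib.Helper19.Unip.isNilpotent_act_sub_id b hl hd g
  · intro h
    exact Groth.Agent.Lib.Helper19.Unip.isUnipotent_of_points h

end Groth.Agent.S5423
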