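import Groth.Statements.S5434
import Mathlib

set_option autoImplicit false
universe u
open CategoryTheory MonoidalCategory CartesianMonoidalCategory MonObj GrpObj AlgebraicGeometry CategoryTheory.Limits
open SGA3x

namespace Groth.Agent.S5434

/-- A closed subscheme containing a schematically dense open is everything. -/
theorem isIso_of_schematicallyDense {X Z : Scheme.{u}} (U : X.Opens)
    (hU : CInt.IsSchematicallyDense U) (i : Z ⟶ X) [IsClosedImmersion i]
    (k : U.toScheme ⟶ Z) (hk : k ≫ i = U.ι) : IsIso i := by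
  rw [IsClosedImmersion.isIso_iff_ker_eq_bot, ← le_bot_iff, Scheme.IdealSheafData.le_def]
  intro V
  rw [Scheme.IdealSheafData.ideal_bot]
  intro a ha
  have ha' : (i.app V.1).hom a = 0 := i.ideal_ker_le V ha
  have gen : ∀ (j : U.toScheme ⟶ X), j = k ≫ i → (j.app V.1).hom a = 0 := by
    rintro j rfl
    rw [Scheme.Hom.comp_app]
    show (k.app (i ⁻¹ᵁ V.1)).hom ((i.app V.1).hom a) = 0
    rw [ha', map_zero]
  have h1 : (U.ι.app V.1).hom a = 0 := gen U.ι hk.symm
  have e : V.1 ⊓ U = U.ι ''ᵁ U.ι ⁻¹ᵁ V.1 := by
    rw [Scheme.Hom.image_preimage_eq_opensRange_inf, Scheme.Opens.opensRange_ι, inf_comm]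
  have h3 : X.presheaf.map (homOfLE (inf_le_left : V.1 ⊓ U ≤ V.1)).op a = 0 := by
    have h2 : X.presheaf.map (homOfLE (inf_le_left : V.1 ⊓ U ≤ V.1)).op =
        X.presheaf.map (homOfLE (x := U.ι ''ᵁ U.ι ⁻¹ᵁ V.1)
          (Set.image_preimage_subset _ _)).op ≫ X.presheaf.map (eqToHom e).op := by
      rw [← Functor.map_comp]
      congr 1
    rw [h2, CommRingCat.comp_apply]
    have h1' : X.presheaf.map (homOfLE (x := U.ι ''ᵁ U.ι ⁻¹ᵁ V.1)
        (Set.image_preimage_subset _ _)).op a = 0 := h1
    rw [h1', map_zero]
  have h4 : a = 0 := hU V.1 (h3.trans (map_zero _).symm)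
  rw [h4]
  exact Ideal.zero_mem _

/-- Schematic density transports along isomorphisms. -/
theorem schematicallyDense_of_isIso {X' X : Scheme.{u}} (φ : X' ⟶ X) [IsIso φ] (U : X.Opens)
    (h : CInt.IsSchematicallyDense (φ ⁻¹ᵁ U)) : CInt.IsSchematicallyDense U := by
  intro V
  rw [injective_iff_map_eq_zero]
  intro a ha
  have hinj : Function.Injective (φ.app V) :=
    (ConcreteCategory.bijective_of_isIso (φ.app V)).1
  apply hinj
  rw [map_zero]
  apply h (φ ⁻¹ᵁ V)
  rw [map_zero]
  have hnat := ConcreteCategory.congr_hom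
    (φ.naturality (homOfLE (inf_le_left : V ⊓ U ≤ V)).op) a
  rw [CommRingCat.comp_apply, CommRingCat.comp_apply, ha, map_zero] at hnat
  exact hnat.symm

/-- Two morphisms to a separated target which agree on a schematically dense open are equal. -/
theorem ext_of_schematicallyDense {X Y Z : Scheme.{u}} {f g : X ⟶ Y} (s : Y ⟶ Z) [IsSeparated s]
    (h : f ≫ s = g ≫ s) (U : X.Opens) (hU : CInt.IsSchematicallyDense U)
    (hfg : U.ι ≫ f = U.ι ≫ g) : f = g := by
  let X' : Over Z := Over.mk (f ≫ s)
  let Y' : Over Z := Over.mk s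
  let U' : Over Z := Over.mk (U.ι ≫ f ≫ s)
  let f' : X' ⟶ Y' := Over.homMk f rfl
  let g' : X' ⟶ Y' := Over.homMk g h.symm
  let ι' : U' ⟶ X' := Over.homMk U.ι rfl
  have : IsSeparated Y'.hom := ‹_›
  have hlift : ι' ≫ f' = ι' ≫ g' := by ext1; exact hfg
  have hfac : (equalizer.lift ι' hlift).left ≫ (equalizer.ι f' g').left = U.ι := by
    rw [← Over.comp_left, equalizer.lift_ι]
    rfl
  have hiso : IsIso (equalizer.ι f' g').left :=
    isIso_of_schematicallyDense U hU (equalizer.ι f' g').left (equalizer.lift ι' hlift).left hfac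
  rw [← cancel_epi (equalizer.ι f' g').left]
  exact congr($(equalizer.condition f' g').left)

/-- Let X be an S-scheme and U an open subscheme of X which is schematically dense in X relative to S:
for every S′ → S the preimage of U in X ×_S S′ is schematically dense (restriction of functions to
it is injective on every open). Let Y be an S-scheme whose fibres Y_s are separated (over κ(s)). If
two S-morphisms f, g : X → Y agree on U, then f = g. -/
theorem result (S : Scheme.{u}) (X Y : Over S) (U : X.left.Opens) (hU : (∀ (S' : Scheme.{u}) (g : S' ⟶ S), CInt.IsSchematicallyDense ((pullback.fst X.hom g) ⁻¹ᵁ U)))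
    (hY : ∀ s : S, IsSeparated (pullback.snd Y.hom (S.fromSpecResidueField s)))
    (f g : X ⟶ Y) (h : U.ι ≫ f.left = U.ι ≫ g.left) : f = g := by

  apply Over.OverMorphism.ext
  -- fibrewise agreement
  have hfib : ∀ x : X.left, x ∈ Set.range (equalizer.ι f.left g.left).base := by
    intro x
    obtain ⟨s, hs⟩ : ∃ s : S, s = X.hom.base x := ⟨_, rfl⟩
    haveI := hY s
    obtain ⟨fT, hfT⟩ : ∃ fT : pullback X.hom (S.fromSpecResidueField s) ⟶
        pullback Y.hom (S.fromSpecResidueField s),
        fT = pullback.lift (pullback.fst X.hom (S.fromSpecResidueField s) ≫ f.left)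
          (pullback.snd X.hom (S.fromSpecResidueField s))
          (by rw [Category.assoc, Over.w f, pullback.condition]) := ⟨_, rfl⟩
    obtain ⟨gT, hgT⟩ : ∃ gT : pullback X.hom (S.fromSpecResidueField s) ⟶
        pullback Y.hom (S.fromSpecResidueField s),
        gT = pullback.lift (pullback.fst X.hom (S.fromSpecResidueField s) ≫ g.left)
          (pullback.snd X.hom (S.fromSpecResidueField s))
          (by rw [Category.assoc, Over.w g, pullback.condition]) := ⟨_, rfl⟩
    have hf1 : fT ≫ pullback.fst Y.hom (S.fromSpecResidueField s) =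
        pullback.fst X.hom (S.fromSpecResidueField s) ≫ f.left := by
      rw [hfT, pullback.lift_fst]
    have hf2 : fT ≫ pullback.snd Y.hom (S.fromSpecResidueField s) =
        pullback.snd X.hom (S.fromSpecResidueField s) := by
      rw [hfT, pullback.lift_snd]
    have hg1 : gT ≫ pullback.fst Y.hom (S.fromSpecResidueField s) =
        pullback.fst X.hom (S.fromSpecResidueField s) ≫ g.left := by
      rw [hgT, pullback.lift_fst]
    have hg2 : gT ≫ pullback.snd Y.hom (S.fromSpecResidueField s) =
        pullback.snd X.hom (S.fromSpecResidueField s) := by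
      rw [hgT, pullback.lift_snd]
    have hUT := hU _ (S.fromSpecResidueField s)
    have hagree : ((pullback.fst X.hom (S.fromSpecResidueField s)) ⁻¹ᵁ U).ι ≫ fT =
        ((pullback.fst X.hom (S.fromSpecResidueField s)) ⁻¹ᵁ U).ι ≫ gT := by
      apply pullback.hom_ext
      · rw [Category.assoc, Category.assoc, hf1, hg1, ← Category.assoc, ← Category.assoc,
          ← morphismRestrict_ι, Category.assoc, Category.assoc, h]
      · rw [Category.assoc, Category.assoc, hf2, hg2]
    have hfg : fT = gT :=
      ext_of_schematicallyDense (pullback.snd Y.hom (S.fromSpecResidueField s))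
        (hf2.trans hg2.symm) _ hUT hagree
    have hp : pullback.fst X.hom (S.fromSpecResidueField s) ≫ f.left =
        pullback.fst X.hom (S.fromSpecResidueField s) ≫ g.left := by
      rw [← hf1, ← hg1, hfg]
    obtain ⟨z, hz, -⟩ := Scheme.Pullback.exists_preimage_pullback (f := X.hom)
      (g := S.fromSpecResidueField s) x (IsLocalRing.closedPoint (S.residueField s))
      (by rw [Scheme.fromSpecResidueField_apply]; exact hs.symm)
    refine ⟨(equalizer.lift (pullback.fst X.hom (S.fromSpecResidueField s)) hp).base z, ?_⟩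
    rw [← hz]
    exact congrArg (fun ψ : pullback X.hom (S.fromSpecResidueField s) ⟶ X.left => ψ.base z)
      (equalizer.lift_ι (pullback.fst X.hom (S.fromSpecResidueField s)) hp)
  haveI : IsClosedImmersion (equalizer.ι f.left g.left) :=
    IsClosedImmersion.of_isPreimmersion _ (by
      have : Set.range (equalizer.ι f.left g.left).base = Set.univ :=
        Set.eq_univ_of_forall hfib
      rw [this]; exact isClosed_univ)
  have hUX : CInt.IsSchematicallyDense U :=
    schematicallyDense_of_isIso (pullback.fst X.hom (𝟙 S)) U (hU S (𝟙 S))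
  haveI : IsIso (equalizer.ι f.left g.left) :=
    isIso_of_schematicallyDense U hUX _ (equalizer.lift U.ι h) (equalizer.lift_ι _ _)
  rw [← cancel_epi (equalizer.ι f.left g.left)]
  exact equalizer.condition _ _

end Groth.Agent.S5434
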