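import Groth.Statements.S5456
import Groth.Agent.Lib.Helper2.RootD.Weyl
-- import your own Groth.Agent.* helpers here

set_option autoImplicit false
open RootD

namespace Groth.Agent.S5456

/-- A set of roots is a system of positive roots if and only if it satisfies (P 1), (P 2) and is closed. -/
theorem result {ι M N : Type*} [AddCommGroup M] [AddCommGroup N]
    (P : RootPairing ι ℤ M N) [Finite ι] (S : Set ι) :
    RootD.IsPosSys P S ↔ ((∀ i ∈ S, P.reflectionPerm i i ∉ S) ∧ (∀ i : ι, i ∈ S ∨ P.reflectionPerm i i ∈ S) ∧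
      RootD.IsClosedSub P S) := by
  open Groth.Agent.Lib.Helper2.RootD in
  constructor
  · intro hS
    exact ⟨fun i hi => hS.disjoint hi, hS.cover, isClosedSub_of_isPosSys P hS⟩
  · rintro ⟨h1, h2, hcl⟩
    obtain ⟨Δ₀, hΔ₀⟩ := exists_isSimpleSys P
    obtain ⟨g, -, hg⟩ := exists_weyl_eq_posOf P hΔ₀ h1 h2 hcl
    rw [hg]
    exact isPosSys_posOf (isSimpleSys_smul P g hΔ₀)

end Groth.Agent.S5456
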