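import Groth.Statements.S5468
import Groth.Agent.Lib.Helper2.RootD.Simple
import Mathlib.LinearAlgebra.RootSystem.Reduced
-- import your own Groth.Agent.* helpers here

set_option autoImplicit false
open RootD

namespace Groth.Agent.S5468

/-- Two roots whose reflections are distinct and commute are orthogonal. -/
theorem result {ι M N : Type*} [AddCommGroup M] [AddCommGroup N]
    (P : RootPairing ι ℤ M N) [Finite ι] (i j : ι)
    (hne : P.reflection i ≠ P.reflection j) (hc : Commute (P.reflection i) (P.reflection j)) :
    P.IsOrthogonal i j := by
  have hM := Groth.Agent.Lib.Helper2.RootD.isAddTorsionFree P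
  have hN := Groth.Agent.Lib.Helper2.RootD.isAddTorsionFree' P
  have hMr : Module.IsReflexive ℤ M := .of_isPerfPair P.toLinearMap
  have hNr : Module.IsReflexive ℤ N := .of_isPerfPair P.flip.toLinearMap
  by_contra hno
  have hij : P.pairing i j ≠ 0 := fun h => hno (P.isOrthogonal_iff_pairing_eq_zero.mpr h)
  have hji : P.pairing j i ≠ 0 := fun h => hij (P.pairing_eq_zero_iff.mpr h)
  -- the roots are proportional
  have h1 : (2 : ℤ) • P.root i = P.pairing i j • P.root j := by
    have hc := congrArg (fun f => f (P.root j)) hc.eq
    simp only [LinearEquiv.mul_apply, RootPairing.reflection_apply_self,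
      RootPairing.reflection_apply_root, map_neg, map_sub, map_smul] at hc
    have h2 : P.pairing j i • ((2 : ℤ) • P.root i - P.pairing i j • P.root j) = 0 := by
      have : P.pairing j i • ((2 : ℤ) • P.root i - P.pairing i j • P.root j) =
          (-(P.root j - P.pairing j i • P.root i)) -
          (-P.root j - P.pairing j i • (P.root i - P.pairing i j • P.root j)) := by
        simp only [smul_sub, two_smul, smul_add]
        abel
      rw [this, hc, sub_self]
    rcases smul_eq_zero.mp h2 with h | h
    · exact absurd h hji
    · exact sub_eq_zero.mp h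
  have hnl : ¬ LinearIndependent ℤ ![P.root i, P.root j] := by
    rw [LinearIndependent.pair_iff]
    intro h
    have := h 2 (-P.pairing i j) (by rw [neg_smul, h1]; abel)
    norm_num at this
  have hcw : P.coxeterWeight i j = 4 := P.coxeterWeight_eq_four_iff_not_linearIndependent.mpr hnl
  have hnl' : ¬ LinearIndependent ℤ ![P.flip.root i, P.flip.root j] := by
    rw [← P.flip.coxeterWeight_eq_four_iff_not_linearIndependent, RootPairing.coxeterWeight_flip]
    exact hcw
  have h3 : P.pairing i j • P.coroot i = (2 : ℤ) • P.coroot j :=
    P.flip.pairing_smul_root_eq_of_not_linearIndependent hnl'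
  apply hne
  ext x
  rw [RootPairing.reflection_apply, RootPairing.reflection_apply]
  congr 1
  have h4 : (2 : ℤ) • (P.toLinearMap x (P.coroot i) • P.root i) =
      (2 : ℤ) • (P.toLinearMap x (P.coroot j) • P.root j) := by
    have h6 : P.pairing i j * P.toLinearMap x (P.coroot i) = 2 * P.toLinearMap x (P.coroot j) := by
      have := congrArg (P.toLinearMap x) h3
      rw [map_smul, map_smul, smul_eq_mul, smul_eq_mul] at this
      exact this
    rw [smul_comm, h1, smul_smul, mul_comm, h6, mul_smul]
  have h5 : (2 : ℤ) • (P.toLinearMap x (P.coroot i) • P.root i -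
      P.toLinearMap x (P.coroot j) • P.root j) = 0 := by
    rw [smul_sub, h4, sub_self]
  rcases smul_eq_zero.mp h5 with h | h
  · norm_num at h
  · exact sub_eq_zero.mp h

end Groth.Agent.S5468
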