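import Groth.Statements.S5471
import Groth.Agent.Lib.Helper2.RootD.Length
-- import your own Groth.Agent.* helpers here

set_option autoImplicit false
open RootPairing
open scoped Pointwise
open RootD

namespace Groth.Agent.S5471

/-- In a reduced irreducible root datum the ratios of squared root lengths to the minimal one form one
of the sets {1}, {1, 2}, {1, 3}. -/
theorem result {ι M N : Type*} [AddCommGroup M] [AddCommGroup N]
    (P : RootPairing ι ℤ M N) [Finite ι] [Fintype ι] [Nonempty ι] [P.IsReduced]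
    (hirr : ∀ R' : Set ι, RootD.IsClosedSub P R' → RootD.IsSymmSub P R' → RootD.IsClosedSub P R'ᶜ →
      RootD.IsSymmSub P R'ᶜ → R' = ∅ ∨ R' = Set.univ)
    (i₀ : ι) (hmin : ∀ i : ι, P.RootForm (P.root i₀) (P.root i₀) ≤ P.RootForm (P.root i) (P.root i)) :
    (∀ i : ι, P.RootForm (P.root i) (P.root i) = P.RootForm (P.root i₀) (P.root i₀) ∨
        P.RootForm (P.root i) (P.root i) = 2 * P.RootForm (P.root i₀) (P.root i₀) ∨
        P.RootForm (P.root i) (P.root i) = 3 * P.RootForm (P.root i₀) (P.root i₀)) ∧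
      ¬ ((∃ i : ι, P.RootForm (P.root i) (P.root i) = 2 * P.RootForm (P.root i₀) (P.root i₀)) ∧
          ∃ j : ι, P.RootForm (P.root j) (P.root j) = 3 * P.RootForm (P.root i₀) (P.root i₀)) := by
  open Groth.Agent.Lib.Helper2.RootD in
  have hred : ∀ a b : ι, (P.pairing a b, P.pairing b a) ∈
      ({(0, 0), (1, 1), (-1, -1), (1, 2), (2, 1), (-1, -2), (-2, -1), (1, 3), (3, 1), (-1, -3),
        (-3, -1), (2, 2), (-2, -2)} : Set (ℤ × ℤ)) := by
    intro a b
    have := P.pairingIn_pairingIn_mem_set_of_isCrystal_of_isRed a b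
    rwa [pairingIn_int, pairingIn_int] at this
  have hL0 := rootForm_root_pos P i₀
  constructor
  · intro i
    obtain ⟨g, hg, hno⟩ := exists_weyl_not_orth hirr i₀ i
    have hLk : P.RootForm (P.root (g • i₀)) (P.root (g • i₀)) =
        P.RootForm (P.root i₀) (P.root i₀) := by
      rw [root_smul, rootForm_weyl_smul P hg]
    have hrel := pairing_mul_rootForm P (g • i₀) i
    rw [hLk] at hrel
    have hp0 : P.pairing (g • i₀) i ≠ 0 := fun h => hno ((isOrthogonal_iff' P _ _).mpr h)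
    have hmin' := hmin i
    have hLi := rootForm_root_pos P i
    have hc := hred (g • i₀) i
    simp only [Set.mem_insert_iff, Set.mem_singleton_iff, Prod.mk.injEq] at hc
    rcases hc with ⟨h1, h2⟩ | ⟨h1, h2⟩ | ⟨h1, h2⟩ | ⟨h1, h2⟩ | ⟨h1, h2⟩ | ⟨h1, h2⟩ | ⟨h1, h2⟩ |
      ⟨h1, h2⟩ | ⟨h1, h2⟩ | ⟨h1, h2⟩ | ⟨h1, h2⟩ | ⟨h1, h2⟩ | ⟨h1, h2⟩ <;>
    rw [h1, h2] at hrel
    · exact absurd h1 hp0
    · left; linarith
    · left; linarith
    · right; left; linarith
    · exfalso; linarith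
    · right; left; linarith
    · exfalso; linarith
    · right; right; linarith
    · exfalso; linarith
    · right; right; linarith
    · exfalso; linarith
    · left; linarith
    · left; linarith
  · rintro ⟨⟨i, hi⟩, ⟨j, hj⟩⟩
    obtain ⟨g, hg, hno⟩ := exists_weyl_not_orth hirr i j
    have hLk : P.RootForm (P.root (g • i)) (P.root (g • i)) =
        P.RootForm (P.root i) (P.root i) := by
      rw [root_smul, rootForm_weyl_smul P hg]
    have hrel := pairing_mul_rootForm P (g • i) j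
    rw [hLk, hi, hj] at hrel
    have hp0 : P.pairing (g • i) j ≠ 0 := fun h => hno ((isOrthogonal_iff' P _ _).mpr h)
    have hc := hred (g • i) j
    simp only [Set.mem_insert_iff, Set.mem_singleton_iff, Prod.mk.injEq] at hc
    rcases hc with ⟨h1, h2⟩ | ⟨h1, h2⟩ | ⟨h1, h2⟩ | ⟨h1, h2⟩ | ⟨h1, h2⟩ | ⟨h1, h2⟩ | ⟨h1, h2⟩ |
      ⟨h1, h2⟩ | ⟨h1, h2⟩ | ⟨h1, h2⟩ | ⟨h1, h2⟩ | ⟨h1, h2⟩ | ⟨h1, h2⟩ <;>
    rw [h1, h2] at hrel <;> first | exact absurd h1 hp0 | linarith

end Groth.Agent.S5471
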