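import Mathlib
import Groth.Statements.S5478


set_option autoImplicit false
open RootPairing
open scoped Pointwise
open RootD

namespace Aux5478
open Set Module

variable {ι M N : Type*} [AddCommGroup M] [AddCommGroup N]

theorem smul_def' (P : RootPairing ι ℤ M N) (u : P.Aut) (m : M) : u • m = u.weightMap m := rfl

theorem transp (P : RootPairing ι ℤ M N) (u : P.Aut) (m : M) (n : N) :
    P.toLinearMap (u.weightMap m) n = P.toLinearMap m (u.coweightMap n) := by
  have h := LinearMap.congr_fun (u.toHom.weight_coweight_transpose_apply P P n) m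
  simpa using h

theorem eq_zero_of_orth (P : RootPairing ι ℤ M N) [Finite ι] (x : M) (n : ℕ) (hn : 0 < n)
    (hx : n • x ∈ Submodule.span ℤ (Set.range P.root))
    (h0 : ∀ i, P.toLinearMap x (P.coroot i) = 0) : x = 0 := by
  classical
  have : Fintype ι := Fintype.ofFinite ι
  have : Module.IsReflexive ℤ M := .of_isPerfPair P.toLinearMap
  have : IsAddTorsionFree M := .of_isTorsionFree ℤ M
  by_contra hne
  have hne' : n • x ≠ 0 := by
    intro h
    rcases (smul_eq_zero.mp h) with h | h
    · omega
    · exact hne h
  have hpos := P.rootForm_pos_of_ne_zero hx hne'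
  have h1 : P.RootForm (n • x) (n • x) = 0 := by
    rw [P.rootForm_apply_apply]
    apply Finset.sum_eq_zero
    intro i _
    simp [RootPairing.coroot', h0 i]
  omega

theorem main (P : RootPairing ι ℤ M N) [Finite ι] :
    Set.Finite {u : P.Aut | ∀ m : M, ∃ n : ℕ, 0 < n ∧ n • (u • m - m) ∈ Submodule.span ℤ (Set.range P.root)} := by
  apply Set.Finite.of_injOn (f := fun u : P.Aut => u.indexEquiv) (t := Set.univ)
    (Set.mapsTo_univ _ _) ?_ Set.finite_univ
  intro u hu v hv huv
  simp only at huv
  have hw : u.weightMap = v.weightMap := by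
    apply LinearMap.ext
    intro m
    obtain ⟨n₁, hn₁, h₁⟩ := hu m
    obtain ⟨n₂, hn₂, h₂⟩ := hv m
    rw [smul_def'] at h₁ h₂
    have hx : (n₁ * n₂) • (u.weightMap m - v.weightMap m) ∈ Submodule.span ℤ (Set.range P.root) := by
      have e : (n₁ * n₂) • (u.weightMap m - v.weightMap m) =
          n₂ • (n₁ • (u.weightMap m - m)) - n₁ • (n₂ • (v.weightMap m - m)) := by
        module
      rw [e]
      exact Submodule.sub_mem _ (nsmul_mem h₁ n₂) (nsmul_mem h₂ n₁)
    have h0 : ∀ i, P.toLinearMap (u.weightMap m - v.weightMap m) (P.coroot i) = 0 := by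
      intro i
      rw [map_sub, LinearMap.sub_apply, transp, transp, u.toHom.coroot_coweightMap_apply,
        v.toHom.coroot_coweightMap_apply, huv, sub_self]
    have := eq_zero_of_orth P _ (n₁ * n₂) (Nat.mul_pos hn₁ hn₂) hx h0
    exact sub_eq_zero.mp this
  have hco : u.coweightMap = v.coweightMap := by
    apply LinearMap.ext
    intro n'
    apply P.flip.toPerfPair.injective
    rw [← u.toHom.weight_coweight_transpose_apply, ← v.toHom.weight_coweight_transpose_apply, hw]
  exact RootPairing.Equiv.ext hw hco huv

end Aux5478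
namespace Groth.Agent.S5478

/-- The group of automorphisms of a root datum that act trivially on the radical is finite. -/
theorem result {ι M N : Type*} [AddCommGroup M] [AddCommGroup N]
    (P : RootPairing ι ℤ M N) [Finite ι] :
    Set.Finite {u : P.Aut | ∀ m : M, ∃ n : ℕ, 0 < n ∧ n • (u • m - m) ∈ Submodule.span ℤ (Set.range P.root)} := by
  exact Aux5478.main P

end Groth.Agent.S5478
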