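import Mathlib
import Groth.Statements.S5504
import Groth.Agent.Lib.Helper29.RootDPart
import Groth.Agent.Lib.Helper2.RootD.Weyl
import Groth.Agent.S5503

set_option autoImplicit false
open RootPairing
open scoped Pointwise
open RootD

open RootPairing
open Groth.Agent.Lib.Helper2.RootD
namespace Aux5504
variable {ι M N : Type*} [AddCommGroup M] [AddCommGroup N] {P : RootPairing ι ℤ M N}
  {Δ : Set ι} (hΔ : RootD.IsSimpleSys P Δ)

/-- product of reflections along a list -/
noncomputable abbrev rprod (P : RootPairing ι ℤ M N) (l : List ι) : P.Aut := (l.map fun a => Equiv.reflection P a).prod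

theorem isIndiv_smul (P : RootPairing ι ℤ M N) (g : P.Aut) (k : ι) (h : RootD.IsIndiv P k) :
    RootD.IsIndiv P (g • k) := by
  intro j hj
  apply h (g⁻¹ • j)
  rw [root_smul, ← smul_comm, hj, ← root_smul, inv_smul_smul]

theorem reflection_mul_self (P : RootPairing ι ℤ M N) (a : ι) :
    Equiv.reflection P a * Equiv.reflection P a = 1 := by
  rw [mul_eq_one_iff_inv_eq, Equiv.reflection_inv]

include hΔ

theorem exch [Finite ι] : ∀ (l₀ : List ι), (∀ x ∈ l₀, x ∈ Δ) → ∀ a ∈ Δ,
    (rprod P l₀ • a) ∉ RootD.posOf P Δ →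
    ∃ l₁ : List ι, (∀ x ∈ l₁, x ∈ Δ) ∧ l₁.length + 1 = l₀.length ∧
      rprod P l₀ * Equiv.reflection P a = rprod P l₁ := by
  intro l₀
  induction l₀ with
  | nil =>
    intro _ a ha hneg
    exfalso
    apply hneg
    simp only [rprod, List.map_nil, List.prod_nil, one_smul]
    exact mem_posOf_of_mem ha
  | cons b t ih =>
    intro hl a ha hneg
    have hb : b ∈ Δ := hl b List.mem_cons_self
    have ht : ∀ x ∈ t, x ∈ Δ := fun x hx => hl x (List.mem_cons_of_mem _ hx)
    have hprod : rprod P (b :: t) = Equiv.reflection P b * rprod P t := by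
      simp [rprod]
    by_cases hγ : (rprod P t • a) ∈ RootD.posOf P Δ
    · -- γ positive, s_b γ negative: γ = b
      rw [hprod, mul_smul, reflection_aut_smul] at hneg
      have hnli : ¬ LinearIndependent ℤ ![P.root (rprod P t • a), P.root b] := by
        intro hli
        exact hneg (reflectionPerm_mem_posOf hΔ hγ hb hli)
      have hγb : rprod P t • a = b := by
        rcases eq_or_eq_two_smul_of_not_linearIndependent hΔ hγ hb hnli with h | h
        · exact h
        · exfalso
          exact isIndiv_smul P (rprod P t) a (isIndiv_of_mem hΔ ha) b h.symm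
      refine ⟨t, ht, rfl, ?_⟩
      have hconj := Groth.Agent.S5503.result P (rprod P t) a
      rw [hγb] at hconj
      -- s_b = w s_a w⁻¹
      rw [hprod, ← hconj]
      simp only [mul_assoc, inv_mul_cancel_left, reflection_mul_self, mul_one]
    · obtain ⟨t₁, ht₁, hlen, heq⟩ := ih ht a ha hγ
      refine ⟨b :: t₁, ?_, by simp [hlen], ?_⟩
      · intro x hx
        rcases List.mem_cons.mp hx with rfl | hx
        · exact hb
        · exact ht₁ x hx
      · rw [hprod, mul_assoc, heq]
        simp [rprod]

theorem main [Finite ι] (l : List ι) (hl : ∀ a ∈ l, a ∈ Δ) (hne : l ≠ [])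
    (hmin : ∀ l' : List ι, (∀ a ∈ l', a ∈ Δ) →
      (l'.map fun a => Equiv.reflection P a).prod = (l.map fun a => Equiv.reflection P a).prod → l.length ≤ l'.length) :
    -P.root ((l.map fun a => Equiv.reflection P a).prod • l.getLast hne) ∈ RootD.natSpan P Δ := by
  have hsplit := List.dropLast_append_getLast hne
  set a := l.getLast hne with ha
  set l₀ := l.dropLast with hl₀
  have haΔ : a ∈ Δ := hl a (List.getLast_mem hne)
  have hl₀Δ : ∀ x ∈ l₀, x ∈ Δ := fun x hx => hl x (List.dropLast_subset l hx)
  have hprod : rprod P l = rprod P l₀ * Equiv.reflection P a := by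
    conv_lhs => rw [← hsplit]
    simp [rprod]
  have hlen : l.length = l₀.length + 1 := by
    conv_lhs => rw [← hsplit]
    simp
  have hpos : (rprod P l₀ • a) ∈ RootD.posOf P Δ := by
    by_contra hneg
    obtain ⟨l₁, hl₁, hlen₁, heq⟩ := exch hΔ l₀ hl₀Δ a haΔ hneg
    have := hmin l₁ hl₁ (heq.symm.trans hprod.symm)
    omega
  change -P.root (rprod P l • a) ∈ RootD.natSpan P Δ
  rw [hprod, mul_smul, reflection_aut_smul, smul_neg_index, Groth.Agent.Lib.Helper29.RootDBasic.root_neg,
    neg_neg]
  exact hpos

end Aux5504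

namespace Groth.Agent.S5504

/-- Stated for the group generated by the simple reflections (rather than for the abstractly presented
group): if w = s_{α_1} ⋯ s_{α_m} is a word of minimal length in the simple reflections, then w(α_m)
is a negative root. -/
theorem result {ι M N : Type*} [AddCommGroup M] [AddCommGroup N]
    (P : RootPairing ι ℤ M N) [Finite ι] (Δ : Set ι) (hΔ : RootD.IsSimpleSys P Δ)
    (l : List ι) (hl : ∀ a ∈ l, a ∈ Δ) (hne : l ≠ [])
    (hmin : ∀ l' : List ι, (∀ a ∈ l', a ∈ Δ) →
      (l'.map fun a => Equiv.reflection P a).prod = (l.map fun a => Equiv.reflection P a).prod → l.length ≤ l'.length) :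
    -P.root ((l.map fun a => Equiv.reflection P a).prod • l.getLast hne) ∈ RootD.natSpan P Δ := by
  exact Aux5504.main hΔ l hl hne hmin

end Groth.Agent.S5504
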