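import Mathlib
import Groth.Statements.S5479
import Groth.Agent.Lib.Helper29.RootDPart
import Groth.Agent.Lib.Helper2.RootD.Weyl
import Groth.Agent.S5504
import Groth.Agent.S5508
import Groth.Agent.S5455

set_option autoImplicit false
open RootPairing
open scoped Pointwise
open RootD

open RootPairing
open Groth.Agent.Lib.Helper2.RootD
namespace Aux5479
variable {ι M N : Type*} [AddCommGroup M] [AddCommGroup N] {P : RootPairing ι ℤ M N}
  {Δ : Set ι}

theorem rprod_inv (P : RootPairing ι ℤ M N) (l : List ι) :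
    ((l.map fun a => Equiv.reflection P a).prod)⁻¹ = (l.reverse.map fun a => Equiv.reflection P a).prod := by
  induction l with
  | nil => simp
  | cons a t ih =>
    simp only [List.map_cons, List.prod_cons, mul_inv_rev, ih, Equiv.reflection_inv, List.reverse_cons,
      List.map_append, List.prod_append, List.map_nil, List.prod_nil, mul_one]

theorem exists_list (P : RootPairing ι ℤ M N) (Δ : Set ι) (x : P.Aut)
    (hx : x ∈ Subgroup.closure ((fun i : ι => Equiv.reflection P i) '' Δ)) :
    ∃ l : List ι, (∀ a ∈ l, a ∈ Δ) ∧ (l.map fun a => Equiv.reflection P a).prod = x := by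
  induction hx using Subgroup.closure_induction with
  | mem x hx =>
    obtain ⟨i, hi, rfl⟩ := hx
    exact ⟨[i], by simpa using hi, by simp⟩
  | one => exact ⟨[], by simp, by simp⟩
  | mul x y _ _ hx hy =>
    obtain ⟨l₁, h1, rfl⟩ := hx
    obtain ⟨l₂, h2, rfl⟩ := hy
    refine ⟨l₁ ++ l₂, ?_, by simp⟩
    intro a ha
    rcases List.mem_append.mp ha with h | h
    · exact h1 a h
    · exact h2 a h
  | inv x _ hx =>
    obtain ⟨l, h1, rfl⟩ := hx
    exact ⟨l.reverse, fun a ha => h1 a (List.mem_reverse.mp ha), (rprod_inv P l).symm⟩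

/-- an element of the Weyl group stabilising a simple system is trivial -/
theorem eq_one_of_stab [Finite ι] (hΔ : RootD.IsSimpleSys P Δ) (v : P.Aut) (hv : v ∈ P.weylGroup)
    (hstab : (fun i : ι => v • i) '' Δ = Δ) : v = 1 := by
  classical
  rw [← (Groth.Agent.S5508.result P Δ hΔ).1] at hv
  have hex : ∃ n : ℕ, ∃ l : List ι, l.length = n ∧ (∀ a ∈ l, a ∈ Δ) ∧
      (l.map fun a => Equiv.reflection P a).prod = v := by
    obtain ⟨l, h1, h2⟩ := exists_list P Δ v hv
    exact ⟨l.length, l, rfl, h1, h2⟩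
  obtain ⟨l, hlen, hl, hprod⟩ := Nat.find_spec hex
  by_cases hne : l = []
  · subst hne
    simpa using hprod.symm
  · exfalso
    have hmin : ∀ l' : List ι, (∀ a ∈ l', a ∈ Δ) →
        (l'.map fun a => Equiv.reflection P a).prod = (l.map fun a => Equiv.reflection P a).prod →
        l.length ≤ l'.length := by
      intro l' hl' hp
      rw [hlen]
      exact Nat.find_min' hex ⟨l', rfl, hl', hp.trans hprod⟩
    have hneg := Groth.Agent.S5504.result P Δ hΔ l hl hne hmin
    rw [hprod] at hneg
    have hlast : l.getLast hne ∈ Δ := hl _ (List.getLast_mem hne)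
    have hmem : v • l.getLast hne ∈ Δ := by
      rw [← hstab]; exact ⟨_, hlast, rfl⟩
    have hpos : v • l.getLast hne ∈ RootD.posOf P Δ := mem_posOf_of_mem hmem
    have hneg' : P.reflectionPerm (v • l.getLast hne) (v • l.getLast hne) ∈ RootD.posOf P Δ := by
      change P.root _ ∈ RootD.natSpan P Δ
      rw [Groth.Agent.Lib.Helper29.RootDBasic.root_neg]
      exact hneg
    exact not_mem_posOf_neg hΔ hpos hneg'

theorem main [Finite ι] (hΔ : RootD.IsSimpleSys P Δ) (u : P.Aut) :
    ∃! w : P.weylGroup, (fun i : ι => ((w : P.Aut)⁻¹ * u) • i) '' Δ = Δ := by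
  obtain ⟨g, hg, hgΔ⟩ := Groth.Agent.S5455.result P Δ ((fun i : ι => u • i) '' Δ) hΔ (isSimpleSys_smul P u hΔ)
  refine ⟨⟨g, hg⟩, ?_, ?_⟩
  · change (fun i : ι => (g⁻¹ * u) • i) '' Δ = Δ
    rw [← image_image_mul, ← hgΔ, image_image_inv]
  · rintro ⟨w, hw⟩ hwΔ
    change (fun i : ι => (w⁻¹ * u) • i) '' Δ = Δ at hwΔ
    apply Subtype.ext
    change w = g
    have h1 : (fun i : ι => w • i) '' Δ = (fun i : ι => u • i) '' Δ := by
      conv_lhs => rw [← hwΔ]
      rw [image_image_mul, mul_inv_cancel_left]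
    have h2 : (fun i : ι => (g⁻¹ * w) • i) '' Δ = Δ := by
      rw [← image_image_mul, h1, ← hgΔ, image_image_inv]
    have h3 := eq_one_of_stab hΔ (g⁻¹ * w) (mul_mem (inv_mem hg) hw) h2
    exact (inv_mul_eq_one.mp h3).symm

end Aux5479

namespace Groth.Agent.S5479

/-- Aut(R) is the semidirect product of the Weyl group by the stabiliser E_Δ of a system of simple
roots: every automorphism is uniquely w · e with w ∈ W and e(Δ) = Δ. -/
theorem result {ι M N : Type*} [AddCommGroup M] [AddCommGroup N]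
    (P : RootPairing ι ℤ M N) [Finite ι] (Δ : Set ι) (hΔ : RootD.IsSimpleSys P Δ) (u : P.Aut) :
    ∃! w : P.weylGroup, (fun i : ι => ((w : P.Aut)⁻¹ * u) • i) '' Δ = Δ := by
  exact Aux5479.main hΔ u

end Groth.Agent.S5479
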