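import Mathlib
import Groth.Statements.S5480
import Groth.Agent.Lib.Helper2.RootD.Aut

set_option autoImplicit false
open RootD

namespace Aux5480
open RootPairing

variable {ι M N ι' M' N' : Type*} [AddCommGroup M] [AddCommGroup N] [AddCommGroup M'] [AddCommGroup N']
  (P : RootPairing ι ℤ M N) (P' : RootPairing ι' ℤ M' N')

theorem key (f : M' →ₗ[ℤ] M) (g : N →ₗ[ℤ] N')
    (hfg : ∀ (m' : M') (n : N), P.toLinearMap (f m') n = P'.toLinearMap m' (g n))
    (u : ι ≃ ι') (q : ι → ℕ)
    (hroot : ∀ i : ι, f (P'.root (u i)) = (q i : ℤ) • P.root i)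
    (hcoroot : ∀ i : ι, g (P.coroot i) = (q i : ℤ) • P'.coroot (u i)) (j i : ι) :
    (q j : ℤ) * P.pairing j i = (q i : ℤ) * P'.pairing (u j) (u i) := by
  have h := hfg (P'.root (u j)) (P.coroot i)
  rw [hroot, hcoroot, map_smul, map_smul, LinearMap.smul_apply, P.root_coroot_eq_pairing,
    P'.root_coroot_eq_pairing] at h
  simpa using h

theorem eq_of_smul_eq_smul [P.IsReduced] (k l : ι) (a b : ℤ) (ha : 0 < a) (hb : 0 < b)
    (h : a • P.root k = b • P.root l) : k = l ∧ a = b := by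
  have : Module.IsReflexive ℤ M := .of_isPerfPair P.toLinearMap
  have hnli : ¬ LinearIndependent ℤ ![P.root k, P.root l] := by
    intro hli
    rw [LinearIndependent.pair_iff] at hli
    have h1 := hli a (-b) (by rw [neg_smul, h, add_neg_cancel])
    omega
  rcases IsReduced.eq_or_eq_neg (P := P) k l hnli with h1 | h1
  · have hkl : k = l := P.root.injective h1
    refine ⟨hkl, ?_⟩
    subst hkl
    have h2 : (a - b) • P.root k = 0 := by rw [sub_smul, h, sub_self]
    rcases smul_eq_zero.mp h2 with h3 | h3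
    · omega
    · exact absurd h3 (P.ne_zero k)
  · exfalso
    rw [h1, smul_neg] at h
    have h2 : (a + b) • P.root l = 0 := by rw [add_smul, ← h, add_neg_cancel]
    rcases smul_eq_zero.mp h2 with h3 | h3
    · omega
    · exact absurd h3 (P.ne_zero l)

theorem partA [P.IsReduced] (f : M' →ₗ[ℤ] M) (g : N →ₗ[ℤ] N')
    (hfg : ∀ (m' : M') (n : N), P.toLinearMap (f m') n = P'.toLinearMap m' (g n))
    (u : ι ≃ ι') (q : ι → ℕ) (hqpos : ∀ i, (0 : ℤ) < (q i : ℤ))
    (hroot : ∀ i : ι, f (P'.root (u i)) = (q i : ℤ) • P.root i)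
    (hcoroot : ∀ i : ι, g (P.coroot i) = (q i : ℤ) • P'.coroot (u i)) (i j : ι) :
    q (P.reflectionPerm i j) = q j ∧ u (P.reflectionPerm i j) = P'.reflectionPerm (u i) (u j) := by
  have hk := key P P' f g hfg u q hroot hcoroot j i
  have h1 : f (P'.root (P'.reflectionPerm (u i) (u j))) =
      (q j : ℤ) • P.root (P.reflectionPerm i j) := by
    calc f (P'.root (P'.reflectionPerm (u i) (u j)))
        = (q j : ℤ) • P.root j - (P'.pairing (u j) (u i) * (q i : ℤ)) • P.root i := by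
          rw [P'.root_reflectionPerm, P'.reflection_apply_root, map_sub, map_zsmul, hroot, hroot,
            smul_smul]
      _ = (q j : ℤ) • P.root (P.reflectionPerm i j) := by
          rw [show P'.pairing (u j) (u i) * (q i : ℤ) = (q j : ℤ) * P.pairing j i by
            rw [hk, mul_comm], P.root_reflectionPerm, P.reflection_apply_root, smul_sub, smul_smul]
  have h2 : f (P'.root (P'.reflectionPerm (u i) (u j))) =
      (q (u.symm (P'.reflectionPerm (u i) (u j))) : ℤ) •
        P.root (u.symm (P'.reflectionPerm (u i) (u j))) := by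
    have := hroot (u.symm (P'.reflectionPerm (u i) (u j)))
    rwa [u.apply_symm_apply] at this
  obtain ⟨hk1, hk2⟩ := eq_of_smul_eq_smul P (u.symm (P'.reflectionPerm (u i) (u j)))
    (P.reflectionPerm i j) _ _ (hqpos _) (hqpos j) (h2.symm.trans h1)
  constructor
  · rw [← hk1]
    exact_mod_cast hk2
  · rw [← hk1]
    exact u.apply_symm_apply _

theorem partB (q : ι → ℕ) (hA : ∀ i j, q (P.reflectionPerm i j) = q j) :
    ∀ w ∈ P.weylGroup, ∀ i : ι, q (w • i) = q i := by
  intro w hw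
  induction hw using weylGroup.induction with
  | mem k =>
    intro i
    exact hA k i
  | one =>
    intro i
    rw [one_smul]
  | mul x y hx hy ihx ihy =>
    intro i
    rw [mul_smul, ihx, ihy]

theorem exists_weyl (u : ι ≃ ι')
    (hu : ∀ i j, u (P.reflectionPerm i j) = P'.reflectionPerm (u i) (u j)) :
    ∀ w ∈ P.weylGroup, ∃ w' ∈ P'.weylGroup, ∀ j : ι, u (w • j) = w' • u j := by
  intro w hw
  induction hw using weylGroup.induction with
  | mem k =>
    exact ⟨Equiv.reflection P' (u k), P'.reflection_mem_weylGroup (u k), fun j => hu k j⟩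
  | one => exact ⟨1, one_mem _, fun j => by rw [one_smul, one_smul]⟩
  | mul x y hx hy ihx ihy =>
    obtain ⟨x', hx', hx''⟩ := ihx
    obtain ⟨y', hy', hy''⟩ := ihy
    exact ⟨x' * y', mul_mem hx' hy', fun j => by rw [mul_smul, hx'', hy'', mul_smul]⟩

theorem uniq [Finite ι] (a b : P.weylGroup) (h : ∀ j : ι, (a : P.Aut) • j = (b : P.Aut) • j) :
    a = b := by
  have h1 : ((b : P.Aut)⁻¹ * (a : P.Aut)) = 1 := by
    apply Groth.Agent.Lib.Helper2.RootD.weyl_eq_one_of_fix P (mul_mem (inv_mem b.2) a.2)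
    intro j
    rw [mul_smul, h j, inv_smul_smul]
  apply Subtype.ext
  exact (inv_mul_eq_one.mp h1).symm

theorem partC [Finite ι] [Finite ι'] (u : ι ≃ ι')
    (hu : ∀ i j, u (P.reflectionPerm i j) = P'.reflectionPerm (u i) (u j)) :
    ∃ ubar : P.weylGroup ≃* P'.weylGroup,
      (∀ i : ι, ubar (weylGroup.ofIdx P i) = weylGroup.ofIdx P' (u i)) ∧
      ∀ (w : P.weylGroup) (i : ι),
        u ((w : P.Aut) • i) = ((ubar w : P'.weylGroup) : P'.Aut) • u i := by
  have hu' : ∀ i' j', u.symm (P'.reflectionPerm i' j') =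
      P.reflectionPerm (u.symm i') (u.symm j') := by
    intro i' j'
    rw [Equiv.symm_apply_eq, hu, Equiv.apply_symm_apply, Equiv.apply_symm_apply]
  have hex : ∀ w : P.weylGroup, ∃ w' : P'.weylGroup,
      ∀ j : ι, u ((w : P.Aut) • j) = (w' : P'.Aut) • u j := by
    intro w
    obtain ⟨w', hw', h⟩ := exists_weyl P P' u hu w.1 w.2
    exact ⟨⟨w', hw'⟩, h⟩
  have hex' : ∀ w' : P'.weylGroup, ∃ w : P.weylGroup,
      ∀ j' : ι', u.symm ((w' : P'.Aut) • j') = (w : P.Aut) • u.symm j' := by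
    intro w'
    obtain ⟨w, hw, h⟩ := exists_weyl P' P u.symm hu' w'.1 w'.2
    exact ⟨⟨w, hw⟩, h⟩
  choose Φ hΦ using hex
  choose Ψ hΨ using hex'
  have hmul : ∀ a b, Φ (a * b) = Φ a * Φ b := by
    intro a b
    apply uniq P'
    intro j'
    obtain ⟨j, rfl⟩ := u.surjective j'
    rw [← hΦ, Subgroup.coe_mul, mul_smul, hΦ, hΦ, Subgroup.coe_mul, mul_smul]
  have hl : ∀ w, Ψ (Φ w) = w := by
    intro w
    apply uniq P
    intro j
    have := hΨ (Φ w) (u j)
    rw [← hΦ, Equiv.symm_apply_apply, Equiv.symm_apply_apply] at this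
    exact this.symm
  have hr : ∀ w', Φ (Ψ w') = w' := by
    intro w'
    apply uniq P'
    intro j'
    have := hΦ (Ψ w') (u.symm j')
    rw [← hΨ, Equiv.apply_symm_apply, Equiv.apply_symm_apply] at this
    exact this.symm
  refine ⟨{ toFun := Φ, invFun := Ψ, left_inv := hl, right_inv := hr, map_mul' := hmul }, ?_, ?_⟩
  · intro i
    apply uniq P'
    intro j'
    obtain ⟨j, rfl⟩ := u.surjective j'
    change ((Φ (weylGroup.ofIdx P i) : P'.weylGroup) : P'.Aut) • u j = _
    rw [← hΦ]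
    exact hu i j
  · intro w i
    exact hΦ w i

theorem main [Finite ι] [Finite ι'] [P.IsReduced] [P'.IsReduced]
    (p : ℕ) (hp : 0 < p) (f : M' →ₗ[ℤ] M) (g : N →ₗ[ℤ] N')
    (hfg : ∀ (m' : M') (n : N), P.toLinearMap (f m') n = P'.toLinearMap m' (g n))
    (u : ι ≃ ι') (q : ι → ℕ) (hq : ∀ i, ∃ e : ℕ, q i = p ^ e)
    (hroot : ∀ i : ι, f (P'.root (u i)) = (q i : ℤ) • P.root i)
    (hcoroot : ∀ i : ι, g (P.coroot i) = (q i : ℤ) • P'.coroot (u i)) :
    (∀ i j : ι, q (P.reflectionPerm i j) = q j ∧ u (P.reflectionPerm i j) = P'.reflectionPerm (u i) (u j)) ∧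
      (∀ w ∈ P.weylGroup, ∀ i : ι, q (w • i) = q i) ∧
      ∃ ubar : P.weylGroup ≃* P'.weylGroup,
        (∀ i : ι, ubar (RootPairing.weylGroup.ofIdx P i) = RootPairing.weylGroup.ofIdx P' (u i)) ∧
        ∀ (w : P.weylGroup) (i : ι), u ((w : P.Aut) • i) = ((ubar w : P'.weylGroup) : P'.Aut) • u i := by
  have hqpos : ∀ i, (0 : ℤ) < (q i : ℤ) := by
    intro i
    obtain ⟨e, he⟩ := hq i
    rw [he]
    exact_mod_cast pow_pos hp e
  have hA := partA P P' f g hfg u q hqpos hroot hcoroot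
  exact ⟨hA, partB P q (fun i j => (hA i j).1), partC P P' u (fun i j => (hA i j).2)⟩

end Aux5480
namespace Groth.Agent.S5480

/-- For a p-morphism of reduced root data with root bijection u and radicial exponents q: (a) for all
roots α, β one has q(s_α(β)) = q(β) and u(s_α(β)) = s_{u(α)}(u(β)); (b) the exponents are invariant
under the Weyl group, q(w(α)) = q(α); (c) there is an isomorphism ū from the Weyl group of the first
datum to that of the second with ū(s_α) = s_{u(α)} and u(w(α)) = ū(w)(u(α)) for every Weyl group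
element w and every root α. -/
theorem result {ι M N ι' M' N' : Type*} [AddCommGroup M] [AddCommGroup N] [AddCommGroup M'] [AddCommGroup N']
    (P : RootPairing ι ℤ M N) (P' : RootPairing ι' ℤ M' N') [Finite ι] [Finite ι'] [P.IsReduced] [P'.IsReduced]
    (p : ℕ) (hp : 0 < p) (f : M' →ₗ[ℤ] M) (g : N →ₗ[ℤ] N')
    (hfg : ∀ (m' : M') (n : N), P.toLinearMap (f m') n = P'.toLinearMap m' (g n))
    (u : ι ≃ ι') (q : ι → ℕ) (hq : ∀ i, ∃ e : ℕ, q i = p ^ e)
    (hroot : ∀ i : ι, f (P'.root (u i)) = (q i : ℤ) • P.root i)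
    (hcoroot : ∀ i : ι, g (P.coroot i) = (q i : ℤ) • P'.coroot (u i)) :
    (∀ i j : ι, q (P.reflectionPerm i j) = q j ∧ u (P.reflectionPerm i j) = P'.reflectionPerm (u i) (u j)) ∧
      (∀ w ∈ P.weylGroup, ∀ i : ι, q (w • i) = q i) ∧
      ∃ ubar : P.weylGroup ≃* P'.weylGroup,
        (∀ i : ι, ubar (RootPairing.weylGroup.ofIdx P i) = RootPairing.weylGroup.ofIdx P' (u i)) ∧
        ∀ (w : P.weylGroup) (i : ι), u ((w : P.Aut) • i) = ((ubar w : P'.weylGroup) : P'.Aut) • u i := by
  exact Aux5480.main P P' p hp f g hfg u q hq hroot hcoroot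

end Groth.Agent.S5480
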