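import Mathlib
import Groth.Statements.S5481
import Groth.Agent.S5480
import Groth.Agent.Lib.Helper2.RootD.Weyl

set_option autoImplicit false
open RootD

namespace Aux5481
open RootD Groth.Agent.Lib.Helper2.RootD

variable {ι M N ι' M' N' : Type*} [AddCommGroup M] [AddCommGroup N] [AddCommGroup M'] [AddCommGroup N']

section R
variable (P : RootPairing ι ℤ M N) [Finite ι] [P.IsReduced] {Δ : Set ι}

theorem not_two_smul (j k : ι) : P.root j ≠ (2 : ℤ) • P.root k := by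
  intro h
  have := Aux5480.eq_of_smul_eq_smul P j k 1 2 one_pos two_pos (by rw [one_smul]; exact h)
  omega

theorem lemR (hΔ : IsSimpleSys P Δ) {k : ι} (hk : k ∈ posOf P Δ) :
    k ∈ Δ ↔ ∀ j ∈ posOf P Δ, j ≠ k → P.reflectionPerm k j ∈ posOf P Δ := by
  classical
  constructor
  · intro hkΔ j hj hjk
    by_cases hli : LinearIndependent ℤ ![P.root j, P.root k]
    · exact reflectionPerm_mem_posOf hΔ hj hkΔ hli
    · rcases eq_or_eq_two_smul_of_not_linearIndependent hΔ hj hkΔ hli with h | h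
      · exact absurd h hjk
      · exact absurd h (not_two_smul P j k)
  · intro h
    by_contra hkΔ
    obtain ⟨δ, hc, hp⟩ := exists_simple_pairing_pos hΔ hk
    have hne : (δ : ι) ≠ k := fun e => hkΔ (e ▸ δ.2)
    have hli : LinearIndependent ℤ ![P.root k, P.root δ] := by
      by_contra hli
      rcases eq_or_eq_two_smul_of_not_linearIndependent hΔ hk δ.2 hli with h1 | h1
      · exact hne h1.symm
      · exact not_two_smul P k δ h1
    obtain ⟨δ'', hδ'', hpos⟩ := exists_coef_pos_ne hΔ hk δ.2 hli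
    have hmem := h δ (mem_posOf_of_mem δ.2) hne
    have hnn := coef_nonneg_of_mem_posOf hΔ hmem δ''
    have hp' : 0 < P.pairing δ k := by
      have h1 := (P.zero_lt_pairingIn_iff' (S := ℤ) (i := k) (j := δ)).mp
        (by rw [pairingIn_int]; exact hp)
      rwa [pairingIn_int] at h1
    have hne2 : ¬ ((⟨δ, δ.2⟩ : Δ) = δ'') := fun e => hδ'' e.symm
    rw [coef_reflectionPerm, coef_of_mem hΔ δ, Finsupp.sub_apply, Finsupp.smul_apply,
      Finsupp.single_apply, if_neg hne2, zero_sub, smul_eq_mul] at hnn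
    nlinarith

end R

section Mor

variable (P : RootPairing ι ℤ M N) (P' : RootPairing ι' ℤ M' N')

theorem pos_fwd (f : M' →ₗ[ℤ] M) (u : ι ≃ ι') (q : ι → ℕ) (hqpos : ∀ i, 0 < q i)
    (hroot : ∀ i : ι, f (P'.root (u i)) = (q i : ℤ) • P.root i)
    (hA : ∀ i j, u (P.reflectionPerm i j) = P'.reflectionPerm (u i) (u j))
    {S : Set ι} (hS : IsPosSys P S) : IsPosSys P' (u '' S) where
  disjoint := by
    rintro i' ⟨i, hi, rfl⟩ ⟨j, hj, hje⟩
    rw [← hA i i] at hje
    have := u.injective hje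
    subst this
    exact hS.disjoint hi hj
  cover := by
    intro i'
    obtain ⟨i, rfl⟩ := u.surjective i'
    rcases hS.cover i with h | h
    · exact Or.inl ⟨i, h, rfl⟩
    · exact Or.inr ⟨_, h, hA i i⟩
  sat := by
    intro k' n hn hmem
    obtain ⟨k, rfl⟩ := u.surjective k'
    refine ⟨k, ?_, rfl⟩
    apply hS.sat (n * q k) (Nat.mul_pos hn (hqpos k))
    have h1 : ∀ x ∈ AddSubmonoid.closure (P'.root '' (u '' S)),
        f x ∈ AddSubmonoid.closure (P.root '' S) := by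
      intro x hx
      induction hx using AddSubmonoid.closure_induction with
      | mem x hx =>
        obtain ⟨i', ⟨i, hi, rfl⟩, rfl⟩ := hx
        rw [hroot, natCast_zsmul]
        exact nsmul_mem (AddSubmonoid.subset_closure (Set.mem_image_of_mem P.root hi)) _
      | zero =>
        rw [map_zero]
        exact zero_mem _
      | add x y _ _ hx hy =>
        rw [map_add]
        exact add_mem hx hy
    have h2 := h1 _ hmem
    rw [map_nsmul, hroot, natCast_zsmul] at h2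
    have e : (n * q k) • P.root k = n • (q k • P.root k) := mul_nsmul' _ _ _
    show (n * q k) • P.root k ∈ AddSubmonoid.closure (P.root '' S)
    rw [e]
    exact h2

variable [Finite ι] [Finite ι'] [P.IsReduced] [P'.IsReduced]

theorem pos_bwd (f : M' →ₗ[ℤ] M) (u : ι ≃ ι') (q : ι → ℕ) (hqpos : ∀ i, 0 < q i)
    (hroot : ∀ i : ι, f (P'.root (u i)) = (q i : ℤ) • P.root i)
    (hA : ∀ i j, u (P.reflectionPerm i j) = P'.reflectionPerm (u i) (u j))
    {S : Set ι} (hS' : IsPosSys P' (u '' S)) : IsPosSys P S := by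
  obtain ⟨Δ₀, hΔ₀⟩ := exists_isSimpleSys P
  have hS₀ := isPosSys_posOf hΔ₀
  have hS₀' := pos_fwd P P' f u q hqpos hroot hA hS₀
  obtain ⟨Δ₀', hΔ₀', hS₀eq⟩ := exists_isSimpleSys_eq_posOf P' hS₀'
  obtain ⟨g', hg', hg'eq⟩ := exists_weyl_eq_posOf P' hΔ₀' (fun i hi => hS'.disjoint hi) hS'.cover
    (isClosedSub_of_isPosSys P' hS')
  rw [← image_posOf, ← hS₀eq] at hg'eq
  -- hg'eq : u '' S = (g' • ·) '' (u '' posOf P Δ₀)
  have hA' : ∀ i' j', u.symm (P'.reflectionPerm i' j') =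
      P.reflectionPerm (u.symm i') (u.symm j') := by
    intro i' j'
    rw [Equiv.symm_apply_eq, hA, Equiv.apply_symm_apply, Equiv.apply_symm_apply]
  obtain ⟨g, hg, hgeq⟩ := Aux5480.exists_weyl P' P u.symm hA' g' hg'
  have hSeq : S = posOf P ((fun i => g • i) '' Δ₀) := by
    rw [← image_posOf]
    ext k
    constructor
    · intro hk
      have h1 : u k ∈ u '' S := ⟨k, hk, rfl⟩
      rw [hg'eq] at h1
      obtain ⟨j', ⟨j, hj, rfl⟩, hj'⟩ := h1
      refine ⟨j, hj, ?_⟩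
      have h2 := hgeq (u j)
      simp only at hj'
      rw [hj', Equiv.symm_apply_apply, Equiv.symm_apply_apply] at h2
      exact h2.symm
    · rintro ⟨j, hj, rfl⟩
      have h1 : g' • u j ∈ u '' S := by
        rw [hg'eq]
        exact ⟨u j, ⟨j, hj, rfl⟩, rfl⟩
      obtain ⟨k, hk, hke⟩ := h1
      have h2 := hgeq (u j)
      rw [← hke, Equiv.symm_apply_apply, Equiv.symm_apply_apply] at h2
      simp only
      rw [← h2]
      exact hk
  rw [hSeq]
  exact isPosSys_posOf (isSimpleSys_smul P g hΔ₀)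

theorem simple_fwd (f : M' →ₗ[ℤ] M) (u : ι ≃ ι') (q : ι → ℕ) (hqpos : ∀ i, 0 < q i)
    (hroot : ∀ i : ι, f (P'.root (u i)) = (q i : ℤ) • P.root i)
    (hA : ∀ i j, u (P.reflectionPerm i j) = P'.reflectionPerm (u i) (u j))
    {Δ : Set ι} (hΔ : IsSimpleSys P Δ) :
    IsSimpleSys P' (u '' Δ) ∧ u '' posOf P Δ = posOf P' (u '' Δ) := by
  have hS := isPosSys_posOf hΔ
  have hS' := pos_fwd P P' f u q hqpos hroot hA hS
  obtain ⟨Δ', hΔ', hSeq⟩ := exists_isSimpleSys_eq_posOf P' hS'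
  have hiff : ∀ k, k ∈ posOf P Δ → (u k ∈ Δ' ↔ k ∈ Δ) := by
    intro k hk
    have hk' : u k ∈ posOf P' Δ' := hSeq ▸ ⟨k, hk, rfl⟩
    rw [lemR P' hΔ' hk', lemR P hΔ hk]
    constructor
    · intro h j hj hjk
      have h1 := h (u j) (hSeq ▸ ⟨j, hj, rfl⟩) (fun e => hjk (u.injective e))
      rw [← hA, ← hSeq] at h1
      obtain ⟨l, hl, hle⟩ := h1
      rwa [u.injective hle] at hl
    · intro h j' hj' hjk'
      rw [← hSeq] at hj'
      obtain ⟨j, hj, rfl⟩ := hj'
      have h1 := h j hj (fun e => hjk' (e ▸ rfl))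
      rw [← hA, ← hSeq]
      exact ⟨_, h1, rfl⟩
  have hΔeq : Δ' = u '' Δ := by
    ext k'
    constructor
    · intro hk'
      have h1 : k' ∈ posOf P' Δ' := mem_posOf_of_mem hk'
      rw [← hSeq] at h1
      obtain ⟨k, hk, rfl⟩ := h1
      exact ⟨k, (hiff k hk).mp hk', rfl⟩
    · rintro ⟨k, hk, rfl⟩
      exact (hiff k (mem_posOf_of_mem hk)).mpr hk
  rw [← hΔeq]
  exact ⟨hΔ', hSeq⟩

theorem simple_bwd (f : M' →ₗ[ℤ] M) (u : ι ≃ ι') (q : ι → ℕ) (hqpos : ∀ i, 0 < q i)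
    (hroot : ∀ i : ι, f (P'.root (u i)) = (q i : ℤ) • P.root i)
    (hA : ∀ i j, u (P.reflectionPerm i j) = P'.reflectionPerm (u i) (u j))
    {Δ : Set ι} (hΔ' : IsSimpleSys P' (u '' Δ)) : IsSimpleSys P Δ := by
  have hS' := isPosSys_posOf hΔ'
  have himg : u '' (u ⁻¹' posOf P' (u '' Δ)) = posOf P' (u '' Δ) :=
    Set.image_preimage_eq _ u.surjective
  rw [← himg] at hS'
  have hS := pos_bwd P P' f u q hqpos hroot hA hS'
  obtain ⟨Δ₁, hΔ₁, hSeq⟩ := exists_isSimpleSys_eq_posOf P hS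
  obtain ⟨h1, h2⟩ := simple_fwd P P' f u q hqpos hroot hA hΔ₁
  rw [← hSeq, himg] at h2
  have h3 := eq_of_posOf_eq P' hΔ' h1 h2
  have h4 : Δ = Δ₁ := (Set.image_injective.mpr u.injective) h3
  rw [h4]
  exact hΔ₁

theorem main (p : ℕ) (hp : 0 < p) (f : M' →ₗ[ℤ] M) (g : N →ₗ[ℤ] N')
    (hfg : ∀ (m' : M') (n : N), P.toLinearMap (f m') n = P'.toLinearMap m' (g n))
    (u : ι ≃ ι') (q : ι → ℕ) (hq : ∀ i, ∃ e : ℕ, q i = p ^ e)
    (hroot : ∀ i : ι, f (P'.root (u i)) = (q i : ℤ) • P.root i)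
    (hcoroot : ∀ i : ι, g (P.coroot i) = (q i : ℤ) • P'.coroot (u i)) (Δ : Set ι) :
    (RootD.IsSimpleSys P Δ ↔ RootD.IsSimpleSys P' (u '' Δ)) ∧
      (RootD.IsPosSys P Δ ↔ RootD.IsPosSys P' (u '' Δ)) := by
  have hqpos : ∀ i, 0 < q i := by
    intro i
    obtain ⟨e, he⟩ := hq i
    rw [he]
    exact pow_pos hp e
  have hqpos' : ∀ i, (0 : ℤ) < (q i : ℤ) := fun i => by exact_mod_cast hqpos i
  have hA : ∀ i j, u (P.reflectionPerm i j) = P'.reflectionPerm (u i) (u j) :=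
    fun i j => (Aux5480.partA P P' f g hfg u q hqpos' hroot hcoroot i j).2
  exact ⟨⟨fun h => (simple_fwd P P' f u q hqpos hroot hA h).1,
    fun h => simple_bwd P P' f u q hqpos hroot hA h⟩,
    ⟨fun h => pos_fwd P P' f u q hqpos hroot hA h, fun h => pos_bwd P P' f u q hqpos hroot hA h⟩⟩

end Mor

end Aux5481
namespace Groth.Agent.S5481

/-- The root bijection u of a p-morphism of reduced root data carries systems of simple roots onto
systems of simple roots and systems of positive roots onto systems of positive roots, bijectively. -/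
theorem result {ι M N ι' M' N' : Type*} [AddCommGroup M] [AddCommGroup N] [AddCommGroup M'] [AddCommGroup N']
    (P : RootPairing ι ℤ M N) (P' : RootPairing ι' ℤ M' N') [Finite ι] [Finite ι'] [P.IsReduced] [P'.IsReduced]
    (p : ℕ) (hp : 0 < p) (f : M' →ₗ[ℤ] M) (g : N →ₗ[ℤ] N')
    (hfg : ∀ (m' : M') (n : N), P.toLinearMap (f m') n = P'.toLinearMap m' (g n))
    (u : ι ≃ ι') (q : ι → ℕ) (hq : ∀ i, ∃ e : ℕ, q i = p ^ e)
    (hroot : ∀ i : ι, f (P'.root (u i)) = (q i : ℤ) • P.root i)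
    (hcoroot : ∀ i : ι, g (P.coroot i) = (q i : ℤ) • P'.coroot (u i)) (Δ : Set ι) :
    (RootD.IsSimpleSys P Δ ↔ RootD.IsSimpleSys P' (u '' Δ)) ∧
      (RootD.IsPosSys P Δ ↔ RootD.IsPosSys P' (u '' Δ)) := by
  exact Aux5481.main P P' p hp f g hfg u q hq hroot hcoroot Δ

end Groth.Agent.S5481
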