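import Mathlib
import Groth.Statements.S5505
import Groth.Agent.Lib.Helper29.RootDBasic

set_option autoImplicit false
open RootD

open Groth.Agent.Lib.Helper29.RootDBasic
namespace Aux5505
variable {ι M N : Type*} [AddCommGroup M] [AddCommGroup N] (P : RootPairing ι ℤ M N)

theorem isOrthogonal_iff (i j : ι) : P.IsOrthogonal i j ↔ P.pairing i j = 0 :=
  ⟨fun h => h.1, fun h => ⟨h, P.pairing_eq_zero_iff'.mp h⟩⟩

theorem not_orth_cases [Finite ι] (i j : ι) (hij : ¬ P.IsOrthogonal i j) :
    i = j ∨ j = P.reflectionPerm i i ∨ (∃ k, P.root i = P.root k + P.root j) ∨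
      (∃ k, P.root k = P.root i + P.root j) := by
  rw [isOrthogonal_iff] at hij
  by_cases h1 : i = j
  · exact Or.inl h1
  by_cases h2 : P.root i = - P.root j
  · right; left
    apply P.root.injective
    rw [root_neg, h2, neg_neg]
  rcases lt_or_gt_of_ne hij with hneg | hpos
  · obtain ⟨k, hk⟩ := root_add_root_mem_of_pairing_neg P hneg h2
    exact Or.inr (Or.inr (Or.inr ⟨k, hk⟩))
  · obtain ⟨k, hk⟩ := root_sub_root_mem_of_pairing_pos P hpos h1
    exact Or.inr (Or.inr (Or.inl ⟨k, by rw [hk]; abel⟩))

theorem main [Finite ι] (R' : Set ι) (hc : RootD.IsClosedSub P R')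
    (hs : RootD.IsSymmSub P R') (hc' : RootD.IsClosedSub P R'ᶜ) (hs' : RootD.IsSymmSub P R'ᶜ)
    (i j : ι) (hi : i ∈ R') (hij : ¬ P.IsOrthogonal i j) : j ∈ R' := by
  rcases not_orth_cases P i j hij with rfl | rfl | ⟨k, hk⟩ | ⟨k, hk⟩
  · exact hi
  · exact hs hi
  · rcases partition_add P R' hc hs hc' hs' k j i hk with h | h
    · exact h.2.1
    · exact absurd hi h.2.2
  · rcases partition_add P R' hc hs hc' hs' i j k hk with h | h
    · exact h.2.1
    · exact absurd hi h.1

end Aux5505

namespace Groth.Agent.S5505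

/-- A subset of roots which, together with its complement, is closed and symmetric contains with any
root every root not orthogonal to it; so it is a union of irreducible components. -/
theorem result {ι M N : Type*} [AddCommGroup M] [AddCommGroup N]
    (P : RootPairing ι ℤ M N) [Finite ι] (R' : Set ι) (hc : RootD.IsClosedSub P R')
    (hs : RootD.IsSymmSub P R') (hc' : RootD.IsClosedSub P R'ᶜ) (hs' : RootD.IsSymmSub P R'ᶜ)
    (i j : ι) (hi : i ∈ R') (hij : ¬ P.IsOrthogonal i j) : j ∈ R' := by
  exact Aux5505.main P R' hc hs hc' hs' i j hi hij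

end Groth.Agent.S5505
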