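import Mathlib
import Groth.Statements.S5482
import Groth.Agent.Lib.Helper29.RootDPart
import Groth.Agent.S5505

set_option autoImplicit false
open RootD

open Groth.Agent.Lib.Helper29.RootDBasic Groth.Agent.Lib.Helper29.RootDPart
open Groth.Agent.Lib.Helper2.RootD
namespace Aux5482
variable {ι M N : Type*} [AddCommGroup M] [AddCommGroup N] (P : RootPairing ι ℤ M N)

theorem main [Finite ι] (Δ : Set ι) (hΔ : RootD.IsSimpleSys P Δ) (R' : Set ι)
    (hc : RootD.IsClosedSub P R') (hs : RootD.IsSymmSub P R') (hc' : RootD.IsClosedSub P R'ᶜ)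
    (hs' : RootD.IsSymmSub P R'ᶜ) :
    R' = RootD.inSpan P (Δ ∩ R') ∧ R'ᶜ = RootD.inSpan P (Δ \ R') ∧
      ∀ i ∈ Δ ∩ R', ∀ j ∈ Δ \ R', P.IsOrthogonal i j := by
  have h1 : R' ⊆ RootD.inSpan P (Δ ∩ R') := by
    intro k hk
    apply mem_inSpan_of_support hΔ
    intro δ hδ
    exact ⟨δ.2, support_subset_of_partition hΔ R' hc hs hc' hs' k hk δ hδ⟩
  have h2 : R'ᶜ ⊆ RootD.inSpan P (Δ \ R') := by
    intro k hk
    apply mem_inSpan_of_support hΔ
    intro δ hδ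
    refine ⟨δ.2, ?_⟩
    have hc'' : RootD.IsClosedSub P R'ᶜᶜ := by rwa [compl_compl]
    have hs'' : RootD.IsSymmSub P R'ᶜᶜ := by rwa [compl_compl]
    exact support_subset_of_partition hΔ R'ᶜ hc' hs' hc'' hs'' k hk δ hδ
  have hdisj : ∀ k, ¬ (k ∈ RootD.inSpan P (Δ ∩ R') ∧ k ∈ RootD.inSpan P (Δ \ R')) :=
    not_mem_inSpan_both hΔ (Δ ∩ R') (Δ \ R') Set.inter_subset_left Set.diff_subset
      (Set.disjoint_left.mpr fun x hx hx' => hx'.2 hx.2)
  refine ⟨?_, ?_, ?_⟩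
  · apply Set.Subset.antisymm h1
    intro k hk
    by_contra hkR
    exact hdisj k ⟨hk, h2 hkR⟩
  · apply Set.Subset.antisymm h2
    intro k hk hkR
    exact hdisj k ⟨h1 hkR, hk⟩
  · intro i hi j hj
    by_contra hij
    exact hj.2 (Groth.Agent.S5505.result P R' hc hs hc' hs' i j hi.2 hij)

end Aux5482

namespace Groth.Agent.S5482

/-- If the roots are partitioned into two closed symmetric subsets R', R'', then with Δ' = Δ ∩ R', Δ'' =
Δ ∩ R'' for a system of simple roots Δ one has R' = R_{Δ'}, R'' = R_{Δ''}, and Δ' is orthogonal to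
Δ''. -/
theorem result {ι M N : Type*} [AddCommGroup M] [AddCommGroup N]
    (P : RootPairing ι ℤ M N) [Finite ι] (Δ : Set ι) (hΔ : RootD.IsSimpleSys P Δ) (R' : Set ι)
    (hc : RootD.IsClosedSub P R') (hs : RootD.IsSymmSub P R') (hc' : RootD.IsClosedSub P R'ᶜ)
    (hs' : RootD.IsSymmSub P R'ᶜ) :
    R' = RootD.inSpan P (Δ ∩ R') ∧ R'ᶜ = RootD.inSpan P (Δ \ R') ∧
      ∀ i ∈ Δ ∩ R', ∀ j ∈ Δ \ R', P.IsOrthogonal i j := by
  exact Aux5482.main P Δ hΔ R' hc hs hc' hs'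

end Groth.Agent.S5482
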