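import Mathlib
import Groth.Statements.S5483
import Groth.Agent.Lib.Helper29.RootDPart
import Groth.Agent.S5486

set_option autoImplicit false
open RootD

open Groth.Agent.Lib.Helper29.RootDBasic Groth.Agent.Lib.Helper29.RootDPart
open Groth.Agent.Lib.Helper2.RootD
namespace Aux5483
variable {ι M N : Type*} [AddCommGroup M] [AddCommGroup N] {P : RootPairing ι ℤ M N}
  {Δ : Set ι} (hΔ : RootD.IsSimpleSys P Δ)
include hΔ

theorem contra [Finite ι] (j : ι) (hj : j ∈ RootD.posOf P Δ) (δ₀ : Δ) (h0 : coef hΔ j δ₀ = 0)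
    (horth : ∀ δ : Δ, coef hΔ j δ ≠ 0 → P.pairing δ δ₀ = 0)
    (hsum : P.root j + P.root δ₀ ∈ Set.range P.root) : False := by
  classical
  have hp : P.pairing j δ₀ = 0 := by
    have h1 := congrArg (fun x => P.toLinearMap x (P.coroot δ₀)) (root_eq_sum hΔ j)
    simp only [P.root_coroot_eq_pairing, Finsupp.sum, map_sum, LinearMap.sum_apply,
      map_smul, LinearMap.smul_apply, smul_eq_mul] at h1
    rw [h1]
    apply Finset.sum_eq_zero
    intro δ hδ
    rw [horth δ (Finsupp.mem_support_iff.mp hδ), mul_zero]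
  have horth' : P.IsOrthogonal j δ₀ := (isOrthogonal_iff P j δ₀).mpr hp
  obtain ⟨k'', hk''⟩ := (Groth.Agent.S5486.result P j δ₀ horth').mp hsum
  have hcoef : coef hΔ k'' = coef hΔ j - Finsupp.single δ₀ 1 := by
    rw [coef_sub hΔ hk'', coef_of_mem]
  have hneg : coef hΔ k'' δ₀ = -1 := by
    rw [hcoef, Finsupp.sub_apply, h0, Finsupp.single_eq_same]; ring
  obtain ⟨δ₁, hδ₁⟩ : ∃ δ₁, coef hΔ j δ₁ ≠ 0 := by
    by_contra hcon
    push Not at hcon
    exact coef_ne_zero hΔ j (Finsupp.ext hcon)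
  have hδ₁pos : 0 < coef hΔ j δ₁ :=
    lt_of_le_of_ne (coef_nonneg_of_mem_posOf hΔ hj δ₁) (Ne.symm hδ₁)
  have hne : δ₁ ≠ δ₀ := by rintro rfl; exact hδ₁ h0
  have hpos : coef hΔ k'' δ₁ = coef hΔ j δ₁ := by
    rw [hcoef, Finsupp.sub_apply, Finsupp.single_apply, if_neg hne.symm, sub_zero]
  rcases coef_nonneg_or_nonpos hΔ k'' with h | h
  · have := h δ₀; omega
  · have := h δ₁; omega

theorem pos_case [Finite ι] (Δ' : Set ι) (hsub : Δ' ⊆ Δ)
    (horth : ∀ i ∈ Δ', ∀ j ∈ Δ \ Δ', P.IsOrthogonal i j) :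
    ∀ (n : ℕ) (k : ι), k ∈ RootD.posOf P Δ → ht hΔ k ≤ n →
      (∀ δ : Δ, coef hΔ k δ ≠ 0 → (δ : ι) ∈ Δ') ∨ (∀ δ : Δ, coef hΔ k δ ≠ 0 → (δ : ι) ∉ Δ') := by
  classical
  intro n
  induction n with
  | zero =>
    intro k hk hht
    have := ht_pos_of_mem_posOf hΔ hk
    omega
  | succ n ih =>
    intro k hk hht
    by_cases hkΔ : k ∈ Δ
    · have h1 : coef hΔ k = Finsupp.single ⟨k, hkΔ⟩ 1 := coef_of_mem hΔ ⟨k, hkΔ⟩
      by_cases hk' : k ∈ Δ'
      · left
        intro δ hδ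
        rw [h1, Finsupp.single_apply] at hδ
        split_ifs at hδ with h
        · rw [← h]; exact hk'
        · exact absurd rfl hδ
      · right
        intro δ hδ
        rw [h1, Finsupp.single_apply] at hδ
        split_ifs at hδ with h
        · rw [← h]; exact hk'
        · exact absurd rfl hδ
    · obtain ⟨j, hj, δ₀, hδ₀, hsum⟩ := exists_decomp hΔ hk hkΔ
      have hht' : ht hΔ j ≤ n := by
        have h1 := ht_add hΔ hsum
        have h2 : ht hΔ δ₀ = 1 := ht_of_mem hΔ ⟨δ₀, hδ₀⟩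
        omega
      have hcoef : coef hΔ k = coef hΔ j + Finsupp.single ⟨δ₀, hδ₀⟩ 1 := by
        rw [coef_add hΔ hsum, coef_of_mem hΔ ⟨δ₀, hδ₀⟩]
      have hroot : P.root j + P.root (⟨δ₀, hδ₀⟩ : Δ) ∈ Set.range P.root := ⟨k, hsum⟩
      rcases ih j hj hht' with hA | hB
      · by_cases hd : δ₀ ∈ Δ'
        · left
          intro δ hδ
          rw [hcoef, Finsupp.add_apply, Finsupp.single_apply] at hδ
          by_cases hj0 : coef hΔ j δ = 0
          · rw [hj0, zero_add] at hδ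
            split_ifs at hδ with h2
            · rw [← h2]; exact hd
            · exact absurd rfl hδ
          · exact hA δ hj0
        · exfalso
          refine contra hΔ j hj ⟨δ₀, hδ₀⟩ ?_ ?_ hroot
          · by_contra h0
            exact hd (hA _ h0)
          · intro δ hδ
            exact (horth δ (hA δ hδ) δ₀ ⟨hδ₀, hd⟩).1
      · by_cases hd : δ₀ ∈ Δ'
        · exfalso
          refine contra hΔ j hj ⟨δ₀, hδ₀⟩ ?_ ?_ hroot
          · by_contra h0
            exact hB _ h0 hd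
          · intro δ hδ
            exact (horth δ₀ hd δ ⟨δ.2, hB δ hδ⟩).2
        · right
          intro δ hδ
          rw [hcoef, Finsupp.add_apply, Finsupp.single_apply] at hδ
          by_cases hj0 : coef hΔ j δ = 0
          · rw [hj0, zero_add] at hδ
            split_ifs at hδ with h2
            · rw [← h2]; exact hd
            · exact absurd rfl hδ
          · exact hB δ hj0

theorem main [Finite ι] (Δ' : Set ι)
    (hsub : Δ' ⊆ Δ) (horth : ∀ i ∈ Δ', ∀ j ∈ Δ \ Δ', P.IsOrthogonal i j) (k : ι) :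
    (k ∈ RootD.inSpan P Δ' ∨ k ∈ RootD.inSpan P (Δ \ Δ')) ∧
      ¬ (k ∈ RootD.inSpan P Δ' ∧ k ∈ RootD.inSpan P (Δ \ Δ')) := by
  refine ⟨?_, not_mem_inSpan_both hΔ Δ' (Δ \ Δ') hsub Set.diff_subset
    (Set.disjoint_left.mpr fun x hx hx' => hx'.2 hx) k⟩
  have key : ∀ k, k ∈ RootD.posOf P Δ → (k ∈ RootD.inSpan P Δ' ∨ k ∈ RootD.inSpan P (Δ \ Δ')) := by
    intro k hk
    rcases pos_case hΔ Δ' hsub horth (ht hΔ k).toNat k hk (by omega) with h | h
    · exact Or.inl (mem_inSpan_of_support hΔ Δ' k h)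
    · exact Or.inr (mem_inSpan_of_support hΔ (Δ \ Δ') k fun δ hδ => ⟨δ.2, h δ hδ⟩)
  rcases mem_posOf_or_neg hΔ k with hk | hk
  · exact key k hk
  · have hneg : ∀ S : Set ι, P.reflectionPerm k k ∈ RootD.inSpan P S → k ∈ RootD.inSpan P S := by
      intro S hS
      change P.root (P.reflectionPerm k k) ∈ Submodule.span ℤ (P.root '' S) at hS
      rw [Groth.Agent.Lib.Helper29.RootDBasic.root_neg] at hS
      exact (Submodule.neg_mem_iff _).mp hS
    rcases key _ hk with h | h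
    · exact Or.inl (hneg _ h)
    · exact Or.inr (hneg _ h)

end Aux5483

namespace Groth.Agent.S5483

/-- If a system of simple roots Δ is the disjoint union of two mutually orthogonal subsets Δ', Δ'', then
R_{Δ'} and R_{Δ''} partition the set of roots. -/
theorem result {ι M N : Type*} [AddCommGroup M] [AddCommGroup N]
    (P : RootPairing ι ℤ M N) [Finite ι] (Δ Δ' : Set ι) (hΔ : RootD.IsSimpleSys P Δ)
    (hsub : Δ' ⊆ Δ) (horth : ∀ i ∈ Δ', ∀ j ∈ Δ \ Δ', P.IsOrthogonal i j) (k : ι) :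
    (k ∈ RootD.inSpan P Δ' ∨ k ∈ RootD.inSpan P (Δ \ Δ')) ∧
      ¬ (k ∈ RootD.inSpan P Δ' ∧ k ∈ RootD.inSpan P (Δ \ Δ')) := by
  exact Aux5483.main hΔ Δ' hsub horth k

end Groth.Agent.S5483
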