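import Mathlib
import Groth.Statements.S5484


set_option autoImplicit false
open RootD

namespace Aux5484
open Matrix
variable {ι M N : Type*} [AddCommGroup M] [AddCommGroup N] (P : RootPairing ι ℤ M N)

theorem rootForm_comm [Fintype ι] (x y : M) : P.RootForm x y = P.RootForm y x := by
  have := P.rootForm_symmetric.eq x y
  simpa using this

theorem rootForm_root_self_pos [Fintype ι] (a : ι) : 0 < P.RootForm (P.root a) (P.root a) := by
  apply P.rootForm_pos_of_ne_zero (Submodule.subset_span ⟨a, rfl⟩) (P.ne_zero a)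

theorem entry_eq [Fintype ι] (a b : ι) :
    P.RootForm (P.root a) (P.root a) * P.pairing b a = 2 * P.RootForm (P.root a) (P.root b) := by
  have h := P.toInvariantForm.two_mul_apply_root_root b a
  simp only [RootPairing.toInvariantForm_form] at h
  rw [rootForm_comm P (P.root a) (P.root b), h]; ring

/-- the pairing matrix `Δ' × ι` -/
def Pm (Δ' : Finset ι) : Matrix ↥Δ' ι ℤ := Matrix.of fun a i => P.pairing (a : ι) i

theorem gram_eq [Fintype ι] (Δ' : Finset ι) (a b : ↥Δ') :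
    (Pm P Δ' * (Pm P Δ')ᵀ) a b = P.RootForm (P.root a) (P.root b) := by
  rw [Matrix.mul_apply, P.rootForm_apply_apply]
  refine Finset.sum_congr rfl fun i _ => ?_
  simp [Pm, P.root_coroot'_eq_pairing]

theorem gram_det_ne_zero [Fintype ι] (Δ' : Finset ι) [DecidableEq ↥Δ'] (hli : LinearIndepOn ℤ P.root (↑Δ' : Set ι)) :
    (Pm P Δ' * (Pm P Δ')ᵀ).det ≠ 0 := by
  intro hdet
  obtain ⟨x, hx, hGx⟩ := Matrix.exists_mulVec_eq_zero_iff.mpr hdet
  set v : M := ∑ a : ↥Δ', x a • P.root a with hv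
  have hvne : v ≠ 0 := by
    intro h0
    have hli' : LinearIndependent ℤ (fun a : ↥Δ' => P.root a) := hli
    have := Fintype.linearIndependent_iff.mp hli' x h0
    exact hx (funext this)
  have hvmem : v ∈ P.rootSpan ℤ := by
    apply Submodule.sum_mem
    intro a _
    exact Submodule.smul_mem _ _ (Submodule.subset_span ⟨a, rfl⟩)
  have hpos := P.rootForm_pos_of_ne_zero hvmem hvne
  have hexp : x ⬝ᵥ ((Pm P Δ' * (Pm P Δ')ᵀ) *ᵥ x) = P.RootForm v v := by
    simp only [dotProduct, Matrix.mulVec, gram_eq]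
    rw [hv]
    simp only [map_sum, LinearMap.sum_apply, map_smul, LinearMap.smul_apply, smul_eq_mul,
      Finset.mul_sum]
    refine Finset.sum_congr rfl fun a _ => ?_
    refine Finset.sum_congr rfl fun b _ => ?_
    rw [rootForm_comm P (P.root b) (P.root a)]
    ring
  rw [hGx] at hexp
  simp at hexp
  omega

theorem gram_det_pos [Fintype ι] (Δ' : Finset ι) [DecidableEq ↥Δ'] (hli : LinearIndepOn ℤ P.root (↑Δ' : Set ι)) :
    0 < (Pm P Δ' * (Pm P Δ')ᵀ).det := by
  have hne := gram_det_ne_zero P Δ' hli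
  have hpsd : ((Pm P Δ').map (Int.cast : ℤ → ℝ) * ((Pm P Δ').map (Int.cast : ℤ → ℝ))ᴴ).PosSemidef :=
    Matrix.posSemidef_self_mul_conjTranspose _
  have h0 := hpsd.det_nonneg
  have hcast : ((Pm P Δ').map (Int.cast : ℤ → ℝ) * ((Pm P Δ').map (Int.cast : ℤ → ℝ))ᴴ) =
      (Pm P Δ' * (Pm P Δ')ᵀ).map (Int.cast : ℤ → ℝ) := by
    ext a b
    simp [Matrix.mul_apply, Matrix.map_apply]
  rw [hcast] at h0
  have hdet : ((Pm P Δ' * (Pm P Δ')ᵀ).map (Int.cast : ℤ → ℝ)).det = (((Pm P Δ' * (Pm P Δ')ᵀ).det : ℤ) : ℝ) := by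
    have := (Int.castRingHom ℝ).map_det (Pm P Δ' * (Pm P Δ')ᵀ)
    simpa using this.symm
  rw [hdet] at h0
  have h1 : 0 ≤ (Pm P Δ' * (Pm P Δ')ᵀ).det := by exact_mod_cast h0
  omega

theorem main [Finite ι] (Δ : Finset ι) (hΔ : RootD.IsSimpleSys P (↑Δ : Set ι))
    (Δ' : Finset ι) (hsub : Δ' ⊆ Δ) [DecidableEq ↥Δ'] :
    0 < Matrix.det (Matrix.of fun (a b : ↥Δ') => P.pairing (b : ι) (a : ι)) := by
  have : Fintype ι := Fintype.ofFinite ι
  have hli : LinearIndepOn ℤ P.root (↑Δ' : Set ι) := hΔ.linInd.mono (by exact_mod_cast hsub)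
  have hG := gram_det_pos P Δ' hli
  -- 2 G = D A
  have hmat : (2 : ℤ) • (Pm P Δ' * (Pm P Δ')ᵀ) =
      Matrix.diagonal (fun a : ↥Δ' => P.RootForm (P.root a) (P.root a)) *
        (Matrix.of fun (a b : ↥Δ') => P.pairing (b : ι) (a : ι)) := by
    ext a b
    rw [Matrix.smul_apply, gram_eq, Matrix.diagonal_mul, Matrix.of_apply, entry_eq]
    simp
  have hdet := congrArg Matrix.det hmat
  rw [Matrix.det_smul, Matrix.det_mul, Matrix.det_diagonal] at hdet
  have hprod : 0 < ∏ a : ↥Δ', P.RootForm (P.root a) (P.root a) :=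
    Finset.prod_pos fun a _ => rootForm_root_self_pos P a
  have hlhs : 0 < (2 : ℤ) ^ Fintype.card ↥Δ' * (Pm P Δ' * (Pm P Δ')ᵀ).det := mul_pos (by positivity) hG
  rw [hdet] at hlhs
  exact (mul_pos_iff_of_pos_left hprod).mp hlhs

end Aux5484

namespace Groth.Agent.S5484

open Classical in
/-- Every principal minor of the Cartan matrix (a_{α,β} = (α^v, β), α, β simple) is strictly positive. -/
theorem result {ι M N : Type*} [AddCommGroup M] [AddCommGroup N]
    (P : RootPairing ι ℤ M N) [Finite ι] (Δ : Finset ι) (hΔ : RootD.IsSimpleSys P (↑Δ : Set ι))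
    (Δ' : Finset ι) (hsub : Δ' ⊆ Δ) :
    0 < Matrix.det (Matrix.of fun (a b : ↥Δ') => P.pairing (b : ι) (a : ι)) := by
  exact Aux5484.main P Δ hΔ Δ' hsub

end Groth.Agent.S5484
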