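import Mathlib
import Groth.Statements.S5485
import Groth.Agent.Lib.Helper2.RootD.Weyl

set_option autoImplicit false
open RootD

namespace Aux5485
open RootD Groth.Agent.Lib.Helper2.RootD

variable {ι M N : Type*} [AddCommGroup M] [AddCommGroup N]

theorem linIndep_of_map {κ : Type*} (v : κ → M) (w : κ → N) (c : κ → ℤ) (hc : ∀ i, c i ≠ 0)
    (T : N →ₗ[ℤ] M) (hT : ∀ i, T (w i) = c i • v i) (hv : LinearIndependent ℤ v) :
    LinearIndependent ℤ w := by
  rw [linearIndependent_iff'] at hv ⊢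
  intro t g hg i hi
  have h1 : ∑ i ∈ t, (g i * c i) • v i = 0 := by
    have := congrArg T hg
    rw [map_sum, map_zero] at this
    rw [← this]
    apply Finset.sum_congr rfl
    intro j _
    rw [map_zsmul, hT, smul_smul]
  have h2 := hv t (fun i => g i * c i) h1 i hi
  exact (mul_eq_zero.mp h2).resolve_right (hc i)

variable (P : RootPairing ι ℤ M N) [Finite ι]

/-- the set ind(Δ^v) -/
def indSet (Δ : Set ι) : Set ι :=
  {j : ι | ∃ i ∈ Δ, (j = i ∧ RootD.IsIndiv P.flip i) ∨ (2 : ℤ) • P.coroot j = P.coroot i}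

theorem corootForm_pos [Fintype ι] (i : ι) : 0 < P.CorootForm (P.coroot i) (P.coroot i) :=
  P.flip.rootForm_pos_of_ne_zero (Submodule.subset_span ⟨i, rfl⟩) (P.flip.ne_zero i)

theorem linIndep_coroot {Δ : Set ι} (hΔ : IsSimpleSys P Δ) :
    LinearIndependent ℤ (fun δ : Δ => P.coroot (δ : ι)) := by
  classical
  let _ := Fintype.ofFinite ι
  apply linIndep_of_map (fun δ : Δ => P.root (δ : ι)) (fun δ : Δ => P.coroot (δ : ι))
    (fun δ => P.CorootForm (P.coroot δ) (P.coroot δ)) (fun δ => (corootForm_pos P δ).ne')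
    ((2 : ℕ) • P.CoPolarization)
  · intro δ
    rw [LinearMap.smul_apply]
    exact (P.corootForm_self_smul_root δ).symm
  · exact hΔ.linInd

theorem linIndep_indSet {Δ : Set ι} (hΔ : IsSimpleSys P Δ) :
    LinearIndepOn ℤ P.coroot (indSet P Δ) := by
  have hN := isAddTorsionFree' P
  have hex : ∀ j : indSet P Δ, ∃ (i : Δ) (e : ℤ), e ≠ 0 ∧
      (2 : ℤ) • P.coroot (j : ι) = e • P.coroot (i : ι) ∧
      (((j : ι) = i ∧ RootD.IsIndiv P.flip i) ∨ (2 : ℤ) • P.coroot (j : ι) = P.coroot i) := by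
    rintro ⟨j, i, hi, h⟩
    rcases h with ⟨rfl, hind⟩ | h
    · exact ⟨⟨j, hi⟩, 2, two_ne_zero, rfl, Or.inl ⟨rfl, hind⟩⟩
    · exact ⟨⟨i, hi⟩, 1, one_ne_zero, by rw [one_smul]; exact h, Or.inr h⟩
  choose d e he hde hd using hex
  have hdinj : Function.Injective d := by
    intro j j' hjj
    have h1 := hd j
    have h2 := hd j'
    rw [hjj] at h1
    apply Subtype.ext
    rcases h1 with ⟨h1, hind⟩ | h1 <;> rcases h2 with ⟨h2, hind'⟩ | h2
    · rw [h1, h2]
    · exact absurd h2 (hind j')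
    · exact absurd h1 (hind' j)
    · apply P.coroot.injective
      have : (2 : ℤ) • P.coroot (j : ι) = (2 : ℤ) • P.coroot (j' : ι) := h1.trans h2.symm
      exact zsmul_right_injective two_ne_zero this
  have hv : LinearIndependent ℤ (fun j : indSet P Δ => P.coroot ((d j : Δ) : ι)) :=
    (linIndep_coroot P hΔ).comp d hdinj
  exact linIndep_of_map (fun j : indSet P Δ => P.coroot ((d j : Δ) : ι))
    (fun j : indSet P Δ => P.coroot (j : ι)) e he ((2 : ℤ) • LinearMap.id)
    (fun j => by rw [LinearMap.smul_apply, LinearMap.id_apply]; exact hde j) hv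

theorem coroot_simple_mem {Δ : Set ι} {k : ι} (hk : k ∈ Δ) :
    P.coroot k ∈ AddSubmonoid.closure (P.coroot '' indSet P Δ) := by
  by_cases hind : RootD.IsIndiv P.flip k
  · exact AddSubmonoid.subset_closure ⟨k, ⟨k, hk, Or.inl ⟨rfl, hind⟩⟩, rfl⟩
  · unfold RootD.IsIndiv at hind
    push Not at hind
    obtain ⟨j, hj⟩ := hind
    have hj' : (2 : ℤ) • P.coroot j = P.coroot k := hj
    have hjmem : P.coroot j ∈ AddSubmonoid.closure (P.coroot '' indSet P Δ) :=
      AddSubmonoid.subset_closure ⟨j, ⟨k, hk, Or.inr hj'⟩, rfl⟩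
    rw [← hj', two_smul]
    exact add_mem hjmem hjmem

theorem ht_reflectionPerm {Δ : Set ι} (hΔ : IsSimpleSys P Δ) (δ : Δ) (k : ι) :
    ht hΔ (P.reflectionPerm δ k) = ht hΔ k - P.pairing k δ := by
  have h1 := ht_of_mem hΔ δ
  unfold ht at h1 ⊢
  rw [coef_reflectionPerm, map_sub, map_smul, h1, smul_eq_mul, mul_one]

theorem coroot_mem {Δ : Set ι} (hΔ : IsSimpleSys P Δ) :
    ∀ n : ℕ, ∀ k ∈ posOf P Δ, ht hΔ k ≤ n →
      P.coroot k ∈ AddSubmonoid.closure (P.coroot '' indSet P Δ) := by
  have hN := isAddTorsionFree' P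
  intro n
  induction n with
  | zero =>
    intro k hk h
    have := ht_pos_of_mem_posOf hΔ hk
    omega
  | succ n ih =>
    intro k hk hht
    by_cases hkΔ : k ∈ Δ
    · exact coroot_simple_mem P hkΔ
    · obtain ⟨δ, hc, hp⟩ := exists_simple_pairing_pos hΔ hk
      by_cases hli : LinearIndependent ℤ ![P.root k, P.root δ]
      · have hj := reflectionPerm_mem_posOf hΔ hk δ.2 hli
        have hjht : ht hΔ (P.reflectionPerm δ k) ≤ n := by
          rw [ht_reflectionPerm]
          push_cast at hht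
          omega
        have h1 := ih _ hj hjht
        have h2 := P.reflectionPerm_coroot δ k
        rw [P.root_coroot_eq_pairing] at h2
        have hp' : 0 < P.pairing δ k := by
          have h3 := (P.zero_lt_pairingIn_iff' (S := ℤ) (i := k) (j := δ)).mp
            (by rw [pairingIn_int]; exact hp)
          rwa [pairingIn_int] at h3
        have h4 : P.coroot k = P.coroot (P.reflectionPerm δ k) +
            (P.pairing δ k).toNat • P.coroot δ := by
          rw [← h2, ← natCast_zsmul, Int.toNat_of_nonneg hp'.le]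
          abel
        rw [h4]
        exact add_mem h1 (nsmul_mem (coroot_simple_mem P δ.2) _)
      · rcases eq_or_eq_two_smul_of_not_linearIndependent hΔ hk δ.2 hli with h1 | h1
        · exact absurd (h1 ▸ δ.2) hkΔ
        · have h2 : (2 : ℤ) • P.coroot k = P.coroot δ :=
            RootPairing.smul_coroot_eq_of_root_eq_smul (δ : ι) k 2 h1
          exact AddSubmonoid.subset_closure ⟨k, ⟨δ, δ.2, Or.inr h2⟩, rfl⟩

theorem main (Δ : Set ι) (hΔ : RootD.IsSimpleSys P Δ) :
    RootD.IsSimpleSys P.flip {j : ι | ∃ i ∈ Δ, (j = i ∧ RootD.IsIndiv P.flip i) ∨ (2 : ℤ) • P.coroot j = P.coroot i} := by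
  refine ⟨linIndep_indSet P hΔ, ?_⟩
  intro k
  rcases mem_posOf_or_neg hΔ k with h | h
  · left
    obtain ⟨n, hn⟩ : ∃ n : ℕ, ht hΔ k ≤ n := ⟨(ht hΔ k).toNat, Int.self_le_toNat _⟩
    exact coroot_mem P hΔ n k h hn
  · right
    obtain ⟨n, hn⟩ : ∃ n : ℕ, ht hΔ (P.reflectionPerm k k) ≤ n :=
      ⟨(ht hΔ (P.reflectionPerm k k)).toNat, Int.self_le_toNat _⟩
    have := coroot_mem P hΔ n _ h hn
    have e : P.coroot (P.reflectionPerm k k) = - P.coroot k := by
      have := P.flip.root_reflectionPerm k k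
      rw [P.flip.reflection_apply_self] at this
      exact this
    rw [e] at this
    exact this

end Aux5485
namespace Groth.Agent.S5485

/-- If Δ is a system of simple roots then ind(Δ^v), the set of coroots of Δ with each divisible coroot
replaced by its half, is a system of simple coroots (a system of simple roots of the dual datum). -/
theorem result {ι M N : Type*} [AddCommGroup M] [AddCommGroup N]
    (P : RootPairing ι ℤ M N) [Finite ι] (Δ : Set ι) (hΔ : RootD.IsSimpleSys P Δ) :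
    RootD.IsSimpleSys P.flip {j : ι | ∃ i ∈ Δ, (j = i ∧ RootD.IsIndiv P.flip i) ∨ (2 : ℤ) • P.coroot j = P.coroot i} := by
  exact Aux5485.main P Δ hΔ

end Groth.Agent.S5485
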