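import Mathlib
import Groth.Statements.S5487


set_option autoImplicit false
open RootD

namespace Aux5487

theorem main {ι M N : Type*} [AddCommGroup M] [AddCommGroup N]
    (P : RootPairing ι ℤ M N) [Finite ι] [Fintype ι] (i j : ι) (h : ¬ P.IsOrthogonal i j) :
    P.RootForm (P.root i) (P.root i) * P.CorootForm (P.coroot i) (P.coroot i) =
      P.RootForm (P.root j) (P.root j) * P.CorootForm (P.coroot j) (P.coroot j) := by
  have h1 := P.toInvariantForm.pairing_mul_eq_pairing_mul_swap i j
  have h2 := P.flip.toInvariantForm.pairing_mul_eq_pairing_mul_swap i j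
  simp only [RootPairing.toInvariantForm_form, RootPairing.pairing_flip] at h1 h2
  change P.pairing i j * P.CorootForm (P.coroot i) (P.coroot i) =
    P.pairing j i * P.CorootForm (P.coroot j) (P.coroot j) at h2
  have hij : P.pairing i j ≠ 0 := fun h0 => h ⟨h0, P.pairing_eq_zero_iff'.mp h0⟩
  have hji : P.pairing j i ≠ 0 := fun h0 => hij (P.pairing_eq_zero_iff'.mp h0)
  have h3 : (P.pairing i j * P.pairing j i) * (P.RootForm (P.root i) (P.root i) * P.CorootForm (P.coroot i) (P.coroot i)) =
      (P.pairing i j * P.pairing j i) * (P.RootForm (P.root j) (P.root j) * P.CorootForm (P.coroot j) (P.coroot j)) := by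
    calc _ = (P.pairing j i * P.RootForm (P.root i) (P.root i)) * (P.pairing i j * P.CorootForm (P.coroot i) (P.coroot i)) := by ring
      _ = (P.pairing i j * P.RootForm (P.root j) (P.root j)) * (P.pairing j i * P.CorootForm (P.coroot j) (P.coroot j)) := by rw [h1, h2]
      _ = _ := by ring
  exact mul_left_cancel₀ (mul_ne_zero hij hji) h3

end Aux5487

namespace Groth.Agent.S5487

/-- For non-orthogonal roots α, β one has ℓ(α) ℓ(α^v) = ℓ(β) ℓ(β^v), where ℓ is the canonical quadratic
form of the datum and of its dual. -/
theorem result {ι M N : Type*} [AddCommGroup M] [AddCommGroup N]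
    (P : RootPairing ι ℤ M N) [Finite ι] [Fintype ι] (i j : ι) (h : ¬ P.IsOrthogonal i j) :
    P.RootForm (P.root i) (P.root i) * P.CorootForm (P.coroot i) (P.coroot i) =
      P.RootForm (P.root j) (P.root j) * P.CorootForm (P.coroot j) (P.coroot j) := by
  exact Aux5487.main P i j h

end Groth.Agent.S5487
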