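import Mathlib
import Groth.Statements.S5491


set_option autoImplicit false
open RootD

namespace Aux5491
open RootPairing

variable {ι M N : Type*} [AddCommGroup M] [AddCommGroup N]

open Classical in
theorem simple_sum (P : RootPairing ι ℤ M N) [Finite ι] [Fintype ι] [P.IsReduced] (b : P.Base)
    (j : ι) (hj : j ∈ b.support) :
    (∑ k, if b.IsPos k then P.pairing j k else 0) = 2 := by
  have hjpos : b.IsPos j := b.isPos_of_mem_support hj
  set σ := P.reflectionPerm j with hσ
  set T : Finset ι := Finset.univ.filter (fun k => b.IsPos k ∧ k ≠ j) with hTdef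
  have hsum : (∑ k, if b.IsPos k then P.pairing j k else 0) =
      P.pairing j j + ∑ k ∈ T, P.pairing j k := by
    rw [← Finset.sum_filter]
    have : Finset.univ.filter (fun k => b.IsPos k) = insert j T := by
      ext k
      simp only [hTdef, Finset.mem_filter, Finset.mem_univ, true_and, Finset.mem_insert]
      constructor
      · intro h
        by_cases hk : k = j
        · exact Or.inl hk
        · exact Or.inr ⟨h, hk⟩
      · rintro (rfl | h)
        · exact hjpos
        · exact h.1
    rw [this, Finset.sum_insert (by simp [hTdef])]
  have hT : ∀ k, k ∈ T → σ k ∈ T := by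
    intro k hk
    simp only [hTdef, Finset.mem_filter, Finset.mem_univ, true_and] at hk ⊢
    refine ⟨hk.1.reflectionPerm hj hk.2, ?_⟩
    intro h
    have hk' : k = σ j := by
      rw [← h]
      exact (P.reflectionPerm_self j k).symm
    have h3 : b.height k = - b.height j := by
      rw [hk']
      exact b.height_reflectionPerm_self j
    have h1 := hk.1
    rw [Base.isPos_iff] at h1
    have h2 := hjpos
    rw [Base.isPos_iff] at h2
    omega
  have hinv : ∑ k ∈ T, P.pairing j (σ k) = ∑ k ∈ T, P.pairing j k := by
    apply Finset.sum_equiv σ
    · intro k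
      constructor
      · exact hT k
      · intro h
        have := hT _ h
        rwa [hσ, P.reflectionPerm_self] at this
    · intro k _
      rfl
  have hneg : ∀ k, P.pairing j (σ k) = - P.pairing j k := by
    intro k
    rw [hσ, P.pairing_reflectionPerm, P.pairing_reflectionPerm_self_left]
  simp only [hneg, Finset.sum_neg_distrib] at hinv
  rw [hsum, P.pairing_same]
  omega

open Classical in
theorem main (P : RootPairing ι ℤ M N) [Finite ι] [Fintype ι] [P.IsReduced] (b : P.Base) (i : ι) :
    2 * b.height i = ∑ j, if b.IsPos j then P.pairing i j else 0 := by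
  obtain ⟨f, -, -, hf⟩ := b.exists_root_eq_sum_int i
  rw [Base.height_eq_sum hf]
  have hp : ∀ k, P.pairing i k = ∑ j ∈ b.support, f j * P.pairing j k := by
    intro k
    rw [← P.root_coroot_eq_pairing, hf, map_sum, LinearMap.sum_apply]
    apply Finset.sum_congr rfl
    intro j _
    rw [map_zsmul, LinearMap.smul_apply, P.root_coroot_eq_pairing, smul_eq_mul]
  have h2 : ∀ k, (if b.IsPos k then P.pairing i k else 0) =
      ∑ j ∈ b.support, f j * (if b.IsPos k then P.pairing j k else 0) := by
    intro k
    split_ifs
    · exact hp k
    · simp
  simp_rw [h2]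
  rw [Finset.sum_comm]
  simp_rw [← Finset.mul_sum]
  rw [Finset.mul_sum]
  apply Finset.sum_congr rfl
  intro j hj
  rw [simple_sum P b j hj]
  ring

end Aux5491
namespace Groth.Agent.S5491

open Classical in
/-- With ρ^v the half-sum of the positive coroots, the order (height) of any root α relative to the
simple system equals (ρ^v, α); equivalently 2·height(α) = Σ_{β > 0} (β^v, α). -/
theorem result {ι M N : Type*} [AddCommGroup M] [AddCommGroup N]
    (P : RootPairing ι ℤ M N) [Finite ι] [Fintype ι] [P.IsReduced] (b : P.Base) (i : ι) :
    2 * b.height i = ∑ j, if b.IsPos j then P.pairing i j else 0 := by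
  exact Aux5491.main P b i

end Groth.Agent.S5491
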