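import Mathlib
import Groth.Statements.S5493


set_option autoImplicit false
open RootD

namespace Aux5493
open Set Module

variable {ι M N ι' M' N' : Type*} [AddCommGroup M] [AddCommGroup N] [AddCommGroup M'] [AddCommGroup N']

/-- basis of simple roots in the adjoint case -/
noncomputable def bas (P : RootPairing ι ℤ M N) (had : Submodule.span ℤ (Set.range P.root) = ⊤)
    (b : P.Base) : Module.Basis b.support ℤ M :=
  Module.Basis.mk b.linearIndepOn_root (by
    change ⊤ ≤ Submodule.span ℤ (Set.range (P.root ∘ ((↑) : b.support → ι)))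
    simp [Set.range_comp, had])

@[simp] theorem bas_apply (P : RootPairing ι ℤ M N) (had : Submodule.span ℤ (Set.range P.root) = ⊤)
    (b : P.Base) (i : b.support) : bas P had b i = P.root i := by
  simp [bas]

theorem root_neg (P : RootPairing ι ℤ M N) (i : ι) : P.root (P.reflectionPerm i i) = -P.root i := by
  rw [P.root_reflectionPerm, P.reflection_apply_self]

theorem apply_mem_range (P : RootPairing ι ℤ M N) (P' : RootPairing ι' ℤ M' N') [Finite ι] [P.IsReduced]
    (had : Submodule.span ℤ (Set.range P.root) = ⊤)
    (b : P.Base) (b' : P'.Base) (u : b.support ≃ b'.support)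
    (hu : ∀ i j : b.support, P.pairing (i : ι) (j : ι) = P'.pairing (u i : ι') (u j : ι'))
    (f : M ≃ₗ[ℤ] M') (hf : ∀ i : b.support, f (P.root i) = P'.root (u i)) (i : ι) :
    f (P.root i) ∈ Set.range P'.root := by
  have key : ∀ (k : b.support) (m : M), f (P.reflection k m) = P'.reflection (u k) (f m) := by
    intro k
    have : (f.toLinearMap ∘ₗ (P.reflection k).toLinearMap) =
        ((P'.reflection (u k)).toLinearMap ∘ₗ f.toLinearMap) := by
      apply (bas P had b).ext
      intro j
      simp only [LinearMap.comp_apply, LinearEquiv.coe_coe, bas_apply]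
      rw [P.reflection_apply_root, map_sub, map_zsmul, hf, hf, P'.reflection_apply_root, hu]
    intro m
    exact LinearMap.congr_fun this m
  apply b.induction_reflect i (p := fun i => f (P.root i) ∈ Set.range P'.root)
  · rintro j ⟨k, hk⟩
    refine ⟨P'.reflectionPerm k k, ?_⟩
    rw [root_neg, root_neg, map_neg, hk]
  · intro j hj
    exact ⟨u ⟨j, hj⟩, (hf ⟨j, hj⟩).symm⟩
  · rintro j k ⟨l, hl⟩ hk
    refine ⟨P'.reflectionPerm (u ⟨k, hk⟩) l, ?_⟩
    rw [P.root_reflectionPerm, key ⟨k, hk⟩, ← hl, P'.root_reflectionPerm]

theorem exists_equiv (P : RootPairing ι ℤ M N) (P' : RootPairing ι' ℤ M' N') [Finite ι] [Finite ι']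
    [P.IsReduced] [P'.IsReduced]
    (had : Submodule.span ℤ (Set.range P.root) = ⊤) (had' : Submodule.span ℤ (Set.range P'.root) = ⊤)
    (b : P.Base) (b' : P'.Base) (u : b.support ≃ b'.support)
    (hu : ∀ i j : b.support, P.pairing (i : ι) (j : ι) = P'.pairing (u i : ι') (u j : ι'))
    (f : M ≃ₗ[ℤ] M') (hf : ∀ i : b.support, f (P.root i) = P'.root (u i)) :
    ∃ e : ι ≃ ι', ∀ i, f (P.root i) = P'.root (e i) := by
  have h1 := apply_mem_range P P' had b b' u hu f hf
  have hf' : ∀ i' : b'.support, f.symm (P'.root i') = P.root (u.symm i') := by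
    intro i'
    rw [LinearEquiv.symm_apply_eq, hf, Equiv.apply_symm_apply]
  have hu' : ∀ i j : b'.support, P'.pairing (i : ι') (j : ι') =
      P.pairing (u.symm i : ι) (u.symm j : ι) := by
    intro i j
    rw [hu, Equiv.apply_symm_apply, Equiv.apply_symm_apply]
  have h2 := apply_mem_range P' P had' b' b u.symm hu' f.symm hf'
  choose e₁ he₁ using h1
  choose e₂ he₂ using h2
  refine ⟨⟨e₁, e₂, ?_, ?_⟩, fun i => (he₁ i).symm⟩
  · intro i
    apply P.root.injective
    rw [he₂, he₁, LinearEquiv.symm_apply_apply]
  · intro i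
    apply P'.root.injective
    rw [he₁, he₂, LinearEquiv.apply_symm_apply]

noncomputable def mkEquiv (P : RootPairing ι ℤ M N) (P' : RootPairing ι' ℤ M' N') [Finite ι]
    (had : Submodule.span ℤ (Set.range P.root) = ⊤)
    (f : M ≃ₗ[ℤ] M') (e : ι ≃ ι') (hf : ∀ i, f (P.root i) = P'.root (e i)) :
    RootPairing.Equiv P P' where
  weightMap := f
  coweightMap := P'.flip.toPerfPair.trans (f.dualMap.trans P.flip.toPerfPair.symm)
  indexEquiv := e
  weight_coweight_transpose := by ext; simp
  root_weightMap := by ext; simp [hf]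
  coroot_coweightMap := by
    have : Module.IsReflexive ℤ M := .of_isPerfPair P.toLinearMap
    ext i'
    simp only [Function.comp_apply, LinearEquiv.coe_coe]
    rw [LinearEquiv.trans_apply, LinearEquiv.trans_apply, LinearEquiv.symm_apply_eq]
    apply Module.Dual.eq_of_preReflection_mapsTo (Set.finite_range P.root) had
      (x := P.root (e.symm i'))
    · simp [hf]
    · rintro - ⟨j, rfl⟩
      refine ⟨e.symm (P'.reflectionPerm i' (e j)), ?_⟩
      apply f.injective
      rw [hf, Equiv.apply_symm_apply, Module.preReflection_apply, map_sub, map_zsmul, hf, hf,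
        Equiv.apply_symm_apply, P'.root_reflectionPerm, P'.reflection_apply_root]
      simp [hf]
    · exact P.coroot_root_two (e.symm i')
    · exact P.mapsTo_reflection_root (e.symm i')
  bijective_weightMap := f.bijective
  bijective_coweightMap := LinearEquiv.bijective _

theorem main (P : RootPairing ι ℤ M N) (P' : RootPairing ι' ℤ M' N') [Finite ι] [Finite ι'] [P.IsReduced] [P'.IsReduced]
    (had : Submodule.span ℤ (Set.range P.root) = ⊤) (had' : Submodule.span ℤ (Set.range P'.root) = ⊤)
    (b : P.Base) (b' : P'.Base) (u : ↥b.support ≃ ↥b'.support)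
    (hu : ∀ i j : ↥b.support, P.pairing (i : ι) (j : ι) = P'.pairing (u i : ι') (u j : ι')) :
    ∃! e : RootPairing.Equiv P P', ∀ i : ↥b.support, e.indexEquiv (i : ι) = (u i : ι') := by
  set f : M ≃ₗ[ℤ] M' := (bas P had b).equiv (bas P' had' b') u with hfdef
  have hf : ∀ i : b.support, f (P.root i) = P'.root (u i) := by
    intro i
    have := Module.Basis.equiv_apply (bas P had b) i (bas P' had' b') u
    simpa using this
  obtain ⟨e, he⟩ := exists_equiv P P' had had' b b' u hu f hf
  refine ⟨mkEquiv P P' had f e he, ?_, ?_⟩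
  · intro i
    apply P'.root.injective
    change P'.root (e i) = _
    rw [← he, hf]
  · intro e₁ he₁
    have hw : e₁.weightMap = f.toLinearMap := by
      apply (bas P had b).ext
      intro i
      rw [bas_apply, LinearEquiv.coe_coe, hf, e₁.toHom.root_weightMap_apply, he₁]
    have hidx : e₁.indexEquiv = e := by
      ext j
      apply P'.root.injective
      rw [← he, ← e₁.toHom.root_weightMap_apply, hw]
      rfl
    have hco : e₁.coweightMap = (mkEquiv P P' had f e he).coweightMap := by
      apply LinearMap.ext
      intro n'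
      apply P.flip.toPerfPair.injective
      rw [← e₁.toHom.weight_coweight_transpose_apply,
        ← (mkEquiv P P' had f e he).toHom.weight_coweight_transpose_apply, hw]
      rfl
    apply RootPairing.Equiv.ext
    · exact hw
    · exact hco
    · exact hidx

end Aux5493
namespace Groth.Agent.S5493

/-- Adjoint case; the simply connected case is dual: two reduced adjoint root data with systems of
simple roots Δ, Δ' and a bijection u : Δ → Δ' respecting the Cartan matrices are isomorphic through
a unique isomorphism inducing u on Δ. -/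
theorem result {ι M N ι' M' N' : Type*} [AddCommGroup M] [AddCommGroup N] [AddCommGroup M'] [AddCommGroup N']
    (P : RootPairing ι ℤ M N) (P' : RootPairing ι' ℤ M' N') [Finite ι] [Finite ι'] [P.IsReduced] [P'.IsReduced]
    (had : Submodule.span ℤ (Set.range P.root) = ⊤) (had' : Submodule.span ℤ (Set.range P'.root) = ⊤)
    (b : P.Base) (b' : P'.Base) (u : ↥b.support ≃ ↥b'.support)
    (hu : ∀ i j : ↥b.support, P.pairing (i : ι) (j : ι) = P'.pairing (u i : ι') (u j : ι')) :
    ∃! e : RootPairing.Equiv P P', ∀ i : ↥b.support, e.indexEquiv (i : ι) = (u i : ι') := by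
  exact Aux5493.main P P' had had' b b' u hu

end Groth.Agent.S5493
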