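import Mathlib
import Groth.Statements.S5494
import Groth.Agent.Lib.Helper29.RootDBasic
import Groth.Agent.Lib.Helper2.RootD.Simple

set_option autoImplicit false
open RootD

open Groth.Agent.Lib.Helper29.RootDBasic
open Groth.Agent.Lib.Helper2.RootD
namespace Aux5494
variable {ι M N : Type*} [AddCommGroup M] [AddCommGroup N] (P : RootPairing ι ℤ M N)

/-- every root is non-orthogonal to some simple root -/
theorem exists_simple_not_orth (Δ : Set ι) (hΔ : RootD.IsSimpleSys P Δ) (k : ι) :
    ∃ δ ∈ Δ, ¬ P.IsOrthogonal k δ := by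
  by_contra hcon
  push Not at hcon
  have h1 := congrArg (fun x => P.toLinearMap x (P.coroot k)) (root_eq_sum hΔ k)
  simp only [P.root_coroot_eq_pairing, P.pairing_same, Finsupp.sum, map_sum, LinearMap.sum_apply,
    map_smul, LinearMap.smul_apply, smul_eq_mul] at h1
  have h2 : ∑ x ∈ (coef hΔ k).support, (coef hΔ k) x * P.pairing (↑x) k = 0 := by
    apply Finset.sum_eq_zero
    intro δ _
    rw [(hcon δ δ.2).2, mul_zero]
  omega

theorem symm_rel : Symmetric (fun a b : ι => ¬ P.IsOrthogonal a b) :=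
  fun _ _ h h' => h h'.symm

theorem main (Δ : Set ι) (hΔ : RootD.IsSimpleSys P Δ)
    (hconn : ∀ Δ' : Set ι, Δ' ⊆ Δ → (∀ i ∈ Δ', ∀ j ∈ Δ \ Δ', P.IsOrthogonal i j) → Δ' = ∅ ∨ Δ' = Δ)
    (i j : ι) : Relation.ReflTransGen (fun a b : ι => ¬ P.IsOrthogonal a b) i j := by
  obtain ⟨d, hd, hid⟩ := exists_simple_not_orth P Δ hΔ i
  obtain ⟨e, he, hje⟩ := exists_simple_not_orth P Δ hΔ j
  -- all simple roots are linked to d
  have hall : ∀ e ∈ Δ, Relation.ReflTransGen (fun a b : ι => ¬ P.IsOrthogonal a b) d e := by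
    let Δ' : Set ι := {e | e ∈ Δ ∧ Relation.ReflTransGen (fun a b : ι => ¬ P.IsOrthogonal a b) d e}
    have hsub : Δ' ⊆ Δ := fun e he => he.1
    have horth : ∀ a ∈ Δ', ∀ b ∈ Δ \ Δ', P.IsOrthogonal a b := by
      intro a ha b hb
      by_contra hab
      exact hb.2 ⟨hb.1, Relation.ReflTransGen.tail ha.2 hab⟩
    rcases hconn Δ' hsub horth with h | h
    · exfalso
      have : d ∈ Δ' := ⟨hd, Relation.ReflTransGen.refl⟩
      rw [h] at this
      exact this
    · intro e he
      have : e ∈ Δ' := by rw [h]; exact he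
      exact this.2
  have h1 : Relation.ReflTransGen (fun a b : ι => ¬ P.IsOrthogonal a b) i d :=
    Relation.ReflTransGen.single hid
  have h2 := hall e he
  have h3 : Relation.ReflTransGen (fun a b : ι => ¬ P.IsOrthogonal a b) e j :=
    Relation.ReflTransGen.single (symm_rel P hje)
  exact (h1.trans h2).trans h3

end Aux5494

namespace Groth.Agent.S5494

/-- If a system of simple roots has no partition into two non-empty orthogonal subsets, then any two
roots are linked by a chain of roots with consecutive members non-orthogonal. -/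
theorem result {ι M N : Type*} [AddCommGroup M] [AddCommGroup N]
    (P : RootPairing ι ℤ M N) [Finite ι] (Δ : Set ι) (hΔ : RootD.IsSimpleSys P Δ)
    (hconn : ∀ Δ' : Set ι, Δ' ⊆ Δ → (∀ i ∈ Δ', ∀ j ∈ Δ \ Δ', P.IsOrthogonal i j) → Δ' = ∅ ∨ Δ' = Δ)
    (i j : ι) : Relation.ReflTransGen (fun a b : ι => ¬ P.IsOrthogonal a b) i j := by
  exact Aux5494.main P Δ hΔ hconn i j

end Groth.Agent.S5494
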