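import Mathlib
import Groth.Statements.S5496
import Groth.Agent.Lib.Helper2.RootD.Aut

set_option autoImplicit false
open RootPairing
open scoped Pointwise
open RootD

namespace Aux5496
open RootPairing Groth.Agent.Lib.Helper2.RootD

section Grp
variable {G : Type*} [Group G]

theorem dihedral_card (s t : G) (hs : s * s = 1) (ht : t * t = 1) (n : ℕ) (hn : 0 < n)
    (hord : orderOf (s * t) = n) (hsC : s ∉ Subgroup.zpowers (s * t)) :
    Nat.card (Subgroup.closure ({s, t} : Set G)) = 2 * n := by
  set r := s * t with hr
  set C : Subgroup G := Subgroup.zpowers r with hC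
  have htr : t = s * r := by rw [hr, ← mul_assoc, hs, one_mul]
  have hts : t * s = r⁻¹ := by
    rw [eq_inv_iff_mul_eq_one, hr]
    calc t * s * (s * t) = t * (s * s) * t := by group
      _ = 1 := by rw [hs, mul_one, ht]
  have hsinv : s⁻¹ = s := inv_eq_of_mul_eq_one_right hs
  have htinv : t⁻¹ = t := inv_eq_of_mul_eq_one_right ht
  have hrC : r ∈ C := Subgroup.mem_zpowers r
  have key : ∀ y, (y ∈ (C : Set G) ∪ (fun c => s * c) '' (C : Set G)) →
      (s * y ∈ (C : Set G) ∪ (fun c => s * c) '' (C : Set G)) ∧
      (t * y ∈ (C : Set G) ∪ (fun c => s * c) '' (C : Set G)) := by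
    intro y hy
    rcases hy with hy | ⟨c, hc, rfl⟩
    · constructor
      · exact Or.inr ⟨y, hy, rfl⟩
      · right
        refine ⟨r * y, C.mul_mem hrC hy, ?_⟩
        show s * (r * y) = t * y
        rw [← mul_assoc, ← htr]
    · constructor
      · left
        show s * (s * c) ∈ (C : Set G)
        rw [← mul_assoc, hs, one_mul]
        exact hc
      · left
        show t * (s * c) ∈ (C : Set G)
        rw [← mul_assoc, hts]
        exact C.mul_mem (C.inv_mem hrC) hc
  have hset : ((Subgroup.closure ({s, t} : Set G) : Subgroup G) : Set G) =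
      (C : Set G) ∪ (fun c => s * c) '' (C : Set G) := by
    apply Set.Subset.antisymm
    · intro x hx
      have hx' : x ∈ Subgroup.closure ({s, t} : Set G) := hx
      clear hx
      induction hx' using Subgroup.closure_induction_left with
      | one => exact Or.inl C.one_mem
      | mul_left x hx y hy ih =>
        rcases hx with hx | hx
        · rw [hx]
          exact (key y ih).1
        · rw [Set.mem_singleton_iff] at hx
          rw [hx]
          exact (key y ih).2
      | inv_mul_cancel x hx y hy ih =>
        rcases hx with hx | hx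
        · rw [hx, hsinv]
          exact (key y ih).1
        · rw [Set.mem_singleton_iff] at hx
          rw [hx, htinv]
          exact (key y ih).2
    · intro x hx
      have hsH : s ∈ Subgroup.closure ({s, t} : Set G) := Subgroup.subset_closure (by simp)
      have htH : t ∈ Subgroup.closure ({s, t} : Set G) := Subgroup.subset_closure (by simp)
      have hCH : C ≤ Subgroup.closure ({s, t} : Set G) := by
        rw [hC, Subgroup.zpowers_le]
        exact mul_mem hsH htH
      rcases hx with hx | ⟨c, hc, rfl⟩
      · exact hCH hx
      · exact mul_mem hsH (hCH hc)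
  have hCcard : (C : Set G).ncard = n := by
    rw [← hord]
    exact Nat.card_zpowers r
  have hCfin : (C : Set G).Finite := by
    apply Set.finite_of_ncard_pos
    rw [hCcard]
    exact hn
  have hdisj : Disjoint (C : Set G) ((fun c => s * c) '' (C : Set G)) := by
    rw [Set.disjoint_left]
    rintro x hx ⟨c, hc, hxc⟩
    apply hsC
    have : s = x * c⁻¹ := by
      rw [← hxc]
      group
    rw [this]
    exact C.mul_mem hx (C.inv_mem hc)
  show Nat.card ↥((Subgroup.closure ({s, t} : Set G) : Subgroup G) : Set G) = 2 * n
  rw [Nat.card_coe_set_eq, hset, Set.ncard_union_eq hdisj hCfin (hCfin.image _),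
    Set.ncard_image_of_injective _ (mul_right_injective s), hCcard]
  ring

end Grp

variable {ι M N : Type*} [AddCommGroup M] [AddCommGroup N] (P : RootPairing ι ℤ M N)

theorem refl_sq (i : ι) : Equiv.reflection P i * Equiv.reflection P i = 1 :=
  mul_eq_one_iff_eq_inv.mpr (Equiv.reflection_inv P i).symm

theorem sub_mem_span_pair (i j : ι) {g : P.Aut}
    (hg : g ∈ Subgroup.closure ({Equiv.reflection P i, Equiv.reflection P j} : Set P.Aut)) (m : M) :
    g • m - m ∈ Submodule.span ℤ ({P.root i, P.root j} : Set M) := by
  induction hg using Subgroup.closure_induction generalizing m with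
  | mem g hg =>
    rcases hg with rfl | hg
    · rw [Equiv.reflection_smul, P.reflection_apply]
      have : m - (P.coroot' i m) • P.root i - m = -((P.coroot' i m) • P.root i) := by abel
      rw [this]
      exact Submodule.neg_mem _ (Submodule.smul_mem _ _ (Submodule.subset_span (by simp)))
    · rw [Set.mem_singleton_iff] at hg
      subst hg
      rw [Equiv.reflection_smul, P.reflection_apply]
      have : m - (P.coroot' j m) • P.root j - m = -((P.coroot' j m) • P.root j) := by abel
      rw [this]
      exact Submodule.neg_mem _ (Submodule.smul_mem _ _ (Submodule.subset_span (by simp)))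
  | one =>
    rw [one_smul, sub_self]
    exact Submodule.zero_mem _
  | mul g h _ _ ihg ihh =>
    have h1 : (g * h) • m - m = (g • (h • m) - h • m) + (h • m - m) := by
      rw [mul_smul]
      abel
    rw [h1]
    exact Submodule.add_mem _ (ihg _) (ihh _)
  | inv g _ ih =>
    have h1 : g⁻¹ • m - m = -(g • (g⁻¹ • m) - g⁻¹ • m) := by
      rw [smul_inv_smul]
      abel
    rw [h1]
    exact Submodule.neg_mem _ (ih _)

theorem eq_one_of_fix_pair [Finite ι] (i j : ι) (hli : LinearIndependent ℤ ![P.root i, P.root j])
    (g : P.Aut)
    (hspan : ∀ m : M, g • m - m ∈ Submodule.span ℤ ({P.root i, P.root j} : Set M))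
    (hi : g • i = i) (hj : g • j = j) : g = 1 := by
  have hM := isAddTorsionFree P
  have : Module.IsReflexive ℤ M := .of_isPerfPair P.toLinearMap
  have hi' : g⁻¹ • i = i := by
    conv_lhs => rw [← hi]
    rw [inv_smul_smul]
  have hj' : g⁻¹ • j = j := by
    conv_lhs => rw [← hj]
    rw [inv_smul_smul]
  apply RootPairing.Equiv.weightHom_injective P
  ext m
  rw [map_one]
  obtain ⟨a, b, hab⟩ := Submodule.mem_span_pair.mp (hspan m)
  have hci : P.coroot' i (g • m - m) = 0 := by
    rw [map_sub, coroot'_aut_smul, hi', sub_self]
  have hcj : P.coroot' j (g • m - m) = 0 := by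
    rw [map_sub, coroot'_aut_smul, hj', sub_self]
  rw [← hab] at hci hcj
  simp only [map_add, map_smul, smul_eq_mul, RootPairing.root_coroot'_eq_pairing,
    RootPairing.pairing_same] at hci hcj
  have hcw : P.coxeterWeight i j ≠ 4 := (P.linearIndependent_iff_coxeterWeight_ne_four).mp hli
  unfold RootPairing.coxeterWeight at hcw
  have ha : a = 0 := by
    have h1 : a * (4 - P.pairing i j * P.pairing j i) = 0 := by
      linear_combination 2 * hci - P.pairing j i * hcj
    rcases mul_eq_zero.mp h1 with h | h
    · exact h
    · exact absurd (by linarith) hcw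
  have hb : b = 0 := by
    have h1 : b * (4 - P.pairing i j * P.pairing j i) = 0 := by
      linear_combination 2 * hcj - P.pairing i j * hci
    rcases mul_eq_zero.mp h1 with h | h
    · exact h
    · exact absurd (by linarith) hcw
  have h1 : g • m - m = 0 := by
    rw [← hab, ha, hb]
    simp
  exact sub_eq_zero.mp h1

theorem not_mem_zpowers [Finite ι] (i j : ι) (hli : LinearIndependent ℤ ![P.root i, P.root j]) :
    Equiv.reflection P i ∉ Subgroup.zpowers (Equiv.reflection P i * Equiv.reflection P j) := by
  have hM := isAddTorsionFree P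
  have : Module.IsReflexive ℤ M := .of_isPerfPair P.toLinearMap
  set s := Equiv.reflection P i with hs
  set t := Equiv.reflection P j with ht
  intro hmem
  -- s and t commute
  have hcomm : s * t = t * s := by
    obtain ⟨k, hk⟩ := Subgroup.mem_zpowers_iff.mp hmem
    have h1 : s * (s * t) = (s * t) * s := by
      have h0 := ((Commute.refl (s * t)).zpow_left k).eq
      rw [hk] at h0
      exact h0
    have h2 : t = s * t * s := by
      rw [← mul_assoc, refl_sq, one_mul] at h1
      exact h1
    calc s * t = s * (s * t * s) := by rw [← h2]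
      _ = (s * s) * t * s := by group
      _ = t * s := by rw [hs, refl_sq, one_mul]
  -- pairing j i = 0
  have hsi : s • P.root i = - P.root i := by
    rw [hs, Equiv.reflection_smul, P.reflection_apply_self]
  have htj : t • P.root j = - P.root j := by
    rw [ht, Equiv.reflection_smul, P.reflection_apply_self]
  have hsj : s • P.root j = P.root j - P.pairing j i • P.root i := by
    rw [hs, Equiv.reflection_smul, P.reflection_apply_root]
  have hti : t • P.root i = P.root i - P.pairing i j • P.root j := by
    rw [ht, Equiv.reflection_smul, P.reflection_apply_root]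
  have hp : P.pairing j i = 0 := by
    have h1 : (s * t) • P.root j = (t * s) • P.root j := by rw [hcomm]
    rw [mul_smul, mul_smul, htj, smul_neg, hsj, smul_sub, smul_comm t, htj, hti] at h1
    have h2 : (2 * P.pairing j i) • P.root i + (-(P.pairing j i * P.pairing i j)) • P.root j = 0 := by
      have e : (2 * P.pairing j i) • P.root i + (-(P.pairing j i * P.pairing i j)) • P.root j =
          (-(P.root j - P.pairing j i • P.root i)) -
            (-P.root j - P.pairing j i • (P.root i - P.pairing i j • P.root j)) := by
        module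
      rw [e, h1, sub_self]
    have h3 := (LinearIndependent.pair_iff.mp hli) _ _ h2
    omega
  have hp' : P.pairing i j = 0 := P.pairing_eq_zero_iff'.mp hp
  rw [hp, zero_smul, sub_zero] at hsj
  rw [hp', zero_smul, sub_zero] at hti
  -- property Q on zpowers
  have hQ : ∀ g ∈ Subgroup.zpowers (s * t),
      (g • P.root i = P.root i ∧ g • P.root j = P.root j) ∨
      (g • P.root i = - P.root i ∧ g • P.root j = - P.root j) := by
    intro g hg
    rw [Subgroup.zpowers_eq_closure] at hg
    induction hg using Subgroup.closure_induction with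
    | mem g hg =>
      rw [Set.mem_singleton_iff] at hg
      subst hg
      right
      constructor
      · rw [mul_smul, hti, hsi]
      · rw [mul_smul, htj, smul_neg, hsj]
    | one => exact Or.inl ⟨one_smul _ _, one_smul _ _⟩
    | mul g h _ _ ihg ihh =>
      rcases ihg with ⟨g1, g2⟩ | ⟨g1, g2⟩ <;> rcases ihh with ⟨h1, h2⟩ | ⟨h1, h2⟩
      · left
        exact ⟨by rw [mul_smul, h1, g1], by rw [mul_smul, h2, g2]⟩
      · right
        exact ⟨by rw [mul_smul, h1, smul_neg, g1], by rw [mul_smul, h2, smul_neg, g2]⟩
      · right
        exact ⟨by rw [mul_smul, h1, g1], by rw [mul_smul, h2, g2]⟩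
      · left
        exact ⟨by rw [mul_smul, h1, smul_neg, g1, neg_neg], by rw [mul_smul, h2, smul_neg, g2, neg_neg]⟩
    | inv g _ ih =>
      rcases ih with ⟨g1, g2⟩ | ⟨g1, g2⟩
      · left
        exact ⟨by conv_lhs => rw [← g1]; rw [inv_smul_smul]
               , by conv_lhs => rw [← g2]; rw [inv_smul_smul]⟩
      · right
        constructor
        · have : g⁻¹ • (g • P.root i) = P.root i := inv_smul_smul _ _
          rw [g1, smul_neg] at this
          exact neg_eq_iff_eq_neg.mp this
        · have : g⁻¹ • (g • P.root j) = P.root j := inv_smul_smul _ _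
          rw [g2, smul_neg] at this
          exact neg_eq_iff_eq_neg.mp this
  rcases hQ s hmem with ⟨h1, _⟩ | ⟨_, h2⟩
  · rw [hsi] at h1
    have h2 : (2 : ℤ) • P.root i = 0 := by
      rw [two_smul]
      nth_rewrite 1 [← h1]
      exact neg_add_cancel _
    rcases smul_eq_zero.mp h2 with h | h
    · omega
    · exact P.ne_zero i h
  · rw [hsj] at h2
    have h3 : (2 : ℤ) • P.root j = 0 := by
      rw [two_smul]
      nth_rewrite 2 [h2]
      exact add_neg_cancel _
    rcases smul_eq_zero.mp h3 with h | h
    · omega
    · exact P.ne_zero j h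

theorem main [Finite ι] (i j : ι) (hli : LinearIndependent ℤ ![P.root i, P.root j])
    (n : ℕ) (hn : IsLeast {m : ℕ | 0 < m ∧ ((Equiv.reflection P i * Equiv.reflection P j) ^ m) • i = i ∧
      ((Equiv.reflection P i * Equiv.reflection P j) ^ m) • j = j} n) :
    Nat.card (Subgroup.closure ({Equiv.reflection P i, Equiv.reflection P j} : Set P.Aut)) = 2 * n := by
  set s := Equiv.reflection P i with hs
  set t := Equiv.reflection P j with ht
  have hsH : s ∈ Subgroup.closure ({s, t} : Set P.Aut) := Subgroup.subset_closure (by simp)
  have htH : t ∈ Subgroup.closure ({s, t} : Set P.Aut) := Subgroup.subset_closure (by simp)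
  have hpowH : ∀ m : ℕ, (s * t) ^ m ∈ Subgroup.closure ({s, t} : Set P.Aut) :=
    fun m => pow_mem (mul_mem hsH htH) m
  have hiff : ∀ m : ℕ, (s * t) ^ m = 1 ↔ (((s * t) ^ m) • i = i ∧ ((s * t) ^ m) • j = j) := by
    intro m
    constructor
    · intro h
      rw [h]
      exact ⟨one_smul _ _, one_smul _ _⟩
    · rintro ⟨h1, h2⟩
      exact eq_one_of_fix_pair P i j hli _ (fun x => sub_mem_span_pair P i j (hpowH m) x) h1 h2
  obtain ⟨⟨hnpos, hni, hnj⟩, hmin⟩ := hn
  have hrn : (s * t) ^ n = 1 := (hiff n).mpr ⟨hni, hnj⟩
  have hord : orderOf (s * t) = n := by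
    apply le_antisymm
    · exact orderOf_le_of_pow_eq_one hnpos hrn
    · have hpos : 0 < orderOf (s * t) :=
        orderOf_pos_iff.mpr (isOfFinOrder_iff_pow_eq_one.mpr ⟨n, hnpos, hrn⟩)
      have := (hiff (orderOf (s * t))).mp (pow_orderOf_eq_one _)
      exact hmin ⟨hpos, this.1, this.2⟩
  exact dihedral_card s t (refl_sq P i) (refl_sq P j) n hnpos hord (not_mem_zpowers P i j hli)

end Aux5496
namespace Groth.Agent.S5496

/-- For non-proportional roots α, β let n be the least integer n > 0 with (s_α s_β)^n(α) = α and (s_α
s_β)^n(β) = β. Then the subgroup W_{α,β} generated by s_α and s_β is presented by s_α² = s_β² = (s_α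
s_β)^n = 1; equivalently it has exactly 2n elements. -/
theorem result {ι M N : Type*} [AddCommGroup M] [AddCommGroup N]
    (P : RootPairing ι ℤ M N) [Finite ι] (i j : ι) (hli : LinearIndependent ℤ ![P.root i, P.root j])
    (n : ℕ) (hn : IsLeast {m : ℕ | 0 < m ∧ ((Equiv.reflection P i * Equiv.reflection P j) ^ m) • i = i ∧
      ((Equiv.reflection P i * Equiv.reflection P j) ^ m) • j = j} n) :
    Nat.card (Subgroup.closure ({Equiv.reflection P i, Equiv.reflection P j} : Set P.Aut)) = 2 * n := by
  exact Aux5496.main P i j hli n hn

end Groth.Agent.S5496
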