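import Mathlib
import Groth.Statements.S5506
import Groth.Agent.Lib.Helper29.RootDBasic

set_option autoImplicit false
open RootD

open Groth.Agent.Lib.Helper29.RootDBasic
namespace Aux5506
variable {ι M N : Type*} [AddCommGroup M] [AddCommGroup N] (P : RootPairing ι ℤ M N)

theorem isOrthogonal_iff (i j : ι) : P.IsOrthogonal i j ↔ P.pairing i j = 0 :=
  ⟨fun h => h.1, fun h => ⟨h, P.pairing_eq_zero_iff'.mp h⟩⟩

theorem neg_neg_idx (j : ι) : P.reflectionPerm (P.reflectionPerm j j) (P.reflectionPerm j j) = j := by
  apply P.root.injective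
  rw [root_neg, root_neg, neg_neg]

theorem not_orth_neg (j : ι) : ¬ P.IsOrthogonal j (P.reflectionPerm j j) := by
  rw [isOrthogonal_iff, P.pairing_reflectionPerm_self_right, P.pairing_same]
  norm_num

theorem not_orth_of_add {a b k : ι} (h : P.root k = P.root a + P.root b) :
    ¬ P.IsOrthogonal a k ∨ ¬ P.IsOrthogonal b k := by
  by_contra hcon
  push Not at hcon
  have h1 := P.pairing_eq_add_of_root_eq_add (l := k) h
  rw [P.pairing_same, hcon.1.1, hcon.2.1] at h1
  norm_num at h1

theorem main (i : ι) :
    RootD.IsClosedSub P {j : ι | Relation.ReflTransGen (fun a b : ι => ¬ P.IsOrthogonal a b) i j} ∧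
      RootD.IsSymmSub P {j : ι | Relation.ReflTransGen (fun a b : ι => ¬ P.IsOrthogonal a b) i j} ∧
      RootD.IsClosedSub P {j : ι | Relation.ReflTransGen (fun a b : ι => ¬ P.IsOrthogonal a b) i j}ᶜ ∧
      RootD.IsSymmSub P {j : ι | Relation.ReflTransGen (fun a b : ι => ¬ P.IsOrthogonal a b) i j}ᶜ := by
  refine ⟨?_, ?_, ?_, ?_⟩
  · intro a b k ha hb hk
    rcases not_orth_of_add P hk with h | h
    · exact Relation.ReflTransGen.tail ha h
    · exact Relation.ReflTransGen.tail hb h
  · intro j hj
    exact Relation.ReflTransGen.tail hj (not_orth_neg P j)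
  · intro a b k ha hb hk hkS
    rcases not_orth_of_add P hk with h | h
    · exact ha (Relation.ReflTransGen.tail hkS (fun h' => h h'.symm))
    · exact hb (Relation.ReflTransGen.tail hkS (fun h' => h h'.symm))
  · intro j hj hjS
    apply hj
    have := Relation.ReflTransGen.tail hjS (not_orth_neg P (P.reflectionPerm j j))
    rwa [neg_neg_idx] at this

end Aux5506

namespace Groth.Agent.S5506

/-- The class of a root under 'joined by a chain of pairwise non-orthogonal roots' is closed and
symmetric, and so is its complement; these classes are the irreducible components. -/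
theorem result {ι M N : Type*} [AddCommGroup M] [AddCommGroup N]
    (P : RootPairing ι ℤ M N) [Finite ι] (i : ι) :
    RootD.IsClosedSub P {j : ι | Relation.ReflTransGen (fun a b : ι => ¬ P.IsOrthogonal a b) i j} ∧
      RootD.IsSymmSub P {j : ι | Relation.ReflTransGen (fun a b : ι => ¬ P.IsOrthogonal a b) i j} ∧
      RootD.IsClosedSub P {j : ι | Relation.ReflTransGen (fun a b : ι => ¬ P.IsOrthogonal a b) i j}ᶜ ∧
      RootD.IsSymmSub P {j : ι | Relation.ReflTransGen (fun a b : ι => ¬ P.IsOrthogonal a b) i j}ᶜ := by
  exact Aux5506.main P i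

end Groth.Agent.S5506
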