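import Mathlib
import Groth.Statements.S5498
import Groth.Agent.Lib.Helper29.RootDBasic
import Groth.Agent.S5505
import Groth.Agent.S5506
import Groth.Agent.S5487

set_option autoImplicit false
open RootD

open Groth.Agent.Lib.Helper29.RootDBasic
namespace Aux5498
variable {ι M N : Type*} [AddCommGroup M] [AddCommGroup N] (P : RootPairing ι ℤ M N)

/-- irreducibility (RootD sense) implies that any two roots are linked by a non-orthogonal chain -/
theorem chain_of_irr [Finite ι]
    (hirr : ∀ R' : Set ι, RootD.IsClosedSub P R' → RootD.IsSymmSub P R' → RootD.IsClosedSub P R'ᶜ →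
      RootD.IsSymmSub P R'ᶜ → R' = ∅ ∨ R' = Set.univ) (i j : ι) :
    Relation.ReflTransGen (fun a b : ι => ¬ P.IsOrthogonal a b) i j := by
  obtain ⟨h1, h2, h3, h4⟩ := Groth.Agent.S5506.result P i
  rcases hirr _ h1 h2 h3 h4 with h | h
  · exfalso
    have : i ∈ {j : ι | Relation.ReflTransGen (fun a b : ι => ¬ P.IsOrthogonal a b) i j} :=
      Relation.ReflTransGen.refl
    rw [h] at this
    exact this
  · have : j ∈ {j : ι | Relation.ReflTransGen (fun a b : ι => ¬ P.IsOrthogonal a b) i j} := by
      rw [h]; trivial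
    exact this

theorem main [Finite ι] [Fintype ι] [Nonempty ι]
    (hirr : ∀ R' : Set ι, RootD.IsClosedSub P R' → RootD.IsSymmSub P R' → RootD.IsClosedSub P R'ᶜ →
      RootD.IsSymmSub P R'ᶜ → R' = ∅ ∨ R' = Set.univ) :
    (∀ R' : Set ι, RootD.IsClosedSub P.flip R' → RootD.IsSymmSub P.flip R' → RootD.IsClosedSub P.flip R'ᶜ →
      RootD.IsSymmSub P.flip R'ᶜ → R' = ∅ ∨ R' = Set.univ) ∧
    ∀ i j : ι, P.RootForm (P.root i) (P.root i) * P.CorootForm (P.coroot i) (P.coroot i) =
      P.RootForm (P.root j) (P.root j) * P.CorootForm (P.coroot j) (P.coroot j) := by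
  constructor
  · intro R' hc hs hc' hs'
    by_cases hne : R' = ∅
    · exact Or.inl hne
    · right
      obtain ⟨i, hi⟩ := Set.nonempty_iff_ne_empty.mpr hne
      rw [Set.eq_univ_iff_forall]
      intro j
      have hchain := chain_of_irr P hirr i j
      induction hchain with
      | refl => exact hi
      | tail _ hbc ih =>
        exact Groth.Agent.S5505.result P.flip R' hc hs hc' hs' _ _ ih (fun h => hbc ⟨h.2, h.1⟩)
  · intro i j
    have hchain := chain_of_irr P hirr i j
    induction hchain with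
    | refl => rfl
    | tail _ hbc ih => rw [ih]; exact Groth.Agent.S5487.result P _ _ hbc

end Aux5498

namespace Groth.Agent.S5498

/-- If R is irreducible then so is the dual datum R^v, and long(α)·long(α^v) (equivalently ℓ(α) ℓ(α^v))
is constant on the roots. -/
theorem result {ι M N : Type*} [AddCommGroup M] [AddCommGroup N]
    (P : RootPairing ι ℤ M N) [Finite ι] [Fintype ι] [Nonempty ι]
    (hirr : ∀ R' : Set ι, RootD.IsClosedSub P R' → RootD.IsSymmSub P R' → RootD.IsClosedSub P R'ᶜ →
      RootD.IsSymmSub P R'ᶜ → R' = ∅ ∨ R' = Set.univ) :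
    (∀ R' : Set ι, RootD.IsClosedSub P.flip R' → RootD.IsSymmSub P.flip R' → RootD.IsClosedSub P.flip R'ᶜ →
      RootD.IsSymmSub P.flip R'ᶜ → R' = ∅ ∨ R' = Set.univ) ∧
    ∀ i j : ι, P.RootForm (P.root i) (P.root i) * P.CorootForm (P.coroot i) (P.coroot i) =
      P.RootForm (P.root j) (P.root j) * P.CorootForm (P.coroot j) (P.coroot j) := by
  exact Aux5498.main P hirr

end Groth.Agent.S5498
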