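import Mathlib
import Groth.Statements.S5499
import Groth.Agent.S5498

set_option autoImplicit false
open RootD

namespace Aux5499
open Groth.Agent.Lib.Helper29.RootDBasic

variable {ι M N : Type*} [AddCommGroup M] [AddCommGroup N]
  (P : RootPairing ι ℤ M N)

theorem rootForm_pos [Fintype ι] (i : ι) : 0 < P.RootForm (P.root i) (P.root i) :=
  P.rootForm_pos_of_ne_zero (Submodule.subset_span ⟨i, rfl⟩) (P.ne_zero i)

theorem dvd_of_not_orth [Finite ι] [Fintype ι] (a b : ι) (h : ¬ P.IsOrthogonal a b)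
    (hle : P.RootForm (P.root a) (P.root a) ≤ P.RootForm (P.root b) (P.root b)) :
    P.RootForm (P.root a) (P.root a) ∣ P.RootForm (P.root b) (P.root b) := by
  have h3 := P.toInvariantForm.pairing_mul_eq_pairing_mul_swap a b
  simp only [RootPairing.toInvariantForm_form] at h3
  have hmem := P.pairingIn_pairingIn_mem_set_of_isCrystallographic a b
  rw [pairingIn_int, pairingIn_int] at hmem
  have hpa := rootForm_pos P a
  have hpb := rootForm_pos P b
  set la := P.RootForm (P.root a) (P.root a) with hla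
  set lb := P.RootForm (P.root b) (P.root b) with hlb
  simp only [Set.mem_insert_iff, Set.mem_singleton_iff, Prod.mk.injEq] at hmem
  obtain ⟨h1, h2⟩ | ⟨h1, h2⟩ | ⟨h1, h2⟩ | ⟨h1, h2⟩ | ⟨h1, h2⟩ | ⟨h1, h2⟩ | ⟨h1, h2⟩ | ⟨h1, h2⟩ |
    ⟨h1, h2⟩ | ⟨h1, h2⟩ | ⟨h1, h2⟩ | ⟨h1, h2⟩ | ⟨h1, h2⟩ | ⟨h1, h2⟩ | ⟨h1, h2⟩ | ⟨h1, h2⟩ |
    ⟨h1, h2⟩ := hmem <;> rw [h1, h2] at h3 <;>
  first
  | exact absurd ((isOrthogonal_iff P a b).mpr h1) h
  | exact ⟨1, by omega⟩
  | exact ⟨2, by omega⟩
  | exact ⟨3, by omega⟩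
  | exact ⟨4, by omega⟩

theorem exists_min_nonorth [Finite ι] [Fintype ι]
    (hirr : ∀ R' : Set ι, RootD.IsClosedSub P R' → RootD.IsSymmSub P R' → RootD.IsClosedSub P R'ᶜ →
      RootD.IsSymmSub P R'ᶜ → R' = ∅ ∨ R' = Set.univ) (i₀ j : ι) :
    ∃ a, P.RootForm (P.root a) (P.root a) = P.RootForm (P.root i₀) (P.root i₀) ∧
      ¬ P.IsOrthogonal a j := by
  have hchain := Aux5498.chain_of_irr P hirr i₀ j
  induction hchain with
  | refl =>
    refine ⟨i₀, rfl, ?_⟩
    rw [isOrthogonal_iff, P.pairing_same]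
    norm_num
  | @tail b c _ hbc ih =>
    obtain ⟨a, ha, hab⟩ := ih
    by_cases hac : P.IsOrthogonal a c
    · refine ⟨P.reflectionPerm b a, ?_, ?_⟩
      · rw [P.root_reflectionPerm, P.rootForm_reflection_reflection_apply, ha]
      · rw [isOrthogonal_iff] at hab hbc hac ⊢
        have h1 : P.pairing (P.reflectionPerm b a) c =
            P.pairing a c - P.pairing a b * P.pairing b c := by
          rw [← P.root_coroot_eq_pairing, P.root_reflectionPerm, P.reflection_apply_root, map_sub,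
            map_zsmul, LinearMap.sub_apply, LinearMap.smul_apply, P.root_coroot_eq_pairing,
            P.root_coroot_eq_pairing, smul_eq_mul]
        rw [h1, hac, zero_sub]
        exact neg_ne_zero.mpr (mul_ne_zero hab hbc)
    · exact ⟨a, ha, hac⟩

theorem ext_of_roots (u₁ u₂ : Submodule.span ℤ (Set.range P.root) →+ N)
    (h : ∀ i, u₁ ⟨P.root i, Submodule.subset_span (Set.mem_range_self i)⟩ =
      u₂ ⟨P.root i, Submodule.subset_span (Set.mem_range_self i)⟩) : u₁ = u₂ := by
  have key : ∀ (x : M) (hx : x ∈ Submodule.span ℤ (Set.range P.root)), u₁ ⟨x, hx⟩ = u₂ ⟨x, hx⟩ := by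
    intro x hx
    induction hx using Submodule.span_induction with
    | mem x hx =>
      obtain ⟨i, rfl⟩ := hx
      exact h i
    | zero => exact (map_zero u₁).trans (map_zero u₂).symm
    | add x y hx hy ihx ihy =>
      have e : (⟨x + y, Submodule.add_mem _ hx hy⟩ : Submodule.span ℤ (Set.range P.root)) =
          ⟨x, hx⟩ + ⟨y, hy⟩ := rfl
      rw [e, map_add, map_add, ihx, ihy]
    | smul a x hx ih =>
      have e : (⟨a • x, Submodule.smul_mem _ a hx⟩ : Submodule.span ℤ (Set.range P.root)) =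
          a • ⟨x, hx⟩ := rfl
      rw [e, map_zsmul, map_zsmul, ih]
  ext ⟨x, hx⟩
  exact key x hx

theorem main [Finite ι] [Fintype ι]
    (hirr : ∀ R' : Set ι, RootD.IsClosedSub P R' → RootD.IsSymmSub P R' → RootD.IsClosedSub P R'ᶜ →
      RootD.IsSymmSub P R'ᶜ → R' = ∅ ∨ R' = Set.univ)
    (i₀ : ι) (hmin : ∀ i : ι, P.RootForm (P.root i₀) (P.root i₀) ≤ P.RootForm (P.root i) (P.root i)) :
    ∃! u : Submodule.span ℤ (Set.range P.root) →+ N, ∀ i : ι,
      u ⟨P.root i, Submodule.subset_span (Set.mem_range_self i)⟩ =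
        (P.RootForm (P.root i) (P.root i) / P.RootForm (P.root i₀) (P.root i₀)) • P.coroot i := by
  classical
  have : Module.IsReflexive ℤ N := .of_isPerfPair P.flip.toLinearMap
  have hd : 0 < P.RootForm (P.root i₀) (P.root i₀) := rootForm_pos P i₀
  set d := P.RootForm (P.root i₀) (P.root i₀) with hddef
  have hdvd : ∀ i, d ∣ P.RootForm (P.root i) (P.root i) := by
    intro i
    obtain ⟨a, ha, hai⟩ := exists_min_nonorth P hirr i₀ i
    have := dvd_of_not_orth P a i hai (by rw [ha]; exact hmin i)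
    rwa [ha] at this
  have hgen : ∀ i, d • ((P.RootForm (P.root i) (P.root i) / d) • P.coroot i) =
      (2 : ℕ) • P.Polarization (P.root i) := by
    intro i
    rw [smul_smul, Int.mul_ediv_cancel' (hdvd i)]
    exact P.rootForm_self_smul_coroot i
  have hex' : ∀ x ∈ Submodule.span ℤ (Set.range P.root),
      ∃ n : N, d • n = (2 : ℕ) • P.Polarization x := by
    intro x hx
    induction hx using Submodule.span_induction with
    | mem x hx =>
      obtain ⟨i, rfl⟩ := hx
      exact ⟨_, hgen i⟩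
    | zero => exact ⟨0, by simp⟩
    | add x y _ _ ihx ihy =>
      obtain ⟨n₁, h₁⟩ := ihx
      obtain ⟨n₂, h₂⟩ := ihy
      exact ⟨n₁ + n₂, by rw [smul_add, h₁, h₂, map_add, smul_add]⟩
    | smul a x _ ih =>
      obtain ⟨n, h⟩ := ih
      refine ⟨a • n, ?_⟩
      rw [smul_comm d a n, h, map_zsmul, smul_comm a 2]
  have hex : ∀ x : Submodule.span ℤ (Set.range P.root),
      ∃ n : N, d • n = (2 : ℕ) • P.Polarization (x : M) := fun x => hex' x.1 x.2
  choose g hg using hex
  have hinj : ∀ n₁ n₂ : N, d • n₁ = d • n₂ → n₁ = n₂ :=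
    fun n₁ n₂ h => smul_right_injective N hd.ne' h
  have hadd : ∀ x y, g (x + y) = g x + g y := by
    intro x y
    apply hinj
    rw [smul_add, hg, hg, hg, Submodule.coe_add, map_add, smul_add]
  have hu₀ : ∀ i : ι, AddMonoidHom.mk' g hadd
      ⟨P.root i, Submodule.subset_span (Set.mem_range_self i)⟩ =
        (P.RootForm (P.root i) (P.root i) / d) • P.coroot i := by
    intro i
    apply hinj
    rw [AddMonoidHom.mk'_apply, hg, hgen]
  refine ⟨AddMonoidHom.mk' g hadd, hu₀, ?_⟩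
  intro u' hu'
  apply ext_of_roots P
  intro i
  rw [hu' i, hu₀ i]

end Aux5499
namespace Groth.Agent.S5499

/-- For an irreducible datum, where long(α) = ℓ(α)/ℓ(α₀) with ℓ(α₀) minimal: there is a unique
homomorphism u : Γ_0(R) → M^v with u(α) = long(α) α^v for every root α. -/
theorem result {ι M N : Type*} [AddCommGroup M] [AddCommGroup N]
    (P : RootPairing ι ℤ M N) [Finite ι] [Fintype ι]
    (hirr : ∀ R' : Set ι, RootD.IsClosedSub P R' → RootD.IsSymmSub P R' → RootD.IsClosedSub P R'ᶜ →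
      RootD.IsSymmSub P R'ᶜ → R' = ∅ ∨ R' = Set.univ)
    (i₀ : ι) (hmin : ∀ i : ι, P.RootForm (P.root i₀) (P.root i₀) ≤ P.RootForm (P.root i) (P.root i)) :
    ∃! u : Submodule.span ℤ (Set.range P.root) →+ N, ∀ i : ι,
      u ⟨P.root i, Submodule.subset_span (Set.mem_range_self i)⟩ =
        (P.RootForm (P.root i) (P.root i) / P.RootForm (P.root i₀) (P.root i₀)) • P.coroot i := by
  exact Aux5499.main P hirr i₀ hmin

end Groth.Agent.S5499
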