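import Mathlib
import Groth.Statements.S5500
import Groth.Agent.S5498

set_option autoImplicit false
open RootD

namespace Aux5500
variable {ι M N ι' M' N' : Type*} [AddCommGroup M] [AddCommGroup N] [AddCommGroup M'] [AddCommGroup N']
  (P : RootPairing ι ℤ M N) (P' : RootPairing ι' ℤ M' N')

theorem key (f : M' →ₗ[ℤ] M) (g : N →ₗ[ℤ] N')
    (hfg : ∀ (m' : M') (n : N), P.toLinearMap (f m') n = P'.toLinearMap m' (g n))
    (u : ι ≃ ι') (q : ι → ℕ)
    (hroot : ∀ i : ι, f (P'.root (u i)) = (q i : ℤ) • P.root i)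
    (hcoroot : ∀ i : ι, g (P.coroot i) = (q i : ℤ) • P'.coroot (u i)) (j i : ι) :
    (q j : ℤ) * P.pairing j i = (q i : ℤ) * P'.pairing (u j) (u i) := by
  have h := hfg (P'.root (u j)) (P.coroot i)
  rw [hroot, hcoroot, map_smul, map_smul, LinearMap.smul_apply, P.root_coroot_eq_pairing,
    P'.root_coroot_eq_pairing] at h
  simpa using h

theorem rootForm_pos [Fintype ι] (i : ι) : 0 < P.RootForm (P.root i) (P.root i) :=
  P.rootForm_pos_of_ne_zero (Submodule.subset_span ⟨i, rfl⟩) (P.ne_zero i)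

theorem main [Finite ι] [Finite ι'] [Fintype ι] [Fintype ι']
    (hirr : ∀ R₁ : Set ι, RootD.IsClosedSub P R₁ → RootD.IsSymmSub P R₁ → RootD.IsClosedSub P R₁ᶜ →
      RootD.IsSymmSub P R₁ᶜ → R₁ = ∅ ∨ R₁ = Set.univ)
    (p : ℕ) (hp : 0 < p) (f : M' →ₗ[ℤ] M) (g : N →ₗ[ℤ] N')
    (hfg : ∀ (m' : M') (n : N), P.toLinearMap (f m') n = P'.toLinearMap m' (g n))
    (u : ι ≃ ι') (q : ι → ℕ) (hq : ∀ i, ∃ e : ℕ, q i = p ^ e)
    (hroot : ∀ i : ι, f (P'.root (u i)) = (q i : ℤ) • P.root i)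
    (hcoroot : ∀ i : ι, g (P.coroot i) = (q i : ℤ) • P'.coroot (u i)) (i j : ι) :
    ((q i : ℤ) ^ 2 * P.RootForm (P.root i) (P.root i)) * P'.RootForm (P'.root (u j)) (P'.root (u j)) =
      ((q j : ℤ) ^ 2 * P.RootForm (P.root j) (P.root j)) * P'.RootForm (P'.root (u i)) (P'.root (u i)) := by
  have hqpos : ∀ i, (0 : ℤ) < (q i : ℤ) := by
    intro i
    obtain ⟨e, he⟩ := hq i
    rw [he]
    exact_mod_cast pow_pos hp e
  -- the non-orthogonal case
  have hstep : ∀ b c : ι, ¬ P.IsOrthogonal b c →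
      ((q b : ℤ) ^ 2 * P.RootForm (P.root b) (P.root b)) * P'.RootForm (P'.root (u c)) (P'.root (u c)) =
      ((q c : ℤ) ^ 2 * P.RootForm (P.root c) (P.root c)) * P'.RootForm (P'.root (u b)) (P'.root (u b)) := by
    intro i j hij
    have ha : P.pairing i j ≠ 0 := fun h0 => hij ⟨h0, P.pairing_eq_zero_iff'.mp h0⟩
    have hb : P.pairing j i ≠ 0 := fun h0 => ha (P.pairing_eq_zero_iff'.mp h0)
    have h1 := key P P' f g hfg u q hroot hcoroot j i
    have h2 := key P P' f g hfg u q hroot hcoroot i j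
    have h3 := P.toInvariantForm.pairing_mul_eq_pairing_mul_swap i j
    have h4 := P'.toInvariantForm.pairing_mul_eq_pairing_mul_swap (u i) (u j)
    simp only [RootPairing.toInvariantForm_form] at h3 h4
    have ha' : P'.pairing (u i) (u j) ≠ 0 := by
      intro h0
      rw [h0, mul_zero] at h2
      exact ha ((mul_eq_zero.mp h2).resolve_left (hqpos i).ne')
    have hne : P.pairing j i * P'.pairing (u i) (u j) ≠ 0 := mul_ne_zero hb ha'
    apply mul_left_cancel₀ hne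
    linear_combination ((q i : ℤ)^2 * P'.pairing (u i) (u j) * P'.RootForm (P'.root (u j)) (P'.root (u j))) * h3
      - ((q i : ℤ)^2 * P.pairing i j * P.RootForm (P.root j) (P.root j)) * h4
      + (P.RootForm (P.root j) (P.root j) * P'.RootForm (P'.root (u i)) (P'.root (u i)) * (q i : ℤ) * P'.pairing (u j) (u i)) * h2
      - (P.RootForm (P.root j) (P.root j) * P'.RootForm (P'.root (u i)) (P'.root (u i)) * (q j : ℤ) * P'.pairing (u i) (u j)) * h1
  have hchain := Aux5498.chain_of_irr P hirr i j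
  induction hchain with
  | refl => rfl
  | @tail b c _ hbc ih =>
    have h2 := hstep b c hbc
    have hbpos : (0 : ℤ) < (q b : ℤ) ^ 2 * P.RootForm (P.root b) (P.root b) * P'.RootForm (P'.root (u b)) (P'.root (u b)) :=
      mul_pos (mul_pos (pow_pos (hqpos b) 2) (rootForm_pos P b)) (rootForm_pos P' (u b))
    apply mul_left_cancel₀ hbpos.ne'
    linear_combination (((q b : ℤ) ^ 2 * P.RootForm (P.root b) (P.root b)) * P'.RootForm (P'.root (u c)) (P'.root (u c))) * ih +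
      (((q b : ℤ) ^ 2 * P.RootForm (P.root b) (P.root b)) * P'.RootForm (P'.root (u i)) (P'.root (u i))) * h2

end Aux5500
namespace Groth.Agent.S5500

/-- For a p-morphism between irreducible reduced root data there is a rational constant k with k ·
long(u(α)) = q(α)² · long(α) for every root α; stated as the proportionality q(α)² ℓ(α) ℓ'(u β) =
q(β)² ℓ(β) ℓ'(u α) of the canonical quadratic forms. -/
theorem result {ι M N ι' M' N' : Type*} [AddCommGroup M] [AddCommGroup N] [AddCommGroup M'] [AddCommGroup N']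
    (P : RootPairing ι ℤ M N) (P' : RootPairing ι' ℤ M' N') [Finite ι] [Finite ι'] [Fintype ι] [Fintype ι'] [P.IsReduced] [P'.IsReduced]
    (hirr : ∀ R₁ : Set ι, RootD.IsClosedSub P R₁ → RootD.IsSymmSub P R₁ → RootD.IsClosedSub P R₁ᶜ →
      RootD.IsSymmSub P R₁ᶜ → R₁ = ∅ ∨ R₁ = Set.univ)
    (hirr' : ∀ R₁ : Set ι', RootD.IsClosedSub P' R₁ → RootD.IsSymmSub P' R₁ → RootD.IsClosedSub P' R₁ᶜ →
      RootD.IsSymmSub P' R₁ᶜ → R₁ = ∅ ∨ R₁ = Set.univ)
    (p : ℕ) (hp : 0 < p) (f : M' →ₗ[ℤ] M) (g : N →ₗ[ℤ] N')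
    (hfg : ∀ (m' : M') (n : N), P.toLinearMap (f m') n = P'.toLinearMap m' (g n))
    (u : ι ≃ ι') (q : ι → ℕ) (hq : ∀ i, ∃ e : ℕ, q i = p ^ e)
    (hroot : ∀ i : ι, f (P'.root (u i)) = (q i : ℤ) • P.root i)
    (hcoroot : ∀ i : ι, g (P.coroot i) = (q i : ℤ) • P'.coroot (u i)) (i j : ι) :
    ((q i : ℤ) ^ 2 * P.RootForm (P.root i) (P.root i)) * P'.RootForm (P'.root (u j)) (P'.root (u j)) =
      ((q j : ℤ) ^ 2 * P.RootForm (P.root j) (P.root j)) * P'.RootForm (P'.root (u i)) (P'.root (u i)) := by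
  exact Aux5500.main P P' hirr p hp f g hfg u q hq hroot hcoroot i j

end Groth.Agent.S5500
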