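import Mathlib
import Groth.Statements.S5501


set_option autoImplicit false
universe u v w
open RootD

namespace Aux5501
open Set Module

variable {ι : Type u} {M : Type v} {N : Type w} [AddCommGroup M] [AddCommGroup N]

theorem tf (P : RootPairing ι ℤ M N) : Module.IsTorsionFree ℤ M := by
  have : Module.IsReflexive ℤ M := .of_isPerfPair P.toLinearMap
  infer_instance

theorem free_M (P : RootPairing ι ℤ M N) [Module.Finite ℤ M] : Module.Free ℤ M := by
  have := tf P
  infer_instance

theorem free_S (P : RootPairing ι ℤ M N) [Module.Finite ℤ M] :
    Module.Free ℤ ↥(Submodule.span ℤ (Set.range P.root)) := by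
  have := tf P
  infer_instance

theorem fin_S (P : RootPairing ι ℤ M N) [Module.Finite ℤ M] :
    Module.Finite ℤ ↥(Submodule.span ℤ (Set.range P.root)) := by
  infer_instance

/-- the restricted coroot functionals -/
noncomputable def corootF (P : RootPairing ι ℤ M N) (i : ι) :
    Module.Dual ℤ ↥(Submodule.span ℤ (Set.range P.root)) :=
  (Submodule.span ℤ (Set.range P.root)).subtype.dualMap (P.toLinearMap.flip (P.coroot i))

theorem corootF_apply (P : RootPairing ι ℤ M N) (i : ι) (s : ↥(Submodule.span ℤ (Set.range P.root))) :
    corootF P i s = P.toLinearMap (s : M) (P.coroot i) := rfl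

theorem corootF_injective (P : RootPairing ι ℤ M N) [Finite ι] : Function.Injective (corootF P) := by
  have : Module.IsReflexive ℤ M := .of_isPerfPair P.toLinearMap
  have : IsAddTorsionFree M := .of_isTorsionFree ℤ M
  intro i j hij
  apply P.coroot.injective
  exact P.injOn_dualMap_subtype_span_root_coroot (mem_range_self i) (mem_range_self j) hij

noncomputable def P' (P : RootPairing ι ℤ M N) [Finite ι] [Module.Finite ℤ M] :
    RootPairing ι ℤ ↥(Submodule.span ℤ (Set.range P.root))
      (Module.Dual ℤ ↥(Submodule.span ℤ (Set.range P.root))) :=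
  haveI := free_S P
  { toLinearMap := Module.Dual.eval ℤ ↥(Submodule.span ℤ (Set.range P.root))
    isPerfPair_toLinearMap := inferInstance
    root := ⟨fun i => ⟨P.root i, Submodule.subset_span (mem_range_self i)⟩, fun i j hij =>
      P.root.injective (congrArg Subtype.val hij)⟩
    coroot := ⟨corootF P, corootF_injective P⟩
    root_coroot_two := fun i => P.root_coroot_two i
    reflectionPerm := P.reflectionPerm
    reflectionPerm_root := fun i j => Subtype.ext (P.reflectionPerm_root i j)
    reflectionPerm_coroot := fun i j => by
      apply LinearMap.ext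
      intro s
      have h := congrArg (fun n => P.toLinearMap (s : M) n) (P.reflectionPerm_coroot i j)
      simp only [map_sub, map_smul] at h
      simpa [corootF_apply] using h }

noncomputable def fHom (P : RootPairing ι ℤ M N) [Finite ι] [Module.Finite ℤ M] :
    RootPairing.Hom (P' P) P where
  weightMap := (Submodule.span ℤ (Set.range P.root)).subtype
  coweightMap := (Submodule.span ℤ (Set.range P.root)).subtype.dualMap ∘ₗ P.toLinearMap.flip
  indexEquiv := Equiv.refl ι
  weight_coweight_transpose := by
    apply LinearMap.ext
    intro n
    apply LinearMap.ext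
    intro s
    rfl
  root_weightMap := by
    funext i
    rfl
  coroot_coweightMap := by
    funext i
    rfl

theorem main (P : RootPairing ι ℤ M N) [Finite ι] [Module.Finite ℤ M] [Module.Finite ℤ N]
    (hss : Module.finrank ℤ (Submodule.span ℤ (Set.range P.root)) = Module.finrank ℤ M) :
    Submodule.span ℤ (Set.range P.root) = ⊤ ↔
      ∀ (ι' : Type u) (M' N' : Type v) [AddCommGroup M'] [AddCommGroup N'] [Finite ι']
        [Module.Finite ℤ M'] [Module.Finite ℤ N'] (P' : RootPairing ι' ℤ M' N') (f : RootPairing.Hom P' P),
        Function.Injective f.weightMap → Finite (M ⧸ LinearMap.range f.weightMap) →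
          Function.Bijective f.weightMap := by
  constructor
  · intro had ι' M' N' _ _ _ _ _ Q f hinj _
    refine ⟨hinj, ?_⟩
    rw [← LinearMap.range_eq_top, eq_top_iff, ← had, Submodule.span_le]
    rintro - ⟨i, rfl⟩
    refine ⟨Q.root (f.indexEquiv.symm i), ?_⟩
    rw [f.root_weightMap_apply, Equiv.apply_symm_apply]
  · intro H
    have := free_S P
    have := free_M P
    have hfin : Finite (M ⧸ LinearMap.range (fHom P).weightMap) := by
      change Finite (M ⧸ LinearMap.range (Submodule.span ℤ (Set.range P.root)).subtype)
      rw [Submodule.range_subtype]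
      exact Submodule.finiteQuotientOfFreeOfRankEq _ hss
    have hinj : Function.Injective (fHom P).weightMap := Subtype.val_injective
    have h := H ι ↥(Submodule.span ℤ (Set.range P.root))
      (Module.Dual ℤ ↥(Submodule.span ℤ (Set.range P.root))) (P' P) (fHom P) hinj hfin
    have h2 : LinearMap.range (Submodule.span ℤ (Set.range P.root)).subtype = ⊤ :=
      LinearMap.range_eq_top.mpr h.2
    rwa [Submodule.range_subtype] at h2

end Aux5501
namespace Groth.Agent.S5501

/-- Adjoint case; the simply connected case is dual: a semisimple root datum R is adjoint if and only if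
every isogeny R' → R is an isomorphism. -/
theorem result {ι : Type u} {M : Type v} {N : Type w} [AddCommGroup M] [AddCommGroup N]
    (P : RootPairing ι ℤ M N) [Finite ι] [Module.Finite ℤ M] [Module.Finite ℤ N]
    (hss : Module.finrank ℤ (Submodule.span ℤ (Set.range P.root)) = Module.finrank ℤ M) :
    Submodule.span ℤ (Set.range P.root) = ⊤ ↔
      ∀ (ι' : Type u) (M' N' : Type v) [AddCommGroup M'] [AddCommGroup N'] [Finite ι']
        [Module.Finite ℤ M'] [Module.Finite ℤ N'] (P' : RootPairing ι' ℤ M' N') (f : RootPairing.Hom P' P),
        Function.Injective f.weightMap → Finite (M ⧸ LinearMap.range f.weightMap) →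
          Function.Bijective f.weightMap := by
  exact Aux5501.main P hss

end Groth.Agent.S5501
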