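import Mathlib
import Groth.Statements.S5502
import Groth.Agent.S5485

set_option autoImplicit false
open RootD

namespace Aux5502
open RootD Groth.Agent.Lib.Helper2.RootD

variable {ι M N : Type*} [AddCommGroup M] [AddCommGroup N]

theorem lc_eq_sum {A : Type*} [AddCommGroup A] (v : ι → A) (Δ : Set ι) [Fintype Δ] (c : ι →₀ ℤ)
    (hc : ↑c.support ⊆ Δ) :
    Finsupp.linearCombination ℤ v c = ∑ δ : Δ, c δ • v δ := by
  classical
  rw [Finsupp.linearCombination_apply, Finsupp.sum]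
  rw [← Finset.sum_subtype (s := Δ.toFinset) (p := (· ∈ Δ)) (fun x => Set.mem_toFinset)
    (f := fun x => c x • v x)]
  apply Finset.sum_subset
  · intro x hx
    rw [Set.mem_toFinset]
    exact hc hx
  · intro x _ hx
    rw [Finsupp.notMem_support_iff.mp hx, zero_smul]

variable (P : RootPairing ι ℤ M N) [Finite ι]

theorem Q_of_mem (Δ : Set ι) [Fintype Δ] (x : N)
    (hx : x ∈ AddSubmonoid.closure (P.coroot '' Aux5485.indSet P Δ)) :
    ∃ b' : Δ → ℤ, (2 : ℤ) • x = ∑ δ : Δ, b' δ • P.coroot δ ∧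
      ∀ δ : Δ, RootD.IsIndiv P.flip δ → Even (b' δ) := by
  classical
  induction hx using AddSubmonoid.closure_induction with
  | mem x hx =>
    obtain ⟨d, ⟨i, hi, h⟩, rfl⟩ := hx
    rcases h with ⟨rfl, hind⟩ | h
    · refine ⟨Pi.single ⟨d, hi⟩ 2, ?_, ?_⟩
      · rw [Finset.sum_eq_single ⟨d, hi⟩]
        · simp
        · intro b _ hb
          simp [Pi.single_apply, hb]
        · simp
      · intro δ _
        by_cases h : δ = ⟨d, hi⟩
        · subst h
          simp
        · simp [Pi.single_apply, h]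
    · refine ⟨Pi.single ⟨i, hi⟩ 1, ?_, ?_⟩
      · rw [Finset.sum_eq_single ⟨i, hi⟩]
        · simp [h]
        · intro b _ hb
          simp [Pi.single_apply, hb]
        · simp
      · intro δ hδ
        by_cases h' : δ = ⟨i, hi⟩
        · subst h'
          exact absurd h (hδ d)
        · simp [Pi.single_apply, h']
  | zero => exact ⟨0, by simp, fun _ _ => by simp⟩
  | add x y _ _ hx hy =>
    obtain ⟨b₁, h₁, e₁⟩ := hx
    obtain ⟨b₂, h₂, e₂⟩ := hy
    refine ⟨b₁ + b₂, ?_, fun δ hδ => (e₁ δ hδ).add (e₂ δ hδ)⟩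
    rw [smul_add, h₁, h₂, ← Finset.sum_add_distrib]
    apply Finset.sum_congr rfl
    intro δ _
    rw [Pi.add_apply, add_smul]

theorem Q_coroot (Δ : Set ι) (hΔ : IsSimpleSys P Δ) [Fintype Δ] (k : ι) :
    ∃ b' : Δ → ℤ, (2 : ℤ) • P.coroot k = ∑ δ : Δ, b' δ • P.coroot δ ∧
      ∀ δ : Δ, RootD.IsIndiv P.flip δ → Even (b' δ) := by
  rcases (Aux5485.main P Δ hΔ).mem_or_neg_mem k with h | h
  · exact Q_of_mem P Δ _ h
  · obtain ⟨b', h1, h2⟩ := Q_of_mem P Δ _ h
    refine ⟨-b', ?_, fun δ hδ => (h2 δ hδ).neg⟩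
    have e : (2 : ℤ) • P.coroot k = -((2 : ℤ) • (-P.flip.root k)) := by
      rw [smul_neg, neg_neg]
      rfl
    rw [e, h1, ← Finset.sum_neg_distrib]
    apply Finset.sum_congr rfl
    intro δ _
    rw [Pi.neg_apply, neg_smul]

theorem main [Fintype ι] (Δ : Set ι) (hΔ : RootD.IsSimpleSys P Δ)
    (k : ι) (c : ι →₀ ℤ) (hc : ↑c.support ⊆ Δ) (hck : Finsupp.linearCombination ℤ P.root c = P.root k)
    (i : ι) (hi : i ∈ Δ) :
    P.RootForm (P.root k) (P.root k) ∣ 2 * c i * P.RootForm (P.root i) (P.root i) ∧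
      (RootD.IsIndiv P.flip i → 2 * P.RootForm (P.root k) (P.root k) ∣ 2 * c i * P.RootForm (P.root i) (P.root i)) := by
  classical
  have : Fintype Δ := Fintype.ofFinite Δ
  have hck' : P.root k = ∑ δ : Δ, c δ • P.root δ := by
    rw [← hck]
    exact lc_eq_sum P.root Δ c hc
  have hstar : P.RootForm (P.root k) (P.root k) • P.coroot k =
      ∑ δ : Δ, (c δ * P.RootForm (P.root δ) (P.root δ)) • P.coroot δ := by
    rw [P.rootForm_self_smul_coroot]
    conv_lhs => rw [hck']
    rw [map_sum, Finset.smul_sum]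
    apply Finset.sum_congr rfl
    intro δ _
    rw [map_zsmul, mul_smul, P.rootForm_self_smul_coroot, smul_comm]
  obtain ⟨b', hb', heven⟩ := Q_coroot P Δ hΔ k
  have hli := Aux5485.linIndep_coroot P hΔ
  rw [Fintype.linearIndependent_iff] at hli
  have hzero : ∑ δ : Δ, (P.RootForm (P.root k) (P.root k) * b' δ -
      2 * (c δ * P.RootForm (P.root δ) (P.root δ))) • P.coroot (δ : ι) = 0 := by
    have h1 : ∑ δ : Δ, (P.RootForm (P.root k) (P.root k) * b' δ) • P.coroot (δ : ι) =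
        P.RootForm (P.root k) (P.root k) • ((2 : ℤ) • P.coroot k) := by
      rw [hb', Finset.smul_sum]
      apply Finset.sum_congr rfl
      intro δ _
      rw [mul_smul]
    have h2 : ∑ δ : Δ, (2 * (c δ * P.RootForm (P.root δ) (P.root δ))) • P.coroot (δ : ι) =
        (2 : ℤ) • (P.RootForm (P.root k) (P.root k) • P.coroot k) := by
      rw [hstar, Finset.smul_sum]
      apply Finset.sum_congr rfl
      intro δ _
      rw [mul_smul]
    simp_rw [sub_smul]
    rw [Finset.sum_sub_distrib, h1, h2, smul_comm, sub_self]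
  have hi' := hli _ hzero ⟨i, hi⟩
  simp only at hi'
  constructor
  · exact ⟨b' ⟨i, hi⟩, by linarith⟩
  · intro hind
    obtain ⟨m, hm⟩ := heven ⟨i, hi⟩ hind
    exact ⟨m, by rw [hm] at hi'; linarith⟩

end Aux5502
namespace Groth.Agent.S5502

/-- If β = Σ_{α ∈ Δ} a_α α along a system of simple roots Δ, then ℓ(β) divides 2 a_α ℓ(α), and 2ℓ(β)
divides it when α^v is indivisible (ℓ the canonical quadratic form). -/
theorem result {ι M N : Type*} [AddCommGroup M] [AddCommGroup N]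
    (P : RootPairing ι ℤ M N) [Finite ι] [Fintype ι] (Δ : Set ι) (hΔ : RootD.IsSimpleSys P Δ)
    (k : ι) (c : ι →₀ ℤ) (hc : ↑c.support ⊆ Δ) (hck : Finsupp.linearCombination ℤ P.root c = P.root k)
    (i : ι) (hi : i ∈ Δ) :
    P.RootForm (P.root k) (P.root k) ∣ 2 * c i * P.RootForm (P.root i) (P.root i) ∧
      (RootD.IsIndiv P.flip i → 2 * P.RootForm (P.root k) (P.root k) ∣ 2 * c i * P.RootForm (P.root i) (P.root i)) := by
  exact Aux5502.main P Δ hΔ k c hc hck i hi

end Groth.Agent.S5502
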