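import Mathlib
import Groth.Statements.S5507


set_option autoImplicit false
open RootD

namespace Aux5507
open Matrix
variable {ι M N : Type*} [AddCommGroup M] [AddCommGroup N] (P : RootPairing ι ℤ M N)

theorem rootForm_root_self_pos [Fintype ι] (a : ι) : 0 < P.RootForm (P.root a) (P.root a) := by
  apply P.rootForm_pos_of_ne_zero (Submodule.subset_span ⟨a, rfl⟩) (P.ne_zero a)

theorem rootForm_comm [Fintype ι] (x y : M) : P.RootForm x y = P.RootForm y x := by
  have := P.rootForm_symmetric.eq x y
  simpa using this

theorem entry_eq [Fintype ι] (a b : ι) :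
    P.RootForm (P.root a) (P.root a) * P.pairing b a = 2 * P.RootForm (P.root a) (P.root b) := by
  have h := P.toInvariantForm.two_mul_apply_root_root b a
  simp only [RootPairing.toInvariantForm_form] at h
  rw [rootForm_comm P (P.root a) (P.root b), h]; ring

theorem main [Finite ι] (Δ : Finset ι) (hΔ : RootD.IsSimpleSys P (↑Δ : Set ι)) :
    ∃ m : ↥Δ → ℤ, (∀ a, 0 < m a) ∧
      (Matrix.of fun (a b : ↥Δ) => m a * P.pairing (b : ι) (a : ι)).IsSymm ∧
      (Matrix.of fun (a b : ↥Δ) => m a * P.pairing (b : ι) (a : ι)).PosDef := by
  classical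
  have : Fintype ι := Fintype.ofFinite ι
  refine ⟨fun a => P.RootForm (P.root a) (P.root a), fun a => rootForm_root_self_pos P a, ?_, ?_⟩
  · ext a b
    simp only [Matrix.transpose_apply, Matrix.of_apply]
    rw [entry_eq, entry_eq, rootForm_comm]
  · rw [Matrix.posDef_iff_dotProduct_mulVec]
    constructor
    · ext a b
      simp only [Matrix.conjTranspose_apply, Matrix.of_apply, star_trivial]
      rw [entry_eq, entry_eq, rootForm_comm]
    · intro x hx
      set v : M := ∑ a : ↥Δ, x a • P.root a with hv
      have hvne : v ≠ 0 := by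
        intro h0
        have hli : LinearIndependent ℤ (fun a : ↥Δ => P.root a) := hΔ.linInd
        have := Fintype.linearIndependent_iff.mp hli x h0
        exact hx (funext this)
      have hvmem : v ∈ P.rootSpan ℤ := by
        apply Submodule.sum_mem
        intro a _
        exact Submodule.smul_mem _ _ (Submodule.subset_span ⟨a, rfl⟩)
      have hpos := P.rootForm_pos_of_ne_zero hvmem hvne
      have hexp : star x ⬝ᵥ ((Matrix.of fun (a b : ↥Δ) => P.RootForm (P.root a) (P.root a) * P.pairing (b : ι) (a : ι)) *ᵥ x) =
          2 * P.RootForm v v := by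
        simp only [dotProduct, Matrix.mulVec, Matrix.of_apply, star_trivial, Pi.star_apply, entry_eq]
        rw [hv]
        simp only [map_sum, LinearMap.sum_apply, map_smul, LinearMap.smul_apply, smul_eq_mul,
          Finset.mul_sum]
        refine Finset.sum_congr rfl fun a _ => ?_
        refine Finset.sum_congr rfl fun b _ => ?_
        rw [rootForm_comm P (P.root b) (P.root a)]
        ring
      rw [hexp]
      positivity

end Aux5507

namespace Groth.Agent.S5507

/-- For a system of simple roots Δ there are positive integers m_α (the lengths) such that the matrix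
(m_α a_{α,β}) with a_{α,β} = (α^v, β) is symmetric and positive definite. -/
theorem result {ι M N : Type*} [AddCommGroup M] [AddCommGroup N]
    (P : RootPairing ι ℤ M N) [Finite ι] (Δ : Finset ι) (hΔ : RootD.IsSimpleSys P (↑Δ : Set ι)) :
    ∃ m : ↥Δ → ℤ, (∀ a, 0 < m a) ∧
      (Matrix.of fun (a b : ↥Δ) => m a * P.pairing (b : ι) (a : ι)).IsSymm ∧
      (Matrix.of fun (a b : ↥Δ) => m a * P.pairing (b : ι) (a : ι)).PosDef := by
  exact Aux5507.main P Δ hΔ

end Groth.Agent.S5507
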