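import Groth.Statements.S5579
import Groth.Agent.Lib.Helper9.ToposFin

set_option autoImplicit false
open CategoryTheory CategoryTheory.Limits Opposite
universe u
open ToposFin

namespace Groth.Agent.S5579

/-- For the topos of sheaves of sets on a small site: for two morphisms f : X -> Y and f' : X' -> Y'
over a common base S, if f and f' are quasi-compact (resp. quasi-separated, resp. coherent), then so
is the product morphism f x_S f' : X x_S X' -> Y x_S Y'. -/
theorem result {C : Type u} [SmallCategory C] {J : GrothendieckTopology C}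
    {X Y X' Y' S : ToposFin.Sh J} (f : X ⟶ Y) (f' : X' ⟶ Y') (a : Y ⟶ S) (a' : Y' ⟶ S) :
    (ToposFin.IsQCHom f → ToposFin.IsQCHom f' →
      ToposFin.IsQCHom (pullback.map (f ≫ a) (f' ≫ a') a a' f f' (𝟙 S) (Category.comp_id _) (Category.comp_id _))) ∧
    (ToposFin.IsQSHom f → ToposFin.IsQSHom f' →
      ToposFin.IsQSHom (pullback.map (f ≫ a) (f' ≫ a') a a' f f' (𝟙 S) (Category.comp_id _) (Category.comp_id _))) ∧
    (ToposFin.IsCohHom f → ToposFin.IsCohHom f' →
      ToposFin.IsCohHom (pullback.map (f ≫ a) (f' ≫ a') a a' f f' (𝟙 S) (Category.comp_id _) (Category.comp_id _))) := by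
  refine ⟨?_, ?_, ?_⟩
  · intro h h'
    exact (Groth.Agent.Lib.Helper9.qcHom (J := J)).pullbackMap h h' rfl rfl
  · intro h h'
    exact ((Groth.Agent.Lib.Helper9.qcHom (J := J)).diagonal).pullbackMap h h' rfl rfl
  · intro h h'
    exact ⟨(Groth.Agent.Lib.Helper9.qcHom (J := J)).pullbackMap h.1 h'.1 rfl rfl,
      ((Groth.Agent.Lib.Helper9.qcHom (J := J)).diagonal).pullbackMap h.2 h'.2 rfl rfl⟩

end Groth.Agent.S5579
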