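import Groth.Statements.S5582
import Groth.Agent.Lib.Helper5.ToposIndCoh

set_option autoImplicit false
open CategoryTheory CategoryTheory.Limits Opposite
universe u
open ToposFin

namespace Groth.Agent.S5582

open Groth.Agent.Lib.Helper9 Groth.Agent.Lib.Helper5.ToposEpi Groth.Agent.Lib.Helper5.ToposQC
  Groth.Agent.Lib.Helper5.ToposColimHom Groth.Agent.Lib.Helper5.ToposPresent
  Groth.Agent.Lib.Helper5.ToposFP Groth.Agent.Lib.Helper5.ToposIndCoh Groth.Agent.Lib.Helper5

/-- Equivalence of (i), (ii bis) and (iii), for the topos of sheaves of sets on a small site admitting a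
generating family of coherent objects: the coequalizer of every pair of arrows between coherent
objects is coherent if and only if every object X for which Hom(X, -) commutes with small filtered
colimits is coherent; and every object is a small filtered colimit of coherent objects if and only
if that same condition holds. -/
theorem result {C : Type u} [SmallCategory C]
    {J : GrothendieckTopology C} (hE : ToposFin.HasCoherentGenerators J) :
    ((∀ (X₀ X₁ : ToposFin.Sh J) (a b : X₁ ⟶ X₀), ToposFin.IsCoherent X₀ → ToposFin.IsCoherent X₁ →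
        ToposFin.IsCoherent (coequalizer a b)) ↔
      (∀ X : ToposFin.Sh J, ToposFin.IsFP X → ToposFin.IsCoherent X)) ∧
    ((∀ X : ToposFin.Sh J, ∃ (I : Type u) (_ : SmallCategory I) (_ : IsFiltered I) (D : I ⥤ ToposFin.Sh J),
        (∀ i, ToposFin.IsCoherent (D.obj i)) ∧ Nonempty (X ≅ colimit D)) ↔
      (∀ X : ToposFin.Sh J, ToposFin.IsFP X → ToposFin.IsCoherent X)) := by
  have hQC : ToposFin.HasQCGenerators J := hasQCGenerators_of_coherent hE
  have hgen : ∀ X : ToposFin.Sh J, ∃ (ι : Type u) (F : ι → ToposFin.Sh J) (π : ∀ i, F i ⟶ X),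
      (∀ i, ToposFin.IsCoherent (F i)) ∧ JEpi π := by
    intro X
    obtain ⟨ι, F, π, hF, hπ⟩ := hE X
    exact ⟨ι, F, π, hF, (epi_desc_iff π).1 hπ⟩
  have retr : ∀ {X Y : ToposFin.Sh J} (i : X ⟶ Y) (p : Y ⟶ X), i ≫ p = 𝟙 X →
      ToposFin.IsCoherent Y → ToposFin.IsCoherent X := by
    intro X Y i p hip hY
    haveI : IsSplitMono i := IsSplitMono.mk' { retraction := p, id := hip }
    exact ⟨isQC_of_retract i p hip hY.1, isQS_of_mono i hY.2⟩
  have h12 : (∀ (X₀ X₁ : ToposFin.Sh J) (a b : X₁ ⟶ X₀), ToposFin.IsCoherent X₀ →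
      ToposFin.IsCoherent X₁ → ToposFin.IsCoherent (coequalizer a b)) →
      (∀ X : ToposFin.Sh J, ToposFin.IsFP X → ToposFin.IsCoherent X) := by
    intro h X hX
    obtain ⟨ι, κ, F, G, s, t, a, b, i, p, hF, hG, hip⟩ :=
      exists_retract_of_isFP ToposFin.IsCoherent hgen X hX
    exact retr i p hip (h _ _ a b (isCoherent_sigma_finite _ (fun b => hF b.1))
      (isCoherent_sigma_finite _ (fun b => hG b.1)))
  have h21 : (∀ X : ToposFin.Sh J, ToposFin.IsFP X → ToposFin.IsCoherent X) →
      (∀ (X₀ X₁ : ToposFin.Sh J) (a b : X₁ ⟶ X₀), ToposFin.IsCoherent X₀ →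
      ToposFin.IsCoherent X₁ → ToposFin.IsCoherent (coequalizer a b)) := by
    intro h X₀ X₁ a b h₀ h₁
    exact h _ (isFP_of_retract_coequalizer hQC a b (𝟙 _) (𝟙 _) h₀ h₁.1 (Category.id_comp _))
  refine ⟨⟨h12, h21⟩, ⟨?_, ?_⟩⟩
  · intro h X hX
    obtain ⟨I, _, _, D, hD, ⟨e⟩⟩ := h X
    obtain ⟨x, hx⟩ := (hX I D).2 e.hom
    obtain ⟨j, σ, rfl⟩ := Types.jointly_surjective' x
    rw [ToposColimSet.post_ι_apply] at hx
    let σ' : X ⟶ D.obj j := σ
    have hx' : σ' ≫ colimit.ι D j = e.hom := hx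
    refine retr σ' (colimit.ι D j ≫ e.inv) ?_ (hD j)
    rw [← Category.assoc, hx', e.hom_inv_id]
  · intro h X
    exact exists_filtered_presentation ToposFin.IsCoherent hgen
      (fun β _ L hL => isCoherent_sigma_finite L hL) (h21 h) X

end Groth.Agent.S5582
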