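import Groth.Statements.S5588
import Groth.Agent.Lib.Helper5.ToposPresent
import Groth.Agent.Lib.Helper5.ToposCartan

set_option autoImplicit false
open CategoryTheory CategoryTheory.Limits Opposite
universe u
open ToposFin

namespace Groth.Agent.S5588

open Groth.Agent.Lib.Helper9 Groth.Agent.Lib.Helper5.ToposEpi Groth.Agent.Lib.Helper5.ToposQC
  Groth.Agent.Lib.Helper5.ToposColimHom Groth.Agent.Lib.Helper5.ToposCartan
  Groth.Agent.Lib.Helper5.ToposPresent in
theorem aux {C : Type u} [SmallCategory C]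
    {J : GrothendieckTopology C} (S : Set (ToposFin.Sh J)) (hqc : ∀ K ∈ S, ToposFin.IsQC K)
    (hiso : ∀ ⦃K L : ToposFin.Sh J⦄, K ∈ S → Nonempty (K ≅ L) → L ∈ S)
    (hgen : ToposFin.IsGenerating S) (hpb : ToposFin.ClosedUnderPullbacks S)
    (hcolim : ∀ (K : Type) [SmallCategory K] [FinCategory K] (D : K ⥤ ToposFin.Sh J),
      (∀ k, D.obj k ∈ S) → colimit D ∈ S) :
    (∀ X : ToposFin.Sh J, X ∈ S ↔ ToposFin.IsCoherent X) ∧
    (∀ X : ToposFin.Sh J, ToposFin.IsFP X → ToposFin.IsCoherent X) := by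
  have hcoh_of_mem : ∀ X, X ∈ S → ToposFin.IsCoherent X :=
    fun X h => isCoherent_of_mem hqc hgen hpb h
  have hsig : ∀ {β : Type u} [Finite β] (L : β → ToposFin.Sh J), (∀ b, L b ∈ S) → ∐ L ∈ S := by
    intro β _ L hL
    obtain ⟨n, ⟨e⟩⟩ := Finite.exists_equiv_fin β
    have h1 := hcolim (Discrete (Fin n)) (Discrete.functor (L ∘ e.symm)) (fun k => hL _)
    haveI : HasCoproduct (L ∘ e.symm) := ⟨⟨_, colimit.isColimit (Discrete.functor (L ∘ e.symm))⟩⟩
    exact hiso h1 ⟨Sigma.whiskerEquiv e.symm (fun j => Iso.refl _)⟩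
  have hcoeq : ∀ {A B : ToposFin.Sh J} (a b : A ⟶ B), A ∈ S → B ∈ S → coequalizer a b ∈ S := by
    intro A B a b hA hB
    refine hcolim WalkingParallelPair (parallelPair a b) ?_
    rintro (_ | _)
    · exact hA
    · exact hB
  have hmem_of_coh : ∀ X, ToposFin.IsCoherent X → X ∈ S := by
    intro X hX
    obtain ⟨β, _, L, z, hL, hz⟩ := exists_finite_cover hgen X hX.1
    let Z : ToposFin.Sh J := ∐ L
    let p : Z ⟶ X := Sigma.desc z
    have : Epi p := (epi_desc_iff z).2 hz
    have hZ : Z ∈ S := hsig L hL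
    have hZqc := hqc Z hZ
    have hR₀ : ToposFin.IsQC (pullback p p) := hX.2 Z Z p p hZqc hZqc
    obtain ⟨β', _, M, r, hM, hr⟩ := exists_finite_cover hgen (pullback p p) hR₀
    let R : ToposFin.Sh J := ∐ M
    let ρ : R ⟶ pullback p p := Sigma.desc r
    have : Epi ρ := (epi_desc_iff r).2 hr
    have hR : R ∈ S := hsig M hM
    have hW := hcoeq (ρ ≫ pullback.fst p p) (ρ ≫ pullback.snd p p) hR hZ
    have w : (ρ ≫ pullback.fst p p) ≫ p = (ρ ≫ pullback.snd p p) ≫ p := by
      rw [Category.assoc, Category.assoc, pullback.condition]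
    have key : ∀ s : Cofork (ρ ≫ pullback.fst p p) (ρ ≫ pullback.snd p p),
        ∃ l : X ⟶ s.pt, p ≫ l = s.π := by
      intro s
      apply exists_desc_of_epi p s.π
      rw [← cancel_epi ρ]
      have := s.condition
      simpa using this
    have hcolimX : IsColimit (Cofork.ofπ p w) :=
      Cofork.IsColimit.mk' _ (fun s => ⟨(key s).choose, (key s).choose_spec, fun {m} hm => by
        rw [← cancel_epi p]
        exact hm.trans (key s).choose_spec.symm⟩)
    exact hiso hW ⟨(colimit.isColimit _).coconePointUniqueUpToIso hcolimX⟩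
  refine ⟨fun X => ⟨hcoh_of_mem X, hmem_of_coh X⟩, fun X hX => ?_⟩
  obtain ⟨ι, κ, F, G, s, t, a, b, i, p, hF, hG, hip⟩ :=
    exists_retract_of_isFP (fun K => K ∈ S) (fun X => hgen X) X hX
  have hW : coequalizer a b ∈ S := hcoeq a b (hsig _ (fun k => hG k)) (hsig _ (fun i => hF i))
  have hWc := hcoh_of_mem _ hW
  haveI : IsSplitMono i := ⟨⟨p, hip⟩⟩
  exact ⟨isQC_of_retract i p hip hWc.1, isQS_of_mono i hWc.2⟩

/-- (ii) implies (i), for the topos of sheaves of sets on a small site: let S be an isomorphism-closed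
generating set of quasi-compact objects, stable under finite colimits and under fibre products. Then
S is the set of all coherent objects (so the topos is locally coherent), and every object X for
which Hom(X, -) commutes with small filtered colimits is coherent. -/
theorem result {C : Type u} [SmallCategory C]
    {J : GrothendieckTopology C} (S : Set (ToposFin.Sh J)) (hqc : ∀ K ∈ S, ToposFin.IsQC K)
    (hiso : ∀ ⦃K L : ToposFin.Sh J⦄, K ∈ S → Nonempty (K ≅ L) → L ∈ S)
    (hgen : ToposFin.IsGenerating S) (hpb : ToposFin.ClosedUnderPullbacks S)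
    (hcolim : ∀ (K : Type) [SmallCategory K] [FinCategory K] (D : K ⥤ ToposFin.Sh J),
      (∀ k, D.obj k ∈ S) → colimit D ∈ S) :
    (∀ X : ToposFin.Sh J, X ∈ S ↔ ToposFin.IsCoherent X) ∧
    (∀ X : ToposFin.Sh J, ToposFin.IsFP X → ToposFin.IsCoherent X) := by
  exact aux S hqc hiso hgen hpb hcolim

end Groth.Agent.S5588
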