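import Groth.Statements.S5591
import Groth.Agent.Lib.Helper5.ToposFunctor

set_option autoImplicit false
open CategoryTheory CategoryTheory.Limits Opposite
universe u
open ToposFin

namespace Groth.Agent.S5591

open Groth.Agent.Lib.Helper9 Groth.Agent.Lib.Helper5.ToposEpi Groth.Agent.Lib.Helper5.ToposQC
  Groth.Agent.Lib.Helper5.ToposFunctor

/-- Let f be a coherent morphism between locally coherent topoi of sheaves of sets on small sites, with
inverse image functor F (left adjoint, preserving finite limits), coherent meaning that F preserves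
quasi-compact objects and quasi-separated objects. Then F carries quasi-compact morphisms to
quasi-compact morphisms. -/
theorem result {C D : Type u} [SmallCategory C] [SmallCategory D]
    {J : GrothendieckTopology C} {K : GrothendieckTopology D}
    (F : ToposFin.Sh K ⥤ ToposFin.Sh J) (R : ToposFin.Sh J ⥤ ToposFin.Sh K) (adj : F ⊣ R)
    [PreservesFiniteLimits F]
    (S : Set (ToposFin.Sh K)) (hqc : ∀ X ∈ S, ToposFin.IsQC X) (hgen : ToposFin.IsGenerating S)
    (hpb : ToposFin.ClosedUnderPullbacks S)
    (S' : Set (ToposFin.Sh J)) (hqc' : ∀ X ∈ S', ToposFin.IsQC X) (hgen' : ToposFin.IsGenerating S')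
    (hpb' : ToposFin.ClosedUnderPullbacks S')
    (hFqc : ∀ X : ToposFin.Sh K, ToposFin.IsQC X → ToposFin.IsQC (F.obj X))
    (hFqs : ∀ X : ToposFin.Sh K, ToposFin.IsQS X → ToposFin.IsQS (F.obj X))
    {X Y : ToposFin.Sh K} (v : X ⟶ Y) (hv : ToposFin.IsQCHom v) :
    ToposFin.IsQCHom (F.map v) := by
  have hE' : ToposFin.HasQCGenerators J := hasQCGenerators_of_isGenerating S' hqc' hgen'
  intro T t hT
  obtain ⟨ι, G, π, hGS, hπ⟩ := hgen Y
  have hFπ : JEpi (fun i => F.map (π i)) := JEpi.map_of_adj F R adj hπ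
  obtain ⟨κ, H, idx, σ, hH, hσ⟩ := exists_qc_refinement hE' _ (hFπ.pullback_snd t)
  apply isQC_pullback_of_cover (F.map v) t hT _ hσ
  intro k
  have hGqs : ToposFin.IsQS (F.obj (G (idx k))) :=
    hFqs _ (isQS_of_mem_closedUnderPullbacks S hqc hgen hpb (hGS (idx k)))
  have h0 : ToposFin.IsQC (pullback (F.map v) (F.map (π (idx k)))) := by
    rw [isQC_pullback_map_iff]
    exact hFqc _ (hv _ (π (idx k)) (hqc _ (hGS (idx k))))
  have h1 : ToposFin.IsQC (pullback (pullback.snd (F.map v) (F.map (π (idx k))))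
      (σ k ≫ pullback.fst (F.map (π (idx k))) t)) :=
    hGqs _ _ _ _ h0 (hH k)
  have h2 := isQC_of_iso
    (pullbackLeftPullbackSndIso (F.map v) (F.map (π (idx k))) (σ k ≫ pullback.fst _ _)) h1
  refine isQC_congr rfl ?_ h2
  simp only [Category.assoc, pullback.condition]

end Groth.Agent.S5591
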