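import Groth.Statements.S5592
import Mathlib
import Groth.Agent.S3055

set_option autoImplicit false
open CategoryTheory CategoryTheory.Limits AlgebraicGeometry Opposite
universe u
open EtDesc

namespace Groth.Agent.S5592

/-- Let k' be a separably closed extension field of a separably closed field k and u : Spec k' -> Spec k
the canonical morphism. Then the inverse image functor u^* from etale sheaves of sets on Spec k to
etale sheaves of sets on Spec k' is an equivalence of categories. -/
theorem result (k k' : Type u) [Field k] [IsSepClosed k]
    [Field k'] [IsSepClosed k'] [Algebra k k'] :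
    (EtDesc.pullSh (Spec.map (CommRingCat.ofHom (algebraMap k k')))).IsEquivalence := by
  have e : EtDesc.pushSh (Spec.map (CommRingCat.ofHom (algebraMap k k'))) ⋙
      (sheafSections (Spec (CommRingCat.of k)).smallEtaleTopology (Type (u + 1))).obj
        (op (EtCoh.top (Spec (CommRingCat.of k)))) ≅
      (sheafSections (Spec (CommRingCat.of k')).smallEtaleTopology (Type (u + 1))).obj
        (op (EtCoh.top (Spec (CommRingCat.of k')))) :=
    NatIso.ofComponents
      (fun F => F.obj.mapIso
        (EtCore.bcTopIso (Spec.map (CommRingCat.ofHom (algebraMap k k')))).op.symm)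
      (fun {F G} φ => by
        simp only [Functor.comp_map, Functor.mapIso_hom, Iso.symm_hom]
        exact (φ.hom.naturality _).symm)
  haveI h1 := Groth.Agent.S3055.result k
  haveI h2 := Groth.Agent.S3055.result k'
  haveI h3 : (EtDesc.pushSh (Spec.map (CommRingCat.ofHom (algebraMap k k'))) ⋙
      (sheafSections (Spec (CommRingCat.of k)).smallEtaleTopology (Type (u + 1))).obj
        (op (EtCoh.top (Spec (CommRingCat.of k))))).IsEquivalence :=
    Functor.isEquivalence_of_iso e.symm
  haveI h4 : (EtDesc.pushSh (Spec.map (CommRingCat.ofHom (algebraMap k k')))).IsEquivalence :=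
    Functor.isEquivalence_of_comp_right _
      ((sheafSections (Spec (CommRingCat.of k)).smallEtaleTopology (Type (u + 1))).obj
        (op (EtCoh.top (Spec (CommRingCat.of k)))))
  exact (EtDesc.adjSh (Spec.map (CommRingCat.ofHom (algebraMap k k')))).isEquivalence_left_of_isEquivalence_right

end Groth.Agent.S5592
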