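import Groth.Statements.S5593
import Groth.Agent.Lib.Helper15.StrictLocSpec

set_option autoImplicit false
open CategoryTheory CategoryTheory.Limits AlgebraicGeometry Opposite
universe u
open EtDesc

namespace Groth.Agent.S5593

/-- Let X be a scheme, x, x' points of X with strict localisations Spec R -> X and Spec R' -> X (R, R'
strict henselisations of the local rings at x and x'). There is an X-morphism Spec R' -> Spec R,
i.e. the geometric point over x is a specialization of the one over x', if and only if x lies in the
closure of x'. -/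
theorem result (X : Scheme.{u}) (x x' : X)
    (R : Type u) [CommRing R] [IsLocalRing R] [Algebra (X.presheaf.stalk x) R]
    [IsLocalHom (algebraMap (X.presheaf.stalk x) R)] [Hensel.IsStrictHenselization (X.presheaf.stalk x) R]
    (R' : Type u) [CommRing R'] [IsLocalRing R'] [Algebra (X.presheaf.stalk x') R']
    [IsLocalHom (algebraMap (X.presheaf.stalk x') R')] [Hensel.IsStrictHenselization (X.presheaf.stalk x') R'] :
    (∃ g : Spec (CommRingCat.of R') ⟶ Spec (CommRingCat.of R), g ≫ Hens2.specOf X x R = Hens2.specOf X x' R') ↔
      x' ⤳ x := by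
  constructor
  · rintro ⟨g, hg⟩
    have h1 : (Hens2.specOf X x' R') (IsLocalRing.closedPoint R') = x' :=
      Groth.Agent.Lib.Helper15.StrictLocSpec.specOf_closedPoint X x' R'
    exact Groth.Agent.Lib.Helper15.StrictLocSpec.specializes_of_comp X x R g
      (IsLocalRing.closedPoint R')
      ((congrArg (fun m : Spec (CommRingCat.of R') ⟶ X => m (IsLocalRing.closedPoint R')) hg).trans
        h1)
  · intro hsp
    haveI : HenselianLocalRing R' :=
      Hensel.IsStrictHenselization.henselian (R := X.presheaf.stalk x')
    haveI : IsSepClosed (IsLocalRing.ResidueField R') :=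
      (Hensel.IsStrictHenselization.isSepClosure (R := X.presheaf.stalk x') (S := R')).sep_closed
    obtain ⟨w₀, hw₀⟩ := Groth.Agent.Lib.Helper15.StrictLocSpec.residueHom_exists
      (X.presheaf.stalk x) R R'
      ((algebraMap (X.presheaf.stalk x') R').comp (X.presheaf.stalkSpecializes hsp).hom)
    obtain ⟨φ, hφ, -⟩ := Groth.Agent.Lib.Helper15.StrictLocSpec.ringHom_exists
      (X.presheaf.stalk x) R R' _ w₀ hw₀
    refine ⟨Spec.map (CommRingCat.ofHom φ), ?_⟩
    rw [Groth.Agent.Lib.Helper15.StrictLocSpec.comp_specOf X x R φ, hφ]
    exact (Groth.Agent.Lib.Helper15.StrictLocSpec.specOf_eq_of_specializes X x hsp R').symm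

end Groth.Agent.S5593
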