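import Groth.Statements.S5594
import Groth.Agent.Lib.Helper15.StrictLocSpec

set_option autoImplicit false
open CategoryTheory CategoryTheory.Limits AlgebraicGeometry Opposite
universe u
open EtDesc

namespace Groth.Agent.S5594

/-- Let X be a scheme, x, x' points of X with strict localisations Spec R -> X and Spec R' -> X, and ξ'
: Spec κ(R') -> Spec R' the closed point, a geometric point of X over x'. Then restricting along ξ'
is a bijection from the X-morphisms Spec R' -> Spec R (specialization arrows) onto the X-morphisms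
from the geometric point Spec κ(R') to Spec R: injectivity and surjectivity are stated separately. -/
theorem result (X : Scheme.{u}) (x x' : X)
    (R : Type u) [CommRing R] [IsLocalRing R] [Algebra (X.presheaf.stalk x) R]
    [IsLocalHom (algebraMap (X.presheaf.stalk x) R)] [Hensel.IsStrictHenselization (X.presheaf.stalk x) R]
    (R' : Type u) [CommRing R'] [IsLocalRing R'] [Algebra (X.presheaf.stalk x') R']
    [IsLocalHom (algebraMap (X.presheaf.stalk x') R')] [Hensel.IsStrictHenselization (X.presheaf.stalk x') R'] :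
    (∀ g₁ g₂ : Spec (CommRingCat.of R') ⟶ Spec (CommRingCat.of R),
      g₁ ≫ Hens2.specOf X x R = Hens2.specOf X x' R' → g₂ ≫ Hens2.specOf X x R = Hens2.specOf X x' R' →
      Spec.map (CommRingCat.ofHom (IsLocalRing.residue R')) ≫ g₁ =
        Spec.map (CommRingCat.ofHom (IsLocalRing.residue R')) ≫ g₂ → g₁ = g₂) ∧
    (∀ h : Spec (CommRingCat.of (IsLocalRing.ResidueField R')) ⟶ Spec (CommRingCat.of R),
      h ≫ Hens2.specOf X x R = Hens2.geomPt X x' R' →
      ∃ g : Spec (CommRingCat.of R') ⟶ Spec (CommRingCat.of R),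
        g ≫ Hens2.specOf X x R = Hens2.specOf X x' R' ∧
        Spec.map (CommRingCat.ofHom (IsLocalRing.residue R')) ≫ g = h) := by
  haveI hHens : HenselianLocalRing R' :=
    Hensel.IsStrictHenselization.henselian (R := X.presheaf.stalk x')
  have key : ∀ {A B C : Type u} [CommRing A] [CommRing B] [CommRing C] (φ : A →+* B) (ψ : B →+* C)
      {Y : Scheme.{u}} (m : Spec (CommRingCat.of A) ⟶ Y),
      Spec.map (CommRingCat.ofHom (ψ.comp φ)) ≫ m =
        Spec.map (CommRingCat.ofHom ψ) ≫ Spec.map (CommRingCat.ofHom φ) ≫ m := by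
    intros
    rw [CommRingCat.ofHom_comp, Spec.map_comp, Category.assoc]
  have hcl : (Hens2.specOf X x' R') (IsLocalRing.closedPoint R') = x' :=
    Groth.Agent.Lib.Helper15.StrictLocSpec.specOf_closedPoint X x' R'
  refine ⟨?_, ?_⟩
  · intro g₁ g₂ h1 h2 h3
    obtain ⟨φ₁, rfl⟩ := Groth.Agent.Lib.Helper15.StrictLocSpec.exists_ringHom_of_hom g₁
    obtain ⟨φ₂, rfl⟩ := Groth.Agent.Lib.Helper15.StrictLocSpec.exists_ringHom_of_hom g₂
    have hsp : x' ⤳ x := Groth.Agent.Lib.Helper15.StrictLocSpec.specializes_of_comp X x R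
      (Spec.map (CommRingCat.ofHom φ₁)) (IsLocalRing.closedPoint R')
      ((congrArg (fun m : Spec (CommRingCat.of R') ⟶ X => m (IsLocalRing.closedPoint R')) h1).trans
        hcl)
    have e1 : φ₁.comp (algebraMap (X.presheaf.stalk x) R) =
        (algebraMap (X.presheaf.stalk x') R').comp (X.presheaf.stalkSpecializes hsp).hom := by
      apply Groth.Agent.Lib.Helper15.StrictLocSpec.ringHom_ext_of_fromSpecStalk X
      rw [← Groth.Agent.Lib.Helper15.StrictLocSpec.comp_specOf X x R φ₁, h1]
      exact Groth.Agent.Lib.Helper15.StrictLocSpec.specOf_eq_of_specializes X x hsp R'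
    have e2 : φ₂.comp (algebraMap (X.presheaf.stalk x) R) =
        (algebraMap (X.presheaf.stalk x') R').comp (X.presheaf.stalkSpecializes hsp).hom := by
      apply Groth.Agent.Lib.Helper15.StrictLocSpec.ringHom_ext_of_fromSpecStalk X
      rw [← Groth.Agent.Lib.Helper15.StrictLocSpec.comp_specOf X x R φ₂, h2]
      exact Groth.Agent.Lib.Helper15.StrictLocSpec.specOf_eq_of_specializes X x hsp R'
    have h3' : Spec.map (CommRingCat.ofHom ((IsLocalRing.residue R').comp φ₁)) =
        Spec.map (CommRingCat.ofHom ((IsLocalRing.residue R').comp φ₂)) := by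
      rw [CommRingCat.ofHom_comp, CommRingCat.ofHom_comp, Spec.map_comp, Spec.map_comp]
      exact h3
    have h4 := Spec.map_injective h3'
    have e3 : (IsLocalRing.residue R').comp φ₁ = (IsLocalRing.residue R').comp φ₂ :=
      congrArg CommRingCat.Hom.hom h4
    have e4 : φ₁ = φ₂ := Groth.Agent.Lib.Helper15.StrictLocSpec.ringHom_unique
      (X.presheaf.stalk x) R R' _ φ₁ φ₂ e1 e2 e3
    rw [e4]
  · intro h hh
    obtain ⟨w₀, rfl⟩ := Groth.Agent.Lib.Helper15.StrictLocSpec.exists_ringHom_of_hom h
    haveI : IsLocalRing ↑(CommRingCat.of R') := inferInstanceAs (IsLocalRing R')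
    haveI : IsLocalRing ↑(CommRingCat.of (IsLocalRing.ResidueField R')) :=
      inferInstanceAs (IsLocalRing (IsLocalRing.ResidueField R'))
    haveI : IsLocalHom (CommRingCat.ofHom (IsLocalRing.residue R')).hom :=
      inferInstanceAs (IsLocalHom (IsLocalRing.residue R'))
    have hres : (Spec.map (CommRingCat.ofHom (IsLocalRing.residue R')))
        (IsLocalRing.closedPoint (IsLocalRing.ResidueField R')) = IsLocalRing.closedPoint R' :=
      Spec_closedPoint (f := CommRingCat.ofHom (IsLocalRing.residue R'))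
    have hpt : (Hens2.geomPt X x' R') (IsLocalRing.closedPoint (IsLocalRing.ResidueField R')) =
        x' :=
      (Scheme.Hom.comp_apply _ _ _).trans
        ((congrArg (fun p => (Hens2.specOf X x' R') p) hres).trans hcl)
    have hsp : x' ⤳ x := Groth.Agent.Lib.Helper15.StrictLocSpec.specializes_of_comp X x R
      (Spec.map (CommRingCat.ofHom w₀)) (IsLocalRing.closedPoint (IsLocalRing.ResidueField R'))
      ((congrArg (fun m : Spec (CommRingCat.of (IsLocalRing.ResidueField R')) ⟶ X =>
        m (IsLocalRing.closedPoint (IsLocalRing.ResidueField R'))) hh).trans hpt)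
    have e0 : w₀.comp (algebraMap (X.presheaf.stalk x) R) =
        (IsLocalRing.residue R').comp
          ((algebraMap (X.presheaf.stalk x') R').comp (X.presheaf.stalkSpecializes hsp).hom) := by
      apply Groth.Agent.Lib.Helper15.StrictLocSpec.ringHom_ext_of_fromSpecStalk X
      rw [← Groth.Agent.Lib.Helper15.StrictLocSpec.comp_specOf X x R w₀, hh, key,
        ← Groth.Agent.Lib.Helper15.StrictLocSpec.specOf_eq_of_specializes X x hsp R']
    obtain ⟨φ, hφ1, hφ2⟩ := Groth.Agent.Lib.Helper15.StrictLocSpec.ringHom_exists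
      (X.presheaf.stalk x) R R' _ w₀ e0
    refine ⟨Spec.map (CommRingCat.ofHom φ), ?_, ?_⟩
    · rw [Groth.Agent.Lib.Helper15.StrictLocSpec.comp_specOf X x R φ, hφ1]
      exact (Groth.Agent.Lib.Helper15.StrictLocSpec.specOf_eq_of_specializes X x hsp R').symm
    · have e5 : (IsLocalRing.residue R').comp φ = w₀ := hφ2
      rw [← e5, CommRingCat.ofHom_comp, Spec.map_comp]

end Groth.Agent.S5594
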