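import Groth.Statements.S5596
import Mathlib
import Groth.Agent.Lib.Helper13.StalkConservative
import Groth.Agent.Lib.Helper15.ShUnit

set_option autoImplicit false
open CategoryTheory CategoryTheory.Limits AlgebraicGeometry Opposite
universe u
open EtDesc

namespace Groth.Agent.S5596

open Groth.Agent.Lib.Helper13 Groth.Agent.Lib.Helper15

/-- A morphism v : F -> G of etale sheaves of sets on a scheme X is a monomorphism (resp. an
epimorphism) if and only if for every geometric point ξ of X (a morphism from the spectrum of a
separably closed field) the map of stalks F_ξ -> G_ξ is injective (resp. surjective). -/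
theorem result {X : Scheme.{u}} {F G : EtDesc.Sh X} (v : F ⟶ G) :
    (Mono v ↔ ∀ (Ω : Type u) [Field Ω] [IsSepClosed Ω] (ξ : Spec (CommRingCat.of Ω) ⟶ X),
      Function.Injective (((Scheme.pointSmallEtale ξ).sheafFiber (A := Type (u + 1))).map v)) ∧
    (Epi v ↔ ∀ (Ω : Type u) [Field Ω] [IsSepClosed Ω] (ξ : Spec (CommRingCat.of Ω) ⟶ X),
      Function.Surjective (((Scheme.pointSmallEtale ξ).sheafFiber (A := Type (u + 1))).map v)) := by
  have hcov := StalkConservative.detectsCovers_etale X
  refine ⟨⟨fun hm Ω _ _ ξ => ?_, fun h => ?_⟩, ⟨fun he Ω _ _ ξ => ?_, fun h => ?_⟩⟩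
  · haveI := hm
    haveI : Presheaf.IsLocallyInjective X.smallEtaleTopology v.hom :=
      Presheaf.isLocallyInjective_of_injective _ _
        (fun U => ShUnit.injective_of_mono_sh v U)
    exact (Scheme.pointSmallEtale ξ).toPresheafFiber_map_injective v.hom
  · haveI : Sheaf.IsLocallyInjective v :=
      StalkConservative.isLocallyInjective_of_fibers hcov v.hom (fun i => h i.Ω i.ξ)
    exact Sheaf.mono_of_isLocallyInjective v
  · haveI := he
    haveI : Sheaf.IsLocallySurjective v := (Sheaf.isLocallySurjective_iff_epi v).2 he
    exact (Scheme.pointSmallEtale ξ).toPresheafFiber_map_surjective v.hom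
  · haveI : Sheaf.IsLocallySurjective v :=
      StalkConservative.isLocallySurjective_of_fibers hcov v.hom (fun i => h i.Ω i.ξ)
    exact (Sheaf.isLocallySurjective_iff_epi v).1 inferInstance

end Groth.Agent.S5596
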