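-- Statement S5597.
import Groth.Statements.S5597
import Mathlib
import Groth.Agent.Lib.Helper1.PCohFT

set_option autoImplicit false
universe w v u
open CategoryTheory CategoryTheory.Limits
open PCoh

namespace Groth.Agent.S5597

open Groth.Agent.Lib.Helper1.PCohFT

/-- Punctual site: let C be an abelian category and C₀ a strictly full additive subcategory,
quasi-stable under kernels of epimorphisms and quasi-liftable. If F is strictly n-pseudo-coherent
(bounded above, terms in C₀ from degree n on) and u : E ⟶ F is a quasi-isomorphism of cochain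
complexes, then E receives a quasi-isomorphism from some strictly n-pseudo-coherent complex. -/
theorem result {C : Type u} [Category.{v} C] [Abelian C]
    (P : ObjectProperty C) [P.IsClosedUnderIsomorphisms] [P.ContainsZero] (hsum : ∀ X Y : C, P X → P Y → P (X ⨯ Y))
    (hqs : PCoh.IsQuasiStableUnderKernels P) (hql : PCoh.IsQuasiLiftable P)
    (n : ℤ) (E F : CochainComplex C ℤ) (hF : PCoh.IsStrictPC P n F) (u : E ⟶ F) (hu : QuasiIso u) :
    ∃ (F' : CochainComplex C ℤ) (v : F' ⟶ E), PCoh.IsStrictPC P n F' ∧ QuasiIso v := by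
  obtain ⟨bF, hFb⟩ := hF.1
  have hm : ∀ j, bF + 1 ≤ j → E.ExactAt j := by
    intro j hj
    have h1 : F.ExactAt j := ShortComplex.exact_of_isZero_X₂ _ (hFb j (by omega))
    rw [HomologicalComplex.exactAt_iff_isZero_homology] at h1 ⊢
    exact IsZero.of_iso h1 (asIso (HomologicalComplex.homologyMap u j))
  obtain ⟨F', v, hqi, hP', hz'⟩ := core P hsum hqs hql u n hF (bF + 1) hm
  exact ⟨F', v, ⟨⟨max (bF + 1) n, fun i hi => hz' i (by omega) (by omega)⟩, hP'⟩, hqi⟩

end Groth.Agent.S5597
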