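-- Statement S5598.
import Groth.Statements.S5598
import Mathlib
import Groth.Agent.Lib.Helper1.PCohMore

set_option autoImplicit false
universe w v u
open CategoryTheory CategoryTheory.Limits
open PCoh

namespace Groth.Agent.S5598

open Groth.Agent.Lib.Helper1.PCohFT Groth.Agent.Lib.Helper1.PCohTri Groth.Agent.Lib.Helper1.PCohMore

/-- (i') ⇔ (ii') (punctual site): let C be an abelian category and C₀ a strictly full additive
subcategory, quasi-stable under kernels of epimorphisms and quasi-liftable. An object F of D(C) is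
n-pseudo-coherent (isomorphic in D(C) to a strictly n-pseudo-coherent complex) if and only if there
are a strictly perfect complex E (bounded, all terms in C₀) and a morphism E ⟶ F of D(C) which is an
n-isomorphism: an isomorphism on H^i for i > n and an epimorphism on H^n. -/
theorem result {C : Type u} [Category.{v} C] [Abelian C] [HasDerivedCategory.{w} C]
    (P : ObjectProperty C) [P.IsClosedUnderIsomorphisms] [P.ContainsZero] (hsum : ∀ X Y : C, P X → P Y → P (X ⨯ Y))
    (hqs : PCoh.IsQuasiStableUnderKernels P) (hql : PCoh.IsQuasiLiftable P)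
    (n : ℤ) (F : DerivedCategory C) :
    (∃ E : CochainComplex C ℤ, PCoh.IsStrictPC P n E ∧ Nonempty (DerivedCategory.Q.obj E ≅ F)) ↔
      ∃ (E : CochainComplex C ℤ) (a b : ℤ) (α : DerivedCategory.Q.obj E ⟶ F),
        (∀ i : ℤ, i < a ∨ b < i → IsZero (E.X i)) ∧ (∀ i : ℤ, P (E.X i)) ∧
        (∀ i : ℤ, n < i → IsIso ((DerivedCategory.homologyFunctor C i).map α)) ∧
        Epi ((DerivedCategory.homologyFunctor C n).map α) := by
  constructor
  · rintro ⟨E₁, hE₁, ⟨e⟩⟩
    obtain ⟨b₁, hb₁⟩ := hE₁.1
    have hm : ∀ j, b₁ + 1 ≤ j → E₁.ExactAt j := fun j hj =>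
      ShortComplex.exact_of_isZero_X₂ _ (hb₁ j (by omega))
    have hq : QuasiIso (𝟙 E₁) := inferInstance
    obtain ⟨G, w, hGP, hGb, hGl, hex⟩ :=
      exists_perfect_nQuasiIso P hsum hqs hql (𝟙 E₁) n hE₁ (b₁ + 1) hm
    refine ⟨G, n, max (b₁ + 1) n - 1, DerivedCategory.Q.map w ≫ e.hom, ?_, hGP, ?_, ?_⟩
    · rintro i (hi | hi)
      · exact hGl i hi
      · exact hGb i (by omega)
    · intro i hi
      have h1 : IsIso (HomologicalComplex.homologyMap w i) :=
        isIso_homologyMap_of_cocone_exact w i (i + 1) rfl (hex i hi) (hex (i + 1) (by omega))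
      have h2 := (isIso_homologyFunctor_map_Q_map_iff w i).2 h1
      rw [Functor.map_comp]
      infer_instance
    · have h1 : Epi (HomologicalComplex.homologyMap w n) :=
        epi_homologyMap_of_cocone_exact w n (n + 1) rfl (hex (n + 1) (by omega))
      have h2 := (epi_homologyFunctor_map_Q_map_iff w n).2 h1
      rw [Functor.map_comp]
      exact epi_comp _ _
  · rintro ⟨E, a, b, α, hz, hP, hiso, hepi⟩
    let F₁ := DerivedCategory.Q.objPreimage F
    let e : DerivedCategory.Q.obj F₁ ≅ F := DerivedCategory.Q.objObjPreimageIso F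
    have hE : PCoh.IsStrictPC P n E := ⟨⟨b, fun i hi => hz i (Or.inr hi)⟩, fun i _ => hP i⟩
    obtain ⟨E₃, s, f, hE₃, hs, hf⟩ := exists_repr hsum hqs hql hE (α ≫ e.inv)
    have hsiso : IsIso (DerivedCategory.Q.map s) :=
      (DerivedCategory.isIso_Q_map_iff_quasiIso (φ := s)).2 hs
    have hmap : ∀ i, (DerivedCategory.homologyFunctor C i).map (DerivedCategory.Q.map f) =
        (DerivedCategory.homologyFunctor C i).map (DerivedCategory.Q.map s) ≫
          (DerivedCategory.homologyFunctor C i).map α ≫
          (DerivedCategory.homologyFunctor C i).map e.inv := by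
      intro i
      rw [hf, Functor.map_comp, Functor.map_comp]
    have hex : ∀ j, n < j → (CochainComplex.mappingCocone f).ExactAt j := by
      intro j hj
      refine Groth.Agent.Lib.Helper1.PCohCone.cocone_exactAt f (n + 1) ?_ n rfl ?_ j (by omega)
      · intro i hi
        rw [← isIso_homologyFunctor_map_Q_map_iff, hmap]
        have := hiso i (by omega)
        infer_instance
      · rw [← epi_homologyFunctor_map_Q_map_iff, hmap]
        have : Epi ((DerivedCategory.homologyFunctor C n).map α ≫
            (DerivedCategory.homologyFunctor C n).map e.inv) := epi_comp _ _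
        exact epi_comp _ _
    exact (NPC.of_cocone_exact hE₃ f hex).of_iso e

end Groth.Agent.S5598
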