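import Groth.Statements.S5602


set_option autoImplicit false
universe w v u
open CategoryTheory CategoryTheory.Limits
open PCoh

namespace Groth.Agent.S5602

noncomputable def augX {C : Type u} [Category.{v} C] [Abelian C] (n : ℤ) (E : CochainComplex C ℤ) :
    ℕ → C
  | 0 => E.cycles n
  | (i + 1) => E.X (n + i)

noncomputable def augD {C : Type u} [Category.{v} C] [Abelian C] (n : ℤ) (E : CochainComplex C ℤ) :
    ∀ i : ℕ, augX n E i ⟶ augX n E (i + 1)
  | 0 => E.iCycles n ≫ (E.XIsoOfEq (show n = n + ((0 : ℕ) : ℤ) by simp)).hom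
  | (i + 1) => E.d (n + i) (n + ((i + 1 : ℕ) : ℤ))

theorem augD_sq {C : Type u} [Category.{v} C] [Abelian C] (n : ℤ) (E : CochainComplex C ℤ)
    (i : ℕ) : augD n E i ≫ augD n E (i + 1) = 0 := by
  cases i with
  | zero =>
    show (E.iCycles n ≫ (E.XIsoOfEq (show n = n + ((0 : ℕ) : ℤ) by simp)).hom) ≫
      E.d (n + ((0 : ℕ) : ℤ)) (n + ((0 + 1 : ℕ) : ℤ)) = 0
    rw [Category.assoc, HomologicalComplex.XIsoOfEq_hom_comp_d, HomologicalComplex.iCycles_d]
  | succ i => exact E.d_comp_d _ _ _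

noncomputable def augK {C : Type u} [Category.{v} C] [Abelian C] (n : ℤ) (E : CochainComplex C ℤ) :
    CochainComplex C ℕ :=
  CochainComplex.of (augX n E) (augD n E) (augD_sq n E)

theorem augK_d {C : Type u} [Category.{v} C] [Abelian C] (n : ℤ) (E : CochainComplex C ℤ)
    (i : ℕ) : (augK n E).d i (i + 1) = augD n E i :=
  CochainComplex.of_d (augX n E) (augD n E) i

theorem augD_zero_mono {C : Type u} [Category.{v} C] [Abelian C] (n : ℤ)
    (E : CochainComplex C ℤ) : Mono (augD n E 0) := by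
  show Mono (E.iCycles n ≫ (E.XIsoOfEq (show n = n + ((0 : ℕ) : ℤ) by simp)).hom)
  exact mono_comp _ _

theorem augD_zero_lift {C : Type u} [Category.{v} C] [Abelian C] (n : ℤ)
    (E : CochainComplex C ℤ) {A : C} (x : A ⟶ augX n E 1) (hx : x ≫ augD n E 1 = 0) :
    ∃ y : A ⟶ augX n E 0, y ≫ augD n E 0 = x := by
  change A ⟶ E.X (n + ((0 : ℕ) : ℤ)) at x
  change x ≫ E.d (n + ((0 : ℕ) : ℤ)) (n + ((0 + 1 : ℕ) : ℤ)) = 0 at hx
  have hx' : (x ≫ (E.XIsoOfEq (show n = n + ((0 : ℕ) : ℤ) by simp)).inv) ≫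
      E.d n (n + ((0 + 1 : ℕ) : ℤ)) = 0 := by
    rw [Category.assoc, HomologicalComplex.XIsoOfEq_inv_comp_d, hx]
  refine ⟨E.liftCycles (x ≫ (E.XIsoOfEq (show n = n + ((0 : ℕ) : ℤ) by simp)).inv) _ (by simp) hx',
    ?_⟩
  show E.liftCycles (x ≫ (E.XIsoOfEq (show n = n + ((0 : ℕ) : ℤ) by simp)).inv) _ _ hx' ≫
    (E.iCycles n ≫ (E.XIsoOfEq (show n = n + ((0 : ℕ) : ℤ) by simp)).hom) = x
  rw [HomologicalComplex.liftCycles_i_assoc, Category.assoc, Iso.inv_hom_id, Category.comp_id]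

theorem augK_exactAt_zero {C : Type u} [Category.{v} C] [Abelian C] (n : ℤ)
    (E : CochainComplex C ℤ) : (augK n E).ExactAt 0 := by
  rw [HomologicalComplex.exactAt_iff' (augK n E) 0 0 1 (by simp) (by simp)]
  have h0 : ((augK n E).sc' 0 0 1).f = 0 := by
    show (augK n E).d 0 0 = 0
    apply HomologicalComplex.shape; simp
  rw [ShortComplex.exact_iff_mono _ h0]
  show Mono ((augK n E).d 0 1)
  rw [augK_d n E 0]
  exact augD_zero_mono n E

theorem augK_exactAt_one {C : Type u} [Category.{v} C] [Abelian C] (n : ℤ)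
    (E : CochainComplex C ℤ) : (augK n E).ExactAt 1 := by
  rw [HomologicalComplex.exactAt_iff' (augK n E) 0 1 2 (by simp) (by simp)]
  rw [ShortComplex.exact_iff_exact_up_to_refinements]
  intro A x hx
  change A ⟶ augX n E 1 at x
  change x ≫ (augK n E).d 1 2 = 0 at hx
  rw [augK_d n E 1] at hx
  obtain ⟨y, hy⟩ := augD_zero_lift n E x hx
  refine ⟨A, 𝟙 A, inferInstance, y, ?_⟩
  show 𝟙 A ≫ x = y ≫ (augK n E).d 0 1
  rw [Category.id_comp, augK_d n E 0]
  exact hy.symm

theorem augK_exactAt_succ_succ {C : Type u} [Category.{v} C] [Abelian C] (n : ℤ)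
    (E : CochainComplex C ℤ) (i : ℕ) (h : E.ExactAt (n + ((i + 1 : ℕ) : ℤ))) :
    (augK n E).ExactAt (i + 2) := by
  rw [HomologicalComplex.exactAt_iff' (augK n E) (i + 1) (i + 2) (i + 3) (by simp) (by simp)]
  rw [HomologicalComplex.exactAt_iff' E (n + (i : ℕ)) (n + ((i + 1 : ℕ) : ℤ))
    (n + ((i + 2 : ℕ) : ℤ)) (by simp; omega) (by simp; omega)] at h
  have e : (augK n E).sc' (i + 1) (i + 2) (i + 3) ≅
      E.sc' (n + (i : ℕ)) (n + ((i + 1 : ℕ) : ℤ)) (n + ((i + 2 : ℕ) : ℤ)) :=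
    ShortComplex.isoMk (Iso.refl _) (Iso.refl _) (Iso.refl _)
      (by
        show 𝟙 _ ≫ E.d _ _ = (augK n E).d (i + 1) (i + 2) ≫ 𝟙 _
        rw [augK_d n E (i + 1), Category.id_comp, Category.comp_id]; rfl)
      (by
        show 𝟙 _ ≫ E.d _ _ = (augK n E).d (i + 2) (i + 3) ≫ 𝟙 _
        rw [augK_d n E (i + 2), Category.id_comp, Category.comp_id]; rfl)
  exact (ShortComplex.exact_iff_of_iso e).2 h

/-- Let C be an abelian category and C₀ a class of objects, closed under isomorphisms and quasi-stable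
under kernels of epimorphisms. If E is strictly n-pseudo-coherent (bounded above, terms in C₀ from
degree n on) and H^i(E) = 0 for i > n, then H^n(E) is of C₀-finite type. -/
theorem result {C : Type u} [Category.{v} C] [Abelian C]
    (P : ObjectProperty C) [P.IsClosedUnderIsomorphisms] (hqs : PCoh.IsQuasiStableUnderKernels P)
    (n : ℤ) (E : CochainComplex C ℤ) (hE : PCoh.IsStrictPC P n E)
    (hac : ∀ i : ℤ, n < i → IsZero (E.homology i)) :
    PCoh.IsOfFiniteType P (E.homology n) := by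
  obtain ⟨⟨b, hb⟩, hP⟩ := hE
  have hK : PCoh.IsOfFiniteType P ((augK n E).X 0) := by
    apply hqs (augK n E)
    · intro i
      match i with
      | 0 => exact augK_exactAt_zero n E
      | 1 => exact augK_exactAt_one n E
      | (i + 2) =>
        apply augK_exactAt_succ_succ n E i
        rw [HomologicalComplex.exactAt_iff_isZero_homology]
        apply hac
        push_cast; omega
    · refine ⟨(b - n).toNat + 1, ?_⟩
      intro i hi
      obtain ⟨j, rfl⟩ : ∃ j, i = j + 1 := ⟨i - 1, by omega⟩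
      show IsZero (E.X (n + j))
      apply hb
      omega
    · intro i hi
      obtain ⟨j, rfl⟩ : ∃ j, i = j + 1 := ⟨i - 1, by omega⟩
      show P (E.X (n + j))
      apply hP
      omega
  obtain ⟨E₀, π, hE₀, hπ⟩ := hK
  let π' : E₀ ⟶ E.cycles n := π
  have hπ' : Epi π' := hπ
  exact ⟨E₀, π' ≫ E.homologyπ n, hE₀, epi_comp _ _⟩

end Groth.Agent.S5602
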