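-- Statement S5603.
import Groth.Statements.S5603
import Mathlib
import Groth.Agent.Lib.Helper1.PCohMore

set_option autoImplicit false
universe w v u
open CategoryTheory CategoryTheory.Limits
open PCoh

namespace Groth.Agent.S5603

open Groth.Agent.Lib.Helper1.PCohFT Groth.Agent.Lib.Helper1.PCohTri Groth.Agent.Lib.Helper1.PCohMore

/-- Punctual site: let C be an abelian category and C₀ a strictly full additive subcategory,
quasi-stable under kernels of epimorphisms and quasi-liftable. If F ∈ D(C) is acyclic in degrees >
n, then F is n-pseudo-coherent (isomorphic to a strictly n-pseudo-coherent complex) if and only if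
H^n(F) is of C₀-finite type. -/
theorem result {C : Type u} [Category.{v} C] [Abelian C] [HasDerivedCategory.{w} C]
    (P : ObjectProperty C) [P.IsClosedUnderIsomorphisms] [P.ContainsZero] (hsum : ∀ X Y : C, P X → P Y → P (X ⨯ Y))
    (hqs : PCoh.IsQuasiStableUnderKernels P) (hql : PCoh.IsQuasiLiftable P)
    (n : ℤ) (F : DerivedCategory C) (hac : ∀ i : ℤ, n < i → IsZero ((DerivedCategory.homologyFunctor C i).obj F)) :
    (∃ E : CochainComplex C ℤ, PCoh.IsStrictPC P n E ∧ Nonempty (DerivedCategory.Q.obj E ≅ F)) ↔ PCoh.IsOfFiniteType P ((DerivedCategory.homologyFunctor C n).obj F) := by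
  constructor
  · rintro ⟨E, hE, ⟨e⟩⟩
    have hex : ∀ j, n < j → E.ExactAt j := fun j hj =>
      exactAt_of_isZero_homologyFunctor e j (hac j hj)
    exact isOfFiniteType_of_iso P (homologyIsoOfIso e n)
      (finiteType_homology_of_strictPC hqs hE hex)
  · intro hft
    let F₁ := DerivedCategory.Q.objPreimage F
    let e : DerivedCategory.Q.obj F₁ ≅ F := DerivedCategory.Q.objObjPreimageIso F
    have hex : ∀ j, n < j → F₁.ExactAt j := fun j hj =>
      exactAt_of_isZero_homologyFunctor e j (hac j hj)
    have hft' : PCoh.IsOfFiniteType P (F₁.homology n) :=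
      isOfFiniteType_of_iso P (homologyIsoOfIso e n).symm hft
    exact (NPC.of_finiteType_top hql F₁ n hex hft').of_iso e

end Groth.Agent.S5603
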