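-- Statement S5606.
import Groth.Statements.S5606
import Mathlib
import Groth.Agent.Lib.Helper1.PCohObj

set_option autoImplicit false
universe w v u
open CategoryTheory CategoryTheory.Limits
open PCoh

namespace Groth.Agent.S5606

open Groth.Agent.Lib.Helper1.PCohFT Groth.Agent.Lib.Helper1.PCohTri Groth.Agent.Lib.Helper1.PCohDev

/-- Let C be an abelian category, C₀ ⊆ C₁ strictly full additive subcategories with C₀ quasi-stable
under kernels of epimorphisms and quasi-liftable. If every object of C₁ is C₀-pseudo-coherent, then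
C₁ is quasi-liftable in C and quasi-stable under kernels of epimorphisms. -/
theorem result {C : Type u} [Category.{v} C] [Abelian C] [HasDerivedCategory.{w} C]
    (P : ObjectProperty C) [P.IsClosedUnderIsomorphisms] [P.ContainsZero] (hsum : ∀ X Y : C, P X → P Y → P (X ⨯ Y))
    (hqs : PCoh.IsQuasiStableUnderKernels P) (hql : PCoh.IsQuasiLiftable P)
    (P₁ : ObjectProperty C) [P₁.IsClosedUnderIsomorphisms] [P₁.ContainsZero]
    (hsum₁ : ∀ X Y : C, P₁ X → P₁ Y → P₁ (X ⨯ Y)) (hle : ∀ X : C, P X → P₁ X)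
    (hpc : ∀ X : C, P₁ X → PCoh.IsPC P ((DerivedCategory.singleFunctor C 0).obj X)) :
    PCoh.IsQuasiLiftable P₁ ∧ PCoh.IsQuasiStableUnderKernels P₁ := by
  have hpc' : ∀ X : C, P₁ X → PCobj P X := hpc
  have hft : ∀ X : C, PCobj P X → PCoh.IsOfFiniteType P₁ X := by
    intro X hX
    obtain ⟨N, π, hN, hπ⟩ := PCobj.finiteType hqs hX
    exact ⟨N, π, hle N hN, hπ⟩
  refine ⟨?_, ?_⟩
  · intro E F u hu hF
    obtain ⟨N, π, hN, hπ⟩ := PCobj.finiteType hqs (hpc' F hF)
    have hsnd : Epi (pullback.snd u π) := Abelian.epi_pullback_of_epi_f u π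
    obtain ⟨N', v', hN', hv'⟩ := hql _ _ (pullback.snd u π) hsnd hN
    refine ⟨N', v' ≫ pullback.fst u π, hle N' hN', ?_⟩
    have e : (v' ≫ pullback.fst u π) ≫ u = (v' ≫ pullback.snd u π) ≫ π := by
      rw [Category.assoc, Category.assoc, pullback.condition]
    rw [e]
    exact epi_comp _ _
  · intro K hK ⟨n₀, hb⟩ hP
    have h1 : PCobj P (kernel (K.d 1 (1 + 1))) :=
      P_kernel_d_nat (PCobj P) (fun X Y e h => PCobj.of_iso e h) (fun X h => PCobj.of_isZero h)
        (fun E F u hu hE hF => PCobj.kernel hsum hqs hql u hE hF) K n₀ (fun i _ => hK i) hb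
        (fun i hi => hpc' _ (hP i hi)) n₀ 1 (by omega) le_rfl
    have h2 : PCobj P (K.X 0) := PCobj.of_iso (X_zero_iso_kernel K (hK 0) (hK 1)).symm h1
    exact hft _ h2

end Groth.Agent.S5606
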