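-- Statement S5608.
import Groth.Statements.S5608
import Mathlib
import Groth.Agent.Lib.Helper1.PCohCoh

set_option autoImplicit false
universe w v u
open CategoryTheory CategoryTheory.Limits
open PCoh

namespace Groth.Agent.S5608

open Groth.Agent.Lib.Helper1.PCohFT Groth.Agent.Lib.Helper1.PCohTri Groth.Agent.Lib.Helper1.PCohDev
  Groth.Agent.Lib.Helper1.PCohMore Groth.Agent.Lib.Helper1.PCohCoh

/-- Punctual site: let C be an abelian category and C₀ a strictly full additive subcategory,
quasi-liftable in C, whose objects are C₀-coherent (of C₀-finite type, and every morphism from an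
object of C₀ into them has kernel of C₀-finite type). For F ∈ D(C) with bounded above cohomology and
n an integer: F is n-pseudo-coherent (isomorphic to a strictly n-pseudo-coherent complex) if and
only if H^n(F) is of C₀-finite type and H^i(F) is C₀-coherent for every i > n. -/
theorem result {C : Type u} [Category.{v} C] [Abelian C] [HasDerivedCategory.{w} C]
    (P : ObjectProperty C) [P.IsClosedUnderIsomorphisms] [P.ContainsZero] (hsum : ∀ X Y : C, P X → P Y → P (X ⨯ Y))
    (hql : PCoh.IsQuasiLiftable P)
    (hcoh : ∀ (X E : C) (u : E ⟶ X), P X → P E → PCoh.IsOfFiniteType P (kernel u))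
    (n : ℤ) (F : DerivedCategory C) (b : ℤ) (hb : ∀ i : ℤ, b < i → IsZero ((DerivedCategory.homologyFunctor C i).obj F)) :
    (∃ E : CochainComplex C ℤ, PCoh.IsStrictPC P n E ∧ Nonempty (DerivedCategory.Q.obj E ≅ F)) ↔
      (PCoh.IsOfFiniteType P ((DerivedCategory.homologyFunctor C n).obj F) ∧
        ∀ i : ℤ, n < i → (PCoh.IsOfFiniteType P ((DerivedCategory.homologyFunctor C i).obj F) ∧
          ∀ (E : C) (u : E ⟶ (DerivedCategory.homologyFunctor C i).obj F), P E → PCoh.IsOfFiniteType P (kernel u))) := by
  have hqs : PCoh.IsQuasiStableUnderKernels P := quasiStable_of_coh hcoh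
  constructor
  · rintro ⟨E, hE, ⟨e⟩⟩
    refine ⟨isOfFiniteType_of_iso P (homologyIsoOfIso e n) (ft_homology_of_strictPC hcoh hE),
      fun i hi => ?_⟩
    exact Coh.of_iso (homologyIsoOfIso e i) (coh_homology_of_strictPC hsum hql hcoh hE i hi)
  · rintro ⟨hn, hi⟩
    refine NPC.of_homology hsum hqs hql n (b - n + 1).toNat F (fun i hi => hb i ?_) ?_
    · have := Int.self_le_toNat (b - n + 1)
      omega
    · intro i hni
      rcases hni.eq_or_lt with rfl | hlt
      · exact (NPC_zero_of_ft hql hn).mono (by omega)
      · exact PCobj_of_coh hsum hql hcoh (hi i hlt) (n - i)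

end Groth.Agent.S5608
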