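-- Statement S5609.
import Groth.Statements.S5609
import Mathlib
import Groth.Agent.Lib.Helper1.PCohLib

set_option autoImplicit false
universe w v u
open CategoryTheory CategoryTheory.Limits
open PCoh

namespace Groth.Agent.S5609

open Groth.Agent.Lib.Helper1.PCohLib

open CategoryTheory.Pretriangulated in
/-- Punctual site: stability of perfect complexes under cones: let C be an abelian category and C₀ a
strictly full additive subcategory which is liftable (every epimorphism onto an object of C₀ splits)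
and stable under kernels of epimorphisms. If E ⟶ F ⟶ G ⟶ E⟦1⟧ is a distinguished triangle of D(C)
with E and F perfect relative to C₀ (isomorphic to bounded complexes with terms in C₀), then G is
perfect relative to C₀. -/
theorem result {C : Type u} [Category.{v} C] [Abelian C] [HasDerivedCategory.{w} C]
    (P : ObjectProperty C) [P.IsClosedUnderIsomorphisms] [P.ContainsZero] (hsum : ∀ X Y : C, P X → P Y → P (X ⨯ Y))
    (hlift : ∀ (E F : C) (u : E ⟶ F), Epi u → P F → IsSplitEpi u)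
    (hst : ∀ (E F : C) (u : E ⟶ F), Epi u → P E → P F → P (kernel u))
    (T : Triangle (DerivedCategory C)) (hT : T ∈ distinguishedTriangles)
    (h₁ : (∃ (E : CochainComplex C ℤ) (a b : ℤ), (∀ i : ℤ, i < a ∨ b < i → IsZero (E.X i)) ∧ (∀ i : ℤ, P (E.X i)) ∧ Nonempty (DerivedCategory.Q.obj E ≅ T.obj₁)))
    (h₂ : (∃ (E : CochainComplex C ℤ) (a b : ℤ), (∀ i : ℤ, i < a ∨ b < i → IsZero (E.X i)) ∧ (∀ i : ℤ, P (E.X i)) ∧ Nonempty (DerivedCategory.Q.obj E ≅ T.obj₂))) :
    (∃ (E : CochainComplex C ℤ) (a b : ℤ), (∀ i : ℤ, i < a ∨ b < i → IsZero (E.X i)) ∧ (∀ i : ℤ, P (E.X i)) ∧ Nonempty (DerivedCategory.Q.obj E ≅ T.obj₃)) := by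
  obtain ⟨E₁, a₁, b₁, hv₁, hP₁, ⟨e₁⟩⟩ := h₁
  obtain ⟨E₂, a₂, b₂, hv₂, hP₂, ⟨e₂⟩⟩ := h₂
  have hproj : ∀ n, Projective (E₁.X n) := fun n => projective_of_lift P hlift _ (hP₁ n)
  have hle : E₁.IsStrictlyLE b₁ := by
    rw [CochainComplex.isStrictlyLE_iff]
    exact fun i hi => hv₁ i (Or.inr hi)
  have hKP : E₁.IsKProjective := CochainComplex.isKProjective_of_projective E₁ b₁
  obtain ⟨f, hf⟩ := exists_map_of_isKProjective E₁ E₂ (e₁.hom ≫ T.mor₁ ≫ e₂.inv)
  have hdist := DerivedCategory.mappingCone_triangle_distinguished f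
  have comm : (DerivedCategory.Q.mapTriangle.obj (CochainComplex.mappingCone.triangle f)).mor₁ ≫
      e₂.hom = e₁.hom ≫ T.mor₁ := by
    show DerivedCategory.Q.map f ≫ e₂.hom = e₁.hom ≫ T.mor₁
    rw [hf]
    simp
  let eT := Pretriangulated.isoTriangleOfIso₁₂ _ _ hdist hT e₁ e₂ comm
  refine ⟨CochainComplex.mappingCone f, min a₁ a₂ - 1, max b₁ b₂, ?_, ?_,
    ⟨Pretriangulated.Triangle.π₃.mapIso eT⟩⟩
  · intro i hi
    refine isZero_coneX f i (i + 1) rfl (hv₁ _ ?_) (hv₂ _ ?_)
    · rcases hi with hi | hi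
      · left; omega
      · right; omega
    · rcases hi with hi | hi
      · left; omega
      · right; omega
  · intro i
    exact P_coneX f P hsum i (i + 1) rfl (hP₁ _) (hP₂ _)

end Groth.Agent.S5609
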