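-- Statement S5610.
import Groth.Statements.S5610
import Mathlib
import Groth.Agent.Lib.Helper1.PCohLib

set_option autoImplicit false
universe w v u
open CategoryTheory CategoryTheory.Limits
open PCoh

namespace Groth.Agent.S5610

open Groth.Agent.Lib.Helper1.PCohLib

/-- Let C be an abelian category and C₀ a strictly full additive subcategory, liftable and stable under
kernels of epimorphisms. Let a ≤ b, a ≤ c, and let F be a strictly perfect complex (terms in C₀)
vanishing outside [a, c] with H^i(F) = 0 for i > b. Then F has perfect amplitude in [a, min b c]: it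
is isomorphic in D(C) to a strictly perfect complex vanishing outside that interval. -/
theorem result {C : Type u} [Category.{v} C] [Abelian C] [HasDerivedCategory.{w} C]
    (P : ObjectProperty C) [P.IsClosedUnderIsomorphisms] [P.ContainsZero] (hsum : ∀ X Y : C, P X → P Y → P (X ⨯ Y))
    (hlift : ∀ (E F : C) (u : E ⟶ F), Epi u → P F → IsSplitEpi u)
    (hst : ∀ (E F : C) (u : E ⟶ F), Epi u → P E → P F → P (kernel u))
    (a b c : ℤ) (hab : a ≤ b) (hac : a ≤ c) (F : CochainComplex C ℤ)
    (hP : ∀ i : ℤ, P (F.X i)) (hvan : ∀ i : ℤ, i < a ∨ c < i → IsZero (F.X i))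
    (hcoh : ∀ i : ℤ, b < i → IsZero (F.homology i)) :
    ∃ F' : CochainComplex C ℤ, (∀ i : ℤ, P (F'.X i)) ∧ (∀ i : ℤ, i < a ∨ min b c < i → IsZero (F'.X i)) ∧
      Nonempty (DerivedCategory.Q.obj F' ≅ DerivedCategory.Q.obj F) := by
  rcases le_or_gt c b with hcb | hbc
  · refine ⟨F, hP, ?_, ⟨Iso.refl _⟩⟩
    rw [min_eq_right hcb]
    exact hvan
  · rw [min_eq_left hbc.le]
    have hex : ∀ i, b < i → F.ExactAt i := fun i hi => by
      rw [HomologicalComplex.exactAt_iff_isZero_homology]
      exact hcoh i hi
    have hLE : F.IsLE b := by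
      rw [CochainComplex.isLE_iff]
      exact hex
    have hqi : QuasiIso (F.ιTruncLE b) := inferInstance
    have hiso : IsIso (DerivedCategory.Q.map (F.ιTruncLE b)) :=
      (DerivedCategory.isIso_Q_map_iff_quasiIso (φ := F.ιTruncLE b)).2 hqi
    refine ⟨F.truncLE b, ?_, ?_, ⟨asIso (DerivedCategory.Q.map (F.ιTruncLE b))⟩⟩
    · intro i
      rcases lt_trichotomy i b with hi | rfl | hi
      · exact P.prop_of_iso (F.truncLEXIso b i hi).symm (hP i)
      · have hk : P (kernel (F.d i (i + 1))) :=
          P_kernel_d' P hst F (i - 1) c (fun n hn => hex n (by omega))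
            (fun j hj => hvan j (Or.inr hj)) (fun j _ => hP j) i (by omega)
        have e : F.cycles i ≅ kernel (F.d i (i + 1)) :=
          IsLimit.conePointUniqueUpToIso (F.cyclesIsKernel i (i + 1) (by simp))
            (limit.isLimit _)
        exact P.prop_of_iso ((F.truncLEXIsoCycles i) ≪≫ e).symm hk
      · exact P.prop_of_isZero ((F.truncLE b).isZero_of_isStrictlyLE b i hi)
    · intro i hi
      rcases hi with hi | hi
      · exact IsZero.of_iso (hvan i (Or.inl hi)) (F.truncLEXIso b i (by omega))
      · exact (F.truncLE b).isZero_of_isStrictlyLE b i hi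

end Groth.Agent.S5610
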