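import Groth.Statements.S5614


set_option autoImplicit false
universe v u
open CategoryTheory CategoryTheory.Limits CategoryTheory.Pretriangulated
open KZero

namespace Groth.Agent.S5614

theorem clTri_distinguished {C : Type u} [Category.{v} C] [Preadditive C] [HasZeroObject C]
    [HasShift C ℤ] [∀ n : ℤ, (shiftFunctor C n).Additive] [Pretriangulated C]
    (T : Triangle C) (hT : T ∈ distinguishedTriangles) :
    KZero.clTri T.obj₂ = KZero.clTri T.obj₁ + KZero.clTri T.obj₃ := by
  have h : (FreeAbelianGroup.of ⟨T.obj₂, trivial⟩ - FreeAbelianGroup.of ⟨T.obj₁, trivial⟩ -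
      FreeAbelianGroup.of ⟨T.obj₃, trivial⟩ :
      FreeAbelianGroup (Subtype (⊤ : ObjectProperty C))) ∈ KZero.relTr (⊤ : ObjectProperty C) :=
    AddSubgroup.subset_closure ⟨T, trivial, trivial, trivial, hT, rfl⟩
  have h2 : ((FreeAbelianGroup.of ⟨T.obj₂, trivial⟩ - FreeAbelianGroup.of ⟨T.obj₁, trivial⟩ -
      FreeAbelianGroup.of ⟨T.obj₃, trivial⟩ :
      FreeAbelianGroup (Subtype (⊤ : ObjectProperty C))) : KZero.K0tri C) = 0 :=
    (QuotientAddGroup.eq_zero_iff _).mpr h
  have h3 : KZero.clTri T.obj₂ - KZero.clTri T.obj₁ - KZero.clTri T.obj₃ = 0 := h2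
  have h4 : KZero.clTri T.obj₂ = KZero.clTri T.obj₃ + KZero.clTri T.obj₁ := by
    rw [sub_eq_zero] at h3
    rw [← h3]; abel
  rw [h4, add_comm]

/-- Let C be a pretriangulated category and S a dense set of objects, meaning that every set of objects
which contains S and which contains the third vertex of a distinguished triangle as soon as it
contains the other two is all of C. Then K₀(C) is generated by the classes of the objects of S. -/
theorem result {C : Type u} [Category.{v} C] [Preadditive C] [HasZeroObject C]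
    [HasShift C ℤ] [∀ n : ℤ, (shiftFunctor C n).Additive] [Pretriangulated C]
    (S : Set C)
    (hdense : ∀ T : Set C, S ⊆ T →
      (∀ tr : Triangle C, tr ∈ distinguishedTriangles →
        (tr.obj₁ ∈ T → tr.obj₂ ∈ T → tr.obj₃ ∈ T) ∧ (tr.obj₁ ∈ T → tr.obj₃ ∈ T → tr.obj₂ ∈ T) ∧
          (tr.obj₂ ∈ T → tr.obj₃ ∈ T → tr.obj₁ ∈ T)) → T = Set.univ) :
    AddSubgroup.closure (KZero.clTri '' S) = (⊤ : AddSubgroup (KZero.K0tri C)) := by
  set H : AddSubgroup (KZero.K0tri C) := AddSubgroup.closure (KZero.clTri '' S) with hH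
  have hT : {X : C | KZero.clTri X ∈ H} = Set.univ := by
    apply hdense
    · intro X hX
      exact AddSubgroup.subset_closure ⟨X, hX, rfl⟩
    · intro X hX
      have e := clTri_distinguished X hX
      refine ⟨?_, ?_, ?_⟩
      · intro h1 h2
        show KZero.clTri X.obj₃ ∈ H
        have : KZero.clTri X.obj₃ = KZero.clTri X.obj₂ - KZero.clTri X.obj₁ := by rw [e]; abel
        rw [this]; exact H.sub_mem h2 h1
      · intro h1 h3
        show KZero.clTri X.obj₂ ∈ H
        rw [e]; exact H.add_mem h1 h3
      · intro h2 h3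
        show KZero.clTri X.obj₁ ∈ H
        have : KZero.clTri X.obj₁ = KZero.clTri X.obj₂ - KZero.clTri X.obj₃ := by rw [e]; abel
        rw [this]; exact H.sub_mem h2 h3
  have key : ∀ z : FreeAbelianGroup (Subtype (⊤ : ObjectProperty C)),
      ((z : FreeAbelianGroup (Subtype (⊤ : ObjectProperty C))) : KZero.K0tri C) ∈ H := by
    intro z
    induction z using FreeAbelianGroup.induction_on with
    | zero => exact H.zero_mem
    | of X =>
      have : X.1 ∈ {X : C | KZero.clTri X ∈ H} := by rw [hT]; trivial
      exact this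
    | neg X ih => exact H.neg_mem ih
    | add x y hx hy => exact H.add_mem hx hy
  rw [eq_top_iff]
  intro x _
  induction x using QuotientAddGroup.induction_on with
  | H z => exact key z

end Groth.Agent.S5614
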