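import Groth.Statements.S5613
import Groth.Agent.S5614
import Mathlib.CategoryTheory.Triangulated.Pretriangulated
import Mathlib.CategoryTheory.Adjunction.Limits
import Mathlib.CategoryTheory.Limits.Preserves.Shapes.Products
import Mathlib.Tactic.Ring

set_option autoImplicit false
universe v u
open CategoryTheory CategoryTheory.Limits CategoryTheory.Pretriangulated
open KZero

namespace Groth.Agent.S5613


section Aux

open CategoryTheory.Pretriangulated Groth.Agent.S5614 ZeroObject

variable {C : Type u} [Category.{v} C] [Preadditive C] [HasZeroObject C]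
    [HasShift C ℤ] [∀ n : ℤ, (shiftFunctor C n).Additive] [Pretriangulated C]

theorem clTri_zero : KZero.clTri (0 : C) = 0 := by
  have h := clTri_distinguished _ (contractible_distinguished (0 : C))
  have h' : KZero.clTri (0 : C) = KZero.clTri (0 : C) + KZero.clTri (0 : C) := h
  exact (add_eq_left.mp h'.symm)

set_option backward.defeqAttrib.useBackward true in
theorem clTri_iso {X Y : C} (e : X ≅ Y) : KZero.clTri Y = KZero.clTri X := by
  have hT : Triangle.mk e.hom (0 : Y ⟶ (0 : C)) 0 ∈ distTriang C := by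
    refine isomorphic_distinguished _ (contractible_distinguished X) _ ?_
    exact Triangle.isoMk _ _ (Iso.refl _) e.symm (Iso.refl _) (by simp) (by simp) (by simp)
  have h := clTri_distinguished _ hT
  have h' : KZero.clTri Y = KZero.clTri X + KZero.clTri (0 : C) := h
  rw [h', clTri_zero, add_zero]

theorem clTri_shift_one (X : C) : KZero.clTri (X⟦(1 : ℤ)⟧) = - KZero.clTri X := by
  have h := clTri_distinguished _ (contractible_distinguished₂ X)
  have h' : KZero.clTri (0 : C) = KZero.clTri X + KZero.clTri (X⟦(1 : ℤ)⟧) := h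
  rw [clTri_zero] at h'
  exact (neg_eq_of_add_eq_zero_right h'.symm).symm

theorem clTri_biprod (X Y : C) : KZero.clTri (X ⊞ Y) = KZero.clTri X + KZero.clTri Y :=
  clTri_distinguished _ (binaryBiproductTriangle_distinguished X Y)

theorem clTri_shift_add_one (X : C) (a : ℤ) :
    KZero.clTri (X⟦a + 1⟧) = - KZero.clTri (X⟦a⟧) := by
  rw [← clTri_shift_one (X⟦a⟧)]
  exact clTri_iso ((shiftFunctorAdd C a 1).app X).symm

theorem clTri_shift_even (m : ℤ) : ∀ X : C, KZero.clTri (X⟦m + m⟧) = KZero.clTri X := by
  induction m using Int.induction_on with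
  | zero =>
    intro X
    exact clTri_iso ((shiftFunctorZero' C ((0 : ℤ) + 0) (by simp)).app X).symm
  | succ i ih =>
    intro X
    have e : ((i : ℤ) + 1 + ((i : ℤ) + 1)) = ((i : ℤ) + i + 1) + 1 := by omega
    rw [e, clTri_shift_add_one, clTri_shift_add_one, neg_neg, ih]
  | pred i ih =>
    intro X
    have h := ih X
    have e : (-(i : ℤ) + -(i : ℤ)) = ((-(i : ℤ) - 1 + (-(i : ℤ) - 1)) + 1) + 1 := by omega
    rw [e, clTri_shift_add_one, clTri_shift_add_one, neg_neg] at h
    exact h

/-- the family `X, g 0, g 1, …` -/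
def consFam (X : C) (g : ℕ → C) : ℕ → C
  | 0 => X
  | (j + 1) => g j

/-- injections for the coproduct `f 0 ⊞ T` where `T` is a coproduct of the tail. -/
noncomputable def consInj {f : ℕ → C} {T : C} (ι : ∀ i, f (i + 1) ⟶ T) : ∀ i, f i ⟶ f 0 ⊞ T
  | 0 => biprod.inl
  | (j + 1) => ι j ≫ biprod.inr

noncomputable def isColimitCons {f : ℕ → C} {T : C} (ι : ∀ i, f (i + 1) ⟶ T)
    (hT : IsColimit (Cofan.mk T ι)) : IsColimit (Cofan.mk (f 0 ⊞ T) (consInj ι)) :=
  Cofan.IsColimit.mk _
    (fun t => biprod.desc (t.inj 0) (Cofan.IsColimit.desc hT fun j => t.inj (j + 1)))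
    (by
      intro t j
      cases j with
      | zero => exact biprod.inl_desc _ _
      | succ j =>
        show (ι j ≫ biprod.inr) ≫ _ = _
        rw [Category.assoc, biprod.inr_desc]
        exact Cofan.IsColimit.fac hT _ j)
    (by
      intro t m hm
      apply biprod.hom_ext'
      · rw [biprod.inl_desc]
        exact hm 0
      · rw [biprod.inr_desc]
        refine Cofan.IsColimit.hom_ext hT _ _ fun j => ?_
        rw [Cofan.IsColimit.fac hT]
        have := hm (j + 1)
        rw [← this]
        show ι j ≫ biprod.inr ≫ m = (ι j ≫ biprod.inr) ≫ m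
        rw [Category.assoc])

end Aux

/-- Let C be a pretriangulated category, L an object of C and n an integer such that the coproduct ∐_{i
≥ 0} L⟦2ni⟧ exists in C. Then cl(L) = 0 in K₀(C). -/
theorem result {C : Type u} [Category.{v} C] [Preadditive C] [HasZeroObject C]
    [HasShift C ℤ] [∀ n : ℤ, (shiftFunctor C n).Additive] [Pretriangulated C]
    (L : C) (n : ℤ) [HasCoproduct (fun i : ℕ => (shiftFunctor C (2 * n * (i : ℤ))).obj L)] :
    KZero.clTri L = 0 := by
  set f : ℕ → C := fun i : ℕ => (shiftFunctor C (2 * n * (i : ℤ))).obj L with hf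
  have hM : IsColimit (Cofan.mk (∐ f) (Sigma.ι f)) := coproductIsCoproduct f
  have hT : IsColimit (Cofan.mk ((shiftFunctor C (n + n)).obj (∐ f))
      fun j => (shiftFunctor C (n + n)).map (Sigma.ι f j) :
        Cofan fun j => (shiftFunctor C (n + n)).obj (f j)) :=
    isColimitOfHasCoproductOfPreservesColimit (shiftFunctor C (n + n)) f
  have hcons := isColimitCons (f := consFam (f 0) fun j => (shiftFunctor C (n + n)).obj (f j))
    (T := (shiftFunctor C (n + n)).obj (∐ f))
    (fun j => (shiftFunctor C (n + n)).map (Sigma.ι f j)) hT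
  have e : ∀ i, f i ≅ consFam (f 0) (fun j => (shiftFunctor C (n + n)).obj (f j)) i := by
    intro i
    cases i with
    | zero => exact Iso.refl _
    | succ j =>
      show (shiftFunctor C (2 * n * ((j + 1 : ℕ) : ℤ))).obj L ≅
        (shiftFunctor C (n + n)).obj ((shiftFunctor C (2 * n * (j : ℤ))).obj L)
      exact (shiftFunctorAdd' C (2 * n * (j : ℤ)) (n + n) (2 * n * ((j + 1 : ℕ) : ℤ))
        (by push_cast; ring)).app L
  have iso : (∐ f) ≅ (f 0) ⊞ (shiftFunctor C (n + n)).obj (∐ f) :=
    IsColimit.coconePointsIsoOfNatIso hM hcons (Discrete.natIso fun ⟨i⟩ => e i)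
  have h1 := clTri_iso iso
  rw [clTri_biprod, clTri_shift_even] at h1
  have h0 : KZero.clTri (f 0) = KZero.clTri L := by
    show KZero.clTri ((shiftFunctor C (2 * n * ((0 : ℕ) : ℤ))).obj L) = KZero.clTri L
    exact clTri_iso ((shiftFunctorZero' C (2 * n * ((0 : ℕ) : ℤ)) (by simp)).app L).symm
  rw [h0] at h1
  exact add_eq_right.mp h1

end Groth.Agent.S5613
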