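import Groth.Statements.S5615

set_option autoImplicit false
open CategoryTheory CategoryTheory.Limits
universe v u
open KZero

namespace Groth.Agent.S5615

theorem cl_shortExact {A : Type u} [Category.{v} A] [Abelian A] (X : ShortComplex A)
    (hX : X.ShortExact) : KZero.cl X.X₂ = KZero.cl X.X₁ + KZero.cl X.X₃ := by
  have h : (FreeAbelianGroup.of X.X₂ - FreeAbelianGroup.of X.X₁ - FreeAbelianGroup.of X.X₃ :
      FreeAbelianGroup A) ∈ KZero.relAb A :=
    AddSubgroup.subset_closure ⟨X, hX, rfl⟩
  have h2 : ((FreeAbelianGroup.of X.X₂ - FreeAbelianGroup.of X.X₁ - FreeAbelianGroup.of X.X₃ :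
      FreeAbelianGroup A) : KZero.K0 A) = 0 :=
    (QuotientAddGroup.eq_zero_iff _).mpr h
  have h3 : KZero.cl X.X₂ - KZero.cl X.X₁ - KZero.cl X.X₃ = 0 := h2
  have h4 : KZero.cl X.X₂ = KZero.cl X.X₃ + KZero.cl X.X₁ := by
    rw [sub_eq_zero] at h3
    rw [← h3]; abel
  rw [h4, add_comm]

/-- Let A be an abelian category and S a dense set of objects, meaning that every set of objects which
contains S and which contains the third term of a short exact sequence as soon as it contains the
other two is all of A. Then K₀(A) is generated by the classes of the objects of S. -/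
theorem result {A : Type u} [Category.{v} A] [Abelian A] (S : Set A)
    (hdense : ∀ T : Set A, S ⊆ T →
      (∀ X : ShortComplex A, X.ShortExact →
        (X.X₁ ∈ T → X.X₂ ∈ T → X.X₃ ∈ T) ∧ (X.X₁ ∈ T → X.X₃ ∈ T → X.X₂ ∈ T) ∧
          (X.X₂ ∈ T → X.X₃ ∈ T → X.X₁ ∈ T)) → T = Set.univ) :
    AddSubgroup.closure (KZero.cl '' S) = (⊤ : AddSubgroup (KZero.K0 A)) := by
  set H : AddSubgroup (KZero.K0 A) := AddSubgroup.closure (KZero.cl '' S) with hH
  have hT : {X : A | KZero.cl X ∈ H} = Set.univ := by
    apply hdense
    · intro X hX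
      exact AddSubgroup.subset_closure ⟨X, hX, rfl⟩
    · intro X hX
      have e := cl_shortExact X hX
      refine ⟨?_, ?_, ?_⟩
      · intro h1 h2
        show KZero.cl X.X₃ ∈ H
        have : KZero.cl X.X₃ = KZero.cl X.X₂ - KZero.cl X.X₁ := by rw [e]; abel
        rw [this]; exact H.sub_mem h2 h1
      · intro h1 h3
        show KZero.cl X.X₂ ∈ H
        rw [e]; exact H.add_mem h1 h3
      · intro h2 h3
        show KZero.cl X.X₁ ∈ H
        have : KZero.cl X.X₁ = KZero.cl X.X₂ - KZero.cl X.X₃ := by rw [e]; abel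
        rw [this]; exact H.sub_mem h2 h3
  have key : ∀ z : FreeAbelianGroup A, ((z : FreeAbelianGroup A) : KZero.K0 A) ∈ H := by
    intro z
    induction z using FreeAbelianGroup.induction_on with
    | zero => exact H.zero_mem
    | of X =>
      have : X ∈ {X : A | KZero.cl X ∈ H} := by rw [hT]; trivial
      exact this
    | neg X ih => exact H.neg_mem ih
    | add x y hx hy => exact H.add_mem hx hy
  rw [eq_top_iff]
  intro x _
  induction x using QuotientAddGroup.induction_on with
  | H z => exact key z

end Groth.Agent.S5615
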