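-- Statement S5616.
import Groth.Statements.S5616
import Mathlib
import Groth.Agent.Lib.Helper1.ExtEfface

set_option autoImplicit false
universe w w' v v' u u'
open CategoryTheory CategoryTheory.Limits
open CohDer

namespace Groth.Agent.S5616

open Groth.Agent.Lib.Helper1.ExtEfface

open Abelian

section Main

variable {A : Type u} [Category.{v} A] [Abelian A] [HasExt.{w} A]
  {B : Type u'} [Category.{v'} B] [Abelian B] [HasExt.{w'} B]
  (φ : A ⥤ B) [φ.Additive] [PreservesFiniteLimits φ] [PreservesFiniteColimits φ] (M : A)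

lemma bij_zero_iff (L : A) :
    Function.Bijective (fun f : Ext.{w} L M 0 => Ext.mapExactFunctor φ f) ↔
      Function.Bijective (fun f : L ⟶ M => φ.map f) := by
  have h : (fun f : Ext.{w} L M 0 => Ext.mapExactFunctor φ f) =
      Ext.homEquiv₀.symm ∘ (fun f : L ⟶ M => φ.map f) ∘ Ext.homEquiv₀ :=
    Ext.mapExactFunctor₀ φ L M
  rw [h]
  rw [Equiv.comp_bijective, Equiv.bijective_comp]

lemma forward (h : ∀ (L : A) (n : ℕ),
      Function.Bijective (fun f : Ext.{w} L M n => Ext.mapExactFunctor φ f)) :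
    (∀ L : A, Function.Bijective (fun f : L ⟶ M => φ.map f)) ∧
      ∀ (L : A) (n : ℕ), 1 ≤ n → ∀ x : Ext.{w'} (φ.obj L) (φ.obj M) n,
        ∃ (L' : A) (p : L' ⟶ L), Epi p ∧ (Ext.mk₀ (φ.map p)).comp x (zero_add n) = 0 := by
  refine ⟨fun L => (bij_zero_iff φ M L).1 (h L 0), ?_⟩
  intro L n hn x
  obtain ⟨y, rfl⟩ := (h L n).2 x
  obtain ⟨L', p, hp, hpy⟩ := efface hn y
  refine ⟨L', p, hp, ?_⟩
  have := congrArg (Ext.mapExactFunctor φ) hpy
  rw [Ext.mapExactFunctor_comp, Ext.mapExactFunctor_mk₀, Ext.mapExactFunctor_zero] at this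
  exact this

lemma backward (h0 : ∀ L : A, Function.Bijective (fun f : L ⟶ M => φ.map f))
    (heff : ∀ (L : A) (n : ℕ), 1 ≤ n → ∀ x : Ext.{w'} (φ.obj L) (φ.obj M) n,
        ∃ (L' : A) (p : L' ⟶ L), Epi p ∧ (Ext.mk₀ (φ.map p)).comp x (zero_add n) = 0)
    (n : ℕ) : ∀ (L : A),
      Function.Bijective (fun f : Ext.{w} L M n => Ext.mapExactFunctor φ f) := by
  induction n with
  | zero => exact fun L => (bij_zero_iff φ M L).2 (h0 L)
  | succ n ih =>
    intro L
    constructor
    · -- injectivity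
      intro y₁ y₂ hy
      have hy' : Ext.mapExactFunctor φ (y₁ - y₂) = 0 := by
        have h1 : Ext.mapExactFunctor φ y₁ = Ext.mapExactFunctor φ y₂ := hy
        have h2 := (φ.mapExtAddHom L M (n + 1)).map_sub y₁ y₂
        simp only [Functor.mapExtAddHom_apply] at h2
        rw [h2, h1, sub_self]
      suffices hz : y₁ - y₂ = 0 from sub_eq_zero.1 hz
      set y := y₁ - y₂ with hydef
      obtain ⟨L', p, hp, hpy⟩ := efface (Nat.le_add_left 1 n) y
      let S : ShortComplex A := ShortComplex.mk (kernel.ι p) p (kernel.condition p)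
      have hS : S.ShortExact := { exact := ShortComplex.exact_kernel p }
      obtain ⟨z, hz⟩ := Ext.contravariant_sequence_exact₃ hS M y hpy (add_comm 1 n)
      have hφz : (hS.map_of_exact φ).extClass.comp (Ext.mapExactFunctor φ z) (add_comm 1 n) = 0 := by
        have h1 := congrArg (Ext.mapExactFunctor φ) hz
        rw [Ext.mapExactFunctor_comp, Ext.mapExactFunctor_extClass, hy'] at h1
        exact h1
      obtain ⟨w', hw'⟩ := Ext.contravariant_sequence_exact₁ (hS.map_of_exact φ) (φ.obj M)
        (Ext.mapExactFunctor φ z) (add_comm 1 n) hφz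
      obtain ⟨w₀, hw₀⟩ := (ih L').2 w'
      have hw₀' : Ext.mapExactFunctor φ w₀ = w' := hw₀
      have hzw : z = (Ext.mk₀ S.f).comp w₀ (zero_add n) := by
        apply (ih (kernel p)).1
        show Ext.mapExactFunctor φ z = Ext.mapExactFunctor φ ((Ext.mk₀ S.f).comp w₀ (zero_add n))
        rw [Ext.mapExactFunctor_comp, Ext.mapExactFunctor_mk₀, hw₀', ← hw']
        rfl
      rw [← hz, hzw]
      exact hS.extClass_comp_assoc w₀
    · -- surjectivity
      intro x
      obtain ⟨L', p, hp, hpx⟩ := heff L (n + 1) (Nat.le_add_left 1 n) x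
      let S : ShortComplex A := ShortComplex.mk (kernel.ι p) p (kernel.condition p)
      have hS : S.ShortExact := { exact := ShortComplex.exact_kernel p }
      obtain ⟨z', hz'⟩ := Ext.contravariant_sequence_exact₃ (hS.map_of_exact φ) (φ.obj M) x hpx
        (add_comm 1 n)
      obtain ⟨z, hz⟩ := (ih (kernel p)).2 z'
      have hz'' : Ext.mapExactFunctor φ z = z' := hz
      refine ⟨hS.extClass.comp z (add_comm 1 n), ?_⟩
      show Ext.mapExactFunctor φ (hS.extClass.comp z (add_comm 1 n)) = x
      rw [Ext.mapExactFunctor_comp, Ext.mapExactFunctor_extClass, hz'']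
      exact hz'

end Main

/-- Let φ : A ⥤ B be an exact functor of abelian categories and M an object of A. The following are
equivalent: (i) for every L in A and every n, the map Ext^n_A(L, M) → Ext^n_B(φ L, φ M) induced by φ
is bijective; (ii) for every L the map Hom_A(L, M) → Hom_B(φ L, φ M) is bijective, and for every L,
every n ≥ 1 and every x ∈ Ext^n_B(φ L, φ M) there is an epimorphism L' ⟶ L of A such that x
precomposed with its image under φ vanishes. -/
theorem result
    {A : Type u} [Category.{v} A] [Abelian A] [HasExt.{w} A]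
    {B : Type u'} [Category.{v'} B] [Abelian B] [HasExt.{w'} B]
    (φ : A ⥤ B) [φ.Additive] [PreservesFiniteLimits φ] [PreservesFiniteColimits φ] (M : A) :
    (∀ (L : A) (n : ℕ), Function.Bijective (fun f : Abelian.Ext.{w} L M n => Abelian.Ext.mapExactFunctor φ f)) ↔
      ((∀ L : A, Function.Bijective (fun f : L ⟶ M => φ.map f)) ∧
        ∀ (L : A) (n : ℕ), 1 ≤ n → ∀ x : Abelian.Ext.{w'} (φ.obj L) (φ.obj M) n,
          ∃ (L' : A) (p : L' ⟶ L), Epi p ∧ (Abelian.Ext.mk₀ (φ.map p)).comp x (zero_add n) = 0) := by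
  exact ⟨forward φ M, fun h L n => backward φ M h.1 h.2 n L⟩

end Groth.Agent.S5616
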