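-- Statement S5617.
import Groth.Statements.S5617
import Mathlib
import Groth.Agent.Lib.Helper1.PCohFT

set_option autoImplicit false
universe w v u
open CategoryTheory CategoryTheory.Limits
open PCoh

namespace Groth.Agent.S5617

open Groth.Agent.Lib.Helper1.PCohFT

/-- First assertion (punctual site): let C be an abelian category and C₀ a strictly full additive
subcategory, quasi-stable under kernels of epimorphisms and quasi-liftable, and n < m. If F ∈ D(C)
is n-pseudo-coherent and acyclic in degrees ≥ m, then F is isomorphic in D(C) to a strictly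
n-pseudo-coherent complex E with E^i = 0 for i ≥ m. -/
theorem result {C : Type u} [Category.{v} C] [Abelian C] [HasDerivedCategory.{w} C]
    (P : ObjectProperty C) [P.IsClosedUnderIsomorphisms] [P.ContainsZero] (hsum : ∀ X Y : C, P X → P Y → P (X ⨯ Y))
    (hqs : PCoh.IsQuasiStableUnderKernels P) (hql : PCoh.IsQuasiLiftable P)
    (n m : ℤ) (hnm : n < m) (F : DerivedCategory C) (hF : (∃ E : CochainComplex C ℤ, PCoh.IsStrictPC P n E ∧ Nonempty (DerivedCategory.Q.obj E ≅ F)))
    (hac : ∀ i : ℤ, m ≤ i → IsZero ((DerivedCategory.homologyFunctor C i).obj F)) :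
    ∃ E : CochainComplex C ℤ, PCoh.IsStrictPC P n E ∧ (∀ i : ℤ, m ≤ i → IsZero (E.X i)) ∧
      Nonempty (DerivedCategory.Q.obj E ≅ F) := by
  obtain ⟨E₁, hE₁, ⟨e⟩⟩ := hF
  have hm : ∀ j, m ≤ j → E₁.ExactAt j := by
    intro j hj
    rw [HomologicalComplex.exactAt_iff_isZero_homology]
    have h1 := hac j hj
    have e1 := (DerivedCategory.homologyFunctorFactors C j).app E₁
    exact IsZero.of_iso (IsZero.of_iso h1 ((DerivedCategory.homologyFunctor C j).mapIso e)) e1.symm
  have hq : QuasiIso (𝟙 E₁) := inferInstance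
  obtain ⟨F', v, hqi, hP', hz'⟩ := core P hsum hqs hql (𝟙 E₁) n hE₁ m hm
  have hiso : IsIso (DerivedCategory.Q.map v) :=
    (DerivedCategory.isIso_Q_map_iff_quasiIso (φ := v)).2 hqi
  refine ⟨F', ⟨⟨m, fun i hi => hz' i (by omega) (by omega)⟩, hP'⟩,
    fun i hi => hz' i (by omega) hi, ⟨asIso (DerivedCategory.Q.map v) ≪≫ e⟩⟩

end Groth.Agent.S5617
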