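-- Statement S5621.
import Groth.Statements.S5621
import Mathlib

set_option autoImplicit false
universe w v u
open CategoryTheory CategoryTheory.Limits
open PCoh

namespace Groth.Agent.S5621

open HomologicalComplex CochainComplex

variable {C : Type u} [Category.{v} C] [Abelian C]

lemma projective_of_lift (P : ObjectProperty C)
    (hlift : ∀ (E F : C) (u : E ⟶ F), Epi u → P F → IsSplitEpi u) (X : C) (hX : P X) :
    Projective X := by
  constructor
  intro E Y f e he
  have h1 : Epi (pullback.fst f e) := Abelian.epi_pullback_of_epi_g f e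
  have h2 : IsSplitEpi (pullback.fst f e) := hlift _ _ (pullback.fst f e) h1 hX
  refine ⟨section_ (pullback.fst f e) ≫ pullback.snd f e, ?_⟩
  rw [Category.assoc, ← pullback.condition, IsSplitEpi.id_assoc]

section

variable (P : ObjectProperty C) [P.IsClosedUnderIsomorphisms] [P.ContainsZero]
  (hst : ∀ (E F : C) (u : E ⟶ F), Epi u → P E → P F → P (kernel u))

include hst in
lemma P_kernel_d (K : CochainComplex C ℤ) (hK : ∀ n, K.ExactAt n) (a b : ℤ)
    (hb : ∀ i, b < i → IsZero (K.X i)) (hP : ∀ i, a < i → P (K.X i)) :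
    ∀ (k : ℕ) (i : ℤ), b < i + k → a < i → P (kernel (K.d i (i + 1))) := by
  intro k
  induction k with
  | zero =>
    intro i hi _
    apply P.prop_of_isZero
    exact IsZero.of_mono (kernel.ι _) (hb i (by simpa using hi))
  | succ k ih =>
    intro i hi hai
    have h1 : P (kernel (K.d (i + 1) (i + 1 + 1))) := ih (i + 1) (by push_cast at hi; omega) (by omega)
    let L : K.X i ⟶ kernel (K.d (i + 1) (i + 1 + 1)) :=
      kernel.lift _ (K.d i (i + 1)) (K.d_comp_d _ _ _)
    have hex : (K.sc' i (i + 1) (i + 1 + 1)).Exact :=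
      (K.exactAt_iff' i (i + 1) (i + 1 + 1) (by simp) (by simp)).1 (hK (i + 1))
    have hL : Epi L := hex.epi_kernelLift
    have h2 : P (kernel L) := hst _ _ L hL (hP i hai) h1
    have h3 : L ≫ kernel.ι _ = K.d i (i + 1) := kernel.lift_ι _ _ _
    exact P.prop_of_iso ((kernelCompMono L (kernel.ι _)).symm ≪≫ kernelIsoOfEq h3) h2

end

section

variable (P : ObjectProperty C) [P.IsClosedUnderIsomorphisms] [P.ContainsZero]
  (hsum : ∀ X Y : C, P X → P Y → P (X ⨯ Y))
  (hlift : ∀ (E F : C) (u : E ⟶ F), Epi u → P F → IsSplitEpi u)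
  (hst : ∀ (E F : C) (u : E ⟶ F), Epi u → P E → P F → P (kernel u))

include hsum hlift hst in
lemma P_X_of_acyclic (K : CochainComplex C ℤ) (hK : ∀ n, K.ExactAt n) (a b : ℤ)
    (hb : ∀ i, b < i → IsZero (K.X i)) (hP : ∀ i, a < i → P (K.X i))
    (a' a'' : ℤ) (h' : a' + 1 = a) (h'' : a'' + 1 = a') (h0 : IsZero (K.X a''))
    (h1 : P (K.X a')) : P (K.X a) := by
  have hT : P (kernel (K.d (a + 1) (a + 1 + 1))) :=
    P_kernel_d P hst K hK a b hb hP ((b - a).toNat + 1) (a + 1) (by omega) (by omega)
  let L : K.X a ⟶ kernel (K.d (a + 1) (a + 1 + 1)) :=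
    kernel.lift _ (K.d a (a + 1)) (K.d_comp_d _ _ _)
  have hex : (K.sc' a (a + 1) (a + 1 + 1)).Exact :=
    (K.exactAt_iff' a (a + 1) (a + 1 + 1) (by simp) (by simp)).1 (hK (a + 1))
  have hL : Epi L := hex.epi_kernelLift
  have hsplit : IsSplitEpi L := hlift _ _ L hL hT
  let S : ShortComplex C := ShortComplex.mk (kernel.ι L) L (kernel.condition L)
  have hS : S.Exact := ShortComplex.exact_kernel L
  let σ : S.Splitting := ShortComplex.Splitting.ofExactOfSection S hS (section_ L)
    (IsSplitEpi.id L) (inferInstanceAs (Mono (kernel.ι L)))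
  have e1 : K.X a ≅ kernel L ⊞ kernel (K.d (a + 1) (a + 1 + 1)) := σ.isoBinaryBiproduct
  have h3 : L ≫ kernel.ι _ = K.d a (a + 1) := kernel.lift_ι _ _ _
  have e2 : kernel L ≅ kernel (K.d a (a + 1)) :=
    (kernelCompMono L (kernel.ι _)).symm ≪≫ kernelIsoOfEq h3
  -- kernel of `d a` is `K.X a'`
  let M : K.X a' ⟶ kernel (K.d a (a + 1)) := kernel.lift _ (K.d a' a) (K.d_comp_d _ _ _)
  have hexa : (K.sc' a' a (a + 1)).Exact :=
    (K.exactAt_iff' a' a (a + 1) (by simp [← h']) (by simp)).1 (hK a)
  have hM : Epi M := hexa.epi_kernelLift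
  have hexa' : (K.sc' a'' a' a).Exact :=
    (K.exactAt_iff' a'' a' a (by simp [← h'']) (by simp [← h'])).1 (hK a')
  have hmono : Mono (K.d a' a) := hexa'.mono_g (h0.eq_of_src _ _)
  have hM' : Mono M := by
    have : Mono (M ≫ kernel.ι _) := by
      rw [kernel.lift_ι]
      exact hmono
    exact mono_of_mono M (kernel.ι _)
  have hMiso : IsIso M := isIso_of_mono_of_epi M
  have h4 : P (kernel L) := P.prop_of_iso ((asIso M) ≪≫ e2.symm) h1
  exact P.prop_of_iso ((biprod.isoProd _ _).symm ≪≫ e1.symm) (hsum _ _ h4 hT)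

end

open DerivedCategory in
/-- An isomorphism in the derived category from a K-projective complex is induced by a
quasi-isomorphism. -/
lemma exists_quasiIso_of_iso [HasDerivedCategory.{w} C] (E F : CochainComplex C ℤ)
    [E.IsKProjective] (e : Q.obj E ≅ Q.obj F) : ∃ f : E ⟶ F, QuasiIso f := by
  obtain ⟨g, hg⟩ := (CochainComplex.IsKProjective.Qh_map_bijective E
    ((HomotopyCategory.quotient _ _).obj F)).2
      ((quotientCompQhIso C).hom.app E ≫ e.hom ≫ (quotientCompQhIso C).inv.app F)
  obtain ⟨f, rfl⟩ := (HomotopyCategory.quotient _ _).map_surjective g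
  refine ⟨f, ?_⟩
  rw [← isIso_Q_map_iff_quasiIso]
  have h : Q.map f = (quotientCompQhIso C).inv.app E ≫
      Qh.map ((HomotopyCategory.quotient C (ComplexShape.up ℤ)).map f) ≫
        (quotientCompQhIso C).hom.app F := by
    have := (quotientCompQhIso C).hom.naturality f
    simp only [Functor.comp_map] at this
    rw [this, Iso.inv_hom_id_app_assoc]
  rw [h, hg]
  infer_instance

open DerivedCategory in
lemma acyclic_mappingCone [HasDerivedCategory.{w} C] {E F : CochainComplex C ℤ} (f : E ⟶ F)
    [QuasiIso f] (n : ℤ) : (mappingCone f).ExactAt n := by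
  have hdist := mappingCone_triangle_distinguished f
  have hiso : IsIso (Q.map f) := (isIso_Q_map_iff_quasiIso (φ := f)).2 inferInstance
  have hz : IsZero (Q.obj (mappingCone f)) :=
    (Pretriangulated.Triangle.isZero₃_iff_isIso₁ _ hdist).2 hiso
  rw [exactAt_iff_isZero_homology]
  have e := (homologyFunctorFactors C n).app (mappingCone f)
  refine IsZero.of_iso ?_ e.symm
  exact (homologyFunctor C n).map_isZero hz

section Cone

variable {E F : CochainComplex C ℤ} (f : E ⟶ F)

/-- The terms of the mapping cone are biproducts. -/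
noncomputable def coneXIso (p q : ℤ) (hpq : p + 1 = q) :
    (mappingCone f).X p ≅ E.X q ⊞ F.X p where
  hom := biprod.lift ((mappingCone.fst f).1.v p q hpq) ((mappingCone.snd f).v p p (add_zero p))
  inv := biprod.desc ((mappingCone.inl f).v q p (by omega)) ((mappingCone.inr f).f p)
  hom_inv_id := by
    rw [biprod.lift_desc]
    exact mappingCone.id_X f p q hpq
  inv_hom_id := by
    ext <;> simp

lemma isZero_coneX (p q : ℤ) (hpq : p + 1 = q) (h1 : IsZero (E.X q)) (h2 : IsZero (F.X p)) :
    IsZero ((mappingCone f).X p) := by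
  rw [IsZero.iff_id_eq_zero, ← mappingCone.id_X f p q hpq]
  rw [h1.eq_of_tgt ((mappingCone.fst f).1.v p q hpq) 0, h2.eq_of_tgt ((mappingCone.snd f).v p p (add_zero p)) 0]
  simp

/-- `F.X p` is the kernel of the first projection of the cone. -/
noncomputable def kernelFstIso (p q : ℤ) (hpq : p + 1 = q) :
    kernel ((mappingCone.fst f).1.v p q hpq) ≅ F.X p where
  hom := kernel.ι _ ≫ (mappingCone.snd f).v p p (add_zero p)
  inv := kernel.lift _ ((mappingCone.inr f).f p) (mappingCone.inr_f_fst_v f p q hpq)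
  hom_inv_id := by
    rw [← cancel_mono (kernel.ι _)]
    simp only [Category.assoc, kernel.lift_ι, Category.id_comp]
    have h := mappingCone.id_X f p q hpq
    have h2 : (mappingCone.snd f).v p p (add_zero p) ≫ (mappingCone.inr f).f p =
        𝟙 _ - (mappingCone.fst f).1.v p q hpq ≫ (mappingCone.inl f).v q p (by omega) := by
      rw [← h]; abel
    rw [h2, Preadditive.comp_sub, Category.comp_id, kernel.condition_assoc, zero_comp, sub_zero]
  inv_hom_id := by
    rw [kernel.lift_ι_assoc, mappingCone.inr_f_snd_v]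

end Cone

/-- Let C be an abelian category and C₀ a strictly full additive subcategory, liftable and stable under
kernels of epimorphisms. Let a ≤ b and let F be a complex with F^i = 0 for i outside [a, b], of
perfect amplitude in [a, b] (isomorphic in D(C) to a strictly perfect complex vanishing outside [a,
b]), and with F^i in C₀ for i > a. Then F^a lies in C₀. -/
theorem result {C : Type u} [Category.{v} C] [Abelian C] [HasDerivedCategory.{w} C]
    (P : ObjectProperty C) [P.IsClosedUnderIsomorphisms] [P.ContainsZero] (hsum : ∀ X Y : C, P X → P Y → P (X ⨯ Y))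
    (hlift : ∀ (E F : C) (u : E ⟶ F), Epi u → P F → IsSplitEpi u)
    (hst : ∀ (E F : C) (u : E ⟶ F), Epi u → P E → P F → P (kernel u))
    (a b : ℤ) (hab : a ≤ b) (F : CochainComplex C ℤ)
    (hvan : ∀ i : ℤ, i < a ∨ b < i → IsZero (F.X i)) (hP : ∀ i : ℤ, a < i → P (F.X i))
    (hamp : (∃ E : CochainComplex C ℤ, (∀ i : ℤ, P (E.X i)) ∧ (∀ i : ℤ, i < a ∨ b < i → IsZero (E.X i)) ∧ Nonempty (DerivedCategory.Q.obj E ≅ DerivedCategory.Q.obj F))) :
    P (F.X a) := by
  obtain ⟨E, hE, hEvan, ⟨e⟩⟩ := hamp
  have hproj : ∀ n, Projective (E.X n) := fun n => projective_of_lift P hlift _ (hE n)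
  have hle : E.IsStrictlyLE b := by
    rw [CochainComplex.isStrictlyLE_iff]
    exact fun i hi => hEvan i (Or.inr hi)
  have hKP : E.IsKProjective := isKProjective_of_projective E b
  obtain ⟨f, hf⟩ := exists_quasiIso_of_iso E F e
  have hK : ∀ n, (mappingCone f).ExactAt n := acyclic_mappingCone f
  have hb : ∀ i, b < i → IsZero ((mappingCone f).X i) := fun i hi =>
    isZero_coneX f i (i + 1) rfl (hEvan _ (Or.inr (by omega))) (hvan _ (Or.inr hi))
  have hPK : ∀ i, a < i → P ((mappingCone f).X i) := fun i hi =>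
    P.prop_of_iso ((biprod.isoProd _ _).symm ≪≫ (coneXIso f i (i + 1) rfl).symm)
      (hsum _ _ (hE _) (hP i hi))
  have h0 : IsZero ((mappingCone f).X (a - 2)) :=
    isZero_coneX f (a - 2) (a - 1) (by omega) (hEvan _ (Or.inl (by omega)))
      (hvan _ (Or.inl (by omega)))
  have h1 : P ((mappingCone f).X (a - 1)) := by
    have hz : IsZero (F.X (a - 1)) := hvan _ (Or.inl (by omega))
    refine P.prop_of_iso ((biprod.isoProd _ _).symm ≪≫ (coneXIso f (a - 1) a (by omega)).symm)
      (hsum _ _ (hE _) (P.prop_of_isZero hz))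
  have hKa : P ((mappingCone f).X a) :=
    P_X_of_acyclic P hsum hlift hst (mappingCone f) hK a b hb hPK (a - 1) (a - 2) (by omega)
      (by omega) h0 h1
  have hepi : Epi ((mappingCone.fst f).1.v a (a + 1) rfl) :=
    (IsSplitEpi.mk' ⟨(mappingCone.inl f).v (a + 1) a (by omega),
      mappingCone.inl_v_fst_v f (a + 1) a rfl⟩).epi
  exact P.prop_of_iso (kernelFstIso f a (a + 1) rfl) (hst _ _ _ hepi hKa (hE _))

end Groth.Agent.S5621
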