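-- Statement S5622.
import Groth.Statements.S5622
import Mathlib
import Groth.Agent.Lib.Helper1.PCohAmp
import Groth.Agent.S5617
import Groth.Agent.S5621

set_option autoImplicit false
universe w v u
open CategoryTheory CategoryTheory.Limits
open PCoh

namespace Groth.Agent.S5622

open Groth.Agent.Lib.Helper1.PCohFT Groth.Agent.Lib.Helper1.PCohTri Groth.Agent.Lib.Helper1.PCohDev
  Groth.Agent.Lib.Helper1.PCohMore Groth.Agent.Lib.Helper1.PCohAmp DerivedCategory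

/-- Let C be an abelian category and C₀ a strictly full additive subcategory, liftable and stable under
kernels of epimorphisms, and a ≤ b. For F', F'' in D(C): (i) ⇒ (ii), where (i) says F' and F'' have
perfect amplitude in [a, b] (each isomorphic to a strictly perfect complex vanishing outside [a, b])
and (ii) says F' ⊞ F'' does; and (ii) ⇒ (i) when C₀ is stable under direct factors. -/
theorem result {C : Type u} [Category.{v} C] [Abelian C] [HasDerivedCategory.{w} C]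
    (P : ObjectProperty C) [P.IsClosedUnderIsomorphisms] [P.ContainsZero] (hsum : ∀ X Y : C, P X → P Y → P (X ⨯ Y))
    (hlift : ∀ (E F : C) (u : E ⟶ F), Epi u → P F → IsSplitEpi u)
    (hst : ∀ (E F : C) (u : E ⟶ F), Epi u → P E → P F → P (kernel u))
    (a b : ℤ) (hab : a ≤ b) (F' F'' : DerivedCategory C) [HasBinaryBiproduct F' F''] :
    (((∃ E : CochainComplex C ℤ, (∀ i : ℤ, P (E.X i)) ∧ (∀ i : ℤ, i < a ∨ b < i → IsZero (E.X i)) ∧ Nonempty (DerivedCategory.Q.obj E ≅ F')) ∧ (∃ E : CochainComplex C ℤ, (∀ i : ℤ, P (E.X i)) ∧ (∀ i : ℤ, i < a ∨ b < i → IsZero (E.X i)) ∧ Nonempty (DerivedCategory.Q.obj E ≅ F''))) →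
        (∃ E : CochainComplex C ℤ, (∀ i : ℤ, P (E.X i)) ∧ (∀ i : ℤ, i < a ∨ b < i → IsZero (E.X i)) ∧ Nonempty (DerivedCategory.Q.obj E ≅ (F' ⊞ F'')))) ∧
      ((∀ (E' E'' : C) [HasBinaryBiproduct E' E''], P (E' ⊞ E'') → P E' ∧ P E'') →
        (∃ E : CochainComplex C ℤ, (∀ i : ℤ, P (E.X i)) ∧ (∀ i : ℤ, i < a ∨ b < i → IsZero (E.X i)) ∧ Nonempty (DerivedCategory.Q.obj E ≅ (F' ⊞ F''))) →
          (∃ E : CochainComplex C ℤ, (∀ i : ℤ, P (E.X i)) ∧ (∀ i : ℤ, i < a ∨ b < i → IsZero (E.X i)) ∧ Nonempty (DerivedCategory.Q.obj E ≅ F')) ∧ (∃ E : CochainComplex C ℤ, (∀ i : ℤ, P (E.X i)) ∧ (∀ i : ℤ, i < a ∨ b < i → IsZero (E.X i)) ∧ Nonempty (DerivedCategory.Q.obj E ≅ F''))) := by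
  have hql : PCoh.IsQuasiLiftable P := quasiLiftable_of_lift hlift
  have hQ : PreservesBinaryBiproducts (Q : CochainComplex C ℤ ⥤ DerivedCategory C) := by
    have : PreservesBiproductsOfShape WalkingPair (Q : CochainComplex C ℤ ⥤ DerivedCategory C) :=
      PreservesFiniteBiproducts.preserves
    exact preservesBinaryBiproducts_of_preservesBiproducts Q
  have hqs : PCoh.IsQuasiStableUnderKernels P := quasiStable_of_stable hst
  constructor
  · rintro ⟨⟨E', hP', hv', ⟨e'⟩⟩, ⟨E'', hP'', hv'', ⟨e''⟩⟩⟩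
    refine ⟨E' ⊞ E'', fun i => ?_, fun i hi => ?_, ⟨Q.mapBiprod E' E'' ≪≫ biprod.mapIso e' e''⟩⟩
    · exact P.prop_of_iso ((HomologicalComplex.biprodXIso E' E'' i).symm)
        (P.prop_of_iso (biprod.isoProd _ _).symm (hsum _ _ (hP' i) (hP'' i)))
    · exact IsZero.of_iso (isZero_biprod (hv' i hi) (hv'' i hi))
        (HomologicalComplex.biprodXIso E' E'' i)
  · rintro hfac ⟨E, hPE, hvE, ⟨e⟩⟩
    -- the sum is `a`-pseudo-coherent with cohomology in `[a, b]`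
    have hsumPC : NPC P a (F' ⊞ F'') :=
      ⟨E, ⟨⟨b, fun i hi => hvE i (Or.inr hi)⟩, fun i _ => hPE i⟩, ⟨e⟩⟩
    have hH : ∀ i, i < a ∨ b < i → IsZero ((DerivedCategory.homologyFunctor C i).obj (F' ⊞ F'')) := by
      intro i hi
      have h1 : E.ExactAt i := ShortComplex.exact_of_isZero_X₂ _ (hvE i hi)
      rw [HomologicalComplex.exactAt_iff_isZero_homology] at h1
      exact IsZero.of_iso h1 (homologyIsoOfIso e i).symm
    obtain ⟨hPC', hPC''⟩ := NPC.of_biprod hsum hqs hql hsumPC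
    have hH' : ∀ i, i < a ∨ b < i → IsZero ((DerivedCategory.homologyFunctor C i).obj F') :=
      fun i hi => isZero_homology_of_retract (biprod.inl : F' ⟶ F' ⊞ F'') biprod.fst (by simp) i
        (hH i hi)
    have hH'' : ∀ i, i < a ∨ b < i → IsZero ((DerivedCategory.homologyFunctor C i).obj F'') :=
      fun i hi => isZero_homology_of_retract (biprod.inr : F'' ⟶ F' ⊞ F'') biprod.snd (by simp) i
        (hH i hi)
    obtain ⟨E₁, hE₁, hE₁0, ⟨e₁⟩⟩ := Groth.Agent.S5617.result P hsum hqs hql a (b + 1) (by omega) F'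
      hPC' (fun i hi => hH' i (Or.inr (by omega)))
    obtain ⟨E₂, hE₂, hE₂0, ⟨e₂⟩⟩ := Groth.Agent.S5617.result P hsum hqs hql a (b + 1) (by omega) F''
      hPC'' (fun i hi => hH'' i (Or.inr (by omega)))
    obtain ⟨T₁, hT₁P, hT₁0, ⟨t₁⟩⟩ := exists_truncGE_repr (P := P) a b hab E₁ hE₁
      (fun i hi => hE₁0 i (by omega))
      (fun i hi => exactAt_of_isZero_homologyFunctor e₁ i (hH' i (Or.inl hi)))
    obtain ⟨T₂, hT₂P, hT₂0, ⟨t₂⟩⟩ := exists_truncGE_repr (P := P) a b hab E₂ hE₂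
      (fun i hi => hE₂0 i (by omega))
      (fun i hi => exactAt_of_isZero_homologyFunctor e₂ i (hH'' i (Or.inl hi)))
    have hTa : P ((T₁ ⊞ T₂).X a) := by
      refine Groth.Agent.S5621.result P hsum hlift hst a b hab (T₁ ⊞ T₂) (fun i hi => ?_)
        (fun i hi => ?_) ⟨E, hPE, hvE, ⟨?_⟩⟩
      · exact IsZero.of_iso (isZero_biprod (hT₁0 i hi) (hT₂0 i hi))
          (HomologicalComplex.biprodXIso T₁ T₂ i)
      · exact P.prop_of_iso ((HomologicalComplex.biprodXIso T₁ T₂ i).symm)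
          (P.prop_of_iso (biprod.isoProd _ _).symm (hsum _ _ (hT₁P i hi) (hT₂P i hi)))
      · exact e ≪≫ (biprod.mapIso (t₁ ≪≫ e₁) (t₂ ≪≫ e₂)).symm ≪≫ (Q.mapBiprod T₁ T₂).symm
    have hTa' : P (T₁.X a ⊞ T₂.X a) :=
      P.prop_of_iso (HomologicalComplex.biprodXIso T₁ T₂ a) hTa
    obtain ⟨h1, h2⟩ := hfac _ _ hTa'
    refine ⟨⟨T₁, fun i => ?_, hT₁0, ⟨t₁ ≪≫ e₁⟩⟩, ⟨T₂, fun i => ?_, hT₂0, ⟨t₂ ≪≫ e₂⟩⟩⟩
    · rcases lt_trichotomy i a with hi | rfl | hi
      · exact P.prop_of_isZero (hT₁0 i (Or.inl hi))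
      · exact h1
      · exact hT₁P i hi
    · rcases lt_trichotomy i a with hi | rfl | hi
      · exact P.prop_of_isZero (hT₂0 i (Or.inl hi))
      · exact h2
      · exact hT₂P i hi

end Groth.Agent.S5622
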