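import Groth.Statements.S5624
import Mathlib.CategoryTheory.Abelian.Refinements

set_option autoImplicit false
universe v u
open CategoryTheory CategoryTheory.Limits
open PCoh

namespace Groth.Agent.S5624

/-- Punctual site: let C be an abelian category and C₀ a strictly full additive subcategory,
quasi-liftable in C, and let 0 → F → G → H → 0 be a short exact sequence. If F and H are precoherent
relative to C₀ then G is precoherent; if F and H are of C₀-finite type then G is of C₀-finite type. -/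
theorem result {C : Type u} [Category.{v} C] [Abelian C]
    (P : ObjectProperty C) [P.IsClosedUnderIsomorphisms] [P.ContainsZero] (hsum : ∀ X Y : C, P X → P Y → P (X ⨯ Y))
    (hql : PCoh.IsQuasiLiftable P)
    (S : ShortComplex C) (hS : S.ShortExact) :
    ((∀ (E : C) (u : E ⟶ S.X₁), P E → PCoh.IsOfFiniteType P (kernel u)) → (∀ (E : C) (u : E ⟶ S.X₃), P E → PCoh.IsOfFiniteType P (kernel u)) →
        (∀ (E : C) (u : E ⟶ S.X₂), P E → PCoh.IsOfFiniteType P (kernel u))) ∧
      (PCoh.IsOfFiniteType P S.X₁ → PCoh.IsOfFiniteType P S.X₃ → PCoh.IsOfFiniteType P S.X₂) := by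
  have hg : Epi S.g := hS.epi_g
  have hf : Mono S.f := hS.mono_f
  have hex : S.Exact := hS.exact
  refine ⟨?_, ?_⟩
  · intro hF hH E u hE
    obtain ⟨E', e', hE', he'⟩ := hH E (u ≫ S.g) hE
    have hz : (kernel.ι (u ≫ S.g) ≫ u) ≫ S.g = 0 := by
      rw [Category.assoc]; exact kernel.condition _
    have hv : hex.lift (kernel.ι (u ≫ S.g) ≫ u) hz ≫ S.f = kernel.ι (u ≫ S.g) ≫ u :=
      hex.lift_f _ _
    generalize hex.lift (kernel.ι (u ≫ S.g) ≫ u) hz = v at hv
    obtain ⟨E'', e'', hE'', he''⟩ := hF E' (e' ≫ v) hE'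
    have hc : (e'' ≫ kernel.ι (e' ≫ v) ≫ e' ≫ kernel.ι (u ≫ S.g)) ≫ u = 0 := by
      simp only [Category.assoc]
      rw [← hv, ← Category.assoc e', ← Category.assoc (kernel.ι (e' ≫ v)), kernel.condition,
        zero_comp, comp_zero]
    refine ⟨E'', kernel.lift u _ hc, hE'', ?_⟩
    rw [epi_iff_surjective_up_to_refinements]
    intro A x
    have hx1 : (x ≫ kernel.ι u) ≫ (u ≫ S.g) = 0 := by
      rw [Category.assoc, ← Category.assoc (kernel.ι u), kernel.condition, zero_comp, comp_zero]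
    obtain ⟨A', p, hp, y, hy⟩ := surjective_up_to_refinements_of_epi e'
      (kernel.lift (u ≫ S.g) (x ≫ kernel.ι u) hx1)
    have hy0 : y ≫ (e' ≫ v) = 0 := by
      rw [← cancel_mono S.f, zero_comp, Category.assoc, Category.assoc, hv, ← Category.assoc,
        ← hy, Category.assoc, kernel.lift_ι_assoc, Category.assoc, kernel.condition, comp_zero,
        comp_zero]
    obtain ⟨A'', p', hp', w, hw⟩ := surjective_up_to_refinements_of_epi e''
      (kernel.lift (e' ≫ v) y hy0)
    refine ⟨A'', p' ≫ p, epi_comp _ _, w, ?_⟩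
    rw [← cancel_mono (kernel.ι u)]
    simp only [Category.assoc, kernel.lift_ι]
    rw [← Category.assoc w, ← hw, Category.assoc, kernel.lift_ι_assoc, ← Category.assoc y, ← hy]
    simp only [Category.assoc, kernel.lift_ι]
  · rintro ⟨E₁, e₁, hE₁, he₁⟩ ⟨E₃, e₃, hE₃, he₃⟩
    obtain ⟨F', v, hF', hv⟩ := hql (pullback e₃ S.g) E₃ (pullback.fst e₃ S.g) inferInstance hE₃
    refine ⟨E₁ ⨯ F', prod.fst ≫ e₁ ≫ S.f + prod.snd ≫ v ≫ pullback.snd e₃ S.g, hsum _ _ hE₁ hF', ?_⟩
    rw [epi_iff_surjective_up_to_refinements]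
    intro A x
    have : Epi ((v ≫ pullback.fst e₃ S.g) ≫ e₃) := epi_comp _ _
    obtain ⟨A', p, hp, y, hy⟩ := surjective_up_to_refinements_of_epi
      ((v ≫ pullback.fst e₃ S.g) ≫ e₃) (x ≫ S.g)
    have h0 : (p ≫ x - y ≫ v ≫ pullback.snd e₃ S.g) ≫ S.g = 0 := by
      rw [Preadditive.sub_comp, Category.assoc, hy]
      simp only [Category.assoc]
      rw [pullback.condition, sub_self]
    obtain ⟨A'', p', hp', z, hz⟩ := hex.exact_up_to_refinements _ h0
    obtain ⟨A''', p'', hp'', w, hw⟩ := surjective_up_to_refinements_of_epi e₁ z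
    refine ⟨A''', p'' ≫ p' ≫ p, epi_comp _ _, prod.lift w (p'' ≫ p' ≫ y), ?_⟩
    rw [Preadditive.comp_add, prod.lift_fst_assoc, prod.lift_snd_assoc, ← Category.assoc w, ← hw]
    have hz' : p'' ≫ z ≫ S.f = p'' ≫ p' ≫ (p ≫ x - y ≫ v ≫ pullback.snd e₃ S.g) := by
      rw [hz]
    simp only [Category.assoc, Preadditive.comp_sub] at hz' ⊢
    rw [hz']
    abel

end Groth.Agent.S5624
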