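import Groth.Statements.S5626
import Groth.Agent.Lib.Helper3.LocFreeCrit
import Groth.Agent.Lib.Helper3.QCProps

set_option autoImplicit false
universe u
open CategoryTheory CategoryTheory.Limits AlgebraicGeometry
open FlatMod

namespace Groth.Agent.S5626

/-- a retract of a quasi-coherent module is quasi-coherent -/
theorem isQuasicoherent_of_retract5626 {X : Scheme.{u}} {M P : X.Modules} [P.IsQuasicoherent]
    (i : M ⟶ P) (p : P ⟶ M) (h : i ≫ p = 𝟙 M) :
    SheafOfModules.IsQuasicoherent (R := X.ringCatSheaf) M := by
  have hw : i ≫ (𝟙 P - p ≫ i) = 0 := by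
    rw [Preadditive.comp_sub, Category.comp_id, ← Category.assoc, h, Category.id_comp, sub_self]
  have hlim : IsLimit (KernelFork.ofι i hw) := by
    refine KernelFork.IsLimit.ofι i hw (fun {W} g hg => g ≫ p) ?_ ?_
    · intro W g hg
      rw [Preadditive.comp_sub, Category.comp_id, sub_eq_zero] at hg
      rw [Category.assoc, ← hg]
    · intro W g hg m hm
      rw [← hm, Category.assoc, h, Category.comp_id]
  have e : M ≅ kernel (𝟙 P - p ≫ i) :=
    IsLimit.conePointUniqueUpToIso hlim (limit.isLimit _)
  have := Groth.Agent.Lib.Helper3.QCProps.isQuasicoherent_kernel (𝟙 P - p ≫ i)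
  exact (SheafOfModules.isQuasicoherent X.ringCatSheaf).prop_of_iso e.symm this

open Groth.Agent.Lib.Helper3 Groth.Agent.Lib.Helper3.FreeBasis in

/-- For the Zariski topos of a scheme (a special case of both hypotheses (i) and (ii) there): on a
scheme X, a direct summand of a finite free O_X-module is finite locally free. Here M is a direct
summand of O_X^n in the sense that M ⊞ N ≅ O_X^n for some module N. -/
theorem result {X : Scheme.{u}} (M N : X.Modules) [HasBinaryBiproduct M N] (n : ℕ)
    (e : M ⊞ N ≅ FlatMod.freeMod X n) :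
    FlatMod.IsFinLocFree M := by
  have hP : (FlatMod.freeMod X n).IsQuasicoherent := SecLoc.isQuasicoherent_flatFreeMod X n
  let i : M ⟶ FlatMod.freeMod X n := biprod.inl ≫ e.hom
  let p : FlatMod.freeMod X n ⟶ M := e.inv ≫ biprod.fst
  have hip : i ≫ p = 𝟙 M := by
    simp only [i, p, Category.assoc, Iso.hom_inv_id_assoc, biprod.inl_fst]
  have : M.IsQuasicoherent := isQuasicoherent_of_retract5626 i p hip
  have key : ∀ (U : X.Opens), Module.Finite Γ(X, U) Γ(M, U) ∧ Module.Projective Γ(X, U) Γ(M, U) := by
    intro U
    let b := NormAlg.basisOfBijective _ (isBasisAt_bsec (X := X) n U)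
    have hfree : Module.Free Γ(X, U) Γ(FlatMod.freeMod X n, U) := Module.Free.of_basis b
    have hfin : Module.Finite Γ(X, U) Γ(FlatMod.freeMod X n, U) := Module.Finite.of_basis b
    have hcomp : (QCProps.appₗ p U).comp (QCProps.appₗ i U) = LinearMap.id := by
      ext m
      change p.app U (i.app U m) = m
      have : (i ≫ p).app U m = m := by rw [hip]; rfl
      exact this
    constructor
    · refine Module.Finite.of_surjective (QCProps.appₗ p U) ?_
      intro m
      exact ⟨QCProps.appₗ i U m, LinearMap.congr_fun hcomp m⟩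
    · exact Module.Projective.of_split (QCProps.appₗ i U) (QCProps.appₗ p U) hcomp
  apply LocFreeCrit.isFinLocFree_of_forall_mem_freeLocus
  intro x
  obtain ⟨U, hU, hxU⟩ := QCProps.exists_affine_nbhd x
  obtain ⟨h1, h2⟩ := key U
  refine ⟨U, hU, hxU, Module.finitePresentation_of_projective _ _, ?_⟩
  have h6 : Module.freeLocus Γ(X, U) Γ(M, U) = Set.univ := Module.freeLocus_eq_univ
  rw [h6]
  exact Set.mem_univ _

end Groth.Agent.S5626
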