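-- Statement S5628.
import Groth.Statements.S5628
import Mathlib
import Groth.Agent.Lib.Helper1.PCohStep

set_option autoImplicit false
universe v u
open CategoryTheory CategoryTheory.Limits
open PCoh

namespace Groth.Agent.S5628

open Groth.Agent.Lib.Helper1.PCohFT Groth.Agent.Lib.Helper1.PCohCone
  Groth.Agent.Lib.Helper1.PCohMore Groth.Agent.Lib.Helper1.PCohStep

/-- Let C be an abelian category and C₀ a strictly full additive subcategory which is quasi-liftable in
C. Let u : E ⟶ F be an (n+1)-quasi-isomorphism of cochain complexes (isomorphism on H^i for i > n+1,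
epimorphism on H^{n+1}) such that H^n of the mapping cone of u is of C₀-finite type. Then, modifying
E in degree n only by adding an object of C₀, u becomes an n-quasi-isomorphism: u = v ≫ u' with v :
E ⟶ E' a monomorphism in each degree, an isomorphism in every degree ≠ n, with cokernel in degree n
an object of C₀, and u' : E' ⟶ F an isomorphism on H^i for i > n and an epimorphism on H^n. -/
theorem result {C : Type u} [Category.{v} C] [Abelian C]
    (P : ObjectProperty C) [P.IsClosedUnderIsomorphisms] [P.ContainsZero] (hsum : ∀ X Y : C, P X → P Y → P (X ⨯ Y))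
    (hql : PCoh.IsQuasiLiftable P)
    (n : ℤ) (E F : CochainComplex C ℤ) (u : E ⟶ F)
    (hiso : ∀ i : ℤ, n + 1 < i → IsIso (HomologicalComplex.homologyMap u i))
    (hepi : Epi (HomologicalComplex.homologyMap u (n + 1)))
    (hcone : PCoh.IsOfFiniteType P ((CochainComplex.mappingCone u).homology n)) :
    ∃ (E' : CochainComplex C ℤ) (v : E ⟶ E') (u' : E' ⟶ F), v ≫ u' = u ∧ (∀ i : ℤ, Mono (v.f i)) ∧
      (∀ i : ℤ, i ≠ n → IsIso (v.f i)) ∧ P (cokernel (v.f n)) ∧
      (∀ i : ℤ, n < i → IsIso (HomologicalComplex.homologyMap u' i)) ∧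
      Epi (HomologicalComplex.homologyMap u' n) := by
  have hex : ∀ j, n + 1 < j → (CochainComplex.mappingCocone u).ExactAt j := fun j hj =>
    cocone_exactAt u (n + 2) (fun i hi => hiso i (by omega)) (n + 1) (by omega) hepi j (by omega)
  have hft : PCoh.IsOfFiniteType P ((CochainComplex.mappingCocone u).homology (n + 1)) :=
    isOfFiniteType_of_iso P (coconeHomologyIso u n (n + 1) rfl).symm hcone
  obtain ⟨N, G', w', ι, hN, h1, h2, h3, ⟨e4⟩, _, h6⟩ := stepFT hql u n hex hft
  refine ⟨G', ι, w', h1, h2, h3, P.prop_of_iso e4.symm hN, fun i hi => ?_, ?_⟩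
  · exact isIso_homologyMap_of_cocone_exact w' i (i + 1) rfl (h6 i hi) (h6 (i + 1) (by omega))
  · exact epi_homologyMap_of_cocone_exact w' n (n + 1) rfl (h6 (n + 1) (by omega))

end Groth.Agent.S5628
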