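import Groth.Statements.S5632
import Groth.Agent.Lib.Helper7.SecDeg

set_option autoImplicit false
universe u
open CategoryTheory CategoryTheory.Limits AlgebraicGeometry
open Pic13

namespace Groth.Agent.S5632

/-- Let k be an algebraically closed field, X ⊆ P^n_k an integral closed subscheme of dimension r = s +
1 ≥ 1, with O_X(1) and O_X(-1) the restrictions of O(1) and O(-1). Let L be an invertible O_X-module
with inverse L' (L ⊗ L' ≅ O_X) whose degree (c₁(L)·c₁(O_X(1))^{r-1}) is ≤ 0 and with H^0(X, L) ≠ 0.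
Then L ≅ O_X (so that its degree is 0 and h^0(L) = 1). Intersection numbers are those of FGA.intNum,
which takes the inverse modules L', O_X(-1) as arguments. -/
theorem result (k : Type u) [Field k] [IsAlgClosed k] (n : ℕ) (X : Scheme.{u}) [X.Over (Spec (CommRingCat.of k))]
    (i : X ⟶ CohB1.ProjSpace n k) [IsClosedImmersion i] (hi : i ≫ CohB1.ProjSpace.toSpec n k = X ↘ Spec (CommRingCat.of k))
    [IsIntegral X] (s : ℕ) (hdim : topologicalKrullDim X = (s + 1 : ℕ))
    (L L' : X.Modules) (hL : PicF.IsInvertible L) (hLL' : Nonempty (CohB1.tensorMod L L' ≅ Coh.structureModule X))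
    (hdeg : FGA.intNum k X (s + 1)
      (Matrix.vecCons L' (fun _ : Fin s => (Scheme.Modules.pullback i).obj (Twist.twistProjSpace n k (-1))))
      (Coh.structureModule X) ≤ 0)
    (hsec : Nontrivial (Coh.HH X L 0)) :
    Nonempty (L ≅ Coh.structureModule X) := by
  haveI : IsProper (X ↘ Spec (CommRingCat.of k)) := by
    rw [← hi]
    infer_instance
  haveI : CompactSpace X := Groth.Agent.Lib.Helper23.T2.compactSpace_of_isProper k X
  obtain ⟨eLL'⟩ := hLL'
  obtain ⟨σ, hσ⟩ := Groth.Agent.Lib.Helper7.SecDeg.exists_section_ne_zero X L hsec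
  have hA : CohB1.IsAmple (Groth.Agent.Lib.Helper7.HilbCoeff.HX k i) :=
    Groth.Agent.Lib.Helper3.PbAmple.isAmple_pullback_of_isEmbedding i
      i.isClosedEmbedding.isEmbedding
      (Groth.Agent.Lib.Helper23.AmpleCurve.isAmple_twistProjSpace n k)
  rcases Groth.Agent.Lib.Helper7.SecDeg.pos_or_iso k X s hdim L L' hL
      (Groth.Agent.Lib.Helper3.InvMonoidal.braid L' L ≪≫ eLL') σ hσ
      (fun _ => Groth.Agent.Lib.Helper7.HilbCoeff.HX k i)
      (fun _ => Groth.Agent.Lib.Helper7.HilbCoeff.HX' k i)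
      (fun _ => hA) (fun _ => Groth.Agent.Lib.Helper7.HilbCoeff.nonempty_HX_inv k i) with h | h
  · exact h
  · exact absurd h (not_lt.mpr hdeg)

end Groth.Agent.S5632
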