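import Groth.Statements.S5656
import Mathlib

set_option autoImplicit false
universe u
open W4sga6xxiii

namespace Groth.Agent.S5656


open Polynomial in
lemma choose_cast_eq (n : ℤ) (j : ℕ) :
    ((Ring.choose n j : ℤ) : ℚ) = (descPochhammer ℚ j).eval (n : ℚ) / (j.factorial : ℚ) := by
  have h := Ring.descPochhammer_eq_factorial_smul_choose n j
  rw [eq_div_iff (by exact_mod_cast j.factorial_ne_zero)]
  have h2 : (descPochhammer ℚ j).eval (n : ℚ) = (((descPochhammer ℤ j).eval n : ℤ) : ℚ) := by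
    rw [← descPochhammer_map (Int.castRingHom ℚ), Polynomial.eval_intCast_map]
    rfl
  rw [h2, Polynomial.eval_eq_smeval, h]
  push_cast [nsmul_eq_mul]
  ring

open Polynomial in
lemma exists_poly {G : Type*} [AddCommGroup G] (f : G → ℚ) (hf : W4sga6xxiii.IsPolyMap f) (x : G) :
    ∃ P : ℚ[X], ∀ n : ℤ, f (n • x) = P.eval (n : ℚ) := by
  obtain ⟨m, y, -, hy⟩ := hf 1 (fun _ => x)
  refine ⟨∑ k : Fin 1 → Fin (m + 1),
    C (y k / (((k 0 : Fin (m + 1)) : ℕ).factorial : ℚ)) * descPochhammer ℚ ((k 0 : Fin (m + 1)) : ℕ),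
    fun n => ?_⟩
  have h := hy (fun _ => n)
  simp only [Fin.sum_univ_one, Fin.prod_univ_one] at h
  rw [h, eval_finset_sum]
  refine Finset.sum_congr rfl (fun k _ => ?_)
  rw [eval_mul, eval_C, zsmul_eq_mul, choose_cast_eq]
  ring

open Polynomial in
lemma abs_eval_le (R : ℚ[X]) (h0 : R.eval 0 = 0) (t : ℚ) (ht : |t| ≤ 1) :
    |R.eval t| ≤ (∑ i ∈ Finset.range (R.natDegree + 1), |R.coeff i|) * |t| := by
  rw [Polynomial.eval_eq_sum_range, Finset.sum_mul]
  refine (Finset.abs_sum_le_sum_abs _ _).trans (Finset.sum_le_sum fun i _ => ?_)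
  rw [abs_mul, abs_pow]
  rcases Nat.eq_zero_or_pos i with rfl | hi
  · have hc : R.coeff 0 = 0 := by rwa [Polynomial.coeff_zero_eq_eval_zero]
    rw [hc]
    simp
  · exact mul_le_mul_of_nonneg_left (pow_le_of_le_one (abs_nonneg t) ht hi.ne') (abs_nonneg _)

open Polynomial in
lemma step1 {G : Type*} [AddCommGroup G] (G' : AddSubgroup G)
    (p : ℕ) (hp : p.Prime) (hdiv : ∀ x ∈ G', ∃ y ∈ G', p • y = x)
    (f : G → ℚ) (hf : W4sga6xxiii.IsPolyMap f) (hint : ∀ x, ∃ z : ℤ, f x = z) (x : G)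
    (hx : x ∈ G') : f x = f 0 := by
  have hp1 : (1 : ℚ) < p := by exact_mod_cast hp.one_lt
  have hp0 : (p : ℚ) ≠ 0 := by exact_mod_cast hp.ne_zero
  have hdivk : ∀ k : ℕ, ∀ z ∈ G', ∃ y ∈ G', ((p : ℤ) ^ k) • y = z := by
    intro k
    induction k with
    | zero => intro z hz; exact ⟨z, hz, by simp⟩
    | succ k ih =>
      intro z hz
      obtain ⟨y, hy, rfl⟩ := ih z hz
      obtain ⟨w, hw, rfl⟩ := hdiv y hy
      exact ⟨w, hw, by rw [pow_succ, mul_smul, natCast_zsmul]⟩
  obtain ⟨P, hP⟩ := exists_poly f hf x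
  have hPk : ∀ k : ℕ, ∃ z : ℤ, P.eval ((1 : ℚ) / (p : ℚ) ^ k) = z := by
    intro k
    obtain ⟨y, hy, hyx⟩ := hdivk k x hx
    obtain ⟨Q, hQ⟩ := exists_poly f hf y
    have hPQ : P = Q.comp (C ((p : ℚ) ^ k) * X) := by
      apply Polynomial.eq_of_infinite_eval_eq
      apply Set.Infinite.mono _ (Set.infinite_range_of_injective (Int.cast_injective (α := ℚ)))
      rintro _ ⟨n, rfl⟩
      simp only [Set.mem_setOf_eq, eval_comp, eval_mul, eval_C, eval_X]
      rw [← hP n, ← hyx, smul_smul, hQ]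
      push_cast
      rw [mul_comm]
    obtain ⟨z, hz⟩ := hint y
    refine ⟨z, ?_⟩
    rw [hPQ, eval_comp, eval_mul, eval_C, eval_X, mul_one_div_cancel (pow_ne_zero _ hp0), ← hz]
    have h1 := hQ 1
    rw [one_smul] at h1
    rw [h1]
    simp
  -- the polynomial R = P - P(0)
  have hR0 : (P - C (P.eval 0)).eval 0 = 0 := by simp
  obtain ⟨k0, hk0⟩ := pow_unbounded_of_one_lt
    (∑ i ∈ Finset.range ((P - C (P.eval 0)).natDegree + 1), |(P - C (P.eval 0)).coeff i|) hp1
  have hroot : ∀ k : ℕ, (P - C (P.eval 0)).eval ((1 : ℚ) / (p : ℚ) ^ (k0 + k)) = 0 := by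
    intro k
    have hpos : (0 : ℚ) < (p : ℚ) ^ (k0 + k) := pow_pos (lt_trans zero_lt_one hp1) _
    have ht : |(1 : ℚ) / (p : ℚ) ^ (k0 + k)| ≤ 1 := by
      rw [abs_of_pos (div_pos one_pos hpos), div_le_one hpos]
      exact one_le_pow₀ hp1.le
    have hb := abs_eval_le _ hR0 _ ht
    have hlt : (∑ i ∈ Finset.range ((P - C (P.eval 0)).natDegree + 1),
        |(P - C (P.eval 0)).coeff i|) * |(1 : ℚ) / (p : ℚ) ^ (k0 + k)| < 1 := by
      rw [abs_of_pos (div_pos one_pos hpos), mul_one_div, div_lt_one hpos]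
      exact lt_of_lt_of_le hk0 (pow_le_pow_right₀ hp1.le (Nat.le_add_right k0 k))
    obtain ⟨z, hz⟩ := hPk (k0 + k)
    obtain ⟨z0, hz0⟩ := hint 0
    have hP0 : P.eval 0 = z0 := by
      have := hP 0
      rw [zero_smul] at this
      rw [← hz0, this]
      simp
    have hval : (P - C (P.eval 0)).eval ((1 : ℚ) / (p : ℚ) ^ (k0 + k)) = ((z - z0 : ℤ) : ℚ) := by
      rw [eval_sub, eval_C, hz, hP0]
      push_cast
      ring
    rw [hval] at hb ⊢
    have habs : |((z - z0 : ℤ) : ℚ)| < 1 := lt_of_le_of_lt hb hlt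
    have : |z - z0| < 1 := by exact_mod_cast habs
    rw [Int.abs_lt_one_iff] at this
    rw [this]
    simp
  have hRz : P - C (P.eval 0) = 0 := by
    apply Polynomial.eq_zero_of_infinite_isRoot
    apply Set.Infinite.mono _ (Set.infinite_range_of_injective
      (f := fun k : ℕ => (1 : ℚ) / (p : ℚ) ^ (k0 + k)) ?_)
    · rintro _ ⟨k, rfl⟩
      exact hroot k
    · intro a b hab
      simp only [one_div, inv_inj] at hab
      have := pow_right_injective₀ (lt_trans zero_lt_one hp1) hp1.ne' hab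
      omega
  have hPc : P = C (P.eval 0) := sub_eq_zero.mp hRz
  have h1 := hP 1
  have h0 := hP 0
  rw [one_smul] at h1
  rw [zero_smul] at h0
  rw [h1, h0, hPc]
  simp

/-- Let G be an abelian group and G' ⊆ G a subgroup which is divisible by some prime number p (every
element of G' is p times an element of G') and such that G/G' is a torsion group. Then every
polynomial map f : G → ℚ (admitting binomial expansions f(Σ n_i x_i) = Σ_k Π_i C(n_i, k_i) y_k along
every finite sequence x) which takes only integer values is constant. -/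
theorem result {G : Type u} [AddCommGroup G] (G' : AddSubgroup G)
    (p : ℕ) (hp : p.Prime) (hdiv : ∀ x ∈ G', ∃ y ∈ G', p • y = x) (htor : ∀ x : G, ∃ n : ℤ, n ≠ 0 ∧ n • x ∈ G')
    (f : G → ℚ) (hf : W4sga6xxiii.IsPolyMap f) (hint : ∀ x, ∃ z : ℤ, f x = z) (x : G) : f x = f 0 := by
  classical
  obtain ⟨n₀, hn₀, hmem⟩ := htor x
  obtain ⟨P, hP⟩ := exists_poly f hf x
  have hroots : ∀ m : ℤ, P.eval ((m * n₀ : ℤ) : ℚ) = f 0 := fun m => by
    rw [← hP, mul_smul]
    exact step1 G' p hp hdiv f hf hint _ (G'.zsmul_mem hmem m)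
  have hPc : P = Polynomial.C (f 0) := by
    apply Polynomial.eq_of_infinite_eval_eq
    refine Set.Infinite.mono ?_ (Set.infinite_range_of_injective
      (f := fun m : ℤ => ((m * n₀ : ℤ) : ℚ)) ?_)
    · rintro _ ⟨m, rfl⟩
      simp only [Set.mem_setOf_eq, Polynomial.eval_C]
      exact hroots m
    · intro a b hab
      have h2 : a * n₀ = b * n₀ := by
        have hab' : ((a * n₀ : ℤ) : ℚ) = ((b * n₀ : ℤ) : ℚ) := hab
        exact_mod_cast hab'
      exact mul_right_cancel₀ hn₀ h2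
  have h1 := hP 1
  rw [one_smul, hPc] at h1
  simpa using h1

end Groth.Agent.S5656
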