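import Groth.Statements.S5657
import Mathlib

set_option autoImplicit false
universe u
open TensorProduct
open W4sga6xxiii

namespace Groth.Agent.S5657


theorem key1 (A : Type u) [CommRing A] (m : ℕ) (u : Aˣ) (hz : ((u : A) - 1) ^ (m + 1) = 0)
    (n : ℤ) :
    ((u ^ n : Aˣ) : A) = ∑ j ∈ Finset.range (m + 1), Ring.choose n j • ((u : A) - 1) ^ j := by
  set z := (u : A) - 1 with hzdef
  have hu : (u : A) = 1 + z := by rw [hzdef]; ring
  let g : ℤ → A := fun n => ∑ j ∈ Finset.range (m + 1), Ring.choose n j • z ^ j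
  have hmul : ∀ (c : ℤ) (j : ℕ), z * (c • z ^ j) = c • z ^ (j + 1) := by
    intro c j; rw [mul_smul_comm, ← pow_succ']
  have hstep : ∀ n : ℤ, g (n + 1) = (u : A) * g n := by
    intro n
    have e1 : ∑ j ∈ Finset.range (m + 1), Ring.choose (n + 1) j • z ^ j =
        ∑ j ∈ Finset.range m, Ring.choose (n + 1) (j + 1) • z ^ (j + 1) +
          Ring.choose (n + 1) 0 • z ^ 0 := Finset.sum_range_succ' _ m
    have e2 : ∑ j ∈ Finset.range (m + 1), Ring.choose n j • z ^ j =
        ∑ j ∈ Finset.range m, Ring.choose n (j + 1) • z ^ (j + 1) +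
          Ring.choose n 0 • z ^ 0 := Finset.sum_range_succ' _ m
    have e3 : ∑ j ∈ Finset.range (m + 1), Ring.choose n j • z ^ (j + 1) =
        ∑ j ∈ Finset.range m, Ring.choose n j • z ^ (j + 1) +
          Ring.choose n m • z ^ (m + 1) := Finset.sum_range_succ _ m
    show ∑ j ∈ Finset.range (m + 1), Ring.choose (n + 1) j • z ^ j =
      (u : A) * ∑ j ∈ Finset.range (m + 1), Ring.choose n j • z ^ j
    rw [hu, add_mul, _root_.one_mul, Finset.mul_sum]
    simp only [hmul]
    rw [e1, e3, hz, smul_zero, add_zero, e2]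
    simp only [Ring.choose_succ_succ, add_smul, Finset.sum_add_distrib, Ring.choose_zero_right]
    abel
  have h0 : g 0 = 1 := by
    show ∑ j ∈ Finset.range (m + 1), Ring.choose (0 : ℤ) j • z ^ j = 1
    rw [Finset.sum_range_succ' _ m]
    simp only [Ring.choose_zero_succ, zero_smul, Finset.sum_const_zero, Ring.choose_zero_right,
      pow_zero, one_smul, zero_add]
  show ((u ^ n : Aˣ) : A) = g n
  induction n using Int.induction_on with
  | zero => rw [zpow_zero, Units.val_one, h0]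
  | succ i ih =>
    rw [hstep, ← ih, zpow_add_one, Units.val_mul, mul_comm]
  | pred i ih =>
    have h1 := hstep (-(i : ℤ) - 1)
    rw [sub_add_cancel] at h1
    have h2 : g (-(i : ℤ) - 1) = ((u⁻¹ : Aˣ) : A) * g (-(i : ℤ)) := by
      rw [h1, Units.inv_mul_cancel_left]
    rw [h2, ← ih, zpow_sub_one, Units.val_mul, mul_comm]


/-- Let A be a commutative ring, I an ideal of A with I^{m+1} = 0, and P ⊆ Aˣ the subgroup of units of
the form 1 + y with y ∈ I. Then the map P → A ⊗_ℤ ℚ, x ↦ x ⊗ 1, is a polynomial map of degree ≤ m on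
the abelian group P (written additively): along every finite sequence x_1, …, x_r in P one has
x_1^{n_1}⋯x_r^{n_r} ⊗ 1 = Σ_k Π_i C(n_i, k_i) y_k with y_k = 0 whenever k_1 + ⋯ + k_r > m. -/
theorem result (A : Type u) [CommRing A] (I : Ideal A) (m : ℕ) (hI : I ^ (m + 1) = ⊥)
    (P : Subgroup Aˣ) (hP : ∀ u : Aˣ, u ∈ P ↔ (u : A) - 1 ∈ I) :
    W4sga6xxiii.IsPolyMapLE (fun u : Additive P => (((Additive.toMul u : P) : Aˣ) : A) ⊗ₜ[ℤ] (1 : ℚ)) m := by
  classical
  intro r x
  let φ : A →+ A ⊗[ℤ] ℚ := ((TensorProduct.mk ℤ A ℚ).flip 1).toAddMonoidHom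
  let u : Fin r → Aˣ := fun i => ((Additive.toMul (x i) : P) : Aˣ)
  let z : Fin r → A := fun i => (u i : A) - 1
  have hzI : ∀ i, z i ∈ I := fun i => (hP (u i)).1 (Additive.toMul (x i)).2
  have hz : ∀ i, z i ^ (m + 1) = 0 := by
    intro i
    have : z i ^ (m + 1) ∈ I ^ (m + 1) := Ideal.pow_mem_pow (hzI i) _
    rw [hI] at this
    exact this
  refine ⟨fun k => φ (∏ i, z i ^ (k i : ℕ)), ?_, ?_⟩
  · intro k hk
    have h1 : ∏ i, z i ^ (k i : ℕ) ∈ I ^ (∑ i, (k i : ℕ)) := by
      rw [← Finset.prod_pow_eq_pow_sum]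
      exact Ideal.prod_mem_prod (fun i _ => Ideal.pow_mem_pow (hzI i) _)
    have h2 : I ^ (∑ i, (k i : ℕ)) ≤ I ^ (m + 1) := Ideal.pow_le_pow_right (Nat.succ_le_of_lt hk)
    have h3 := h2 h1
    rw [hI] at h3
    show φ _ = 0
    rw [(Submodule.mem_bot A).1 h3, map_zero]
  · intro n
    have hval : ((((Additive.toMul (∑ i, n i • x i) : P)) : Aˣ) : A) =
        ∏ i, (((u i) ^ (n i) : Aˣ) : A) := by
      simp only [toMul_sum, toMul_zsmul, SubmonoidClass.coe_finset_prod, SubgroupClass.coe_zpow,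
        Units.coe_prod, u]
    change φ ((((Additive.toMul (∑ i, n i • x i) : P)) : Aˣ) : A) = _
    rw [hval]
    have hexp : ∀ i, (((u i) ^ (n i) : Aˣ) : A) =
        ∑ j : Fin (m + 1), Ring.choose (n i) (j : ℕ) • z i ^ (j : ℕ) := by
      intro i
      rw [key1 A m (u i) (hz i) (n i),
        Fin.sum_univ_eq_sum_range (fun j => Ring.choose (n i) j • z i ^ j) (m + 1)]
    simp only [hexp]
    rw [Finset.prod_univ_sum, Fintype.piFinset_univ, map_sum]
    refine Finset.sum_congr rfl (fun k _ => ?_)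
    have e := map_zsmul φ (∏ i, Ring.choose (n i) (k i : ℕ)) (∏ i, z i ^ (k i : ℕ))
    refine Eq.trans ?_ e
    congr 1
    simp only [zsmul_eq_mul, Finset.prod_mul_distrib, Int.cast_prod]

end Groth.Agent.S5657
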