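import Groth.Statements.S5663
import Mathlib

set_option autoImplicit false
universe u
open TensorProduct
open CAlg

namespace Groth.Agent.S5663

/-- Kernel of `M → κ(p) ⊗ M`. -/
theorem exists_smul_mem_of_tmul_eq_zero {A : Type u} [CommRing A] (p : Ideal A) [p.IsPrime]
    {M : Type u} [AddCommGroup M] [Module A M] (c : M)
    (h : (1 : p.ResidueField) ⊗ₜ[A] c = 0) :
    ∃ s : A, s ∉ p ∧ s • c ∈ p • (⊤ : Submodule A M) := by
  classical
  have h1 : (1 : p.ResidueField) ⊗ₜ[A ⧸ p] ((1 : A ⧸ p) ⊗ₜ[A] c) = 0 := by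
    apply (TensorProduct.AlgebraTensorModule.cancelBaseChange A (A ⧸ p) p.ResidueField
      p.ResidueField M).injective
    rw [TensorProduct.AlgebraTensorModule.cancelBaseChange_tmul, one_smul, h, map_zero]
  obtain ⟨d, hd⟩ := (IsLocalizedModule.eq_zero_iff (nonZeroDivisors (A ⧸ p))
    (TensorProduct.mk (A ⧸ p) p.ResidueField ((A ⧸ p) ⊗[A] M) 1)).1 h1
  obtain ⟨s, hs⟩ := Ideal.Quotient.mk_surjective (d : A ⧸ p)
  refine ⟨s, ?_, ?_⟩
  · intro hsp
    have h0 : (d : A ⧸ p) = 0 := by
      rw [← hs]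
      exact Ideal.Quotient.eq_zero_iff_mem.2 hsp
    exact nonZeroDivisors.coe_ne_zero d h0
  · have h2 : (Ideal.Quotient.mk p s) ⊗ₜ[A] c = (0 : (A ⧸ p) ⊗[A] M) := by
      have h3 : d • ((1 : A ⧸ p) ⊗ₜ[A] c) = (Ideal.Quotient.mk p s) ⊗ₜ[A] c := by
        rw [Submonoid.smul_def, ← hs, TensorProduct.smul_tmul', smul_eq_mul, mul_one]
      rw [← h3]
      exact hd
    have h4 := congrArg (TensorProduct.quotTensorEquivQuotSMul M p) h2
    rw [TensorProduct.quotTensorEquivQuotSMul_mk_tmul, map_zero,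
      Submodule.Quotient.mk_eq_zero] at h4
    exact h4

/-- Elements of the equalizer are scalars at every residue field. -/
theorem equalizer_local {A : Type u} [CommRing A] (p : Ideal A) [p.IsPrime]
    {C : Type u} [CommRing C] [Algebra A C] (b : C)
    (hb : (b ⊗ₜ[A] (1 : C) : C ⊗[A] C) = (1 : C) ⊗ₜ[A] b) :
    ∃ s : A, s ∉ p ∧ ∃ a : A, s • b - a • (1 : C) ∈ p • (⊤ : Submodule A C) := by
  classical
  let φ : C →ₗ[A] (p.ResidueField ⊗[A] C) := TensorProduct.mk A p.ResidueField C 1
  have hφ : ∀ c : C, φ c = (1 : p.ResidueField) ⊗ₜ[A] c := fun c => rfl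
  by_cases hu : φ 1 = 0
  · -- then everything dies
    have hb0 : φ b = 0 := by
      have h1 : φ b = φ b * φ 1 := by
        rw [hφ, hφ, Algebra.TensorProduct.tmul_mul_tmul, mul_one, mul_one]
      rw [h1, hu, mul_zero]
    obtain ⟨s, hs, hmem⟩ := exists_smul_mem_of_tmul_eq_zero p b (by rw [← hφ]; exact hb0)
    exact ⟨s, hs, 0, by rw [zero_smul, sub_zero]; exact hmem⟩
  · -- a functional `f` with `f (φ 1) = 1`
    obtain ⟨g, hg⟩ := (LinearMap.toSpanSingleton p.ResidueField (p.ResidueField ⊗[A] C)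
      (φ 1)).exists_leftInverse_of_injective (LinearMap.ker_toSpanSingleton _ hu)
    have hg1 : g (φ 1) = 1 := by
      have h1 := LinearMap.congr_fun hg 1
      rw [LinearMap.comp_apply, LinearMap.toSpanSingleton_apply, one_smul,
        LinearMap.id_apply] at h1
      exact h1
    let β : C →ₗ[A] C →ₗ[A] (p.ResidueField ⊗[A] C) :=
      LinearMap.mk₂ A (fun c c' => g (φ c) • φ c')
        (fun c₁ c₂ c' => by rw [map_add, map_add, add_smul])
        (fun a c c' => by
          rw [map_smul, LinearMap.map_smul_of_tower, smul_assoc])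
        (fun c c₁ c₂ => by rw [map_add, smul_add])
        (fun a c c' => by rw [map_smul, smul_comm])
    have hβ : ∀ c c' : C, TensorProduct.lift β (c ⊗ₜ[A] c') = g (φ c) • φ c' := fun c c' => by
      rw [TensorProduct.lift.tmul]
      rfl
    have h2 := congrArg (TensorProduct.lift β) hb
    rw [hβ, hβ, hg1, one_smul] at h2
    -- h2 : g (φ b) • φ 1 = φ b
    obtain ⟨⟨x, y⟩, hxy⟩ := IsLocalization.surj (nonZeroDivisors (A ⧸ p)) (g (φ b))
    simp only at hxy
    obtain ⟨a, ha⟩ := Ideal.Quotient.mk_surjective x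
    obtain ⟨t, ht⟩ := Ideal.Quotient.mk_surjective (y : A ⧸ p)
    have htp : t ∉ p := by
      intro htp
      have h0 : (y : A ⧸ p) = 0 := by
        rw [← ht]
        exact Ideal.Quotient.eq_zero_iff_mem.2 htp
      exact nonZeroDivisors.coe_ne_zero y h0
    have hxy' : g (φ b) * algebraMap A p.ResidueField t = algebraMap A p.ResidueField a := by
      rw [IsScalarTower.algebraMap_apply A (A ⧸ p) p.ResidueField t,
        IsScalarTower.algebraMap_apply A (A ⧸ p) p.ResidueField a, Ideal.Quotient.algebraMap_eq,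
        ht, ha]
      exact hxy
    have h3 : φ (t • b - a • (1 : C)) = 0 := by
      rw [map_sub, map_smul, map_smul, ← h2, ← algebraMap_smul p.ResidueField t,
        ← algebraMap_smul p.ResidueField a, smul_smul, mul_comm, hxy', sub_self]
    obtain ⟨s, hs, hmem⟩ := exists_smul_mem_of_tmul_eq_zero p (t • b - a • (1 : C))
      (by rw [← hφ]; exact h3)
    refine ⟨s * t, ?_, s * a, ?_⟩
    · intro hst
      rcases (Ideal.IsPrime.mem_or_mem ‹p.IsPrime› hst) with h | h
      · exact hs h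
      · exact htp h
    · have h4 : (s * t) • b - (s * a) • (1 : C) = s • (t • b - a • (1 : C)) := by
        rw [smul_sub, smul_smul, smul_smul]
      rw [h4]
      exact hmem

/-- For a minimal prime `p` of `J` in a Noetherian ring, `s p^N ⊆ J` for some `s ∉ p`. -/
theorem exists_mul_pow_le {A : Type u} [CommRing A] [IsNoetherianRing A] (J p : Ideal A)
    (hp : p ∈ J.minimalPrimes) :
    ∃ (N : ℕ) (s : A), s ∉ p ∧ ∀ x ∈ p ^ N, s * x ∈ J := by
  classical
  haveI : p.IsPrime := hp.1.1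
  obtain ⟨n, hn⟩ := Ideal.exists_radical_pow_le_of_fg J (IsNoetherian.noetherian _)
  set S := (Ideal.finite_minimalPrimes_of_isNoetherianRing A J).toFinset with hS
  have hpS : p ∈ S := by rw [hS, Set.Finite.mem_toFinset]; exact hp
  have hprod : S.prod id ≤ J.radical := by
    rw [← Ideal.sInf_minimalPrimes]
    refine le_sInf (fun q hq => ?_)
    have hqS : q ∈ S := by rw [hS, Set.Finite.mem_toFinset]; exact hq
    exact Ideal.prod_le_inf.trans (Finset.inf_le hqS)
  have hP' : ¬ (S.erase p).prod id ≤ p := by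
    intro hle
    obtain ⟨q, hq, hqp⟩ := (Ideal.IsPrime.prod_le ‹p.IsPrime›).1 hle
    have hqS : q ∈ J.minimalPrimes := by
      have := Finset.mem_of_mem_erase hq
      rwa [hS, Set.Finite.mem_toFinset] at this
    have hpq : p ≤ q := hp.2 hqS.1 hqp
    exact (Finset.ne_of_mem_erase hq) (le_antisymm hqp hpq)
  have hP'n : ¬ ((S.erase p).prod id) ^ n ≤ p := fun hle => hP' (Ideal.IsPrime.le_of_pow_le hle)
  obtain ⟨s, hs, hsp⟩ := SetLike.not_le_iff_exists.1 hP'n
  refine ⟨n, s, hsp, fun x hx => ?_⟩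
  have h1 : s * x ∈ ((S.erase p).prod id) ^ n * p ^ n := Ideal.mul_mem_mul hs hx
  rw [← mul_pow] at h1
  have h2 : (S.erase p).prod id * p = S.prod id := Finset.prod_erase_mul S id hpS
  rw [h2] at h1
  exact hn (Ideal.pow_right_mono hprod n h1)

/-- Uniform version of a pointwise torsion statement for a finitely generated submodule. -/
theorem exists_uniform {A : Type u} [CommRing A] (p : Ideal A) [p.IsPrime]
    {Q : Type u} [AddCommGroup Q] [Module A Q] (Q₁ T : Submodule A Q) (hfg : Q₁.FG)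
    (h : ∀ q ∈ Q₁, ∃ s : A, s ∉ p ∧ s • q ∈ T) :
    ∃ s : A, s ∉ p ∧ ∀ q ∈ Q₁, s • q ∈ T := by
  classical
  obtain ⟨G, hG⟩ := hfg
  have hGQ : ∀ g ∈ G, g ∈ Q₁ := fun g hg => hG ▸ Submodule.subset_span (Finset.mem_coe.2 hg)
  choose! σ hσ using h
  refine ⟨G.prod σ, ?_, fun q hq => ?_⟩
  · intro hmem
    obtain ⟨g, hg, hgp⟩ := (Ideal.IsPrime.prod_mem_iff).1 hmem
    exact (hσ g (hGQ g hg)).1 hgp
  · have hle : Q₁ ≤ Submodule.comap ((G.prod σ) • (LinearMap.id : Q →ₗ[A] Q)) T := by
      rw [← hG, Submodule.span_le]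
      intro g hg
      rw [SetLike.mem_coe, Submodule.mem_comap, LinearMap.smul_apply, LinearMap.id_apply]
      obtain ⟨r, hr⟩ := Finset.dvd_prod_of_mem σ (Finset.mem_coe.1 hg)
      rw [hr, mul_comm, mul_smul]
      exact T.smul_mem _ (hσ g (hGQ g (Finset.mem_coe.1 hg))).2
    have := hle hq
    rwa [Submodule.mem_comap, LinearMap.smul_apply, LinearMap.id_apply] at this

/-- Iterating the local containment. -/
theorem exists_iterate {A : Type u} [CommRing A] (p : Ideal A) [p.IsPrime]
    {Q : Type u} [AddCommGroup Q] [Module A Q] [IsNoetherian A Q] (Qs : ℕ → Submodule A Q)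
    (h : ∀ i, ∀ q ∈ Qs (i + 1), ∃ s : A, s ∉ p ∧ s • q ∈ p • Qs i) (j : ℕ) :
    ∀ N : ℕ, ∃ s : A, s ∉ p ∧ ∀ q ∈ Qs (j + N), s • q ∈ p ^ N • Qs j := by
  intro N
  induction N with
  | zero =>
    refine ⟨1, fun h1 => (Ideal.IsPrime.ne_top ‹p.IsPrime›) ((Ideal.eq_top_iff_one p).2 h1),
      fun q hq => ?_⟩
    rw [one_smul, pow_zero, Ideal.one_eq_top, Submodule.top_smul]
    exact hq
  | succ N ih =>
    obtain ⟨s₁, hs₁, h1⟩ := ih
    obtain ⟨s₂, hs₂, h2⟩ := exists_uniform p (Qs (j + N + 1)) (p • Qs (j + N))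
      (IsNoetherian.noetherian _) (h (j + N))
    refine ⟨s₁ * s₂, ?_, fun q hq => ?_⟩
    · intro hmem
      rcases Ideal.IsPrime.mem_or_mem ‹p.IsPrime› hmem with h | h
      · exact hs₁ h
      · exact hs₂ h
    · have h3 : s₂ • q ∈ p • Qs (j + N) := h2 q hq
      have hpow : p ^ (N + 1) • Qs j = p • (p ^ N • Qs j) := by rw [pow_succ', mul_smul]
      rw [mul_smul, hpow]
      refine Submodule.smul_induction_on h3 (fun a ha q' hq' => ?_) (fun x y hx hy => ?_)
      · rw [smul_comm s₁ a q']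
        exact Submodule.smul_mem_smul ha (h1 q' hq')
      · rw [smul_add]
        exact Submodule.add_mem _ hx hy

/-- Let A be a Noetherian ring and B a finite A-algebra with A → B injective (a finite schematically
dominant morphism Spec B → Spec A). Define subalgebras B_0 = B and B_{i+1} = the equalizer of the
two maps B_i ⇉ B_i ⊗_A B_i, b ↦ b ⊗ 1, 1 ⊗ b. Then B_m = A (the image of A) for some m; equivalently
Spec B → Spec A factors as a finite chain of finite morphisms Spec B_i → Spec B_{i+1} each of which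
is an effective epimorphism (B_{i+1} is the equalizer of B_i ⇉ B_i ⊗_{B_{i+1}} B_i). The sequence is
given here as any family C of subalgebras satisfying the recursion. (The published statement is for
a finite morphism X → Y of schemes with Y Noetherian and O_Y → f_*O_X injective; this row is the
affine case.) -/
theorem result (A B : Type u) [CommRing A] [CommRing B] [Algebra A B]
    [IsNoetherianRing A] [Module.Finite A B] (hinj : Function.Injective (algebraMap A B))
    (C : ℕ → Subalgebra A B) (h0 : C 0 = ⊤)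
    (hstep : ∀ (i : ℕ) (b : B), b ∈ C (i + 1) ↔ ∃ hb : b ∈ C i,
      ((⟨b, hb⟩ : C i) ⊗ₜ[A] (1 : C i) : C i ⊗[A] C i) = (1 : C i) ⊗ₜ[A] (⟨b, hb⟩ : C i)) :
    ∃ m : ℕ, C m = ⊥ := by
  classical
  haveI : IsNoetherian A B := isNoetherian_of_isNoetherianRing_of_finite A B
  -- the quotient module `B / A`
  let A1 : Submodule A B := (⊥ : Subalgebra A B).toSubmodule
  let π : B →ₗ[A] (B ⧸ A1) := A1.mkQ
  let Qs : ℕ → Submodule A (B ⧸ A1) := fun i => Submodule.map π (C i).toSubmodule
  have hanti : ∀ i, C (i + 1) ≤ C i := fun i b hb => ((hstep i b).1 hb).1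
  have hQanti : ∀ i, Qs (i + 1) ≤ Qs i := fun i => Submodule.map_mono (hanti i)
  -- the annihilators increase
  let I : ℕ →o Ideal A :=
    ⟨fun i => (Qs i).annihilator, monotone_nat_of_le_succ
      (fun i => Submodule.annihilator_mono (hQanti i))⟩
  obtain ⟨i₀, hi₀⟩ := monotone_stabilizes_iff_noetherian.2 (inferInstance : IsNoetherian A A) I
  have hI : ∀ i, I i = (Qs i).annihilator := fun i => rfl
  -- it suffices that the stable annihilator is `⊤`
  suffices htop : (Qs i₀).annihilator = ⊤ by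
    refine ⟨i₀, le_antisymm (fun b hb => ?_) bot_le⟩
    have h1 : (1 : A) ∈ (Qs i₀).annihilator := by rw [htop]; trivial
    have h2 := (Submodule.mem_annihilator.1 h1) (π b) (Submodule.mem_map_of_mem hb)
    rw [one_smul] at h2
    have h3 : b ∈ A1 := (Submodule.Quotient.mk_eq_zero A1).1 h2
    exact h3
  by_contra hne
  obtain ⟨⟨p, hp⟩⟩ := Ideal.nonempty_minimalPrimes hne
  haveI : p.IsPrime := hp.1.1
  -- local containment
  have hloc : ∀ i, ∀ q ∈ Qs (i + 1), ∃ s : A, s ∉ p ∧ s • q ∈ p • Qs i := by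
    intro i q hq
    obtain ⟨b, hb, rfl⟩ := hq
    obtain ⟨hbi, heq⟩ := (hstep i b).1 hb
    obtain ⟨s, hs, a, hmem⟩ := equalizer_local p (⟨b, hbi⟩ : C i) heq
    refine ⟨s, hs, ?_⟩
    -- push `hmem` to `B` then to the quotient
    have h1 := Submodule.mem_map_of_mem (f := π ∘ₗ (C i).val.toLinearMap) hmem
    rw [Submodule.map_smul'', Submodule.map_comp, Submodule.map_top] at h1
    have h2 : LinearMap.range (C i).val.toLinearMap = (C i).toSubmodule := by
      ext x
      constructor
      · rintro ⟨y, rfl⟩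
        exact y.2
      · intro hx
        exact ⟨⟨x, hx⟩, rfl⟩
    rw [h2] at h1
    have h3 : (π ∘ₗ (C i).val.toLinearMap) (s • (⟨b, hbi⟩ : C i) - a • (1 : C i)) = s • π b := by
      rw [map_sub, map_smul, map_smul, LinearMap.comp_apply, LinearMap.comp_apply]
      have h4 : π ((C i).val.toLinearMap (1 : C i)) = 0 := by
        refine (Submodule.Quotient.mk_eq_zero A1).2 ?_
        exact (⊥ : Subalgebra A B).one_mem
      rw [h4, smul_zero, sub_zero]
      rfl
    rw [h3] at h1
    exact h1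
  obtain ⟨N, s₁, hs₁, h1⟩ := exists_mul_pow_le _ p hp
  obtain ⟨s₂, hs₂, h2⟩ := exists_iterate p Qs hloc i₀ N
  have hmem : s₁ * s₂ ∈ (Qs (i₀ + N)).annihilator := by
    rw [Submodule.mem_annihilator]
    intro q hq
    rw [mul_smul]
    refine Submodule.smul_induction_on (h2 q hq) (fun x hx q' hq' => ?_) (fun x y hx hy => ?_)
    · rw [smul_smul]
      exact (Submodule.mem_annihilator.1 (h1 x hx)) q' hq'
    · rw [smul_add, hx, hy, add_zero]
  have hstab : (Qs (i₀ + N)).annihilator = (Qs i₀).annihilator := by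
    rw [← hI, ← hI]
    exact (hi₀ (i₀ + N) (Nat.le_add_right _ _)).symm
  rw [hstab] at hmem
  rcases Ideal.IsPrime.mem_or_mem ‹p.IsPrime› (hp.1.2 hmem) with h | h
  · exact hs₁ h
  · exact hs₂ h

end Groth.Agent.S5663
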