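import Groth.Statements.S5665
import Mathlib

set_option autoImplicit false
universe u
open CategoryTheory
open Dual

namespace Groth.Agent.S5665


open CategoryTheory Pointwise

section extkoszul
universe w
variable {A : Type w} [CommRing A]

/-- `Ext` is invariant under isomorphisms in the first variable (linear version). -/
noncomputable def extCongrLeft {X X' : ModuleCat.{w} A} (e : X ≅ X') (M : ModuleCat.{w} A) (n : ℕ) :
    Abelian.Ext X' M n ≃ₗ[A] Abelian.Ext X M n where
  toFun y := (Abelian.Ext.mk₀ e.hom).comp y (zero_add n)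
  invFun y := (Abelian.Ext.mk₀ e.inv).comp y (zero_add n)
  map_add' y z := Abelian.Ext.comp_add _ _ _ _
  map_smul' a y := by simp
  left_inv y := by
    show (Abelian.Ext.mk₀ e.inv).comp ((Abelian.Ext.mk₀ e.hom).comp y (zero_add n)) (zero_add n) = y
    rw [Abelian.Ext.mk₀_comp_mk₀_assoc, e.inv_hom_id, Abelian.Ext.mk₀_id_comp]
  right_inv y := by
    show (Abelian.Ext.mk₀ e.hom).comp ((Abelian.Ext.mk₀ e.inv).comp y (zero_add n)) (zero_add n) = y
    rw [Abelian.Ext.mk₀_comp_mk₀_assoc, e.hom_inv_id, Abelian.Ext.mk₀_id_comp]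

/-- a linear equivalence induces an equivalence on the quotients by `I • ⊤` -/
noncomputable def quotSMulTopCongr {E E' : Type*} [AddCommGroup E] [Module A E] [AddCommGroup E']
    [Module A E'] (f : E ≃ₗ[A] E') (I : Ideal A) :
    (E ⧸ (I • ⊤ : Submodule A E)) ≃ₗ[A] (E' ⧸ (I • ⊤ : Submodule A E')) :=
  Submodule.Quotient.equiv _ _ f
    (by rw [Submodule.map_smul'', Submodule.map_top, LinearEquiv.range])

section step
variable (N M : ModuleCat.{w} A) (x : A) (hx : IsSMulRegular N x) (d : ℕ)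

/-- the connecting homomorphism as a linear map -/
noncomputable def δ : Abelian.Ext N M d →ₗ[A]
    Abelian.Ext (ModuleCat.of A (QuotSMulTop x N)) M (d + 1) where
  toFun e := hx.smulShortComplex_shortExact.extClass.comp e (add_comm 1 d)
  map_add' a b := Abelian.Ext.comp_add _ _ _ _
  map_smul' a e := by
    rw [RingHom.id_apply]
    exact Abelian.Ext.comp_smul _ _ _ _

include hx in
lemma δ_surjective (hvan : Subsingleton (Abelian.Ext N M (d + 1))) :
    Function.Surjective (δ N M x hx d) := by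
  intro x₃
  have h0 : (Abelian.Ext.mk₀ (N.smulShortComplex x).g).comp x₃ (zero_add (d + 1)) = 0 :=
    hvan.elim _ _
  obtain ⟨x₁, hx₁⟩ := Abelian.Ext.contravariant_sequence_exact₃
    hx.smulShortComplex_shortExact M x₃ h0 (add_comm 1 d)
  exact ⟨x₁, hx₁⟩

omit hx in
lemma smul_eq_mk₀_comp' (e' : Abelian.Ext N M d) :
    x • e' = (Abelian.Ext.mk₀ (x • 𝟙 N)).comp e' (zero_add d) := by
  rw [Abelian.Ext.mk₀_smul, Abelian.Ext.smul_comp, Abelian.Ext.mk₀_id_comp]

omit hx in
lemma smul_eq_mk₀_comp (e' : Abelian.Ext N M d) :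
    x • e' = (Abelian.Ext.mk₀ (N.smulShortComplex x).f).comp e' (zero_add d) :=
  smul_eq_mk₀_comp' N M x d e'

lemma δ_ker : LinearMap.ker (δ N M x hx d) = (x • ⊤ : Submodule A (Abelian.Ext N M d)) := by
  ext e
  rw [LinearMap.mem_ker, Submodule.mem_smul_pointwise_iff_exists]
  constructor
  · intro he
    obtain ⟨x₂, hx₂⟩ := Abelian.Ext.contravariant_sequence_exact₁
      hx.smulShortComplex_shortExact M e (add_comm 1 d) he
    refine ⟨x₂, Submodule.mem_top, ?_⟩
    rw [← hx₂]
    exact smul_eq_mk₀_comp N M x d x₂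
  · rintro ⟨e', -, rfl⟩
    show hx.smulShortComplex_shortExact.extClass.comp (x • e') (add_comm 1 d) = 0
    rw [smul_eq_mk₀_comp N M x d e']
    exact ShortComplex.ShortExact.extClass_comp_assoc _ _

include hx in
lemma step_vanish (hvan : ∀ i, d < i → Subsingleton (Abelian.Ext N M i)) :
    ∀ i, d + 1 < i → Subsingleton (Abelian.Ext (ModuleCat.of A (QuotSMulTop x N)) M i) := by
  intro i hi
  obtain ⟨j, rfl⟩ : ∃ j, i = j + 1 := ⟨i - 1, by omega⟩
  have hj : d < j := by omega
  suffices h : ∀ y : Abelian.Ext (ModuleCat.of A (QuotSMulTop x N)) M (j + 1), y = 0 from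
    ⟨fun a b => by rw [h a, h b]⟩
  intro y
  have h0 : (Abelian.Ext.mk₀ (N.smulShortComplex x).g).comp y (zero_add (j + 1)) = 0 :=
    (hvan (j + 1) (by omega)).elim _ _
  obtain ⟨x₁, rfl⟩ := Abelian.Ext.contravariant_sequence_exact₃
    hx.smulShortComplex_shortExact M y h0 (add_comm 1 j)
  have hx₁ : x₁ = 0 := (hvan j hj).elim _ _
  rw [hx₁, Abelian.Ext.comp_zero]
  rfl

end step

theorem main_aux (M : ModuleCat.{w} A) (xs : List A) :
    ∀ (N : ModuleCat.{w} A) (d n : ℕ), n = d + xs.length →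
      RingTheory.Sequence.IsWeaklyRegular N xs →
      (∀ i, d < i → Subsingleton (Abelian.Ext N M i)) →
      Nonempty (Abelian.Ext (ModuleCat.of A (N ⧸ (Ideal.ofList xs • ⊤ : Submodule A N))) M n
        ≃ₗ[A] (Abelian.Ext N M d ⧸
          (Ideal.ofList xs • ⊤ : Submodule A (Abelian.Ext N M d)))) := by
  induction xs with
  | nil =>
    intro N d n hn _ _
    obtain rfl : n = d := by simpa using hn
    have hbot : (Ideal.ofList ([] : List A) • ⊤ : Submodule A N) = ⊥ := by
      rw [Ideal.ofList_nil, Submodule.bot_smul]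
    have hbot' : (Ideal.ofList ([] : List A) • ⊤ : Submodule A (Abelian.Ext N M n)) = ⊥ := by
      rw [Ideal.ofList_nil, Submodule.bot_smul]
    let e : (N ⧸ (Ideal.ofList ([] : List A) • ⊤ : Submodule A N)) ≃ₗ[A] N :=
      Submodule.quotEquivOfEqBot _ hbot
    exact ⟨(extCongrLeft e.toModuleIso.symm M n).trans
      (Submodule.quotEquivOfEqBot _ hbot').symm⟩
  | cons x xs ih =>
    intro N d n hn hreg hvan
    rw [RingTheory.Sequence.isWeaklyRegular_cons_iff] at hreg
    obtain ⟨hx, hreg'⟩ := hreg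
    have hvan' := step_vanish N M x hx d hvan
    obtain ⟨e₁⟩ := ih (ModuleCat.of A (QuotSMulTop x N)) (d + 1) n
      (by simp only [List.length_cons] at hn; omega) hreg' hvan'
    have hsurj := δ_surjective N M x hx d (hvan (d + 1) (by omega))
    let e₂ : QuotSMulTop x (Abelian.Ext N M d) ≃ₗ[A]
        Abelian.Ext (ModuleCat.of A (QuotSMulTop x N)) M (d + 1) :=
      (Submodule.quotEquivOfEq _ _ (δ_ker N M x hx d).symm).trans
        ((δ N M x hx d).quotKerEquivOfSurjective hsurj)
    let e₃ := quotSMulTopCongr e₂.symm (Ideal.ofList xs)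
    let e₄ := (Submodule.quotOfListConsSMulTopEquivQuotSMulTopInner
      (Abelian.Ext N M d) x xs).symm
    let e₀ := extCongrLeft
      (Submodule.quotOfListConsSMulTopEquivQuotSMulTopInner N x xs).toModuleIso.symm M n
    exact ⟨((e₀.trans e₁).trans e₃).trans e₄⟩

theorem final (xs : List A) (hreg : RingTheory.Sequence.IsWeaklyRegular A xs) (M : Type w)
    [AddCommGroup M] [Module A M] :
    Nonempty (Abelian.Ext (ModuleCat.of A (A ⧸ Ideal.ofList xs)) (ModuleCat.of A M) xs.length
      ≃ₗ[A] (M ⧸ (Ideal.ofList xs • (⊤ : Submodule A M)))) := by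
  have hvan : ∀ i, 0 < i →
      Subsingleton (Abelian.Ext (ModuleCat.of A A) (ModuleCat.of A M) i) := by
    intro i hi
    obtain ⟨j, rfl⟩ : ∃ j, i = j + 1 := ⟨i - 1, by omega⟩
    exact ⟨fun a b => by
      rw [Abelian.Ext.eq_zero_of_projective a, Abelian.Ext.eq_zero_of_projective b]⟩
  obtain ⟨e⟩ := main_aux (ModuleCat.of A M) xs (ModuleCat.of A A) 0 xs.length (by simp) hreg hvan
  have hJ : (Ideal.ofList xs • ⊤ : Submodule A A) = Ideal.ofList xs := by
    rw [smul_eq_mul, Ideal.mul_top]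
  let e₀ : (A ⧸ Ideal.ofList xs) ≃ₗ[A] (A ⧸ (Ideal.ofList xs • ⊤ : Submodule A A)) :=
    Submodule.quotEquivOfEq _ _ hJ.symm
  let e₁ : Abelian.Ext (ModuleCat.of A A) (ModuleCat.of A M) 0 ≃ₗ[A] M :=
    (Abelian.Ext.linearEquiv₀ (R := A)).trans
      ((ModuleCat.homLinearEquiv (S := A)).trans (LinearMap.ringLmapEquivSelf A A M))
  exact ⟨(extCongrLeft e₀.toModuleIso.symm (ModuleCat.of A M) xs.length).trans
    (e.trans (quotSMulTopCongr e₁ _))⟩

end extkoszul

/-- Let `A` be a commutative ring, `xs = (x_1, …, x_p)` a sequence in `A` such that each `x_i` is a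
non-zero-divisor on `A/(x_1, …, x_{i-1})`, `J` the ideal generated by the `x_i` and `M` any
`A`-module. Then `Ext^p_A(A/J, M)` is isomorphic, as an `A`-module, to `M/JM`. (Existence of an
`A`-linear isomorphism only; the published isomorphism is the one induced by the Koszul complex of
`xs`.) -/
theorem result (A : Type u) [CommRing A] (xs : List A) (hreg : RingTheory.Sequence.IsWeaklyRegular A xs) (M : Type u) [AddCommGroup M] [Module A M] : Nonempty (Abelian.Ext (ModuleCat.of A (A ⧸ Ideal.ofList xs)) (ModuleCat.of A M) xs.length ≃ₗ[A] (M ⧸ (Ideal.ofList xs • (⊤ : Submodule A M)))) := by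
  exact final xs hreg M

end Groth.Agent.S5665
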