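import Groth.Statements.S5670
import Mathlib
import Groth.Agent.Lib.Helper11.SteinBridge

set_option autoImplicit false
universe u
open Pi1

namespace Groth.Agent.S5670

open CategoryTheory CategoryTheory.Limits AlgebraicGeometry TopologicalSpace Opposite in
theorem isIso_snd_app_of_le {X Y Y' : Scheme.{u}} (f : X ⟶ Y) [IsNoetherian X]
    (hf : ∀ U : Y.Opens, Function.Bijective (f.app U)) (g : Y' ⟶ Y) [Flat g]
    (V : Y.Opens) (hV : IsAffineOpen V) (V' : Y'.Opens) (hV' : IsAffineOpen V')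
    (hle : V' ≤ g ⁻¹ᵁ V) :
    IsIso ((pullback.snd f g).app V') := by
  have H : IsPullback (pullback.fst f g) (pullback.snd f g) f g := IsPullback.of_hasPullback f g
  have hUY : (pullback.snd f g) ⁻¹ᵁ V' =
      (pullback.fst f g) ⁻¹ᵁ (f ⁻¹ᵁ V) ⊓ (pullback.snd f g) ⁻¹ᵁ V' := by
    apply le_antisymm
    · refine le_inf ?_ le_rfl
      intro z hz
      show f (pullback.fst f g z) ∈ V
      have h1 : f (pullback.fst f g z) = g (pullback.snd f g z) := by
        rw [← Scheme.Hom.comp_apply, ← Scheme.Hom.comp_apply, pullback.condition]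
      rw [h1]
      exact hle hz
    · exact inf_le_right
  have hcomp : IsCompact (X := X) (f ⁻¹ᵁ V : Set X) := NoetherianSpace.isCompact _
  have hqs : IsQuasiSeparated (α := X) (f ⁻¹ᵁ V : Set X) :=
    fun U W _ _ _ _ _ _ => NoetherianSpace.isCompact _
  have h1 := isIso_pushoutSection_of_isQuasiSeparated_of_flat_right H hle
    (le_refl (f ⁻¹ᵁ V)) hUY hV hV' hcomp hqs
  haveI : IsIso (f.appLE V (f ⁻¹ᵁ V) le_rfl) := by
    rw [← Scheme.Hom.app_eq_appLE]
    exact (ConcreteCategory.isIso_iff_bijective _).mpr (hf V)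
  have h2 : (pullback.snd f g).appLE V' ((pullback.snd f g) ⁻¹ᵁ V') le_rfl =
      pushout.inr _ _ ≫ pushoutSection H hle (le_refl (f ⁻¹ᵁ V)) hUY :=
    (pushout.inr_desc _ _ _).symm
  rw [Scheme.Hom.app_eq_appLE, h2]
  infer_instance

open CategoryTheory CategoryTheory.Limits AlgebraicGeometry in
/-- Let `f : X → Y` be a proper morphism of Noetherian schemes such that `O_Y → f_* O_X` is an
isomorphism (bijective on sections over every open of `Y`). Then for every connected finite étale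
`Y'` over `Y`, the base change `X ×_Y Y'` is connected; equivalently, `f` induces a surjection on
étale fundamental groups. -/
theorem result {X Y Y' : Scheme.{u}} (f : X ⟶ Y) [IsProper f] [IsNoetherian X] [IsNoetherian Y] (hf : ∀ U : Y.Opens, Function.Bijective (f.app U)) (g : Y' ⟶ Y) [IsFinite g] [Etale g] [ConnectedSpace Y'] : ConnectedSpace ↥(pullback f g) := by

  haveI : Flat g := inferInstance
  let p₂ := pullback.snd f g
  let ι := {V' : Y'.Opens // IsAffineOpen V' ∧ ∃ V : Y.Opens, IsAffineOpen V ∧ V' ≤ g ⁻¹ᵁ V}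
  let B : ι → TopologicalSpace.Opens Y' := Subtype.val
  have hB : TopologicalSpace.Opens.IsBasis (Set.range B) := by
    rw [TopologicalSpace.Opens.isBasis_iff_nbhd]
    intro W y' hy'
    obtain ⟨V, hV, hyV, -⟩ :=
      exists_isAffineOpen_mem_and_subset (x := g y') (U := ⊤) trivial
    obtain ⟨V', hV', hyV', hsub⟩ :=
      exists_isAffineOpen_mem_and_subset (x := y') (U := W ⊓ g ⁻¹ᵁ V) ⟨hy', hyV⟩
    exact ⟨V', ⟨⟨V', hV', V, hV, fun z hz => (hsub hz).2⟩, rfl⟩, hyV', fun z hz => (hsub hz).1⟩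
  let φ : Y'.sheaf ⟶ (TopCat.Sheaf.pushforward CommRingCat p₂.base).obj (pullback f g).sheaf :=
    ⟨p₂.c⟩
  haveI hφ : IsIso φ := TopCat.Sheaf.isIso_iff_isIso_basis (B := B) hB (fun i => by
    obtain ⟨V', hV', V, hV, hle⟩ := i
    exact isIso_snd_app_of_le f hf g V hV V' hV' hle)
  haveI : IsIso p₂.appTop := by
    have h1 : IsIso ((TopCat.Sheaf.forget CommRingCat Y').map φ) := inferInstance
    exact NatIso.isIso_app_of_isIso ((TopCat.Sheaf.forget CommRingCat Y').map φ) (Opposite.op ⊤)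
  let e : Γ(Y', ⊤) ≃+* Γ(pullback f g, ⊤) := (asIso p₂.appTop).commRingCatIsoToRingEquiv
  rw [Groth.Agent.Lib.Helper11.SteinBridge.connectedSpace_iff_idem]
  have hY' := (Groth.Agent.Lib.Helper11.SteinBridge.connectedSpace_iff_idem Y').mp inferInstance
  refine ⟨?_, ?_⟩
  · by_contra hne
    rw [not_nonempty_iff] at hne
    haveI : Subsingleton Γ(pullback f g, ⊤) := inferInstance
    obtain ⟨y'⟩ := hY'.1
    haveI : Nonempty (⊤ : Y'.Opens) := ⟨⟨y', trivial⟩⟩
    haveI : Nontrivial Γ(Y', ⊤) := Scheme.component_nontrivial Y' ⊤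
    exact absurd (e.injective (Subsingleton.elim (e 0) (e 1))) zero_ne_one
  · exact Groth.Agent.Lib.Helper11.SteinBridge.idem_transfer e.symm hY'.2

end Groth.Agent.S5670
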