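import Groth.Statements.S5671
import Groth.Agent.Lib.Helper26.RegularNormal
import Groth.Agent.Lib.Helper4.Ischebeck
import Groth.Agent.Lib.Helper4.CM

set_option autoImplicit false
universe u
open CategoryTheory
open Dual

namespace Groth.Agent.S5671

/-- First assertion, in the local-algebra form to which its proof reduces it: let `A` be a regular local
ring of dimension `n`, `p ≥ 0`, and `M` a finite `A`-module whose support has dimension at most `n -
p`. Then `Ext^i_A(M, A) = 0` for every `i < p`. (The geometric statement: on a nonsingular
`n`-dimensional variety the sheaves `Ext^i(F, L)` vanish for `i < p` when `F` is coherent with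
support of dimension `≤ n - p` and `L` is locally free.) -/
theorem result (A : Type u) [CommRing A] [IsRegularLocalRing A] (M : Type u) [AddCommGroup M] [Module A M] [Module.Finite A M] (p : ℕ) (hdim : Module.supportDim A M + p ≤ ringKrullDim A) (i : ℕ) (hi : i < p) : Subsingleton (Abelian.Ext (ModuleCat.of A M) (ModuleCat.of A A) i) := by
  rcases subsingleton_or_nontrivial M with hM | hM
  · exact Groth.Agent.Lib.Helper4.subsingleton_ext_of_subsingleton_left _ _ i
  · obtain ⟨r, hr⟩ := Groth.Agent.Lib.Helper4.exists_nat_supportDim (R := A) (M := M)
    obtain ⟨n, hn⟩ := Groth.Agent.Lib.Helper26.SerreReg.exists_nat_ringKrullDim A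
    have hdep := Groth.Agent.Lib.Helper26.RegularNormal.height_maximalIdeal_le_depth A
    have h2 : ((IsLocalRing.maximalIdeal A).height : WithBot ℕ∞) = ringKrullDim A :=
      IsLocalRing.maximalIdeal_height_eq_ringKrullDim
    rw [hn] at h2
    have h3 : (IsLocalRing.maximalIdeal A).height = (n : ℕ∞) := by exact_mod_cast h2
    rw [h3] at hdep
    rw [hr, hn] at hdim
    have h4 : r + p ≤ n := by exact_mod_cast hdim
    apply Groth.Agent.Lib.Helper4.ischebeck_aux A r M (by rw [hr]; rfl) i
    refine lt_of_lt_of_le ?_ hdep
    have : i + r < n := by omega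
    exact_mod_cast this

end Groth.Agent.S5671
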