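import Groth.Statements.S5672
import Groth.Agent.Lib.Helper4.ExtTop
import Groth.Agent.S5671

set_option autoImplicit false
universe u
open CategoryTheory
open Dual

namespace Groth.Agent.S5672

/-- Let `A` be a regular local ring of dimension `n`, `J` an ideal with `dim(A/J) ≤ n - p`, and `M` a
finite `A`-module with `JM = 0`. For `ξ ∈ Ext^p_A(M, A)` and an `A`-linear `u : A/J → M` write `u^*ξ
∈ Ext^p_A(A/J, A)` for the pullback. Then `ξ ↦ (u ↦ u^*ξ)` is injective, and every `A`-linear map
`Hom_A(A/J, M) → Ext^p_A(A/J, A)` is of the form `u ↦ u^*ξ` for some `ξ`. Since `Hom_A(A/J, M) = M`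
here, this says that the canonical map `Ext^p_A(M, A) → Hom_A(M, Ext^p_A(A/J, A))` is bijective. -/
theorem result (A : Type u) [CommRing A] [IsRegularLocalRing A] (p : ℕ) (J : Ideal A) (hJ : ringKrullDim (A ⧸ J) + p ≤ ringKrullDim A) (M : Type u) [AddCommGroup M] [Module A M] [Module.Finite A M] (hJM : J • (⊤ : Submodule A M) = ⊥) : Function.Injective (fun ξ : Abelian.Ext (ModuleCat.of A M) (ModuleCat.of A A) p => fun u : (A ⧸ J) →ₗ[A] M => (Abelian.Ext.mk₀ (ModuleCat.ofHom u)).comp ξ (zero_add p)) ∧ ∀ g : ((A ⧸ J) →ₗ[A] M) →ₗ[A] Abelian.Ext (ModuleCat.of A (A ⧸ J)) (ModuleCat.of A A) p, ∃ ξ : Abelian.Ext (ModuleCat.of A M) (ModuleCat.of A A) p, ∀ u : (A ⧸ J) →ₗ[A] M, g u = (Abelian.Ext.mk₀ (ModuleCat.ofHom u)).comp ξ (zero_add p) := by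
  haveI : IsNoetherianRing A := inferInstance
  have hM : ∀ a ∈ J, ∀ x : M, a • x = 0 := by
    intro a ha x
    have h1 : a • x ∈ J • (⊤ : Submodule A M) := Submodule.smul_mem_smul ha Submodule.mem_top
    rw [hJM] at h1
    exact (Submodule.mem_bot A).1 h1
  have hvan : ∀ (N : Type u) [AddCommGroup N] [Module A N] [Module.Finite A N],
      (∀ a ∈ J, ∀ x : N, a • x = 0) → ∀ i, i < p →
        Subsingleton (Abelian.Ext.{u} (ModuleCat.of A N) (ModuleCat.of A A) i) := by
    intro N _ _ _ hN i hi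
    refine Groth.Agent.S5671.result A N p ?_ i hi
    have hle : J ≤ Module.annihilator A N := by
      intro a ha
      rw [Module.mem_annihilator]
      exact hN a ha
    have h1 : Module.supportDim A N = ringKrullDim (A ⧸ Module.annihilator A N) :=
      Module.supportDim_eq_ringKrullDim_quotient_annihilator A N
    have h2 : ringKrullDim (A ⧸ Module.annihilator A N) ≤ ringKrullDim (A ⧸ J) :=
      ringKrullDim_le_of_surjective (Ideal.Quotient.factor hle)
        (Ideal.Quotient.factor_surjective hle)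
    calc Module.supportDim A N + p ≤ ringKrullDim (A ⧸ J) + p := by
          rw [h1]; exact add_le_add_left h2 _
      _ ≤ ringKrullDim A := hJ
  exact Groth.Agent.Lib.Helper4.ExtTop.main (ModuleCat.of A A) p J hvan M hM

end Groth.Agent.S5672
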