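import Groth.Statements.S5684
import Groth.Agent.Lib.Helper16.PicFF.PushInv

set_option autoImplicit false
universe u
open CategoryTheory CategoryTheory.Limits AlgebraicGeometry
open FGA

namespace Groth.Agent.S5684

/-- Let f : X ⟶ S be quasi-compact and separated with the induced maps from sections of the structure
sheaf of S to sections of the structure sheaf of X bijective over every open of S, and let g : S' ⟶
S be flat, surjective and quasi-compact. If L is an invertible module on X whose pullback to X ×_S
S' is isomorphic to the pullback along the second projection of some invertible module on S', then L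
is isomorphic to the pullback along f of some invertible module on S. -/
theorem result {X S S' : Scheme.{u}} (f : X ⟶ S)
    [QuasiCompact f] [IsSeparated f] (hf : ∀ U : S.Opens, Function.Bijective (f.app U))
    (g : S' ⟶ S) [Flat g] [Surjective g] [QuasiCompact g]
    (L : X.Modules) (hL : PicF.IsInvertible L)
    (hdesc : ∃ N' : S'.Modules, PicF.IsInvertible N' ∧
      Nonempty ((Scheme.Modules.pullback (pullback.fst f g)).obj L ≅ (Scheme.Modules.pullback (pullback.snd f g)).obj N')) :
    ∃ N : S.Modules, PicF.IsInvertible N ∧ Nonempty (L ≅ (Scheme.Modules.pullback f).obj N) := by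
  obtain ⟨N', hN', ⟨ψ⟩⟩ := hdesc
  have hT : ∀ y' : S', ∃ V'' : S'.Opens, y' ∈ V'' ∧
      ∃ t : Γ((Scheme.Modules.pullback (pullback.fst f g)).obj L, pullback.snd f g ⁻¹ᵁ V''),
        Groth.Agent.Lib.Helper3.InvGen.IsGen ((Scheme.Modules.pullback (pullback.fst f g)).obj L)
          (pullback.snd f g ⁻¹ᵁ V'') t := by
    intro y'
    obtain ⟨V'', n, hy', hn⟩ := Groth.Agent.Lib.Helper3.InvGen.exists_isGen hN' y'
    exact ⟨V'', hy', _, H16PicFF.isGen_map_iso ψ.symm
      (Groth.Agent.Lib.Helper3.PbBasic.isGen_pull (pullback.snd f g) hn)⟩
  have hM := H16PicFF.isInvertible_pushforward_of_locally_trivial_pullback f hf g L hL hT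
  haveI := H16PicFF.isIso_counit_of_locally_trivial_pullback f hf g L hL hT hM
  exact ⟨_, hM, ⟨(asIso ((Scheme.Modules.pullbackPushforwardAdjunction f).counit.app L)).symm⟩⟩

end Groth.Agent.S5684
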