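import Groth.Statements.S5690
import Groth.Agent.Lib.Helper11.GQ7e

set_option autoImplicit false
universe u
open CategoryTheory CategoryTheory.Limits AlgebraicGeometry
open FGA

namespace Groth.Agent.S5690

open Groth.Agent.Lib.Helper11.GQ7b Groth.Agent.Lib.Helper11.GQ7c Groth.Agent.Lib.Helper11.GQ7d
  Groth.Agent.Lib.Helper11.GQ7e

/-- Let (U, R, s, t, c) be a groupoid scheme over a scheme S whose source morphism s : R ⟶ U is finite
locally free (finite, flat and locally of finite presentation), and suppose every equivalence class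
t(s⁻¹(x)), x a point of U, is contained in some affine open of U. Then there are a scheme Y and a
morphism q : U ⟶ Y with s ≫ q = t ≫ q which is a coequalizer of s and t in the category of schemes,
affine, integral and surjective, whose fibres are the equivalence classes; and if (t, s) : R ⟶ U ×_S
U is a monomorphism then q is moreover finite, flat and locally of finite presentation and (t, s) :
R ⟶ U ×_Y U is an isomorphism. Only the sufficiency of the affine-class condition is stated (the
published statement is an equivalence: the quotient with these properties exists if and only if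
every class lies in an affine open). -/
theorem result {S : Scheme.{u}} (G : Grpd.GroupoidScheme S)
    [IsFinite G.s] [Flat G.s] [LocallyOfFinitePresentation G.s]
    (haff : ∀ x : ↥G.U, ∃ V : G.U.Opens, IsAffineOpen V ∧ G.t.base '' (G.s.base ⁻¹' {x}) ⊆ (V : Set ↥G.U)) :
    ∃ (Y : Scheme.{u}) (q : G.U ⟶ Y) (w : G.s ≫ q = G.t ≫ q),
      Nonempty (IsColimit (Cofork.ofπ q w)) ∧ IsAffineHom q ∧ IsIntegralHom q ∧ Surjective q ∧
      (∀ x x' : ↥G.U, q.base x = q.base x' ↔ ∃ r : ↥G.R, G.s.base r = x ∧ G.t.base r = x') ∧
      (Mono G.j → IsFinite q ∧ Flat q ∧ LocallyOfFinitePresentation q ∧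
        IsIso (pullback.lift G.t G.s w.symm : G.R ⟶ pullback q q)) := by
  haveI : HasAffOrbits G := ⟨haff⟩
  obtain ⟨hc⟩ := isColimit_p G
  have w : G.s ≫ p G = G.t ≫ p G := (t_p G).symm
  refine ⟨Y G, p G, w, ⟨?_⟩, ?_, p_isIntegralHom G, ⟨p_surjective G⟩, ?_, ?_⟩
  · exact Cofork.IsColimit.mk _ (fun c => hc.desc (Cofork.ofπ c.π c.condition.symm))
      (fun c => Cofork.IsColimit.π_desc hc)
      (fun c m hm => Cofork.IsColimit.hom_ext hc (hm.trans
        (Cofork.IsColimit.π_desc (t := Cofork.ofπ c.π c.condition.symm) hc).symm))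
  · haveI := p_isIntegralHom G
    infer_instance
  · intro x x'
    constructor
    · intro h
      obtain ⟨r, h1, h2⟩ := (p_eq_iff G x' x).mp h.symm
      exact ⟨r, h2, h1⟩
    · rintro ⟨r, h1, h2⟩
      exact ((p_eq_iff G x' x).mpr ⟨r, h2, h1⟩).symm
  · intro hmono
    haveI := hmono
    obtain ⟨f1, f2, f3⟩ := p_props G
    have hpb := isPullback_p G
    refine ⟨f1, f2, f3, ?_⟩
    have h3 : pullback.lift G.t G.s w.symm = hpb.isoPullback.hom := by
      apply pullback.hom_ext
      · rw [pullback.lift_fst, hpb.isoPullback_hom_fst]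
      · rw [pullback.lift_snd, hpb.isoPullback_hom_snd]
    rw [h3]
    infer_instance

end Groth.Agent.S5690
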