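import Groth.Statements.S5710
import Groth.Agent.Lib.Lead.RegularExists
import Groth.Agent.Lib.Lead.AzumayaLocal
import Groth.Agent.Lib.Helper8.MonogenicUnram
import Groth.Agent.Lib.Helper8.FiniteEtaleLift
import Groth.Agent.S19588

set_option autoImplicit false
universe u v
open TensorProduct
open Dix

namespace Groth.Agent.S5710

/-- Over a local base where the open neighbourhood is the whole scheme. Let R be a local ring with
residue field k and A an Azumaya algebra over R whose rank as a (free) R-module is r². Then A has a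
maximal étale subalgebra: there are a commutative R-algebra E, finite étale and free of rank r over
R, and an R-algebra homomorphism u : E → A which is injective on the special fibre, k ⊗_R E → k ⊗_R
A. -/
theorem result (R : Type u) [CommRing R] [IsLocalRing R] (A : Type u) [Ring A] [Algebra R A] [IsAzumaya R A] (r : ℕ) (hA : Module.finrank R A = r ^ 2) : ∃ (E : Type u) (_ : CommRing E) (_ : Algebra R E), Algebra.Etale R E ∧ Module.Finite R E ∧ Module.Free R E ∧ Module.finrank R E = r ∧ ∃ u : E →ₐ[R] A, Function.Injective (u.toLinearMap.lTensor (IsLocalRing.ResidueField R)) := by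
  classical
  haveI : Module.Free R A := Module.free_of_flat_of_isLocalRing
  haveI : IsAzumaya (IsLocalRing.ResidueField R) (IsLocalRing.ResidueField R ⊗[R] A) :=
    Groth.Agent.S19588.result R (IsLocalRing.ResidueField R) A
  haveI : Nontrivial (IsLocalRing.ResidueField R ⊗[R] A) := by
    by_contra hn
    rw [not_nontrivial_iff_subsingleton] at hn
    have h1 : (1 : IsLocalRing.ResidueField R) = 0 :=
      eq_of_smul_eq_smul (α := IsLocalRing.ResidueField R ⊗[R] A)
        (fun x => Subsingleton.elim _ _)
    exact one_ne_zero h1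
  obtain ⟨hcen, hsim⟩ := Groth.Agent.Lib.Lead.AzumayaLocal.csa_of_bijective
    (IsAzumaya.bij (R := IsLocalRing.ResidueField R) (A := IsLocalRing.ResidueField R ⊗[R] A))
  haveI := hcen
  haveI := hsim
  have hB : Module.finrank (IsLocalRing.ResidueField R) (IsLocalRing.ResidueField R ⊗[R] A) =
      r ^ 2 := by
    rw [Module.finrank_baseChange, hA]
  obtain ⟨xbar, hsepx, hdeg⟩ := Groth.Agent.Lib.Lead.RegularExists.exists_regular
    (k := IsLocalRing.ResidueField R) (B := IsLocalRing.ResidueField R ⊗[R] A) r hB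
  obtain ⟨ξ, rfl⟩ := TensorProduct.mk_surjective R A (IsLocalRing.ResidueField R)
    IsLocalRing.residue_surjective xbar
  rw [TensorProduct.mk_apply] at hsepx hdeg
  have hlin : LinearIndependent (IsLocalRing.ResidueField R)
      (fun i : Fin r => ((1 : IsLocalRing.ResidueField R) ⊗ₜ[R] ξ :
        IsLocalRing.ResidueField R ⊗[R] A) ^ (i : ℕ)) :=
    hdeg ▸ linearIndependent_pow (K := IsLocalRing.ResidueField R)
      ((1 : IsLocalRing.ResidueField R) ⊗ₜ[R] ξ : IsLocalRing.ResidueField R ⊗[R] A)
  obtain ⟨h1, h2⟩ := Groth.Agent.Lib.Lead.RegularElt.local_centralizer R A r ξ hlin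
    (fun c hc => Groth.Agent.Lib.Lead.RegularElt.mem_span_of_commute r hB _ hsepx hdeg c hc)
  obtain ⟨c, hc⟩ := (Submodule.mem_span_range_iff_exists_fun R).1
    (h2 (ξ ^ r) (by rw [← pow_succ', ← pow_succ]))
  -- the polynomial
  have hlt : (∑ i : Fin r, Polynomial.C (c i) * (Polynomial.X : Polynomial R) ^ (i : ℕ)).degree <
      (r : WithBot ℕ) := Polynomial.degree_sum_fin_lt c
  obtain ⟨P, hPdef⟩ : ∃ P : Polynomial R, P = Polynomial.X ^ r -
      ∑ i : Fin r, Polynomial.C (c i) * (Polynomial.X : Polynomial R) ^ (i : ℕ) := ⟨_, rfl⟩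
  have hPmonic : P.Monic := by rw [hPdef]; exact Polynomial.monic_X_pow_sub hlt
  have hPdeg : P.natDegree = r := by
    rw [hPdef]
    exact Polynomial.natDegree_eq_of_degree_eq_some
      ((Polynomial.degree_sub_eq_left_of_degree_lt (by rwa [Polynomial.degree_X_pow])).trans
        (Polynomial.degree_X_pow r))
  have hPξ : Polynomial.aeval ξ P = 0 := by
    rw [hPdef, map_sub, map_pow, Polynomial.aeval_X, map_sum, ← hc, sub_eq_zero]
    refine Finset.sum_congr rfl fun i _ => ?_
    rw [map_mul, Polynomial.aeval_C, map_pow, Polynomial.aeval_X, Algebra.smul_def]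
  have hPbar : Polynomial.aeval ((1 : IsLocalRing.ResidueField R) ⊗ₜ[R] ξ :
      IsLocalRing.ResidueField R ⊗[R] A)
      (P.map (algebraMap R (IsLocalRing.ResidueField R))) = 0 := by
    rw [Polynomial.aeval_map_algebraMap]
    have h3 := Polynomial.aeval_algHom_apply
      (Algebra.TensorProduct.includeRight : A →ₐ[R] IsLocalRing.ResidueField R ⊗[R] A) ξ P
    rw [Algebra.TensorProduct.includeRight_apply] at h3
    rw [h3, hPξ, map_zero]
  have hxint : IsIntegral (IsLocalRing.ResidueField R)
      ((1 : IsLocalRing.ResidueField R) ⊗ₜ[R] ξ : IsLocalRing.ResidueField R ⊗[R] A) :=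
    Algebra.IsIntegral.isIntegral _
  have hPmap : P.map (algebraMap R (IsLocalRing.ResidueField R)) =
      minpoly (IsLocalRing.ResidueField R)
        ((1 : IsLocalRing.ResidueField R) ⊗ₜ[R] ξ : IsLocalRing.ResidueField R ⊗[R] A) :=
    Polynomial.eq_of_monic_of_dvd_of_natDegree_le (minpoly.monic hxint) (hPmonic.map _)
      (minpoly.dvd _ _ hPbar) (by rw [hPmonic.natDegree_map, hPdeg, hdeg])
  have hPsep : P.Separable := by
    obtain ⟨c', d', hcd⟩ := Groth.Agent.Lib.Helper8.separable_of_map_residue_separable P hPmonic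
      (by
        have : IsLocalRing.residue R = algebraMap R (IsLocalRing.ResidueField R) := rfl
        rw [this, hPmap]
        exact hsepx)
    exact ⟨d', c', by linear_combination hcd⟩
  haveI hEt : Algebra.Etale R (Polynomial R ⧸ Ideal.span {P}) :=
    Groth.Agent.Lib.Helper8.MonogenicUnram.etale_quotient_of_separable P hPmonic hPsep
  obtain ⟨hfree, hfin, hrank⟩ := Groth.Agent.Lib.Helper8.MonogenicUnram.finrank_quotient_of_monic P hPmonic
  refine ⟨Polynomial R ⧸ Ideal.span {P}, inferInstance, inferInstance, hEt, hfin, hfree,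
    by rw [hrank, hPdeg], ?_⟩
  have hkill : ∀ a : Polynomial R, a ∈ Ideal.span {P} → Polynomial.aeval ξ a = 0 := by
    intro a ha
    obtain ⟨q, rfl⟩ := Ideal.mem_span_singleton.1 ha
    rw [map_mul, hPξ, zero_mul]
  refine ⟨Ideal.Quotient.liftₐ (Ideal.span {P}) (Polynomial.aeval ξ) hkill, ?_⟩
  -- injectivity on the special fibre
  have hu : ∀ q : Polynomial R, Ideal.Quotient.liftₐ (Ideal.span {P}) (Polynomial.aeval ξ) hkill
      (Ideal.Quotient.mk (Ideal.span {P}) q) = Polynomial.aeval ξ q := fun q => rfl
  -- every element of the quotient is a combination of the first r powers of the root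
  have hgen : ∀ w : Polynomial R ⧸ Ideal.span {P}, ∃ d : Fin r → R,
      w = ∑ i : Fin r, d i • (Ideal.Quotient.mk (Ideal.span {P}) Polynomial.X) ^ (i : ℕ) := by
    intro w
    obtain ⟨q, rfl⟩ := Ideal.Quotient.mk_surjective w
    have hq : Ideal.Quotient.mk (Ideal.span {P}) q =
        Ideal.Quotient.mk (Ideal.span {P}) (q %ₘ P) := by
      rw [Ideal.Quotient.eq, Ideal.mem_span_singleton]
      refine ⟨q /ₘ P, ?_⟩
      have := Polynomial.modByMonic_add_div q P
      linear_combination -this
    have hdegq : (q %ₘ P).natDegree < r := by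
      rcases Nat.eq_zero_or_pos r with hr0 | hr0
      · exfalso
        have hP1 : P = 1 := by
          rw [← hPmonic.natDegree_eq_zero]
          rw [hPdeg, hr0]
        have : (minpoly (IsLocalRing.ResidueField R)
            ((1 : IsLocalRing.ResidueField R) ⊗ₜ[R] ξ :
              IsLocalRing.ResidueField R ⊗[R] A)) = 1 := by
          rw [← hPmap, hP1, Polynomial.map_one]
        exact minpoly.ne_one _ _ this
      · rw [← hPdeg]
        exact Polynomial.natDegree_modByMonic_lt q hPmonic (by
          intro h1'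
          rw [h1', Polynomial.natDegree_one] at hPdeg
          omega)
    refine ⟨fun i => (q %ₘ P).coeff i, ?_⟩
    rw [hq]
    conv_lhs => rw [Polynomial.as_sum_range' (q %ₘ P) r hdegq]
    rw [map_sum, Fin.sum_univ_eq_sum_range
      (fun i => (q %ₘ P).coeff i • (Ideal.Quotient.mk (Ideal.span {P}) Polynomial.X) ^ i) r]
    refine Finset.sum_congr rfl fun i _ => ?_
    rw [← Polynomial.C_mul_X_pow_eq_monomial, ← Polynomial.smul_eq_C_mul,
      ← Ideal.Quotient.mkₐ_eq_mk R, map_smul, map_pow]
  rw [injective_iff_map_eq_zero]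
  intro z hz
  obtain ⟨w, rfl⟩ := TensorProduct.mk_surjective R (Polynomial R ⧸ Ideal.span {P})
    (IsLocalRing.ResidueField R) IsLocalRing.residue_surjective z
  rw [TensorProduct.mk_apply] at hz ⊢
  obtain ⟨d, rfl⟩ := hgen w
  rw [LinearMap.lTensor_tmul, AlgHom.toLinearMap_apply, map_sum] at hz
  have hz' : ∑ i : Fin r, algebraMap R (IsLocalRing.ResidueField R) (d i) •
      ((1 : IsLocalRing.ResidueField R) ⊗ₜ[R] ξ : IsLocalRing.ResidueField R ⊗[R] A) ^ (i : ℕ) =
      0 := by
    rw [← hz, TensorProduct.tmul_sum]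
    refine Finset.sum_congr rfl fun i _ => ?_
    rw [map_smul, map_pow, hu, Polynomial.aeval_X, Algebra.TensorProduct.tmul_pow, one_pow,
      TensorProduct.tmul_smul, algebraMap_smul]
  have hd0 := Fintype.linearIndependent_iff.1 hlin
    (fun i => algebraMap R (IsLocalRing.ResidueField R) (d i)) hz'
  rw [TensorProduct.tmul_sum]
  refine Finset.sum_eq_zero fun i _ => ?_
  rw [TensorProduct.tmul_smul, ← algebraMap_smul (IsLocalRing.ResidueField R) (d i), hd0 i,
    zero_smul]


end Groth.Agent.S5710
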