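import Groth.Statements.S5713
import Groth.Agent.Lib.Lead.RegularElt
import Groth.Agent.Lib.Lead.AzumayaLocal
import Groth.Agent.S19588

set_option autoImplicit false
universe u v
open TensorProduct
open Dix

namespace Groth.Agent.S5713

/-- Over a local base. Let R be a local ring with residue field k, A an Azumaya algebra over R of rank
r², and ξ ∈ A an element whose image ξ̄ = 1 ⊗ ξ in k ⊗_R A is regular, i.e. generates a commutative
subalgebra k[ξ̄] which is étale over k (all elements separable) of dimension r. Then the powers 1,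
ξ, …, ξ^{r-1} are linearly independent over R and ξ^r lies in their R-linear span; thus R[ξ] is a
free R-module of rank r closed under multiplication, and ξ is a regular section over all of Spec R. -/
theorem result (R : Type u) [CommRing R] [IsLocalRing R] (A : Type u) [Ring A] [Algebra R A] [IsAzumaya R A] (r : ℕ) (hA : Module.finrank R A = r ^ 2) (ξ : A) (hsep : Algebra.IsSeparable (IsLocalRing.ResidueField R) (Algebra.adjoin (IsLocalRing.ResidueField R) ({(1 : IsLocalRing.ResidueField R) ⊗ₜ[R] ξ} : Set (IsLocalRing.ResidueField R ⊗[R] A)))) (hrk : Module.finrank (IsLocalRing.ResidueField R) (Algebra.adjoin (IsLocalRing.ResidueField R) ({(1 : IsLocalRing.ResidueField R) ⊗ₜ[R] ξ} : Set (IsLocalRing.ResidueField R ⊗[R] A))) = r) : LinearIndependent R (fun i : Fin r => ξ ^ (i : ℕ)) ∧ ξ ^ r ∈ Submodule.span R (Set.range (fun i : Fin r => ξ ^ (i : ℕ))) := by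
  haveI : Module.Free R A := Module.free_of_flat_of_isLocalRing
  haveI : IsAzumaya (IsLocalRing.ResidueField R) (IsLocalRing.ResidueField R ⊗[R] A) :=
    Groth.Agent.S19588.result R (IsLocalRing.ResidueField R) A
  haveI : Nontrivial (IsLocalRing.ResidueField R ⊗[R] A) := by
    by_contra hn
    rw [not_nontrivial_iff_subsingleton] at hn
    have h1 : (1 : IsLocalRing.ResidueField R) = 0 :=
      eq_of_smul_eq_smul (α := IsLocalRing.ResidueField R ⊗[R] A)
        (fun x => Subsingleton.elim _ _)
    exact one_ne_zero h1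
  obtain ⟨hc, hs⟩ := Groth.Agent.Lib.Lead.AzumayaLocal.csa_of_bijective
    (IsAzumaya.bij (R := IsLocalRing.ResidueField R) (A := IsLocalRing.ResidueField R ⊗[R] A))
  haveI := hc
  haveI := hs
  have hB : Module.finrank (IsLocalRing.ResidueField R) (IsLocalRing.ResidueField R ⊗[R] A) =
      r ^ 2 := by
    rw [Module.finrank_baseChange, hA]
  have hdeg : (minpoly (IsLocalRing.ResidueField R)
      ((1 : IsLocalRing.ResidueField R) ⊗ₜ[R] ξ)).natDegree = r := by
    rw [← Groth.Agent.Lib.Lead.RegularElt.finrank_adjoin_eq_natDegree, hrk]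
  have hsepx : (minpoly (IsLocalRing.ResidueField R)
      ((1 : IsLocalRing.ResidueField R) ⊗ₜ[R] ξ)).Separable := by
    have h1 : (minpoly (IsLocalRing.ResidueField R)
        (⟨(1 : IsLocalRing.ResidueField R) ⊗ₜ[R] ξ,
          Algebra.subset_adjoin (Set.mem_singleton _)⟩ :
          Algebra.adjoin (IsLocalRing.ResidueField R)
            ({(1 : IsLocalRing.ResidueField R) ⊗ₜ[R] ξ} :
              Set (IsLocalRing.ResidueField R ⊗[R] A)))).Separable :=
      Algebra.IsSeparable.isSeparable (IsLocalRing.ResidueField R) _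
    have h2 := minpoly.algHom_eq (Algebra.adjoin (IsLocalRing.ResidueField R)
      ({(1 : IsLocalRing.ResidueField R) ⊗ₜ[R] ξ} :
        Set (IsLocalRing.ResidueField R ⊗[R] A))).val Subtype.val_injective
      ⟨(1 : IsLocalRing.ResidueField R) ⊗ₜ[R] ξ, Algebra.subset_adjoin (Set.mem_singleton _)⟩
    rw [← h2] at h1
    exact h1
  have hlin : LinearIndependent (IsLocalRing.ResidueField R)
      (fun i : Fin r => ((1 : IsLocalRing.ResidueField R) ⊗ₜ[R] ξ :
        IsLocalRing.ResidueField R ⊗[R] A) ^ (i : ℕ)) :=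
    hdeg ▸ linearIndependent_pow (K := IsLocalRing.ResidueField R)
      ((1 : IsLocalRing.ResidueField R) ⊗ₜ[R] ξ : IsLocalRing.ResidueField R ⊗[R] A)
  obtain ⟨h1, h2⟩ := Groth.Agent.Lib.Lead.RegularElt.local_centralizer R A r ξ hlin
    (fun c hc => Groth.Agent.Lib.Lead.RegularElt.mem_span_of_commute r hB _ hsepx hdeg c hc)
  exact ⟨h1, h2 _ (by rw [← pow_succ', ← pow_succ])⟩


end Groth.Agent.S5713
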