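import Groth.Statements.S5719
import Groth.Agent.S19588
import Groth.Agent.Lib.Lead.AzumayaFibre
import Groth.Agent.Lib.Lead.AzumayaLocal

set_option autoImplicit false
universe u v
open TensorProduct
open Dix

namespace Groth.Agent.S5719

/-- (i) ⇔ (ii), over an affine base. Let R be a commutative ring and A an R-algebra whose underlying
module is finite and projective (locally free of finite type). Then A ⊗_R A° → End_R(A) is bijective
with A faithful, i.e. A is an Azumaya algebra over R, if and only if every fibre κ(p) ⊗_R A, p a
prime ideal of R, is a central simple algebra over the residue field κ(p). -/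
theorem result (R : Type u) [CommRing R] (A : Type u) [Ring A] [Algebra R A] [Module.Finite R A] [Module.Projective R A] : IsAzumaya R A ↔ ∀ (p : Ideal R) [p.IsPrime], Algebra.IsCentral p.ResidueField (p.ResidueField ⊗[R] A) ∧ IsSimpleRing (p.ResidueField ⊗[R] A) := by
  constructor
  · intro hA p _
    haveI := hA
    haveI : IsAzumaya p.ResidueField (p.ResidueField ⊗[R] A) :=
      Groth.Agent.S19588.result R p.ResidueField A
    haveI : Nontrivial (p.ResidueField ⊗[R] A) := by
      by_contra hn
      rw [not_nontrivial_iff_subsingleton] at hn
      have h1 : (1 : p.ResidueField) = 0 :=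
        eq_of_smul_eq_smul (α := p.ResidueField ⊗[R] A) (fun x => Subsingleton.elim _ _)
      exact one_ne_zero h1
    exact Groth.Agent.Lib.Lead.AzumayaLocal.csa_of_bijective IsAzumaya.bij
  · intro h
    have hfaith : FaithfulSMul R A :=
      Groth.Agent.Lib.Lead.AzumayaFibre.faithful_of_fibres R A (fun p _ => by
        haveI := (h p).2
        infer_instance)
    haveI : Module.Finite R Aᵐᵒᵖ := Module.Finite.equiv (MulOpposite.opLinearEquiv R)
    haveI : Module.Projective R (Module.End R A) :=
      Module.Projective.of_equiv (dualTensorHomEquiv R A A)
    haveI : Module.Finite R (Module.End R A) := Module.Finite.equiv (dualTensorHomEquiv R A A)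
    have hbij : Function.Bijective (AlgHom.mulLeftRight R A) :=
      Groth.Agent.Lib.Lead.AzumayaFibre.bijective_of_fibres (AlgHom.mulLeftRight R A).toLinearMap
        (fun p _ => by
          obtain ⟨hc, hs⟩ := h p
          haveI := hc
          haveI := hs
          exact (Groth.Agent.Lib.Lead.AzumayaFibre.mulLeftRight_baseChange_bijective_iff R
            p.ResidueField A).1 Groth.Agent.Lib.Lead.AzumayaLocal.bijective_of_csa)
    exact { toProjective := inferInstance, toFaithfulSMul := hfaith, toFinite := inferInstance,
            bij := hbij }

end Groth.Agent.S5719
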