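import Groth.Statements.S5720
import Groth.Agent.Lib.Lead.SplitSpread
import Groth.Agent.Lib.Lead.LocalSplit
import Groth.Agent.Lib.Lead.TensorPowerPsi
import Groth.Agent.S0192

set_option autoImplicit false
universe u v
open TensorProduct
open Dix

namespace Groth.Agent.S5720

/-- (ii) ⇒ (iii), over an affine base X = Spec R. Let A be an Azumaya algebra over the commutative ring
R and p a prime ideal of R. Then there exist f ∈ R with f ∉ p, a finite étale and faithfully flat
R_f-algebra R' (a finite étale surjective cover of the neighbourhood D(f) of p) and an integer r ≥ 1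
such that R' ⊗_R A is isomorphic as an R'-algebra to the matrix algebra M_r(R'). (Existence of the
isomorphism only.) -/
theorem result (R : Type u) [CommRing R] (A : Type u) [Ring A] [Algebra R A] [IsAzumaya R A] (p : Ideal R) [p.IsPrime] : ∃ f : R, f ∉ p ∧ ∃ (R' : Type u) (_ : CommRing R') (_ : Algebra R R') (_ : Algebra (Localization.Away f) R') (_ : IsScalarTower R (Localization.Away f) R'), Module.Finite (Localization.Away f) R' ∧ Algebra.Etale (Localization.Away f) R' ∧ Module.FaithfullyFlat (Localization.Away f) R' ∧ ∃ r : ℕ, 1 ≤ r ∧ Nonempty ((R' ⊗[R] A) ≃ₐ[R'] Matrix (Fin r) (Fin r) R') := by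
  classical
  -- Step 0: the rank at `p` is a square `r²` with `r ≥ 1`
  obtain ⟨r, hr1, hrk⟩ : ∃ r : ℕ, 1 ≤ r ∧
      Module.rankAtStalk (R := R) A (⟨p, inferInstance⟩ : PrimeSpectrum R) = r ^ 2 := by
    obtain ⟨hc, hs⟩ := Groth.Agent.Lib.Lead.AzumayaFibre2.csa_of_isAzumaya R A p.ResidueField
    haveI := hc
    haveI := hs
    obtain ⟨r, hr⟩ := Groth.Agent.S0192.result p.ResidueField (p.ResidueField ⊗[R] A)
    have h1 := Module.rankAtStalk_eq (R := R) (M := A) (⟨p, inferInstance⟩ : PrimeSpectrum R)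
    have h2 : Module.rankAtStalk (R := R) A (⟨p, inferInstance⟩ : PrimeSpectrum R) = r * r :=
      h1.trans hr
    refine ⟨r, ?_, by rw [h2, sq]⟩
    have hpos : 0 < Module.finrank p.ResidueField (p.ResidueField ⊗[R] A) := Module.finrank_pos
    rw [hr] at hpos
    exact Nat.pos_of_mul_pos_left hpos
  -- Step 1: local splitting
  haveI : IsAzumaya (Localization.AtPrime p) (Localization.AtPrime p ⊗[R] A) :=
    Groth.Agent.S19588.result R (Localization.AtPrime p) A
  have hfr : Module.finrank (Localization.AtPrime p) (Localization.AtPrime p ⊗[R] A) = r ^ 2 := by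
    rw [← hrk]
    exact (Module.rankAtStalk_eq_finrank_tensorProduct (R := R) (M := A)
      (⟨p, inferInstance⟩ : PrimeSpectrum R)).symm
  obtain ⟨P, hPm, hPd, hPsep, -, ⟨σ⟩⟩ := Groth.Agent.Lib.Lead.LocalSplit.exists_split
    (Localization.AtPrime p) (Localization.AtPrime p ⊗[R] A) r hfr
  -- Step 2: scale to get a polynomial over `R`
  obtain ⟨c, hc, Q, hQm, hQd, hQmap⟩ := Groth.Agent.Lib.Lead.SpreadOut.exists_scale p P hPm
  have hcu : IsUnit (algebraMap R (Localization.AtPrime p) c) :=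
    IsLocalization.map_units (Localization.AtPrime p) (⟨c, hc⟩ : p.primeCompl)
  obtain ⟨lam⟩ := Groth.Agent.Lib.Lead.SplitSpread.exists_lam p P Q c hcu hQmap
  have hunit := Groth.Agent.Lib.Lead.SplitSpread.isUnit_tmul_derivative p P Q c hcu hQmap hPsep
  -- Step 3: the local homomorphism into `R_p ⊗ N`
  obtain ⟨ρp⟩ : Nonempty (A →ₐ[R] Localization.AtPrime p ⊗[R]
      (AdjoinRoot Q ⊗[R] Matrix (Fin r) (Fin r) R)) :=
    ⟨((Groth.Agent.Lib.Lead.SplitSpread.thetaEquiv R (Localization.AtPrime p)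
      (AdjoinRoot Q) r).symm : _ →ₐ[R] _).comp
      ((lam.mapMatrix.restrictScalars R).comp
        ((σ.restrictScalars R).comp Algebra.TensorProduct.includeRight))⟩
  haveI : Module.FinitePresentation R A := Module.finitePresentation_of_projective R A
  obtain ⟨f₁, hf₁, H₁⟩ := Groth.Agent.Lib.Lead.SpreadOut.spread_algHom p A
    (AdjoinRoot Q ⊗[R] Matrix (Fin r) (Fin r) R) ρp
  obtain ⟨f₂, hf₂, H₂⟩ := Groth.Agent.Lib.Lead.SpreadOut.spread_unit p (AdjoinRoot Q)
    (Polynomial.aeval (AdjoinRoot.root Q) (Polynomial.derivative Q)) hunit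
  obtain ⟨f₃, hf₃, H₃⟩ := Groth.Agent.Lib.Lead.SpreadOut.exists_rank_const p A
  obtain ⟨f, hfdef⟩ : ∃ f : R, f = f₁ * f₂ * f₃ := ⟨_, rfl⟩
  have hfp : f ∉ p := by
    rw [hfdef]
    intro h
    rcases (Ideal.IsPrime.mem_or_mem inferInstance h) with h12 | h3
    · rcases (Ideal.IsPrime.mem_or_mem inferInstance h12) with h1 | h2
      · exact hf₁ h1
      · exact hf₂ h2
    · exact hf₃ h3
  have hd1 : f₁ ∣ f := ⟨f₂ * f₃, by rw [hfdef]; ring⟩
  have hd2 : f₂ ∣ f := ⟨f₁ * f₃, by rw [hfdef]; ring⟩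
  have hd3 : f₃ ∣ f := ⟨f₁ * f₂, by rw [hfdef]; ring⟩
  -- the cover
  obtain ⟨Qf, hQf⟩ : ∃ Qf : Polynomial (Localization.Away f),
      Qf = Q.map (algebraMap R (Localization.Away f)) := ⟨_, rfl⟩
  have hQfm : Qf.Monic := by rw [hQf]; exact hQm.map _
  haveI hnt : Nontrivial (Localization.Away f) := by
    have hfu : IsUnit (algebraMap R (Localization.AtPrime p) f) :=
      IsLocalization.map_units (Localization.AtPrime p) (⟨f, hfp⟩ : p.primeCompl)
    exact RingHom.domain_nontrivial (IsLocalization.Away.lift f hfu)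
  have hQfd : Qf.natDegree = r := by rw [hQf, hQm.natDegree_map, hQd, hPd]
  haveI hfree : Module.Free (Localization.Away f) (AdjoinRoot Qf) :=
    Module.Free.of_basis (AdjoinRoot.powerBasis' hQfm).basis
  haveI hfin : Module.Finite (Localization.Away f) (AdjoinRoot Qf) :=
    Module.Finite.of_basis (AdjoinRoot.powerBasis' hQfm).basis
  haveI hntR' : Nontrivial (AdjoinRoot Qf) :=
    Groth.Agent.Lib.Lead.LocalSplit.nontrivial_adjoinRoot Qf hQfm (by rw [hQfd]; exact hr1)
  have hsepf : Qf.Separable := by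
    apply Groth.Agent.Lib.Lead.SpreadOut.separable_of_isUnit_aeval_derivative
    have h1 := (H₂ f hd2).map (Groth.Agent.Lib.Lead.SplitSpread.psiHom (Localization.Away f) Q)
    rw [Groth.Agent.Lib.Lead.SplitSpread.psiHom_derivative, ← hQf] at h1
    exact h1
  haveI hetale : Algebra.Etale (Localization.Away f) (AdjoinRoot Qf) :=
    Groth.Agent.Lib.Helper8.MonogenicUnram.etale_quotient_of_separable Qf hQfm hsepf
  obtain ⟨ρf⟩ := H₁ f hd1
  obtain ⟨ψ, hψ⟩ : ∃ ψ : Localization.Away f ⊗[R] AdjoinRoot Q →ₐ[Localization.Away f] AdjoinRoot Qf,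
      True := by
    rw [hQf]
    exact ⟨Groth.Agent.Lib.Lead.SplitSpread.psiHom (Localization.Away f) Q, trivial⟩
  obtain ⟨ρ'⟩ : Nonempty (A →ₐ[R] Matrix (Fin r) (Fin r) (AdjoinRoot Qf)) :=
    ⟨(ψ.mapMatrix.restrictScalars R).comp
      (((Groth.Agent.Lib.Lead.SplitSpread.thetaEquiv R (Localization.Away f)
        (AdjoinRoot Q) r) : _ →ₐ[R] _).comp ρf)⟩
  refine ⟨f, hfp, AdjoinRoot Qf, inferInstance, inferInstance, inferInstance, inferInstance,
    hfin, hetale, inferInstance, r, hr1, ?_⟩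
  haveI : IsAzumaya (AdjoinRoot Qf) (AdjoinRoot Qf ⊗[R] A) :=
    Groth.Agent.S19588.result R (AdjoinRoot Qf) A
  haveI : Nonempty (Fin r) := Fin.pos_iff_nonempty.1 hr1
  haveI : IsAzumaya (AdjoinRoot Qf) (Matrix (Fin r) (Fin r) (AdjoinRoot Qf)) :=
    IsAzumaya.matrix (AdjoinRoot Qf) (Fin r)
  have hbij : Function.Bijective (Groth.Agent.Lib.Lead.TensorPowerPsi.extHom ρ') := by
    refine Groth.Agent.Lib.Lead.AzHom.bijective_of_azumaya
      (Groth.Agent.Lib.Lead.TensorPowerPsi.extHom ρ') fun q => ?_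
    have h2 := congrFun (Module.rankAtStalk_eq_finrank_of_free (R := AdjoinRoot Qf)
      (M := Matrix (Fin r) (Fin r) (AdjoinRoot Qf))) q
    simp only [Pi.natCast_apply, Nat.cast_id] at h2
    have hf3q : f₃ ∉ (q.comap (algebraMap R (AdjoinRoot Qf))).asIdeal := by
      intro hmem
      have hmem' : algebraMap R (AdjoinRoot Qf) f₃ ∈ q.asIdeal := hmem
      have hu1 : IsUnit (algebraMap R (AdjoinRoot Qf) f) := by
        rw [IsScalarTower.algebraMap_apply R (Localization.Away f) (AdjoinRoot Qf)]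
        exact (IsLocalization.Away.algebraMap_isUnit f).map _
      have hu3 : IsUnit (algebraMap R (AdjoinRoot Qf) f₃) :=
        isUnit_of_dvd_unit (map_dvd _ hd3) hu1
      exact q.isPrime.ne_top (Ideal.eq_top_of_isUnit_mem _ hmem' hu3)
    rw [Module.rankAtStalk_baseChange, H₃ _ hf3q, hrk, h2, Module.finrank_matrix,
      Module.finrank_self, mul_one, Fintype.card_fin, sq]
  exact ⟨AlgEquiv.ofBijective _ hbij⟩

end Groth.Agent.S5720
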