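import Groth.Statements.S5724
import Groth.Agent.Lib.Helper3.VerAmple

set_option autoImplicit false
universe u
open CategoryTheory CategoryTheory.Limits AlgebraicGeometry TopologicalSpace Opposite
open scoped HomogeneousIdeal
open EGA2

namespace Groth.Agent.S5724

/-- Let Y be a quasi-compact scheme and 𝒮 a quasi-coherent graded O_Y-algebra of finite type (over every
affine open U of Y the ring 𝒮(U) is an algebra of finite type over the functions on U, through the
structure map), and let f : X → Y be its relative homogeneous spectrum Proj(𝒮), given with its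
charts over affine opens. Then there is an integer d > 0 such that the twisting sheaf O_X(d) — any
O_X-module given with chart identifications exhibiting it as O_X(d) — is invertible and ample
relative to f. (The published statement also records that f is of finite type; that assertion holds
for the relative homogeneous spectrum of any finite-type quasi-coherent graded algebra and is not
repeated in this row.) -/
theorem result {Y X : Scheme.{u}} [CompactSpace Y] (𝒮 : RelProj.QCGrAlg Y)
    (hft : ∀ (U : Y.Opens) (hU : IsAffineOpen U), (𝒮.str.app (op U)).hom.FiniteType)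
    (f : X ⟶ Y)
    (chart : ∀ (U : Y.Opens) (hU : IsAffineOpen U), ((f ⁻¹ᵁ U : X.Opens) : Scheme.{u}) ≅ Proj (𝒮.deg U hU))
    (hX : RelProj.IsRelProj 𝒮 f chart) :
    ∃ d : ℕ, 0 < d ∧ ∀ (L : X.Modules)
      (lam : ∀ (U : Y.Opens) (hU : IsAffineOpen U),
        L ⟶ (Scheme.Modules.pushforward (RelProj.emb f chart U hU)).obj (GrTwist.twist (𝒮.deg U hU) (d : ℤ))),
      RelProj.IsRelTwist 𝒮 f chart (d : ℤ) L lam → PicF.IsInvertible L ∧ RelAmple.IsRelAmple f L := by
  classical
  obtain ⟨-, hqc⟩ := Groth.Agent.Lib.Helper3.RelProjLoc.finiteType_of_finiteType hX hft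
  haveI := hqc
  obtain ⟨ι, hfin, U, hU, -, hcov⟩ :=
    Groth.Agent.Lib.Helper3.QCSec.exists_finite_affine_cover (⊤ : Y.Opens)
      (by simpa using (isCompact_univ : IsCompact (Set.univ : Set Y)))
  haveI := hfin
  haveI := Fintype.ofFinite ι
  have h := fun i => Groth.Agent.Lib.Helper3.Veronese.veronese (𝒮.deg (U i) (hU i))
    (𝒮.str.app (op (U i))).hom (fun r => 𝒮.str_mem (U i) (hU i) r) (hft _ (hU i))
  choose d₀ hd₀ hV using h
  have hdpos : 0 < ∏ i, d₀ i := Finset.prod_pos (fun i _ => hd₀ i)
  refine ⟨∏ i, d₀ i, hdpos, fun L lam hT => ?_⟩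
  have hpt : ∀ i (y : Proj (𝒮.deg (U i) (hU i))),
      ∃ g ∈ 𝒮.deg (U i) (hU i) (∏ i, d₀ i), g ∉ y.asHomogeneousIdeal := by
    intro i y
    obtain ⟨k, hk⟩ : d₀ i ∣ ∏ i, d₀ i := Finset.dvd_prod_of_mem d₀ (Finset.mem_univ i)
    have hkpos : 0 < k := by
      rcases Nat.eq_zero_or_pos k with h | h
      · rw [h, mul_zero] at hk
        exact absurd hk hdpos.ne'
      · exact h
    refine Groth.Agent.Lib.Helper3.VerAmple.exists_notMem_of_veronese (fun n hn => ?_) y
    have := (hV i k hkpos).1 n hn
    rw [hk, mul_comm (d₀ i) k]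
    exact this
  have hcov' : ∀ y : Y, ∃ i, y ∈ U i := by
    intro y
    have : y ∈ (⨆ i, U i : Y.Opens) := hcov (show y ∈ (⊤ : Y.Opens) from trivial)
    exact Opens.mem_iSup.mp this
  have hLinv : PicF.IsInvertible L :=
    Groth.Agent.Lib.Helper3.VerAmple.isInvertible_of_cover lam hT.bijective U hU hcov' hpt
  refine ⟨hLinv, ?_⟩
  have hsup : ⨆ i, U i = ⊤ := top_le_iff.mp hcov
  rw [Groth.Agent.Lib.Helper3.RelAmpleLib.isRelAmple_iff_of_openCover f L U hsup]
  intro i
  haveI : IsAffine (U i) := hU i
  rw [Groth.Agent.Lib.Helper3.RelAmpleLib.isRelAmple_iff_isAmple_of_isAffine]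
  exact Groth.Agent.Lib.Helper3.VerAmple.isAmple_restrict lam hT.bijective hLinv hdpos
    (U i) (hU i) (hpt i)

end Groth.Agent.S5724
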