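import Groth.Statements.S5736
-- import your own Groth.Agent.* helpers here
import Mathlib
import Groth.Agent.Lib.Helper22.ThickProper

set_option autoImplicit false
universe u
open FCompl

namespace Groth.Agent.S5736

open AlgebraicGeometry CategoryTheory in
/-- For formal schemes presented as adic systems of thickenings, in which a finite morphism is an adic
one whose smallest level is finite; the content is that every level is then finite. Let (Y_n) be a
locally Noetherian adic formal system and f : (X_n) → (Y_n) a morphism of systems all of whose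
squares X_n → X_(n+1), Y_n → Y_(n+1) are cartesian. If X_0 → Y_0 is a finite morphism of schemes,
then X_n → Y_n is finite for every n. -/
theorem result {𝔛 𝔜 : FSch.Sys.{u}} (f : 𝔛 ⟶ 𝔜)
    (h𝔜 : 𝔜.IsLocNoethFormal) (hf : FSch.IsAdicHom f) [IsFinite ((f : FSch.Hom 𝔛 𝔜).app 0)] (n : ℕ) :
    IsFinite ((f : FSch.Hom 𝔛 𝔜).app n) := by
  obtain ⟨hYform, hYadic, hYnoeth⟩ := h𝔜
  induction n with
  | zero => infer_instance
  | succ n ih =>
    haveI := ih
    have hc := hf n
    haveI : IsClosedImmersion (𝔜.ι n) := (hYform n).1
    have hs : Function.Surjective (𝔜.ι n) := (hYform n).2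
    have hnil : ∀ U : (𝔜.X (n + 1)).affineOpens,
        IsNilpotent (RingHom.ker ((𝔜.ι n).app U.1).hom) := by
      intro U
      haveI : IsLocallyNoetherian (𝔜.X (n + 1)) := hYnoeth (n + 1)
      haveI : IsNoetherianRing Γ(𝔜.X (n + 1), U.1) := IsLocallyNoetherian.component_noetherian U
      have h1 := Groth.Agent.Lib.Helper1.ThickSq.ker_app_le_nilradical (𝔜.ι n) hs U
      obtain ⟨k, hk⟩ := IsNoetherianRing.isNilpotent_nilradical Γ(𝔜.X (n + 1), U.1)
      refine ⟨k, ?_⟩
      have h2 := Ideal.pow_right_mono h1 k
      rw [hk] at h2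
      exact le_bot_iff.mp h2
    exact Groth.Agent.Lib.Helper22.ThickProper.isFinite_of_isPullback hc hs hnil

end Groth.Agent.S5736
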