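import Groth.Statements.S5737
-- import your own Groth.Agent.* helpers here
import Mathlib
import Groth.Agent.Lib.Helper1.NilSurj
import Groth.Agent.Lib.Helper1.ThickSq

set_option autoImplicit false
universe u
open FCompl

namespace Groth.Agent.S5737

open AlgebraicGeometry CategoryTheory in
/-- For formal schemes presented as adic systems of thickenings: a closed immersion of locally
Noetherian formal schemes is then an adic morphism all of whose levels are closed immersions, and
the content is that this is detected at the smallest level. Let (X_n) and (Y_n) be locally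
Noetherian adic formal systems and f : (X_n) → (Y_n) a morphism of systems all of whose squares X_n
→ X_(n+1), Y_n → Y_(n+1) are cartesian. If X_0 → Y_0 is a closed immersion, then X_n → Y_n is a
closed immersion for every n. -/
theorem result {𝔛 𝔜 : FSch.Sys.{u}} (f : 𝔛 ⟶ 𝔜)
    (h𝔛 : 𝔛.IsLocNoethFormal) (h𝔜 : 𝔜.IsLocNoethFormal) (hf : FSch.IsAdicHom f)
    [IsClosedImmersion ((f : FSch.Hom 𝔛 𝔜).app 0)] (n : ℕ) :
    IsClosedImmersion ((f : FSch.Hom 𝔛 𝔜).app n) := by
  obtain ⟨hYform, hYadic, hYnoeth⟩ := h𝔜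
  induction n with
  | zero => infer_instance
  | succ n ih =>
    haveI := ih
    have hc := hf n
    haveI : IsClosedImmersion (𝔜.ι n) := (hYform n).1
    have hs : Function.Surjective (𝔜.ι n) := (hYform n).2
    have hnil : ∀ U : (𝔜.X (n + 1)).affineOpens,
        IsNilpotent (RingHom.ker ((𝔜.ι n).app U.1).hom) := by
      intro U
      haveI : IsLocallyNoetherian (𝔜.X (n + 1)) := hYnoeth (n + 1)
      haveI : IsNoetherianRing Γ(𝔜.X (n + 1), U.1) := IsLocallyNoetherian.component_noetherian U
      have h1 := Groth.Agent.Lib.Helper1.ThickSq.ker_app_le_nilradical (𝔜.ι n) hs U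
      obtain ⟨k, hk⟩ := IsNoetherianRing.isNilpotent_nilradical Γ(𝔜.X (n + 1), U.1)
      refine ⟨k, ?_⟩
      have h2 := Ideal.pow_right_mono h1 k
      rw [hk] at h2
      exact le_bot_iff.mp h2
    haveI : LocallyOfFiniteType ((f : FSch.Hom 𝔛 𝔜).app n) := inferInstance
    haveI : LocallyOfFiniteType ((f : FSch.Hom 𝔛 𝔜).app (n + 1)) :=
      Groth.Agent.Lib.Helper1.ThickSq.locallyOfFiniteType_of_isPullback hc hnil
    haveI : IsClosedImmersion (Limits.pullback.snd ((f : FSch.Hom 𝔛 𝔜).app (n + 1)) (𝔜.ι n)) := by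
      have h3 : Limits.pullback.snd ((f : FSch.Hom 𝔛 𝔜).app (n + 1)) (𝔜.ι n) =
          hc.isoPullback.inv ≫ (f : FSch.Hom 𝔛 𝔜).app n := by simp
      rw [h3]
      infer_instance
    exact Groth.Agent.Lib.Helper1.NilSurj.isClosedImmersion_of_pullback
      ((f : FSch.Hom 𝔛 𝔜).app (n + 1)) (𝔜.ι n) hs

end Groth.Agent.S5737
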