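import Groth.Statements.S5738
-- import your own Groth.Agent.* helpers here
import Mathlib
import Groth.Agent.Lib.Helper22.ThickProper

set_option autoImplicit false
universe u
open FCompl

namespace Groth.Agent.S5738

open AlgebraicGeometry CategoryTheory in
/-- For formal schemes presented as adic systems of thickenings: a proper morphism of locally Noetherian
formal schemes is an adic one whose smallest level is proper, and the content is that every level is
then proper. Let (X_n) and (S_n) be locally Noetherian adic formal systems and f : (X_n) → (S_n) a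
morphism of systems all of whose squares X_n → X_(n+1), S_n → S_(n+1) are cartesian. If X_0 → S_0 is
proper, then X_n → S_n is proper for every n. -/
theorem result {𝔛 𝔖 : FSch.Sys.{u}} (f : 𝔛 ⟶ 𝔖)
    (h𝔛 : 𝔛.IsLocNoethFormal) (h𝔖 : 𝔖.IsLocNoethFormal) (hf : FSch.IsAdicHom f)
    [IsProper ((f : FSch.Hom 𝔛 𝔖).app 0)] (n : ℕ) :
    IsProper ((f : FSch.Hom 𝔛 𝔖).app n) := by
  obtain ⟨hYform, hYadic, hYnoeth⟩ := h𝔖
  induction n with
  | zero => infer_instance
  | succ n ih =>
    haveI := ih
    have hc := hf n
    haveI : IsClosedImmersion (𝔖.ι n) := (hYform n).1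
    have hs : Function.Surjective (𝔖.ι n) := (hYform n).2
    have hnil : ∀ U : (𝔖.X (n + 1)).affineOpens,
        IsNilpotent (RingHom.ker ((𝔖.ι n).app U.1).hom) := by
      intro U
      haveI : IsLocallyNoetherian (𝔖.X (n + 1)) := hYnoeth (n + 1)
      haveI : IsNoetherianRing Γ(𝔖.X (n + 1), U.1) := IsLocallyNoetherian.component_noetherian U
      have h1 := Groth.Agent.Lib.Helper1.ThickSq.ker_app_le_nilradical (𝔖.ι n) hs U
      obtain ⟨k, hk⟩ := IsNoetherianRing.isNilpotent_nilradical Γ(𝔖.X (n + 1), U.1)
      refine ⟨k, ?_⟩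
      have h2 := Ideal.pow_right_mono h1 k
      rw [hk] at h2
      exact le_bot_iff.mp h2
    exact Groth.Agent.Lib.Helper22.ThickProper.isProper_of_isPullback hc hs hnil

end Groth.Agent.S5738
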