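-- Statement S5739.
import Groth.Statements.S5739
import Mathlib
import Groth.Agent.Lib.Helper1.NearSuppFSch

set_option autoImplicit false
universe u
open FCompl

namespace Groth.Agent.S5739

open AlgebraicGeometry CategoryTheory in
/-- Isomorphism case (completions presented by the closed subschemes of the powers of an ideal sheaf on
the base and of its inverse image ideals; the compatibility hypothesis hc always holds and is
carried as data for the completed morphism). Let Z be a locally Noetherian scheme, g : X → Z and h :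
Y → Z proper morphisms, f : X → Y a morphism with f ≫ h = g, and 𝓙 an ideal sheaf on Z. Then every
level of the completed morphism X̂ → Ŷ between the completions along the inverse image ideals of 𝓙
is an isomorphism if and only if there is an open subset U of Z containing the support of 𝓙 such
that the restriction g⁻¹(U) → h⁻¹(U) of f is an isomorphism. -/
theorem result {X Y Z : Scheme.{u}} [IsLocallyNoetherian Z]
    (g : X ⟶ Z) (h : Y ⟶ Z) [IsProper g] [IsProper h] (f : X ⟶ Y) (w : f ≫ h = g)
    (𝓙 : Z.IdealSheafData) (hc : FSch.PowCompat f (𝓙.comap g) (𝓙.comap h)) :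
    (∀ n : ℕ, IsIso ((FSch.completionMap f (𝓙.comap g) (𝓙.comap h) hc : FSch.Hom _ _).app n)) ↔
      ∃ U : Z.Opens, (𝓙.support : Set Z) ⊆ U ∧ IsIso (f ∣_ h ⁻¹ᵁ U) := by
  open Groth.Agent.Lib.Helper1 in
  haveI : IsProper f := by
    haveI : IsProper (f ≫ h) := by rw [w]; infer_instance
    exact IsProper.of_comp f h
  haveI : IsLocallyNoetherian Y := LocallyOfFiniteType.isLocallyNoetherian h
  have h𝓘 : 𝓙.comap g = (𝓙.comap h).comap f := by
    rw [← w, Scheme.IdealSheafData.comap_comp]
  constructor
  · intro H
    obtain ⟨V, hV, hPV⟩ := NearSupp.exists_opens_isIso f (𝓙.comap g) (𝓙.comap h) h𝓘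
      (fun n => (FSch.completionMap f (𝓙.comap g) (𝓙.comap h) hc : FSch.Hom _ _).app n)
      (fun n => NearSupp.level_sq f (𝓙.comap g) (𝓙.comap h) hc n) H
    obtain ⟨U, hU, hUV⟩ := NearSupp.exists_base_opens h 𝓙 V hV
    exact ⟨U, hU, NearSupp.restrict_of_le f (MorphismProperty.isomorphisms Scheme) hUV hPV⟩
  · rintro ⟨U, hU, hPU⟩ n
    exact NearSupp.level_of_restrict f (MorphismProperty.isomorphisms Scheme)
      (𝓙.comap g) (𝓙.comap h) h𝓘 hc
      (h ⁻¹ᵁ U) (NearSupp.support_comap_subset h 𝓙 U hU) hPU n

end Groth.Agent.S5739
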