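-- Statement S5740.
import Groth.Statements.S5740
import Mathlib
import Groth.Agent.Lib.Helper1.NearSuppFSch

set_option autoImplicit false
universe u
open FCompl

namespace Groth.Agent.S5740

open AlgebraicGeometry CategoryTheory in
/-- Closed-immersion case (completions presented by the closed subschemes of the powers of an ideal
sheaf on the base and of its inverse image ideals, so that a closed immersion of completions is read
as a completed morphism all of whose levels are closed immersions; the compatibility hypothesis hc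
always holds and is carried as data). Let Z be a locally Noetherian scheme, g : X → Z and h : Y → Z
proper morphisms, f : X → Y a morphism with f ≫ h = g, and 𝓙 an ideal sheaf on Z. Then every level
of the completed morphism X̂ → Ŷ is a closed immersion if and only if there is an open subset U of Z
containing the support of 𝓙 such that the restriction g⁻¹(U) → h⁻¹(U) of f is a closed immersion. -/
theorem result {X Y Z : Scheme.{u}} [IsLocallyNoetherian Z]
    (g : X ⟶ Z) (h : Y ⟶ Z) [IsProper g] [IsProper h] (f : X ⟶ Y) (w : f ≫ h = g)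
    (𝓙 : Z.IdealSheafData) (hc : FSch.PowCompat f (𝓙.comap g) (𝓙.comap h)) :
    (∀ n : ℕ, IsClosedImmersion
        ((FSch.completionMap f (𝓙.comap g) (𝓙.comap h) hc : FSch.Hom _ _).app n)) ↔
      ∃ U : Z.Opens, (𝓙.support : Set Z) ⊆ U ∧ IsClosedImmersion (f ∣_ h ⁻¹ᵁ U) := by
  open Groth.Agent.Lib.Helper1 in
  haveI : IsProper f := by
    haveI : IsProper (f ≫ h) := by rw [w]; infer_instance
    exact IsProper.of_comp f h
  have h𝓘 : 𝓙.comap g = (𝓙.comap h).comap f := by
    rw [← w, Scheme.IdealSheafData.comap_comp]
  have hpow : ∀ n : ℕ, (𝓙.comap g) ^ (n + 1) = ((𝓙.comap h) ^ (n + 1)).comap f := fun n => by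
    rw [h𝓘, Groth.Agent.Lib.Helper6.IdealComap.comap_pow]
  constructor
  · intro H
    obtain ⟨V, hV, hPV⟩ := NearSupp.exists_opens_isClosedImmersion f _
      (NearSupp.level_sq f (𝓙.comap g) (𝓙.comap h) hc 0) (hpow 0) (H 0)
    obtain ⟨U, hU, hUV⟩ := NearSupp.exists_base_opens h 𝓙 V hV
    exact ⟨U, hU, NearSupp.restrict_of_le f @IsClosedImmersion hUV hPV⟩
  · rintro ⟨U, hU, hPU⟩ n
    exact NearSupp.level_of_restrict f @IsClosedImmersion (𝓙.comap g) (𝓙.comap h) h𝓘 hc
      (h ⁻¹ᵁ U) (NearSupp.support_comap_subset h 𝓙 U hU) hPU n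

end Groth.Agent.S5740
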