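import Groth.Statements.S5750
import Groth.Agent.Lib.Helper7.ClTransferR
import Mathlib.Analysis.Polynomial.Basic

set_option autoImplicit false
universe u
open Coherent

namespace Groth.Agent.S5750

open AlgebraicGeometry CategoryTheory in
/-- Let A be an Artinian local ring, i : X → P^r_A a closed immersion compatible with the structure
morphisms to Spec A, F a coherent O_X-module and F(n) = F ⊗ i^* O(n). If a polynomial P over ℚ
satisfies P(n) = χ_A(F(n)) = Σ_{j ≤ r} (-1)^j length_A H^j(X, F(n)) for every integer n (the Hilbert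
polynomial of F), then the leading coefficient of P is non-negative. -/
theorem result (A : Type u) [CommRing A]
    [IsArtinianRing A] [IsLocalRing A] (r : ℕ) (X : Scheme.{u}) [X.Over (Spec (CommRingCat.of A))]
    (i : X ⟶ CohB1.ProjSpace r A) [IsClosedImmersion i]
    (hi : i ≫ CohB1.ProjSpace.toSpec r A = X ↘ Spec (CommRingCat.of A)) (F : X.Modules) (hF : Coh.IsCoh F)
    (P : Polynomial ℚ)
    (hP : ∀ n : ℤ, ((Finset.range (r + 1)).sum fun j => (-1 : ℚ) ^ j *
        ((Module.length A (Coh.HH X (CohB1.tensorMod F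
          ((Scheme.Modules.pullback i).obj (Twist.twistProjSpace r A n))) j)).toNat : ℚ)) = P.eval (n : ℚ)) :
    0 ≤ P.leadingCoeff := by
  obtain ⟨d₀, hd₀⟩ := Groth.Agent.Lib.Helper7.ClTransferR.serre_vanishing_closed A i F hF
  have hpos : ∀ n : ℤ, d₀ ≤ n → 0 ≤ P.eval (n : ℚ) := by
    intro n hn
    rw [← hP n, Finset.sum_range_succ']
    have hz : ∀ j ∈ Finset.range r, (-1 : ℚ) ^ (j + 1) *
        ((Module.length A (Coh.HH X (CohB1.tensorMod F
          ((Scheme.Modules.pullback i).obj (Twist.twistProjSpace r A n))) (j + 1))).toNat : ℚ) = 0 := by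
      intro j _
      haveI := hd₀ n hn (j + 1) (by omega)
      rw [Module.length_eq_zero]
      simp
    rw [Finset.sum_eq_zero hz, zero_add, pow_zero, one_mul]
    exact Nat.cast_nonneg _
  by_contra hneg
  push Not at hneg
  rcases lt_or_ge 0 P.degree with hdeg | hdeg
  · have ht := P.tendsto_atBot_of_leadingCoeff_nonpos hdeg hneg.le
    have ht2 : Filter.Tendsto (fun n : ℤ => P.eval (n : ℚ)) Filter.atTop Filter.atBot :=
      ht.comp tendsto_intCast_atTop_atTop
    have hev := ht2.eventually (Filter.eventually_lt_atBot (0 : ℚ))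
    obtain ⟨n, hn1, hn2⟩ := (hev.and (Filter.eventually_ge_atTop d₀)).exists
    exact absurd (hpos n hn2) (not_le.mpr hn1)
  · have hC : P = Polynomial.C (P.coeff 0) := Polynomial.eq_C_of_degree_le_zero hdeg
    have h0 := hpos d₀ le_rfl
    rw [hC, Polynomial.eval_C] at h0
    rw [hC, Polynomial.leadingCoeff_C] at hneg
    exact absurd h0 (not_le.mpr hneg)

end Groth.Agent.S5750
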