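import Groth.Statements.S5754
import Mathlib.RingTheory.Ideal.AssociatedPrime.Localization
import Mathlib.RingTheory.QuotSMulTop

set_option autoImplicit false
universe u
open EGA41

namespace Groth.Agent.S5754


theorem minimalPrimes_eq_of_forall {A : Type u} [CommRing A] {I J : Ideal A}
    (h : ∀ Q : Ideal A, Q.IsPrime → (I ≤ Q ↔ J ≤ Q)) : I.minimalPrimes = J.minimalPrimes := by
  have : (fun Q : Ideal A => Q.IsPrime ∧ I ≤ Q) = (fun Q => Q.IsPrime ∧ J ≤ Q) := by
    funext Q
    exact propext (and_congr_right (h Q))
  ext P
  change Minimal (fun Q : Ideal A => Q.IsPrime ∧ I ≤ Q) P ↔ Minimal (fun Q => Q.IsPrime ∧ J ≤ Q) P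
  rw [this]

/-- Let A be a Noetherian ring, M a finitely generated A-module and t an element of A which is
M-regular. For every associated prime p of M, every prime ideal minimal among those containing p +
tA is an associated prime of M/tM. -/
theorem result (A : Type u) [CommRing A]
    [IsNoetherianRing A] (M : Type u) [AddCommGroup M] [Module A M] [Module.Finite A M] (t : A)
    (ht : IsSMulRegular M t) (p : Ideal A) (hp : p ∈ associatedPrimes A M) (q : Ideal A)
    (hq : q ∈ (p ⊔ Ideal.span {t}).minimalPrimes) : q ∈ associatedPrimes A (QuotSMulTop t M) := by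
  obtain ⟨hpprime, x, hx⟩ := isAssociatedPrime_iff.mp hp
  let N : Submodule A M :=
    { carrier := {m | ∀ a ∈ p, a • m = 0}
      add_mem' := fun {m₁ m₂} h₁ h₂ a ha => by rw [smul_add, h₁ a ha, h₂ a ha, add_zero]
      zero_mem' := fun a _ => smul_zero a
      smul_mem' := fun c m hm a ha => by rw [smul_comm, hm a ha, smul_zero] }
  have hxN : x ∈ N := fun a ha => by
    have : a ∈ Submodule.colon (⊥ : Submodule A M) {x} := hx ▸ ha
    simpa [Submodule.mem_colon_singleton] using this
  have hannN : Module.annihilator A N = p := by
    apply le_antisymm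
    · intro a ha
      rw [Module.mem_annihilator] at ha
      have h1 := ha ⟨x, hxN⟩
      have h2 : a • x = 0 := by simpa using congrArg Subtype.val h1
      rw [hx, Submodule.mem_colon_singleton]
      simpa using h2
    · intro a ha
      rw [Module.mem_annihilator]
      intro n
      exact Subtype.ext (n.2 a ha)
  let g : QuotSMulTop t N →ₗ[A] QuotSMulTop t M := QuotSMulTop.map t N.subtype
  have hg : Function.Injective g := by
    rw [← LinearMap.ker_eq_bot, LinearMap.ker_eq_bot']
    intro y hy
    obtain ⟨n, rfl⟩ := Submodule.Quotient.mk_surjective _ y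
    have h1 : (Submodule.Quotient.mk (n : M) : QuotSMulTop t M) = 0 := hy
    rw [Submodule.Quotient.mk_eq_zero, Submodule.mem_smul_pointwise_iff_exists] at h1
    obtain ⟨m, -, hm⟩ := h1
    have hmN : m ∈ N := by
      intro a ha
      have h2 : t • (a • m) = t • (0 : M) := by
        rw [smul_zero, smul_comm, hm]
        exact n.2 a ha
      exact ht h2
    rw [Submodule.Quotient.mk_eq_zero, Submodule.mem_smul_pointwise_iff_exists]
    exact ⟨⟨m, hmN⟩, trivial, Subtype.ext hm⟩
  have hmin : q ∈ (Module.annihilator A (QuotSMulTop t N)).minimalPrimes := by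
    rw [minimalPrimes_eq_of_forall (J := p ⊔ Ideal.span {t})]
    · exact hq
    intro Q hQ
    have h1 := Module.mem_support_iff_of_finite (R := A) (M := QuotSMulTop t N) (p := ⟨Q, hQ⟩)
    rw [Module.support_quotSMulTop, Set.mem_inter_iff, Module.mem_support_iff_of_finite,
      hannN] at h1
    rw [← h1, sup_le_iff, Ideal.span_le]
    simp
  have hass := Module.associatedPrimes.minimalPrimes_annihilator_subset_associatedPrimes A
    (QuotSMulTop t N) hmin
  exact associatedPrimes.subset_of_injective hg hass

end Groth.Agent.S5754
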