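import Groth.Statements.S5755
import Groth.Agent.Lib.Helper9.DepthZero

set_option autoImplicit false
universe u
open EGA41

namespace Groth.Agent.S5755

/-- A reduced Noetherian local ring A has depth 0 if and only if A is a field. -/
theorem result (A : Type u) [CommRing A] [IsLocalRing A]
    [IsNoetherianRing A] [IsReduced A] : LocCoh.depth A A = 0 ↔ IsField A := by
  rw [Groth.Agent.Lib.Helper9.depth_eq_zero_iff_mem_associatedPrimes A A,
    IsLocalRing.isField_iff_maximalIdeal_eq]
  constructor
  · intro h
    obtain ⟨_, x, hx⟩ := isAssociatedPrime_iff.mp h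
    have hxm : x ∉ IsLocalRing.maximalIdeal A := by
      intro hxm
      have h0 : x • x = 0 := by
        have := hxm
        rw [hx, Submodule.mem_colon_singleton] at this
        simpa using this
      have hx0 : x = 0 := by
        have : x ^ 2 = 0 := by rw [pow_two]; simpa using h0
        exact pow_eq_zero_iff (two_ne_zero) |>.mp this
      have : IsLocalRing.maximalIdeal A = ⊤ := by
        rw [hx, hx0]; simp
      exact (IsLocalRing.maximalIdeal.isMaximal A).ne_top this
    have hu : IsUnit x := by
      by_contra hnu
      exact hxm ((IsLocalRing.mem_maximalIdeal x).mpr hnu)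
    rw [eq_bot_iff]
    intro r hr
    rw [hx, Submodule.mem_colon_singleton] at hr
    have : r * x = 0 := by simpa using hr
    exact (hu.mul_left_eq_zero).mp this
  · intro h
    rw [AssociatedPrimes.mem_iff, isAssociatedPrime_iff]
    refine ⟨(IsLocalRing.maximalIdeal.isMaximal A).isPrime, 1, ?_⟩
    rw [h]
    ext r
    simp [Submodule.mem_colon_singleton]

end Groth.Agent.S5755
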