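import Groth.Statements.S5756
import Groth.Agent.Lib.Helper9.DepthZero
import Groth.Agent.Lib.Helper9.SemiLocal

set_option autoImplicit false
universe u
open EGA41

namespace Groth.Agent.S5756


open Groth.Agent.Lib.Helper9 Groth.Agent.Lib.Helper4 in
/-- If some element of `m_B` is `M`-regular then some element of `m_A` is `M`-regular. -/
theorem exists_regular_of_exists_regular (A B : Type u) [CommRing A] [CommRing B] [IsLocalRing A]
    [IsLocalRing B] [IsNoetherianRing A] [IsNoetherianRing B] [Algebra A B]
    (M : Type u) [AddCommGroup M] [Module B M] [Module A M] [IsScalarTower A B M]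
    [Module.Finite A M] (b : B) (hb : b ∈ IsLocalRing.maximalIdeal B) (hreg : IsSMulRegular M b) :
    ∃ a ∈ IsLocalRing.maximalIdeal A, IsSMulRegular M a := by
  by_contra hcon
  push Not at hcon
  have hass := (forall_not_isSMulRegular_iff_mem_associatedPrimes A M).mp hcon
  obtain ⟨-, x, hx⟩ := isAssociatedPrime_iff.mp hass
  have hx0 : x ≠ 0 := by
    rintro rfl
    have : IsLocalRing.maximalIdeal A = ⊤ := by rw [hx]; simp
    exact (IsLocalRing.maximalIdeal.isMaximal A).ne_top this
  have hfinB : Module.Finite B M := Module.Finite.of_restrictScalars_finite A B M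
  let N : Submodule B M :=
    { carrier := {m | ∀ a ∈ IsLocalRing.maximalIdeal A, a • m = 0}
      add_mem' := fun {m₁ m₂} h₁ h₂ a ha => by rw [smul_add, h₁ a ha, h₂ a ha, add_zero]
      zero_mem' := fun a _ => smul_zero a
      smul_mem' := fun c m hm a ha => by rw [smul_comm, hm a ha, smul_zero] }
  have hxN : x ∈ N := by
    intro a ha
    have : a ∈ Submodule.colon (⊥ : Submodule A M) {x} := hx ▸ ha
    simpa [Submodule.mem_colon_singleton] using this
  have hNoethA : IsNoetherian A M := inferInstance
  have hfinN : Module.Finite A N :=
    Module.Finite.of_injective (N.subtype.restrictScalars A) N.injective_subtype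
  have hdim : Module.supportDim A N ≤ 0 := by
    unfold Module.supportDim
    have : Subsingleton (Module.support A N) := by
      refine ⟨fun p q => ?_⟩
      have key : ∀ r : Module.support A N, r.1.asIdeal = IsLocalRing.maximalIdeal A := by
        intro r
        have h1 := Module.annihilator_le_of_mem_support r.2
        have h2 : IsLocalRing.maximalIdeal A ≤ Module.annihilator A N := by
          intro a ha
          rw [Module.mem_annihilator]
          intro n
          exact Subtype.ext (n.2 a ha)
        exact ((IsLocalRing.maximalIdeal.isMaximal A).eq_of_le r.1.2.ne_top (h2.trans h1)).symm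
      exact Subtype.ext (PrimeSpectrum.ext ((key p).trans (key q).symm))
    exact Order.krullDim_nonpos_of_subsingleton
  have hArt : IsArtinian A N :=
    (isFiniteLength_iff_isNoetherian_isArtinian.mp (isFiniteLength_of_supportDim_le_zero hdim)).2
  let f : N →ₗ[A] N := Algebra.lsmul A A N b
  have hinj : Function.Injective f := by
    intro n₁ n₂ h
    apply Subtype.ext
    apply hreg
    have := congrArg Subtype.val h
    simpa [f] using this
  have hsurj := IsArtinian.surjective_of_injective_endomorphism f hinj
  have hle : N ≤ IsLocalRing.maximalIdeal B • N := by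
    intro n hn
    obtain ⟨n', hn'⟩ := hsurj ⟨n, hn⟩
    have : b • (n' : M) = n := by
      have := congrArg Subtype.val hn'
      simpa [f] using this
    rw [← this]
    exact Submodule.smul_mem_smul hb n'.2
  have hNbot : N = ⊥ := Submodule.eq_bot_of_le_smul_of_le_jacobson_bot _ N
    (IsNoetherian.noetherian N) hle (IsLocalRing.maximalIdeal_le_jacobson _)
  rw [hNbot] at hxN
  exact hx0 ((Submodule.mem_bot B).mp hxN)

/-- `M/aM ≃ M/φ(a)M` as `A`-modules. -/
noncomputable def quotSMulTopEquiv (A B : Type u) [CommRing A] [CommRing B] [Algebra A B]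
    (M : Type u) [AddCommGroup M] [Module B M] [Module A M] [IsScalarTower A B M] (a : A) :
    QuotSMulTop a M ≃ₗ[A] QuotSMulTop (algebraMap A B a) M :=
  (Submodule.quotEquivOfEq _ _ (by
    ext x
    simp only [Submodule.restrictScalars_mem, Submodule.mem_smul_pointwise_iff_exists,
      Submodule.mem_top, true_and, algebraMap_smul])).trans
  (Submodule.Quotient.restrictScalarsEquiv A _)

open Groth.Agent.Lib.Helper9 Groth.Agent.Lib.Helper4 in
theorem le_depth_iff (A B : Type u) [CommRing A] [CommRing B] [IsLocalRing A]
    [IsLocalRing B] [IsNoetherianRing A] [IsNoetherianRing B] [Algebra A B]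
    [IsLocalHom (algebraMap A B)] (n : ℕ) :
    ∀ (M : Type u) [AddCommGroup M] [Module B M] [Module A M] [IsScalarTower A B M]
      [Module.Finite A M], (n : ℕ∞) ≤ LocCoh.depth A M ↔ (n : ℕ∞) ≤ LocCoh.depth B M := by
  induction n with
  | zero => intro M _ _ _ _ _; simp
  | succ n ih =>
    intro M _ _ _ _ _
    rcases subsingleton_or_nontrivial M with hM | hM
    · unfold LocCoh.depth
      rw [idealDepth_of_smul_top_eq _ (Subsingleton.elim _ _),
        idealDepth_of_smul_top_eq _ (Subsingleton.elim _ _)]
    have hfinB : Module.Finite B M := Module.Finite.of_restrictScalars_finite A B M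
    have key : ∀ a ∈ IsLocalRing.maximalIdeal A, IsSMulRegular M a →
        (((n + 1 : ℕ) : ℕ∞) ≤ LocCoh.depth A M ↔ ((n + 1 : ℕ) : ℕ∞) ≤ LocCoh.depth B M) := by
      intro a ha hreg
      have hregB : IsSMulRegular M (algebraMap A B a) := by
        intro x y hxy
        apply hreg
        simpa [algebraMap_smul] using hxy
      have hle : IsLocalRing.maximalIdeal A ≤
          (IsLocalRing.maximalIdeal B).comap (algebraMap A B) :=
        ((IsLocalRing.local_hom_TFAE (algebraMap A B)).out 0 3).mp ‹_›
      have hbm : algebraMap A B a ∈ IsLocalRing.maximalIdeal B := hle ha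
      have eA := idealDepth_quotSMulTop_add_one (IsLocalRing.maximalIdeal A) a ha hreg
      have eB := idealDepth_quotSMulTop_add_one (IsLocalRing.maximalIdeal B) (algebraMap A B a)
        hbm hregB
      have hfin' : Module.Finite A (QuotSMulTop (algebraMap A B a) M) :=
        Module.Finite.of_surjective (quotSMulTopEquiv A B M a).toLinearMap
          (quotSMulTopEquiv A B M a).surjective
      have hIH := ih (QuotSMulTop (algebraMap A B a) M)
      unfold LocCoh.depth at hIH ⊢
      rw [← eA, ← eB, idealDepth_congr (quotSMulTopEquiv A B M a)]
      rw [Nat.cast_add, Nat.cast_one, ENat.add_le_add_iff_right ENat.one_ne_top,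
        ENat.add_le_add_iff_right ENat.one_ne_top]
      exact hIH
    constructor
    · intro h
      have hne : LocCoh.depth A M ≠ 0 := by
        intro h0
        rw [h0] at h
        simp at h
      rw [Ne, depth_eq_zero_iff_forall_not_isSMulRegular] at hne
      push Not at hne
      obtain ⟨a, ha, hreg⟩ := hne
      exact (key a ha hreg).mp h
    · intro h
      have hne : LocCoh.depth B M ≠ 0 := by
        intro h0
        rw [h0] at h
        simp at h
      rw [Ne, depth_eq_zero_iff_forall_not_isSMulRegular] at hne
      push Not at hne
      obtain ⟨b, hb, hregb⟩ := hne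
      obtain ⟨a, ha, hreg⟩ := exists_regular_of_exists_regular A B M b hb hregb
      exact (key a ha hreg).mpr h

/-- Suppose A and B are Noetherian local rings and ρ : A → B is a local homomorphism. Given a B-module M
that, viewed as an A-module through ρ, is finitely generated, the depth of M over A coincides with
the depth of M over B. -/
theorem result (A B : Type u) [CommRing A] [CommRing B] [IsLocalRing A]
    [IsLocalRing B] [IsNoetherianRing A] [IsNoetherianRing B] [Algebra A B] [IsLocalHom (algebraMap A B)]
    (M : Type u) [AddCommGroup M] [Module B M] [Module A M] [IsScalarTower A B M] [Module.Finite A M] :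
    LocCoh.depth A M = LocCoh.depth B M := by
  exact ENat.eq_of_forall_natCast_le_iff (fun n => le_depth_iff A B n M)

end Groth.Agent.S5756
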