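import Groth.Statements.S5763
import Mathlib.RingTheory.Ideal.HasGoingUp
import Mathlib.RingTheory.Ideal.GoingUp
import Mathlib.RingTheory.KrullDimension.Basic

set_option autoImplicit false
universe u
open EGA41

namespace Groth.Agent.S5763

/-- Let ρ : A → B be a ring homomorphism making B an integral A-algebra. Then dim(B) ≤ dim(A), and if ρ
is injective then dim(B) = dim(A) (Krull dimensions). -/
theorem result (A B : Type u) [CommRing A] [CommRing B] [Algebra A B]
    [Algebra.IsIntegral A B] :
    ringKrullDim B ≤ ringKrullDim A ∧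
      (Function.Injective (algebraMap A B) → ringKrullDim B = ringKrullDim A) := by
  have hle : ringKrullDim B ≤ ringKrullDim A := by
    apply Order.krullDim_le_of_strictMono
      (fun q : PrimeSpectrum B => PrimeSpectrum.comap (algebraMap A B) q)
    intro q q' hlt
    have h1 : q.asIdeal < q'.asIdeal := hlt
    exact Ideal.IsIntegral.comap_lt_comap (R := A) h1
  refine ⟨hle, ?_⟩
  intro hinj
  apply le_antisymm hle
  unfold ringKrullDim
  rw [Order.krullDim]
  apply iSup_le
  intro l
  obtain ⟨Q, -, hQ, hQc⟩ := Ideal.exists_ideal_over_prime_of_isIntegral l.head.asIdeal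
    (⊥ : Ideal B) (by rw [Ideal.comap_bot_of_injective _ hinj]; exact bot_le)
  haveI := hQ
  haveI : Q.LiesOver l.head.asIdeal := ⟨by rw [Ideal.under_def]; exact hQc.symm⟩
  obtain ⟨L, hL, -, -⟩ := Ideal.exists_ltSeries_of_hasGoingUp l Q
  rw [← hL]
  exact Order.LTSeries.length_le_krullDim L

end Groth.Agent.S5763
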