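import Groth.Statements.S5766
import Groth.Agent.S5763
import Mathlib.RingTheory.KrullDimension.Module
import Mathlib.LinearAlgebra.Matrix.Charpoly.LinearMap
import Mathlib.RingTheory.Ideal.Over

set_option autoImplicit false
universe u
open EGA41

namespace Groth.Agent.S5766

/-- Let A be a Noetherian ring, ρ : A → B a ring homomorphism and M a B-module which is finitely
generated as an A-module via ρ. Then the dimension of M as an A-module equals its dimension as a
B-module. -/
theorem result (A B : Type u) [CommRing A] [CommRing B] [IsNoetherianRing A]
    [Algebra A B] (M : Type u) [AddCommGroup M] [Module B M] [Module A M] [IsScalarTower A B M]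
    [Module.Finite A M] : Module.supportDim A M = Module.supportDim B M := by
  haveI : Module.Finite B M := Module.Finite.of_restrictScalars_finite A B M
  rw [Module.supportDim_eq_ringKrullDim_quotient_annihilator A M,
    Module.supportDim_eq_ringKrullDim_quotient_annihilator B M]
  haveI hlo : (Module.annihilator B M).LiesOver (Module.annihilator A M) :=
    ⟨(Module.comap_annihilator (R := B) (R₀ := A) (M := M)).symm⟩
  haveI : Algebra.IsIntegral (A ⧸ Module.annihilator A M) (B ⧸ Module.annihilator B M) := by
    constructor
    intro x
    obtain ⟨b, rfl⟩ := Ideal.Quotient.mk_surjective x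
    obtain ⟨p, hmonic, hp⟩ := LinearMap.exists_monic_and_aeval_eq_zero A (Algebra.lsmul A A M b)
    rw [Polynomial.aeval_algHom_apply] at hp
    have hb : Polynomial.aeval b p ∈ Module.annihilator B M := by
      rw [Module.mem_annihilator]
      intro m
      have := LinearMap.congr_fun hp m
      simpa using this
    have hint : IsIntegral A (Ideal.Quotient.mk (Module.annihilator B M) b) := by
      refine ⟨p, hmonic, ?_⟩
      rw [← Polynomial.aeval_def]
      have := Polynomial.aeval_algHom_apply (Ideal.Quotient.mkₐ A (Module.annihilator B M)) b p
      rw [Ideal.Quotient.mkₐ_eq_mk] at this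
      rw [this, Ideal.Quotient.eq_zero_iff_mem]
      exact hb
    exact hint.tower_top
  exact ((Groth.Agent.S5763.result (A ⧸ Module.annihilator A M) (B ⧸ Module.annihilator B M)).2
    (FaithfulSMul.algebraMap_injective _ _)).symm

end Groth.Agent.S5766
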