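import Groth.Statements.S5767
import Groth.Agent.Lib.Helper9.SemiLocal

set_option autoImplicit false
universe u
open EGA41

namespace Groth.Agent.S5767

/-- Let A be a semi-local Noetherian ring, M a finitely generated A-module and x an element of the
Jacobson radical of A. One always has dim(M/xM) ≥ dim(M) - 1; equality dim(M/xM) = dim(M) - 1 holds
if and only if x belongs to none of the prime ideals p of Supp(M) with dim(A/p) = dim(M). Stated as:
dim(M/xM) + 1 = dim(M) iff x avoids those primes. -/
theorem result (A : Type u) [CommRing A] [IsNoetherianRing A]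
    [Finite (MaximalSpectrum A)] (M : Type u) [AddCommGroup M] [Module A M] [Module.Finite A M] (x : A)
    (hx : x ∈ Ring.jacobson A) :
    Module.supportDim A (QuotSMulTop x M) + 1 = Module.supportDim A M ↔
      ∀ p : PrimeSpectrum A, p ∈ Module.support A M →
        ringKrullDim (A ⧸ p.asIdeal) = Module.supportDim A M → x ∉ p.asIdeal := by
  have hj : x ∈ (Module.annihilator A M).jacobson := Ideal.ringJacobson_le_jacobson hx
  constructor
  · intro h p hp hdim hxp
    have hpq : p ∈ Module.support A (QuotSMulTop x M) := by
      rw [Module.support_quotSMulTop]; exact ⟨hp, by simpa using hxp⟩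
    have h1 := Groth.Agent.Lib.Helper9.ringKrullDim_quotient_le_supportDim hpq
    rw [hdim] at h1
    have h2 : Module.supportDim A M + 1 ≤ Module.supportDim A M := by
      calc _ ≤ Module.supportDim A (QuotSMulTop x M) + 1 := add_le_add h1 le_rfl
        _ = _ := h
    have hnt : Nontrivial M := Module.nonempty_support_iff.mp ⟨p, hp⟩
    exact Groth.Agent.Lib.Helper9.absurd_add_one_le (Module.supportDim_ne_bot_of_nontrivial A M)
      (Groth.Agent.Lib.Helper9.supportDim_ne_top_of_semilocal A M) h2
  · intro H
    exact le_antisymm (Groth.Agent.Lib.Helper9.supportDim_quotSMulTop_succ_le_of_forall x H)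
      (Module.supportDim_le_supportDim_quotSMulTop_succ_of_mem_jacobson hj)

end Groth.Agent.S5767
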