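import Groth.Statements.S5768
import Groth.Agent.Lib.Helper9.SemiLocal

set_option autoImplicit false
universe u
open EGA41

namespace Groth.Agent.S5768

/-- Let A be a semi-local Noetherian ring with Jacobson radical r, M a nonzero finitely generated
A-module and x_1, ..., x_k elements of r. One always has dim(M/(x_1 M + ... + x_k M)) ≥ dim(M) - k,
and equality holds if and only if there exist further elements of r which together with the x_i form
a system of parameters for M (dim(M) elements of r modulo which M has finite length). -/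
theorem result (A : Type u) [CommRing A]
    [IsNoetherianRing A] [Finite (MaximalSpectrum A)] (M : Type u) [AddCommGroup M] [Module A M]
    [Module.Finite A M] [Nontrivial M] (xs : List A) (hxs : ∀ x ∈ xs, x ∈ Ring.jacobson A) :
    Module.supportDim A (M ⧸ (Ideal.ofList xs • (⊤ : Submodule A M))) + xs.length = Module.supportDim A M ↔
      ∃ ys : List A, (∀ y ∈ ys, y ∈ Ring.jacobson A) ∧
        ((xs ++ ys).length : WithBot ℕ∞) = Module.supportDim A M ∧
        IsFiniteLength A (M ⧸ (Ideal.ofList (xs ++ ys) • (⊤ : Submodule A M))) := by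
  constructor
  · intro h
    have hM' : Nontrivial (M ⧸ (Ideal.ofList xs • (⊤ : Submodule A M))) :=
      Groth.Agent.Lib.Helper9.nontrivial_quot_ofList M xs hxs
    obtain ⟨e, he⟩ := Groth.Agent.Lib.Helper9.exists_nat_supportDim_eq A
      (M ⧸ (Ideal.ofList xs • (⊤ : Submodule A M)))
    obtain ⟨ys, hys, hlen, hfl⟩ := Groth.Agent.Lib.Helper9.exists_sop e
      (M ⧸ (Ideal.ofList xs • (⊤ : Submodule A M))) he
    refine ⟨ys, hys, ?_,
      (Groth.Agent.Lib.Helper9.quotAppendEquiv M xs ys).symm.isFiniteLength hfl⟩
    rw [← h, he, List.length_append, hlen, Nat.cast_add, add_comm]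
  · rintro ⟨ys, hys, hlen, hfl⟩
    have hN : Nontrivial (M ⧸ (Ideal.ofList (xs ++ ys) • (⊤ : Submodule A M))) :=
      Groth.Agent.Lib.Helper9.nontrivial_quot_ofList M (xs ++ ys) (by
        intro z hz
        rcases List.mem_append.mp hz with hz | hz
        exacts [hxs z hz, hys z hz])
    have h0 : Module.supportDim A ((M ⧸ (Ideal.ofList xs • (⊤ : Submodule A M))) ⧸
        (Ideal.ofList ys • (⊤ : Submodule A (M ⧸ (Ideal.ofList xs • (⊤ : Submodule A M)))))) = 0 := by
      rw [← Module.supportDim_eq_of_equiv (Groth.Agent.Lib.Helper9.quotAppendEquiv M xs ys)]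
      apply le_antisymm (Groth.Agent.Lib.Helper9.supportDim_le_zero_of_isFiniteLength hfl)
      have : Nonempty (Module.support A (M ⧸ (Ideal.ofList (xs ++ ys) • (⊤ : Submodule A M)))) :=
        Module.nonempty_support_of_nontrivial.to_subtype
      exact Order.krullDim_nonneg
    have h1 := Groth.Agent.Lib.Helper9.supportDim_le_supportDim_quot_ofList_add_length xs hxs M
    have h2 := Groth.Agent.Lib.Helper9.supportDim_le_supportDim_quot_ofList_add_length ys hys
      (M ⧸ (Ideal.ofList xs • (⊤ : Submodule A M)))
    rw [h0, zero_add] at h2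
    apply le_antisymm _ h1
    calc _ ≤ (ys.length : WithBot ℕ∞) + xs.length := add_le_add h2 le_rfl
      _ = _ := by rw [← hlen, List.length_append, Nat.cast_add, add_comm]

end Groth.Agent.S5768
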