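import Groth.Statements.S5769
import Mathlib.RingTheory.Ideal.KrullsHeightTheorem

set_option autoImplicit false
universe u
open EGA41

namespace Groth.Agent.S5769


theorem dim_le_of_localHom (A B : Type u) [CommRing A] [CommRing B] [IsLocalRing A] [IsLocalRing B]
    [IsNoetherianRing A] [IsNoetherianRing B] (f : A →+* B) [IsLocalHom f] :
    ringKrullDim B ≤ ringKrullDim A + ringKrullDim (B ⧸ (IsLocalRing.maximalIdeal A).map f) := by
  let _ : Algebra A B := f.toAlgebra
  have hcomap : (IsLocalRing.maximalIdeal B).comap f = IsLocalRing.maximalIdeal A :=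
    ((IsLocalRing.local_hom_TFAE f).out 0 4).mp ‹_›
  have hlo : (IsLocalRing.maximalIdeal B).LiesOver (IsLocalRing.maximalIdeal A) :=
    ⟨by rw [Ideal.under_def]; exact hcomap.symm⟩
  have h := Ideal.height_le_height_add_of_liesOver (IsLocalRing.maximalIdeal A)
    (IsLocalRing.maximalIdeal B)
  have hle : (IsLocalRing.maximalIdeal A).map f ≤ IsLocalRing.maximalIdeal B := by
    rw [Ideal.map_le_iff_le_comap, hcomap]
  have : ((IsLocalRing.maximalIdeal B).map
      (Ideal.Quotient.mk ((IsLocalRing.maximalIdeal A).map f))).IsPrime :=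
    Ideal.isPrime_map_quotientMk_of_isPrime hle
  have h2 : ((((IsLocalRing.maximalIdeal B).map
      (Ideal.Quotient.mk ((IsLocalRing.maximalIdeal A).map f))).height : ℕ∞) : WithBot ℕ∞) ≤
      ringKrullDim (B ⧸ (IsLocalRing.maximalIdeal A).map f) :=
    Ideal.height_le_ringKrullDim_of_ne_top Ideal.IsPrime.ne_top'
  rw [← IsLocalRing.maximalIdeal_height_eq_ringKrullDim (R := B),
    ← IsLocalRing.maximalIdeal_height_eq_ringKrullDim (R := A)]
  calc (((IsLocalRing.maximalIdeal B).height : ℕ∞) : WithBot ℕ∞)
      ≤ (((IsLocalRing.maximalIdeal A).height + ((IsLocalRing.maximalIdeal B).map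
          (Ideal.Quotient.mk ((IsLocalRing.maximalIdeal A).map f))).height : ℕ∞) : WithBot ℕ∞) :=
        WithBot.coe_le_coe.mpr h
    _ = (((IsLocalRing.maximalIdeal A).height : ℕ∞) : WithBot ℕ∞) +
        ((((IsLocalRing.maximalIdeal B).map
          (Ideal.Quotient.mk ((IsLocalRing.maximalIdeal A).map f))).height : ℕ∞) : WithBot ℕ∞) :=
        WithBot.coe_add _ _
    _ ≤ _ := add_le_add le_rfl h2

/-- Let φ : A → B be a local homomorphism of Noetherian local rings, m the maximal ideal of A and k its
residue field. Then dim(B) ≤ dim(A) + dim(B ⊗_A k), where B ⊗_A k = B/mB. -/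
theorem result (A B : Type u) [CommRing A] [CommRing B]
    [IsLocalRing A] [IsLocalRing B] [IsNoetherianRing A] [IsNoetherianRing B] [Algebra A B]
    [IsLocalHom (algebraMap A B)] :
    ringKrullDim B ≤ ringKrullDim A +
      ringKrullDim (B ⧸ (IsLocalRing.maximalIdeal A).map (algebraMap A B)) := by
  exact dim_le_of_localHom A B (algebraMap A B)

end Groth.Agent.S5769
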