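import Groth.Statements.S5770
import Groth.Agent.Lib.Helper9.CommAlg
import Mathlib.RingTheory.KrullDimension.Module

set_option autoImplicit false
universe u
open EGA41

namespace Groth.Agent.S5770

open TensorProduct in
/-- Let φ : A → B be a local homomorphism of Noetherian local rings, m the maximal ideal of A, k = A/m,
M a finitely generated A-module and N a finitely generated B-module. Then dim_B(M ⊗_A N) ≤ dim_A(M)
+ dim(N ⊗_A k), the last dimension being that of N/mN (over B ⊗_A k or, equivalently by finiteness,
over B). -/
theorem result (A B : Type u) [CommRing A] [CommRing B] [IsLocalRing A]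
    [IsLocalRing B] [IsNoetherianRing A] [IsNoetherianRing B] [Algebra A B] [IsLocalHom (algebraMap A B)]
    (M : Type u) [AddCommGroup M] [Module A M] [Module.Finite A M] (N : Type u) [AddCommGroup N] [Module B N]
    [Module A N] [IsScalarTower A B N] [Module.Finite B N] :
    Module.supportDim B (N ⊗[A] M) ≤ Module.supportDim A M +
      Module.supportDim B (N ⧸ ((IsLocalRing.maximalIdeal A).map (algebraMap A B) • (⊤ : Submodule B N))) := by
  classical
  rcases subsingleton_or_nontrivial M with hM | hM
  · have h0 : ∀ z : N ⊗[A] M, z = 0 := fun z => by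
      induction z using TensorProduct.induction_on with
      | zero => rfl
      | tmul n m => rw [Subsingleton.elim m 0, TensorProduct.tmul_zero]
      | add a b ha hb => rw [ha, hb, add_zero]
    have : Subsingleton (N ⊗[A] M) := ⟨fun x y => by rw [h0 x, h0 y]⟩
    rw [Module.supportDim_eq_bot_of_subsingleton]; exact bot_le
  rcases subsingleton_or_nontrivial N with hN | hN
  · have h0 : ∀ z : N ⊗[A] M, z = 0 := fun z => by
      induction z using TensorProduct.induction_on with
      | zero => rfl
      | tmul n m => rw [Subsingleton.elim n 0, TensorProduct.zero_tmul]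
      | add a b ha hb => rw [ha, hb, add_zero]
    have : Subsingleton (N ⊗[A] M) := ⟨fun x y => by rw [h0 x, h0 y]⟩
    rw [Module.supportDim_eq_bot_of_subsingleton]; exact bot_le
  have hI_top : Module.annihilator A M ≠ ⊤ :=
    fun h => not_subsingleton M (Module.annihilator_eq_top_iff.mp h)
  have hJ_top : Module.annihilator B N ≠ ⊤ :=
    fun h => not_subsingleton N (Module.annihilator_eq_top_iff.mp h)
  have hPm : (IsLocalRing.maximalIdeal A).map (algebraMap A B) ≤ IsLocalRing.maximalIdeal B :=
    ((IsLocalRing.local_hom_TFAE (algebraMap A B)).out 0 2).mp ‹_›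
  set K : Ideal B := Module.annihilator B N ⊔ (Module.annihilator A M).map (algebraMap A B) with hK
  have hKm : K ≤ IsLocalRing.maximalIdeal B :=
    sup_le (IsLocalRing.le_maximalIdeal hJ_top)
      ((Ideal.map_mono (IsLocalRing.le_maximalIdeal hI_top)).trans hPm)
  have hK_top : K ≠ ⊤ := fun h =>
    (IsLocalRing.maximalIdeal.isMaximal B).ne_top (top_le_iff.mp (h ▸ hKm))
  have hIK : Module.annihilator A M ≤ K.comap (algebraMap A B) :=
    Ideal.map_le_iff_le_comap.mp le_sup_right
  haveI : Nontrivial (A ⧸ Module.annihilator A M) := Ideal.Quotient.nontrivial_iff.mpr hI_top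
  haveI : Nontrivial (B ⧸ K) := Ideal.Quotient.nontrivial_iff.mpr hK_top
  haveI : IsLocalRing (A ⧸ Module.annihilator A M) :=
    IsLocalRing.of_surjective' (Ideal.Quotient.mk _) Ideal.Quotient.mk_surjective
  haveI : IsLocalRing (B ⧸ K) :=
    IsLocalRing.of_surjective' (Ideal.Quotient.mk _) Ideal.Quotient.mk_surjective
  haveI hlocK : IsLocalHom (Ideal.Quotient.mk K) :=
    IsLocalHom.of_surjective _ Ideal.Quotient.mk_surjective
  haveI hlocI : IsLocalHom (Ideal.Quotient.mk (Module.annihilator A M)) :=
    IsLocalHom.of_surjective _ Ideal.Quotient.mk_surjective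
  set f := Ideal.quotientMap K (algebraMap A B) hIK with hf
  haveI : IsLocalHom f := ⟨by
    intro x hx
    obtain ⟨a, rfl⟩ := Ideal.Quotient.mk_surjective x
    rw [hf, Ideal.quotientMap_mk] at hx
    have h1 : IsUnit (algebraMap A B a) := isUnit_of_map_unit (Ideal.Quotient.mk K) _ hx
    exact (isUnit_of_map_unit (algebraMap A B) a h1).map _⟩
  have step1 : Module.supportDim B (N ⊗[A] M) ≤ ringKrullDim (B ⧸ K) := by
    rw [ringKrullDim_quotient]
    have hKann : K ≤ Module.annihilator B (N ⊗[A] M) := by
      refine sup_le ?_ (Ideal.map_le_iff_le_comap.mpr ?_)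
      · intro b hb
        rw [Module.mem_annihilator] at hb ⊢
        intro z
        induction z using TensorProduct.induction_on with
        | zero => exact smul_zero _
        | tmul n m => rw [TensorProduct.smul_tmul', hb n, TensorProduct.zero_tmul]
        | add x y hx hy => rw [smul_add, hx, hy, add_zero]
      · intro a ha
        rw [Ideal.mem_comap]
        rw [Module.mem_annihilator] at ha ⊢
        intro z
        induction z using TensorProduct.induction_on with
        | zero => exact smul_zero _
        | tmul n m =>
          rw [TensorProduct.smul_tmul', algebraMap_smul, TensorProduct.smul_tmul, ha m,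
            TensorProduct.tmul_zero]
        | add x y hx hy => rw [smul_add, hx, hy, add_zero]
    exact Order.krullDim_le_of_strictMono
      (fun p => (⟨p.1, (PrimeSpectrum.mem_zeroLocus _ _).mpr (SetLike.coe_subset_coe.mpr
        (hKann.trans (Module.annihilator_le_of_mem_support p.2)))⟩ :
          PrimeSpectrum.zeroLocus (K : Set B))) (fun _ _ h => h)
  have step2 := Groth.Agent.Lib.Helper9.dim_le_of_localHom (A ⧸ Module.annihilator A M) (B ⧸ K) f
  have step3 : ringKrullDim ((B ⧸ K) ⧸
      (IsLocalRing.maximalIdeal (A ⧸ Module.annihilator A M)).map f) ≤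
      Module.supportDim B (N ⧸ ((IsLocalRing.maximalIdeal A).map (algebraMap A B) •
        (⊤ : Submodule B N))) := by
    have e1 : Module.supportDim B (N ⧸ ((IsLocalRing.maximalIdeal A).map (algebraMap A B) •
        (⊤ : Submodule B N))) = ringKrullDim (B ⧸ (Module.annihilator B N ⊔
          (IsLocalRing.maximalIdeal A).map (algebraMap A B))) := by
      unfold Module.supportDim
      rw [Module.support_quotient, Module.support_eq_zeroLocus, ← PrimeSpectrum.zeroLocus_sup,
        ← ringKrullDim_quotient]
    rw [e1]
    set Q := (IsLocalRing.maximalIdeal (A ⧸ Module.annihilator A M)).map f with hQ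
    have hle : Module.annihilator B N ⊔ (IsLocalRing.maximalIdeal A).map (algebraMap A B) ≤
        RingHom.ker ((Ideal.Quotient.mk Q).comp (Ideal.Quotient.mk K)) := by
      refine sup_le ?_ (Ideal.map_le_iff_le_comap.mpr ?_)
      · intro b hb
        have hbK : b ∈ K := Ideal.mem_sup_left hb
        rw [RingHom.mem_ker, RingHom.comp_apply, Ideal.Quotient.eq_zero_iff_mem.mpr hbK, map_zero]
      · intro a ha
        rw [Ideal.mem_comap, RingHom.mem_ker, RingHom.comp_apply, Ideal.Quotient.eq_zero_iff_mem]
        have e2 : Ideal.Quotient.mk K (algebraMap A B a) = f (Ideal.Quotient.mk _ a) := by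
          rw [hf, Ideal.quotientMap_mk]
        rw [e2]
        apply Ideal.mem_map_of_mem
        rw [IsLocalRing.mem_maximalIdeal, mem_nonunits_iff] at ha ⊢
        exact fun hu => ha (isUnit_of_map_unit (Ideal.Quotient.mk _) a hu)
    exact ringKrullDim_le_of_surjective (Ideal.Quotient.lift _ _ (fun b hb => hle hb))
      (Ideal.Quotient.lift_surjective_of_surjective _ _
        ((Ideal.Quotient.mk_surjective).comp Ideal.Quotient.mk_surjective))
  calc _ ≤ ringKrullDim (B ⧸ K) := step1
    _ ≤ _ := step2
    _ ≤ _ := add_le_add
      (le_of_eq (Module.supportDim_eq_ringKrullDim_quotient_annihilator A M).symm) step3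

end Groth.Agent.S5770
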