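import Groth.Statements.S5771
import Groth.Agent.Lib.Helper9.CommAlg

set_option autoImplicit false
universe u
open EGA41

namespace Groth.Agent.S5771

/-- Let φ : A → B be a local homomorphism of Noetherian local rings, m the maximal ideal of A, and
suppose mB is an ideal of definition of B (equivalently dim(B/mB) = 0). Then dim(B) ≤ dim(A); if
moreover A is an integral domain and dim(A) = dim(B), then φ is injective. -/
theorem result (A B : Type u) [CommRing A] [CommRing B]
    [IsLocalRing A] [IsLocalRing B] [IsNoetherianRing A] [IsNoetherianRing B] [Algebra A B]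
    [IsLocalHom (algebraMap A B)]
    (hdef : ringKrullDim (B ⧸ (IsLocalRing.maximalIdeal A).map (algebraMap A B)) = 0) :
    ringKrullDim B ≤ ringKrullDim A ∧
      (IsDomain A → ringKrullDim A = ringKrullDim B → Function.Injective (algebraMap A B)) := by
  refine ⟨?_, ?_⟩
  · have h := Groth.Agent.Lib.Helper9.dim_le_of_localHom A B (algebraMap A B)
    rw [hdef, add_zero] at h
    exact h
  · intro hdom heq
    rw [injective_iff_map_eq_zero]
    intro a ha
    by_contra hne
    have hK : RingHom.ker (algebraMap A B) ≠ ⊤ := RingHom.ker_ne_top (algebraMap A B)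
    haveI : Nontrivial (A ⧸ RingHom.ker (algebraMap A B)) := Ideal.Quotient.nontrivial_iff.mpr hK
    haveI : IsLocalRing (A ⧸ RingHom.ker (algebraMap A B)) :=
      IsLocalRing.of_surjective' (Ideal.Quotient.mk _) Ideal.Quotient.mk_surjective
    haveI : IsLocalHom (RingHom.kerLift (algebraMap A B)) := ⟨by
      intro x hx
      obtain ⟨a', rfl⟩ := Ideal.Quotient.mk_surjective x
      rw [RingHom.kerLift_mk] at hx
      exact (isUnit_of_map_unit (algebraMap A B) a' hx).map _⟩
    have h1 := Groth.Agent.Lib.Helper9.dim_le_of_localHom (A ⧸ RingHom.ker (algebraMap A B)) B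
      (RingHom.kerLift (algebraMap A B))
    have hIJ : (IsLocalRing.maximalIdeal A).map (algebraMap A B) ≤
        (IsLocalRing.maximalIdeal (A ⧸ RingHom.ker (algebraMap A B))).map
          (RingHom.kerLift (algebraMap A B)) := by
      rw [Ideal.map_le_iff_le_comap]
      intro a' ha'
      rw [Ideal.mem_comap]
      have e1 : algebraMap A B a' = RingHom.kerLift (algebraMap A B) (Ideal.Quotient.mk _ a') :=
        (RingHom.kerLift_mk (algebraMap A B) a').symm
      rw [e1]
      apply Ideal.mem_map_of_mem
      rw [IsLocalRing.mem_maximalIdeal, mem_nonunits_iff] at ha' ⊢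
      intro hu
      apply ha'
      have hu' : IsUnit (RingHom.kerLift (algebraMap A B) (Ideal.Quotient.mk _ a')) := hu.map _
      rw [RingHom.kerLift_mk] at hu'
      exact isUnit_of_map_unit (algebraMap A B) a' hu'
    have h2 : ringKrullDim (B ⧸ (IsLocalRing.maximalIdeal (A ⧸ RingHom.ker (algebraMap A B))).map
        (RingHom.kerLift (algebraMap A B))) ≤ 0 := by
      rw [← hdef]
      exact ringKrullDim_le_of_surjective (Ideal.Quotient.factor hIJ)
        (Ideal.Quotient.factor_surjective hIJ)
    haveI := hdom
    have h3 : ringKrullDim (A ⧸ RingHom.ker (algebraMap A B)) + 1 ≤ ringKrullDim A :=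
      ringKrullDim_succ_le_of_surjective (Ideal.Quotient.mk _) Ideal.Quotient.mk_surjective
        (r := a) (mem_nonZeroDivisors_of_ne_zero hne)
        (by rw [Ideal.Quotient.eq_zero_iff_mem]; exact ha)
    have h4 : ringKrullDim B ≤ ringKrullDim (A ⧸ RingHom.ker (algebraMap A B)) := by
      calc ringKrullDim B ≤ _ + _ := h1
        _ ≤ ringKrullDim (A ⧸ RingHom.ker (algebraMap A B)) + 0 := add_le_add le_rfl h2
        _ = _ := add_zero _
    have h5 : ringKrullDim B + 1 ≤ ringKrullDim B := by
      calc ringKrullDim B + 1 ≤ ringKrullDim (A ⧸ RingHom.ker (algebraMap A B)) + 1 :=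
            add_le_add h4 le_rfl
        _ ≤ ringKrullDim A := h3
        _ = ringKrullDim B := heq
    exact Groth.Agent.Lib.Helper9.absurd_add_one_le ringKrullDim_ne_bot ringKrullDim_ne_top h5

end Groth.Agent.S5771
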