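import Groth.Statements.S5773
import Mathlib
import Groth.Agent.Lib.Helper9.RegFlat

set_option autoImplicit false
universe u
open EGA41

namespace Groth.Agent.S5773


open TensorProduct RingTheory.Sequence
open scoped Pointwise
open Groth.Agent.Lib.Helper9.RegFlat Groth.Agent.Lib.Helper9.FlatCoker

theorem main (A B : Type u) [CommRing A] [CommRing B]
    [IsLocalRing A] [IsLocalRing B] [IsNoetherianRing A] [IsNoetherianRing B] [Algebra A B]
    [IsLocalHom (algebraMap A B)] (fs : List B) :
    ∀ (M : Type u) [AddCommGroup M] [Module B M] [Module A M]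
    [IsScalarTower A B M] [Module.Finite B M],
    (∀ f ∈ fs, f ∈ IsLocalRing.maximalIdeal B) →
    RingTheory.Sequence.IsWeaklyRegular M fs →
    Module.Flat A (M ⧸ (Ideal.ofList fs • (⊤ : Submodule B M))) →
      ∀ i ≤ fs.length, Module.Flat A (M ⧸ (Ideal.ofList (fs.take i) • (⊤ : Submodule B M))) := by
  induction fs with
  | nil =>
    intro M _ _ _ _ _ _ _ hflat i _
    have h0 : ([] : List B).take i = [] := List.take_nil
    rw [h0]
    exact hflat
  | cons f fs ih =>
    intro M _ _ _ _ _ hfs hreg hflat i hi
    rw [isWeaklyRegular_cons_iff] at hreg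
    obtain ⟨hf, hreg'⟩ := hreg
    haveI := hflat
    haveI : Module.Flat A
        (QuotSMulTop f M ⧸ (Ideal.ofList fs • (⊤ : Submodule B (QuotSMulTop f M)))) :=
      Module.Flat.of_linearEquiv
        ((Submodule.quotOfListConsSMulTopEquivQuotSMulTopInner M f fs).symm.restrictScalars A)
    have ih' := ih (QuotSMulTop f M) (fun g hg => hfs g (List.mem_cons_of_mem _ hg)) hreg'
      inferInstance
    haveI hM' : Module.Flat A (QuotSMulTop f M) := by
      haveI h0 := ih' 0 (Nat.zero_le _)
      have hp : Ideal.ofList (fs.take 0) • (⊤ : Submodule B (QuotSMulTop f M)) = ⊥ := by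
        rw [List.take_zero, Ideal.ofList_nil, Submodule.bot_smul]
      exact Module.Flat.of_linearEquiv ((Submodule.quotEquivOfEqBot _ hp).symm.restrictScalars A)
    haveI hM : Module.Flat A M := flat_of_flat_quotSMulTop M f (hfs f List.mem_cons_self) hf
    cases i with
    | zero =>
      have hp : Ideal.ofList ((f :: fs).take 0) • (⊤ : Submodule B M) = ⊥ := by
        rw [List.take_zero, Ideal.ofList_nil, Submodule.bot_smul]
      exact Module.Flat.of_linearEquiv ((Submodule.quotEquivOfEqBot _ hp).restrictScalars A)
    | succ j =>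
      haveI := ih' j (Nat.le_of_succ_le_succ hi)
      exact Module.Flat.of_linearEquiv
        ((Submodule.quotOfListConsSMulTopEquivQuotSMulTopInner M f (fs.take j)).restrictScalars A)

/-- Let A → B be a local homomorphism of Noetherian local rings, M a finitely generated B-module and
f_1, ..., f_n elements of the maximal ideal of B forming an M-regular sequence. If the quotient
M/(f_1 M + ... + f_n M) is flat over A, then all the quotients M/(f_1 M + ... + f_i M) for 0 ≤ i ≤ n
(in particular M) are flat over A. -/
theorem result (A B : Type u) [CommRing A] [CommRing B]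
    [IsLocalRing A] [IsLocalRing B] [IsNoetherianRing A] [IsNoetherianRing B] [Algebra A B]
    [IsLocalHom (algebraMap A B)] (M : Type u) [AddCommGroup M] [Module B M] [Module A M]
    [IsScalarTower A B M] [Module.Finite B M] (fs : List B) (hfs : ∀ f ∈ fs, f ∈ IsLocalRing.maximalIdeal B)
    (hreg : RingTheory.Sequence.IsWeaklyRegular M fs)
    (hflat : Module.Flat A (M ⧸ (Ideal.ofList fs • (⊤ : Submodule B M)))) (i : ℕ) (hi : i ≤ fs.length) :
    Module.Flat A (M ⧸ (Ideal.ofList (fs.take i) • (⊤ : Submodule B M))) := by
  exact main A B fs M hfs hreg hflat i hi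

end Groth.Agent.S5773
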