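import Groth.Statements.S5775
import Mathlib
import Groth.Agent.Lib.Helper9.RegFlat
import Groth.Agent.S5774

set_option autoImplicit false
universe u
open EGA41

namespace Groth.Agent.S5775


open TensorProduct RingTheory.Sequence
open scoped Pointwise
open Groth.Agent.Lib.Helper9.RegFlat Groth.Agent.Lib.Helper9.FlatCoker

/-- Let A → B be a local homomorphism of Noetherian local rings, m the maximal ideal of A, M a finitely
generated B-module flat over A and R a B-submodule of M such that M/R is flat over A. Let f_1, ...,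
f_n be elements of the maximal ideal of B such that (i) f_i M ⊆ R for all i, (ii) the images of the
f_i form an (M/mM)-regular sequence, and (iii) the submodule f_1 (M/mM) + ... + f_n (M/mM) is the
image of R in M/mM. Then (f_i) is an M-regular sequence and R = f_1 M + ... + f_n M. -/
theorem result (A B : Type u) [CommRing A] [CommRing B] [IsLocalRing A]
    [IsLocalRing B] [IsNoetherianRing A] [IsNoetherianRing B] [Algebra A B] [IsLocalHom (algebraMap A B)]
    (M : Type u) [AddCommGroup M] [Module B M] [Module A M] [IsScalarTower A B M] [Module.Finite B M]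
    [Module.Flat A M] (R : Submodule B M) (hR : Module.Flat A (M ⧸ R)) (fs : List B)
    (hfs : ∀ f ∈ fs, f ∈ IsLocalRing.maximalIdeal B) (h1 : Ideal.ofList fs • (⊤ : Submodule B M) ≤ R)
    (h2 : RingTheory.Sequence.IsWeaklyRegular
      (M ⧸ ((IsLocalRing.maximalIdeal A).map (algebraMap A B) • (⊤ : Submodule B M))) fs)
    (h3 : Ideal.ofList fs • (⊤ : Submodule B
        (M ⧸ ((IsLocalRing.maximalIdeal A).map (algebraMap A B) • (⊤ : Submodule B M)))) =
      R.map ((IsLocalRing.maximalIdeal A).map (algebraMap A B) • (⊤ : Submodule B M)).mkQ) :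
    RingTheory.Sequence.IsWeaklyRegular M fs ∧ R = Ideal.ofList fs • (⊤ : Submodule B M) := by
  obtain ⟨hregM, -⟩ := Groth.Agent.S5774.result A B M fs h2
  refine ⟨hregM, le_antisymm ?_ h1⟩
  haveI := hR
  have hI : (IsLocalRing.maximalIdeal A).map (algebraMap A B) ≤ Ideal.jacobson ⊥ :=
    map_maximalIdeal_le_jacobson
  haveI : IsNoetherian B M := isNoetherian_of_isNoetherianRing_of_finite B M
  have hRfg : R.FG := IsNoetherian.noetherian R
  apply Submodule.le_of_le_smul_of_le_jacobson_bot hRfg hI
  intro x hx
  have hx1 : ((IsLocalRing.maximalIdeal A).map (algebraMap A B) • (⊤ : Submodule B M)).mkQ x ∈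
      R.map ((IsLocalRing.maximalIdeal A).map (algebraMap A B) • (⊤ : Submodule B M)).mkQ :=
    Submodule.mem_map_of_mem hx
  rw [← h3] at hx1
  have h4 : Ideal.ofList fs • (⊤ : Submodule B
        (M ⧸ ((IsLocalRing.maximalIdeal A).map (algebraMap A B) • (⊤ : Submodule B M)))) =
      (Ideal.ofList fs • (⊤ : Submodule B M)).map
        ((IsLocalRing.maximalIdeal A).map (algebraMap A B) • (⊤ : Submodule B M)).mkQ := by
    rw [Submodule.map_smul'', Submodule.map_top, Submodule.range_mkQ]
  rw [h4] at hx1
  obtain ⟨r', hr', hr'x⟩ := hx1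
  have hy : x - r' ∈ (IsLocalRing.maximalIdeal A).map (algebraMap A B) • (⊤ : Submodule B M) := by
    rw [← Submodule.ker_mkQ ((IsLocalRing.maximalIdeal A).map (algebraMap A B) •
      (⊤ : Submodule B M)), LinearMap.mem_ker, map_sub, hr'x, sub_self]
  have hyR : x - r' ∈ R := sub_mem hx (h1 hr')
  have hy' := mem_smul_of_flat_quotient (IsLocalRing.maximalIdeal A) R hyR
    ((mem_map_smul_top_iff _).mp hy)
  have hxe : x = r' + (x - r') := by abel
  rw [hxe]
  exact Submodule.add_mem_sup hr' hy'

end Groth.Agent.S5775
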