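import Groth.Statements.S5776
import Mathlib.RingTheory.Regular.IsSMulRegular
import Mathlib.RingTheory.QuotSMulTop
import Mathlib.Algebra.Exact.Basic

set_option autoImplicit false
universe u
open EGA41

namespace Groth.Agent.S5776


open RingTheory.Sequence Pointwise in
theorem isWeaklyRegular_of_exact {R : Type u} [CommRing R] (rs : List R) :
    ∀ {N' N N'' : Type u} [AddCommGroup N'] [Module R N'] [AddCommGroup N] [Module R N]
      [AddCommGroup N''] [Module R N'']
      (f : N' →ₗ[R] N) (g : N →ₗ[R] N'') (_ : Function.Injective f) (_ : Function.Exact f g)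
      (_ : Function.Surjective g) (_ : IsWeaklyRegular N' rs) (_ : IsWeaklyRegular N'' rs),
      IsWeaklyRegular N rs := by
  induction rs with
  | nil => intros; exact IsWeaklyRegular.nil R _
  | cons r rs ih =>
    intro N' N N'' _ _ _ _ _ _ f g hf hfg hg h1 h2
    rw [isWeaklyRegular_cons_iff] at h1 h2 ⊢
    obtain ⟨h1r, h1s⟩ := h1
    obtain ⟨h2r, h2s⟩ := h2
    refine ⟨isSMulRegular_of_range_eq_ker hf (LinearMap.exact_iff.mp hfg).symm h1r h2r, ?_⟩
    refine ih (QuotSMulTop.map r f) (QuotSMulTop.map r g) ?_ (QuotSMulTop.map_exact r hfg hg)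
      (QuotSMulTop.map_surjective r hg) h1s h2s
    have h0 : Function.Exact (0 : PUnit.{u + 1} →ₗ[R] N') f :=
      (LinearMap.exact_zero_iff_injective _ f).mpr hf
    have h3 := QuotSMulTop.map_first_exact_on_four_term_exact_of_isSMulRegular_last h0 hfg h2r
    rw [map_zero] at h3
    exact (LinearMap.exact_zero_iff_injective _ _).mp h3

open RingTheory.Sequence Pointwise in
theorem isWeaklyRegular_mul_cons {R : Type u} [CommRing R] {M : Type u} [AddCommGroup M]
    [Module R M] (a b : R) (rs : List R) (ha : IsWeaklyRegular M (a :: rs))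
    (hb : IsWeaklyRegular M (b :: rs)) : IsWeaklyRegular M (a * b :: rs) := by
  rw [isWeaklyRegular_cons_iff] at ha hb ⊢
  obtain ⟨ha1, ha2⟩ := ha
  obtain ⟨hb1, hb2⟩ := hb
  refine ⟨ha1.mul hb1, ?_⟩
  have hle1 : (a • ⊤ : Submodule R M) ≤
      ((a * b) • ⊤ : Submodule R M).comap (LinearMap.lsmul R M b) := by
    intro m hm
    obtain ⟨m', -, rfl⟩ := (Submodule.mem_smul_pointwise_iff_exists _ _ _).mp hm
    rw [Submodule.mem_comap]
    show b • a • m' ∈ _
    rw [smul_smul, mul_comm b a]
    exact Submodule.smul_mem_pointwise_smul m' (a * b) ⊤ Submodule.mem_top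
  have hle2 : ((a * b) • ⊤ : Submodule R M) ≤ (b • ⊤ : Submodule R M).comap LinearMap.id := by
    intro m hm
    obtain ⟨m', -, rfl⟩ := (Submodule.mem_smul_pointwise_iff_exists _ _ _).mp hm
    rw [Submodule.mem_comap, LinearMap.id_apply, mul_comm, mul_smul]
    exact Submodule.smul_mem_pointwise_smul _ b ⊤ Submodule.mem_top
  have hf_apply : ∀ m : M, Submodule.mapQ _ _ (LinearMap.lsmul R M b) hle1
      (Submodule.Quotient.mk m) = Submodule.Quotient.mk (b • m) := fun m => rfl
  have hg_apply : ∀ m : M, Submodule.mapQ _ _ LinearMap.id hle2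
      (Submodule.Quotient.mk m) = Submodule.Quotient.mk m := fun m => rfl
  refine isWeaklyRegular_of_exact rs (Submodule.mapQ _ _ (LinearMap.lsmul R M b) hle1)
    (Submodule.mapQ _ _ LinearMap.id hle2) ?_ ?_ ?_ ha2 hb2
  · rw [injective_iff_map_eq_zero]
    intro x hx
    obtain ⟨m, rfl⟩ := Submodule.Quotient.mk_surjective _ x
    rw [hf_apply, Submodule.Quotient.mk_eq_zero] at hx
    obtain ⟨m', -, hm'⟩ := (Submodule.mem_smul_pointwise_iff_exists _ _ _).mp hx
    have h1 : b • (a • m') = b • m := by rw [← hm', smul_smul, mul_comm b a]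
    have h2 : a • m' = m := hb1 h1
    rw [Submodule.Quotient.mk_eq_zero, ← h2]
    exact Submodule.smul_mem_pointwise_smul m' a ⊤ Submodule.mem_top
  · intro y
    obtain ⟨m, rfl⟩ := Submodule.Quotient.mk_surjective _ y
    constructor
    · intro hy
      rw [hg_apply, Submodule.Quotient.mk_eq_zero] at hy
      obtain ⟨m', -, hm'⟩ := (Submodule.mem_smul_pointwise_iff_exists _ _ _).mp hy
      exact ⟨Submodule.Quotient.mk m', by rw [hf_apply, hm']⟩
    · rintro ⟨x, hx⟩
      obtain ⟨m', rfl⟩ := Submodule.Quotient.mk_surjective _ x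
      rw [← hx, hf_apply, hg_apply, Submodule.Quotient.mk_eq_zero]
      exact Submodule.smul_mem_pointwise_smul m' b ⊤ Submodule.mem_top
  · intro y
    obtain ⟨m, rfl⟩ := Submodule.Quotient.mk_surjective _ y
    exact ⟨Submodule.Quotient.mk m, hg_apply m⟩

open RingTheory.Sequence in
theorem isWeaklyRegular_pow_cons {R : Type u} [CommRing R] {M : Type u} [AddCommGroup M]
    [Module R M] (a : R) (rs : List R) (v : ℕ) (hv : 1 ≤ v) (h : IsWeaklyRegular M (a :: rs)) :
    IsWeaklyRegular M (a ^ v :: rs) := by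
  induction v, hv using Nat.le_induction with
  | base => simpa using h
  | succ v hv ih =>
    rw [pow_succ]
    exact isWeaklyRegular_mul_cons _ _ rs ih h

/-- Let A be a ring, M an A-module and (f_i)_{1 ≤ i ≤ n} an M-regular sequence of elements of A. Then
for any exponents v_i ≥ 1 the sequence (f_i ^ v_i) is again M-regular. -/
theorem result (A : Type u) [CommRing A] (M : Type u) [AddCommGroup M]
    [Module A M] (n : ℕ) (f : Fin n → A) (v : Fin n → ℕ) (hv : ∀ i, 1 ≤ v i)
    (hf : RingTheory.Sequence.IsWeaklyRegular M (List.ofFn f)) :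
    RingTheory.Sequence.IsWeaklyRegular M (List.ofFn fun i => f i ^ v i) := by
  induction n generalizing M with
  | zero =>
    simp only [List.ofFn_zero]
    exact RingTheory.Sequence.IsWeaklyRegular.nil A M
  | succ n ih =>
    rw [List.ofFn_succ] at hf ⊢
    rw [RingTheory.Sequence.isWeaklyRegular_cons_iff] at hf
    have h2 := ih (QuotSMulTop (f 0) M) (fun i => f i.succ) (fun i => v i.succ)
      (fun i => hv i.succ) hf.2
    have h3 : RingTheory.Sequence.IsWeaklyRegular M
        (f 0 :: List.ofFn fun i : Fin n => f i.succ ^ v i.succ) := by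
      rw [RingTheory.Sequence.isWeaklyRegular_cons_iff]
      exact ⟨hf.1, h2⟩
    exact isWeaklyRegular_pow_cons (f 0) _ (v 0) (hv 0) h3

end Groth.Agent.S5776
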