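import Groth.Statements.S5777
import Mathlib
import Groth.Agent.Lib.Helper9.RegFlat

set_option autoImplicit false
universe u
open EGA41

namespace Groth.Agent.S5777


open TensorProduct RingTheory.Sequence
open scoped Pointwise
open Groth.Agent.Lib.Helper9.RegFlat Groth.Agent.Lib.Helper9.FlatCoker

/-- Let φ : A → B be a local homomorphism of Noetherian local rings, M a finitely generated B-module and
(f_i)_{1 ≤ i ≤ n} an A-regular sequence of elements of the maximal ideal of A, generating the ideal
J. Then M is flat over A if and only if M/JM is flat over A/J and (f_i) is an M-regular sequence. -/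
theorem result (A B : Type u) [CommRing A] [CommRing B]
    [IsLocalRing A] [IsLocalRing B] [IsNoetherianRing A] [IsNoetherianRing B] [Algebra A B]
    [IsLocalHom (algebraMap A B)] (M : Type u) [AddCommGroup M] [Module B M] [Module A M]
    [IsScalarTower A B M] [Module.Finite B M] (fs : List A) (hfs : ∀ f ∈ fs, f ∈ IsLocalRing.maximalIdeal A)
    (hA : RingTheory.Sequence.IsWeaklyRegular A fs) :
    Module.Flat A M ↔
      Module.Flat (A ⧸ Ideal.ofList fs) (M ⧸ (Ideal.ofList fs • (⊤ : Submodule A M))) ∧
        RingTheory.Sequence.IsWeaklyRegular M fs := by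
  have hsurj : Function.Surjective (algebraMap A (A ⧸ Ideal.ofList fs)) :=
    Ideal.Quotient.mk_surjective
  let e : ((A ⧸ Ideal.ofList fs) ⊗[A] M) ≃ₗ[A ⧸ Ideal.ofList fs]
      (M ⧸ (Ideal.ofList fs • (⊤ : Submodule A M))) :=
    (TensorProduct.quotTensorEquivQuotSMul M (Ideal.ofList fs)).extendScalarsOfSurjective hsurj
  constructor
  · intro hM
    refine ⟨Module.Flat.of_linearEquiv e.symm, ?_⟩
    exact ((TensorProduct.lid A M).isWeaklyRegular_congr fs).mp
      (hA.isWeaklyRegular_rTensor (M₂ := M))
  · rintro ⟨hflat, hM⟩
    have hJ : (Ideal.ofList fs).map (algebraMap A B) ≤ Ideal.jacobson ⊥ := by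
      refine le_trans (Ideal.map_mono ?_) map_maximalIdeal_le_jacobson
      exact Ideal.span_le.mpr fun f hf => hfs f hf
    refine Groth.Agent.Lib.Helper8.flat_of_local_criterion_of_finite (A := A) (B := B)
      (Ideal.ofList fs) hJ M (Module.Flat.of_linearEquiv e) ?_
    rw [← mu_injective_iff]
    have h := mu_injective_ofList M fs hM fs.length le_rfl
    rwa [List.take_length] at h

end Groth.Agent.S5777
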