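import Groth.Statements.S5779
import Groth.Agent.Lib.Helper9.RegLocal

set_option autoImplicit false
universe u
open EGA41

namespace Groth.Agent.S5779

open Groth.Agent.Lib.Helper9.RegLocal

/-- Let A be a Noetherian local ring with maximal ideal m and residue field k, (x_i)_{1 ≤ i ≤ r}
elements of m and J = x_1 A + ... + x_r A. Then A is regular with the classes of the x_i in m/m²
linearly independent over k (equivalently: the x_i are part of a regular system of parameters) if
and only if the x_i are part of a system of parameters of A (dim(A/J) = dim(A) - r) and A/J is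
regular. When these conditions hold, J is a prime ideal. -/
theorem result (A : Type u) [CommRing A] [IsLocalRing A]
    [IsNoetherianRing A] (r : ℕ) (x : Fin r → IsLocalRing.maximalIdeal A) :
    ((IsRegularLocalRing A ∧
        LinearIndependent (IsLocalRing.ResidueField A)
          (fun i => (IsLocalRing.maximalIdeal A).toCotangent (x i))) ↔
      (ringKrullDim (A ⧸ Ideal.span (Set.range fun i => (x i : A))) + r = ringKrullDim A ∧
        IsRegularLocalRing (A ⧸ Ideal.span (Set.range fun i => (x i : A))))) ∧
    (IsRegularLocalRing (A ⧸ Ideal.span (Set.range fun i => (x i : A))) →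
      ringKrullDim (A ⧸ Ideal.span (Set.range fun i => (x i : A))) + r = ringKrullDim A →
        (Ideal.span (Set.range fun i => (x i : A))).IsPrime) := by
  refine ⟨⟨fun ⟨hreg, hli⟩ => ?_, fun ⟨hdim, hreg⟩ => ?_⟩, fun hreg _ => ?_⟩
  · haveI := hreg
    exact quotient_regular A r x hli
  · haveI := hreg
    exact regular_of_quotient_regular A r x hdim
  · haveI := hreg
    haveI := isDomain_of_isRegularLocalRing
      (A ⧸ Ideal.span (Set.range fun i => (x i : A)))
    exact (Ideal.Quotient.isDomain_iff_prime _).mp inferInstance

end Groth.Agent.S5779
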