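import Groth.Statements.S5780
import Mathlib.RingTheory.Ideal.AssociatedPrime.Finiteness
import Mathlib.RingTheory.Nakayama
import Mathlib.RingTheory.LocalRing.MaximalIdeal.Basic

set_option autoImplicit false
universe u
open EGA41

namespace Groth.Agent.S5780

/-- Let A be a Noetherian local ring with maximal ideal m. If every element of m which is not in m² is a
zero divisor in A, then there is a nonzero c in A with c m = 0, i.e. m is an associated prime of A. -/
theorem result (A : Type u) [CommRing A]
    [IsLocalRing A] [IsNoetherianRing A]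
    (h : ∀ a ∈ IsLocalRing.maximalIdeal A, a ∉ IsLocalRing.maximalIdeal A ^ 2 → ¬ IsSMulRegular A a) :
    IsLocalRing.maximalIdeal A ∈ associatedPrimes A A := by
  classical
  have hfin : (associatedPrimes A A).Finite := associatedPrimes.finite A A
  have hcover : ((IsLocalRing.maximalIdeal A : Ideal A) : Set A) ⊆
      ⋃ i ∈ (insert (IsLocalRing.maximalIdeal A ^ 2) (associatedPrimes A A)),
        ((id i : Ideal A) : Set A) := by
    intro x hx
    by_cases hx2 : x ∈ IsLocalRing.maximalIdeal A ^ 2
    · exact Set.mem_biUnion (Set.mem_insert _ _) hx2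
    · have hnr := h x hx hx2
      have hmem : x ∈ ⋃ p ∈ associatedPrimes A A, (p : Set A) := by
        rw [biUnion_associatedPrimes_eq_compl_regular]; exact hnr
      obtain ⟨p, hp, hxp⟩ := Set.mem_iUnion₂.mp hmem
      exact Set.mem_biUnion (Set.mem_insert_of_mem _ hp) hxp
  rw [Ideal.subset_union_prime_finite (hfin.insert _) (IsLocalRing.maximalIdeal A ^ 2)
    (IsLocalRing.maximalIdeal A ^ 2)] at hcover
  swap
  · intro i hi hne _
    rcases Set.mem_insert_iff.mp hi with rfl | hi
    · exact absurd rfl hne
    · exact (AssociatedPrimes.mem_iff.mp hi).isPrime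
  obtain ⟨i, hi, hle⟩ := hcover
  rcases Set.mem_insert_iff.mp hi with rfl | hi
  · have hbot : IsLocalRing.maximalIdeal A = ⊥ := by
      apply Submodule.eq_bot_of_le_smul_of_le_jacobson_bot (IsLocalRing.maximalIdeal A)
        (IsLocalRing.maximalIdeal A) (IsNoetherian.noetherian _)
      · simpa [pow_two] using hle
      · exact IsLocalRing.maximalIdeal_le_jacobson ⊥
    rw [AssociatedPrimes.mem_iff, isAssociatedPrime_iff]
    refine ⟨(IsLocalRing.maximalIdeal.isMaximal A).isPrime, 1, ?_⟩
    rw [hbot]
    ext r
    simp [Submodule.mem_colon_singleton]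
  · have hip : i.IsPrime := (AssociatedPrimes.mem_iff.mp hi).isPrime
    have : i = IsLocalRing.maximalIdeal A :=
      le_antisymm (IsLocalRing.le_maximalIdeal hip.ne_top) hle
    rw [← this]; exact hi

end Groth.Agent.S5780
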