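import Groth.Statements.S5781
import Mathlib.RingTheory.Ideal.Cotangent
import Mathlib.LinearAlgebra.Basis.VectorSpace

set_option autoImplicit false
universe u
open EGA41

namespace Groth.Agent.S5781

open scoped Pointwise

/-- Suppose A is a Noetherian local ring whose maximal ideal is m, and take a ∈ m with a ∉ m². Then the
quotient m/am contains a direct summand isomorphic to m/Aa: concretely, one can find A-linear maps f
: m/Aa → m/am and g : m/am → m/Aa such that g ∘ f is the identity. -/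
theorem result (A : Type u) [CommRing A] [IsLocalRing A]
    [IsNoetherianRing A] (a : A) (ha : a ∈ IsLocalRing.maximalIdeal A) (ha2 : a ∉ IsLocalRing.maximalIdeal A ^ 2) :
    ∃ (f : (↥(IsLocalRing.maximalIdeal A) ⧸ Submodule.span A {(⟨a, ha⟩ : ↥(IsLocalRing.maximalIdeal A))}) →ₗ[A]
          QuotSMulTop a ↥(IsLocalRing.maximalIdeal A))
      (g : QuotSMulTop a ↥(IsLocalRing.maximalIdeal A) →ₗ[A]
          (↥(IsLocalRing.maximalIdeal A) ⧸ Submodule.span A {(⟨a, ha⟩ : ↥(IsLocalRing.maximalIdeal A))})),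
      g.comp f = LinearMap.id := by
  classical
  have hā : (IsLocalRing.maximalIdeal A).toCotangent ⟨a, ha⟩ ≠ 0 := by
    rw [Ne, Ideal.toCotangent_eq_zero]; exact ha2
  obtain ⟨φ, hφ⟩ := LinearMap.exists_leftInverse_of_injective
    (LinearMap.toSpanSingleton (IsLocalRing.ResidueField A) (IsLocalRing.CotangentSpace A)
      ((IsLocalRing.maximalIdeal A).toCotangent ⟨a, ha⟩))
    (LinearMap.ker_toSpanSingleton (IsLocalRing.ResidueField A) hā)
  let φA : ↥(IsLocalRing.maximalIdeal A) →ₗ[A] IsLocalRing.ResidueField A :=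
    (φ.restrictScalars A).comp (IsLocalRing.maximalIdeal A).toCotangent
  have hφa : φA ⟨a, ha⟩ = 1 := by
    have := LinearMap.congr_fun hφ 1
    simpa [φA] using this
  have hker : IsLocalRing.maximalIdeal A ≤ LinearMap.ker (LinearMap.toSpanSingleton A
      (QuotSMulTop a ↥(IsLocalRing.maximalIdeal A))
      (Submodule.Quotient.mk (⟨a, ha⟩ : ↥(IsLocalRing.maximalIdeal A)))) := by
    intro c hc
    rw [LinearMap.mem_ker, LinearMap.toSpanSingleton_apply, ← Submodule.Quotient.mk_smul,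
      Submodule.Quotient.mk_eq_zero, Submodule.mem_smul_pointwise_iff_exists]
    exact ⟨⟨c, hc⟩, Submodule.mem_top, Subtype.ext (by simp [mul_comm])⟩
  let ψ : IsLocalRing.ResidueField A →ₗ[A] QuotSMulTop a ↥(IsLocalRing.maximalIdeal A) :=
    Submodule.liftQ (IsLocalRing.maximalIdeal A) _ hker
  have hψ : ∀ c : A, ψ (IsLocalRing.residue A c) =
      c • (Submodule.Quotient.mk (⟨a, ha⟩ : ↥(IsLocalRing.maximalIdeal A)) :
        QuotSMulTop a ↥(IsLocalRing.maximalIdeal A)) := fun c => rfl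
  let s : ↥(IsLocalRing.maximalIdeal A) →ₗ[A] QuotSMulTop a ↥(IsLocalRing.maximalIdeal A) :=
    Submodule.mkQ _ - ψ.comp φA
  have hs : Submodule.span A {(⟨a, ha⟩ : ↥(IsLocalRing.maximalIdeal A))} ≤ LinearMap.ker s := by
    rw [Submodule.span_le, Set.singleton_subset_iff]
    show s ⟨a, ha⟩ = 0
    have h1 : ψ (φA ⟨a, ha⟩) = Submodule.Quotient.mk (⟨a, ha⟩ : ↥(IsLocalRing.maximalIdeal A)) := by
      rw [hφa, ← map_one (IsLocalRing.residue A), hψ, one_smul]
    simp only [s, LinearMap.sub_apply, LinearMap.comp_apply, h1, Submodule.mkQ_apply, sub_self]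
  have hg : a • (⊤ : Submodule A ↥(IsLocalRing.maximalIdeal A)) ≤
      LinearMap.ker (Submodule.mkQ
        (Submodule.span A {(⟨a, ha⟩ : ↥(IsLocalRing.maximalIdeal A))})) := by
    intro y hy
    obtain ⟨x, -, rfl⟩ := (Submodule.mem_smul_pointwise_iff_exists _ _ _).mp hy
    rw [Submodule.ker_mkQ, Submodule.mem_span_singleton]
    exact ⟨x.1, Subtype.ext (by simp [mul_comm])⟩
  let f := Submodule.liftQ _ s hs
  let g : QuotSMulTop a ↥(IsLocalRing.maximalIdeal A) →ₗ[A] _ := Submodule.liftQ _ _ hg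
  have hgψ : ∀ y : IsLocalRing.ResidueField A, g (ψ y) = 0 := by
    intro y
    obtain ⟨c, rfl⟩ := IsLocalRing.residue_surjective y
    rw [hψ, map_smul]
    have h0 : g (Submodule.Quotient.mk (⟨a, ha⟩ : ↥(IsLocalRing.maximalIdeal A))) = 0 := by
      show (Submodule.Quotient.mk (⟨a, ha⟩ : ↥(IsLocalRing.maximalIdeal A)) :
        ↥(IsLocalRing.maximalIdeal A) ⧸
          Submodule.span A {(⟨a, ha⟩ : ↥(IsLocalRing.maximalIdeal A))}) = 0
      rw [Submodule.Quotient.mk_eq_zero]; exact Submodule.mem_span_singleton_self _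
    rw [h0, smul_zero]
  refine ⟨f, g, ?_⟩
  apply LinearMap.ext
  intro y
  obtain ⟨x, rfl⟩ := Submodule.Quotient.mk_surjective _ y
  show g (s x) = Submodule.Quotient.mk x
  simp only [s, LinearMap.sub_apply, map_sub, LinearMap.comp_apply, hgψ, sub_zero]
  rfl

end Groth.Agent.S5781
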