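import Groth.Statements.S5782
import Groth.Agent.Lib.Helper9.QuotRegPD

set_option autoImplicit false
universe u
open CategoryTheory
open EGA41

namespace Groth.Agent.S5782

/-- Let A be a Noetherian local ring with maximal ideal m, E a finitely generated A-module of finite
projective dimension, and a ∈ m an element which is A-regular and E-regular. Then E/aE, as a module
over A/aA, has finite projective dimension at most the projective dimension of E over A. -/
theorem result (A : Type u) [CommRing A] [IsLocalRing A]
    [IsNoetherianRing A] (E : Type u) [AddCommGroup E] [Module A E] [Module.Finite A E]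
    (hfin : projectiveDimension (ModuleCat.of A E) ≠ ⊤) (a : A) (ha : a ∈ IsLocalRing.maximalIdeal A)
    (hA : IsSMulRegular A a) (hE : IsSMulRegular E a) :
    projectiveDimension (ModuleCat.of (A ⧸ Ideal.span {a}) (E ⧸ (Ideal.span {a} • (⊤ : Submodule A E)))) ≤
      projectiveDimension (ModuleCat.of A E) := by
  have key : ∀ n : ℕ, HasProjectiveDimensionLT (ModuleCat.of A E) n →
      HasProjectiveDimensionLT (ModuleCat.of (A ⧸ Ideal.span {a})
        (E ⧸ (Ideal.span {a} • (⊤ : Submodule A E)))) n :=
    fun n h => Groth.Agent.Lib.Helper9.hasProjectiveDimensionLT_quot a hA n E hE h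
  generalize hd : projectiveDimension (ModuleCat.of A E) = d at hfin ⊢
  induction d using WithBot.recBotCoe with
  | bot =>
    have hz := (projectiveDimension_eq_bot_iff _).mp hd
    have h0 := (hasProjectiveDimensionLT_zero_iff_isZero _).mpr hz
    have hz' := (hasProjectiveDimensionLT_zero_iff_isZero _).mp (key 0 h0)
    rw [(projectiveDimension_eq_bot_iff _).mpr hz']
  | coe d =>
    induction d using ENat.recTopCoe with
    | top => exact absurd rfl hfin
    | coe m =>
      have hle : projectiveDimension (ModuleCat.of A E) ≤ (m : ℕ) := le_of_eq hd
      have h1 := (projectiveDimension_le_iff _ m).mp hle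
      exact (projectiveDimension_le_iff _ m).mpr (key (m + 1) h1)

end Groth.Agent.S5782
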