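import Groth.Statements.S5783
import Mathlib
import Groth.Agent.S2599
import Groth.Agent.S4572
import Groth.Agent.Lib.Helper4.FlatRing
import Groth.Agent.Lib.Helper4.RegCM
import Groth.Agent.Lib.Helper4.CM

set_option autoImplicit false
universe u
open EGA41

namespace Groth.Agent.S5783

/-- Let A be a regular local ring, B a local ring and ρ : A → B a local homomorphism making B a finitely
generated A-module. Then B is a free A-module if and only if B is a Cohen-Macaulay ring and ρ is
injective (the latter being equivalent to dim(B) = dim(A)). -/
theorem result (A B : Type u) [CommRing A] [CommRing B]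
    [IsRegularLocalRing A] [IsLocalRing B] [Algebra A B] [IsLocalHom (algebraMap A B)] [Module.Finite A B] :
    Module.Free A B ↔ LocCoh.IsCohenMacaulayLocalRing B ∧ Function.Injective (algebraMap A B) := by
  classical
  haveI : IsLocalRing A := inferInstance
  haveI : IsNoetherianRing A := inferInstance
  haveI : IsNoetherianRing B := IsNoetherianRing.of_finite A B
  haveI : Algebra.IsIntegral A B := Algebra.IsIntegral.of_finite A B
  constructor
  · intro hfree
    haveI : Nontrivial B := inferInstance
    have hinj : Function.Injective (algebraMap A B) := by
      haveI : FaithfulSMul A B := inferInstance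
      exact FaithfulSMul.algebraMap_injective A B
    refine ⟨?_, hinj⟩
    haveI : Module.Flat A B := inferInstance
    have h2 : (IsLocalRing.maximalIdeal A).map (algebraMap A B) ≤ IsLocalRing.maximalIdeal B :=
      ((IsLocalRing.local_hom_TFAE (algebraMap A B)).out 0 2).1 ‹IsLocalHom (algebraMap A B)›
    have hI : (IsLocalRing.maximalIdeal A).map (algebraMap A B) ≠ ⊤ := by
      intro h
      rw [h] at h2
      exact (IsLocalRing.maximalIdeal.isMaximal B).ne_top (top_le_iff.1 h2)
    haveI : Nontrivial (B ⧸ (IsLocalRing.maximalIdeal A).map (algebraMap A B)) :=
      Ideal.Quotient.nontrivial_iff.2 hI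
    haveI : IsLocalRing (B ⧸ (IsLocalRing.maximalIdeal A).map (algebraMap A B)) :=
      IsLocalRing.of_surjective' (Ideal.Quotient.mk _) Ideal.Quotient.mk_surjective
    have hdepth := Groth.Agent.Lib.Helper4.FlatRing.depth_eq_add_fibRing A B
    have hdimeq := Groth.Agent.S4572.ringKrullDim_eq_of_integral_injective hinj
    have hA : Module.supportDim A A = ((LocCoh.depth A A : ℕ∞) : WithBot ℕ∞) :=
      (Groth.Agent.Lib.Helper4.RegCM.isCohenMacaulayLocalRing A).supportDim_eq_depth
    have hle := Groth.Agent.Lib.Helper4.depth_le_supportDim (R := B) (M := B)
    refine { supportDim_eq_depth := ?_ }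
    apply le_antisymm
    · rw [Module.supportDim_self_eq_ringKrullDim, hdimeq, ← Module.supportDim_self_eq_ringKrullDim,
        hA, hdepth]
      exact_mod_cast le_self_add
    · exact hle
  · rintro ⟨hCM, hinj⟩
    have hCMB : LocCoh.IsCohenMacaulayModule B B := hCM.supportDim_eq_depth
    have hflat : Module.Flat A B := by
      refine Groth.Agent.S2599.result A B B hCMB ?_
      rw [Module.supportDim_self_eq_ringKrullDim,
        Groth.Agent.S4572.ringKrullDim_eq_of_integral_injective hinj]
      have h0 : Module.supportDim B (EGA4.FibMod A B B) = 0 := by
        have hsupp : Module.support B (EGA4.FibMod A B B) = {IsLocalRing.closedPoint B} := by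
          show Module.support _ (_ ⧸ (EGA4.mB A B • (⊤ : Submodule B B))) = _
          rw [Module.support_quotient]
          ext P
          simp only [Set.mem_inter_iff, PrimeSpectrum.mem_zeroLocus, Set.mem_singleton_iff]
          constructor
          · rintro ⟨-, hP⟩
            have hle1 : IsLocalRing.maximalIdeal A ≤ P.asIdeal.comap (algebraMap A B) := by
              intro r hr
              rw [Ideal.mem_comap]
              exact hP (Ideal.mem_map_of_mem _ hr)
            have hprime : (P.asIdeal.comap (algebraMap A B)).IsPrime := Ideal.comap_isPrime _ _
            have heq1 : P.asIdeal.comap (algebraMap A B) = IsLocalRing.maximalIdeal A :=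
              ((IsLocalRing.maximalIdeal.isMaximal A).eq_of_le hprime.ne_top hle1).symm
            have hmax : P.asIdeal.IsMaximal := by
              apply Ideal.isMaximal_of_isIntegral_of_isMaximal_comap (R := A)
              rw [heq1]
              exact IsLocalRing.maximalIdeal.isMaximal A
            exact PrimeSpectrum.ext (IsLocalRing.eq_maximalIdeal hmax)
          · rintro rfl
            refine ⟨?_, ?_⟩
            · rw [Module.support_of_algebra]
              intro x hx
              rw [SetLike.mem_coe, RingHom.mem_ker, Algebra.algebraMap_self, RingHom.id_apply] at hx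
              rw [hx]
              exact zero_mem _
            · exact ((IsLocalRing.local_hom_TFAE (algebraMap A B)).out 0 2).1
                ‹IsLocalHom (algebraMap A B)›
        rw [Module.supportDim, hsupp]
        exact Order.krullDim_eq_zero
      rw [h0, add_zero]
    exact Module.free_of_flat_of_isLocalRing

end Groth.Agent.S5783
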