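import Groth.Statements.S5787
import Groth.Agent.Lib.Helper9.ExtReg
import Mathlib.RingTheory.LocalRing.ResidueField.Basic

set_option autoImplicit false
universe u
open CategoryTheory
open EGA41

namespace Groth.Agent.S5787

/-- Let A be a Noetherian local ring with maximal ideal m and residue field k, M an A-module and
(x_i)_{1 ≤ i ≤ n} an M-regular sequence of elements of m. Then Hom_A(k, M/(x_1 M + ... + x_n M)) and
Ext^n_A(k, M) are isomorphic (existence of an isomorphism; stated for the underlying abelian
groups). -/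
theorem result (A : Type u) [CommRing A] [IsLocalRing A]
    [IsNoetherianRing A] (M : Type u) [AddCommGroup M] [Module A M] (xs : List A)
    (hxs : ∀ x ∈ xs, x ∈ IsLocalRing.maximalIdeal A) (hreg : RingTheory.Sequence.IsWeaklyRegular M xs) :
    Nonempty ((IsLocalRing.ResidueField A →ₗ[A] (M ⧸ (Ideal.ofList xs • (⊤ : Submodule A M)))) ≃+
      Abelian.Ext (ModuleCat.of A (IsLocalRing.ResidueField A)) (ModuleCat.of A M) xs.length) := by
  have hK : ∀ x ∈ xs, x • 𝟙 (ModuleCat.of A (IsLocalRing.ResidueField A)) = 0 := by
    intro x hx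
    apply ModuleCat.hom_ext
    apply LinearMap.ext
    intro c
    show x • c = 0
    rw [Algebra.smul_def, IsLocalRing.ResidueField.algebraMap_eq,
      (IsLocalRing.residue_eq_zero_iff x).mpr (hxs x hx), zero_mul]
  obtain ⟨e⟩ := Groth.Agent.Lib.Helper9.nonempty_hom_addEquiv_ext
    (ModuleCat.of A (IsLocalRing.ResidueField A)) xs (ModuleCat.of A M) hK hreg
  exact ⟨ModuleCat.homAddEquiv.symm.trans e⟩

end Groth.Agent.S5787
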