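import Groth.Statements.S5795
import Groth.Agent.Lib.Helper9.TopDim

set_option autoImplicit false
universe u
open TopDim

namespace Groth.Agent.S5795

/-- Let X be a Noetherian Kolmogoroff space and x a point of X. Then x is isolated in X if and only if
dim_x(X) = 0. -/
theorem result (X : Type u) [TopologicalSpace X]
    [TopologicalSpace.NoetherianSpace X] [T0Space X] (x : X) :
    IsOpen ({x} : Set X) ↔ FlatMor.localDim X x = 0 := by
  constructor
  · intro h
    apply le_antisymm
    · refine (Groth.Agent.Lib.Helper9.localDim_le_of_mem ⟨{x}, h⟩ (Set.mem_singleton x)).trans ?_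
      have hsub : Subsingleton ((⟨{x}, h⟩ : TopologicalSpace.Opens X) : Set X) := by
        refine ⟨fun a b => Subtype.ext ?_⟩
        rw [Set.mem_singleton_iff.mp a.2, Set.mem_singleton_iff.mp b.2]
      have hdisc : DiscreteTopology ((⟨{x}, h⟩ : TopologicalSpace.Opens X) : Set X) := inferInstance
      exact topologicalKrullDim_zero_of_discreteTopology _
    · unfold FlatMor.localDim
      refine le_iInf fun U => ?_
      have : Nonempty (U.1 : Set X) := ⟨⟨x, U.2⟩⟩
      exact Groth.Agent.Lib.Helper9.topologicalKrullDim_nonneg_of_nonempty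
  · intro h
    obtain ⟨U, hU⟩ := Groth.Agent.Lib.Helper9.exists_opens_localDim_eq x
    rw [h] at hU
    obtain ⟨_, hdisc⟩ :=
      Groth.Agent.Lib.Helper9.finite_discrete_of_topologicalKrullDim_le_zero
        (X := (U.1 : Set X)) hU.le
    have hopen : IsOpen ({⟨x, U.2⟩} : Set (U.1 : Set X)) := isOpen_discrete _
    have h2 := U.1.isOpen.isOpenMap_subtype_val _ hopen
    simpa using h2

end Groth.Agent.S5795
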