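import Groth.Statements.S5800
import Groth.Agent.Lib.Helper9.TopDim

set_option autoImplicit false
universe u
open TopDim

namespace Groth.Agent.S5800

/-- Let X be a topological space, x a point of X and (Y_i) a finite family of closed subsets each
containing x whose union is X. Then dim_x(X) = sup_i dim_x(Y_i). (The published statement lets the
Y_i be closed subsets of a neighbourhood U of x covering U; this row is the case U = X.) -/
theorem result (X : Type u) [TopologicalSpace X] (x : X)
    (ι : Type u) [Finite ι] (Y : ι → Set X) (hY : ∀ i, IsClosed (Y i)) (hx : ∀ i, x ∈ Y i)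
    (hcov : ⋃ i, Y i = Set.univ) :
    FlatMor.localDim X x = ⨆ i, FlatMor.localDim (Y i) ⟨x, hx i⟩ := by
  apply le_antisymm
  · have hV := fun i => Groth.Agent.Lib.Helper9.exists_opens_localDim_eq (X := Y i) ⟨x, hx i⟩
    choose V hVdim using hV
    have hV' : ∀ i, ∃ V' : Set X, IsOpen V' ∧ Subtype.val ⁻¹' V' = ((V i).1 : Set (Y i)) :=
      fun i => isOpen_induced_iff.mp (V i).1.isOpen
    choose V' hV'o hV'eq using hV'
    let U : TopologicalSpace.Opens X := ⟨⋂ i, V' i, isOpen_iInter_of_finite hV'o⟩
    have hxU : x ∈ U := Set.mem_iInter.mpr fun i => by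
      have h1 : (⟨x, hx i⟩ : Y i) ∈ (Subtype.val ⁻¹' V' i : Set (Y i)) := by
        rw [hV'eq i]; exact (V i).2
      exact h1
    refine (Groth.Agent.Lib.Helper9.localDim_le_of_mem U hxU).trans ?_
    have hcovU : ⋃ i, (Subtype.val ⁻¹' (Y i) : Set (U : Set X)) = Set.univ := by
      rw [← Set.preimage_iUnion, hcov, Set.preimage_univ]
    have hclU : ∀ i, IsClosed (Subtype.val ⁻¹' (Y i) : Set (U : Set X)) :=
      fun i => (hY i).preimage continuous_subtype_val
    rw [Groth.Agent.Lib.Helper9.topologicalKrullDim_eq_iSup_of_finite_closed_cover _ hclU hcovU]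
    refine iSup_mono fun i => ?_
    rw [← hVdim i]
    let f : (Subtype.val ⁻¹' (Y i) : Set (U : Set X)) → ((V i).1 : Set (Y i)) := fun y =>
      ⟨⟨y.1.1, y.2⟩, by
        have h2 : (⟨y.1.1, y.2⟩ : Y i) ∈ (Subtype.val ⁻¹' V' i : Set (Y i)) :=
          Set.mem_iInter.mp y.1.2 i
        rw [hV'eq i] at h2
        exact h2⟩
    have hf : Topology.IsInducing f := by
      refine Topology.IsInducing.of_comp
        (g := fun z : ((V i).1 : Set (Y i)) => (z.1.1 : X)) ?_ ?_ ?_
      · exact ((continuous_subtype_val.comp continuous_subtype_val).subtype_mk _).subtype_mk _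
      · exact continuous_subtype_val.comp continuous_subtype_val
      · have h3 : Topology.IsInducing
            (Subtype.val ∘ Subtype.val : (Subtype.val ⁻¹' (Y i) : Set (U : Set X)) → X) :=
          Topology.IsInducing.subtypeVal.comp Topology.IsInducing.subtypeVal
        exact h3
    exact hf.topologicalKrullDim_le
  · refine iSup_le fun i => ?_
    unfold FlatMor.localDim
    refine le_iInf fun U => ?_
    let V : TopologicalSpace.Opens (Y i) :=
      ⟨Subtype.val ⁻¹' (U.1 : Set X), U.1.isOpen.preimage continuous_subtype_val⟩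
    refine (iInf_le (fun V : {V : TopologicalSpace.Opens (Y i) // (⟨x, hx i⟩ : Y i) ∈ V} =>
      topologicalKrullDim (V.1 : Set (Y i))) ⟨V, U.2⟩).trans ?_
    let f : ↥(V : Set (Y i)) → ↥(U.1 : Set X) := fun y => ⟨y.1.1, y.2⟩
    have hf : Topology.IsInducing f := by
      refine Topology.IsInducing.of_comp (g := Subtype.val) ?_ continuous_subtype_val ?_
      · exact (continuous_subtype_val.comp continuous_subtype_val).subtype_mk _
      · have h3 : Topology.IsInducing (Subtype.val ∘ Subtype.val : ↥(V : Set (Y i)) → X) :=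
          Topology.IsInducing.subtypeVal.comp Topology.IsInducing.subtypeVal
        exact h3
    exact hf.topologicalKrullDim_le

end Groth.Agent.S5800
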