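import Groth.Statements.S5801


set_option autoImplicit false
universe u
open scoped Pointwise
open EGA41

namespace Groth.Agent.S5801

/-- Let A be a ring, M an A-module and f ∈ A, and consider the canonical surjection (M/fM)[T] → gr(M)
for the (f)-adic filtration, whose injectivity says: for all k ≥ 0 and x ∈ M, f^k x ∈ f^(k+1) M
implies x ∈ fM. If f is M-regular this map is bijective; conversely, if it is bijective and M is
separated for the (f)-adic topology (the intersection of the f^k M is zero), then f is M-regular. -/
theorem result (A : Type u) [CommRing A] (M : Type u)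
    [AddCommGroup M] [Module A M] (f : A) :
    (IsSMulRegular M f →
        ∀ (k : ℕ) (x : M), f ^ k • x ∈ f ^ (k + 1) • (⊤ : Submodule A M) → x ∈ f • (⊤ : Submodule A M)) ∧
      ((⨅ k : ℕ, f ^ k • (⊤ : Submodule A M)) = ⊥ →
        (∀ (k : ℕ) (x : M), f ^ k • x ∈ f ^ (k + 1) • (⊤ : Submodule A M) → x ∈ f • (⊤ : Submodule A M)) →
          IsSMulRegular M f) := by
  constructor
  · intro hreg k x hx
    obtain ⟨y, -, hy⟩ := (Submodule.mem_smul_pointwise_iff_exists _ _ _).mp hx
    rw [pow_succ, mul_smul] at hy
    have h1 : f • y = x := (hreg.pow k) hy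
    rw [Submodule.mem_smul_pointwise_iff_exists]
    exact ⟨y, Submodule.mem_top, h1⟩
  · intro hsep hcrit
    rw [isSMulRegular_iff_right_eq_zero_of_smul]
    intro z hz
    have hmem : ∀ k : ℕ, z ∈ f ^ k • (⊤ : Submodule A M) := by
      intro k
      induction k with
      | zero => simp
      | succ k ih =>
        obtain ⟨w, -, hw⟩ := (Submodule.mem_smul_pointwise_iff_exists _ _ _).mp ih
        have h1 : f ^ (k+1) • w ∈ f ^ (k + 1 + 1) • (⊤ : Submodule A M) := by
          have h0 : f ^ (k+1) • w = 0 := by
            rw [pow_succ', mul_smul, hw, hz]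
          rw [h0]; exact Submodule.zero_mem _
        obtain ⟨w', -, hw'⟩ :=
          (Submodule.mem_smul_pointwise_iff_exists _ _ _).mp (hcrit (k+1) w h1)
        rw [Submodule.mem_smul_pointwise_iff_exists]
        refine ⟨w', Submodule.mem_top, ?_⟩
        rw [pow_succ, mul_smul, hw', hw]
    have hz' : z ∈ (⨅ k : ℕ, f ^ k • (⊤ : Submodule A M)) := by
      rw [Submodule.mem_iInf]; exact hmem
    rw [hsep] at hz'
    simpa using hz'

end Groth.Agent.S5801
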