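import Groth.Statements.S5806
import Groth.Agent.Lib.Helper9.SemiLocal
import Mathlib.RingTheory.Flat.Equalizer
import Mathlib.RingTheory.Flat.Stability

set_option autoImplicit false
universe u
open EGA41

namespace Groth.Agent.S5806

open scoped Pointwise

open TensorProduct in
/-- Let A be a ring, B a commutative A-algebra, (f_i)_{1 ≤ i ≤ n} elements of B and M a B-module.
Suppose (f_i) is M-regular and each of the A-modules M/(f_1 M + ... + f_i M), 0 ≤ i ≤ n, is flat.
Then for every ring homomorphism A → A', writing M' = M ⊗_A A' and f'_i = f_i ⊗ 1, the sequence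
(f'_i) is M'-regular and the A'-modules M'/(f'_1 M' + ... + f'_{i-1} M') are flat: concretely,
identifying M'/(f'_1 M' + ... + f'_{i-1} M') with A' ⊗_A (M/(f_1 M + ... + f_{i-1} M)),
multiplication by f_i on the latter is injective and the latter is A'-flat, for 1 ≤ i ≤ n. (The
published hypothesis lists only the flatness of M/(f_1 M + ... + f_{i-1} M) for 1 ≤ i ≤ n, omitting
M/(f_1 M + ... + f_n M); with that omission the case n = 1, A = B = k[t], M = k[t], f_1 = t, A' =
k[t]/(t) fails, since t acts as zero on k ⊗_A M = k, and the published proof uses the flatness of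
M/(f_1 M + ... + f_i M) for every i ≤ n; so flatness of all these quotients is assumed here.) -/
theorem result (A B : Type u) [CommRing A]
    [CommRing B] [Algebra A B] (M : Type u) [AddCommGroup M] [Module B M] [Module A M] [IsScalarTower A B M]
    (fs : List B) (hreg : RingTheory.Sequence.IsWeaklyRegular M fs)
    (hflat : ∀ i : ℕ, i ≤ fs.length → Module.Flat A (M ⧸ (Ideal.ofList (fs.take i) • (⊤ : Submodule B M))))
    (A' : Type u) [CommRing A'] [Algebra A A'] (i : Fin fs.length) :
    Function.Injective (LinearMap.lTensor A'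
        (((LinearMap.lsmul B (M ⧸ (Ideal.ofList (fs.take i) • (⊤ : Submodule B M)))) (fs.get i)).restrictScalars A)) ∧
      Module.Flat A' (A' ⊗[A] (M ⧸ (Ideal.ofList (fs.take i) • (⊤ : Submodule B M)))) := by
  have hi : (i : ℕ) < fs.length := i.2
  haveI hQflat : Module.Flat A (M ⧸ (Ideal.ofList (fs.take i) • (⊤ : Submodule B M))) :=
    hflat i (le_of_lt hi)
  refine ⟨?_, inferInstance⟩
  -- the next quotient
  have h1 := hflat (i + 1) (Nat.succ_le_of_lt hi)
  rw [List.take_succ_eq_append_getElem hi] at h1
  let e := (Groth.Agent.Lib.Helper9.quotAppendEquiv (A := B) M (fs.take i) [fs[(i : ℕ)]]).restrictScalars A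
  haveI hPflat : Module.Flat A ((M ⧸ (Ideal.ofList (fs.take i) • (⊤ : Submodule B M))) ⧸
      (Ideal.ofList [fs[(i : ℕ)]] • (⊤ : Submodule B
        (M ⧸ (Ideal.ofList (fs.take i) • (⊤ : Submodule B M)))))) :=
    Module.Flat.of_linearEquiv e.symm
  have hreg' : IsSMulRegular (M ⧸ (Ideal.ofList (fs.take i) • (⊤ : Submodule B M))) fs[(i : ℕ)] :=
    hreg.regular_mod_prev i hi
  have hget : fs.get i = fs[(i : ℕ)] := rfl
  rw [hget]
  apply LinearMap.lTensor_injective_of_exact_of_flat
    ((Submodule.mkQ (Ideal.ofList [fs[(i : ℕ)]] • (⊤ : Submodule B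
        (M ⧸ (Ideal.ofList (fs.take i) • (⊤ : Submodule B M)))))).restrictScalars A)
  · exact Submodule.mkQ_surjective _
  · exact hreg'
  · intro y
    show Submodule.Quotient.mk y = 0 ↔ y ∈ Set.range (fun z => fs[(i : ℕ)] • z)
    rw [Submodule.Quotient.mk_eq_zero, Ideal.ofList_singleton,
      Submodule.ideal_span_singleton_smul, Submodule.mem_smul_pointwise_iff_exists]
    constructor
    · rintro ⟨z, -, hz⟩; exact ⟨z, hz⟩
    · rintro ⟨z, hz⟩; exact ⟨z, Submodule.mem_top, hz⟩

end Groth.Agent.S5806
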