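import Groth.Statements.S5808
import Groth.Agent.Lib.Helper9.SemiLocal

set_option autoImplicit false
universe u
open EGA41

namespace Groth.Agent.S5808


open Groth.Agent.Lib.Helper9

theorem ann_quot_ofList {A : Type u} [CommRing A] (xs : List A) :
    Module.annihilator A (A ⧸ (Ideal.ofList xs • (⊤ : Submodule A A))) = Ideal.ofList xs := by
  have h1 : (Ideal.ofList xs • (⊤ : Submodule A A)) = Ideal.ofList xs := by
    rw [Ideal.smul_eq_mul, Ideal.mul_top]
  rw [h1]
  exact Ideal.annihilator_quotient

theorem key {A : Type u} [CommRing A] [IsNoetherianRing A] [Finite (MaximalSpectrum A)]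
    (a : Ideal A) (h : ℕ) (hh : a.height = h) (P : Ideal A) [P.IsPrime] (haP : a ≤ P)
    (hP : P.height = h) (i : ℕ) (hi : i ≤ h) :
    ∃ xs : List A, xs.length = i ∧ (∀ y ∈ xs, y ∈ a) ∧ (∀ y ∈ xs, y ∈ Ring.jacobson A) ∧
      Module.supportDim A (A ⧸ (Ideal.ofList xs • (⊤ : Submodule A A))) + (i : WithBot ℕ∞)
        ≤ ringKrullDim A ∧
      (∀ Q : Ideal A, Q.IsPrime → Ideal.ofList xs ≤ Q → Q ≤ P → (i : ℕ∞) ≤ Q.height) := by
  have ha : a ≠ ⊤ := fun htop => Ideal.IsPrime.ne_top ‹P.IsPrime› (top_le_iff.mp (htop ▸ haP))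
  induction i with
  | zero =>
    refine ⟨[], rfl, by simp, by simp, ?_, fun Q _ _ _ => by simp⟩
    rw [Nat.cast_zero, add_zero]
    exact Module.supportDim_le_ringKrullDim A _
  | succ i ih =>
    obtain ⟨xs, hlen, hxa, hxJ, hD, hH⟩ := ih (Nat.le_of_succ_le hi)
    have hih : i < h := hi
    classical
    set I := Ideal.ofList xs with hI
    have hIa : I ≤ a := Ideal.span_le.mpr (fun z hz => hxa z hz)
    have hkrull : ∀ p ∈ I.minimalPrimes, p.height ≤ (i : ℕ∞) := by
      intro p hp
      have h1 : I = Ideal.span (↑xs.toFinset : Set A) := by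
        rw [hI, Ideal.ofList, List.coe_toFinset]
      rw [h1] at hp
      refine (Ideal.height_le_card_of_mem_minimalPrimes_span_finset hp).trans ?_
      have := List.toFinset_card_le xs
      rw [hlen] at this
      exact_mod_cast this
    let T : Set (Ideal A) := {p | p ∈ I.minimalPrimes ∧ ¬ p.IsMaximal}
    have hT : T.Finite :=
      (Ideal.finite_minimalPrimes_of_isNoetherianRing A I).subset (fun p hp => hp.1)
    have hnot : ¬ (((a ⊓ Ring.jacobson A : Ideal A) : Set A) ⊆ ⋃ p ∈ T, (p : Set A)) := by
      rw [Ideal.subset_union_prime_finite hT ⊥ ⊥ (fun p hp _ _ => hp.1.1.1)]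
      rintro ⟨p, hpT, hle⟩
      have hpprime : p.IsPrime := hpT.1.1.1
      have hmul : a * Ring.jacobson A ≤ p := Ideal.mul_le_inf.trans hle
      rcases (Ideal.IsPrime.mul_le hpprime).mp hmul with h1 | h1
      · have h2 : a.height ≤ p.height := Ideal.height_mono h1
        have h3 := hkrull p hpT.1
        rw [hh] at h2
        have h4 : (h : ℕ∞) ≤ i := h2.trans h3
        have h5 : h ≤ i := by exact_mod_cast h4
        omega
      · exact hpT.2 (isMaximal_of_jacobson_le hpprime h1)
    obtain ⟨y, hy, hyT⟩ := Set.not_subset.mp hnot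
    have hya : y ∈ a := hy.1
    have hyJ : y ∈ Ring.jacobson A := hy.2
    have hyT' : ∀ p ∈ I.minimalPrimes, ¬ p.IsMaximal → y ∉ p := by
      intro p hp hpm hyp
      exact hyT (Set.mem_biUnion (x := p) ⟨hp, hpm⟩ hyp)
    refine ⟨y :: xs, by simp [hlen], ?_, ?_, ?_, ?_⟩
    · intro z hz
      rcases List.mem_cons.mp hz with rfl | hz
      exacts [hya, hxa z hz]
    · intro z hz
      rcases List.mem_cons.mp hz with rfl | hz
      exacts [hyJ, hxJ z hz]
    · -- dimension
      rw [Module.supportDim_eq_of_equiv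
        (Submodule.quotOfListConsSMulTopEquivQuotSMulTopOuter A y xs)]
      set M := A ⧸ (Ideal.ofList xs • (⊤ : Submodule A A)) with hM
      have hann : Module.annihilator A M = I := ann_quot_ofList xs
      have hlow : ringKrullDim A ≤ Module.supportDim A M + (i : WithBot ℕ∞) := by
        have := supportDim_le_supportDim_quot_ofList_add_length xs hxJ A
        rw [Module.supportDim_self_eq_ringKrullDim, hlen] at this
        exact this
      have hdh : (h : WithBot ℕ∞) ≤ ringKrullDim A := by
        have := Ideal.height_le_ringKrullDim_of_ne_top (I := a) ha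
        rw [hh] at this
        exact_mod_cast this
      have hIne : I ≠ ⊤ := fun htop => ha (top_le_iff.mp (htop ▸ hIa))
      haveI hntM : Nontrivial M := by
        rw [hM, Submodule.Quotient.nontrivial_iff, Ideal.smul_eq_mul, Ideal.mul_top]
        exact hIne
      obtain ⟨e, he⟩ := exists_nat_supportDim_eq A M
      have hepos : 0 < e := by
        rw [he] at hlow
        have h1 : ((h : ℕ) : WithBot ℕ∞) ≤ ((e + i : ℕ) : WithBot ℕ∞) := by
          push_cast; exact hdh.trans hlow
        have h2 : h ≤ e + i := by exact_mod_cast h1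
        omega
      have hstep : Module.supportDim A (QuotSMulTop y M) + 1 ≤ Module.supportDim A M := by
        apply supportDim_quotSMulTop_succ_le_of_forall y
        intro p hp hdim hyp
        have hIp : I ≤ p.asIdeal := by
          rw [← hann]; exact Module.mem_support_iff_of_finite.mp hp
        apply hyT' p.asIdeal ?_ ?_ hyp
        · refine ⟨⟨p.2, hIp⟩, ?_⟩
          rintro Q ⟨hQprime, hQI⟩ hQle
          by_contra hnle
          have hlt : Q < p.asIdeal := lt_of_le_not_ge hQle hnle
          let q : PrimeSpectrum A := ⟨Q, hQprime⟩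
          have hq : q ∈ Module.support A M :=
            Module.mem_support_iff_of_finite.mpr (by rw [hann]; exact hQI)
          have h1 : ringKrullDim (A ⧸ p.asIdeal) + 1 ≤ ringKrullDim (A ⧸ q.asIdeal) :=
            ringKrullDim_quotient_succ_le_of_lt (show q < p from hlt)
          have h2 := ringKrullDim_quotient_le_supportDim hq
          rw [hdim] at h1
          exact absurd_add_one_le (Module.supportDim_ne_bot_of_nontrivial A M)
            (supportDim_ne_top_of_semilocal A M) (h1.trans h2)
        · intro hmax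
          have h0 : ringKrullDim (A ⧸ p.asIdeal) = 0 :=
            ringKrullDim_eq_zero_of_isField
              ((Ideal.Quotient.maximal_ideal_iff_isField_quotient _).mp hmax)
          rw [hdim, he] at h0
          have h1 : e = 0 := by exact_mod_cast h0
          omega
      calc Module.supportDim A (QuotSMulTop y M) + ((i + 1 : ℕ) : WithBot ℕ∞)
          = (Module.supportDim A (QuotSMulTop y M) + 1) + (i : WithBot ℕ∞) := by
            rw [Nat.cast_add, Nat.cast_one, add_assoc, add_comm (i : WithBot ℕ∞) 1]
        _ ≤ Module.supportDim A M + i := add_le_add hstep le_rfl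
        _ ≤ ringKrullDim A := hD
    · -- height
      intro Q hQ hIQ hQP
      rw [Ideal.ofList_cons] at hIQ
      have hyQ : y ∈ Q := hIQ (Ideal.mem_sup_left (Ideal.mem_span_singleton_self y))
      have hIQ' : I ≤ Q := le_sup_right.trans hIQ
      obtain ⟨p, hp, hpQ⟩ := Ideal.exists_minimalPrimes_le hIQ'
      have hpprime : p.IsPrime := hp.1.1
      have hpi : (i : ℕ∞) ≤ p.height := hH p hpprime hp.1.2 (hpQ.trans hQP)
      have hpnm : ¬ p.IsMaximal := by
        intro hmax
        have h1 : p = P := hmax.eq_of_le (Ideal.IsPrime.ne_top ‹P.IsPrime›) (hpQ.trans hQP)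
        have h3 := hkrull p hp
        rw [h1, hP] at h3
        have h4 : h ≤ i := by exact_mod_cast h3
        omega
      have hyp : y ∉ p := hyT' p hp hpnm
      have hlt : p < Q := lt_of_le_of_ne hpQ (fun heq => hyp (heq ▸ hyQ))
      have h5 := Ideal.height_add_one_le_of_lt_of_isPrime hlt
      calc ((i + 1 : ℕ) : ℕ∞) = (i : ℕ∞) + 1 := by push_cast; rfl
        _ ≤ p.height + 1 := add_le_add hpi le_rfl
        _ ≤ Q.height := h5

/-- Let A be a semi-local Noetherian ring with spectrum X and Jacobson radical r, and a an ideal of A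
distinct from A with codim(V(a), X) = h > 0 (h is the height of a). Then there exist h elements x_1,
..., x_h of a which are part of a system of parameters of A (so lie in r and can be completed by
elements of r to dim(A) elements generating an ideal modulo which A has finite length) and such that
codim(V(a), V(x_1 A + ... + x_h A)) = 0, i.e. the image of a in A/(x_1 A + ... + x_h A) has height
0. -/
theorem result (A : Type u) [CommRing A] [IsNoetherianRing A]
    [Finite (MaximalSpectrum A)] (a : Ideal A) (ha : a ≠ ⊤) (h : ℕ) (hh : a.height = h) (hpos : 0 < h) :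
    ∃ x : Fin h → A, (∀ i, x i ∈ a) ∧ (∀ i, x i ∈ Ring.jacobson A) ∧
      (∃ ys : List A, (∀ y ∈ ys, y ∈ Ring.jacobson A) ∧
        (((h + ys.length : ℕ) : ℕ∞) : WithBot ℕ∞) = ringKrullDim A ∧
        IsFiniteLength A (A ⧸ (Ideal.span (Set.range x) ⊔ Ideal.ofList ys))) ∧
      (a.map (Ideal.Quotient.mk (Ideal.span (Set.range x)))).height = 0 := by
  classical
  obtain ⟨P, hPprime, haP, hP⟩ := Ideal.exists_isPrime_height_eq hh
  haveI := hPprime
  obtain ⟨xs, hlen, hxa, hxJ, hD, hH⟩ := key a h hh P haP hP h le_rfl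
  subst hlen
  set I := Ideal.ofList xs with hI
  have hrange : Ideal.span (Set.range xs.get) = I := by rw [Set.range_list_get]
  have hIP : I ≤ P := Ideal.span_le.mpr (fun z hz => haP (hxa z hz))
  refine ⟨xs.get, fun i => hxa _ (List.get_mem _ _), fun i => hxJ _ (List.get_mem _ _), ?_, ?_⟩
  · set M := A ⧸ (Ideal.ofList xs • (⊤ : Submodule A A)) with hM
    have hIne : I ≠ ⊤ := fun htop => Ideal.IsPrime.ne_top hPprime (top_le_iff.mp (htop ▸ hIP))
    haveI hntM : Nontrivial M := by
      rw [hM, Submodule.Quotient.nontrivial_iff, Ideal.smul_eq_mul, Ideal.mul_top]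
      exact hIne
    obtain ⟨e, he⟩ := exists_nat_supportDim_eq A M
    obtain ⟨ys, hys, hylen, hfl⟩ := exists_sop e M he
    refine ⟨ys, hys, ?_, ?_⟩
    · have hlow : ringKrullDim A ≤ Module.supportDim A M + (xs.length : WithBot ℕ∞) := by
        have := supportDim_le_supportDim_quot_ofList_add_length xs hxJ A
        rwa [Module.supportDim_self_eq_ringKrullDim] at this
      rw [he] at hlow hD
      have h1 : ringKrullDim A = ((e + xs.length : ℕ) : WithBot ℕ∞) :=
        le_antisymm (by push_cast; exact hlow) (by push_cast; exact hD)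
      rw [h1, hylen, add_comm]
      rfl
    · rw [hrange]
      have e1 := quotAppendEquiv (A := A) A xs ys
      have e2 : (A ⧸ (I ⊔ Ideal.ofList ys)) ≃ₗ[A]
          (A ⧸ (Ideal.ofList (xs ++ ys) • (⊤ : Submodule A A))) :=
        Submodule.quotEquivOfEq _ _ (by rw [Ideal.ofList_append, Ideal.smul_eq_mul, Ideal.mul_top])
      exact (e2 ≪≫ₗ e1).symm.isFiniteLength hfl
  · rw [hrange]
    have hPmin : P ∈ I.minimalPrimes := by
      refine ⟨⟨hPprime, hIP⟩, ?_⟩
      rintro Q ⟨hQprime, hQI⟩ hQP
      haveI := hQprime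
      have h1 : (xs.length : ℕ∞) ≤ Q.height := hH Q hQprime hQI hQP
      have h2 : Q = P := Ideal.eq_of_le_of_height_le Q hQP (by rw [hP]; exact h1)
      exact h2 ▸ le_rfl
    have hsurj : Function.Surjective (Ideal.Quotient.mk I) := Ideal.Quotient.mk_surjective
    have hcomap := Ideal.comap_minimalPrimes_eq_of_surjective hsurj (⊥ : Ideal (A ⧸ I))
    have hker : (⊥ : Ideal (A ⧸ I)).comap (Ideal.Quotient.mk I) = I := by
      rw [← RingHom.ker_eq_comap_bot, Ideal.mk_ker]
    rw [hker] at hcomap
    rw [hcomap] at hPmin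
    obtain ⟨P'', hP''min, hP''⟩ := hPmin
    haveI : P''.IsPrime := hP''min.1.1
    have h1 : a.map (Ideal.Quotient.mk I) ≤ P'' := by
      rw [Ideal.map_le_iff_le_comap, hP'']; exact haP
    have h2 : P''.height = 0 := Ideal.height_eq_zero_iff.mpr hP''min
    exact le_antisymm (h2 ▸ Ideal.height_mono h1) bot_le

end Groth.Agent.S5808
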