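import Groth.Statements.S5815
import Groth.Agent.Lib.Helper9.ExalLib
import Mathlib.RingTheory.Smooth.Basic

set_option autoImplicit false
universe u
open EGA41

namespace Groth.Agent.S5815

open Groth.Agent.Lib.Helper9.ExalLib

/-- Discrete case. A commutative A-algebra B is formally smooth if and only if every A-extension of B by
a B-module L is trivial (has an A-algebra section). A and B are taken in one universe and L ranges
over that universe. (The published statement is for topological rings, with direct-limit classes of
extensions; this row is its discrete case.) -/
theorem result (A B : Type u) [CommRing A] [CommRing B] [Algebra A B] :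
    Algebra.FormallySmooth A B ↔
      ∀ (L : Type u) [AddCommGroup L] [Module B L] (X : Exal.Ext A B L), X.IsTrivial := by
  constructor
  · intro hfs L _ _ X
    have hsq := ker_proj_sq X
    obtain ⟨g, hg⟩ := Algebra.FormallySmooth.comp_surjective A B (RingHom.ker X.proj) hsq
      ((Ideal.quotientKerAlgEquivOfSurjective X.isExtension.proj_surjective).symm.toAlgHom)
    refine ⟨g, fun b => ?_⟩
    have h1 := congrArg (fun φ =>
      (Ideal.quotientKerAlgEquivOfSurjective X.isExtension.proj_surjective) (φ b)) hg
    simpa using h1
  · intro h
    apply Algebra.FormallySmooth.of_comp_surjective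
    intro R _ _ I hI f
    letI := sqZeroModule I hI f
    obtain ⟨g, hg⟩ := (sqZeroExt_isTrivial_iff I hI f).mp (h ↥I (sqZeroExt I hI f))
    exact ⟨g, hg⟩

end Groth.Agent.S5815
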