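import Groth.Statements.S5816
import Groth.Agent.Lib.Helper9.ExalLib

set_option autoImplicit false
universe u
open EGA41

namespace Groth.Agent.S5816

open Groth.Agent.Lib.Helper9.ExalLib

/-- Discrete case. For ring maps Λ → A → B, B is formally smooth over A relative to Λ (square-zero test
ideals) if and only if every A-extension of B by a B-module L which is Λ-trivial is A-trivial. Λ, A,
B are taken in one universe and L ranges over it. (The published statement is for topological rings;
this row is its discrete case.) -/
theorem result (Λ A B : Type u) [CommRing Λ]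
    [CommRing A] [CommRing B] [Algebra Λ A] [Algebra Λ B] [Algebra A B] [IsScalarTower Λ A B] :
    EGA41.IsFormallySmoothRel Λ A B ↔
      ∀ (L : Type u) [AddCommGroup L] [Module B L] (X : Exal.Ext A B L),
        X.IsTrivialOver Λ → X.IsTrivial := by
  constructor
  · intro hrel L _ _ X hXΛ
    obtain ⟨s, hs⟩ := hXΛ
    letI : Algebra Λ X.E := ((algebraMap A X.E).comp (algebraMap Λ A)).toAlgebra
    haveI : IsScalarTower Λ A X.E := IsScalarTower.of_algebraMap_eq (fun _ => rfl)
    let s' : B →ₐ[Λ] X.E := s
    have hs' : ∀ b, X.proj (s' b) = b := hs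
    have hsq := ker_proj_sq X
    obtain ⟨v, hv⟩ := hrel X.E (RingHom.ker X.proj) hsq
      ((Ideal.quotientKerAlgEquivOfSurjective X.isExtension.proj_surjective).symm.toAlgHom)
      ⟨s', by
        ext b
        apply (Ideal.quotientKerAlgEquivOfSurjective X.isExtension.proj_surjective).injective
        simp [hs' b]⟩
    refine ⟨v, fun b => ?_⟩
    have h1 := congrArg (fun φ =>
      (Ideal.quotientKerAlgEquivOfSurjective X.isExtension.proj_surjective) (φ b)) hv
    simpa using h1
  · intro h C _ _ _ _ J hJ u₀ hu
    obtain ⟨u, hu⟩ := hu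
    letI := sqZeroModule J hJ u₀
    have htriv : (sqZeroExt J hJ u₀).IsTrivialOver Λ :=
      sqZeroExt_isTrivialOver J hJ u₀ Λ u (fun b => congrArg (fun φ => φ b) hu)
    exact (sqZeroExt_isTrivial_iff J hJ u₀).mp (h ↥J (sqZeroExt J hJ u₀) htriv)

end Groth.Agent.S5816
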