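import Groth.Statements.S5817
import Groth.Agent.Lib.Helper9.ExalLib

set_option autoImplicit false
universe u v
open EGA41

namespace Groth.Agent.S5817

open Groth.Agent.Lib.Helper9.ExalLib
attribute [local instance] Exal.opModule Exal.isCentralScalar_opModule

/-- Commutative rings, exactness at Der_A(B, L). For ring maps A → B → C and a C-module L, the
B-extension of C by L attached to an A-derivation D : B → L (middle ring C ⊕ L, made a B-algebra
through x ↦ (x, D x)) is trivial if and only if D is the composite of B → C with an A-derivation C →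
L. -/
theorem result {A : Type u} {B C L : Type v} [CommRing A] [CommRing B] [CommRing C]
    [Algebra A B] [Algebra B C] [Algebra A C] [IsScalarTower A B C]
    [AddCommGroup L] [Module C L] [Module B L] [IsScalarTower B C L] [Module A L] [IsScalarTower A B L]
    [IsScalarTower A C L]
    (D : Derivation A B L) :
    (Exal.Ext.ofDerivation (C := C) D).IsTrivial ↔
      ∃ D' : Derivation A C L, D'.compAlgebraMap B = D := by
  constructor
  · rintro ⟨s, hs⟩
    have key : ∃ t : C → TrivSqZeroExt C L, (∀ c, TrivSqZeroExt.fst (t c) = c) ∧
        (∀ b : B, t (algebraMap B C b) =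
          TrivSqZeroExt.inl (algebraMap B C b) + TrivSqZeroExt.inr (D b)) ∧
        (∀ c c', t (c * c') = t c * t c') ∧ (∀ c c', t (c + c') = t c + t c') :=
      ⟨fun c => s c, hs, fun b => s.commutes b, fun c c' => map_mul s c c',
        fun c c' => map_add s c c'⟩
    obtain ⟨t, hfst, hsB, hmul, hadd⟩ := key
    have hleib : ∀ c c' : C, TrivSqZeroExt.snd (t (c * c')) =
        c • TrivSqZeroExt.snd (t c') + c' • TrivSqZeroExt.snd (t c) := by
      intro c c'
      rw [hmul, TrivSqZeroExt.snd_mul, hfst, hfst, op_smul_eq_smul]
    let D' : Derivation A C L := Derivation.mk'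
      { toFun := fun c => TrivSqZeroExt.snd (t c)
        map_add' := fun c c' => by rw [hadd, TrivSqZeroExt.snd_add]
        map_smul' := fun a c => by
          have h1 : a • c = algebraMap B C (algebraMap A B a) * c := by
            rw [Algebra.smul_def, IsScalarTower.algebraMap_apply A B C]
          rw [h1, hleib, hsB, RingHom.id_apply]
          simp only [TrivSqZeroExt.snd_add, TrivSqZeroExt.snd_inl, TrivSqZeroExt.snd_inr,
            Derivation.map_algebraMap, add_zero, smul_zero]
          rw [← IsScalarTower.algebraMap_apply A B C, algebraMap_smul] }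
      hleib
    refine ⟨D', ?_⟩
    ext b
    show TrivSqZeroExt.snd (t (algebraMap B C b)) = D b
    rw [hsB]
    simp
  · rintro ⟨D', hD'⟩
    have hD : ∀ b : B, D' (algebraMap B C b) = D b := fun b => by
      rw [← hD']; rfl
    refine ⟨{ (Exal.Ext.derivationHom (C := C) D' : C →+* Exal.Ext.DerCarrier (C := C) D) with
      commutes' := fun b => ?_ }, fun c => ?_⟩
    · show (TrivSqZeroExt.inl (algebraMap C C (algebraMap B C b)) +
        TrivSqZeroExt.inr (D' (algebraMap B C b)) : TrivSqZeroExt C L) =
        TrivSqZeroExt.inl (algebraMap B C b) + TrivSqZeroExt.inr (D b)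
      rw [hD]; rfl
    · show TrivSqZeroExt.fst (TrivSqZeroExt.inl (algebraMap C C c) +
        TrivSqZeroExt.inr (D' c) : TrivSqZeroExt C L) = c
      simp

end Groth.Agent.S5817
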