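import Groth.Statements.S5818
import Groth.Agent.Lib.Helper9.ExalLib
import Mathlib.Tactic.LinearCombination
import Mathlib.Tactic.Ring
import Mathlib.Tactic.Abel

set_option autoImplicit false
universe u v
open EGA41

namespace Groth.Agent.S5818

open Groth.Agent.Lib.Helper9.ExalLib
attribute [local instance] Exal.opModule Exal.isCentralScalar_opModule

/-- Commutative rings, exactness at Exalcom_B(C, L) on underlying pointed sets. For ring maps A → B → C
and a C-module L, a B-extension of C by L is A-trivial if and only if it is equivalent to the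
extension attached to some A-derivation B → L. -/
theorem result {A : Type u} {B C L : Type v} [CommRing A] [CommRing B] [CommRing C]
    [Algebra A B] [Algebra B C] [Algebra A C] [IsScalarTower A B C]
    [AddCommGroup L] [Module C L] [Module B L] [IsScalarTower B C L] [Module A L] [IsScalarTower A B L]
    [IsScalarTower A C L]
    (X : Exal.Ext B C L) :
    X.IsTrivialOver A ↔
      ∃ D : Derivation A B L, Nonempty (X.Equiv (Exal.Ext.ofDerivation (C := C) D)) := by
  constructor
  · rintro ⟨s, hs⟩
    obtain ⟨σ, hσp, hσa⟩ : ∃ σ : C →+* X.E, (∀ c, X.proj (σ c) = c) ∧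
        (∀ a : A, σ (algebraMap A C a) = algebraMap B X.E (algebraMap A B a)) :=
      ⟨s.toRingHom, hs, fun a => s.commutes a⟩
    have hker : ∀ x : X.E, X.proj (x - σ (X.proj x)) = 0 := fun x => by
      rw [map_sub, hσp, sub_self]
    let κ : X.E → L := fun x => X.kerLift (x - σ (X.proj x)) (hker x)
    have hκ : ∀ x, X.incl (κ x) = x - σ (X.proj x) := fun x => X.incl_kerLift _ _
    have hdecomp : ∀ x, x = σ (X.proj x) + X.incl (κ x) := fun x => by rw [hκ]; ring
    have hinj := X.isExtension.incl_injective
    have hκadd : ∀ x y, κ (x + y) = κ x + κ y := by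
      intro x y; apply hinj; rw [map_add, hκ, hκ, hκ, map_add, map_add]; ring
    have hσincl : ∀ c z, σ c * X.incl z = X.incl (c • z) := fun c z => by
      rw [X.isExtension.mul_incl, hσp]
    have hκmul : ∀ x y, κ (x * y) = X.proj x • κ y + X.proj y • κ x := by
      intro x y
      apply hinj
      have h0 : (x - σ (X.proj x)) * (y - σ (X.proj y)) = 0 := by
        rw [← hκ, ← hκ, incl_mul_incl]
      rw [map_add, ← hσincl, ← hσincl, hκ, hκ, hκ, map_mul, map_mul]
      linear_combination h0
    have hκσ : ∀ c, κ (σ c) = 0 := by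
      intro c; apply hinj; rw [hκ, hσp, sub_self, map_zero]
    have hκincl : ∀ z, κ (X.incl z) = z := by
      intro z; apply hinj; rw [hκ, proj_incl, map_zero, sub_zero]
    let D : Derivation A B L := Derivation.mk'
      { toFun := fun b => κ (algebraMap B X.E b)
        map_add' := fun b b' => by rw [map_add, hκadd]
        map_smul' := fun a b => by
          rw [RingHom.id_apply, Algebra.smul_def, map_mul, hκmul, ← hσa a, hκσ, smul_zero,
            add_zero, hσp, algebraMap_smul] }
      (fun b b' => by
        show κ (algebraMap B X.E (b * b')) = b • κ (algebraMap B X.E b') +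
          b' • κ (algebraMap B X.E b)
        rw [map_mul, hκmul, AlgHom.commutes, AlgHom.commutes, algebraMap_smul, algebraMap_smul])
    have hD : ∀ b, D b = κ (algebraMap B X.E b) := fun b => rfl
    let φ : X.E ≃+* TrivSqZeroExt C L :=
      { toFun := fun x => TrivSqZeroExt.inl (X.proj x) + TrivSqZeroExt.inr (κ x)
        invFun := fun y => σ (TrivSqZeroExt.fst y) + X.incl (TrivSqZeroExt.snd y)
        left_inv := fun x => by
          simp only [TrivSqZeroExt.fst_add, TrivSqZeroExt.fst_inl, TrivSqZeroExt.fst_inr, add_zero,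
            TrivSqZeroExt.snd_add, TrivSqZeroExt.snd_inl, TrivSqZeroExt.snd_inr, zero_add]
          exact (hdecomp x).symm
        right_inv := fun y => by
          have h1 : X.proj (σ y.fst + X.incl y.snd) = y.fst := by
            rw [map_add, hσp, proj_incl, add_zero]
          have h2 : κ (σ y.fst + X.incl y.snd) = y.snd := by
            rw [hκadd, hκσ, hκincl, zero_add]
          show TrivSqZeroExt.inl (X.proj _) + TrivSqZeroExt.inr (κ _) = y
          rw [h1, h2, TrivSqZeroExt.inl_fst_add_inr_snd_eq]
        map_mul' := fun x y => by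
          apply TrivSqZeroExt.ext
          · simp
          · simp only [TrivSqZeroExt.snd_add, TrivSqZeroExt.snd_inl, TrivSqZeroExt.snd_inr,
              zero_add, TrivSqZeroExt.snd_mul, TrivSqZeroExt.fst_add, TrivSqZeroExt.fst_inl,
              TrivSqZeroExt.fst_inr, add_zero, op_smul_eq_smul, hκmul]
        map_add' := fun x y => by
          rw [map_add, hκadd, TrivSqZeroExt.inl_add, TrivSqZeroExt.inr_add]; abel }
    have hφ : ∀ x, φ x = TrivSqZeroExt.inl (X.proj x) + TrivSqZeroExt.inr (κ x) := fun x => rfl
    let e : X.E ≃ₐ[B] Exal.Ext.DerCarrier (C := C) D :=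
      AlgEquiv.ofRingEquiv (f := (φ : X.E ≃+* Exal.Ext.DerCarrier (C := C) D)) (fun b => by
        show φ (algebraMap B X.E b) =
          TrivSqZeroExt.inl (algebraMap B C b) + TrivSqZeroExt.inr (D b)
        rw [hφ, X.proj.commutes, hD])
    refine ⟨D, ⟨{ toAlgEquiv := e, proj_apply := fun x => ?_, apply_incl := fun z => ?_ }⟩⟩
    · show TrivSqZeroExt.fst (φ x) = X.proj x
      rw [hφ]; simp
    · show φ (X.incl z) = TrivSqZeroExt.inr z
      rw [hφ, proj_incl, hκincl, TrivSqZeroExt.inl_zero, zero_add]
  · rintro ⟨D, ⟨e⟩⟩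
    obtain ⟨φ, hφproj, hφalg⟩ : ∃ φ : TrivSqZeroExt C L →+* X.E,
        (∀ y, X.proj (φ y) = TrivSqZeroExt.fst y) ∧
        (∀ b : B, φ (TrivSqZeroExt.inl (algebraMap B C b) + TrivSqZeroExt.inr (D b)) =
          algebraMap B X.E b) :=
      ⟨((e.toAlgEquiv.symm : (Exal.Ext.ofDerivation (C := C) D).E ≃ₐ[B] X.E) :
          (Exal.Ext.ofDerivation (C := C) D).E →+* X.E),
        fun y => e.symm.proj_apply y, fun b => e.toAlgEquiv.symm.commutes b⟩
    refine ⟨{ toRingHom := (φ.comp (TrivSqZeroExt.inlHom C L) : C →+* X.RestrictCarrier A),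
              commutes' := fun a => ?_ }, fun c => ?_⟩
    · show φ (TrivSqZeroExt.inl (algebraMap A C a)) = algebraMap B X.E (algebraMap A B a)
      rw [← hφalg, Derivation.map_algebraMap, TrivSqZeroExt.inr_zero, add_zero,
        ← IsScalarTower.algebraMap_apply A B C]
    · show X.proj (φ (TrivSqZeroExt.inl c)) = c
      rw [hφproj, TrivSqZeroExt.fst_inl]

end Groth.Agent.S5818
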