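import Groth.Statements.S5819
import Groth.Agent.Lib.Helper9.ExalLib

set_option autoImplicit false
universe u v
open EGA41

namespace Groth.Agent.S5819

open Groth.Agent.Lib.Helper9.ExalLib

/-- Commutative rings, exactness at Exalcom_A(C, L) on underlying pointed sets. For ring maps A → B → C
and a C-module L, an A-extension Y of C by L pulls back to a trivial A-extension of B if and only if
Y is equivalent to some B-extension of C by L viewed as an A-extension. -/
theorem result {A : Type u} {B C L : Type v} [CommRing A]
    [CommRing B] [CommRing C] [Algebra A B] [Algebra B C] [Algebra A C] [IsScalarTower A B C]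
    [AddCommGroup L] [Module C L] [Module B L] [IsScalarTower B C L]
    (Y : Exal.Ext A C L) :
    (Y.pullback B).IsTrivial ↔
      ∃ X : Exal.Ext B C L, Nonempty ((X.restrictBase A).Equiv Y) := by
  constructor
  · rintro ⟨s, hs⟩
    let t : B →ₐ[A] Y.E := (AlgHom.fst A Y.E B).comp ((Y.fiberProd B).val.comp s)
    have ht : ∀ b, Y.proj (t b) = algebraMap B C b := fun b => by
      have hmem : Y.proj (Subtype.val (s b) : Y.E × B).1 =
          algebraMap B C (Subtype.val (s b) : Y.E × B).2 := (s b).2
      have h2 : (Subtype.val (s b) : Y.E × B).2 = b := hs b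
      rw [h2] at hmem
      exact hmem
    letI algB : Algebra B Y.E := t.toRingHom.toAlgebra
    let pr : Y.E →ₐ[B] C := { toRingHom := Y.proj.toRingHom, commutes' := fun b => ht b }
    let X : Exal.Ext B C L := @Exal.Ext.mk B C L _ _ _ _ _ Y.E Y.commRing algB pr Y.incl
      { proj_surjective := Y.isExtension.proj_surjective
        incl_injective := Y.isExtension.incl_injective
        exact := Y.isExtension.exact
        mul_incl := Y.isExtension.mul_incl }
    let eq : (X.restrictBase A).E ≃ₐ[A] Y.E := AlgEquiv.ofRingEquiv
      (f := (RingEquiv.refl Y.E : (X.restrictBase A).E ≃+* Y.E)) (fun a => t.commutes a)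
    exact ⟨X, ⟨{ toAlgEquiv := eq, proj_apply := fun x => rfl, apply_incl := fun z => rfl }⟩⟩
  · rintro ⟨X, ⟨e⟩⟩
    let β : B →ₐ[A] (X.restrictBase A).E :=
      { toRingHom := algebraMap B X.E, commutes' := fun a => rfl }
    let t' : B →ₐ[A] Y.E := (e.toAlgEquiv.toAlgHom).comp β
    have ht' : ∀ b, Y.proj (t' b) = algebraMap B C b := fun b => by
      show Y.proj (e.toAlgEquiv (algebraMap B X.E b)) = _
      rw [e.proj_apply]; exact X.proj.commutes b
    refine ⟨AlgHom.codRestrict (AlgHom.prod t' (AlgHom.id A B)) _ (fun b => ?_), fun b => rfl⟩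
    show Y.proj (t' b) = algebraMap B C b
    exact ht' b

end Groth.Agent.S5819
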