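import Groth.Statements.S5822
import Groth.Agent.Lib.Helper9.CharHomLib2

set_option autoImplicit false
universe u v
open scoped TensorProduct
open EGA41

namespace Groth.Agent.S5822

open Groth.Agent.Lib.Helper9.CharHomLib
open TensorProduct

/-- Injectivity. For ring maps A → B → C and a C-module L, assume (i) L is an injective C-module, or
(ii) Υ_{C/B/A} is a direct summand of C ⊗_B Ω_{B/A} and Ω_{C/A} → Ω_{C/B} has a right inverse. Then
two A-trivial B-extensions of C by L with a common characteristic homomorphism are equivalent: the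
map from classes of A-trivial extensions to Hom_C(Υ_{C/B/A}, L) is injective. -/
theorem result {A : Type u} {B C L : Type v} [CommRing A] [CommRing B] [CommRing C]
    [Algebra A B] [Algebra B C] [Algebra A C] [IsScalarTower A B C] [AddCommGroup L] [Module C L]
    (h : Module.Injective C L ∨
      ((∃ r : C ⊗[B] Ω[B⁄A] →ₗ[C] ↥(EGA41.imperfection A B C), ∀ z : ↥(EGA41.imperfection A B C), r z = z) ∧
        ∃ s : Ω[C⁄B] →ₗ[C] Ω[C⁄A], ∀ ω : Ω[C⁄B], KaehlerDifferential.map A B C C (s ω) = ω))
    (X Y : Exal.Ext B C L) (hX : X.IsTrivialOver A) (hY : Y.IsTrivialOver A)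
    (χ : ↥(EGA41.imperfection A B C) →ₗ[C] L) (hXχ : X.IsCharHom A χ) (hYχ : Y.IsCharHom A χ) :
    Nonempty (X.Equiv Y) := by
  obtain ⟨g, hg⟩ := exists_section A X hX
  obtain ⟨h', hh⟩ := exists_section A Y hY
  let δ : C ⊗[B] Ω[B⁄A] →ₗ[C] L := theta h' hh - theta g hg
  have hδ : LinearMap.ker (KaehlerDifferential.mapBaseChange A B C) ≤ LinearMap.ker δ := by
    intro w hw
    have h1 := (isCharHom_iff g hg χ).1 hXχ ⟨w, hw⟩
    have h2 := (isCharHom_iff h' hh χ).1 hYχ ⟨w, hw⟩
    rw [LinearMap.mem_ker, LinearMap.sub_apply, ← h1, ← h2, sub_self]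
  have hcase : Module.Injective C L ∨ ∃ π : Ω[C⁄A] →ₗ[C] Ω[C⁄A],
      (∀ n, π n ∈ LinearMap.range (KaehlerDifferential.mapBaseChange A B C)) ∧
      ∀ m, π (KaehlerDifferential.mapBaseChange A B C m) =
        KaehlerDifferential.mapBaseChange A B C m := by
    rcases h with hi | ⟨-, s, hs⟩
    · exact Or.inl hi
    · refine Or.inr ⟨LinearMap.id - s.comp (KaehlerDifferential.map A B C C),
        fun n => ?_, fun m => ?_⟩
      · rw [KaehlerDifferential.range_mapBaseChange, LinearMap.mem_ker, LinearMap.sub_apply,
          map_sub, LinearMap.id_apply, LinearMap.comp_apply, hs, sub_self]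
      · have h0 : KaehlerDifferential.map A B C C
            (KaehlerDifferential.mapBaseChange A B C m) = 0 := by
          have := LinearMap.mem_range_self (KaehlerDifferential.mapBaseChange A B C) m
          rwa [KaehlerDifferential.range_mapBaseChange, LinearMap.mem_ker] at this
        rw [LinearMap.sub_apply, LinearMap.id_apply, LinearMap.comp_apply, h0, map_zero,
          sub_zero]
  obtain ⟨δ'', hδ''⟩ := exists_extension (KaehlerDifferential.mapBaseChange A B C) δ hδ hcase
  refine nonempty_equiv_of_theta X Y g hg h' hh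
    (fun c => δ'' (KaehlerDifferential.D A C c)) ?_ ?_ ?_
  · intro c c'; rw [map_add, map_add]
  · intro c c'; rw [Derivation.leibniz, map_add, map_smul, map_smul]
  · intro b
    have h0 : KaehlerDifferential.D A C (algebraMap B C b) =
        KaehlerDifferential.mapBaseChange A B C
          ((1 : C) ⊗ₜ[B] KaehlerDifferential.D A B b) := by
      rw [KaehlerDifferential.mapBaseChange_tmul, KaehlerDifferential.map_D, one_smul]
    show δ'' (KaehlerDifferential.D A C (algebraMap B C b)) = _
    rw [h0, hδ'']; rfl

end Groth.Agent.S5822
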