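import Groth.Statements.S5823
import Groth.Agent.Lib.Helper9.CharHomLib

set_option autoImplicit false
universe u v
open scoped TensorProduct
open EGA41

namespace Groth.Agent.S5823

open Groth.Agent.Lib.Helper9.CharHomLib
open TensorProduct
attribute [local instance] Exal.opModule Exal.isCentralScalar_opModule

/-- Surjectivity. For ring maps A → B → C and a C-module L, assume (i) L is an injective C-module, or
(ii) Υ_{C/B/A} is a direct summand of C ⊗_B Ω_{B/A} and Ω_{C/A} → Ω_{C/B} has a right inverse. Then
every C-linear map Υ_{C/B/A} → L is the characteristic homomorphism of an A-trivial B-extension of C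
by L. -/
theorem result {A : Type u} {B C L : Type v} [CommRing A] [CommRing B] [CommRing C]
    [Algebra A B] [Algebra B C] [Algebra A C] [IsScalarTower A B C] [AddCommGroup L] [Module C L]
    (h : Module.Injective C L ∨
      ((∃ r : C ⊗[B] Ω[B⁄A] →ₗ[C] ↥(EGA41.imperfection A B C), ∀ z : ↥(EGA41.imperfection A B C), r z = z) ∧
        ∃ s : Ω[C⁄B] →ₗ[C] Ω[C⁄A], ∀ ω : Ω[C⁄B], KaehlerDifferential.map A B C C (s ω) = ω))
    (χ : ↥(EGA41.imperfection A B C) →ₗ[C] L) :
    ∃ X : Exal.Ext B C L, X.IsTrivialOver A ∧ X.IsCharHom A χ := by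
  obtain ⟨χt, hχt⟩ : ∃ χt : C ⊗[B] Ω[B⁄A] →ₗ[C] L,
      ∀ z : EGA41.imperfection A B C, χt (z : C ⊗[B] Ω[B⁄A]) = χ z := by
    rcases h with hi | ⟨⟨r, hr⟩, -⟩
    · exact hi.out (X := ↥(EGA41.imperfection A B C)) (Y := C ⊗[B] Ω[B⁄A])
        (EGA41.imperfection A B C).subtype Subtype.val_injective χ
    · exact ⟨χ.comp r, fun z => by rw [LinearMap.comp_apply, hr]⟩
  letI : Module B L := Module.compHom L (algebraMap B C)
  haveI : IsScalarTower B C L := IsScalarTower.of_algebraMap_smul (fun b z => rfl)
  letI : Module A L := Module.compHom L (algebraMap A C)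
  haveI : IsScalarTower A C L := IsScalarTower.of_algebraMap_smul (fun a z => rfl)
  haveI : IsScalarTower A B L := ⟨fun a b z => by
    show algebraMap B C (a • b) • z = algebraMap A C a • (algebraMap B C b • z)
    rw [Algebra.smul_def, map_mul, ← IsScalarTower.algebraMap_apply, mul_smul]⟩
  let f : Ω[B⁄A] →ₗ[B] L := (χt.restrictScalars B).comp ((TensorProduct.mk B C Ω[B⁄A]) 1)
  let D : Derivation A B L := f.compDer (KaehlerDifferential.D A B)
  have hD : ∀ b, D b = χt ((1 : C) ⊗ₜ[B] KaehlerDifferential.D A B b) := fun b => rfl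
  let X : Exal.Ext B C L := Exal.Ext.ofDerivation (C := C) D
  let g : C →ₐ[A] X.CharCarrier A :=
    { toRingHom := ((TrivSqZeroExt.inlHom C L : C →+* TrivSqZeroExt C L) :
        C →+* X.CharCarrier A)
      commutes' := fun a => by
        show (TrivSqZeroExt.inl (algebraMap A C a) : TrivSqZeroExt C L) =
          TrivSqZeroExt.inl (algebraMap B C (algebraMap A B a)) +
            TrivSqZeroExt.inr (D (algebraMap A B a))
        rw [Derivation.map_algebraMap, TrivSqZeroExt.inr_zero, add_zero,
          ← IsScalarTower.algebraMap_apply A B C] }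
  have hg : ∀ c, algebraMap (X.CharCarrier A) C (g c) = c := fun c => rfl
  have key : ∀ w : C ⊗[B] Ω[B⁄A], theta g hg w = χt w := by
    intro w
    induction w using tensorKaehler_induction with
    | zero => rw [map_zero, map_zero]
    | add x y hx hy => rw [map_add, map_add, hx, hy]
    | tmul_D c b =>
      apply inclC_injective A X
      rw [inclC_theta_tmul_D]
      show (TrivSqZeroExt.inl c : TrivSqZeroExt C L) *
          (TrivSqZeroExt.inl (algebraMap B C b) + TrivSqZeroExt.inr (D b)) -
          TrivSqZeroExt.inl c * TrivSqZeroExt.inl (algebraMap B C b) =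
        TrivSqZeroExt.inr (χt (c ⊗ₜ KaehlerDifferential.D A B b))
      rw [mul_add, add_sub_cancel_left, TrivSqZeroExt.inl_mul_inr, hD, ← map_smul,
        TensorProduct.smul_tmul', smul_eq_mul, mul_one]
  exact ⟨X, isTrivialOver_of_section A X g hg,
    (isCharHom_iff g hg χ).2 (fun z => by rw [← hχt z, key])⟩

end Groth.Agent.S5823
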