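import Groth.Statements.S5824
import Groth.Agent.Lib.Helper9.CharHomLib
import Groth.Agent.S5822
import Groth.Agent.S5823

set_option autoImplicit false
universe u v
open EGA41

namespace Groth.Agent.S5824

open Groth.Agent.Lib.Helper9.CharHomLib
open Groth.Agent.Lib.Helper9.ExalLib
open TensorProduct

/-- For ring maps A → B → C with C formally smooth over A (discrete topologies) and Ω_{C/B} a projective
C-module, and a C-module L, the characteristic homomorphism is a bijection from the classes of all
B-extensions of C by L (each of which is A-trivial) onto Hom_C(Υ_{C/B/A}, L): injectivity on classes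
and surjectivity. -/
theorem result {A : Type u} {B C L : Type v} [CommRing A] [CommRing B] [CommRing C]
    [Algebra A B] [Algebra B C] [Algebra A C] [IsScalarTower A B C] [AddCommGroup L] [Module C L]
    [Algebra.FormallySmooth A C] [Module.Projective C Ω[C⁄B]] :
    (∀ (X Y : Exal.Ext B C L) (χ : ↥(EGA41.imperfection A B C) →ₗ[C] L),
        X.IsCharHom A χ → Y.IsCharHom A χ → Nonempty (X.Equiv Y)) ∧
      ∀ χ : ↥(EGA41.imperfection A B C) →ₗ[C] L, ∃ X : Exal.Ext B C L, X.IsCharHom A χ := by
  have htriv : ∀ X : Exal.Ext B C L, X.IsTrivialOver A := by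
    intro X
    have hsq := ker_proj_sq (X.restrictBase A)
    obtain ⟨g, hg⟩ := Algebra.FormallySmooth.comp_surjective A C
      (RingHom.ker (X.restrictBase A).proj) hsq
      ((Ideal.quotientKerAlgEquivOfSurjective
        (X.restrictBase A).isExtension.proj_surjective).symm.toAlgHom)
    refine ⟨g, fun b => ?_⟩
    have h1 := congrArg (fun φ =>
      (Ideal.quotientKerAlgEquivOfSurjective (X.restrictBase A).isExtension.proj_surjective)
        (φ b)) hg
    simpa using h1
  obtain ⟨s, hs⟩ := Module.projective_lifting_property (KaehlerDifferential.map A B C C)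
    LinearMap.id (KaehlerDifferential.map_surjective A B C)
  have hs' : ∀ ω, KaehlerDifferential.map A B C C (s ω) = ω := fun ω => LinearMap.congr_fun hs ω
  let q := KaehlerDifferential.mapBaseChange A B C
  let π : Ω[C⁄A] →ₗ[C] Ω[C⁄A] := LinearMap.id - s.comp (KaehlerDifferential.map A B C C)
  have hπ1 : ∀ n, π n ∈ LinearMap.range q := by
    intro n
    rw [KaehlerDifferential.range_mapBaseChange, LinearMap.mem_ker, LinearMap.sub_apply,
      map_sub, LinearMap.id_apply, LinearMap.comp_apply, hs', sub_self]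
  have hπ2 : ∀ m, π (q m) = q m := by
    intro m
    have h0 : KaehlerDifferential.map A B C C (q m) = 0 := by
      have := LinearMap.mem_range_self q m
      rwa [KaehlerDifferential.range_mapBaseChange, LinearMap.mem_ker] at this
    rw [LinearMap.sub_apply, LinearMap.id_apply, LinearMap.comp_apply, h0, map_zero, sub_zero]
  obtain ⟨t, ht⟩ := Module.projective_lifting_property q.rangeRestrict
    (π.codRestrict (LinearMap.range q) hπ1) q.surjective_rangeRestrict
  have ht' : ∀ ω, q (t ω) = π ω := fun ω => congrArg Subtype.val (LinearMap.congr_fun ht ω)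
  let r0 : C ⊗[B] Ω[B⁄A] →ₗ[C] C ⊗[B] Ω[B⁄A] := LinearMap.id - t.comp q
  have hr0 : ∀ w, r0 w ∈ EGA41.imperfection A B C := fun w => by
    show r0 w ∈ LinearMap.ker q
    rw [LinearMap.mem_ker, LinearMap.sub_apply, map_sub, LinearMap.id_apply,
      LinearMap.comp_apply, ht', hπ2, sub_self]
  let r : C ⊗[B] Ω[B⁄A] →ₗ[C] EGA41.imperfection A B C := r0.codRestrict _ hr0
  have hr : ∀ z : EGA41.imperfection A B C, r z = z := fun z => by
    apply Subtype.ext
    show r0 z = z
    have h0 : q z = 0 := LinearMap.mem_ker.mp z.2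
    rw [LinearMap.sub_apply, LinearMap.id_apply, LinearMap.comp_apply, h0, map_zero, sub_zero]
  have hyp : Module.Injective C L ∨
      ((∃ r : C ⊗[B] Ω[B⁄A] →ₗ[C] ↥(EGA41.imperfection A B C),
          ∀ z : ↥(EGA41.imperfection A B C), r z = z) ∧
        ∃ s : Ω[C⁄B] →ₗ[C] Ω[C⁄A], ∀ ω : Ω[C⁄B], KaehlerDifferential.map A B C C (s ω) = ω) :=
    Or.inr ⟨⟨r, hr⟩, ⟨s, hs'⟩⟩
  refine ⟨fun X Y χ hX hY =>
    Groth.Agent.S5822.result hyp X Y (htriv X) (htriv Y) χ hX hY, fun χ => ?_⟩
  obtain ⟨X, -, hX⟩ := Groth.Agent.S5823.result hyp χ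
  exact ⟨X, hX⟩

end Groth.Agent.S5824
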