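import Groth.Statements.S5825
import Groth.Agent.Lib.Helper9.TopModLib
import Mathlib.Tactic.Abel

set_option autoImplicit false
universe u v w
open EGA41

namespace Groth.Agent.S5825

open Groth.Agent.Lib.Helper9.TopModLib

/-- Let A be a topological ring, M, N topological A-modules with the topologies deduced from that of A,
and u : M → N a continuous linear map with dense image (a formal epimorphism). Then u is a formal
bimorphism (dense image and inducing) if and only if, for every open ideal J of A, the induced map
M/JM → N/JN is bijective (injectivity and surjectivity are written out elementwise). -/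
theorem result {A : Type u} {M : Type v} {N : Type w} [CommRing A]
    [TopologicalSpace A] [AddCommGroup M] [Module A M] [TopologicalSpace M] [AddCommGroup N] [Module A N]
    [TopologicalSpace N] (hM : TopMod.IsDeduced A M) (hN : TopMod.IsDeduced A N) (u : M →L[A] N)
    (hu : DenseRange u) :
    IsDenseInducing u ↔
      ∀ J : Ideal A, IsOpen (J : Set A) →
        (∀ x : M, u x ∈ (J • ⊤ : Submodule A N) → x ∈ (J • ⊤ : Submodule A M)) ∧
          ∀ y : N, ∃ x : M, y - u x ∈ (J • ⊤ : Submodule A N) := by
  haveI := hM.1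
  haveI := hN.1
  have hdense : ∀ J : Ideal A, IsOpen (J : Set A) → ∀ y : N, ∃ x : M,
      y - u x ∈ (J • ⊤ : Submodule A N) := by
    intro J hJ y
    have hnhds : {n : N | y - n ∈ (J • ⊤ : Submodule A N)} ∈ nhds y := by
      have hcont : ContinuousAt (fun n : N => y - n) y := (continuous_sub_left y).continuousAt
      have hS : ((J • ⊤ : Submodule A N) : Set N) ∈ nhds ((fun n : N => y - n) y) := by
        simpa using hN.2.mem_of_mem hJ
      exact hcont.preimage_mem_nhds hS
    obtain ⟨x, hx⟩ := hu.mem_nhds hnhds
    exact ⟨x, hx⟩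
  constructor
  · intro hdi J hJ
    refine ⟨?_, hdense J hJ⟩
    intro x hx
    have hind : Topology.IsInducing u := hdi.toIsInducing
    have hnhds0 := (IsTopologicalAddGroup.isInducing_iff_nhds_zero (f := u)).mp hind
    have hJM : ((J • ⊤ : Submodule A M) : Set M) ∈ nhds (0 : M) := hM.2.mem_of_mem hJ
    rw [hnhds0, Filter.mem_comap] at hJM
    obtain ⟨V, hV, hVsub⟩ := hJM
    obtain ⟨J', hJ', hJ'sub⟩ := hN.2.mem_iff.mp hV
    have key : ∀ m : M, u m ∈ (J' • ⊤ : Submodule A N) → m ∈ (J • ⊤ : Submodule A M) :=
      fun m hm => hVsub (hJ'sub hm)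
    have claim : ∀ y ∈ (J • ⊤ : Submodule A N), ∃ m ∈ (J • ⊤ : Submodule A M),
        y - u m ∈ (J' • ⊤ : Submodule A N) := by
      intro y hy
      refine Submodule.smul_induction_on hy (fun a ha n _ => ?_)
        (fun y y' ⟨m, hm, h⟩ ⟨m', hm', h'⟩ => ?_)
      · obtain ⟨m, hm⟩ := hdense J' hJ' n
        refine ⟨a • m, Submodule.smul_mem_smul ha Submodule.mem_top, ?_⟩
        rw [map_smul, ← smul_sub]
        exact Submodule.smul_mem _ a hm
      · refine ⟨m + m', Submodule.add_mem _ hm hm', ?_⟩
        have h2 : y + y' - u (m + m') = (y - u m) + (y' - u m') := by rw [map_add]; abel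
        rw [h2]; exact Submodule.add_mem _ h h'
    obtain ⟨m, hm, hm'⟩ := claim (u x) hx
    have h1 : x - m ∈ (J • ⊤ : Submodule A M) := key (x - m) (by rw [map_sub]; exact hm')
    have h3 : x = (x - m) + m := by abel
    rw [h3]; exact Submodule.add_mem _ h1 hm
  · intro h
    refine ⟨?_, hu⟩
    rw [IsTopologicalAddGroup.isInducing_iff_nhds_zero]
    apply le_antisymm
    · have h0 := u.continuous.tendsto 0
      rw [map_zero] at h0
      exact h0.le_comap
    · intro S hS
      obtain ⟨J, hJ, hJsub⟩ := hM.2.mem_iff.mp hS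
      rw [Filter.mem_comap]
      exact ⟨((J • ⊤ : Submodule A N) : Set N), hN.2.mem_of_mem hJ,
        fun x hx => hJsub ((h J hJ).1 x hx)⟩

end Groth.Agent.S5825
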