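import Groth.Statements.S5826
import Groth.Agent.Lib.Helper9.TopModLib

set_option autoImplicit false
universe u v w
open EGA41

namespace Groth.Agent.S5826

open Groth.Agent.Lib.Helper9.TopModLib

/-- Let A be a topological ring, M, N topological A-modules with the topologies deduced from that of A,
u : M → N a continuous linear map. Then u is formally left invertible if and only if, for every open
ideal J of A, the induced map M/JM → N/JN is left invertible, i.e. some linear map N → M/JM composes
with u to the projection M → M/JM. -/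
theorem result {A : Type u} {M : Type v} {N : Type w}
    [CommRing A] [TopologicalSpace A] [AddCommGroup M] [Module A M] [TopologicalSpace M] [AddCommGroup N]
    [Module A N] [TopologicalSpace N] (hM : TopMod.IsDeduced A M) (hN : TopMod.IsDeduced A N)
    (u : M →L[A] N) :
    TopMod.IsFormallyLeftInvertible u ↔
      ∀ J : Ideal A, IsOpen (J : Set A) →
        ∃ w : N →ₗ[A] M ⧸ (J • ⊤ : Submodule A M), ∀ x : M, w (u x) = Submodule.Quotient.mk x := by
  haveI := hM.1
  haveI := hN.1
  constructor
  · intro h J hJ
    letI τE : TopologicalSpace (M ⧸ (J • ⊤ : Submodule A M)) := ⊥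
    haveI : DiscreteTopology (M ⧸ (J • ⊤ : Submodule A M)) := ⟨rfl⟩
    have hcont : Continuous (Submodule.mkQ (J • ⊤ : Submodule A M)) :=
      continuous_of_ker (Submodule.mkQ (J • ⊤ : Submodule A M)).toAddMonoidHom _
        (hM.2.mem_of_mem hJ) (fun y hy => (Submodule.Quotient.mk_eq_zero _).2 hy)
    obtain ⟨w, hw⟩ := h (M ⧸ (J • ⊤ : Submodule A M)) ⟨Submodule.mkQ _, hcont⟩
    exact ⟨w.toLinearMap, fun x => hw x⟩
  · intro h E _ _ _ _ v
    have hker : (v ⁻¹' {0} : Set M) ∈ nhds (0 : M) := by
      apply IsOpen.mem_nhds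
      · exact (isOpen_discrete _).preimage v.continuous
      · simp
    obtain ⟨J, hJ, hJsub⟩ := hM.2.mem_iff.mp hker
    obtain ⟨wJ, hwJ⟩ := h J hJ
    have hle : (J • ⊤ : Submodule A M) ≤ LinearMap.ker v.toLinearMap := fun y hy => hJsub hy
    let vbar : M ⧸ (J • ⊤ : Submodule A M) →ₗ[A] E := Submodule.liftQ _ v.toLinearMap hle
    let w : N →ₗ[A] E := vbar.comp wJ
    have hwker : ∀ y ∈ ((J • ⊤ : Submodule A N) : Set N), w y = 0 := by
      intro y hy
      refine Submodule.smul_induction_on hy (fun a ha n _ => ?_) (fun y y' hy hy' => ?_)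
      · show vbar (wJ (a • n)) = 0
        rw [map_smul]
        obtain ⟨m, hm⟩ := Submodule.Quotient.mk_surjective _ (wJ n)
        rw [← hm, ← Submodule.Quotient.mk_smul,
          (Submodule.Quotient.mk_eq_zero _).2 (Submodule.smul_mem_smul ha Submodule.mem_top),
          map_zero]
      · rw [map_add, hy, hy', add_zero]
    have hcont : Continuous w :=
      continuous_of_ker w.toAddMonoidHom _ (hN.2.mem_of_mem hJ) hwker
    refine ⟨⟨w, hcont⟩, fun x => ?_⟩
    show vbar (wJ (u x)) = v x
    rw [hwJ]; rfl

end Groth.Agent.S5826
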