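import Groth.Statements.S5827
import Groth.Agent.Lib.Helper9.NilpLift
import Groth.Agent.S5826
import Mathlib.RingTheory.Ideal.Quotient.Operations

set_option autoImplicit false
universe u v w
open EGA41

namespace Groth.Agent.S5827

/-- Let A be a preadmissible topological ring with an ideal of definition 𝔏, M, N topological A-modules
with the topologies deduced from that of A such that N/JN is a projective (A/J)-module for every
open ideal J, and u : M → N a continuous linear map. Then u is formally left invertible if and only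
if the induced map M/𝔏M → N/𝔏N is left invertible. -/
theorem result {A : Type u} {M : Type v}
    {N : Type w} [CommRing A] [TopologicalSpace A] [AddCommGroup M] [Module A M] [TopologicalSpace M]
    [AddCommGroup N] [Module A N] [TopologicalSpace N] (hA : LinTop.IsPreadmissible A) (𝔏 : Ideal A)
    (h𝔏 : LinTop.IsIdealOfDefinition A 𝔏) (hM : TopMod.IsDeduced A M) (hN : TopMod.IsDeduced A N)
    (hproj : ∀ J : Ideal A, IsOpen (J : Set A) → Module.Projective (A ⧸ J) (N ⧸ (J • (⊤ : Submodule A N))))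
    (u : M →L[A] N) :
    TopMod.IsFormallyLeftInvertible u ↔
      ∃ w : N →ₗ[A] M ⧸ (𝔏 • ⊤ : Submodule A M), ∀ x : M, w (u x) = Submodule.Quotient.mk x := by
  rw [Groth.Agent.S5826.result hM hN u]
  constructor
  · intro h; exact h 𝔏 h𝔏.1
  · rintro ⟨w, hw⟩ J hJ
    have hJ0 : (J : Set A) ∈ nhds (0 : A) := hJ.mem_nhds J.zero_mem
    obtain ⟨n, -, hn⟩ := h𝔏.2 _ hJ0
    have hpow : 𝔏 ^ n ≤ J := hn
    haveI := hproj J hJ
    have hI : (𝔏.map (Ideal.Quotient.mk J)) ^ n = ⊥ := by
      rw [← Ideal.map_pow, Ideal.map_eq_bot_iff_le_ker, Ideal.mk_ker]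
      exact hpow
    have hsurj : Function.Surjective (algebraMap A (A ⧸ J)) := Ideal.Quotient.mk_surjective
    haveI towM : IsScalarTower A (A ⧸ J) (M ⧸ (J • ⊤ : Submodule A M)) :=
      IsScalarTower.of_algebraMap_smul (fun a x => by
        obtain ⟨x, rfl⟩ := Submodule.Quotient.mk_surjective _ x
        rfl)
    haveI towN : IsScalarTower A (A ⧸ J) (N ⧸ (J • ⊤ : Submodule A N)) :=
      IsScalarTower.of_algebraMap_smul (fun a x => by
        obtain ⟨x, rfl⟩ := Submodule.Quotient.mk_surjective _ x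
        rfl)
    have hle : (J • ⊤ : Submodule A M) ≤ (J • ⊤ : Submodule A N).comap u.toLinearMap := by
      rw [Submodule.smul_le]
      intro a ha m _
      rw [Submodule.mem_comap, map_smul]
      exact Submodule.smul_mem_smul ha Submodule.mem_top
    let ubarA : (M ⧸ (J • ⊤ : Submodule A M)) →ₗ[A] (N ⧸ (J • ⊤ : Submodule A N)) :=
      Submodule.mapQ _ _ u.toLinearMap hle
    let ubar : (M ⧸ (J • ⊤ : Submodule A M)) →ₗ[A ⧸ J] (N ⧸ (J • ⊤ : Submodule A N)) :=
      ubarA.extendScalarsOfSurjective hsurj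
    let q : M →ₗ[A] ((M ⧸ (J • ⊤ : Submodule A M)) ⧸
        ((𝔏.map (Ideal.Quotient.mk J)) • ⊤ : Submodule (A ⧸ J) (M ⧸ (J • ⊤ : Submodule A M)))) :=
      ((Submodule.mkQ ((𝔏.map (Ideal.Quotient.mk J)) • ⊤ :
        Submodule (A ⧸ J) (M ⧸ (J • ⊤ : Submodule A M)))).restrictScalars A) ∘ₗ
        (Submodule.mkQ (J • ⊤ : Submodule A M))
    have hq : (𝔏 • ⊤ : Submodule A M) ≤ LinearMap.ker q := by
      rw [Submodule.smul_le]
      intro a ha m _
      rw [LinearMap.mem_ker]
      show Submodule.Quotient.mk (Submodule.Quotient.mk (a • m)) = 0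
      rw [Submodule.Quotient.mk_eq_zero]
      have h1 : (Submodule.Quotient.mk (a • m) : M ⧸ (J • ⊤ : Submodule A M)) =
          (Ideal.Quotient.mk J a) • (Submodule.Quotient.mk m : M ⧸ (J • ⊤ : Submodule A M)) := rfl
      rw [h1]
      exact Submodule.smul_mem_smul (Ideal.mem_map_of_mem _ ha) Submodule.mem_top
    let θ := Submodule.liftQ _ q hq
    let w₀A := θ ∘ₗ w
    have hw₀ker : (J • ⊤ : Submodule A N) ≤ LinearMap.ker w₀A := by
      rw [Submodule.smul_le]
      intro a ha y _
      rw [LinearMap.mem_ker, map_smul, ← algebraMap_smul (A ⧸ J) a, Ideal.Quotient.algebraMap_eq,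
        Ideal.Quotient.eq_zero_iff_mem.2 ha, zero_smul]
    let w₀' := Submodule.liftQ _ w₀A hw₀ker
    let w₀ := w₀'.extendScalarsOfSurjective hsurj
    have hw₀ : ∀ x, w₀ (ubar x) = Submodule.Quotient.mk x := by
      intro x
      obtain ⟨x, rfl⟩ := Submodule.Quotient.mk_surjective _ x
      show θ (w (u x)) = _
      rw [hw]; rfl
    obtain ⟨wbar, hwbar⟩ := Groth.Agent.Lib.Helper9.exists_leftInverse_of_nilpotent
      (𝔏.map (Ideal.Quotient.mk J)) n hI ubar w₀ hw₀
    refine ⟨(wbar.restrictScalars A) ∘ₗ (Submodule.mkQ _), fun x => ?_⟩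
    show wbar (Submodule.Quotient.mk (u x)) = Submodule.Quotient.mk x
    exact hwbar (Submodule.Quotient.mk x)

end Groth.Agent.S5827
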