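import Groth.Statements.S5828
import Groth.Agent.Lib.Helper9.ExalLib2

set_option autoImplicit false
universe u v
open EGA41

namespace Groth.Agent.S5828

open Groth.Agent.Lib.Helper9.ExalLib

/-- Commutative case. For an A-extension X of C by a C-module L, with middle ring E, projection p and
inclusion i, the A-derivations D : C → L and the self-equivalences of X correspond under D ↦ (x ↦ x
+ i (D (p x))): every derivation defines a self-equivalence with this formula, and every
self-equivalence is of this form for exactly one derivation. (Bijection of sets; the published
statement also records compatibility with the group laws.) -/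
theorem result {A : Type u} {C L : Type v} [CommRing A] [CommRing C] [Algebra A C]
    [AddCommGroup L] [Module C L] [Module A L] [IsScalarTower A C L] (X : Exal.Ext A C L) :
    (∀ D : Derivation A C L, ∃ e : X.Equiv X, ∀ x : X.E, e.toAlgEquiv x = x + X.incl (D (X.proj x))) ∧
      ∀ e : X.Equiv X, ∃! D : Derivation A C L, ∀ x : X.E, e.toAlgEquiv x = x + X.incl (D (X.proj x)) := by
  constructor
  · intro D
    let φ : X.E →ₐ[A] X.E :=
      { toFun := fun x => x + X.incl (D (X.proj x))
        map_one' := by rw [map_one, Derivation.map_one_eq_zero, map_zero, add_zero]
        map_mul' := fun x y => by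
          rw [map_mul, Derivation.leibniz, map_add, ← X.isExtension.mul_incl,
            ← X.isExtension.mul_incl]
          have := incl_mul_incl X (D (X.proj x)) (D (X.proj y))
          linear_combination -this
        map_zero' := by rw [map_zero, map_zero, map_zero, add_zero]
        map_add' := fun x y => by rw [map_add, map_add, map_add]; ring
        commutes' := fun a => by
          show algebraMap A X.E a + X.incl (D (X.proj (algebraMap A X.E a))) = algebraMap A X.E a
          rw [X.proj.commutes, Derivation.map_algebraMap, map_zero, add_zero] }
    refine ⟨equivOfAlgHom X X φ ?_ ?_, fun x => rfl⟩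
    · intro x
      show X.proj (x + X.incl _) = X.proj x
      rw [map_add, proj_incl, add_zero]
    · intro z
      show X.incl z + X.incl (D (X.proj (X.incl z))) = X.incl z
      rw [proj_incl, map_zero, map_zero, add_zero]
  · intro e
    have hker : ∀ x : X.E, X.proj (e.toAlgEquiv x - x) = 0 := fun x => by
      rw [map_sub, e.proj_apply, sub_self]
    let s := Function.surjInv X.isExtension.proj_surjective
    have hs : ∀ c, X.proj (s c) = c := Function.surjInv_eq _
    let d : C → L := fun c => X.kerLift (e.toAlgEquiv (s c) - s c) (hker _)
    have hd : ∀ x : X.E, X.incl (d (X.proj x)) = e.toAlgEquiv x - x := by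
      intro x
      show X.incl (X.kerLift _ _) = _
      rw [X.incl_kerLift]
      have h1 : X.proj (s (X.proj x) - x) = 0 := by rw [map_sub, hs, sub_self]
      obtain ⟨z, hz⟩ := (X.isExtension.exact _).1 h1
      have h2 : e.toAlgEquiv (s (X.proj x) - x) = s (X.proj x) - x := by
        rw [← hz, e.apply_incl]
      rw [map_sub] at h2
      linear_combination h2
    have hinj := X.isExtension.incl_injective
    have hincl_smul : ∀ (a : A) (z : L), X.incl (a • z) = a • X.incl z := by
      intro a z
      rw [Algebra.smul_def, X.isExtension.mul_incl, X.proj.commutes, algebraMap_smul]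
    let D : Derivation A C L := Derivation.mk'
      { toFun := d
        map_add' := fun c c' => by
          obtain ⟨x, rfl⟩ := X.isExtension.proj_surjective c
          obtain ⟨y, rfl⟩ := X.isExtension.proj_surjective c'
          apply hinj
          rw [← map_add, hd, map_add X.incl, hd, hd, map_add]; ring
        map_smul' := fun a c => by
          obtain ⟨x, rfl⟩ := X.isExtension.proj_surjective c
          apply hinj
          rw [RingHom.id_apply, ← map_smul, hd, hincl_smul, hd, map_smul, smul_sub] }
      (fun c c' => by
        obtain ⟨x, rfl⟩ := X.isExtension.proj_surjective c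
        obtain ⟨y, rfl⟩ := X.isExtension.proj_surjective c'
        apply hinj
        show X.incl (d (X.proj x * X.proj y)) =
          X.incl (X.proj x • d (X.proj y) + X.proj y • d (X.proj x))
        rw [← map_mul, hd, map_add, ← X.isExtension.mul_incl, ← X.isExtension.mul_incl, hd, hd,
          map_mul]
        have h0 : (e.toAlgEquiv x - x) * (e.toAlgEquiv y - y) = 0 := by
          rw [← hd, ← hd, incl_mul_incl]
        linear_combination h0)
    refine ⟨D, fun x => ?_, fun D' hD' => ?_⟩
    · show e.toAlgEquiv x = x + X.incl (d (X.proj x))
      rw [hd]; ring
    · apply Derivation.ext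
      intro c
      obtain ⟨x, rfl⟩ := X.isExtension.proj_surjective c
      apply hinj
      show X.incl (D' (X.proj x)) = X.incl (d (X.proj x))
      rw [hd]
      have := hD' x
      linear_combination -this

end Groth.Agent.S5828
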