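import Groth.Statements.S5831
import Groth.Agent.Lib.Helper9.HochschildSplit

set_option autoImplicit false
universe u
open EGA41

namespace Groth.Agent.S5831

open Groth.Agent.Lib.Helper9.Hochschild
open Groth.Agent.Lib.Helper9.ExalLib

/-- Discrete case. Let B be an A-algebra which is a projective A-module (A and B in one universe). If
for every B-module L in that universe every A-bilinear symmetric Hochschild 2-cocycle B × B → L is a
coboundary, then B is formally smooth over A. (The published statement assumes B formally projective
as a topological A-module; for discrete rings this is projectivity.) -/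
theorem result {A B : Type u} [CommRing A]
    [CommRing B] [Algebra A B] [Module.Projective A B]
    (h : ∀ (L : Type u) [AddCommGroup L] [Module B L] [Module A L] [IsScalarTower A B L]
      (f : B →ₗ[A] B →ₗ[A] L), (∀ x y : B, f x y = f y x) →
        (∀ x y z : B, f (x * y) z + z • f x y = x • f y z + f x (y * z)) →
          ∃ g : B →ₗ[A] L, ∀ x y : B, f x y = x • g y - g (x * y) + y • g x) :
    Algebra.FormallySmooth A B := by
  apply Algebra.FormallySmooth.of_comp_surjective
  intro R _ _ I hI φ
  letI := sqZeroModule I hI φ
  haveI : IsScalarTower A B ↥I := ⟨fun a b z => by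
    obtain ⟨r, hr⟩ := Ideal.Quotient.mk_surjective (φ b)
    have hr' : Ideal.Quotient.mk I (a • r) = φ (a • b) := by
      rw [Algebra.smul_def, Algebra.smul_def, map_mul, map_mul, hr, AlgHom.commutes]; rfl
    apply Subtype.ext
    rw [sqZeroModule_smul I hI φ (a • b) (a • r) hr' z, Submodule.coe_smul_of_tower,
      sqZeroModule_smul I hI φ b r hr z, smul_mul_assoc]⟩
  obtain ⟨g, hg⟩ := (sqZeroExt_isTrivial_iff I hI φ).mp
    (isTrivial_of_cocycles_split (sqZeroExt I hI φ) (fun f h1 h2 => h ↥I f h1 h2))
  exact ⟨g, hg⟩

end Groth.Agent.S5831
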