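import Groth.Statements.S5832
import Groth.Agent.Lib.Helper9.ExalDer

set_option autoImplicit false
universe u u' v
open EGA41

namespace Groth.Agent.S5832

open Groth.Agent.Lib.Helper9.ExalLib Groth.Agent.Lib.Helper9.ExalDer
open Groth.Agent.Lib.Helper9.CharHomLib
attribute [local instance] Exal.opModule Exal.isCentralScalar_opModule

/-- Surjectivity at the end of the sequence. For ring maps Λ → A → B → C and a C-module L, every
Λ-trivial A-extension of B by L is equivalent to the inverse image along B → C of a Λ-trivial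
A-extension of C by L. (Exactness at the other places is that of the six-term derivation-extension
sequence restricted to Λ-trivial classes.) -/
theorem result {Λ : Type u} {A : Type u'} {B C L : Type v}
    [CommRing Λ] [CommRing A] [CommRing B] [CommRing C] [Algebra Λ A] [Algebra Λ B] [Algebra Λ C]
    [Algebra A B] [Algebra B C] [Algebra A C] [IsScalarTower Λ A B] [IsScalarTower Λ A C] [IsScalarTower A B C]
    [AddCommGroup L] [Module C L] [Module B L] [IsScalarTower B C L]
    (Y : Exal.Ext A B L) (hY : Y.IsTrivialOver Λ) :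
    ∃ X : Exal.Ext A C L, X.IsTrivialOver Λ ∧ Nonempty ((X.pullback B).Equiv Y) := by
  obtain ⟨s, hs⟩ := hY
  obtain ⟨σ, hσ, hσΛ⟩ : ∃ σ : B →+* Y.E, (∀ b, Y.proj (σ b) = b) ∧
      (∀ l : Λ, σ (algebraMap Λ B l) = algebraMap A Y.E (algebraMap Λ A l)) :=
    ⟨s.toRingHom, hs, fun l => s.commutes l⟩
  have hBC : ∀ (b : B) (z : L), algebraMap B C b • z = b • z := fun b z => algebraMap_smul C b z
  let D : DerData A C L :=
    { d := fun a => kap Y σ hσ (algebraMap A Y.E a)
      map_add := fun a a' => by rw [map_add, kap_add]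
      map_mul := fun a a' => by
        rw [map_mul, kap_mul, Y.proj.commutes, Y.proj.commutes,
          IsScalarTower.algebraMap_apply A B C a, IsScalarTower.algebraMap_apply A B C a', hBC,
          hBC] }
  have hDd : ∀ a, D.d a = kap Y σ hσ (algebraMap A Y.E a) := fun a => rfl
  have hDΛ : ∀ l : Λ, D.d (algebraMap Λ A l) = 0 := fun l => by
    rw [hDd, ← hσΛ, kap_sigma]
  refine ⟨D.ext, ?_, ?_⟩
  · refine ⟨{ toRingHom := ((TrivSqZeroExt.inlHom C L : C →+* TrivSqZeroExt C L) :
                C →+* D.ext.RestrictCarrier Λ),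
              commutes' := fun l => ?_ }, fun c => rfl⟩
    show (TrivSqZeroExt.inl (algebraMap Λ C l) : TrivSqZeroExt C L) =
      TrivSqZeroExt.inl (algebraMap A C (algebraMap Λ A l)) +
        TrivSqZeroExt.inr (D.d (algebraMap Λ A l))
    rw [hDΛ, TrivSqZeroExt.inr_zero, add_zero, ← IsScalarTower.algebraMap_apply Λ A C]
  · let ψr : Y.E →+* TrivSqZeroExt C L :=
      { toFun := fun y => TrivSqZeroExt.inl (algebraMap B C (Y.proj y)) +
          TrivSqZeroExt.inr (kap Y σ hσ y)
        map_one' := by
          rw [map_one, map_one, kap_one, TrivSqZeroExt.inr_zero, add_zero, TrivSqZeroExt.inl_one]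
        map_mul' := fun y y' => by
          apply TrivSqZeroExt.ext
          · simp
          · simp only [TrivSqZeroExt.snd_add, TrivSqZeroExt.snd_inl, TrivSqZeroExt.snd_inr,
              zero_add, TrivSqZeroExt.snd_mul, TrivSqZeroExt.fst_add, TrivSqZeroExt.fst_inl,
              TrivSqZeroExt.fst_inr, add_zero, op_smul_eq_smul, kap_mul, hBC]
        map_zero' := by
          have hk0 : kap Y σ hσ 0 = 0 := by
            have := kap_sigma Y σ hσ 0
            rwa [map_zero] at this
          rw [map_zero, map_zero, hk0, TrivSqZeroExt.inr_zero, add_zero, TrivSqZeroExt.inl_zero]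
        map_add' := fun y y' => by
          rw [map_add, map_add, kap_add, TrivSqZeroExt.inl_add, TrivSqZeroExt.inr_add]; abel }
    let ψ₁ : Y.E →ₐ[A] D.ext.E :=
      { toRingHom := (ψr : Y.E →+* D.ext.E)
        commutes' := fun a => by
          show (TrivSqZeroExt.inl (algebraMap B C (Y.proj (algebraMap A Y.E a))) +
            TrivSqZeroExt.inr (kap Y σ hσ (algebraMap A Y.E a)) : TrivSqZeroExt C L) =
            TrivSqZeroExt.inl (algebraMap A C a) + TrivSqZeroExt.inr (D.d a)
          rw [Y.proj.commutes, ← IsScalarTower.algebraMap_apply A B C] }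
    have hψ₁ : ∀ y, ψ₁ y = (TrivSqZeroExt.inl (algebraMap B C (Y.proj y)) +
          TrivSqZeroExt.inr (kap Y σ hσ y) : TrivSqZeroExt C L) := fun y => rfl
    let ψ₀ : Y.E →ₐ[A] D.ext.E × B := AlgHom.prod ψ₁ Y.proj
    have hmem : ∀ y, ψ₀ y ∈ D.ext.fiberProd B := by
      intro y
      show D.ext.proj (ψ₁ y) = algebraMap B C (Y.proj y)
      rw [DerData.ext_proj, hψ₁]
      simp
    let ψ : Y.E →ₐ[A] (D.ext.pullback B).E := AlgHom.codRestrict ψ₀ (D.ext.fiberProd B) hmem
    have hproj : ∀ y, (D.ext.pullback B).proj (ψ y) = Y.proj y := fun y => rfl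
    have hincl : ∀ z, ψ (Y.incl z) = (D.ext.pullback B).incl z := by
      intro z
      apply Subtype.ext
      apply Prod.ext
      · show ψ₁ (Y.incl z) = D.ext.incl z
        rw [hψ₁, DerData.ext_incl, proj_incl, map_zero, kap_incl, TrivSqZeroExt.inl_zero,
          zero_add]
      · show Y.proj (Y.incl z) = 0
        exact proj_incl Y z
    exact ⟨(equivOfAlgHom Y (D.ext.pullback B) ψ hproj hincl).symm⟩

end Groth.Agent.S5832
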