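import Groth.Statements.S5834
import Groth.Agent.Lib.Helper9.CharHomInf
import Mathlib.RingTheory.Smooth.Basic
import Mathlib.Algebra.Exact.Basic

set_option autoImplicit false
universe u v
open EGA41

namespace Groth.Agent.S5834


open TensorProduct KaehlerDifferential in
lemma psi_injective {Λ : Type u} {A B : Type v} [CommRing Λ] [CommRing A] [CommRing B]
    [Algebra Λ A] [Algebra Λ B] [Algebra A B] [IsScalarTower Λ A B] [Algebra.FormallySmooth A B]
    (K : Ideal B) :
    Function.Injective (Groth.Agent.Lib.Helper9.CharHomInf.psi (Λ := Λ) (A := A) K) := by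
  have hj : Function.Injective (KaehlerDifferential.mapBaseChange Λ A B) := by
    rw [injective_iff_map_eq_zero]
    intro x hx
    obtain ⟨y, rfl⟩ := (Algebra.H1Cotangent.exact_δ_mapBaseChange Λ A B x).mp hx
    rw [Subsingleton.elim y 0, map_zero]
  obtain ⟨σ, hσ⟩ := Module.projective_lifting_property (KaehlerDifferential.map Λ A B B)
    LinearMap.id (KaehlerDifferential.map_surjective Λ A B)
  have hex := KaehlerDifferential.exact_mapBaseChange_map Λ A B
  obtain ⟨-, r, hr⟩ := (hex.split_tfae'.out 0 1 rfl rfl).mp ⟨hj, σ, hσ⟩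
  have hinj2 : Function.Injective
      ((KaehlerDifferential.mapBaseChange Λ A B).baseChange (B ⧸ K)) := by
    apply Function.LeftInverse.injective (g := r.baseChange (B ⧸ K))
    intro x
    rw [← LinearMap.comp_apply, ← LinearMap.baseChange_comp, hr, LinearMap.baseChange_id,
      LinearMap.id_apply]
  intro x y hxy
  rw [Groth.Agent.Lib.Helper9.CharHomInf.psi_apply,
    Groth.Agent.Lib.Helper9.CharHomInf.psi_apply] at hxy
  exact (LinearEquiv.injective _) (hinj2 hxy)

/-- Let Λ → A → B be ring maps with B formally smooth over A, K an ideal of B, C = B ⧸ K, and suppose E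
= B ⧸ K², as an extension of C by K/K², is Λ-trivial. Then the characteristic homomorphism χ :
Υ_{C/A/Λ} → K/K² of E as an A-extension relative to Λ → A is injective (so that, with the
description of its image as the kernel of K/K² → C ⊗_B Ω_{B/A}, the sequence 0 → Υ_{C/A/Λ} → K/K² →
C ⊗_B Ω_{B/A} → Ω_{C/A} → 0 is exact). -/
theorem result {Λ : Type u} {A B : Type v} [CommRing Λ]
    [CommRing A] [CommRing B] [Algebra Λ A] [Algebra Λ B] [Algebra A B] [IsScalarTower Λ A B]
    [Algebra.FormallySmooth A B] (K : Ideal B)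
    (htriv : ((Exal.Ext.infinitesimal K).restrictBase A).IsTrivialOver Λ)
    (χ : ↥(EGA41.imperfection Λ A (B ⧸ K)) →ₗ[B ⧸ K] K.Cotangent)
    (hχ : ((Exal.Ext.infinitesimal K).restrictBase A).IsCharHom Λ χ) :
    Function.Injective χ := by
  rw [injective_iff_map_eq_zero]
  intro z hz
  have h := (Groth.Agent.Lib.Helper9.CharHomInf.ker_char K htriv χ hχ z).1 hz
  have h2 := psi_injective (Λ := Λ) (A := A) K (h.trans (map_zero _).symm)
  exact Subtype.ext h2

end Groth.Agent.S5834
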