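import Groth.Statements.S5838
import Groth.Agent.Lib.Helper9.LeftInv

set_option autoImplicit false
universe u v w
open EGA41

namespace Groth.Agent.S5838

/-- Let A be a topological ring with a countable decreasing fundamental system (𝔍_n) of open ideals, M
and N topological A-modules with the topologies deduced from that of A, M Hausdorff and complete,
and u : M → N a continuous linear map such that for every n the cokernel of M/𝔍_n M → N/𝔍_n N is a
projective (A/𝔍_n)-module. Then u is formally left invertible if and only if it has a linear left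
inverse. (The published statement adds that u is then a topological isomorphism onto a topological
direct factor.) -/
theorem result {A : Type u} {M : Type v} {N : Type w}
    [CommRing A] [TopologicalSpace A] [AddCommGroup M] [Module A M] [UniformSpace M] [IsUniformAddGroup M]
    [CompleteSpace M] [T2Space M] [AddCommGroup N] [Module A N] [TopologicalSpace N]
    (𝔍 : ℕ → Ideal A) (h𝔍open : ∀ n, IsOpen (𝔍 n : Set A)) (h𝔍anti : Antitone 𝔍)
    (h𝔍basis : (nhds (0 : A)).HasBasis (fun _ : ℕ => True) (fun n => (𝔍 n : Set A)))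
    (hM : TopMod.IsDeduced A M) (hN : TopMod.IsDeduced A N) (u : M →L[A] N)
    (hcoker : ∀ n, Module.Projective (A ⧸ 𝔍 n)
      ((N ⧸ LinearMap.range u.toLinearMap) ⧸ (𝔍 n • (⊤ : Submodule A (N ⧸ LinearMap.range u.toLinearMap))))) :
    TopMod.IsFormallyLeftInvertible u ↔ ∃ w : N →ₗ[A] M, ∀ x : M, w (u x) = x := by
  have hnhds : ∀ n, ((𝔍 n • ⊤ : Submodule A M) : Set M) ∈ nhds (0 : M) :=
    fun n => hM.2.mem_iff.2 ⟨𝔍 n, h𝔍open n, subset_rfl⟩
  have hbasis : ∀ S ∈ nhds (0 : M), ∃ n, ((𝔍 n • ⊤ : Submodule A M) : Set M) ⊆ S := by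
    intro S hS
    obtain ⟨J, hJopen, hJS⟩ := hM.2.mem_iff.1 hS
    obtain ⟨n, -, hn⟩ := h𝔍basis.mem_iff.1 (hJopen.mem_nhds J.zero_mem)
    exact ⟨n, fun x hx => hJS (Submodule.smul_mono_left (show 𝔍 n ≤ J from hn) hx)⟩
  constructor
  · intro h
    apply Groth.Agent.Lib.Helper9.LeftInv.exists_leftInverse 𝔍 h𝔍anti hnhds hbasis
      u.toLinearMap hcoker
    intro n
    letI : TopologicalSpace (M ⧸ (𝔍 n • ⊤ : Submodule A M)) := ⊥
    haveI : DiscreteTopology (M ⧸ (𝔍 n • ⊤ : Submodule A M)) := ⟨rfl⟩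
    have hcont : Continuous (Submodule.mkQ (𝔍 n • ⊤ : Submodule A M)) :=
      Groth.Agent.Lib.Helper9.TopModLib.continuous_of_ker
        (Submodule.mkQ (𝔍 n • ⊤ : Submodule A M)).toAddMonoidHom _ (hnhds n)
        (fun y hy => (Submodule.Quotient.mk_eq_zero _).2 hy)
    obtain ⟨w, hw⟩ := h (M ⧸ (𝔍 n • ⊤ : Submodule A M)) ⟨Submodule.mkQ _, hcont⟩
    exact ⟨w.toLinearMap, fun x => hw x⟩
  · rintro ⟨w, hw⟩
    intro E _ _ _ _ v
    have hker : (v ⁻¹' {0} : Set M) ∈ nhds (0 : M) :=
      ((isOpen_discrete ({0} : Set E)).preimage v.continuous).mem_nhds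
        (show v 0 ∈ ({0} : Set E) from map_zero v)
    obtain ⟨J, hJopen, hJS⟩ := hM.2.mem_iff.1 hker
    haveI : IsTopologicalAddGroup N := hN.1
    have hSN : ((J • ⊤ : Submodule A N) : Set N) ∈ nhds (0 : N) :=
      hN.2.mem_iff.2 ⟨J, hJopen, subset_rfl⟩
    have hwJ : ∀ y ∈ (J • ⊤ : Submodule A N), w y ∈ (J • ⊤ : Submodule A M) := by
      intro y hy
      refine Submodule.smul_induction_on hy (fun a ha n _ => ?_) (fun y y' h1 h2 => ?_)
      · rw [map_smul]; exact Submodule.smul_mem_smul ha Submodule.mem_top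
      · rw [map_add]; exact Submodule.add_mem _ h1 h2
    have hcont : Continuous (v.toLinearMap ∘ₗ w) :=
      Groth.Agent.Lib.Helper9.TopModLib.continuous_of_ker (v.toLinearMap ∘ₗ w).toAddMonoidHom _
        hSN (fun y hy => hJS (hwJ y hy))
    exact ⟨⟨v.toLinearMap ∘ₗ w, hcont⟩, fun x => by
      show v (w (u x)) = v x
      rw [hw]⟩

end Groth.Agent.S5838
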