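import Groth.Statements.S5862
import Mathlib.FieldTheory.PurelyInseparable.Basic
import Mathlib.RingTheory.RingHom.PurelyInseparable
import Mathlib.AlgebraicGeometry.ResidueField

set_option autoImplicit false
universe u
open RadPt

namespace Groth.Agent.S5862


lemma pi_top {F E K : Type*} [Field F] [Field E] [Field K] (a : F →+* E) (b : E →+* K)
    (h : (b.comp a).IsPurelyInseparable) : b.IsPurelyInseparable := by
  letI := a.toAlgebra
  letI := b.toAlgebra
  letI := (b.comp a).toAlgebra
  haveI : IsScalarTower F E K := IsScalarTower.of_algebraMap_eq (fun x => rfl)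
  haveI : IsPurelyInseparable F K := h
  exact IsPurelyInseparable.tower_top F E K

lemma pi_bot {F E K : Type*} [Field F] [Field E] [Field K] (a : F →+* E) (b : E →+* K)
    (h : (b.comp a).IsPurelyInseparable) : a.IsPurelyInseparable := by
  letI := a.toAlgebra
  letI := b.toAlgebra
  letI := (b.comp a).toAlgebra
  haveI : IsScalarTower F E K := IsScalarTower.of_algebraMap_eq (fun x => rfl)
  haveI : IsPurelyInseparable F K := h
  exact IsPurelyInseparable.tower_bot F E K

lemma pi_congr {F E : Type*} [Field F] [Field E] {a b : F →+* E} (h : a = b)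
    (ha : a.IsPurelyInseparable) : b.IsPurelyInseparable := h ▸ ha

open CategoryTheory AlgebraicGeometry in
lemma key {X Y Z : Scheme.{u}} (f : X ⟶ Y) (g : Y ⟶ Z) (x : X) :
    ((f ≫ g).residueFieldMap x).hom =
      ((f.residueFieldMap x).hom.comp (g.residueFieldMap (f x)).hom) := by
  rw [Scheme.residueFieldMap_comp]; rfl

open CategoryTheory AlgebraicGeometry in
/-- Let f : X → Y and g : Y → Z be morphisms of schemes and y a point of Y. If f is radicial at y (fibre
with at most one point, purely inseparable residue field extension) and g is radicial at g(y), then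
g ∘ f is radicial at g(y). Conversely, if f is surjective and g ∘ f is radicial at g(y), then f is
radicial at y and g is radicial at g(y). -/
theorem result {X Y Z : Scheme.{u}} (f : X ⟶ Y) (g : Y ⟶ Z) (y : Y) :
    (RadPt.IsRadicialAt f y → RadPt.IsRadicialAt g (g y) → RadPt.IsRadicialAt (f ≫ g) (g y)) ∧
      (Surjective f → RadPt.IsRadicialAt (f ≫ g) (g y) →
        RadPt.IsRadicialAt f y ∧ RadPt.IsRadicialAt g (g y)) := by
  refine ⟨fun hf hg => ⟨?_, ?_⟩, fun hs hfg => ⟨⟨?_, ?_⟩, ⟨?_, ?_⟩⟩⟩
  · intro x x' hx hx'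
    rw [Scheme.Hom.comp_apply] at hx hx'
    have h1 : f x = y := hg.1 (f x) y hx rfl
    have h2 : f x' = y := hg.1 (f x') y hx' rfl
    exact hf.1 x x' h1 h2
  · intro x hx
    rw [Scheme.Hom.comp_apply] at hx
    have h1 : f x = y := hg.1 (f x) y hx rfl
    exact pi_congr (key f g x).symm
      (RingHom.IsPurelyInseparable.comp (hg.2 (f x) hx) (hf.2 x h1))
  · intro x x' hx hx'
    exact hfg.1 x x' (by rw [Scheme.Hom.comp_apply, hx]) (by rw [Scheme.Hom.comp_apply, hx'])
  · intro x hx
    have h := hfg.2 x (by rw [Scheme.Hom.comp_apply, hx])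
    exact pi_top _ _ (pi_congr (key f g x) h)
  · intro y' y'' hy' hy''
    obtain ⟨x', rfl⟩ := hs.surj y'
    obtain ⟨x'', rfl⟩ := hs.surj y''
    rw [hfg.1 x' x'' (by rw [Scheme.Hom.comp_apply]; exact hy')
      (by rw [Scheme.Hom.comp_apply]; exact hy'')]
  · intro y' hy'
    obtain ⟨x', rfl⟩ := hs.surj y'
    have h := hfg.2 x' (by rw [Scheme.Hom.comp_apply]; exact hy')
    exact pi_bot _ _ (pi_congr (key f g x') h)

end Groth.Agent.S5862
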