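import Groth.Statements.S5863
import Mathlib

set_option autoImplicit false
universe u
open RadPt

namespace Groth.Agent.S5863

theorem pi_of_bijective {K L : Type*} [Field K] [Field L] (a : K →+* L)
    (ha : Function.Bijective a) : a.IsPurelyInseparable := by
  algebraize [a]
  show IsPurelyInseparable K L
  rw [isPurelyInseparable_iff]
  intro x
  obtain ⟨y, rfl⟩ := ha.2 x
  exact ⟨isIntegral_algebraMap, fun _ => ⟨y, rfl⟩⟩

theorem pi_iff_of_comm {K₁ K₂ L₁ L₂ : Type*} [Field K₁] [Field K₂] [Field L₁] [Field L₂]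
    (A : K₁ →+* L₁) (P : K₂ →+* L₂) (c : K₁ →+* K₂) (d : L₁ →+* L₂)
    (hc : Function.Bijective c) (hd : Function.Bijective d) (h : d.comp A = P.comp c) :
    A.IsPurelyInseparable ↔ P.IsPurelyInseparable := by
  let ec := RingEquiv.ofBijective c hc
  let ed := RingEquiv.ofBijective d hd
  constructor
  · intro hA
    have hP : P = (d.comp A).comp (ec.symm : K₂ →+* K₁) := by
      rw [h]
      ext x
      show P x = P (c (ec.symm x))
      have hx : c (ec.symm x) = x := ec.apply_symm_apply x
      rw [hx]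
    rw [hP]
    exact ((pi_of_bijective (ec.symm : K₂ →+* K₁) ec.symm.bijective).comp hA).comp
      (pi_of_bijective d hd)
  · intro hP
    have hA : A = ((ed.symm : L₂ →+* L₁).comp P).comp c := by
      ext x
      have := congrArg (fun g : K₁ →+* L₂ => g x) h
      simp only [RingHom.comp_apply] at this
      simp only [RingHom.comp_apply, RingEquiv.coe_toRingHom, ← this]
      exact (ed.symm_apply_apply (A x)).symm
    rw [hA]
    exact ((pi_of_bijective c hc).comp hP).comp
      (pi_of_bijective (ed.symm : L₂ →+* L₁) ed.symm.bijective)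

open AlgebraicGeometry CategoryTheory in
theorem residueFieldMap_bijective_of_isPreimmersion {Z X : Scheme.{u}} (ι : Z ⟶ X)
    [IsPreimmersion ι] (z : Z) : Function.Bijective (ι.residueFieldMap z).hom := by
  refine ⟨(ι.residueFieldMap z).hom.injective, ?_⟩
  intro b
  obtain ⟨b₀, rfl⟩ := IsLocalRing.residue_surjective b
  obtain ⟨a, rfl⟩ := ι.stalkMap_surjective z b₀
  exact ⟨IsLocalRing.residue _ a, rfl⟩

open AlgebraicGeometry CategoryTheory in
theorem pi_dictionary {Z X W Y : Scheme.{u}} (ι : Z ⟶ X) (ψ : Z ⟶ W) (f : X ⟶ Y) (j : W ⟶ Y)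
    (hcomm : ι ≫ f = ψ ≫ j) [IsPreimmersion ι] [IsPreimmersion j] (z : Z) :
    (f.residueFieldMap (ι z)).hom.IsPurelyInseparable ↔
      (ψ.residueFieldMap z).hom.IsPurelyInseparable := by
  have h1 := Scheme.Hom.residueFieldMap_congr hcomm z
  rw [Scheme.residueFieldMap_comp, Scheme.residueFieldMap_comp] at h1
  refine pi_iff_of_comm (f.residueFieldMap (ι z)).hom (ψ.residueFieldMap z).hom
    ((j.residueFieldMap (ψ z)).hom.comp (Y.residueFieldCongr
      (by rw [← Scheme.Hom.comp_apply, hcomm, Scheme.Hom.comp_apply])).hom.hom)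
    (ι.residueFieldMap z).hom ?_ ?_ ?_
  · exact (residueFieldMap_bijective_of_isPreimmersion j (ψ z)).comp
      (ConcreteCategory.bijective_of_isIso (Y.residueFieldCongr _).hom)
  · exact residueFieldMap_bijective_of_isPreimmersion ι z
  · have := congrArg CommRingCat.Hom.hom h1
    simpa [CommRingCat.hom_comp, RingHom.comp_assoc] using this

open AlgebraicGeometry CategoryTheory in
theorem isRadicialAt_iff_fibre {X Y : Scheme.{u}} (f : X ⟶ Y) (y : Y) :
    RadPt.IsRadicialAt f y ↔ UniversallyInjective (f.fiberToSpecResidueField y) := by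
  have htfae := (tfae_universallyInjective (f.fiberToSpecResidueField y)).out 0 2
  rw [htfae]
  have hmem : ∀ z : f.fiber y, f (f.fiberι y z) = y := by
    intro z
    have : f.fiberι y z ∈ f ⁻¹' {y} := (f.range_fiberι y) ▸ Set.mem_range_self z
    exact this
  constructor
  · rintro ⟨h1, h2⟩
    refine ⟨fun z z' _ => ?_, fun z => ?_⟩
    · exact (f.fiberι y).isEmbedding.injective (h1 _ _ (hmem z) (hmem z'))
    · exact (pi_dictionary (f.fiberι y) (f.fiberToSpecResidueField y) f
        (Y.fromSpecResidueField y) (f.fiber_fac y) z).mp (h2 _ (hmem z))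
  · rintro ⟨h1, h2⟩
    refine ⟨fun x x' hx hx' => ?_, fun x hx => ?_⟩
    · obtain ⟨z, rfl⟩ : x ∈ Set.range (f.fiberι y) := by rw [f.range_fiberι y]; exact hx
      obtain ⟨z', rfl⟩ : x' ∈ Set.range (f.fiberι y) := by rw [f.range_fiberι y]; exact hx'
      have : z = z' := h1 (Subsingleton.elim (α := PrimeSpectrum _) _ _)
      rw [this]
    · obtain ⟨z, rfl⟩ : x ∈ Set.range (f.fiberι y) := by rw [f.range_fiberι y]; exact hx
      exact (pi_dictionary (f.fiberι y) (f.fiberToSpecResidueField y) f
        (Y.fromSpecResidueField y) (f.fiber_fac y) z).mpr (h2 z)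

open CategoryTheory AlgebraicGeometry in
/-- Let f : X → Y and h : Y' → Y be morphisms of schemes, f' : X ×_Y Y' → Y' the base change of f (any
cartesian square), y' a point of Y' and y = h(y'). Then f is radicial at y if and only if f' is
radicial at y'. -/
theorem result {X Y X' Y' : Scheme.{u}} {f : X ⟶ Y} {h : Y' ⟶ Y} {f' : X' ⟶ Y'} {h' : X' ⟶ X}
    (sq : IsPullback h' f' f h) (y' : Y') :
    RadPt.IsRadicialAt f (h y') ↔ RadPt.IsRadicialAt f' y' := by

  rw [isRadicialAt_iff_fibre, isRadicialAt_iff_fibre]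
  have hp := isPullback_fiberToSpecResidueField_of_isPullback sq y'
  let b := Spec.map (h.residueFieldMap y')
  haveI : Subsingleton ↥(Spec (Y.residueField (h y'))) :=
    inferInstanceAs (Subsingleton (PrimeSpectrum _))
  haveI : Nonempty ↥(Spec (Y'.residueField y')) :=
    inferInstanceAs (Nonempty (PrimeSpectrum _))
  have hsurj : Surjective b := ⟨fun p => ⟨Classical.arbitrary _, Subsingleton.elim _ _⟩⟩
  have hflat : Flat b := inferInstance
  have hqc : QuasiCompact b := inferInstance
  constructor
  · intro hφ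
    exact MorphismProperty.of_isPullback (P := @UniversallyInjective) hp hφ
  · intro hφ'
    exact MorphismProperty.DescendsAlong.of_isPullback (P := @UniversallyInjective)
      (Q := @Surjective ⊓ @Flat ⊓ @QuasiCompact) hp.flip ⟨⟨hsurj, hflat⟩, hqc⟩ hφ'

end Groth.Agent.S5863
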