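import Groth.Statements.S5864
-- import your own Groth.Agent.* helpers here
import Mathlib
import Groth.Agent.Lib.Helper12.BiratBC

set_option autoImplicit false
universe u
open RadPt

namespace Groth.Agent.S5864

open CategoryTheory AlgebraicGeometry Groth.Agent.Lib.Helper12 Groth.Agent.Lib.Helper12.BiratBC

set_option backward.isDefEq.respectTransparency false

lemma mem_genericPoints_iff {X : Scheme.{u}} (x : X) :
    x ∈ genericPoints X ↔ ∀ z : X, z ⤳ x → z = x :=
  ⟨fun h z hz => eq_of_specializes_of_mem_irreducibleComponents h hz,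
    fun h => mem_irreducibleComponents_of_forall_specializes h⟩

lemma mem_genericPoints_of_flat {X Y : Scheme.{u}} (g : X ⟶ Y) [Flat g] {x : X}
    (hx : x ∈ genericPoints X) : g x ∈ genericPoints Y := by
  rw [mem_genericPoints_iff] at hx ⊢
  intro z hz
  obtain ⟨x', hx', rfl⟩ := (Flat.generalizingMap g) hz
  rw [hx x' hx']


open CategoryTheory AlgebraicGeometry in
/-- Let f : X → Y be a morphism of schemes whose induced morphism of reduced schemes is birational (f
maps the maximal points of X bijectively onto those of Y, with one-point fibres and trivial residue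
field extensions over the maximal points of Y), g : Y' → Y a flat morphism and f' : X ×_Y Y' → Y'
the base change (any cartesian square). Then the morphism of reduced schemes induced by f' is
birational in the same sense. -/
theorem result {X Y X' Y' : Scheme.{u}} {f : X ⟶ Y} {g : Y' ⟶ Y} [Flat g] {f' : X' ⟶ Y'} {g' : X' ⟶ X}
    (sq : IsPullback g' f' f g) (hf : RadPt.IsBirational f) : RadPt.IsBirational f' := by
  classical
  obtain ⟨hbij, hfib⟩ := hf
  haveI : Flat g' := MorphismProperty.of_isPullback (P := @Flat) sq.flip inferInstance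
  have hcomm : ∀ a : X', f (g' a) = g (f' a) := by
    intro a
    have := congr($(sq.w) a)
    simpa only [Scheme.Hom.comp_apply] using this
  -- unique point over a point lying over a maximal point of `Y`
  have key : ∀ y' : Y', g y' ∈ genericPoints Y →
      ∃ a : X', f' a = y' ∧ (∀ b : X', f' b = y' → b = a) ∧
        Function.Bijective (f'.residueFieldMap a).hom ∧
        ∃ x : X, g' a = x ∧ x ∈ genericPoints X ∧ f x = g y' ∧
          Function.Bijective (f.residueFieldMap x).hom := by
    intro y' hy'
    obtain ⟨x, hxM, hxy⟩ := hbij.surjOn hy'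
    have hresx : Function.Bijective (f.residueFieldMap x).hom := (hfib _ hy').2 x hxy
    obtain ⟨a, ha1, ha2⟩ := Scheme.exists_preimage_of_isPullback sq x y' hxy
    refine ⟨a, ha2, ?_, bijective_residueFieldMap sq x hresx ha1, x, ha1, hxM, hxy, hresx⟩
    intro b hb
    have hgb : g' b = x := by
      apply (hfib _ hy').1 _ _ _ hxy
      rw [hcomm, hb]
    exact eq_of_apply_eq sq x hresx hgb ha1 (hb.trans ha2.symm)
  have hmaps : Set.MapsTo f' (genericPoints X') (genericPoints Y') := by
    intro a ha
    have hx : g' a ∈ genericPoints X := mem_genericPoints_of_flat g' ha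
    have hy : f (g' a) ∈ genericPoints Y := hbij.mapsTo hx
    have hresx : Function.Bijective (f.residueFieldMap (g' a)).hom := (hfib _ hy).2 _ rfl
    rw [mem_genericPoints_iff]
    intro y'' hy''
    have h1 : g y'' = f (g' a) := by
      have h2 : g y'' ⤳ g (f' a) := hy''.map g.continuous
      rw [← hcomm] at h2
      exact (mem_genericPoints_iff _).mp hy _ h2
    obtain ⟨b, hb1, hb2⟩ := exists_specializes sq (g' a) hresx rfl h1 hy''
    have hba : b = a := (mem_genericPoints_iff _).mp ha b hb1
    rw [← hb2, hba]
  refine ⟨⟨hmaps, ?_, ?_⟩, ?_⟩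
  · intro a ha b hb hab
    have hy' : g (f' a) ∈ genericPoints Y := mem_genericPoints_of_flat g (hmaps ha)
    obtain ⟨c, -, hc2, -⟩ := key (f' a) hy'
    rw [hc2 a rfl, hc2 b hab.symm]
  · intro y' hy'
    have hy : g y' ∈ genericPoints Y := mem_genericPoints_of_flat g hy'
    obtain ⟨a, ha1, ha2, -⟩ := key y' hy
    refine ⟨a, ?_, ha1⟩
    rw [mem_genericPoints_iff]
    intro z hz
    apply ha2
    have h2 : f' z ⤳ f' a := hz.map f'.continuous
    rw [ha1] at h2
    exact (mem_genericPoints_iff _).mp hy' _ h2
  · intro y' hy'
    have hy : g y' ∈ genericPoints Y := mem_genericPoints_of_flat g hy'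
    obtain ⟨a, ha1, ha2, ha3, -⟩ := key y' hy
    refine ⟨fun b b' hb hb' => by rw [ha2 b hb, ha2 b' hb'], ?_⟩
    intro b hb
    rw [ha2 b hb]
    exact ha3

end Groth.Agent.S5864
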