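import Groth.Statements.S5869
import Groth.Agent.Lib.Helper14.ZH.Func
import Groth.Agent.Lib.Helper14.ZH.Dev
import Groth.Agent.Lib.Helper14.ZH.Dom

set_option autoImplicit false
universe u
open ZClos

namespace Groth.Agent.S5869

open CategoryTheory CategoryTheory.Limits AlgebraicGeometry in
/-- a) ⇔ b): for a Noetherian ring A with X = Spec A, the following are equivalent: a) for every prime
ideal q of A, writing B = A/q, the ring B^(1) (intersection of the localizations of B at its
height-one primes) is a finite B-algebra; b) for every finite A-module M and every subset Z of X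
stable under specialization such that, for every associated prime p of M not in Z and every prime p'
∈ Z containing p, the image of p' in A/p has height at least 2, the Z-closure H⁰_{X/Z} of the module
M~ is coherent. -/
theorem result (A : Type u) [CommRing A] [IsNoetherianRing A] :
    (∀ (q : Ideal A) [q.IsPrime], EGA4.HeightOneHullFinite (A ⧸ q)) ↔
      ∀ (M : Type u) [AddCommGroup M] [Module A M] [Module.Finite A M]
        (Z : Set (PrimeSpectrum A)), StableUnderSpecialization Z →
        (∀ x : PrimeSpectrum A, x.asIdeal ∈ associatedPrimes A M → x ∉ Z →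
          ∀ y ∈ Z, x.asIdeal ≤ y.asIdeal → (2 : ℕ∞) ≤ (y.asIdeal.map (Ideal.Quotient.mk x.asIdeal)).height) →
        Coh.IsCoh ((ZClos.H0 (X := Spec (CommRingCat.of A)) Z).obj (EGA4.tildeOf A M)) := by
  classical
  haveI : IsNoetherianRing ↑(CommRingCat.of A) := ‹IsNoetherianRing A›
  constructor
  · intro hfin M _ _ _ Z hZ hcond
    refine (Groth.Agent.Lib.Helper14.ZH.isCoh_iff (R := CommRingCat.of A) Z hZ M).2 ?_
    have hP : Groth.Agent.Lib.Helper14.ZH.DevClass (A := A)
        (fun (N : Type u) [AddCommGroup N] [Module A N] =>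
          Groth.Agent.Lib.Helper14.ZH.HFin (R := CommRingCat.of A) Z N) := by
      refine ⟨?_, ?_, ?_⟩
      · intro N _ _ _
        apply Groth.Agent.Lib.Helper14.ZH.HFin.of_torsion (R := CommRingCat.of A) hZ ⊤
        · intro y hy
          exfalso
          rw [PrimeSpectrum.mem_zeroLocus] at hy
          exact y.isPrime.ne_top (eq_top_iff.2 fun a _ => hy (Submodule.mem_top))
        · intro m
          exact ⟨0, fun a _ => by rw [Subsingleton.elim m 0, smul_zero]⟩
      · intro M₁ M₂ _ _ _ _ f hf h
        exact Groth.Agent.Lib.Helper14.ZH.HFin.of_injective (R := CommRingCat.of A) hZ f hf h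
      · intro N _ _ N' h1 h3
        exact Groth.Agent.Lib.Helper14.ZH.HFin.of_submodule_quotient (R := CommRingCat.of A)
          hZ N' h1 h3
    refine hP.main Z hZ ?_ M ?_
    · intro J hJ N _ _ h
      exact Groth.Agent.Lib.Helper14.ZH.HFin.of_torsion (R := CommRingCat.of A) hZ J hJ N h
    · intro p hp hpass hpZ
      haveI := hp
      refine Groth.Agent.Lib.Helper14.ZH.HFin.quot_prime (R := CommRingCat.of A) p hpZ ?_
        (hfin p)
      intro y hy hle
      exact hcond ⟨p, hp⟩ hpass hpZ y hy hle
  · intro hb q hq
    apply Groth.Agent.Lib.Helper14.ZH.hullFinite_of_HFin (R := CommRingCat.of A) q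
    refine (Groth.Agent.Lib.Helper14.ZH.isCoh_iff (R := CommRingCat.of A)
      (Groth.Agent.Lib.Helper14.ZH.Z2 (R := CommRingCat.of A) q)
      (Groth.Agent.Lib.Helper14.ZH.stable_Z2 (R := CommRingCat.of A) q) (A ⧸ q)).1 ?_
    refine hb (A ⧸ q) _ (Groth.Agent.Lib.Helper14.ZH.stable_Z2 (R := CommRingCat.of A) q) ?_
    intro x hx hxZ y hy hle
    have hass : associatedPrimes A (A ⧸ q) = {q} := by
      have h1 := associatedPrimes.eq_singleton_of_isPrimary hq.isPrimary
      rwa [hq.radical] at h1
    rw [hass, Set.mem_singleton_iff] at hx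
    obtain ⟨I, hI⟩ := x
    change I = q at hx
    subst hx
    exact hy.2

end Groth.Agent.S5869
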