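import Groth.Statements.S5885
-- import your own Groth.Agent.* helpers here
import Mathlib
import Groth.Agent.Lib.Helper12.ConsPropNoeth

set_option autoImplicit false
universe u
open CategoryTheory AlgebraicGeometry
open ConsProp

namespace Groth.Agent.S5885
open Groth.Agent.Lib.Helper12 Groth.Agent.Lib.Helper12.ConsPropBasic Topology
open Groth.Agent.Lib.Helper12.ConsPropNoeth Groth.Agent.Lib.Helper12.ConstrNhds

/-- Let P(X, k) be an ind-constructible property of algebraic schemes, and let P'(f, X, Y, k) be the
relation on k-morphisms f : X ⟶ Y of algebraic k-schemes: for every point y of Y, P holds for the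
fibre f⁻¹(y) over κ(y). Then P' is an ind-constructible property of morphisms of algebraic schemes. -/
theorem result
    {P : ∀ ⦃Y T : Scheme.{u}⦄, (Y ⟶ T) → Prop} (hP : ConsProp.IsIndCons P) :
    ConsProp.IsIndConsMor
      (fun X Y T f g => ∀ y : ↥Y, P (f.fiberToSpecResidueField y)) := by
  refine ⟨?_, ?_⟩
  · intro X X' Y Y' T T' f g f' g' eX eY h _ _ _ _ _ _ _ _ hY hX
    haveI : IsLocallyNoetherian Y := LocallyOfFiniteType.isLocallyNoetherian g
    haveI : LocallyOfFiniteType f := locallyOfFiniteType_of_comp f g
    haveI : QuasiCompact f := QuasiCompact.of_comp f g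
    have hsurj : Function.Surjective eY :=
      (MorphismProperty.of_isPullback (P := @Surjective) hY.flip inferInstance).surj
    have key : ∀ y' : Y', P (f'.fiberToSpecResidueField y') ↔
        P (f.fiberToSpecResidueField (eY y')) := by
      intro y'
      obtain ⟨e, he, -⟩ := exists_fibre_isPullback hX y'
      exact (hP.1 _ _ e _ he).symm
    constructor
    · intro H y'
      rw [key]
      exact H _
    · intro H y
      obtain ⟨y', rfl⟩ := hsurj y
      rw [← key]
      exact H y'
  · intro X Y S f g _ _ _ _ _ _ hgen
    haveI : IsLocallyNoetherian Y := LocallyOfFiniteType.isLocallyNoetherian g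
    haveI : CompactSpace Y := QuasiCompact.compactSpace_of_compactSpace g
    haveI : IsNoetherian Y := ⟨⟩
    haveI : LocallyOfFiniteType f := locallyOfFiniteType_of_comp f g
    haveI : QuasiCompact f := QuasiCompact.of_comp f g
    have heq : ConsProp.locusMor (fun X Y T f g => ∀ y : ↥Y, P (f.fiberToSpecResidueField y)) f g =
        (g '' (ConsProp.locus P f)ᶜ)ᶜ := by
      ext s
      show (∀ y' : g.fiber s, P ((MoreMor.fiberMap f g s).fiberToSpecResidueField y')) ↔ _
      rw [forall_fiberMap_iff hP.1 f g s]
      simp only [Set.mem_compl_iff, Set.mem_image, not_exists, not_and]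
      constructor
      · intro H y hy hs
        exact hy (H y hs)
      · intro H y hs
        by_contra hne
        exact H y hne hs
    rw [heq] at hgen ⊢
    have hfib : ∀ y : Y, g y = genericPoint S → y ∈ ConsProp.locus P f := by
      intro y hy
      by_contra hne
      exact hgen ⟨y, hne, hy⟩
    have hnot := not_mem_closure_image_compl (fun y : Y => g y) g.continuous (genericPoint S)
      genericPoint_specializes (ConsProp.locus P f)
      (fun y hy => exists_open_inter_closure_subset_locus hP f y hy) hfib
    refine ⟨genericPoint S, mem_interior.mpr ⟨(closure (g '' (ConsProp.locus P f)ᶜ))ᶜ, ?_,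
      isClosed_closure.isOpen_compl, hnot⟩⟩
    exact Set.compl_subset_compl.mpr subset_closure

end Groth.Agent.S5885
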