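import Groth.Statements.S5886
-- import your own Groth.Agent.* helpers here
import Mathlib
import Groth.Agent.Lib.Helper12.ConsPropFin
import Groth.Agent.S0084

set_option autoImplicit false
universe u
open CategoryTheory AlgebraicGeometry
open ConsProp

namespace Groth.Agent.S5886
open Groth.Agent.Lib.Helper12 Groth.Agent.Lib.Helper12.ConsPropBasic Topology

/-- The property of an algebraic k-scheme X of being finite over k is a constructible property of
algebraic schemes (invariant under extension of the base field; over an integral Noetherian base,
for a family of finite type, the set of points with finite fibre or its complement contains a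
nonempty open subset). -/
theorem result :
    ConsProp.IsCons (fun Y T g => AlgebraicGeometry.IsFinite g) := by
  refine ⟨?_, ?_⟩
  · intro Y Y' T T' g g' e h _ _ _ _ _ _ hsq
    have hh : (@Surjective ⊓ @Flat ⊓ @QuasiCompact : MorphismProperty Scheme) h :=
      ⟨⟨inferInstance, inferInstance⟩, inferInstance⟩
    haveI := Groth.Agent.S0084.result
    exact (MorphismProperty.iff_of_isPullback (P := @IsFinite) hsq.flip hh).symm
  · intro X S u _ _ _ _
    apply interior_nonempty_or
    haveI : IsLocallyNoetherian X := LocallyOfFiniteType.isLocallyNoetherian u
    exact ConsPropFin.isLocallyConstructible_setOf_isFinite_fiber u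

end Groth.Agent.S5886
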