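import Groth.Statements.S5887
-- import your own Groth.Agent.* helpers here
import Mathlib
import Groth.Agent.Lib.Helper12.ConsPropBasic
import Groth.Agent.S3444

set_option autoImplicit false
universe u
open CategoryTheory AlgebraicGeometry
open ConsProp

namespace Groth.Agent.S5887
open Groth.Agent.Lib.Helper12 Groth.Agent.Lib.Helper12.ConsPropBasic Topology

/-- The property of an algebraic k-scheme X of being radicial over k (structure morphism universally
injective) is a constructible property of algebraic schemes. -/
theorem result :
    ConsProp.IsCons (fun Y T g => AlgebraicGeometry.UniversallyInjective g) := by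
  refine ⟨?_, ?_⟩
  · intro Y Y' T T' g g' e h _ _ _ _ _ _ hsq
    have hh : (@Surjective ⊓ @Flat ⊓ @QuasiCompact : MorphismProperty Scheme) h :=
      ⟨⟨inferInstance, inferInstance⟩, inferInstance⟩
    exact (MorphismProperty.iff_of_isPullback (P := @UniversallyInjective) hsq.flip hh).symm
  · intro X S u _ _ _ _
    apply interior_nonempty_or
    haveI : IsLocallyNoetherian X := LocallyOfFiniteType.isLocallyNoetherian u
    have key := Groth.Agent.S3444.result u (𝟙 S)
    convert key using 1
    ext s
    show UniversallyInjective (u.fiberToSpecResidueField s) ↔
      UniversallyInjective (Groth.Agent.S3443.fibMap u (𝟙 S) s)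
    have hsnd : Groth.Agent.S3443.fibMap u (𝟙 S) s ≫
        Limits.pullback.snd (𝟙 S) (S.fromSpecResidueField s) =
        (u ≫ 𝟙 S).fiberToSpecResidueField s := Limits.pullback.lift_snd _ _ _
    rw [← MorphismProperty.cancel_right_of_respectsIso (P := @UniversallyInjective)
      (Groth.Agent.S3443.fibMap u (𝟙 S) s) (Limits.pullback.snd (𝟙 S) (S.fromSpecResidueField s)),
      hsnd]
    have transport : ∀ (u' : X ⟶ S) (h : u' = u),
        UniversallyInjective (u.fiberToSpecResidueField s) ↔
          UniversallyInjective (u'.fiberToSpecResidueField s) := by
      rintro _ rfl; rfl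
    exact transport _ (Category.comp_id u)

end Groth.Agent.S5887
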