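import Groth.Statements.S5888
-- import your own Groth.Agent.* helpers here
import Mathlib
import Groth.Agent.Lib.Helper12.ConsPropBasic

set_option autoImplicit false
universe u
open CategoryTheory AlgebraicGeometry
open ConsProp

namespace Groth.Agent.S5888
open Groth.Agent.Lib.Helper12 Groth.Agent.Lib.Helper12.ConsPropBasic Topology

/-- For a given set Φ of values (natural numbers, with −∞ = ⊥ the dimension of the empty scheme), the
property of an algebraic k-scheme X that the dimension of X belongs to Φ is a constructible property
of algebraic schemes. The dimension is the Krull dimension of the underlying topological space,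
valued in WithBot ℕ∞. -/
theorem result (Φ : Set (WithBot ℕ∞)) :
    ConsProp.IsCons (fun Y T g => topologicalKrullDim ↥Y ∈ Φ) := by
  refine ⟨?_, ?_⟩
  · intro Y Y' T T' g g' e h _ _ _ _ _ _ hsq
    obtain ⟨t'⟩ : Nonempty T' := inferInstance
    have h1 := FibreDimBC.dim_fiber_of_isPullback g h e g' hsq t'
    rw [dim_fiber_eq_of_subsingleton, dim_fiber_eq_of_subsingleton] at h1
    show topologicalKrullDim Y ∈ Φ ↔ topologicalKrullDim Y' ∈ Φ
    rw [h1]
  · intro X S u _ _ _ _
    apply interior_nonempty_or
    show IsLocallyConstructible {s : S | topologicalKrullDim (u.fiber s) ∈ Φ}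
    obtain ⟨N, hN⟩ := ChevalleyCor.exists_dim_fiber_le u
    let vals : Set (WithBot ℕ∞) := {v | v ∈ Φ ∧ v ≤ (N : WithBot ℕ∞)}
    have hfin : vals.Finite := by
      have hsub : vals ⊆ insert ⊥ (Set.range (fun k : Fin (N + 1) => ((k : ℕ) : WithBot ℕ∞))) := by
        rintro v ⟨-, hv⟩
        rcases ProductDim.withBot_enat_cases v with h | h | ⟨k, h⟩
        · exact Or.inl h
        · rw [h] at hv
          exfalso
          exact absurd hv (by
            rw [not_le]
            exact WithBot.coe_lt_coe.mpr (ENat.coe_lt_top N))
        · refine Or.inr ⟨⟨k, ?_⟩, h.symm⟩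
          rw [h] at hv
          have : k ≤ N := by exact_mod_cast hv
          omega
      exact ((Set.finite_range _).insert ⊥).subset hsub
    have heq : {s : S | topologicalKrullDim (u.fiber s) ∈ Φ} =
        ⋃ v ∈ vals, {s : S | topologicalKrullDim (u.fiber s) = v} := by
      ext s
      simp only [Set.mem_setOf_eq, Set.mem_iUnion, exists_prop]
      constructor
      · intro h
        exact ⟨_, ⟨h, hN s⟩, rfl⟩
      · rintro ⟨v, ⟨hv, -⟩, rfl⟩
        exact hv
    rw [heq]
    exact IsLocallyConstructible.biUnion hfin
      (fun v _ => FibreDimFP.isLocallyConstructible_setOf_dim_fiber_eq_fp u v)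

end Groth.Agent.S5888
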