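import Groth.Statements.S5889
-- import your own Groth.Agent.* helpers here
import Mathlib
import Groth.Agent.Lib.Helper12.ConsPropBasic
import Groth.Agent.S3445
import Groth.Agent.S0079
import Groth.Agent.S0087

set_option autoImplicit false
universe u
open CategoryTheory AlgebraicGeometry
open ConsProp

namespace Groth.Agent.S5889
open Groth.Agent.Lib.Helper12 Groth.Agent.Lib.Helper12.ConsPropBasic Topology

/-- Being quasi-finite (locally of finite type, quasi-compact, with discrete fibres) is a constructible
property of morphisms of algebraic schemes. -/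
theorem result :
    ConsProp.IsConsMor
      (fun X Y T f g => AlgebraicGeometry.LocallyOfFiniteType f ∧ AlgebraicGeometry.QuasiCompact f ∧
        AlgebraicGeometry.LocallyQuasiFinite f) := by
  refine ⟨?_, ?_⟩
  · intro X X' Y Y' T T' f g f' g' eX eY h _ _ _ _ _ _ _ _ hY hX
    have hh : (@Surjective ⊓ @Flat ⊓ @QuasiCompact : MorphismProperty Scheme) h :=
      ⟨⟨inferInstance, inferInstance⟩, inferInstance⟩
    have heY : (@Surjective ⊓ @Flat ⊓ @QuasiCompact : MorphismProperty Scheme) eY :=
      MorphismProperty.of_isPullback hY.flip hh
    haveI := Groth.Agent.S0079.result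
    haveI := Groth.Agent.S0087.result
    constructor
    · rintro ⟨h1, h2, h3⟩
      exact ⟨MorphismProperty.of_isPullback (P := @LocallyOfFiniteType) hX h1,
        MorphismProperty.of_isPullback (P := @QuasiCompact) hX h2,
        MorphismProperty.of_isPullback (P := @LocallyQuasiFinite) hX h3⟩
    · rintro ⟨h1, h2, h3⟩
      have h4 : (@LocallyQuasiFinite ⊓ @LocallyOfFiniteType : MorphismProperty Scheme) f :=
        MorphismProperty.of_isPullback_of_descendsAlong hX.flip heY ⟨h3, h1⟩
      exact ⟨h4.2, MorphismProperty.of_isPullback_of_descendsAlong (P := @QuasiCompact)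
        hX.flip heY h2, h4.1⟩
  · intro X Y S f g _ _ _ _ _ _
    apply interior_nonempty_or
    haveI : IsLocallyNoetherian Y := LocallyOfFiniteType.isLocallyNoetherian g
    haveI : IsLocallyNoetherian X := LocallyOfFiniteType.isLocallyNoetherian (f ≫ g)
    have key := Groth.Agent.S3445.result f g
    convert key using 1
    ext s
    show (LocallyOfFiniteType (MoreMor.fiberMap f g s) ∧ QuasiCompact (MoreMor.fiberMap f g s) ∧
      LocallyQuasiFinite (MoreMor.fiberMap f g s)) ↔ LocallyQuasiFinite (MoreMor.fiberMap f g s)
    have hfac : MoreMor.fiberMap f g s ≫ g.fiberToSpecResidueField s =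
        (f ≫ g).fiberToSpecResidueField s := by
      unfold MoreMor.fiberMap
      exact Limits.pullback.lift_snd _ _ _
    haveI : LocallyOfFiniteType (MoreMor.fiberMap f g s ≫ g.fiberToSpecResidueField s) := by
      rw [hfac]; infer_instance
    haveI : QuasiCompact (MoreMor.fiberMap f g s ≫ g.fiberToSpecResidueField s) := by
      rw [hfac]; infer_instance
    have h1 : LocallyOfFiniteType (MoreMor.fiberMap f g s) :=
      locallyOfFiniteType_of_comp _ (g.fiberToSpecResidueField s)
    haveI : QuasiSeparated g := inferInstance
    haveI : QuasiSeparated (g.fiberToSpecResidueField s) := by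
      exact MorphismProperty.pullback_snd (P := @QuasiSeparated) g _ inferInstance
    have h2 : QuasiCompact (MoreMor.fiberMap f g s) :=
      QuasiCompact.of_comp _ (g.fiberToSpecResidueField s)
    exact ⟨fun h => h.2.2, fun h => ⟨h1, h2, h⟩⟩

end Groth.Agent.S5889
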