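import Groth.Statements.S5891
-- import your own Groth.Agent.* helpers here
import Mathlib
import Groth.Agent.Lib.Helper12.ConsMorLocus
import Groth.Agent.Lib.Helper12.LimProCons
import Groth.Agent.S5881

set_option autoImplicit false
universe u
open CategoryTheory AlgebraicGeometry
open ConsProp

namespace Groth.Agent.S5891
open Groth.Agent.Lib.Helper12.ConsMorLocus Groth.Agent.Lib.Helper12.LimProCons CategoryTheory.Limits

/-- Let S = lim S_i be a cofiltered limit of schemes with affine transition maps, i₀ an index with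
S_{i₀} quasi-compact, g₀ : Y₀ ⟶ S_{i₀} and f₀ : X₀ ⟶ Y₀ morphisms with g₀ and f₀ ≫ g₀ of finite
presentation (locally of finite presentation, quasi-compact and quasi-separated), and f : X ⟶ Y over
g : Y ⟶ S the base change of f₀ along S ⟶ S_{i₀} (pullback squares). Let P(f, X, Y, k) be an
ind-constructible property of morphisms of algebraic schemes. Then P holds for the morphism of
fibres f_s : X_s ⟶ Y_s over κ(s) for every point s of S if and only if there is an index j over i₀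
such that, for the base change f_j : X_j ⟶ Y_j of f₀ along S_j ⟶ S_{i₀}, P holds for (f_j)_t for
every point t of S_j. -/
theorem result
    {P : ∀ ⦃X Y T : Scheme.{u}⦄, (X ⟶ Y) → (Y ⟶ T) → Prop} (hP : ConsProp.IsIndConsMor P)
    {I : Type u} [SmallCategory I] [IsCofiltered I]
    (D : I ⥤ Scheme.{u}) (c : Limits.Cone D) (hc : Limits.IsLimit c)
    [∀ (i j : I) (a : i ⟶ j), IsAffineHom (D.map a)] (i₀ : I) [CompactSpace ↥(D.obj i₀)]
    {X₀ Y₀ : Scheme.{u}} (f₀ : X₀ ⟶ Y₀) (g₀ : Y₀ ⟶ D.obj i₀)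
    [LocallyOfFinitePresentation g₀] [QuasiCompact g₀] [QuasiSeparated g₀]
    [LocallyOfFinitePresentation (f₀ ≫ g₀)] [QuasiCompact (f₀ ≫ g₀)] [QuasiSeparated (f₀ ≫ g₀)]
    {X Y : Scheme.{u}} (f : X ⟶ Y) (g : Y ⟶ c.pt) (qY : Y ⟶ Y₀) (qX : X ⟶ X₀)
    (hY : IsPullback qY g g₀ (c.π.app i₀)) (hX : IsPullback qX f f₀ qY) :
    (∀ s : ↥c.pt, s ∈ ConsProp.locusMor P f g) ↔
      ∃ (j : I) (φ : j ⟶ i₀) (Xj Yj : Scheme.{u}) (fj : Xj ⟶ Yj) (gj : Yj ⟶ D.obj j)
        (pY : Yj ⟶ Y₀) (pX : Xj ⟶ X₀), IsPullback pY gj g₀ (D.map φ) ∧ IsPullback pX fj f₀ pY ∧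
          ∀ t : ↥(D.obj j), t ∈ ConsProp.locusMor P fj gj := by
  have hE₀ : ProCons.IsIndConstructible (ConsProp.locusMor P f₀ g₀) :=
    Groth.Agent.S5881.result hP f₀ g₀
  have hloc : ConsProp.locusMor P f g =
      (c.π.app i₀) ⁻¹' ConsProp.locusMor P f₀ g₀ := locusMor_preimage hP.1 hY hX
  constructor
  · intro H
    have hK := Groth.Agent.Lib.Helper26.ProConsSch.isProConstructible_compl hE₀
    have hempty : (⇑(c.π.app i₀) ⁻¹' (ConsProp.locusMor P f₀ g₀)ᶜ : Set c.pt) = ∅ := by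
      rw [Set.eq_empty_iff_forall_notMem]
      intro s hs
      have h1 : s ∈ ConsProp.locusMor P f g := H s
      rw [hloc] at h1
      exact hs h1
    obtain ⟨j, φ, hj⟩ := exists_preimage_eq_empty_of_isProConstructible D c hc i₀ _ hK hempty
    refine ⟨j, φ, pullback f₀ (pullback.fst g₀ (D.map φ)), pullback g₀ (D.map φ),
      bcMor f₀ g₀ (D.map φ), pullback.snd _ _, pullback.fst _ _, pullback.fst _ _,
      IsPullback.of_hasPullback _ _, IsPullback.of_hasPullback _ _, ?_⟩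
    intro t
    rw [locusMor_bcMor f₀ g₀ (D.map φ) hP.1]
    by_contra hne
    have : t ∈ (⇑(D.map φ) ⁻¹' (ConsProp.locusMor P f₀ g₀)ᶜ : Set (D.obj j)) := hne
    rw [hj] at this
    exact this
  · rintro ⟨j, φ, Xj, Yj, fj, gj, pY, pX, hpY, hpX, H⟩ s
    rw [hloc]
    have h1 : c.π.app j s ∈ ConsProp.locusMor P fj gj := H _
    rw [locusMor_preimage hP.1 hpY hpX] at h1
    have e : c.π.app j ≫ D.map φ = c.π.app i₀ := c.w φ
    show c.π.app i₀ s ∈ ConsProp.locusMor P f₀ g₀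
    rw [← e]
    exact h1

end Groth.Agent.S5891
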