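-- Statement S5892.
import Groth.Statements.S5892
import Mathlib
import Groth.Agent.S5879
import Groth.Agent.Lib.Helper12.LimProCons

set_option autoImplicit false
universe u
open CategoryTheory AlgebraicGeometry
open ConsProp

namespace Groth.Agent.S5892

/-- Let S = lim S_i be a cofiltered limit of schemes with affine transition maps, i₀ an index with
S_{i₀} quasi-compact, u₀ : X₀ ⟶ S_{i₀} a morphism of finite presentation (locally of finite
presentation, quasi-compact and quasi-separated), F₀ a quasi-coherent O_{X₀}-module of finite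
presentation, u : X ⟶ S the base change of u₀ along S ⟶ S_{i₀} (a pullback square with q : X ⟶ X₀)
and F the pullback of F₀ along q. Let P(X, F, k) be an ind-constructible property of algebraic
schemes with a coherent module. Then P holds for (X_s, F_s) over κ(s) for every point s of S if and
only if there is an index j over i₀ such that, for the base change u_j : X_j ⟶ S_j of u₀ with p :
X_j ⟶ X₀ and F_j the pullback of F₀ along p, P holds for the fibre data of (u_j, F_j) over every
point of S_j. (The published statement is for relations on morphisms and is extended there, with the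
same proof, to relations on algebraic schemes with a module; this row is that form.) -/
theorem result
    {P : ∀ ⦃Y T : Scheme.{u}⦄, (Y ⟶ T) → Y.Modules → Prop} (hP : ConsProp.IsIndConsMod P)
    {I : Type u} [SmallCategory I] [IsCofiltered I]
    (D : I ⥤ Scheme.{u}) (c : Limits.Cone D) (hc : Limits.IsLimit c)
    [∀ (i j : I) (a : i ⟶ j), IsAffineHom (D.map a)] (i₀ : I) [CompactSpace ↥(D.obj i₀)]
    {X₀ : Scheme.{u}} (u₀ : X₀ ⟶ D.obj i₀)
    [LocallyOfFinitePresentation u₀] [QuasiCompact u₀] [QuasiSeparated u₀]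
    (F₀ : X₀.Modules) [Coh.IsQCoh F₀] (hF₀ : CohB1.IsFP F₀)
    {X : Scheme.{u}} (u : X ⟶ c.pt) (q : X ⟶ X₀) (hX : IsPullback q u u₀ (c.π.app i₀)) :
    (∀ s : ↥c.pt, s ∈ ConsProp.locusMod P u ((Scheme.Modules.pullback q).obj F₀)) ↔
      ∃ (j : I) (φ : j ⟶ i₀) (Xj : Scheme.{u}) (uj : Xj ⟶ D.obj j) (p : Xj ⟶ X₀),
        IsPullback p uj u₀ (D.map φ) ∧
          ∀ t : ↥(D.obj j), t ∈ ConsProp.locusMod P uj ((Scheme.Modules.pullback p).obj F₀) := by
  haveI : F₀.IsQuasicoherent := inferInstance
  haveI : SheafOfModules.IsFinitePresentation (R := X₀.ringCatSheaf) F₀ := hF₀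
  have hcoh : Coh.IsCoh F₀ := ⟨inferInstance, inferInstance⟩
  have hE₀ : ProCons.IsIndConstructible (ConsProp.locusMod P u₀ F₀) :=
    Groth.Agent.S5879.result hP u₀ F₀ hF₀
  have hloc : ConsProp.locusMod P u ((Scheme.Modules.pullback q).obj F₀) =
      (c.π.app i₀) ⁻¹' ConsProp.locusMod P u₀ F₀ :=
    Groth.Agent.Lib.Helper1.ConsModLocus.locusMod_preimage hP.1 hX F₀ hcoh _ (Iso.refl _)
  constructor
  · intro H
    have hK := Groth.Agent.Lib.Helper26.ProConsSch.isProConstructible_compl hE₀
    have hempty : (⇑(c.π.app i₀) ⁻¹' (ConsProp.locusMod P u₀ F₀)ᶜ : Set c.pt) = ∅ := by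
      rw [Set.eq_empty_iff_forall_notMem]
      intro s hs
      have h1 : s ∈ ConsProp.locusMod P u ((Scheme.Modules.pullback q).obj F₀) := H s
      rw [hloc] at h1
      exact hs h1
    obtain ⟨j, φ, hj⟩ :=
      Groth.Agent.Lib.Helper12.LimProCons.exists_preimage_eq_empty_of_isProConstructible D c hc i₀
        _ hK hempty
    refine ⟨j, φ, Limits.pullback u₀ (D.map φ), Limits.pullback.snd _ _, Limits.pullback.fst _ _,
      IsPullback.of_hasPullback _ _, ?_⟩
    intro t
    rw [Groth.Agent.Lib.Helper1.ConsModLocus.locusMod_preimage hP.1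
      (IsPullback.of_hasPullback u₀ (D.map φ)) F₀ hcoh _ (Iso.refl _)]
    by_contra hne
    have : t ∈ (⇑(D.map φ) ⁻¹' (ConsProp.locusMod P u₀ F₀)ᶜ : Set (D.obj j)) := hne
    rw [hj] at this
    exact this
  · rintro ⟨j, φ, Xj, uj, p, hp, H⟩ s
    rw [hloc]
    have h1 : c.π.app j s ∈ ConsProp.locusMod P uj ((Scheme.Modules.pullback p).obj F₀) := H _
    rw [Groth.Agent.Lib.Helper1.ConsModLocus.locusMod_preimage hP.1 hp F₀ hcoh _ (Iso.refl _)]
      at h1
    have e : c.π.app j ≫ D.map φ = c.π.app i₀ := c.w φ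
    show c.π.app i₀ s ∈ ConsProp.locusMod P u₀ F₀
    rw [← e]
    exact h1

end Groth.Agent.S5892
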