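import Groth.Statements.S5894
-- import your own Groth.Agent.* helpers here
import Mathlib
import Groth.Agent.Lib.Helper12.ConsPairGen
import Groth.Agent.Lib.Helper12.LimPb
import Groth.Agent.Lib.Helper12.LimCI
import Groth.Agent.S12442

set_option autoImplicit false
universe u
open CategoryTheory AlgebraicGeometry
open ConsPropPair

namespace Groth.Agent.S5894
open Groth.Agent.Lib.Helper12 Groth.Agent.Lib.Helper12.ConsPairGen
open Groth.Agent.Lib.Helper12.PbDiag CategoryTheory.Limits

/-- Case of the property of being a closed immersion: let P(X, Y, k) be the relation between a field k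
and two algebraic k-schemes X, Y: there are an extension field k′ of k (a one-point integral scheme
T′ over T = Spec k) and a k′-morphism g : X_(k′) ⟶ Y_(k′) between the base changes (cartesian
squares over T′ ⟶ T) which is a closed immersion. Then P is an ind-constructible property of pairs
of algebraic schemes. -/
theorem result :
    ConsPropPair.IsIndConsPair
      (fun X Y T gX gY => ∃ (T' X' Y' : Scheme.{u}) (h : T' ⟶ T) (gX' : X' ⟶ T') (gY' : Y' ⟶ T')
        (eX : X' ⟶ X) (eY : Y' ⟶ Y), IsIntegral T' ∧ Subsingleton ↥T' ∧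
          IsPullback eX gX' gX h ∧ IsPullback eY gY' gY h ∧
            ∃ g : X' ⟶ Y', g ≫ gY' = gX' ∧ AlgebraicGeometry.IsClosedImmersion g) := by
  have hQ : DescendsLim @IsClosedImmersion := by
    intro I _ _ D c hc _ i₀ _ _ X₀ Y₀ f₀ g₀ _ _ _ _ _ _ X Y f g qY qX hY hX hf
    haveI hD : ∀ {i j : I} (f : i ⟶ j), IsAffineHom (D.map f) := fun f => inferInstance
    haveI : LocallyOfFinitePresentation f₀ := Groth.Agent.S12442.result f₀ g₀
    haveI : ∀ j, LocallyOfFiniteType ((LimData.ofPb D c hc i₀ f₀ g₀ f g qY qX hY hX).F.app j) :=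
      fun j => MorphismProperty.of_isPullback (P := @LocallyOfFiniteType)
        (isPullback_pbMap_app D i₀ g₀ f₀ j) inferInstance
    exact LimData.exists_stage D i₀ f₀ g₀ @IsClosedImmersion
      ((LimData.ofPb D c hc i₀ f₀ g₀ f g qY qX hY hX).exists_isClosedImmersion hf)
  exact isIndConsPair @IsClosedImmersion hQ

end Groth.Agent.S5894
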