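import Groth.Statements.S5906
-- import your own Groth.Agent.* helpers here
import Mathlib
import Groth.Agent.Lib.Helper12.ConsPairLocus

set_option autoImplicit false
universe u
open CategoryTheory AlgebraicGeometry
open ConsPropPair

namespace Groth.Agent.S5906

/-- First assertion, constructible case, for a relation between two schemes: let P(X, Y, k) be a
constructible property of pairs of algebraic schemes, S a scheme and u : X ⟶ S, v : Y ⟶ S morphisms
of finite presentation (locally of finite presentation, quasi-compact and quasi-separated). Then the
set of points s of S such that P holds for the pair of fibres (X_s, Y_s) over κ(s) is locally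
constructible in S. (The published statement is for relations involving a scheme and a module; its
closing remark extends statement and proof unchanged to relations involving several schemes, which
is the form given here.) -/
theorem result
    {P : ∀ ⦃X Y T : Scheme.{u}⦄, (X ⟶ T) → (Y ⟶ T) → Prop} (hP : ConsPropPair.IsConsPair P)
    {X Y S : Scheme.{u}} (u : X ⟶ S) (v : Y ⟶ S)
    [LocallyOfFinitePresentation u] [QuasiCompact u] [QuasiSeparated u]
    [LocallyOfFinitePresentation v] [QuasiCompact v] [QuasiSeparated v] :
    Topology.IsLocallyConstructible (ConsPropPair.locusPair P u v) := by
  refine Groth.Agent.Lib.Helper12.ConsPropGen.isLocallyConstructible_of_affine_charts _ ?_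
  intro V hV
  obtain ⟨N, hN, p, X', Y', u', v', h1, h2, h3, h4, he⟩ :=
    Groth.Agent.Lib.Helper12.ConsPairLocus.exists_chart_locusPair u v V hV
  exact ⟨N, p, ConsPropPair.locusPair P u' v',
    Groth.Agent.Lib.Helper12.ConsPairLocus.isConstructible_locusPair hP u' v', he hP.1⟩

end Groth.Agent.S5906
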