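import Groth.Statements.S5911
import Mathlib
import Groth.Agent.Lib.Helper9.FlatSqZero

set_option autoImplicit false
universe u
open TensorProduct
open EGA43

namespace Groth.Agent.S5911


open TensorProduct Groth.Agent.Lib.Helper9.FlatSqZero

/-- flatness of the localization in tensor form -/
lemma flat_tensor_of_flat_localizedModule {A : Type u} [CommRing A] (S : Submonoid A)
    (M : Type u) [AddCommGroup M] [Module A M]
    [h : Module.Flat (Localization S) (LocalizedModule S M)] :
    Module.Flat (Localization S) ((Localization S) ⊗[A] M) := by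
  have hb : IsBaseChange (Localization S) (LocalizedModule.mkLinearMap S M) :=
    (isLocalizedModule_iff_isBaseChange S (Localization S) (LocalizedModule.mkLinearMap S M)).mp
      inferInstance
  exact Module.Flat.of_linearEquiv hb.equiv

/-- The core of the symbolic-power criterion: flatness of the truncations along
`J ⊓ ⨅ i, φᵢ⁻¹(𝔪ᵢ^m)`. -/
lemma flat_trunc {A : Type u} [CommRing A]
    (J : Ideal A) (M : Type u) [AddCommGroup M] [Module A M]
    {r : ℕ} (p : Fin r → Ideal A) [∀ i, (p i).IsPrime] (hp : ∀ i, J ≤ p i)
    [H1 : Module.Flat (A ⧸ J) ((A ⧸ J) ⊗[A] M)]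
    (H2 : ∀ i, Module.Flat (Localization.AtPrime (p i)) ((Localization.AtPrime (p i)) ⊗[A] M))
    (m : ℕ) :
    Module.Flat
      (A ⧸ (J ⊓ ⨅ i, Ideal.comap (algebraMap A (Localization.AtPrime (p i)))
        (IsLocalRing.maximalIdeal (Localization.AtPrime (p i)) ^ m)))
      ((A ⧸ (J ⊓ ⨅ i, Ideal.comap (algebraMap A (Localization.AtPrime (p i)))
        (IsLocalRing.maximalIdeal (Localization.AtPrime (p i)) ^ m))) ⊗[A] M) := by
  classical
  induction m with
  | zero =>
    have hle : J ≤ J ⊓ ⨅ i, Ideal.comap (algebraMap A (Localization.AtPrime (p i)))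
        (IsLocalRing.maximalIdeal (Localization.AtPrime (p i)) ^ 0) := by
      refine le_inf le_rfl (le_iInf fun i => ?_)
      rw [pow_zero, Ideal.one_eq_top, Ideal.comap_top]
      exact le_top
    exact flat_of_algHom (Ideal.Quotient.factorₐ A hle) M
  | succ m ih =>
    set 𝔡 : Ideal A := J ⊓ ⨅ i, Ideal.comap (algebraMap A (Localization.AtPrime (p i)))
        (IsLocalRing.maximalIdeal (Localization.AtPrime (p i)) ^ m) with h𝔡
    -- inner induction over finsets of indices
    have inner : ∀ s : Finset (Fin r),
        Module.Flat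
          (A ⧸ (𝔡 ⊓ ⨅ i ∈ s, Ideal.comap (algebraMap A (Localization.AtPrime (p i)))
            (IsLocalRing.maximalIdeal (Localization.AtPrime (p i)) ^ (m + 1))))
          ((A ⧸ (𝔡 ⊓ ⨅ i ∈ s, Ideal.comap (algebraMap A (Localization.AtPrime (p i)))
            (IsLocalRing.maximalIdeal (Localization.AtPrime (p i)) ^ (m + 1)))) ⊗[A] M) := by
      intro s
      induction s using Finset.induction_on with
      | empty =>
        have hle : 𝔡 ≤ 𝔡 ⊓ ⨅ i ∈ (∅ : Finset (Fin r)),
            Ideal.comap (algebraMap A (Localization.AtPrime (p i)))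
            (IsLocalRing.maximalIdeal (Localization.AtPrime (p i)) ^ (m + 1)) := by
          refine le_inf le_rfl ?_
          simp
        exact flat_of_algHom (Ideal.Quotient.factorₐ A hle) M
      | insert j s hj ihs =>
        set 𝔠 : Ideal A := 𝔡 ⊓ ⨅ i ∈ s, Ideal.comap (algebraMap A (Localization.AtPrime (p i)))
            (IsLocalRing.maximalIdeal (Localization.AtPrime (p i)) ^ (m + 1)) with h𝔠
        haveI := ihs
        haveI := H2 j
        have h𝔠𝔡 : 𝔠 ≤ 𝔡 := inf_le_left
        have hmap1 : 𝔠.map (algebraMap A (Localization.AtPrime (p j))) ≤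
            IsLocalRing.maximalIdeal (Localization.AtPrime (p j)) ^ m := by
          rw [Ideal.map_le_iff_le_comap]
          exact h𝔠𝔡.trans (inf_le_right.trans (iInf_le _ j))
        have hmap2 : 𝔠.map (algebraMap A (Localization.AtPrime (p j))) ≤
            IsLocalRing.maximalIdeal (Localization.AtPrime (p j)) := by
          rw [← Localization.AtPrime.map_eq_maximalIdeal]
          exact Ideal.map_mono (h𝔠𝔡.trans (inf_le_left.trans (hp j)))
        have hsq : (𝔠.map (algebraMap A (Localization.AtPrime (p j)))) ^ 2 ≤
            IsLocalRing.maximalIdeal (Localization.AtPrime (p j)) ^ (m + 1) := by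
          rw [sq, pow_succ]
          exact Ideal.mul_mono hmap1 hmap2
        have hflat := flat_quotient_inf_comap (A := A) (A' := Localization.AtPrime (p j)) M 𝔠
          (IsLocalRing.maximalIdeal (Localization.AtPrime (p j)) ^ (m + 1)) hsq
        have hle : 𝔠 ⊓ Ideal.comap (algebraMap A (Localization.AtPrime (p j)))
            (IsLocalRing.maximalIdeal (Localization.AtPrime (p j)) ^ (m + 1)) ≤
            𝔡 ⊓ ⨅ i ∈ insert j s, Ideal.comap (algebraMap A (Localization.AtPrime (p i)))
              (IsLocalRing.maximalIdeal (Localization.AtPrime (p i)) ^ (m + 1)) := by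
          refine le_inf (inf_le_left.trans h𝔠𝔡) ?_
          rw [Finset.iInf_insert]
          exact le_inf inf_le_right (inf_le_left.trans inf_le_right)
        haveI := hflat
        exact flat_of_algHom (Ideal.Quotient.factorₐ A hle) M
    have hfin := inner Finset.univ
    have hle : 𝔡 ⊓ ⨅ i ∈ (Finset.univ : Finset (Fin r)),
        Ideal.comap (algebraMap A (Localization.AtPrime (p i)))
          (IsLocalRing.maximalIdeal (Localization.AtPrime (p i)) ^ (m + 1)) ≤
        J ⊓ ⨅ i, Ideal.comap (algebraMap A (Localization.AtPrime (p i)))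
          (IsLocalRing.maximalIdeal (Localization.AtPrime (p i)) ^ (m + 1)) := by
      refine le_inf (inf_le_left.trans inf_le_left) ?_
      refine le_iInf fun i => ?_
      exact inf_le_right.trans ((iInf_le _ i).trans (iInf_le _ (Finset.mem_univ i)))
    haveI := hfin
    exact flat_of_algHom (Ideal.Quotient.factorₐ A hle) M

/-- Let A be a Noetherian ring, J an ideal of A and M an A-module which is ideally separated for the
J-adic topology (for every ideal a of A the module a ⊗_A M is J-adically separated). Let (p_i) be a
finite family of prime ideals of A containing J, let J_n be the intersection of the symbolic powers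
p_i^{(n)} (preimages in A of the n-th powers of the maximal ideals of the local rings A_{p_i}), and
assume every power J^n contains some J_m. Then M is flat if and only if (A/J) ⊗_A M is flat over A/J
and M_{p_i} is flat over A_{p_i} for every i. -/
theorem result {A : Type u} [CommRing A] [IsNoetherianRing A]
    (J : Ideal A) (M : Type u) [AddCommGroup M] [Module A M]
    (hsep : ∀ a : Ideal A, IsHausdorff J (↥a ⊗[A] M))
    {r : ℕ} (p : Fin r → Ideal A) [∀ i, (p i).IsPrime] (hp : ∀ i, J ≤ p i)
    (htop : ∀ n : ℕ, ∃ m : ℕ,
      ⨅ i, Ideal.comap (algebraMap A (Localization.AtPrime (p i))) (IsLocalRing.maximalIdeal (Localization.AtPrime (p i)) ^ m) ≤ J ^ n) :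
    Module.Flat A M ↔
      Module.Flat (A ⧸ J) ((A ⧸ J) ⊗[A] M) ∧
        ∀ i, Module.Flat (Localization.AtPrime (p i)) (LocalizedModule (p i).primeCompl M) := by
  constructor
  · intro h
    exact ⟨inferInstance, fun i => inferInstance⟩
  · rintro ⟨H1, H2⟩
    haveI := H1
    have H2' : ∀ i, Module.Flat (Localization.AtPrime (p i))
        ((Localization.AtPrime (p i)) ⊗[A] M) := fun i => by
      haveI := H2 i
      exact flat_tensor_of_flat_localizedModule (p i).primeCompl M
    refine Groth.Agent.Lib.Helper8.flat_of_forall_flat_quotient_pow J M ?_ ?_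
    · intro n _
      obtain ⟨m, hm⟩ := htop n
      haveI := flat_trunc J M p hp H2' m
      have hle : J ⊓ ⨅ i, Ideal.comap (algebraMap A (Localization.AtPrime (p i)))
          (IsLocalRing.maximalIdeal (Localization.AtPrime (p i)) ^ m) ≤ J ^ n :=
        inf_le_right.trans hm
      exact flat_of_algHom (Ideal.Quotient.factorₐ A hle) M
    · intro 𝔞
      exact (hsep 𝔞).iInf_pow_smul

end Groth.Agent.S5911
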