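import Groth.Statements.S5912
import Mathlib
import Groth.Agent.Lib.Helper9.FlatSqZero

set_option autoImplicit false
universe u
open TensorProduct
open EGA43

namespace Groth.Agent.S5912


open TensorProduct Groth.Agent.Lib.Helper9.FlatSqZero

/-- flatness of the localization in tensor form -/
lemma flat_tensor_of_flat_localizedModule {A : Type u} [CommRing A] (S : Submonoid A)
    (M : Type u) [AddCommGroup M] [Module A M]
    [h : Module.Flat (Localization S) (LocalizedModule S M)] :
    Module.Flat (Localization S) ((Localization S) ⊗[A] M) := by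
  have hb : IsBaseChange (Localization S) (LocalizedModule.mkLinearMap S M) :=
    (isLocalizedModule_iff_isBaseChange S (Localization S) (LocalizedModule.mkLinearMap S M)).mp
      inferInstance
  exact Module.Flat.of_linearEquiv hb.equiv

lemma mem_smul_top_iff {A : Type u} [CommRing A] (J N : Ideal A) (y : A) (hy : y ∈ N) :
    (⟨y, hy⟩ : ↥N) ∈ J • (⊤ : Submodule A ↥N) ↔ y ∈ J * N := by
  have h1 : (J • (⊤ : Submodule A ↥N)).map N.subtype = J • N := by
    rw [Submodule.map_smul'', Submodule.map_subtype_top]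
  rw [← smul_eq_mul, ← h1, Submodule.mem_map]
  constructor
  · intro h
    exact ⟨⟨y, hy⟩, h, rfl⟩
  · rintro ⟨z, hz, hzy⟩
    have : z = ⟨y, hy⟩ := Subtype.ext hzy
    rwa [← this]

/-- The associated-prime argument: if `gr_J^n` is flat over `A/J`, then an element of `J^n` lying in
`J^(n+1)` locally at all associated primes of `A/J` lies in `J^(n+1)`. -/
lemma mem_pow_succ_of_forall_ass {A : Type u} [CommRing A] [IsNoetherianRing A] (J : Ideal A) (n : ℕ)
    [hgr : Module.Flat (A ⧸ J) ((A ⧸ J) ⊗[A] ↥(J ^ n))]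
    (x : A) (hx : x ∈ J ^ n)
    (hloc : ∀ q ∈ associatedPrimes A (A ⧸ J), ∃ s : A, s ∉ q ∧ s * x ∈ J ^ (n + 1)) :
    x ∈ J ^ (n + 1) := by
  classical
  let 𝔟 : Ideal A := Submodule.comap (LinearMap.toSpanSingleton A A x) (J ^ (n + 1))
  have h𝔟 : ∀ a : A, a ∈ 𝔟 ↔ a * x ∈ J ^ (n + 1) := fun a => by
    show (LinearMap.toSpanSingleton A A x) a ∈ J ^ (n + 1) ↔ _
    rw [LinearMap.toSpanSingleton_apply, smul_eq_mul]
  have hfin : (associatedPrimes A (A ⧸ J)).Finite := associatedPrimes.finite A (A ⧸ J)
  have hnot : ¬ ((𝔟 : Set A) ⊆ ⋃ q ∈ (↑hfin.toFinset : Set (Ideal A)), (q : Set A)) := by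
    rw [Ideal.subset_union_prime (f := fun q : Ideal A => q) ⊥ ⊥
      (fun q hq _ _ => IsAssociatedPrime.isPrime (hfin.mem_toFinset.mp hq))]
    rintro ⟨q, hq, hle⟩
    obtain ⟨s, hs, hsx⟩ := hloc q (hfin.mem_toFinset.mp hq)
    exact hs (hle ((h𝔟 s).mpr hsx))
  obtain ⟨s, hs𝔟, hsnot⟩ := Set.not_subset.mp hnot
  have hreg : IsSMulRegular (A ⧸ J) s := by
    have h := biUnion_associatedPrimes_eq_compl_regular A (A ⧸ J)
    by_contra hcon
    have hmem : s ∈ ({r : A | IsSMulRegular (A ⧸ J) r}ᶜ : Set A) := hcon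
    rw [← h] at hmem
    simp only [Set.mem_iUnion, SetLike.mem_coe, exists_prop] at hmem
    obtain ⟨q, hq, hsq⟩ := hmem
    exact hsnot (Set.mem_iUnion₂.mpr ⟨q, hfin.mem_toFinset.mpr hq, hsq⟩)
  have hreg' : IsRegular (Ideal.Quotient.mk J s) := by
    rw [← isLeftRegular_iff_isRegular]
    intro y z hyz
    apply hreg
    show s • y = s • z
    rw [Algebra.smul_def, Algebra.smul_def]
    exact hyz
  have hreg'' : IsSMulRegular ((A ⧸ J) ⊗[A] ↥(J ^ n)) (Ideal.Quotient.mk J s) :=
    Module.Flat.isSMulRegular_of_isRegular hreg'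
  have hsx : s * x ∈ J * J ^ n := by
    rw [← pow_succ']
    exact (h𝔟 s).mp hs𝔟
  have hg0 : (Ideal.Quotient.mk J s) • ((1 : A ⧸ J) ⊗ₜ[A] (⟨x, hx⟩ : ↥(J ^ n))) = 0 := by
    have e1 : (Ideal.Quotient.mk J s) • ((1 : A ⧸ J) ⊗ₜ[A] (⟨x, hx⟩ : ↥(J ^ n))) =
        s • ((1 : A ⧸ J) ⊗ₜ[A] (⟨x, hx⟩ : ↥(J ^ n))) :=
      algebraMap_smul (A ⧸ J) s _
    rw [e1]
    apply (TensorProduct.quotTensorEquivQuotSMul (↥(J ^ n)) J).injective
    rw [map_smul, TensorProduct.quotTensorEquivQuotSMul_mk_one_tmul, map_zero,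
      ← Submodule.Quotient.mk_smul, Submodule.Quotient.mk_eq_zero]
    show (⟨s * x, _⟩ : ↥(J ^ n)) ∈ _
    rw [mem_smul_top_iff]
    exact hsx
  have hg : ((1 : A ⧸ J) ⊗ₜ[A] (⟨x, hx⟩ : ↥(J ^ n))) = 0 :=
    hreg'' (by show _ • _ = _ • _; rw [hg0, smul_zero])
  have h3 := congrArg (TensorProduct.quotTensorEquivQuotSMul (↥(J ^ n)) J) hg
  rw [TensorProduct.quotTensorEquivQuotSMul_mk_one_tmul, map_zero,
    Submodule.Quotient.mk_eq_zero, mem_smul_top_iff] at h3
  rw [pow_succ']
  exact h3

section main
variable {A : Type u} [CommRing A] [IsNoetherianRing A] (J : Ideal A)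

instance instPrimeAss (q : associatedPrimes A (A ⧸ J)) : q.1.IsPrime :=
  IsAssociatedPrime.isPrime q.2

lemma flat_trunc (M : Type u) [AddCommGroup M] [Module A M]
    (hgr : ∀ k : ℕ, Module.Flat (A ⧸ J) ((A ⧸ J) ⊗[A] ↥(J ^ k)))
    [H1 : Module.Flat (A ⧸ J) ((A ⧸ J) ⊗[A] M)]
    (H2 : ∀ q : associatedPrimes A (A ⧸ J),
      Module.Flat (Localization.AtPrime q.1) ((Localization.AtPrime q.1) ⊗[A] M))
    (n : ℕ) :
    Module.Flat (A ⧸ J ^ (n + 1)) ((A ⧸ J ^ (n + 1)) ⊗[A] M) := by
  classical
  have hfin : (associatedPrimes A (A ⧸ J)).Finite := associatedPrimes.finite A (A ⧸ J)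
  haveI : Fintype (associatedPrimes A (A ⧸ J)) := hfin.fintype
  induction n with
  | zero =>
    have hle : J ≤ J ^ (0 + 1) := by rw [zero_add, pow_one]
    exact flat_of_algHom (Ideal.Quotient.factorₐ A hle) M
  | succ n ih =>
    have inner : ∀ t : Finset (associatedPrimes A (A ⧸ J)),
        Module.Flat
          (A ⧸ (J ^ (n + 1) ⊓ ⨅ q ∈ t, Ideal.comap (algebraMap A (Localization.AtPrime q.1))
            ((J ^ (n + 1 + 1)).map (algebraMap A (Localization.AtPrime q.1)))))
          ((A ⧸ (J ^ (n + 1) ⊓ ⨅ q ∈ t, Ideal.comap (algebraMap A (Localization.AtPrime q.1))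
            ((J ^ (n + 1 + 1)).map (algebraMap A (Localization.AtPrime q.1))))) ⊗[A] M) := by
      intro t
      induction t using Finset.induction_on with
      | empty =>
        have hle : J ^ (n + 1) ≤ J ^ (n + 1) ⊓
            ⨅ q ∈ (∅ : Finset (associatedPrimes A (A ⧸ J))),
              Ideal.comap (algebraMap A (Localization.AtPrime q.1))
                ((J ^ (n + 1 + 1)).map (algebraMap A (Localization.AtPrime q.1))) := by
          refine le_inf le_rfl ?_
          simp
        exact flat_of_algHom (Ideal.Quotient.factorₐ A hle) M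
      | insert j t hj iht =>
        set 𝔠 : Ideal A := J ^ (n + 1) ⊓ ⨅ q ∈ t,
          Ideal.comap (algebraMap A (Localization.AtPrime q.1))
            ((J ^ (n + 1 + 1)).map (algebraMap A (Localization.AtPrime q.1))) with h𝔠
        haveI := iht
        haveI := H2 j
        have h𝔠J : 𝔠 ≤ J ^ (n + 1) := inf_le_left
        have hsq : (𝔠.map (algebraMap A (Localization.AtPrime j.1))) ^ 2 ≤
            (J ^ (n + 1 + 1)).map (algebraMap A (Localization.AtPrime j.1)) := by
          rw [← Ideal.map_pow]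
          refine Ideal.map_mono ?_
          refine (Ideal.pow_right_mono h𝔠J 2).trans ?_
          rw [← pow_mul]
          exact Ideal.pow_le_pow_right (by omega)
        have hflat := flat_quotient_inf_comap (A := A) (A' := Localization.AtPrime j.1) M 𝔠
          ((J ^ (n + 1 + 1)).map (algebraMap A (Localization.AtPrime j.1))) hsq
        have hle : 𝔠 ⊓ Ideal.comap (algebraMap A (Localization.AtPrime j.1))
            ((J ^ (n + 1 + 1)).map (algebraMap A (Localization.AtPrime j.1))) ≤
            J ^ (n + 1) ⊓ ⨅ q ∈ insert j t,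
              Ideal.comap (algebraMap A (Localization.AtPrime q.1))
                ((J ^ (n + 1 + 1)).map (algebraMap A (Localization.AtPrime q.1))) := by
          refine le_inf (inf_le_left.trans h𝔠J) ?_
          rw [Finset.iInf_insert]
          exact le_inf inf_le_right (inf_le_left.trans inf_le_right)
        haveI := hflat
        exact flat_of_algHom (Ideal.Quotient.factorₐ A hle) M
    have hfinal := inner Finset.univ
    have hle : J ^ (n + 1) ⊓ ⨅ q ∈ (Finset.univ : Finset (associatedPrimes A (A ⧸ J))),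
        Ideal.comap (algebraMap A (Localization.AtPrime q.1))
          ((J ^ (n + 1 + 1)).map (algebraMap A (Localization.AtPrime q.1))) ≤ J ^ (n + 1 + 1) := by
      intro x hx
      haveI := hgr (n + 1)
      have key : ∀ q' : associatedPrimes A (A ⧸ J), ∃ s : A, s ∉ q'.1 ∧
          s * x ∈ J ^ (n + 1 + 1) := by
        intro q'
        have hxq : x ∈ Ideal.comap (algebraMap A (Localization.AtPrime q'.1))
            ((J ^ (n + 1 + 1)).map (algebraMap A (Localization.AtPrime q'.1))) := by
          have h1 := (Submodule.mem_inf.mp hx).2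
          simp only [Submodule.mem_iInf] at h1
          exact h1 q' (Finset.mem_univ _)
        rw [Ideal.mem_comap, IsLocalization.algebraMap_mem_map_algebraMap_iff
          q'.1.primeCompl] at hxq
        obtain ⟨s, hs, hsx⟩ := hxq
        exact ⟨s, hs, hsx⟩
      refine mem_pow_succ_of_forall_ass J (n + 1) x hx.1 ?_
      intro q hq
      exact key ⟨q, hq⟩
    haveI := hfinal
    exact flat_of_algHom (Ideal.Quotient.factorₐ A hle) M

end main

/-- Let A be a Noetherian ring, J an ideal of A and M an A-module which is ideally separated for the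
J-adic topology (for every ideal a of A the module a ⊗_A M is J-adically separated), and suppose
every quotient J^k/J^{k+1} is a flat (A/J)-module (the associated graded ring of A along J is flat
over A/J). Then M is flat if and only if (A/J) ⊗_A M is flat over A/J and M_p is flat over A_p for
every associated prime p of the A-module A/J. -/
theorem result {A : Type u} [CommRing A] [IsNoetherianRing A]
    (J : Ideal A) (M : Type u) [AddCommGroup M] [Module A M]
    (hsep : ∀ a : Ideal A, IsHausdorff J (↥a ⊗[A] M))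
    (hgr : ∀ k : ℕ, Module.Flat (A ⧸ J) ((A ⧸ J) ⊗[A] ↥(J ^ k))) :
    Module.Flat A M ↔
      Module.Flat (A ⧸ J) ((A ⧸ J) ⊗[A] M) ∧
        ∀ q : associatedPrimes A (A ⧸ J),
          haveI : q.1.IsPrime := IsAssociatedPrime.isPrime q.2
          Module.Flat (Localization.AtPrime q.1) (LocalizedModule q.1.primeCompl M) := by
  constructor
  · intro h
    refine ⟨inferInstance, fun q => ?_⟩
    haveI : q.1.IsPrime := IsAssociatedPrime.isPrime q.2
    exact Module.Flat.localizedModule _
  · rintro ⟨H1, H2⟩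
    haveI := H1
    have H2' : ∀ q : associatedPrimes A (A ⧸ J), Module.Flat (Localization.AtPrime q.1)
        ((Localization.AtPrime q.1) ⊗[A] M) := fun q => by
      haveI : Module.Flat (Localization q.1.primeCompl) (LocalizedModule q.1.primeCompl M) := H2 q
      exact flat_tensor_of_flat_localizedModule q.1.primeCompl M
    refine Groth.Agent.Lib.Helper8.flat_of_forall_flat_quotient_pow J M ?_ ?_
    · intro n hn
      obtain ⟨k, rfl⟩ := Nat.exists_eq_succ_of_ne_zero (Nat.pos_iff_ne_zero.mp hn)
      exact flat_trunc J M hgr H2' k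
    · intro 𝔞
      exact (hsep 𝔞).iInf_pow_smul

end Groth.Agent.S5912
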