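import Groth.Statements.S5913
import Mathlib

set_option autoImplicit false
universe u
open CategoryTheory AlgebraicGeometry
open EGA43

namespace Groth.Agent.S5913

theorem jacobsonSpace_of_isEmbedding {X Y : Type*} [TopologicalSpace X] [TopologicalSpace Y]
    [JacobsonSpace X] (f : Y → X) (hf : Topology.IsEmbedding f)
    (hr : IsLocallyClosed (Set.range f)) : JacobsonSpace Y := by
  rw [jacobsonSpace_iff_locallyClosed]
  intro Z hZ hZ'
  have h1 : IsLocallyClosed (f '' Z) := hZ'.image hf.isInducing hr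
  obtain ⟨x, hx, hxc⟩ := nonempty_inter_closedPoints (hZ.image f) h1
  obtain ⟨y, hy, rfl⟩ := hx
  refine ⟨y, hy, ?_⟩
  have hpre : ({y} : Set Y) = f ⁻¹' {f y} := by
    ext z; simp [hf.injective.eq_iff]
  show IsClosed {y}
  rw [hpre]
  exact IsClosed.preimage hf.continuous hxc

theorem dim_one_of_gdomain {D : Type*} [CommRing D] [IsDomain D] [IsNoetherianRing D]
    (g : D) (hg : g ≠ 0) (hall : ∀ Q : Ideal D, Q.IsPrime → Q ≠ ⊥ → g ∈ Q) (hF : ¬ IsField D) :
    Finite (MaximalSpectrum D) ∧ ringKrullDim D = 1 := by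
  classical
  have hfin : (Ideal.span {g}).minimalPrimes.Finite :=
    Ideal.finite_minimalPrimes_of_isNoetherianRing D (Ideal.span {g})
  have key : ∀ P : Ideal D, P.IsPrime → P ≠ ⊥ → P ∈ (Ideal.span {g}).minimalPrimes := by
    intro P hP hP0
    have hgP : Ideal.span {g} ≤ P := by
      rw [Ideal.span_singleton_le_iff_mem]; exact hall P hP hP0
    have hsub : (P : Set D) ⊆ ⋃ Q ∈ (↑hfin.toFinset : Set (Ideal D)), ((fun Q : Ideal D => Q) Q : Set D) := by
      intro x hx
      by_cases hx0 : x = 0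
      · obtain ⟨Q', hQ', hQ'P⟩ := Ideal.exists_minimalPrimes_le hgP
        simp only [Set.mem_iUnion]
        refine ⟨Q', ?_, ?_⟩
        · simpa using hQ'
        · rw [hx0]; exact Q'.zero_mem
      · have hxP : Ideal.span {x} ≤ P := by
          rw [Ideal.span_singleton_le_iff_mem]; exact hx
        obtain ⟨Q, hQ, hQP⟩ := Ideal.exists_minimalPrimes_le hxP
        haveI hQprime : Q.IsPrime := hQ.1.1
        have hxQ : x ∈ Q := (Ideal.span_singleton_le_iff_mem Q).mp hQ.1.2
        have hQ0 : Q ≠ ⊥ := fun h => hx0 (by rw [h] at hxQ; exact (Ideal.mem_bot).mp hxQ)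
        have hht : Q.height ≤ 1 :=
          Ideal.height_le_one_of_isPrincipal_of_mem_minimalPrimes (Ideal.span {x}) Q hQ
        have hgQ : Ideal.span {g} ≤ Q := by
          rw [Ideal.span_singleton_le_iff_mem]; exact hall Q hQprime hQ0
        obtain ⟨Q', hQ', hQ'Q⟩ := Ideal.exists_minimalPrimes_le hgQ
        haveI hQ'prime : Q'.IsPrime := hQ'.1.1
        have hgQ' : g ∈ Q' := (Ideal.span_singleton_le_iff_mem Q').mp hQ'.1.2
        have hQ'0 : Q' ≠ ⊥ := fun h => hg (by rw [h] at hgQ'; exact (Ideal.mem_bot).mp hgQ')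
        have hEq : Q' = Q := by
          by_contra hne
          have hlt : Q' < Q := lt_of_le_of_ne hQ'Q hne
          have h1 : Q'.height + 1 ≤ Q.height := Ideal.height_add_one_le_of_lt_of_isPrime hlt
          haveI : (⊥ : Ideal D).IsPrime := Ideal.isPrime_bot
          have h0 : (⊥ : Ideal D).height + 1 ≤ Q'.height :=
            Ideal.height_add_one_le_of_lt_of_isPrime (bot_lt_iff_ne_bot.mpr hQ'0)
          have h2 : (1 : ℕ∞) ≤ Q'.height := le_trans le_add_self h0
          have h3 : (1 : ℕ∞) + 1 ≤ 1 := le_trans (le_trans (add_le_add_left h2 1) h1) hht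
          exact absurd h3 (by decide)
        simp only [Set.mem_iUnion]
        refine ⟨Q', ?_, ?_⟩
        · simpa using hQ'
        · rw [hEq]; exact hxQ
    obtain ⟨Q', hQ's, hPQ'⟩ := (Ideal.subset_union_prime (s := hfin.toFinset)
      (f := fun Q : Ideal D => Q) ⊥ ⊥ (fun Q hQ _ _ => by
        have : Q ∈ (Ideal.span {g}).minimalPrimes := by simpa using hQ
        exact this.1.1)).mp hsub
    have hQ' : Q' ∈ (Ideal.span {g}).minimalPrimes := by simpa using hQ's
    have hQ'P : Q' ≤ P := hQ'.2 ⟨hP, hgP⟩ hPQ'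
    have : P = Q' := le_antisymm hPQ' hQ'P
    rw [this]; exact hQ'
  have hdim1 : Ring.KrullDimLE 1 D := by
    refine Ring.krullDimLE_one_iff_of_noZeroDivisors.mpr fun I hI0 hIp => ?_
    obtain ⟨M, hM, hIM⟩ := Ideal.exists_le_maximal I hIp.ne_top
    have hM0 : M ≠ ⊥ := fun h => hI0 (le_bot_iff.mp (h ▸ hIM))
    have hMmin := key M hM.isPrime hM0
    have hgI : Ideal.span {g} ≤ I := by
      rw [Ideal.span_singleton_le_iff_mem]; exact hall I hIp hI0
    have hMI : M ≤ I := hMmin.2 ⟨hIp, hgI⟩ hIM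
    have : I = M := le_antisymm hIM hMI
    rw [this]; exact hM
  refine ⟨?_, ?_⟩
  · haveI : Finite {Q // Q ∈ (Ideal.span {g}).minimalPrimes} := Set.finite_coe_iff.mpr hfin
    refine Finite.of_injective (fun m : MaximalSpectrum D =>
      (⟨m.asIdeal, key m.asIdeal m.isMaximal.isPrime
        (Ring.ne_bot_of_isMaximal_of_not_isField m.isMaximal hF)⟩ :
        {Q // Q ∈ (Ideal.span {g}).minimalPrimes})) ?_
    intro m m' h
    have : m.asIdeal = m'.asIdeal := congrArg Subtype.val h
    exact MaximalSpectrum.ext this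
  · apply eq_of_le_of_not_lt ?_ fun h' ↦ hF ?_
    · rw [← Nat.cast_one, ← Ring.krullDimLE_iff]
      exact hdim1
    · have h'' : ringKrullDim D ≤ 0 := Order.le_of_lt_succ h'
      rw [← Nat.cast_zero, ← Ring.krullDimLE_iff] at h''
      exact Ring.KrullDimLE.isField_of_isDomain

theorem forward (X : Scheme.{u}) [JacobsonSpace X] (R : CommRingCat.{u}) [IsDomain R]
    (i : Spec R ⟶ X) [IsImmersion i]
    (hfin : Finite (MaximalSpectrum R)) (hdim : ringKrullDim R = 1) : False := by
  have hJ0 : JacobsonSpace (Spec R) :=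
    jacobsonSpace_of_isEmbedding i i.isEmbedding i.isLocallyClosed_range
  have hJ : JacobsonSpace (PrimeSpectrum R) := hJ0
  have hcl : closedPoints (PrimeSpectrum R) = Set.range MaximalSpectrum.toPrimeSpectrum := by
    ext x
    rw [mem_closedPoints_iff, PrimeSpectrum.isClosed_singleton_iff_isMaximal]
    constructor
    · intro h; exact ⟨⟨x.asIdeal, h⟩, rfl⟩
    · rintro ⟨m, rfl⟩; exact m.isMaximal
  have hfin' : (closedPoints (PrimeSpectrum R)).Finite := by
    rw [hcl]; exact Set.finite_range _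
  have hclosed : IsClosed (closedPoints (PrimeSpectrum R)) := by
    have := hfin'.isClosed_biUnion (f := fun x => ({x} : Set (PrimeSpectrum R))) (fun x hx => hx)
    rwa [Set.biUnion_of_singleton] at this
  have huniv : closedPoints (PrimeSpectrum R) = Set.univ := by
    rw [← hclosed.closure_eq]; exact closure_closedPoints
  have hbot : IsClosed ({(⟨⊥, Ideal.isPrime_bot⟩ : PrimeSpectrum R)} : Set (PrimeSpectrum R)) := by
    have : (⟨⊥, Ideal.isPrime_bot⟩ : PrimeSpectrum R) ∈ closedPoints (PrimeSpectrum R) := by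
      rw [huniv]; trivial
    exact this
  have hmax : (⊥ : Ideal R).IsMaximal :=
    (PrimeSpectrum.isClosed_singleton_iff_isMaximal _).mp hbot
  have hfield : IsField R := Ring.isField_iff_maximal_bot.mpr hmax
  rw [ringKrullDim_eq_zero_of_isField hfield] at hdim
  exact zero_ne_one hdim

theorem backward_affine (X : Scheme.{u}) [IsLocallyNoetherian X]
    (H : ∀ (R : CommRingCat.{u}) [IsDomain R] (i : Spec R ⟶ X) [IsImmersion i],
        ¬ (Finite (MaximalSpectrum R) ∧ ringKrullDim R = 1))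
    (A : CommRingCat.{u}) (j : Spec A ⟶ X) [IsOpenImmersion j] : JacobsonSpace (Spec A) := by
  haveI : IsLocallyNoetherian (Spec A) := isLocallyNoetherian_of_isOpenImmersion j
  haveI hN : IsNoetherianRing A := isLocallyNoetherian_Spec.mp inferInstance
  by_contra hJ
  have hJ' : ¬ IsJacobsonRing A := fun h => hJ inferInstance
  rw [isJacobsonRing_iff_prime_eq] at hJ'
  push_neg at hJ'
  obtain ⟨p, hp, hne⟩ := hJ'
  obtain ⟨f, hfJ, hfp⟩ := Set.not_subset.mp
    (fun h : (p.jacobson : Set A) ⊆ p => hne (le_antisymm h Ideal.le_jacobson))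
  obtain ⟨P, hPS, hmax⟩ : ∃ P : Ideal A, P ∈ {q : Ideal A | q.IsPrime ∧ p ≤ q ∧ f ∉ q} ∧
      ∀ I ∈ {q : Ideal A | q.IsPrime ∧ p ≤ q ∧ f ∉ q}, ¬ P < I :=
    set_has_maximal_iff_noetherian.mpr hN
      {q : Ideal A | q.IsPrime ∧ p ≤ q ∧ f ∉ q} ⟨p, hp, le_rfl, hfp⟩
  obtain ⟨hPprime, hpP, hfP⟩ := hPS
  haveI := hPprime
  have hPnotmax : ¬ P.IsMaximal := by
    intro hPm
    rw [SetLike.mem_coe, Ideal.jacobson, Ideal.mem_sInf] at hfJ
    exact hfP (hfJ ⟨hpP, hPm⟩)
  have hup : ∀ Q : Ideal A, Q.IsPrime → P < Q → f ∈ Q := by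
    intro Q hQ hPQ
    by_contra hfQ
    exact hmax Q ⟨hQ, le_trans hpP hPQ.le, hfQ⟩ hPQ
  let D := A ⧸ P
  have hg : (Ideal.Quotient.mk P f) ≠ 0 := by
    rw [Ne, Ideal.Quotient.eq_zero_iff_mem]; exact hfP
  have hall : ∀ Q : Ideal (A ⧸ P), Q.IsPrime → Q ≠ ⊥ → Ideal.Quotient.mk P f ∈ Q := by
    intro Q hQ hQ0
    haveI := hQ
    have hle : P ≤ Q.comap (Ideal.Quotient.mk P) := by
      intro x hx
      rw [Ideal.mem_comap, Ideal.Quotient.eq_zero_iff_mem.mpr hx]
      exact Q.zero_mem
    have hne' : P ≠ Q.comap (Ideal.Quotient.mk P) := by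
      intro h
      apply hQ0
      have h2 := Ideal.map_comap_of_surjective (Ideal.Quotient.mk P) Ideal.Quotient.mk_surjective Q
      rw [← h, Ideal.map_quotient_self] at h2
      exact h2.symm
    exact hup _ (Ideal.comap_isPrime _ _) (lt_of_le_of_ne hle hne')
  have hF : ¬ IsField (A ⧸ P) := fun h => hPnotmax (Ideal.Quotient.maximal_of_isField P h)
  obtain ⟨h1, h2⟩ := dim_one_of_gdomain (D := A ⧸ P) (Ideal.Quotient.mk P f) hg hall hF
  haveI : IsClosedImmersion (Spec.map (CommRingCat.ofHom (Ideal.Quotient.mk P))) :=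
    IsClosedImmersion.spec_of_surjective _ Ideal.Quotient.mk_surjective
  exact H (CommRingCat.of (A ⧸ P)) (Spec.map (CommRingCat.ofHom (Ideal.Quotient.mk P)) ≫ j) ⟨h1, h2⟩

/-- In the locally Noetherian form: a locally Noetherian scheme X is Jacobson if and only if it has no
subscheme isomorphic to the spectrum of a semi-local integral domain of dimension 1, i.e. there is
no immersion Spec R ⟶ X with R an integral domain having finitely many maximal ideals and Krull
dimension 1. -/
theorem result (X : Scheme.{u}) [IsLocallyNoetherian X] :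
    JacobsonSpace X ↔
      ∀ (R : CommRingCat.{u}) [IsDomain R] (i : Spec R ⟶ X) [IsImmersion i],
        ¬ (Finite (MaximalSpectrum R) ∧ ringKrullDim R = 1) := by
  constructor
  · intro hJ R _ i _ h
    exact forward X R i h.1 h.2
  · intro H
    rw [X.affineCover.isOpenCover_opensRange.jacobsonSpace_iff]
    intro k
    let e := (X.affineCover.f k).isOpenEmbedding.isEmbedding.toHomeomorph
    suffices hs : JacobsonSpace (X.affineCover.X k) from
      .of_isClosedEmbedding e.symm.isClosedEmbedding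
    haveI : JacobsonSpace (Spec Γ(X.affineCover.X k, ⊤)) :=
      backward_affine X H _ ((X.affineCover.X k).isoSpec.inv ≫ X.affineCover.f k)
    exact JacobsonSpace.of_isOpenEmbedding (X.affineCover.X k).isoSpec.hom.isOpenEmbedding

end Groth.Agent.S5913
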