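import Groth.Statements.S5925
-- import your own Groth.Agent.* helpers here
import Mathlib
import Groth.Agent.Lib.Helper12.EquidimHyp

set_option autoImplicit false
open CategoryTheory AlgebraicGeometry
universe u
open EGA43

namespace Groth.Agent.S5925

/-- Let Y be an irreducible locally Noetherian scheme, f : X ⟶ Y a morphism locally of finite type which
is equidimensional at the point x, y = f x and e = dim_x(f⁻¹(y)). Let g be a global section of O_X
vanishing at x whose zero set X' contains no maximal point of f⁻¹(y). Then X', with its reduced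
closed subscheme structure, is equidimensional over Y at x; dim_x(X' ∩ f⁻¹(y)) = e − 1; and every
irreducible component of X' containing x has codimension 1 in X, i.e. the local ring of X at its
generic point has Krull dimension 1. (Stated for a global section; the published statement takes g
on an affine open neighbourhood of x, to which this applies after restriction, and its codimension
assertion codim(X', X) = 1 is read for the components of X' through x: a component of the zero set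
not passing through x can be a whole irreducible component of X disjoint from the fibre, of
codimension 0.) -/
theorem result {X Y : Scheme.{u}} [IrreducibleSpace Y]
    [IsLocallyNoetherian Y] (f : X ⟶ Y) [LocallyOfFiniteType f] (x : X) (hf : EGA43.IsEquidimAt f x)
    (g : Γ(X, ⊤)) (hgx : x ∈ X.zeroLocus ({g} : Set Γ(X, ⊤)))
    (hmax : ∀ z : X, f.base z = f.base x → (∀ z' : X, f.base z' = f.base x → z ∈ closure ({z'} : Set X) → z' = z) →
      z ∉ X.zeroLocus ({g} : Set Γ(X, ⊤))) :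
    (∀ w : ↥(Scheme.IdealSheafData.vanishingIdeal ⟨X.zeroLocus ({g} : Set Γ(X, ⊤)), X.zeroLocus_isClosed _⟩).subscheme,
        (Scheme.IdealSheafData.vanishingIdeal ⟨X.zeroLocus ({g} : Set Γ(X, ⊤)), X.zeroLocus_isClosed _⟩).subschemeι.base w = x →
        EGA43.IsEquidimAt ((Scheme.IdealSheafData.vanishingIdeal ⟨X.zeroLocus ({g} : Set Γ(X, ⊤)), X.zeroLocus_isClosed _⟩).subschemeι ≫ f) w) ∧
      FlatMor.localDim ↥(X.zeroLocus ({g} : Set Γ(X, ⊤)) ∩ f.base ⁻¹' {f.base x}) ⟨x, ⟨hgx, rfl⟩⟩ + 1 = FlatMor.fibreDimAt f x ∧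
      ∀ Z ∈ irreducibleComponents ↥(X.zeroLocus ({g} : Set Γ(X, ⊤))), (⟨x, hgx⟩ : ↥(X.zeroLocus ({g} : Set Γ(X, ⊤)))) ∈ Z →
        ∀ ξ : ↥(X.zeroLocus ({g} : Set Γ(X, ⊤))), closure ({ξ} : Set ↥(X.zeroLocus ({g} : Set Γ(X, ⊤)))) = Z →
          ringKrullDim (X.presheaf.stalk (ξ : X)) = 1 := by
  haveI : IsLocallyNoetherian X := LocallyOfFiniteType.isLocallyNoetherian f
  have hmax' : ∀ z ∈ (⟨X.zeroLocus ({g} : Set Γ(X, ⊤)), X.zeroLocus_isClosed _⟩ :
      TopologicalSpace.Closeds X), f z = f x → ∃ z' : X, f z' = f x ∧ z' ⤳ z ∧ z' ≠ z := by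
    intro z hzT hz
    by_contra hcon
    push Not at hcon
    exact hmax z hz (fun z' hz' hmem => hcon z' hz' (specializes_iff_mem_closure.mpr hmem)) hzT
  obtain ⟨r1, r2, r3⟩ := Groth.Agent.Lib.Helper12.EquidimHyp.hyp_main f x hf
    ⟨X.zeroLocus ({g} : Set Γ(X, ⊤)), X.zeroLocus_isClosed _⟩ hgx
    (fun ξ hξ hm =>
      Groth.Agent.Lib.Helper12.EquidimHyp.ringKrullDim_stalk_le_one_of_max_zeroLocus g ξ hξ hm)
    hmax'
  have hrange : Set.range (Scheme.IdealSheafData.vanishingIdeal
      ⟨X.zeroLocus ({g} : Set Γ(X, ⊤)), X.zeroLocus_isClosed _⟩).subschemeι =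
      X.zeroLocus ({g} : Set Γ(X, ⊤)) := by
    rw [Scheme.IdealSheafData.range_subschemeι]
    exact Scheme.IdealSheafData.coe_support_vanishingIdeal _
  refine ⟨r1, ?_, ?_⟩
  · obtain ⟨w, hw⟩ : ∃ w, (Scheme.IdealSheafData.vanishingIdeal
        ⟨X.zeroLocus ({g} : Set Γ(X, ⊤)), X.zeroLocus_isClosed _⟩).subschemeι w = x := by
      have : x ∈ Set.range (Scheme.IdealSheafData.vanishingIdeal
          ⟨X.zeroLocus ({g} : Set Γ(X, ⊤)), X.zeroLocus_isClosed _⟩).subschemeι := by
        rw [hrange]; exact hgx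
      exact this
    rw [← r2 w hw]
    congr 1
    exact Groth.Agent.Lib.Helper12.EquidimSub.localDim_inter_fibre_eq _ f
      (Scheme.IdealSheafData.vanishingIdeal
        ⟨X.zeroLocus ({g} : Set Γ(X, ⊤)), X.zeroLocus_isClosed _⟩).subschemeι.isEmbedding _ hrange
      w x hw hgx
  · intro Z hZ hxZ ξ hξ
    apply r3 ξ.1 ξ.2
    · intro z hzT hz
      have h1 : (⟨z, hzT⟩ : ↥(X.zeroLocus ({g} : Set Γ(X, ⊤)))) ⤳ ξ :=
        (subtype_specializes_iff _ _).mpr hz
      have h2 : closure ({ξ} : Set ↥(X.zeroLocus ({g} : Set Γ(X, ⊤)))) ⊆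
          closure {(⟨z, hzT⟩ : ↥(X.zeroLocus ({g} : Set Γ(X, ⊤))))} :=
        specializes_iff_closure_subset.mp h1
      have h3 : closure {(⟨z, hzT⟩ : ↥(X.zeroLocus ({g} : Set Γ(X, ⊤))))} ⊆
          closure ({ξ} : Set ↥(X.zeroLocus ({g} : Set Γ(X, ⊤)))) := by
        rw [hξ]
        exact hZ.2 isIrreducible_singleton.closure (hξ ▸ h2)
      have h4 : ξ ⤳ (⟨z, hzT⟩ : ↥(X.zeroLocus ({g} : Set Γ(X, ⊤)))) :=
        specializes_iff_closure_subset.mpr h3
      exact congrArg Subtype.val (h1.antisymm h4).eq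
    · have h1 : ξ ⤳ (⟨x, hgx⟩ : ↥(X.zeroLocus ({g} : Set Γ(X, ⊤)))) :=
        specializes_iff_mem_closure.mpr (hξ ▸ hxZ)
      exact (subtype_specializes_iff _ _).mp h1

end Groth.Agent.S5925
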