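import Groth.Statements.S5929
import Mathlib
import Groth.Agent.Lib.Helper17.KerFP
import Groth.Agent.Lib.Helper10.Resolution
import Groth.Agent.Lib.Helper22.CyclesSeq

set_option autoImplicit false
universe u
open TensorProduct CategoryTheory
open EGA43

namespace Groth.Agent.S5929

/-- A stage of the construction: a finitely presented `B`-module, flat over `A`. -/
structure Stage (A B : Type u) [CommRing A] [CommRing B] [Algebra A B] where
  /-- the module -/
  Z : Type u
  [i1 : AddCommGroup Z]
  [i2 : Module B Z]
  [i3 : Module A Z]
  [i4 : IsScalarTower A B Z]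
  /-- finitely presented -/
  fp : Module.FinitePresentation B Z
  /-- flat over the base -/
  flat : Module.Flat A Z

attribute [instance] Stage.i1 Stage.i2 Stage.i3 Stage.i4

section helpers

variable {A B : Type u} [CommRing A] [CommRing B] [Algebra A B]

/-- number of generators -/
noncomputable def Stage.k (s : Stage A B) : ℕ :=
  haveI := s.fp
  (Module.Finite.exists_fin' B s.Z).choose

/-- the chosen surjection -/
noncomputable def Stage.p (s : Stage A B) : (Fin s.k → B) →ₗ[B] s.Z :=
  haveI := s.fp
  (Module.Finite.exists_fin' B s.Z).choose_spec.choose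

lemma Stage.p_surj (s : Stage A B) : Function.Surjective s.p :=
  haveI := s.fp
  (Module.Finite.exists_fin' B s.Z).choose_spec.choose_spec

variable [Algebra.FinitePresentation A B] [Module.Flat A B]

/-- the next stage: the kernel of the chosen surjection -/
noncomputable def Stage.next (s : Stage A B) : Stage A B where
  Z := LinearMap.ker s.p
  fp := by
    haveI := s.fp
    haveI := s.flat
    exact Groth.Agent.Lib.Helper17.KerFP.finitePresentation_ker (A := A) s.p s.p_surj
  flat := by
    haveI := s.flat
    haveI : Module.Flat A (Fin s.k → B) := Module.Flat.trans A B (Fin s.k → B)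
    exact Groth.Agent.Lib.Helper22.flat_of_exact_of_flat (R := A)
      ((LinearMap.ker s.p).subtype.restrictScalars A) (s.p.restrictScalars A)
      Subtype.val_injective s.p_surj (LinearMap.exact_subtype_ker_map s.p)

/-- the sequence of stages -/
noncomputable def stage (s₀ : Stage A B) : ℕ → Stage A B
  | 0 => s₀
  | n + 1 => (stage s₀ n).next

/-- the differential -/
noncomputable def dmap (s : Stage A B) :
    (Fin s.next.k → B) →ₗ[B] (Fin s.k → B) :=
  (LinearMap.ker s.p).subtype ∘ₗ s.next.p

lemma exact_dmap_p (s : Stage A B) : Function.Exact (dmap s) s.p := by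
  intro y
  constructor
  · intro hy
    obtain ⟨x, hx⟩ := s.next.p_surj (⟨y, hy⟩ : LinearMap.ker s.p)
    refine ⟨x, ?_⟩
    show (LinearMap.ker s.p).subtype (s.next.p x) = y
    rw [hx]
    rfl
  · rintro ⟨x, rfl⟩
    exact (show ∀ z : LinearMap.ker s.p, s.p ((LinearMap.ker s.p).subtype z) = 0 from
        fun z => z.2) (s.next.p x)

lemma exact_dmap_dmap (s : Stage A B) :
    Function.Exact (dmap s.next) (dmap s) := by
  intro y
  have h1 : dmap s y = 0 ↔ s.next.p y = 0 := by
    constructor
    · intro h
      apply Subtype.ext
      exact h
    · intro h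
      show (LinearMap.ker s.p).subtype (s.next.p y) = 0
      rw [h]
      exact map_zero (LinearMap.ker s.p).subtype
  rw [h1]
  exact exact_dmap_p s.next y

end helpers


/-- Let A be a commutative ring, B a finitely presented A-algebra which is flat as an A-module, and M a
finitely presented B-module which is flat as an A-module. Then M admits a left resolution by free
B-modules of finite type: there is a projective resolution of M in the category of B-modules (a
chain complex of projective modules with a quasi-isomorphism to M in degree 0) every term of which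
is a finitely generated free B-module. -/
theorem result (A B M : Type u) [CommRing A] [CommRing B] [Algebra A B]
    [Algebra.FinitePresentation A B] [Module.Flat A B] [AddCommGroup M] [Module B M] [Module A M]
    [IsScalarTower A B M] [Module.FinitePresentation B M] [Module.Flat A M] :
    ∃ P : ProjectiveResolution (ModuleCat.of B M),
      ∀ n : ℕ, Module.Finite B (P.complex.X n) ∧ Module.Free B (P.complex.X n) := by
  classical
  let s₀ : Stage A B := ⟨M, inferInstance, inferInstance⟩
  let X : ℕ → ModuleCat.{u} B := fun n => ModuleCat.of B (Fin (stage s₀ n).k → B)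
  let d : ∀ n, X (n + 1) ⟶ X n := fun n => ModuleCat.ofHom (dmap (stage s₀ n))
  let ε : X 0 ⟶ ModuleCat.of B M := ModuleCat.ofHom s₀.p
  have hex : ∀ n, Function.Exact (d (n + 1)) (d n) := fun n => exact_dmap_dmap (stage s₀ n)
  have hex0 : Function.Exact (d 0) ε := exact_dmap_p s₀
  have hsurj : Function.Surjective ε := s₀.p_surj
  have sq : ∀ n, d (n + 1) ≫ d n = 0 := by
    intro n
    apply ModuleCat.hom_ext
    apply LinearMap.ext
    intro x
    exact (hex n).apply_apply_eq_zero x
  have hε0 : d 0 ≫ ε = 0 := by
    apply ModuleCat.hom_ext
    apply LinearMap.ext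
    intro x
    exact hex0.apply_apply_eq_zero x
  haveI : ∀ n, Projective (X n) := fun n =>
    ModuleCat.projective_of_categoryTheory_projective (ModuleCat.of B (Fin (stage s₀ n).k → B))
  obtain ⟨P, hP⟩ := Groth.Agent.Lib.Helper10.exists_projectiveResolution B X d sq
    (ModuleCat.of B M) ε hε0 hsurj hex0 hex
  refine ⟨P, fun n => ?_⟩
  rw [hP]
  show Module.Finite B (Fin (stage s₀ n).k → B) ∧ Module.Free B (Fin (stage s₀ n).k → B)
  exact ⟨inferInstance, inferInstance⟩

end Groth.Agent.S5929
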