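import Groth.Statements.S5930
import Mathlib
import Groth.Agent.Lib.Helper25.PdFibreFlatFP

set_option autoImplicit false
universe u
open TensorProduct CategoryTheory
open EGA43

namespace Groth.Agent.S5930

/-- Let A be a commutative ring, B a finitely presented A-algebra which is flat as an A-module, and M a
finitely presented B-module which is flat as an A-module. Then the projective dimension of M as a
B-module equals the supremum, over the prime ideals p of A with residue fields κ(p), of the
projective dimensions of the modules (B ⊗_A κ(p)) ⊗_B M over the rings B ⊗_A κ(p). (Projective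
dimensions are taken in the respective module categories, with values in WithBot ℕ∞ and the zero
module of dimension ⊥. The published formula also equates these with the Tor-dimension of M over B;
that equality is not stated here.) -/
theorem result (A B M : Type u) [CommRing A] [CommRing B] [Algebra A B]
    [Algebra.FinitePresentation A B] [Module.Flat A B] [AddCommGroup M] [Module B M] [Module A M]
    [IsScalarTower A B M] [Module.FinitePresentation B M] [Module.Flat A M] :
    projectiveDimension (ModuleCat.of B M) =
      ⨆ p : PrimeSpectrum A, projectiveDimension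
        (ModuleCat.of (B ⊗[A] p.asIdeal.ResidueField) ((B ⊗[A] p.asIdeal.ResidueField) ⊗[B] M)) := by
  have subT : ∀ (C : Type u) [CommRing C] [Algebra B C], Subsingleton M →
      Subsingleton (TensorProduct B C M) := by
    intro C _ _ hM
    refine ⟨fun x y => ?_⟩
    have h0 : ∀ z : TensorProduct B C M, z = 0 := by
      intro z
      induction z with
      | zero => rfl
      | tmul a b => rw [Subsingleton.elim b 0, TensorProduct.tmul_zero]
      | add a b ha hb => rw [ha, hb, add_zero]
    rw [h0 x, h0 y]
  apply le_antisymm
  · apply Groth.Agent.Lib.Helper25.PCFlatFP.le_of_forall_nat_lt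
    intro d hd
    rw [projectiveDimension_lt_iff]
    have hp : ∀ (p : Ideal A) [p.IsPrime], HasProjectiveDimensionLT
        (ModuleCat.of (B ⊗[A] p.ResidueField) ((B ⊗[A] p.ResidueField) ⊗[B] M)) d := by
      intro p _
      rw [← projectiveDimension_lt_iff]
      exact lt_of_le_of_lt (le_iSup (fun p : PrimeSpectrum A => projectiveDimension
        (ModuleCat.of (B ⊗[A] p.asIdeal.ResidueField)
          ((B ⊗[A] p.asIdeal.ResidueField) ⊗[B] M))) ⟨p, inferInstance⟩) hd
    cases d with
    | zero =>
      haveI : Subsingleton M := by
        apply Groth.Agent.Lib.Helper25.PCFlatFP.subsingleton_of_fibres A B M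
        intro p _
        have hz : Limits.IsZero (ModuleCat.of (B ⊗[A] p.ResidueField)
            ((B ⊗[A] p.ResidueField) ⊗[B] M)) :=
          @isZero_of_hasProjectiveDimensionLT_zero _ _ _ _ (hp p)
        exact ModuleCat.subsingleton_of_isZero hz
      exact (ModuleCat.isZero_of_subsingleton (ModuleCat.of B M)).hasProjectiveDimensionLT_zero
    | succ d =>
      exact Groth.Agent.Lib.Helper25.PCFlatFP.hasProjectiveDimensionLT_of_fibres A B M d hp
  · apply iSup_le
    intro p
    apply Groth.Agent.Lib.Helper25.PCFlatFP.le_of_forall_nat_lt
    intro d hd
    rw [projectiveDimension_lt_iff] at hd ⊢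
    cases d with
    | zero =>
      have hz : Limits.IsZero (ModuleCat.of B M) :=
        @isZero_of_hasProjectiveDimensionLT_zero _ _ _ _ hd
      haveI : Subsingleton M := ModuleCat.subsingleton_of_isZero hz
      haveI : Subsingleton ((B ⊗[A] p.asIdeal.ResidueField) ⊗[B] M) :=
        subT (B ⊗[A] p.asIdeal.ResidueField) inferInstance
      exact (ModuleCat.isZero_of_subsingleton (ModuleCat.of (B ⊗[A] p.asIdeal.ResidueField)
        ((B ⊗[A] p.asIdeal.ResidueField) ⊗[B] M))).hasProjectiveDimensionLT_zero
    | succ d =>
      exact Groth.Agent.Lib.Helper25.PCFlatFP.hasProjectiveDimensionLT_fibre A B M p.asIdeal d hd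

end Groth.Agent.S5930
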