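import Groth.Statements.S5936
import Mathlib
import Groth.Agent.Lib.Helper25.PdTorFlatFP
import Groth.Agent.Lib.Helper7.TorNat7
import Groth.Agent.Lib.Helper14.TorVanish

set_option autoImplicit false
universe u
open TensorProduct CategoryTheory
open EGA43

namespace Groth.Agent.S5936

/-- Let A be a commutative ring, B a finitely presented A-algebra which is flat as an A-module, and M a
finitely presented B-module which is flat as an A-module. Then the projective dimension of M as a
B-module equals its Tor-dimension, the least n such that Tor_i^B(M, N) = 0 for every i > n and every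
B-module N. (Both sides are valued in WithBot ℕ∞, with the zero module of dimension ⊥; Tor_i^B(M, −)
is the i-th left derived functor of M ⊗_B −. In general only Tor-dimension ≤ projective dimension
holds.) -/
theorem result (A B M : Type u) [CommRing A] [CommRing B] [Algebra A B]
    [Algebra.FinitePresentation A B] [Module.Flat A B] [AddCommGroup M] [Module B M] [Module A M]
    [IsScalarTower A B M] [Module.FinitePresentation B M] [Module.Flat A M] :
    projectiveDimension (ModuleCat.of B M) =
      sInf {n : WithBot ℕ∞ | ∀ i : ℕ, n < i → ∀ N : ModuleCat.{u} B,
        Limits.IsZero (((Tor (ModuleCat.{u} B) i).obj (ModuleCat.of B M)).obj N)} := by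
  unfold projectiveDimension
  congr 1
  ext n
  constructor
  · intro hn i hi N
    have hpd : HasProjectiveDimensionLT (ModuleCat.of B M) i := hn i hi
    cases i with
    | zero =>
      have hz : Limits.IsZero (ModuleCat.of B M) :=
        @isZero_of_hasProjectiveDimensionLT_zero _ _ _ (ModuleCat.of B M) hpd
      haveI : Subsingleton M := ModuleCat.subsingleton_of_isZero hz
      haveI : Subsingleton (TensorProduct B (ModuleCat.of B M) N) :=
        ⟨fun x y => by
          have h0 : ∀ z : TensorProduct B (ModuleCat.of B M) N, z = 0 := by
            intro z
            induction z with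
            | zero => rfl
            | tmul a b =>
              rw [show a = 0 from Subsingleton.elim (α := M) _ _, TensorProduct.zero_tmul]
            | add a b ha hb => rw [ha, hb, add_zero]
          rw [h0 x, h0 y]⟩
      haveI : Subsingleton (((Tor (ModuleCat.{u} B) 0).obj (ModuleCat.of B M)).obj N) :=
        (Groth.Agent.Lib.Helper7.tor0Equiv (ModuleCat.of B M) N).toEquiv.subsingleton
      exact ModuleCat.isZero_of_subsingleton _
    | succ d =>
      haveI := hpd
      have h1 : Groth.Agent.Lib.Helper14.TorKer.TorZ B (d + 1) M N :=
        Groth.Agent.Lib.Helper18.DR.torZ_of_pd d M N (d + 1) (by omega)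
      haveI : Subsingleton (((Tor (ModuleCat.{u} B) (d + 1)).obj (ModuleCat.of B M)).obj N) := h1
      exact ModuleCat.isZero_of_subsingleton _
  · intro hn i hi
    cases i with
    | zero =>
      have h0 := hn 0 hi (ModuleCat.of B B)
      haveI : Subsingleton (((Tor (ModuleCat.{u} B) 0).obj (ModuleCat.of B M)).obj
          (ModuleCat.of B B)) := ModuleCat.subsingleton_of_isZero h0
      haveI : Subsingleton (TensorProduct B (ModuleCat.of B M) (ModuleCat.of B B)) :=
        (Groth.Agent.Lib.Helper7.tor0Equiv (ModuleCat.of B M) (ModuleCat.of B B)).symm.toEquiv.subsingleton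
      haveI : Subsingleton M :=
        (TensorProduct.rid B M).symm.toEquiv.subsingleton
      exact (ModuleCat.isZero_of_subsingleton (ModuleCat.of B M)).hasProjectiveDimensionLT_zero
    | succ d =>
      apply Groth.Agent.Lib.Helper25.PCFlatFP.hasProjectiveDimensionLT_of_hasTorDimLE A B M d
      intro N _ _ p hp
      have hnp : n < (p : WithBot ℕ∞) := lt_of_lt_of_le hi (by exact_mod_cast (show d + 1 ≤ p by omega))
      exact ModuleCat.subsingleton_of_isZero (hn p hnp (ModuleCat.of B N))

end Groth.Agent.S5936
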