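import Groth.Statements.S5939
import Mathlib

set_option autoImplicit false
universe u
open CategoryTheory AlgebraicGeometry
open Unram17

namespace Groth.Agent.S5939

/-- Let f : X ⟶ Y be faithfully flat, locally of finite presentation and quasi-compact, and let g : Y ⟶
Z be a morphism such that f ≫ g is of finite presentation (locally of finite presentation,
quasi-compact and quasi-separated). Then g is quasi-compact and quasi-separated; together with the
descent of local finite presentation along f this says that g is of finite presentation. This is the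
case f quasi-compact. -/
theorem result {X Y Z : Scheme.{u}} (f : X ⟶ Y) (g : Y ⟶ Z)
    [Surjective f] [Flat f] [LocallyOfFinitePresentation f] [QuasiCompact f]
    [LocallyOfFinitePresentation (f ≫ g)] [QuasiCompact (f ≫ g)] [QuasiSeparated (f ≫ g)] :
    QuasiCompact g ∧ QuasiSeparated g := by
  have himg : ∀ A : Set Y, A = f '' (f ⁻¹' A) := by
    intro A
    ext y
    constructor
    · intro hy
      obtain ⟨x, rfl⟩ := f.surjective y
      exact ⟨x, hy, rfl⟩
    · rintro ⟨x, hx, rfl⟩
      exact hx
  constructor
  · rw [quasiCompact_iff_forall_isAffineOpen]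
    intro U hU
    have h1 : IsCompact ((f ≫ g) ⁻¹ᵁ U : Set X) := (f ≫ g).isCompact_preimage hU.isCompact
    rw [himg (g ⁻¹ᵁ U : Set Y)]
    exact h1.image f.continuous
  · rw [HasAffineProperty.eq_targetAffineLocally (P := @QuasiSeparated)]
    intro U
    change QuasiSeparatedSpace ↥(g ⁻¹ᵁ U.1)
    refine (isQuasiSeparated_iff_quasiSeparatedSpace _ (g ⁻¹ᵁ U.1).2).mp ?_
    have hqs : IsQuasiSeparated ((f ≫ g) ⁻¹ᵁ U.1 : Set X) :=
      (f ≫ g).isQuasiSeparated_preimage U.2.isQuasiSeparated
    intro A B hA hAo hAc hB hBo hBc
    have h1 : IsCompact (f ⁻¹' A ∩ f ⁻¹' B) := by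
      refine hqs _ _ ?_ (hAo.preimage f.continuous)
        (QuasiCompact.isCompact_preimage (f := f) A hAo hAc) ?_ (hBo.preimage f.continuous)
        (QuasiCompact.isCompact_preimage (f := f) B hBo hBc)
      · intro x hx; exact hA hx
      · intro x hx; exact hB hx
    rw [himg (A ∩ B), Set.preimage_inter]
    exact h1.image f.continuous

end Groth.Agent.S5939
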