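import Groth.Statements.S5945
-- import your own Groth.Agent.* helpers here
import Mathlib
import Groth.Agent.Lib.Helper12.FibMono
import Groth.Agent.S12442

set_option autoImplicit false
universe u
open CategoryTheory AlgebraicGeometry
open Unram17

namespace Groth.Agent.S5945
open Groth.Agent.Lib.Helper12.UnramLocus CategoryTheory.Limits

theorem nhd_iff {X Y : Scheme.{u}} (f : X ⟶ Y) [LocallyOfFiniteType f] (x : X) :
    (∃ U : X.Opens, x ∈ U ∧ FormallyUnramified (U.ι ≫ f)) ↔ x ∈ unramLocus f := by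
  constructor
  · rintro ⟨U, hxU, hU⟩
    have h1 := (formallyUnramified_iff_unramLocus_eq_univ (U.ι ≫ f)).mp hU
    have h2 : (⟨x, hxU⟩ : U) ∈ unramLocus (U.ι ≫ f) := by rw [h1]; trivial
    exact (mem_unramLocus_comp_left_iff U.ι f ⟨x, hxU⟩).mp h2
  · intro hx
    refine ⟨⟨unramLocus f, isOpen_unramLocus f⟩, hx, ?_⟩
    rw [formallyUnramified_iff_unramLocus_eq_univ, Set.eq_univ_iff_forall]
    intro p
    rw [mem_unramLocus_comp_left_iff]
    exact p.2

/-- Let S = lim S_i be a cofiltered limit of schemes with affine transition maps, let X₀ and Y₀ be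
schemes locally of finite presentation over a stage S_{i₀}, f₀ : X₀ ⟶ Y₀ an S_{i₀}-morphism, and f :
X ⟶ Y the base change of f₀ along S ⟶ S_{i₀} (base changes are expressed by pullback squares). Let x
be a point of X; for a stage j over i₀ the canonical projection X ⟶ X_j is the morphism rX
determined by its composites to X₀ and to S_j. Then f is formally unramified (equivalently
unramified, local finite presentation being automatic here) on some open neighbourhood of x if and
only if, for some index j over i₀, f_j is formally unramified on some open neighbourhood of the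
image of x in X_j. This is the case of unramified morphisms. -/
theorem result {I : Type u} [SmallCategory I] [IsCofiltered I]
    (D : I ⥤ Scheme.{u}) (c : Limits.Cone D) (hc : Limits.IsLimit c)
    [∀ (i j : I) (f : i ⟶ j), IsAffineHom (D.map f)] (i₀ : I)
    {X₀ Y₀ : Scheme.{u}} (f₀ : X₀ ⟶ Y₀) (g₀ : Y₀ ⟶ D.obj i₀)
    [LocallyOfFinitePresentation g₀] [LocallyOfFinitePresentation (f₀ ≫ g₀)]
    {X Y : Scheme.{u}} (f : X ⟶ Y) (g : Y ⟶ c.pt) (qY : Y ⟶ Y₀) (qX : X ⟶ X₀)
    (hY : IsPullback qY g g₀ (c.π.app i₀)) (hX : IsPullback qX f f₀ qY) (x : ↥X) :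
    (∃ U : X.Opens, x ∈ U ∧ FormallyUnramified (U.ι ≫ f)) ↔
      ∃ (j : I) (φ : j ⟶ i₀) (Xj Yj : Scheme.{u}) (fj : Xj ⟶ Yj) (gj : Yj ⟶ D.obj j) (pY : Yj ⟶ Y₀)
        (pX : Xj ⟶ X₀) (rX : X ⟶ Xj), IsPullback pY gj g₀ (D.map φ) ∧ IsPullback pX fj f₀ pY ∧
          rX ≫ pX = qX ∧ rX ≫ fj ≫ gj = f ≫ g ≫ c.π.app j ∧ ∃ V : Xj.Opens, rX.base x ∈ V ∧ FormallyUnramified (V.ι ≫ fj) := by
  haveI : LocallyOfFinitePresentation f₀ := Groth.Agent.S12442.result f₀ g₀
  haveI : LocallyOfFiniteType f :=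
    MorphismProperty.of_isPullback (P := @LocallyOfFiniteType) hX inferInstance
  rw [nhd_iff]
  constructor
  · intro hx
    refine ⟨i₀, 𝟙 i₀, X₀, Y₀, f₀, g₀, 𝟙 Y₀, 𝟙 X₀, qX, ?_, ?_, ?_, ?_, ?_⟩
    · exact IsPullback.of_horiz_isIso ⟨by simp⟩
    · exact IsPullback.of_horiz_isIso ⟨by simp⟩
    · simp
    · rw [hX.w_assoc, hY.w]
    · rw [nhd_iff]
      exact (mem_unramLocus_iff_of_isPullback f₀ qY qX f hX x).mp hx
  · rintro ⟨j, φ, Xj, Yj, fj, gj, pY, pX, rX, h1, h2, e1, e2, hV⟩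
    haveI : LocallyOfFiniteType fj :=
      MorphismProperty.of_isPullback (P := @LocallyOfFiniteType) h2 inferInstance
    rw [nhd_iff] at hV
    have hw : qY ≫ g₀ = (g ≫ c.π.app j) ≫ D.map φ := by
      rw [Category.assoc, c.w φ, hY.w]
    have hrY1 : h1.lift qY (g ≫ c.π.app j) hw ≫ pY = qY := h1.lift_fst _ _ _
    have hrY2 : h1.lift qY (g ≫ c.π.app j) hw ≫ gj = g ≫ c.π.app j := h1.lift_snd _ _ _
    have hcomm : rX ≫ fj = f ≫ h1.lift qY (g ≫ c.π.app j) hw := by
      apply h1.hom_ext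
      · rw [Category.assoc, ← h2.w, ← Category.assoc, e1, Category.assoc, hrY1, hX.w]
      · rw [Category.assoc, e2, Category.assoc, hrY2]
    have hbig : IsPullback (rX ≫ pX) f f₀ (h1.lift qY (g ≫ c.π.app j) hw ≫ pY) := by
      rw [e1, hrY1]; exact hX
    have hsq : IsPullback rX f fj (h1.lift qY (g ≫ c.π.app j) hw) :=
      IsPullback.of_right hbig hcomm h2
    exact (mem_unramLocus_iff_of_isPullback fj _ rX f hsq x).mpr hV

end Groth.Agent.S5945
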