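import Groth.Statements.S5950
import Groth.Agent.Lib.Helper12.NormChar
-- import your own Groth.Agent.* helpers here

set_option autoImplicit false
universe u
open CategoryTheory AlgebraicGeometry
open Unram17

namespace Groth.Agent.S5950

open Groth.Agent.Lib.Helper12

/-- Let X be an integral scheme which has a nonempty (hence dense) open subset at whose points the local
rings are integrally closed, let X' ⟶ X be its normalization, and let f : Y ⟶ X be a morphism of
schemes. Then there is an isomorphism Y ≅ X' over X if and only if: every local ring of Y is an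
integrally closed domain, f is an integral morphism, and there is a dense open subset U of X whose
preimage is dense in Y and such that the restriction f⁻¹(U) ⟶ U of f is an isomorphism. (The
published statement allows X reduced with locally finitely many irreducible components and a dense
normal open subset; this row states the case of an integral X. The quasi-compactness and
quasi-separatedness binders on the generic point always hold and only serve to form the
normalization.) -/
theorem result (X : Scheme.{u}) [IsIntegral X]
    [QuasiCompact (X.fromSpecStalk (genericPoint X))] [QuasiSeparated (X.fromSpecStalk (genericPoint X))]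
    (hV : ∃ V : X.Opens, (V : Set ↥X).Nonempty ∧ ∀ x ∈ V, IsIntegrallyClosed (X.presheaf.stalk x))
    {Y : Scheme.{u}} (f : Y ⟶ X) :
    (∃ e : Y ≅ Curv2.normalization X, e.hom ≫ Curv2.normalizationι X = f) ↔
      Pi1.IsNormalScheme Y ∧ IsIntegralHom f ∧
        ∃ U : X.Opens, Dense (U : Set ↥X) ∧ Dense ((f ⁻¹ᵁ U : Y.Opens) : Set ↥Y) ∧ IsIso (f ∣_ U) := by
  show (∃ e : Y ≅ (X.fromSpecStalk (genericPoint X)).normalization,
      e.hom ≫ (X.fromSpecStalk (genericPoint X)).fromNormalization = f) ↔ _
  constructor
  · rintro ⟨e, rfl⟩
    obtain ⟨hY, hint, hirr, hfib, hiso⟩ := NormChar.props_of_iso X e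
    obtain ⟨U, hneU, hisoU⟩ := NormChar.exists_isIso_restrict_of_normal X hV
    refine ⟨hY, hint, U, U.isOpen.dense hneU, ?_, ?_⟩
    · have hηU : genericPoint X ∈ U := NormAff.genericPoint_mem X hneU
      have h1 : genericPoint Y ∈
          (e.hom ≫ (X.fromSpecStalk (genericPoint X)).fromNormalization).base ⁻¹'
            {genericPoint X} := by rw [hfib]; rfl
      have hmem : genericPoint Y ∈
          ((e.hom ≫ (X.fromSpecStalk (genericPoint X)).fromNormalization) ⁻¹ᵁ U) := by
        show (e.hom ≫ (X.fromSpecStalk (genericPoint X)).fromNormalization) (genericPoint Y) ∈ U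
        have h2 : (e.hom ≫ (X.fromSpecStalk (genericPoint X)).fromNormalization)
            (genericPoint Y) = genericPoint X := h1
        rw [h2]; exact hηU
      exact ((e.hom ≫ (X.fromSpecStalk (genericPoint X)).fromNormalization) ⁻¹ᵁ U).isOpen.dense
        ⟨_, hmem⟩
    · show IsIso ((e.hom ≫ (X.fromSpecStalk (genericPoint X)).fromNormalization) ∣_ U)
      rw [morphismRestrict_comp]
      have h1 : IsIso (e.hom ∣_ ((X.fromSpecStalk (genericPoint X)).fromNormalization ⁻¹ᵁ U)) :=
        (MorphismProperty.isomorphisms.iff _).1
          (IsZariskiLocalAtTarget.restrict (P := MorphismProperty.isomorphisms Scheme)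
            ((MorphismProperty.isomorphisms.iff e.hom).2 inferInstance) _)
      exact @IsIso.comp_isIso _ _ _ _ _ _ _ h1 hisoU
  · rintro ⟨hY, hint, U, hU, hfU, hiso⟩
    obtain ⟨hirr, hfib, hst⟩ := NormChar.birational_of_isIso_restrict X f U hU hfU
    exact NormChar.exists_iso_of_normal_integral_birational X f hY hfib hst

end Groth.Agent.S5950
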