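-- Statement S5952.
import Groth.Statements.S5952
import Mathlib
import Groth.Agent.Lib.Helper1.GrBC
import Groth.Agent.Lib.Helper3.QCExact
set_option linter.style.haveILetI false

set_option autoImplicit false
universe u
open CategoryTheory CategoryTheory.Limits AlgebraicGeometry TopologicalSpace Opposite
open Nrm16

namespace Groth.Agent.S5952

/-- Let f : Y ⟶ X be a closed immersion, v : X' ⟶ X a morphism, Y' a fibre product of Y and X' over X
with projections u : Y' ⟶ Y and f' : Y' ⟶ X', and n a natural number. Let φ : u^* Gr_n(f) ⟶ Gr_n(f')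
be the canonical O_{Y'}-linear map between the n-th graded pieces I^n/I^(n+1) of the ideals of f and
f' (the linearisation of the map induced by v♯ on n-th powers of the ideals). Then φ is an
epimorphism. (The published statement allows f to be any immersion; this row states the case of a
closed immersion.) -/
theorem result {Y X Y' X' : Scheme.{u}} (f : Y ⟶ X) [IsClosedImmersion f]
    (v : X' ⟶ X) (u : Y' ⟶ Y) (f' : Y' ⟶ X') (hsq : IsPullback u f' f v) (n : ℕ)
    (φ : (Scheme.Modules.pullback u).obj (PrinPart.grMod f n) ⟶ PrinPart.grMod f' n)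
    (hφ : PrinPart.IsGrMap f' f v u n φ) :
    Epi φ := by
  haveI := Groth.Agent.Lib.Helper1.GrBC.isClosedImmersion_snd hsq
  apply Groth.Agent.Lib.Helper3.QCExact.epi_of_surjective_on_affine_cover
  intro y'
  obtain ⟨_, ⟨U : X.Opens, hU, rfl⟩, hxU, -⟩ := X.isBasis_affineOpens.exists_subset_of_mem_open
    (Set.mem_univ (v (f' y'))) isOpen_univ
  obtain ⟨_, ⟨U' : X'.Opens, hU', rfl⟩, hxU', hUU'⟩ :=
    X'.isBasis_affineOpens.exists_subset_of_mem_open
      (show f' y' ∈ ((v ⁻¹ᵁ U : X'.Opens) : Set X') from hxU) (v ⁻¹ᵁ U).2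
  exact ⟨f' ⁻¹ᵁ U', hU'.preimage f', hxU',
    Groth.Agent.Lib.Helper1.GrBC.app_surjective hsq n hU hU' hUU' φ hφ⟩

end Groth.Agent.S5952
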