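-- Statement S5953.
import Groth.Statements.S5953
import Mathlib
import Groth.Agent.Lib.Helper1.GrFlat
import Groth.Agent.Lib.Helper1.QcMono
import Groth.Agent.Lib.Helper3.QCExact
set_option linter.style.haveILetI false

set_option autoImplicit false
universe u
open CategoryTheory CategoryTheory.Limits AlgebraicGeometry TopologicalSpace Opposite
open Nrm16

namespace Groth.Agent.S5953

/-- Let f : Y ⟶ X be a closed immersion, v : X' ⟶ X a flat morphism, Y' a fibre product of Y and X' over
X with projections u : Y' ⟶ Y and f' : Y' ⟶ X', and n a natural number. Let φ : u^* Gr_n(f) ⟶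
Gr_n(f') be the canonical O_{Y'}-linear map between the n-th graded pieces of the ideals of f and
f'. Then φ is an isomorphism. (The published statement assumes only that v is flat and that f is a
morphism of schemes with surjective comorphism; this row also assumes f a closed immersion, the case
in which the graded pieces are formed here.) -/
theorem result {Y X Y' X' : Scheme.{u}} (f : Y ⟶ X) [IsClosedImmersion f]
    (v : X' ⟶ X) [Flat v] (u : Y' ⟶ Y) (f' : Y' ⟶ X') (hsq : IsPullback u f' f v) (n : ℕ)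
    (φ : (Scheme.Modules.pullback u).obj (PrinPart.grMod f n) ⟶ PrinPart.grMod f' n)
    (hφ : PrinPart.IsGrMap f' f v u n φ) :
    IsIso φ := by
  haveI := Groth.Agent.Lib.Helper1.GrBC.isClosedImmersion_snd hsq
  haveI : ((Scheme.Modules.pullback u).obj (PrinPart.grMod f n)).IsQuasicoherent :=
    Groth.Agent.Lib.Helper17.PbStalk.isQuasicoherent_pullback u _
  have hcover : ∀ y' : Y', ∃ (U : X.Opens) (U' : X'.Opens), IsAffineOpen U ∧ IsAffineOpen U' ∧
      U' ≤ v ⁻¹ᵁ U ∧ y' ∈ f' ⁻¹ᵁ U' := by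
    intro y'
    obtain ⟨_, ⟨U : X.Opens, hU, rfl⟩, hxU, -⟩ := X.isBasis_affineOpens.exists_subset_of_mem_open
      (Set.mem_univ (v (f' y'))) isOpen_univ
    obtain ⟨_, ⟨U' : X'.Opens, hU', rfl⟩, hxU', hUU'⟩ :=
      X'.isBasis_affineOpens.exists_subset_of_mem_open
        (show f' y' ∈ ((v ⁻¹ᵁ U : X'.Opens) : Set X') from hxU) (v ⁻¹ᵁ U).2
    exact ⟨U, U', hU, hU', hUU', hxU'⟩
  haveI : Epi φ := by
    apply Groth.Agent.Lib.Helper3.QCExact.epi_of_surjective_on_affine_cover
    intro y'
    obtain ⟨U, U', hU, hU', hUU', hy'⟩ := hcover y'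
    exact ⟨f' ⁻¹ᵁ U', hU'.preimage f', hy',
      Groth.Agent.Lib.Helper1.GrBC.app_surjective hsq n hU hU' hUU' φ hφ⟩
  haveI : Mono φ := by
    apply Groth.Agent.Lib.Helper1.QcMono.mono_of_injective_on_affine_cover
    intro y'
    obtain ⟨U, U', hU, hU', hUU', hy'⟩ := hcover y'
    exact ⟨f' ⁻¹ᵁ U', hU'.preimage f', hy',
      Groth.Agent.Lib.Helper1.GrFlat.app_injective_of_flat hsq n hU hU' hUU' φ hφ
        (HasRingHomProperty.appLE (P := @Flat) v inferInstance ⟨U, hU⟩ ⟨U', hU'⟩ hUU')⟩
  exact isIso_of_mono_of_epi φ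

end Groth.Agent.S5953
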