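import Mathlib
import Groth.Statements.S5954
import Groth.Agent.Lib.Helper1.PPBC
import Groth.Agent.Lib.Helper1.QcMono
import Groth.Agent.Lib.Helper3.QCExact
set_option linter.style.haveILetI false
set_option autoImplicit false
universe u
open CategoryTheory CategoryTheory.Limits AlgebraicGeometry TopologicalSpace Opposite
open Nrm16

namespace Groth.Agent.S5954
open Groth.Agent.Lib.Helper1

theorem result {X S X' S' : Scheme.{u}} (f : X ⟶ S) (g : S' ⟶ S)
    (u : X' ⟶ X) (f' : X' ⟶ S') (hsq : IsPullback u f' f g) (n : ℕ)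
    (φ : (Scheme.Modules.pullback u).obj (PrinPart.P f n) ⟶ PrinPart.P f' n)
    (hφ : PrinPart.IsPMap f f' u n φ) :
    IsIso φ := by
  haveI : ((Scheme.Modules.pullback u).obj (PrinPart.P f n)).IsQuasicoherent :=
    Groth.Agent.Lib.Helper17.PbStalk.isQuasicoherent_pullback u _
  have hcover : ∀ x' : X', ∃ U' : X'.Opens, IsAffineOpen U' ∧ x' ∈ U' ∧
      Function.Bijective (φ.app U') := by
    intro x'
    obtain ⟨_, ⟨V : S.Opens, hV, rfl⟩, hsV, -⟩ := S.isBasis_affineOpens.exists_subset_of_mem_open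
      (Set.mem_univ (f (u x'))) isOpen_univ
    obtain ⟨_, ⟨U : X.Opens, hU, rfl⟩, hxU, hUle⟩ :=
      X.isBasis_affineOpens.exists_subset_of_mem_open
        (show u x' ∈ ((f ⁻¹ᵁ V : X.Opens) : Set X) from hsV) (f ⁻¹ᵁ V).2
    have hgf : g (f' x') ∈ V := by
      have : g (f' x') = f (u x') := by
        rw [← Scheme.Hom.comp_apply, ← Scheme.Hom.comp_apply, hsq.w]
      rw [this]; exact hsV
    obtain ⟨_, ⟨V' : S'.Opens, hV', rfl⟩, hxV', hVV'⟩ :=
      S'.isBasis_affineOpens.exists_subset_of_mem_open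
        (show f' x' ∈ ((g ⁻¹ᵁ V : S'.Opens) : Set S') from hgf) (g ⁻¹ᵁ V).2
    exact ⟨u ⁻¹ᵁ U ⊓ f' ⁻¹ᵁ V', PPBC.isAffineOpen_inf hsq hU hV hUle hV' hVV', ⟨hxU, hxV'⟩,
      PPBC.app_bijective hsq n φ hφ hU hV hUle hV' hVV'⟩
  haveI : Epi φ := by
    apply Groth.Agent.Lib.Helper3.QCExact.epi_of_surjective_on_affine_cover
    intro x'
    obtain ⟨U', hU', hx', hbij⟩ := hcover x'
    exact ⟨U', hU', hx', hbij.2⟩
  haveI : Mono φ := by
    apply QcMono.mono_of_injective_on_affine_cover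
    intro x'
    obtain ⟨U', hU', hx', hbij⟩ := hcover x'
    exact ⟨U', hU', hx', hbij.1⟩
  exact isIso_of_mono_of_epi φ

end Groth.Agent.S5954
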