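-- Statement S5956.
import Groth.Statements.S5956
import Mathlib
import Groth.Agent.Lib.Helper1.PPTrans
set_option linter.style.haveILetI false

set_option autoImplicit false
universe u
open CategoryTheory CategoryTheory.Limits AlgebraicGeometry TopologicalSpace Opposite
open Nrm16

namespace Groth.Agent.S5956

/-- Let f : X ⟶ S be a morphism of schemes, F and G two O_X-modules and D : F ⟶ G a differential
operator of order at most n relative to S. Then D is a differential operator of order at most m for
every m ≥ n. -/
theorem result {X S : Scheme.{u}} (f : X ⟶ S) (F G : X.Modules) {n m : ℕ} (h : n ≤ m)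
    (D : F.presheaf ⟶ G.presheaf) (hD : PrinPart.IsDiffOpLE f F G n D) :
    PrinPart.IsDiffOpLE f F G m D := by
  obtain ⟨u, hu⟩ := hD
  refine ⟨Groth.Agent.Lib.Helper1.PPTrans.rho f h F ≫ u, fun U t => ?_⟩
  rw [hu]
  change _ = u.app U ((Groth.Agent.Lib.Helper1.PPTrans.rho f h F).app U (PrinPart.dP f m F U t))
  rw [Groth.Agent.Lib.Helper1.PPTrans.rho_dP]

end Groth.Agent.S5956
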