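-- Statement S5957.
import Groth.Statements.S5957
import Mathlib
import Groth.Agent.Lib.Helper1.PPZero
import Groth.Agent.Lib.Helper1.PPUnit
import Groth.Agent.Lib.Helper1.ModHomMk
set_option linter.style.haveILetI false

set_option autoImplicit false
universe u
open CategoryTheory CategoryTheory.Limits AlgebraicGeometry TopologicalSpace Opposite
open Nrm16

namespace Groth.Agent.S5957
open Groth.Agent.Lib.Helper1 Groth.Agent.Lib.Helper1.PPSect Groth.Agent.Lib.Helper1.PbSect

theorem appLE_congr {N X : Scheme.{u}} {p q : N ⟶ X} (hpq : p = q) (U : X.Opens) (W : N.Opens)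
    (hp : W ≤ p ⁻¹ᵁ U) (hq : W ≤ q ⁻¹ᵁ U) : p.appLE U W hp = q.appLE U W hq := by
  subst hpq; rfl

theorem dP_zero_smul {X S : Scheme.{u}} (f : X ⟶ S) (F : X.Modules) (U : X.Opens)
    (a : Γ(X, U)) (t : Γ(F, U)) :
    PrinPart.dP f 0 F U (a • t) = a • PrinPart.dP f 0 F U t := by
  rw [PPUnit.dP_eq_pullRes, pullRes_smul]
  have e : (PrinPart.pr2 f 0).appLE U (NU f 0 U) (NU_le f 0 U) =
      (PrinPart.pr1 f 0).app U := by
    rw [← Conorm.appLE_refl]
    exact appLE_congr (PPZero.pr1_zero_eq_pr2 f).symm U _ _ _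
  rw [e]
  rfl


/-- Let f : X ⟶ S be a morphism of schemes, F and G two O_X-modules and D : F ⟶ G a homomorphism of
sheaves of abelian groups. Then D is a differential operator of order at most 0 relative to S if and
only if D is O_X-linear: D(a·t) = a·D(t) for every open U, every function a on U and every section t
of F over U. -/
theorem result {X S : Scheme.{u}} (f : X ⟶ S) (F G : X.Modules)
    (D : F.presheaf ⟶ G.presheaf) :
    PrinPart.IsDiffOpLE f F G 0 D ↔
      ∀ (U : X.Opens) (a : Γ(X, U)) (t : Γ(F, U)), D.app (op U) (a • t) = a • D.app (op U) t := by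
  constructor
  · rintro ⟨u, hu⟩ U a t
    rw [hu, hu, dP_zero_smul]
    exact Scheme.Modules.Hom.app_smul u a _
  · intro hD
    let e : ∀ U : X.Opens, Γ(F, U) ≃+ Γ(PrinPart.PMod f 0 F, U) := fun U =>
      AddEquiv.ofBijective (PrinPart.dP f 0 F U) (PPZero.dP_zero_bijective f F U)
    have he : ∀ U t, e U t = PrinPart.dP f 0 F U t := fun U t => rfl
    have hes : ∀ U m, PrinPart.dP f 0 F U ((e U).symm m) = m := fun U m => (e U).apply_symm_apply m
    let a : ∀ U : X.Opens, Γ(PrinPart.PMod f 0 F, U) →+ Γ(G, U) := fun U =>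
      (D.app (op U)).hom.comp (e U).symm.toAddMonoidHom
    have ha : ∀ U t, a U (PrinPart.dP f 0 F U t) = D.app (op U) t := by
      intro U t
      change D.app (op U) ((e U).symm (e U t)) = _
      rw [AddEquiv.symm_apply_apply]
    refine ⟨ModHomMk.mk _ _ a ?_ ?_, fun U t => ?_⟩
    · intro U V h m
      obtain ⟨t, rfl⟩ := (PPZero.dP_zero_bijective f F U).2 m
      rw [← PrinPart.dP_map, ha, ha]
      exact congr($(D.naturality (homOfLE h).op) t)
    · intro U r m
      obtain ⟨t, rfl⟩ := (PPZero.dP_zero_bijective f F U).2 m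
      rw [← dP_zero_smul, ha, ha, hD]
    · rw [ModHomMk.mk_app, ha]

end Groth.Agent.S5957
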