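import Mathlib
import Groth.Statements.S5961
import Groth.Agent.Lib.Helper1.PPLeib
set_option linter.style.haveILetI false
set_option autoImplicit false
universe u
open CategoryTheory CategoryTheory.Limits AlgebraicGeometry TopologicalSpace Opposite
open Nrm16

namespace Groth.Agent.S5961
open Groth.Agent.Lib.Helper1 Groth.Agent.Lib.Helper3

theorem result {X S : Scheme.{u}} (f : X ⟶ S) (G : X.Modules)
    (D : (Coh.structureModule X).presheaf ⟶ G.presheaf)
    (hD : PrinPart.IsDiffOpLE f (Coh.structureModule X) G 1 D) :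
    ∃! p : (Coh.structureModule X ⟶ G) × OmegaSh.Der f G,
      ∀ (U : X.Opens) (a : Γ(X, U)),
        D.app (op U) (OmegaSh.strSect X U a) = p.1.app U (OmegaSh.strSect X U a) + p.2.app U a := by
  obtain ⟨u, hu⟩ := hD
  have hDdn : ∀ (U : X.Opens) (a : Γ(X, U)),
      D.app (op U) (OmegaSh.strSect X U a) = u.app U (PrinPart.dn f 1 U a) := fun U a => hu U _
  let v : Coh.structureModule X ⟶ G := PPLeib.eHom f 1 ≫ u
  have hv : ∀ (U : X.Opens) (a : Γ(X, U)), v.app U (OmegaSh.strSect X U a) =
      a • D.app (op U) (OmegaSh.strSect X U 1) := by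
    intro U a
    change u.app U ((PPLeib.eHom f 1).app U (OmegaSh.strSect X U a)) = _
    rw [PPLeib.eHom_app, hDdn]
    exact Scheme.Modules.Hom.app_smul u a _
  -- the derivation
  let δfun : ∀ U : X.Opens, Γ(X, U) → Γ(G, U) := fun U a =>
    D.app (op U) (OmegaSh.strSect X U a) - a • D.app (op U) (OmegaSh.strSect X U 1)
  have δ_add : ∀ (U : X.Opens) (a b : Γ(X, U)), δfun U (a + b) = δfun U a + δfun U b := by
    intro U a b
    simp only [δfun]
    rw [map_add, map_add, add_smul]; abel
  have δ_mul : ∀ (U : X.Opens) (a b : Γ(X, U)),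
      δfun U (a * b) = a • δfun U b + b • δfun U a := by
    intro U a b
    simp only [δfun]
    rw [hDdn, hDdn, hDdn, hDdn, PPLeib.leibniz, map_sub, map_add]
    rw [Scheme.Modules.Hom.app_smul u, Scheme.Modules.Hom.app_smul u,
      Scheme.Modules.Hom.app_smul u, smul_sub, smul_sub, ← mul_smul, ← mul_smul, mul_comm b a]
    abel
  have δ_map : ∀ {U V : X.Opens} (e : V ≤ U) (s : Γ(X, U)),
      δfun V (X.presheaf.map (homOfLE e).op s) = G.presheaf.map (homOfLE e).op (δfun U s) := by
    intro U V e s
    simp only [δfun]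
    have nat : ∀ t : Γ(Coh.structureModule X, U),
        D.app (op V) ((Coh.structureModule X).presheaf.map (homOfLE e).op t) =
        G.presheaf.map (homOfLE e).op (D.app (op U) t) :=
      fun t => congr($(D.naturality (homOfLE e).op) t)
    have h1 : OmegaSh.strSect X V (X.presheaf.map (homOfLE e).op s) =
        (Coh.structureModule X).presheaf.map (homOfLE e).op (OmegaSh.strSect X U s) :=
      OmegaSh.strSect_map (P := X) (W := U) (W' := V) e s
    have h2 : OmegaSh.strSect X V 1 =
        (Coh.structureModule X).presheaf.map (homOfLE e).op (OmegaSh.strSect X U 1) := by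
      rw [← OmegaSh.strSect_map]
      congr 1
      exact (map_one (X.presheaf.map (homOfLE e).op).hom).symm
    rw [h1, h2, nat, nat, map_sub, Scheme.Modules.map_smul]
  have δ_app : ∀ (V : S.Opens) (c : Γ(S, V)), δfun (f ⁻¹ᵁ V) (f.app V c) = 0 := by
    intro V c
    simp only [δfun]
    rw [hDdn, hDdn, PPLeib.dn_app, Scheme.Modules.Hom.app_smul u, sub_self]
  let δ : OmegaSh.Der f G :=
    { d := fun {U} => AddMonoidHom.mk' (fun s => δfun U.unop s) (δ_add U.unop)
      d_mul := fun {U} a b => δ_mul U.unop a b
      d_map := fun {_ _} i s => δ_map i.unop.le s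
      d_app := fun {V} c => δ_app V.unop c }
  have hδ : ∀ (U : X.Opens) (a : Γ(X, U)), δ.app U a = δfun U a := fun U a => rfl
  refine ⟨(v, δ), ?_, ?_⟩
  · intro U a
    change _ = v.app U (OmegaSh.strSect X U a) + δ.app U a
    rw [hv, hδ]
    simp only [δfun]
    abel
  · rintro ⟨v', δ'⟩ hp
    have hp' : ∀ (U : X.Opens) (a : Γ(X, U)),
        D.app (op U) (OmegaSh.strSect X U a) = v'.app U (OmegaSh.strSect X U a) + δ'.app U a := hp
    have hδ'1 : ∀ U : X.Opens, δ'.app U 1 = 0 := fun U => PresheafOfModules.Derivation.d_one δ' (op U)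
    have hv'1 : ∀ U : X.Opens, v'.app U (OmegaSh.strSect X U 1) =
        D.app (op U) (OmegaSh.strSect X U 1) := by
      intro U
      rw [hp' U 1, hδ'1, add_zero]
    have hvv' : v' = v := by
      apply Scheme.Modules.hom_ext
      intro U
      ext a
      have e1 : a = (OmegaSh.fnSect X U a) • OmegaSh.strSect X U 1 := by
        have := OmegaSh.strSect_mul (P := X) (W := U) (OmegaSh.fnSect X U a) 1
        rw [mul_one] at this
        exact this
      have e2 : v'.app U a = (OmegaSh.fnSect X U a) • v'.app U (OmegaSh.strSect X U 1) := by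
        conv_lhs => rw [e1]
        exact Scheme.Modules.Hom.app_smul v' _ _
      have e3 : v.app U a = (OmegaSh.fnSect X U a) • D.app (op U) (OmegaSh.strSect X U 1) :=
        hv U (OmegaSh.fnSect X U a)
      change v'.app U a = v.app U a
      rw [e2, e3, hv'1]
    have hδδ' : δ' = δ := by
      apply PresheafOfModules.Derivation.ext
      funext U
      ext a
      change δ'.app U.unop a = δ.app U.unop a
      have h1 := hp' U.unop a
      rw [hvv', hv] at h1
      rw [hδ]
      simp only [δfun]
      rw [h1]; abel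
    rw [hvv', hδδ']

end Groth.Agent.S5961
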