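-- Statement S5962.
import Groth.Statements.S5962
import Mathlib
import Groth.Agent.Lib.Helper1.PPDelta
import Groth.Agent.Lib.Helper1.PPLeib
import Groth.Agent.Lib.Helper17.AffGlue
set_option linter.style.haveILetI false

set_option autoImplicit false
universe u
open CategoryTheory CategoryTheory.Limits AlgebraicGeometry TopologicalSpace Opposite
open Nrm16

namespace Groth.Agent.S5962
open Groth.Agent.Lib.Helper1

/-- Let f : X ⟶ S be a morphism of schemes and n, n' natural numbers. There is exactly one O_X-linear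
map δ : P^(n+n')_{X/S} ⟶ P^n'_{X/S}(P^n_{X/S}) for the left O_X-module structures, the target being
the sheaf of principal parts of order n' of the left O_X-module P^n_{X/S}, such that δ(d^(n+n') t) =
d^n'(d^n t) for every local function t on X. -/
theorem result {X S : Scheme.{u}} (f : X ⟶ S) (n n' : ℕ) :
    ∃! δ : PrinPart.P f (n + n') ⟶ PrinPart.PMod f n' (PrinPart.P f n),
      ∀ (U : X.Opens) (t : Γ(X, U)),
        δ.app U (PrinPart.dn f (n + n') U t) = PrinPart.dP f n' (PrinPart.P f n) U (PrinPart.dn f n U t) := by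
  classical
  let ι := {p : X.Opens × S.Opens // IsAffineOpen p.1 ∧ IsAffineOpen p.2 ∧ p.1 ≤ f ⁻¹ᵁ p.2}
  let W : ι → X.Opens := fun i => i.1.1
  have hW : ∀ i, IsAffineOpen (W i) := fun i => i.2.1
  have hcov : ∀ x : X, ∃ i, x ∈ W i := by
    intro x
    obtain ⟨U, V, hU, hV, hxU, -, hUV⟩ := PPAff.exists_affine_pair f x ⊤ trivial
    exact ⟨⟨(U, V), hU, hV, hUV⟩, hxU⟩
  have hinf : ∀ i j (x : X), x ∈ W i → x ∈ W j → ∃ k, x ∈ W k ∧ W k ≤ W i ∧ W k ≤ W j := by
    intro i j x hi hj
    obtain ⟨U, V, hU, hV, hxU, hUW, hUV⟩ := PPAff.exists_affine_pair f x (W i ⊓ W j) ⟨hi, hj⟩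
    exact ⟨⟨(U, V), hU, hV, hUV⟩, hxU, hUW.trans inf_le_left, hUW.trans inf_le_right⟩
  have hspan : ∀ i, Submodule.span Γ(X, W i) (Set.range (PrinPart.dn f (n + n') (W i))) = ⊤ :=
    fun i => PPGen.span_range_dn f (n + n') i.2.1 i.2.2.1 i.2.2.2
  -- the key: agreement on `d^n t` over the charts gives equality
  have hext : ∀ (G : X.Modules) (u v : PrinPart.P f (n + n') ⟶ G),
      (∀ i (t : Γ(X, W i)), u.app (W i) (PrinPart.dn f (n + n') (W i) t) =
        v.app (W i) (PrinPart.dn f (n + n') (W i) t)) → u = v := by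
    intro G u v huv
    refine Groth.Agent.Lib.Helper17.AffGlue.hom_ext_of_charts _ _ W hW hcov u v fun i m => ?_
    have hm : m ∈ Submodule.span Γ(X, W i) (Set.range (PrinPart.dn f (n + n') (W i))) := by
      rw [hspan i]; trivial
    induction hm using Submodule.span_induction with
    | mem x hx =>
      obtain ⟨t, rfl⟩ := hx
      exact huv i t
    | zero => rw [map_zero, map_zero]
    | add x y _ _ hx hy => rw [map_add, map_add, hx, hy]
    | smul a x _ hx =>
      rw [Scheme.Modules.Hom.app_smul, Scheme.Modules.Hom.app_smul, hx]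
  choose ψ hψ using fun i : ι => PPDelta.exists_psi f n n' i.2.1 i.2.2.1 i.2.2.2
  have compat : ∀ i k (hki : W k ≤ W i) (m : Γ(PrinPart.P f (n + n'), W i)),
      ψ k ((PrinPart.P f (n + n')).presheaf.map (homOfLE hki).op m) =
        (PrinPart.PMod f n' (PrinPart.P f n)).presheaf.map (homOfLE hki).op (ψ i m) := by
    intro i k hki m
    have hm : m ∈ Submodule.span Γ(X, W i) (Set.range (PrinPart.dn f (n + n') (W i))) := by
      rw [hspan i]; trivial
    induction hm using Submodule.span_induction with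
    | mem x hx =>
      obtain ⟨t, rfl⟩ := hx
      rw [← PPLeib.dn_map, hψ, hψ, ← PrinPart.dP_map, ← PPLeib.dn_map]
    | zero => rw [map_zero, map_zero, map_zero, map_zero]
    | add x y _ _ hx hy => rw [map_add, map_add, map_add, map_add, hx, hy]
    | smul a x _ hx =>
      rw [Scheme.Modules.map_smul, map_smul, map_smul, Scheme.Modules.map_smul, hx]
  obtain ⟨δ, hδ⟩ := Groth.Agent.Lib.Helper17.AffGlue.exists_hom_of_charts _ _ W hW hcov
    (fun i k => W k ≤ W i) (fun i k h => h) hinf ψ compat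
  refine ⟨δ, fun U t => ?_, fun δ' hδ' => ?_⟩
  · apply PPLeib.section_ext
    intro x hx
    obtain ⟨U', V', hU', hV', hxU', hUW, hUV⟩ := PPAff.exists_affine_pair f x U hx
    refine ⟨U', hUW, hxU', ?_⟩
    let i : ι := ⟨(U', V'), hU', hV', hUV⟩
    have e1 := congr($(δ.mapPresheaf.naturality (homOfLE hUW).op) (PrinPart.dn f (n + n') U t))
    have e2 : (PrinPart.PMod f n' (PrinPart.P f n)).presheaf.map (homOfLE hUW).op
        (δ.app U (PrinPart.dn f (n + n') U t)) =
        δ.app U' ((PrinPart.P f (n + n')).presheaf.map (homOfLE hUW).op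
          (PrinPart.dn f (n + n') U t)) := e1.symm
    rw [e2, ← PPLeib.dn_map, ← PrinPart.dP_map, ← PPLeib.dn_map]
    exact (hδ i _).trans (hψ i _)
  · apply hext
    intro i t
    rw [hδ' (W i) t, hδ i, hψ i]

end Groth.Agent.S5962
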