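-- Statement S5963.
import Groth.Statements.S5963
import Mathlib
import Groth.Agent.Lib.Helper1.GrSplit
import Groth.Agent.Lib.Helper1.QcMono
import Groth.Agent.Lib.Helper3.QCExact
set_option linter.style.haveILetI false

set_option autoImplicit false
universe u
open CategoryTheory CategoryTheory.Limits AlgebraicGeometry TopologicalSpace Opposite
open Nrm16

namespace Groth.Agent.S5963

/-- Let g : X ⟶ Y be a morphism with a section f : Y ⟶ X which is a closed immersion, u : Y' ⟶ Y a
morphism, X' a fibre product of X and Y' over Y with projections v : X' ⟶ X and g' : X' ⟶ Y', and f'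
: Y' ⟶ X' the induced section of g' (so f' ≫ g' = 𝟙 and f' ≫ v = u ≫ f). Let φ : u^* Gr_1(f) ⟶
Gr_1(f') be the canonical O_{Y'}-linear map between the conormal sheaves I/I² and I'/I'² of f and
f'. Then φ is an isomorphism. (The published statement allows any section f, and also identifies,
for every n, the n-th infinitesimal neighbourhood of f', as a scheme over X' and as a scheme affine
over Y', with the base change of the n-th infinitesimal neighbourhood of f along v and along u; this
row assumes f a closed immersion, the case in which the conormal sheaves are formed here, and states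
only the assertion on conormal sheaves.) -/
theorem result {X Y X' Y' : Scheme.{u}} (g : X ⟶ Y) (f : Y ⟶ X)
    [IsClosedImmersion f] (hf : f ≫ g = 𝟙 Y) (u : Y' ⟶ Y) (v : X' ⟶ X) (g' : X' ⟶ Y')
    (hsq : IsPullback v g' g u) (f' : Y' ⟶ X') (hf' : f' ≫ g' = 𝟙 Y') (hf'v : f' ≫ v = u ≫ f)
    (φ : (Scheme.Modules.pullback u).obj (PrinPart.grMod f 1) ⟶ PrinPart.grMod f' 1)
    (hφ : PrinPart.IsGrMap f' f v u 1 φ) :
    IsIso φ := by
  have hsq' := Groth.Agent.Lib.Helper1.GrSplit.isPullback_sections hf hsq hf' hf'v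
  haveI := Groth.Agent.Lib.Helper1.GrBC.isClosedImmersion_snd hsq'
  haveI : ((Scheme.Modules.pullback u).obj (PrinPart.grMod f 1)).IsQuasicoherent :=
    Groth.Agent.Lib.Helper17.PbStalk.isQuasicoherent_pullback u _
  have hcover : ∀ y' : Y', ∃ (U : X.Opens) (U' : X'.Opens) (hUU' : U' ≤ v ⁻¹ᵁ U),
      IsAffineOpen U ∧ IsAffineOpen U' ∧ y' ∈ f' ⁻¹ᵁ U' ∧
      Groth.Agent.Lib.Helper1.GrFlat.Vanish hsq' 1 U U' hUU' := by
    intro y'
    obtain ⟨U, hle, hU, hzU, -, hV, hret⟩ :=
      Groth.Agent.Lib.Helper1.Conorm.exists_good_with_retraction f g hf (u y') ⊤ trivial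
    obtain ⟨_, ⟨V' : Y'.Opens, hV', rfl⟩, hyV', hVV'⟩ :=
      Y'.isBasis_affineOpens.exists_subset_of_mem_open
        (show y' ∈ ((u ⁻¹ᵁ (f ⁻¹ᵁ U) : Y'.Opens) : Set Y') from hzU) (u ⁻¹ᵁ (f ⁻¹ᵁ U)).2
    refine ⟨U, v ⁻¹ᵁ U ⊓ g' ⁻¹ᵁ V', inf_le_left, hU,
      Groth.Agent.Lib.Helper1.GrSplit.isAffineOpen_inf hsq hV hU hle hV' hVV', ?_,
      Groth.Agent.Lib.Helper1.GrSplit.vanish_of_section hf hsq hf' hf'v hU hle hret hV' hVV'⟩
    constructor
    · change v (f' y') ∈ U
      have : v (f' y') = f (u y') := by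
        rw [← Scheme.Hom.comp_apply, ← Scheme.Hom.comp_apply, hf'v]
      rw [this]; exact hzU
    · change g' (f' y') ∈ V'
      have : g' (f' y') = y' := by
        rw [← Scheme.Hom.comp_apply, hf']; rfl
      rw [this]; exact hyV'
  haveI : Epi φ := by
    apply Groth.Agent.Lib.Helper3.QCExact.epi_of_surjective_on_affine_cover
    intro y'
    obtain ⟨U, U', hUU', hU, hU', hy', -⟩ := hcover y'
    exact ⟨f' ⁻¹ᵁ U', hU'.preimage f', hy',
      Groth.Agent.Lib.Helper1.GrBC.app_surjective hsq' 1 hU hU' hUU' φ hφ⟩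
  haveI : Mono φ := by
    apply Groth.Agent.Lib.Helper1.QcMono.mono_of_injective_on_affine_cover
    intro y'
    obtain ⟨U, U', hUU', hU, hU', hy', hvan⟩ := hcover y'
    exact ⟨f' ⁻¹ᵁ U', hU'.preimage f', hy',
      Groth.Agent.Lib.Helper1.GrFlat.app_injective_of_vanish hsq' 1 hU hU' hUU' φ hφ hvan⟩
  exact isIso_of_mono_of_epi φ

end Groth.Agent.S5963
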