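import Mathlib
import Groth.Statements.S5965
import Groth.Agent.Lib.Helper1.InfSect
set_option linter.style.haveILetI false
set_option autoImplicit false
universe u
open CategoryTheory CategoryTheory.Limits AlgebraicGeometry TopologicalSpace Opposite
open Nrm16

namespace Groth.Agent.S5965
open Groth.Agent.Lib.Helper1

theorem isIntegral_restrict {Z Y : Scheme.{u}} (h : Z ⟶ Y) (V : Y.Opens)
    (hint : (h.app V).hom.IsIntegral) : ((h ∣_ V).app ⊤).hom.IsIntegral := by
  have key : ∀ (V₁ : Y.Opens) (e : V₁ = V), (h.app V₁).hom.IsIntegral := by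
    intro V₁ e; subst e; exact hint
  have h1 := key (V.ι ''ᵁ ⊤) (by simp)
  have e := morphismRestrict_app h V ⊤
  have h2 : (h.app (V.ι ''ᵁ ⊤) ≫ Z.presheaf.map (eqToHom
      (image_morphismRestrict_preimage h V ⊤)).op).hom.IsIntegral := by
    have : (h.app (V.ι ''ᵁ ⊤) ≫ Z.presheaf.map (eqToHom
      (image_morphismRestrict_preimage h V ⊤)).op).hom =
      (Z.presheaf.map (eqToHom (image_morphismRestrict_preimage h V ⊤)).op).hom.comp
        (h.app (V.ι ''ᵁ ⊤)).hom := rfl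
    rw [this]
    refine RingHom.IsIntegral.trans _ _ h1 (RingHom.isIntegral_of_surjective _ ?_)
    exact ((ConcreteCategory.isIso_iff_bijective (Z.presheaf.map (eqToHom
      (image_morphismRestrict_preimage h V ⊤)).op)).mp inferInstance).2
  rw [e]
  exact h2

theorem result {X Y : Scheme.{u}} (g : X ⟶ Y) [LocallyOfFiniteType g] (f : Y ⟶ X)
    [IsClosedImmersion f] (hf : f ≫ g = 𝟙 Y) (n : ℕ) :
    IsFinite (PrinPart.infNbhdι f n ≫ g) := by
  rw [IsFinite.iff_isIntegralHom_and_locallyOfFiniteType]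
  refine ⟨?_, inferInstance⟩
  have hgood : ∀ y : Y, ∃ (U : X.Opens) (hle : U ≤ g ⁻¹ᵁ (f ⁻¹ᵁ U)), IsAffineOpen U ∧ f y ∈ U ∧
      IsAffineOpen (f ⁻¹ᵁ U) ∧ ∀ s, (f.app U).hom ((g.appLE (f ⁻¹ᵁ U) U hle).hom s) = s := by
    intro y
    obtain ⟨U, hle, hU, hzU, -, hV, hret⟩ :=
      Conorm.exists_good_with_retraction f g hf y ⊤ trivial
    exact ⟨U, hle, hU, hzU, hV, hret⟩
  choose U hle hU hyU hV hret using hgood
  refine @HasAffineProperty.of_iSup_eq_top @IsIntegralHom _ IsIntegralHom.hasAffineProperty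
    _ _ _ _ (fun y : Y => (⟨f ⁻¹ᵁ U y, hV y⟩ : Y.affineOpens)) ?_ ?_
  · rw [eq_top_iff]
    intro y _
    exact Opens.mem_iSup.mpr ⟨y, hyU y⟩
  · intro y
    refine ⟨InfSect.isAffineOpen_preimage g f hf n (hU y) (hle y), ?_⟩
    exact isIntegral_restrict _ _ (InfSect.isIntegral_app g f hf n (hU y) (hle y) (hret y))

end Groth.Agent.S5965
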