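-- Statement S5968.
import Groth.Statements.S5968
import Mathlib
import Groth.Agent.Lib.Helper1.PPSect
import Groth.Agent.Lib.Helper3.QCPush
import Groth.Agent.Lib.Helper17.PbStalk
set_option linter.style.haveILetI false

set_option autoImplicit false
universe u
open CategoryTheory CategoryTheory.Limits AlgebraicGeometry TopologicalSpace Opposite
open Nrm16

namespace Groth.Agent.S5968

/-- Consider a morphism f : X ⟶ S that is locally of finite type, fix a natural number n, and suppose F
is an O_X-module which is quasi-coherent and of finite type. Regarded as an O_X-module through its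
left structure, the sheaf of principal parts P^n_{X/S}(F) is again quasi-coherent and of finite
type. (The published result covers both O_X-module structures on P^n_{X/S}(F); here only the left
one is treated, since that is the structure the sheaf of principal parts is given in this
formalization.) -/
theorem result {X S : Scheme.{u}} (f : X ⟶ S) [LocallyOfFiniteType f] (n : ℕ)
    (F : X.Modules) (hF : Coh.IsCoh F) :
    Coh.IsCoh (PrinPart.PMod f n F) := by
  obtain ⟨hq, hft⟩ := hF
  haveI : F.IsQuasicoherent := hq
  haveI : F.IsFiniteType := hft
  haveI : ((Scheme.Modules.pullback (PrinPart.pr2 f n)).obj F).IsQuasicoherent :=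
    Groth.Agent.Lib.Helper17.PbStalk.isQuasicoherent_pullback (PrinPart.pr2 f n) F
  haveI := Groth.Agent.Lib.Helper1.PPAff.isAffineHom_pr1 f n
  have hqc : (PrinPart.PMod f n F).IsQuasicoherent :=
    Groth.Agent.Lib.Helper3.QCSec.isQuasicoherent_pushforward (PrinPart.pr1 f n) _
  refine ⟨hqc, ?_⟩
  apply Groth.Agent.Lib.Helper3.QCProps.isFiniteType_of_charts
  intro x
  obtain ⟨U, V, hU, hV, hxU, -, hUV⟩ := Groth.Agent.Lib.Helper1.PPAff.exists_affine_pair f x ⊤ trivial
  exact ⟨U, hU, hxU, inferInstance,
    Groth.Agent.Lib.Helper1.PPSect.finite_sections_PMod f n F hU hV hUV⟩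

end Groth.Agent.S5968
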