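-- Statement S5969.
import Groth.Statements.S5969
import Mathlib
import Groth.Agent.Lib.Helper1.GrBC
set_option linter.style.haveILetI false

set_option autoImplicit false
universe u
open CategoryTheory CategoryTheory.Limits AlgebraicGeometry TopologicalSpace Opposite
open Nrm16

namespace Groth.Agent.S5969

/-- Let f : X ⟶ S be a morphism of schemes and n a natural number. On the order-n infinitesimal
thickening of the diagonal of f there is an endomorphism σ which is compatible, under the immersion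
into X ×_S X, with the symmetry exchanging the two factors; σ is an involution, it exchanges the two
projections to X (so it exchanges the two O_X-algebra structures of P^n_{X/S}) and it fixes the
diagonal section. -/
theorem result {X S : Scheme.{u}} (f : X ⟶ S) (n : ℕ) :
    ∃ σ : PrinPart.nbhd f n ⟶ PrinPart.nbhd f n,
      σ ≫ PrinPart.nbhdι f n = PrinPart.nbhdι f n ≫ (pullbackSymmetry f f).hom ∧
      σ ≫ σ = 𝟙 (PrinPart.nbhd f n) ∧
      σ ≫ PrinPart.pr1 f n = PrinPart.pr2 f n ∧ σ ≫ PrinPart.pr2 f n = PrinPart.pr1 f n ∧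
      PrinPart.toNbhd f n ≫ σ = PrinPart.toNbhd f n := by
  let Δ := pullback.diagonal f
  let s := (pullbackSymmetry f f).hom
  let W := Δ.coborderRange
  have hss : s ≫ s = 𝟙 _ := by
    apply pullback.hom_ext <;> simp [s]
  have hΔs : Δ ≫ s = Δ := by
    apply pullback.hom_ext <;> simp [s, Δ]
  have hrange : s ⁻¹' (Set.range Δ) = Set.range Δ := by
    ext x
    constructor
    · rintro ⟨z, hz⟩
      refine ⟨z, ?_⟩
      have h1 : s (s x) = x := by
        rw [← Scheme.Hom.comp_apply, hss]; rfl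
      have h2 : s (Δ z) = Δ z := by
        rw [← Scheme.Hom.comp_apply, hΔs]
      rw [← h1, ← hz, h2]
    · rintro ⟨z, rfl⟩
      refine ⟨z, ?_⟩
      rw [← Scheme.Hom.comp_apply, hΔs]
  have hpre : s ⁻¹ᵁ W = W := by
    apply Opens.ext
    change s ⁻¹' (coborder (Set.range Δ)) = coborder (Set.range Δ)
    have hiso : IsIso s := inferInstanceAs (IsIso (pullbackSymmetry f f).hom)
    have hopen : IsOpenMap s := (Scheme.Hom.homeomorph s).isOpenMap
    rw [← coborder_preimage hopen s.continuous, hrange]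
  let t : (W : Scheme.{u}) ⟶ W := s.resLE W W (le_of_eq hpre.symm)
  have ht : t ≫ W.ι = W.ι ≫ s := Scheme.Hom.resLE_comp_ι _ _
  have htt : t ≫ t = 𝟙 _ := by
    rw [← cancel_mono W.ι, Category.assoc, ht, reassoc_of% ht, hss, Category.comp_id,
      Category.id_comp]
  haveI : IsIso t := ⟨⟨t, htt, htt⟩⟩
  let c := PrinPart.diagCl f
  have hct : c ≫ t = c := by
    rw [← cancel_mono W.ι, Category.assoc, ht]
    change Δ.liftCoborder ≫ W.ι ≫ s = Δ.liftCoborder ≫ W.ι
    rw [← Category.assoc, Δ.liftCoborder_ι, hΔs]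
  have hsq : IsPullback (𝟙 X) c c t :=
    IsPullback.of_horiz_isIso ⟨by rw [Category.id_comp, hct]⟩
  have hcomap : (c.ker ^ (n + 1)).comap t = c.ker ^ (n + 1) :=
    Groth.Agent.Lib.Helper1.GrBC.comap_ker_pow hsq (n + 1)
  let σ : PrinPart.nbhd f n ⟶ PrinPart.nbhd f n :=
    Scheme.IdealSheafData.subschemeMap (c.ker ^ (n + 1)) (c.ker ^ (n + 1)) t
      (Scheme.IdealSheafData.le_map_iff_comap_le.mpr (le_of_eq hcomap))
  have hσ : σ ≫ PrinPart.infNbhdι c n = PrinPart.infNbhdι c n ≫ t :=
    Scheme.IdealSheafData.subschemeMap_subschemeι _ _ _ _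
  have hσι : σ ≫ PrinPart.nbhdι f n = PrinPart.nbhdι f n ≫ s := by
    unfold PrinPart.nbhdι
    rw [← Category.assoc, hσ, Category.assoc, Category.assoc]
    exact congrArg _ ht
  haveI : Mono (PrinPart.infNbhdι c n) :=
    inferInstanceAs (Mono (c.ker ^ (n + 1)).subschemeι)
  haveI : Mono (PrinPart.nbhdι f n) := by
    unfold PrinPart.nbhdι
    exact mono_comp _ _
  refine ⟨σ, hσι, ?_, ?_, ?_, ?_⟩
  · rw [← cancel_mono (PrinPart.infNbhdι c n), Category.assoc, hσ, reassoc_of% hσ, htt,
      Category.comp_id, Category.id_comp]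
  · unfold PrinPart.pr1 PrinPart.pr2
    rw [reassoc_of% hσι]
    congr 1
    exact pullbackSymmetry_hom_comp_fst f f
  · unfold PrinPart.pr1 PrinPart.pr2
    rw [reassoc_of% hσι]
    congr 1
    exact pullbackSymmetry_hom_comp_snd f f
  · rw [← cancel_mono (PrinPart.nbhdι f n), Category.assoc, hσι, PrinPart.toNbhd_ι_assoc,
      PrinPart.toNbhd_ι]
    exact hΔs

end Groth.Agent.S5969
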