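-- Statement S5971.
import Groth.Statements.S5971
import Mathlib
import Groth.Agent.Lib.Helper1.PPFP
import Groth.Agent.Lib.Helper3.QCPush
import Groth.Agent.Lib.Helper17.PbStalk
set_option linter.style.haveILetI false

set_option autoImplicit false
universe u
open CategoryTheory CategoryTheory.Limits AlgebraicGeometry TopologicalSpace Opposite
open Nrm16

namespace Groth.Agent.S5971

/-- Let f : X ⟶ S be a morphism locally of finite presentation, n a natural number and F a
quasi-coherent O_X-module of finite presentation. Then the sheaf of principal parts P^n_{X/S}(F),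
with its left O_X-module structure, is of finite presentation. (The published statement asserts this
for either of the two O_X-module structures of P^n_{X/S}(F); this row states it for the left
structure, the one the sheaf of principal parts carries here.) -/
theorem result {X S : Scheme.{u}} (f : X ⟶ S) [LocallyOfFinitePresentation f] (n : ℕ)
    (F : X.Modules) (hF : CohB1.IsFP F) :
    CohB1.IsFP (PrinPart.PMod f n F) := by
  haveI : SheafOfModules.IsFinitePresentation (R := X.ringCatSheaf) F := hF
  haveI : F.IsQuasicoherent := inferInstance
  haveI : ((Scheme.Modules.pullback (PrinPart.pr2 f n)).obj F).IsQuasicoherent :=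
    Groth.Agent.Lib.Helper17.PbStalk.isQuasicoherent_pullback (PrinPart.pr2 f n) F
  haveI := Groth.Agent.Lib.Helper1.PPAff.isAffineHom_pr1 f n
  haveI hqc : (PrinPart.PMod f n F).IsQuasicoherent :=
    Groth.Agent.Lib.Helper3.QCSec.isQuasicoherent_pushforward (PrinPart.pr1 f n) _
  apply Groth.Agent.Lib.Helper3.QCProps.isFinitePresentation_of_charts
  intro x
  obtain ⟨U, V, hU, hV, hxU, -, hUV⟩ := Groth.Agent.Lib.Helper1.PPAff.exists_affine_pair f x ⊤ trivial
  exact ⟨U, hU, hxU, inferInstance,
    Groth.Agent.Lib.Helper1.PPFP.fp_sections_PMod f n F hU hV hUV⟩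

end Groth.Agent.S5971
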