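-- Statement S5972.
import Groth.Statements.S5972
import Mathlib
import Groth.Agent.Lib.Helper1.PPUnit
set_option linter.style.haveILetI false

set_option autoImplicit false
universe u
open CategoryTheory CategoryTheory.Limits AlgebraicGeometry TopologicalSpace Opposite
open Nrm16

namespace Groth.Agent.S5972
open Groth.Agent.Lib.Helper1 Groth.Agent.Lib.Helper1.PPSect TensorProduct

/-- Let A → B be a ring homomorphism, X = Spec B, S = Spec A with f : X ⟶ S the induced morphism, and n
a natural number; identify B with the ring of global functions on X through the canonical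
isomorphism. If ψ : B ⊗_A B → Γ(X, P^n_{X/S}) is the additive map with ψ(b ⊗ b') = b · d^n(b') for
all b, b' in B, then ψ is surjective with kernel the (n+1)-st power of the kernel I of the
multiplication map B ⊗_A B → B. -/
theorem result (A B : Type u) [CommRing A] [CommRing B] [Algebra A B] (n : ℕ)
    (ψ : TensorProduct A B B →+
      Γ(PrinPart.P (Spec.map (CommRingCat.ofHom (algebraMap A B))) n, (⊤ : (Spec (CommRingCat.of B)).Opens)))
    (hψ : ∀ b b' : B, ψ (b ⊗ₜ[A] b') =
      (Scheme.ΓSpecIso (CommRingCat.of B)).inv b •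
        PrinPart.dn (Spec.map (CommRingCat.ofHom (algebraMap A B))) n ⊤
          ((Scheme.ΓSpecIso (CommRingCat.of B)).inv b')) :
    Function.Surjective ψ ∧ ψ.ker = (KaehlerDifferential.ideal A B ^ (n + 1)).toAddSubgroup := by
  let f : Spec (CommRingCat.of B) ⟶ Spec (CommRingCat.of A) := Spec.map (CommRingCat.ofHom (algebraMap A B))
  have hU : IsAffineOpen (⊤ : (Spec (CommRingCat.of B)).Opens) := isAffineOpen_top _
  have hV : IsAffineOpen (⊤ : (Spec (CommRingCat.of A)).Opens) := isAffineOpen_top _
  have h : (⊤ : (Spec (CommRingCat.of B)).Opens) ≤ f ⁻¹ᵁ ⊤ := le_top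
  have hpo := OmSect.isPushout_diag f hU hV h
  let eA := Scheme.ΓSpecIso (CommRingCat.of A)
  let eB := Scheme.ΓSpecIso (CommRingCat.of B)
  have hnat : f.appLE ⊤ ⊤ h ≫ eB.hom = eA.hom ≫ CommRingCat.ofHom (algebraMap A B) := by
    have := Scheme.ΓSpecIso_naturality (CommRingCat.ofHom (algebraMap A B))
    rw [← this]
    congr 1
  set p₁ := (pullback.fst f f).appLE ⊤ (OmegaSh.diagNbhd f ⊤) inf_le_left with hp₁
  set p₂ := (pullback.snd f f).appLE ⊤ (OmegaSh.diagNbhd f ⊤) inf_le_right with hp₂
  have hpo' : IsPushout (CommRingCat.ofHom (algebraMap A B)) (CommRingCat.ofHom (algebraMap A B))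
      (eB.inv ≫ p₁) (eB.inv ≫ p₂) :=
    hpo.of_iso eA eB eB (Iso.refl _) hnat hnat (by simp) (by simp)
  let τ := (CommRingCat.isPushout_tensorProduct A B B).isoIsPushout _ _ hpo'
  have hτ₁ : CommRingCat.ofHom (S := B ⊗[A] B) Algebra.TensorProduct.includeLeftRingHom ≫ τ.hom =
      eB.inv ≫ p₁ := IsPushout.inl_isoIsPushout_hom _ _ _ _
  have hτ₂ : CommRingCat.ofHom (S := B ⊗[A] B) Algebra.TensorProduct.includeRight.toRingHom ≫ τ.hom =
      eB.inv ≫ p₂ := IsPushout.inr_isoIsPushout_hom _ _ _ _
  have hN := PPLocal.isAffineOpen_pr1_preimage f n hU hV h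
  set ps := PPLocal.psi f n (⊤ : (Spec (CommRingCat.of B)).Opens) with hps
  have key : ∀ t : B ⊗[A] B, ψ t = (ps (τ.hom t)) • PPUnit.one f n ⊤ := by
    intro t
    induction t using TensorProduct.induction_on with
    | zero => rw [map_zero, map_zero, map_zero, zero_smul]; rfl
    | tmul b b' =>
      rw [hψ]
      have e1 : (b ⊗ₜ[A] b' : B ⊗[A] B) = (Algebra.TensorProduct.includeLeftRingHom b) *
          (Algebra.TensorProduct.includeRight.toRingHom b') := by
        change _ = (b ⊗ₜ[A] (1 : B)) * ((1 : B) ⊗ₜ[A] b')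
        rw [Algebra.TensorProduct.tmul_mul_tmul, mul_one, one_mul]
      have e2 : τ.hom (b ⊗ₜ[A] b') = p₁ (eB.inv b) * p₂ (eB.inv b') := by
        rw [e1, map_mul]
        exact congrArg₂ _ congr($hτ₁ b) congr($hτ₂ b')
      rw [e2, map_mul]
      have e3 : ps (p₁ (eB.inv b)) = (PrinPart.pr1 f n).app ⊤ (eB.inv b) := by
        have := congr($(PPLocal.fst_psi f n ⊤) (eB.inv b))
        rw [Conorm.appLE_refl] at this
        exact this
      have e4 : ps (p₂ (eB.inv b')) =
          (PrinPart.pr2 f n).appLE ⊤ (NU f n ⊤) (NU_le f n ⊤) (eB.inv b') :=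
        congr($(PPLocal.snd_psi f n ⊤) (eB.inv b'))
      rw [e3, e4, mul_smul]
      have e5 := PPUnit.dn_eq_smul_one f n ⊤ (eB.inv b')
      exact congrArg (fun z : Γ(PPUnit.G f n, NU f n ⊤) =>
        (PrinPart.pr1 f n).app ⊤ (eB.inv b) • z) e5
    | add x y hx hy =>
      rw [map_add, hx, hy, map_add, map_add, add_smul]
      rfl
  have hτbij : Function.Bijective τ.hom :=
    (ConcreteCategory.isIso_iff_bijective τ.hom).mp inferInstance
  have hps_surj := PPLocal.psi_surjective f n hU hV h
  have hker := PPLocal.ker_psi f n hU hV h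
  have hone_s := PPUnit.smul_one_surjective f n hU hV h
  have hone_i := PPUnit.smul_one_injective f n hU hV h
  have hmu : τ.hom ≫ OmSect.mu f (U := ⊤) =
      CommRingCat.ofHom (Algebra.TensorProduct.lmul' A (S := B)).toRingHom ≫ eB.inv := by
    apply (CommRingCat.isPushout_tensorProduct A B B).hom_ext
    · rw [← Category.assoc, hτ₁, Category.assoc, OmSect.fst_mu f, Category.comp_id]
      rw [← Category.assoc]
      have : CommRingCat.ofHom (S := B ⊗[A] B) Algebra.TensorProduct.includeLeftRingHom ≫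
          CommRingCat.ofHom (Algebra.TensorProduct.lmul' A (S := B)).toRingHom = 𝟙 _ := by
        ext b
        simp
      rw [this, Category.id_comp]
    · rw [← Category.assoc, hτ₂, Category.assoc, OmSect.snd_mu f, Category.comp_id]
      rw [← Category.assoc]
      have : CommRingCat.ofHom (S := B ⊗[A] B) Algebra.TensorProduct.includeRight.toRingHom ≫
          CommRingCat.ofHom (Algebra.TensorProduct.lmul' A (S := B)).toRingHom = 𝟙 _ := by
        ext b
        simp
      rw [this, Category.id_comp]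
  constructor
  · intro y
    obtain ⟨c, hc⟩ := hone_s y
    obtain ⟨r, hr⟩ := hps_surj c
    obtain ⟨t, ht⟩ := hτbij.2 r
    refine ⟨t, ?_⟩
    rw [key, ht, hr]; exact hc
  · ext t
    rw [AddMonoidHom.mem_ker, key]
    change _ ↔ t ∈ KaehlerDifferential.ideal A B ^ (n + 1)
    have h0 : (ps (τ.hom t)) • PPUnit.one f n ⊤ = 0 ↔ ps (τ.hom t) = 0 :=
      ⟨fun h0 => hone_i (by
        change ps (τ.hom t) • PPUnit.one f n ⊤ = (0 : Γ(PrinPart.nbhd f n, NU f n ⊤)) • PPUnit.one f n ⊤
        rw [h0, zero_smul]), fun h0 => by rw [h0, zero_smul]⟩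
    refine Iff.trans h0 ?_
    have h1 : ps (τ.hom t) = 0 ↔ τ.hom t ∈ RingHom.ker (OmSect.mu f (U := ⊤)).hom ^ (n + 1) := by
      rw [← hker]; rfl
    rw [h1]
    set K := RingHom.ker (OmSect.mu f (U := ⊤)).hom with hK
    have hI : KaehlerDifferential.ideal A B = Ideal.comap τ.hom.hom K := by
      ext t
      rw [Ideal.mem_comap, hK, RingHom.mem_ker]
      have e := congr($hmu t)
      change (OmSect.mu f (U := ⊤)) (τ.hom t) = eB.inv (Algebra.TensorProduct.lmul' A (S := B) t) at e
      change Algebra.TensorProduct.lmul' A (S := B) t = 0 ↔ (OmSect.mu f (U := ⊤)) (τ.hom t) = 0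
      rw [e]
      constructor
      · intro h0; rw [h0, map_zero]
      · intro h0
        have hinj : Function.Injective eB.inv :=
          ((ConcreteCategory.isIso_iff_bijective eB.inv).mp inferInstance).1
        exact hinj (by rw [h0, map_zero])
    rw [hI]
    have h3 : Ideal.map τ.hom.hom ((Ideal.comap τ.hom.hom K) ^ (n + 1)) = K ^ (n + 1) := by
      rw [Ideal.map_pow, Ideal.map_comap_of_surjective _ hτbij.2]
    rw [← h3]
    constructor
    · intro h4
      have := Ideal.mem_comap.mpr h4
      rwa [Ideal.comap_map_of_bijective _ hτbij] at this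
    · intro h4
      exact Ideal.mem_map_of_mem _ h4

end Groth.Agent.S5972
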