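import Mathlib
import Groth.Statements.S5973
import Groth.Agent.Lib.Helper1.GrSect
import Groth.Agent.Lib.Helper3.QCProps
set_option linter.style.haveILetI false
set_option autoImplicit false
universe u
open CategoryTheory CategoryTheory.Limits AlgebraicGeometry TopologicalSpace Opposite
open Nrm16

namespace Groth.Agent.S5973
open Groth.Agent.Lib.Helper1 Groth.Agent.Lib.Helper3

theorem ker_fg {Y X : Scheme.{u}} (f : Y ⟶ X) [IsClosedImmersion f]
    [LocallyOfFinitePresentation f] {U : X.Opens} (hU : IsAffineOpen U) :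
    (RingHom.ker (f.app U).hom).FG := by
  have h1 : (f.appLE U (f ⁻¹ᵁ U) le_rfl).hom.FinitePresentation :=
    HasRingHomProperty.appLE (P := @LocallyOfFinitePresentation) f inferInstance
      ⟨U, hU⟩ ⟨f ⁻¹ᵁ U, hU.preimage f⟩ le_rfl
  rw [Conorm.appLE_refl] at h1
  have hsurj := f.app_surjective U hU
  letI := (f.app U).hom.toAlgebra
  have h2 : Algebra.FinitePresentation Γ(X, U) Γ(Y, f ⁻¹ᵁ U) := h1
  exact Algebra.FinitePresentation.ker_fG_of_surjective (Algebra.ofId Γ(X, U) Γ(Y, f ⁻¹ᵁ U)) hsurj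

theorem finite_sections {Y X : Scheme.{u}} (f : Y ⟶ X) [IsClosedImmersion f]
    [LocallyOfFinitePresentation f] (n : ℕ) {U : X.Opens} (hU : IsAffineOpen U) :
    Module.Finite Γ(Y, f ⁻¹ᵁ U) Γ(PrinPart.grMod f n, f ⁻¹ᵁ U) := by
  classical
  have hfg : (RingHom.ker (f.app U).hom ^ n).FG := Submodule.FG.pow (ker_fg f hU) n
  obtain ⟨S, hS⟩ := hfg
  have hmem : ∀ b ∈ S, b ∈ RingHom.ker (f.app U).hom ^ n := fun b hb => by
    rw [← hS]; exact Ideal.subset_span hb
  choose! t ht using fun b (hb : b ∈ S) => GrSect.exists_val_eq_pow f n hU b (hmem b hb)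
  refine ⟨⟨S.image (fun b => PrinPart.grSect f n U (t b)), ?_⟩⟩
  rw [eq_top_iff]
  intro y _
  obtain ⟨s, rfl⟩ := GrSect.grSect_surjective f n hU y
  have hv := GrSect.val_mem_pow f n hU s
  rw [← hS] at hv
  -- write val s as a combination
  have key : ∀ b ∈ Ideal.span (S : Set Γ(X, U)),
      ∀ s : Γ(ClSub.idealMod (f.ker ^ n), U), IdealMod.val (f.ker ^ n) s = b →
      PrinPart.grSect f n U s ∈ Submodule.span Γ(Y, f ⁻¹ᵁ U)
        ((S.image (fun b => PrinPart.grSect f n U (t b)) : Finset _) : Set _) := by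
    intro b hb
    refine Submodule.span_induction (p := fun b _ => ∀ s : Γ(ClSub.idealMod (f.ker ^ n), U),
      IdealMod.val (f.ker ^ n) s = b →
      PrinPart.grSect f n U s ∈ Submodule.span Γ(Y, f ⁻¹ᵁ U)
        ((S.image (fun b => PrinPart.grSect f n U (t b)) : Finset _) : Set _)) ?_ ?_ ?_ ?_ hb
    · intro b hb s hs
      have : s = t b := IdealMod.val_injective _ U (hs.trans (ht b hb).symm)
      rw [this]
      exact Submodule.subset_span (Finset.mem_image_of_mem _ hb)
    · intro s hs
      have : s = 0 := IdealMod.val_injective _ U (hs.trans (by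
        have := IdealMod.val_smul (f.ker ^ n) (0 : Γ(X, U)) (0 : Γ(ClSub.idealMod (f.ker ^ n), U))
        simpa using this.symm))
      rw [this, map_zero]
      exact Submodule.zero_mem _
    · intro x y hx hy hx' hy' s hs
      have hxm : x ∈ RingHom.ker (f.app U).hom ^ n := by rw [← hS]; exact hx
      have hym : y ∈ RingHom.ker (f.app U).hom ^ n := by rw [← hS]; exact hy
      obtain ⟨sx, hsx⟩ := GrSect.exists_val_eq_pow f n hU x hxm
      obtain ⟨sy, hsy⟩ := GrSect.exists_val_eq_pow f n hU y hym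
      have : s = sx + sy := IdealMod.val_injective _ U (by
        rw [hs, IdealMod.val_add, hsx, hsy])
      rw [this, map_add]
      exact Submodule.add_mem _ (hx' sx hsx) (hy' sy hsy)
    · intro a x hx hx' s hs
      have hxm : x ∈ RingHom.ker (f.app U).hom ^ n := by rw [← hS]; exact hx
      obtain ⟨sx, hsx⟩ := GrSect.exists_val_eq_pow f n hU x hxm
      have : s = a • sx := IdealMod.val_injective _ U (by
        rw [hs, IdealMod.val_smul, hsx]; rfl)
      rw [this, GrSect.grSect_smul]
      exact Submodule.smul_mem _ _ (hx' sx hsx)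
  exact key _ hv s rfl

theorem result {Y X : Scheme.{u}} (f : Y ⟶ X) [IsClosedImmersion f]
    [LocallyOfFinitePresentation f] (n : ℕ) :
    Coh.IsCoh (PrinPart.grMod f n) := by
  refine ⟨inferInstance, ?_⟩
  apply QCProps.isFiniteType_of_charts
  intro y
  obtain ⟨U, hU, hyU⟩ := QCProps.exists_affine_nbhd (f y)
  exact ⟨f ⁻¹ᵁ U, hU.preimage f, hyU, inferInstance, finite_sections f n hU⟩

end Groth.Agent.S5973
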