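-- Statement S5974.
import Groth.Statements.S5974
import Mathlib
import Groth.Agent.Lib.Helper1.ConormTriple
set_option linter.style.haveILetI false

set_option autoImplicit false
universe u
open CategoryTheory CategoryTheory.Limits AlgebraicGeometry TopologicalSpace Opposite
open Nrm16

namespace Groth.Agent.S5974

open CategoryTheory CategoryTheory.Limits AlgebraicGeometry TopologicalSpace Opposite
open Groth.Agent.Lib.Helper1

/-- Let f : Y ⟶ X and j : Y' ⟶ Y be quasi-compact immersions. Let φ₁ : j^* N_{Y/X} ⟶ N_{Y'/X} and φ₂ :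
N_{Y'/X} ⟶ N_{Y'/Y} be the canonical maps of conormal sheaves (the first induced by the identity of
X, the second by f, on local sections of the ideals). Then φ₂ is an epimorphism and the image of φ₁
is the kernel of φ₂: the sequence j^* N_{Y/X} ⟶ N_{Y'/X} ⟶ N_{Y'/Y} ⟶ 0 is exact. (The published
statement allows arbitrary immersions; this row assumes them quasi-compact, the case in which the
conormal sheaves used here are those of the immersions.) -/
theorem result {Y' Y X : Scheme.{u}} (f : Y ⟶ X) [IsImmersion f] [QuasiCompact f]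
    (j : Y' ⟶ Y) [IsImmersion j] [QuasiCompact j]
    (φ₁ : (Scheme.Modules.pullback j).obj (Omega.conormal f) ⟶ Omega.conormal (j ≫ f))
    (hφ₁ : OmegaSh.IsConormalMap (j ≫ f) f (𝟙 X) j φ₁)
    (φ₂ : (Scheme.Modules.pullback (𝟙 Y')).obj (Omega.conormal (j ≫ f)) ⟶ Omega.conormal j)
    (hφ₂ : OmegaSh.IsConormalMap j (j ≫ f) f (𝟙 Y') φ₂) :
    Epi φ₂ ∧
      imageSubobject φ₁ =
        kernelSubobject ((Scheme.Modules.pullbackId Y').inv.app (Omega.conormal (j ≫ f)) ≫ φ₂) := by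
  haveI qC : (Omega.conormal j).IsQuasicoherent :=
    Groth.Agent.Lib.Helper17.PbStalk.isQuasicoherent_pullback j (ClSub.idealMod j.ker)
  haveI qC' : (Omega.conormal (j ≫ f)).IsQuasicoherent :=
    Groth.Agent.Lib.Helper17.PbStalk.isQuasicoherent_pullback (j ≫ f)
      (ClSub.idealMod (j ≫ f).ker)
  have hgood : ∀ z : Y', ∃ (U : X.Opens), IsAffineOpen U ∧ z ∈ (j ≫ f) ⁻¹ᵁ U ∧
      U ≤ f.coborderRange ∧ U ≤ (j ≫ f).coborderRange := by
    intro z
    have hz : (j ≫ f) z ∈ f.coborderRange ⊓ (j ≫ f).coborderRange :=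
      ⟨ConormMap.mem_coborderRange f (j z), ConormMap.mem_coborderRange (j ≫ f) z⟩
    obtain ⟨_, ⟨U : X.Opens, hU, rfl⟩, hzU, hUle⟩ :=
      X.isBasis_affineOpens.exists_subset_of_mem_open hz (f.coborderRange ⊓ (j ≫ f).coborderRange).2
    exact ⟨U, hU, hzU, fun y hy => (hUle hy).1, fun y hy => (hUle hy).2⟩
  haveI hepi' : Epi ((Scheme.Modules.pullbackId Y').inv.app (Omega.conormal (j ≫ f)) ≫ φ₂) := by
    apply Groth.Agent.Lib.Helper3.QCExact.epi_of_surjective_on_affine_cover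
    intro z
    obtain ⟨U, hU, hzU, hUf, hUjf⟩ := hgood z
    obtain ⟨hV, -⟩ := ConormMap.good_of_le_coborderRange (j ≫ f) hU hUjf
    exact ⟨(j ≫ f) ⁻¹ᵁ U, hV, hzU,
      (ConormTriple.exact_and_surjective_on_good f j φ₁ hφ₁ φ₂ hφ₂ hU hUf hUjf).2⟩
  have hepi : Epi φ₂ := by
    have h : φ₂ = (Scheme.Modules.pullbackId Y').hom.app (Omega.conormal (j ≫ f)) ≫
        (Scheme.Modules.pullbackId Y').inv.app (Omega.conormal (j ≫ f)) ≫ φ₂ := by
      rw [Iso.hom_inv_id_app_assoc]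
    rw [h]
    infer_instance
  refine ⟨hepi, ?_⟩
  have w := ConormTriple.comp_eq_zero f j φ₁ hφ₁ φ₂ hφ₂
  have hex : (ShortComplex.mk φ₁ _ w).Exact := by
    apply ModLocal.exact_of_exact_on_affine_cover
    intro z
    obtain ⟨U, hU, hzU, hUf, hUjf⟩ := hgood z
    obtain ⟨hV, -⟩ := ConormMap.good_of_le_coborderRange (j ≫ f) hU hUjf
    exact ⟨(j ≫ f) ⁻¹ᵁ U, hV, hzU,
      (ConormTriple.exact_and_surjective_on_good f j φ₁ hφ₁ φ₂ hφ₂ hU hUf hUjf).1⟩
  exact (ShortComplex.exact_iff_image_eq_kernel _).mp hex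

end Groth.Agent.S5974
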