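-- Statement S5975.
import Groth.Statements.S5975
import Mathlib
import Groth.Agent.Lib.Helper1.OmSeq3
set_option linter.style.haveILetI false

set_option autoImplicit false
universe u
open CategoryTheory CategoryTheory.Limits AlgebraicGeometry TopologicalSpace Opposite
open Nrm16

namespace Groth.Agent.S5975

open CategoryTheory CategoryTheory.Limits AlgebraicGeometry TopologicalSpace Opposite
open Groth.Agent.Lib.Helper1

/-- Let f : X ⟶ Y and g : Y ⟶ Z be morphisms of schemes. Let (Ω_{Y/Z}, d), (Ω_{X/Z}, d') and (Ω_{X/Y},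
d'') be sheaves of differentials (universal derivations) and let c₁ : f^*Ω_{Y/Z} ⟶ Ω_{X/Z} and c₂ :
Ω_{X/Z} ⟶ Ω_{X/Y} be the canonical maps compatible with the derivations. Then c₂ is an epimorphism
and the image of c₁ is the kernel of c₂: the sequence f^*Ω_{Y/Z} ⟶ Ω_{X/Z} ⟶ Ω_{X/Y} ⟶ 0 is exact. -/
theorem result {X Y Z : Scheme.{u}} (f : X ⟶ Y) (g : Y ⟶ Z)
    (ΩY : Y.Modules) (dY : OmegaSh.Der g ΩY) (hY : OmegaSh.IsUniversal dY)
    (ΩX : X.Modules) (dX : OmegaSh.Der (f ≫ g) ΩX) (hX : OmegaSh.IsUniversal dX)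
    (ΩXY : X.Modules) (dXY : OmegaSh.Der f ΩXY) (hXY : OmegaSh.IsUniversal dXY)
    (c₁ : (Scheme.Modules.pullback f).obj ΩY ⟶ ΩX) (hc₁ : OmegaSh.IsDiffCompat f dY dX c₁)
    (c₂ : (Scheme.Modules.pullback (𝟙 X)).obj ΩX ⟶ ΩXY) (hc₂ : OmegaSh.IsDiffCompat (𝟙 X) dX dXY c₂) :
    Epi c₂ ∧
      imageSubobject c₁ = kernelSubobject ((Scheme.Modules.pullbackId X).inv.app ΩX ≫ c₂) := by
  haveI qY : ΩY.IsQuasicoherent := DerSmooth.isQuasicoherent g dY hY
  haveI qX : ΩX.IsQuasicoherent := DerSmooth.isQuasicoherent (f ≫ g) dX hX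
  haveI qXY : ΩXY.IsQuasicoherent := DerSmooth.isQuasicoherent f dXY hXY
  haveI qN : ((Scheme.Modules.pullback f).obj ΩY).IsQuasicoherent :=
    Groth.Agent.Lib.Helper17.PbStalk.isQuasicoherent_pullback f ΩY
  have hc₂' : ∀ (U : X.Opens) (s : Γ(X, U)),
      ((Scheme.Modules.pullbackId X).inv.app ΩX ≫ c₂).app U (dX.app U s) = dXY.app U s := by
    intro U s
    have h1 : ((Scheme.Modules.pullbackId X).inv.app ΩX ≫ c₂).app U (dX.app U s) =
        c₂.app U (((Scheme.Modules.pullbackId X).inv.app ΩX).app U (dX.app U s)) := rfl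
    rw [h1, ConormMap.pullbackId_inv_app]
    exact hc₂ U s
  have htriple : ∀ x : X, ∃ (U₂ : X.Opens) (_ : IsAffineOpen U₂), x ∈ U₂ ∧
      (∀ m : Γ(ΩX, U₂), ((Scheme.Modules.pullbackId X).inv.app ΩX ≫ c₂).app U₂ m = 0 →
        ∃ m' : Γ((Scheme.Modules.pullback f).obj ΩY, U₂), c₁.app U₂ m' = m) ∧
      Function.Surjective (((Scheme.Modules.pullbackId X).inv.app ΩX ≫ c₂).app U₂) := by
    intro x
    obtain ⟨V, U₁, U₂, hV, hU₁, hU₂, hxU₂, -, e, e₁⟩ := OmSeq.exists_affine_triple g f x ⊤ trivial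
    obtain ⟨h1, h2, -⟩ := OmSeq3.exact_and_surjective_on_triple f g dY hY dX hX dXY hXY c₁ hc₁
      _ hc₂' hV hU₁ hU₂ e e₁
    exact ⟨U₂, hU₂, hxU₂, h1, h2⟩
  haveI hepi' : Epi ((Scheme.Modules.pullbackId X).inv.app ΩX ≫ c₂) := by
    apply Groth.Agent.Lib.Helper3.QCExact.epi_of_surjective_on_affine_cover
    intro x
    obtain ⟨U₂, hU₂, hxU₂, -, h2⟩ := htriple x
    exact ⟨U₂, hU₂, hxU₂, h2⟩
  have hepi : Epi c₂ := by
    have h : c₂ = (Scheme.Modules.pullbackId X).hom.app ΩX ≫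
        (Scheme.Modules.pullbackId X).inv.app ΩX ≫ c₂ := by
      rw [Iso.hom_inv_id_app_assoc]
    rw [h]
    infer_instance
  refine ⟨hepi, ?_⟩
  have w : c₁ ≫ (Scheme.Modules.pullbackId X).inv.app ΩX ≫ c₂ = 0 := by
    apply OmSeq3.hom_ext_basis
    intro x W hxW
    obtain ⟨V, U₁, U₂, hV, hU₁, hU₂, hxU₂, hU₂W, e, e₁⟩ := OmSeq.exists_affine_triple g f x W hxW
    obtain ⟨-, -, h3⟩ := OmSeq3.exact_and_surjective_on_triple f g dY hY dX hX dXY hXY c₁ hc₁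
      _ hc₂' hV hU₁ hU₂ e e₁
    exact ⟨U₂, hxU₂, hU₂W, fun m => h3 m⟩
  have hex : (ShortComplex.mk c₁ _ w).Exact := by
    apply ModLocal.exact_of_exact_on_affine_cover
    intro x
    obtain ⟨U₂, hU₂, hxU₂, h1, -⟩ := htriple x
    exact ⟨U₂, hU₂, hxU₂, h1⟩
  exact (ShortComplex.exact_iff_image_eq_kernel _).mp hex

end Groth.Agent.S5975
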