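-- Statement S5976.
import Groth.Statements.S5976
import Mathlib
import Groth.Agent.Lib.Helper1.ConormMap
import Groth.Agent.S5015
set_option linter.style.haveILetI false

set_option autoImplicit false
universe u
open CategoryTheory CategoryTheory.Limits AlgebraicGeometry TopologicalSpace Opposite
open Nrm16

namespace Groth.Agent.S5976

open CategoryTheory CategoryTheory.Limits AlgebraicGeometry TopologicalSpace Opposite
open Groth.Agent.Lib.Helper1

/-- Let f : Y ⟶ Z be a morphism and j : X ⟶ Y a quasi-compact immersion. Let (Ω_{Y/Z}, d) and (Ω_{X/Z},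
d') be sheaves of differentials (universal derivations), φ : N_{X/Y} ⟶ j^*Ω_{Y/Z} the canonical map
from the conormal sheaf of j (class of a local section s of the ideal ↦ pullback of d s) and c :
j^*Ω_{Y/Z} ⟶ Ω_{X/Z} the canonical map compatible with the derivations. Then c is an epimorphism and
the image of φ is the kernel of c: the sequence N_{X/Y} ⟶ j^*Ω_{Y/Z} ⟶ Ω_{X/Z} ⟶ 0 is exact. (The
published statement allows any immersion j; this row assumes j quasi-compact, the case in which the
conormal sheaf used here is that of j.) -/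
theorem result {X Y Z : Scheme.{u}} (f : Y ⟶ Z) (j : X ⟶ Y)
    [IsImmersion j] [QuasiCompact j]
    (ΩY : Y.Modules) (dY : OmegaSh.Der f ΩY) (hY : OmegaSh.IsUniversal dY)
    (ΩX : X.Modules) (dX : OmegaSh.Der (j ≫ f) ΩX) (hX : OmegaSh.IsUniversal dX)
    (φ : Omega.conormal j ⟶ (Scheme.Modules.pullback j).obj ΩY) (hφ : OmegaSh.IsConormalDiff j dY φ)
    (c : (Scheme.Modules.pullback j).obj ΩY ⟶ ΩX) (hc : OmegaSh.IsDiffCompat j dY dX c) :
    Epi c ∧ imageSubobject φ = kernelSubobject c := by
  haveI qY : ΩY.IsQuasicoherent := DerSmooth.isQuasicoherent f dY hY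
  haveI qX : ΩX.IsQuasicoherent := DerSmooth.isQuasicoherent (j ≫ f) dX hX
  haveI qN : ((Scheme.Modules.pullback j).obj ΩY).IsQuasicoherent :=
    Groth.Agent.Lib.Helper17.PbStalk.isQuasicoherent_pullback j ΩY
  have hepi : Epi c := (Groth.Agent.S5015.result f (j ≫ f) j rfl ΩY dY hY ΩX dX hX c hc).mp
    inferInstance
  refine ⟨hepi, ?_⟩
  have w := ConormSeq.comp_eq_zero f j dY dX φ hφ c hc
  have hex : (ShortComplex.mk φ c w).Exact := by
    apply ModLocal.exact_of_exact_on_affine_cover
    intro z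
    obtain ⟨_, ⟨VS : Z.Opens, hVS, rfl⟩, hzVS, -⟩ := Z.isBasis_affineOpens.exists_subset_of_mem_open
      (Set.mem_univ (f (j z))) isOpen_univ
    obtain ⟨U, hU, hzU, hUle, hV, hs⟩ := Conorm.exists_good j z (f ⁻¹ᵁ VS) hzVS
    exact ⟨j ⁻¹ᵁ U, hV, hzU, fun m hm =>
      ConormSeq.exact_on_good f j dY hY dX hX φ hφ c hc hU hV hs hVS hUle m hm⟩
  exact (ShortComplex.exact_iff_image_eq_kernel _).mp hex

end Groth.Agent.S5976
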