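import Mathlib
import Groth.Statements.S5977
import Groth.Agent.Lib.Helper1.PPEpi
set_option linter.style.haveILetI false
set_option autoImplicit false
universe u
open CategoryTheory CategoryTheory.Limits AlgebraicGeometry TopologicalSpace Opposite
open Nrm16

namespace Groth.Agent.S5977
open Groth.Agent.Lib.Helper1

theorem result {X Y Z : Scheme.{u}} (f : Y ⟶ Z) (j : X ⟶ Y) [IsClosedImmersion j] (n : ℕ)
    (φ : (Scheme.Modules.pullback j).obj (PrinPart.P f n) ⟶ PrinPart.P (j ≫ f) n)
    (hφ : PrinPart.IsPMap f (j ≫ f) j n φ) :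
    Epi φ := by
  apply PPEpi.epi_of_cover f n (j ≫ f) j φ hφ
  intro x
  obtain ⟨U, V, hU, hV, hxU, -, hUV⟩ := PPAff.exists_affine_pair f (j x) ⊤ trivial
  refine ⟨U, hU.preimage j, V, hV, ?_, hxU, j.app_surjective U hU⟩
  intro y hy
  exact hUV hy

end Groth.Agent.S5977
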