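import Mathlib
import Groth.Statements.S5978
import Groth.Agent.Lib.Helper1.PPOne
import Groth.Agent.Lib.Helper1.PPEpi
import Groth.Agent.Lib.Helper1.QcMono
import Groth.Agent.Lib.Helper3.QCExact
import Groth.Agent.Lib.Helper3.QCLim
import Groth.Agent.Lib.Helper3.QCOpen
set_option linter.style.haveILetI false
set_option autoImplicit false
universe u
open CategoryTheory CategoryTheory.Limits AlgebraicGeometry TopologicalSpace Opposite
open Nrm16

namespace Groth.Agent.S5978
open Groth.Agent.Lib.Helper1 Groth.Agent.Lib.Helper3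

theorem result {X S : Scheme.{u}} (f : X ⟶ S) [QuasiSeparated f]
    (e : Coh.structureModule X ⟶ PrinPart.P f 1)
    (he : ∀ (U : X.Opens) (s : Γ(X, U)), e.app U (OmegaSh.strSect X U s) = s • PrinPart.dn f 1 U 1)
    (ι : Omega.sheaf f ⟶ PrinPart.P f 1)
    (hι : ∀ (U : X.Opens) (s : Γ(X, U)),
      ι.app U ((OmegaSh.dOmega f).app U s) = PrinPart.dn f 1 U s - s • PrinPart.dn f 1 U 1) :
    IsIso (coprod.desc e ι) := by
  haveI qΩ : (Omega.sheaf f).IsQuasicoherent :=
    Groth.Agent.Lib.Helper17.PbStalk.isQuasicoherent_pullback _ _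
  haveI qC : (Coh.structureModule X ⨿ Omega.sheaf f : X.Modules).IsQuasicoherent := by
    apply QCLim.isQuasicoherent_finite_colimit
    rintro ⟨_ | _⟩
    · exact (inferInstance : (Coh.structureModule X).IsQuasicoherent)
    · exact qΩ
  haveI qP : (PrinPart.P f 1).IsQuasicoherent := PPEpi.isQuasicoherent_P f 1
  have hid : 𝟙 (Coh.structureModule X ⨿ Omega.sheaf f) =
      coprod.desc (𝟙 _) 0 ≫ coprod.inl + coprod.desc 0 (𝟙 _) ≫ coprod.inr := by
    apply coprod.hom_ext
    · rw [Category.comp_id, Preadditive.comp_add, ← Category.assoc, ← Category.assoc,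
        coprod.inl_desc, coprod.inl_desc, Category.id_comp, zero_comp, add_zero]
    · rw [Category.comp_id, Preadditive.comp_add, ← Category.assoc, ← Category.assoc,
        coprod.inr_desc, coprod.inr_desc, Category.id_comp, zero_comp, zero_add]
  have hcover : ∀ x : X, ∃ U : X.Opens, IsAffineOpen U ∧ x ∈ U ∧
      Function.Bijective ((coprod.desc e ι).app U) := by
    intro x
    obtain ⟨U, V, hU, hV, hxU, -, hUV⟩ := PPAff.exists_affine_pair f x ⊤ trivial
    refine ⟨U, hU, hxU, ?_, ?_⟩
    · rw [injective_iff_map_eq_zero]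
      intro z hz
      set a : Γ(Coh.structureModule X, U) :=
        (coprod.desc (𝟙 (Coh.structureModule X)) (0 : Omega.sheaf f ⟶ _)).app U z with ha
      set ω : Γ(Omega.sheaf f, U) :=
        (coprod.desc (0 : Coh.structureModule X ⟶ _) (𝟙 (Omega.sheaf f))).app U z with hω
      have hz' : z = (coprod.inl : Coh.structureModule X ⟶ _ ⨿ Omega.sheaf f).app U a +
          (coprod.inr : Omega.sheaf f ⟶ Coh.structureModule X ⨿ _).app U ω :=
        congr(($hid).app U z)
      have h1 : (coprod.desc e ι).app U z = e.app U a + ι.app U ω := by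
        conv_lhs => rw [hz', map_add]
        have e1 : (coprod.desc e ι).app U ((coprod.inl : Coh.structureModule X ⟶
            _ ⨿ Omega.sheaf f).app U a) = e.app U a :=
          congr(($(coprod.inl_desc e ι)).app U a)
        have e2 : (coprod.desc e ι).app U ((coprod.inr : Omega.sheaf f ⟶
            Coh.structureModule X ⨿ _).app U ω) = ι.app U ω :=
          congr(($(coprod.inr_desc e ι)).app U ω)
        rw [e1, e2]
      rw [h1] at hz
      obtain ⟨h2, h3⟩ := PPOne.inj f hU hV hUV e he ι hι (OmegaSh.fnSect X U a) ω hz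
      have h2' : a = 0 := h2
      rw [hz', h2', h3, map_zero, map_zero, add_zero]
    · intro y
      obtain ⟨a, ω, hy⟩ := PPOne.surj f hU hV hUV e he ι hι y
      refine ⟨(coprod.inl : Coh.structureModule X ⟶ _ ⨿ Omega.sheaf f).app U
        (OmegaSh.strSect X U a) +
        (coprod.inr : Omega.sheaf f ⟶ Coh.structureModule X ⨿ _).app U ω, ?_⟩
      rw [map_add, ← hy]
      have e1 : (coprod.desc e ι).app U ((coprod.inl : Coh.structureModule X ⟶
          _ ⨿ Omega.sheaf f).app U (OmegaSh.strSect X U a)) = e.app U (OmegaSh.strSect X U a) :=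
        congr(($(coprod.inl_desc e ι)).app U (OmegaSh.strSect X U a))
      have e2 : (coprod.desc e ι).app U ((coprod.inr : Omega.sheaf f ⟶
          Coh.structureModule X ⨿ _).app U ω) = ι.app U ω :=
        congr(($(coprod.inr_desc e ι)).app U ω)
      rw [e1, e2]
  haveI : Epi (coprod.desc e ι) := by
    apply QCExact.epi_of_surjective_on_affine_cover
    intro x
    obtain ⟨U, hU, hx, hbij⟩ := hcover x
    exact ⟨U, hU, hx, hbij.2⟩
  haveI : Mono (coprod.desc e ι) := by
    apply QcMono.mono_of_injective_on_affine_cover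
    intro x
    obtain ⟨U, hU, hx, hbij⟩ := hcover x
    exact ⟨U, hU, hx, hbij.1⟩
  exact isIso_of_mono_of_epi _

end Groth.Agent.S5978
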