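import Mathlib
import Groth.Statements.S5981
import Groth.Agent.Lib.Helper1.PPEpi
set_option linter.style.haveILetI false
set_option autoImplicit false
universe u
open CategoryTheory CategoryTheory.Limits AlgebraicGeometry TopologicalSpace Opposite
open Nrm16

namespace Groth.Agent.S5981
open Groth.Agent.Lib.Helper1

theorem result {X Y Z : Scheme.{u}} (f : X ⟶ Y) (g : Y ⟶ Z) (n : ℕ)
    (φ : (Scheme.Modules.pullback (𝟙 X)).obj (PrinPart.P (f ≫ g) n) ⟶ PrinPart.P f n)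
    (hφ : PrinPart.IsPMap (f ≫ g) f (𝟙 X) n φ) :
    Epi φ := by
  apply PPEpi.epi_of_cover (f ≫ g) n f (𝟙 X) φ hφ
  intro x
  obtain ⟨U, V, hU, hV, hxU, -, hUV⟩ := PPAff.exists_affine_pair f x ⊤ trivial
  refine ⟨U, hU, V, hV, hUV, hxU, ?_⟩
  intro b
  exact ⟨b, by simp; rfl⟩

end Groth.Agent.S5981
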