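import Groth.Statements.S5985
import Mathlib
import Groth.Agent.Lib.Helper8.EtLocSch

set_option autoImplicit false
universe u
open CategoryTheory AlgebraicGeometry
open Unram

namespace Groth.Agent.S5985

/-- Let f : X ⟶ Y be separated and locally of finite type, and y a point of Y whose fibre f⁻¹(y) is
finite (hence discrete). Then there are an étale morphism g : Y' ⟶ Y, a point y' of Y' with g(y') =
y inducing an isomorphism of residue fields κ(y) ≅ κ(y'), and two complementary open subschemes V, W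
of X' = X ×_Y Y' such that V ⟶ Y' is finite and W contains no point of X' lying over y'. -/
theorem result {X Y : Scheme.{u}} (f : X ⟶ Y)
    [LocallyOfFiniteType f] [IsSeparated f] (y : Y) (hfin : (f ⁻¹' {y}).Finite) :
    ∃ (Y' : Scheme.{u}) (g : Y' ⟶ Y) (y' : Y'), Etale g ∧ g y' = y ∧
      IsIso (g.residueFieldMap y') ∧
      ∃ (V W : (Limits.pullback f g).Opens), IsCompl V W ∧
        IsFinite (V.ι ≫ Limits.pullback.snd f g) ∧
        ∀ x : ↥(Limits.pullback f g), Limits.pullback.snd f g x = y' → x ∈ V := by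
  classical
  haveI : Finite ↥(f ⁻¹' {y}) := hfin.to_subtype
  have hqf : ∀ i : ↥(f ⁻¹' {y}), f.QuasiFiniteAt (i : X) := by
    rintro ⟨x, hx⟩
    have hx' : f x = y := hx
    subst hx'
    haveI : Finite (f.fiber (f x)) := (f.fiberHomeo (f x)).finite_iff.mpr hfin.to_subtype
    exact Scheme.Hom.quasiFiniteAt_iff_isOpen_singleton_asFiber.mpr (isOpen_discrete _)
  obtain ⟨U, g, u, hg, hgu, hres, V, v, hV⟩ :=
    Groth.Agent.Lib.Helper8.EtLocSch.exists_etale_nbhd_split f y
      (fun i : ↥(f ⁻¹' {y}) => (i : X)) (fun i => i.2) hqf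
  letI : Fintype ↥(f ⁻¹' {y}) := Fintype.ofFinite _
  let V' : (Limits.pullback f g).Opens := Finset.univ.sup V
  have hfinV : IsFinite (V'.ι ≫ Limits.pullback.snd f g) :=
    Groth.Agent.Lib.Helper8.EtLocSch.isFinite_finset_sup' _ _ _ (fun i _ => (hV i).2.1)
  have hcl : IsClosed (V' : Set ↥(Limits.pullback f g)) :=
    Groth.Agent.Lib.Helper8.EtLocSch.isClosed_of_isFinite _ V' hfinV
  let W : (Limits.pullback f g).Opens := ⟨(V' : Set _)ᶜ, hcl.isOpen_compl⟩
  refine ⟨U, g, u, hg, hgu, ?_, V', W, ?_, hfinV, ?_⟩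
  · rw [ConcreteCategory.isIso_iff_bijective]
    exact ⟨(g.residueFieldMap u).hom.injective, hres⟩
  · simp [isCompl_iff, disjoint_iff, codisjoint_iff, W, SetLike.ext'_iff]
  · intro w hw
    have hfw : f (Limits.pullback.fst f g w) = y := by
      rw [← Scheme.Hom.comp_apply, Limits.pullback.condition, Scheme.Hom.comp_apply, hw, hgu]
    obtain ⟨h1, h2, h3, h4, h5, h6, h7⟩ := hV ⟨Limits.pullback.fst f g w, hfw⟩
    have hwv : w = v ⟨Limits.pullback.fst f g w, hfw⟩ := h6 w hw rfl
    rw [hwv]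
    exact (Finset.le_sup (f := V) (Finset.mem_univ _)) h1

end Groth.Agent.S5985
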