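import Groth.Statements.S5993
import Groth.Agent.Lib.Helper27.CplTensorB

set_option autoImplicit false
universe u
open scoped TensorProduct
open EGA418

namespace Groth.Agent.S5993

/-- Let k be a field, A a complete Noetherian local k-algebra with maximal ideal m whose residue field
is a finite extension of k, k' an extension field of k, I the ideal of A ⊗_k k' generated by m, and
A' the completed tensor product of A and k' over k, namely the I-adic completion of A ⊗_k k'. Then
A' is a Noetherian ring with finitely many maximal ideals, complete and separated for the ideal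
generated by m, and for every maximal ideal M of A' the local ring A'_M is complete, faithfully flat
over A, of the same dimension as A, and has residue field finite over k'. -/
theorem result (k A k' : Type u) [Field k]
    [CommRing A] [IsNoetherianRing A] [IsLocalRing A] [Algebra k A]
    [IsAdicComplete (IsLocalRing.maximalIdeal A) A] [Module.Finite k (IsLocalRing.ResidueField A)]
    [Field k'] [Algebra k k'] (I : Ideal (A ⊗[k] k'))
    (hI : I = (IsLocalRing.maximalIdeal A).map (algebraMap A (A ⊗[k] k'))) :
    IsNoetherianRing (AdicCompletion I (A ⊗[k] k')) ∧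
      Finite (MaximalSpectrum (AdicCompletion I (A ⊗[k] k'))) ∧
      IsAdicComplete ((IsLocalRing.maximalIdeal A).map (algebraMap A (AdicCompletion I (A ⊗[k] k'))))
        (AdicCompletion I (A ⊗[k] k')) ∧
      ∀ M : MaximalSpectrum (AdicCompletion I (A ⊗[k] k')),
        IsAdicComplete (IsLocalRing.maximalIdeal (Localization.AtPrime M.asIdeal))
            (Localization.AtPrime M.asIdeal) ∧
          Module.FaithfullyFlat A (Localization.AtPrime M.asIdeal) ∧
          ringKrullDim (Localization.AtPrime M.asIdeal) = ringKrullDim A ∧
          (((Ideal.Quotient.mk M.asIdeal).comp (algebraMap (A ⊗[k] k') (AdicCompletion I (A ⊗[k] k')))).comp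
              Algebra.TensorProduct.includeRight.toRingHom).Finite := by
  have hI' : I = Groth.Agent.Lib.Helper27.CplTensor.mT k A k' := hI
  subst hI'
  refine ⟨Groth.Agent.Lib.Helper27.CplTensorB.isNoetherianRing_cpl k A k',
    Groth.Agent.Lib.Helper27.CplTensorB.finite_maximalSpectrum k A k',
    Groth.Agent.Lib.Helper27.CplTensorB.isAdicComplete_map k A k', fun M => ?_⟩
  exact ⟨Groth.Agent.Lib.Helper27.CplTensorB.isAdicComplete_loc k A k' M,
    Groth.Agent.Lib.Helper27.CplTensorB.faithfullyFlat_loc k A k' M,
    Groth.Agent.Lib.Helper27.CplTensorB.ringKrullDim_loc k A k' M,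
    Groth.Agent.Lib.Helper27.CplTensorB.finite_residue k A k' M⟩

end Groth.Agent.S5993
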