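import Groth.Statements.S6001
import Mathlib
import Groth.Agent.Lib.Helper26.QFFormal3
import Groth.Agent.Lib.Helper14.FiniteDomain
import Groth.Agent.Lib.Helper14.BrnchCompl
import Groth.Agent.S7128
open TensorProduct

set_option autoImplicit false
universe u
open SGA1


namespace Groth.Agent.S6001Aux

/-- A localization is weakly étale. -/
theorem weaklyEtale_of_isLocalization {R S : Type*} [CommRing R] [CommRing S] [Algebra R S]
    (M : Submonoid R) [IsLocalization M S] : Algebra.WeaklyEtale R S where
  flat := IsLocalization.flat S M
  flat_lmul' := by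
    apply RingHom.Flat.of_bijective
    exact IsLocalization.bijective_linearMap_mul' M S

end Groth.Agent.S6001Aux

namespace Groth.Agent.S6001

/-- Let A be a Noetherian local ring which is analytically reduced (its completion has no nonzero
nilpotents), and let B be the local ring at a prime q, lying over the maximal ideal of A, of an
A-algebra C of finite type that is etale over A at q (an etale local homomorphism A ⟶ B). Then B is
analytically reduced, and in particular reduced. -/
theorem result (A C : Type u) [CommRing A] [IsLocalRing A]
    [IsNoetherianRing A] [CommRing C] [Algebra A C] [Algebra.FiniteType A C] (q : Ideal C) [q.IsPrime]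
    (hq : Ideal.comap (algebraMap A C) q = IsLocalRing.maximalIdeal A) (hC : Algebra.IsEtaleAt A q)
    (hA : IsReduced (AdicCompletion (IsLocalRing.maximalIdeal A) A)) :
    IsReduced (AdicCompletion (IsLocalRing.maximalIdeal (Localization.AtPrime q)) (Localization.AtPrime q)) ∧
      IsReduced (Localization.AtPrime q) := by
  classical
  haveI : Algebra.FinitePresentation A C := Algebra.FinitePresentation.of_finiteType.mp inferInstance
  haveI : Algebra.IsEtaleAt A q := hC
  obtain ⟨g, hg, hEt⟩ := Algebra.exists_etale_of_isEtaleAt (R := A) q
  haveI := hEt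
  -- `C_q` is weakly étale over `A`
  have hgu : IsUnit (algebraMap C (Localization.AtPrime q) g) :=
    IsLocalization.map_units _ (⟨g, hg⟩ : q.primeCompl)
  letI : Algebra (Localization.Away g) (Localization.AtPrime q) :=
    (IsLocalization.Away.lift g hgu).toAlgebra
  haveI : IsScalarTower C (Localization.Away g) (Localization.AtPrime q) :=
    IsScalarTower.of_algebraMap_eq (fun c => (IsLocalization.Away.lift_eq g hgu c).symm)
  haveI : IsScalarTower A (Localization.Away g) (Localization.AtPrime q) :=
    IsScalarTower.of_algebraMap_eq (fun a => by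
      rw [IsScalarTower.algebraMap_apply A C (Localization.AtPrime q),
        IsScalarTower.algebraMap_apply A C (Localization.Away g),
        ← IsScalarTower.algebraMap_apply C (Localization.Away g) (Localization.AtPrime q)])
  have hle : Submonoid.powers g ≤ q.primeCompl := Submonoid.powers_le.mpr hg
  haveI : IsLocalization (q.primeCompl.map (algebraMap C (Localization.Away g)))
      (Localization.AtPrime q) :=
    IsLocalization.isLocalization_of_submonoid_le (Localization.Away g) (Localization.AtPrime q)
      (Submonoid.powers g) q.primeCompl hle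
  haveI : Algebra.WeaklyEtale (Localization.Away g) (Localization.AtPrime q) :=
    Groth.Agent.S6001Aux.weaklyEtale_of_isLocalization (q.primeCompl.map (algebraMap C (Localization.Away g)))
  haveI : Algebra.WeaklyEtale A (Localization.AtPrime q) :=
    Algebra.WeaklyEtale.trans A (Localization.Away g) _
  -- local structure
  haveI : IsLocalHom (algebraMap A (Localization.AtPrime q)) := by
    refine ⟨fun a ha => ?_⟩
    rw [IsScalarTower.algebraMap_apply A C (Localization.AtPrime q)] at ha
    have h2 := (IsLocalization.AtPrime.isUnit_to_map_iff (Localization.AtPrime q) q _).mp ha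
    by_contra hnu
    have h3 : a ∈ IsLocalRing.maximalIdeal A := (IsLocalRing.mem_maximalIdeal a).mpr hnu
    rw [← hq] at h3
    exact h2 h3
  haveI : IsNoetherianRing C := Algebra.FiniteType.isNoetherianRing A C
  haveI : IsNoetherianRing (Localization.AtPrime q) :=
    IsLocalization.isNoetherianRing q.primeCompl _ inferInstance
  haveI : Algebra.EssFiniteType C (Localization.AtPrime q) :=
    Algebra.EssFiniteType.of_isLocalization _ q.primeCompl
  haveI : Algebra.EssFiniteType A (Localization.AtPrime q) :=
    Algebra.EssFiniteType.comp A C _
  haveI : Algebra.FormallyEtale A (Localization.AtPrime q) := hC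
  haveI : Algebra.QuasiFinite A (Localization.AtPrime q) := inferInstance
  haveI hNE : IsNoetherianRing (Localization.AtPrime q ⊗[A] EGA4.Cpl A) :=
    Groth.Agent.Lib.Helper26.QFFormal3.isNoetherianRing_tensor A (Localization.AtPrime q)
  haveI : Module.FaithfullyFlat A (EGA4.Cpl A) := Module.FaithfullyFlat.of_flat_of_isLocalHom
  obtain ⟨n', hn'p, hn'lo⟩ := Ideal.exists_isPrime_liesOver_of_faithfullyFlat
    (B := Localization.AtPrime q ⊗[A] EGA4.Cpl A) (IsLocalRing.maximalIdeal (Localization.AtPrime q))
  haveI := hn'p
  have h1 : n'.comap (algebraMap (Localization.AtPrime q)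
      (Localization.AtPrime q ⊗[A] EGA4.Cpl A)) = IsLocalRing.maximalIdeal (Localization.AtPrime q) :=
    hn'lo.over.symm
  haveI : IsLocalHom (algebraMap (Localization.AtPrime q) (Localization.AtPrime n')) :=
    Groth.Agent.Lib.Helper26.QFFormal2.isLocalHom_localization A (Localization.AtPrime q) n' h1
  haveI : IsNoetherianRing (Localization.AtPrime n') :=
    IsLocalization.isNoetherianRing n'.primeCompl _ inferInstance
  haveI : IsAdicComplete (R := Localization.AtPrime n') (IsLocalRing.maximalIdeal _)
      (Localization.AtPrime n') :=
    Groth.Agent.Lib.Helper26.QFFormal3.isAdicComplete_localization A (Localization.AtPrime q) n' h1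
  have hbij := Groth.Agent.Lib.Helper26.QFFormal2.cplMap_bijective A (Localization.AtPrime q) n' h1
  let e : EGA4.Cpl (Localization.AtPrime q) ≃+* Localization.AtPrime n' :=
    Groth.Agent.Lib.Helper26.QFFormal2.cplEquivOfBijective (Localization.AtPrime q)
      (Localization.AtPrime n') hbij
  -- reducedness
  haveI : IsReduced (EGA4.Cpl A) := hA
  haveI : IsReduced (EGA4.Cpl A ⊗[A] Localization.AtPrime q) :=
    Groth.Agent.S7128.result (EGA4.Cpl A) (EGA4.Cpl A ⊗[A] Localization.AtPrime q)
  haveI : IsReduced (Localization.AtPrime q ⊗[A] EGA4.Cpl A) :=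
    Groth.Agent.Lib.Helper14.FiniteDomain.isReduced_of_ringEquiv
      (Algebra.TensorProduct.comm A (EGA4.Cpl A) (Localization.AtPrime q)).toRingEquiv
  haveI : IsReduced (Localization.AtPrime n') :=
    isReduced_localizationPreserves n'.primeCompl (Localization.AtPrime n') inferInstance
  haveI hBc : IsReduced (EGA4.Cpl (Localization.AtPrime q)) := by
    refine ⟨fun x hx => ?_⟩
    obtain ⟨k, hk⟩ := hx
    have hnil : IsNilpotent (e x) := ⟨k, by rw [← map_pow, hk, map_zero]⟩
    have h0 : e x = 0 := IsReduced.eq_zero _ hnil
    exact e.injective (h0.trans (map_zero e).symm)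
  haveI : Module.FaithfullyFlat (Localization.AtPrime q) (EGA4.Cpl (Localization.AtPrime q)) :=
    Module.FaithfullyFlat.of_flat_of_isLocalHom
  exact ⟨hBc, isReduced_of_injective (algebraMap (Localization.AtPrime q)
    (EGA4.Cpl (Localization.AtPrime q))) (FaithfulSMul.algebraMap_injective _ _)⟩

end Groth.Agent.S6001
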