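import Groth.Statements.S6011
import Groth.Agent.Lib.Helper11.ActA

set_option autoImplicit false
universe u
open CategoryTheory AlgebraicGeometry
open SGA1

namespace Groth.Agent.S6011

open MonoidalCategory CartesianMonoidalCategory MonObj GrpObj Groth.Agent.Lib.Helper11.ActA in
theorem fwd {S : Scheme.{u}} (G X : Over S) [GrpObj G] (a : AlgGrp.Action G X)
    (e : NonAbH1.EquivIso (NonAbH1.trivialAction G) a) :
    NonAbH1.IsPseudoTorsorSch a ∧ NonAbH1.HasSectionOver X (𝟙 S) := by
  constructor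
  · have h0 : IsIso (lift μ[G] (snd G G)) := NonAbH1.isPseudoTorsorSch_trivialAction G
    have hc : μ[G] ≫ e.iso.hom = (G ◁ e.iso.hom) ≫ a.act := e.comm
    have h1 : (G ◁ e.iso.hom) ≫ lift a.act (snd G X) =
        lift μ[G] (snd G G) ≫ (e.iso.hom ⊗ₘ e.iso.hom) := by
      refine CartesianMonoidalCategory.hom_ext _ _ ?_ ?_
      · rw [Category.assoc, lift_fst, Category.assoc, tensorHom_fst, ← Category.assoc, lift_fst, hc]
      · rw [Category.assoc, lift_snd, Category.assoc, tensorHom_snd, ← Category.assoc, lift_snd,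
          whiskerLeft_snd]
    have h2 : lift a.act (snd G X) =
        (G ◁ e.iso.inv) ≫ lift μ[G] (snd G G) ≫ (e.iso.hom ⊗ₘ e.iso.hom) := by
      rw [← h1, ← Category.assoc, ← MonoidalCategory.whiskerLeft_comp, Iso.inv_hom_id,
        MonoidalCategory.whiskerLeft_id, Category.id_comp]
    change IsIso (lift a.act (snd G X))
    rw [h2]
    infer_instance
  · refine ⟨(η[G] ≫ e.iso.hom).left, ?_⟩
    exact Over.w (η[G] ≫ e.iso.hom)

open MonoidalCategory CartesianMonoidalCategory MonObj GrpObj Groth.Agent.Lib.Helper11.ActA in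
theorem bwd {S : Scheme.{u}} (G X : Over S) [GrpObj G] (a : AlgGrp.Action G X)
    (hΨ : IsIso (lift a.act (snd G X))) (s : S ⟶ X.left) (hs : s ≫ X.hom = 𝟙 S) :
    Nonempty (NonAbH1.EquivIso (NonAbH1.trivialAction G) a) := by
  let x : 𝟙_ (Over S) ⟶ X := Over.homMk s (by simpa using hs)
  let hom : G ⟶ X := actT a (𝟙 G) (toUnit G ≫ x)
  let p : X ⟶ G ⊗ X := lift (𝟙 X) (toUnit X ≫ x) ≫ inv (lift a.act (snd G X))
  have hp : p ≫ lift a.act (snd G X) = lift (𝟙 X) (toUnit X ≫ x) := by
    simp only [p, Category.assoc, IsIso.inv_hom_id, Category.comp_id]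
  have hp1 : p ≫ a.act = 𝟙 X := by
    have := congrArg (· ≫ fst X X) hp
    simpa only [Category.assoc, lift_fst] using this
  have hp2 : p ≫ snd G X = toUnit X ≫ x := by
    have := congrArg (· ≫ snd X X) hp
    simpa only [Category.assoc, lift_snd] using this
  have hh : lift (𝟙 G) (toUnit G ≫ x) ≫ lift a.act (snd G X) = hom ≫ lift (𝟙 X) (toUnit X ≫ x) := by
    refine CartesianMonoidalCategory.hom_ext _ _ ?_ ?_
    · rw [Category.assoc, lift_fst, Category.assoc, lift_fst, Category.comp_id]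
      rfl
    · rw [Category.assoc, lift_snd, lift_snd, Category.assoc, lift_snd, ← Category.assoc]
      exact congrArg (· ≫ x) (toUnit_unique (toUnit G) (hom ≫ toUnit X))
  refine ⟨⟨⟨hom, p ≫ fst G X, ?_, ?_⟩, ?_⟩⟩
  · -- hom ≫ inv = 𝟙 G
    have : hom ≫ p = lift (𝟙 G) (toUnit G ≫ x) := by
      simp only [p]
      rw [← Category.assoc, ← hh, Category.assoc, IsIso.hom_inv_id, Category.comp_id]
    rw [← Category.assoc, this, lift_fst]
  · -- inv ≫ hom = 𝟙 X
    change (p ≫ fst G X) ≫ actT a (𝟙 G) (toUnit G ≫ x) = 𝟙 X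
    rw [comp_actT, Category.comp_id, ← Category.assoc,
      show (p ≫ fst G X) ≫ toUnit G = toUnit X from toUnit_unique _ _, ← hp2]
    change lift (p ≫ fst G X) (p ≫ snd G X) ≫ a.act = 𝟙 X
    rw [← comp_lift, lift_fst_snd, Category.comp_id, hp1]
  · -- comm
    change μ[G] ≫ actT a (𝟙 G) (toUnit G ≫ x) = (G ◁ hom) ≫ a.act
    rw [comp_actT, Category.comp_id, ← Category.assoc,
      show μ[G] ≫ toUnit G = toUnit (G ⊗ G) from toUnit_unique _ _]
    have hμ : (μ[G] : G ⊗ G ⟶ G) = fst G G * snd G G := by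
      rw [Hom.mul_def, lift_fst_snd, Category.id_comp]
    rw [hμ, mul_actT]
    have h3 : (G ◁ hom) = lift (fst G G) (snd G G ≫ hom) := by
      refine CartesianMonoidalCategory.hom_ext _ _ ?_ ?_
      · rw [whiskerLeft_fst, lift_fst]
      · rw [whiskerLeft_snd, lift_snd]
    rw [h3]
    change _ = actT a (fst G G) (snd G G ≫ actT a (𝟙 G) (toUnit G ≫ x))
    rw [comp_actT, Category.comp_id, ← Category.assoc,
      show snd G G ≫ toUnit G = toUnit (G ⊗ G) from toUnit_unique _ _]

/-- An S-scheme X with an action of the S-group G is trivial — equivariantly isomorphic over S to G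
acting on itself by translation — if and only if it is formally principal homogeneous (a
pseudo-torsor) and admits a section over S. -/
theorem result {S : Scheme.{u}}
    (G X : Over S) [GrpObj G] (a : AlgGrp.Action G X) :
    Nonempty (NonAbH1.EquivIso (NonAbH1.trivialAction G) a) ↔
      (NonAbH1.IsPseudoTorsorSch a ∧ NonAbH1.HasSectionOver X (𝟙 S)) := by
  constructor
  · rintro ⟨e⟩
    exact fwd G X a e
  · rintro ⟨hΨ, s, hs⟩
    exact bwd G X a hΨ s hs

end Groth.Agent.S6011
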