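import Groth.Statements.S6019
-- import your own Groth.Agent.* helpers here
import Mathlib
import Groth.Agent.Lib.Helper23.Clv

set_option autoImplicit false
open CategoryTheory
universe v₁ v₂ u₁ u₂
open FibCat FibCat.Cleavage

namespace Groth.Agent.S6019

set_option backward.isDefEq.respectTransparency false
set_option backward.isDefEq.respectTransparency.types false

theorem aux1 {𝒮 : Type u₁} {𝒳 : Type u₂} [Category.{v₁} 𝒮] [Category.{v₂} 𝒳] (p : 𝒳 ⥤ 𝒮)
    {x y : 𝒳} (hxy : x = y) : p.IsCartesian (𝟙 (p.obj y)) (eqToHom hxy) := by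
  subst hxy
  rw [eqToHom_refl]
  infer_instance

theorem aux2 {𝒮 : Type u₁} {𝒳 : Type u₂} [Category.{v₁} 𝒮] [Category.{v₂} 𝒳] (p : 𝒳 ⥤ 𝒮)
    {x x' a : 𝒳} (hx : x = x') {R S : 𝒮} (f : R ⟶ S) (φ : x' ⟶ a) [hφ : p.IsCartesian f φ] :
    p.IsCartesian f (eqToHom hx ≫ φ) := by
  subst hx
  rw [eqToHom_refl, Category.id_comp]
  exact hφ

/-- A pre-fibred category admits a normalised cleavage: if every base morphism `R ⟶ p(a)` has a
cartesian morphism over it with target `a`, then one cartesian lift can be chosen for every base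
morphism at every object over its target in such a way that the chosen lift of each identity `𝟙 S`
at each object `a` over `S` is the identity of `a` (identities are transport morphisms). -/
theorem result (𝒮 : Type u₁) (𝒳 : Type u₂) [Category.{v₁} 𝒮] [Category.{v₂} 𝒳]
    (p : 𝒳 ⥤ 𝒮) [p.IsPreFibered] : ∃ K : FibCat.Cleavage p, K.IsNormalised := by
  classical
  refine ⟨{ obj := fun {R S a} ha f =>
              if ∃ e : R = S, f = eqToHom e then a else Functor.IsPreFibered.pullbackObj ha f
            lift := fun {R S a} ha f =>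
              if h : ∃ e : R = S, f = eqToHom e then eqToHom (if_pos h)
              else eqToHom (if_neg h) ≫ Functor.IsPreFibered.pullbackMap ha f
            isCartesian := ?_ }, ?_⟩
  · intro R S a ha f
    split_ifs with h
    · obtain ⟨e, rfl⟩ := h
      subst e
      subst ha
      exact aux1 p _
    · exact aux2 p _ f _
  · intro S a ha
    have hc : ∃ e : S = S, 𝟙 S = eqToHom e := ⟨rfl, (eqToHom_refl _ _).symm⟩
    exact ⟨if_pos hc, dif_pos hc⟩

end Groth.Agent.S6019
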