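import Groth.Statements.S6025
import Groth.Agent.Lib.Helper2.LocCohZ.OpenSES
import Groth.Agent.Lib.Helper2.GSS.FunctorSESZero
-- import your own Groth.Agent.* helpers here

set_option autoImplicit false
universe u
open CategoryTheory CategoryTheory.Limits TopologicalSpace
open LocCohZ
open Groth.Agent.Lib.Helper2

namespace Groth.Agent.S6025

/-- Let X be a topological space, A a closed subset with open complement U and f : U → X the inclusion.
Then the functor ℋ^1_A is isomorphic to the cokernel of the unit F → f_* f⁻¹ F (so that 0 → ℋ^0_A(F)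
→ F → f_*(F|_U) → ℋ^1_A(F) → 0 is exact), and for every i ≥ 1 the functor ℋ^{i+1}_A is isomorphic to
F ↦ R^i f_*(F|_U). (Existence of isomorphisms of functors only; the maps of the four-term sequence
other than the kernel inclusion are not pinned.) -/
theorem result {X : TopCat.{u}} (U : Opens X) :
    Nonempty (LocCohZ.HZsh U 1 ≅
      cokernel (TopCat.Sheaf.pullbackPushforwardAdjunction AddCommGrpCat.{u} (CohCx.incl U)).unit) ∧
      ∀ i : ℕ, 1 ≤ i →
        Nonempty (LocCohZ.HZsh U (i + 1) ≅ CohTop.pull (CohCx.incl U) ⋙ CohTop.Rpush (CohCx.incl U) i) := by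
  classical
  let α := LocCohZLib.sectSuppιN U
  let β := (LocCohZLib.adjPull U).unit
  have hαβ : α ≫ β = 0 := LocCohZLib.sectSuppιN_comp_unit U
  have hI := LocCohZLib.shortExact_of_injective U
  have hz : ∀ (k : ℕ) (F : CohTop.Ab X), IsZero (((𝟭 (CohTop.Ab X)).rightDerived (k + 1)).obj F) :=
    fun k F => Groth.Agent.Lib.Helper13.DerivedExact.isZero_rightDerived_succ_of_exact _ k F
  refine ⟨?_, ?_⟩
  · haveI : PreservesFiniteLimits (LocCohZLib.pullPush U) := by
      unfold LocCohZLib.pullPush
      haveI : PreservesLimitsOfSize.{0, 0} (CohTop.push (CohCx.incl U)) :=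
        (LocCohZLib.adjPull U).rightAdjoint_preservesLimits
      infer_instance
    haveI := FunctorSES.isIso_cokernel_desc_delta0 α β hαβ hI (fun F => hz 0 F)
    exact ⟨(asIso (cokernel.desc β (FunctorSES.delta0 α β hαβ hI)
      (FunctorSES.comp_delta0 α β hαβ hI))).symm⟩
  · intro i hi
    obtain ⟨k, rfl⟩ : ∃ k, i = k + 1 := ⟨i - 1, by omega⟩
    haveI := FunctorSES.isIso_delta α β hαβ hI (k + 1) (fun F => hz k F) (fun F => hz (k + 1) F)
    exact ⟨(asIso (FunctorSES.delta α β hαβ hI (k + 1))).symm ≪≫
      NatDerived.rightDerivedExactCompIso (CohTop.pull (CohCx.incl U))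
        (fun I hI' => LocCohZLib.injective_pull U I) (CohTop.push (CohCx.incl U)) (k + 1)⟩

end Groth.Agent.S6025
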