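import Groth.Statements.S6024
import Groth.Agent.Lib.Helper2.LocCohZ.Basic
-- import your own Groth.Agent.* helpers here

set_option autoImplicit false
universe u
open CategoryTheory CategoryTheory.Limits TopologicalSpace
open LocCohZ

namespace Groth.Agent.S6024

/-- Consider a topological space X carrying a sheaf of abelian groups F, and assume that H^1_Z(X, F)
vanishes for each closed subset Z of X (writing Z = X − U with U open). Under this assumption, F is
flasque. -/
theorem result {X : TopCat.{u}} (F : CohTop.Ab X)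
    (h : ∀ U : Opens X, Subsingleton (LocCohZ.HZc F 1 U)) : TopCat.Sheaf.IsFlasque F := by
  refine ⟨fun {V' W'} i => ?_⟩
  rw [AddCommGrpCat.epi_iff_surjective]
  intro s
  obtain ⟨V⟩ := V'
  obtain ⟨W⟩ := W'
  have hS := LocCohZ.zqSeq_shortExact (le_top : W ≤ ⊤)
  haveI := h W
  have hx : hS.extClass.comp (Abelian.Ext.mk₀
      (CohFree.ofSect (Opens.grothendieckTopology X) W F s)) (rfl : 1 + 0 = 1) = 0 :=
    Subsingleton.elim (α := LocCohZ.HZc F 1 W) _ _
  obtain ⟨x₂, hx₂⟩ := Abelian.Ext.contravariant_sequence_exact₁ hS F _ rfl hx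
  obtain ⟨ψ, rfl⟩ := (Abelian.Ext.mk₀_bijective _ _).surjective x₂
  rw [Abelian.Ext.mk₀_comp_mk₀] at hx₂
  have hψ := (Abelian.Ext.mk₀_bijective _ _).injective hx₂
  have h1 := CohFree.evalGen_freeSheafMap_comp (Opens.grothendieckTopology X)
    (homOfLE (le_top : W ≤ ⊤)) F ψ
  have hψ' : CohCx.freeSheafMap (Opens.grothendieckTopology X)
      (homOfLE (le_top : W ≤ ⊤)) ≫ ψ =
      CohFree.ofSect (Opens.grothendieckTopology X) W F s := hψ
  rw [hψ', CohFree.evalGen_ofSect] at h1
  refine ⟨(F.obj.map (homOfLE (le_top : V ≤ ⊤)).op).hom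
    (CohFree.evalGen (Opens.grothendieckTopology X) ⊤ F ψ), ?_⟩
  rw [h1]
  have e : (homOfLE (le_top : W ≤ ⊤)).op = (homOfLE (le_top : V ≤ ⊤)).op ≫ i :=
    Subsingleton.elim _ _
  rw [e, F.obj.map_comp]
  rfl

end Groth.Agent.S6024
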