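import Groth.Statements.S6027
import Groth.Agent.Lib.Helper2.LocCohZ.Global
import Groth.Agent.Lib.Helper2.GSS.DerivedDFun
-- import your own Groth.Agent.* helpers here

set_option autoImplicit false
universe u
open CategoryTheory CategoryTheory.Limits TopologicalSpace
open LocCohZ

open Groth.Agent.Lib.Helper2 Opposite

namespace Groth.Agent.S6027

/-- The case of a closed subset. Let X be a topological space and Z a closed subset with open complement
U. For every q the q-th right derived functor of F ↦ Γ_Z(X, F) is isomorphic to the functor F ↦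
Ext^q(ℤ_{Z,X}, F), where ℤ_{Z,X} = ℤ_X/ℤ_U. (Existence of an isomorphism of functors for each q;
compatibility with connecting maps is not asserted.) -/
theorem result {X : TopCat.{u}} (U : Opens X) (q : ℕ) :
    Nonempty (LocCohZ.RHZ U q ≅ ToposFin.HZFunctor (LocCohZ.openSh U) q) := by
  let J := Opens.grothendieckTopology X
  -- sections over `⊤` are `Hom(ℤ_X, -)`
  let e1 : GSS.homF (CohCx.freeSheaf J (⊤ : Opens X)) ≅
      sheafToPresheaf J AddCommGrpCat.{u} ⋙ (evaluation (Opens X)ᵒᵖ AddCommGrpCat.{u}).obj (op ⊤) :=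
    NatIso.ofComponents (fun F => (CohFree.homEquivSect J ⊤ F).toAddCommGrpIso) (by
      intro F G φ
      rfl)
  let ε : LocCohZ.gammaZF U ≅ GSS.homF (ToposFin.quotZ (LocCohZ.openSh U)) :=
    (Functor.isoWhiskerLeft (LocCohZ.sectSuppF U) e1.symm ≪≫ (LocCohZLib.homFZqSectSuppIso U).symm) ≪≫
      GSS.homFIsoOfIso (LocCohZ.zqIsoQuotZ U)
  haveI : PreservesFiniteLimits (LocCohZ.gammaZF U) := preservesFiniteLimits_of_natIso ε.symm
  exact DerivedDFun.nonempty_rightDerived_iso_ext _ (LocCohZ.gammaZF U) ε q

end Groth.Agent.S6027
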