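import Groth.Statements.S6029
import Groth.Agent.Lib.Helper2.GSS.Main
import Groth.Agent.Lib.Helper2.LocCohZ.Global
import Groth.Agent.Lib.Helper13.DerivedCommute
-- import your own Groth.Agent.* helpers here

set_option autoImplicit false
universe u
open CategoryTheory CategoryTheory.Limits TopologicalSpace
open LocCohZ

namespace Groth.Agent.S6029

/-- For a closed subset Z = X − U of a topological space X and an abelian sheaf F on X: there is an E₂
spectral sequence of abelian groups with E₂^{p,q} ≅ H^p(X, ℋ^q_Z(F)) for p, q ≥ 0 (and 0 otherwise),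
bounded, abutting with finite filtrations to H^n_Z(X, F) (n ≥ 0; 0 for n < 0). (Existence only: the
E₂ identifications and the abutment isomorphisms are some isomorphisms, not the canonical maps of a
construction, so edge maps and low-degree exact sequences are not part of this statement.) -/
theorem result {X : TopCat.{u}} (F : CohTop.Ab X) (U : Opens X) :
    ∃ (E : E₂CohomologicalSpectralSequence AddCommGrpCat.{u})
      (a : SpSeq.Abutment E (fun n : ℤ =>
        if 0 ≤ n then AddCommGrpCat.of (LocCohZ.HZc F n.toNat U) else AddCommGrpCat.of PUnit.{u + 1})),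
      (∀ n : ℤ, a.IsFinite n) ∧ SpSeq.IsBounded E ∧
      ∀ p q : ℤ, Nonempty ((E.page 2 le_rfl).X (p, q) ≅
        (if 0 ≤ p ∧ 0 ≤ q then AddCommGrpCat.of (CohTop.HU ((LocCohZ.HZsh U q.toNat).obj F) p.toNat ⊤)
          else AddCommGrpCat.of PUnit.{u + 1})) := by
  have hZ : IsZero (AddCommGrpCat.of PUnit.{u + 1}) := AddCommGrpCat.isZero_of_subsingleton _
  have hT : ∀ Q : CohTop.Ab X, Injective Q → ∀ q : ℕ, 0 < q →
      IsZero (((Groth.Agent.Lib.Helper2.GSS.homF
        (CohCx.freeSheaf (Opens.grothendieckTopology X) (⊤ : Opens X))).rightDerived q).obj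
          ((LocCohZ.sectSuppF U).obj Q)) := by
    intro Q hQ q hq
    obtain ⟨q', rfl⟩ : ∃ q', q = q' + 1 := ⟨q - 1, by omega⟩
    haveI := Groth.Agent.Lib.Helper1.FlasqueAcyclic.isFlasque_of_injective Q
    haveI : TopCat.Sheaf.IsFlasque ((LocCohZ.sectSuppF U).obj Q) :=
      Groth.Agent.Lib.Helper2.LocCohZLib.isFlasque_sectSupp U Q
    refine IsZero.of_iso ?_ (Groth.Agent.Lib.Helper2.GSS.rightDerivedHomFIso _ _ (q' + 1))
    have hsub : Subsingleton (Abelian.Ext (CohCx.freeSheaf (Opens.grothendieckTopology X) (⊤ : Opens X))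
        ((LocCohZ.sectSuppF U).obj Q) (q' + 1)) :=
      Groth.Agent.Lib.Helper1.FlasqueAcyclic.flasque_HU_subsingleton _ ⊤ q'
    exact @AddCommGrpCat.isZero_of_subsingleton _ hsub
  exact Groth.Agent.Lib.Helper2.GSS.grothendieck_ss_ite (LocCohZ.sectSuppF U)
    (Groth.Agent.Lib.Helper2.GSS.homF
      (CohCx.freeSheaf (Opens.grothendieckTopology X) (⊤ : Opens X))) hT F
    (fun n => AddCommGrpCat.of (LocCohZ.HZc F n U))
    (fun n => ⟨(Groth.Agent.Lib.Helper2.GSS.rightDerivedHomFIso _ F n).symm ≪≫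
      Groth.Agent.Lib.Helper13.DerivedCommute.rightDerivedObjIsoOfNatIso
        (Groth.Agent.Lib.Helper2.LocCohZLib.homFZqSectSuppIso U) n F⟩)
    (fun p q => AddCommGrpCat.of (CohTop.HU ((LocCohZ.HZsh U q).obj F) p ⊤))
    (fun p q => ⟨(Groth.Agent.Lib.Helper2.GSS.rightDerivedHomFIso _ _ p).symm⟩)
    (AddCommGrpCat.of PUnit.{u + 1}) (AddCommGrpCat.of PUnit.{u + 1}) hZ hZ

end Groth.Agent.S6029
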