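import Groth.Statements.S6032
import Groth.Agent.Lib.Lead.KosLocCoh
-- import your own Groth.Agent.* helpers here

set_option autoImplicit false
set_option linter.style.haveILetI false
set_option linter.unusedSectionVars false
set_option linter.unusedVariables false
universe u
open CategoryTheory CategoryTheory.Limits TopologicalSpace AlgebraicGeometry
open LocCohZ

namespace Groth.Agent.S6032

section aux

open Opposite
open Groth.Agent.Lib.Lead.KosTransport Groth.Agent.Lib.Lead.KosLocCoh
  Groth.Agent.Lib.Helper4.KosLim Groth.Agent.Lib.Lead.KosGeo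

variable (A : Type u) [CommRing A]

/-- `A ≃ Γ(Spec A, ⊤)`. -/
noncomputable def eΓ : A ≃+* Γ(Spec (CommRingCat.of A), ⊤) :=
  (Scheme.ΓSpecIso (CommRingCat.of A)).symm.commRingCatIsoToRingEquiv

lemma eΓ_apply (a : A) : eΓ A a = (Scheme.ΓSpecIso (CommRingCat.of A)).inv a := rfl

lemma basicOpen_eΓ (a : A) :
    (Spec (CommRingCat.of A)).basicOpen (eΓ A a) = PrimeSpectrum.basicOpen a :=
  basicOpen_eq_of_affine (R := CommRingCat.of A) a

lemma puncturedOpen_eq (fs : List A) :
    LocCoh.puncturedOpen A (Ideal.span {a | a ∈ fs}) =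
      ⨆ j : Fin (fs.map (eΓ A)).length,
        (Spec (CommRingCat.of A)).basicOpen ((fs.map (eΓ A)).get j) := by
  apply le_antisymm
  · intro x hx
    let y : PrimeSpectrum A := x
    have hy : y ∉ PrimeSpectrum.zeroLocus ((Ideal.span {a | a ∈ fs} : Ideal A) : Set A) := hx
    rw [PrimeSpectrum.zeroLocus_span, PrimeSpectrum.mem_zeroLocus, Set.not_subset] at hy
    obtain ⟨a, ha, hax⟩ := hy
    have ha' : eΓ A a ∈ fs.map (eΓ A) := List.mem_map.2 ⟨a, ha, rfl⟩
    obtain ⟨j, hj⟩ := List.mem_iff_get.mp ha'
    refine Opens.mem_iSup.2 ⟨j, ?_⟩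
    rw [hj, basicOpen_eΓ]
    exact hax
  · apply iSup_le
    intro j x hx
    obtain ⟨a, ha, hja⟩ := List.mem_map.1 (List.get_mem (fs.map (eΓ A)) j)
    rw [← hja, basicOpen_eΓ] at hx
    let y : PrimeSpectrum A := x
    change y ∉ PrimeSpectrum.zeroLocus ((Ideal.span {a | a ∈ fs} : Ideal A) : Set A)
    rw [PrimeSpectrum.zeroLocus_span, PrimeSpectrum.mem_zeroLocus, Set.not_subset]
    exact ⟨a, ha, hx⟩

variable (M : Type u) [AddCommGroup M] [Module A M]

/-- `M` (with scalars restricted) is the module of global sections of `M~`. -/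
noncomputable def tildeTopEquiv :
    (Phi (eΓ A)).obj (ModuleCat.of A M) ≃ₗ[Γ(Spec (CommRingCat.of A), ⊤)]
      M0 (AlgebraicGeometry.tilde (R := CommRingCat.of A) (ModuleCat.of A M)) where
  toFun m := (tilde.isoTop (R := CommRingCat.of A) (ModuleCat.of A M)).hom.hom m
  invFun s := (tilde.isoTop (R := CommRingCat.of A) (ModuleCat.of A M)).inv.hom s
  left_inv m := by
    change ((tilde.isoTop (R := CommRingCat.of A) (ModuleCat.of A M)).hom ≫
      (tilde.isoTop (R := CommRingCat.of A) (ModuleCat.of A M)).inv).hom m = m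
    rw [Iso.hom_inv_id]
    rfl
  right_inv s := by
    change ((tilde.isoTop (R := CommRingCat.of A) (ModuleCat.of A M)).inv ≫
      (tilde.isoTop (R := CommRingCat.of A) (ModuleCat.of A M)).hom).hom s = s
    rw [Iso.inv_hom_id]
    rfl
  map_add' a b := map_add _ a b
  map_smul' a' m := by
    have h1 : (tilde.isoTop (R := CommRingCat.of A) (ModuleCat.of A M)).hom.hom
        ((eΓ A).symm a' • (show M from m)) =
        (eΓ A).symm a' • (tilde.isoTop (R := CommRingCat.of A) (ModuleCat.of A M)).hom.hom m :=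
      map_smul _ _ _
    refine h1.trans ?_
    have h2 := Scheme.Modules.smul_Spec_def (R := CommRingCat.of A)
      (M := AlgebraicGeometry.tilde (R := CommRingCat.of A) (ModuleCat.of A M)) (U := ⊤)
      ((eΓ A).symm a')
      ((tilde.isoTop (R := CommRingCat.of A) (ModuleCat.of A M)).hom.hom m)
    refine h2.trans ?_
    have e1 : (Scheme.ΓSpecIso (CommRingCat.of A)).inv ((eΓ A).symm a') = a' :=
      (eΓ A).apply_symm_apply a'
    have e2 : (Spec (CommRingCat.of A)).presheaf.map
        (Opens.leTop (⊤ : (Spec (CommRingCat.of A)).Opens)).op = 𝟙 _ := by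
      have : (Opens.leTop (⊤ : (Spec (CommRingCat.of A)).Opens)) = 𝟙 _ := Subsingleton.elim _ _
      rw [this, op_id, CategoryTheory.Functor.map_id]
    rw [e2, e1]
    rfl

end aux

/-- Let A be a commutative ring, f = (f_1, …, f_r) a finite family of elements of A with zero locus Y in
X = Spec A, and M an A-module with associated sheaf M~. For every i the group colim_n H^i(f^n, M)
(direct limit of Koszul cohomology of the powers) is isomorphic to H^i_Y(X, M~). (Existence of an
additive isomorphism in each degree; the published statement has an isomorphism of ∂-functors in M.) -/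
theorem result (A : Type u) [CommRing A] (fs : List A) (M : Type u)
    [AddCommGroup M] [Module A M] (i : ℕ) :
    Nonempty (CohIII.koszulHLim fs (ModuleCat.of A M) i ≃+
      LocCohZ.HZM (Spec (CommRingCat.of A)) (AlgebraicGeometry.tilde (R := CommRingCat.of A) (ModuleCat.of A M)) i
        (LocCoh.puncturedOpen A (Ideal.span {a | a ∈ fs}))) := by
  rw [puncturedOpen_eq]
  obtain ⟨t1⟩ := Groth.Agent.Lib.Lead.KosTransport.nonempty_TT_transport (eΓ A) fs i
    (ModuleCat.of A M)
  let t2 := Groth.Agent.Lib.Lead.KosTransport.TTequivOfIso (fs.map (eΓ A))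
    (tildeTopEquiv A M).toModuleIso i
  obtain ⟨t3⟩ := Groth.Agent.Lib.Lead.KosLocCoh.nonempty_koszulHLim_equiv_HZM
    (Spec (CommRingCat.of A)) (fs.map (eΓ A))
    (AlgebraicGeometry.tilde (R := CommRingCat.of A) (ModuleCat.of A M)) i
  exact ⟨(t1.trans t2.toAddEquiv).trans t3⟩

end Groth.Agent.S6032
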