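import Groth.Statements.S6033
import Groth.Agent.S6032
import Groth.Agent.S6024
import Groth.Agent.Lib.Helper2.LocCohZ.Basic
-- import your own Groth.Agent.* helpers here

set_option autoImplicit false
set_option linter.style.haveILetI false
set_option linter.unusedSectionVars false
set_option linter.unusedVariables false
universe u
open CategoryTheory CategoryTheory.Limits TopologicalSpace AlgebraicGeometry
open LocCohZ

namespace Groth.Agent.S6033

section aux

variable (A : Type u) [CommRing A]

/-- flasque implies vanishing of the Koszul limit cohomology in positive degrees. -/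
lemma subsingleton_of_flasque (fs : List A) (M : Type u) [AddCommGroup M] [Module A M]
    (hF : TopCat.Sheaf.IsFlasque (Coh.toAb (AlgebraicGeometry.tilde (R := CommRingCat.of A)
      (ModuleCat.of A M)))) (i : ℕ) (hi : 0 < i) :
    Subsingleton (CohIII.koszulHLim fs (ModuleCat.of A M) i) := by
  obtain ⟨n, rfl⟩ : ∃ n, i = n + 1 := ⟨i - 1, by omega⟩
  obtain ⟨e⟩ := Groth.Agent.S6032.result A fs M (n + 1)
  haveI := hF
  haveI : Subsingleton (LocCohZ.HZM (Spec (CommRingCat.of A))
      (AlgebraicGeometry.tilde (R := CommRingCat.of A) (ModuleCat.of A M)) (n + 1)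
      (LocCoh.puncturedOpen A (Ideal.span {a | a ∈ fs}))) :=
    Groth.Agent.Lib.Helper2.LocCohZLib.flasque_HZ_subsingleton _ n _
  exact e.toEquiv.subsingleton

/-- every open of a Noetherian spectrum is the complement of the zero locus of a finite family. -/
lemma exists_list_eq_puncturedOpen [NoetherianSpace (PrimeSpectrum A)]
    (U : (Spec (CommRingCat.of A)).Opens) :
    ∃ fs : List A, U = LocCoh.puncturedOpen A (Ideal.span {a | a ∈ fs}) := by
  let s : Set (PrimeSpectrum A) := U.1
  have hc : IsCompact s := NoetherianSpace.isCompact _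
  have ho : IsOpen s := U.2
  obtain ⟨t, ht⟩ := PrimeSpectrum.isCompact_isOpen_iff.1 ⟨hc, ho⟩
  refine ⟨t.toList, ?_⟩
  apply Opens.ext
  change s =
    (PrimeSpectrum.zeroLocus ((Ideal.span {a | a ∈ t.toList} : Ideal A) : Set A))ᶜ
  rw [← ht, PrimeSpectrum.zeroLocus_span]
  congr 2
  ext a
  simp

end aux

/-- Let A be a commutative ring such that the underlying space of X = Spec A is Noetherian. Then M~ is
flasque for every injective A-module M if and only if colim_n H^1(f^n, M) = 0 (direct limit of
Koszul cohomology of the powers) for every finite family f of elements of A and every injective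
A-module M; and in that case colim_n H^i(f^n, M) = 0 for all i > 0 as well. -/
theorem result (A : Type u) [CommRing A]
    [NoetherianSpace (PrimeSpectrum A)] :
    ((∀ (M : Type u) [AddCommGroup M] [Module A M], Module.Injective A M →
        TopCat.Sheaf.IsFlasque (Coh.toAb (AlgebraicGeometry.tilde (R := CommRingCat.of A) (ModuleCat.of A M)))) ↔
      ∀ (fs : List A) (M : Type u) [AddCommGroup M] [Module A M], Module.Injective A M →
        Subsingleton (CohIII.koszulHLim fs (ModuleCat.of A M) 1)) ∧
    ((∀ (M : Type u) [AddCommGroup M] [Module A M], Module.Injective A M →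
        TopCat.Sheaf.IsFlasque (Coh.toAb (AlgebraicGeometry.tilde (R := CommRingCat.of A) (ModuleCat.of A M)))) →
      ∀ (fs : List A) (M : Type u) [AddCommGroup M] [Module A M], Module.Injective A M →
        ∀ i : ℕ, 0 < i → Subsingleton (CohIII.koszulHLim fs (ModuleCat.of A M) i)) := by
  refine ⟨⟨fun h fs M _ _ hM => subsingleton_of_flasque A fs M (h M hM) 1 Nat.one_pos,
    fun h M _ _ hM => ?_⟩, fun h fs M _ _ hM i hi => subsingleton_of_flasque A fs M (h M hM) i hi⟩
  apply Groth.Agent.S6024.result
  intro U
  obtain ⟨fs, rfl⟩ := exists_list_eq_puncturedOpen A U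
  obtain ⟨e⟩ := Groth.Agent.S6032.result A fs M 1
  haveI := h fs M hM
  exact e.symm.toEquiv.subsingleton

end Groth.Agent.S6033
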