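import Groth.Statements.S6037
import Groth.Agent.Lib.Helper2.GSS.Main
import Groth.Agent.Lib.Helper2.LocCohZ.Push
import Groth.Agent.Lib.Helper13.DerivedCommute
-- import your own Groth.Agent.* helpers here

set_option autoImplicit false
universe u
open CategoryTheory CategoryTheory.Limits TopologicalSpace
open LocCohZ

namespace Groth.Agent.S6037

/-- Let f : X → Y be a continuous map of topological spaces, Y' a closed subset of Y with open
complement V, X' = f⁻¹(Y') and F an abelian sheaf on X. There is an E₂ spectral sequence of abelian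
groups with E₂^{p,q} ≅ H^p_{Y'}(Y, R^q f_* F) for p, q ≥ 0 (0 otherwise), bounded, abutting with
finite filtrations to H^n_{X'}(X, F). (The published statement is for a morphism of ringed spaces
and records module structures over the global sections of O_Y; here only abelian groups. Existence
only: the E₂ identifications and abutment isomorphisms are some isomorphisms, not the canonical
ones.) -/
theorem result {X Y : TopCat.{u}} (f : X ⟶ Y)
    (V : Opens Y) (F : CohTop.Ab X) :
    ∃ (E : E₂CohomologicalSpectralSequence AddCommGrpCat.{u})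
      (a : SpSeq.Abutment E (fun n : ℤ =>
        if 0 ≤ n then AddCommGrpCat.of (LocCohZ.HZc F n.toNat ((Opens.map f).obj V))
          else AddCommGrpCat.of PUnit.{u + 1})),
      (∀ n : ℤ, a.IsFinite n) ∧ SpSeq.IsBounded E ∧
      ∀ p q : ℤ, Nonempty ((E.page 2 le_rfl).X (p, q) ≅
        (if 0 ≤ p ∧ 0 ≤ q then AddCommGrpCat.of (LocCohZ.HZc ((CohTop.Rpush f q.toNat).obj F) p.toNat V)
          else AddCommGrpCat.of PUnit.{u + 1})) := by
  have hZ : IsZero (AddCommGrpCat.of PUnit.{u + 1}) := AddCommGrpCat.isZero_of_subsingleton _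
  have hT : ∀ Q : CohTop.Ab X, Injective Q → ∀ q : ℕ, 0 < q →
      IsZero (((Groth.Agent.Lib.Helper2.GSS.homF
        (LocCohZ.zq (le_top : V ≤ ⊤))).rightDerived q).obj ((CohTop.push f).obj Q)) := by
    intro Q hQ q hq
    obtain ⟨q', rfl⟩ : ∃ q', q = q' + 1 := ⟨q - 1, by omega⟩
    haveI := Groth.Agent.Lib.Helper1.FlasqueAcyclic.isFlasque_of_injective Q
    haveI : TopCat.Sheaf.IsFlasque ((CohTop.push f).obj Q) :=
      TopCat.Sheaf.IsFlasque.pushforward_isFlasque Q f
    refine IsZero.of_iso ?_ (Groth.Agent.Lib.Helper2.GSS.rightDerivedHomFIso _ _ (q' + 1))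
    haveI := Groth.Agent.Lib.Helper2.LocCohZLib.flasque_HZ_subsingleton (le_top : V ≤ ⊤) q'
      ((CohTop.push f).obj Q)
    exact AddCommGrpCat.isZero_of_subsingleton _
  exact Groth.Agent.Lib.Helper2.GSS.grothendieck_ss_ite (CohTop.push f)
    (Groth.Agent.Lib.Helper2.GSS.homF (LocCohZ.zq (le_top : V ≤ ⊤))) hT F
    (fun n => AddCommGrpCat.of (LocCohZ.HZc F n ((Opens.map f).obj V)))
    (fun n => ⟨(Groth.Agent.Lib.Helper2.GSS.rightDerivedHomFIso _ F n).symm ≪≫
      Groth.Agent.Lib.Helper13.DerivedCommute.rightDerivedObjIsoOfNatIso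
        (Groth.Agent.Lib.Helper2.LocCohZLib.homFZqPushIso f V) n F⟩)
    (fun p q => AddCommGrpCat.of (LocCohZ.HZc ((CohTop.Rpush f q).obj F) p V))
    (fun p q => ⟨(Groth.Agent.Lib.Helper2.GSS.rightDerivedHomFIso _ _ p).symm⟩)
    (AddCommGrpCat.of PUnit.{u + 1}) (AddCommGrpCat.of PUnit.{u + 1}) hZ hZ

end Groth.Agent.S6037
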