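import Groth.Statements.S6075
import Groth.Agent.Lib.Helper11.WD1

set_option autoImplicit false
universe u
open CategoryTheory CategoryTheory.Limits MonoidalCategory CartesianMonoidalCategory MonObj GrpObj AlgebraicGeometry
open SGA3

namespace Groth.Agent.S6075

open Groth.Agent.Lib.Helper11 in
theorem key (k : Type u) [Field k] [IsAlgClosed k]
    (G X : Over (Spec (CommRingCat.of k))) [GrpObj G] [LocallyOfFiniteType X.hom] (f : X ⟶ G)
    (S : Set (𝟙_ (Over (Spec (CommRingCat.of k))) ⟶ G))
    (hS : S = {g | ∃ p₀ : (𝟙_ (Over (Spec (CommRingCat.of k)))).left,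
      g.left.base p₀ ∈ Set.range f.left.base}) :
    ∀ l : List (𝟙_ (Over (Spec (CommRingCat.of k))) ⟶ G), (∀ y ∈ l, y ∈ S ∪ S⁻¹) →
      ∃ (n : ℕ) (x : Fin n → (𝟙_ (Over (Spec (CommRingCat.of k))) ⟶ X)) (ε : Fin n → Bool),
        (List.ofFn fun j : Fin n => if ε j then x j ≫ f else (x j ≫ f)⁻¹).prod = l.prod := by
  intro l
  induction l with
  | nil =>
    intro _
    exact ⟨0, fun j => j.elim0, fun j => j.elim0, by simp⟩
  | cons y l ih =>
    intro hl
    obtain ⟨n, x, ε, h⟩ := ih (fun z hz => hl z (List.mem_cons_of_mem _ hz))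
    have hy := hl y List.mem_cons_self
    rcases hy with hy | hy
    · rw [hS] at hy
      obtain ⟨p₀, xx, hxx⟩ := hy
      obtain ⟨Q, hQ⟩ := WD1.exists_kpt_lift f y xx p₀ hxx
      refine ⟨n + 1, Fin.cons Q x, Fin.cons true ε, ?_⟩
      rw [List.ofFn_succ, List.prod_cons, List.prod_cons]
      simp only [Fin.cons_zero, Fin.cons_succ, if_true]
      rw [h, hQ]
    · rw [Set.mem_inv, hS] at hy
      obtain ⟨p₀, xx, hxx⟩ := hy
      obtain ⟨Q, hQ⟩ := WD1.exists_kpt_lift f y⁻¹ xx p₀ hxx
      refine ⟨n + 1, Fin.cons Q x, Fin.cons false ε, ?_⟩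
      rw [List.ofFn_succ, List.prod_cons, List.prod_cons]
      simp only [Fin.cons_zero, Fin.cons_succ, Bool.false_eq_true, if_false]
      rw [h, hQ, _root_.inv_inv]

/-- Let k be an algebraically closed field, G a group scheme locally of finite type over k, X a
geometrically reduced k-scheme locally of finite type, and f : X → G a k-morphism. Consider the
k-points g of G whose underlying point lies under a word in f: there are a k-scheme T, a point p of
T, n ≥ 0, T-valued points x_1, …, x_n of X and signs such that the T-valued point f(x_1)^{±1} ⋯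
f(x_n)^{±1} of G maps p to the point of g. These k-points form exactly the subgroup of G(k)
generated by the k-points of G whose underlying point lies in the image of f. (Words of length zero
are allowed here, so that the unit is on both sides when X is empty; for nonempty X this changes
nothing, while the published statement, with words of positive length only, fails for empty X.) -/
theorem result (k : Type u) [Field k] [IsAlgClosed k]
    (G X : Over (Spec (CommRingCat.of k))) [GrpObj G] [LocallyOfFiniteType G.hom]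
    [LocallyOfFiniteType X.hom] [GeometricallyReduced X.hom] (f : X ⟶ G) :
    {g : 𝟙_ (Over (Spec (CommRingCat.of k))) ⟶ G | ∃ (n : ℕ) (T : Over (Spec (CommRingCat.of k))) (p : T.left) (p₀ : (𝟙_ (Over (Spec (CommRingCat.of k)))).left)
        (x : Fin n → (T ⟶ X)) (ε : Fin n → Bool), ((List.ofFn fun j : Fin n => if ε j then x j ≫ f else (x j ≫ f)⁻¹).prod : T ⟶ G).left.base p = g.left.base p₀} =
      ((Subgroup.closure {g : 𝟙_ (Over (Spec (CommRingCat.of k))) ⟶ G | ∃ p₀ : (𝟙_ (Over (Spec (CommRingCat.of k)))).left, g.left.base p₀ ∈ Set.range f.left.base} :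
        Subgroup (𝟙_ (Over (Spec (CommRingCat.of k))) ⟶ G)) : Set (𝟙_ (Over (Spec (CommRingCat.of k))) ⟶ G)) := by
  classical
  ext g
  simp only [Set.mem_ofPred_eq, SetLike.mem_coe]
  constructor
  · rintro ⟨n, T, p, p₀, x, ε, hw⟩
    have e1 : (List.ofFn fun j : Fin n => if ε j then x j ≫ f else (x j ≫ f)⁻¹).prod =
        Groth.Agent.Lib.Helper11.WD1.tup n x ≫ Groth.Agent.Lib.Helper11.WD1.uw f n ε :=
      (Groth.Agent.Lib.Helper11.WD1.tup_uw f n x ε).symm
    rw [e1] at hw
    haveI := Groth.Agent.Lib.Helper11.WD1.lft_pw X n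
    obtain ⟨Q, hQ⟩ := Groth.Agent.Lib.Helper11.WD1.exists_kpt_lift
      (Groth.Agent.Lib.Helper11.WD1.uw f n ε) g
      ((Groth.Agent.Lib.Helper11.WD1.tup n x).left.base p) p₀ hw
    obtain ⟨x', hx'⟩ := Groth.Agent.Lib.Helper11.WD1.exists_tup n Q
    rw [← hQ, hx', Groth.Agent.Lib.Helper11.WD1.tup_uw]
    refine Subgroup.list_prod_mem _ ?_
    intro y hy
    rw [List.mem_ofFn] at hy
    obtain ⟨j, rfl⟩ := hy
    have hgen : x' j ≫ f ∈ Subgroup.closure {g : 𝟙_ (Over (Spec (CommRingCat.of k))) ⟶ G |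
        ∃ p₀ : (𝟙_ (Over (Spec (CommRingCat.of k)))).left,
          g.left.base p₀ ∈ Set.range f.left.base} :=
      Subgroup.subset_closure ⟨p₀, ⟨(x' j).left.base p₀, rfl⟩⟩
    unfold Groth.Agent.Lib.Helper11.WD1.sgn
    split_ifs
    · exact hgen
    · exact inv_mem hgen
  · intro hg
    rw [← Subgroup.mem_toSubmonoid, Subgroup.closure_toSubmonoid] at hg
    obtain ⟨l, hl, rfl⟩ := Submonoid.exists_list_of_mem_closure hg
    obtain ⟨n, x, ε, h⟩ := key k G X f _ rfl l hl
    let p₀ : (𝟙_ (Over (Spec (CommRingCat.of k)))).left :=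
      (Classical.arbitrary ↥(Spec (CommRingCat.of k)))
    exact ⟨n, 𝟙_ _, p₀, p₀, x, ε, by rw [h]⟩

end Groth.Agent.S6075
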