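import Groth.Statements.S6076
import Groth.Agent.Lib.Helper11.WD3

set_option autoImplicit false
universe u
open CategoryTheory CategoryTheory.Limits MonoidalCategory CartesianMonoidalCategory MonObj GrpObj AlgebraicGeometry
open SGA3

namespace Groth.Agent.S6076

/-- (iii) ⟹ (iv): let S be a scheme, X an S-scheme which is flat and locally of finite presentation over
S, H an S-group scheme locally of finite presentation over S with reduced fibres and quasi-compact
underlying space, and f : X → H an S-morphism. Say that a point h of H lies under a word of length n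
in f when there are an S-scheme T, a point p of T, T-valued points x_1, …, x_n of X and signs such
that the T-valued point f(x_1)^{±1} ⋯ f(x_n)^{±1} of H maps p to h. If every point of H lies under
some word in f, then there is a natural number n such that every point of H lies under a word of
length at most n. (The published statement concludes with words of one fixed length n and an
fppf-covering word morphism; for the constant group of order two over a field and f the non-trivial
point, the points under words of length n alternate between the two points of H, so only the bound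
on the length is stated here, and the covering assertion is not stated.) -/
theorem result (S : Scheme.{u}) (X H : Over S) [GrpObj H]
    [Flat X.hom] [LocallyOfFinitePresentation X.hom] [LocallyOfFinitePresentation H.hom]
    (hred : ∀ s : S, IsReduced (H.hom.fiber s)) [CompactSpace H.left] (f : X ⟶ H)
    (hsurj : ∀ h : H.left, ∃ (n : ℕ) (T : Over S) (p : T.left) (x : Fin n → (T ⟶ X)) (ε : Fin n → Bool),
      ((List.ofFn fun j : Fin n => if ε j then x j ≫ f else (x j ≫ f)⁻¹).prod : T ⟶ H).left.base p = h) :
    ∃ n : ℕ, ∀ h : H.left, ∃ (m : ℕ) (_ : m ≤ n) (T : Over S) (p : T.left) (x : Fin m → (T ⟶ X)) (ε : Fin m → Bool),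
      ((List.ofFn fun j : Fin m => if ε j then x j ≫ f else (x j ≫ f)⁻¹).prod : T ⟶ H).left.base p = h := by

  have hs : ∀ h : H.left, ∃ (n : ℕ) (ε : Fin n → Bool),
      h ∈ Set.range (Groth.Agent.Lib.Helper11.WD2.uw f n ε).left.base := by
    intro h
    obtain ⟨n, T, p, x, ε, hx⟩ := hsurj h
    exact ⟨n, ε, (Groth.Agent.Lib.Helper11.WD2.mem_range_uw_iff f n ε h).mpr ⟨T, p, x, hx⟩⟩
  obtain ⟨N, hN⟩ := Groth.Agent.Lib.Helper11.WD3.bound f hs
  refine ⟨N, fun h => ?_⟩
  obtain ⟨m, hm, ε, hh⟩ := hN h
  obtain ⟨T, p, x, hx⟩ := (Groth.Agent.Lib.Helper11.WD2.mem_range_uw_iff f m ε h).mp hh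
  exact ⟨m, hm, T, p, x, ε, hx⟩

end Groth.Agent.S6076
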