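import Groth.Statements.S6119
import Groth.Agent.Lib.Helper29.ThirdIso

set_option autoImplicit false
open CategoryTheory MonoidalCategory CartesianMonoidalCategory MonObj GrpObj AlgebraicGeometry
universe u
open RedSub
open Groth.Agent.Lib.Helper29

namespace Groth.Agent.S6119

/-- The identification G/H ≅ corad(G)/corad(H): let G be a reductive S-group, d : D ⟶ G its derived
group and f₀ : G ⟶ C its coradical (C commutative, D = Ker f₀, f₀ the fppf quotient G/D, D killed by
every homomorphism to a commutative S-group scheme). Let t : T'' ⟶ C be a subtorus, H = G x_C T''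
its preimage under f₀ (with projections k : H ⟶ G and g : H ⟶ T''), and q : G ⟶ Q the fppf quotient
of G by H. Then q factors uniquely as f₀ followed by q' : C ⟶ Q, and q' exhibits Q as the fppf
quotient of C by T''. -/
theorem result {S : Scheme.{u}} {G D C T'' H Q : Over S} [GrpObj G] [GrpObj D]
    [GrpObj C] [GrpObj T''] [GrpObj H] (hG : Red.IsReductive G) (d : D ⟶ G) [IsMonHom d]
    (f₀ : G ⟶ C) [IsMonHom f₀] (hC : ∀ (X : Over S) (a b : X ⟶ C), a * b = b * a) (hker : AlgGrp.IsKernel d f₀)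
    (hquot : RedSub.IsQuotient d f₀) (hkill : RedSub.KilledByCommutative d)
    (t : T'' ⟶ C) [IsMonHom t] [Mono t] (hT'' : Red.IsTorus T'') (k : H ⟶ G) [IsMonHom k] (g : H ⟶ T'') [IsMonHom g]
    (hsq : IsPullback k g f₀ t) (q : G ⟶ Q) (hq : RedSub.IsQuotient k q) :
    ∃! q' : C ⟶ Q, f₀ ≫ q' = q ∧ RedSub.IsQuotient t q' := by
  obtain ⟨hf1, hf2, hf3, sqD⟩ := hquot
  obtain ⟨hq1, hq2, hq3, sqH⟩ := hq
  haveI : Mono k := hsq.mono_fst_of_mono
  haveI : Mono d := ⟨fun a b hab => hker.hom_ext hab (toUnit_unique _ _)⟩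
  have hw0 : d ≫ f₀ = (toUnit D ≫ η[T'']) ≫ t := by
    rw [hker.w, Category.assoc, IsMonHom.one_hom]
  let h : D ⟶ H := hsq.lift d (toUnit D ≫ η[T'']) hw0
  have hk : h ≫ k = d := hsq.lift_fst _ _ _
  have hg : h ≫ g = toUnit D ≫ η[T''] := hsq.lift_snd _ _ _
  haveI : Mono h := mono_of_mono_fac hk
  haveI : IsMonHom h := by
    refine ⟨?_, ?_⟩
    · rw [← cancel_mono k, Category.assoc, hk, IsMonHom.one_hom, IsMonHom.one_hom]
    · rw [← cancel_mono k, Category.assoc, hk, Category.assoc, IsMonHom.mul_hom,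
        IsMonHom.mul_hom, ← Category.assoc, tensorHom_comp_tensorHom, hk]
  have hn : AlgGrp.IsNormalHom h := by
    intro T a n
    have hx : ((a ≫ k) * (n ≫ d) * (a ≫ k)⁻¹) ≫ f₀ = toUnit T ≫ η[C] := by
      rw [MonObj.mul_comp, MonObj.mul_comp, GrpObj.inv_comp, Category.assoc n, hker.w,
        ← Category.assoc n, toUnit_unique (n ≫ toUnit D) (toUnit T)]
      change ((a ≫ k) ≫ f₀) * (1 : T ⟶ C) * ((a ≫ k) ≫ f₀)⁻¹ = 1
      group
    refine ⟨hker.lift _ (toUnit T) hx, ?_⟩
    rw [← cancel_mono k, Category.assoc, hk, hker.lift_fst, MonObj.mul_comp, MonObj.mul_comp,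
      GrpObj.inv_comp, Category.assoc, hk]
  have hqKb : RedSub.IsQuotient h g := by
    have hsqL : IsPullback k.left g.left f₀.left t.left := hsq.map (Over.forget S)
    refine ⟨MorphismProperty.of_isPullback (P := @Surjective) hsqL hf1,
      MorphismProperty.of_isPullback (P := @Flat) hsqL hf2,
      MorphismProperty.of_isPullback (P := @LocallyOfFinitePresentation) hsqL hf3, ?_⟩
    have hB : ∀ {T : Over S} (a : T ⟶ H) (n : T ⟶ D),
        lift a n ≫ ((H ◁ h) ≫ μ[H]) = a * (n ≫ h) := by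
      intro T a n
      rw [QuotGrp.act_eq, MonObj.comp_mul, lift_fst, ← Category.assoc, lift_snd]
    have w : fst H D ≫ g = ((H ◁ h) ≫ μ[H]) ≫ g := by
      rw [QuotGrp.act_eq, MonObj.mul_comp, Category.assoc, hg, ← Category.assoc,
        toUnit_unique (snd H D ≫ toUnit D) (toUnit _)]
      change fst H D ≫ g = (fst H D ≫ g) * 1
      rw [_root_.mul_one]
    refine ⟨⟨w⟩, ⟨Limits.PullbackCone.IsLimit.mk w
      (fun s => lift s.fst ((QuotGrp.exists_of_comp_eq d f₀ sqD (s.fst ≫ k) (s.snd ≫ k)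
        (by rw [Category.assoc, Category.assoc, hsq.w, ← Category.assoc, ← Category.assoc,
          s.condition])).choose)) ?_ ?_ ?_⟩⟩
    · intro s
      exact lift_fst _ _
    · intro s
      have hc := (QuotGrp.exists_of_comp_eq d f₀ sqD (s.fst ≫ k) (s.snd ≫ k)
        (by rw [Category.assoc, Category.assoc, hsq.w, ← Category.assoc, ← Category.assoc,
          s.condition])).choose_spec
      rw [hB, ← cancel_mono k, MonObj.mul_comp, Category.assoc, hk]
      exact hc.symm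
    · intro s m h1 h2
      have hc := (QuotGrp.exists_of_comp_eq d f₀ sqD (s.fst ≫ k) (s.snd ≫ k)
        (by rw [Category.assoc, Category.assoc, hsq.w, ← Category.assoc, ← Category.assoc,
          s.condition])).choose_spec
      have hm : m = lift (m ≫ fst H D) (m ≫ snd H D) := by
        ext <;> simp
      have h3 : (m ≫ fst H D) * ((m ≫ snd H D) ≫ h) = s.snd := by
        rw [← hB, ← hm]
        exact h2
      rw [hm]
      congr 1
      rw [← cancel_mono d]
      have h4 : (s.fst ≫ k) * ((m ≫ snd H D) ≫ d) = s.snd ≫ k := by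
        rw [← h3, MonObj.mul_comp, h1, Category.assoc (m ≫ snd H D), hk]
      exact mul_left_cancel (h4.trans hc)
  have hact : (f₀ ⊗ₘ g) ≫ ((C ◁ t) ≫ μ[C]) = (G ◁ k) ≫ μ[G] ≫ f₀ := by
    rw [QuotGrp.act_eq, ← Category.assoc (G ◁ k), QuotGrp.act_eq, MonObj.comp_mul,
      MonObj.mul_comp, tensorHom_fst, ← Category.assoc, tensorHom_snd]
    simp only [Category.assoc, hsq.w]
  have hqH : RedSub.IsQuotient (h ≫ k) f₀ := by
    rw [hk]
    exact ⟨hf1, hf2, hf3, sqD⟩
  have key := (ThirdIso.main6056 h k hn f₀ hqH g hqKb ((C ◁ t) ≫ μ[C]) hact).1 Q q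
    ⟨hq1, hq2, hq3, sqH⟩
  haveI : Epi f₀ := QuotGrp.epi_of_fppf f₀ hf1 hf2 hf3
  obtain ⟨q', hq'⟩ := (SGA3Quot.ocovFppf f₀ hf1 hf2 hf3).desc q (by
    intro T e₁ e₂ he
    obtain ⟨n, rfl⟩ := QuotGrp.exists_of_comp_eq d f₀ sqD e₁ e₂ he
    rw [← hk, ← Category.assoc]
    exact (QuotGrp.comp_eq_of_eq_mul k q sqH e₁ (n ≫ h)).symm)
  refine ⟨q', ⟨hq', key q' hq'⟩, ?_⟩
  rintro q'' ⟨h1, -⟩
  exact (cancel_epi f₀).1 (h1.trans hq'.symm)

end Groth.Agent.S6119
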