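import Groth.Statements.S6121
import Mathlib

set_option autoImplicit false
open CategoryTheory
universe v₁ v₂ u₁ u₂
open SGA4

namespace Groth.Agent.S6121

/-- For a fibered functor `p : E ⥤ B` (every morphism of `B` has a cartesian lift with prescribed
codomain, and cartesian morphisms compose), `p` reflects isomorphisms if and only if every fibre
category of `p` (objects over `b`, morphisms lying over the identity of `b`) is a groupoid. -/
theorem result
    {B : Type u₁} [Category.{v₁} B] {E : Type u₂} [Category.{v₂} E] (p : E ⥤ B) [p.IsFibered] :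
    p.ReflectsIsomorphisms ↔ ∀ b : B, IsGroupoid (p.Fiber b) := by
  constructor
  · intro hp b
    constructor
    intro x y φ
    let g : x.1 ⟶ y.1 := Functor.Fiber.fiberInclusion.map φ
    haveI hgl : p.IsHomLift (𝟙 b) g := φ.2
    haveI h1 : IsIso (p.map g) := by
      rw [IsHomLift.fac' p (𝟙 b) g]; infer_instance
    haveI h2 : IsIso g := isIso_of_reflects_iso g p
    let ψ : y ⟶ x := ⟨inv g, inferInstance⟩
    refine ⟨⟨ψ, ?_, ?_⟩⟩
    · apply Functor.Fiber.hom_ext
      rw [CategoryTheory.Functor.map_id]
      exact IsIso.hom_inv_id g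
    · apply Functor.Fiber.hom_ext
      rw [CategoryTheory.Functor.map_id]
      exact IsIso.inv_hom_id g
  · intro h
    constructor
    intro X Y f hf
    obtain ⟨Y', χ, hχ⟩ := Functor.IsPreFibered.exists_isCartesian' (p := p) (a := Y) (p.map f)
    haveI := hχ
    haveI : IsIso χ := Functor.IsStronglyCartesian.isIso_of_base_isIso p (p.map f) χ
    have hf' : Functor.IsCartesian.map p (p.map f) χ f ≫ χ = f := Functor.IsCartesian.fac _ _ _ _
    have hY' : p.obj Y' = p.obj X := IsHomLift.domain_eq p (p.map f) χ
    let x : p.Fiber (p.obj X) := ⟨X, rfl⟩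
    let y : p.Fiber (p.obj X) := ⟨Y', hY'⟩
    let F' : x ⟶ y := ⟨Functor.IsCartesian.map p (p.map f) χ f, inferInstance⟩
    haveI := h (p.obj X)
    haveI : IsIso F' := IsGroupoid.all_isIso F'
    haveI : IsIso (Functor.IsCartesian.map p (p.map f) χ f) :=
      inferInstanceAs (IsIso (Functor.Fiber.fiberInclusion.map F'))
    rw [← hf']
    infer_instance

end Groth.Agent.S6121
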