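import Groth.Statements.S6122
import Mathlib

set_option autoImplicit false
open CategoryTheory
universe v₁ v₂ u₁ u₂
open SGA4

namespace Groth.Agent.S6122

/-- For a fibered functor `p : E ⥤ B` (every morphism of `B` has a cartesian lift with prescribed
codomain, and cartesian morphisms compose), `p` is faithful if and only if every fibre category of
`p` (objects over `b`, morphisms lying over the identity of `b`) has at most one morphism between
any two objects. -/
theorem result
    {B : Type u₁} [Category.{v₁} B] {E : Type u₂} [Category.{v₂} E] (p : E ⥤ B) [p.IsFibered] :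
    p.Faithful ↔ ∀ (b : B) (x y : p.Fiber b), Subsingleton (x ⟶ y) := by
  constructor
  · intro hp b x y
    constructor
    intro φ ψ
    apply Functor.Fiber.hom_ext
    apply p.map_injective
    rw [IsHomLift.fac' p (𝟙 b) (Functor.Fiber.fiberInclusion.map φ),
      IsHomLift.fac' p (𝟙 b) (Functor.Fiber.fiberInclusion.map ψ)]
  · intro h
    constructor
    intro X Y f g hfg
    obtain ⟨Y', χ, hχ⟩ := Functor.IsPreFibered.exists_isCartesian' (p := p) (a := Y) (p.map f)
    haveI := hχ
    haveI hfl : p.IsHomLift (p.map f) f := inferInstance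
    haveI hgl : p.IsHomLift (p.map f) g := by rw [hfg]; infer_instance
    have hf' : Functor.IsCartesian.map p (p.map f) χ f ≫ χ = f := Functor.IsCartesian.fac _ _ _ _
    have hg' : Functor.IsCartesian.map p (p.map f) χ g ≫ χ = g := Functor.IsCartesian.fac _ _ _ _
    have hY' : p.obj Y' = p.obj X := IsHomLift.domain_eq p (p.map f) χ
    let x : p.Fiber (p.obj X) := ⟨X, rfl⟩
    let y : p.Fiber (p.obj X) := ⟨Y', hY'⟩
    let F' : x ⟶ y := ⟨Functor.IsCartesian.map p (p.map f) χ f, inferInstance⟩
    let G' : x ⟶ y := ⟨Functor.IsCartesian.map p (p.map f) χ g, inferInstance⟩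
    have hFG : F' = G' := Subsingleton.elim _ _
    have hfg' : Functor.IsCartesian.map p (p.map f) χ f = Functor.IsCartesian.map p (p.map f) χ g :=
      congrArg Subtype.val hFG
    rw [← hf', ← hg', hfg']

end Groth.Agent.S6122
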