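import Groth.Statements.S6123
import Mathlib

set_option autoImplicit false
open CategoryTheory CategoryTheory.Limits Opposite
universe w v₁ v₂ u₁ u₂
open SGA4

namespace Groth.Agent.S6123

/-- For a single functor. Let `E` have pullbacks and let `φ : E ⥤ F` preserve them. If every
monomorphism `u` of `E` with `φ u` invertible is invertible, then `φ` reflects all isomorphisms. -/
theorem result
    {E : Type u₁} [Category.{v₁} E] {F : Type u₂} [Category.{v₂} F] (φ : E ⥤ F)
    [HasPullbacks E] [PreservesLimitsOfShape WalkingCospan φ]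
    (h : ∀ ⦃X Y : E⦄ (u : X ⟶ Y), Mono u → IsIso (φ.map u) → IsIso u) :
    φ.ReflectsIsomorphisms := by
  constructor
  intro X Y f hf
  -- the kernel pair of f
  have hP : IsPullback (pullback.fst f f) (pullback.snd f f) f f := IsPullback.of_hasPullback f f
  have hφP := hP.map φ
  haveI : IsIso (φ.map (pullback.fst f f)) := hφP.isIso_fst_of_isIso
  set Δ : X ⟶ pullback f f := pullback.lift (𝟙 X) (𝟙 X) rfl with hΔ
  have hΔ1 : Δ ≫ pullback.fst f f = 𝟙 X := pullback.lift_fst _ _ _
  have hΔ2 : Δ ≫ pullback.snd f f = 𝟙 X := pullback.lift_snd _ _ _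
  haveI : IsIso (φ.map Δ) := by
    have h1 : φ.map Δ ≫ φ.map (pullback.fst f f) = 𝟙 _ := by
      rw [← φ.map_comp, hΔ1, φ.map_id]
    have h2 : φ.map Δ = inv (φ.map (pullback.fst f f)) := by
      rw [← cancel_mono (φ.map (pullback.fst f f)), h1, IsIso.inv_hom_id]
    rw [h2]; infer_instance
  haveI : Mono Δ := mono_of_mono_fac hΔ1
  haveI : IsIso Δ := h Δ inferInstance inferInstance
  have heq : pullback.fst f f = pullback.snd f f := by
    rw [← cancel_epi Δ, hΔ1, hΔ2]
  haveI : Mono f := by
    constructor
    intro Z a b hab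
    have h1 : pullback.lift a b hab ≫ pullback.fst f f = a := pullback.lift_fst _ _ _
    have h2 : pullback.lift a b hab ≫ pullback.snd f f = b := pullback.lift_snd _ _ _
    calc a = pullback.lift a b hab ≫ pullback.fst f f := h1.symm
      _ = pullback.lift a b hab ≫ pullback.snd f f := by rw [heq]
      _ = b := h2
  exact h f inferInstance hf

end Groth.Agent.S6123
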