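import Groth.Statements.S6124
import Mathlib

set_option autoImplicit false
open CategoryTheory CategoryTheory.Limits Opposite
universe w v₁ v₂ u₁ u₂
open SGA4

namespace Groth.Agent.S6124

/-- Let `E` have pullbacks, let `P` be a detecting family of objects of `E` (a morphism `f` is
invertible as soon as every map out of an object of `P` factors uniquely through `f`), and let `φ i
: E ⥤ E' i` be functors preserving pullbacks. Then the `φ i` jointly reflect isomorphisms if and
only if, for every `X` with `P X` and every subobject `X'` of `X` other than `⊤`, some `φ i` takes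
the inclusion `X' ⟶ X` to a morphism that is not invertible. -/
theorem result
    {E : Type u₁} [Category.{v₁} E] [HasPullbacks E] (P : ObjectProperty E) (hP : P.IsDetecting)
    {κ : Type w} {E' : κ → Type u₂} [∀ k, Category.{v₂} (E' k)] (φ : ∀ k, E ⥤ E' k)
    [∀ k, PreservesLimitsOfShape WalkingCospan (φ k)] :
    (∀ ⦃X Y : E⦄ (f : X ⟶ Y), (∀ k, IsIso ((φ k).map f)) → IsIso f) ↔
      ∀ (X : E), P X → ∀ (X' : Subobject X), X' ≠ ⊤ → ∃ k, ¬ IsIso ((φ k).map X'.arrow) := by
  constructor
  · intro h X _ X' hX'
    by_contra hcon
    push Not at hcon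
    haveI := h X'.arrow hcon
    exact hX' (Subobject.eq_top_of_isIso_arrow X')
  · intro h
    -- first: monomorphisms inverted by all φ k are invertible
    have hmono : ∀ ⦃X Y : E⦄ (u : X ⟶ Y), Mono u → (∀ k, IsIso ((φ k).map u)) → IsIso u := by
      intro X Y u hu hφu
      apply hP
      intro G hG g
      -- pull back u along g
      have hpb : IsPullback (pullback.fst u g) (pullback.snd u g) u g := IsPullback.of_hasPullback u g
      haveI : Mono (pullback.snd u g) := inferInstance
      have hφ' : ∀ k, IsIso ((φ k).map (pullback.snd u g)) := by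
        intro k
        haveI := hφu k
        exact (hpb.map (φ k)).isIso_snd_of_isIso
      have htop : Subobject.mk (pullback.snd u g) = ⊤ := by
        by_contra hne
        obtain ⟨k, hk⟩ := h G hG _ hne
        apply hk
        haveI := hφ' k
        have : (Subobject.mk (pullback.snd u g)).arrow =
            (Subobject.underlyingIso (pullback.snd u g)).hom ≫ pullback.snd u g :=
          (Subobject.underlyingIso_hom_comp_eq_mk _).symm
        rw [this, Functor.map_comp]
        infer_instance
      haveI : IsIso (pullback.snd u g) := (Subobject.isIso_iff_mk_eq_top _).2 htop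
      refine ⟨inv (pullback.snd u g) ≫ pullback.fst u g, ?_, ?_⟩
      · show (inv (pullback.snd u g) ≫ pullback.fst u g) ≫ u = g
        rw [Category.assoc, hpb.w, IsIso.inv_hom_id_assoc]
      · intro g' hg'
        rw [← cancel_mono u, hg', Category.assoc, hpb.w, IsIso.inv_hom_id_assoc]
    intro X Y f hf
    have hP' : IsPullback (pullback.fst f f) (pullback.snd f f) f f := IsPullback.of_hasPullback f f
    set Δ : X ⟶ pullback f f := pullback.lift (𝟙 X) (𝟙 X) rfl with hΔ
    have hΔ1 : Δ ≫ pullback.fst f f = 𝟙 X := pullback.lift_fst _ _ _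
    have hΔ2 : Δ ≫ pullback.snd f f = 𝟙 X := pullback.lift_snd _ _ _
    have hφΔ : ∀ k, IsIso ((φ k).map Δ) := by
      intro k
      haveI := hf k
      haveI : IsIso ((φ k).map (pullback.fst f f)) := (hP'.map (φ k)).isIso_fst_of_isIso
      have h1 : (φ k).map Δ ≫ (φ k).map (pullback.fst f f) = 𝟙 _ := by
        rw [← (φ k).map_comp, hΔ1, (φ k).map_id]
      have h2 : (φ k).map Δ = inv ((φ k).map (pullback.fst f f)) := by
        rw [← cancel_mono ((φ k).map (pullback.fst f f)), h1, IsIso.inv_hom_id]
      rw [h2]; infer_instance
    haveI : Mono Δ := mono_of_mono_fac hΔ1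
    haveI : IsIso Δ := hmono Δ inferInstance hφΔ
    have heq : pullback.fst f f = pullback.snd f f := by
      rw [← cancel_epi Δ, hΔ1, hΔ2]
    haveI : Mono f := by
      constructor
      intro Z a b hab
      have h1 : pullback.lift a b hab ≫ pullback.fst f f = a := pullback.lift_fst _ _ _
      have h2 : pullback.lift a b hab ≫ pullback.snd f f = b := pullback.lift_snd _ _ _
      calc a = pullback.lift a b hab ≫ pullback.fst f f := h1.symm
        _ = pullback.lift a b hab ≫ pullback.snd f f := by rw [heq]
        _ = b := h2
    exact hmono f inferInstance hf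

end Groth.Agent.S6124
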