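import Groth.Statements.S6128
import Mathlib

set_option autoImplicit false
open CategoryTheory
universe u
open SGA4

namespace Groth.Agent.S6128

/-- Let `u : C ⥤ C'` be a functor between small sites. If the right Kan extension along `u` of the
underlying presheaf of every sheaf of sets on `C` is a sheaf on `C'`, then `u` is cocontinuous: for
every object `Y` of `C` and every covering sieve `R` of `u Y`, the sieve of morphisms `g : Z ⟶ Y`
with `u g ∈ R` covers `Y`. -/
theorem result
    {C : Type u} [SmallCategory C] {C' : Type u} [SmallCategory C']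
    (J : GrothendieckTopology C) (J' : GrothendieckTopology C') (u : C ⥤ C')
    (h : ∀ G : Sheaf J (Type u), Presheaf.IsSheaf J' ((u.op.ran).obj G.obj)) :
    u.IsCocontinuous J J' := by
  open Opposite in
  constructor
  intro Y R hR
  let Ω : Cᵒᵖ ⥤ Type u := (Functor.closedSieves J).toFunctor
  let ΩS : Sheaf J (Type u) := ⟨Ω, (isSheaf_iff_isSheaf_of_type _ _).2 (classifier_isSheaf J)⟩
  have hF' : Presieve.IsSheaf J' (u.op.ran.obj Ω) := (isSheaf_iff_isSheaf_of_type _ _).1 (h ΩS)
  have htop : ∀ Z : C, J.IsClosed (⊤ : Sieve Z) := fun Z W f _ => trivial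
  let α₁ : u.op ⋙ yoneda.obj (u.obj Y) ⟶ Ω :=
    { app := fun Z => ↾(fun _ => ⟨(⊤ : Sieve Z.unop), htop _⟩)
      naturality := by
        intro Z W g
        ext φ
        apply Subtype.ext
        exact (Sieve.pullback_top).symm }
  let α₂ : u.op ⋙ yoneda.obj (u.obj Y) ⟶ Ω :=
    { app := fun Z => ↾(fun (φ : u.obj Z.unop ⟶ u.obj Y) =>
        ⟨J.close ((R.pullback φ).functorPullback u), J.close_isClosed _⟩)
      naturality := by
        intro Z W g
        ext φ
        apply Subtype.ext
        change J.close ((R.pullback (u.map g.unop ≫ φ)).functorPullback u) =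
          (J.close ((R.pullback φ).functorPullback u)).pullback g.unop
        rw [← J.pullback_close]
        congr 1
        ext V k
        simp [Sieve.functorPullback_apply] }
  let adj := u.op.ranAdjunction (Type u)
  have hα : α₁ = α₂ := by
    apply (adj.homEquiv (yoneda.obj (u.obj Y)) Ω).injective
    apply yonedaEquiv.injective
    refine (hF' R hR).isSeparatedFor.ext ?_
    intro X' ψ hψ
    rw [yonedaEquiv_naturality, yonedaEquiv_naturality, ← Adjunction.homEquiv_naturality_left,
      ← Adjunction.homEquiv_naturality_left]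
    congr 2
    ext Z φ
    apply Subtype.ext
    change (⊤ : Sieve Z.unop) = J.close ((R.pullback (φ ≫ ψ)).functorPullback u)
    rw [R.pullback_eq_top_of_mem (R.downward_closed hψ φ), Sieve.functorPullback_top]
    exact (top_unique (J.le_close ⊤)).symm
  have h1 : (⊤ : Sieve Y) = J.close ((R.pullback (𝟙 (u.obj Y))).functorPullback u) :=
    congrArg (fun α : u.op ⋙ yoneda.obj (u.obj Y) ⟶ Ω => (α.app (op Y) (𝟙 (u.obj Y))).1) hα
  rw [Sieve.pullback_id] at h1
  rw [← J.close_eq_top_iff_mem]
  exact h1.symm

end Groth.Agent.S6128
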