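import Groth.Statements.S6129
import Mathlib
-- import your own Groth.Agent.* helpers here

set_option autoImplicit false
open CategoryTheory CategoryTheory.Limits
universe u
open SGA4

namespace Groth.Agent.S6129

set_option backward.isDefEq.respectTransparency false
set_option backward.isDefEq.respectTransparency.types false

open Opposite Functor

section helpers

variable {C : Type u} [SmallCategory C] {C' : Type u} [SmallCategory C'] (u : C ⥤ C')

theorem exists_lift (hu : ∀ X : C, (Over.post (X := X) u).Full)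
    {X Y Z : C} (a : Y ⟶ X) (b : Z ⟶ X) (h : u.obj Y ⟶ u.obj Z)
    (hh : h ≫ u.map b = u.map a) : ∃ g : Y ⟶ Z, u.map g = h := by
  haveI := hu X
  let f : (Over.post (X := X) u).obj (Over.mk a) ⟶ (Over.post (X := X) u).obj (Over.mk b) :=
    Over.homMk h (by exact hh)
  obtain ⟨g, hg⟩ := (Over.post (X := X) u).map_surjective f
  refine ⟨g.left, ?_⟩
  have h1 : ((Over.post (X := X) u).map g).left = f.left := congrArg (fun t => t.left) hg
  simpa [f] using h1

/-- `(Y, f : uX ⟶ uY)` lies in the connected component of `(X, 𝟙)`. -/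
def P (X : C) (g : CostructuredArrow u.op (op (u.obj X))) : Prop :=
  ∃ k : X ⟶ g.left.unop, u.map k = g.hom.unop

theorem w_unop {X : C} {g₁ g₂ : CostructuredArrow u.op (op (u.obj X))} (φ : g₁ ⟶ g₂) :
    g₂.hom.unop ≫ u.map φ.left.unop = g₁.hom.unop :=
  congrArg Quiver.Hom.unop (CostructuredArrow.w φ)

theorem P_iff (hu : ∀ X : C, (Over.post (X := X) u).Full) {X : C}
    {g₁ g₂ : CostructuredArrow u.op (op (u.obj X))} (φ : g₁ ⟶ g₂) :
    P u X g₁ ↔ P u X g₂ := by
  constructor
  · rintro ⟨k₁, hk₁⟩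
    exact exists_lift u hu k₁ φ.left.unop g₂.hom.unop ((w_unop u φ).trans hk₁.symm)
  · rintro ⟨k₂, hk₂⟩
    exact ⟨k₂ ≫ φ.left.unop, by rw [u.map_comp, hk₂, w_unop u φ]⟩

open Classical in
/-- components of the retraction cocone -/
noncomputable def rApp (H : Cᵒᵖ ⥤ Type u) (X : C)
    (g : CostructuredArrow u.op (op (u.obj X))) (x : H.obj g.left) : Option (H.obj (op X)) :=
  if h : P u X g then some (H.map (h.choose.op : g.left ⟶ op X) x) else none

theorem rApp_of [u.Faithful] (H : Cᵒᵖ ⥤ Type u) (X : C)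
    (g : CostructuredArrow u.op (op (u.obj X))) (x : H.obj g.left)
    (k : X ⟶ g.left.unop) (hk : u.map k = g.hom.unop) :
    rApp u H X g x = some (H.map (k.op : g.left ⟶ op X) x) := by
  have h : P u X g := ⟨k, hk⟩
  have hc : h.choose = k := u.map_injective (h.choose_spec.trans hk.symm)
  unfold rApp
  rw [dif_pos h, hc]

theorem rApp_not (H : Cᵒᵖ ⥤ Type u) (X : C)
    (g : CostructuredArrow u.op (op (u.obj X))) (x : H.obj g.left) (h : ¬ P u X g) :
    rApp u H X g x = none := by
  unfold rApp
  rw [dif_neg h]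

theorem rApp_nat [u.Faithful] (hu : ∀ X : C, (Over.post (X := X) u).Full)
    (H : Cᵒᵖ ⥤ Type u) (X : C)
    {g₁ g₂ : CostructuredArrow u.op (op (u.obj X))} (φ : g₁ ⟶ g₂) (x : H.obj g₁.left) :
    rApp u H X g₂ (H.map φ.left x) = rApp u H X g₁ x := by
  by_cases h₂ : P u X g₂
  · obtain ⟨k₂, hk₂⟩ := h₂
    have hk₁ : u.map (k₂ ≫ φ.left.unop) = g₁.hom.unop := by
      rw [u.map_comp, hk₂, w_unop u φ]
    rw [rApp_of u H X g₂ _ k₂ hk₂, rApp_of u H X g₁ _ _ hk₁]
    congr 1
    have e : ((k₂ ≫ φ.left.unop).op : g₁.left ⟶ op X) = φ.left ≫ (k₂.op : g₂.left ⟶ op X) := rfl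
    rw [e]
    exact (types_congr_hom (H.map_comp φ.left (k₂.op : g₂.left ⟶ op X)) x).symm
  · have h₁ : ¬ P u X g₁ := fun h => h₂ ((P_iff u hu φ).1 h)
    rw [rApp_not u H X g₂ _ h₂, rApp_not u H X g₁ _ h₁]

/-- the retraction cocone -/
noncomputable def rCocone [u.Faithful] (hu : ∀ X : C, (Over.post (X := X) u).Full)
    (H : Cᵒᵖ ⥤ Type u) (X : C) :
    Cocone (CostructuredArrow.proj u.op (op (u.obj X)) ⋙ H) where
  pt := Option (H.obj (op X))
  ι :=
    { app := fun g => ↾(rApp u H X g)
      naturality := fun g₁ g₂ φ => by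
        refine ConcreteCategory.hom_ext _ _ (fun x => ?_)
        exact rApp_nat u hu H X φ x }

/-- the pointwise colimit cocone -/
noncomputable def hcol (H : Cᵒᵖ ⥤ Type u) (X' : C'ᵒᵖ) :
    IsColimit ((LeftExtension.mk _ (u.op.leftKanExtensionUnit H)).coconeAt X') :=
  u.op.isPointwiseLeftKanExtensionLeftKanExtensionUnit H X'

/-- the retraction -/
noncomputable def r [u.Faithful] (hu : ∀ X : C, (Over.post (X := X) u).Full)
    (H : Cᵒᵖ ⥤ Type u) (X : C) :
    (u.op.leftKanExtension H).obj (op (u.obj X)) ⟶ Option (H.obj (op X)) :=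
  (hcol u H (op (u.obj X))).desc (rCocone u hu H X)

theorem r_ι [u.Faithful] (hu : ∀ X : C, (Over.post (X := X) u).Full)
    (H : Cᵒᵖ ⥤ Type u) (X : C) (g : CostructuredArrow u.op (op (u.obj X)))
    (x : H.obj g.left) :
    r u hu H X ((u.op.leftKanExtension H).map g.hom
      ((u.op.leftKanExtensionUnit H).app g.left x)) = rApp u H X g x :=
  types_congr_hom ((hcol u H (op (u.obj X))).fac (rCocone u hu H X) g) x

theorem r_unit [u.Faithful] (hu : ∀ X : C, (Over.post (X := X) u).Full)
    (H : Cᵒᵖ ⥤ Type u) (X : C) (s : H.obj (op X)) :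
    r u hu H X ((u.op.leftKanExtensionUnit H).app (op X) s) = some s := by
  have h := r_ι u hu H X (CostructuredArrow.mk (𝟙 (u.op.obj (op X)))) s
  have e1 : (u.op.leftKanExtension H).map
      (CostructuredArrow.mk (𝟙 (u.op.obj (op X)))).hom = 𝟙 _ :=
    (u.op.leftKanExtension H).map_id _
  have e2 : H.map ((𝟙 X).op : op X ⟶ op X) = 𝟙 _ := H.map_id _
  have h3 : rApp u H X (CostructuredArrow.mk (𝟙 (u.op.obj (op X)))) s
      = some (H.map ((𝟙 X).op : op X ⟶ op X) s) :=
    rApp_of u H X (CostructuredArrow.mk (𝟙 (u.op.obj (op X)))) s (𝟙 X) (u.map_id X)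
  rw [e1] at h
  rw [e2] at h3
  exact h.trans h3

theorem unit_injective [u.Faithful] (hu : ∀ X : C, (Over.post (X := X) u).Full)
    (H : Cᵒᵖ ⥤ Type u) (X : C) :
    Function.Injective ((u.op.leftKanExtensionUnit H).app (op X)) := by
  intro s t hst
  have h1 := r_unit u hu H X s
  have h2 := r_unit u hu H X t
  rw [hst] at h1
  exact Option.some.inj (h1.symm.trans h2)

theorem ι_eq_unit (H : Cᵒᵖ ⥤ Type u) (X : C)
    (g : CostructuredArrow u.op (op (u.obj X))) (x : H.obj g.left)
    (k : X ⟶ g.left.unop) (hk : u.map k = g.hom.unop) :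
    (u.op.leftKanExtension H).map g.hom ((u.op.leftKanExtensionUnit H).app g.left x)
      = (u.op.leftKanExtensionUnit H).app (op X) (H.map (k.op : g.left ⟶ op X) x) := by
  have nat := (u.op.leftKanExtensionUnit H).naturality (k.op : g.left ⟶ op X)
  have hk' : u.op.map (k.op : g.left ⟶ op X) = g.hom := congrArg Quiver.Hom.op hk
  have h1 := types_congr_hom nat x
  rw [Functor.comp_map, hk'] at h1
  exact h1.symm

theorem unit_nat (H K : Cᵒᵖ ⥤ Type u) (α : H ⟶ K) (Y : Cᵒᵖ) (x : H.obj Y) :
    (u.op.lan.map α).app (u.op.obj Y) ((u.op.leftKanExtensionUnit H).app Y x)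
      = (u.op.leftKanExtensionUnit K).app Y (α.app Y x) :=
  (types_congr_hom (congr_app (u.op.lanUnit.naturality α) Y) x).symm

theorem lan_map_ι (H K : Cᵒᵖ ⥤ Type u) (α : H ⟶ K) (X : C)
    (g : CostructuredArrow u.op (op (u.obj X))) (x : H.obj g.left) :
    (u.op.lan.map α).app (op (u.obj X))
        ((u.op.leftKanExtension H).map g.hom ((u.op.leftKanExtensionUnit H).app g.left x))
      = (u.op.leftKanExtension K).map g.hom
          ((u.op.leftKanExtensionUnit K).app g.left (α.app g.left x)) := by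
  have nat := types_congr_hom ((u.op.lan.map α).naturality g.hom)
    ((u.op.leftKanExtensionUnit H).app g.left x)
  have h2 := unit_nat u H K α g.left x
  refine nat.trans ?_
  exact congrArg (fun t => (u.op.leftKanExtension K).map g.hom t) h2

theorem unit_eq (H : Cᵒᵖ ⥤ Type u) :
    (u.op.lanAdjunction (Type u)).unit.app H = u.op.leftKanExtensionUnit H := by
  rw [Functor.lanAdjunction_unit]
  rfl

theorem exists_of_eq [u.Faithful] (hu : ∀ X : C, (Over.post (X := X) u).Full)
    (H K : Cᵒᵖ ⥤ Type u) (α : H ⟶ K) (X : C)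
    (z : (u.op.leftKanExtension H).obj (op (u.obj X))) (k₀ : K.obj (op X))
    (hz : (u.op.lan.map α).app (op (u.obj X)) z = (u.op.leftKanExtensionUnit K).app (op X) k₀) :
    ∃ h : H.obj (op X), (u.op.leftKanExtensionUnit H).app (op X) h = z ∧ α.app (op X) h = k₀ := by
  obtain ⟨g, x, rfl⟩ := Types.jointly_surjective_of_isColimit (hcol u H (op (u.obj X))) z
  have h1 : (u.op.lan.map α).app (op (u.obj X))
        ((u.op.leftKanExtension H).map g.hom ((u.op.leftKanExtensionUnit H).app g.left x))
      = (u.op.leftKanExtensionUnit K).app (op X) k₀ := hz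
  rw [lan_map_ι u H K α X g x] at h1
  have h2 := congrArg (fun t => r u hu K X t) h1
  simp only [] at h2
  rw [r_ι u hu K X g (α.app g.left x), r_unit u hu K X k₀] at h2
  by_cases hP : P u X g
  · obtain ⟨k, hk⟩ := hP
    rw [rApp_of u K X g _ k hk] at h2
    have h3 : K.map (k.op : g.left ⟶ op X) (α.app g.left x) = k₀ := Option.some.inj h2
    refine ⟨H.map (k.op : g.left ⟶ op X) x, (ι_eq_unit u H X g x k hk).symm, ?_⟩
    rw [← h3]
    exact NatTrans.naturality_apply α (k.op : g.left ⟶ op X) x
  · rw [rApp_not u K X g _ hP] at h2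
    exact absurd h2 (by simp)

end helpers

/-- Let `u : C ⥤ C'` be a faithful functor between small categories such that for every object `X` of
`C` the induced functor on over-categories `C/X ⥤ C'/u X` is full and faithful. Then the left Kan
extension functor `u_!` on presheaves of sets is faithful, the unit `H ⟶ u^* u_! H` of the
adjunction `u_! ⊣ u^*` is a monomorphism for every presheaf `H`, and for every morphism of
presheaves `α : H ⟶ K` the naturality square of the unit at `α` (with sides `α` and `u^* u_! α`) is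
cartesian. (The published statement assumes only the condition on the slice functors, and its proof
uses that `u` is faithful; the slice condition alone does not suffice: for a nontrivial group viewed
as a one-object category mapping to the point every slice functor is an equivalence, while `u_!` is
the orbit-set functor on `G`-sets, which is not faithful, and the unit `G ⟶ G/G` is not a
monomorphism. So `u` is taken faithful here.) -/
theorem result
    {C : Type u} [SmallCategory C] {C' : Type u} [SmallCategory C'] (u : C ⥤ C') [u.Faithful]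
    (hu : ∀ X : C, (Over.post (X := X) u).Full ∧ (Over.post (X := X) u).Faithful) :
    (u.op.lan : (Cᵒᵖ ⥤ Type u) ⥤ (C'ᵒᵖ ⥤ Type u)).Faithful ∧
    (∀ H : Cᵒᵖ ⥤ Type u, Mono ((u.op.lanAdjunction (Type u)).unit.app H)) ∧
    ∀ (H K : Cᵒᵖ ⥤ Type u) (α : H ⟶ K),
      IsPullback ((u.op.lanAdjunction (Type u)).unit.app H) α
        (((Functor.whiskeringLeft Cᵒᵖ C'ᵒᵖ (Type u)).obj u.op).map (u.op.lan.map α))
        ((u.op.lanAdjunction (Type u)).unit.app K) := by
  have hF : ∀ X : C, (Over.post (X := X) u).Full := fun X => (hu X).1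
  have hinj : ∀ (H : Cᵒᵖ ⥤ Type u) (Y : Cᵒᵖ),
      Function.Injective (((u.op.lanAdjunction (Type u)).unit.app H).app Y) := by
    intro H Y
    obtain ⟨X⟩ := Y
    rw [unit_eq]
    exact unit_injective u hF H X
  have hmono : ∀ H : Cᵒᵖ ⥤ Type u, Mono ((u.op.lanAdjunction (Type u)).unit.app H) := by
    intro H
    haveI : ∀ Y, Mono (((u.op.lanAdjunction (Type u)).unit.app H).app Y) :=
      fun Y => (mono_iff_injective _).2 (hinj H Y)
    exact NatTrans.mono_of_mono_app _
  refine ⟨⟨fun {H K} α β hab => ?_⟩, hmono, ?_⟩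
  · have := hmono K
    have h1 := (u.op.lanAdjunction (Type u)).unit.naturality α
    have h2 := (u.op.lanAdjunction (Type u)).unit.naturality β
    rw [← cancel_mono ((u.op.lanAdjunction (Type u)).unit.app K)]
    refine h1.trans (Eq.trans ?_ h2.symm)
    simp only [Functor.comp_map]
    rw [hab]
  · intro H K α
    refine IsPullback.of_forall_isPullback_app (fun Y => ?_)
    obtain ⟨X⟩ := Y
    rw [Types.isPullback_iff]
    refine ⟨?_, ?_, ?_⟩
    · exact congr_app ((u.op.lanAdjunction (Type u)).unit.naturality α).symm (op X)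
    · rintro x₁ y₁ ⟨h1, -⟩
      exact hinj H (op X) h1
    · intro x₂ x₃ h
      have h' : (u.op.lan.map α).app (op (u.obj X)) x₂
          = (u.op.leftKanExtensionUnit K).app (op X) x₃ := by
        rw [← unit_eq]
        exact h
      obtain ⟨h₀, hh1, hh2⟩ := exists_of_eq u hF H K α X x₂ x₃ h'
      refine ⟨h₀, ?_, hh2⟩
      rw [unit_eq]
      exact hh1

end Groth.Agent.S6129
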