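import Groth.Statements.S6131
import Mathlib

set_option autoImplicit false
open CategoryTheory CategoryTheory.Limits
universe u
open SGA4

namespace Groth.Agent.S6131

/-- For a small site `(C, J)` and an object `X` of `C`, the sheaf associated to the presheaf represented
by `X` is an initial object of the category of sheaves of sets if and only if the empty sieve covers
`X`. -/
theorem result
    {C : Type u} [SmallCategory C] (J : GrothendieckTopology C) (X : C) :
    Nonempty (IsInitial ((presheafToSheaf J (Type u)).obj (yoneda.obj X))) ↔ (⊥ : Sieve X) ∈ J X := by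
  have e : ∀ F : Sheaf J (Type u),
      ((presheafToSheaf J (Type u)).obj (yoneda.obj X) ⟶ F) ≃ F.obj.obj (Opposite.op X) :=
    fun F => ((sheafificationAdjunction J (Type u)).homEquiv (yoneda.obj X) F).trans yonedaEquiv
  have hsub : ∀ (P : Cᵒᵖ ⥤ Type u), Presieve.IsSheafFor P (⊥ : Sieve X).arrows ↔
      ∃! _t : P.obj (Opposite.op X), True := by
    intro P
    constructor
    · intro h
      obtain ⟨t, -, ht⟩ := h (fun W g hg => False.elim hg)
        (fun _ _ _ _ _ _ _ h₁ _ _ => False.elim h₁)
      exact ⟨t, trivial, fun t' _ => ht t' (fun W g hg => False.elim hg)⟩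
    · rintro ⟨t, -, ht⟩ x _
      exact ⟨t, fun W g hg => False.elim hg, fun t' _ => ht t' trivial⟩
  constructor
  · rintro ⟨hI⟩
    rw [GrothendieckTopology.mem_iff_isSheafFor_closedSieves, hsub]
    let ΩS : Sheaf J (Type u) := ⟨(Functor.closedSieves J).toFunctor,
      (isSheaf_iff_isSheaf_of_type _ _).2 (classifier_isSheaf J)⟩
    refine ⟨e ΩS (hI.to ΩS), trivial, fun t' _ => ?_⟩
    have : (e ΩS).symm t' = hI.to ΩS := hI.hom_ext _ _
    rw [← this, Equiv.apply_symm_apply]
  · intro hX
    have huniq : ∀ F : Sheaf J (Type u), ∃! _t : F.obj.obj (Opposite.op X), True := fun F =>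
      (hsub F.obj).1 (((isSheaf_iff_isSheaf_of_type _ _).1 F.property) _ hX)
    exact ⟨IsInitial.ofUniqueHom (fun F => (e F).symm (huniq F).exists.choose)
      (fun F m => (e F).injective ((huniq F).unique trivial trivial))⟩

end Groth.Agent.S6131
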