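import Groth.Statements.S6132
import Groth.Agent.Lib.Helper13.SheafYoneda

set_option autoImplicit false
open CategoryTheory CategoryTheory.Limits
universe u
open SGA4

namespace Groth.Agent.S6132

/-- Let `(C, J)` be a small site, `X` an object and `s i : Y i ⟶ X` a family of morphisms all of whose
base changes exist in `C`. If the family is covering, every `s i` is a monomorphism, and for `i ≠ j`
the fibre product `Y i ×_X Y j` is covered by the empty sieve, then the associated sheaf of `X`,
with the maps induced by the `s i`, is a coproduct of the associated sheaves of the `Y i` in the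
category of sheaves of sets. -/
theorem result
    {C : Type u} [SmallCategory C] (J : GrothendieckTopology C) {X : C} {ι : Type u}
    (Y : ι → C) (s : ∀ i, Y i ⟶ X) [∀ (i : ι) (Z : C) (g : Z ⟶ X), HasPullback (s i) g]
    (hcov : Sieve.ofArrows Y s ∈ J X) (hmono : ∀ i, Mono (s i))
    (hdisj : ∀ i j, i ≠ j → (⊥ : Sieve (pullback (s i) (s j))) ∈ J (pullback (s i) (s j))) :
    Nonempty (IsColimit (Cofan.mk ((presheafToSheaf J (Type u)).obj (yoneda.obj X))
      (fun i => (presheafToSheaf J (Type u)).map (yoneda.map (s i))))) := by
  open Groth.Agent.Lib.Helper13.SheafYoneda Opposite in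
  rw [isColimit_cofan_iff]
  intro F x
  have hs : Presieve.IsSheafFor F.obj (Presieve.ofArrows Y s) := by
    rw [Presieve.isSheafFor_iff_generate]
    exact ((isSheaf_iff_isSheaf_of_type _ _).1 F.property) _ hcov
  rw [Presieve.isSheafFor_arrows_iff] at hs
  apply hs
  intro i j Z gi gj comm
  by_cases hij : i = j
  · subst hij
    have := hmono i
    rw [(cancel_mono (s i)).1 comm]
  · have h1 : F.obj.map (pullback.fst (s i) (s j)).op (x i) =
        F.obj.map (pullback.snd (s i) (s j)).op (x j) := eq_of_bot_mem J (hdisj i j hij) F _ _
    have e1 : F.obj.map gi.op (x i) = F.obj.map (pullback.lift gi gj comm).op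
        (F.obj.map (pullback.fst (s i) (s j)).op (x i)) := by
      rw [← Functor.map_comp_apply, ← op_comp, pullback.lift_fst]
    have e2 : F.obj.map gj.op (x j) = F.obj.map (pullback.lift gi gj comm).op
        (F.obj.map (pullback.snd (s i) (s j)).op (x j)) := by
      rw [← Functor.map_comp_apply, ← op_comp, pullback.lift_snd]
    rw [e1, e2, h1]

end Groth.Agent.S6132
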