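import Groth.Statements.S6137
import Mathlib
import Mathlib

set_option autoImplicit false
open CategoryTheory CategoryTheory.Limits
universe v u
open SGA4

namespace Groth.Agent.S6137

/-- Let `C` be a category with `v`-small hom-sets admitting all `v`-small limits, and `F : C ⥤ Type v` a
functor. Then `F` is corepresentable if and only if it is pro-representable (viewed as a presheaf on
`Cᵒᵖ` it is an ind-object, i.e. a small filtered colimit of corepresentable functors) and preserves
all `v`-small limits. -/
theorem result
    {C : Type u} [Category.{v} C] [HasLimitsOfSize.{v, v} C] (F : C ⥤ Type v) :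
    F.IsCorepresentable ↔
      IsIndObject (unopUnop C ⋙ F) ∧ PreservesLimitsOfSize.{v, v} F := by
  constructor
  · intro h
    haveI := h
    refine ⟨?_, inferInstance⟩
    let e := F.corepresentableBy
    let η : yoneda.obj (Opposite.op F.coreprX) ⟶ unopUnop C ⋙ F :=
      (yonedaEquiv (X := Opposite.op F.coreprX) (F := unopUnop C ⋙ F)).symm
        (show (unopUnop C ⋙ F).obj (Opposite.op (Opposite.op F.coreprX)) from
          e.homEquiv (𝟙 F.coreprX))
    have hη : ∀ (Y : Cᵒᵖᵒᵖ) (f : Y.unop ⟶ Opposite.op F.coreprX),
        η.app Y f = e.homEquiv f.unop := by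
      intro Y f
      have h1 := yonedaEquiv_symm_app_apply (X := Opposite.op F.coreprX) (F := unopUnop C ⋙ F)
        (show (unopUnop C ⋙ F).obj (Opposite.op (Opposite.op F.coreprX)) from
          e.homEquiv (𝟙 F.coreprX)) Y f
      refine h1.trans ?_
      exact (e.homEquiv_eq f.unop).symm
    haveI : IsIso η := by
      haveI : ∀ Y, IsIso (η.app Y) := by
        intro Y
        rw [isIso_iff_bijective]
        constructor
        · intro f g hfg
          have h2 : e.homEquiv (Quiver.Hom.unop (X := Y.unop) (Y := Opposite.op F.coreprX) f) =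
              e.homEquiv (Quiver.Hom.unop (X := Y.unop) (Y := Opposite.op F.coreprX) g) :=
            (hη Y f).symm.trans (hfg.trans (hη Y g))
          exact Quiver.Hom.unop_inj (e.homEquiv.injective h2)
        · intro y
          refine ⟨(e.homEquiv.symm y).op, ?_⟩
          refine (hη Y (e.homEquiv.symm y).op).trans ?_
          exact e.homEquiv.apply_symm_apply y
      exact NatIso.isIso_of_isIso_app η
    exact IsIndObject.map η (isIndObject_yoneda (Opposite.op F.coreprX))
  · rintro ⟨⟨⟨P⟩⟩, hlim⟩
    haveI := hlim
    haveI : HasLimitsOfSize.{v, v} F.Elements := ⟨fun I _ => inferInstance⟩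
    obtain ⟨T, hT⟩ := has_weakly_initial_of_weakly_initial_set_and_hasProducts
      (C := F.Elements) (ι := P.I)
      (B := fun i => (⟨(P.F.obj i).unop,
        yonedaEquiv (F := unopUnop C ⋙ F) (X := P.F.obj i) (P.ι.app i)⟩ : F.Elements)) (by
        rintro ⟨X, x⟩
        have ev : IsColimit (((evaluation _ _).obj (Opposite.op (Opposite.op X))).mapCocone
          P.cocone) := isColimitOfPreserves _ P.coconeIsColimit
        obtain ⟨i, a, ha⟩ := Types.jointly_surjective_of_isColimit ev x
        have a' : Opposite.op X ⟶ P.F.obj i := a
        have ha' : (P.ι.app i).app (Opposite.op (Opposite.op X)) a = x := ha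
        refine ⟨i, ⟨⟨Quiver.Hom.unop (X := Opposite.op X) (Y := P.F.obj i) a, ?_⟩⟩⟩
        have h1 := map_yonedaEquiv (F := unopUnop C ⋙ F) (X := P.F.obj i) (Y := Opposite.op X)
          (P.ι.app i) a
        exact h1.trans ha')
    haveI := hasInitial_of_weakly_initial_and_hasWideEqualizers hT
    exact Functor.Elements.isCorepresentable_of_hasInitial F

end Groth.Agent.S6137
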