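import Groth.Statements.S6139
import Mathlib

set_option autoImplicit false
open CategoryTheory CategoryTheory.Limits
universe v u
open SGA4

namespace Groth.Agent.S6139

/-- For an object `X` of a category `C`, the empty sieve on `X` is covering for the canonical topology
of `C` (the finest topology for which every representable presheaf is a sheaf) if and only if `X` is
a strict initial object: `X` is initial and every morphism with target `X` is an isomorphism. (The
source phrases the first condition as: for some topology coarser than the canonical one the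
associated sheaf of `h_X` is initial; that sheaf is initial exactly when the empty sieve covers `X`,
and coverage by the empty sieve passes to the finer canonical topology.) -/
theorem result
    {C : Type u} [Category.{v} C] (X : C) :
    (⊥ : Sieve X) ∈ Sheaf.canonicalTopology C X ↔
      (Nonempty (IsInitial X) ∧ ∀ (Y : C) (f : Y ⟶ X), IsIso f) := by
  have key : ∀ (Y : C), (⊥ : Sieve Y) ∈ Sheaf.canonicalTopology C Y → Nonempty (IsInitial Y) := by
    intro Y hY
    have huniq : ∀ Z : C, ∃! t : Y ⟶ Z, True := by
      intro Z
      have hs := Sheaf.isSheaf_yoneda_obj (C := C) Z (⊥ : Sieve Y) hY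
      obtain ⟨t, -, ht⟩ := hs (fun W g hg => False.elim hg) (fun _ _ _ _ _ _ _ h₁ _ _ => False.elim h₁)
      exact ⟨t, trivial, fun t' _ => ht t' (fun W g hg => False.elim hg)⟩
    exact ⟨IsInitial.ofUniqueHom (fun Z => (huniq Z).exists.choose)
      (fun Z m => (huniq Z).unique trivial trivial)⟩
  constructor
  · intro hX
    obtain ⟨hI⟩ := key X hX
    refine ⟨⟨hI⟩, ?_⟩
    intro Y f
    have hY : (⊥ : Sieve Y) ∈ Sheaf.canonicalTopology C Y := by
      have := (Sheaf.canonicalTopology C).pullback_stable f hX
      have e : (⊥ : Sieve X).pullback f = ⊥ := by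
        ext W g
        exact Iff.rfl
      rwa [e] at this
    obtain ⟨hIY⟩ := key Y hY
    exact ⟨hI.to Y, hIY.hom_ext _ _, hI.hom_ext _ _⟩
  · rintro ⟨⟨hI⟩, hiso⟩
    apply Sheaf.mem_finestTopology_of_forall_isSheafFor
    rintro _ ⟨Z, rfl⟩ Y f
    have := hiso Y f
    have hIY : IsInitial Y := IsInitial.ofIso hI (asIso f).symm
    intro x _
    refine ⟨hIY.to Z, fun W g hg => False.elim hg, fun t _ => hIY.hom_ext _ _⟩

end Groth.Agent.S6139
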