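import Groth.Statements.S6140
import Groth.Agent.Lib.Helper5.CanonicalEff
import Groth.Agent.Lib.Helper5.SheafGrpQuot
import Mathlib.CategoryTheory.Limits.Preserves.Shapes.Equalizers

set_option autoImplicit false
open CategoryTheory CategoryTheory.Limits
universe u
open SGA4

namespace Groth.Agent.S6140


open Groth.Agent.Lib.Helper5.CanonicalEff Groth.Agent.Lib.Helper5.SheafEqRel
  Groth.Agent.Lib.Helper5.SheafGrpQuot

lemma equivalenceRelation_of_isEquivRel {E : Type*} [Category E] [HasPullbacks E] {R A : E}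
    {p₁ p₂ : R ⟶ A} (h : SGA4.IsEquivRel p₁ p₂) : Nonempty (EquivalenceRelation p₁ p₂) := by
  have hm : JointlyMono₂ p₁ p₂ := ⟨fun Y f g h₁ h₂ => (h Y).1 (Prod.ext h₁ h₂)⟩
  obtain ⟨r, hr₁, hr₂⟩ := (h A).2.refl (𝟙 A)
  obtain ⟨s, hs₁, hs₂⟩ := (h R).2.symm ⟨𝟙 R, Category.id_comp p₁, Category.id_comp p₂⟩
  obtain ⟨t, ht₁, ht₂⟩ := (h (pullback p₂ p₁)).2.trans
    (x := pullback.fst p₂ p₁ ≫ p₁) (y := pullback.fst p₂ p₁ ≫ p₂) (z := pullback.snd p₂ p₁ ≫ p₂)
    ⟨pullback.fst p₂ p₁, rfl, rfl⟩ ⟨pullback.snd p₂ p₁, pullback.condition.symm, rfl⟩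
  exact ⟨{ toJointlyMono₂ := hm
           r := r
           reflexivity₁ := hr₁
           reflexivity₂ := hr₂
           s := s
           symmetry₁ := hs₁
           symmetry₂ := hs₂
           c := pullback.cone p₂ p₁
           isLimit := pullback.isLimit p₂ p₁
           t := t
           transitivity₁ := ht₁
           transitivity₂ := ht₂ }⟩

lemma jointlyMono₂_yoneda_map {C : Type u} [SmallCategory C] (J : GrothendieckTopology C)
    [J.Subcanonical] {R X : C} (p₁ p₂ : R ⟶ X) [JointlyMono₂ p₁ p₂] :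
    JointlyMono₂ (J.yoneda.map p₁) (J.yoneda.map p₂) where
  right_cancellation T f g h₁ h₂ := by
    apply J.hom_ext_yoneda
    intro U a
    obtain ⟨f', hf'⟩ := J.yoneda.map_surjective (a ≫ f)
    obtain ⟨g', hg'⟩ := J.yoneda.map_surjective (a ≫ g)
    rw [← hf', ← hg']
    congr 1
    apply JointlyMono₂.right_cancellation (p₁ := p₁) (p₂ := p₂)
    · apply J.yoneda.map_injective
      rw [Functor.map_comp, Functor.map_comp, hf', hg', Category.assoc, Category.assoc, h₁]
    · apply J.yoneda.map_injective
      rw [Functor.map_comp, Functor.map_comp, hf', hg', Category.assoc, Category.assoc, h₂]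

theorem aux {C : Type u} [SmallCategory C] [HasPullbacks C] {R X : C} (p₁ p₂ : R ⟶ X)
    (e : EquivalenceRelation p₁ p₂) (c : Cofork p₁ p₂) (hc : IsColimit c)
    (J : GrothendieckTopology C) (hJ : J = Sheaf.canonicalTopology C) [J.Subcanonical]
    (w : J.yoneda.map p₁ ≫ J.yoneda.map c.π = J.yoneda.map p₂ ≫ J.yoneda.map c.π) :
    SGA4.IsEffectiveUniversalEquivRel p₁ p₂ ↔
      Nonempty (IsColimit (Cofork.ofπ (J.yoneda.map c.π) w)) := by
  constructor
  · rintro ⟨B, π, hk, hp, heff⟩
    have hcB : IsColimit (Cofork.ofπ π hp.w) := hp.isLimitFork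
    let φ := hcB.coconePointUniqueUpToIso hc
    have hφ : π ≫ φ.hom = c.π :=
      hcB.comp_coconePointUniqueUpToIso_hom hc WalkingParallelPair.one
    have hk' : IsKernelPair c.π p₁ p₂ := by
      rw [← hφ]; exact IsKernelPair.comp_of_mono hk
    have hmem : Sieve.generate (Presieve.singleton π) ∈ J B := by
      rw [hJ]; exact (generate_singleton_mem_canonical_iff π).2 heff
    haveI : Epi (J.yoneda.map π) :=
      (Sheaf.isLocallySurjective_iff_epi _).1 ((isLocallySurjective_yoneda_map_iff J π).2 hmem)
    haveI : Epi (J.yoneda.map c.π) := by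
      rw [← hφ, Functor.map_comp]; infer_instance
    haveI : EffectiveEpi (J.yoneda.map c.π) := effectiveEpi_of_epi J _
    have hk'' := hk'.map J.yoneda
    exact ⟨isColimitCoforkOfEffectiveEpi (J.yoneda.map c.π) hk''.cone hk''.isLimit⟩
  · rintro ⟨hcol⟩
    haveI : Epi (J.yoneda.map c.π) := Cofork.IsColimit.epi hcol
    have hmem := (isLocallySurjective_yoneda_map_iff J c.π).1
      ((Sheaf.isLocallySurjective_iff_epi _).2 inferInstance)
    rw [hJ] at hmem
    have heff := (generate_singleton_mem_canonical_iff c.π).1 hmem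
    haveI := e.toJointlyMono₂
    haveI : JointlyMono₂ (J.yoneda.map p₁) (J.yoneda.map p₂) := jointlyMono₂_yoneda_map J p₁ p₂
    have e' : EquivalenceRelation (J.yoneda.map p₁) (J.yoneda.map p₂) :=
      equivalenceRelationMap e J.yoneda
    have hkp := isKernelPair_coequalizer_π J e'
    let ψ := (coequalizerIsCoequalizer (J.yoneda.map p₁)
      (J.yoneda.map p₂)).coconePointUniqueUpToIso hcol
    have hψ : coequalizer.π _ _ ≫ ψ.hom = J.yoneda.map c.π :=
      (coequalizerIsCoequalizer _ _).comp_coconePointUniqueUpToIso_hom hcol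
        WalkingParallelPair.one
    have hk1 : IsKernelPair (J.yoneda.map c.π) (J.yoneda.map p₁) (J.yoneda.map p₂) := by
      rw [← hψ]; exact hkp.comp_of_mono
    have hk : IsPullback p₁ p₂ c.π c.π := IsPullback.of_map J.yoneda c.condition hk1
    have hcol' : IsColimit (Cofork.ofπ c.π c.condition) :=
      IsColimit.ofIsoColimit hc (Cofork.isoCoforkOfπ c)
    have hp : IsPushout p₁ p₂ c.π c.π :=
      isPushout_of_isColimit_of_section c.condition hcol' e.r e.reflexivity₁ e.reflexivity₂
    exact ⟨c.pt, c.π, hk, hp, heff⟩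

/-- Let `C` be a small category with pullbacks, `p₁ p₂ : R ⇉ X` an equivalence relation in `C` admitting
a coequalizer cofork `c`, and `ε` the canonical functor to sheaves of sets for the canonical
topology of `C`. Then the equivalence relation is effective and universal (`R` is the kernel pair of
the quotient map, which is a coequalizer all of whose base changes are effective epimorphisms) if
and only if `ε` takes `c` to a coequalizer of `ε p₁, ε p₂`. (For a small category every topology has
a small topologically generating family, so both implications of the published statement apply. The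
published statement asks only that the quotient map have all base changes; this row assumes that `C`
has all pullbacks.) -/
theorem result
    {C : Type u} [SmallCategory C] [HasPullbacks C] {R X : C} (p₁ p₂ : R ⟶ X)
    (hR : SGA4.IsEquivRel p₁ p₂) (c : Cofork p₁ p₂) (hc : IsColimit c) :
    SGA4.IsEffectiveUniversalEquivRel p₁ p₂ ↔
      Nonempty (IsColimit ((yoneda ⋙ presheafToSheaf (Sheaf.canonicalTopology C) (Type u)).mapCocone c)) := by
  obtain ⟨e⟩ := equivalenceRelation_of_isEquivRel hR
  obtain ⟨J, hJ⟩ : ∃ J, J = Sheaf.canonicalTopology C := ⟨_, rfl⟩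
  haveI : J.Subcanonical := by rw [hJ]; infer_instance
  rw [← hJ]
  let L := presheafToSheaf J (Type u)
  let adj := sheafificationAdjunction J (Type u)
  let θ : yoneda ⋙ L ≅ J.yoneda :=
    Functor.isoWhiskerRight J.yonedaCompSheafToPresheaf.symm L ≪≫ Functor.associator _ _ _ ≪≫
      Functor.isoWhiskerLeft J.yoneda (asIso adj.counit) ≪≫ J.yoneda.rightUnitor
  have w : J.yoneda.map p₁ ≫ J.yoneda.map c.π = J.yoneda.map p₂ ≫ J.yoneda.map c.π := by
    rw [← Functor.map_comp, ← Functor.map_comp, c.condition]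
  rw [aux p₁ p₂ e c hc J hJ w]
  have i1 : J.yoneda.mapCocone c ≅ J.yoneda.mapCocone (Cofork.ofπ c.π c.condition) :=
    (Cocone.functoriality _ J.yoneda).mapIso (Cofork.isoCoforkOfπ c)
  constructor
  · rintro ⟨h⟩
    have h1 := (isColimitMapCoconeCoforkEquiv J.yoneda c.condition).symm h
    have h2 : IsColimit (J.yoneda.mapCocone c) := IsColimit.ofIsoColimit h1 i1.symm
    exact ⟨IsColimit.mapCoconeEquiv θ.symm h2⟩
  · rintro ⟨h⟩
    have h2 : IsColimit (J.yoneda.mapCocone c) := IsColimit.mapCoconeEquiv θ h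
    exact ⟨isColimitMapCoconeCoforkEquiv J.yoneda c.condition (IsColimit.ofIsoColimit h2 i1)⟩

end Groth.Agent.S6140
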