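import Groth.Statements.S6142
import Mathlib

set_option autoImplicit false
open CategoryTheory
universe u
open SGA4

namespace Groth.Agent.S6142

/-- Let `u : C ⥤ C'` be a continuous and cocontinuous functor between small sites whose topologies are
subcanonical. If the left adjoint `u_!` of the restriction functor `u^*` on sheaves of sets is full
and faithful, then `u` is full and faithful. -/
theorem result
    {C : Type u} [SmallCategory C] {C' : Type u} [SmallCategory C']
    (J : GrothendieckTopology C) (K : GrothendieckTopology C') [J.Subcanonical] [K.Subcanonical]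
    (u : C ⥤ C') [u.IsContinuous J K] [u.IsCocontinuous J K]
    (h : (u.sheafPullback (Type u) J K).Full ∧ (u.sheafPullback (Type u) J K).Faithful) :
    u.Full ∧ u.Faithful := by
  obtain ⟨hfull, hfaith⟩ := h
  let L := u.sheafPullback (Type u) J K
  let adj := u.sheafAdjunctionContinuous (Type u) J K
  let Φ : ∀ (X : C) (G : Sheaf K (Type u)),
      (L.obj (J.yoneda.obj X) ⟶ G) ≃ G.obj.obj (Opposite.op (u.obj X)) :=
    fun X G => (adj.homEquiv (J.yoneda.obj X) G).trans J.yonedaEquiv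
  have N1 : ∀ (X : C) {G G' : Sheaf K (Type u)} (γ : L.obj (J.yoneda.obj X) ⟶ G) (δ : G ⟶ G'),
      Φ X G' (γ ≫ δ) = δ.hom.app (Opposite.op (u.obj X)) (Φ X G γ) := by
    intro X G G' γ δ
    change J.yonedaEquiv (adj.homEquiv _ _ (γ ≫ δ)) = _
    rw [Adjunction.homEquiv_naturality_right, GrothendieckTopology.yonedaEquiv_comp]
    rfl
  have N2 : ∀ {X Y : C} (f : X ⟶ Y) (G : Sheaf K (Type u)) (γ : L.obj (J.yoneda.obj Y) ⟶ G),
      Φ X G (L.map (J.yoneda.map f) ≫ γ) = G.obj.map (u.map f).op (Φ Y G γ) := by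
    intro X Y f G γ
    change J.yonedaEquiv (adj.homEquiv _ _ (L.map (J.yoneda.map f) ≫ γ)) = _
    rw [Adjunction.homEquiv_naturality_left, ← GrothendieckTopology.yonedaEquiv_naturality]
    rfl
  let β : ∀ Y : C, L.obj (J.yoneda.obj Y) ⟶ K.yoneda.obj (u.obj Y) :=
    fun Y => (Φ Y (K.yoneda.obj (u.obj Y))).symm (𝟙 (u.obj Y))
  have hβ : ∀ Y, Φ Y _ (β Y) = 𝟙 (u.obj Y) := fun Y => Equiv.apply_symm_apply _ _
  have hy : ∀ {A B : C'} (g : A ⟶ B), (K.yoneda.obj B).obj.map g.op (𝟙 B) = g := by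
    intro A B g
    change g ≫ 𝟙 B = g
    simp
  have key : ∀ {X Y : C} (f : X ⟶ Y),
      Φ X _ (L.map (J.yoneda.map f) ≫ β Y) = u.map f := by
    intro X Y f
    rw [N2, hβ]
    exact hy _
  have : L.Full := hfull
  have : L.Faithful := hfaith
  constructor
  · constructor
    intro X Y g
    let γ : L.obj (J.yoneda.obj X) ⟶ L.obj (J.yoneda.obj Y) :=
      (Φ X _).symm ((L.obj (J.yoneda.obj Y)).obj.map g.op (Φ Y _ (𝟙 _)))
    obtain ⟨φ, hφ⟩ := L.map_surjective γ
    obtain ⟨f, hf⟩ := J.yoneda.map_surjective φ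
    refine ⟨f, ?_⟩
    have h1 := key f
    rw [hf, hφ, N1] at h1
    have h3 : Φ X _ γ = (L.obj (J.yoneda.obj Y)).obj.map g.op (Φ Y _ (𝟙 _)) :=
      Equiv.apply_symm_apply _ _
    rw [h3] at h1
    have h2 := NatTrans.naturality_apply (β Y).hom g.op (Φ Y _ (𝟙 _))
    rw [h2, ← N1, Category.id_comp, hβ, hy] at h1
    exact h1.symm
  · constructor
    intro X Y f f' hff'
    have h1 : L.map (J.yoneda.map f) = L.map (J.yoneda.map f') := by
      apply (Φ X _).injective
      have e1 := N2 f _ (𝟙 (L.obj (J.yoneda.obj Y)))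
      have e2 := N2 f' _ (𝟙 (L.obj (J.yoneda.obj Y)))
      rw [Category.comp_id] at e1 e2
      rw [e1, e2, hff']
    exact J.yoneda.map_injective (L.map_injective h1)

end Groth.Agent.S6142
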