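import Groth.Statements.S6143
import Mathlib
import Groth.Agent.S6132

set_option autoImplicit false
open CategoryTheory CategoryTheory.Limits
universe u
open SGA4

namespace Groth.Agent.S6143

section Backward
variable {C : Type u} [SmallCategory C] {X : C} {ι : Type u} (Y : ι → C) (s : ∀ i, Y i ⟶ X)
  [∀ (i : ι) (Z : C) (g : Z ⟶ X), HasPullback (s i) g]

lemma pullback_cofan_isColimit (hu : IsUniversalColimit (Cofan.mk X s)) {Z : C} (g : Z ⟶ X) :
    Nonempty (IsColimit (Cofan.mk Z (fun i => pullback.snd (s i) g))) := by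
  refine hu (Cofan.mk Z (fun i => pullback.snd (s i) g))
    (Discrete.natTrans (fun i => pullback.fst (s i.as) g)) g ?_ (.of_discrete _) ?_
  · ext ⟨i⟩
    simp [pullback.condition]
  · rintro ⟨i⟩
    exact (IsPullback.of_hasPullback (s i) g).flip

lemma ofArrows_mem_canonical (hu : IsUniversalColimit (Cofan.mk X s)) :
    Sieve.ofArrows Y s ∈ Sheaf.canonicalTopology C X := by
  apply Sheaf.mem_finestTopology_of_forall_isSheafFor
  rintro _ ⟨W, rfl⟩ Z g
  obtain ⟨hZ⟩ := pullback_cofan_isColimit Y s hu g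
  have e : (Sieve.ofArrows Y s).pullback g =
      Sieve.ofArrows _ (fun i => pullback.snd (s i) g) := by
    ext T r
    constructor
    · rintro ⟨_, a, _, ⟨i⟩, h⟩
      exact ⟨_, pullback.lift a r h, _, ⟨i⟩, pullback.lift_snd _ _ _⟩
    · rintro ⟨_, a, _, ⟨i⟩, rfl⟩
      refine ⟨_, a ≫ pullback.fst _ _, _, ⟨i⟩, ?_⟩
      simp [pullback.condition]
  rw [e, Sieve.ofArrows, ← Presieve.isSheafFor_iff_generate, Presieve.isSheafFor_arrows_iff]
  intro x _
  refine ⟨Cofan.IsColimit.desc hZ x, fun i => Cofan.IsColimit.fac hZ x i, fun t ht => ?_⟩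
  exact Cofan.IsColimit.hom_ext hZ _ _ (fun i => (ht i).trans (Cofan.IsColimit.fac hZ x i).symm)

lemma isInitial_of_disjoint (hc : IsColimit (Cofan.mk X s)) [CoproductDisjoint Y]
    (hu : IsUniversalColimit (Cofan.mk X s)) {i j : ι} (hij : i ≠ j) {T : C}
    (a : T ⟶ Y i) (b : T ⟶ Y j) (hab : a ≫ s i = b ≫ s j) : Nonempty (IsInitial T) := by
  classical
  obtain ⟨hP⟩ := CoproductDisjoint.nonempty_isInitial_of_ne hc hij (pullback.cone (s i) (s j))
    (pullback.isLimit _ _)
  obtain ⟨hT⟩ := pullback_cofan_isColimit Y s hu (a ≫ s i)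
  let σi : T ⟶ pullback (s i) (a ≫ s i) := pullback.lift a (𝟙 T) (by simp)
  let σj : T ⟶ pullback (s j) (a ≫ s i) := pullback.lift b (𝟙 T) (by simp [hab])
  have hπi : σi ≫ pullback.snd (s i) (a ≫ s i) = 𝟙 T := pullback.lift_snd _ _ _
  have hπj : σj ≫ pullback.snd (s j) (a ≫ s i) = 𝟙 T := pullback.lift_snd _ _ _
  have huniq : ∀ (W : C) (u v : T ⟶ W), u = v := by
    intro W u v
    let x : ∀ k, pullback (s k) (a ≫ s i) ⟶ W := fun k =>
      if k = j then pullback.snd (s k) (a ≫ s i) ≫ v else pullback.snd (s k) (a ≫ s i) ≫ u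
    let t := Cofan.IsColimit.desc hT x
    have ht : ∀ k, pullback.snd (s k) (a ≫ s i) ≫ t = x k := fun k => Cofan.IsColimit.fac hT x k
    have h1 : t = u := by
      have h := ht i
      simp only [x, if_neg hij] at h
      calc t = σi ≫ pullback.snd (s i) (a ≫ s i) ≫ t := by
            rw [← Category.assoc, hπi, Category.id_comp]
        _ = σi ≫ pullback.snd (s i) (a ≫ s i) ≫ u := by rw [h]
        _ = u := by rw [← Category.assoc, hπi, Category.id_comp]
    have h2 : t = v := by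
      have h := ht j
      simp only [x, if_true] at h
      calc t = σj ≫ pullback.snd (s j) (a ≫ s i) ≫ t := by
            rw [← Category.assoc, hπj, Category.id_comp]
        _ = σj ≫ pullback.snd (s j) (a ≫ s i) ≫ v := by rw [h]
        _ = v := by rw [← Category.assoc, hπj, Category.id_comp]
    exact h1.symm.trans h2
  exact ⟨IsInitial.ofUniqueHom (fun W => pullback.lift a b hab ≫ hP.to W)
    (fun W m => huniq W _ _)⟩

lemma bot_mem_of_disjoint (hc : IsColimit (Cofan.mk X s)) [CoproductDisjoint Y]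
    (hu : IsUniversalColimit (Cofan.mk X s)) {i j : ι} (hij : i ≠ j) :
    (⊥ : Sieve (pullback (s i) (s j))) ∈ Sheaf.canonicalTopology C (pullback (s i) (s j)) := by
  apply Sheaf.mem_finestTopology_of_forall_isSheafFor
  rintro _ ⟨W, rfl⟩ T f
  obtain ⟨hT⟩ := isInitial_of_disjoint Y s hc hu hij (f ≫ pullback.fst _ _) (f ≫ pullback.snd _ _)
    (by simp [pullback.condition])
  intro x _
  exact ⟨hT.to W, fun U r hr => False.elim hr, fun t _ => hT.hom_ext _ _⟩

end Backward

section Forward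
open Opposite
variable {C : Type u} [SmallCategory C] {X : C} {ι : Type u} (Y : ι → C) (s : ∀ i, Y i ⟶ X)

/-- The presheaf coproduct of the representables `h_{Y k}`, made explicit. -/
def Q : Cᵒᵖ ⥤ Type u where
  obj T := Σ k, (T.unop ⟶ Y k)
  map f := TypeCat.ofHom (fun p => ⟨p.1, f.unop ≫ p.2⟩)
  map_id T := by
    refine ConcreteCategory.hom_ext _ _ (fun p => ?_)
    obtain ⟨k, a⟩ := p
    change (⟨k, (𝟙 T).unop ≫ a⟩ : Σ k, (T.unop ⟶ Y k)) = ⟨k, a⟩
    rw [unop_id, Category.id_comp]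
  map_comp {T₁ T₂ T₃} f g := by
    refine ConcreteCategory.hom_ext _ _ (fun p => ?_)
    obtain ⟨k, a⟩ := p
    change (⟨k, (f ≫ g).unop ≫ a⟩ : Σ k, (T₃.unop ⟶ Y k)) = ⟨k, g.unop ≫ f.unop ≫ a⟩
    rw [unop_comp, Category.assoc]

lemma Q_map_apply {T T' : Cᵒᵖ} (f : T ⟶ T') (k : ι) (a : T.unop ⟶ Y k) :
    (Q Y).map f ⟨k, a⟩ = ⟨k, f.unop ≫ a⟩ := rfl

def inj (k : ι) : yoneda.obj (Y k) ⟶ Q Y where
  app T := TypeCat.ofHom (fun a => (⟨k, a⟩ : Σ k, (T.unop ⟶ Y k)))
  naturality T T' f := by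
    ext a
    rfl

lemma inj_app_apply (k : ι) (T : Cᵒᵖ) (a : T.unop ⟶ Y k) :
    (inj Y k).app T a = ⟨k, a⟩ := rfl

def phi : Q Y ⟶ yoneda.obj X where
  app T := TypeCat.ofHom (fun p => p.2 ≫ s p.1)
  naturality T T' f := by
    refine ConcreteCategory.hom_ext _ _ (fun p => ?_)
    obtain ⟨k, a⟩ := p
    change (f.unop ≫ a) ≫ s k = f.unop ≫ a ≫ s k
    rw [Category.assoc]

lemma phi_app_apply (T : Cᵒᵖ) (k : ι) (a : T.unop ⟶ Y k) :
    (phi Y s).app T ⟨k, a⟩ = a ≫ s k := rfl

lemma inj_phi (k : ι) : inj Y k ≫ phi Y s = yoneda.map (s k) := by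
  ext T a
  rfl

def isColimitQ : IsColimit (Cofan.mk (Q Y) (inj Y)) :=
  Cofan.IsColimit.mk _
    (fun t =>
      { app := fun T => TypeCat.ofHom (fun p => (t.inj p.1).app T p.2)
        naturality := fun T T' f => by
          refine ConcreteCategory.hom_ext _ _ (fun p => ?_)
          obtain ⟨k, a⟩ := p
          exact NatTrans.naturality_apply (t.inj k) f a })
    (fun t k => by
      ext T a
      rfl)
    (fun t m hm => by
      ext T : 2
      refine ConcreteCategory.hom_ext _ _ (fun p => ?_)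
      obtain ⟨k, a⟩ := p
      have := congrArg (fun (z : yoneda.obj (Y k) ⟶ t.pt) => z.app T a) (hm k)
      exact this)


variable (J : GrothendieckTopology C)

lemma isIso_sheafify_phi
    (h : IsColimit (Cofan.mk ((presheafToSheaf J (Type u)).obj (yoneda.obj X))
        (fun i => (presheafToSheaf J (Type u)).map (yoneda.map (s i))))) :
    IsIso ((presheafToSheaf J (Type u)).map (phi Y s)) := by
  let a := presheafToSheaf J (Type u)
  have hc1 : IsColimit (a.mapCocone (Cofan.mk (Q Y) (inj Y))) :=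
    isColimitOfPreserves a (isColimitQ Y)
  let ψ : a.obj (yoneda.obj X) ⟶ a.obj (Q Y) := Cofan.IsColimit.desc h (fun k => a.map (inj Y k))
  have hψ : ∀ k, a.map (yoneda.map (s k)) ≫ ψ = a.map (inj Y k) :=
    fun k => Cofan.IsColimit.fac h _ k
  refine ⟨⟨ψ, ?_, ?_⟩⟩
  · apply hc1.hom_ext
    rintro ⟨k⟩
    change a.map (inj Y k) ≫ a.map (phi Y s) ≫ ψ = a.map (inj Y k) ≫ 𝟙 _
    rw [← Category.assoc, ← a.map_comp, inj_phi, hψ, Category.comp_id]
  · apply Cofan.IsColimit.hom_ext h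
    intro k
    change a.map (yoneda.map (s k)) ≫ ψ ≫ a.map (phi Y s) = a.map (yoneda.map (s k)) ≫ 𝟙 _
    rw [← Category.assoc, hψ, ← a.map_comp, inj_phi, Category.comp_id]

lemma locallyBijective_phi
    (h : IsColimit (Cofan.mk ((presheafToSheaf J (Type u)).obj (yoneda.obj X))
        (fun i => (presheafToSheaf J (Type u)).map (yoneda.map (s i))))) :
    Presheaf.IsLocallyInjective J (phi Y s) ∧ Presheaf.IsLocallySurjective J (phi Y s) := by
  have := isIso_sheafify_phi Y s J h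
  exact (J.W_iff_isLocallyBijective _).1 ((J.W_iff _).2 this)

variable {Y s J}

lemma eq_of_comp_eq (hinj : Presheaf.IsLocallyInjective J (phi Y s))
    (hsub : ∀ W : C, Presieve.IsSheaf J (yoneda.obj W)) {T : C} {i : ι} (a b : T ⟶ Y i)
    (hab : a ≫ s i = b ≫ s i) : a = b := by
  have hmem := hinj.equalizerSieve_mem (X := op T) (⟨i, a⟩ : (Q Y).obj (op T)) ⟨i, b⟩ hab
  refine ((hsub (Y i)).isSeparated _ hmem).ext (fun U r hr => ?_)
  have hr' : (⟨i, r ≫ a⟩ : Σ k, (U ⟶ Y k)) = ⟨i, r ≫ b⟩ := hr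
  exact eq_of_heq (Sigma.mk.inj hr').2

lemma bot_mem_of_ne (hinj : Presheaf.IsLocallyInjective J (phi Y s)) {T : C} {i j : ι}
    (hij : i ≠ j) (a : T ⟶ Y i) (b : T ⟶ Y j) (hab : a ≫ s i = b ≫ s j) :
    (⊥ : Sieve T) ∈ J T := by
  have hmem := hinj.equalizerSieve_mem (X := op T) (⟨i, a⟩ : (Q Y).obj (op T)) ⟨j, b⟩ hab
  refine J.superset_covering ?_ hmem
  intro U r hr
  have hr' : (⟨i, r ≫ a⟩ : Σ k, (U ⟶ Y k)) = ⟨j, r ≫ b⟩ := hr
  exact hij (congrArg Sigma.fst hr')

lemma ofArrows_mem (hsurj : Presheaf.IsLocallySurjective J (phi Y s)) :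
    Sieve.ofArrows Y s ∈ J X := by
  have hmem := hsurj.imageSieve_mem (U := X) (𝟙 X : (yoneda.obj X).obj (op X))
  refine J.superset_covering ?_ hmem
  rintro U r ⟨⟨k, a⟩, ht⟩
  have ht' : a ≫ s k = r ≫ 𝟙 X := ht
  rw [Category.comp_id] at ht'
  exact ⟨_, a, _, ⟨k⟩, ht'⟩

lemma isUniversal_of (hsub : ∀ W : C, Presieve.IsSheaf J (yoneda.obj W))
    (hmono : ∀ k, Mono (s k)) (hcov : Sieve.ofArrows Y s ∈ J X)
    (hbot : ∀ (T : C) (i j : ι), i ≠ j → ∀ (a : T ⟶ Y i) (b : T ⟶ Y j),
      a ≫ s i = b ≫ s j → Nonempty (IsInitial T)) :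
    IsUniversalColimit (Cofan.mk X s) := by
  intro F' c' α f hα _ hpb
  have hcov' : Sieve.ofArrows (fun k => F'.obj ⟨k⟩) (fun k => c'.ι.app ⟨k⟩) ∈ J c'.pt := by
    refine J.superset_covering ?_ (J.pullback_stable f hcov)
    rintro U r ⟨_, a, _, ⟨k⟩, h⟩
    obtain ⟨l, hl1, hl2⟩ := (hpb ⟨k⟩).exists_lift r a h.symm
    exact ⟨_, l, _, ⟨k⟩, hl1⟩
  have hex : ∀ (W : C) (x : ∀ k, F'.obj ⟨k⟩ ⟶ W),
      ∃! t : c'.pt ⟶ W, ∀ k, c'.ι.app ⟨k⟩ ≫ t = x k := by
    intro W x
    have hsh := hsub W _ hcov'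
    rw [Sieve.ofArrows, ← Presieve.isSheafFor_iff_generate, Presieve.isSheafFor_arrows_iff] at hsh
    refine hsh x ?_
    intro i j U gi gj hg
    by_cases hij : i = j
    · subst hij
      have hm : Mono (c'.ι.app ⟨i⟩) := by
        have : Mono ((Cofan.mk X s).ι.app ⟨i⟩) := hmono i
        exact (hpb ⟨i⟩).mono_fst_of_mono
      have := (cancel_mono _).1 hg
      subst this
      rfl
    · obtain ⟨hU⟩ := hbot U i j hij (gi ≫ α.app ⟨i⟩) (gj ≫ α.app ⟨j⟩) (by
        have w1 : c'.ι.app ⟨i⟩ ≫ f = α.app ⟨i⟩ ≫ s i := (hpb ⟨i⟩).w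
        have w2 : c'.ι.app ⟨j⟩ ≫ f = α.app ⟨j⟩ ≫ s j := (hpb ⟨j⟩).w
        have hg' : gi ≫ c'.ι.app ⟨i⟩ = gj ≫ c'.ι.app ⟨j⟩ := hg
        rw [Category.assoc, Category.assoc, ← w1, ← w2, ← Category.assoc, hg', Category.assoc])
      exact hU.hom_ext _ _
  exact ⟨{ desc := fun t => (hex t.pt (fun k => t.ι.app ⟨k⟩)).exists.choose
           fac := fun t j => by
             obtain ⟨k⟩ := j
             exact (hex t.pt (fun k => t.ι.app ⟨k⟩)).exists.choose_spec k
           uniq := fun t m hm => (hex t.pt (fun k => t.ι.app ⟨k⟩)).unique (fun k => hm ⟨k⟩)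
             ((hex t.pt (fun k => t.ι.app ⟨k⟩)).exists.choose_spec) }⟩

lemma initial_of_bot_mem {U : C} (hU : (⊥ : Sieve U) ∈ Sheaf.canonicalTopology C U) :
    Nonempty (IsInitial U) := by
  have huniq : ∀ Z : C, ∃! t : U ⟶ Z, True := by
    intro Z
    have hs := Sheaf.isSheaf_yoneda_obj (C := C) Z (⊥ : Sieve U) hU
    obtain ⟨t, -, ht⟩ := hs (fun W g hg => False.elim hg)
      (fun _ _ _ _ _ _ _ h₁ _ _ => False.elim h₁)
    exact ⟨t, trivial, fun t' _ => ht t' (fun W g hg => False.elim hg)⟩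
  exact ⟨IsInitial.ofUniqueHom (fun Z => (huniq Z).exists.choose)
    (fun Z m => (huniq Z).unique trivial trivial)⟩

end Forward

/-- Let `C` be a small category, `X` an object and `s i : Y i ⟶ X` a family of morphisms all of whose
base changes exist. Then the associated sheaf of `h_X` for the canonical topology, with the maps
induced by the `s i`, is a coproduct of the associated sheaves of the `h_{Y i}` (in sheaves of sets
for the canonical topology) if and only if `X` is a disjoint universal coproduct of the `Y i` in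
`C`: the cofan `(X, s)` is a colimit, the injections of a coproduct of the family are monomorphisms
with pairwise pullbacks initial, and the colimit is stable under base change. (The source asks for
the coproduct decomposition after sheafification for some topology coarser than the canonical one;
this is equivalent to asking it for the canonical topology itself.) -/
theorem result
    {C : Type u} [SmallCategory C] {X : C} {ι : Type u} (Y : ι → C) (s : ∀ i, Y i ⟶ X)
    [∀ (i : ι) (Z : C) (g : Z ⟶ X), HasPullback (s i) g] :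
    Nonempty (IsColimit (Cofan.mk
        ((presheafToSheaf (Sheaf.canonicalTopology C) (Type u)).obj (yoneda.obj X))
        (fun i => (presheafToSheaf (Sheaf.canonicalTopology C) (Type u)).map (yoneda.map (s i))))) ↔
      (Nonempty (IsColimit (Cofan.mk X s)) ∧ CoproductDisjoint Y ∧
        IsUniversalColimit (Cofan.mk X s)) := by
  constructor
  · rintro ⟨h⟩
    obtain ⟨hinj, hsurj⟩ := locallyBijective_phi Y s (Sheaf.canonicalTopology C) h
    have hsub : ∀ W : C, Presieve.IsSheaf (Sheaf.canonicalTopology C) (yoneda.obj W) :=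
      Sheaf.isSheaf_yoneda_obj
    have hmono : ∀ k, Mono (s k) := fun k => ⟨fun a b hab => eq_of_comp_eq hinj hsub a b hab⟩
    have hcov := ofArrows_mem hsurj
    have hbot : ∀ (T : C) (i j : ι), i ≠ j → ∀ (a : T ⟶ Y i) (b : T ⟶ Y j),
        a ≫ s i = b ≫ s j → Nonempty (IsInitial T) :=
      fun T i j hij a b hab => initial_of_bot_mem (bot_mem_of_ne hinj hij a b hab)
    have hu := isUniversal_of hsub hmono hcov hbot
    have hc : IsColimit (Cofan.mk X s) := hu.isColimit
    refine ⟨⟨hc⟩, ?_, hu⟩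
    have : ∀ i, Mono ((Cofan.mk X s).inj i) := hmono
    exact CoproductDisjoint.of_cofan hc (fun {i j} _ => pullback.cone (s i) (s j))
      (fun _ => pullback.isLimit _ _)
      (fun {i j} hij => (hbot _ i j hij (pullback.fst _ _) (pullback.snd _ _)
        pullback.condition).some)
  · rintro ⟨⟨hc⟩, hd, hu⟩
    exact Groth.Agent.S6132.result _ Y s (ofArrows_mem_canonical Y s hu)
      (fun i => CoproductDisjoint.mono_inj hc i)
      (fun i j hij => bot_mem_of_disjoint Y s hc hu hij)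

end Groth.Agent.S6143
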