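import Groth.Statements.S6144
import Mathlib
import Mathlib

set_option autoImplicit false
open CategoryTheory CategoryTheory.Limits
universe w v u
open SGA4

namespace Groth.Agent.S6144

/-- Let `E` be a category with `v`-small hom-sets and pullbacks, admitting a detecting family of objects
indexed by a `v`-small type (maps out of the family jointly reflect isomorphisms). Then every
detecting family `Y : I → E`, indexed by an arbitrary type, contains a detecting subfamily indexed
by a `v`-small subset of `I`. -/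
theorem result
    {E : Type u} [Category.{v} E] [HasPullbacks E] {κ : Type v} (G : κ → E)
    (hG : (ObjectProperty.ofObj G).IsDetecting) {I : Type w} (Y : I → E)
    (hY : (ObjectProperty.ofObj Y).IsDetecting) :
    ∃ J : Set I, Small.{v} J ∧ (ObjectProperty.ofObj (fun j : J => Y j)).IsDetecting := by
  classical
  haveI : WellPowered.{v} E := wellPowered_of_isDetecting hG
  have key : ∀ (k : κ) (P : Subobject (G k)), P ≠ ⊤ →
      ∃ (i : I) (y : Y i ⟶ G k), ¬ P.Factors y := by
    intro k P hP
    by_contra hcon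
    push_neg at hcon
    exact hP (Subobject.eq_of_le_of_isDetecting hY P ⊤ le_top (by
      rintro _ ⟨i⟩ f _
      exact hcon i f))
  choose ι y hy using key
  refine ⟨Set.range (fun s : (Σ k : κ, {P : Subobject (G k) // P ≠ ⊤}) => ι s.1 s.2.1 s.2.2),
    small_range _, ?_⟩
  -- criterion for monomorphisms
  have hmono : ∀ {A' B' : E} (m : A' ⟶ B') [Mono m],
      (∀ s : (Σ k : κ, {P : Subobject (G k) // P ≠ ⊤}),
        ∀ h : Y (ι s.1 s.2.1 s.2.2) ⟶ B', ∃ h', h' ≫ m = h) →
      IsIso m := by
    intro A' B' m _ hm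
    rw [hG.isIso_iff_of_mono]
    rintro _ ⟨k⟩ b
    obtain ⟨b', rfl⟩ : ∃ b' : G k ⟶ B', b' = b := ⟨b, rfl⟩
    by_cases hP : Subobject.mk (pullback.snd m b') = ⊤
    · haveI : IsIso (pullback.snd m b') := (Subobject.isIso_iff_mk_eq_top _).2 hP
      refine ⟨(inv (pullback.snd m b') ≫ pullback.fst m b' : G k ⟶ A'), ?_⟩
      show (inv (pullback.snd m b') ≫ pullback.fst m b') ≫ m = b'
      rw [Category.assoc, pullback.condition, IsIso.inv_hom_id_assoc]
    · exfalso
      apply hy k _ hP
      obtain ⟨h', hh'⟩ := hm ⟨k, ⟨Subobject.mk (pullback.snd m b'), hP⟩⟩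
        (y k (Subobject.mk (pullback.snd m b')) hP ≫ b')
      exact (Subobject.mk_factors_iff _ _).2
        ⟨pullback.lift h' (y k (Subobject.mk (pullback.snd m b')) hP) hh',
          pullback.lift_snd _ _ _⟩
  intro A B f hf
  have hf' : ∀ s : (Σ k : κ, {P : Subobject (G k) // P ≠ ⊤}),
      ∀ h : Y (ι s.1 s.2.1 s.2.2) ⟶ B, ∃! h', h' ≫ f = h := fun s h =>
    hf _ (ObjectProperty.ofObj.mk
      (X := fun j : Set.range
        (fun s : (Σ k : κ, {P : Subobject (G k) // P ≠ ⊤}) => ι s.1 s.2.1 s.2.2) => Y j)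
      ⟨ι s.1 s.2.1 s.2.2, ⟨s, rfl⟩⟩) h
  have hδ : IsIso (pullback.lift (𝟙 A) (𝟙 A) rfl : A ⟶ pullback f f) := by
    haveI : Mono (pullback.lift (𝟙 A) (𝟙 A) rfl : A ⟶ pullback f f) :=
      mono_of_mono_fac (pullback.lift_fst _ _ _)
    apply hmono
    intro s h
    have e : h ≫ pullback.fst f f = h ≫ pullback.snd f f :=
      (hf' s (h ≫ pullback.fst f f ≫ f)).unique (Category.assoc _ _ _)
        (by rw [Category.assoc, pullback.condition])
    refine ⟨h ≫ pullback.fst f f, ?_⟩
    apply pullback.hom_ext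
    · rw [Category.assoc, pullback.lift_fst, Category.comp_id]
    · rw [Category.assoc, pullback.lift_snd, Category.comp_id, e]
  have hfs : pullback.fst f f = pullback.snd f f := by
    haveI := hδ
    rw [← cancel_epi (pullback.lift (𝟙 A) (𝟙 A) rfl : A ⟶ pullback f f), pullback.lift_fst,
      pullback.lift_snd]
  haveI : Mono f := ⟨fun {Z} a a' h =>
    calc a = pullback.lift a a' h ≫ pullback.fst f f := (pullback.lift_fst _ _ _).symm
      _ = pullback.lift a a' h ≫ pullback.snd f f := by rw [hfs]
      _ = a' := pullback.lift_snd _ _ _⟩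
  exact hmono f (fun s h => (hf' s h).exists)

end Groth.Agent.S6144
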