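import Groth.Statements.S6153
import Groth.Agent.Lib.Helper13.ModSiteFreeOn

set_option autoImplicit false
universe u
open CategoryTheory
open ModSite

namespace Groth.Agent.S6153

/-- Morphisms of ringed sites between small sites with commutative structure sheaves: for a morphism of
ringed sites f : (C, O_C) -> (D, O_D) given by a functor u : D -> C and every object X of D, the
inverse image f^*(A'_X) of the free O_D-module on X is isomorphic to the free O_C-module A_{u(X)} on
u(X). Existence of an isomorphism of modules only (the source's isomorphism is the canonical one). -/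
theorem result {C D : Type u} [SmallCategory C] [SmallCategory D] {J : GrothendieckTopology C}
    {K : GrothendieckTopology D} {O_C : Sheaf J CommRingCat.{u}} {O_D : Sheaf K CommRingCat.{u}}
    (f : ModSite.RMor O_C O_D) (X : D) :
    Nonempty (f.pull.obj (ModSite.freeOn O_D X) ≅ ModSite.freeOn O_C (f.fn.obj X)) := by
  open Groth.Agent.Lib.Helper13.ModSiteFreeOn in
  exact ⟨isoOfCorepr (F := fun M : ModSite.Mod O_C => M.val.obj (Opposite.op (f.fn.obj X)))
    (fun g x => g.val.app (Opposite.op (f.fn.obj X)) x)
    (fun M => (f.adj.homEquiv _ M).trans (freeOnHomEquiv O_D X (f.push.obj M)))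
    (fun M => freeOnHomEquiv O_C (f.fn.obj X) M)
    (fun {M N} h g => by
      have e := freeOnHomEquiv_naturality O_D X (f.adj.homEquiv _ M h) (f.push.map g)
      rw [← Adjunction.homEquiv_naturality_right] at e
      exact e)
    (fun h g => freeOnHomEquiv_naturality O_C (f.fn.obj X) h g)⟩

end Groth.Agent.S6153
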