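import Groth.Statements.S6160
import Groth.Agent.Lib.Helper13.ModSheafBasic

set_option autoImplicit false
universe u
open CategoryTheory
open ModSite

namespace Groth.Agent.S6160

open CategoryTheory.Limits in
/-- Ringed topos of sheaves on a small site; u : A -> B a morphism of sheaves of rings: the
restriction-of-scalars functor from B-Modules to A-Modules commutes with all u-small limits and
colimits and is conservative. -/
theorem result {C : Type u} [SmallCategory C]
    {J : GrothendieckTopology C} {A B : Sheaf J RingCat.{u}} (φ : A ⟶ B) :
    PreservesLimitsOfSize.{u, u} (SheafOfModules.restrictScalars.{u} φ) ∧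
    PreservesColimitsOfSize.{u, u} (SheafOfModules.restrictScalars.{u} φ) ∧
    (SheafOfModules.restrictScalars.{u} φ).ReflectsIsomorphisms := by
  refine ⟨?_, ?_, inferInstance⟩
  · -- limits
    let GA := SheafOfModules.forget.{u} A ⋙ PresheafOfModules.toPresheaf A.obj
    let GB := SheafOfModules.forget.{u} B ⋙ PresheafOfModules.toPresheaf B.obj
    have hA : PreservesLimitsOfSize.{u, u} GA := inferInstance
    have hB : PreservesLimitsOfSize.{u, u} GB := inferInstance
    have hrA : GA.ReflectsIsomorphisms := inferInstance
    have : ReflectsLimitsOfSize.{u, u} GA := reflectsLimits_of_reflectsIsomorphisms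
    have : PreservesLimitsOfSize.{u, u} (SheafOfModules.restrictScalars.{u} φ ⋙ GA) :=
      preservesLimits_of_natIso (Groth.Agent.Lib.Helper13.ModSheafBasic.restrictScalarsCompForgetToPresheaf φ).symm
    exact preservesLimits_of_reflects_of_preserves _ GA
  · -- colimits
    have hA : PreservesColimitsOfSize.{u, u} (SheafOfModules.toSheaf.{u} A) := ⟨inferInstance⟩
    have hB : PreservesColimitsOfSize.{u, u} (SheafOfModules.toSheaf.{u} B) := ⟨inferInstance⟩
    have : ReflectsColimitsOfSize.{u, u} (SheafOfModules.toSheaf.{u} A) :=
      reflectsColimits_of_reflectsIsomorphisms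
    have : PreservesColimitsOfSize.{u, u}
        (SheafOfModules.restrictScalars.{u} φ ⋙ SheafOfModules.toSheaf.{u} A) :=
      preservesColimits_of_natIso (Groth.Agent.Lib.Helper13.ModSheafBasic.restrictScalarsCompToSheaf φ).symm
    exact preservesColimits_of_reflects_of_preserves _ (SheafOfModules.toSheaf.{u} A)

end Groth.Agent.S6160
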