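import Groth.Statements.S6164
import Groth.Agent.Lib.Helper2.GSS.CechDerived
import Groth.Agent.Lib.Helper2.GSS.LeraySite
import Groth.Agent.Lib.Helper13.CechH0
import Groth.Agent.Lib.Helper13.CechSite
-- import your own Groth.Agent.* helpers here

set_option autoImplicit false
universe u
open CategoryTheory
open CohSite

namespace Groth.Agent.S6164

open CategoryTheory.Limits Opposite
open Groth.Agent.Lib.Helper2.GSS Groth.Agent.Lib.Helper13 Groth.Agent.Lib.Helper13.DerivedPush
  Groth.Agent.Lib.Helper13.DerivedCommute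

theorem aux {C : Type u} [SmallCategory C] [HasPullbacks C]
    (J : GrothendieckTopology C) (M : Sheaf J AddCommGrpCat.{u}) {X : C} {ι : Type u} (Y : ι → Over X)
    (hY : Sieve.ofArrows (fun i => (Y i).left) (fun i => (Y i).hom) ∈ J X) :
    ∃ (E : E₂CohomologicalSpectralSequence AddCommGrpCat.{u})
      (a : SpSeq.Abutment E (fun n : ℤ =>
        if 0 ≤ n then AddCommGrpCat.of (CohSite.HU M n.toNat X) else AddCommGrpCat.of PUnit.{u + 1})),
      (∀ n, a.IsFinite n) ∧ SpSeq.IsBounded E ∧
      ∀ p q : ℤ, Nonempty ((E.page 2 le_rfl).X (p, q) ≅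
        (if 0 ≤ p ∧ 0 ≤ q then CohCx.cechH (M.cohomologyPresheaf q.toNat) Y p.toNat
         else AddCommGrpCat.of PUnit.{u + 1})) := by
  haveI := preservesFiniteLimits_H0 (cechG Y) (cechG_shortExact Y)
  refine grothendieck_ss_ite (sheafToPresheaf J AddCommGrpCat.{u}) (H0 (cechG Y)) ?_ M
    (fun n => AddCommGrpCat.of (CohSite.HU M n X)) ?_
    (fun p q => CohCx.cechH (M.cohomologyPresheaf q) Y p) ?_
    (AddCommGrpCat.of PUnit.{u + 1}) (AddCommGrpCat.of PUnit.{u + 1})
    (AddCommGrpCat.isZero_of_subsingleton _) (AddCommGrpCat.isZero_of_subsingleton _)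
  · intro Q hQ q hq
    obtain ⟨q', rfl⟩ : ∃ q', q = q' + 1 := ⟨q - 1, by omega⟩
    haveI : Injective ((sheafToPresheaf J AddCommGrpCat.{u}).obj Q) :=
      CechInjective.injective_presheaf J Q
    exact Functor.isZero_rightDerived_obj_injective_succ _ _ _
  · intro n
    let e : secF J X ≅ sheafToPresheaf J AddCommGrpCat.{u} ⋙ H0 (cechG Y) :=
      NatIso.ofComponents
        (fun N =>
          @asIso _ _ _ _ (CechH0.secToH0 (CechSite.siteAug Y) ((Over.forget X).op ⋙ N.obj))
            (CechH0.isIso_secToH0 (CechSite.siteAug Y) (CechSite.isGluing_site Y hY N)))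
        (fun {N N'} f => (CechH0.secToH0_naturality (CechSite.siteAug Y)
          (Functor.whiskerLeft (Over.forget X).op f.hom)).symm)
    exact ⟨(rightDerivedSecIso J X M n).symm ≪≫ rightDerivedObjIsoOfNatIso e n M⟩
  · intro p q
    obtain ⟨e⟩ := nonempty_rightDerived_cech_iso Y p (M.cohomologyPresheaf q)
    exact ⟨e.symm ≪≫ ((H0 (cechG Y)).rightDerived p).mapIso
      (rightDerivedSheafToPresheafIso J M q).symm⟩

open CategoryTheory.Limits in
/-- Existence form of the spectral sequence of a covering; abelian sheaves on a small site with fibre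
products: for a covering family (U_i -> X) and an abelian sheaf M there is a bounded E_2 spectral
sequence of abelian groups with E_2^{p,q} isomorphic to the Cech cohomology group H^p((U_i -> X),
H^q(M)) of the family with coefficients in the presheaf V |-> H^q(V, M), for p, q >= 0 and zero
otherwise, with abutment data whose filtrations are finite on H^n(X, M) (n >= 0; zero for n < 0).
The E_2 identifications and abutment isomorphisms are asserted to exist only, not pinned to the
canonical maps, so edge maps are not part of this statement. -/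
theorem result {C : Type u} [SmallCategory C] [HasPullbacks C]
    (J : GrothendieckTopology C) (M : Sheaf J AddCommGrpCat.{u}) {X : C} {ι : Type u} (Y : ι → Over X)
    (hY : Sieve.ofArrows (fun i => (Y i).left) (fun i => (Y i).hom) ∈ J X) :
    ∃ (E : E₂CohomologicalSpectralSequence AddCommGrpCat.{u})
      (a : SpSeq.Abutment E (fun n : ℤ =>
        if 0 ≤ n then AddCommGrpCat.of (CohSite.HU M n.toNat X) else AddCommGrpCat.of PUnit.{u + 1})),
      (∀ n, a.IsFinite n) ∧ SpSeq.IsBounded E ∧
      ∀ p q : ℤ, Nonempty ((E.page 2 le_rfl).X (p, q) ≅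
        (if 0 ≤ p ∧ 0 ≤ q then CohCx.cechH (M.cohomologyPresheaf q.toNat) Y p.toNat
         else AddCommGrpCat.of PUnit.{u + 1})) := aux J M Y hY

end Groth.Agent.S6164
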