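import Groth.Statements.S6167
import Mathlib
import Groth.Agent.Lib.Helper21.StalkFlatR

set_option autoImplicit false
universe u
open CategoryTheory
open ModSite

namespace Groth.Agent.S6167

/-- Ringed site (C, O), small, with commutative structure sheaf: a morphism from an O-module of finite
presentation (Mathlib's notion: over some family of objects covering every object, a cokernel of a
map of finite free modules) to a flat O-module factors, locally on the site, through a finite free
module: for every object X there is a covering family (Y_i -> X) and for each i a factorisation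
F|Y_i -> (O|Y_i)^n -> H|Y_i of the restricted morphism. -/
theorem result {C : Type u} [SmallCategory C] {J : GrothendieckTopology C}
    (O : Sheaf J CommRingCat.{u}) (F H : ModSite.Mod O) [F.IsFinitePresentation] (hH : ModSite.IsFlat H)
    (φ : F ⟶ H) (X : C) :
    ∃ (ι : Type u) (Y : ι → C) (g : ∀ i, Y i ⟶ X), Sieve.ofArrows Y g ∈ J X ∧
      ∀ i, ∃ (n : ℕ) (a : (ModSite.restr O (Y i)).obj F ⟶ SheafOfModules.free (ULift.{u} (Fin n)))
        (b : SheafOfModules.free (ULift.{u} (Fin n)) ⟶ (ModSite.restr O (Y i)).obj H),
        a ≫ b = (ModSite.restr O (Y i)).map φ := by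
  classical
  obtain ⟨σ, hσ⟩ := SheafOfModules.IsFinitePresentation.exists_quasicoherentData F
  have key : ∀ i : σ.I, ∃ S ∈ J (σ.X i), ∀ ⦃V : C⦄ (g : V ⟶ σ.X i), S g →
      ∃ (n : ℕ) (a : (ModSite.restr O V).obj F ⟶ SheafOfModules.free (ULift.{u} (Fin n)))
        (b : SheafOfModules.free (ULift.{u} (Fin n)) ⟶ (ModSite.restr O V).obj H),
        a ≫ b = (ModSite.restr O V).map φ := by
    intro i
    haveI : Finite (σ.presentation i).generators.I := inferInstance
    haveI : Finite (σ.presentation i).relations.I := inferInstance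
    have hcok := (σ.presentation i).isColimit
    exact Groth.Agent.Lib.Helper21.StalkFlatR.local_factorization' hH φ (σ.X i) hcok
  choose S hS hfac using key
  have hX : Sieve.ofObjects σ.X X ∈ J X := σ.coversTop X
  have hch : ∀ ⦃Z : C⦄ (f : Z ⟶ X), (Sieve.ofObjects σ.X X).arrows f →
      ∃ i, Nonempty (Z ⟶ σ.X i) := fun Z f hf => hf
  choose idx hw using hch
  let S' : Sieve X := Sieve.bind (Sieve.ofObjects σ.X X)
    (fun Z f hf => (S (idx f hf)).pullback (hw f hf).some)
  have hS' : S' ∈ J X := J.bind_covering hX (fun Z f hf => J.pullback_stable _ (hS _))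
  refine ⟨Σ V : C, {f : V ⟶ X // S' f}, fun i => i.1, fun i => i.2.1, ?_, ?_⟩
  · refine J.superset_covering ?_ hS'
    intro V f hf
    exact Sieve.ofArrows_mk (fun i : (Σ V : C, {f : V ⟶ X // S' f}) => i.1)
      (fun i => i.2.1) ⟨V, f, hf⟩
  · rintro ⟨V, f, Z, h, f', hf', hh, rfl⟩
    exact hfac _ (h ≫ (hw f' hf').some) hh

end Groth.Agent.S6167
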