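import Groth.Statements.S6172
import Mathlib

set_option autoImplicit false
universe u
open CategoryTheory
open SGA4

namespace Groth.Agent.S6172

universe v
section Aux
open CategoryTheory.Limits MonoidalCategory
variable {E : Type u} [Category.{v} E] [CartesianMonoidalCategory E] [HasBinaryProducts E]

noncomputable def prodTensorIso (Z Y : E) : (Z ⨯ Y) ≅ Z ⊗ Y :=
  IsLimit.conePointUniqueUpToIso (prodIsProd Z Y)
      (CartesianMonoidalCategory.tensorProductIsBinaryProduct Z Y)

lemma prodTensorIso_fst (Z Y : E) :
    (prodTensorIso Z Y).hom ≫ CartesianMonoidalCategory.fst Z Y = prod.fst := by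
  have h1 := IsLimit.conePointUniqueUpToIso_hom_comp (prodIsProd Z Y)
        (CartesianMonoidalCategory.tensorProductIsBinaryProduct Z Y) ⟨WalkingPair.left⟩
  simp at h1
  exact h1

lemma prodTensorIso_snd (Z Y : E) :
    (prodTensorIso Z Y).hom ≫ CartesianMonoidalCategory.snd Z Y = prod.snd := by
  have h1 := IsLimit.conePointUniqueUpToIso_hom_comp (prodIsProd Z Y)
        (CartesianMonoidalCategory.tensorProductIsBinaryProduct Z Y) ⟨WalkingPair.right⟩
  simp at h1
  exact h1

lemma prodTensorIso_natural (Z : E) {Y Y' : E} (f : Y ⟶ Y') :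
    prod.map (𝟙 Z) f ≫ (prodTensorIso Z Y').hom = (prodTensorIso Z Y).hom ≫ Z ◁ f := by
  apply CartesianMonoidalCategory.hom_ext
  · rw [Category.assoc, Category.assoc, prodTensorIso_fst, CartesianMonoidalCategory.whiskerLeft_fst,
      prodTensorIso_fst, prod.map_fst, Category.comp_id]
  · rw [Category.assoc, Category.assoc, prodTensorIso_snd, CartesianMonoidalCategory.whiskerLeft_snd,
      ← Category.assoc, prodTensorIso_snd, prod.map_snd]

noncomputable def starForgetIso (Z : E) :
    Over.star Z ⋙ Over.forget Z ≅ tensorLeft Z :=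
  NatIso.ofComponents (fun Y => prodTensorIso Z Y) (by
    intro Y Y' f
    exact prodTensorIso_natural Z f)
end Aux


open CategoryTheory.Limits MonoidalCategory in
/-- Topos E of sheaves of sets on a small site, localised at an object Z: with j_Z : E/Z -> E the
localisation morphism, j_Z^* X = Z x X over Z, and j_{Z*} its right adjoint (taken as an instance
hypothesis, which holds in any topos), j_{Z*} j_Z^* Y is isomorphic to the internal hom Hom(Z, Y)
for every object Y. Existence of an isomorphism only (the source's is canonical). -/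
theorem result {C : Type u} [SmallCategory C] (J : GrothendieckTopology C)
    (Z Y : Sheaf J (Type u)) [(Over.star Z).IsLeftAdjoint] :
    Nonempty (((Over.star Z).rightAdjoint).obj ((Over.star Z).obj Y) ≅ (ihom Z).obj Y) := by
  let adj0 : Over.star Z ⊣ (Over.star Z).rightAdjoint := Adjunction.ofIsLeftAdjoint _
  let adj1 : Over.star Z ⋙ Over.forget Z ⊣ Over.star Z ⋙ (Over.star Z).rightAdjoint :=
    adj0.comp (Over.forgetAdjStar Z)
  exact ⟨(Adjunction.rightAdjointUniq (adj1.ofNatIsoLeft (starForgetIso Z)) (ihom.adjunction Z)).app Y⟩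

end Groth.Agent.S6172
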