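import Groth.Statements.S6173
import Mathlib

set_option autoImplicit false
universe u
open CategoryTheory
open SGA4

namespace Groth.Agent.S6173

/-- Second assertion (topos of sheaves on a small site (C, J); E/X_i the induced topoi, modelled by the
sites (C/X_i, J/X_i); 'enough points' = a small conservative family of points, equivalently all
fibre functors together are conservative): if (X_i) is a family of objects covering the final object
and every E/X_i has enough points, then E has enough points. (The first assertion, that E/X inherits
enough points from E, is Mathlib's instance.) -/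
theorem result {C : Type u} [SmallCategory C] (J : GrothendieckTopology C) {ι : Type u}
    (X : ι → C) (hX : J.CoversTop X) (h : ∀ i, GrothendieckTopology.HasEnoughPoints.{u} (J.over (X i))) :
    GrothendieckTopology.HasEnoughPoints.{u} J := by
  choose P hPs hPc using fun i => (h i).exists_objectProperty
  let Q : ObjectProperty (GrothendieckTopology.Point.{u} J) :=
    ObjectProperty.ofObj (fun ψ : Σ i, (P i).FullSubcategory => ψ.2.obj.map (Over.forget (X ψ.1)) J)
  refine ⟨Q, ?_, ?_⟩
  · have : ∀ i, Small.{u} (P i).FullSubcategory := fun i => by have := hPs i; infer_instance
    infer_instance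
  · constructor
    constructor
    intro F G f hf
    apply Sheaf.isIso_of_coversTop hX
    intro i
    have : ∀ Φ : (P i).FullSubcategory, IsIso (Φ.obj.sheafFiber.map ((J.overPullback (Type u) (X i)).map f)) := by
      intro Φ
      have h1 : IsIso ((Φ.obj.map (Over.forget (X i)) J).sheafFiber.map f) :=
        hf ⟨Φ.obj.map (Over.forget (X i)) J, ObjectProperty.ofObj_apply _ (⟨i, Φ⟩ : Σ i, (P i).FullSubcategory)⟩
      have h2 := NatIso.isIso_map_iff (Φ.obj.sheafFiberMapIso (Over.forget (X i)) J (Type u)) f
      exact h2.1 h1
    exact (hPc i).jointlyReflectIsomorphisms_type.isIso _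

end Groth.Agent.S6173
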