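import Groth.Statements.S6176
import Mathlib

set_option autoImplicit false
universe u
open CategoryTheory
open SGA4

namespace Groth.Agent.S6176

open CategoryTheory.Limits in
/-- The clause on products (topos of sheaves of sets on a small site; j : E/U -> E the open embedding
defined by an open U, i.e. a subobject of the final object, so that j_! is the forgetful functor
from objects over U): j_! commutes with products indexed by a nonempty u-small set. (Commutation
with fibre products and cofiltered limits, the other clauses, holds for the forgetful functor of any
slice.) -/
theorem result {C : Type u} [SmallCategory C] (J : GrothendieckTopology C)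
    (U : Sheaf J (Type u)) (hU : SGA4.IsOpen U) (I : Type u) [Nonempty I] :
    PreservesLimitsOfShape (Discrete I) (Over.forget U) := by
  open CategoryTheory.Limits in
  have hsub : ∀ {T : Sheaf J (Type u)} (a b : T ⟶ U), a = b := by
    intro T a b
    have := hU
    rw [← cancel_mono (terminal.from U)]
    exact terminal.hom_ext _ _
  obtain ⟨i₀⟩ := ‹Nonempty I›
  constructor
  intro F
  let X : I → Sheaf J (Type u) := fun i => (F.obj ⟨i⟩).left
  let pt : Over U := Over.mk (Pi.π X i₀ ≫ (F.obj ⟨i₀⟩).hom)
  let c : Cone F :=
    { pt := pt
      π := Discrete.natTrans (fun i => Over.homMk (Pi.π X i.as) (hsub _ _)) }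
  have hc : IsLimit c :=
    { lift := fun s => Over.homMk (Pi.lift (fun i => (s.π.app ⟨i⟩).left)) (hsub _ _)
      fac := by
        rintro s ⟨i⟩
        ext : 1
        simp [c, X]
      uniq := by
        intro s m hm
        ext : 1
        apply Pi.hom_ext
        intro i
        simp [← hm ⟨i⟩, c, X] }
  apply preservesLimit_of_preserves_limit_cone hc
  exact
    { lift := fun s => Pi.lift (fun i => s.π.app ⟨i⟩)
      fac := by
        rintro s ⟨i⟩
        simp [c, X]
      uniq := by
        intro s m hm
        apply Pi.hom_ext
        intro i
        simp [← hm ⟨i⟩, c, X] }

end Groth.Agent.S6176
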