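import Groth.Statements.S6177
import Mathlib

set_option autoImplicit false
universe u
open CategoryTheory
open SGA4

namespace Groth.Agent.S6177

universe v
section Aux
open CategoryTheory.Limits MonoidalCategory
variable {E : Type v} [Category.{u} E] [CartesianMonoidalCategory E] [HasBinaryProducts E]

noncomputable def prodTensorIso (Z Y : E) : (Z ⨯ Y) ≅ Z ⊗ Y :=
  IsLimit.conePointUniqueUpToIso (prodIsProd Z Y)
      (CartesianMonoidalCategory.tensorProductIsBinaryProduct Z Y)

lemma prodTensorIso_fst (Z Y : E) :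
    (prodTensorIso Z Y).hom ≫ CartesianMonoidalCategory.fst Z Y = prod.fst := by
  have h1 := IsLimit.conePointUniqueUpToIso_hom_comp (prodIsProd Z Y)
        (CartesianMonoidalCategory.tensorProductIsBinaryProduct Z Y) ⟨WalkingPair.left⟩
  simp at h1
  exact h1

lemma prodTensorIso_snd (Z Y : E) :
    (prodTensorIso Z Y).hom ≫ CartesianMonoidalCategory.snd Z Y = prod.snd := by
  have h1 := IsLimit.conePointUniqueUpToIso_hom_comp (prodIsProd Z Y)
        (CartesianMonoidalCategory.tensorProductIsBinaryProduct Z Y) ⟨WalkingPair.right⟩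
  simp at h1
  exact h1

lemma prodTensorIso_natural (Z : E) {Y Y' : E} (f : Y ⟶ Y') :
    prod.map (𝟙 Z) f ≫ (prodTensorIso Z Y').hom = (prodTensorIso Z Y).hom ≫ Z ◁ f := by
  apply CartesianMonoidalCategory.hom_ext
  · rw [Category.assoc, Category.assoc, prodTensorIso_fst, CartesianMonoidalCategory.whiskerLeft_fst,
      prodTensorIso_fst, prod.map_fst, Category.comp_id]
  · rw [Category.assoc, Category.assoc, prodTensorIso_snd, CartesianMonoidalCategory.whiskerLeft_snd,
      ← Category.assoc, prodTensorIso_snd, prod.map_snd]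

variable [MonoidalClosed E]

/-- `U ⨯ -` preserves joint epimorphy of the legs of a pushout. -/
lemma prod_pushout_hom_ext [HasPushouts E] (U : E) {A B D Z : E} (f : A ⟶ B) (g : A ⟶ D)
    (a b : U ⨯ pushout f g ⟶ Z)
    (h1 : prod.map (𝟙 U) (pushout.inl f g) ≫ a = prod.map (𝟙 U) (pushout.inl f g) ≫ b)
    (h2 : prod.map (𝟙 U) (pushout.inr f g) ≫ a = prod.map (𝟙 U) (pushout.inr f g) ≫ b) :
    a = b := by
  have key : ∀ {T : E} (t : T ⟶ pushout f g) (c : U ⨯ pushout f g ⟶ Z),
      t ≫ MonoidalClosed.curry ((prodTensorIso U _).inv ≫ c) =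
        MonoidalClosed.curry ((prodTensorIso U T).inv ≫ prod.map (𝟙 U) t ≫ c) := by
    intro T t c
    rw [← MonoidalClosed.curry_natural_left]
    congr 1
    rw [← Category.assoc, ← Category.assoc]
    congr 1
    rw [Iso.eq_inv_comp, ← Category.assoc, ← prodTensorIso_natural, Category.assoc,
      Iso.hom_inv_id, Category.comp_id]
  have h3 : MonoidalClosed.curry ((prodTensorIso U _).inv ≫ a) =
      MonoidalClosed.curry ((prodTensorIso U _).inv ≫ b) := by
    apply pushout.hom_ext
    · rw [key, key, h1]
    · rw [key, key, h2]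
  have h4 := MonoidalClosed.curry_injective h3
  exact (cancel_epi _).1 h4
end Aux

section Aux2
open CategoryTheory.Limits MonoidalCategory
variable {E : Type v} [Category.{u} E] [CartesianMonoidalCategory E] [HasBinaryProducts E]
  [MonoidalClosed E] [HasTerminal E] [HasPushouts E]

lemma closedCompl_pushout (U : E) (hU : SGA4.IsOpen U) (Y : E) :
    SGA4.closedCompl U (pushout (prod.fst : U ⨯ Y ⟶ U) (prod.snd : U ⨯ Y ⟶ Y)) := by
  have hfs : (prod.fst : U ⨯ U ⟶ U) = prod.snd :=
    (cancel_mono (terminal.from U)).1 (terminal.hom_ext _ _)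
  refine ⟨⟨prod.lift (𝟙 U) (pushout.inl _ _), ?_, prod.lift_fst _ _⟩⟩
  apply prod.hom_ext
  · rw [Category.assoc, prod.lift_fst, Category.id_comp, Category.comp_id]
  · rw [Category.assoc, prod.lift_snd, Category.id_comp]
    apply prod_pushout_hom_ext
    · rw [← Category.assoc, prod.map_fst, Category.comp_id, prod.map_snd, hfs]
    · rw [← Category.assoc, prod.map_fst, Category.comp_id, prod.map_snd, pushout.condition]

omit [CartesianMonoidalCategory E] [MonoidalClosed E] [HasTerminal E] [HasPushouts E] in
lemma closedCompl_of_iso (U : E) {X P : E} (e : X ≅ P) (h : SGA4.closedCompl U P) :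
    SGA4.closedCompl U X := by
  have h' : IsIso (prod.fst : U ⨯ P ⟶ U) := h
  have : (prod.fst : U ⨯ X ⟶ U) = prod.map (𝟙 U) e.hom ≫ prod.fst := by
    rw [prod.map_fst, Category.comp_id]
  change IsIso (prod.fst : U ⨯ X ⟶ U)
  rw [this]
  infer_instance
end Aux2


open CategoryTheory.Limits in
/-- Topos of sheaves of sets on a small site; U an open, i.e. a subobject of the final object; X_CU the
pushout of U <- U x X -> X along the two projections: (ii) <=> (iii): the canonical map X -> X_CU is
an isomorphism if and only if the projection U x X -> U is an isomorphism (X belongs to the closed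
complement of U); and (i) => (iii): if X is isomorphic to Y_CU for some Y then X belongs to the
closed complement of U ((iii) => (i) with Y = X is then immediate from (ii)). -/
theorem result {C : Type u} [SmallCategory C] (J : GrothendieckTopology C)
    (U : Sheaf J (Type u)) (hU : SGA4.IsOpen U) (X : Sheaf J (Type u)) :
    (SGA4.closedCompl U X ↔ IsIso (pushout.inr (prod.fst : U ⨯ X ⟶ U) (prod.snd : U ⨯ X ⟶ X))) ∧
    ((∃ Y : Sheaf J (Type u), Nonempty (X ≅ pushout (prod.fst : U ⨯ Y ⟶ U) (prod.snd : U ⨯ Y ⟶ Y))) →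
      SGA4.closedCompl U X) := by
  let inst : @MonoidalClosed (Sheaf J (Type u)) _ SemiCartesianMonoidalCategory.toMonoidalCategory :=
    (inferInstance : MonoidalClosed (Sheaf J (Type u)))
  refine ⟨⟨fun h => ?_, fun h => ?_⟩, ?_⟩
  · have : IsIso (prod.fst : U ⨯ X ⟶ U) := h
    infer_instance
  · exact closedCompl_of_iso U (asIso (pushout.inr (prod.fst : U ⨯ X ⟶ U) (prod.snd : U ⨯ X ⟶ X)))
      (closedCompl_pushout U hU X)
  · rintro ⟨Y, ⟨e⟩⟩
    exact closedCompl_of_iso U e (closedCompl_pushout U hU Y)




end Groth.Agent.S6177
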