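import Groth.Statements.S6178
import Groth.Agent.Lib.Helper5.CechFlasque
import Groth.Agent.Lib.Helper13.ExtPresheaf
import Groth.Agent.Lib.Helper2.RDBridge
-- import your own Groth.Agent.* helpers here

set_option autoImplicit false
universe u
open CategoryTheory
open CohSite

namespace Groth.Agent.S6178

section Helpers
open CategoryTheory.Limits Opposite CategoryTheory.Abelian
open Groth.Agent.Lib.Helper5.CechFlasque

noncomputable section

variable {C : Type u} [SmallCategory C] (J : GrothendieckTopology C)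

/-- abelian presheaves, as sheaves for the trivial topology. -/
abbrev B (C : Type u) [SmallCategory C] := Sheaf (⊥ : GrothendieckTopology C) AddCommGrpCat.{u}

/-- the inclusion of abelian sheaves into abelian presheaves. -/
abbrev iot : Sheaf J AddCommGrpCat.{u} ⥤ B C :=
  sheafToPresheaf J AddCommGrpCat.{u} ⋙ (sheafBotEquivalence AddCommGrpCat.{u}).inverse

/-- the free object on a presheaf of sets, for a topology `J'`. -/
abbrev freeOn (J' : GrothendieckTopology C) (P : Cᵒᵖ ⥤ Type u) : Sheaf J' AddCommGrpCat.{u} :=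
  (presheafToSheaf J' AddCommGrpCat.{u}).obj (P ⋙ AddCommGrpCat.free.{u})

/-- the free-forgetful adjunction between presheaves of sets and abelian `J'`-sheaves. -/
def adjF (J' : GrothendieckTopology C) :
    (Functor.whiskeringRight Cᵒᵖ _ _).obj AddCommGrpCat.free.{u} ⋙
      presheafToSheaf J' AddCommGrpCat.{u} ⊣
    sheafToPresheaf J' AddCommGrpCat.{u} ⋙
      (Functor.whiskeringRight Cᵒᵖ _ _).obj (forget AddCommGrpCat.{u}) :=
  (Adjunction.whiskerRight Cᵒᵖ AddCommGrpCat.adj.{u}).comp
    (sheafificationAdjunction J' AddCommGrpCat.{u})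

/-- maps out of the free object. -/
def homEq (J' : GrothendieckTopology C) (P : Cᵒᵖ ⥤ Type u) (G : Sheaf J' AddCommGrpCat.{u}) :
    (freeOn J' P ⟶ G) ≃ (P ⟶ G.obj ⋙ forget AddCommGrpCat.{u}) :=
  (adjF J').homEquiv P G

lemma homEq_comp (J' : GrothendieckTopology C) (P : Cᵒᵖ ⥤ Type u)
    {G G' : Sheaf J' AddCommGrpCat.{u}} (s : freeOn J' P ⟶ G) (h : G ⟶ G') :
    homEq J' P G' (s ≫ h) = homEq J' P G s ≫ Functor.whiskerRight h.hom (forget _) :=
  (adjF J').homEquiv_naturality_right s h

lemma isSheafFor_forget (G : Sheaf J AddCommGrpCat.{u}) {X : C} (R : Sieve X) (hR : R ∈ J X) :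
    Presieve.IsSheafFor (G.obj ⋙ forget AddCommGrpCat.{u}) R.arrows :=
  (isSheaf_iff_isSheaf_of_type J _).1
    ((Presheaf.isSheaf_iff_isSheaf_forget J G.obj (forget AddCommGrpCat.{u})).1 G.property) R hR

/-- every section lifts iff maps from the free sheaf on a representable lift. -/
lemma lift_yoneda_iff {I Q : Sheaf J AddCommGrpCat.{u}} (g : I ⟶ Q) (X : C) :
    (∀ s : freeOn J (yoneda.obj X) ⟶ Q, ∃ t : freeOn J (yoneda.obj X) ⟶ I, t ≫ g = s) ↔
      Function.Surjective (g.hom.app (op X)) := by
  constructor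
  · intro h y
    obtain ⟨t, ht⟩ := h ((homEq J _ Q).symm (yonedaEquiv.symm y))
    refine ⟨yonedaEquiv (homEq J _ I t), ?_⟩
    have h1 := homEq_comp J (yoneda.obj X) t g
    rw [ht, Equiv.apply_symm_apply] at h1
    have h2 := congrArg yonedaEquiv h1
    rw [Equiv.apply_symm_apply, yonedaEquiv_comp] at h2
    exact h2.symm
  · intro h s
    obtain ⟨x, hx⟩ := h (yonedaEquiv (homEq J _ Q s))
    refine ⟨(homEq J _ I).symm (yonedaEquiv.symm x), ?_⟩
    apply (homEq J _ Q).injective
    rw [homEq_comp, Equiv.apply_symm_apply]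
    apply yonedaEquiv.injective
    rw [yonedaEquiv_comp, Equiv.apply_symm_apply]
    exact hx

/-- maps from the free presheaf on a covering sieve into a sheaf lift along a morphism of sheaves
which is surjective on sections. -/
lemma lift_sieve {I Q : Sheaf J AddCommGrpCat.{u}} (g : I ⟶ Q) {X : C} (R : Sieve X)
    (hR : R ∈ J X) (hg : Function.Surjective (g.hom.app (op X)))
    (s : freeOn ⊥ R.functor ⟶ (iot J).obj Q) :
    ∃ t : freeOn ⊥ R.functor ⟶ (iot J).obj I, t ≫ (iot J).map g = s := by
  have hQ := isSheafFor_forget J Q R hR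
  let s₁ : R.functor ⟶ Q.obj ⋙ forget AddCommGrpCat.{u} := homEq ⊥ _ ((iot J).obj Q) s
  obtain ⟨x, hx⟩ := hg (yonedaEquiv (hQ.extend s₁))
  refine ⟨(homEq ⊥ _ ((iot J).obj I)).symm (R.functorInclusion ≫ yonedaEquiv.symm x), ?_⟩
  apply (homEq ⊥ _ ((iot J).obj Q)).injective
  rw [homEq_comp, Equiv.apply_symm_apply, Category.assoc]
  have h1 : yonedaEquiv.symm x ≫ Functor.whiskerRight ((iot J).map g).hom (forget _) =
      hQ.extend s₁ := by
    apply yonedaEquiv.injective
    rw [yonedaEquiv_comp, Equiv.apply_symm_apply]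
    exact hx
  rw [h1]
  exact hQ.functorInclusion_comp_extend s₁

/-- if the restriction to a covering sieve of a section lifts, then the section lifts. -/
lemma mem_range_of_lift {I Q : Sheaf J AddCommGrpCat.{u}} (g : I ⟶ Q) {X : C} (R : Sieve X)
    (hR : R ∈ J X) (y : ToType (Q.obj.obj (op X)))
    (τ : freeOn ⊥ R.functor ⟶ (iot J).obj I)
    (hτ : homEq ⊥ _ ((iot J).obj Q) (τ ≫ (iot J).map g) =
      R.functorInclusion ≫ yonedaEquiv.symm y) :
    ∃ x, g.hom.app (op X) x = y := by
  have hQ := isSheafFor_forget J Q R hR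
  have hI := isSheafFor_forget J I R hR
  let τ₁ : R.functor ⟶ I.obj ⋙ forget AddCommGrpCat.{u} := homEq ⊥ _ ((iot J).obj I) τ
  let wg : I.obj ⋙ forget AddCommGrpCat.{u} ⟶ Q.obj ⋙ forget AddCommGrpCat.{u} :=
    Functor.whiskerRight g.hom (forget _)
  refine ⟨yonedaEquiv (hI.extend τ₁), ?_⟩
  have e0 : τ₁ ≫ wg = R.functorInclusion ≫ yonedaEquiv.symm y :=
    (homEq_comp ⊥ R.functor τ ((iot J).map g)).symm.trans hτ
  have e1 : R.functorInclusion ≫ (hI.extend τ₁ ≫ wg) =
      R.functorInclusion ≫ yonedaEquiv.symm y := by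
    rw [← Category.assoc, hI.functorInclusion_comp_extend]
    exact e0
  have h1 : hI.extend τ₁ ≫ wg = yonedaEquiv.symm y :=
    (hQ.unique_extend _ e1).trans (hQ.unique_extend (yonedaEquiv.symm y) rfl).symm
  have h2 := congrArg yonedaEquiv h1
  rw [yonedaEquiv_comp, Equiv.apply_symm_apply] at h2
  exact h2

/-- lifting a natural transformation through an objectwise injective one. -/
lemma exists_lift_of_injective {P A₀ B₀ : Cᵒᵖ ⥤ Type u} (m : A₀ ⟶ B₀)
    (hm : ∀ V, Function.Injective (m.app V)) (σ : P ⟶ B₀)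
    (hσ : ∀ V (x : P.obj V), ∃ a, m.app V a = σ.app V x) : ∃ σ' : P ⟶ A₀, σ' ≫ m = σ := by
  choose a ha using hσ
  refine ⟨{ app := fun V => ↾(a V), naturality := ?_ }, ?_⟩
  · intro V W φ
    ext x
    apply hm W
    change m.app W (a W (P.map φ x)) = m.app W (A₀.map φ (a V x))
    rw [ha, NatTrans.naturality_apply, NatTrans.naturality_apply m, ha]
  · ext V x
    exact ha V x

/-- the left adjoint of `iot`: sheafification of abelian presheaves. -/
def adjL : sheafToPresheaf (⊥ : GrothendieckTopology C) AddCommGrpCat.{u} ⋙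
    presheafToSheaf J AddCommGrpCat.{u} ⊣ iot J :=
  (sheafBotEquivalence AddCommGrpCat.{u}).toAdjunction.comp
    (sheafificationAdjunction J AddCommGrpCat.{u})

instance : (sheafToPresheaf (⊥ : GrothendieckTopology C) AddCommGrpCat.{u} ⋙
    presheafToSheaf J AddCommGrpCat.{u}).PreservesMonomorphisms := by
  haveI : (sheafToPresheaf (⊥ : GrothendieckTopology C)
      AddCommGrpCat.{u}).PreservesMonomorphisms :=
    Functor.preservesMonomorphisms_of_adjunction
      (sheafificationAdjunction (⊥ : GrothendieckTopology C) AddCommGrpCat.{u})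
  infer_instance

instance iot_injective (I : Sheaf J AddCommGrpCat.{u}) [Injective I] :
    Injective ((iot J).obj I) :=
  Injective.injective_of_adjoint (adjL J) I

instance : PreservesFiniteLimits (iot J) := by
  haveI : PreservesLimitsOfSize.{0, 0} (iot J) := (adjL J).rightAdjoint_preservesLimits
  exact PreservesLimitsOfSize.preservesFiniteLimits _

instance : (iot J).Additive := Functor.additive_of_preserves_binary_products _

lemma epi_of_surjective {G G' : B C} (h : G ⟶ G')
    (hh : ∀ V, Function.Surjective (h.hom.app V)) : Epi h := by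
  haveI : Epi ((sheafToPresheaf _ _).map h) := by
    change Epi h.hom
    haveI : ∀ V, Epi (h.hom.app V) := fun V =>
      (AddCommGrpCat.epi_iff_surjective _).2 (hh V)
    exact NatTrans.epi_of_epi_app _
  exact Functor.epi_of_epi_map (sheafToPresheaf (⊥ : GrothendieckTopology C) AddCommGrpCat.{u})
    inferInstance

lemma injective_of_mono {G G' : B C} (h : G ⟶ G') [Mono h] (V : Cᵒᵖ) :
    Function.Injective (h.hom.app V) := by
  haveI : (sheafToPresheaf (⊥ : GrothendieckTopology C)
      AddCommGrpCat.{u}).PreservesMonomorphisms :=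
    Functor.preservesMonomorphisms_of_adjunction
      (sheafificationAdjunction (⊥ : GrothendieckTopology C) AddCommGrpCat.{u})
  haveI : Mono h.hom := inferInstanceAs (Mono ((sheafToPresheaf _ _).map h))
  haveI : Mono (h.hom.app V) := inferInstance
  exact (AddCommGrpCat.mono_iff_injective _).1 inferInstance

open Groth.Agent.Lib.Helper2.RDBridge in
/-- a short exact sequence of sheaves which is surjective on sections is exact as presheaves. -/
lemma shortExact_iot (S : ShortComplex (Sheaf J AddCommGrpCat.{u})) (hS : S.ShortExact)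
    (hg : ∀ X : C, Function.Surjective (S.g.hom.app (op X))) :
    (S.map (iot J)).ShortExact :=
  shortExact_map_of_epi (iot J) S hS
    (epi_of_surjective ((iot J).map S.g) (fun V => hg V.unop))

/-- vanishing of `Ext¹` out of the free presheaves on covering sieves implies surjectivity on
sections. -/
lemma surjective_of_ext_one (S : ShortComplex (Sheaf J AddCommGrpCat.{u})) (hS : S.ShortExact)
    (h : ∀ (X : C) (R : Sieve X), R ∈ J X →
      ∀ x : Ext (freeOn ⊥ R.functor) ((iot J).obj S.X₁) 1, x = 0) (X : C) :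
    Function.Surjective (S.g.hom.app (op X)) := by
  intro y
  haveI := hS.epi_g
  haveI := hS.mono_f
  -- the presheaf sequence `0 → F → I → coker → 0`
  have hex : (S.map (iot J)).Exact :=
    ((Functor.preservesFiniteLimits_iff_forall_exact_map_and_mono (iot J)).1 inferInstance S hS).1
  haveI : Mono ((iot J).map S.f) := inferInstance
  let T : ShortComplex (B C) := ShortComplex.mk ((iot J).map S.f)
    (cokernel.π ((iot J).map S.f)) (cokernel.condition _)
  have hT : T.ShortExact :=
    { exact := ShortComplex.exact_cokernel _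
      mono_f := inferInstanceAs (Mono ((iot J).map S.f))
      epi_g := inferInstanceAs (Epi (cokernel.π ((iot J).map S.f))) }
  let m : cokernel ((iot J).map S.f) ⟶ (iot J).obj S.X₃ :=
    cokernel.desc ((iot J).map S.f) ((iot J).map S.g) (S.map (iot J)).zero
  haveI : Mono m := (S.map (iot J)).exact_iff_mono_cokernel_desc.1 hex
  have hπm : cokernel.π ((iot J).map S.f) ≫ m = (iot J).map S.g := cokernel.π_desc _ _ _
  -- the covering sieve on which `y` lifts
  let R : Sieve X := Presheaf.imageSieve S.g.hom y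
  have hR : R ∈ J X := by
    have : Sheaf.IsLocallySurjective S.g := (Sheaf.isLocallySurjective_iff_epi' _ S.g).2 inferInstance
    exact Presheaf.imageSieve_mem J S.g.hom y
  obtain ⟨σ', hσ'⟩ := exists_lift_of_injective
    (Functor.whiskerRight m.hom (forget AddCommGrpCat.{u}))
    (fun V => injective_of_mono m V)
    (R.functorInclusion ≫ yonedaEquiv.symm y) (by
      rintro V ⟨f, t, ht⟩
      refine ⟨(cokernel.π ((iot J).map S.f)).hom.app V t, ?_⟩
      have h1 : m.hom.app V ((cokernel.π ((iot J).map S.f)).hom.app V t) = S.g.hom.app V t := by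
        have := congrArg (fun k => k.hom.app V t) hπm
        exact this
      exact h1.trans ht)
  obtain ⟨τ, hτ⟩ := surj_of_ext_one_eq_zero (freeOn ⊥ R.functor) hT (h X R hR)
    ((homEq ⊥ R.functor T.X₃).symm σ')
  refine mem_range_of_lift J S.g R hR y τ ?_
  have : τ ≫ (iot J).map S.g = (homEq ⊥ R.functor T.X₃).symm σ' ≫ m := by
    rw [← hτ, Category.assoc]
    congr 1
    exact hπm.symm
  rw [this, homEq_comp, Equiv.apply_symm_apply]
  exact hσ'

/-- vanishing of `Ext^{q+1}` out of the free sheaves on representables. -/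
def PA (q : ℕ) (F : Sheaf J AddCommGrpCat.{u}) : Prop :=
  ∀ (X : C) (x : Ext (freeOn J (yoneda.obj X)) F (q + 1)), x = 0

/-- vanishing of `Ext^{q+1}` out of the free presheaves on covering sieves. -/
def PB (q : ℕ) (F : Sheaf J AddCommGrpCat.{u}) : Prop :=
  ∀ (X : C) (R : Sieve X), R ∈ J X →
    ∀ x : Ext (freeOn ⊥ R.functor) ((iot J).obj F) (q + 1), x = 0

/-- surjectivity on sections of `I → I/F`. -/
def Surj (F : Sheaf J AddCommGrpCat.{u}) : Prop :=
  ∀ X : C, Function.Surjective ((injSC F).g.hom.app (op X))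

lemma surj_of_PA (F : Sheaf J AddCommGrpCat.{u}) (h : PA J 0 F) : Surj J F := fun X =>
  (lift_yoneda_iff J (injSC F).g X).1
    (surj_of_ext_one_eq_zero (freeOn J (yoneda.obj X)) (injSC_shortExact F) (h X))

lemma PA_zero_of_surj (F : Sheaf J AddCommGrpCat.{u}) (h : Surj J F) : PA J 0 F := fun X x =>
  ext_one_eq_zero_of_surj (freeOn J (yoneda.obj X)) (injSC_shortExact F)
    ((lift_yoneda_iff J (injSC F).g X).2 (h X)) x

lemma surj_of_PB (F : Sheaf J AddCommGrpCat.{u}) (h : PB J 0 F) : Surj J F :=
  surjective_of_ext_one J (injSC F) (injSC_shortExact F) h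

lemma PB_zero_of_surj (F : Sheaf J AddCommGrpCat.{u}) (h : Surj J F) : PB J 0 F := by
  intro X R hR x
  haveI : Injective ((injSC F).map (iot J)).X₂ := iot_injective J (injSC F).X₂
  exact ext_one_eq_zero_of_surj (freeOn ⊥ R.functor)
    (shortExact_iot J (injSC F) (injSC_shortExact F) h)
    (fun s => lift_sieve J (injSC F).g R hR (h X) s) x

lemma PA_quotient (F : Sheaf J AddCommGrpCat.{u}) (q : ℕ) (h : PA J (q + 1) F) :
    PA J q (injSC F).X₃ := fun X x =>
  ext_quotient_eq_zero_of_succ (freeOn J (yoneda.obj X)) (injSC_shortExact F) q (h X) x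

lemma PA_succ (F : Sheaf J AddCommGrpCat.{u}) (q : ℕ) (h : PA J q (injSC F).X₃) :
    PA J (q + 1) F := fun X x =>
  ext_succ_eq_zero_of_quotient (freeOn J (yoneda.obj X)) (injSC_shortExact F) q (h X) x

lemma PB_quotient (F : Sheaf J AddCommGrpCat.{u}) (hs : Surj J F) (q : ℕ)
    (h : PB J (q + 1) F) : PB J q (injSC F).X₃ := by
  intro X R hR x
  haveI : Injective ((injSC F).map (iot J)).X₂ := iot_injective J (injSC F).X₂
  exact ext_quotient_eq_zero_of_succ (freeOn ⊥ R.functor)
    (shortExact_iot J (injSC F) (injSC_shortExact F) hs) q (h X R hR) x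

lemma PB_succ (F : Sheaf J AddCommGrpCat.{u}) (hs : Surj J F) (q : ℕ)
    (h : PB J q (injSC F).X₃) : PB J (q + 1) F := by
  intro X R hR x
  haveI : Injective ((injSC F).map (iot J)).X₂ := iot_injective J (injSC F).X₂
  exact ext_succ_eq_zero_of_quotient (freeOn ⊥ R.functor)
    (shortExact_iot J (injSC F) (injSC_shortExact F) hs) q (h X R hR) x

theorem PB_of_PA : ∀ (q : ℕ) (F : Sheaf J AddCommGrpCat.{u}), (∀ q', PA J q' F) → PB J q F := by
  intro q
  induction q with
  | zero => exact fun F h => PB_zero_of_surj J F (surj_of_PA J F (h 0))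
  | succ q ih =>
    intro F h
    exact PB_succ J F (surj_of_PA J F (h 0)) q
      (ih _ (fun q' => PA_quotient J F q' (h (q' + 1))))

theorem PA_of_PB : ∀ (q : ℕ) (F : Sheaf J AddCommGrpCat.{u}), (∀ q', PB J q' F) → PA J q F := by
  intro q
  induction q with
  | zero => exact fun F h => PA_zero_of_surj J F (surj_of_PB J F (h 0))
  | succ q ih =>
    intro F h
    exact PA_succ J F q
      (ih _ (fun q' => PB_quotient J F (surj_of_PB J F (h 0)) q' (h (q' + 1))))

end

end Helpers


/-- An abelian sheaf F on a small site (C, J) is C-acyclic, i.e. H^q(X, F) = 0 for all objects X and q >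
0, if and only if H^q(R, H^0(F)) = 0 for every object X, every covering sieve R of X and every q >
0, where H^0(F) is the underlying presheaf of F and H^q(R, -), for a presheaf of sets R, is the q-th
Ext out of the free abelian presheaf on R computed in abelian presheaves (the sheaves for the
trivial topology). -/
theorem result {C : Type u} [SmallCategory C] (J : GrothendieckTopology C)
    (F : Sheaf J AddCommGrpCat.{u}) :
    (∀ (X : C) (q : ℕ), Subsingleton (CohSite.HU F (q + 1) X)) ↔
      ∀ (X : C) (R : Sieve X), R ∈ J X → ∀ q : ℕ,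
        Subsingleton (CohCx.HK (J := (⊥ : GrothendieckTopology C)) ⟨R.functor, Presheaf.isSheaf_bot _⟩
          ⟨F.obj, Presheaf.isSheaf_bot _⟩ (q + 1)) := by
  constructor
  · intro h X R hR q
    have hA : ∀ q', PA J q' F := fun q' X x =>
      (h X q').elim (α := Abelian.Ext (freeOn J (yoneda.obj X)) F (q' + 1)) x 0
    have := PB_of_PA J q F hA X R hR
    exact subsingleton_of_forall_eq (α := Abelian.Ext (freeOn ⊥ R.functor) ((iot J).obj F) (q + 1))
      0 this
  · intro h X q
    have hB : ∀ q', PB J q' F := fun q' X R hR x =>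
      (h X R hR q').elim (α := Abelian.Ext (freeOn ⊥ R.functor) ((iot J).obj F) (q' + 1)) x 0
    have := PA_of_PB J q F hB X
    exact subsingleton_of_forall_eq (α := Abelian.Ext (freeOn J (yoneda.obj X)) F (q + 1)) 0 this

end Groth.Agent.S6178
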