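import Groth.Statements.S6182
import Groth.Agent.Lib.Helper5.ToposSiteFunctor

set_option autoImplicit false
open CategoryTheory CategoryTheory.Limits Opposite
universe u
open ToposFin

namespace Groth.Agent.S6182

open Groth.Agent.Lib.Helper9 Groth.Agent.Lib.Helper5.ToposEpi Groth.Agent.Lib.Helper5.ToposQC
  Groth.Agent.Lib.Helper5.ToposSite Groth.Agent.Lib.Helper5.ToposFunctor
  Groth.Agent.Lib.Helper5.ToposSiteFunctor

/-- Let (C, J) and (D, K) be small sites with fibre products in which every object is quasi-compact, and
G : C -> D a continuous functor whose inverse-image functor on sheaves of sets f^* (the sheaf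
pullback along G, from sheaves on C to sheaves on D) preserves finite limits, so that G is a
morphism of sites and f a morphism of topoi. Then f is coherent: f^* sends quasi-compact objects to
quasi-compact objects and quasi-separated objects to quasi-separated objects. -/
theorem result {C D : Type u} [SmallCategory C] [SmallCategory D]
    [HasPullbacks C] [HasPullbacks D] (J : GrothendieckTopology C) (K : GrothendieckTopology D)
    (hC : ∀ X : C, ToposFin.IsQCSite J X) (hD : ∀ Y : D, ToposFin.IsQCSite K Y)
    (G : C ⥤ D) [Functor.IsContinuous G J K] [PreservesFiniteLimits (G.sheafPullback (Type u) J K)] :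
    (∀ X : ToposFin.Sh J, ToposFin.IsQC X → ToposFin.IsQC ((G.sheafPullback (Type u) J K).obj X)) ∧
      (∀ X : ToposFin.Sh J, ToposFin.IsQS X → ToposFin.IsQS ((G.sheafPullback (Type u) J K).obj X)) := by
  have hS : ∀ X ∈ Set.range (ToposFin.eps J), ToposFin.IsCoherent X := by
    rintro _ ⟨X, rfl⟩
    exact isCoherent_eps J hC X
  have hgen : ToposFin.IsGenerating (Set.range (ToposFin.eps J)) := by
    intro F
    exact ⟨_, _, _, fun p : (Σ U : C, F.obj.obj (op U)) => ⟨p.1, rfl⟩, jepi_ofSec J F⟩
  refine preserves_qc_qs_of_generating (G.sheafPullback (Type u) J K)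
    (G.sheafPushforwardContinuous (Type u) J K) (G.sheafAdjunctionContinuous (Type u) J K)
    (hasQCGenerators_of_isQCSite K hD) _ hS hgen ?_
  rintro _ ⟨X, rfl⟩
  have e := sheafPullbackEpsIso J K G X
  exact ⟨isQC_of_iso e.symm (isCoherent_eps K hD _).1, isQS_of_iso e.symm (isCoherent_eps K hD _).2⟩

end Groth.Agent.S6182
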