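import Groth.Statements.S6187
import Groth.Agent.Lib.Helper9.StalkUnit

set_option autoImplicit false
universe u
open CategoryTheory CategoryTheory.Limits AlgebraicGeometry
attribute [local instance] HasDerivedCategory.standard
open KSix

namespace Groth.Agent.S6187


open Groth.Agent.Lib.Helper9.StalkUnit Groth.Agent.Lib.Helper18.DR

/-- the two ways of mapping a complex along a composite of additive functors -/
noncomputable def mapHCCompIso' {C₁ C₂ C₃ : Type*} [Category C₁] [Category C₂] [Category C₃]
    [Preadditive C₁] [Preadditive C₂] [Preadditive C₃]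
    (F : C₁ ⥤ C₂) [F.Additive] (G : C₂ ⥤ C₃) [G.Additive] (K : CochainComplex C₁ ℤ) :
    ((F ⋙ G).mapHomologicalComplex (ComplexShape.up ℤ)).obj K ≅
      (G.mapHomologicalComplex (ComplexShape.up ℤ)).obj
        ((F.mapHomologicalComplex (ComplexShape.up ℤ)).obj K) :=
  HomologicalComplex.Hom.isoOfComponents (fun _ => Iso.refl _) (fun i j _ => by
    simp only [Iso.refl_hom]
    erw [Category.id_comp, Category.comp_id]
    rfl)

/-- restriction of scalars of the complex of stalks along a further ring map -/
theorem nonempty_restrictD_stalk_iso {X : Scheme.{u}} {A B : Type u} [CommRing A] [CommRing B] (x : X)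
    (φ : A →+* B) (ψ : B →+* X.presheaf.stalk x) (χ : A →+* X.presheaf.stalk x)
    (hχ : χ = ψ.comp φ) (F : CochainComplex X.Modules ℤ) :
    Nonempty ((DRing.restrictD φ).obj (DRing.toD
        (((DerSch.stalkFunctor X x ⋙ ModuleCat.restrictScalars ψ).mapHomologicalComplex
          (ComplexShape.up ℤ)).obj F)) ≅
      DRing.toD (((DerSch.stalkFunctor X x ⋙ ModuleCat.restrictScalars χ).mapHomologicalComplex
          (ComplexShape.up ℤ)).obj F)) := by
  let α : (DerSch.stalkFunctor X x ⋙ ModuleCat.restrictScalars ψ) ⋙ ModuleCat.restrictScalars φ ≅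
      DerSch.stalkFunctor X x ⋙ ModuleCat.restrictScalars χ :=
    Functor.associator _ _ _ ≪≫ Functor.isoWhiskerLeft (DerSch.stalkFunctor X x)
      (ModuleCat.restrictScalarsComp' φ ψ χ hχ).symm
  exact ⟨(ModuleCat.restrictScalars φ).mapDerivedCategoryFactors.app _ ≪≫
    DerivedCategory.Q.mapIso ((mapHCCompIso' _ _ _).symm ≪≫
      (NatIso.mapHomologicalComplex α _).app F)⟩

/-- Case of schemes: let f : X ⟶ Y and g : Y ⟶ Z be morphisms of schemes with composite h, let n be a
natural number such that g has tor dimension at most n (the structure sheaf of Y has tor amplitude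
in [-n, 0] relative to g, stalkwise), and let F be a cochain complex of O_X-modules with tor
amplitude in [a, b] relative to f (at every point x the complex of stalks F_x, over the local ring
of Y at f(x), is isomorphic in the derived category to a complex of flat modules placed in [a, b]).
Then F has tor amplitude in [a - n, b] relative to h. (The published statement is for a commutative
triangle of ringed topoi in which X has enough points; this row is the case of schemes, with tor
amplitude relative to a morphism in its stalkwise form.) -/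
theorem result {X Y Z : Scheme.{u}} (f : X ⟶ Y) (g : Y ⟶ Z) (h : X ⟶ Z)
    (w : f ≫ g = h) (n : ℕ) (hg : DerSch.HasTorDimLE g n) (F : CochainComplex X.Modules ℤ) (a b : ℤ)
    (hF : DerSch.HasTorAmplitude f a b F) :
    DerSch.HasTorAmplitude h (a - n) b F := by
  subst w
  intro x
  have hFx : DRing.HasTorAmplitudeIn (Y.presheaf.stalk (f.base x)) a b
      (DRing.toD ((DerSch.stalkCxOver f x).obj F)) := hF x
  have hgy := (hasTorAmplitudeAt_unit_iff g (f.base x) (-(n : ℤ)) 0).1 (hg (f.base x))
  letI := (g.stalkMap (f.base x)).hom.toAlgebra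
  have h1 := hasTorAmplitudeIn_restrictScalars_of_torDim_algebra n hgy _ a b hFx
  have hcomp : ((f ≫ g).stalkMap x).hom = (f.stalkMap x).hom.comp (g.stalkMap (f.base x)).hom := by
    rw [Scheme.Hom.stalkMap_comp]
    rfl
  obtain ⟨e⟩ := nonempty_restrictD_stalk_iso x (g.stalkMap (f.base x)).hom (f.stalkMap x).hom
    ((f ≫ g).stalkMap x).hom hcomp F
  exact hasTorAmplitudeIn_of_iso e h1

end Groth.Agent.S6187
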