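import Groth.Statements.S6214
import Groth.Agent.Lib.Helper9.PerfDim
import Groth.Agent.S6225

set_option autoImplicit false
universe u
open CategoryTheory CategoryTheory.Limits AlgebraicGeometry
attribute [local instance] HasDerivedCategory.standard
open KSix

namespace Groth.Agent.S6214


open Groth.Agent.Lib.Helper9.RelBridge Groth.Agent.Lib.Helper9.PCM Groth.Agent.Lib.Helper9.StalkUnit

/-- A morphism f : X ⟶ Y locally of finite type has perfect dimension at most 0 (O_X placed in degree 0
is pseudo-coherent relative to f in chart form and has stalkwise tor amplitude in [0, 0] over the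
local rings of Y) if and only if f is flat and locally of finite presentation. -/
theorem result {X Y : Scheme.{u}} (f : X ⟶ Y) [LocallyOfFiniteType f] :
    DerSch.HasPerfDimLE f 0 ↔ (Flat f ∧ LocallyOfFinitePresentation f) := by
  constructor
  · rintro ⟨hpc, htor⟩
    exact ⟨(hasTorDimLE_zero_iff_flat f).1 htor, (Groth.Agent.S6225.result f).1 (hpc (-1))⟩
  · rintro ⟨hflat, hlfp⟩
    haveI := hflat
    haveI := hlfp
    exact ⟨(isPseudoCoherentRelAll_unit_iff f).2 (pcMor_of_perfMor (perfMor_of_flat_of_lfp f)),
      (hasTorDimLE_zero_iff_flat f).2 hflat⟩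

end Groth.Agent.S6214
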