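import Groth.Statements.S6239
import Mathlib
-- import your own Groth.Agent.* helpers here

set_option autoImplicit false
universe u
open CategoryTheory CategoryTheory.Limits AlgebraicGeometry
attribute [local instance] HasDerivedCategory.standard
open KSix

namespace Groth.Agent.S6239

theorem hasTorAmplitudeAt_mono {X Y : Scheme.{u}} (f : X ⟶ Y) (F : CochainComplex X.Modules ℤ)
    (x : X) {a b a' b' : ℤ} (ha : a' ≤ a) (hb : b ≤ b')
    (h : DerSch.HasTorAmplitudeAt f a b F x) : DerSch.HasTorAmplitudeAt f a' b' F x := by
  obtain ⟨E, hE, hflat, hiso⟩ := h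
  refine ⟨E, ?_, hflat, hiso⟩
  intro i hi
  apply hE
  rcases hi with hi | hi
  · left; omega
  · right; omega

/-- Let f : X ⟶ Y be a morphism with X quasi-compact and F a cochain complex of O_X-modules which is
perfect relative to f (pseudo-coherent relative to f in chart form, and locally on X of finite
stalkwise tor amplitude over the local rings of Y). Then F has finite perfect amplitude relative to
f: one interval [a, b] works at every point of X. -/
theorem result {X Y : Scheme.{u}} [CompactSpace X] (f : X ⟶ Y)
    (F : CochainComplex X.Modules ℤ) (hF : DerSch.IsPerfectRel f F) :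
    DerSch.HasFinitePerfAmplitudeRel f F := by
  obtain ⟨hpc, hloc⟩ := hF
  choose V a b hxV hV using hloc
  obtain ⟨t, ht⟩ := CompactSpace.elim_nhds_subcover (fun x => ((V x : X.Opens) : Set X))
    (fun x => (V x).isOpen.mem_nhds (hxV x))
  obtain ⟨A', hA'⟩ := (t.image (fun x => - a x)).exists_le
  have hA : ∀ y ∈ t, -A' ≤ a y := fun y hy => by
    have := hA' _ (Finset.mem_image_of_mem (fun x => - a x) hy)
    omega
  obtain ⟨B, hB⟩ := (t.image b).exists_le
  refine ⟨-A', B, hpc, ?_⟩
  intro x
  have hx : x ∈ ⋃ y ∈ t, ((V y : X.Opens) : Set X) := by rw [ht]; trivial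
  simp only [Set.mem_iUnion] at hx
  obtain ⟨y, hyt, hxy⟩ := hx
  refine hasTorAmplitudeAt_mono f F x ?_ ?_ (hV y x hxy)
  · exact hA y hyt
  · exact hB _ (Finset.mem_image_of_mem b hyt)

end Groth.Agent.S6239
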