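import Groth.Statements.S6263
import Mathlib
-- import your own Groth.Agent.* helpers here

set_option autoImplicit false
universe u
open CAlg

namespace Groth.Agent.S6263

open TensorProduct in
theorem flat_key {R : Type u} [CommRing R] (N : Type u) [AddCommGroup N] [Module R N]
    [Module.Flat R N] (p : Ideal R) [p.IsPrime] (x : R) (hx : x ∉ p) (n : N)
    (h : x • n ∈ p • (⊤ : Submodule R N)) : n ∈ p • (⊤ : Submodule R N) := by
  let e := TensorProduct.quotTensorEquivQuotSMul N p
  let μ : (R ⧸ p) →ₗ[R] (R ⧸ p) := LinearMap.lsmul R (R ⧸ p) x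
  have hxne : (Ideal.Quotient.mk p x) ≠ 0 := by
    rw [Ne, Ideal.Quotient.eq_zero_iff_mem]
    exact hx
  have hμ : Function.Injective μ := by
    intro a b hab
    have hab' : x • a = x • b := hab
    rw [Algebra.smul_def, Algebra.smul_def] at hab'
    exact mul_left_cancel₀ hxne hab'
  have hμN : Function.Injective (μ.rTensor N) :=
    Module.Flat.rTensor_preserves_injective_linearMap μ hμ
  have h1 : (μ.rTensor N) ((1 : R ⧸ p) ⊗ₜ[R] n) = 0 := by
    apply e.injective
    rw [map_zero, LinearMap.rTensor_tmul]
    show e ((x • (1 : R ⧸ p)) ⊗ₜ[R] n) = 0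
    rw [← TensorProduct.smul_tmul', map_smul]
    show x • (TensorProduct.quotTensorEquivQuotSMul N p) ((1 : R ⧸ p) ⊗ₜ[R] n) = 0
    rw [TensorProduct.quotTensorEquivQuotSMul_mk_one_tmul, ← Submodule.Quotient.mk_smul,
      Submodule.Quotient.mk_eq_zero]
    exact h
  have h2 : (1 : R ⧸ p) ⊗ₜ[R] n = 0 := hμN (by rw [h1, map_zero])
  have h3 : (TensorProduct.quotTensorEquivQuotSMul N p) ((1 : R ⧸ p) ⊗ₜ[R] n) = 0 := by
    rw [h2, map_zero]
  rw [TensorProduct.quotTensorEquivQuotSMul_mk_one_tmul, Submodule.Quotient.mk_eq_zero] at h3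
  exact h3

/-- For a ring map R → S and a finite S-module N which is flat as an R-module, generalizations lift
along the map from the support of N (a subset of Spec S) to Spec R: if p ≤ p' are primes of R and q'
is a prime of S in the support of N whose inverse image in R is p', then some prime q ≤ q' of S lies
in the support of N and has inverse image p. -/
theorem result {R S : Type u} [CommRing R] [CommRing S] [Algebra R S] (N : Type u) [AddCommGroup N] [Module S N] [Module R N] [IsScalarTower R S N] [Module.Finite S N] [Module.Flat R N] (p p' : Ideal R) [p.IsPrime] [p'.IsPrime] (hle : p ≤ p') (q' : PrimeSpectrum S) (hq' : q' ∈ Module.support S N) (hover : q'.asIdeal.under R = p') : ∃ q : PrimeSpectrum S, q ≤ q' ∧ q ∈ Module.support S N ∧ q.asIdeal.under R = p := by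
  classical
  have hIq' : p.map (algebraMap R S) ≤ q'.asIdeal := by
    rw [Ideal.map_le_iff_le_comap]
    intro x hx
    have : x ∈ q'.asIdeal.under R := by rw [hover]; exact hle hx
    exact this
  have hrs : ((p.map (algebraMap R S)) • (⊤ : Submodule S N)).restrictScalars R =
      p • (⊤ : Submodule R N) := by
    rw [Ideal.smul_restrictScalars, Submodule.restrictScalars_top]
  have hq'Q : q' ∈ Module.support S (N ⧸ ((p.map (algebraMap R S)) • (⊤ : Submodule S N))) := by
    rw [Module.support_quotient]
    exact ⟨hq', hIq'⟩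
  have hann : Module.annihilator S (N ⧸ ((p.map (algebraMap R S)) • (⊤ : Submodule S N))) ≤
      q'.asIdeal := Module.annihilator_le_of_mem_support hq'Q
  obtain ⟨q, hqmin, hqq'⟩ := Ideal.exists_minimalPrimes_le hann
  have hqprime : q.IsPrime := hqmin.1.1
  have hqQ : (⟨q, hqprime⟩ : PrimeSpectrum S) ∈
      Module.support S (N ⧸ ((p.map (algebraMap R S)) • (⊤ : Submodule S N))) := by
    rw [Module.mem_support_iff_of_finite]
    exact hqmin.1.2
  rw [Module.support_quotient] at hqQ
  obtain ⟨hqN, hqI⟩ := hqQ
  refine ⟨⟨q, hqprime⟩, hqq', hqN, ?_⟩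
  apply le_antisymm
  · intro x hx
    by_contra hxp
    have hreg : IsSMulRegular (N ⧸ ((p.map (algebraMap R S)) • (⊤ : Submodule S N)))
        (algebraMap R S x) := by
      rw [isSMulRegular_iff_right_eq_zero_of_smul]
      intro m hm
      obtain ⟨n, rfl⟩ := Submodule.Quotient.mk_surjective _ m
      rw [← Submodule.Quotient.mk_smul, Submodule.Quotient.mk_eq_zero, algebraMap_smul] at hm
      rw [Submodule.Quotient.mk_eq_zero]
      have hm' : x • n ∈ p • (⊤ : Submodule R N) := by
        rw [← hrs]; exact hm
      have := flat_key N p x hxp n hm'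
      rw [← hrs] at this
      exact this
    exact hreg.notMem_of_mem_minimalPrimes hqmin hx
  · intro x hx
    show algebraMap R S x ∈ q
    exact hqI (Ideal.mem_map_of_mem _ hx)

end Groth.Agent.S6263
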