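import Groth.Statements.S6264
import Mathlib
-- import your own Groth.Agent.* helpers here

set_option autoImplicit false
universe u
open CAlg

namespace Groth.Agent.S6264

/-- Let R → S be a ring map with the going-up property and p a prime of R such that exactly one prime q
of S lies over p. Then the localization S_p of S at the image of R - p is a localization of S at q,
i.e. S_p = S_q. -/
theorem result {R S : Type u} [CommRing R] [CommRing S] [Algebra R S] [Algebra.HasGoingUp R S] (p : Ideal R) [p.IsPrime] (q : Ideal S) [q.IsPrime] [q.LiesOver p] (huniq : ∀ q' : Ideal S, q'.IsPrime → q'.under R = p → q' = q) : IsLocalization.AtPrime (Localization (Algebra.algebraMapSubmonoid S p.primeCompl)) q := by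
  classical
  refine IsLocalization.of_le (Algebra.algebraMapSubmonoid S p.primeCompl) q.primeCompl ?_ ?_
  · rintro x ⟨r, hr, rfl⟩ hx
    apply hr
    have : r ∈ q.under R := hx
    rwa [← Ideal.over_def q p] at this
  · intro s hs
    by_contra hnu
    obtain ⟨m, hm, hsm⟩ := exists_max_ideal_of_mem_nonunits (show algebraMap S _ s ∈ nonunits _ from hnu)
    set T := Localization (Algebra.algebraMapSubmonoid S p.primeCompl)
    let Q : Ideal S := m.comap (algebraMap S T)
    have hQ : Q.IsPrime := Ideal.comap_isPrime _ _
    have hdisj : Disjoint (Algebra.algebraMapSubmonoid S p.primeCompl : Set S) (Q : Set S) := by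
      rw [Set.disjoint_left]
      intro x hx hxQ
      have h1 : IsUnit (algebraMap S T x) := IsLocalization.map_units T ⟨x, hx⟩
      exact hm.ne_top (Ideal.eq_top_of_isUnit_mem _ hxQ h1)
    have hle : Q.under R ≤ p := by
      intro r hr
      by_contra hrp
      exact Set.disjoint_left.mp hdisj ⟨r, hrp, rfl⟩ hr
    haveI : Q.LiesOver (Q.under R) := ⟨rfl⟩
    obtain ⟨Q', hQQ', hQ'p, hQ'o⟩ := Ideal.exists_ideal_ge_liesOver_of_le (p := Q.under R) (q := p) Q hle
    have : Q' = q := huniq Q' hQ'p (hQ'o.over).symm
    subst this
    exact hs (hQQ' hsm)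

end Groth.Agent.S6264
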