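import Groth.Statements.S6265
import Mathlib
-- import your own Groth.Agent.* helpers here

set_option autoImplicit false
universe u
open CAlg

namespace Groth.Agent.S6265

/-- Let R → S be a ring map with the going-down property such that over every prime of R lies at most
one prime of S, and let p be a prime of R and q a prime of S above it. Then the localization S_p of
S at the image of R - p is a localization of S at q, i.e. S_p = S_q. -/
theorem result {R S : Type u} [CommRing R] [CommRing S] [Algebra R S] [Algebra.HasGoingDown R S] (hinj : ∀ q₁ q₂ : Ideal S, q₁.IsPrime → q₂.IsPrime → q₁.under R = q₂.under R → q₁ = q₂) (p : Ideal R) [p.IsPrime] (q : Ideal S) [q.IsPrime] [q.LiesOver p] : IsLocalization.AtPrime (Localization (Algebra.algebraMapSubmonoid S p.primeCompl)) q := by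
  classical
  refine IsLocalization.of_le (Algebra.algebraMapSubmonoid S p.primeCompl) q.primeCompl ?_ ?_
  · rintro x ⟨r, hr, rfl⟩ hx
    apply hr
    have : r ∈ q.under R := hx
    rwa [← Ideal.over_def q p] at this
  · intro s hs
    by_contra hnu
    obtain ⟨m, hm, hsm⟩ := exists_max_ideal_of_mem_nonunits (show algebraMap S _ s ∈ nonunits _ from hnu)
    set T := Localization (Algebra.algebraMapSubmonoid S p.primeCompl)
    let Q : Ideal S := m.comap (algebraMap S T)
    have hQ : Q.IsPrime := Ideal.comap_isPrime _ _
    have hdisj : Disjoint (Algebra.algebraMapSubmonoid S p.primeCompl : Set S) (Q : Set S) := by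
      rw [Set.disjoint_left]
      intro x hx hxQ
      have h1 : IsUnit (algebraMap S T x) := IsLocalization.map_units T ⟨x, hx⟩
      exact hm.ne_top (Ideal.eq_top_of_isUnit_mem _ hxQ h1)
    have hle : Q.under R ≤ p := by
      intro r hr
      by_contra hrp
      exact Set.disjoint_left.mp hdisj ⟨r, hrp, rfl⟩ hr
    have hQp : (Q.under R).IsPrime := Ideal.IsPrime.under R Q
    obtain ⟨Q', hQ'q, hQ'p, hQ'o⟩ := Ideal.exists_ideal_le_liesOver_of_le (p := Q.under R) (q := p) q hle
    have : Q' = Q := hinj Q' Q hQ'p hQ (hQ'o.over).symm
    subst this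
    exact hs (hQ'q hsm)

end Groth.Agent.S6265
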