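import Groth.Statements.S6266
import Mathlib
-- import your own Groth.Agent.* helpers here

set_option autoImplicit false
universe u
open scoped TensorProduct
open CAlg

namespace Groth.Agent.S6266

section aux
variable (R : Type u) [CommRing R] (M : Type u) [AddCommGroup M] [Module R M]

/-- the pure tensors `1 ⊗ m` span the fibre over the residue field -/
theorem span_one_tmul (q : PrimeSpectrum R) :
    Submodule.span q.asIdeal.ResidueField
      (Set.range (fun m : M => (1 : q.asIdeal.ResidueField) ⊗ₜ[R] m)) = ⊤ := by
  rw [eq_top_iff]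
  rintro x -
  induction x using TensorProduct.induction_on with
  | zero => exact Submodule.zero_mem _
  | tmul k m =>
    have : k ⊗ₜ[R] m = k • ((1 : q.asIdeal.ResidueField) ⊗ₜ[R] m) := by
      rw [TensorProduct.smul_tmul', smul_eq_mul, mul_one]
    rw [this]
    exact Submodule.smul_mem _ _ (Submodule.subset_span ⟨m, rfl⟩)
  | add x y hx hy => exact Submodule.add_mem _ hx hy

theorem exists_free_away [IsReduced R] [Module.Finite R M]
    (hlc : IsLocallyConstant (fun p : PrimeSpectrum R =>
      Module.finrank p.asIdeal.ResidueField (p.asIdeal.ResidueField ⊗[R] M)))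
    (p : PrimeSpectrum R) :
    ∃ f : R, f ∉ p.asIdeal ∧ Module.Free (Localization.Away f) (LocalizedModule.Away f M) := by
  classical
  -- Step 1: a basis of the fibre at `p` made of pure tensors `1 ⊗ w i`
  obtain ⟨ι, w, -, hspan, hli⟩ := exists_linearIndependent' p.asIdeal.ResidueField
    (fun m : M => (1 : p.asIdeal.ResidueField) ⊗ₜ[R] m)
  rw [span_one_tmul] at hspan
  let b : Module.Basis ι p.asIdeal.ResidueField (p.asIdeal.ResidueField ⊗[R] M) :=
    Module.Basis.mk hli hspan.ge
  have hfinι : Finite ι := Module.Finite.finite_basis b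
  have : Fintype ι := Fintype.ofFinite ι
  have hcard : Module.finrank p.asIdeal.ResidueField (p.asIdeal.ResidueField ⊗[R] M) =
      Fintype.card ι := Module.finrank_eq_card_basis b
  -- Step 2: the quotient by the span of the `w i` is not supported at `p`
  set N' : Submodule R M := Submodule.span R (Set.range w) with hN'
  have hQ : Subsingleton (p.asIdeal.ResidueField ⊗[R] (M ⧸ N')) := by
    have hzero : (N'.mkQ).baseChange p.asIdeal.ResidueField = 0 := by
      apply b.ext
      intro i
      rw [Module.Basis.mk_apply]
      simp only [Function.comp_apply, LinearMap.baseChange_tmul, LinearMap.zero_apply]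
      have : N'.mkQ (w i) = 0 := by
        rw [Submodule.mkQ_apply, Submodule.Quotient.mk_eq_zero]
        exact Submodule.subset_span ⟨i, rfl⟩
      rw [this, TensorProduct.tmul_zero]
    have hsurj : Function.Surjective ((N'.mkQ).baseChange p.asIdeal.ResidueField) :=
      LinearMap.lTensor_surjective _ (Submodule.mkQ_surjective N')
    refine ⟨fun x y => ?_⟩
    obtain ⟨x', rfl⟩ := hsurj x
    obtain ⟨y', rfl⟩ := hsurj y
    rw [hzero]; rfl
  have hpsupp : p ∉ Module.support R (M ⧸ N') := by
    rw [Module.mem_support_iff_nontrivial_residueField_tensorProduct]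
    exact not_nontrivial_iff_subsingleton.mpr hQ
  rw [Module.mem_support_iff_of_finite, SetLike.not_le_iff_exists] at hpsupp
  obtain ⟨g, hgann, hgp⟩ := hpsupp
  have hgM : ∀ m : M, g • m ∈ N' := by
    intro m
    have := Module.mem_annihilator.mp hgann (N'.mkQ m)
    rw [← map_smul, Submodule.mkQ_apply, Submodule.Quotient.mk_eq_zero] at this
    exact this
  -- Step 3: the rank is constant near `p`
  obtain ⟨U, hUo, hpU, hU⟩ := (IsLocallyConstant.iff_exists_open _).mp hlc p
  obtain ⟨V, ⟨g', rfl⟩, hpV, hVU⟩ :=
    PrimeSpectrum.isTopologicalBasis_basic_opens.exists_subset_of_mem_open hpU hUo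
  have hg'p : g' ∉ p.asIdeal := hpV
  refine ⟨g * g', fun h => (p.isPrime.mem_or_mem h).elim hgp hg'p, ?_⟩
  -- Step 4: at each prime of `D(g g')` the `1 ⊗ w i` are linearly independent
  have hliq : ∀ q : PrimeSpectrum R, g * g' ∉ q.asIdeal →
      LinearIndependent q.asIdeal.ResidueField
        (fun i => (1 : q.asIdeal.ResidueField) ⊗ₜ[R] w i) := by
    intro q hq
    have hgq : g ∉ q.asIdeal := fun h => hq (Ideal.mul_mem_right _ _ h)
    have hg'q : g' ∉ q.asIdeal := fun h => hq (Ideal.mul_mem_left _ _ h)
    have hqU : q ∈ U := hVU hg'q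
    apply linearIndependent_of_top_le_span_of_card_eq_finrank
    · rw [← span_one_tmul R M q, Submodule.span_le]
      rintro _ ⟨m, rfl⟩
      -- `1 ⊗ m = (g)⁻¹ • (1 ⊗ g • m)`
      have hgne : algebraMap R q.asIdeal.ResidueField g ≠ 0 := by
        rw [Ne, Ideal.algebraMap_residueField_eq_zero]
        exact hgq
      have h1 : (1 : q.asIdeal.ResidueField) ⊗ₜ[R] (g • m) ∈
          Submodule.span q.asIdeal.ResidueField
            (Set.range fun i => (1 : q.asIdeal.ResidueField) ⊗ₜ[R] w i) := by
        have hmem := hgM m
        rw [hN'] at hmem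
        refine Submodule.span_induction ?_ ?_ ?_ ?_ hmem
        · rintro _ ⟨i, rfl⟩
          exact Submodule.subset_span ⟨i, rfl⟩
        · rw [TensorProduct.tmul_zero]; exact Submodule.zero_mem _
        · intro x y _ _ hx hy
          rw [TensorProduct.tmul_add]; exact Submodule.add_mem _ hx hy
        · intro r x _ hx
          rw [TensorProduct.tmul_smul, ← algebraMap_smul q.asIdeal.ResidueField r]
          exact Submodule.smul_mem _ _ hx
      have h2 : (1 : q.asIdeal.ResidueField) ⊗ₜ[R] m =
          (algebraMap R q.asIdeal.ResidueField g)⁻¹ •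
            ((1 : q.asIdeal.ResidueField) ⊗ₜ[R] (g • m)) := by
        rw [TensorProduct.tmul_smul, ← algebraMap_smul q.asIdeal.ResidueField g, smul_smul,
          inv_mul_cancel₀ hgne, one_smul]
      show (1 : q.asIdeal.ResidueField) ⊗ₜ[R] m ∈ _
      rw [h2]
      exact Submodule.smul_mem _ _ h1
    · rw [← hcard]
      exact (hU q hqU).symm
  -- Step 5: the kernel of `φ` is killed by `g g'`
  let φ : (ι → R) →ₗ[R] M := Fintype.linearCombination R w
  have hker : ∀ c : ι → R, φ c = 0 → (g * g') • c = 0 := by
    intro c hc
    funext i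
    have hnil : (g * g') * c i ∈ nilradical R := by
      rw [nilradical_eq_sInf, Ideal.mem_sInf]
      intro q hq
      have hq' : q.IsPrime := hq
      by_cases hfq : g * g' ∈ q
      · exact Ideal.mul_mem_right _ _ hfq
      · apply Ideal.mul_mem_left
        have hli' := hliq ⟨q, hq'⟩ hfq
        have hsum : ∑ j, (algebraMap R q.ResidueField (c j)) •
            ((1 : q.ResidueField) ⊗ₜ[R] w j) = 0 := by
          have : (1 : q.ResidueField) ⊗ₜ[R] (φ c) = 0 := by rw [hc, TensorProduct.tmul_zero]
          rw [Fintype.linearCombination_apply, TensorProduct.tmul_sum] at this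
          rw [← this]
          refine Finset.sum_congr rfl (fun j _ => ?_)
          rw [TensorProduct.tmul_smul, algebraMap_smul]
        have := (Fintype.linearIndependent_iff.mp hli') _ hsum i
        rwa [Ideal.algebraMap_residueField_eq_zero] at this
    rw [nilradical_eq_zero] at hnil
    simpa using hnil
  -- Step 6: the localization of `φ` at `g g'` is a localization of `ι → R`
  let mk := LocalizedModule.mkLinearMap (Submonoid.powers (g * g')) M
  have hloc : IsLocalizedModule (Submonoid.powers (g * g')) (mk ∘ₗ φ) := by
    refine ⟨IsLocalizedModule.map_units mk, ?_, ?_⟩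
    · intro y
      obtain ⟨⟨m, s⟩, hs⟩ := IsLocalizedModule.surj (Submonoid.powers (g * g')) mk y
      have hm := hgM m
      rw [hN', ← Fintype.range_linearCombination] at hm
      obtain ⟨c, hc⟩ := hm
      refine ⟨⟨g' • c, ⟨(g * g') * s, Submonoid.mul_mem _ (Submonoid.mem_powers _) s.2⟩⟩, ?_⟩
      show ((g * g') * (s : R)) • y = mk (φ (g' • c))
      have hs' : (s : R) • y = mk m := hs
      rw [mul_smul, hs', ← map_smul, map_smul φ, show φ c = g • m from hc, smul_smul,
        mul_comm g' g]
    · intro c₁ c₂ h
      have h' : mk (φ c₁) = mk (φ c₂) := h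
      obtain ⟨s, hs⟩ := IsLocalizedModule.exists_of_eq (S := Submonoid.powers (g * g')) h'
      have hs' : (s : R) • φ c₁ = (s : R) • φ c₂ := hs
      have h0 : φ ((s : R) • (c₁ - c₂)) = 0 := by
        rw [map_smul, map_sub, smul_sub, hs', sub_self]
      have h1 := hker _ h0
      refine ⟨⟨(g * g') * s, Submonoid.mul_mem _ (Submonoid.mem_powers _) s.2⟩, ?_⟩
      show ((g * g') * (s : R)) • c₁ = ((g * g') * (s : R)) • c₂
      rw [smul_smul, smul_sub, sub_eq_zero] at h1
      exact h1
  exact Module.free_of_isLocalizedModule (Submonoid.powers (g * g')) (mk ∘ₗ φ)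

end aux

/-- Let R be a reduced ring and M an R-module. Then M is a finite projective R-module if and only if M
is finitely generated and the function on Spec R sending a prime p to the dimension of κ(p) ⊗ M over
the residue field κ(p) is locally constant for the Zariski topology. -/
theorem result (R : Type u) [CommRing R] [IsReduced R] (M : Type u) [AddCommGroup M] [Module R M] : (Module.Finite R M ∧ Module.Projective R M) ↔ (Module.Finite R M ∧ IsLocallyConstant (fun p : PrimeSpectrum R => Module.finrank p.asIdeal.ResidueField (p.asIdeal.ResidueField ⊗[R] M))) := by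
  constructor
  · rintro ⟨hfin, hproj⟩
    refine ⟨hfin, ?_⟩
    have hfp : Module.FinitePresentation R M := Module.finitePresentation_of_projective R M
    have hlc := Module.isLocallyConstant_rankAtStalk (R := R) (M := M)
    have heq : (fun p : PrimeSpectrum R => Module.finrank p.asIdeal.ResidueField
        (p.asIdeal.ResidueField ⊗[R] M)) = Module.rankAtStalk (R := R) M := by
      funext p
      exact (Module.rankAtStalk_eq p).symm
    rw [heq]
    exact hlc
  · rintro ⟨hfin, hlc⟩
    refine ⟨hfin, ?_⟩
    choose f hfp hffree using exists_free_away R M hlc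
    have hspan : Ideal.span (Set.range f) = ⊤ := by
      by_contra hne
      obtain ⟨m, hm, hle⟩ := Ideal.exists_le_maximal _ hne
      exact hfp ⟨m, hm.isPrime⟩ (hle (Ideal.subset_span ⟨⟨m, hm.isPrime⟩, rfl⟩))
    have hfpres : Module.FinitePresentation R M := by
      apply Module.FinitePresentation.of_localizationSpan (Set.range f) hspan
      rintro ⟨_, ⟨p, rfl⟩⟩
      have := hffree p
      exact Module.finitePresentation_of_projective _ _
    rw [← Module.freeLocus_eq_univ_iff, Set.eq_univ_iff_forall]
    intro p
    have := hffree p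
    have hsub : (PrimeSpectrum.basicOpen (f p) : Set (PrimeSpectrum R)) ⊆ Module.freeLocus R M :=
      Module.basicOpen_subset_freeLocus_iff.mpr inferInstance
    exact hsub (hfp p)

end Groth.Agent.S6266
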