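import Groth.Statements.S6268
import Mathlib
-- import your own Groth.Agent.* helpers here

set_option autoImplicit false
universe u
open CAlg

namespace Groth.Agent.S6268

/-- Suppose the structure map R → S of an R-algebra S is universally injective as an R-linear map. Then
tensoring with S detects injectivity and surjectivity of R-linear maps (and hence reflects
isomorphisms): for an R-linear g : M → N, if S ⊗ g is injective then so is g, and if S ⊗ g is
surjective then so is g. -/
theorem result {R S : Type u} [CommRing R] [CommRing S] [Algebra R S] (hS : CAlgX.UniversallyInjective R (Algebra.linearMap R S)) {M N : Type u} [AddCommGroup M] [Module R M] [AddCommGroup N] [Module R N] (g : M →ₗ[R] N) : (Function.Injective (g.lTensor S) → Function.Injective g) ∧ (Function.Surjective (g.lTensor S) → Function.Surjective g) := by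
  have hinj : ∀ (Q : Type u) [AddCommGroup Q] [Module R Q],
      Function.Injective (fun q : Q => (1 : S) ⊗ₜ[R] q) := by
    intro Q _ _
    have h1 := hS Q
    have h2 : (fun q : Q => (1 : S) ⊗ₜ[R] q) =
        ((Algebra.linearMap R S).rTensor Q) ∘ (TensorProduct.lid R Q).symm := by
      funext q
      simp
    rw [h2]
    exact h1.comp (TensorProduct.lid R Q).symm.injective
  constructor
  · intro hg m m' hmm'
    apply hinj M
    apply hg
    simp [hmm']
  · intro hg n
    have hq : (LinearMap.range g).mkQ n = 0 := by
      apply hinj (N ⧸ LinearMap.range g)
      obtain ⟨y, hy⟩ := hg ((1 : S) ⊗ₜ[R] n)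
      have : (1 : S) ⊗ₜ[R] ((LinearMap.range g).mkQ n) =
          ((LinearMap.range g).mkQ.lTensor S) ((g.lTensor S) y) := by
        rw [hy]; simp
      simp only
      rw [this, ← LinearMap.comp_apply, ← LinearMap.lTensor_comp]
      have : (LinearMap.range g).mkQ ∘ₗ g = 0 := by
        ext m; simp
      rw [this]; simp
    rw [Submodule.mkQ_apply, Submodule.Quotient.mk_eq_zero] at hq
    exact hq

end Groth.Agent.S6268
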