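import Groth.Statements.S6269
import Mathlib
-- import your own Groth.Agent.* helpers here

set_option autoImplicit false
universe u
open CAlg

namespace Groth.Agent.S6269

/-- Let 0 → M₁ → M₂ → M₃ → 0 be a universally exact sequence of R-modules (a short exact sequence whose
first map is universally injective) with M₂ flat. Then M₁ and M₃ are flat. -/
theorem result {R : Type u} [CommRing R] {M₁ M₂ M₃ : Type u} [AddCommGroup M₁] [Module R M₁] [AddCommGroup M₂] [Module R M₂] [AddCommGroup M₃] [Module R M₃] (f : M₁ →ₗ[R] M₂) (g : M₂ →ₗ[R] M₃) (hexact : Function.Exact f g) (hg : Function.Surjective g) (hf : CAlgX.UniversallyInjective R f) [Module.Flat R M₂] : Module.Flat R M₁ ∧ Module.Flat R M₃ := by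
  have hcomm : ∀ {A B : Type u} [AddCommGroup A] [Module R A] [AddCommGroup B] [Module R B]
      {N P : Type u} [AddCommGroup N] [Module R N] [AddCommGroup P] [Module R P]
      (φ : A →ₗ[R] B) (i : N →ₗ[R] P) (t : TensorProduct R A N),
      (i.lTensor B) ((φ.rTensor N) t) = (φ.rTensor P) ((i.lTensor A) t) := by
    intro A B _ _ _ _ N P _ _ _ _ φ i t
    rw [← LinearMap.comp_apply, ← LinearMap.comp_apply, LinearMap.lTensor_comp_rTensor,
      LinearMap.rTensor_comp_lTensor]
  constructor
  · rw [Module.Flat.iff_lTensor_preserves_injective_linearMap]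
    intro N P _ _ _ _ i hi
    have h2 : Function.Injective (i.lTensor M₂) :=
      Module.Flat.lTensor_preserves_injective_linearMap i hi
    have h3 : Function.Injective ((f.rTensor P) ∘ (i.lTensor M₁)) := by
      have : (f.rTensor P) ∘ (i.lTensor M₁) = (i.lTensor M₂) ∘ (f.rTensor N) := by
        funext t
        simp only [Function.comp_apply]
        rw [hcomm]
      rw [this]
      exact h2.comp (hf N)
    exact Function.Injective.of_comp h3
  · rw [Module.Flat.iff_lTensor_preserves_injective_linearMap]
    intro N P _ _ _ _ i hi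
    have h2 : Function.Injective (i.lTensor M₂) :=
      Module.Flat.lTensor_preserves_injective_linearMap i hi
    rw [injective_iff_map_eq_zero]
    intro x hx
    obtain ⟨y, rfl⟩ := LinearMap.rTensor_surjective N hg x
    rw [hcomm] at hx
    obtain ⟨z, hz⟩ := (rTensor_exact P hexact hg ((i.lTensor M₂) y)).mp hx
    set π : P →ₗ[R] P ⧸ LinearMap.range i := (LinearMap.range i).mkQ with hπ
    have hπi : π ∘ₗ i = 0 := by
      ext n; simp [hπ]
    have h4 : (π.lTensor M₁) z = 0 := by
      apply hf (P ⧸ LinearMap.range i)
      rw [map_zero, ← hcomm, hz, ← LinearMap.comp_apply, ← LinearMap.lTensor_comp, hπi]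
      simp
    have hex : Function.Exact i π := by
      rw [LinearMap.exact_iff]
      simp [hπ]
    obtain ⟨w, hw⟩ := (lTensor_exact M₁ hex (Submodule.mkQ_surjective _) z).mp h4
    have h5 : (f.rTensor N) w = y := by
      apply h2
      rw [hcomm, hw, hz]
    rw [← h5, ← LinearMap.comp_apply, ← LinearMap.rTensor_comp]
    have : g ∘ₗ f = 0 := by
      ext m
      exact hexact.apply_apply_eq_zero m
    rw [this]
    simp

end Groth.Agent.S6269
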