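import Groth.Statements.S6270
import Mathlib
import Groth.Agent.Lib.Helper10.LiftProj
import Groth.Agent.S6267
-- import your own Groth.Agent.* helpers here

set_option autoImplicit false
universe u
open scoped TensorProduct
open CAlg

namespace Groth.Agent.S6270

/-- A map into a flat module which is bijective modulo a nilpotent ideal is bijective. -/
theorem bijective_of_baseChange_bijective {R : Type u} [CommRing R] (I : Ideal R)
    (hI : IsNilpotent I) {P M : Type u} [AddCommGroup P] [Module R P] [AddCommGroup M] [Module R M]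
    [Module.Flat R M] (φ : P →ₗ[R] M) (hbij' : Function.Bijective (φ.baseChange (R ⧸ I))) :
    Function.Bijective φ := by
  classical
  -- surjectivity by Nakayama
  have hφsurj : Function.Surjective φ := by
    rw [← LinearMap.range_eq_top]
    apply Groth.Agent.Lib.Helper10.eq_top_of_sup_smul_top_of_isNilpotent I hI
    rw [eq_top_iff]
    rintro m -
    obtain ⟨t, ht⟩ := hbij'.2 ((1 : R ⧸ I) ⊗ₜ[R] m)
    obtain ⟨p, rfl⟩ := Groth.Agent.Lib.Helper10.exists_one_tmul I t
    rw [LinearMap.baseChange_tmul] at ht
    have h0 : (1 : R ⧸ I) ⊗ₜ[R] (m - φ p) = 0 := by rw [TensorProduct.tmul_sub, ht, sub_self]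
    rw [Groth.Agent.Lib.Helper10.one_tmul_eq_zero_iff] at h0
    have hm : m = φ p + (m - φ p) := by abel
    rw [hm]
    exact Submodule.add_mem_sup (LinearMap.mem_range_self φ p) h0
  refine ⟨?_, hφsurj⟩
  -- injectivity by flatness
  rw [injective_iff_map_eq_zero]
  have hexact : Function.Exact (LinearMap.ker φ).subtype φ := by
    rw [LinearMap.exact_iff]
    simp
  have hπ' : Function.Surjective (Finsupp.linearCombination R (id : (R ⧸ I) → (R ⧸ I))) :=
    Finsupp.linearCombination_id_surjective R (R ⧸ I)
  have hιπ : Function.Exact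
      (LinearMap.ker (Finsupp.linearCombination R (id : (R ⧸ I) → (R ⧸ I)))).subtype
      (Finsupp.linearCombination R (id : (R ⧸ I) → (R ⧸ I))) := by
    rw [LinearMap.exact_iff]
    simp
  have hfF : Function.Injective ((LinearMap.ker φ).subtype.rTensor ((R ⧸ I) →₀ R)) :=
    Module.Flat.rTensor_preserves_injective_linearMap _ (Submodule.injective_subtype _)
  have hιC : Function.Injective
      ((LinearMap.ker (Finsupp.linearCombination R (id : (R ⧸ I) → (R ⧸ I)))).subtype.lTensor M) :=
    Module.Flat.lTensor_preserves_injective_linearMap _ (Submodule.injective_subtype _)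
  have hKinj : Function.Injective ((LinearMap.ker φ).subtype.rTensor (R ⧸ I)) :=
    Groth.Agent.S6267.chase (M := ↥(LinearMap.ker φ)) (M' := P)
      (N := ↥(LinearMap.ker (Finsupp.linearCombination R (id : (R ⧸ I) → (R ⧸ I)))))
      (LinearMap.ker φ).subtype φ hexact hφsurj
      (LinearMap.ker (Finsupp.linearCombination R (id : (R ⧸ I) → (R ⧸ I)))).subtype
      (Finsupp.linearCombination R (id : (R ⧸ I) → (R ⧸ I))) hιπ hπ' hfF hιC
  have hKinj' : Function.Injective ((LinearMap.ker φ).subtype.lTensor (R ⧸ I)) :=
    (LinearMap.lTensor_inj_iff_rTensor_inj _ _).mpr hKinj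
  have hsub : Subsingleton (LinearMap.ker φ) := by
    apply Groth.Agent.Lib.Helper10.subsingleton_of_le_smul_of_isNilpotent I hI
    rintro k -
    rw [← Groth.Agent.Lib.Helper10.one_tmul_eq_zero_iff]
    apply hKinj'
    rw [map_zero, LinearMap.lTensor_tmul]
    apply hbij'.1
    rw [map_zero, LinearMap.baseChange_tmul]
    have hk : φ ((LinearMap.ker φ).subtype k) = 0 := k.2
    rw [hk, TensorProduct.tmul_zero]
  intro x hx
  have := Subsingleton.elim (⟨x, hx⟩ : LinearMap.ker φ) 0
  exact congrArg Subtype.val this

/-- Let R be a ring, I ⊆ R a nilpotent ideal and M an R-module. If M is flat over R and M/IM (that is,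
R/I ⊗ M) is a projective R/I-module, then M is a projective R-module. -/
theorem result {R : Type u} [CommRing R] (I : Ideal R) (hI : IsNilpotent I) (M : Type u) [AddCommGroup M] [Module R M] [Module.Flat R M] (hproj : Module.Projective (R ⧸ I) ((R ⧸ I) ⊗[R] M)) : Module.Projective R M := by
  classical
  have hπ : Function.Surjective (Finsupp.linearCombination R (id : M → M)) :=
    Finsupp.linearCombination_id_surjective R M
  have hq : Function.Surjective ((Finsupp.linearCombination R (id : M → M)).baseChange (R ⧸ I)) :=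
    LinearMap.lTensor_surjective (R ⧸ I) hπ
  obtain ⟨j, hqj⟩ := Module.projective_lifting_property
    ((Finsupp.linearCombination R (id : M → M)).baseChange (R ⧸ I)) LinearMap.id hq
  have hidem : IsIdempotentElem
      (j ∘ₗ (Finsupp.linearCombination R (id : M → M)).baseChange (R ⧸ I) :
        Module.End (R ⧸ I) ((R ⧸ I) ⊗[R] (M →₀ R))) := by
    show (j ∘ₗ _) ∘ₗ (j ∘ₗ _) = j ∘ₗ _
    rw [LinearMap.comp_assoc, ← LinearMap.comp_assoc _ j _, hqj, LinearMap.id_comp]
  obtain ⟨e, he, heb⟩ := Groth.Agent.Lib.Helper10.exists_idempotent_lift I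
    (fun φ hφ => Groth.Agent.Lib.Helper10.isNilpotent_end_of_forall_mem_smul I hI φ hφ)
    (j ∘ₗ (Finsupp.linearCombination R (id : M → M)).baseChange (R ⧸ I)) hidem
  have hbij := Groth.Agent.Lib.Helper10.bijective_comp_baseChange_subtype e he
    ((Finsupp.linearCombination R (id : M → M)).baseChange (R ⧸ I)) j hqj heb.symm
  have hprojP : Module.Projective R (LinearMap.range e) :=
    Groth.Agent.Lib.Helper10.projective_range_of_isIdempotentElem e he
  have hbij' : Function.Bijective
      (((Finsupp.linearCombination R (id : M → M)) ∘ₗ (LinearMap.range e).subtype).baseChange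
        (R ⧸ I)) := by
    rw [LinearMap.baseChange_comp]
    exact hbij
  have hφ := bijective_of_baseChange_bijective I hI (P := ↥(LinearMap.range e)) _ hbij'
  exact Module.Projective.of_equiv (LinearEquiv.ofBijective _ hφ)

end Groth.Agent.S6270
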