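import Groth.Statements.S6271
import Mathlib
import Groth.Agent.Lib.Helper10.LiftProj
-- import your own Groth.Agent.* helpers here

set_option autoImplicit false
universe u
open scoped TensorProduct
open CAlg

namespace Groth.Agent.S6271

open Groth.Agent.Lib.Helper10 in
/-- Endomorphisms of `R^n` with image in `I R^n`, `I` a nil ideal, are nilpotent. -/
theorem isNilpotent_end_pi {R : Type u} [CommRing R] (I : Ideal R) (hI : ∀ x ∈ I, IsNilpotent x)
    (n : ℕ) (φ : Module.End R (Fin n → R))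
    (h : ∀ x, φ x ∈ I • (⊤ : Submodule R (Fin n → R))) : IsNilpotent φ := by
  classical
  -- coordinates of elements of `I R^n` lie in `I`
  have hcoord : ∀ y : Fin n → R, y ∈ I • (⊤ : Submodule R (Fin n → R)) → ∀ l, y l ∈ I := by
    intro y hy
    refine Submodule.smul_induction_on hy ?_ ?_
    · intro i hi z _ l
      simp only [Pi.smul_apply, smul_eq_mul]
      exact Ideal.mul_mem_right _ _ hi
    · intro a b ha hb l
      simp only [Pi.add_apply]
      exact Ideal.add_mem _ (ha l) (hb l)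
  let J : Ideal R := Ideal.span (Set.range fun kl : Fin n × Fin n => φ (Pi.single kl.1 1) kl.2)
  have hJI : J ≤ I := by
    rw [Ideal.span_le]
    rintro _ ⟨⟨k, l⟩, rfl⟩
    exact hcoord _ (h _) l
  have hJfg : J.FG := by
    refine ⟨(Set.finite_range (fun kl : Fin n × Fin n => φ (Pi.single kl.1 1) kl.2)).toFinset, ?_⟩
    rw [Set.Finite.coe_toFinset]
  have hJnil : IsNilpotent J := by
    rw [hJfg.isNilpotent_iff_le_nilradical]
    intro x hx
    exact hI x (hJI hx)
  -- vectors with coordinates in `J` lie in `J R^n`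
  have hmemJ : ∀ y : Fin n → R, (∀ l, y l ∈ J) → y ∈ J • (⊤ : Submodule R (Fin n → R)) := by
    intro y hy
    have : y = ∑ l, y l • (Pi.single l (1 : R) : Fin n → R) := by
      funext m
      simp [Finset.sum_apply, Pi.single_apply]
    rw [this]
    exact Submodule.sum_mem _ fun l _ => Submodule.smul_mem_smul (hy l) Submodule.mem_top
  apply isNilpotent_end_of_forall_mem_smul J hJnil φ
  intro x
  have hx : x = ∑ k, x k • (Pi.single k (1 : R) : Fin n → R) := by
    funext m
    simp [Finset.sum_apply, Pi.single_apply]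
  rw [hx, map_sum]
  refine Submodule.sum_mem _ fun k _ => ?_
  rw [map_smul]
  refine Submodule.smul_mem _ _ (hmemJ _ fun l => ?_)
  exact Ideal.subset_span ⟨(k, l), rfl⟩

/-- Let R be a ring, I ⊆ R a locally nilpotent ideal (every element of I is nilpotent) and P̄ a finite
projective R/I-module. Then there is a finite projective R-module P such that P/IP (that is, R/I ⊗
P) is isomorphic to P̄ as an R/I-module. -/
theorem result {R : Type u} [CommRing R] (I : Ideal R) (hI : ∀ x ∈ I, IsNilpotent x) (Pb : Type u) [AddCommGroup Pb] [Module (R ⧸ I) Pb] [Module.Projective (R ⧸ I) Pb] [Module.Finite (R ⧸ I) Pb] : ∃ (P : Type u) (_ : AddCommGroup P) (_ : Module R P), Module.Projective R P ∧ Module.Finite R P ∧ Nonempty (((R ⧸ I) ⊗[R] P) ≃ₗ[R ⧸ I] Pb) := by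
  classical
  obtain ⟨n, q₀, j₀, hq₀, -, hqj₀⟩ := Module.Finite.exists_comp_eq_id_of_projective (R ⧸ I) Pb
  let c : (R ⧸ I) ⊗[R] (Fin n → R) ≃ₗ[R ⧸ I] (Fin n → R ⧸ I) :=
    TensorProduct.piScalarRight R (R ⧸ I) (R ⧸ I) (Fin n)
  let q : (R ⧸ I) ⊗[R] (Fin n → R) →ₗ[R ⧸ I] Pb := q₀ ∘ₗ c.toLinearMap
  let j : Pb →ₗ[R ⧸ I] (R ⧸ I) ⊗[R] (Fin n → R) := c.symm.toLinearMap ∘ₗ j₀
  have hqj : q ∘ₗ j = LinearMap.id := by
    ext x
    simp only [q, j, LinearMap.comp_apply, LinearEquiv.coe_coe, LinearEquiv.apply_symm_apply,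
      LinearMap.id_apply]
    exact LinearMap.congr_fun hqj₀ x
  have hidem : IsIdempotentElem (j ∘ₗ q : Module.End (R ⧸ I) ((R ⧸ I) ⊗[R] (Fin n → R))) := by
    show (j ∘ₗ q) ∘ₗ (j ∘ₗ q) = j ∘ₗ q
    rw [LinearMap.comp_assoc, ← LinearMap.comp_assoc q j q, hqj, LinearMap.id_comp]
  obtain ⟨e, he, heb⟩ := Groth.Agent.Lib.Helper10.exists_idempotent_lift I
    (fun φ hφ => isNilpotent_end_pi I hI n φ hφ) (j ∘ₗ q) hidem
  have hbij := Groth.Agent.Lib.Helper10.bijective_comp_baseChange_subtype e he q j hqj heb.symm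
  have hproj : Module.Projective R (LinearMap.range e) :=
    Groth.Agent.Lib.Helper10.projective_range_of_isIdempotentElem e he
  refine ⟨LinearMap.range e, inferInstance, inferInstance, hproj, inferInstance,
    ⟨LinearEquiv.ofBijective _ hbij⟩⟩

end Groth.Agent.S6271
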