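import Groth.Statements.S6272
import Mathlib
import Groth.Agent.Lib.Helper10.LiftProj

set_option autoImplicit false
universe u
open scoped TensorProduct
open CAlg

namespace Groth.Agent.S6272

open Groth.Agent.Lib.Helper10

section aux
variable {R : Type u} [CommRing R] {F P : Type u} [AddCommGroup F] [Module R F]
  [AddCommGroup P] [Module R P]

/-- linear maps send `I • ⊤` into `I • ⊤` -/
theorem map_mem_smul_top (I : Ideal R) {M N : Type u} [AddCommGroup M] [Module R M]
    [AddCommGroup N] [Module R N] (φ : M →ₗ[R] N) {f : M}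
    (hf : f ∈ I • (⊤ : Submodule R M)) : φ f ∈ I • (⊤ : Submodule R N) := by
  have : Submodule.map φ (I • (⊤ : Submodule R M)) ≤ I • (⊤ : Submodule R N) := by
    rw [Submodule.map_smul'']
    exact Submodule.smul_mono le_rfl le_top
  exact this (Submodule.mem_map_of_mem hf)

/-- an endomorphism of `F` which modulo `I` is an idempotent with kernel `ker π` -/
def Good (π : F →ₗ[R] P) (I : Ideal R) (φ : Module.End R F) : Prop :=
  (∀ f, π (φ f) - π f ∈ I • (⊤ : Submodule R P)) ∧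
  (∀ n, π n = 0 → φ n ∈ I • (⊤ : Submodule R F))

theorem exists_good [Module.Free R F] (π : F →ₗ[R] P) (hπ : Function.Surjective π) (I : Ideal R)
    (hI : Module.Projective (R ⧸ I) ((R ⧸ I) ⊗[R] P)) : ∃ φ : Module.End R F, Good π I φ := by
  have hq : Function.Surjective (π.baseChange (R ⧸ I)) := LinearMap.lTensor_surjective (R ⧸ I) hπ
  obtain ⟨j, hj⟩ := Module.projective_lifting_property (π.baseChange (R ⧸ I)) LinearMap.id hq
  obtain ⟨φ, hφ⟩ := baseChange_surjective_of_free I (j ∘ₗ π.baseChange (R ⧸ I))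
  refine ⟨φ, fun f => ?_, fun n hn => ?_⟩
  · have h1 : (π.baseChange (R ⧸ I)) ((φ.baseChange (R ⧸ I)) ((1 : R ⧸ I) ⊗ₜ[R] f)) =
        (π.baseChange (R ⧸ I)) ((1 : R ⧸ I) ⊗ₜ[R] f) := by
      rw [hφ, LinearMap.comp_apply]
      exact LinearMap.congr_fun hj _
    rw [LinearMap.baseChange_tmul, LinearMap.baseChange_tmul, LinearMap.baseChange_tmul] at h1
    rw [← one_tmul_eq_zero_iff, TensorProduct.tmul_sub, h1, sub_self]
  · have h2 : (φ.baseChange (R ⧸ I)) ((1 : R ⧸ I) ⊗ₜ[R] n) = 0 := by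
      rw [hφ, LinearMap.comp_apply, LinearMap.baseChange_tmul, hn, TensorProduct.tmul_zero,
        map_zero]
    rw [LinearMap.baseChange_tmul] at h2
    exact (one_tmul_eq_zero_iff I _).mp h2

theorem Good.add {π : F →ₗ[R] P} {I : Ideal R} {φ : Module.End R F} (h : Good π I φ)
    (α : Module.End R F) (hα : ∀ f, α f ∈ I • (⊤ : Submodule R F)) : Good π I (φ + α) := by
  refine ⟨fun f => ?_, fun n hn => ?_⟩
  · have : π ((φ + α) f) - π f = (π (φ f) - π f) + π (α f) := by
      rw [LinearMap.add_apply, map_add]; abel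
    rw [this]
    exact Submodule.add_mem _ (h.1 f) (map_mem_smul_top I π (hα f))
  · rw [LinearMap.add_apply]
    exact Submodule.add_mem _ (h.2 n hn) (hα n)

theorem Good.map_mem {π : F →ₗ[R] P} (hπ : Function.Surjective π) {J : Ideal R}
    {φ : Module.End R F} (h : Good π J φ) (L : Ideal R) {g : F}
    (hg : π g ∈ L • (⊤ : Submodule R P)) : φ g ∈ (L ⊔ J) • (⊤ : Submodule R F) := by
  have hmap : L • (⊤ : Submodule R P) = Submodule.map π (L • (⊤ : Submodule R F)) := by
    rw [Submodule.map_smul'', Submodule.map_top, LinearMap.range_eq_top.mpr hπ]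
  rw [hmap] at hg
  obtain ⟨w, hw, hwg⟩ := hg
  have hn : π (g - w) = 0 := by rw [map_sub, hwg, sub_self]
  have : φ g = φ w + φ (g - w) := by rw [← map_add]; congr 1; abel
  rw [this, Submodule.sup_smul]
  exact Submodule.add_mem_sup (map_mem_smul_top L φ hw) (h.2 _ hn)

theorem Good.twist {π : F →ₗ[R] P} {J : Ideal R} {φ₂ : Module.End R F} (h : Good π J φ₂)
    (φ₁ : Module.End R F) : Good π J (φ₂ + (1 - φ₂) * φ₁ * φ₂) := by
  refine ⟨fun f => ?_, fun n hn => ?_⟩
  · have : π ((φ₂ + (1 - φ₂) * φ₁ * φ₂) f) - π f =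
        (π (φ₂ f) - π f) - (π (φ₂ (φ₁ (φ₂ f))) - π (φ₁ (φ₂ f))) := by
      simp only [LinearMap.add_apply, Module.End.mul_apply, LinearMap.sub_apply,
        Module.End.one_apply, map_add, map_sub]
      abel
    rw [this]
    exact Submodule.sub_mem _ (h.1 f) (h.1 _)
  · have : (φ₂ + (1 - φ₂) * φ₁ * φ₂) n = φ₂ n + ((1 - φ₂) * φ₁) (φ₂ n) := by
      simp only [LinearMap.add_apply, Module.End.mul_apply]
    rw [this]
    exact Submodule.add_mem _ (h.2 n hn) (map_mem_smul_top J _ (h.2 n hn))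

theorem delta_mem {π : F →ₗ[R] P} (hπ : Function.Surjective π) {I J : Ideal R}
    {φ₁ φ₂ : Module.End R F} (h₁ : Good π I φ₁) (h₂ : Good π J φ₂) (f : F) :
    (φ₂ + (1 - φ₂) * φ₁ * φ₂ - φ₁) f ∈ (I ⊔ J) • (⊤ : Submodule R F) := by
  have e : (φ₂ + (1 - φ₂) * φ₁ * φ₂ - φ₁) f = (1 - φ₂) (φ₁ (φ₂ f - f)) + φ₂ (f - φ₁ f) := by
    simp only [LinearMap.add_apply, LinearMap.sub_apply, Module.End.mul_apply,
      Module.End.one_apply, map_sub]
    abel
  rw [e]
  refine Submodule.add_mem _ (map_mem_smul_top _ _ ?_) ?_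
  · have := h₁.map_mem hπ J (g := φ₂ f - f) (by rw [map_sub]; exact h₂.1 f)
    rwa [sup_comm] at this
  · refine h₂.map_mem hπ I (g := f - φ₁ f) ?_
    rw [map_sub]
    have := (I • (⊤ : Submodule R P)).neg_mem (h₁.1 f)
    rwa [neg_sub] at this

theorem exists_decomp [Module.Free R F] (I J : Ideal R) (δ : Module.End R F)
    (hδ : ∀ f, δ f ∈ (I ⊔ J) • (⊤ : Submodule R F)) :
    ∃ α β : Module.End R F, δ = α + β ∧ (∀ f, α f ∈ I • (⊤ : Submodule R F)) ∧
      (∀ f, β f ∈ J • (⊤ : Submodule R F)) := by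
  classical
  let b := Module.Free.chooseBasis R F
  have h : ∀ i, ∃ u ∈ I • (⊤ : Submodule R F), ∃ v ∈ J • (⊤ : Submodule R F),
      u + v = δ (b i) := by
    intro i
    have := hδ (b i)
    rw [Submodule.sup_smul] at this
    exact Submodule.mem_sup.mp this
  choose u hu v hv huv using h
  refine ⟨b.constr ℕ u, b.constr ℕ v, ?_, ?_, ?_⟩
  · apply b.ext
    intro i
    rw [LinearMap.add_apply, Module.Basis.constr_basis, Module.Basis.constr_basis, huv]
  · intro f
    have : LinearMap.range (b.constr ℕ u) ≤ I • (⊤ : Submodule R F) := by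
      rw [Module.Basis.constr_range, Submodule.span_le]
      rintro _ ⟨i, rfl⟩
      exact hu i
    exact this (LinearMap.mem_range_self _ f)
  · intro f
    have : LinearMap.range (b.constr ℕ v) ≤ J • (⊤ : Submodule R F) := by
      rw [Module.Basis.constr_range, Submodule.span_le]
      rintro _ ⟨i, rfl⟩
      exact hv i
    exact this (LinearMap.mem_range_self _ f)

theorem eq_zero_of_mem_smul_top [Module.Free R F] {I J : Ideal R} (hIJ : I ⊓ J = ⊥) {f : F}
    (h1 : f ∈ I • (⊤ : Submodule R F)) (h2 : f ∈ J • (⊤ : Submodule R F)) : f = 0 := by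
  classical
  let b := Module.Free.chooseBasis R F
  apply b.repr.injective
  ext i
  rw [map_zero, Finsupp.zero_apply]
  have hI : b.repr f i ∈ I := by
    have := map_mem_smul_top I (b.coord i) h1
    rwa [smul_eq_mul, Ideal.mul_top, Module.Basis.coord_apply] at this
  have hJ : b.repr f i ∈ J := by
    have := map_mem_smul_top J (b.coord i) h2
    rwa [smul_eq_mul, Ideal.mul_top, Module.Basis.coord_apply] at this
  have : b.repr f i ∈ I ⊓ J := ⟨hI, hJ⟩
  rw [hIJ] at this
  exact this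

theorem exists_factor (π : F →ₗ[R] P) (hπ : Function.Surjective π) (ψ : F →ₗ[R] F)
    (h : ∀ n, π n = 0 → ψ n = 0) : ∃ σ : P →ₗ[R] F, ∀ f, σ (π f) = ψ f := by
  have hle : LinearMap.ker π ≤ LinearMap.ker ψ := fun n hn => h n hn
  refine ⟨(LinearMap.ker π).liftQ ψ hle ∘ₗ (π.quotKerEquivOfSurjective hπ).symm.toLinearMap,
    fun f => ?_⟩
  have : (π.quotKerEquivOfSurjective hπ).symm (π f) = Submodule.Quotient.mk f := by
    rw [LinearEquiv.symm_apply_eq]
    rfl
  rw [LinearMap.comp_apply, LinearEquiv.coe_coe, this, Submodule.liftQ_apply]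

end aux

/-- Over a ring R, take two ideals I and J meeting in zero (I ∩ J = 0) and an R-module P. If the
R/I-module P/IP (that is, R/I ⊗ P) and the R/J-module P/JP (that is, R/J ⊗ P) are both projective,
then P itself is projective over R. -/
theorem result {R : Type u} [CommRing R] (I J : Ideal R) (hIJ : I ⊓ J = ⊥) (P : Type u) [AddCommGroup P] [Module R P] (hI : Module.Projective (R ⧸ I) ((R ⧸ I) ⊗[R] P)) (hJ : Module.Projective (R ⧸ J) ((R ⧸ J) ⊗[R] P)) : Module.Projective R P := by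
  classical
  obtain ⟨π, hπ⟩ : ∃ π : (P →₀ R) →ₗ[R] P, Function.Surjective π :=
    ⟨_, Finsupp.linearCombination_id_surjective R P⟩
  obtain ⟨φ₁, h₁⟩ := exists_good π hπ I hI
  obtain ⟨φ₂, h₂⟩ := exists_good π hπ J hJ
  obtain ⟨α, β, hαβ, hα, hβ⟩ := exists_decomp I J _ (delta_mem hπ h₁ h₂)
  have hψI : Good π I (φ₁ + α) := h₁.add α hα
  have hψJ : Good π J (φ₁ + α) := by
    have h1 : φ₂ + (1 - φ₂) * φ₁ * φ₂ = φ₁ + (α + β) := by rw [← hαβ]; abel
    have h2 : φ₁ + α = (φ₂ + (1 - φ₂) * φ₁ * φ₂) + (-β) := by rw [h1]; abel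
    rw [h2]
    exact (h₂.twist φ₁).add (-β) (fun f => by
      rw [LinearMap.neg_apply]; exact Submodule.neg_mem _ (hβ f))
  have hker : ∀ n, π n = 0 → (φ₁ + α) n = 0 := fun n hn =>
    eq_zero_of_mem_smul_top hIJ (hψI.2 n hn) (hψJ.2 n hn)
  obtain ⟨σ, hσ⟩ := exists_factor π hπ (φ₁ + α) hker
  obtain ⟨K, hKdef⟩ : ∃ K : Submodule R P,
      K = I • (⊤ : Submodule R P) ⊓ J • (⊤ : Submodule R P) := ⟨_, rfl⟩
  have hεK : ∀ p, π (σ p) - p ∈ K := by
    intro p
    obtain ⟨f, rfl⟩ := hπ p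
    rw [hσ, hKdef]
    exact ⟨hψI.1 f, hψJ.1 f⟩
  have hσK : ∀ k ∈ K, σ k = 0 := by
    intro k hk
    rw [hKdef] at hk
    obtain ⟨f, rfl⟩ := hπ k
    rw [hσ]
    have e1 := hψI.map_mem hπ I hk.1
    have e2 := hψJ.map_mem hπ J hk.2
    rw [sup_idem] at e1 e2
    exact eq_zero_of_mem_smul_top hIJ e1 e2
  have hKL : ∀ L : Ideal R, K ≤ L • (⊤ : Submodule R P) → K ≤ L • K := by
    intro L hL k hk
    have hk' : k = (LinearMap.id - π ∘ₗ σ : P →ₗ[R] P) k := by
      rw [LinearMap.sub_apply, LinearMap.id_apply, LinearMap.comp_apply, hσK k hk, map_zero,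
        sub_zero]
    have hmap : Submodule.map (LinearMap.id - π ∘ₗ σ : P →ₗ[R] P) (L • (⊤ : Submodule R P)) ≤ L • K := by
      rw [Submodule.map_smul'']
      refine Submodule.smul_mono le_rfl ?_
      rintro _ ⟨p, -, rfl⟩
      have h' := K.neg_mem (hεK p)
      rw [neg_sub] at h'
      exact h'
    rw [hk']
    exact hmap (Submodule.mem_map_of_mem (hL hk))
  have hKI : K ≤ I • K := hKL I (by rw [hKdef]; exact inf_le_left)
  have hKJ : K ≤ J • K := hKL J (by rw [hKdef]; exact inf_le_right)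
  have hK : K = ⊥ := by
    rw [eq_bot_iff]
    calc K ≤ I • K := hKI
      _ ≤ I • (J • K) := Submodule.smul_mono le_rfl hKJ
      _ = (I * J) • K := (Submodule.mul_smul _ _ _).symm
      _ ≤ (I ⊓ J) • K := Submodule.smul_mono_left Ideal.mul_le_inf
      _ = ⊥ := by rw [hIJ, Submodule.bot_smul]
  refine Module.Projective.of_split σ π ?_
  ext p
  have := hεK p
  rw [hK, Submodule.mem_bot, sub_eq_zero] at this
  exact this

end Groth.Agent.S6272
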