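import Groth.Statements.S6273
import Mathlib
-- import your own Groth.Agent.* helpers here

set_option autoImplicit false
universe u
open CAlg

namespace Groth.Agent.S6273

/-- Let R be a ring, S ⊆ R a multiplicative subset and A = S⁻¹R. If the image of Spec(A) → Spec(R) is
closed, then the localization map R → A is surjective; in particular A is isomorphic to R/I for the
ideal I = ker(R → A). -/
theorem result {R : Type u} [CommRing R] (S : Submonoid R) (A : Type u) [CommRing A] [Algebra R A] [IsLocalization S A] (hcl : IsClosed (Set.range (PrimeSpectrum.comap (algebraMap R A)))) : Function.Surjective (algebraMap R A) := by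
  classical
  set I : Ideal R := RingHom.ker (algebraMap R A) with hI
  have key : ∀ s ∈ S, ∃ t : R, s * t - 1 ∈ I := by
    intro s hs
    by_contra hcon
    push Not at hcon
    have hne : I ⊔ Ideal.span {s} ≠ ⊤ := by
      intro htop
      have h1 : (1 : R) ∈ I ⊔ Ideal.span {s} := by rw [htop]; trivial
      rw [Submodule.mem_sup] at h1
      obtain ⟨i, hi, y, hy, hiy⟩ := h1
      rw [Ideal.mem_span_singleton'] at hy
      obtain ⟨t, rfl⟩ := hy
      apply hcon t
      have : s * t - 1 = -i := by rw [← hiy]; ring
      rw [this]; exact I.neg_mem hi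
    obtain ⟨m, hm, hle⟩ := Ideal.exists_le_maximal _ hne
    have hIm : I ≤ m := le_sup_left.trans hle
    have hsm : s ∈ m := hle (Ideal.mem_sup_right (Ideal.mem_span_singleton_self s))
    have hmp := hm.isPrime
    obtain ⟨p₀, hp₀, hp₀m⟩ := Ideal.exists_minimalPrimes_le hIm
    have hIc : I = (⊥ : Ideal A).comap (algebraMap R A) := rfl
    obtain ⟨p', hp'prime, -, hp'⟩ := Ideal.exists_comap_eq_of_mem_minimalPrimes (I := ⊥)
      (algebraMap R A) p₀ (by rwa [← hIc])
    have hp₀range : (⟨p₀, hp₀.isPrime⟩ : PrimeSpectrum R) ∈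
        Set.range (PrimeSpectrum.comap (algebraMap R A)) :=
      ⟨⟨p', hp'prime⟩, PrimeSpectrum.ext hp'⟩
    have hmrange : (⟨m, hm.isPrime⟩ : PrimeSpectrum R) ∈
        Set.range (PrimeSpectrum.comap (algebraMap R A)) :=
      hcl.stableUnderSpecialization
        ((PrimeSpectrum.le_iff_specializes (⟨p₀, hp₀.isPrime⟩ : PrimeSpectrum R) ⟨m, hm.isPrime⟩).mp
          hp₀m) hp₀range
    rw [PrimeSpectrum.localization_comap_range A S] at hmrange
    exact Set.disjoint_left.mp hmrange hs hsm
  intro a
  obtain ⟨⟨r, s⟩, h⟩ := IsLocalization.surj S a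
  obtain ⟨t, ht⟩ := key s s.2
  refine ⟨r * t, ?_⟩
  have h1 : algebraMap R A s * algebraMap R A t = 1 := by
    have : algebraMap R A (s * t - 1) = 0 := ht
    rw [map_sub, map_mul, map_one, sub_eq_zero] at this
    exact this
  calc algebraMap R A (r * t) = algebraMap R A r * algebraMap R A t := map_mul _ _ _
    _ = a * algebraMap R A s * algebraMap R A t := by rw [h]
    _ = a := by rw [mul_assoc, h1, mul_one]

end Groth.Agent.S6273
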