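import Groth.Statements.S6274
import Mathlib
import Groth.Agent.S6273
-- import your own Groth.Agent.* helpers here

set_option autoImplicit false
universe u
open CAlg

namespace Groth.Agent.S6274

/-- Let R be a ring, S ⊆ R a multiplicative subset and A = S⁻¹R, and assume the image of Spec(A) →
Spec(R) is closed. If Spec(R) is a Noetherian topological space (which holds when R is Noetherian)
or S is finitely generated as a monoid, then R is isomorphic to A × R' for some ring R', by an
isomorphism whose first component is the localization map R → A. -/
theorem result {R : Type u} [CommRing R] (S : Submonoid R) (A : Type u) [CommRing A] [Algebra R A] [IsLocalization S A] (hcl : IsClosed (Set.range (PrimeSpectrum.comap (algebraMap R A)))) (h : TopologicalSpace.NoetherianSpace (PrimeSpectrum R) ∨ S.FG) : ∃ (R' : Type u) (_ : CommRing R') (e : R ≃+* A × R'), ∀ x : R, (e x).1 = algebraMap R A x := by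
  classical
  have hsurj : Function.Surjective (algebraMap R A) := Groth.Agent.S6273.result S A hcl
  set Z : Set (PrimeSpectrum R) := Set.range (PrimeSpectrum.comap (algebraMap R A)) with hZdef
  have hZ : Z = {p | Disjoint (S : Set R) p.asIdeal} := PrimeSpectrum.localization_comap_range A S
  -- Z is open
  have hopen : IsOpen Z := by
    rcases h with hN | hfg
    · apply PrimeSpectrum.isOpen_of_stableUnderGeneralization_of_isConstructible
      · intro p q hqp hp
        rw [hZ] at hp ⊢
        have hle : q ≤ p := (PrimeSpectrum.le_iff_specializes q p).mpr hqp
        exact Set.disjoint_of_subset_right (by exact_mod_cast hle) hp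
      · have hc : Topology.IsConstructible Zᶜ := by
          apply IsRetrocompact.isConstructible hcl.isOpen_compl
          intro U _ _
          exact TopologicalSpace.NoetherianSpace.isCompact _
        exact hc.of_compl
    · obtain ⟨T, hT⟩ := hfg
      have : Z = (PrimeSpectrum.basicOpen (∏ t ∈ T, t) : Set (PrimeSpectrum R)) := by
        rw [hZ]
        ext p
        simp only [SetLike.mem_coe, PrimeSpectrum.mem_basicOpen]
        constructor
        · intro hd hmem
          replace hd : Disjoint (S : Set R) (p.asIdeal : Set R) := hd
          have hprodS : (∏ t ∈ T, t) ∈ S := by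
            rw [← hT]
            exact Submonoid.prod_mem _ (fun t ht => Submonoid.subset_closure ht)
          exact Set.disjoint_left.mp hd hprodS hmem
        · intro hnot
          show Disjoint (S : Set R) (p.asIdeal : Set R)
          rw [Set.disjoint_left]
          intro x hxS hxp
          apply hnot
          rw [← hT] at hxS
          -- every element of the closure divides a power of the product
          have : ∀ y ∈ Submonoid.closure (T : Set R), y ∈ p.asIdeal → (∏ t ∈ T, t) ∈ p.asIdeal := by
            intro y hy
            induction hy using Submonoid.closure_induction with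
            | mem z hz =>
              intro hzp
              rw [← Finset.prod_erase_mul T (fun t => t) hz]
              exact Ideal.mul_mem_left _ _ hzp
            | one =>
              intro h1
              exact absurd h1 p.isPrime.one_notMem
            | mul a b _ _ iha ihb =>
              intro hab
              rcases p.isPrime.mem_or_mem hab with ha | hb
              · exact iha ha
              · exact ihb hb
          exact this x hxS hxp
      rw [this]
      exact (PrimeSpectrum.basicOpen _).2
  have hclopen : IsClopen Z := ⟨hcl, hopen⟩
  obtain ⟨e, he, hZe⟩ := PrimeSpectrum.isClopen_iff.mp hclopen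
  -- algebraMap (1 - e) = 0
  have h1e : algebraMap R A (1 - e) = 0 := by
    have hidem : IsIdempotentElem (algebraMap R A (1 - e)) := he.one_sub.map (algebraMap R A)
    have hnil : IsNilpotent (algebraMap R A (1 - e)) := by
      rw [← mem_nilradical, nilradical_eq_sInf, Ideal.mem_sInf]
      intro q hq
      have hq' : q.IsPrime := hq
      have hmem : PrimeSpectrum.comap (algebraMap R A) ⟨q, hq'⟩ ∈ Z := ⟨_, rfl⟩
      rw [hZe] at hmem
      simp only [SetLike.mem_coe, PrimeSpectrum.mem_basicOpen, PrimeSpectrum.comap_asIdeal,
        Ideal.mem_comap] at hmem
      have hz : algebraMap R A e * algebraMap R A (1 - e) ∈ q := by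
        rw [← map_mul, mul_sub, mul_one, he.eq, sub_self, map_zero]
        exact q.zero_mem
      rcases hq'.mem_or_mem hz with h | h
      · exact absurd h hmem
      · exact h
    exact hidem.eq_zero_of_isNilpotent hnil
  have hae : algebraMap R A e = 1 := by
    have := h1e
    rw [map_sub, map_one, sub_eq_zero] at this
    exact this.symm
  -- kernel elements are killed by e
  have hker : ∀ x : R, algebraMap R A x = 0 → e * x = 0 := by
    intro x hx
    rw [IsLocalization.map_eq_zero_iff S] at hx
    obtain ⟨s, hs⟩ := hx
    by_contra hne
    set J : Ideal R := Ideal.span {(s : R), 1 - e} with hJ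
    -- J annihilates e * x
    have hann : ∀ r ∈ J, r * (e * x) = 0 := by
      intro r hr
      rw [hJ] at hr
      refine Submodule.span_induction ?_ ?_ ?_ ?_ hr
      · intro y hy
        rcases hy with rfl | rfl
        · rw [mul_left_comm, hs, mul_zero]
        · rw [← mul_assoc, sub_mul, one_mul, he.eq, sub_self, zero_mul]
      · simp
      · intro a b _ _ ha hb
        rw [add_mul, ha, hb, add_zero]
      · intro a b _ hb
        rw [smul_eq_mul, mul_assoc, hb, mul_zero]
    have hJne : J ≠ ⊤ := by
      intro htop
      apply hne
      have := hann 1 (by rw [htop]; trivial)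
      simpa using this
    obtain ⟨m, hm, hJm⟩ := Ideal.exists_le_maximal J hJne
    have hsm : (s : R) ∈ m := hJm (Ideal.subset_span (by simp))
    have hem : (1 - e) ∈ m := hJm (Ideal.subset_span (by simp))
    have henm : e ∉ m := by
      intro hem'
      apply hm.ne_top
      rw [Ideal.eq_top_iff_one]
      have := m.add_mem hem hem'
      simpa using this
    have hmZ : (⟨m, hm.isPrime⟩ : PrimeSpectrum R) ∈ Z := by
      rw [hZe]
      exact henm
    rw [hZ] at hmZ
    exact Set.disjoint_left.mp hmZ s.2 hsm
  refine ⟨R ⧸ Ideal.span {e}, inferInstance, ?_⟩
  let φ : R →+* A × (R ⧸ Ideal.span {e}) := (algebraMap R A).prod (Ideal.Quotient.mk (Ideal.span {e}))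
  have hφ : Function.Bijective φ := by
    constructor
    · rw [injective_iff_map_eq_zero]
      intro x hx
      have hx1 : algebraMap R A x = 0 := congrArg Prod.fst hx
      have hx2 : Ideal.Quotient.mk (Ideal.span {e}) x = 0 := congrArg Prod.snd hx
      rw [Ideal.Quotient.eq_zero_iff_mem, Ideal.mem_span_singleton'] at hx2
      obtain ⟨b, rfl⟩ := hx2
      have := hker _ hx1
      rw [mul_left_comm, he.eq] at this
      exact this
    · rintro ⟨a, r'⟩
      obtain ⟨r1, rfl⟩ := hsurj a
      obtain ⟨r2, rfl⟩ := Ideal.Quotient.mk_surjective r'
      refine ⟨e * r1 + (1 - e) * r2, ?_⟩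
      apply Prod.ext
      · show algebraMap R A (e * r1 + (1 - e) * r2) = algebraMap R A r1
        rw [map_add, map_mul, map_mul, hae, h1e, one_mul, zero_mul, add_zero]
      · show Ideal.Quotient.mk (Ideal.span {e}) (e * r1 + (1 - e) * r2) = Ideal.Quotient.mk _ r2
        rw [Ideal.Quotient.eq, Ideal.mem_span_singleton']
        exact ⟨r1 - r2, by ring⟩
  exact ⟨RingEquiv.ofBijective φ hφ, fun x => rfl⟩

end Groth.Agent.S6274
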