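import Groth.Statements.S6275
import Mathlib
-- import your own Groth.Agent.* helpers here

set_option autoImplicit false
universe u
open CAlg

namespace Groth.Agent.S6275

/-- Let R be a Noetherian ring and p ⊆ R a prime. Then there is f ∈ R, f ∉ p, such that R_f → R_p is
injective; equivalently every x ∈ R mapping to zero in R_p maps to zero in R_f. (The cases of a
domain and of a reduced ring with finitely many minimal primes are not included here.) -/
theorem result {R : Type u} [CommRing R] [IsNoetherianRing R] (p : Ideal R) [p.IsPrime] : ∃ f : R, f ∉ p ∧ ∀ x : R, algebraMap R (Localization.AtPrime p) x = 0 → algebraMap R (Localization.Away f) x = 0 := by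
  classical
  set K : Ideal R := RingHom.ker (algebraMap R (Localization.AtPrime p)) with hK
  have hfg : K.FG := IsNoetherian.noetherian K
  obtain ⟨t, ht⟩ := hfg
  have key : ∀ x ∈ K, ∃ c : R, c ∉ p ∧ c * x = 0 := by
    intro x hx
    rw [hK, RingHom.mem_ker, IsLocalization.map_eq_zero_iff p.primeCompl] at hx
    obtain ⟨c, hc⟩ := hx
    exact ⟨c.1, c.2, hc⟩
  choose! c hc1 hc2 using key
  refine ⟨∏ x ∈ t, c x, ?_, ?_⟩
  · intro hmem
    rw [Ideal.IsPrime.prod_mem_iff] at hmem
    obtain ⟨x, hxt, hx⟩ := hmem
    have : x ∈ K := by rw [← ht]; exact Submodule.subset_span hxt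
    exact hc1 x this hx
  · intro x hx
    have hxK : x ∈ K := hx
    have hle : K ≤ RingHom.ker (algebraMap R (Localization.Away (∏ x ∈ t, c x))) := by
      rw [← ht, Ideal.span_le]
      intro y hy
      have hyK : y ∈ K := by rw [← ht]; exact Submodule.subset_span hy
      show algebraMap R _ y = 0
      rw [IsLocalization.map_eq_zero_iff (Submonoid.powers (∏ x ∈ t, c x))]
      refine ⟨⟨∏ x ∈ t, c x, Submonoid.mem_powers _⟩, ?_⟩
      show (∏ x ∈ t, c x) * y = 0
      rw [← Finset.prod_erase_mul t c hy, mul_assoc, hc2 y hyK, mul_zero]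
    exact hle hxK

end Groth.Agent.S6275
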