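import Groth.Statements.S6278
import Mathlib
-- import your own Groth.Agent.* helpers here

set_option autoImplicit false
universe u
open CAlg

namespace Groth.Agent.S6278

/-- A normal ring R (all localizations at primes are integrally closed domains) is integrally closed in
its total ring of fractions. -/
theorem result (R : Type u) [CommRing R] (hR : EGA4.IsNormalRing R) : IsIntegrallyClosedIn R (FractionRing R) := by
  classical
  rw [isIntegrallyClosedIn_iff]
  refine ⟨IsFractionRing.injective R (FractionRing R), ?_⟩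
  intro x hxint
  obtain ⟨⟨a, s⟩, hx⟩ := IsLocalization.surj (nonZeroDivisors R) x
  replace hx : x * algebraMap R (FractionRing R) (s : R) = algebraMap R (FractionRing R) a := hx
  -- the conductor-like ideal
  let J : Ideal R := Submodule.comap (LinearMap.mulRight R a) (Ideal.span {(s : R)})
  have hJmem : ∀ r : R, r ∈ J ↔ ∃ b : R, b * (s : R) = r * a := by
    intro r
    show (LinearMap.mulRight R a) r ∈ Ideal.span {(s : R)} ↔ _
    rw [Ideal.mem_span_singleton']
    rfl
  have hsunit : IsUnit (algebraMap R (FractionRing R) (s : R)) :=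
    IsLocalization.map_units (FractionRing R) s
  suffices h1 : (1 : R) ∈ J by
    obtain ⟨b, hb⟩ := (hJmem 1).mp h1
    rw [one_mul] at hb
    refine ⟨b, ?_⟩
    apply hsunit.mul_right_cancel
    rw [hx, ← map_mul, hb]
  by_contra h1
  have hJne : J ≠ ⊤ := fun h => h1 (by rw [h]; trivial)
  obtain ⟨m, hm, hJm⟩ := Ideal.exists_le_maximal J hJne
  have hmp : m.IsPrime := hm.isPrime
  obtain ⟨hdom, hic⟩ := hR m
  let Rm := Localization.AtPrime m
  let L := FractionRing Rm
  let θ : R →+* L := (algebraMap Rm L).comp (algebraMap R Rm)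
  have hunits : ∀ t : nonZeroDivisors R, IsUnit (θ t) := by
    intro t
    have h1 : algebraMap R Rm (t : R) ∈ nonZeroDivisors Rm :=
      IsLocalization.map_nonZeroDivisors_le m.primeCompl Rm ⟨t, t.2, rfl⟩
    exact IsLocalization.map_units L ⟨_, h1⟩
  let ψ : FractionRing R →+* L := IsLocalization.lift hunits
  have hψ : ∀ r : R, ψ (algebraMap R (FractionRing R) r) = algebraMap Rm L (algebraMap R Rm r) :=
    fun r => IsLocalization.lift_eq hunits r
  have hcomp : (algebraMap Rm L).comp (algebraMap R Rm) = ψ.comp (algebraMap R (FractionRing R)) := by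
    ext r
    simp only [RingHom.comp_apply]
    rw [hψ]
  have hint : IsIntegral Rm (ψ x) := IsIntegral.map_of_comp_eq (algebraMap R Rm) ψ hcomp hxint
  obtain ⟨y, hy⟩ := IsIntegrallyClosed.isIntegral_iff.mp hint
  have hya : y * algebraMap R Rm (s : R) = algebraMap R Rm a := by
    apply IsFractionRing.injective Rm L
    rw [map_mul, hy, ← hψ, ← hψ, ← map_mul, hx]
  obtain ⟨⟨b, t⟩, hyt⟩ := IsLocalization.surj m.primeCompl y
  replace hyt : y * algebraMap R Rm (t : R) = algebraMap R Rm b := hyt
  have heq : algebraMap R Rm (a * (t : R)) = algebraMap R Rm (b * (s : R)) := by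
    rw [map_mul, map_mul, ← hya, ← hyt]
    ring
  obtain ⟨u, hu⟩ := (IsLocalization.eq_iff_exists m.primeCompl Rm).mp heq
  have hutJ : (u : R) * (t : R) ∈ J := by
    rw [hJmem]
    refine ⟨(u : R) * b, ?_⟩
    calc (u : R) * b * (s : R) = (u : R) * (b * (s : R)) := by ring
      _ = (u : R) * (a * (t : R)) := by rw [hu]
      _ = (u : R) * (t : R) * a := by ring
  have := hJm hutJ
  rcases hmp.mem_or_mem this with h | h
  · exact u.2 h
  · exact t.2 h

end Groth.Agent.S6278
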