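import Groth.Statements.S6281
import Mathlib
-- import your own Groth.Agent.* helpers here

set_option autoImplicit false
universe u
open CAlg

open scoped TensorProduct

namespace Groth.Agent.S6281

/-- For an R-algebra S and an S-module M, flatness of S over R follows once M is both flat over R and
faithfully flat over S. -/
theorem result {R S : Type u} [CommRing R] [CommRing S] [Algebra R S] (M : Type u) [AddCommGroup M] [Module S M] [Module R M] [IsScalarTower R S M] [Module.Flat R M] [Module.FaithfullyFlat S M] : Module.Flat R S := by
  rw [Module.Flat.iff_lTensor_preserves_injective_linearMap]
  intro N P _ _ _ _ f hf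
  let F : S ⊗[R] N →ₗ[S] S ⊗[R] P :=
    TensorProduct.AlgebraTensorModule.map (LinearMap.id : S →ₗ[S] S) f
  have hF : ∀ x, F x = f.lTensor S x := by
    intro x
    induction x using TensorProduct.induction_on with
    | zero => simp
    | tmul s n => rfl
    | add a b ha hb => rw [map_add, map_add, ha, hb]
  have key : Function.Injective F := by
    rw [← Module.FaithfullyFlat.lTensor_injective_iff_injective S M]
    have hcomm : ∀ x, (TensorProduct.AlgebraTensorModule.cancelBaseChange R S S M P)
        ((F.lTensor M) x) =
        (f.lTensor M) ((TensorProduct.AlgebraTensorModule.cancelBaseChange R S S M N) x) := by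
      intro x
      induction x using TensorProduct.induction_on with
      | zero => simp
      | tmul m y =>
        induction y using TensorProduct.induction_on with
        | zero => simp
        | tmul s n => simp [F]
        | add a b ha hb => simp only [TensorProduct.tmul_add, map_add, ha, hb]
      | add a b ha hb => simp only [map_add, ha, hb]
    intro x y hxy
    apply (TensorProduct.AlgebraTensorModule.cancelBaseChange R S S M N).injective
    apply Module.Flat.lTensor_preserves_injective_linearMap (M := M) f hf
    rw [← hcomm, ← hcomm, hxy]
  intro x y hxy
  apply key
  rw [hF, hF, hxy]

end Groth.Agent.S6281
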