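import Groth.Statements.S6282
import Mathlib
-- import your own Groth.Agent.* helpers here

set_option autoImplicit false
universe u
open scoped TensorProduct
open CAlg

namespace Groth.Agent.S6282

section aux
variable {R S S' : Type u} [CommRing R] [CommRing S] [CommRing S'] [Algebra R S] [Algebra R S']
  [Algebra S S'] [IsScalarTower R S S'] (M : Type u) [AddCommGroup M] [Module S M] [Module R M]
  [IsScalarTower R S M]
  {N P : Type u} [AddCommGroup N] [AddCommGroup P] [Module R N] [Module R P] (f : N →ₗ[R] P)

open TensorProduct

/-- the `S`-linear version of `f.lTensor M` -/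
noncomputable def gS : M ⊗[R] N →ₗ[S] M ⊗[R] P :=
  AlgebraTensorModule.map (LinearMap.id : M →ₗ[S] M) f

theorem gS_apply (x : M ⊗[R] N) : gS (S := S) M f x = f.lTensor M x := by
  induction x using TensorProduct.induction_on with
  | zero => simp
  | tmul m n => rfl
  | add a b ha hb => rw [map_add, map_add, ha, hb]

theorem sq (x : (S' ⊗[S] M) ⊗[R] N) :
    AlgebraTensorModule.assoc R S S' S' M P ((f.lTensor (S' ⊗[S] M)) x) =
      ((gS M f).lTensor S') (AlgebraTensorModule.assoc R S S' S' M N x) := by
  induction x using TensorProduct.induction_on with
  | zero => simp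
  | tmul t n =>
    induction t using TensorProduct.induction_on with
    | zero => simp
    | tmul s m => simp [gS]
    | add a b ha hb => simp only [add_tmul, map_add, ha, hb]
  | add a b ha hb => simp only [map_add, ha, hb]

theorem flat_tensor [Module.Flat S S'] (hM : Module.Flat R M) : Module.Flat R (S' ⊗[S] M) := by
  rw [Module.Flat.iff_lTensor_preserves_injective_linearMap]
  intro N P _ _ _ _ f hf
  have hg : Function.Injective (gS (S := S) M f) := by
    have := Module.Flat.lTensor_preserves_injective_linearMap (M := M) f hf
    intro x y h
    apply this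
    rw [← gS_apply (S := S), ← gS_apply (S := S), h]
  have hg' : Function.Injective ((gS (S := S) M f).lTensor S') :=
    Module.Flat.lTensor_preserves_injective_linearMap _ hg
  intro x y hxy
  apply (AlgebraTensorModule.assoc R S S' S' M N).injective
  apply hg'
  rw [← sq, ← sq, hxy]

theorem flat_of_flat_tensor [Module.FaithfullyFlat S S'] (hM : Module.Flat R (S' ⊗[S] M)) :
    Module.Flat R M := by
  rw [Module.Flat.iff_lTensor_preserves_injective_linearMap]
  intro N P _ _ _ _ f hf
  have h0 := Module.Flat.lTensor_preserves_injective_linearMap (M := S' ⊗[S] M) f hf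
  have h1 : Function.Injective ((gS (S := S) M f).lTensor S') := by
    intro x y hxy
    apply (AlgebraTensorModule.assoc R S S' S' M N).symm.injective
    apply h0
    apply (AlgebraTensorModule.assoc R S S' S' M P).injective
    rw [sq, sq, LinearEquiv.apply_symm_apply, LinearEquiv.apply_symm_apply, hxy]
  have h2 : Function.Injective (gS (S := S) M f) :=
    (Module.FaithfullyFlat.lTensor_injective_iff_injective S S' _).mp h1
  intro x y h
  apply h2
  rw [gS_apply (S := S), gS_apply (S := S), h]

end aux

/-- Let S → S' be a homomorphism of R-algebras, M an S-module, and M' = S' ⊗_S M with its induced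
R-module structure. (1) When S' is flat over S, R-flatness of M passes to M'. (2) When S' is
faithfully flat over S, M is R-flat exactly when M' is. -/
theorem result {R S S' : Type u} [CommRing R] [CommRing S] [CommRing S'] [Algebra R S] [Algebra R S'] [Algebra S S'] [IsScalarTower R S S'] (M : Type u) [AddCommGroup M] [Module S M] [Module R M] [IsScalarTower R S M] : ([Module.Flat S S'] → Module.Flat R M → Module.Flat R (S' ⊗[S] M)) ∧ ([Module.FaithfullyFlat S S'] → (Module.Flat R M ↔ Module.Flat R (S' ⊗[S] M))) := by
  exact ⟨fun hM => flat_tensor M hM, ⟨fun hM => flat_tensor M hM, fun hM => flat_of_flat_tensor M hM⟩⟩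

end Groth.Agent.S6282
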