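import Groth.Statements.S6283
import Mathlib
-- import your own Groth.Agent.* helpers here

set_option autoImplicit false
universe u
open scoped TensorProduct
open CAlg

namespace Groth.Agent.S6283

section aux
open TensorProduct

theorem lemmaA {R S : Type u} [CommRing R] [CommRing S] [Algebra R S] [Module.Flat R S]
    {Q : Type u} [AddCommGroup Q] [Module R Q] (q : Q) (s : S) (hs : s ⊗ₜ[R] q = 0) :
    s ∈ Ideal.map (algebraMap R S) (LinearMap.ker (LinearMap.toSpanSingleton R Q q)) := by
  obtain ⟨a, ha⟩ : ∃ a : Ideal R, a = LinearMap.ker (LinearMap.toSpanSingleton R Q q) := ⟨_, rfl⟩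
  rw [← ha]
  have hexact : Function.Exact (Submodule.subtype a) (LinearMap.toSpanSingleton R Q q) := by
    rw [LinearMap.exact_iff, Submodule.range_subtype, ha]
  have hex := Module.Flat.lTensor_exact S hexact
  have h0 : ((LinearMap.toSpanSingleton R Q q).lTensor S) (s ⊗ₜ[R] (1 : R)) = 0 := by
    rw [LinearMap.lTensor_tmul, LinearMap.toSpanSingleton_apply, one_smul]
    exact hs
  obtain ⟨t, ht⟩ := (hex _).mp h0
  have key : ∀ t : S ⊗[R] a, TensorProduct.rid R S (((Submodule.subtype a).lTensor S) t) ∈
      a.map (algebraMap R S) := by
    intro t
    induction t using TensorProduct.induction_on with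
    | zero => simp
    | tmul s' x =>
      rw [LinearMap.lTensor_tmul, TensorProduct.rid_tmul, Submodule.subtype_apply,
        Algebra.smul_def]
      exact Ideal.mul_mem_right _ _ (Ideal.mem_map_of_mem _ x.2)
    | add x y hx hy => rw [map_add, map_add]; exact Ideal.add_mem _ hx hy
  have := key t
  rwa [ht, TensorProduct.rid_tmul, one_smul] at this

end aux

/-- Let R → S be a flat ring map, M an R-module and m ∈ M. Then Ann_R(m)S = Ann_S(1 ⊗ m), the
annihilator in S of the element 1 ⊗ m of S ⊗_R M. If moreover M is a finite R-module then Ann_R(M)S
= Ann_S(S ⊗_R M). -/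
theorem result {R S : Type u} [CommRing R] [CommRing S] [Algebra R S] [Module.Flat R S] (M : Type u) [AddCommGroup M] [Module R M] : (∀ m : M, ((Submodule.span R {m}).annihilator).map (algebraMap R S) = (Submodule.span S {(1 : S) ⊗ₜ[R] m}).annihilator) ∧ (Module.Finite R M → (Module.annihilator R M).map (algebraMap R S) = Module.annihilator S (S ⊗[R] M)) := by
  constructor
  · intro m
    apply le_antisymm
    · rw [Ideal.map_le_iff_le_comap]
      intro r hr
      rw [Submodule.mem_annihilator_span_singleton] at hr
      rw [Ideal.mem_comap, Submodule.mem_annihilator_span_singleton, TensorProduct.smul_tmul',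
        smul_eq_mul, mul_one, Algebra.algebraMap_eq_smul_one, TensorProduct.smul_tmul, hr,
        TensorProduct.tmul_zero]
    · intro s hs
      rw [Submodule.mem_annihilator_span_singleton, TensorProduct.smul_tmul', smul_eq_mul,
        mul_one] at hs
      have h := lemmaA m s hs
      have hker : LinearMap.ker (LinearMap.toSpanSingleton R M m) =
          (Submodule.span R {m}).annihilator := by
        ext r
        rw [Submodule.mem_annihilator_span_singleton, LinearMap.mem_ker,
          LinearMap.toSpanSingleton_apply]
      rwa [hker] at h
  · intro hfin
    obtain ⟨k, g, hg⟩ := Module.Finite.exists_fin (R := R) (M := M)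
    apply le_antisymm
    · rw [Ideal.map_le_iff_le_comap]
      intro r hr
      rw [Ideal.mem_comap, Module.mem_annihilator]
      intro t
      induction t using TensorProduct.induction_on with
      | zero => simp
      | tmul s m =>
        rw [TensorProduct.smul_tmul', smul_eq_mul, ← Algebra.smul_def,
          TensorProduct.smul_tmul, (Module.mem_annihilator.mp hr m), TensorProduct.tmul_zero]
      | add a b ha hb => rw [smul_add, ha, hb, add_zero]
    · intro s hs
      rw [Module.mem_annihilator] at hs
      have h1 : ∀ i, s ⊗ₜ[R] g i = 0 := by
        intro i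
        have := hs ((1 : S) ⊗ₜ[R] g i)
        rwa [TensorProduct.smul_tmul', smul_eq_mul, mul_one] at this
      have h2 : s ⊗ₜ[R] (g : Fin k → M) = 0 := by
        have hv : (g : Fin k → M) = ∑ i, LinearMap.single R (fun _ : Fin k => M) i (g i) := by
          simp only [LinearMap.coe_single]
          exact (Finset.univ_sum_single g).symm
        rw [hv, TensorProduct.tmul_sum]
        apply Finset.sum_eq_zero
        intro i _
        have : s ⊗ₜ[R] (LinearMap.single R (fun _ : Fin k => M) i (g i)) =
            ((LinearMap.single R (fun _ : Fin k => M) i).lTensor S) (s ⊗ₜ[R] g i) := by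
          rw [LinearMap.lTensor_tmul]
        rw [this, h1, map_zero]
      have h3 := lemmaA (Q := Fin k → M) g s h2
      have hker : LinearMap.ker (LinearMap.toSpanSingleton R (Fin k → M) g) =
          Module.annihilator R M := by
        ext r
        rw [LinearMap.mem_ker, LinearMap.toSpanSingleton_apply, Module.mem_annihilator]
        constructor
        · intro h m
          have hm : m ∈ Submodule.span R (Set.range g) := by rw [hg]; trivial
          induction hm using Submodule.span_induction with
          | mem x hx => obtain ⟨i, rfl⟩ := hx; exact congrFun h i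
          | zero => simp
          | add x y _ _ hx hy => rw [smul_add, hx, hy, add_zero]
          | smul c x _ hx => rw [smul_comm, hx, smul_zero]
        · intro h
          funext i
          exact h (g i)
      rwa [hker] at h3

end Groth.Agent.S6283
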