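import Groth.Statements.S6297
import Mathlib
-- import your own Groth.Agent.* helpers here

set_option autoImplicit false
universe u
open CAlg

namespace Groth.Agent.S6297

theorem gen_case {R : Type u} [CommRing R] {n m : ℕ} (A : Matrix (Fin n) (Fin m) R)
    (g : Fin m → Fin n) (h : Fin m → Fin m) :
    ∃ B : Matrix (Fin m) (Fin n) R,
      B * A = (A.submatrix g h).det • (1 : Matrix (Fin m) (Fin m) R) := by
  classical
  by_cases hh : Function.Bijective h
  · let e : Equiv.Perm (Fin m) := Equiv.ofBijective h hh
    have hdet : (A.submatrix g h).det =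
        ((Equiv.Perm.sign e : ℤ) : R) * (A.submatrix g id).det := by
      have : A.submatrix g h = (A.submatrix g id).submatrix id e := by
        ext i j; rfl
      rw [this, Matrix.det_permute']
    have hPA : ((1 : Matrix (Fin n) (Fin n) R).submatrix g id) * A = A.submatrix g id := by
      have := Matrix.submatrix_mul (1 : Matrix (Fin n) (Fin n) R) A g id id
        Function.bijective_id
      rw [Matrix.one_mul, Matrix.submatrix_id_id] at this
      exact this.symm
    refine ⟨((Equiv.Perm.sign e : ℤ) : R) • (Matrix.adjugate (A.submatrix g id) *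
      (1 : Matrix (Fin n) (Fin n) R).submatrix g id), ?_⟩
    rw [Matrix.smul_mul, Matrix.mul_assoc, hPA, Matrix.adjugate_mul, hdet, smul_smul]
  · have hninj : ¬ Function.Injective h := fun hi => hh (Finite.injective_iff_bijective.mp hi)
    rw [Function.Injective] at hninj
    push Not at hninj
    obtain ⟨j, j', hjj, hne⟩ := hninj
    refine ⟨0, ?_⟩
    rw [Matrix.zero_mul, Matrix.det_zero_of_column_eq hne (fun k => ?_), zero_smul]
    show A (g k) (h j) = A (g k) (h j')
    rw [hjj]

theorem det_mul_expand {R : Type u} [CommRing R] {n m : ℕ} (B : Matrix (Fin m) (Fin n) R)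
    (A : Matrix (Fin n) (Fin m) R) :
    (B * A).det = ∑ r : Fin m → Fin n, (∏ i, B i (r i)) * (A.submatrix r id).det := by
  classical
  have hrows : (B * A) = fun i => ∑ k, B i k • A k := by
    funext i
    funext j
    simp [Matrix.mul_apply, Finset.sum_apply]
  have h1 : (B * A).det =
      (Matrix.detRowAlternating (R := R) (n := Fin m)).toMultilinearMap
        (fun i => ∑ k, B i k • A k) := by
    rw [Matrix.det, hrows]
    rfl
  rw [h1, MultilinearMap.map_sum]
  refine Finset.sum_congr rfl (fun r _ => ?_)
  rw [MultilinearMap.map_smul_univ, smul_eq_mul]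
  rfl

/-- Let R be a ring, m ≤ n, A an n × m matrix over R and J the ideal generated by the m × m minors of A.
(1) For every f ∈ J there is an m × n matrix B with BA = f · 1. (2) If BA = f · 1 for some m × n
matrix B, then f^m ∈ J. -/
theorem result {R : Type u} [CommRing R] {n m : ℕ} (hmn : m ≤ n) (A : Matrix (Fin n) (Fin m) R) : (∀ f ∈ CAlgX.minorIdeal A m, ∃ B : Matrix (Fin m) (Fin n) R, B * A = f • (1 : Matrix (Fin m) (Fin m) R)) ∧ (∀ (f : R) (B : Matrix (Fin m) (Fin n) R), B * A = f • (1 : Matrix (Fin m) (Fin m) R) → f ^ m ∈ CAlgX.minorIdeal A m) := by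
  constructor
  · intro f hf
    unfold CAlgX.minorIdeal at hf
    induction hf using Submodule.span_induction with
    | mem x hx =>
      obtain ⟨⟨g, h⟩, rfl⟩ := hx
      exact gen_case A g h
    | zero => exact ⟨0, by rw [Matrix.zero_mul, zero_smul]⟩
    | add x y _ _ hx hy =>
      obtain ⟨B₁, h₁⟩ := hx
      obtain ⟨B₂, h₂⟩ := hy
      exact ⟨B₁ + B₂, by rw [Matrix.add_mul, h₁, h₂, add_smul]⟩
    | smul c x _ hx =>
      obtain ⟨B₁, h₁⟩ := hx
      exact ⟨c • B₁, by rw [Matrix.smul_mul, h₁, smul_assoc]⟩
  · intro f B hBA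
    have h1 : (B * A).det = f ^ m := by
      rw [hBA, Matrix.det_smul, Matrix.det_one, mul_one, Fintype.card_fin]
    rw [← h1, det_mul_expand]
    apply Ideal.sum_mem
    intro r _
    apply Ideal.mul_mem_left
    exact Ideal.subset_span ⟨(r, id), rfl⟩

end Groth.Agent.S6297
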