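import Groth.Statements.S6285
import Mathlib
import Groth.Agent.S6297

set_option autoImplicit false
universe u
open CAlg

namespace Groth.Agent.S6285

theorem part1 {R : Type u} [CommRing R] {n m : ℕ} (A : Matrix (Fin n) (Fin m) R) :
    ∀ f ∈ CAlgX.minorIdeal A m, ∃ B : Matrix (Fin m) (Fin n) R,
      B * A = f • (1 : Matrix (Fin m) (Fin m) R) := by
  intro f hf
  unfold CAlgX.minorIdeal at hf
  induction hf using Submodule.span_induction with
  | mem x hx =>
    obtain ⟨⟨g, h⟩, rfl⟩ := hx
    exact Groth.Agent.S6297.gen_case A g h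
  | zero => exact ⟨0, by rw [Matrix.zero_mul, zero_smul]⟩
  | add x y _ _ hx hy =>
    obtain ⟨B₁, h₁⟩ := hx
    obtain ⟨B₂, h₂⟩ := hy
    exact ⟨B₁ + B₂, by rw [Matrix.add_mul, h₁, h₂, add_smul]⟩
  | smul c x _ hx =>
    obtain ⟨B₁, h₁⟩ := hx
    exact ⟨c • B₁, by rw [Matrix.smul_mul, h₁, smul_assoc]⟩

theorem part2 {R : Type u} [CommRing R] {n m : ℕ} (A : Matrix (Fin n) (Fin m) R) (f : R)
    (B : Matrix (Fin m) (Fin n) R) (hBA : B * A = f • (1 : Matrix (Fin m) (Fin m) R)) :
    f ^ m ∈ CAlgX.minorIdeal A m := by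
  have h1 : (B * A).det = f ^ m := by
    rw [hBA, Matrix.det_smul, Matrix.det_one, mul_one, Fintype.card_fin]
  rw [← h1, Groth.Agent.S6297.det_mul_expand]
  apply Ideal.sum_mem
  intro r _
  apply Ideal.mul_mem_left
  exact Ideal.subset_span ⟨(r, id), rfl⟩

/-- For a ring R and an R-module M of finite presentation, the support Supp(M) is closed in Spec(R), and
its complement in Spec(R) is quasi-compact. -/
theorem result (R : Type u) [CommRing R] (M : Type u) [AddCommGroup M] [Module R M] [Module.FinitePresentation R M] : IsClosed (Module.support R M) ∧ IsCompact (Module.support R M)ᶜ := by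
  classical
  refine ⟨Module.isClosed_support, ?_⟩
  obtain ⟨n, m, π, c, hπ, hc⟩ := Module.FinitePresentation.exists_fin' R M
  obtain ⟨A, hA⟩ : ∃ A : Matrix (Fin m) (Fin n) R,
      A = Matrix.of (fun k i => c (fun k' => if k = k' then 1 else 0) i) := ⟨_, rfl⟩
  have hcA : ∀ w : Fin m → R, c w = Matrix.vecMul w A := by
    intro w
    funext i
    rw [LinearMap.pi_apply_eq_sum_univ c w, hA]
    simp [Matrix.vecMul, dotProduct, Finset.sum_apply]
  obtain ⟨J, hJ⟩ : ∃ J : Ideal R, J = CAlgX.minorIdeal A n := ⟨_, rfl⟩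
  have hJfg : J.FG := by
    rw [hJ]
    unfold CAlgX.minorIdeal
    exact Submodule.fg_span (Set.finite_range _)
  have hJann : J ≤ Module.annihilator R M := by
    intro f hf
    rw [hJ] at hf
    obtain ⟨B, hB⟩ := part1 A f hf
    rw [Module.mem_annihilator]
    intro x
    obtain ⟨v, rfl⟩ := hπ x
    have : f • v = c (Matrix.vecMul v B) := by
      rw [hcA, Matrix.vecMul_vecMul, hB, Matrix.vecMul_smul, Matrix.vecMul_one]
    rw [← map_smul, this]
    exact hc.apply_apply_eq_zero _
  have hannJ : ∀ s ∈ Module.annihilator R M, s ^ n ∈ J := by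
    intro s hs
    rw [Module.mem_annihilator] at hs
    have hb : ∀ j : Fin n, ∃ b : Fin m → R,
        c b = s • (fun j' : Fin n => if j = j' then (1 : R) else 0) := by
      intro j
      have : π (s • (fun j' : Fin n => if j = j' then (1 : R) else 0)) = 0 := by
        rw [map_smul, hs]
      exact (hc _).mp this
    choose b hb using hb
    have hBA : (Matrix.of b) * A = s • (1 : Matrix (Fin n) (Fin n) R) := by
      ext j i
      have h1 : ((Matrix.of b) * A) j i = (Matrix.vecMul (b j) A) i := rfl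
      rw [h1, ← hcA, hb]
      simp [Matrix.one_apply]
    rw [hJ]
    exact part2 A s (Matrix.of b) hBA
  have hEq : (PrimeSpectrum.zeroLocus (J : Set R))ᶜ = (Module.support R M)ᶜ := by
    congr 1
    ext p
    rw [PrimeSpectrum.mem_zeroLocus, Module.mem_support_iff_of_finite, SetLike.coe_subset_coe]
    constructor
    · intro hJp s hs
      exact p.isPrime.mem_of_pow_mem n (hJp (hannJ s hs))
    · intro hann
      exact hJann.trans hann
  exact (PrimeSpectrum.isCompact_isOpen_iff_ideal.mpr ⟨J, hJfg, hEq⟩).1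

end Groth.Agent.S6285
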