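import Groth.Statements.S6286
import Mathlib
-- import your own Groth.Agent.* helpers here

set_option autoImplicit false
universe u
open scoped TensorProduct
open CAlg

namespace Groth.Agent.S6286

lemma fieldOf (k : Type u) [Field k] (A : Type u) [CommRing A] [Algebra k A] (q : Ideal A)
    [q.IsPrime] : ∃ (K : Type u) (_ : Field K) (_ : Algebra k K) (π : A →ₐ[k] K),
      ∀ x, π x = 0 ↔ x ∈ q := by
  let π₀ : A →+* FractionRing (A ⧸ q) :=
    (algebraMap (A ⧸ q) (FractionRing (A ⧸ q))).comp (Ideal.Quotient.mk q)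
  letI : Algebra k (FractionRing (A ⧸ q)) := (π₀.comp (algebraMap k A)).toAlgebra
  let π : A →ₐ[k] FractionRing (A ⧸ q) := { π₀ with commutes' := fun r => rfl }
  refine ⟨FractionRing (A ⧸ q), inferInstance, inferInstance, π, ?_⟩
  intro x
  show algebraMap (A ⧸ q) (FractionRing (A ⧸ q)) (Ideal.Quotient.mk q x) = 0 ↔ _
  rw [map_eq_zero_iff _ (IsFractionRing.injective (A ⧸ q) (FractionRing (A ⧸ q))),
    Ideal.Quotient.eq_zero_iff_mem]

lemma core (k : Type u) [Field k] (R S : Type u) [CommRing R] [Algebra k R] [CommRing S]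
    [Algebra k S] (S' : Subalgebra k S) (f : R ⊗[k] S') (K : Type u) [Field K] [Algebra k K]
    (π : R ⊗[k] S' →ₐ[k] K) (hf : π f ≠ 0) :
    ∃ q : PrimeSpectrum (R ⊗[k] S),
      Algebra.TensorProduct.map (AlgHom.id k R) S'.val f ∉ q.asIdeal ∧
      q.asIdeal.comap (algebraMap R (R ⊗[k] S)) =
        RingHom.ker ((π : R ⊗[k] S' →+* K).comp (algebraMap R (R ⊗[k] S'))) := by
  classical
  let ρ : R →ₐ[k] K := π.comp Algebra.TensorProduct.includeLeft
  let σ : S' →ₐ[k] K := π.comp Algebra.TensorProduct.includeRight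
  let α' : R ⊗[k] S' →ₐ[k] K ⊗[k] S' := Algebra.TensorProduct.map ρ (AlgHom.id k S')
  let μ : K ⊗[k] S' →ₐ[k] K := Algebra.TensorProduct.productMap (AlgHom.id k K) σ
  let β : K ⊗[k] S' →ₐ[k] K ⊗[k] S := Algebra.TensorProduct.map (AlgHom.id k K) S'.val
  let α : R ⊗[k] S →ₐ[k] K ⊗[k] S := Algebra.TensorProduct.map ρ (AlgHom.id k S)
  let ι : R ⊗[k] S' →ₐ[k] R ⊗[k] S := Algebra.TensorProduct.map (AlgHom.id k R) S'.val
  have h1 : ∀ x, μ (α' x) = π x := by
    intro x
    induction x using TensorProduct.induction_on with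
    | zero => simp
    | tmul r s =>
      simp only [α', μ, Algebra.TensorProduct.map_tmul,
        Algebra.TensorProduct.productMap_apply_tmul, AlgHom.coe_id, id_eq, ρ, σ,
        AlgHom.comp_apply, Algebra.TensorProduct.includeLeft_apply,
        Algebra.TensorProduct.includeRight_apply]
      rw [← map_mul, Algebra.TensorProduct.tmul_mul_tmul, mul_one, one_mul]
    | add x y hx hy => rw [map_add, map_add, map_add, hx, hy]
  have h2 : ∀ x, α (ι x) = β (α' x) := by
    intro x
    induction x using TensorProduct.induction_on with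
    | zero => simp
    | tmul r s => simp [α, ι, β, α']
    | add x y hx hy => rw [map_add, map_add, map_add, map_add, hx, hy]
  have hβ : Function.Injective β := by
    have hinj : Function.Injective (LinearMap.lTensor K S'.val.toLinearMap) :=
      Module.Flat.lTensor_preserves_injective_linearMap (M := K) S'.val.toLinearMap
        Subtype.val_injective
    have hβeq : ∀ x, β x = LinearMap.lTensor K S'.val.toLinearMap x := by
      intro x
      induction x using TensorProduct.induction_on with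
      | zero => simp
      | tmul a s => simp [β]
      | add x y hx hy => rw [map_add, map_add, hx, hy]
    intro x y hxy
    apply hinj
    rw [← hβeq, ← hβeq, hxy]
  have hnil : ¬ IsNilpotent (α (ι f)) := by
    rintro ⟨n, hn⟩
    rw [h2, ← map_pow] at hn
    have h0 : (α' f) ^ n = 0 := hβ (by rw [hn, map_zero])
    have h3 : (π f) ^ n = 0 := by
      rw [← h1, ← map_pow, h0, map_zero]
    exact hf (IsNilpotent.eq_zero ⟨n, h3⟩)
  have hmem : α (ι f) ∉ nilradical (K ⊗[k] S) := by
    rwa [mem_nilradical]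
  rw [nilradical_eq_sInf, Ideal.mem_sInf] at hmem
  push Not at hmem
  obtain ⟨Q, hQ, hfQ⟩ := hmem
  haveI hQ' : Q.IsPrime := hQ
  refine ⟨⟨Q.comap α.toRingHom, inferInstance⟩, ?_, ?_⟩
  · exact hfQ
  · ext x
    rw [Ideal.mem_comap, RingHom.mem_ker]
    show α (algebraMap R (R ⊗[k] S) x) ∈ Q ↔ π (algebraMap R (R ⊗[k] S') x) = 0
    have e1 : α (algebraMap R (R ⊗[k] S) x) = ρ x ⊗ₜ[k] (1 : S) := by
      rw [Algebra.TensorProduct.algebraMap_apply]
      simp [α]
    have e2 : π (algebraMap R (R ⊗[k] S') x) = ρ x := by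
      rw [Algebra.TensorProduct.algebraMap_apply]
      simp [ρ]
    rw [e1, e2]
    constructor
    · intro hx
      by_contra hne
      apply hQ'.ne_top
      rw [Ideal.eq_top_iff_one]
      have : (1 : K ⊗[k] S) = ((ρ x)⁻¹ ⊗ₜ[k] (1 : S)) * (ρ x ⊗ₜ[k] (1 : S)) := by
        rw [Algebra.TensorProduct.tmul_mul_tmul, inv_mul_cancel₀ hne, mul_one,
          Algebra.TensorProduct.one_def]
      rw [this]
      exact Q.mul_mem_left _ hx
    · intro hx
      rw [hx, TensorProduct.zero_tmul]
      exact Q.zero_mem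

/-- Let k be a field, R and S k-algebras, S' ⊆ S a k-subalgebra and f ∈ R ⊗ₖ S', with image f again in R
⊗ₖ S. Then the images in Spec(R) of Spec((R ⊗ₖ S)_f) and of Spec((R ⊗ₖ S')_f) coincide: a prime p of
R is the contraction of a prime of R ⊗ₖ S not containing f if and only if it is the contraction of a
prime of R ⊗ₖ S' not containing f. -/
theorem result (k : Type u) [Field k] (R S : Type u) [CommRing R] [Algebra k R] [CommRing S] [Algebra k S] (S' : Subalgebra k S) (f : R ⊗[k] S') (p : PrimeSpectrum R) : (∃ q : PrimeSpectrum (R ⊗[k] S), Algebra.TensorProduct.map (AlgHom.id k R) S'.val f ∉ q.asIdeal ∧ q.asIdeal.comap (algebraMap R (R ⊗[k] S)) = p.asIdeal) ↔ (∃ q' : PrimeSpectrum (R ⊗[k] S'), f ∉ q'.asIdeal ∧ q'.asIdeal.comap (algebraMap R (R ⊗[k] S')) = p.asIdeal) := by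
  constructor
  · rintro ⟨q, hfq, hq⟩
    refine ⟨⟨q.asIdeal.comap (Algebra.TensorProduct.map (AlgHom.id k R) S'.val).toRingHom,
      inferInstance⟩, ?_, ?_⟩
    · exact hfq
    · rw [← hq]
      ext x
      have : (Algebra.TensorProduct.map (AlgHom.id k R) S'.val)
          (algebraMap R (R ⊗[k] S') x) = algebraMap R (R ⊗[k] S) x := by
        rw [Algebra.TensorProduct.algebraMap_apply, Algebra.TensorProduct.algebraMap_apply]
        simp
      show (Algebra.TensorProduct.map (AlgHom.id k R) S'.val)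
          (algebraMap R (R ⊗[k] S') x) ∈ q.asIdeal ↔ algebraMap R (R ⊗[k] S) x ∈ q.asIdeal
      rw [this]
  · rintro ⟨q', hfq', hq'⟩
    obtain ⟨K, hK, hkK, π, hπ⟩ := fieldOf k (R ⊗[k] S') q'.asIdeal
    obtain ⟨q, h1, h2⟩ := core k R S S' f K π (fun h => hfq' ((hπ f).1 h))
    refine ⟨q, h1, ?_⟩
    rw [h2, ← hq']
    ext x
    rw [RingHom.mem_ker, Ideal.mem_comap]
    exact hπ _

end Groth.Agent.S6286
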