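import Groth.Statements.S6287
import Mathlib
-- import your own Groth.Agent.* helpers here

set_option autoImplicit false
universe u
open CAlg

namespace Groth.Agent.S6287

/-- Let (A_i) be a directed system of valuation rings. Then the colimit A = colim A_i is a valuation
ring (in particular a domain). -/
theorem result {ι : Type u} [Preorder ι] [Nonempty ι] [IsDirected ι (· ≤ ·)] (G : ι → Type u) [∀ i, CommRing (G i)] [∀ i, IsDomain (G i)] [∀ i, ValuationRing (G i)] (f : ∀ i j, i ≤ j → G i →+* G j) [DirectedSystem G fun i j h => f i j h] : ∃ _ : IsDomain (Ring.DirectLimit G fun i j h => f i j h), ValuationRing (Ring.DirectLimit G fun i j h => f i j h) := by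
  classical
  let o : ∀ i, G i →+* Ring.DirectLimit G (fun i j h => f i j h) :=
    fun i => Ring.DirectLimit.of G (fun i j h => f i j h) i
  have hof : ∀ i j (h : i ≤ j) (x : G i), o j (f i j h x) = o i x :=
    fun i j h x => Ring.DirectLimit.of_f h x
  have F1' : ∀ a b : Ring.DirectLimit G (fun i j h => f i j h),
      ∃ j, ∃ z w : G j, o j z = a ∧ o j w = b := by
    intro a b
    obtain ⟨j₁, z, hz⟩ := Ring.DirectLimit.exists_of a
    obtain ⟨j₂, w, hw⟩ := Ring.DirectLimit.exists_of b
    obtain ⟨k, hk₁, hk₂⟩ := exists_ge_ge j₁ j₂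
    exact ⟨k, f j₁ k hk₁ z, f j₂ k hk₂ w, by rw [hof]; exact hz, by rw [hof]; exact hw⟩
  have hnontriv : Nontrivial (Ring.DirectLimit G fun i j h => f i j h) := by
    refine ⟨⟨0, 1, fun h => ?_⟩⟩
    obtain ⟨j⟩ := ‹Nonempty ι›
    have h1 : o j 1 = 0 := by rw [map_one]; exact h.symm
    obtain ⟨k, hk, hk0⟩ := Ring.DirectLimit.of.zero_exact h1
    rw [map_one] at hk0
    exact one_ne_zero hk0
  have hnzd : NoZeroDivisors (Ring.DirectLimit G fun i j h => f i j h) := by
    refine ⟨fun {a b} hab => ?_⟩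
    obtain ⟨j, z, w, rfl, rfl⟩ := F1' a b
    have h1 : o j (z * w) = 0 := by rw [map_mul]; exact hab
    obtain ⟨k, hk, hk0⟩ := Ring.DirectLimit.of.zero_exact h1
    rw [map_mul] at hk0
    rcases mul_eq_zero.mp hk0 with h | h
    · left; rw [← hof j k hk z, h, map_zero]
    · right; rw [← hof j k hk w, h, map_zero]
  have hdom : IsDomain (Ring.DirectLimit G fun i j h => f i j h) := NoZeroDivisors.to_isDomain _
  refine ⟨hdom, @ValuationRing.mk _ _ hdom ⟨fun a b => ?_⟩⟩
  obtain ⟨j, z, w, rfl, rfl⟩ := F1' a b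
  obtain ⟨c, hc⟩ := ValuationRing.cond z w
  refine ⟨o j c, ?_⟩
  rcases hc with h | h
  · left; rw [← map_mul, h]
  · right; rw [← map_mul, h]

end Groth.Agent.S6287
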