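import Groth.Statements.S6288
import Mathlib
-- import your own Groth.Agent.* helpers here

set_option autoImplicit false
universe u
open CAlg

namespace Groth.Agent.S6288

/-- Let L/K be an algebraic extension of fields and B ⊆ L a valuation ring with fraction field L which
is not a field. Then A = K ∩ B is a valuation ring of K (automatic) which is again not a field, i.e.
A ≠ K. -/
theorem result (K L : Type u) [Field K] [Field L] [Algebra K L] [Algebra.IsAlgebraic K L] (B : ValuationSubring L) (hB : B ≠ ⊤) : B.comap (algebraMap K L) ≠ ⊤ := by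
  intro htop
  have hK : ∀ k : K, algebraMap K L k ∈ B := by
    intro k
    have : k ∈ B.comap (algebraMap K L) := by rw [htop]; trivial
    exact this
  have hex : ∃ x, x ∉ B := by
    by_contra hall
    push Not at hall
    apply hB
    rw [eq_top_iff]
    intro x _
    exact hall x
  obtain ⟨x, hx⟩ := hex
  have hx0 : x ≠ 0 := by rintro rfl; exact hx (zero_mem B)
  have hy : x⁻¹ ∈ B := (B.mem_or_inv_mem x).resolve_left hx
  have hy0 : x⁻¹ ≠ 0 := inv_ne_zero hx0
  have hint : IsIntegral K x⁻¹ := (Algebra.IsAlgebraic.isAlgebraic (R := K) x⁻¹).isIntegral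
  have hc0 : (minpoly K x⁻¹).coeff 0 ≠ 0 := minpoly.coeff_zero_ne_zero hint hy0
  have haev : ∀ q : Polynomial K, Polynomial.aeval x⁻¹ q ∈ B := by
    intro q
    rw [Polynomial.aeval_eq_sum_range]
    refine sum_mem (fun i _ => ?_)
    rw [Algebra.smul_def]
    exact mul_mem (hK _) (pow_mem hy i)
  have hsplit : Polynomial.aeval x⁻¹ (minpoly K x⁻¹) =
      Polynomial.aeval x⁻¹ (minpoly K x⁻¹).divX * x⁻¹ +
        algebraMap K L ((minpoly K x⁻¹).coeff 0) := by
    conv_lhs => rw [← Polynomial.divX_mul_X_add (minpoly K x⁻¹)]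
    simp
  rw [minpoly.aeval] at hsplit
  have hcL : algebraMap K L ((minpoly K x⁻¹).coeff 0) ≠ 0 := by
    intro h0
    exact hc0 ((map_eq_zero _).mp h0)
  have hb := haev (minpoly K x⁻¹).divX
  have hxeq : x = - Polynomial.aeval x⁻¹ (minpoly K x⁻¹).divX *
      algebraMap K L ((minpoly K x⁻¹).coeff 0)⁻¹ := by
    have h1 : algebraMap K L ((minpoly K x⁻¹).coeff 0) =
        - Polynomial.aeval x⁻¹ (minpoly K x⁻¹).divX * x⁻¹ := by
      linear_combination -hsplit
    rw [map_inv₀, eq_mul_inv_iff_mul_eq₀ hcL, h1]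
    field_simp
  apply hx
  rw [hxeq]
  exact mul_mem (neg_mem hb) (hK _)

end Groth.Agent.S6288
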