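import Groth.Statements.S6289
import Mathlib
-- import your own Groth.Agent.* helpers here

set_option autoImplicit false
universe u
open CAlg

namespace Groth.Agent.S6289

/-- Let A' be a valuation ring with residue field K and A ⊆ K a valuation ring with fraction field K.
Then the subring C of A' consisting of the elements whose residue class lies in A is a valuation
ring. -/
theorem result (A' : Type u) [CommRing A'] [IsDomain A'] [ValuationRing A'] (A : ValuationSubring (IsLocalRing.ResidueField A')) : ValuationRing (A.toSubring.comap (IsLocalRing.residue A')) := by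
  have key : ∀ a b : ↥(A.toSubring.comap (IsLocalRing.residue A')), ∀ c : A',
      (a : A') * c = (b : A') →
      ∃ c' : ↥(A.toSubring.comap (IsLocalRing.residue A')), a * c' = b ∨ b * c' = a := by
    intro a b c hc
    by_cases hcC : c ∈ A.toSubring.comap (IsLocalRing.residue A')
    · exact ⟨⟨c, hcC⟩, Or.inl (Subtype.ext hc)⟩
    · have hres : IsLocalRing.residue A' c ∉ A := hcC
      have hinv : (IsLocalRing.residue A' c)⁻¹ ∈ A := (A.mem_or_inv_mem _).resolve_left hres
      have hne : IsLocalRing.residue A' c ≠ 0 := by
        intro h0; rw [h0] at hres; exact hres (zero_mem A)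
      have hunit : IsUnit c := by
        by_contra hnu
        exact hne ((IsLocalRing.residue_eq_zero_iff c).mpr
          ((IsLocalRing.mem_maximalIdeal c).mpr hnu))
      obtain ⟨u, rfl⟩ := hunit
      have hres_inv : IsLocalRing.residue A' (↑u⁻¹ : A') =
          (IsLocalRing.residue A' (u : A'))⁻¹ := by
        apply eq_inv_of_mul_eq_one_left
        rw [← map_mul, Units.inv_mul, map_one]
      refine ⟨⟨(↑u⁻¹ : A'), ?_⟩, Or.inr (Subtype.ext ?_)⟩
      · show IsLocalRing.residue A' (↑u⁻¹ : A') ∈ A
        rw [hres_inv]; exact hinv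
      · show (b : A') * ↑u⁻¹ = a
        rw [← hc, mul_assoc, Units.mul_inv, mul_one]
  refine @ValuationRing.mk _ _ _ ⟨fun a b => ?_⟩
  obtain ⟨c, hc | hc⟩ := ValuationRing.cond (a : A') (b : A')
  · exact key a b c hc
  · obtain ⟨c', h | h⟩ := key b a c hc
    · exact ⟨c', Or.inr h⟩
    · exact ⟨c', Or.inl h⟩

end Groth.Agent.S6289
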