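import Groth.Statements.S6291
import Mathlib
-- import your own Groth.Agent.* helpers here

set_option autoImplicit false
universe u
open CAlg

namespace Groth.Agent.S6291

/-- Let R be a local ring with maximal ideal m and M an R-module of finite length. Then mⁿM = 0 for some
n. -/
theorem result {R : Type u} [CommRing R] [IsLocalRing R] (M : Type u) [AddCommGroup M] [Module R M] (hM : IsFiniteLength R M) : ∃ n : ℕ, (IsLocalRing.maximalIdeal R) ^ n • (⊤ : Submodule R M) = ⊥ := by
  induction hM with
  | of_subsingleton => exact ⟨0, Subsingleton.elim _ _⟩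
  | @of_simple_quotient M _ _ N hsimple hN ih =>
    obtain ⟨n, hn⟩ := ih
    refine ⟨n + 1, ?_⟩
    have h1 : IsLocalRing.maximalIdeal R • (⊤ : Submodule R M) ≤ N := by
      rw [Submodule.smul_le]
      intro r hr x _
      obtain ⟨I, hI, ⟨e⟩⟩ := isSimpleModule_iff_quot_maximal.mp hsimple
      have hIm : I = IsLocalRing.maximalIdeal R := IsLocalRing.eq_maximalIdeal hI
      subst hIm
      rw [← Submodule.Quotient.mk_eq_zero N]
      apply e.injective
      rw [map_zero, Submodule.Quotient.mk_smul, map_smul, Algebra.smul_def,
        Ideal.Quotient.algebraMap_eq, Ideal.Quotient.eq_zero_iff_mem.mpr hr, zero_mul]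
    have h3 : (IsLocalRing.maximalIdeal R) ^ n • N = ⊥ :=
      calc (IsLocalRing.maximalIdeal R) ^ n • N
          = (IsLocalRing.maximalIdeal R) ^ n • Submodule.map N.subtype ⊤ := by
            rw [Submodule.map_top, Submodule.range_subtype]
        _ = Submodule.map N.subtype ((IsLocalRing.maximalIdeal R) ^ n • ⊤) :=
            (Submodule.map_smul'' _ _ _).symm
        _ = ⊥ := by rw [hn, Submodule.map_bot]
    rw [eq_bot_iff, pow_succ, Submodule.mul_smul, ← h3]
    exact Submodule.smul_mono le_rfl h1

end Groth.Agent.S6291
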