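import Groth.Statements.S6292
import Mathlib
-- import your own Groth.Agent.* helpers here

set_option autoImplicit false
universe u
open CAlg

namespace Groth.Agent.S6292

theorem finiteLength_of_smul_top_eq_bot {R : Type u} [CommRing R] (m : Ideal R) [m.IsMaximal]
    (V : Type u) [AddCommGroup V] [Module R V] [Module.Finite R V]
    (h : m • (⊤ : Submodule R V) = ⊥) : IsFiniteLength R V := by
  have htors : Module.IsTorsionBySet R V (m : Set R) := by
    intro x a
    have : (a : R) • x ∈ m • (⊤ : Submodule R V) := Submodule.smul_mem_smul a.2 trivial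
    rw [h] at this
    exact (Submodule.mem_bot R).mp this
  letI : Module (R ⧸ m) V := htors.module
  haveI : IsScalarTower R (R ⧸ m) V := htors.isScalarTower
  letI : Field (R ⧸ m) := Ideal.Quotient.field m
  haveI : Module.Finite (R ⧸ m) V := Module.Finite.of_restrictScalars_finite R (R ⧸ m) V
  rw [← Module.length_ne_top_iff,
    Module.length_eq_of_surjective (R := R ⧸ m) (S := R) Ideal.Quotient.mk_surjective,
    Module.length_eq_finrank]
  exact ENat.coe_ne_top _

/-- Let R be a ring and m ⊆ R a finitely generated maximal ideal (for instance R Noetherian). If M is a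
finite R-module with mⁿM = 0 for some n, then M has finite length. -/
theorem result {R : Type u} [CommRing R] (m : Ideal R) [m.IsMaximal] (hm : m.FG) (M : Type u) [AddCommGroup M] [Module R M] [Module.Finite R M] (n : ℕ) (hn : m ^ n • (⊤ : Submodule R M) = ⊥) : IsFiniteLength R M := by
  induction n generalizing M with
  | zero =>
    rw [pow_zero, Ideal.one_eq_top, Submodule.top_smul] at hn
    haveI : Subsingleton M :=
      (Submodule.subsingleton_iff R).mp (subsingleton_of_bot_eq_top hn.symm)
    exact IsFiniteLength.of_subsingleton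
  | succ n ih =>
    obtain ⟨N, hNdef⟩ : ∃ N : Submodule R M, N = m ^ n • (⊤ : Submodule R M) := ⟨_, rfl⟩
    have hNfg : N.FG := by
      rw [hNdef]; exact Submodule.FG.smul (Ideal.FG.pow hm) Module.Finite.fg_top
    haveI : Module.Finite R N := Module.Finite.iff_fg.mpr hNfg
    have hmN : m • N = ⊥ := by rw [hNdef, ← Submodule.mul_smul, ← pow_succ', hn]
    have h1 : m • (⊤ : Submodule R N) = ⊥ := by
      apply Submodule.map_injective_of_injective N.injective_subtype
      rw [Submodule.map_smul'', Submodule.map_top, Submodule.range_subtype, hmN, Submodule.map_bot]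
    have hN := finiteLength_of_smul_top_eq_bot m N h1
    have h2 : m ^ n • (⊤ : Submodule R (M ⧸ N)) = ⊥ := by
      have : (⊤ : Submodule R (M ⧸ N)) = Submodule.map N.mkQ ⊤ := by
        rw [Submodule.map_top, Submodule.range_mkQ]
      rw [this, ← Submodule.map_smul'', ← hNdef, Submodule.mkQ_map_self]
    have hQ := ih (M ⧸ N) h2
    rw [← Module.length_ne_top_iff] at hN hQ ⊢
    rw [Module.length_eq_add_of_exact N.subtype N.mkQ N.injective_subtype
      (Submodule.mkQ_surjective N) (LinearMap.exact_subtype_mkQ N)]
    exact WithTop.add_ne_top.mpr ⟨hN, hQ⟩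

end Groth.Agent.S6292
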