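import Groth.Statements.S6294
import Mathlib
-- import your own Groth.Agent.* helpers here

set_option autoImplicit false
universe u
open CAlg

namespace Groth.Agent.S6294

/-- Let R be a ring with finitely many minimal primes q₁, …, q_t, and assume that the zerodivisors of R
are precisely the elements of q₁ ∪ … ∪ q_t. Then Q(R), the total ring of fractions of R, equals
R_{q₁} × … × R_{q_t}: the diagonal map R → ∏ R_{q_i} is a localization of R at its non-zerodivisors. -/
theorem result {R : Type u} [CommRing R] {ι : Type} [Fintype ι] (q : ι → Ideal R) [∀ i, (q i).IsPrime] (hinj : Function.Injective q) (hmin : ∀ P : Ideal R, P ∈ minimalPrimes R ↔ P ∈ Set.range q) (hzd : ∀ x : R, x ∈ nonZeroDivisors R ↔ ∀ i, x ∉ q i) : IsLocalization (nonZeroDivisors R) (∀ i, Localization.AtPrime (q i)) := by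
  classical
  have hminq : ∀ i, q i ∈ minimalPrimes R := fun i => (hmin (q i)).mpr ⟨i, rfl⟩
  have hnle : ∀ i j, i ≠ j → ¬ q j ≤ q i := by
    intro i j hij hle
    have : q i ≤ q j := (hminq i).2 ⟨(inferInstance : (q j).IsPrime), bot_le⟩ hle
    exact hij (hinj (le_antisymm this hle))
  have hw : ∀ i j, ∃ w : R, i ≠ j →
      (w ∉ q i ∧ w ∈ q j ∧ algebraMap R (Localization.AtPrime (q j)) w = 0) := by
    intro i j
    by_cases hij : i = j
    · exact ⟨0, fun h => absurd hij h⟩
    obtain ⟨u, huj, hui⟩ := SetLike.not_le_iff_exists.mp (hnle i j hij)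
    have hrad := IsLocalization.AtPrime.radical_map_of_mem_minimalPrimes
      (Localization.AtPrime (q j)) (q j) ⊥ (hminq j)
    have hmem : algebraMap R (Localization.AtPrime (q j)) u ∈
        ((⊥ : Ideal R).map (algebraMap R (Localization.AtPrime (q j)))).radical := by
      rw [hrad]; exact Ideal.mem_map_of_mem _ huj
    rw [Ideal.map_bot] at hmem
    obtain ⟨n, hn⟩ := hmem
    rw [Ideal.mem_bot] at hn
    refine ⟨u ^ (n + 1), fun _ => ⟨?_, ?_, ?_⟩⟩
    · intro h; exact hui ((inferInstance : (q i).IsPrime).mem_of_pow_mem _ h)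
    · rw [pow_succ]; exact Ideal.mul_mem_left _ _ huj
    · rw [map_pow, pow_succ, hn, zero_mul]
  choose w hw using hw
  obtain ⟨v, hvdef⟩ : ∃ v : ι → R, v = fun i => ∏ j ∈ Finset.univ.erase i, w i j := ⟨_, rfl⟩
  have hvi : ∀ i, v i ∉ q i := by
    intro i h
    rw [hvdef, Ideal.IsPrime.prod_mem_iff] at h
    obtain ⟨j, hj, hmem⟩ := h
    exact (hw i j (Finset.ne_of_mem_erase hj).symm).1 hmem
  have hv0 : ∀ i j, i ≠ j → algebraMap R (Localization.AtPrime (q j)) (v i) = 0 := by
    intro i j hij
    rw [hvdef, map_prod]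
    exact Finset.prod_eq_zero (Finset.mem_erase.mpr ⟨hij.symm, Finset.mem_univ j⟩)
      (hw i j hij).2.2
  have hvj : ∀ i j, i ≠ j → v i ∈ q j := by
    intro i j hij
    rw [hvdef]
    exact Ideal.mem_of_dvd _
      (Finset.dvd_prod_of_mem _ (Finset.mem_erase.mpr ⟨hij.symm, Finset.mem_univ j⟩))
      (hw i j hij).2.1
  rw [isLocalization_iff]
  refine ⟨?_, ?_, ?_⟩
  · rintro ⟨y, hy⟩
    rw [Pi.isUnit_iff]
    intro i
    exact IsLocalization.map_units (Localization.AtPrime (q i))
      (⟨y, (hzd y).mp hy i⟩ : (q i).primeCompl)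
  · intro z
    have hz : ∀ i, ∃ (a : R) (s : (q i).primeCompl),
        IsLocalization.mk' (Localization.AtPrime (q i)) a s = z i :=
      fun i => IsLocalization.exists_mk'_eq (q i).primeCompl (z i)
    choose a s hz using hz
    have hsnzd : (∑ i, (s i : R) * v i) ∈ nonZeroDivisors R := by
      rw [hzd]
      intro j hmem
      have hsplit : ∑ i, (s i : R) * v i =
          (s j : R) * v j + ∑ i ∈ Finset.univ.erase j, (s i : R) * v i := by
        exact (Finset.add_sum_erase Finset.univ (fun i => (s i : R) * v i)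
          (Finset.mem_univ j)).symm
      have hrest : ∑ i ∈ Finset.univ.erase j, (s i : R) * v i ∈ q j :=
        Ideal.sum_mem _ (fun i hi => Ideal.mul_mem_left _ _ (hvj i j (Finset.ne_of_mem_erase hi)))
      have hprod : (s j : R) * v j ∈ q j := by
        have := (q j).sub_mem hmem hrest
        rwa [hsplit, add_sub_cancel_right] at this
      rcases (inferInstance : (q j).IsPrime).mem_or_mem hprod with h | h
      · exact (s j).2 h
      · exact hvi j h
    refine ⟨(∑ i, a i * v i, ⟨∑ i, (s i : R) * v i, hsnzd⟩), ?_⟩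
    funext j
    have hsum : ∀ c : ι → R, algebraMap R (Localization.AtPrime (q j)) (∑ i, c i * v i) =
        algebraMap R _ (c j) * algebraMap R _ (v j) := by
      intro c
      rw [map_sum, Finset.sum_eq_single j]
      · rw [map_mul]
      · intro i _ hij
        rw [map_mul, hv0 i j hij, mul_zero]
      · intro h
        exact absurd (Finset.mem_univ j) h
    show z j * algebraMap R (Localization.AtPrime (q j)) (∑ i, (s i : R) * v i) =
      algebraMap R (Localization.AtPrime (q j)) (∑ i, a i * v i)
    rw [hsum (fun i => (s i : R)), hsum a, ← mul_assoc, ← hz j, IsLocalization.mk'_spec]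
  · intro x y hxy
    have hc : ∀ i, ∃ c : R, c ∉ q i ∧ c * x = c * y := by
      intro i
      have h1 : algebraMap R (Localization.AtPrime (q i)) x =
          algebraMap R (Localization.AtPrime (q i)) y := congrFun hxy i
      obtain ⟨c, hc⟩ := (IsLocalization.eq_iff_exists (q i).primeCompl _).mp h1
      exact ⟨c, c.2, hc⟩
    by_cases hne : Nonempty ι
    · obtain ⟨i₀⟩ := hne
      obtain ⟨J, hJdef⟩ : ∃ J : Ideal R, J = (Submodule.span R {x - y}).annihilator := ⟨_, rfl⟩
      have hJ : ∀ c, c ∈ J ↔ c * x = c * y := by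
        intro c
        rw [hJdef, Submodule.mem_annihilator_span_singleton, smul_eq_mul, mul_sub, sub_eq_zero]
      have hnot : ¬ ((J : Set R) ⊆ ⋃ i ∈ ((Finset.univ : Finset ι) : Set ι), (q i : Set R)) := by
        rw [Ideal.subset_union_prime i₀ i₀ (fun i _ _ _ => inferInstance)]
        rintro ⟨i, -, hle⟩
        obtain ⟨c, hcq, hc⟩ := hc i
        exact hcq (hle ((hJ c).mpr hc))
      obtain ⟨c, hcJ, hcn⟩ := Set.not_subset.mp hnot
      have hcnzd : c ∈ nonZeroDivisors R := by
        rw [hzd]
        intro i hi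
        apply hcn
        simp only [Set.mem_iUnion]
        exact ⟨i, by simp, hi⟩
      exact ⟨⟨c, hcnzd⟩, (hJ c).mp hcJ⟩
    · have h0 : (0 : R) ∈ nonZeroDivisors R := by
        rw [hzd]
        intro i
        exact absurd ⟨i⟩ hne
      exact ⟨⟨0, h0⟩, by simp⟩

end Groth.Agent.S6294
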