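import Groth.Statements.S6295
import Mathlib
-- import your own Groth.Agent.* helpers here

set_option autoImplicit false
universe u
open CAlg

namespace Groth.Agent.S6295

/-- Let R be a reduced ring. Then every localization R_p at a minimal prime p is a field and the map R →
∏_{p minimal} R_p is injective (so R is a subring of a product of fields); moreover the set of
zerodivisors of R is the union of the minimal primes. -/
theorem result (R : Type u) [CommRing R] [IsReduced R] : (∀ p : PrimeSpectrum R, p.asIdeal ∈ minimalPrimes R → IsField (Localization.AtPrime p.asIdeal)) ∧ Function.Injective (algebraMap R (∀ p : {p : PrimeSpectrum R // p.asIdeal ∈ minimalPrimes R}, Localization.AtPrime p.1.asIdeal)) ∧ (∀ x : R, x ∉ nonZeroDivisors R ↔ ∃ p ∈ minimalPrimes R, x ∈ p) := by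
  have hsInf : sInf (minimalPrimes R) = ⊥ := by
    rw [minimalPrimes, Ideal.sInf_minimalPrimes]
    exact nilradical_eq_zero R
  have hInf : ∀ y : R, (∀ p ∈ minimalPrimes R, y ∈ p) → y = 0 := by
    intro y hy
    have : y ∈ sInf (minimalPrimes R) := by
      rw [Ideal.mem_sInf]
      intro p hp
      exact hy p hp
    rw [hsInf] at this
    exact this
  refine ⟨fun p hp => ?_, ?_, fun x => ?_⟩
  · haveI := Ring.KrullDimLE.of_isLocalization p.asIdeal hp (Localization.AtPrime p.asIdeal)
    exact Ring.KrullDimLE.isField_of_isReduced
  · rw [injective_iff_map_eq_zero]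
    intro x hx
    apply hInf
    intro p hp
    have hp' : p.IsPrime := hp.1.1
    have hxp : algebraMap R (Localization.AtPrime p) x = 0 := by
      have := congrFun hx ⟨⟨p, hp'⟩, hp⟩
      simpa using this
    rw [IsLocalization.map_eq_zero_iff p.primeCompl] at hxp
    obtain ⟨s, hs⟩ := hxp
    exact (hp'.mem_or_mem (by rw [hs]; exact p.zero_mem : (s : R) * x ∈ p)).resolve_left s.2
  · constructor
    · intro hx
      rw [mem_nonZeroDivisors_iff_right] at hx
      push Not at hx
      obtain ⟨y, hyx, hy0⟩ := hx
      by_contra hcon
      push Not at hcon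
      apply hy0
      apply hInf
      intro p hp
      exact (hp.1.1.mem_or_mem (by rw [hyx]; exact p.zero_mem : y * x ∈ p)).resolve_right
        (hcon p hp)
    · rintro ⟨p, hp, hxp⟩
      exact notMem_nonZeroDivisors_of_mem_mem_minimalPrimes hxp hp

end Groth.Agent.S6295
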