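import Groth.Statements.S6298
import Mathlib
-- import your own Groth.Agent.* helpers here

set_option autoImplicit false
universe u
open CAlg

namespace Groth.Agent.S6298

/-- Let R be a ring, x ∈ R, I ⊆ R an ideal and p₁, …, p_r prime ideals such that for each i the coset x
+ I is not contained in p_i. Then there is y ∈ I with x + y ∉ p_i for all i. -/
theorem result {R : Type u} [CommRing R] (x : R) (I : Ideal R) {r : ℕ} (p : Fin r → Ideal R) [∀ i, (p i).IsPrime] (h : ∀ i, ∃ y ∈ I, x + y ∉ p i) : ∃ y ∈ I, ∀ i, x + y ∉ p i := by
  classical
  have key : ∀ s : Finset (Fin r), ∃ y ∈ I, ∀ i ∈ s, x + y ∉ p i := by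
    intro s
    induction s using Finset.strongInduction with
    | H s ih =>
      by_cases hs : s.Nonempty
      · obtain ⟨j, hjs, hjmin⟩ := s.exists_minimalFor p hs
        obtain ⟨y, hyI, hy⟩ := ih (s.erase j) (Finset.erase_ssubset hjs)
        by_cases hxy : x + y ∈ p j
        · have hIj : ¬ I ≤ p j := by
            intro hIle
            obtain ⟨y', hy'I, hy'⟩ := h j
            apply hy'
            have : x + y' = (x + y) + (y' - y) := by ring
            rw [this]
            exact (p j).add_mem hxy (hIle (I.sub_mem hy'I hyI))
          obtain ⟨Q, hQ⟩ : ∃ Q : Ideal R, Q = ∏ i ∈ s.erase j, p i := ⟨_, rfl⟩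
          have hpj : (p j).IsPrime := inferInstance
          have hQle : ∀ i ∈ s.erase j, Q ≤ p i := by
            intro i hi
            rw [hQ]
            exact Ideal.prod_le_inf.trans (Finset.inf_le hi)
          have hQj : ¬ Q ≤ p j := by
            intro h1
            rw [hQ] at h1
            obtain ⟨i, his, hile⟩ := (Ideal.IsPrime.prod_le hpj).mp h1
            have hi_s : i ∈ s := Finset.mem_of_mem_erase his
            have hji : p j ≤ p i := hjmin hi_s hile
            exact hy i his (hji hxy)
          have hprod : ¬ (I * Q) ≤ p j := by
            intro hle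
            rcases (Ideal.IsPrime.mul_le hpj).mp hle with h1 | h1
            · exact hIj h1
            · exact hQj h1
          obtain ⟨z, hz, hzj⟩ := SetLike.not_le_iff_exists.mp hprod
          have hle1 : I * Q ≤ I := Ideal.mul_le_left
          have hle2 : I * Q ≤ Q := Ideal.mul_le_right
          have hzI : z ∈ I := hle1 hz
          have hzp : ∀ i ∈ s.erase j, z ∈ p i := fun i hi => hQle i hi (hle2 hz)
          refine ⟨y + z, I.add_mem hyI hzI, fun i hi => ?_⟩
          by_cases hij : i = j
          · subst hij
            intro hmem
            apply hzj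
            have : z = (x + (y + z)) - (x + y) := by ring
            rw [this]
            exact (p i).sub_mem hmem hxy
          · have hi' : i ∈ s.erase j := Finset.mem_erase.mpr ⟨hij, hi⟩
            intro hmem
            apply hy i hi'
            have : x + y = (x + (y + z)) - z := by ring
            rw [this]
            exact (p i).sub_mem hmem (hzp i hi')
        · refine ⟨y, hyI, fun i hi => ?_⟩
          by_cases hij : i = j
          · subst hij; exact hxy
          · exact hy i (Finset.mem_erase.mpr ⟨hij, hi⟩)
      · rw [Finset.not_nonempty_iff_eq_empty] at hs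
        subst hs
        exact ⟨0, I.zero_mem, fun i hi => absurd hi (Finset.notMem_empty i)⟩
  obtain ⟨y, hyI, hy⟩ := key Finset.univ
  exact ⟨y, hyI, fun i => hy i (Finset.mem_univ i)⟩

end Groth.Agent.S6298
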