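import Groth.Statements.S6300
import Mathlib
-- import your own Groth.Agent.* helpers here

set_option autoImplicit false
universe u
open CAlg

namespace Groth.Agent.S6300

attribute [local instance] Polynomial.algebra

/-- Let R be a normal ring (every localization at a prime is an integrally closed domain). Then R[x] is
a normal ring. -/
theorem result (R : Type u) [CommRing R] (hR : EGA4.IsNormalRing R) : EGA4.IsNormalRing (Polynomial R) := by
  intro Q hQ
  obtain ⟨P, hPdef⟩ : ∃ P : Ideal R, P = Q.comap (Polynomial.C) := ⟨_, rfl⟩
  haveI hP : P.IsPrime := by rw [hPdef]; exact Ideal.comap_isPrime _ _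
  obtain ⟨hdom, hic⟩ := hR P
  haveI : IsLocalization (P.primeCompl.map Polynomial.C)
      (Polynomial (Localization.AtPrime P)) :=
    Polynomial.isLocalization P.primeCompl (Localization.AtPrime P)
  have hle : P.primeCompl.map (Polynomial.C : R →+* Polynomial R) ≤ Q.primeCompl := by
    rintro _ ⟨r, hr, rfl⟩
    intro hmem
    apply hr
    rw [hPdef]
    exact hmem
  letI : Algebra (Polynomial (Localization.AtPrime P)) (Localization.AtPrime Q) :=
    (IsLocalization.lift (M := P.primeCompl.map Polynomial.C)
      (g := algebraMap (Polynomial R) (Localization.AtPrime Q))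
      (fun y => IsLocalization.map_units _ (⟨y.1, hle y.2⟩ : Q.primeCompl))).toAlgebra
  haveI : IsScalarTower (Polynomial R) (Polynomial (Localization.AtPrime P))
      (Localization.AtPrime Q) :=
    IsScalarTower.of_algebraMap_eq (fun x => (IsLocalization.lift_eq _ x).symm)
  haveI : IsLocalization (Q.primeCompl.map
      (algebraMap (Polynomial R) (Polynomial (Localization.AtPrime P))))
      (Localization.AtPrime Q) :=
    IsLocalization.isLocalization_of_submonoid_le (Polynomial (Localization.AtPrime P))
      (Localization.AtPrime Q) (P.primeCompl.map Polynomial.C) Q.primeCompl hle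
  have hnz : Q.primeCompl.map
      (algebraMap (Polynomial R) (Polynomial (Localization.AtPrime P))) ≤
      nonZeroDivisors (Polynomial (Localization.AtPrime P)) := by
    rintro _ ⟨p, hp, rfl⟩
    apply mem_nonZeroDivisors_of_ne_zero
    intro h0
    have hunit : IsUnit (algebraMap (Polynomial R) (Localization.AtPrime Q) p) :=
      IsLocalization.map_units _ (⟨p, hp⟩ : Q.primeCompl)
    rw [IsScalarTower.algebraMap_apply (Polynomial R) (Polynomial (Localization.AtPrime P))
      (Localization.AtPrime Q), h0, map_zero] at hunit
    exact not_isUnit_zero hunit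
  exact ⟨IsLocalization.isDomain_of_le_nonZeroDivisors _ hnz,
    isIntegrallyClosed_of_isLocalization _ _ hnz⟩

end Groth.Agent.S6300
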