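import Groth.Statements.S6301
import Mathlib
-- import your own Groth.Agent.* helpers here

set_option autoImplicit false
universe u
open CAlg

namespace Groth.Agent.S6301

/-- An R-module M is flat exactly when, for every finitely presented R-module P and every surjective
R-module map N → M, the induced map Hom_R(P, N) → Hom_R(P, M) is surjective (modules P, N taken in
the same universe). -/
theorem result {R : Type u} [CommRing R] (M : Type u) [AddCommGroup M] [Module R M] : Module.Flat R M ↔ ∀ (P : Type u) [AddCommGroup P] [Module R P], Module.FinitePresentation R P → ∀ (N : Type u) [AddCommGroup N] [Module R N] (g : N →ₗ[R] M), Function.Surjective g → ∀ h : P →ₗ[R] M, ∃ h' : P →ₗ[R] N, g.comp h' = h := by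
  constructor
  · intro hM P _ _ hP N _ _ g hg h
    obtain ⟨k, h₂, h₃, hh⟩ := Module.Flat.exists_factorization_of_finitePresentation h
    obtain ⟨l, hl⟩ := Module.projective_lifting_property g h₃ hg
    exact ⟨l ∘ₗ h₂, by rw [← LinearMap.comp_assoc, hl, hh]⟩
  · intro H
    apply Module.Flat.of_forall_exists_factorization
    intro l f x hxf
    classical
    obtain ⟨K, hKdef⟩ : ∃ K : Submodule R (Fin l →₀ R), K = Submodule.span R {f} := ⟨_, rfl⟩
    have hKx : K ≤ LinearMap.ker x := by
      rw [hKdef, Submodule.span_le]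
      intro v hv
      rw [Set.mem_singleton_iff] at hv
      subst hv
      exact hxf
    have hP : Module.FinitePresentation R ((Fin l →₀ R) ⧸ K) := by
      apply Module.finitePresentation_of_free_of_surjective K.mkQ (Submodule.mkQ_surjective K)
      rw [Submodule.ker_mkQ, hKdef]
      exact Submodule.fg_span_singleton f
    have hg : Function.Surjective (Finsupp.linearCombination R (id : M → M)) :=
      Finsupp.linearCombination_id_surjective R M
    obtain ⟨h', hh'⟩ := H ((Fin l →₀ R) ⧸ K) hP (M →₀ R)
      (Finsupp.linearCombination R (id : M → M)) hg (K.liftQ x hKx)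
    obtain ⟨x', hx'def⟩ : ∃ x' : (Fin l →₀ R) →ₗ[R] (M →₀ R), x' = h' ∘ₗ K.mkQ := ⟨_, rfl⟩
    have hx'f : x' f = 0 := by
      rw [hx'def, LinearMap.comp_apply]
      have : K.mkQ f = 0 := by
        rw [Submodule.mkQ_apply, Submodule.Quotient.mk_eq_zero, hKdef]
        exact Submodule.mem_span_singleton_self f
      rw [this, map_zero]
    have hgx' : (Finsupp.linearCombination R (id : M → M)) ∘ₗ x' = x := by
      rw [hx'def, ← LinearMap.comp_assoc, hh', Submodule.liftQ_mkQ]
    obtain ⟨T, hTdef⟩ : ∃ T : Finset M,
        T = Finset.univ.biUnion (fun i : Fin l => (x' (Finsupp.single i 1)).support) := ⟨_, rfl⟩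
    have hle : LinearMap.range x' ≤ Finsupp.supported R R (T : Set M) := by
      rw [LinearMap.range_eq_map, ← (Finsupp.basisSingleOne (R := R) (ι := Fin l)).span_eq,
        Submodule.map_span, Submodule.span_le]
      rintro _ ⟨_, ⟨i, rfl⟩, rfl⟩
      rw [SetLike.mem_coe, Finsupp.mem_supported, Finsupp.coe_basisSingleOne]
      intro m hm
      rw [hTdef]
      exact Finset.mem_coe.mpr (Finset.mem_biUnion.mpr ⟨i, Finset.mem_univ i, hm⟩)
    let x'' : (Fin l →₀ R) →ₗ[R] Finsupp.supported R R (T : Set M) :=
      x'.codRestrict _ (fun v => hle (LinearMap.mem_range_self x' v))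
    let e : Finsupp.supported R R (T : Set M) ≃ₗ[R] ((T : Set M) →₀ R) :=
      Finsupp.supportedEquivFinsupp (T : Set M)
    let e' : ((T : Set M) →₀ R) ≃ₗ[R] (Fin (Fintype.card (T : Set M)) →₀ R) :=
      Finsupp.domLCongr (Fintype.equivFin (T : Set M))
    refine ⟨_, (e'.toLinearMap ∘ₗ e.toLinearMap ∘ₗ x''),
      ((Finsupp.linearCombination R (id : M → M)) ∘ₗ
        (Submodule.subtype _) ∘ₗ e.symm.toLinearMap ∘ₗ e'.symm.toLinearMap), ?_, ?_⟩
    · rw [← hgx']
      apply LinearMap.ext
      intro v
      simp only [LinearMap.comp_apply, LinearEquiv.coe_coe, LinearEquiv.symm_apply_apply]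
      rfl
    · have : x'' f = 0 := by
        apply Subtype.ext
        exact hx'f
      simp only [LinearMap.comp_apply, this, map_zero]

end Groth.Agent.S6301
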