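import Groth.Statements.S6303
import Mathlib
-- import your own Groth.Agent.* helpers here

set_option autoImplicit false
universe u
open CAlg

open scoped TensorProduct

namespace Groth.Agent.S6303

/-- Let R be a ring, I, J ⊆ R ideals and M a flat R-module. Then IM ∩ JM = (I ∩ J)M. -/
theorem result {R : Type u} [CommRing R] (I J : Ideal R) (M : Type u) [AddCommGroup M] [Module R M] [Module.Flat R M] : (I • (⊤ : Submodule R M)) ⊓ (J • ⊤) = (I ⊓ J) • (⊤ : Submodule R M) := by
  apply le_antisymm
  · rintro x ⟨hxI, hxJ⟩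
    let ι : ↥(I ⊓ J) →ₗ[R] ↥I := Submodule.inclusion inf_le_left
    let ψ : ↥I →ₗ[R] R ⧸ J := (Ideal.Quotient.mkₐ R J).toLinearMap ∘ₗ I.subtype
    have hexact : Function.Exact ι ψ := by
      intro y
      constructor
      · intro hy
        have hyJ : (y : R) ∈ J := Ideal.Quotient.eq_zero_iff_mem.mp hy
        exact ⟨⟨y, ⟨y.2, hyJ⟩⟩, rfl⟩
      · rintro ⟨z, rfl⟩
        exact Ideal.Quotient.eq_zero_iff_mem.mpr z.2.2
    have hex := Module.Flat.rTensor_exact M hexact
    let μ : ↥I ⊗[R] M →ₗ[R] M := TensorProduct.lift ((LinearMap.lsmul R M) ∘ₗ I.subtype)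
    have hμ : ∀ x ∈ I • (⊤ : Submodule R M), ∃ t, μ t = x := by
      intro x hx
      refine Submodule.smul_induction_on hx (fun r hr n _ => ⟨(⟨r, hr⟩ : I) ⊗ₜ n, ?_⟩)
        (fun a b ⟨s, hs⟩ ⟨t, ht⟩ => ⟨s + t, by rw [map_add, hs, ht]⟩)
      simp [μ]
    have hrange : ∀ s : ↥(I ⊓ J) ⊗[R] M, μ (ι.rTensor M s) ∈ (I ⊓ J) • (⊤ : Submodule R M) := by
      intro s
      induction s using TensorProduct.induction_on with
      | zero => simp
      | tmul k m =>
        rw [LinearMap.rTensor_tmul]
        simp only [μ, TensorProduct.lift.tmul, LinearMap.comp_apply, LinearMap.lsmul_apply]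
        exact Submodule.smul_mem_smul k.2 trivial
      | add a b ha hb => rw [map_add, map_add]; exact Submodule.add_mem _ ha hb
    have hcomp : ∀ t : ↥I ⊗[R] M, TensorProduct.quotTensorEquivQuotSMul M J ((ψ.rTensor M) t) =
        Submodule.Quotient.mk (μ t) := by
      intro t
      induction t using TensorProduct.induction_on with
      | zero => simp
      | tmul i m =>
        rw [LinearMap.rTensor_tmul]
        show TensorProduct.quotTensorEquivQuotSMul M J ((Ideal.Quotient.mk J (i : R)) ⊗ₜ m) = _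
        rw [TensorProduct.quotTensorEquivQuotSMul_mk_tmul]
        simp [μ]
      | add a b ha hb => rw [map_add, map_add, ha, hb, map_add]; rfl
    obtain ⟨t, rfl⟩ := hμ x hxI
    have h0 : (ψ.rTensor M) t = 0 := by
      apply (TensorProduct.quotTensorEquivQuotSMul M J).injective
      rw [hcomp, map_zero, Submodule.Quotient.mk_eq_zero]
      exact hxJ
    obtain ⟨s, rfl⟩ := (hex t).mp h0
    exact hrange s
  · exact le_inf (Submodule.smul_mono inf_le_left le_rfl) (Submodule.smul_mono inf_le_right le_rfl)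

end Groth.Agent.S6303
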