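import Groth.Statements.S6304
import Mathlib
import Groth.Agent.S6267

set_option autoImplicit false
universe u
open CAlg

open scoped TensorProduct

namespace Groth.Agent.S6304

/-- In a short exact sequence 0 → M' → M → M'' → 0 of R-modules whose right-hand term M'' is flat, the
middle term M is flat when M' is, and M' is flat when M is. -/
theorem result {R : Type u} [CommRing R] {M' M M'' : Type u} [AddCommGroup M'] [Module R M'] [AddCommGroup M] [Module R M] [AddCommGroup M''] [Module R M''] (f : M' →ₗ[R] M) (g : M →ₗ[R] M'') (hf : Function.Injective f) (hexact : Function.Exact f g) (hg : Function.Surjective g) [Module.Flat R M''] : (Module.Flat R M' → Module.Flat R M) ∧ (Module.Flat R M → Module.Flat R M') := by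
  have hfQ : ∀ (Q : Type u) [AddCommGroup Q] [Module R Q], Function.Injective (f.rTensor Q) := by
    intro Q _ _
    have hπ' := Finsupp.linearCombination_id_surjective R Q
    have hιπ : Function.Exact (LinearMap.ker (Finsupp.linearCombination R (id : Q → Q))).subtype
        (Finsupp.linearCombination R (id : Q → Q)) := by
      rw [LinearMap.exact_iff]; simp
    exact Groth.Agent.S6267.chase
      (N := ↥(LinearMap.ker (Finsupp.linearCombination R (id : Q → Q)))) f g hexact hg _ _ hιπ hπ'
      (Module.Flat.rTensor_preserves_injective_linearMap f hf)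
      (Module.Flat.lTensor_preserves_injective_linearMap _ (Submodule.injective_subtype _))
  have hsq : ∀ {N' N : Type u} [AddCommGroup N'] [Module R N'] [AddCommGroup N] [Module R N]
      (ι : N' →ₗ[R] N) (x : M' ⊗[R] N'),
      (f.rTensor N) ((ι.lTensor M') x) = (ι.lTensor M) ((f.rTensor N') x) := by
    intro N' N _ _ _ _ ι x
    rw [← LinearMap.comp_apply, ← LinearMap.comp_apply, LinearMap.rTensor_comp_lTensor,
      LinearMap.lTensor_comp_rTensor]
  have hsq' : ∀ {N' N : Type u} [AddCommGroup N'] [Module R N'] [AddCommGroup N] [Module R N]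
      (ι : N' →ₗ[R] N) (x : M ⊗[R] N'),
      (g.rTensor N) ((ι.lTensor M) x) = (ι.lTensor M'') ((g.rTensor N') x) := by
    intro N' N _ _ _ _ ι x
    rw [← LinearMap.comp_apply, ← LinearMap.comp_apply, LinearMap.rTensor_comp_lTensor,
      LinearMap.lTensor_comp_rTensor]
  constructor
  · intro hM'
    rw [Module.Flat.iff_lTensor_preserves_injective_linearMap]
    intro N' N _ _ _ _ ι hι
    rw [injective_iff_map_eq_zero]
    intro x hx
    have h1 : (g.rTensor N') x = 0 := by
      apply Module.Flat.lTensor_preserves_injective_linearMap (M := M'') ι hι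
      rw [map_zero, ← hsq' ι x, hx, map_zero]
    obtain ⟨y, rfl⟩ := (rTensor_exact N' hexact hg x).mp h1
    have h2 : (ι.lTensor M') y = 0 := by
      apply hfQ N
      rw [map_zero, hsq ι y, hx]
    have h3 : y = 0 := by
      apply Module.Flat.lTensor_preserves_injective_linearMap (M := M') ι hι
      rw [h2, map_zero]
    rw [h3, map_zero]
  · intro hM
    rw [Module.Flat.iff_lTensor_preserves_injective_linearMap]
    intro N' N _ _ _ _ ι hι
    rw [injective_iff_map_eq_zero]
    intro x hx
    apply hfQ N'
    apply Module.Flat.lTensor_preserves_injective_linearMap (M := M) ι hι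
    rw [map_zero, map_zero, ← hsq ι x, hx, map_zero]

end Groth.Agent.S6304
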