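import Groth.Statements.S6305
import Mathlib
import Groth.Agent.S6267
import Groth.Agent.S6269

set_option autoImplicit false
universe u
open CAlg

namespace Groth.Agent.S6305

/-- An R-module M is flat exactly when every short exact sequence 0 → M₁ → M₂ → M → 0 of R-modules is
universally exact, i.e. its first map M₁ → M₂ is universally injective. -/
theorem result {R : Type u} [CommRing R] (M : Type u) [AddCommGroup M] [Module R M] : Module.Flat R M ↔ ∀ (M₁ M₂ : Type u) [AddCommGroup M₁] [Module R M₁] [AddCommGroup M₂] [Module R M₂] (f : M₁ →ₗ[R] M₂) (g : M₂ →ₗ[R] M), Function.Injective f → Function.Exact f g → Function.Surjective g → CAlgX.UniversallyInjective R f := by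
  constructor
  · intro hM M₁ M₂ _ _ _ _ f g hf hexact hg Q _ _
    have hπ' : Function.Surjective (Finsupp.linearCombination R (id : Q → Q)) :=
      Finsupp.linearCombination_id_surjective R Q
    have hιπ : Function.Exact (LinearMap.ker (Finsupp.linearCombination R (id : Q → Q))).subtype
        (Finsupp.linearCombination R (id : Q → Q)) := by
      rw [LinearMap.exact_iff]; simp
    exact Groth.Agent.S6267.chase
      (N := ↥(LinearMap.ker (Finsupp.linearCombination R (id : Q → Q)))) f g hexact hg _ _ hιπ hπ'
      (Module.Flat.rTensor_preserves_injective_linearMap f hf)
      (Module.Flat.lTensor_preserves_injective_linearMap _ (Submodule.injective_subtype _))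
  · intro h
    have hπ := Finsupp.linearCombination_id_surjective R M
    have hex : Function.Exact (LinearMap.ker (Finsupp.linearCombination R (id : M → M))).subtype
        (Finsupp.linearCombination R (id : M → M)) := by
      rw [LinearMap.exact_iff]; simp
    exact (Groth.Agent.S6269.result _ _ hex hπ
      (h _ _ _ _ (Submodule.injective_subtype _) hex hπ)).2

end Groth.Agent.S6305
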