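import Groth.Statements.S6308
import Mathlib
-- import your own Groth.Agent.* helpers here

set_option autoImplicit false
universe u
open scoped TensorProduct
open CAlg

open scoped TensorProduct

namespace Groth.Agent.S6308

/-- Let R be a ring and φ : M → N a map of R-modules with N finite. For a prime p, the localization φ_p
: M_p → N_p is surjective if and only if φ ⊗ κ(p) : M ⊗ κ(p) → N ⊗ κ(p) is surjective; the set U of
such primes is open in Spec(R); and for every f ∈ R with D(f) ⊆ U the map M_f → N_f is surjective. -/
theorem result {R : Type u} [CommRing R] {M N : Type u} [AddCommGroup M] [Module R M] [AddCommGroup N] [Module R N] [Module.Finite R N] (φ : M →ₗ[R] N) : (∀ p : PrimeSpectrum R, Function.Surjective (LocalizedModule.map p.asIdeal.primeCompl φ) ↔ Function.Surjective (φ.lTensor p.asIdeal.ResidueField)) ∧ IsOpen {p : PrimeSpectrum R | Function.Surjective (LocalizedModule.map p.asIdeal.primeCompl φ)} ∧ (∀ f : R, (↑(PrimeSpectrum.basicOpen f) : Set (PrimeSpectrum R)) ⊆ {p : PrimeSpectrum R | Function.Surjective (LocalizedModule.map p.asIdeal.primeCompl φ)} → Function.Surjective (LocalizedModule.map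 (Submonoid.powers f) φ)) := by
  classical
  have hU : ∀ p : PrimeSpectrum R,
      Function.Surjective (LocalizedModule.map p.asIdeal.primeCompl φ) ↔
        p ∉ Module.support R (N ⧸ LinearMap.range φ) := by
    intro p
    rw [LinearMap.localizedMap_surjective_iff_subsingleton_localized_coker,
      Module.mem_support_iff, not_nontrivial_iff_subsingleton]
  have hκ : ∀ p : PrimeSpectrum R,
      Function.Surjective (φ.lTensor p.asIdeal.ResidueField) ↔
        p ∉ Module.support R (N ⧸ LinearMap.range φ) := by
    intro p
    rw [Module.mem_support_iff_nontrivial_residueField_tensorProduct,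
      not_nontrivial_iff_subsingleton]
    have hsurj : Function.Surjective (LinearMap.range φ).mkQ := Submodule.mkQ_surjective _
    have hexact : Function.Exact φ (LinearMap.range φ).mkQ := LinearMap.exact_map_mkQ_range φ
    have hex := lTensor_exact p.asIdeal.ResidueField hexact hsurj
    have hsurj' := LinearMap.lTensor_surjective p.asIdeal.ResidueField hsurj
    constructor
    · intro h
      refine ⟨fun a b => ?_⟩
      have h0 : ∀ c, c = (0 : p.asIdeal.ResidueField ⊗[R] (N ⧸ LinearMap.range φ)) := by
        intro c
        obtain ⟨n', rfl⟩ := hsurj' c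
        obtain ⟨m', rfl⟩ := h n'
        exact hex.apply_apply_eq_zero m'
      rw [h0 a, h0 b]
    · intro h n'
      exact (hex n').mp (Subsingleton.elim _ _)
  refine ⟨fun p => (hU p).trans (hκ p).symm, ?_, fun f hf => ?_⟩
  · have : {p : PrimeSpectrum R |
        Function.Surjective (LocalizedModule.map p.asIdeal.primeCompl φ)} =
        (Module.support R (N ⧸ LinearMap.range φ))ᶜ := Set.ext (fun p => hU p)
    rw [this]
    exact Module.isClosed_support.isOpen_compl
  · rw [LinearMap.localizedMap_surjective_iff_subsingleton_localized_coker]
    exact LocalizedModule.subsingleton_iff_disjoint.mpr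
      (Set.disjoint_left.mpr (fun p hpf hps => (hU p).mp (hf hpf) hps))

end Groth.Agent.S6308
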