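import Groth.Statements.S6309
import Mathlib
-- import your own Groth.Agent.* helpers here

set_option autoImplicit false
universe u
open scoped TensorProduct
open CAlg

namespace Groth.Agent.S6309

section helpers

variable {R : Type u} [CommRing R] {P₁ P₂ : Type u} [AddCommGroup P₁] [Module R P₁]
  [AddCommGroup P₂] [Module R P₂]

/-- The ideal of scalars `g` such that `g • id` factors through `φ` on the left. -/
def J (φ : P₁ →ₗ[R] P₂) : Ideal R where
  carrier := {g | ∃ ψ : P₂ →ₗ[R] P₁, ψ ∘ₗ φ = g • LinearMap.id}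
  add_mem' := by
    rintro a b ⟨ψa, ha⟩ ⟨ψb, hb⟩
    exact ⟨ψa + ψb, by rw [LinearMap.add_comp, ha, hb, add_smul]⟩
  zero_mem' := ⟨0, by rw [LinearMap.zero_comp, zero_smul]⟩
  smul_mem' := by
    rintro c a ⟨ψ, h⟩
    exact ⟨c • ψ, by rw [LinearMap.smul_comp, h, smul_smul, smul_eq_mul]⟩

lemma inj_of_mem (φ : P₁ →ₗ[R] P₂) (p : PrimeSpectrum R) {g : R} (hg : g ∈ J φ)
    (hgp : g ∉ p.asIdeal) : Function.Injective (φ.lTensor p.asIdeal.ResidueField) := by
  obtain ⟨ψ, hψ⟩ := hg
  have hcomp : ∀ z, (ψ.lTensor p.asIdeal.ResidueField)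
      ((φ.lTensor p.asIdeal.ResidueField) z) = g • z := by
    intro z
    rw [← LinearMap.comp_apply, ← LinearMap.lTensor_comp, hψ, LinearMap.lTensor_smul,
      LinearMap.lTensor_id]
    rfl
  have hne : algebraMap R p.asIdeal.ResidueField g ≠ 0 := by
    rw [Ne, Ideal.algebraMap_residueField_eq_zero]
    exact hgp
  intro z z' hzz'
  have h1 : g • z = g • z' := by rw [← hcomp, ← hcomp, hzz']
  have h2 : ∀ w : p.asIdeal.ResidueField ⊗[R] P₁,
      (algebraMap R p.asIdeal.ResidueField g)⁻¹ • (g • w) = w := by
    intro w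
    rw [← algebraMap_smul p.asIdeal.ResidueField g w, smul_smul, inv_mul_cancel₀ hne, one_smul]
  rw [← h2 z, ← h2 z', h1]

lemma lTensor_inj_of_baseChange {R A K : Type*} [CommRing R] [CommRing A] [CommRing K]
    [Algebra R A] [Algebra A K] [Algebra R K] [IsScalarTower R A K]
    {P₁ P₂ M₁ M₂ : Type*} [AddCommGroup P₁] [AddCommGroup P₂] [AddCommGroup M₁]
    [AddCommGroup M₂] [Module R P₁] [Module R P₂] [Module R M₁] [Module R M₂] [Module A M₁]
    [Module A M₂] [IsScalarTower R A M₁] [IsScalarTower R A M₂]
    (f₁ : P₁ →ₗ[R] M₁) (f₂ : P₂ →ₗ[R] M₂) (h₁ : IsBaseChange A f₁) (h₂ : IsBaseChange A f₂)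
    (φ : P₁ →ₗ[R] P₂) (φ' : M₁ →ₗ[A] M₂) (hφ : ∀ m, φ' (f₁ m) = f₂ (φ m))
    (hinj : Function.Injective (φ.lTensor K)) : Function.Injective (φ'.lTensor K) := by
  have hc₁ := h₁.comp (TensorProduct.isBaseChange A M₁ K)
  have hc₂ := h₂.comp (TensorProduct.isBaseChange A M₂ K)
  have hnat : ∀ z, (φ'.lTensor K) (hc₁.equiv z) = hc₂.equiv ((φ.lTensor K) z) := by
    intro z
    induction z using TensorProduct.induction_on with
    | zero => simp
    | tmul s m =>
      rw [LinearMap.lTensor_tmul, IsBaseChange.equiv_tmul, IsBaseChange.equiv_tmul]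
      simp only [LinearMap.coe_comp, LinearMap.coe_restrictScalars, Function.comp_apply,
        TensorProduct.mk_apply]
      rw [TensorProduct.smul_tmul', TensorProduct.smul_tmul', smul_eq_mul, mul_one,
        LinearMap.lTensor_tmul, hφ]
    | add x y hx hy => rw [map_add, map_add, map_add, map_add, hx, hy]
  intro w w' hww'
  obtain ⟨z, rfl⟩ := hc₁.equiv.surjective w
  obtain ⟨z', rfl⟩ := hc₁.equiv.surjective w'
  rw [hnat, hnat] at hww'
  have := hinj (hc₂.equiv.injective hww')
  rw [this]

lemma exists_mem_of_inj [Module.Finite R P₁] [Module.Finite R P₂] [Module.Projective R P₂]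
    (φ : P₁ →ₗ[R] P₂) (p : PrimeSpectrum R)
    (hinj : Function.Injective (φ.lTensor p.asIdeal.ResidueField)) :
    ∃ g ∈ J φ, g ∉ p.asIdeal := by
  classical
  haveI : Module.Free (Localization.AtPrime p.asIdeal)
      (LocalizedModule p.asIdeal.primeCompl P₂) := Module.free_of_flat_of_isLocalRing
  have hφp : ∀ m : P₁, (LocalizedModule.map p.asIdeal.primeCompl φ)
      (LocalizedModule.mkLinearMap p.asIdeal.primeCompl P₁ m) =
      LocalizedModule.mkLinearMap p.asIdeal.primeCompl P₂ (φ m) := by
    intro m
    simp only [LocalizedModule.mkLinearMap_apply]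
    exact LocalizedModule.map_mk p.asIdeal.primeCompl φ m 1
  have hinj' : Function.Injective ((LocalizedModule.map p.asIdeal.primeCompl φ).lTensor
      (IsLocalRing.ResidueField (Localization.AtPrime p.asIdeal))) :=
    lTensor_inj_of_baseChange (LocalizedModule.mkLinearMap p.asIdeal.primeCompl P₁)
      (LocalizedModule.mkLinearMap p.asIdeal.primeCompl P₂)
      (IsLocalizedModule.isBaseChange p.asIdeal.primeCompl _ _)
      (IsLocalizedModule.isBaseChange p.asIdeal.primeCompl _ _) φ _ hφp hinj
  obtain ⟨l', hl'⟩ := (IsLocalRing.split_injective_iff_lTensor_residueField_injective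
    (LocalizedModule.map p.asIdeal.primeCompl φ)).2 hinj'
  haveI : Module.FinitePresentation R P₂ := Module.finitePresentation_of_projective R P₂
  obtain ⟨h, s, hs⟩ := Module.FinitePresentation.exists_lift_of_isLocalizedModule
    p.asIdeal.primeCompl (LocalizedModule.mkLinearMap p.asIdeal.primeCompl P₁)
    ((l'.restrictScalars R) ∘ₗ LocalizedModule.mkLinearMap p.asIdeal.primeCompl P₂)
  have heq : (LocalizedModule.mkLinearMap p.asIdeal.primeCompl P₁) ∘ₗ (h ∘ₗ φ) =
      (LocalizedModule.mkLinearMap p.asIdeal.primeCompl P₁) ∘ₗ ((s : R) • LinearMap.id) := by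
    ext m
    have h1 : LocalizedModule.mkLinearMap p.asIdeal.primeCompl P₁ (h (φ m)) =
        (s • ((l'.restrictScalars R) ∘ₗ
          LocalizedModule.mkLinearMap p.asIdeal.primeCompl P₂)) (φ m) := by
      rw [← hs]
      rfl
    simp only [LinearMap.coe_comp, Function.comp_apply, LinearMap.smul_apply, LinearMap.id_coe,
      id_eq]
    rw [h1]
    simp only [LinearMap.smul_apply, LinearMap.coe_comp, LinearMap.coe_restrictScalars,
      Function.comp_apply]
    rw [← hφp, ← LinearMap.comp_apply l', hl', LinearMap.id_apply, Submonoid.smul_def, map_smul]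
  obtain ⟨t, ht⟩ := Module.Finite.exists_smul_of_comp_eq_of_isLocalizedModule
    p.asIdeal.primeCompl (LocalizedModule.mkLinearMap p.asIdeal.primeCompl P₁) _ _ heq
  refine ⟨(t : R) * (s : R), ⟨(t : R) • h, ?_⟩, ?_⟩
  · rw [LinearMap.smul_comp]
    have := ht
    rw [Submonoid.smul_def, Submonoid.smul_def, smul_smul] at this
    exact this
  · exact (t * s).2

end helpers

/-- Let R be a ring and φ : P₁ → P₂ a map of finite projective R-modules. The set U of primes p of R
such that φ ⊗ κ(p) is injective is open, and for every f ∈ R with D(f) ⊆ U the map (P₁)_f → (P₂)_f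
is injective and Coker(φ)_f is a finite projective module over R_f. -/
theorem result {R : Type u} [CommRing R] {P₁ P₂ : Type u} [AddCommGroup P₁] [Module R P₁] [AddCommGroup P₂] [Module R P₂] [Module.Finite R P₁] [Module.Projective R P₁] [Module.Finite R P₂] [Module.Projective R P₂] (φ : P₁ →ₗ[R] P₂) : IsOpen {p : PrimeSpectrum R | Function.Injective (φ.lTensor p.asIdeal.ResidueField)} ∧ ∀ f : R, (↑(PrimeSpectrum.basicOpen f) : Set (PrimeSpectrum R)) ⊆ {p : PrimeSpectrum R | Function.Injective (φ.lTensor p.asIdeal.ResidueField)} → Function.Injective (LocalizedModule.map (Submonoid.powers f) φ) ∧ Module.Finite (Localization.Away f) (LocalizedModule (Submonoid.powers f) (P₂ ⧸ LinearMap.range φ)) ∧ Module.Projective (Localization.Away f) (LocalizedModule (Submonoid.powers f) (P₂ ⧸ LinearMap.range φ)) := by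
  classical
  have hU : {p : PrimeSpectrum R | Function.Injective (φ.lTensor p.asIdeal.ResidueField)} =
      (PrimeSpectrum.zeroLocus (J φ : Set R))ᶜ := by
    ext p
    simp only [Set.mem_ofPred_eq, Set.mem_compl_iff, PrimeSpectrum.mem_zeroLocus]
    constructor
    · intro hinj hsub
      obtain ⟨g, hg, hgp⟩ := exists_mem_of_inj φ p hinj
      exact hgp (hsub hg)
    · intro hsub
      rw [Set.not_subset] at hsub
      obtain ⟨g, hg, hgp⟩ := hsub
      exact inj_of_mem φ p hg hgp
  refine ⟨?_, ?_⟩
  · rw [hU]
    exact (PrimeSpectrum.isClosed_zeroLocus _).isOpen_compl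
  · intro f hf
    rw [hU] at hf
    have hsub : PrimeSpectrum.zeroLocus (J φ : Set R) ⊆
        PrimeSpectrum.zeroLocus ((Ideal.span {f} : Ideal R) : Set R) := by
      intro p hp
      rw [PrimeSpectrum.zeroLocus_span]
      by_contra hpf
      have hpD : p ∈ (↑(PrimeSpectrum.basicOpen f) : Set (PrimeSpectrum R)) := by
        rw [PrimeSpectrum.basicOpen_eq_zeroLocus_compl]
        exact hpf
      exact hf hpD hp
    rw [PrimeSpectrum.zeroLocus_subset_zeroLocus_iff] at hsub
    have hfrad : f ∈ (J φ).radical := hsub (Ideal.subset_span rfl)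
    obtain ⟨n, ψ, hψ⟩ := hfrad
    -- the localized maps
    have hψφ : ∀ x, (LocalizedModule.map (Submonoid.powers f) ψ)
        ((LocalizedModule.map (Submonoid.powers f) φ) x) = (f ^ n) • x := by
      intro x
      induction x using LocalizedModule.induction_on with
      | h m s =>
        rw [LocalizedModule.map_mk, LocalizedModule.map_mk, ← LinearMap.comp_apply, hψ,
          LinearMap.smul_apply, LinearMap.id_apply, LocalizedModule.smul'_mk]
    let y : Submonoid.powers f := ⟨f ^ n, n, rfl⟩
    let u : Localization.Away f := IsLocalization.mk' (Localization.Away f) (1 : R) y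
    have hu : u * algebraMap R (Localization.Away f) (f ^ n) = 1 := by
      have := IsLocalization.mk'_spec (Localization.Away f) (1 : R) y
      rw [map_one] at this
      exact this
    have hl : (u • LocalizedModule.map (Submonoid.powers f) ψ) ∘ₗ
        (LocalizedModule.map (Submonoid.powers f) φ) = LinearMap.id := by
      ext x
      rw [LinearMap.comp_apply, LinearMap.smul_apply, hψφ,
        ← algebraMap_smul (Localization.Away f) (f ^ n) x, smul_smul, hu, one_smul,
        LinearMap.id_apply]
    have hinj : Function.Injective (LocalizedModule.map (Submonoid.powers f) φ) :=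
      Function.LeftInverse.injective (g := (u • LocalizedModule.map (Submonoid.powers f) ψ))
        (fun x => LinearMap.congr_fun hl x)
    refine ⟨hinj, inferInstance, ?_⟩
    have hsurj : Function.Surjective
        (LocalizedModule.map (Submonoid.powers f) (LinearMap.range φ).mkQ) :=
      LocalizedModule.map_surjective _ _ (Submodule.mkQ_surjective _)
    have hex : Function.Exact (LocalizedModule.map (Submonoid.powers f) φ)
        (LocalizedModule.map (Submonoid.powers f) (LinearMap.range φ).mkQ) :=
      fun y => LocalizedModule.map_exact (Submonoid.powers f) φ _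
        (LinearMap.exact_map_mkQ_range φ) y
    have htfae := (Function.Exact.split_tfae hex hinj hsurj).out 0 1
    obtain ⟨l', hl'⟩ := htfae.2 ⟨(u • LocalizedModule.map (Submonoid.powers f) ψ), hl⟩
    exact Module.Projective.of_split l' _ hl'

end Groth.Agent.S6309
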