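import Groth.Statements.S6310
import Mathlib
-- import your own Groth.Agent.* helpers here

set_option autoImplicit false
universe u
open CAlg

namespace Groth.Agent.S6310

/-- Let R be a ring, S ⊆ R a multiplicative subset, I ⊆ R an ideal and M a finite R-module. If x₁, …,
x_r ∈ M have images generating S⁻¹(M/IM) as an S⁻¹R-module, then there is f ∈ S + I (f = s + i with
s ∈ S, i ∈ I) such that x₁, …, x_r generate M_f as an R_f-module. -/
theorem result {R : Type u} [CommRing R] (S : Submonoid R) (I : Ideal R) (M : Type u) [AddCommGroup M] [Module R M] [Module.Finite R M] {r : ℕ} (x : Fin r → M) (hx : Submodule.span (Localization S) (Set.range fun j => LocalizedModule.mkLinearMap S (M ⧸ (I • (⊤ : Submodule R M))) (Submodule.Quotient.mk (x j))) = ⊤) : ∃ (s : R) (i : R), s ∈ S ∧ i ∈ I ∧ Submodule.span (Localization.Away (s + i)) (Set.range fun j => LocalizedModule.mkLinearMap (Submonoid.powers (s + i)) M (x j)) = ⊤ := by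
  classical
  obtain ⟨N, hN⟩ : ∃ N : Submodule R M, N = Submodule.span R (Set.range x) := ⟨_, rfl⟩
  obtain ⟨Nbar, hNbar⟩ : ∃ Nbar : Submodule R (M ⧸ (I • (⊤ : Submodule R M))),
      Nbar = Submodule.span R (Set.range fun j =>
        (Submodule.Quotient.mk (x j) : M ⧸ (I • (⊤ : Submodule R M)))) := ⟨_, rfl⟩
  -- Step 1
  have hloc : Nbar.localized' (Localization S) S
      (LocalizedModule.mkLinearMap S (M ⧸ (I • (⊤ : Submodule R M)))) = ⊤ := by
    rw [hNbar, Submodule.localized'_span, ← hx]
    congr 1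
    exact (Set.range_comp (LocalizedModule.mkLinearMap S (M ⧸ (I • (⊤ : Submodule R M))))
      (fun j => (Submodule.Quotient.mk (x j) : M ⧸ (I • (⊤ : Submodule R M))))).symm
  have h1 : ∀ y : M ⧸ (I • (⊤ : Submodule R M)), ∃ s ∈ S, s • y ∈ Nbar := by
    intro y
    have hy : LocalizedModule.mkLinearMap S _ y ∈ Nbar.localized' (Localization S) S
        (LocalizedModule.mkLinearMap S (M ⧸ (I • (⊤ : Submodule R M)))) := by
      rw [hloc]; trivial
    obtain ⟨n, hn, s, hs⟩ := hy
    rw [IsLocalizedModule.mk'_eq_iff, ← LinearMap.map_smul_of_tower] at hs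
    obtain ⟨c, hc⟩ := (IsLocalizedModule.eq_iff_exists S _).mp hs
    refine ⟨(c : R) * (s : R), S.mul_mem c.2 s.2, ?_⟩
    have : ((c : R) * (s : R)) • y = c • s • y := by
      rw [mul_smul]; rfl
    rw [this, ← hc]
    exact Nbar.smul_mem (c : R) hn
  have h2 : ∀ T : Finset (M ⧸ (I • (⊤ : Submodule R M))), ∃ s ∈ S, ∀ t ∈ T, s • t ∈ Nbar := by
    intro T
    induction T using Finset.induction_on with
    | empty => exact ⟨1, S.one_mem, by simp⟩
    | insert a T ha ih =>
      obtain ⟨s₁, hs₁, h₁⟩ := ih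
      obtain ⟨s₂, hs₂, h₂⟩ := h1 a
      refine ⟨s₁ * s₂, S.mul_mem hs₁ hs₂, fun t ht => ?_⟩
      rcases Finset.mem_insert.mp ht with rfl | ht
      · rw [mul_smul]; exact Nbar.smul_mem s₁ h₂
      · rw [mul_comm, mul_smul]; exact Nbar.smul_mem s₂ (h₁ t ht)
  obtain ⟨T, hT⟩ := (Module.Finite.fg_top :
    (⊤ : Submodule R (M ⧸ (I • (⊤ : Submodule R M)))).FG)
  obtain ⟨s, hsS, hs⟩ := h2 T
  have h3 : ∀ y : M ⧸ (I • (⊤ : Submodule R M)), s • y ∈ Nbar := by
    intro y
    have hy : y ∈ Submodule.span R (T : Set (M ⧸ (I • (⊤ : Submodule R M)))) := by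
      rw [hT]; trivial
    induction hy using Submodule.span_induction with
    | mem t ht => exact hs t ht
    | zero => rw [smul_zero]; exact Nbar.zero_mem
    | add a b _ _ ha hb => rw [smul_add]; exact Nbar.add_mem ha hb
    | smul c a _ ha => rw [smul_comm]; exact Nbar.smul_mem c ha
  have hNbar_map : Nbar = Submodule.map (I • (⊤ : Submodule R M)).mkQ N := by
    rw [hNbar, hN, Submodule.map_span]
    congr 1
    exact Set.range_comp (I • (⊤ : Submodule R M)).mkQ x
  have h4 : ∀ m : M, s • m ∈ N ⊔ I • (⊤ : Submodule R M) := by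
    intro m
    have := h3 (Submodule.Quotient.mk m)
    rw [hNbar_map] at this
    obtain ⟨n, hn, hnm⟩ := this
    have hdiff : s • m - n ∈ I • (⊤ : Submodule R M) := by
      rw [← Submodule.Quotient.mk_eq_zero, Submodule.Quotient.mk_sub, Submodule.Quotient.mk_smul]
      rw [Submodule.mkQ_apply] at hnm
      rw [hnm, sub_self]
    have : s • m = n + (s • m - n) := by abel
    rw [this]
    exact Submodule.add_mem_sup hn hdiff
  -- Step 2
  have h5 : LinearMap.range (algebraMap R (Module.End R (M ⧸ N)) s) ≤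
      I • (⊤ : Submodule R (M ⧸ N)) := by
    rintro _ ⟨c, rfl⟩
    obtain ⟨m, rfl⟩ := Submodule.Quotient.mk_surjective N c
    rw [Module.algebraMap_end_apply, ← Submodule.Quotient.mk_smul]
    obtain ⟨n, hn, w, hw, hnw⟩ := Submodule.mem_sup.mp (h4 m)
    rw [← hnw, Submodule.Quotient.mk_add, (Submodule.Quotient.mk_eq_zero N).mpr hn, zero_add]
    have : Submodule.map N.mkQ (I • (⊤ : Submodule R M)) ≤ I • (⊤ : Submodule R (M ⧸ N)) := by
      rw [Submodule.map_smul'']
      exact Submodule.smul_mono le_rfl le_top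
    exact this (Submodule.mem_map_of_mem hw)
  obtain ⟨p, hmonic, -, hcoeff, haeval⟩ :=
    LinearMap.exists_monic_and_natDegree_eq_and_coeff_mem_pow_and_aeval_eq_zero R
      (algebraMap R (Module.End R (M ⧸ N)) s) I h5
  rw [Polynomial.aeval_algebraMap_apply_eq_algebraMap_eval] at haeval
  have hi : Polynomial.eval s p - s ^ p.natDegree ∈ I := by
    rw [Polynomial.eval_eq_sum_range, Finset.sum_range_succ, hmonic.coeff_natDegree, one_mul,
      add_sub_cancel_right]
    apply Ideal.sum_mem
    intro k hk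
    have hk' : k < p.natDegree := Finset.mem_range.mp hk
    have : p.coeff k ∈ I := Ideal.pow_le_self (Nat.sub_ne_zero_of_lt hk') (hcoeff k)
    exact Ideal.mul_mem_right _ _ this
  refine ⟨s ^ p.natDegree, Polynomial.eval s p - s ^ p.natDegree, S.pow_mem hsS _, hi, ?_⟩
  have hfel : s ^ p.natDegree + (Polynomial.eval s p - s ^ p.natDegree) = Polynomial.eval s p := by
    ring
  rw [hfel]
  -- Step 3
  have h6 : ∀ m : M, Polynomial.eval s p • m ∈ N := by
    intro m
    rw [← Submodule.Quotient.mk_eq_zero N, Submodule.Quotient.mk_smul]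
    have := LinearMap.congr_fun haeval (Submodule.Quotient.mk m)
    rwa [Module.algebraMap_end_apply] at this
  have h7 := Submodule.localized'_le_localized'_of_smul_le
    (Localization.Away (Polynomial.eval s p)) (Submonoid.powers (Polynomial.eval s p))
    (LocalizedModule.mkLinearMap (Submonoid.powers (Polynomial.eval s p)) M)
    (P := ⊤) (Q := N) ⟨Polynomial.eval s p, Submonoid.mem_powers _⟩ (by
      rintro _ ⟨b, -, rfl⟩
      exact h6 b)
  rw [Submodule.localized'_top, top_le_iff, hN, Submodule.localized'_span] at h7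
  rw [← h7]
  congr 1
  exact Set.range_comp (LocalizedModule.mkLinearMap (Submonoid.powers (Polynomial.eval s p)) M) x

end Groth.Agent.S6310
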