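import Groth.Statements.S6311
import Mathlib
-- import your own Groth.Agent.* helpers here

set_option autoImplicit false
universe u
open CategoryTheory
open CAlg

namespace Groth.Agent.S6311

/-- The object property: finite projective. -/
abbrev PP (R : Type u) [CommRing R] : ObjectProperty (ModuleCat.{u} R) :=
  fun M => Module.Finite R M ∧ Module.Projective R M

/-- The class of an object. -/
noncomputable abbrev cls (R : Type u) [CommRing R] (M : ModuleCat.{u} R) (hM : PP R M) :
    KZero.K0sub (PP R) :=
  QuotientAddGroup.mk (FreeAbelianGroup.of ⟨M, hM⟩)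

lemma rel_of_exact (R : Type u) [CommRing R] {M N Q : ModuleCat.{u} R} (hM : PP R M)
    (hN : PP R N) (hQ : PP R Q) (f : M →ₗ[R] N) (g : N →ₗ[R] Q) (hf : Function.Injective f)
    (hg : Function.Surjective g) (hex : Function.Exact f g) :
    cls R N hN = cls R M hM + cls R Q hQ := by
  have hzero : ModuleCat.ofHom f ≫ ModuleCat.ofHom g = 0 := by
    apply ModuleCat.hom_ext
    apply LinearMap.ext
    intro x
    exact hex.apply_apply_eq_zero x
  let S : ShortComplex (ModuleCat.{u} R) := ShortComplex.mk (ModuleCat.ofHom f) (ModuleCat.ofHom g) hzero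
  have hS : S.ShortExact := ModuleCat.shortComplex_shortExact S hex hf hg
  have hmem : FreeAbelianGroup.of (⟨N, hN⟩ : Subtype (PP R)) - FreeAbelianGroup.of ⟨M, hM⟩
      - FreeAbelianGroup.of ⟨Q, hQ⟩ ∈ KZero.relSub (PP R) :=
    AddSubgroup.subset_closure ⟨S, hM, hN, hQ, hS, rfl⟩
  have h0 := (QuotientAddGroup.eq_zero_iff _).2 hmem
  rw [QuotientAddGroup.mk_sub, QuotientAddGroup.mk_sub, sub_sub, sub_eq_zero] at h0
  exact h0

lemma cls_prod (R : Type u) [CommRing R] {M A B : ModuleCat.{u} R} (hM : PP R M)
    (hA : PP R A) (hB : PP R B) (e : M ≃ₗ[R] A × B) :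
    cls R M hM = cls R A hA + cls R B hB := by
  refine rel_of_exact R hA hM hB (e.symm.toLinearMap ∘ₗ LinearMap.inl R A B)
    (LinearMap.snd R A B ∘ₗ e.toLinearMap) ?_ ?_ ?_
  · intro x y h
    have h' := e.symm.injective h
    exact LinearMap.inl_injective h'
  · intro b
    refine ⟨e.symm (0, b), ?_⟩
    simp
  · intro y
    constructor
    · intro hy
      refine ⟨(e y).1, ?_⟩
      have hy' : (e y).2 = 0 := hy
      have : ((e y).1, (0 : B)) = e y := by
        rw [← hy']
      show e.symm ((e y).1, 0) = y
      rw [this, e.symm_apply_apply]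
    · rintro ⟨x, rfl⟩
      simp

/-- Let R be a local ring. Then K₀(R), the Grothendieck group of the category of finite projective
R-modules, is isomorphic to ℤ via the rank; precisely, there is an isomorphism K₀(R) ≅ ℤ of abelian
groups sending the class [R] to 1 (such an isomorphism is then unique, K₀(R) being generated by
[R]). -/
theorem result (R : Type u) [CommRing R] [IsLocalRing R] : ∃ e : KZero.K0sub (fun M : ModuleCat.{u} R => Module.Finite R M ∧ Module.Projective R M) ≃+ ℤ, e (KZero.clSub (fun M : ModuleCat.{u} R => Module.Finite R M ∧ Module.Projective R M) (ModuleCat.of R R)) = 1 := by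
  classical
  have hfree : ∀ (M : ModuleCat.{u} R), PP R M → Module.Free R M := by
    intro M hM
    haveI := hM.1
    haveI := hM.2
    exact Module.free_of_flat_of_isLocalRing
  let ψ : FreeAbelianGroup (Subtype (PP R)) →+ ℤ :=
    FreeAbelianGroup.lift (fun X => ((Module.finrank R X.1 : ℕ) : ℤ))
  have hψ : KZero.relSub (PP R) ≤ ψ.ker := by
    rw [KZero.relSub, AddSubgroup.closure_le]
    rintro x ⟨S, h₁, h₂, h₃, hS, rfl⟩
    have hex : Function.Exact S.f S.g :=
      (ShortComplex.ShortExact.moduleCat_exact_iff_function_exact S).1 hS.exact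
    haveI := h₁.1
    haveI := h₃.1
    haveI := h₃.2
    haveI := hfree _ h₁
    haveI := hfree _ h₃
    obtain ⟨l, hl⟩ := LinearMap.exists_rightInverse_of_surjective S.g.hom
      (LinearMap.range_eq_top.2 hS.moduleCat_surjective_g)
    have hex' : Function.Exact S.f.hom S.g.hom := hex
    have e := (hex'.splitSurjectiveEquiv hS.moduleCat_injective_f ⟨l, hl⟩).1
    have hrank : Module.finrank R S.X₂ = Module.finrank R S.X₁ + Module.finrank R S.X₃ := by
      rw [e.finrank_eq, Module.finrank_prod]
    simp only [SetLike.mem_coe, AddMonoidHom.mem_ker, map_sub, ψ, FreeAbelianGroup.lift_apply_of]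
    rw [hrank]
    push_cast
    ring
  let φ : KZero.K0sub (PP R) →+ ℤ := QuotientAddGroup.lift (KZero.relSub (PP R)) ψ hψ
  have hR : PP R (ModuleCat.of R R) :=
    ⟨inferInstanceAs (Module.Finite R R), inferInstanceAs (Module.Projective R R)⟩
  let θ : ℤ →+ KZero.K0sub (PP R) := zmultiplesHom _ (cls R (ModuleCat.of R R) hR)
  have hφcls : ∀ (M : ModuleCat.{u} R) (hM : PP R M),
      φ (cls R M hM) = ((Module.finrank R M : ℕ) : ℤ) := by
    intro M hM
    show (QuotientAddGroup.lift (KZero.relSub (PP R)) ψ hψ) (QuotientAddGroup.mk _) = _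
    rw [QuotientAddGroup.lift_mk]
    simp only [ψ, FreeAbelianGroup.lift_apply_of]
  have key : ∀ (n : ℕ) (M : ModuleCat.{u} R) (hM : PP R M), (M ≃ₗ[R] (Fin n → R)) →
      cls R M hM = (n : ℤ) • cls R (ModuleCat.of R R) hR := by
    intro n
    induction n with
    | zero =>
      intro M hM e
      haveI : Subsingleton M := e.toEquiv.subsingleton
      have h := rel_of_exact R hM hM hM LinearMap.id LinearMap.id
        (fun x y _ => Subsingleton.elim x y) (fun x => ⟨x, rfl⟩)
        (fun y => ⟨fun _ => ⟨y, rfl⟩, fun _ => Subsingleton.elim _ _⟩)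
      have h0 : cls R M hM = 0 := by simpa using h
      rw [h0]
      simp
    | succ n ih =>
      intro M hM e
      have hF : PP R (ModuleCat.of R (Fin n → R)) :=
        ⟨inferInstanceAs (Module.Finite R (Fin n → R)),
          inferInstanceAs (Module.Projective R (Fin n → R))⟩
      have e' : M ≃ₗ[R] (ModuleCat.of R R) × (ModuleCat.of R (Fin n → R)) :=
        e.trans (Fin.consLinearEquiv R (fun _ : Fin (n + 1) => R)).symm
      rw [cls_prod R hM hR hF e', ih _ hF (LinearEquiv.refl R _)]
      push_cast
      rw [add_smul, one_smul, add_comm]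
  have h1 : θ.comp φ = AddMonoidHom.id _ := by
    apply QuotientAddGroup.addMonoidHom_ext
    apply FreeAbelianGroup.lift_ext
    rintro ⟨M, hM⟩
    haveI := hM.1
    haveI := hfree M hM
    show θ (φ (cls R M hM)) = cls R M hM
    rw [hφcls, key _ M hM (Module.finBasis R M).equivFun]
    rfl
  have h2 : φ.comp θ = AddMonoidHom.id _ := by
    apply AddMonoidHom.ext_int
    show φ (θ 1) = 1
    have : θ 1 = cls R (ModuleCat.of R R) hR := by
      show (1 : ℤ) • cls R (ModuleCat.of R R) hR = _
      rw [one_smul]
    rw [this, hφcls]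
    have : Module.finrank R (ModuleCat.of R R) = 1 := Module.finrank_self R
    rw [this]
    rfl
  refine ⟨AddMonoidHom.toAddEquiv φ θ h1 h2, ?_⟩
  have hcl : KZero.clSub (PP R) (ModuleCat.of R R) = cls R (ModuleCat.of R R) hR := by
    unfold KZero.clSub
    rw [dif_pos hR]
  show φ (KZero.clSub (PP R) (ModuleCat.of R R)) = 1
  rw [hcl, hφcls]
  have : Module.finrank R (ModuleCat.of R R) = 1 := Module.finrank_self R
  rw [this]
  rfl

end Groth.Agent.S6311
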