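import Groth.Statements.S6313
import Mathlib
import Groth.Agent.Lib.Helper10.Resolution
import Groth.Agent.S6314

set_option autoImplicit false
universe u
open CategoryTheory
open CAlg

namespace Groth.Agent.S6313

open Groth.Agent.Lib.Helper10 in
lemma key (R : Type u) [CommRing R] (M : Type u) [AddCommGroup M] [Module R M] (I : Ideal R)
    (h : Limits.IsZero (((CategoryTheory.Tor (ModuleCat.{u} R) 1).obj (ModuleCat.of R M)).obj
      (ModuleCat.of R (R ⧸ I)))) :
    Function.Injective (LinearMap.lTensor M I.subtype) := by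
  let P₀ : ModuleCat.{u} R := ModuleCat.of R R
  let K : ModuleCat.{u} R := ModuleCat.of R I
  let ι : K ⟶ P₀ := ModuleCat.ofHom I.subtype
  let π₀ : P₀ ⟶ ModuleCat.of R (R ⧸ I) := ModuleCat.ofHom (Submodule.mkQ I)
  haveI : Projective P₀ := ModuleCat.projective_of_categoryTheory_projective (ModuleCat.of R R)
  have hι : Function.Injective ι := Subtype.val_injective
  have hπ : Function.Surjective π₀ := Submodule.mkQ_surjective I
  have hex : Function.Exact ι π₀ := LinearMap.exact_subtype_mkQ I
  obtain ⟨sq, ⟨cx, hproj, π, hq⟩, hP⟩ :=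
    exists_splice P₀ K (ModuleCat.of R (R ⧸ I)) ι π₀ hι hπ hex
  dsimp only at hP
  subst hP
  let G := (MonoidalCategory.tensoringLeft (ModuleCat.{u} R)).obj (ModuleCat.of R M)
  let C := ChainComplex.of (spliceX P₀ K) (spliceD P₀ K ι) sq
  let K' := (G.mapHomologicalComplex (ComplexShape.down ℕ)).obj C
  have e1 : (G.leftDerived 1).obj (ModuleCat.of R (R ⧸ I)) ≅ K'.homology 1 :=
    (ProjectiveResolution.mk C hproj π hq).isoLeftDerivedObj G 1
  have hz : Limits.IsZero (K'.homology 1) := Limits.IsZero.of_iso h e1.symm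
  have hE : K'.ExactAt 1 := (HomologicalComplex.exactAt_iff_isZero_homology K' 1).2 hz
  have hE' : (K'.sc' 2 1 0).Exact :=
    (HomologicalComplex.exactAt_iff' K' 2 1 0 (by simp) (by simp)).1 hE
  have hF : Function.Exact (K'.sc' 2 1 0).f (K'.sc' 2 1 0).g :=
    (ShortComplex.ShortExact.moduleCat_exact_iff_function_exact _).1 hE'
  have hd21 : C.d 2 1 = ModuleCat.ofHom (dm K) := ChainComplex.of_d _ _ 1
  have hd10 : C.d 1 0 = ModuleCat.ofHom (I.subtype ∘ₗ pr K) := ChainComplex.of_d _ _ 0
  have hF' : Function.Exact (LinearMap.lTensor M (dm K))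
      (LinearMap.lTensor M (I.subtype ∘ₗ pr K)) := by
    have h2 : Function.Exact (LinearMap.lTensor M (C.d 2 1).hom)
        (LinearMap.lTensor M (C.d 1 0).hom) := hF
    rw [hd21, hd10] at h2
    exact h2
  rw [injective_iff_map_eq_zero]
  intro z hz0
  obtain ⟨w, rfl⟩ := LinearMap.lTensor_surjective M (pr_surj K) z
  have hw : LinearMap.lTensor M (I.subtype ∘ₗ pr K) w = 0 := by
    rw [LinearMap.lTensor_comp]
    exact hz0
  obtain ⟨v, rfl⟩ := (hF' w).1 hw
  rw [← LinearMap.comp_apply, ← LinearMap.lTensor_comp]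
  have hcomp : pr K ∘ₗ dm K = 0 := by
    apply LinearMap.ext
    intro x
    exact (exact_dm_pr K).apply_apply_eq_zero x
  rw [hcomp, LinearMap.lTensor_zero, LinearMap.zero_apply]

/-- For a ring R and an R-module M, flatness of M over R is equivalent to the vanishing of Tor₁ᴿ(M, R/I)
for every finitely generated ideal I ⊆ R. -/
theorem result (R : Type u) [CommRing R] (M : Type u) [AddCommGroup M] [Module R M] : Module.Flat R M ↔ ∀ I : Ideal R, I.FG → Limits.IsZero (((CategoryTheory.Tor (ModuleCat.{u} R) 1).obj (ModuleCat.of R M)).obj (ModuleCat.of R (R ⧸ I))) := by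
  constructor
  · intro hflat I _
    exact Groth.Agent.S6314.result R M (ModuleCat.of R (R ⧸ I)) 1 one_pos
  · intro h
    rw [Module.Flat.iff_lTensor_injective]
    intro I hI
    exact key R M I (h I hI)

end Groth.Agent.S6313
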