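import Groth.Statements.S6321
import Mathlib
-- import your own Groth.Agent.* helpers here

set_option autoImplicit false
universe u
open CAlg

namespace Groth.Agent.S6321

/-- Let R be a ring and (Sᵢ, φᵢⱼ) a directed system of faithfully flat R-algebras whose transition maps
are R-algebra maps. Then S = colim Sᵢ is a faithfully flat R-algebra: for any index i the composite
R → Sᵢ → S is faithfully flat. -/
theorem result {R : Type u} [CommRing R] {ι : Type u} [Preorder ι] [Nonempty ι] [IsDirected ι (· ≤ ·)] (G : ι → Type u) [∀ i, CommRing (G i)] [∀ i, Algebra R (G i)] (f : ∀ i j, i ≤ j → G i →+* G j) [DirectedSystem G fun i j h => f i j h] (hcompat : ∀ i j (h : i ≤ j), (f i j h).comp (algebraMap R (G i)) = algebraMap R (G j)) (hff : ∀ i, (algebraMap R (G i)).FaithfullyFlat) (i : ι) : ((Ring.DirectLimit.of G (fun i j h => f i j h) i).comp (algebraMap R (G i))).FaithfullyFlat := by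
  classical
  have hφ : ∀ j (a : R), Ring.DirectLimit.of G (fun i j h => f i j h) j (algebraMap R (G j) a) =
      ((Ring.DirectLimit.of G (fun i j h => f i j h) i).comp (algebraMap R (G i))) a := by
    intro j a
    obtain ⟨k, hik, hjk⟩ := exists_ge_ge i j
    calc Ring.DirectLimit.of G (fun i j h => f i j h) j (algebraMap R (G j) a)
        = Ring.DirectLimit.of G (fun i j h => f i j h) k (f j k hjk (algebraMap R (G j) a)) :=
          (Ring.DirectLimit.of_f hjk _).symm
      _ = Ring.DirectLimit.of G (fun i j h => f i j h) k (algebraMap R (G k) a) := by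
          rw [← RingHom.comp_apply (f j k hjk), hcompat]
      _ = Ring.DirectLimit.of G (fun i j h => f i j h) k (f i k hik (algebraMap R (G i) a)) := by
          rw [← RingHom.comp_apply (f i k hik), hcompat]
      _ = _ := Ring.DirectLimit.of_f hik _
  letI : Algebra R (Ring.DirectLimit G (fun i j h => f i j h)) :=
    ((Ring.DirectLimit.of G (fun i j h => f i j h) i).comp (algebraMap R (G i))).toAlgebra
  show Module.FaithfullyFlat R (Ring.DirectLimit G (fun i j h => f i j h))
  have hsmul : ∀ j (a : R) (t : G j), Ring.DirectLimit.of G (fun i j h => f i j h) j (a • t) =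
      a • Ring.DirectLimit.of G (fun i j h => f i j h) j t := by
    intro j a t
    rw [Algebra.smul_def, Algebra.smul_def, map_mul, hφ]
    rfl
  have hfsmul : ∀ j k (h : j ≤ k) (a : R) (t : G j), f j k h (a • t) = a • f j k h t := by
    intro j k h a t
    rw [Algebra.smul_def, Algebra.smul_def, map_mul, ← RingHom.comp_apply (f j k h), hcompat]
  have hfam : ∀ (l : ℕ) (x : Fin l → Ring.DirectLimit G (fun i j h => f i j h)),
      ∃ (j : ι) (t : Fin l → G j), ∀ k, x k = Ring.DirectLimit.of G (fun i j h => f i j h) j (t k) := by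
    intro l x
    have h1 : ∀ k, ∃ jk, ∃ tk : G jk,
        Ring.DirectLimit.of G (fun i j h => f i j h) jk tk = x k :=
      fun k => Ring.DirectLimit.exists_of (x k)
    choose jk tk htk using h1
    obtain ⟨j, hj⟩ := Finset.exists_le (Finset.univ.image jk)
    have hle : ∀ k, jk k ≤ j := fun k => hj _ (Finset.mem_image_of_mem _ (Finset.mem_univ k))
    refine ⟨j, fun k => f (jk k) j (hle k) (tk k), fun k => ?_⟩
    rw [← htk k]
    exact (Ring.DirectLimit.of_f (hle k) _).symm
  have hmap : ∀ (m : Ideal R) j k (h : j ≤ k) (t : G j),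
      t ∈ Ideal.map (algebraMap R (G j)) m → f j k h t ∈ Ideal.map (algebraMap R (G k)) m := by
    intro m j k h t ht
    have := Ideal.mem_map_of_mem (f j k h) ht
    rwa [Ideal.map_map, hcompat] at this
  have hflat : Module.Flat R (Ring.DirectLimit G (fun i j h => f i j h)) := by
    rw [Module.Flat.iff_forall_isTrivialRelation]
    intro l c x hrel
    obtain ⟨j, t, ht⟩ := hfam l x
    have h0 : Ring.DirectLimit.of G (fun i j h => f i j h) j (∑ k, c k • t k) = 0 := by
      rw [map_sum, ← hrel]
      apply Finset.sum_congr rfl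
      intro k _
      rw [hsmul, ht k]
    obtain ⟨j', hjj', hz⟩ := Ring.DirectLimit.of.zero_exact h0
    haveI : Module.Flat R (G j') := (RingHom.faithfullyFlat_algebraMap_iff.1 (hff j')).toFlat
    have hrel' : ∑ k, c k • (f j j' hjj' (t k)) = 0 := by
      rw [← hz, map_sum]
      apply Finset.sum_congr rfl
      intro k _
      rw [hfsmul]
    obtain ⟨m, a, y, hxy, hca⟩ := Module.Flat.isTrivialRelation_of_sum_smul_eq_zero (R := R) (M := G j') (f := c)
      (x := fun k => f j j' hjj' (t k)) hrel'
    refine ⟨m, a, fun q => Ring.DirectLimit.of G (fun i j h => f i j h) j' (y q), fun k => ?_, hca⟩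
    have hxyk : f j j' hjj' (t k) = ∑ q, a k q • y q := hxy k
    show x k = ∑ q, a k q • Ring.DirectLimit.of G (fun i j h => f i j h) j' (y q)
    rw [ht k, ← Ring.DirectLimit.of_f hjj' (t k), hxyk, map_sum]
    apply Finset.sum_congr rfl
    intro q _
    rw [hsmul]
  refine { toFlat := hflat, submodule_ne_top := ?_ }
  intro m hm htop
  rw [Ideal.smul_top_eq_map] at htop
  have h1 : (1 : Ring.DirectLimit G (fun i j h => f i j h)) ∈
      Ideal.map (algebraMap R (Ring.DirectLimit G (fun i j h => f i j h))) m := by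
    have : (1 : Ring.DirectLimit G (fun i j h => f i j h)) ∈
        ((Ideal.map (algebraMap R (Ring.DirectLimit G (fun i j h => f i j h))) m).restrictScalars
          R) := by
      rw [htop]
      trivial
    exact this
  have hmem : ∀ s ∈ Ideal.map (algebraMap R (Ring.DirectLimit G (fun i j h => f i j h))) m,
      ∃ j, ∃ t ∈ Ideal.map (algebraMap R (G j)) m,
        Ring.DirectLimit.of G (fun i j h => f i j h) j t = s := by
    intro s hs
    refine Submodule.span_induction ?_ ?_ ?_ ?_ hs
    · rintro _ ⟨a, ha, rfl⟩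
      exact ⟨i, algebraMap R (G i) a, Ideal.mem_map_of_mem _ ha, rfl⟩
    · exact ⟨i, 0, Ideal.zero_mem _, map_zero _⟩
    · rintro x y _ _ ⟨j, t, ht, rfl⟩ ⟨j', t', ht', rfl⟩
      obtain ⟨k, hjk, hj'k⟩ := exists_ge_ge j j'
      refine ⟨k, f j k hjk t + f j' k hj'k t',
        Ideal.add_mem _ (hmap m _ _ hjk _ ht) (hmap m _ _ hj'k _ ht'), ?_⟩
      rw [map_add, Ring.DirectLimit.of_f, Ring.DirectLimit.of_f]
    · rintro r x _ ⟨j, t, ht, rfl⟩
      obtain ⟨j', r', rfl⟩ := Ring.DirectLimit.exists_of r
      obtain ⟨k, hjk, hj'k⟩ := exists_ge_ge j j'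
      refine ⟨k, f j' k hj'k r' * f j k hjk t,
        Ideal.mul_mem_left _ _ (hmap m _ _ hjk _ ht), ?_⟩
      rw [map_mul, Ring.DirectLimit.of_f, Ring.DirectLimit.of_f, smul_eq_mul]
  obtain ⟨j, t, ht, h1t⟩ := hmem 1 h1
  have h0 : Ring.DirectLimit.of G (fun i j h => f i j h) j (t - 1) = 0 := by
    rw [map_sub, h1t, map_one, sub_self]
  obtain ⟨j', hjj', hz⟩ := Ring.DirectLimit.of.zero_exact h0
  have ht' : f j j' hjj' t = 1 := by
    rw [map_sub, map_one, sub_eq_zero] at hz
    exact hz
  have hone : (1 : G j') ∈ Ideal.map (algebraMap R (G j')) m := ht' ▸ hmap m j j' hjj' t ht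
  have hffj : Module.FaithfullyFlat R (G j') := RingHom.faithfullyFlat_algebraMap_iff.1 (hff j')
  apply hffj.submodule_ne_top hm
  rw [Ideal.smul_top_eq_map]
  have : Ideal.map (algebraMap R (G j')) m = ⊤ := (Ideal.eq_top_iff_one _).2 hone
  rw [this]
  rfl

end Groth.Agent.S6321
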