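import Groth.Statements.S6322
import Mathlib
-- import your own Groth.Agent.* helpers here

set_option autoImplicit false
universe u
open CategoryTheory
open CAlg

namespace Groth.Agent.S6322

section general

open CategoryTheory Limits

variable {C : Type*} [Category C] [Abelian C]
variable {F Nc : ChainComplex C ℕ} {M N : C}

lemma d_comp_f_zero {K : ChainComplex C ℕ} {A : C} (ε : K ⟶ (ChainComplex.single₀ C).obj A) :
    K.d 1 0 ≫ ε.f 0 = 0 := by
  rw [← ε.comm 1 0, HomologicalComplex.single_obj_d, comp_zero]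

lemma exactAt_succ (εN : Nc ⟶ (ChainComplex.single₀ C).obj N) [QuasiIso εN] (n : ℕ) :
    Nc.ExactAt (n + 1) := by
  rw [← quasiIsoAt_iff_exactAt' εN (n + 1) (ChainComplex.exactAt_succ_single_obj _ _)]
  infer_instance

lemma exact_succ (εN : Nc ⟶ (ChainComplex.single₀ C).obj N) [QuasiIso εN] (n : ℕ) :
    (ShortComplex.mk _ _ (Nc.d_comp_d (n + 2) (n + 1) n)).Exact :=
  ((HomologicalComplex.exactAt_iff' _ (n + 2) (n + 1) n) (by simp only [ChainComplex.prev]; rfl)
    (by simp)).1 (exactAt_succ εN n)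

lemma exact₀ (εN : Nc ⟶ (ChainComplex.single₀ C).obj N) [QuasiIso εN] :
    (ShortComplex.mk (Nc.d 1 0) (εN.f 0) (d_comp_f_zero εN)).Exact ∧ Epi (εN.f 0) := by
  have h : QuasiIsoAt εN 0 := inferInstance
  rw [ChainComplex.quasiIsoAt₀_iff,
    ShortComplex.quasiIso_iff_of_zeros' _ (Nc.shape 0 0 (by simp)) rfl rfl] at h
  exact h

variable [∀ n, Projective (F.X n)]
variable (εF : F ⟶ (ChainComplex.single₀ C).obj M)
  (εN : Nc ⟶ (ChainComplex.single₀ C).obj N) [QuasiIso εN] (g : M ⟶ N)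

/-- degree zero part of the lift -/
noncomputable def liftZero : F.X 0 ⟶ Nc.X 0 :=
  haveI := (exact₀ εN).2
  Projective.factorThru (εF.f 0 ≫ ((ChainComplex.single₀ C).map g).f 0) (εN.f 0)

lemma liftZero_comp :
    liftZero εF εN g ≫ εN.f 0 = εF.f 0 ≫ ((ChainComplex.single₀ C).map g).f 0 := by
  haveI := (exact₀ εN).2
  exact Projective.factorThru_comp _ _

/-- degree one part of the lift -/
noncomputable def liftOne : F.X 1 ⟶ Nc.X 1 :=
  (exact₀ εN).1.liftFromProjective (F.d 1 0 ≫ liftZero εF εN g) (by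
    show (F.d 1 0 ≫ liftZero εF εN g) ≫ εN.f 0 = 0
    rw [Category.assoc, liftZero_comp, ← Category.assoc, d_comp_f_zero, zero_comp])

lemma liftOne_comm : liftOne εF εN g ≫ Nc.d 1 0 = F.d 1 0 ≫ liftZero εF εN g :=
  (exact₀ εN).1.liftFromProjective_comp _ _

/-- the lift -/
noncomputable def liftHom : F ⟶ Nc :=
  ChainComplex.mkHom _ _ (liftZero εF εN g) (liftOne εF εN g) (liftOne_comm εF εN g)
    fun n p => ⟨(exact_succ εN n).liftFromProjective (F.d (n + 2) (n + 1) ≫ p.2.1) (by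
        show (F.d (n + 2) (n + 1) ≫ p.2.1) ≫ Nc.d (n + 1) n = 0
        rw [Category.assoc, p.2.2, ← Category.assoc, F.d_comp_d, zero_comp]),
      (exact_succ εN n).liftFromProjective_comp _ _⟩

lemma liftHom_comm : liftHom εF εN g ≫ εN = εF ≫ (ChainComplex.single₀ C).map g := by
  apply (ChainComplex.toSingle₀Equiv _ _).injective
  apply Subtype.ext
  show (liftHom εF εN g ≫ εN).f 0 = (εF ≫ (ChainComplex.single₀ C).map g).f 0
  rw [HomologicalComplex.comp_f, HomologicalComplex.comp_f]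
  unfold liftHom
  rw [ChainComplex.mkHom_f_0]
  exact liftZero_comp εF εN g

/-- degree zero part of the homotopy -/
noncomputable def hZero (f : F ⟶ Nc) (comm : f ≫ εN = 0) : F.X 0 ⟶ Nc.X 1 :=
  (exact₀ εN).1.liftFromProjective (f.f 0) (by
    show f.f 0 ≫ εN.f 0 = 0
    rw [← HomologicalComplex.comp_f, comm, HomologicalComplex.zero_f])

lemma hZero_comp (f : F ⟶ Nc) (comm : f ≫ εN = 0) : hZero εN f comm ≫ Nc.d 1 0 = f.f 0 :=
  (exact₀ εN).1.liftFromProjective_comp _ _

/-- degree one part of the homotopy -/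
noncomputable def hOne (f : F ⟶ Nc) (comm : f ≫ εN = 0) : F.X 1 ⟶ Nc.X 2 :=
  (exact_succ εN 0).liftFromProjective (f.f 1 - F.d 1 0 ≫ hZero εN f comm) (by
    show (f.f 1 - F.d 1 0 ≫ hZero εN f comm) ≫ Nc.d 1 0 = 0
    rw [Preadditive.sub_comp, Category.assoc, hZero_comp, f.comm 1 0, sub_self])

lemma hOne_comp (f : F ⟶ Nc) (comm : f ≫ εN = 0) :
    hOne εN f comm ≫ Nc.d 2 1 = f.f 1 - F.d 1 0 ≫ hZero εN f comm :=
  (exact_succ εN 0).liftFromProjective_comp _ _

/-- successor step of the homotopy -/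
noncomputable def hSucc (f : F ⟶ Nc) (n : ℕ) (k : F.X n ⟶ Nc.X (n + 1))
    (k' : F.X (n + 1) ⟶ Nc.X (n + 2))
    (w : f.f (n + 1) = F.d (n + 1) n ≫ k + k' ≫ Nc.d (n + 2) (n + 1)) :
    F.X (n + 2) ⟶ Nc.X (n + 3) :=
  (exact_succ εN (n + 1)).liftFromProjective (f.f (n + 2) - F.d (n + 2) (n + 1) ≫ k') (by
    show (f.f (n + 2) - F.d (n + 2) (n + 1) ≫ k') ≫ Nc.d (n + 2) (n + 1) = 0
    have hw : k' ≫ Nc.d (n + 2) (n + 1) = f.f (n + 1) - F.d (n + 1) n ≫ k := by
      rw [w]
      abel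
    rw [Preadditive.sub_comp, Category.assoc, f.comm (n + 2) (n + 1), hw, Preadditive.comp_sub,
      ← Category.assoc (F.d (n + 2) (n + 1)), F.d_comp_d, zero_comp, sub_zero, sub_self])

lemma hSucc_comp (f : F ⟶ Nc) (n : ℕ) (k : F.X n ⟶ Nc.X (n + 1))
    (k' : F.X (n + 1) ⟶ Nc.X (n + 2))
    (w : f.f (n + 1) = F.d (n + 1) n ≫ k + k' ≫ Nc.d (n + 2) (n + 1)) :
    hSucc εN f n k k' w ≫ Nc.d (n + 3) (n + 2) = f.f (n + 2) - F.d (n + 2) (n + 1) ≫ k' :=
  (exact_succ εN (n + 1)).liftFromProjective_comp _ _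

/-- a map killed by the augmentation is null-homotopic -/
noncomputable def htpyZero (f : F ⟶ Nc) (comm : f ≫ εN = 0) : Homotopy f 0 :=
  Homotopy.mkInductive _ (hZero εN f comm) (hZero_comp εN f comm).symm
    (hOne εN f comm) (by rw [hOne_comp]; abel)
    fun n p => ⟨hSucc εN f n p.1 p.2.1 p.2.2, by rw [hSucc_comp]; abel⟩

end general

/-- Let R be a ring, M → N a map of R-modules, N• → N a resolution (a chain complex with a
quasi-isomorphism onto N placed in degree 0) and … → F₁ → F₀ → M a complex with every Fᵢ free (F• a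
chain complex with an augmentation to M in degree 0, exactness not required). Then (1) there is a
map of complexes F• → N• compatible with M → N through the augmentations, and (2) any two such maps
are homotopic. -/
theorem result (R : Type u) [CommRing R] (M N : ModuleCat.{u} R) (g : M ⟶ N) (F Nc : ChainComplex (ModuleCat.{u} R) ℕ) (hF : ∀ i, Module.Free R (F.X i)) (εF : F ⟶ (ChainComplex.single₀ (ModuleCat.{u} R)).obj M) (εN : Nc ⟶ (ChainComplex.single₀ (ModuleCat.{u} R)).obj N) [QuasiIso εN] : (∃ φ : F ⟶ Nc, φ ≫ εN = εF ≫ (ChainComplex.single₀ (ModuleCat.{u} R)).map g) ∧ ∀ α β : F ⟶ Nc, α ≫ εN = εF ≫ (ChainComplex.single₀ (ModuleCat.{u} R)).map g → β ≫ εN = εF ≫ (ChainComplex.single₀ (ModuleCat.{u} R)).map g → Nonempty (Homotopy α β) := by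
  haveI : ∀ n, Projective (F.X n) := fun n => by
    haveI := hF n
    exact ModuleCat.projective_of_categoryTheory_projective (F.X n)
  refine ⟨⟨liftHom εF εN g, liftHom_comm εF εN g⟩, ?_⟩
  intro α β hα hβ
  refine ⟨Homotopy.equivSubZero.invFun (htpyZero εN (α - β) ?_)⟩
  rw [Preadditive.sub_comp, hα, hβ, sub_self]

end Groth.Agent.S6322
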