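import Groth.Statements.S6324
import Mathlib
-- import your own Groth.Agent.* helpers here

set_option autoImplicit false
universe u
open CAlg

namespace Groth.Agent.S6324

section helpers

open Polynomial

variable {R S : Type u} [CommRing R] [CommRing S] [Algebra R S]

/-- the ring hom from the Rees algebra to `S[X]`. -/
noncomputable abbrev F (I : Ideal R) : ↥(reesAlgebra I) →+* S[X] :=
  (Polynomial.mapRingHom (algebraMap R S)).comp (reesAlgebra I).val.toRingHom

lemma F_apply (I : Ideal R) (b : ↥(reesAlgebra I)) :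
    (F (S := S) I b : S[X]) = Polynomial.map (algebraMap R S) (b : R[X]) := rfl

lemma CX_pow (s : S) (i : ℕ) : (C s * X : S[X]) ^ i = C (s ^ i) * X ^ i := by
  rw [mul_pow, ← C_pow]

lemma eval_monic (p : R[X]) (hp : p.Monic) (s : S) :
    eval₂ (algebraMap R S) s p = s ^ p.natDegree +
      ∑ i : Fin p.natDegree, algebraMap R S (p.coeff i) * s ^ (i : ℕ) := by
  rw [eval₂_eq_sum_range, Finset.sum_range_succ, hp.coeff_natDegree, map_one, one_mul, add_comm,
    Finset.sum_range]

lemma forward (I : Ideal R) (s : S) (h : W4stkalgebra1.IsIntegralOverIdeal I s) :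
    (F (S := S) I).IsIntegralElem (C s * X) := by
  obtain ⟨p, hp, hcoef, heval⟩ := h
  let b : Fin p.natDegree → ↥(reesAlgebra I) := fun i =>
    ⟨monomial (p.natDegree - i) (p.coeff i), reesAlgebra.monomial_mem.2 (hcoef i i.2)⟩
  refine ⟨X ^ p.natDegree + ∑ i : Fin p.natDegree, C (b i) * X ^ (i : ℕ),
    monic_X_pow_add (degree_sum_fin_lt b), ?_⟩
  rw [eval₂_add, eval₂_X_pow, eval₂_finsetSum]
  have hterm : ∀ i : Fin p.natDegree, eval₂ (F I) (C s * X) (C (b i) * X ^ (i : ℕ)) =
      C (algebraMap R S (p.coeff i) * s ^ (i : ℕ)) * X ^ p.natDegree := by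
    intro i
    rw [eval₂_mul, eval₂_C, eval₂_X_pow, CX_pow, F_apply]
    show Polynomial.map (algebraMap R S) (monomial (p.natDegree - i) (p.coeff i)) * _ = _
    rw [map_monomial, ← C_mul_X_pow_eq_monomial, C_mul, mul_mul_mul_comm, ← pow_add,
      Nat.sub_add_cancel (le_of_lt i.2)]
  rw [Finset.sum_congr rfl (fun i _ => hterm i), CX_pow, ← Finset.sum_mul, ← add_mul,
    ← map_sum, ← C_add, ← eval_monic p hp s, heval, C_0, zero_mul]

lemma backward (I : Ideal R) (s : S) (h : (F (S := S) I).IsIntegralElem (C s * X)) :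
    W4stkalgebra1.IsIntegralOverIdeal I s := by
  rcases subsingleton_or_nontrivial R with hR | hR
  · refine ⟨1, monic_one, ?_, ?_⟩
    · intro j hj
      rw [natDegree_one] at hj
      exact absurd hj (Nat.not_lt_zero _)
    · haveI : Subsingleton S := (algebraMap R S).codomain_trivial
      exact Subsingleton.elim _ _
  obtain ⟨Q, hQ, hQe⟩ := h
  let a : Fin Q.natDegree → R := fun i =>
    ((Q.coeff i : ↥(reesAlgebra I)) : R[X]).coeff (Q.natDegree - i)
  have hdeg : degree (∑ i : Fin Q.natDegree, C (a i) * X ^ (i : ℕ)) <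
      (Q.natDegree : WithBot ℕ) := degree_sum_fin_lt a
  have hnat : (X ^ Q.natDegree + ∑ i : Fin Q.natDegree, C (a i) * X ^ (i : ℕ)).natDegree =
      Q.natDegree := by
    apply natDegree_eq_of_degree_eq_some
    rw [degree_add_eq_left_of_degree_lt, degree_X_pow]
    rw [degree_X_pow]
    exact hdeg
  refine ⟨X ^ Q.natDegree + ∑ i : Fin Q.natDegree, C (a i) * X ^ (i : ℕ),
    monic_X_pow_add hdeg, ?_, ?_⟩
  · intro j hj
    rw [hnat] at hj ⊢
    have hc : (X ^ Q.natDegree + ∑ i : Fin Q.natDegree, C (a i) * X ^ (i : ℕ)).coeff j =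
        a ⟨j, hj⟩ := by
      rw [coeff_add, coeff_X_pow, if_neg (ne_of_lt hj), zero_add, finsetSum_coeff]
      rw [Finset.sum_eq_single (⟨j, hj⟩ : Fin Q.natDegree)]
      · rw [coeff_C_mul_X_pow, if_pos rfl]
      · intro i _ hi
        rw [coeff_C_mul_X_pow, if_neg]
        intro hji
        exact hi (Fin.ext hji.symm)
      · intro hn
        exact absurd (Finset.mem_univ _) hn
    rw [hc]
    exact (Q.coeff j).2 (Q.natDegree - j)
  · have hE : eval₂ (algebraMap R S) s
        (X ^ Q.natDegree + ∑ i : Fin Q.natDegree, C (a i) * X ^ (i : ℕ)) =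
        s ^ Q.natDegree + ∑ i : Fin Q.natDegree, algebraMap R S (a i) * s ^ (i : ℕ) := by
      rw [eval₂_add, eval₂_X_pow, eval₂_finsetSum]
      congr 1
      apply Finset.sum_congr rfl
      intro i _
      rw [eval₂_mul, eval₂_C, eval₂_X_pow]
    rw [hE]
    have h0 : (eval₂ (F I) (C s * X) (X ^ Q.natDegree +
        ∑ i ∈ Finset.range Q.natDegree, C (Q.coeff i) * X ^ i)).coeff Q.natDegree = 0 := by
      rw [← hQ.as_sum, hQe, coeff_zero]
    rw [eval₂_add, eval₂_X_pow, eval₂_finsetSum, coeff_add, finsetSum_coeff, CX_pow,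
      coeff_C_mul_X_pow, if_pos rfl, Finset.sum_range] at h0
    rw [← h0]
    congr 1
    apply Finset.sum_congr rfl
    intro i _
    rw [eval₂_mul, eval₂_C, eval₂_X_pow, CX_pow, ← mul_assoc, coeff_mul_X_pow',
      if_pos (le_of_lt i.2), coeff_mul_C, F_apply, coeff_map]

end helpers

/-- Let R → S be a ring map, I ⊆ R an ideal and A = Σ Iⁿtⁿ ⊆ R[t] the Rees algebra of I. For s ∈ S,
being integral over I is equivalent to s·t ∈ S[t] being integral over A (via A ⊆ R[t] → S[t]). -/
theorem result {R S : Type u} [CommRing R] [CommRing S] [Algebra R S] (I : Ideal R) (s : S) : W4stkalgebra1.IsIntegralOverIdeal I s ↔ ((Polynomial.mapRingHom (algebraMap R S)).comp (reesAlgebra I).val.toRingHom).IsIntegralElem (Polynomial.C s * Polynomial.X) := by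
  exact ⟨forward I s, backward I s⟩

end Groth.Agent.S6324
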