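import Groth.Statements.S6325
import Mathlib
import Groth.Agent.S6324

set_option autoImplicit false
universe u
open CAlg

namespace Groth.Agent.S6325

/-- Let R → S be a ring map and I ⊆ R an ideal. The elements of S integral over I form an R-submodule of
S; moreover, the product s s' is integral over I for any s ∈ S integral over R and any s' ∈ S
integral over I. -/
theorem result {R S : Type u} [CommRing R] [CommRing S] [Algebra R S] (I : Ideal R) : (∃ N : Submodule R S, ∀ s : S, s ∈ N ↔ W4stkalgebra1.IsIntegralOverIdeal I s) ∧ (∀ s s' : S, IsIntegral R s → W4stkalgebra1.IsIntegralOverIdeal I s' → W4stkalgebra1.IsIntegralOverIdeal I (s * s')) := by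
  classical
  have key : ∀ s : S, W4stkalgebra1.IsIntegralOverIdeal I s ↔
      (Groth.Agent.S6324.F (S := S) I).IsIntegralElem (Polynomial.C s * Polynomial.X) :=
    fun s => Groth.Agent.S6324.result I s
  have hcomp : (Groth.Agent.S6324.F (S := S) I).comp (algebraMap R (reesAlgebra I)) =
      (Polynomial.C : S →+* Polynomial S).comp (algebraMap R S) := by
    ext r
    · simp [Groth.Agent.S6324.F]
  have hC : ∀ r : R, (Groth.Agent.S6324.F (S := S) I).IsIntegralElem
      (Polynomial.C (algebraMap R S r)) := by
    intro r
    have : Polynomial.C (algebraMap R S r) =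
        (Groth.Agent.S6324.F (S := S) I) (algebraMap R (reesAlgebra I) r) := by
      exact (RingHom.congr_fun hcomp r).symm
    rw [this]
    exact RingHom.isIntegralElem_map _
  refine ⟨⟨{ carrier := {s | W4stkalgebra1.IsIntegralOverIdeal I s}
             add_mem' := ?_
             zero_mem' := ?_
             smul_mem' := ?_ }, fun s => Iff.rfl⟩, ?_⟩
  · intro a b ha hb
    have ha' := (key a).1 ha
    have hb' := (key b).1 hb
    apply (key (a + b)).2
    have : (Polynomial.C (a + b) * Polynomial.X : Polynomial S) =
        Polynomial.C a * Polynomial.X + Polynomial.C b * Polynomial.X := by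
      rw [Polynomial.C_add, add_mul]
    rw [this]
    exact RingHom.IsIntegralElem.add _ ha' hb'
  · apply (key 0).2
    rw [Polynomial.C_0, zero_mul]
    exact RingHom.isIntegralElem_zero _
  · intro r a ha
    have ha' := (key a).1 ha
    apply (key (r • a)).2
    have : (Polynomial.C (r • a) * Polynomial.X : Polynomial S) =
        Polynomial.C (algebraMap R S r) * (Polynomial.C a * Polynomial.X) := by
      rw [Algebra.smul_def, Polynomial.C_mul, mul_assoc]
    rw [this]
    exact RingHom.IsIntegralElem.mul _ (hC r) ha'
  · intro s s' hs hs'
    have hs'' := (key s').1 hs'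
    apply (key (s * s')).2
    have hCs : (Groth.Agent.S6324.F (S := S) I).IsIntegralElem (Polynomial.C s) := by
      obtain ⟨p, hp, hps⟩ := hs
      refine ⟨p.map (algebraMap R (reesAlgebra I)), hp.map _, ?_⟩
      rw [Polynomial.eval₂_map, hcomp, ← Polynomial.hom_eval₂, hps, map_zero]
    have : (Polynomial.C (s * s') * Polynomial.X : Polynomial S) =
        Polynomial.C s * (Polynomial.C s' * Polynomial.X) := by
      rw [Polynomial.C_mul, mul_assoc]
    rw [this]
    exact RingHom.IsIntegralElem.mul _ hCs hs''

end Groth.Agent.S6325
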