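import Groth.Statements.S6326
import Mathlib
-- import your own Groth.Agent.* helpers here

set_option autoImplicit false
universe u
open CategoryTheory CategoryTheory.Limits
open CAlg

namespace Groth.Agent.S6326

/-- Let R be a ring and N an R-module such that whenever M is the colimit of a filtered diagram (Mᵢ) of
R-modules (indexed by a filtered category in the same universe), the comparison map colim Hom_R(N,
Mᵢ) → Hom_R(N, M) is injective. Then N is finitely generated. (The implication from finite
generation back to this injectivity also holds; only the characterizing direction is stated here.) -/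
theorem result (R : Type u) [CommRing R] (N : Type u) [AddCommGroup N] [Module R N] (h : ∀ (J : Type u) [SmallCategory J] [IsFiltered J] (F : J ⥤ ModuleCat.{u} R), Function.Injective (colimit.post F (coyoneda.obj (Opposite.op (ModuleCat.of R N))))) : Module.Finite R N := by
  classical
  let J := {K : Submodule R N // K.FG}
  haveI : Nonempty J := ⟨⟨⊥, Submodule.fg_bot⟩⟩
  haveI : IsDirected J (· ≤ ·) :=
    ⟨fun a b => ⟨⟨a.1 ⊔ b.1, a.2.sup b.2⟩, le_sup_left, le_sup_right⟩⟩
  let F : J ⥤ ModuleCat.{u} R :=
    { obj := fun K => ModuleCat.of R (N ⧸ K.1)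
      map := fun {K K'} f => ModuleCat.ofHom (Submodule.factor (leOfHom f))
      map_id := fun K => by
        apply ModuleCat.hom_ext
        apply LinearMap.ext
        intro x
        obtain ⟨y, rfl⟩ := Submodule.Quotient.mk_surjective _ x
        rfl
      map_comp := fun f g => by
        apply ModuleCat.hom_ext
        apply LinearMap.ext
        intro x
        obtain ⟨y, rfl⟩ := Submodule.Quotient.mk_surjective _ x
        rfl }
  let N' : ModuleCat.{u} R := ModuleCat.of R N
  let G' := F ⋙ coyoneda.obj (Opposite.op N')
  let b : J := ⟨⊥, Submodule.fg_bot⟩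
  let q : ∀ K : J, N' ⟶ F.obj K := fun K => ModuleCat.ofHom K.1.mkQ
  have hinj := h J F
  have hq0 : q b ≫ colimit.ι F b = 0 := by
    apply ModuleCat.hom_ext
    apply LinearMap.ext
    intro x
    let Kx : J := ⟨Submodule.span R {x}, Submodule.fg_span_singleton x⟩
    have hle : b ≤ Kx := (bot_le : (⊥ : Submodule R N) ≤ Submodule.span R {x})
    have hw : F.map (homOfLE hle) ≫ colimit.ι F Kx = colimit.ι F b :=
      colimit.w F (homOfLE hle)
    rw [← hw]
    show (colimit.ι F Kx).hom ((F.map (homOfLE hle)).hom ((q b).hom x)) = 0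
    have h0 : (F.map (homOfLE hle)).hom ((q b).hom x) = 0 := by
      show Submodule.factor (show (b.1 : Submodule R N) ≤ Kx.1 from hle)
        (Submodule.mkQ b.1 x) = 0
      rw [Submodule.factor_mk]
      exact (Submodule.Quotient.mk_eq_zero _).2 (Submodule.mem_span_singleton_self x)
    rw [h0, map_zero]
  have e1 : ∀ x : N' ⟶ F.obj b,
      colimit.post F (coyoneda.obj (Opposite.op N')) (colimit.ι G' b x) = x ≫ colimit.ι F b := by
    intro x
    have h3 := ConcreteCategory.congr_hom
      (colimit.ι_post F (coyoneda.obj (Opposite.op N')) b) x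
    rw [types_comp_apply] at h3
    exact h3
  have heq : colimit.post F (coyoneda.obj (Opposite.op N')) (colimit.ι G' b (q b)) =
      colimit.post F (coyoneda.obj (Opposite.op N')) (colimit.ι G' b (0 : N' ⟶ F.obj b)) := by
    rw [e1, e1, hq0, zero_comp]
  have heq' := hinj heq
  obtain ⟨K, f, hK⟩ := (Types.FilteredColimit.isColimit_eq_iff' (colimit.isColimit G') (q b)
    (0 : N' ⟶ F.obj b)).1 heq'
  have hK' : q b ≫ F.map f = 0 := by
    have : q b ≫ F.map f = (0 : N' ⟶ F.obj b) ≫ F.map f := hK
    rw [this, zero_comp]
  have htop : K.1 = ⊤ := by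
    rw [eq_top_iff]
    intro x _
    have h1 := congrArg (fun g : N' ⟶ F.obj K => g.hom x) hK'
    have h2 : Submodule.mkQ K.1 x = 0 := h1
    exact (Submodule.Quotient.mk_eq_zero _).1 h2
  exact Module.finite_def.2 (htop ▸ K.2)

end Groth.Agent.S6326
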