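import Groth.Statements.S6327
import Mathlib
import Groth.Agent.S6326

set_option autoImplicit false
universe u
open CategoryTheory CategoryTheory.Limits
open CAlg

namespace Groth.Agent.S6327

/-- Let R be a ring and N an R-module such that whenever M is the colimit of a filtered diagram (Mᵢ) of
R-modules (indexed by a filtered category in the same universe), the comparison map colim Hom_R(N,
Mᵢ) → Hom_R(N, M) is bijective. Then N is finitely presented. (The implication from finite
presentation back to this bijectivity also holds; only the characterizing direction is stated here.) -/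
theorem result (R : Type u) [CommRing R] (N : Type u) [AddCommGroup N] [Module R N] (h : ∀ (J : Type u) [SmallCategory J] [IsFiltered J] (F : J ⥤ ModuleCat.{u} R), Function.Bijective (colimit.post F (coyoneda.obj (Opposite.op (ModuleCat.of R N))))) : Module.FinitePresentation R N := by
  classical
  haveI hfin : Module.Finite R N := Groth.Agent.S6326.result R N (fun J _ _ F => (h J F).1)
  obtain ⟨n, p, hp⟩ := Module.Finite.exists_fin' R N
  let J := {K' : Submodule R (Fin n → R) // K'.FG ∧ K' ≤ LinearMap.ker p}
  haveI : Nonempty J := ⟨⟨⊥, Submodule.fg_bot, bot_le⟩⟩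
  haveI : IsDirected J (· ≤ ·) :=
    ⟨fun a b => ⟨⟨a.1 ⊔ b.1, a.2.1.sup b.2.1, sup_le a.2.2 b.2.2⟩,
      (le_sup_left : a.1 ≤ a.1 ⊔ b.1), (le_sup_right : b.1 ≤ a.1 ⊔ b.1)⟩⟩
  let F : J ⥤ ModuleCat.{u} R :=
    { obj := fun K' => ModuleCat.of R ((Fin n → R) ⧸ K'.1)
      map := fun {K K'} f => ModuleCat.ofHom (Submodule.factor (leOfHom f))
      map_id := fun K => by
        apply ModuleCat.hom_ext
        apply LinearMap.ext
        intro x
        obtain ⟨y, rfl⟩ := Submodule.Quotient.mk_surjective _ x
        rfl
      map_comp := fun f g => by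
        apply ModuleCat.hom_ext
        apply LinearMap.ext
        intro x
        obtain ⟨y, rfl⟩ := Submodule.Quotient.mk_surjective _ x
        rfl }
  let N' : ModuleCat.{u} R := ModuleCat.of R N
  let G' := F ⋙ coyoneda.obj (Opposite.op N')
  let b : J := ⟨⊥, Submodule.fg_bot, bot_le⟩
  let r : ∀ K' : J, F.obj K' ⟶ N' := fun K' => ModuleCat.ofHom (K'.1.liftQ p K'.2.2)
  let cc : Cocone F :=
    { pt := N'
      ι := { app := r
             naturality := fun K' K'' f => by
               apply ModuleCat.hom_ext
               apply LinearMap.ext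
               intro x
               obtain ⟨y, rfl⟩ := Submodule.Quotient.mk_surjective _ x
               rfl } }
  let c : colimit F ⟶ N' := colimit.desc F cc
  -- the map from `N` to the colimit
  let g₀ : (Fin n → R) →ₗ[R] ↑(colimit F) := (colimit.ι F b).hom ∘ₗ (Submodule.mkQ b.1)
  have hg₀ : LinearMap.ker p ≤ LinearMap.ker g₀ := by
    intro k hk
    let Kk : J := ⟨Submodule.span R {k}, Submodule.fg_span_singleton k,
      (Submodule.span_singleton_le_iff_mem k _).2 hk⟩
    have hle : b ≤ Kk := (bot_le : (⊥ : Submodule R (Fin n → R)) ≤ Submodule.span R {k})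
    have hw : F.map (homOfLE hle) ≫ colimit.ι F Kk = colimit.ι F b :=
      colimit.w F (homOfLE hle)
    rw [LinearMap.mem_ker]
    show (colimit.ι F b).hom (Submodule.mkQ b.1 k) = 0
    rw [← hw]
    show (colimit.ι F Kk).hom ((F.map (homOfLE hle)).hom (Submodule.mkQ b.1 k)) = 0
    have h0 : (F.map (homOfLE hle)).hom (Submodule.mkQ b.1 k) = 0 := by
      show Submodule.factor (show (b.1 : Submodule R (Fin n → R)) ≤ Kk.1 from hle)
        (Submodule.mkQ b.1 k) = 0
      rw [Submodule.factor_mk]
      exact (Submodule.Quotient.mk_eq_zero _).2 (Submodule.mem_span_singleton_self k)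
    rw [h0, map_zero]
  let s : N' ⟶ colimit F := ModuleCat.ofHom (((LinearMap.ker p).liftQ g₀ hg₀) ∘ₗ
    (LinearMap.quotKerEquivOfSurjective p hp).symm.toLinearMap)
  have hs : ∀ a : Fin n → R, s.hom (p a) = (colimit.ι F b).hom (Submodule.mkQ b.1 a) := by
    intro a
    show ((LinearMap.ker p).liftQ g₀ hg₀)
      ((LinearMap.quotKerEquivOfSurjective p hp).symm (p a)) = _
    rw [LinearMap.quotKerEquivOfSurjective_symm_apply]
    rfl
  have hsc : s ≫ c = 𝟙 N' := by
    apply ModuleCat.hom_ext
    apply LinearMap.ext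
    intro y
    obtain ⟨a, rfl⟩ := hp y
    show c.hom (s.hom (p a)) = p a
    rw [hs]
    have h1 : colimit.ι F b ≫ c = r b := colimit.ι_desc cc b
    have h2 := congrArg (fun g : F.obj b ⟶ N' => g.hom (Submodule.mkQ b.1 a)) h1
    exact h2
  -- use surjectivity
  obtain ⟨z, hz⟩ := (h J F).2 s
  obtain ⟨K', t, rfl⟩ := Types.jointly_surjective' z
  have e1 : colimit.post F (coyoneda.obj (Opposite.op N')) (colimit.ι G' K' t) =
      t ≫ colimit.ι F K' := by
    have h3 := ConcreteCategory.congr_hom
      (colimit.ι_post F (coyoneda.obj (Opposite.op N')) K') t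
    rw [types_comp_apply] at h3
    exact h3
  have hst : t ≫ colimit.ι F K' = s := e1.symm.trans hz
  have hid : t ≫ r K' = 𝟙 N' := by
    have h1 : colimit.ι F K' ≫ c = r K' := colimit.ι_desc cc K'
    rw [← h1, ← Category.assoc, hst, hsc]
  -- linear algebra
  have hrt : ∀ y : N, (K'.1.liftQ p K'.2.2) (t.hom y) = y := by
    intro y
    exact congrArg (fun g : N' ⟶ N' => g.hom y) hid
  haveI : Module.FinitePresentation R ((Fin n → R) ⧸ K'.1) :=
    Module.finitePresentation_of_surjective (Submodule.mkQ K'.1) (Submodule.mkQ_surjective _)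
      (by rw [Submodule.ker_mkQ]; exact K'.2.1)
  refine Module.finitePresentation_of_surjective (K'.1.liftQ p K'.2.2)
    (fun y => ⟨t.hom y, hrt y⟩) ?_
  have hker : LinearMap.ker (K'.1.liftQ p K'.2.2) =
      LinearMap.range (LinearMap.id - t.hom ∘ₗ (K'.1.liftQ p K'.2.2)) := by
    ext x
    constructor
    · intro hx
      refine ⟨x, ?_⟩
      rw [LinearMap.mem_ker] at hx
      rw [LinearMap.sub_apply, LinearMap.comp_apply, hx, map_zero, LinearMap.id_apply, sub_zero]
    · rintro ⟨w, rfl⟩
      rw [LinearMap.mem_ker, LinearMap.sub_apply, LinearMap.comp_apply, LinearMap.id_apply,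
        map_sub, hrt, sub_self]
  rw [hker, LinearMap.range_eq_map]
  exact Submodule.FG.map _ Module.Finite.fg_top

end Groth.Agent.S6327
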